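import Cfsg.Statements.S0042
import Cfsg.Agent.ThompsonFpf.Nilpotency
import Cfsg.Agent.FrobComp.Complement

set_option autoImplicit false
open Cfsg

namespace Cfsg.Agent.S0042

/-- In a finite Frobenius group, the Frobenius kernel is (the carrier of) a normal subgroup which is nilpotent. -/
theorem result {G : Type*} [Group G] [Finite G] (H : Subgroup G) (hH : Cfsg.IsFrobeniusComplement H) :
    ∃ N : Subgroup G, (N : Set G) = Cfsg.frobeniusKernel H ∧ N.Normal ∧ Group.IsNilpotent N := by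
  obtain ⟨N, hN, hc, hset⟩ := CfsgLib.FrobComp.exists_kernel hH
  refine ⟨N, hset, hN, ?_⟩
  have hH1 : Nat.card H ≠ 1 := fun h => hH.1 (Subgroup.eq_bot_of_card_eq H h)
  obtain ⟨p, hp, hpd⟩ := Nat.exists_prime_and_dvd hH1
  haveI : Fact p.Prime := ⟨hp⟩
  obtain ⟨⟨h, hh⟩, hord⟩ := exists_prime_orderOf_dvd_card' p hpd
  rw [Subgroup.orderOf_mk] at hord
  refine CfsgLib.ThompsonFpf.isNilpotent_of_conj (p := p) N h
    (by rw [Subgroup.normalizer_eq_top]; exact Subgroup.mem_top h)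
    (by rw [← hord]; exact pow_orderOf_eq_one h) ?_
  rw [eq_bot_iff]
  intro x hx
  obtain ⟨hxN, hxc⟩ := Subgroup.mem_inf.1 hx
  have hxk : x ∈ Cfsg.frobeniusKernel H := by rw [← hset]; exact hxN
  have h1 : h ≠ 1 := fun e => hp.ne_one (by rw [← hord, e, orderOf_one])
  have hxH := CfsgLib.FrobComp.centralizer_le hH hh h1 hxc
  exact Subgroup.mem_bot.2 (CfsgLib.FrobComp.eq_one_of_mem_kernel_of_mem hxk hxH)

end Cfsg.Agent.S0042
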