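import Cfsg.Agent.OddOrder.BG4.RankTwoSolvable
import Cfsg.Statements.S1450
-- import your own Cfsg.Agent.* helpers here

set_option autoImplicit false
open Cfsg

namespace Cfsg.Agent.S1450

/-- Let G be a solvable group of odd order, p a prime dividing its order with G having no elementary abelian subgroup of order p ^ 3. Then every prime dividing the index of O_{p'}(G) is at most p; if p = 3 or p is the smallest prime divisor of #G then G has a normal p-complement; the derived subgroup G' has a normal p-complement; every subgroup of G' of order coprime to p lies in O_{p'}(G'); and G/O_{p',p}(G) is abelian of order coprime to p. -/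
theorem result {G : Type*} [Group G] [Finite G] [Group.IsSolvable G] (hodd : Odd (Nat.card G)) (p : ℕ) [Fact p.Prime] (hpG : p ∣ Nat.card G) (hr : Cfsg.PRankLE p 2 G) :
    (∀ q : ℕ, q.Prime → q ∣ (Cfsg.pPrimeCore p G).index → q ≤ p) ∧
      ((p = 3 ∨ ∀ q : ℕ, q.Prime → q ∣ Nat.card G → p ≤ q) → Cfsg.HasNormalPComplement p G) ∧
      Cfsg.HasNormalPComplement p ↥(commutator G) ∧
      (∀ L : Subgroup ↥(commutator G), (Nat.card L).Coprime p → L ≤ Cfsg.pPrimeCore p ↥(commutator G)) ∧
      commutator G ≤ Cfsg.pPrimePCore p G ∧ ((Cfsg.pPrimePCore p G).index).Coprime p := by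
  have hp2 : p ≠ 2 := CfsgLib.OddOrder.BG4.prime_ne_two hodd hpG
  have hO := CfsgLib.PLocal.coprime_card_pPrimeCore p G
  have hOd : ¬ p ∣ Nat.card (Cfsg.pPrimeCore p G) := CfsgLib.PLocal.not_dvd_iff_coprime.mp hO
  have hdodd : Odd (Nat.card (G ⧸ Cfsg.pPrimeCore p G)) :=
    hodd.of_dvd_nat (Subgroup.card_quotient_dvd_card _)
  obtain ⟨hcomm, hidx, hprimes⟩ := CfsgLib.OddOrder.BG4.rank_two_core (p := p) hdodd hp2
    (CfsgLib.OddOrder.BG4.pRankLE_quotient_coprime _ hOd hr)
    (CfsgLib.PLocal.pPrimeCore_quotient_pPrimeCore_eq_bot p G)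
  have hle : ∀ q : ℕ, q.Prime → q ∣ (Cfsg.pPrimeCore p G).index → q ≤ p := by
    intro q hq hd
    rw [Subgroup.index_eq_card] at hd
    by_cases hqp : q = p
    · exact hqp.le
    · exact (hprimes q hq hd hqp).le
  set π := QuotientGroup.mk' (Cfsg.pPrimeCore p G)
  have hmapc : (commutator G).map π ≤ commutator (G ⧸ Cfsg.pPrimeCore p G) := by
    rw [commutator_def, Subgroup.map_commutator]
    exact Subgroup.commutator_mono le_top le_top
  have hGcomp : ∀ x : G, x ∈ commutator G → ∃ k : ℕ, x ^ p ^ k ∈ Cfsg.pPrimeCore p G := by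
    intro x hx
    obtain ⟨k, hk⟩ := CfsgLib.PLocal.isPGroup_pCore p _
      ⟨π x, hcomm (hmapc (Subgroup.mem_map_of_mem π hx))⟩
    refine ⟨k, (QuotientGroup.eq_one_iff _).mp ?_⟩
    have h : π x ^ p ^ k = 1 := by simpa using congrArg Subtype.val hk
    rw [← map_pow] at h
    exact h
  set N := (Cfsg.pPrimeCore p G).subgroupOf (commutator G) with hN
  have hNd : ¬ p ∣ Nat.card N := fun h => hOd (h.trans (Subgroup.card_comap_dvd_of_injective _ _
    (commutator G).subtype_injective))
  have hNq : IsPGroup p (↥(commutator G) ⧸ N) := by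
    intro y
    obtain ⟨x, rfl⟩ := QuotientGroup.mk_surjective y
    obtain ⟨k, hk⟩ := hGcomp x x.2
    refine ⟨k, ?_⟩
    rw [← QuotientGroup.mk_pow, QuotientGroup.eq_one_iff]
    exact hk
  refine ⟨hle, ?_, CfsgLib.Transfer.hasNormalPComplement_of_normal N hNd hNq, ?_, ?_, ?_⟩
  · intro hcase
    refine CfsgLib.Transfer.hasNormalPComplement_of_normal _ hOd ?_
    have hall : ∀ q : ℕ, q.Prime → q ∣ Nat.card (G ⧸ Cfsg.pPrimeCore p G) → q = p := by
      intro q hq hd
      by_contra hne
      have h1 := hprimes q hq hd hne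
      have hdG : q ∣ Nat.card G := hd.trans (Subgroup.card_quotient_dvd_card _)
      rcases hcase with h3 | hmin
      · have := CfsgLib.OddOrder.BG4.prime_ne_two hodd hdG
        have := hq.two_le
        omega
      · have := hmin q hq hdG
        omega
    refine IsPGroup.of_card (n := (Nat.card (G ⧸ Cfsg.pPrimeCore p G)).factorization p) ?_
    refine Nat.eq_of_factorization_eq Nat.card_pos.ne'
      (pow_ne_zero _ (Fact.out : p.Prime).ne_zero) fun q => ?_
    rw [(Fact.out : p.Prime).factorization_pow]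
    by_cases hqp : q = p
    · rw [hqp, Finsupp.single_eq_same]
    · rw [Finsupp.single_eq_of_ne hqp]
      by_contra hne
      exact hqp (hall q (Nat.prime_of_mem_primeFactors (Nat.support_factorization _ ▸
        Finsupp.mem_support_iff.mpr hne)) (Nat.dvd_of_factorization_pos hne))
  · intro L hL x hx
    refine (show N ≤ Cfsg.pPrimeCore p _ from CfsgLib.PLocal.le_pPrimeCore (
      CfsgLib.PLocal.not_dvd_iff_coprime.mpr hNd)) ?_
    obtain ⟨k, hk⟩ := hGcomp x x.2
    have hco : (orderOf (x : G)).Coprime (p ^ k) := by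
      rw [Subgroup.orderOf_coe]
      exact ((hL.coprime_dvd_left (Subgroup.orderOf_dvd_natCard L hx)).pow_right k)
    obtain ⟨m, hm⟩ := exists_pow_eq_self_of_coprime hco.symm
    show (x : G) ∈ Cfsg.pPrimeCore p G
    exact hm ▸ pow_mem hk m
  · intro x hx
    exact hcomm (hmapc (Subgroup.mem_map_of_mem π hx))
  · rw [Cfsg.pPrimePCore, Subgroup.index_comap_of_surjective _ (QuotientGroup.mk'_surjective _)]
    exact CfsgLib.PLocal.not_dvd_iff_coprime.mpr hidx

end Cfsg.Agent.S1450
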