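import Cfsg.Statements.S1417
import Cfsg.Agent.OddOrder.BG11.Facts
import Cfsg.Agent.OddOrder.BG12.Tau2

set_option autoImplicit false
open Cfsg

namespace Cfsg.Agent.S1417

open CfsgLib.OddOrder.BG11 CfsgLib.OddOrder.BG12

/-- Let G be a minimal simple group of odd order, M a maximal subgroup, p ∈ τ₂(M) and A ≤ M elementary abelian of order p ^ 2. Then (a) M_σ is nilpotent; (b) every Sylow p-subgroup P of M is abelian, and if A ≤ P then the elements of P of order dividing p are exactly those of A and N_G(P) is not contained in M; (c) M normalizes M_σA; (d) M_σ ∩ C_G(A) = 1; (e) M_σ ∩ M* = 1 for every maximal subgroup M* ≠ M containing A; (f) M_σ ∩ C_G(A₁) = 1 for some subgroup A₁ ≤ A of order p. -/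
theorem result {G : Type*} [Group G] [Finite G] (hG : Cfsg.IsMinSimpleOddOrder G)
    (M : Subgroup G) (hM : IsCoatom M) (p : ℕ) [Fact p.Prime] (hp : p ∈ Cfsg.tau2 M) (A : Subgroup G) (hA : (A ≤ M ∧ Cfsg.IsElementaryAbelian p A ∧ Nat.card A = p ^ 2)) :
    Group.IsNilpotent (Cfsg.sigmaCore M) ∧
      (∀ P : Sylow p M, IsMulCommutative (P : Subgroup M) ∧
        (A ≤ (P : Subgroup M).map M.subtype →
          (∀ x ∈ (P : Subgroup M).map M.subtype, x ^ p = 1 ↔ x ∈ A) ∧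
          ¬ Subgroup.normalizer ((((P : Subgroup M).map M.subtype : Subgroup G)) : Set G) ≤ M)) ∧
      M ≤ Subgroup.normalizer ((Cfsg.sigmaCore M ⊔ A : Subgroup G) : Set G) ∧
      Cfsg.sigmaCore M ⊓ Subgroup.centralizer (A : Set G) = ⊥ ∧
      (∀ Mstar : Subgroup G, IsCoatom Mstar → Mstar ≠ M → A ≤ Mstar → Cfsg.sigmaCore M ⊓ Mstar = ⊥) ∧
      ∃ A₁ : Subgroup G, A₁ ≤ A ∧ Nat.card A₁ = p ∧ Cfsg.sigmaCore M ⊓ Subgroup.centralizer (A₁ : Set G) = ⊥ := by
  obtain ⟨hAM, hAe, hAc⟩ := hA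
  have F := bg10Facts hG
  obtain ⟨A₀, h⟩ := exists_exceptional_of_tau2 hG F hM hp hAM hAe hAc
  obtain ⟨hd, X₁, -, hX₁, -, hc₁, -, -, hf₁, -⟩ := h.exists_two_fpf hG F
  refine ⟨h.isNilpotent_sigmaCore hG F, fun P => ?_, le_normalizer_sup_plane hG F h, hd,
    fun L hL hne hAL => sigmaCore_inf_eq_bot hG F h hL hne hAL, X₁, hX₁, hc₁, hf₁⟩
  have hP := CfsgLib.OddOrder.BG11.isSylowIn_map_subtype P
  refine ⟨?_, fun hAP => ⟨fun x hx => h.pow_eq_one_iff hG F hP hAP hx, ?_⟩⟩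
  · haveI := (sylow_of_tau2 hG F hM hp hP).1
    exact ⟨⟨fun a b => Subtype.ext (Subtype.ext (setLike_mul_comm
      (s := (P : Subgroup M).map M.subtype) (Subgroup.mem_map_of_mem M.subtype a.2)
      (Subgroup.mem_map_of_mem M.subtype b.2)))⟩⟩
  · obtain ⟨g, hg, hgM⟩ := not_normalizer_le (h.dvd_card hG F) h.not_sigma hP
    exact fun hle => hgM (hle hg)

end Cfsg.Agent.S1417
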