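import Cfsg.Agent.OddOrder.BG5.Aut
import Cfsg.Agent.OddOrder.BG4.MetacyclicAction
import Cfsg.Statements.S1454
import Mathlib.Tactic
-- import your own Cfsg.Agent.* helpers here

set_option autoImplicit false
open Cfsg
open scoped commutatorElement

namespace Cfsg.Agent.S1454

/-- Let G be a finite group, p an odd prime, R a narrow p-subgroup and A a solvable subgroup of odd order normalizing R with A ∩ C_G(R) = 1. Then [A, A] ≤ O_p(A) and the index of O_p(A) in A is coprime to p; if R has an elementary abelian subgroup of order p ^ 3 then the order of every element of A of order coprime to p divides p − 1; and if the order of A is a prime not dividing p(p − 1), then 2·#A divides p + 1, and if in addition [R, A] = R and R is non-abelian then #R = p ^ 3. -/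
theorem result {G : Type*} [Group G] [Finite G] (p : ℕ) [Fact p.Prime] (hp : p ≠ 2) (R A : Subgroup G) (hR : IsPGroup p R) (hRn : Cfsg.IsNarrow p R)
    (hA : (A ≤ Subgroup.normalizer (R : Set G))) (hAs : Group.IsSolvable A) (hAodd : Odd (Nat.card A)) (hfaith : A ⊓ Subgroup.centralizer (R : Set G) = ⊥) :
    (commutator ↥A ≤ Cfsg.pCore p ↥A ∧ ((Cfsg.pCore p ↥A).index).Coprime p) ∧
      (¬ Cfsg.PRankLE p 2 R → ∀ a ∈ A, (orderOf a).Coprime p → orderOf a ∣ p - 1) ∧
      ((Nat.card A).Prime → ¬ Nat.card A ∣ p * (p - 1) →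
        2 * Nat.card A ∣ p + 1 ∧ (⁅R, A⁆ = R → ¬ IsMulCommutative R → Nat.card R = p ^ 3)) := by
  haveI := hAs
  let φ : A →* MulAut R := (Subgroup.normalizerMonoidHom R).comp (Subgroup.inclusion hA)
  have hφ : Function.Injective φ := by
    rw [← MonoidHom.ker_eq_bot_iff, eq_bot_iff]
    intro a ha
    have h : Subgroup.inclusion hA a ∈ (Subgroup.normalizerMonoidHom R).ker := ha
    rw [Subgroup.normalizerMonoidHom_ker, Subgroup.mem_subgroupOf] at h
    have h2 : (a : G) ∈ A ⊓ Subgroup.centralizer (R : Set G) := ⟨a.2, h⟩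
    rw [hfaith, Subgroup.mem_bot] at h2
    exact Subgroup.mem_bot.mpr (Subtype.ext h2)
  have hord : ∀ a : A, orderOf (φ a) = orderOf a := orderOf_injective φ hφ
  have hp' : p.Prime := Fact.out
  have hb : ¬ Cfsg.PRankLE p 2 R → ∀ a : A, (orderOf a).Coprime p → orderOf a ∣ p - 1 :=
    fun hr a hco => hord a ▸ CfsgLib.OddOrder.BG5.orderOf_dvd_sub_one hp hR hRn hr (hord a ▸ hco)
  refine ⟨CfsgLib.OddOrder.BG5.structure_of_faithful hp hR hRn hAodd φ
    (by rw [(MonoidHom.ker_eq_bot_iff φ).mpr hφ]; exact IsPGroup.of_bot), fun hr a ha hco => ?_,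
    fun hq hnd => ?_⟩
  · rw [← Subgroup.orderOf_mk a ha] at hco ⊢
    exact hb hr _ hco
  haveI : Fact (Nat.card A).Prime := ⟨hq⟩
  have hcq : (Nat.card A).Coprime (p * (p - 1)) := hq.coprime_iff_not_dvd.mpr hnd
  obtain ⟨a, haq⟩ := exists_prime_orderOf_dvd_card' (G := A) (Nat.card A) dvd_rfl
  have hco : (orderOf a).Coprime p := haq ▸ hcq.coprime_mul_right_right
  have hr : Cfsg.PRankLE p 2 R := by
    by_contra hr
    exact hq.ne_one ((haq ▸ hcq.coprime_mul_left_right).eq_one_of_dvd (hb hr a hco) |> (haq ▸ ·))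
  have hqp : Nat.card A ≠ p := fun h => hnd (h.dvd.trans (dvd_mul_right p _))
  obtain ⟨hd, hlt⟩ := CfsgLib.OddOrder.BG4.prime_dvd_card_aut hp hR hr hq hqp
    (((hord a).trans haq) ▸ orderOf_dvd_natCard (φ a))
  have hp3 : 3 < p := by
    have h2 := hq.two_le
    obtain ⟨c, hc⟩ := hAodd
    omega
  refine ⟨?_, fun hRA hnc => ?_⟩
  · have h1 : Nat.card A ∣ p + 1 := by
      rw [show p ^ 2 - 1 = (p + 1) * (p - 1) by rw [← Nat.sq_sub_sq, one_pow]] at hd
      exact (hq.dvd_mul.mp hd).resolve_right fun h => hnd (h.mul_left _)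
    refine Nat.Coprime.mul_dvd_of_dvd_of_dvd (Nat.coprime_two_left.mpr hAodd) ?_ h1
    rcases hp'.eq_two_or_odd with h | h <;> omega
  have hnm : ¬ Cfsg.IsMetacyclic R := fun hm => hnc (hRA ▸
    (CfsgLib.OddOrder.BG4.metacyclic_action_facts hp R A hR hm hA hcq.coprime_mul_right_right).1)
  refine CfsgLib.OddOrder.BG5.card_eq_cube hp3 hR hr hnm hq ((hord a).trans haq) hcq fun M hM => ?_
  have hgenA : ∀ b : A, ∃ k : ℕ, a ^ k = b := fun b => by
    have hne : a ≠ 1 := fun h => hq.ne_one (by rw [← haq, h, orderOf_one])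
    exact mem_powers_iff_mem_zpowers.mpr (zpowers_eq_top_of_prime_card rfl hne ▸ Subgroup.mem_top b)
  have hall : ∀ (k : ℕ) (x : R), φ (a ^ k) x * x⁻¹ ∈ M := by
    intro k
    induction k with
    | zero => intro x; simp
    | succ k ih =>
      intro x
      rw [pow_succ', map_mul, MulAut.mul_apply]
      have h := mul_mem (hM (φ (a ^ k) x)) (ih x)
      rwa [mul_assoc, inv_mul_cancel_left] at h
  have hle : R ≤ M.map R.subtype := by
    conv_lhs => rw [← hRA]
    rw [Subgroup.commutator_le]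
    intro r hr' b hb'
    obtain ⟨k, hk⟩ := hgenA ⟨b, hb'⟩
    refine ⟨(φ (a ^ k) ⟨r, hr'⟩ * (⟨r, hr'⟩ : R)⁻¹)⁻¹, inv_mem (hall k _), ?_⟩
    rw [hk]
    show ((φ ⟨b, hb'⟩ ⟨r, hr'⟩ : R) * r⁻¹ : G)⁻¹ = ⁅r, b⁆
    rw [show ((φ ⟨b, hb'⟩ ⟨r, hr'⟩ : R) : G) = b * r * b⁻¹ from rfl, commutatorElement_def]
    group
  rw [eq_top_iff]
  rintro ⟨x, hx⟩ -
  obtain ⟨y, hy, hyx⟩ := hle hx
  exact (Subtype.ext hyx : y = ⟨x, hx⟩) ▸ hy

end Cfsg.Agent.S1454
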