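import Cfsg.Statements.S3745
import Cfsg.Agent.Solvable.Hall
import Cfsg.Agent.Coprime.Action
import Cfsg.Agent.HallHigman.MinimalAction

set_option autoImplicit false
open Cfsg

namespace Cfsg.Agent.S3745

open CfsgLib Pointwise
open scoped commutatorElement

section

variable {X : Type*} [Group X] [Finite X] {π : Set ℕ}

theorem relIndex_sup_norm {N H : Subgroup X} (hH : H ≤ Subgroup.normalizer (N : Set X)) :
    N.relIndex (N ⊔ H) = N.relIndex H := by
  haveI : (N.subgroupOf (N ⊔ H)).Normal :=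
    (Subgroup.normal_subgroupOf_iff_le_normalizer le_sup_left).mpr (sup_le Subgroup.le_normalizer hH)
  rw [← Subgroup.relIndex_subgroupOf (le_refl (N ⊔ H)), Subgroup.subgroupOf_sup le_sup_left le_sup_right,
    Subgroup.relIndex_sup_left, Subgroup.relIndex_subgroupOf le_sup_right]

theorem relIndex_sup_eq {N H : Subgroup X} (hH : H ≤ Subgroup.normalizer (N : Set X)) :
    H.relIndex (N ⊔ H) = H.relIndex N := by
  have h1 := Subgroup.relIndex_mul_relIndex (H ⊓ N) H (N ⊔ H) inf_le_left le_sup_right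
  have h2 := Subgroup.relIndex_mul_relIndex (H ⊓ N) N (N ⊔ H) inf_le_right le_sup_left
  rw [Subgroup.inf_relIndex_left] at h1
  rw [Subgroup.inf_relIndex_right, relIndex_sup_norm hH] at h2
  rw [← h2, mul_comm (H.relIndex N)] at h1
  exact Nat.eq_of_mul_eq_mul_left (Nat.pos_of_ne_zero Subgroup.index_ne_zero_of_finite) h1

theorem le_normalizer_sup {P Q R : Subgroup X} (hP : R ≤ Subgroup.normalizer (P : Set X))
    (hQ : R ≤ Subgroup.normalizer (Q : Set X)) :
    R ≤ Subgroup.normalizer ((P ⊔ Q : Subgroup X) : Set X) := by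
  intro x hx
  rw [Subgroup.mem_normalizer_iff_map_conj_eq, Subgroup.map_sup]
  exact congrArg₂ (· ⊔ ·) (Subgroup.mem_normalizer_iff_map_conj_eq.mp (hP hx))
    (Subgroup.mem_normalizer_iff_map_conj_eq.mp (hQ hx))

theorem normalizer_le_of_conj {S : Subgroup X} {x : X}
    (h : MulAut.conj x • S = S) : x ∈ Subgroup.normalizer (S : Set X) :=
  Coprime.mem_normalizer_iff_conj_smul_eq.mpr h

theorem centralizer_le_normalizer_map {A S : Subgroup X} {c : X}
    (hA : A ≤ Subgroup.normalizer (S : Set X)) (hc : c ∈ Subgroup.centralizer (A : Set X)) :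
    A ≤ Subgroup.normalizer ((MulAut.conj c • S : Subgroup X) : Set X) := by
  intro a ha
  refine normalizer_le_of_conj ?_
  rw [Coprime.conj_smul_conj_smul, Subgroup.mem_centralizer_iff.mp hc a ha,
    ← Coprime.conj_smul_conj_smul, Coprime.conj_smul_eq_self (hA ha)]

/-- Hall subgroups of a solvable subgroup, in the ambient group -/
theorem exists_hallOf (π : Set ℕ) (M : Subgroup X) (hM : Group.IsSolvable M) :
    ∃ H : Subgroup X, Cfsg.IsPiHallOf π H M := by
  haveI := hM
  obtain ⟨H, hH⟩ := Solvable.exists_isPiHall π ↥M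
  refine ⟨H.map M.subtype, Subgroup.map_subtype_le _, ?_, ?_⟩
  · rw [Subgroup.card_map_of_injective M.subtype_injective]; exact hH.1
  · rw [Subgroup.relIndex, Subgroup.subgroupOf, Subgroup.comap_map_eq_self_of_injective M.subtype_injective]
    exact hH.2

theorem conj_hallOf {M H K : Subgroup X} (hM : Group.IsSolvable M) (hH : Cfsg.IsPiHallOf π H M)
    (hK : Cfsg.IsPiHallOf π K M) : ∃ g ∈ M, MulAut.conj g • H = K := by
  haveI := hM
  have h : ∀ H : Subgroup X, Cfsg.IsPiHallOf π H M → Cfsg.IsPiHall π (H.subgroupOf M) := fun H hH =>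
    ⟨by rw [Nat.card_congr (Subgroup.subgroupOfEquivOfLe hH.1).toEquiv]; exact hH.2.1, hH.2.2⟩
  obtain ⟨g, hg⟩ := Solvable.exists_conj_eq_isPiHall (h H hH) (h K hK)
  refine ⟨g, g.2, ?_⟩
  have h2 := congrArg (Subgroup.map M.subtype) hg
  rwa [Solvable.map_subtype_conj_smul, Subgroup.map_subgroupOf_eq_of_le hH.1,
    Subgroup.map_subgroupOf_eq_of_le hK.1] at h2

theorem hallOf_conj_smul {M H : Subgroup X} (hH : Cfsg.IsPiHallOf π H M) {g : X}
    (hg : g ∈ Subgroup.normalizer (M : Set X)) : Cfsg.IsPiHallOf π (MulAut.conj g • H) M := by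
  have hle : MulAut.conj g • H ≤ M := by
    rw [← Coprime.conj_smul_eq_self hg]
    exact Subgroup.pointwise_smul_le_pointwise_smul_iff.mpr hH.1
  refine ⟨hle, ?_, ?_⟩
  · rw [Coprime.card_conj_smul]; exact hH.2.1
  · intro p hp hpπ h
    refine hH.2.2 p hp hpπ (h.trans (dvd_of_eq ?_))
    conv_lhs => rw [← Coprime.conj_smul_eq_self hg]
    exact Subgroup.relIndex_map_map_of_injective H M (MulAut.conj g).injective

variable {A : Subgroup X}

theorem exists_invariant_hall {M : Subgroup X} (hAM : A ≤ Subgroup.normalizer (M : Set X))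
    (hcop : (Nat.card A).Coprime (Nat.card M)) (hM : Group.IsSolvable M) :
    ∃ H : Subgroup X, Cfsg.IsPiHallOf π H M ∧ A ≤ Subgroup.normalizer (H : Set X) := by
  obtain ⟨P, hP⟩ := exists_hallOf π M hM
  obtain ⟨g, hg, hgn⟩ := Coprime.exists_invariant_conj hAM hcop (Or.inr hM) P fun a ha => by
    obtain ⟨g, hg, h⟩ := conj_hallOf hM hP (hallOf_conj_smul hP (hAM ha))
    exact ⟨g, hg, h.symm⟩
  exact ⟨_, hallOf_conj_smul hP (Subgroup.le_normalizer hg), hgn⟩

theorem conj_invariant_hall {M H K : Subgroup X} (hAM : A ≤ Subgroup.normalizer (M : Set X))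
    (hcop : (Nat.card A).Coprime (Nat.card M)) (hM : Group.IsSolvable M)
    (hH : Cfsg.IsPiHallOf π H M) (hAH : A ≤ Subgroup.normalizer (H : Set X))
    (hK : Cfsg.IsPiHallOf π K M) (hAK : A ≤ Subgroup.normalizer (K : Set X)) :
    ∃ c ∈ M ⊓ Subgroup.centralizer (A : Set X), MulAut.conj c • H = K := by
  obtain ⟨g, hg, hgHK⟩ := conj_hallOf hM hH hK
  exact Coprime.exists_conj_eq_of_invariant hAM hcop (Or.inr hM) hAH hAK hg hgHK

/-- one step down an invariant abelian series -/
theorem step {G E D : Subgroup X} (hAG : A ≤ Subgroup.normalizer (G : Set X))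
    (hcop : (Nat.card A).Coprime (Nat.card G)) (hsolv : Group.IsSolvable G) (hDG : D ≤ G) (hED : E ≤ D)
    (hNE : G ⊔ A ≤ Subgroup.normalizer (E : Set X)) (hND : G ⊔ A ≤ Subgroup.normalizer (D : Set X))
    (hab : ⁅D, D⁆ ≤ E)
    (IH : ∀ U : Subgroup X, U ≤ G → A ≤ Subgroup.normalizer (U : Set X) → Cfsg.IsPiSubgroup π U →
      ∃ H, Cfsg.IsPiHallOf π H (U ⊔ E) ∧ A ≤ Subgroup.normalizer (H : Set X) ∧ U ≤ H)
    (U : Subgroup X) (hUG : U ≤ G) (hAU : A ≤ Subgroup.normalizer (U : Set X))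
    (hU : Cfsg.IsPiSubgroup π U) :
    ∃ H, Cfsg.IsPiHallOf π H (U ⊔ D) ∧ A ≤ Subgroup.normalizer (H : Set X) ∧ U ≤ H := by
  haveI := hsolv
  have hEG : E ≤ G := hED.trans hDG
  obtain ⟨U1, hU1, hAU1, hUU1⟩ := IH U hUG hAU hU
  have hU1G : U1 ≤ G := hU1.1.trans (sup_le hUG hEG)
  -- a Hall subgroup of `U ⊔ D` and its trace on `D`
  have hRG : U ⊔ D ≤ G := sup_le hUG hDG
  have hAR : A ≤ Subgroup.normalizer ((U ⊔ D : Subgroup X) : Set X) :=
    le_normalizer_sup hAU (le_sup_right.trans hND)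
  obtain ⟨K0, hK0, hAK0⟩ := exists_invariant_hall (π := π) hAR
    (hcop.coprime_dvd_right (Subgroup.card_dvd_of_le hRG)) (Coprime.isSolvable_of_le hRG)
  have hK0G : K0 ≤ G := hK0.1.trans hRG
  -- `M / E` is the `π`-part of `D / E`
  set M := E ⊔ K0 ⊓ D with hMdef
  have hMD : M ≤ D := sup_le hED inf_le_right
  have hDM : ∀ p : ℕ, p.Prime → p ∈ π → ¬ p ∣ M.relIndex D := by
    intro p hp hpπ h
    refine hK0.2.2 p hp hpπ ((h.trans (Subgroup.relIndex_dvd_of_le_left D le_sup_right)).trans ?_)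
    rw [Subgroup.inf_relIndex_right, ← relIndex_sup_eq ((hK0G.trans le_sup_left).trans hND)]
    exact Dvd.intro _ (Subgroup.relIndex_mul_relIndex K0 (D ⊔ K0) (U ⊔ D) le_sup_right
      (sup_le le_sup_right hK0.1))
  have hMn : (M.subgroupOf D).Normal := by
    refine ⟨fun a ha b => ?_⟩
    rw [Subgroup.mem_subgroupOf] at ha ⊢
    have h : ⁅(b : X), (a : X)⁆ ∈ M :=
      Subgroup.mem_sup_left (hab (Subgroup.commutator_mem_commutator b.2 a.2))
    have h2 := M.mul_mem h ha
    simpa [commutatorElement_def] using h2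
  -- `M` is generated by `E` and the `π`-elements of `D`
  have hMeq : ∀ x ∈ Subgroup.normalizer (E : Set X) ⊓ Subgroup.normalizer (D : Set X),
      ∀ m ∈ M, x * m * x⁻¹ ∈ M := by
    have hpi : ∀ d ∈ D, (∀ p : ℕ, p.Prime → p ∣ orderOf d → p ∈ π) → d ∈ M := by
      intro d hd hdπ
      haveI := hMn
      have h1 : orderOf (QuotientGroup.mk' (M.subgroupOf D) ⟨d, hd⟩) ∣ orderOf d :=
        Subgroup.orderOf_mk (G := X) d hd ▸ orderOf_map_dvd _ _
      have h2 : orderOf (QuotientGroup.mk' (M.subgroupOf D) ⟨d, hd⟩) ∣ M.relIndex D := by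
        rw [Subgroup.relIndex, Subgroup.index]
        exact orderOf_dvd_natCard _
      have h3 : orderOf (QuotientGroup.mk' (M.subgroupOf D) ⟨d, hd⟩) = 1 :=
        Nat.eq_one_of_dvd_coprimes (Solvable.coprime_of_piNat (π := π) hdπ hDM) h1 h2
      rw [orderOf_eq_one_iff, QuotientGroup.mk'_apply, QuotientGroup.eq_one_iff,
        Subgroup.mem_subgroupOf] at h3
      exact h3
    intro x hx
    suffices h : M ≤ M.comap (MulAut.conj x).toMonoidHom from fun m hm => h hm
    refine sup_le (fun e he => ?_) (fun k hk => ?_)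
    · exact Subgroup.mem_sup_left ((Subgroup.mem_normalizer_iff.mp hx.1 e).mp he)
    · refine hpi _ ((Subgroup.mem_normalizer_iff.mp hx.2 k).mp hk.2) fun p hp hpd => hK0.2.1 p hp ?_
      rw [show orderOf ((MulAut.conj x).toMonoidHom k) = orderOf k from
        orderOf_injective _ (MulAut.conj x).injective k] at hpd
      have h1 : k ∈ K0 := hk.1
      refine hpd.trans ?_
      rw [← Subgroup.orderOf_mk k h1]
      exact orderOf_dvd_natCard _
  have hNM : G ⊔ A ≤ Subgroup.normalizer (M : Set X) := by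
    intro x hx
    rw [Subgroup.mem_normalizer_iff]
    intro m
    refine ⟨hMeq x ⟨hNE hx, hND hx⟩ m, fun h => ?_⟩
    have h2 := hMeq x⁻¹ ⟨hNE ((G ⊔ A).inv_mem hx), hND ((G ⊔ A).inv_mem hx)⟩ _ h
    simpa [mul_assoc] using h2
  -- `S / E` is the wanted Hall subgroup of the quotient
  set S := M ⊔ U1 with hSdef
  have hSG : S ≤ G := sup_le (hMD.trans hDG) hU1G
  have hSR : S ≤ U ⊔ D := sup_le (hMD.trans le_sup_right)
    (hU1.1.trans (sup_le_sup_left hED U))
  have hES : E ≤ S := le_sup_left.trans le_sup_left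
  have hAS : A ≤ Subgroup.normalizer (S : Set X) := le_normalizer_sup (le_sup_right.trans hNM) hAU1
  have hSE : ∀ p : ℕ, p.Prime → p ∣ E.relIndex S → p ∈ π := by
    intro p hp h
    rw [← Subgroup.relIndex_mul_relIndex E M S le_sup_left le_sup_left] at h
    rcases hp.dvd_mul.mp h with h | h
    · rw [hMdef, relIndex_sup_norm (((inf_le_left.trans hK0G).trans le_sup_left).trans hNE)] at h
      exact hK0.2.1 p hp (h.trans ((Subgroup.relIndex_dvd_card _ _).trans (Subgroup.card_dvd_of_le inf_le_left)))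
    · rw [hSdef, relIndex_sup_norm ((hU1G.trans le_sup_left).trans hNM)] at h
      exact hU1.2.1 p hp (h.trans (Subgroup.relIndex_dvd_card _ _))
  obtain ⟨K1, hK1, hAK1⟩ := exists_invariant_hall (π := π) hAS
    (hcop.coprime_dvd_right (Subgroup.card_dvd_of_le hSG)) (Coprime.isSolvable_of_le hSG)
  have hK1G : K1 ≤ G := hK1.1.trans hSG
  have hK1E : K1 ≤ Subgroup.normalizer (E : Set X) := (hK1G.trans le_sup_left).trans hNE
  have hEK1 : E ⊔ K1 = S := by
    refine le_antisymm (sup_le hES hK1.1) (Subgroup.relIndex_eq_one.mp ?_)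
    have h1 : (E ⊔ K1).relIndex S ∣ E.relIndex S := Subgroup.relIndex_dvd_of_le_left S le_sup_left
    have h2 : (E ⊔ K1).relIndex S ∣ K1.relIndex S := Subgroup.relIndex_dvd_of_le_left S le_sup_right
    exact Nat.eq_one_of_dvd_coprimes (Solvable.coprime_of_piNat (π := π) hSE hK1.2.2) h1 h2
  set T := U ⊔ E with hTdef
  have hTG : T ≤ G := sup_le hUG hEG
  have hTS : T ≤ S := sup_le (hUU1.trans le_sup_right) hES
  have hAT : A ≤ Subgroup.normalizer (T : Set X) := le_normalizer_sup hAU (le_sup_right.trans hNE)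
  have hKT : Cfsg.IsPiHallOf π (K1 ⊓ T) T := by
    refine ⟨inf_le_right, fun p hp h => hK1.2.1 p hp (h.trans (Subgroup.card_dvd_of_le inf_le_left)), ?_⟩
    intro p hp hpπ h
    refine hK1.2.2 p hp hpπ (h.trans (dvd_of_eq ?_))
    have hT' : E ⊔ (K1 ⊓ T) = T := by
      rw [← Coprime.sup_inf_eq_sup_inf_of_le hK1E (le_sup_right : E ≤ T), hEK1, inf_eq_right.mpr hTS]
    conv_lhs => arg 2; rw [← hT']
    rw [relIndex_sup_eq (inf_le_left.trans hK1E), ← Subgroup.inf_relIndex_right (K1 ⊓ T), inf_assoc,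
      inf_eq_right.mpr (le_sup_right : E ≤ T), Subgroup.inf_relIndex_right, ← relIndex_sup_eq hK1E, hEK1]
  obtain ⟨c, hc, hcK⟩ := conj_invariant_hall hAT
    (hcop.coprime_dvd_right (Subgroup.card_dvd_of_le hTG)) (Coprime.isSolvable_of_le hTG) hKT
    ((le_inf hAK1 hAT).trans Subgroup.inf_normalizer_le_normalizer_inf) hU1 hAU1
  have hcS : Cfsg.IsPiHallOf π (MulAut.conj c • K1) S :=
    hallOf_conj_smul hK1 (Subgroup.le_normalizer (hTS hc.1))
  refine ⟨MulAut.conj c • K1, ⟨hcS.1.trans hSR, hcS.2.1, fun p hp hpπ h => ?_⟩,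
    centralizer_le_normalizer_map hAK1 hc.2, hUU1.trans ?_⟩
  · rw [← Subgroup.relIndex_mul_relIndex _ S (U ⊔ D) hcS.1 hSR] at h
    rcases hp.dvd_mul.mp h with h | h
    · exact hcS.2.2 p hp hpπ h
    · have hR : U ⊔ D = D ⊔ S := le_antisymm
        (sup_le ((hUU1.trans le_sup_right).trans le_sup_right) le_sup_left) (sup_le le_sup_right hSR)
      rw [hR, relIndex_sup_eq ((hSG.trans le_sup_left).trans hND)] at h
      exact hDM p hp hpπ (h.trans (Subgroup.relIndex_dvd_of_le_left D le_sup_left))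
  · rw [← hcK]
    exact Subgroup.pointwise_smul_le_pointwise_smul_iff.mpr inf_le_left

end


/-- Coprime action on a solvable group and Hall subgroups. Let A and G be subgroups of a finite group with A normalizing G, the orders of A and G coprime, and G solvable, and let π be a set of primes. Then (a) G has an A-invariant Hall π-subgroup; (b) any two A-invariant Hall π-subgroups of G are conjugate by an element of C_G(A); (c) every A-invariant π-subgroup of G lies in an A-invariant Hall π-subgroup of G. -/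
theorem result {X : Type*} [Group X] [Finite X] (A G : Subgroup X) (hAG : A ≤ Subgroup.normalizer (G : Set X)) (hcop : (Nat.card A).Coprime (Nat.card G)) (hsolv : Group.IsSolvable G) (π : Set ℕ) : (∃ H : Subgroup X, Cfsg.IsPiHallOf π H G ∧ A ≤ Subgroup.normalizer (H : Set X)) ∧ (∀ H₁ H₂ : Subgroup X, Cfsg.IsPiHallOf π H₁ G → A ≤ Subgroup.normalizer (H₁ : Set X) → Cfsg.IsPiHallOf π H₂ G → A ≤ Subgroup.normalizer (H₂ : Set X) → ∃ c ∈ G ⊓ Subgroup.centralizer (A : Set X), H₂ = H₁.map (MulAut.conj c).toMonoidHom) ∧ (∀ U : Subgroup X, U ≤ G → A ≤ Subgroup.normalizer (U : Set X) → (∀ p : ℕ, p.Prime → p ∣ Nat.card U → p ∈ π) → ∃ H : Subgroup X, Cfsg.IsPiHallOf π H G ∧ A ≤ Subgroup.normalizer (H : Set X) ∧ U ≤ H) := by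
  refine ⟨exists_invariant_hall hAG hcop hsolv, fun H₁ H₂ h1 hA1 h2 hA2 => ?_, fun U hU hAU hUπ => ?_⟩
  · obtain ⟨c, hc, h⟩ := conj_invariant_hall hAG hcop hsolv h1 hA1 h2 hA2
    exact ⟨c, hc, h.symm⟩
  · obtain ⟨n, hn⟩ := hsolv.solvable
    set D : ℕ → Subgroup X := fun k => (derivedSeries ↥G k).map G.subtype with hD
    have hDn : ∀ k, G ⊔ A ≤ Subgroup.normalizer (D k : Set X) := fun k =>
      CfsgLib.HallHigman.le_normalizer_map_char (sup_le Subgroup.le_normalizer hAG) _
    have key : ∀ j k, k + j = n → ∀ U : Subgroup X, U ≤ G → A ≤ Subgroup.normalizer (U : Set X) →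
        Cfsg.IsPiSubgroup π U →
        ∃ H, Cfsg.IsPiHallOf π H (U ⊔ D k) ∧ A ≤ Subgroup.normalizer (H : Set X) ∧ U ≤ H := by
      intro j
      induction j with
      | zero =>
        rintro k rfl U hU hAU hUπ
        refine ⟨U, ⟨le_sup_left, hUπ, fun p hp _ h => hp.ne_one ?_⟩, hAU, le_rfl⟩
        rw [add_zero] at hn
        rw [show D k = ⊥ by simp [hD, hn], sup_bot_eq, Subgroup.relIndex_self] at h
        exact Nat.dvd_one.mp h
      | succ j ih =>
        intro k hk U hU hAU hUπ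
        refine step hAG hcop hsolv (Subgroup.map_subtype_le _) ?_ (hDn (k + 1)) (hDn k) ?_
          (ih (k + 1) (by omega)) U hU hAU hUπ
        · exact Subgroup.map_mono (derivedSeries_antitone _ (Nat.le_succ k))
        · exact le_of_eq (Subgroup.map_commutator _ _ _).symm
    obtain ⟨H, hH, hAH, hUH⟩ := key n 0 (zero_add n) U hU hAU hUπ
    rw [show D 0 = G by simp [hD, ← MonoidHom.range_eq_map], sup_eq_right.mpr hU] at hH
    exact ⟨H, hH, hAH, hUH⟩

end Cfsg.Agent.S3745
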