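import Cfsg.Statements.S1514
import Cfsg.Agent.Coherence.System

set_option autoImplicit false
open Cfsg

namespace Cfsg.Agent.S1514

open CfsgLib.Coherence CfsgLib.Characters

/-- Let S be a nonempty set of irreducible characters of the finite group L, closed under complex conjugation and containing no real-valued member, and τ a linear isometry on the integer combinations of S vanishing at 1, with values virtual characters of G vanishing at 1. Then there is a choice R making (S, τ, R) a coherence system. -/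
theorem result {L : Type*} [Group L] [Fintype L] {G : Type*} [Group G] [Fintype G] (S : Set (L → ℂ)) (hS : S.Nonempty) (hirr : ∀ χ ∈ S, Cfsg.IsIrrCharacter L χ) (hconj : ∀ χ ∈ S, Cfsg.conjFun χ ∈ S ∧ Cfsg.conjFun χ ≠ χ) (τ : (L → ℂ) → (G → ℂ)) (hτ : Cfsg.IsLinearIsometryOn (Cfsg.zspanOn S {1}ᶜ) τ) (hτ1 : ∀ α ∈ Cfsg.zspanOn S {1}ᶜ, τ α 1 = 0) : ∃ R : (L → ℂ) → Finset (G → ℂ), Cfsg.IsCoherenceSystem S τ R := by
  classical
  have hnorm : ∀ χ ∈ S, classInner (τ (χ - conjFun χ)) (τ (χ - conjFun χ)) = 2 ∧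
      χ - conjFun χ ∈ zspanOn S {1}ᶜ := by
    intro χ hχ
    obtain ⟨n, hn⟩ := exists_degree (isCharacter_of_isIrr (hirr χ hχ))
    have hm : χ - conjFun χ ∈ zspanOn S {1}ᶜ := mem_zspanOn_one.2
      ⟨Submodule.sub_mem _ (mem_zspan_of_mem hχ) (mem_zspan_of_mem (hconj χ hχ).1),
        by simp [hn, conjFun_one hn]⟩
    refine ⟨?_, hm⟩
    rw [hτ.2.2.1 _ hm _ hm, ci_sub_left, ci_sub_right, ci_sub_right,
      classInner_isIrr_self (hirr χ hχ), classInner_isIrr_self (hirr _ (hconj χ hχ).1),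
      classInner_isIrr_ne (hirr χ hχ) (hirr _ (hconj χ hχ).1) (hconj χ hχ).2.symm,
      classInner_isIrr_ne (hirr _ (hconj χ hχ).1) (hirr χ hχ) (hconj χ hχ).2]
    norm_num
  have hex : ∀ χ : L → ℂ, ∃ μ ν : G → ℂ, χ ∈ S → IsIrrCharacter G μ ∧ IsIrrCharacter G ν ∧ μ ≠ ν ∧
      τ (χ - conjFun χ) = μ - ν := by
    intro χ
    by_cases hχ : χ ∈ S
    · obtain ⟨h2, hm⟩ := hnorm χ hχ
      obtain ⟨μ, ν, h⟩ := gen_norm_two (hτ.2.2.2 _ hm) h2 (hτ1 _ hm)
      exact ⟨μ, ν, fun _ => h⟩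
    · exact ⟨0, 0, fun h => absurd h hχ⟩
  choose μ ν hμν using hex
  refine ⟨fun χ => {μ χ, -ν χ}, hS, fun χ hχ => isCharacter_of_isIrr (hirr χ hχ),
    fun χ hχ => (hconj χ hχ).1, fun χ hχ => (hconj χ hχ).2, hτ, hτ1,
    fun χ hχ φ hφ hne => classInner_isIrr_ne (hirr χ hχ) (hirr φ hφ) hne, ?_, ?_, ?_, ?_⟩
  · intro χ hχ α hα β hβ
    obtain ⟨hμ, hν, hne, -⟩ := hμν χ hχ
    simp only [Finset.mem_insert, Finset.mem_singleton] at hα hβ
    have hmn : μ χ ≠ -ν χ := isIrr_ne_neg hμ hν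
    rcases hα with rfl | rfl <;> rcases hβ with rfl | rfl
    · simp [classInner_isIrr_self hμ]
    · simp [hmn, ci_neg_right, classInner_isIrr_ne hμ hν hne]
    · simp [Ne.symm hmn, ci_neg_left, classInner_isIrr_ne hν hμ hne.symm]
    · simp [ci_neg_left, ci_neg_right, classInner_isIrr_self hν]
  · intro χ hχ α hα
    obtain ⟨hμ, hν, hne, -⟩ := hμν χ hχ
    simp only [Finset.mem_insert, Finset.mem_singleton] at hα
    rcases hα with rfl | rfl
    · exact isGen_of_isIrr hμ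
    · exact isGen_neg (isGen_of_isIrr hν)
  · intro χ hχ
    obtain ⟨hμ, hν, hne, he⟩ := hμν χ hχ
    rw [he, Finset.sum_pair (isIrr_ne_neg hμ hν), sub_eq_add_neg]
  · intro χ hχ φ hφ h1 h2
    obtain ⟨hμ, hν, hne, he⟩ := hμν χ hχ
    obtain ⟨hμ', hν', hne', he'⟩ := hμν φ hφ
    obtain ⟨-, hm⟩ := hnorm χ hχ
    obtain ⟨-, hm'⟩ := hnorm φ hφ
    have h0 : classInner (μ φ - ν φ) (μ χ - ν χ) = 0 := by
      rw [← he, ← he', hτ.2.2.1 _ hm' _ hm, ci_sub_left, ci_sub_right, ci_sub_right, h1, h2]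
      have h3 : classInner (conjFun φ) χ = 0 := by
        rw [← conjFun_conjFun χ, ci_conjFun, ← ci_conj, h2, map_zero]
      have h4 : classInner (conjFun φ) (conjFun χ) = 0 := by
        rw [ci_conjFun, ← ci_conj, h1, map_zero]
      rw [h3, h4]; ring
    have hk : ∀ {a b : G → ℂ}, IsIrrCharacter G a → IsIrrCharacter G b →
        classInner a b = if a = b then 1 else 0 := by
      intro a b ha hb
      split_ifs with h
      · rw [h, classInner_isIrr_self hb]
      · exact classInner_isIrr_ne ha hb h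
    rw [ci_sub_left, ci_sub_right, ci_sub_right, hk hμ' hμ, hk hμ' hν, hk hν' hμ, hk hν' hν] at h0
    intro α hα β hβ
    simp only [Finset.mem_insert, Finset.mem_singleton] at hα hβ
    rcases hα with rfl | rfl <;> rcases hβ with rfl | rfl <;>
      simp only [ci_neg_left, ci_neg_right, neg_neg, neg_eq_zero, hk hμ' hμ, hk hμ' hν, hk hν' hμ,
        hk hν' hν] <;>
      split_ifs at h0 ⊢ with c1 c2 c3 c4 <;>
      first | rfl | (exfalso; first | (norm_num at h0; done) | grind)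

end Cfsg.Agent.S1514
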