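import Cfsg.Statements.S4387
-- import your own Cfsg.Agent.* helpers here

set_option autoImplicit false
open Pointwise
open Cfsg

namespace Cfsg.Agent.S4387

theorem exists_not_mem_conjugates {G : Type*} [Group G] [Finite G] (M : Subgroup G)
    (hM : M ≠ ⊤) : ∃ x : G, ∀ g : G, x ∉ MulAut.conj g • M := by
  classical
  cases nonempty_fintype G
  by_contra hcon
  push_neg at hcon
  have hidx : 2 ≤ M.index := by
    have h1 : M.index ≠ 1 := fun h => hM (Subgroup.index_eq_one.1 h)
    have h2 : M.index ≠ 0 := Subgroup.index_ne_zero_of_finite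
    omega
  let f : (G ⧸ M) × {m : M // m ≠ 1} → G := fun z =>
    (Quotient.out z.1) * (z.2.1 : G) * (Quotient.out z.1)⁻¹
  have hsub : ∀ x : G, x ≠ 1 → ∃ z, f z = x := by
    intro x hx
    obtain ⟨g, hg⟩ := hcon x
    rw [Subgroup.mem_pointwise_smul_iff_inv_smul_mem] at hg
    simp only [← map_inv, MulAut.smul_def, MulAut.conj_apply, inv_inv] at hg
    obtain ⟨m, hm⟩ : ∃ m : M, Quotient.out (g : G ⧸ M) = g * m :=
      QuotientGroup.mk_out_eq_mul M g
    refine ⟨((g : G ⧸ M), ⟨⟨(m : G)⁻¹ * (g⁻¹ * x * g) * m, ?_⟩, ?_⟩), ?_⟩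
    · exact mul_mem (mul_mem (inv_mem m.2) hg) m.2
    · intro h
      apply hx
      have h' := congrArg Subtype.val h
      simp only [Subgroup.coe_one] at h'
      calc x = g * m * ((m : G)⁻¹ * (g⁻¹ * x * g) * m) * (g * m)⁻¹ := by group
        _ = 1 := by rw [h']; group
    · simp only [f]
      rw [hm]
      group
  have hle : Fintype.card {x : G // x ≠ 1} ≤ Fintype.card ((G ⧸ M) × {m : M // m ≠ 1}) := by
    choose u hu using hsub
    refine Fintype.card_le_of_injective (fun x => u x.1 x.2) (fun a b h => Subtype.ext ?_)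
    rw [← hu a.1 a.2, ← hu b.1 b.2]
    exact congrArg f h
  have hc1 : Fintype.card {x : G // x ≠ 1} = Fintype.card G - 1 := by
    rw [Fintype.card_subtype_compl, Fintype.card_subtype_eq]
  have hc2 : Fintype.card {m : M // m ≠ 1} = Fintype.card M - 1 := by
    rw [Fintype.card_subtype_compl, Fintype.card_subtype_eq]
  rw [Fintype.card_prod, hc1, hc2, ← Nat.card_eq_fintype_card (α := G ⧸ M)] at hle
  rw [← Subgroup.index_eq_card] at hle
  have hm := M.index_mul_card
  rw [Nat.card_eq_fintype_card, Nat.card_eq_fintype_card] at hm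
  rw [Nat.mul_sub_one, hm] at hle
  have hG : M.index ≤ Fintype.card G := by
    rw [← hm]
    exact Nat.le_mul_of_pos_right _ Fintype.card_pos
  omega

/-- Let G be a non-trivial finite group in which any two maximal subgroups are conjugate. Then G is cyclic of prime-power order. -/
theorem result {G : Type*} [Group G] [Finite G] [Nontrivial G]
    (h : ∀ M N : Subgroup G, IsCoatom M → IsCoatom N → ∃ g : G, N = MulAut.conj g • M) :
    IsCyclic G ∧ IsPrimePow (Nat.card G) := by
  obtain ⟨M, hM, -⟩ := (IsCoatomic.eq_top_or_exists_le_coatom (⊥ : Subgroup G)).resolve_left bot_ne_top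
  obtain ⟨x, hx⟩ := exists_not_mem_conjugates M hM.1
  have hx' : Subgroup.zpowers x = ⊤ := by
    rcases IsCoatomic.eq_top_or_exists_le_coatom (Subgroup.zpowers x) with h' | ⟨N, hN, hle⟩
    · exact h'
    · obtain ⟨g, rfl⟩ := h M N hM hN
      exact absurd (hle (Subgroup.mem_zpowers x)) (hx g)
  have hcyc : IsCyclic G := ⟨x, fun y => Subgroup.mem_zpowers_iff.1 (hx'.symm ▸ Subgroup.mem_top y : y ∈ Subgroup.zpowers x)⟩
  refine ⟨hcyc, ?_⟩
  have hcard : 1 < Nat.card G := Finite.one_lt_card
  have hox : orderOf x = Nat.card G := by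
    rw [← Nat.card_zpowers, hx', Subgroup.card_top]
  have hmax : ∀ p : ℕ, p.Prime → p ∣ Nat.card G →
      IsCoatom (Subgroup.zpowers (x ^ p)) ∧ (Subgroup.zpowers (x ^ p)).index = p := by
    intro p hp hd
    have hi : (Subgroup.zpowers (x ^ p)).index = p := by
      have h1 := (Subgroup.zpowers (x ^ p)).card_mul_index
      rw [Nat.card_zpowers, orderOf_pow' x hp.ne_zero, hox, Nat.gcd_eq_right hd] at h1
      obtain ⟨c, hc⟩ := hd
      rw [hc, Nat.mul_div_cancel_left _ hp.pos, mul_comm p c] at h1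
      exact Nat.eq_of_mul_eq_mul_left (by
        rcases Nat.eq_zero_or_pos c with h0 | h0
        · subst h0; omega
        · exact h0) h1
    refine ⟨⟨?_, ?_⟩, hi⟩
    · intro htop
      rw [htop, Subgroup.index_top] at hi
      exact hp.ne_one hi.symm
    · intro K hK
      have hdv : K.index ∣ p := hi ▸ Subgroup.index_dvd_of_le hK.le
      rcases hp.eq_one_or_self_of_dvd _ hdv with h1 | h1
      · exact Subgroup.index_eq_one.1 h1
      · exfalso
        have h2 := Subgroup.relIndex_mul_index hK.le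
        rw [hi, h1] at h2
        have h3 : (Subgroup.zpowers (x ^ p)).relIndex K = 1 := by
          have := hp.pos
          nlinarith
        exact hK.not_ge (Subgroup.relIndex_eq_one.1 h3)
  rw [isPrimePow_iff_unique_prime_dvd]
  refine ⟨(Nat.card G).minFac, ⟨Nat.minFac_prime (by omega), Nat.minFac_dvd _⟩, ?_⟩
  rintro q ⟨hq, hqd⟩
  obtain ⟨hA, hiA⟩ := hmax _ (Nat.minFac_prime (show Nat.card G ≠ 1 by omega)) (Nat.minFac_dvd _)
  obtain ⟨hB, hiB⟩ := hmax q hq hqd
  obtain ⟨g, hg⟩ := h _ _ hA hB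
  rw [← hiA, ← hiB, hg]
  exact Subgroup.index_map_equiv _ _

end Cfsg.Agent.S4387
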