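import Cfsg.Statements.S1492
import Cfsg.Agent.OddOrderChar.KernelFacts

set_option autoImplicit false
open Cfsg

namespace Cfsg.Agent.S1492

/-- Let ψ be an irreducible character of the finite group G and B ≤ D ≤ C subgroups with B normal in C, every commutator of an element of D with an element of C lying in B (so D/B is central in C/B), and ψ constant equal to ψ 1 on B. Then ψ(1) ^ 2 * |C| * |D| ≤ |G| ^ 2. -/
theorem result {G : Type*} [Group G] [Finite G] (ψ : G → ℂ) (hψ : Cfsg.IsIrrCharacter G ψ) (B C D : Subgroup G) (hBD : B ≤ D) (hDC : D ≤ C) (hBn : ∀ c ∈ C, ∀ b ∈ B, c * b * c⁻¹ ∈ B) (hcent : ∀ d ∈ D, ∀ c ∈ C, d * c * d⁻¹ * c⁻¹ ∈ B) (hker : ∀ b ∈ B, ψ b = ψ 1) : ‖ψ 1‖ ^ 2 * (Nat.card C : ℝ) * (Nat.card D : ℝ) ≤ (Nat.card G : ℝ) ^ 2 := by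
  classical
  obtain ⟨n, ρ, hρ, rfl⟩ := hψ
  haveI : Fintype ↥C := Fintype.ofFinite _
  haveI : Fintype ↥D := Fintype.ofFinite _
  haveI := CfsgLib.Characters.nontrivial_of_isIrreducible ρ
  obtain ⟨S, hS⟩ := CfsgLib.Characters.exists_irreducible_subrep (ρ.comp C.subtype)
  haveI := hS
  set τ := S.toRepresentation with hτ
  set m := Module.finrank ℂ S.toSubmodule with hm
  have hm0 : 0 < m := CfsgLib.Characters.finrank_pos_of_isIrreducible τ
  have hle := CfsgLib.OddOrderChar.finrank_le_index_mul ρ C S hm0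
  have hBtriv : ∀ b ∈ B, ρ b = 1 := fun b hb =>
    CfsgLib.OddOrderChar.rep_eq_one_of_char_eq ρ (hker b hb)
  have hnorm : ∀ d : ↥D, ‖τ.character ⟨d, hDC d.2⟩‖ = (m : ℝ) := by
    intro d
    set dc : ↥C := ⟨d, hDC d.2⟩ with hdc
    have hcomm : ∀ (c : ↥C) (x : S.toSubmodule), τ dc (τ c x) = τ c (τ dc x) := by
      intro c x
      refine Subtype.ext ?_
      show ρ (d : G) (ρ (c : G) (x : Fin n → ℂ)) = ρ (c : G) (ρ (d : G) (x : Fin n → ℂ))
      rw [← Module.End.mul_apply, ← map_mul, ← Module.End.mul_apply, ← map_mul]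
      have : (d : G) * (c : G) = ((d : G) * c * (d : G)⁻¹ * (c : G)⁻¹) * ((c : G) * d) := by group
      rw [this, map_mul, hBtriv _ (hcent d d.2 c c.2), one_mul]
    obtain ⟨c, hc⟩ := CfsgLib.Characters.schur_scalar τ (τ dc) hcomm
    have hch : τ.character dc = c * m := by
      rw [Representation.character, hc, map_smul, smul_eq_mul, ← Module.End.one_eq_id, LinearMap.trace_one]
    obtain ⟨b, μ, hμ⟩ := CfsgLib.Characters.exists_eigenbasis τ dc
    have hc1 : ‖c‖ = 1 := by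
      let i : Fin (Module.finrank ℂ S.toSubmodule) := ⟨0, hm0⟩
      have h1 := (hμ i).1
      rw [hc, LinearMap.smul_apply, LinearMap.id_apply] at h1
      rw [smul_left_injective ℂ (b.ne_zero i) h1]
      exact Complex.norm_eq_one_of_pow_eq_one (hμ i).2 (orderOf_pos dc).ne'
    rw [hch, norm_mul, hc1, one_mul, Complex.norm_natCast]
  have hirr : Cfsg.IsIrrCharacter ↥C τ.character := CfsgLib.Characters.isIrrCharacter_character τ
  have hsum : ∑ x : ↥C, ‖τ.character x‖ ^ 2 = (Nat.card C : ℝ) := by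
    have h := CfsgLib.Characters.classInner_isIrr_self hirr
    rw [Cfsg.classInner, inv_mul_eq_one₀ CfsgLib.Characters.natCard_ne_zero] at h
    have h' := congrArg Complex.re h.symm
    simpa [Complex.mul_conj, Complex.normSq_eq_norm_sq, Complex.re_sum, ← Complex.ofReal_pow] using h'
  have hD : (Nat.card D : ℝ) * (m : ℝ) ^ 2 ≤ Nat.card C := by
    rw [← hsum]
    calc (Nat.card D : ℝ) * (m : ℝ) ^ 2 = ∑ d : ↥D, ‖τ.character ⟨d, hDC d.2⟩‖ ^ 2 := by
          simp only [hnorm, Finset.sum_const, Finset.card_univ, nsmul_eq_mul, Nat.card_eq_fintype_card]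
      _ = ∑ x ∈ Finset.univ.image (fun d : ↥D => (⟨d, hDC d.2⟩ : ↥C)), ‖τ.character x‖ ^ 2 := by
          rw [Finset.sum_image]
          intro a _ b _ hab
          exact Subtype.ext (congrArg Subtype.val hab :)
      _ ≤ ∑ x : ↥C, ‖τ.character x‖ ^ 2 :=
          Finset.sum_le_sum_of_subset_of_nonneg (Finset.subset_univ _) fun _ _ _ => by positivity
  have h1 : (Module.finrank ℂ (Fin n → ℂ) : ℝ) ≤ (C.index : ℝ) * m := by exact_mod_cast hle
  have hG : (Nat.card G : ℝ) = (Nat.card C : ℝ) * C.index := by exact_mod_cast (C.card_mul_index).symm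
  rw [Representation.char_one, Complex.norm_natCast, hG]
  calc (Module.finrank ℂ (Fin n → ℂ) : ℝ) ^ 2 * Nat.card C * Nat.card D
      ≤ ((C.index : ℝ) * m) ^ 2 * Nat.card C * Nat.card D := by gcongr
    _ = (C.index : ℝ) ^ 2 * Nat.card C * ((Nat.card D : ℝ) * (m : ℝ) ^ 2) := by ring
    _ ≤ (C.index : ℝ) ^ 2 * Nat.card C * Nat.card C := by gcongr
    _ = _ := by ring

end Cfsg.Agent.S1492
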