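import Cfsg.Statements.S0089
import Cfsg.Agent.Transfer.Abelian

set_option autoImplicit false
open Cfsg

namespace Cfsg.Agent.S0089

/-- When all Sylow subgroups are abelian, the derived subgroup meets the centre trivially. -/
theorem result {G : Type*} [Group G] [Finite G] (h : ∀ p : ℕ, p.Prime → ∀ P : Sylow p G, IsMulCommutative P) : commutator G ⊓ Subgroup.center G = ⊥ := by
  refine (Subgroup.eq_bot_iff_forall _).2 fun x hx => ?_
  by_contra hne
  obtain ⟨p, hp, hpd⟩ := Nat.exists_prime_and_dvd (mt orderOf_eq_one_iff.1 hne)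
  haveI : Fact p.Prime := ⟨hp⟩
  set y := x ^ (orderOf x / p) with hy
  have hyo : orderOf y = p := orderOf_pow_orderOf_div (orderOf_pos x).ne' hpd
  obtain ⟨P, hP⟩ := IsPGroup.exists_le_sylow (G := G) (p := p)
    (IsPGroup.of_card (n := 1) (by rw [Nat.card_zpowers, hyo, pow_one]) :
      IsPGroup p (Subgroup.zpowers y))
  have hy1 : y ∈ (P : Subgroup G) ⊓ commutator G ⊓ Subgroup.center G :=
    ⟨⟨hP (Subgroup.mem_zpowers y), pow_mem hx.1 _⟩, pow_mem hx.2 _⟩
  rw [CfsgLib.Transfer.inf_commutator_inf_center_eq_bot (P : Subgroup G) (h p hp P)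
    P.card_coprime_index, Subgroup.mem_bot] at hy1
  exact hp.ne_one (by rw [← hyo, hy1, orderOf_one])

end Cfsg.Agent.S0089
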