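import Cfsg.Agent.PrimeGraph.Lucido
import Cfsg.Statements.S1475
-- import your own Cfsg.Agent.* helpers here

set_option autoImplicit false
open Cfsg

namespace Cfsg.Agent.S1475

/-- Let G be a finite solvable group such that the order of every element is a prime power (1 included). Then at most two distinct primes divide the order of G. -/
theorem result {G : Type*} [Group G] [Finite G] [Group.IsSolvable G] (h : ∀ g : G, IsPrimePow (orderOf g) ∨ g = 1) :
    (Nat.card G).primeFactors.card ≤ 2 := by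
  by_contra hc
  rw [not_le] at hc
  obtain ⟨p, q, r, hp, hq, hr, hpq, hpr, hqr⟩ := Finset.two_lt_card_iff.mp hc
  rw [Nat.mem_primeFactors] at hp hq hr
  have key : ∀ a b : ℕ, a.Prime → b.Prime → a ≠ b → ¬ ∃ g : G, orderOf g = a * b := by
    rintro a b ha hb hab ⟨g, hg⟩
    rcases h g with h1 | h1
    · obtain ⟨c, k, hc', -, hk⟩ := (isPrimePow_def _).mp h1
      rw [hg] at hk
      have h2 := Nat.prime_eq_prime_of_dvd_pow ha hc'.nat_prime (hk ▸ dvd_mul_right a b : a ∣ c ^ k)
      have h3 := Nat.prime_eq_prime_of_dvd_pow hb hc'.nat_prime (hk ▸ dvd_mul_left b a : b ∣ c ^ k)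
      exact hab (h2.trans h3.symm)
    · rw [h1, orderOf_one] at hg
      exact ha.ne_one (Nat.eq_one_of_mul_eq_one_right hg.symm)
  rcases CfsgLib.PrimeGraph.exists_edge_of_isSolvable (G := G) inferInstance hp.1 hq.1 hr.1 hpq hpr hqr
    hp.2.1 hq.2.1 hr.2.1 with e | e | e
  · exact key _ _ hp.1 hq.1 hpq e
  · exact key _ _ hp.1 hr.1 hpr e
  · exact key _ _ hq.1 hr.1 hqr e

end Cfsg.Agent.S1475
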