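import Mathlib
import Cfsg.Statements.S3992
import Cfsg.Agent.FgsSix.PrimePowerOrders

set_option autoImplicit false
open Cfsg

namespace Cfsg.Agent.S3992

/-- Let G be a finite non-solvable group in which every element has prime-power order, and let R be its largest solvable normal subgroup. Then R is a p-group for some prime p; G/R has a non-abelian simple normal subgroup contained in every nontrivial normal subgroup of G/R (its unique minimal normal subgroup); and the order of every solvable subgroup of G has at most two prime divisors. -/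
theorem result {G : Type*} [Group G] [Finite G] (hns : ¬ Group.IsSolvable G) (hpp : ∀ g : G, g ≠ 1 → IsPrimePow (orderOf g))
    (R : Subgroup G) [R.Normal] (hRs : Group.IsSolvable ↥R) (hRmax : ∀ N : Subgroup G, N.Normal → Group.IsSolvable ↥N → N ≤ R) :
    (∃ p : ℕ, p.Prime ∧ IsPGroup p ↥R) ∧
      (∃ M : Subgroup (G ⧸ R), M.Normal ∧ IsSimpleGroup ↥M ∧ ¬ IsMulCommutative ↥M ∧
        ∀ N : Subgroup (G ⧸ R), N.Normal → N ≠ ⊥ → M ≤ N) ∧
      ∀ H : Subgroup G, Group.IsSolvable ↥H → (Nat.card ↥H).primeFactors.card ≤ 2 := by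
  refine ⟨CfsgLib.FgsSix.radical_isPGroup hpp hns R hRs, ?_,
    fun H hH => CfsgLib.FgsSix.card_primeFactors_le_two hpp H hH⟩
  haveI : Nontrivial (G ⧸ R) := by
    by_contra h
    rw [not_nontrivial_iff_subsingleton] at h
    exact hns (CfsgLib.FgsSix.isSolvable_of_quotient R hRs inferInstance)
  refine CfsgLib.FgsSix.exists_simple_socle (CfsgLib.FgsSix.isPrimePow_quotient hpp R) ?_
  intro N hN hNs
  haveI := hN
  have hK : Group.IsSolvable ↥(N.comap (QuotientGroup.mk' R)) := by
    refine Group.isSolvable_of_ker_le_range (Subgroup.inclusion (QuotientGroup.le_comap_mk' R N))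
      ((QuotientGroup.mk' R).subgroupComap N) ?_
    intro x hx
    have hx' : (x : G) ∈ R :=
      (QuotientGroup.eq_one_iff _).1 (congrArg Subtype.val (MonoidHom.mem_ker.1 hx))
    exact ⟨⟨x, hx'⟩, rfl⟩
  have h1 := hRmax _ (hN.comap _) hK
  rw [← Subgroup.map_comap_eq_self_of_surjective (QuotientGroup.mk'_surjective R) N,
    Subgroup.map_eq_bot_iff, QuotientGroup.ker_mk']
  exact h1

end Cfsg.Agent.S3992
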