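import Cfsg.Statements.S0188
import Cfsg.Agent.Characters.Classes
import Cfsg.Agent.Characters.Induction
-- import your own Cfsg.Agent.* helpers here

set_option autoImplicit false
open scoped ComplexConjugate
open Cfsg

namespace Cfsg.Agent.S0188

/-- The irreducible complex characters of G × H are precisely the functions (g, h) ↦ φ g * ψ h with φ, ψ irreducible characters of G and H. -/
theorem result {G : Type*} [Group G] [Finite G] {H : Type*} [Group H] [Finite H] (θ : G × H → ℂ) : Cfsg.IsIrrCharacter (G × H) θ ↔ ∃ (φ : G → ℂ) (ψ : H → ℂ), Cfsg.IsIrrCharacter G φ ∧ Cfsg.IsIrrCharacter H ψ ∧ θ = fun x => φ x.1 * ψ x.2 := by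
  classical
  haveI := Fintype.ofFinite G
  haveI := Fintype.ofFinite H
  have hprod : ∀ (φ : G → ℂ) (ψ : H → ℂ), Cfsg.IsIrrCharacter G φ → Cfsg.IsIrrCharacter H ψ →
      Cfsg.IsIrrCharacter (G × H) (fun x => φ x.1 * ψ x.2) := by
    intro φ ψ hφ hψ
    refine CfsgLib.Characters.isIrr_of_classInner_self
      (CfsgLib.Characters.isCharacter_mul
        (CfsgLib.Characters.isCharacter_comp (MonoidHom.fst G H)
          (CfsgLib.Characters.isCharacter_of_isIrr hφ))
        (CfsgLib.Characters.isCharacter_comp (MonoidHom.snd G H)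
          (CfsgLib.Characters.isCharacter_of_isIrr hψ))) ?_
    have h1 := CfsgLib.Characters.classInner_isIrr_self hφ
    have h2 := CfsgLib.Characters.classInner_isIrr_self hψ
    rw [Cfsg.classInner] at h1 h2 ⊢
    calc (Nat.card (G × H) : ℂ)⁻¹ * ∑ x : G × H, φ x.1 * ψ x.2 * conj (φ x.1 * ψ x.2)
        = ((Nat.card G : ℂ)⁻¹ * ∑ g, φ g * conj (φ g)) *
            ((Nat.card H : ℂ)⁻¹ * ∑ h, ψ h * conj (ψ h)) := by
          rw [Nat.card_prod, Nat.cast_mul, mul_inv, mul_mul_mul_comm, Finset.sum_mul_sum,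
            Fintype.sum_prod_type]
          refine congrArg _ (Finset.sum_congr rfl fun g _ => Finset.sum_congr rfl fun h _ => ?_)
          rw [map_mul]
          ring
      _ = 1 := by rw [h1, h2, one_mul]
  refine ⟨fun hθ => ?_, fun ⟨φ, ψ, hφ, hψ, e⟩ => e ▸ hprod φ ψ hφ hψ⟩
  by_contra hne
  push Not at hne
  have horth : ∀ (φ : Cfsg.IrrCharacter G) (ψ : Cfsg.IrrCharacter H),
      ∑ h : H, (∑ g : G, θ (g, h) * conj ((φ : G → ℂ) g)) * conj ((ψ : H → ℂ) h) = 0 := by
    intro φ ψ
    have h := CfsgLib.Characters.classInner_isIrr_ne hθ (hprod _ _ φ.2 ψ.2) (hne _ _ φ.2 ψ.2)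
    rw [Cfsg.classInner, mul_eq_zero, or_iff_right
      (inv_ne_zero (CfsgLib.Characters.natCard_ne_zero)), Fintype.sum_prod_type, Finset.sum_comm] at h
    rw [← h]
    refine Finset.sum_congr rfl fun y _ => ?_
    rw [Finset.sum_mul]
    refine Finset.sum_congr rfl fun x _ => ?_
    rw [map_mul]
    ring
  have hcl := CfsgLib.Characters.isClassFunction_of_isIrr hθ
  have hsec : ∀ (φ : Cfsg.IrrCharacter G) (h : H),
      ∑ g : G, θ (g, h) * conj ((φ : G → ℂ) g) = 0 := by
    intro φ
    have := CfsgLib.Characters.classFunction_eq_zero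
      (θ := fun h : H => ∑ g : G, θ (g, h) * conj ((φ : G → ℂ) g)) (fun a b => by
        refine Finset.sum_congr rfl fun x _ => ?_
        have e := hcl (x, a) (1, b)
        simp only [Prod.mk_mul_mk, Prod.inv_mk, inv_one, one_mul, mul_one] at e
        rw [e]) (fun ψ => by rw [Cfsg.classInner, horth, mul_zero])
    exact congrFun this
  refine CfsgLib.Characters.irr_ne_zero hθ (funext fun ⟨a, b⟩ => ?_)
  have := CfsgLib.Characters.classFunction_eq_zero (θ := fun g : G => θ (g, b)) (fun x c => by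
      have e := hcl (x, b) (c, 1)
      simpa using e)
    (fun φ => by rw [Cfsg.classInner, hsec, mul_zero])
  exact congrFun this a

end Cfsg.Agent.S0188
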