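import Cfsg.Statements.S0514
import Cfsg.Agent.Transfer.Frobenius
import Cfsg.Agent.Classification.OddOnTwoGroup

set_option autoImplicit false
open Cfsg
open scoped Pointwise

namespace Cfsg.Agent.S0514

/-- In a finite group whose Sylow 2-subgroups are dihedral of order at least 4, the centralizer of any involution has a
normal subgroup of odd order whose index in the centralizer is a power of 2. -/
theorem result {X : Type*} [Group X] [Finite X]
    (S : Sylow 2 X) (n : ℕ) (hn : 2 ≤ n) (hS : Nonempty ((S : Subgroup X) ≃* DihedralGroup n)) (t : X)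
    (ht : orderOf t = 2) :
    ∃ N : Subgroup (Subgroup.centralizer ({t} : Set X)), N.Normal ∧ Odd (Nat.card N) ∧ ∃ k : ℕ, N.index = 2 ^ k := by
  classical
  set C := Subgroup.centralizer ({t} : Set X) with hC
  have htC : t ∈ C := Subgroup.mem_centralizer_singleton_iff.mpr rfl
  suffices h : Cfsg.HasNormalPComplement 2 C by
    obtain ⟨P, N, hN, hc⟩ := h
    obtain ⟨k, hk⟩ := IsPGroup.iff_card.1 P.isPGroup'
    refine ⟨N, hN, ?_, k, ?_⟩
    · rw [← Nat.not_even_iff_odd, even_iff_two_dvd]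
      exact CfsgLib.Transfer.not_dvd_card_of_isComplement' hc
    · rw [hc.symm.index_eq_card, hk]
  obtain ⟨P⟩ : Nonempty (Sylow 2 C) := inferInstance
  refine CfsgLib.Transfer.hasNormalPComplement_of_local P fun Q hQ g hg hgp => ?_
  -- the image of `P` lies in a dihedral Sylow 2-subgroup `D`
  obtain ⟨D, hD⟩ := (P.isPGroup'.map C.subtype).exists_le_sylow
  have e : (D : Subgroup X) ≃* DihedralGroup n := (Sylow.equiv D S).trans hS.some
  set R : Subgroup X := ((Subgroup.zpowers (DihedralGroup.r (1 : ZMod n))).map e.symm.toMonoidHom).map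
    (D : Subgroup X).subtype with hR
  have hmemR : ∀ (x : X) (hx : x ∈ (D : Subgroup X)), x ∈ R ↔ ∃ i, e ⟨x, hx⟩ = DihedralGroup.r i := by
    intro x hx
    constructor
    · rintro ⟨_, ⟨y, hy, rfl⟩, hyx⟩
      obtain ⟨j, rfl⟩ := Subgroup.mem_zpowers_iff.mp hy
      refine ⟨(j : ZMod n), ?_⟩
      have : e.symm (DihedralGroup.r (1 : ZMod n) ^ j) = ⟨x, hx⟩ := Subtype.ext hyx
      rw [← this, MulEquiv.apply_symm_apply, DihedralGroup.r_one_zpow]
    · rintro ⟨i, hi⟩
      refine ⟨⟨x, hx⟩, ⟨DihedralGroup.r i, ?_, ?_⟩, rfl⟩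
      · exact Subgroup.mem_zpowers_iff.mpr ⟨(i.cast : ℤ), by
          rw [DihedralGroup.r_one_zpow, ZMod.intCast_zmod_cast]⟩
      · show e.symm (DihedralGroup.r i) = _
        rw [← hi, MulEquiv.symm_apply_apply]
  have hnotR : ∀ (x : X) (hx : x ∈ (D : Subgroup X)), x ∉ R → ∃ i, e ⟨x, hx⟩ = DihedralGroup.sr i := by
    intro x hx hxR
    rcases h : e ⟨x, hx⟩ with i | i
    · exact absurd ((hmemR x hx).mpr ⟨i, h⟩) hxR
    · exact ⟨i, rfl⟩
  -- the subgroup to which the action lemma is applied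
  set Q' : Subgroup X := Q.map C.subtype ⊔ Subgroup.zpowers t with hQ'
  have htP : (⟨t, htC⟩ : C) ∈ (P : Subgroup C) := by
    have hn : (Subgroup.zpowers (⟨t, htC⟩ : C)).Normal := by
      refine ⟨fun x hx c => ?_⟩
      obtain ⟨j, rfl⟩ := Subgroup.mem_zpowers_iff.mp hx
      rw [← conj_zpow]
      refine Subgroup.zpow_mem _ ?_ j
      rw [show c * ⟨t, htC⟩ * c⁻¹ = (⟨t, htC⟩ : C) from Subtype.ext (by
        simp [Subgroup.mem_centralizer_singleton_iff.mp c.2])]
      exact Subgroup.mem_zpowers _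
    have h2 : IsPGroup 2 (Subgroup.zpowers (⟨t, htC⟩ : C)) :=
      IsPGroup.of_card (n := 1) (by rw [Nat.card_zpowers, Subgroup.orderOf_mk, ht, pow_one])
    rw [← P.is_maximal' (IsPGroup.to_sup_of_normal_right P.isPGroup' h2) le_sup_left]
    exact Subgroup.mem_sup_right (Subgroup.mem_zpowers _)
  have hQ'D : Q' ≤ D := sup_le ((Subgroup.map_mono hQ).trans hD)
    (Subgroup.zpowers_le.mpr (hD ⟨⟨t, htC⟩, htP, rfl⟩))
  have hgt : (g : X) * t * (g : X)⁻¹ = t :=
    mul_inv_eq_iff_eq_mul.mpr (Subgroup.mem_centralizer_singleton_iff.mp g.2)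
  have hgQ : ∀ x ∈ Q', (g : X) * x * (g : X)⁻¹ ∈ Q' := by
    intro x hx
    have hle : Q' ≤ Q'.comap (MulAut.conj (g : X)).toMonoidHom := by
      refine sup_le ?_ (Subgroup.zpowers_le.mpr ?_)
      · rintro _ ⟨q, hq, rfl⟩
        exact Subgroup.mem_sup_left ⟨g * q * g⁻¹, (Subgroup.mem_normalizer_iff.mp hg q).mp hq, by simp⟩
      · show (g : X) * t * (g : X)⁻¹ ∈ Q'
        rw [hgt]; exact Subgroup.mem_sup_right (Subgroup.mem_zpowers t)
    exact hle hx
  have key := CfsgLib.Classification.commute_of_dihedral (g := (g : X)) (t := t) (D := (D : Subgroup X))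
    (R := R) (Q := Q') ?_ D.isPGroup' hQ'D (Subgroup.map_subtype_le _) ?_ ?_ ?_ hgQ
    (Subgroup.mem_sup_right (Subgroup.mem_zpowers t)) ht hgt
  · intro q hq
    apply Subtype.ext
    have := key q (Subgroup.mem_sup_left ⟨q, hq, rfl⟩)
    exact (mul_inv_eq_iff_eq_mul.mp this).symm
  · rw [Subgroup.orderOf_coe, ← Nat.not_even_iff_odd, even_iff_two_dvd]
    exact (Nat.prime_two.coprime_iff_not_dvd).mp hgp.symm
  · have : IsCyclic (Subgroup.zpowers (DihedralGroup.r (1 : ZMod n))) := inferInstance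
    let e1 := (Subgroup.zpowers (DihedralGroup.r (1 : ZMod n))).equivMapOfInjective e.symm.toMonoidHom e.symm.injective
    let e2 := ((Subgroup.zpowers (DihedralGroup.r (1 : ZMod n))).map e.symm.toMonoidHom).equivMapOfInjective
      (D : Subgroup X).subtype (Subgroup.subtype_injective _)
    exact (e1.trans e2).isCyclic.mp this
  · intro x hx y hy hxR hyR
    obtain ⟨i, hi⟩ := hnotR x hx hxR
    obtain ⟨j, hj⟩ := hnotR y hy hyR
    refine (hmemR _ (mul_mem (inv_mem hx) hy)).mpr ⟨j - i, ?_⟩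
    show e ((⟨x, hx⟩ : (D : Subgroup X))⁻¹ * ⟨y, hy⟩) = _
    rw [map_mul, map_inv, hi, hj, DihedralGroup.inv_sr, DihedralGroup.sr_mul_sr]
  · intro x hx hxR
    obtain ⟨i, hi⟩ := hnotR x hx hxR
    have : e ((⟨x, hx⟩ : (D : Subgroup X)) * ⟨x, hx⟩) = 1 := by
      rw [map_mul, hi, DihedralGroup.sr_mul_self]
    exact congrArg Subtype.val (e.map_eq_one_iff.mp this)

end Cfsg.Agent.S0514
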