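import Cfsg.Statements.S3116
import Mathlib.GroupTheory.SpecificGroups.Dihedral
import Mathlib.GroupTheory.Index
import Mathlib.FieldTheory.Finite.Basic
import Mathlib.Data.ZMod.Basic
import Mathlib.Tactic


set_option autoImplicit false
open Cfsg

namespace Cfsg.Agent.S3116

theorem aut_two_group {X : Type*} [Group X] [Finite X] {x y : X} {n : ℕ}
    (hx : orderOf x = 2 ^ n) (hy : y ∉ Subgroup.zpowers x) (hcard : Nat.card X = 2 ^ (n + 1))
    (hout : ∀ g : X, g ∉ Subgroup.zpowers x → g ^ (2 ^ (n - 1)) = 1) : IsPGroup 2 (MulAut X) := by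
  set R := Subgroup.zpowers x with hR
  have hidx : R.index = 2 := by
    have h1 := R.card_mul_index
    rw [Nat.card_zpowers, hx, hcard, pow_succ] at h1
    exact mul_left_cancel₀ (pow_ne_zero n two_ne_zero) h1
  intro φ
  obtain ⟨a, m, hm, ham⟩ := Nat.exists_eq_pow_mul_and_not_dvd (orderOf_pos φ).ne' 2 (by norm_num)
  refine ⟨a, ?_⟩
  set ψ : MulAut X := φ ^ (2 ^ a) with hψ
  have hψm : ψ ^ m = 1 := by rw [hψ, ← pow_mul, ← ham, pow_orderOf_eq_one]
  rcases Nat.eq_zero_or_pos n with hn | hn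
  · -- a group of order two has no other automorphism
    subst hn
    have hx1 : x = 1 := orderOf_eq_one_iff.1 (by simpa using hx)
    refine MulEquiv.ext fun g => ?_
    by_cases hg : g ∈ R
    · have : g = 1 := by simpa [hR, hx1] using hg
      subst this; simp
    · have hgy : g * y⁻¹ ∈ R := (Subgroup.mul_mem_iff_of_index_two hidx).2 (by simp; tauto)
      have : g = y := by simpa [hR, hx1, mul_inv_eq_one] using hgy
      subst this
      by_cases hg' : ψ g ∈ R
      · have : ψ g = 1 := by simpa [hR, hx1] using hg'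
        exact absurd ((MulEquiv.map_eq_one_iff ψ).1 this) (fun h => hg (h ▸ one_mem R))
      · have hgy : ψ g * g⁻¹ ∈ R := (Subgroup.mul_mem_iff_of_index_two hidx).2 (by simp; tauto)
        simpa [hR, hx1, mul_inv_eq_one] using hgy
  have hψx : ψ x ∈ R := by
    by_contra hc
    have h1 := orderOf_dvd_of_pow_eq_one (hout _ hc)
    rw [MulEquiv.orderOf_eq, hx, Nat.pow_dvd_pow_iff_le_right (by norm_num)] at h1
    omega
  obtain ⟨j, hj⟩ := hψx
  have hj' : x ^ j = ψ x := hj
  have hiter : ∀ k : ℕ, (ψ ^ k) x = x ^ (j ^ k) := by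
    intro k; induction k with
    | zero => simp
    | succ k ih =>
      rw [pow_succ', MulAut.mul_apply, ih, map_zpow, ← hj', ← zpow_mul]; ring_nf
  have hju : ((j : ℤ) : ZMod (2 ^ n)) ^ m = 1 := by
    have h1 : x ^ (j ^ m) = x ^ (1 : ℤ) := by rw [← hiter, hψm, MulAut.one_apply, zpow_one]
    rw [zpow_eq_zpow_iff_modEq, hx, ← ZMod.intCast_eq_intCast_iff] at h1
    push_cast at h1; exact h1
  have hj1 : ((j : ℤ) : ZMod (2 ^ n)) = 1 := by
    have hu : IsUnit ((j : ℤ) : ZMod (2 ^ n)) :=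
      IsUnit.of_pow_eq_one hju (by rintro rfl; simp at hm)
    obtain ⟨u, hu⟩ := hu
    rw [← hu] at hju ⊢
    have h1 : u ^ m = 1 := Units.ext (by simpa using hju)
    have h2 : u ^ (2 ^ (n - 1)) = 1 := by
      have h3 := ZMod.pow_totient u
      rw [Nat.totient_prime_pow Nat.prime_two (by omega)] at h3
      simpa using h3
    have h3 := Nat.dvd_gcd (orderOf_dvd_of_pow_eq_one h1) (orderOf_dvd_of_pow_eq_one h2)
    have hg : Nat.gcd m (2 ^ (n - 1)) = 1 :=
      Nat.Coprime.pow_right _ ((Nat.Prime.coprime_iff_not_dvd Nat.prime_two).2 hm).symm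
    rw [hg, Nat.dvd_one, orderOf_eq_one_iff] at h3
    simp [h3]
  have hfix : ψ x = x := by
    rw [← hj']
    conv_rhs => rw [← zpow_one x]
    rw [zpow_eq_zpow_iff_modEq, hx, ← ZMod.intCast_eq_intCast_iff]
    simpa using hj1
  have hfixR : ∀ r ∈ R, ψ r = r := by
    rintro r ⟨i, rfl⟩; simp [hfix]
  have hψy : ψ y ∉ R := by
    intro hc
    have h1 := ψ.injective (hfixR _ hc)
    exact hy (h1 ▸ hc)
  have hr : ψ y * y⁻¹ ∈ R := (Subgroup.mul_mem_iff_of_index_two hidx).2 (by simp; tauto)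
  set r := ψ y * y⁻¹ with hrdef
  have hiter' : ∀ k : ℕ, (ψ ^ k) y = r ^ k * y := by
    intro k; induction k with
    | zero => simp
    | succ k ih =>
      rw [pow_succ', MulAut.mul_apply, ih, map_mul, map_pow, hfixR r hr,
        show ψ y = r * y by simp [hrdef], pow_succ, ← mul_assoc]
  have hrm : r ^ m = 1 := by simpa [hψm] using hiter' m
  have hr1 : r = 1 := by
    obtain ⟨i, hi⟩ := hr
    have hr2 : r ^ (2 ^ n) = 1 := by
      rw [← show x ^ i = r from hi, ← hx, ← zpow_natCast, ← zpow_mul, mul_comm, zpow_mul,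
        zpow_natCast, pow_orderOf_eq_one, one_zpow]
    have h3 := pow_gcd_eq_one.2 ⟨hrm, hr2⟩
    rwa [show Nat.gcd m (2 ^ n) = 1 from
      Nat.Coprime.pow_right _ ((Nat.Prime.coprime_iff_not_dvd Nat.prime_two).2 hm).symm,
      pow_one] at h3
  refine MulEquiv.ext fun g => ?_
  by_cases hg : g ∈ R
  · exact hfixR g hg
  · have hgy : g * y⁻¹ ∈ R := (Subgroup.mul_mem_iff_of_index_two hidx).2 (by simp; tauto)
    have hy' : ψ y = y := by simpa [hrdef, mul_inv_eq_one] using hr1
    have := hfixR _ hgy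
    rw [map_mul, map_inv, hy'] at this
    exact mul_right_cancel this

/-- The automorphism group of a dihedral 2-group of order at least 8, or of a quasi-dihedral (semidihedral) 2-group of order at least 16, is a 2-group. -/
theorem result {X : Type*} [Group X] [Finite X] (h2 : IsPGroup 2 X)
    (h : (∃ n : ℕ, 4 ≤ n ∧ Nonempty (X ≃* DihedralGroup n)) ∨ Cfsg.IsQuasiDihedral X) : IsPGroup 2 (MulAut X) := by
  rcases h with ⟨n, hn, ⟨e⟩⟩ | ⟨n, hn, hcard, x, y, hx, hy, hxy⟩
  · obtain ⟨a, ha⟩ := IsPGroup.iff_card.1 h2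
    rw [Nat.card_congr e.toEquiv, DihedralGroup.nat_card] at ha
    obtain ⟨b, rfl⟩ : ∃ b, a = b + 1 := ⟨a - 1, by
      rcases a with _ | a
      · simp at ha
      · omega⟩
    have hnb : n = 2 ^ b := by rw [pow_succ] at ha; omega
    have hx : orderOf (e.symm (DihedralGroup.r 1)) = 2 ^ b := by
      rw [MulEquiv.orderOf_eq, DihedralGroup.orderOf_r_one, hnb]
    have hr : ∀ g : X, g ∉ Subgroup.zpowers (e.symm (DihedralGroup.r 1)) →
        ∃ i, e g = DihedralGroup.sr i := by
      intro g hg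
      rcases hcase : e g with i | i
      · exfalso; apply hg
        refine ⟨(i.cast : ℤ), ?_⟩
        show e.symm (DihedralGroup.r 1) ^ (i.cast : ℤ) = g
        rw [← map_zpow, DihedralGroup.r_one_zpow, ZMod.intCast_zmod_cast, ← hcase,
          MulEquiv.symm_apply_apply]
      · exact ⟨i, rfl⟩
    refine aut_two_group (y := e.symm (DihedralGroup.sr 0)) hx ?_ ?_ ?_
    · rintro ⟨i, hi⟩
      have := congrArg e (show e.symm (DihedralGroup.r 1) ^ i = e.symm (DihedralGroup.sr 0) from hi)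
      simp at this
    · rw [Nat.card_congr e.toEquiv, DihedralGroup.nat_card, hnb, pow_succ']
    · intro g hg
      obtain ⟨i, hi⟩ := hr g hg
      apply e.injective
      have hb : 1 ≤ b := by
        rcases b with _ | b
        · simp at hnb; omega
        · omega
      obtain ⟨c, rfl⟩ : ∃ c, b = c + 1 := ⟨b - 1, by omega⟩
      have hc : 1 ≤ c := by
        rcases c with _ | c
        · simp at hnb; omega
        · omega
      obtain ⟨d, hd⟩ := dvd_pow_self 2 (by omega : c ≠ 0)
      rw [map_pow, map_one, hi, Nat.add_sub_cancel, hd, pow_mul]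
      simp [sq]
  · have hyy : y * y = 1 := by rw [← sq, ← hy]; exact pow_orderOf_eq_one y
    have hyR : y ∉ Subgroup.zpowers x := by
      rintro ⟨i, rfl⟩
      have hcomm : x ^ i * x * (x ^ i)⁻¹ = x := by group
      rw [hcomm] at hxy
      have h1 : x ^ 1 = x ^ (2 ^ (n - 1) - 1) := by simpa using hxy
      obtain ⟨c, rfl⟩ : ∃ c, n = c + 3 := ⟨n - 3, by omega⟩
      have h4 : 4 ≤ 2 ^ (c + 2) := by
        calc 4 = 2 ^ 2 := rfl
          _ ≤ _ := Nat.pow_le_pow_right (by norm_num) (by omega)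
      simp only [show c + 3 - 1 = c + 2 by omega] at h1
      have hlt : 2 ^ (c + 2) - 1 < 2 ^ (c + 3) := by
        rw [pow_succ 2 (c+2)]; omega
      have := pow_injOn_Iio_orderOf (x := x) (by rw [Set.mem_Iio, hx]; rw [pow_succ 2 (c+2)]; omega)
        (by rw [Set.mem_Iio, hx]; exact hlt) h1
      omega
    refine aut_two_group (y := y) hx hyR hcard ?_
    intro g hg
    have hidx : (Subgroup.zpowers x).index = 2 := by
      have h1 := Subgroup.card_mul_index (Subgroup.zpowers x)
      rw [Nat.card_zpowers, hx, hcard, pow_succ] at h1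
      exact mul_left_cancel₀ (pow_ne_zero n two_ne_zero) h1
    have hgy : g * y ∈ Subgroup.zpowers x :=
      (Subgroup.mul_mem_iff_of_index_two hidx).2 (by tauto)
    obtain ⟨i, hi⟩ := hgy
    have hi' : x ^ i = g * y := hi
    have hg2 : g ^ 2 = (x ^ (2 ^ (n - 1))) ^ i := by
      have hgi : g = x ^ i * y := by rw [hi', mul_assoc, hyy, mul_one]
      have hconj : y * x ^ i * y⁻¹ = (x ^ (2 ^ (n - 1) - 1)) ^ i := by rw [← conj_zpow, hxy]
      rw [sq, hgi]
      calc x ^ i * y * (x ^ i * y) = x ^ i * (y * x ^ i * y⁻¹) * (y * y) := by group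
        _ = (x ^ (2 ^ (n - 1))) ^ i := by
          rw [hconj, hyy, mul_one, ← zpow_natCast x, ← zpow_natCast x, ← zpow_mul, ← zpow_mul,
            ← zpow_add]
          congr 1
          rw [Nat.cast_sub Nat.one_le_two_pow]; push_cast; ring
    obtain ⟨c, rfl⟩ : ∃ c, n = c + 3 := ⟨n - 3, by omega⟩
    have h4 : g ^ 4 = 1 := by
      rw [show 4 = 2 * 2 from rfl, pow_mul, hg2, ← zpow_natCast ((x ^ _) ^ i), ← zpow_mul,
        mul_comm, zpow_mul, zpow_natCast, ← pow_mul]
      rw [show 2 ^ (c + 3 - 1) * 2 = orderOf x by rw [hx, ← pow_succ]; congr 1,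
        pow_orderOf_eq_one, one_zpow]
    rw [show c + 3 - 1 = 2 + c by omega, pow_add, show 2 ^ 2 = 4 from rfl, pow_mul, h4, one_pow]

end Cfsg.Agent.S3116
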