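import Cfsg.Statements.S0499
import Cfsg.Agent.Transfer.Frobenius

set_option autoImplicit false
open Cfsg
open scoped Pointwise

namespace Cfsg.Agent.S0499

/-- A non-abelian finite simple group of even order has order divisible by 12, 16 or 56. -/
theorem result {G : Type*} [Group G] [Finite G] [IsSimpleGroup G]
    (hG : ¬ IsMulCommutative G) (h2 : Even (Nat.card G)) :
    12 ∣ Nat.card G ∨ 16 ∣ Nat.card G ∨ 56 ∣ Nat.card G := by
  classical
  obtain ⟨S⟩ : Nonempty (Sylow 2 G) := inferInstance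
  have hno : ¬ Cfsg.HasNormalPComplement 2 G := by
    rintro ⟨P, N, hN, hc⟩
    rcases hN.eq_bot_or_eq_top with rfl | rfl
    · have htop : (P : Subgroup G) = ⊤ := by simpa using hc
      have hp : IsPGroup 2 G := by
        have := P.isPGroup'
        rw [htop] at this
        exact this.of_equiv Subgroup.topEquiv
      have := hp.isNilpotent
      exact hG ⟨⟨fun a b => (IsSimpleGroup.comm_iff_isSolvable.mpr inferInstance) a b⟩⟩
    · exact CfsgLib.Transfer.not_dvd_card_of_isComplement' hc (by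
        rw [Subgroup.card_top]; exact even_iff_two_dvd.mp h2)
  obtain ⟨Q, hQS, g, hg, hgp, hgQ⟩ : ∃ Q : Subgroup G, Q ≤ (S : Subgroup G) ∧
      ∃ g ∈ Subgroup.normalizer (Q : Set G), Nat.Coprime (orderOf g) 2 ∧
        g ∉ Subgroup.centralizer (Q : Set G) := by
    by_contra h
    push Not at h
    exact hno (CfsgLib.Transfer.hasNormalPComplement_of_local S h)
  obtain ⟨k, hk⟩ := IsPGroup.iff_card.1 (S.isPGroup'.to_le hQS)
  have hQdvd : 2 ^ k ∣ Nat.card G := hk ▸ Subgroup.card_subgroup_dvd_card Q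
  by_cases h4 : 4 ≤ k
  · exact Or.inr (Or.inl ((pow_dvd_pow 2 h4).trans hQdvd))
  push Not at h4
  -- the permutation of `Q` induced by `g`
  have hgmem : ∀ q ∈ Q, g * q * g⁻¹ ∈ Q := fun q hq => (Subgroup.mem_normalizer_iff.mp hg q).mp hq
  have hgmem' : ∀ q ∈ Q, g⁻¹ * q * g ∈ Q := fun q hq => by
    have := (Subgroup.mem_normalizer_iff.mp (inv_mem hg) q).mp hq
    simpa using this
  let σ : Equiv.Perm Q :=
    { toFun := fun q => ⟨g * q * g⁻¹, hgmem q q.2⟩
      invFun := fun q => ⟨g⁻¹ * q * g, hgmem' q q.2⟩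
      left_inv := fun q => Subtype.ext (by simp [mul_assoc])
      right_inv := fun q => Subtype.ext (by simp [mul_assoc]) }
  have hσpow : ∀ (m : ℕ) (q : Q), (((σ ^ m) q : Q) : G) = g ^ m * q * (g ^ m)⁻¹ := by
    intro m
    induction m with
    | zero => simp
    | succ m ih =>
      intro q
      rw [pow_succ', Equiv.Perm.mul_apply]
      show g * ((σ ^ m) q : G) * g⁻¹ = _
      rw [ih, pow_succ' g]
      group
  have hσg : orderOf σ ∣ orderOf g := by
    refine orderOf_dvd_of_pow_eq_one (Equiv.ext fun q => Subtype.ext ?_)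
    rw [hσpow, pow_orderOf_eq_one]
    simp
  have hσ1 : orderOf σ ≠ 1 := by
    intro h
    apply hgQ
    intro q hq
    have : ((σ ⟨q, hq⟩ : Q) : G) = q := by rw [orderOf_eq_one_iff.mp h]; rfl
    exact (mul_inv_eq_iff_eq_mul.mp this).symm
  have hk2 : 2 ≤ k := by
    by_contra hk1
    have hle : Nat.card Q ≤ 2 := by
      rw [hk]; interval_cases k <;> norm_num
    apply hσ1
    rw [orderOf_eq_one_iff]
    ext q
    by_contra hne
    have hq : q ≠ 1 := fun h => hne (by subst h; show ((σ 1 : Q) : G) = _; simp [σ])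
    have hσq : σ q ≠ 1 := fun h => hq (by
      have : g * (q : G) * g⁻¹ = 1 := congrArg Subtype.val h
      exact Subtype.ext (by simpa using conj_eq_one_iff.mp this))
    cases nonempty_fintype Q
    have h3 : ({1, q, σ q} : Finset Q).card ≤ Fintype.card Q := Finset.card_le_univ _
    rw [Finset.card_insert_of_notMem (by simp [Ne.symm hq, Ne.symm hσq]),
      Finset.card_insert_of_notMem (by simpa using fun h => hne (by rw [← h]; rfl)),
      Finset.card_singleton, ← Nat.card_eq_fintype_card] at h3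
    omega
  have h4dvd : 4 ∣ Nat.card G := (pow_dvd_pow 2 hk2).trans hQdvd
  obtain ⟨r, hr, hrσ⟩ := Nat.exists_prime_and_dvd hσ1
  have hrg : r ∣ Nat.card G := hrσ.trans (hσg.trans (orderOf_dvd_natCard g))
  have hr2 : r ≠ 2 := by
    rintro rfl
    exact absurd (hrσ.trans hσg) ((Nat.prime_two.coprime_iff_not_dvd).mp hgp.symm)
  by_cases hr3 : r = 3
  · subst hr3
    exact Or.inl (Nat.Coprime.mul_dvd_of_dvd_of_dvd (by norm_num : Nat.Coprime 4 3) h4dvd hrg)
  -- a power `τ` of `σ` of order `r`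
  set τ := σ ^ (orderOf σ / r) with hτdef
  have hτ : orderOf τ = r := orderOf_pow_orderOf_div (orderOf_pos σ).ne' hrσ
  have hQ8 : Nat.card Q ≤ 8 := by rw [hk]; interval_cases k <;> norm_num
  have hr8 : r ≤ 8 := by
    have h1 : r ∣ (Nat.card Q).factorial := by
      have := orderOf_dvd_natCard τ
      rwa [hτ, Nat.card_perm] at this
    exact (hr.dvd_factorial.mp h1).trans hQ8
  have := Fact.mk hr
  -- fixed points of `τ`
  let F : Subgroup Q := (Subgroup.centralizer ({g ^ (orderOf σ / r)} : Set G)).subgroupOf Q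
  have hF : ∀ q : Q, τ q = q ↔ q ∈ F := by
    intro q
    rw [Subgroup.mem_subgroupOf, Subgroup.mem_centralizer_singleton_iff, hτdef, Subtype.ext_iff,
      hσpow, mul_inv_eq_iff_eq_mul, eq_comm]
  have hFtop : Nat.card F ≠ Nat.card Q := by
    intro h
    have htop := Subgroup.eq_top_of_card_eq F h
    have : τ = 1 := Equiv.ext fun q => (hF q).mpr (htop ▸ Subgroup.mem_top q)
    rw [this, orderOf_one] at hτ
    exact hr.ne_one hτ.symm
  have hmod : Nat.card Q ≡ Nat.card F [MOD r] := by
    have hp : IsPGroup r (Subgroup.zpowers τ) :=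
      IsPGroup.of_card (n := 1) (by rw [Nat.card_zpowers, hτ, pow_one])
    refine (hp.card_modEq_card_fixedPoints Q).trans (congrArg (· % r) (Nat.card_congr ?_))
    refine Equiv.subtypeEquivRight fun q => ⟨fun h => (hF q).mp (h ⟨τ, Subgroup.mem_zpowers τ⟩), fun h => ?_⟩
    rintro ⟨τ', hτ'⟩
    obtain ⟨j, rfl⟩ := Subgroup.mem_zpowers_iff.mp hτ'
    exact Function.IsFixedPt.perm_zpow ((hF q).mpr h) j
  obtain ⟨j, hj⟩ : ∃ j ≤ k, Nat.card F = 2 ^ j :=
    (Nat.dvd_prime_pow Nat.prime_two).mp (hk ▸ Subgroup.card_subgroup_dvd_card F)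
  rw [hk, hj.2] at hmod
  rw [hk, hj.2] at hFtop
  have hjk := hj.1
  have hr5 : r = 5 ∨ r = 7 := by interval_cases r <;> first | omega | (norm_num at hr)
  rcases hr5 with rfl | rfl
  · exfalso
    interval_cases k <;> interval_cases j <;> first | omega | norm_num [Nat.ModEq] at hmod | norm_num at hFtop
  · refine Or.inr (Or.inr ?_)
    have hk3 : k = 3 := by
      interval_cases k <;> interval_cases j <;> first | rfl | exact absurd rfl hFtop | norm_num [Nat.ModEq] at hmod | norm_num at hFtop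
    subst hk3
    exact Nat.Coprime.mul_dvd_of_dvd_of_dvd (by norm_num : Nat.Coprime 8 7) hQdvd hrg

end Cfsg.Agent.S0499
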