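import Cfsg.Statements.S0493
import Cfsg.Agent.S0499
import Cfsg.Agent.Characters.Burnside
import Cfsg.Agent.Small.SylowArgs

set_option autoImplicit false
open Cfsg
open scoped Pointwise

namespace Cfsg.Agent.S0493

/-- A finite simple group of order at most 100 that is not cyclic has order 60. -/
theorem result {G : Type*} [Group G] [Finite G] [IsSimpleGroup G]
    (hG : ¬ IsCyclic G) (h : Nat.card G ≤ 100) : Nat.card G = 60 := by
  classical
  have hna : ¬ IsMulCommutative G := fun hc => hG (isCyclic_of_prime_card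
    (hp := ⟨CfsgLib.Small.card_prime_of_simple_comm hc⟩) rfl)
  have hns : ¬ Group.IsSolvable G := fun hs =>
    hna ⟨⟨fun a b => (IsSimpleGroup.comm_iff_isSolvable.mpr hs) a b⟩⟩
  have hev : Even (Nat.card G) := by
    by_contra hodd
    rw [Nat.not_even_iff_odd] at hodd
    -- an odd order at most 100 has at most two prime divisors
    have key : ∃ p q : ℕ, p.Prime ∧ q.Prime ∧ ∃ a b : ℕ, Nat.card G ∣ p ^ a * q ^ b := by
      revert hodd h
      have hpos : 0 < Nat.card G := Nat.card_pos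
      revert hpos
      generalize Nat.card G = n
      intro hpos hle hodd
      have hmem : n ∣ 3 ^ 4 * 5 ^ 2 ∨ n ∣ 3 ^ 4 * 7 ^ 2 ∨ n ∣ 5 ^ 2 * 7 ^ 2 ∨ n ∣ 3 ^ 4 * 11 ^ 1 ∨
          n ∣ 3 ^ 4 * 13 ^ 1 ∨ n ∣ 3 ^ 4 * 17 ^ 1 ∨ n ∣ 3 ^ 4 * 19 ^ 1 ∨ n ∣ 3 ^ 4 * 23 ^ 1 ∨
          n ∣ 3 ^ 4 * 29 ^ 1 ∨ n ∣ 3 ^ 4 * 31 ^ 1 ∨ n ∣ 5 ^ 2 * 11 ^ 1 ∨ n ∣ 5 ^ 2 * 13 ^ 1 ∨
          n ∣ 5 ^ 2 * 17 ^ 1 ∨ n ∣ 5 ^ 2 * 19 ^ 1 ∨ n ∣ 7 ^ 2 * 11 ^ 1 ∨ n ∣ 7 ^ 2 * 13 ^ 1 ∨
          n.Prime := by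
        obtain ⟨m, rfl⟩ := hodd
        have hm : m < 50 := by omega
        interval_cases m <;> norm_num
      rcases hmem with d | d | d | d | d | d | d | d | d | d | d | d | d | d | d | d | d <;>
        first | exact ⟨_, _, by norm_num, by norm_num, _, _, d⟩ |
          exact ⟨n, n, d, d, 1, 0, by simp⟩
    obtain ⟨p, q, hp, hq, a, b, hd⟩ := key
    exact hns (CfsgLib.Characters.isSolvable_of_card_eq_primePow_mul p q a b hp hq hd)
  have h12 := Cfsg.Agent.S0499.result hna hev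
  have hpaqb : ∀ p q a b : ℕ, p.Prime → q.Prime → Nat.card G ∣ p ^ a * q ^ b → False :=
    fun p q a b hp hq hd => hns (CfsgLib.Characters.isSolvable_of_card_eq_primePow_mul p q a b hp hq hd)
  by_contra hne
  have h84 : Nat.card G = 84 ∨ ∃ p q a b : ℕ, p.Prime ∧ q.Prime ∧ Nat.card G ∣ p ^ a * q ^ b := by
    revert hne h h12
    have hpos : 0 < Nat.card G := Nat.card_pos
    revert hpos
    generalize Nat.card G = n
    intro hpos hle h12 hne
    have hn : n ∈ ({12, 16, 24, 32, 36, 48, 56, 64, 72, 80, 84, 96} : Finset ℕ) := by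
      simp only [Finset.mem_insert, Finset.mem_singleton]
      omega
    simp only [Finset.mem_insert, Finset.mem_singleton] at hn
    rcases hn with rfl | rfl | rfl | rfl | rfl | rfl | rfl | rfl | rfl | rfl | rfl | rfl <;>
      first | exact Or.inl rfl |
        (refine Or.inr ⟨2, 3, 6, 2, ?_, ?_, ?_⟩ <;> norm_num; done) |
        (refine Or.inr ⟨2, 7, 6, 1, ?_, ?_, ?_⟩ <;> norm_num; done) |
        (refine Or.inr ⟨2, 5, 6, 1, ?_, ?_, ?_⟩ <;> norm_num; done)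
  rcases h84 with h84 | ⟨p, q, a, b, hp, hq, hd⟩
  · have : Fact (Nat.Prime 7) := ⟨by norm_num⟩
    have := CfsgLib.Small.card_sylow_mem hna (p := 7) (k := 1) (m := 12) (by rw [h84]; norm_num)
      (by norm_num) (by norm_num)
    rw [show (Nat.divisors 12).filter (fun d => d % 7 = 1 ∧ d ≠ 1) = (∅ : Finset ℕ) by decide] at this
    simp at this
  · exact hpaqb p q a b hp hq hd

end Cfsg.Agent.S0493
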