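import Mathlib
import Cfsg.Statements.S0126
import Cfsg.Agent.OddOrder.BG4.Basic
import Cfsg.Agent.IsolatedP.RankOne

set_option autoImplicit false
open Cfsg

namespace Cfsg.Agent.S0126

/-- For odd p, every non-cyclic p-group contains a normal elementary abelian subgroup of order p^2. -/
theorem result {R : Type*} [Group R] [Finite R] {p : ℕ} [Fact p.Prime] (hp : p ≠ 2) (hR : IsPGroup p R) (hnc : ¬ IsCyclic R) : ∃ A : Subgroup R, A.Normal ∧ Cfsg.IsElementaryAbelian p A ∧ Nat.card A = p ^ 2 := by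
  obtain ⟨B, -, hBn, hB, hmax⟩ := CfsgLib.OddOrder.BG4.exists_maximalNormalElem (R := R) (B₀ := ⊥)
    (CfsgLib.OddOrder.BG4.isElementaryAbelian_bot (p := p))
  haveI := hBn
  by_cases hc : p ^ 2 ≤ Nat.card ↥B
  · obtain ⟨A, hA, hAB, hcard⟩ := CfsgLib.OddOrder.BG4.exists_normal_card_le hR B 2 hc
    refine ⟨A, hA, ⟨⟨⟨fun a b => Subtype.ext ?_⟩⟩, fun a ha => hB.2 a (hAB ha)⟩, hcard⟩
    have := congrArg (fun z : ↥B => (z : R)) (hB.1.is_comm.comm ⟨a.1, hAB a.2⟩ ⟨b.1, hAB b.2⟩); exact this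
  · exfalso
    apply hnc
    push_neg at hc
    obtain ⟨n, hn⟩ := CfsgLib.OddOrder.BG4.card_elementary_eq_pow (A := B) hB.2
    have hn1 : n ≤ 1 := by
      rw [hn] at hc
      have := (Nat.pow_lt_pow_iff_right (Fact.out : p.Prime).one_lt).1 hc
      omega
    have hBc : B ≤ Subgroup.center R := by
      rcases Nat.le_one_iff_eq_zero_or_eq_one.1 hn1 with rfl | rfl
      · rw [pow_zero] at hn
        rw [Subgroup.eq_bot_of_card_eq B hn]
        exact bot_le
      · rw [pow_one] at hn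
        exact CfsgLib.OddOrder.BG4.le_center_of_normal_card_prime hR hn
    refine CfsgLib.IsolatedP.isCyclic_of_card_pow_eq_one_le_prime p hp _ R rfl hR ?_
    refine le_trans (Nat.card_le_card_of_injective (fun y : {y : R // y ^ p = 1} => (⟨y.1,
      CfsgLib.OddOrder.BG4.mem_of_commute_maximalNormalElem hp hR hB hmax
        (fun b hb => (Subgroup.mem_center_iff.1 (hBc hb) y.1).symm) y.2⟩ : ↥B))
      fun a b hab => Subtype.ext (congrArg (fun z : ↥B => z.1) hab)) ?_
    rw [hn]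
    calc p ^ n ≤ p ^ 1 := Nat.pow_le_pow_right (Fact.out : p.Prime).pos hn1
      _ = p := pow_one p

end Cfsg.Agent.S0126
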