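import Cfsg.Statements.S0107
import Mathlib.GroupTheory.IndexNormal
import Cfsg.Agent.Transfer.Residual
import Cfsg.Agent.Small.ThompsonTransfer

set_option autoImplicit false
open Cfsg

namespace Cfsg.Agent.S0107

theorem unique_involution {G : Type*} [Group G] [Finite G] (c x y : G)
    (hx : x ∈ Subgroup.zpowers c) (hy : y ∈ Subgroup.zpowers c)
    (ox : orderOf x = 2) (oy : orderOf y = 2) : x = y := by
  classical
  haveI := Fintype.ofFinite (Subgroup.zpowers c)
  have h := IsCyclic.card_pow_eq_one_le (α := Subgroup.zpowers c) (n := 2) two_pos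
  by_contra hne
  have h1 : x ≠ 1 := by rintro rfl; simp at ox
  have h2 : y ≠ 1 := by rintro rfl; simp at oy
  have hsub : ({⟨1, one_mem _⟩, ⟨x, hx⟩, ⟨y, hy⟩} : Finset (Subgroup.zpowers c)) ⊆
      Finset.univ.filter (fun a => a ^ 2 = 1) := by
    intro a ha
    simp only [Finset.mem_insert, Finset.mem_singleton] at ha
    refine Finset.mem_filter.2 ⟨Finset.mem_univ _, Subtype.ext ?_⟩
    rcases ha with rfl | rfl | rfl
    · simp
    · simpa using ox ▸ pow_orderOf_eq_one x
    · simpa using oy ▸ pow_orderOf_eq_one y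
  have := (Finset.card_le_card hsub).trans h
  rw [Finset.card_insert_of_notMem (by simp [Subtype.ext_iff, h1.symm, h2.symm]),
    Finset.card_insert_of_notMem (by simp [Subtype.ext_iff, hne])] at this
  simp at this

theorem one_class {G : Type*} [Group G] [Finite G] (T : Sylow 2 G) (n : ℕ)
    (e : (T : Subgroup G) ≃* DihedralGroup (2 ^ n)) (hO : Cfsg.pResidual 2 G = ⊤) :
    ∃ z : G, ∀ u : G, orderOf u = 2 → ∃ g : G, g⁻¹ * u * g = z := by
  haveI : Fact (Nat.Prime 2) := ⟨Nat.prime_two⟩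
  have hno : ∀ H : Subgroup G, H.index ≠ 2 := fun H hH => by
    haveI := Subgroup.normal_of_index_eq_two hH
    have hq : IsPGroup 2 (G ⧸ H) := IsPGroup.of_card (n := 1) (by
      rw [← Subgroup.index_eq_card, hH]; norm_num)
    have := CfsgLib.Transfer.pResidual_le_ker (QuotientGroup.mk' H) hq
    rw [hO, QuotientGroup.ker_mk', top_le_iff] at this
    simp [this] at hH
  let M0 : Subgroup (T : Subgroup G) :=
    Subgroup.zpowers (e.symm (DihedralGroup.r 1))
  let M : Subgroup G := M0.map (T : Subgroup G).subtype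
  have hMT : M ≤ T := Subgroup.map_subtype_le _
  have hrel : M.relIndex T = 2 := by
    have h1 : Nat.card M0 * M0.index = Nat.card (DihedralGroup (2 ^ n)) := by
      rw [Subgroup.card_mul_index, Nat.card_congr e.toEquiv]
    rw [DihedralGroup.nat_card, Nat.card_zpowers, MulEquiv.orderOf_eq,
      DihedralGroup.orderOf_r_one, mul_comm 2] at h1
    rw [Subgroup.relIndex, Subgroup.subgroupOf,
      Subgroup.comap_map_eq_self_of_injective (Subgroup.subtype_injective _)]
    exact Nat.eq_of_mul_eq_mul_left (by positivity) h1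
  have hM : M = Subgroup.zpowers ((e.symm (DihedralGroup.r 1) : (T : Subgroup G)) : G) :=
    MonoidHom.map_zpowers _ _
  by_cases hex : ∃ u : G, orderOf u = 2
  · obtain ⟨u, hu⟩ := hex
    obtain ⟨g, hg⟩ := CfsgLib.Small.thompson_transfer_sylow hno T M hMT hrel hu
    refine ⟨g⁻¹ * u * g, fun v hv => ?_⟩
    obtain ⟨h, hh⟩ := CfsgLib.Small.thompson_transfer_sylow hno T M hMT hrel hv
    have hord : ∀ a b : G, orderOf (b⁻¹ * a * b) = orderOf a := fun a b => by
      simpa using MulEquiv.orderOf_eq (MulAut.conj b⁻¹) a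
    exact ⟨h, unique_involution _ _ _ (hM ▸ hh) (hM ▸ hg) ((hord v h).trans hv)
      ((hord u g).trans hu)⟩
  · exact ⟨1, fun u hu => absurd ⟨u, hu⟩ hex⟩

/-- A finite group with no nontrivial 2-group quotient and dihedral Sylow 2-subgroups of order at least 8 has a single class of involutions. -/
theorem result {G : Type*} [Group G] [Finite G] (T : Sylow 2 G) (n : ℕ) (hn : 2 ≤ n) (hT : Nonempty ((T : Subgroup G) ≃* DihedralGroup (2 ^ n))) (hO : Cfsg.pResidual 2 G = ⊤) (x y : G) (hx : orderOf x = 2) (hy : orderOf y = 2) : ∃ g : G, g * x * g⁻¹ = y := by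
  obtain ⟨e⟩ := hT
  obtain ⟨z, hz⟩ := one_class T n e hO
  obtain ⟨a, ha⟩ := hz x hx
  obtain ⟨b, hb⟩ := hz y hy
  refine ⟨b * a⁻¹, ?_⟩
  calc b * a⁻¹ * x * (b * a⁻¹)⁻¹ = b * (a⁻¹ * x * a) * b⁻¹ := by group
    _ = b * (b⁻¹ * y * b) * b⁻¹ := by rw [ha, hb]
    _ = y := by group

end Cfsg.Agent.S0107
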