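import Cfsg.Statements.S0984
import Cfsg.Agent.Classification.AltSevenOrder.Generators

set_option autoImplicit false
open Cfsg

namespace Cfsg.Agent.S0984

/-- A simple group of order 2520 is isomorphic to the alternating group of degree 7. -/
theorem result {G : Type*} [Group G] [Finite G] [IsSimpleGroup G] (h : Nat.card G = 2520) : Nonempty (G ≃* alternatingGroup (Fin 7)) := by
  classical
  have hG : ¬ IsMulCommutative G := CfsgLib.Small.not_comm_of_card h (by norm_num)
  obtain ⟨H, hH⟩ := CfsgLib.Classification.AltSevenOrder.exists_index_seven hG h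
  have htop : H ≠ ⊤ := fun e => by
    rw [e, Subgroup.index_top] at hH
    omega
  have e : G ⧸ H ≃ Fin 7 := Finite.equivFinOfCardEq (by rw [← Subgroup.index_eq_card, hH])
  let f : G →* Equiv.Perm (Fin 7) :=
    (Equiv.permCongrHom e).toMonoidHom.comp (MulAction.toPermHom G (G ⧸ H))
  have hf : Function.Injective f :=
    (Equiv.permCongrHom e).injective.comp (CfsgLib.Small.toPermHom_coset_injective htop)
  have hc : Nat.card f.range = 2520 := by
    rw [← Nat.card_congr (MonoidHom.ofInjective hf).toEquiv, h]
  have hidx : f.range.index = 2 := by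
    have h1 := f.range.card_mul_index
    rw [hc, Nat.card_perm, Nat.card_eq_fintype_card, Fintype.card_fin] at h1
    norm_num [Nat.factorial] at h1
    omega
  exact ⟨(MonoidHom.ofInjective hf).trans
    (MulEquiv.subgroupCongr (Equiv.Perm.eq_alternatingGroup_of_index_eq_two hidx))⟩

end Cfsg.Agent.S0984
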