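import Cfsg.Statements.S0007
import Mathlib.GroupTheory.Complement

set_option autoImplicit false
open Cfsg

namespace Cfsg.Agent.S0007

/-- Subgroups of coprime index: the intersection has index equal to the product of the indices, and every element is a product of an element of the first subgroup and an element of the second. -/
theorem result {G : Type*} [Group G] [Finite G] (H K : Subgroup G)
    (h : H.index.Coprime K.index) :
    (H ⊓ K).index = H.index * K.index ∧ ∀ g : G, ∃ x ∈ H, ∃ y ∈ K, g = x * y := by
  have hK0 : 0 < Nat.card K := Nat.card_pos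
  have e1 : (H ⊓ K).index = H.index * K.index := by
    have h1 : H.index ∣ (H ⊓ K).index := Subgroup.index_dvd_of_le inf_le_left
    have h2 : K.index ∣ (H ⊓ K).index := Subgroup.index_dvd_of_le inf_le_right
    exact le_antisymm Subgroup.index_inf_le
      (Nat.le_of_dvd (Nat.pos_of_ne_zero Subgroup.index_ne_zero_of_finite)
        (h.mul_dvd_of_dvd_of_dvd h1 h2))
  refine ⟨e1, ?_⟩
  -- the orbit of the coset `K` under `H` is everything
  have e2 : (K.subgroupOf H).index = K.index := by
    have h1 := Subgroup.relIndex_mul_index (inf_le_left : H ⊓ K ≤ H)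
    rw [e1, Subgroup.inf_relIndex_left, mul_comm H.index K.index] at h1
    exact Nat.eq_of_mul_eq_mul_right (Nat.pos_of_ne_zero Subgroup.index_ne_zero_of_finite) h1
  let f : H ⧸ K.subgroupOf H → G ⧸ K := Quotient.map' Subtype.val (fun a b hab => by
    rw [QuotientGroup.leftRel_apply] at hab ⊢
    exact hab)
  have hf : Function.Injective f := by
    rintro ⟨a⟩ ⟨b⟩ hab
    refine Quotient.sound ?_
    have h := Quotient.exact hab
    change (QuotientGroup.leftRel K) (a : G) (b : G) at h
    change (QuotientGroup.leftRel (K.subgroupOf H)) a b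
    rw [QuotientGroup.leftRel_apply] at h ⊢
    exact h
  have hbij : Function.Bijective f := (Nat.bijective_iff_injective_and_card f).mpr
    ⟨hf, by rw [← Subgroup.index_eq_card, ← Subgroup.index_eq_card, e2]⟩
  intro g
  obtain ⟨⟨a⟩, ha⟩ := hbij.2 (g : G ⧸ K)
  have ha' : (a : G)⁻¹ * g ∈ K := QuotientGroup.eq.mp ha
  exact ⟨a, a.2, _, ha', (mul_inv_cancel_left _ _).symm⟩

end Cfsg.Agent.S0007
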