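import Cfsg.Statements.S0949
import Cfsg.Agent.BlocksLocal.HomocyclicSylow

set_option autoImplicit false
open Cfsg CfsgLib.Blocks CfsgLib.BlocksLocal

namespace Cfsg.Agent.S0949

/-- Let the finite group G have a Sylow 2-subgroup P isomorphic to Z/2^m × Z/2^m with m ≥ 2, and suppose G has no nontrivial normal subgroup of odd order. Then P is normal in G, C_G(P) = P, and the index of P is 1 or 3. -/
theorem result {G : Type*} [Group G] [Finite G] (P : Sylow 2 G) (m : ℕ) (hm : 2 ≤ m) (e : (P : Subgroup G) ≃* Multiplicative (ZMod (2 ^ m) × ZMod (2 ^ m))) (hO : ∀ N : Subgroup G, N.Normal → Odd (Nat.card N) → N = ⊥) : (P : Subgroup G).Normal ∧ Subgroup.centralizer (P : Set G) = (P : Subgroup G) ∧ ((P : Subgroup G).index = 1 ∨ (P : Subgroup G).index = 3) := by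
  haveI : Fact (Nat.Prime 2) := ⟨Nat.prime_two⟩
  have hn : (P : Subgroup G).Normal :=
    HomocyclicSylow.normal_of_homocyclic _ G P m hm e hO (Nat.lt_succ_self _)
  set C := Subgroup.centralizer ((P : Subgroup G) : Set G) with hC
  have hPC : (P : Subgroup G) ≤ C := le_centralizer_of_homocyclic P e
  let P' : Sylow 2 C := P.subtype hPC
  have hN : Subgroup.normalizer ((P' : Subgroup C) : Set C) ≤
      Subgroup.centralizer ((P' : Subgroup C) : Set C) := fun c _ => by
    rw [Sylow.coe_subtype]
    exact Subgroup.mem_centralizer_iff.2 fun u hu =>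
      Subtype.ext (Subgroup.mem_centralizer_iff.1 c.2 (u : G) hu)
  have h := HomocyclicSylow.index_pPrimeCore P' hN
  rw [HomocyclicSylow.eq_bot_of_normal_odd hO C (Cfsg.pPrimeCore 2 C) inferInstance
      (Nat.coprime_two_right.1 (CfsgLib.PLocal.coprime_card_pPrimeCore 2 C)),
    Subgroup.index_bot, Sylow.coe_subtype,
    Nat.card_congr (Subgroup.subgroupOfEquivOfLe hPC).toEquiv] at h
  have hCP : C = (P : Subgroup G) := (Subgroup.eq_of_le_of_card_ge hPC h.le).symm
  refine ⟨hn, hCP, ?_⟩
  rcases inertial_dichotomy P e with h1 | ⟨h3, -⟩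
  · left
    rwa [Subgroup.normalizer_eq_top, Subgroup.relIndex_top_right, ← hC, hCP] at h1
  · right
    rwa [Subgroup.normalizer_eq_top, Subgroup.relIndex_top_right, ← hC, hCP] at h3

end Cfsg.Agent.S0949
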