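import Cfsg.Statements.S0268
import Cfsg.Agent.Linear.Basic

set_option autoImplicit false
open Cfsg

namespace Cfsg.Agent.S0268

/-- For q odd, -1 is the unique involution of SL_2(q). -/
theorem result {F : Type*} [Field F] [Fintype F] (hF : Odd (Fintype.card F)) (g : Matrix.SpecialLinearGroup (Fin 2) F) (h1 : g ≠ 1) (h2 : g * g = 1) : (g : Matrix (Fin 2) (Fin 2) F) = -1 := by
  have hne : (2 : F) ≠ 0 := by
    intro h
    have hc : ringChar F = 2 := by
      have := (ringChar.spec F 2).1 (by exact_mod_cast h)
      exact ((Nat.dvd_prime Nat.prime_two).1 this).resolve_left CharP.ringChar_ne_one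
    have := FiniteField.even_card_iff_char_two.1 hc
    rw [Nat.odd_iff] at hF
    omega
  have hinv : g⁻¹ = g := inv_eq_of_mul_eq_one_right h2
  have hm := congrArg Subtype.val hinv
  rw [Matrix.SpecialLinearGroup.coe_inv, Matrix.adjugate_fin_two] at hm
  have e00 := congrFun (congrFun hm 0) 0
  have e01 := congrFun (congrFun hm 0) 1
  have e10 := congrFun (congrFun hm 1) 0
  simp only [Matrix.of_apply, Matrix.cons_val_zero, Matrix.cons_val_one, Matrix.cons_val',
    Matrix.empty_val', Matrix.cons_val_fin_one] at e00 e01 e10
  have b0 : g 0 1 = 0 := mul_left_cancel₀ hne (by linear_combination -e01)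
  have c0 : g 1 0 = 0 := mul_left_cancel₀ hne (by linear_combination -e10)
  have hd : g 0 0 * g 1 1 - g 0 1 * g 1 0 = 1 := by
    rw [← Matrix.det_fin_two, g.2]
  rw [b0, c0, e00, mul_zero, sub_zero] at hd
  rcases mul_self_eq_one_iff.1 hd with ha | ha
  · refine absurd ?_ h1
    ext i j
    fin_cases i <;> fin_cases j
    · exact ha
    · simpa using b0
    · simpa using c0
    · simpa [e00] using ha
  · ext i j
    fin_cases i <;> fin_cases j
    · simpa using ha
    · simpa using b0
    · simpa using c0
    · simpa [e00] using ha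

end Cfsg.Agent.S0268
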