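import Cfsg.Statements.S3836


set_option autoImplicit false
open Cfsg

namespace Cfsg.Agent.S3836

/-- Let G be a finite group that is p-stable in the normalizer form: for every p-subgroup Q and every x ∈ N_G(Q) with [Q, x, x] = 1, the image of x in N_G(Q)/C_G(Q) lies in O_p(N_G(Q)/C_G(Q)). Then every subgroup of G is p-stable in the same sense. -/
theorem result {G : Type*} [Group G] [Finite G] {p : ℕ} [Fact p.Prime] (hst : Cfsg.IsNormalizerPStable p G) (H : Subgroup G) : Cfsg.IsNormalizerPStable p ↥H := by
  intro P hP g hg hquad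
  let P' : Subgroup G := P.map H.subtype
  have hP' : IsPGroup p P' := hP.map H.subtype
  have hg' : (g : G) ∈ Subgroup.normalizer (P' : Set G) :=
    Subgroup.le_normalizer_map H.subtype ⟨g, hg, rfl⟩
  have hquad' : ⁅⁅P', Subgroup.zpowers (g : G)⁆, Subgroup.zpowers (g : G)⁆ = ⊥ := by
    have hz : (Subgroup.zpowers g).map H.subtype = Subgroup.zpowers (g : G) :=
      MonoidHom.map_zpowers _ _
    rw [← hz, ← Subgroup.map_commutator, ← Subgroup.map_commutator, hquad, Subgroup.map_bot]
  have hmem := hst P' hP' (g : G) hg' hquad'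
  let ι : ↥(Subgroup.normalizer (P : Set H)) →* ↥(Subgroup.normalizer (P' : Set G)) :=
    (H.subtype.comp (Subgroup.normalizer (P : Set H)).subtype).codRestrict _
      (fun a => Subgroup.le_normalizer_map H.subtype ⟨a, a.2, rfl⟩)
  have key : ∀ a, ι a ∈ (Subgroup.centralizer (P' : Set G)).subgroupOf _ ↔
      a ∈ (Subgroup.centralizer (P : Set H)).subgroupOf _ := by
    intro a
    simp only [Subgroup.mem_subgroupOf, Subgroup.mem_centralizer_iff]
    constructor
    · intro h y hy
      exact Subtype.ext (h (y : G) ⟨y, hy, rfl⟩)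
    · rintro h _ ⟨y, hy, rfl⟩
      exact congrArg Subtype.val (h y hy)
  haveI : ((Subgroup.centralizer (P : Set H)).subgroupOf
      (Subgroup.normalizer (P : Set H))).Normal := inferInstance
  let φ := QuotientGroup.map ((Subgroup.centralizer (P : Set H)).subgroupOf _)
    ((Subgroup.centralizer (P' : Set G)).subgroupOf _) ι (fun a ha => Subgroup.mem_comap.mpr ((key a).mpr ha))
  have hinj : Function.Injective φ := by
    rw [injective_iff_map_eq_one]
    intro q hq
    obtain ⟨a, rfl⟩ := QuotientGroup.mk_surjective q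
    exact (QuotientGroup.eq_one_iff a).mpr ((key a).mp ((QuotientGroup.eq_one_iff _).mp hq))
  have hn : (Cfsg.pCore p (↥(Subgroup.normalizer (P' : Set G)) ⧸
      (Subgroup.centralizer (P' : Set G)).subgroupOf _)).Normal := by
    rw [Cfsg.pCore, sSup_eq_iSup']
    haveI := fun N : {N : Subgroup (↥(Subgroup.normalizer (P' : Set G)) ⧸
      (Subgroup.centralizer (P' : Set G)).subgroupOf _) | N.Normal ∧ IsPGroup p N} => N.2.1
    exact Subgroup.iSup_normal _
  have hpg : IsPGroup p (Cfsg.pCore p (↥(Subgroup.normalizer (P' : Set G)) ⧸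
      (Subgroup.centralizer (P' : Set G)).subgroupOf _)) :=
    Sylow.sSup_of_normal _ (fun _ h => h.2) (fun _ h => h.1)
  have hle : (Cfsg.pCore p (↥(Subgroup.normalizer (P' : Set G)) ⧸
      (Subgroup.centralizer (P' : Set G)).subgroupOf _)).comap φ ≤
      Cfsg.pCore p (↥(Subgroup.normalizer (P : Set H)) ⧸
      (Subgroup.centralizer (P : Set H)).subgroupOf _) :=
    le_sSup ⟨hn.comap φ, hpg.comap_of_injective φ hinj⟩
  exact hle hmem

end Cfsg.Agent.S3836
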