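import Cfsg.Statements.S0252
import Cfsg.Agent.Linear.SmallIsoA

set_option autoImplicit false
open Cfsg

namespace Cfsg.Agent.S0252

/-- PSL_2(4) is isomorphic to A_5. -/
theorem result {F : Type*} [Field F] [Fintype F] (hF : Fintype.card F = 4) : Nonempty (Matrix.ProjectiveSpecialLinearGroup (Fin 2) F ≃* alternatingGroup (Fin 5)) := by
  open CfsgLib.Linear in
  exact psl_equiv_of_check (K := GF4) (by rw [hF]; decide +kernel) (altRep 5) (altRep_injective 5) psl24Gens
    psl24Cert (nG := 60) (nH := 60) (z := 1) (by rw [card_GL_two]; decide +kernel) (by decide +kernel) (by norm_num) rfl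
    (card_alternatingGroup' rfl) psl24_check

end Cfsg.Agent.S0252
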