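import Cfsg.Statements.S0251
import Cfsg.Agent.Linear.SmallIsoA

set_option autoImplicit false
open Cfsg

namespace Cfsg.Agent.S0251

/-- PSL_2(3) is isomorphic to A_4. -/
theorem result {F : Type*} [Field F] [Fintype F] (hF : Fintype.card F = 3) : Nonempty (Matrix.ProjectiveSpecialLinearGroup (Fin 2) F ≃* alternatingGroup (Fin 4)) := by
  open CfsgLib.Linear in
  exact psl_equiv_of_check (K := ZMod 3) (by rw [hF]; decide +kernel) (altRep 4) (altRep_injective 4) psl23Gens
    psl23Cert (nG := 24) (nH := 12) (z := 2) (by rw [card_GL_two]; decide +kernel) (by decide +kernel) (by norm_num) rfl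
    (card_alternatingGroup' rfl) psl23_check

end Cfsg.Agent.S0251
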