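import Cfsg.Statements.S4733
import Cfsg.Agent.Blocks.Height
import Cfsg.Agent.Blocks.Sections
import Cfsg.Agent.Characters.Linear

set_option autoImplicit false
set_option linter.style.haveILetI false
open Cfsg

namespace Cfsg.Agent.S4733

/-- Let p be a prime, M a maximal ideal of the algebraic integers containing p, and B a p-block of the finite group G with k irreducible characters and p-regular rank l (the number of irreducible Brauer characters). Then l ≤ k, and the following are equivalent: B has defect 0; k = l = 1; k = l. -/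
theorem result {G : Type*} [Group G] [Finite G] (p : ℕ) [Fact p.Prime] (M : Ideal Cfsg.AlgInt) (hM : Cfsg.IsPModular p M) (B : Set (Cfsg.IrrCharacter G)) (hB : Cfsg.IsPBlock M B) : Cfsg.blockRank p B ≤ Nat.card B ∧ (Cfsg.blockDefect p B = 0 ↔ (Nat.card B = 1 ∧ Cfsg.blockRank p B = 1)) ∧ (Cfsg.blockDefect p B = 0 ↔ Nat.card B = Cfsg.blockRank p B) := by
  classical
  letI : Fintype G := Fintype.ofFinite G
  haveI := CfsgLib.Blocks.IsPModular.isPrime hM
  have hp : p.Prime := Fact.out
  letI : Fintype B := Fintype.ofFinite B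
  set f : B → (G → ℂ) := fun χ => Cfsg.pRegularPart p ((χ : Cfsg.IrrCharacter G) : G → ℂ) with hf
  have hrank : Cfsg.blockRank p B = (Set.range f).finrank ℂ := by
    rw [Cfsg.blockRank, Set.finrank, hf, Set.image_eq_range]
  have hle : Cfsg.blockRank p B ≤ Nat.card B := by
    rw [hrank, Nat.card_eq_fintype_card]
    exact finrank_range_le_card f
  obtain ⟨D, hD⟩ := CfsgLib.Blocks.exists_isDefectGroup (p := p) hB
  obtain ⟨χ₀, hχ₀⟩ := CfsgLib.Blocks.isPBlock_nonempty hB
  have hdz : Cfsg.blockDefect p B = 0 → Nat.card B = 1 ∧ Cfsg.blockRank p B = 1 := by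
    intro h0
    have h1 := CfsgLib.Blocks.defect_add_degree_ge hM hB hD hχ₀
    rw [← CfsgLib.Blocks.blockDefect_eq hM hB hD, h0, add_zero] at h1
    have hd := CfsgLib.Blocks.charDegree_dvd_card χ₀
    have hpos : 0 < Nat.card G / Cfsg.charDegree (χ₀ : G → ℂ) :=
      Nat.div_pos (Nat.le_of_dvd Nat.card_pos hd)
        (Nat.pos_of_ne_zero (CfsgLib.Blocks.charDegree_ne_zero χ₀))
    have hnd : ¬ p ∣ Nat.card G / Cfsg.charDegree (χ₀ : G → ℂ) := by
      intro h
      have h2 := hp.factorization_pos_of_dvd hpos.ne' h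
      rw [Nat.factorization_div hd, Finsupp.tsub_apply] at h2
      omega
    have hBs : B = {χ₀} :=
      (CfsgLib.Blocks.eq_blockOf_of_mem hB hχ₀).trans
        ((CfsgLib.Blocks.defect_zero_iff hM χ₀).1 hnd)
    refine ⟨by rw [hBs]; simp, ?_⟩
    rw [Cfsg.blockRank, hBs, Set.image_singleton, finrank_span_singleton]
    intro h
    have := congrFun h 1
    simp [Cfsg.pRegularPart, Cfsg.IsPRegular, hp.ne_one,
      CfsgLib.Characters.irr_one_ne_zero χ₀.2] at this
  have hback : Nat.card B = Cfsg.blockRank p B → Cfsg.blockDefect p B = 0 := by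
    intro hk
    have hli : LinearIndependent ℂ f :=
      linearIndependent_iff_card_eq_finrank_span.2
        (by rw [← hrank, ← hk, Nat.card_eq_fintype_card])
    have hvan : ∀ y : G, p ∣ orderOf y → ∀ χ ∈ B, (χ : G → ℂ) y = 0 := by
      intro y hy
      have hrel : ∑ χ : B, ((χ : Cfsg.IrrCharacter G) : G → ℂ) y⁻¹ • f χ = 0 := by
        funext g
        rw [Finset.sum_apply, Pi.zero_apply]
        by_cases hg : p ∣ orderOf g
        · refine Finset.sum_eq_zero fun χ _ => ?_
          simp [hf, Cfsg.pRegularPart, Cfsg.IsPRegular, hg]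
        · obtain ⟨x, hx⟩ := CfsgLib.Blocks.exists_isPPart hp y
          have hx1 : x ≠ 1 := by
            rintro rfl
            obtain ⟨s, hs, -, -, hso⟩ := hx
            rw [one_mul] at hs
            exact hso (hs ▸ hy)
          have hg1 : Cfsg.IsPPart p g (1 : G) :=
            ⟨g, one_mul g, Commute.one_left g, ⟨0, by simp⟩, hg⟩
          have h := CfsgLib.Blocks.sum_block_mul_inv_eq_zero hM hg1 hx
            (fun hc => hx1 (isConj_one_right.1 hc)) hB
          rw [← Finset.sum_filter] at h
          refine Eq.trans ?_ h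
          rw [Finset.sum_subtype (p := (· ∈ B)) (Finset.univ.filter (· ∈ B)) (by simp)]
          refine Finset.sum_congr rfl fun χ _ => ?_
          simp [hf, Cfsg.pRegularPart, Cfsg.IsPRegular, hg, mul_comm]
      intro χ hχ
      have h0 := (Fintype.linearIndependent_iff.1 hli) _ hrel ⟨χ, hχ⟩
      dsimp only at h0
      rw [CfsgLib.Characters.character_inv (CfsgLib.Characters.isCharacter_of_isIrr χ.2),
        map_eq_zero] at h0
      exact h0
    have hdeg : ∀ χ ∈ B, (Nat.card G).factorization p ≤
        (Cfsg.charDegree (χ : G → ℂ)).factorization p := by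
      intro χ hχ
      obtain ⟨S⟩ : Nonempty (Sylow p G) := inferInstance
      letI : Fintype (S : Subgroup G) := Fintype.ofFinite _
      obtain ⟨m, hm⟩ := CfsgLib.Characters.classInner_character_irr
        (CfsgLib.Characters.isCharacter_restrict (S : Subgroup G)
          (CfsgLib.Characters.isCharacter_of_isIrr χ.2))
        (CfsgLib.Characters.isIrr_one (G := (S : Subgroup G)))
      rw [Cfsg.classInner, Finset.sum_eq_single (1 : (S : Subgroup G)) (fun u _ hu => by
        rw [hvan u ?_ χ hχ]
        · simp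
        obtain ⟨k, hk⟩ := IsPGroup.iff_orderOf.1 S.isPGroup' u
        rw [Subgroup.orderOf_coe, hk]
        refine dvd_pow_self p fun h0 => hu (orderOf_eq_one_iff.1 ?_)
        rw [hk, h0, pow_zero]) (by simp), map_one, mul_one, OneMemClass.coe_one,
        ← CfsgLib.Blocks.charDegree_cast,
        inv_mul_eq_iff_eq_mul₀ CfsgLib.Characters.natCard_ne_zero, ← Nat.cast_mul,
        Nat.cast_inj] at hm
      refine (hp.pow_dvd_iff_le_factorization (CfsgLib.Blocks.charDegree_ne_zero χ)).1 ?_
      rw [hm, ← S.card_eq_multiplicity]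
      exact dvd_mul_right _ _
    obtain ⟨χ, hχ, he⟩ := CfsgLib.Blocks.exists_degree_eq hM hB hD
    rw [CfsgLib.Blocks.blockDefect_eq hM hB hD]
    have := hdeg χ hχ
    omega
  exact ⟨hle, ⟨hdz, fun h => hback (h.1.trans h.2.symm)⟩,
    ⟨fun h => (hdz h).1.trans (hdz h).2.symm, hback⟩⟩

end Cfsg.Agent.S4733
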