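import Cfsg.Statements.S4218
import Mathlib
import Cfsg.Agent.PLocal.Constraint
import Cfsg.Agent.Coprime.Action
import Cfsg.Agent.Solvable.Frattini

set_option autoImplicit false
open Cfsg
open scoped commutatorElement

/-!
For `p`-solvable `G` the group `G / O_{p',p}(G)` is faithful on the Frattini quotient of
`O_{p',p}(G) / O_{p'}(G)`.
-/

namespace Cfsg.Agent.S4218

theorem comap_frattini_eq {A B : Type*} [Group A] [Group B] (K : Subgroup A) [K.Normal] (f : A →* B)
    (hf : Function.Surjective f) (hK : f.ker = K) :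
    (frattini (A ⧸ K)).comap (QuotientGroup.mk' K) = (frattini B).comap f := by
  let g : A ⧸ K →* B := QuotientGroup.lift K f hK.ge
  have hg : Function.Bijective g := by
    refine ⟨(injective_iff_map_eq_one g).2 fun x hx => ?_, fun b => ?_⟩
    · induction x using QuotientGroup.induction_on with | H a => ?_
      have : a ∈ f.ker := hx
      rw [hK] at this
      exact (QuotientGroup.eq_one_iff a).2 this
    · obtain ⟨a, rfl⟩ := hf b
      exact ⟨a, rfl⟩
  let e : A ⧸ K ≃* B := MulEquiv.ofBijective g hg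
  ext a
  constructor
  · intro h
    exact frattini_le_comap_frattini_of_surjective (φ := g) hg.2 h
  · intro h
    have h2 := frattini_le_comap_frattini_of_surjective (φ := e.symm.toMonoidHom) e.symm.surjective
      (show g (a : A ⧸ K) ∈ frattini B from h)
    simp only [Subgroup.mem_comap, MulEquiv.coe_toMonoidHom] at h2 ⊢
    rwa [show e.symm (g (a : A ⧸ K)) = (a : A ⧸ K) from e.symm_apply_apply (a : A ⧸ K)] at h2

/-- the kernel of the action on `O_p / Φ(O_p)` is a `p`-group when `O_{p'} = 1` -/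
theorem mem_pCore_iff {Q : Type*} [Group Q] [Finite Q] {p : ℕ} [Fact p.Prime]
    (hQ : IsPSolvable p Q) (hO : pPrimeCore p Q = ⊥) (g : Q) :
    (∀ x ∈ pCore p Q, g * x * g⁻¹ * x⁻¹ ∈ (frattini (pCore p Q)).map (pCore p Q).subtype) ↔
      g ∈ pCore p Q := by
  set O := pCore p Q with hOdef
  set Φ := (frattini O).map O.subtype with hΦ
  have hOp : IsPGroup p O := CfsgLib.PLocal.isPGroup_pCore p Q
  have hOn : O.Normal := by rw [hOdef]; infer_instance
  have hΦn : Φ.Normal := by rw [hΦ]; infer_instance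
  have hself : ∀ g ∈ O, ∀ x ∈ O, g * x * g⁻¹ * x⁻¹ ∈ Φ := by
    intro g hg x hx
    refine ⟨⟨g, hg⟩ * ⟨x, hx⟩ * ⟨g, hg⟩⁻¹ * ⟨x, hx⟩⁻¹, ?_, rfl⟩
    exact CfsgLib.Solvable.commutator_le_frattini hOp
      (Subgroup.commutator_mem_commutator (Subgroup.mem_top _) (Subgroup.mem_top _))
  let S : Subgroup Q :=
    { carrier := {g | ∀ x ∈ O, g * x * g⁻¹ * x⁻¹ ∈ Φ}
      one_mem' := fun x _ => by simp
      mul_mem' := fun {a b} ha hb x hx => by
        have h1 := hΦn.conj_mem _ (hb x hx) a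
        have h2 := ha x hx
        have e : a * b * x * (a * b)⁻¹ * x⁻¹ = (a * (b * x * b⁻¹ * x⁻¹) * a⁻¹) * (a * x * a⁻¹ * x⁻¹) := by
          group
        rw [e]; exact mul_mem h1 h2
      inv_mem' := fun {a} ha x hx => by
        have h1 := hΦn.conj_mem _ (inv_mem (ha x hx)) a⁻¹
        have e : a⁻¹ * x * a⁻¹⁻¹ * x⁻¹ = a⁻¹ * (a * x * a⁻¹ * x⁻¹)⁻¹ * a⁻¹⁻¹ := by group
        rw [e]; exact h1 }
  refine ⟨fun h => ?_, fun h => hself g h⟩
  have hSn : S.Normal := ⟨fun a ha b x hx => by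
    have h1 := ha (b⁻¹ * x * b) (by
      have := hOn.conj_mem x hx b⁻¹
      rwa [inv_inv] at this)
    have h2 := hΦn.conj_mem _ h1 b
    have e : b * a * b⁻¹ * x * (b * a * b⁻¹)⁻¹ * x⁻¹ =
        b * (a * (b⁻¹ * x * b) * a⁻¹ * (b⁻¹ * x * b)⁻¹) * b⁻¹ := by group
    rw [e]; exact h2⟩
  have hSp : IsPGroup p S := by
    refine IsPGroup.of_card (n := (Nat.card S).primeFactorsList.length) ?_
    refine Nat.eq_prime_pow_of_unique_prime_dvd Nat.card_pos.ne' fun {d} hd hdd => ?_
    by_contra hne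
    have := Fact.mk hd
    obtain ⟨a, ha⟩ := exists_prime_orderOf_dvd_card' (G := S) d hdd
    set A := Subgroup.zpowers (a : Q) with hA
    have hAn : A ≤ Subgroup.normalizer (O : Set Q) := by
      rw [Subgroup.normalizer_eq_top_iff.2 hOn]; exact le_top
    obtain ⟨k, hk⟩ := IsPGroup.iff_card.1 (hOp.to_subgroup (frattini O))
    have hAc : Nat.card A = d := by rw [hA, Nat.card_zpowers, Subgroup.orderOf_coe, ha]
    have hcop : (Nat.card A).Coprime (Nat.card (frattini O)) := by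
      rw [hAc, hk]
      exact Nat.Coprime.pow_right k ((Nat.coprime_primes hd Fact.out).2 hne)
    have hle : ⁅O, A⁆ ≤ Φ := by
      rw [Subgroup.commutator_le]
      intro x hx b hb
      have hbS : b ∈ S := (Subgroup.zpowers_le.2 a.2 : A ≤ S) hb
      have h1 := inv_mem (hbS x hx)
      have e : ⁅x, b⁆ = (b * x * b⁻¹ * x⁻¹)⁻¹ := by rw [commutatorElement_def]; group
      rw [e]; exact h1
    have hcen := CfsgLib.Coprime.le_centralizer_of_commutator_le_frattini hAn hcop hle
    have hmem : (a : Q) ∈ O :=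
      CfsgLib.PLocal.centralizer_pCore_le hQ hO (hcen (Subgroup.mem_zpowers _))
    obtain ⟨j, hj⟩ := IsPGroup.iff_orderOf.1 hOp ⟨a, hmem⟩
    rw [Subgroup.orderOf_mk, Subgroup.orderOf_coe, ha] at hj
    exact hne ((Nat.prime_dvd_prime_iff_eq hd Fact.out).1 (hd.dvd_of_dvd_pow hj.dvd))
  exact CfsgLib.PLocal.le_pCore (hN := hSn) hSp h

/-- `G / O_{p',p}(G)` acts faithfully on the Frattini quotient of `O_{p',p}(G) / O_{p'}(G)`. -/
theorem result {G : Type*} [Group G] [Finite G] {p : ℕ} [Fact p.Prime] (hG : Cfsg.IsPSolvable p G) (g : G) : (∀ x ∈ Cfsg.pPrimePCore p G, g * x * g⁻¹ * x⁻¹ ∈ ((frattini (↥(Cfsg.pPrimePCore p G) ⧸ (Cfsg.pPrimeCore p G).subgroupOf (Cfsg.pPrimePCore p G))).comap (QuotientGroup.mk' ((Cfsg.pPrimeCore p G).subgroupOf (Cfsg.pPrimePCore p G)))).map (Cfsg.pPrimePCore p G).subtype) ↔ g ∈ Cfsg.pPrimePCore p G := by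
  set N := pPrimeCore p G with hN
  set P := pPrimePCore p G with hP
  set π := QuotientGroup.mk' N with hπ
  have hPmap : ∀ x : G, x ∈ P ↔ π x ∈ pCore p (G ⧸ N) := fun x => Iff.rfl
  let f : P →* pCore p (G ⧸ N) := (π.comp P.subtype).codRestrict _ fun x => (hPmap x).1 x.2
  have hf : Function.Surjective f := by
    rintro ⟨y, hy⟩
    obtain ⟨x, rfl⟩ := QuotientGroup.mk'_surjective N y
    exact ⟨⟨x, (hPmap x).2 hy⟩, rfl⟩
  have hker : f.ker = N.subgroupOf P := by
    ext x
    rw [MonoidHom.mem_ker, Subgroup.mem_subgroupOf, ← QuotientGroup.eq_one_iff]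
    exact Subtype.ext_iff
  have hns : (N.subgroupOf P).Normal := inferInstance
  have key : ∀ y : G, y ∈ ((frattini (P ⧸ N.subgroupOf P)).comap
      (QuotientGroup.mk' (N.subgroupOf P))).map P.subtype ↔
      y ∈ P ∧ π y ∈ (frattini (pCore p (G ⧸ N))).map (pCore p (G ⧸ N)).subtype := by
    intro y
    rw [comap_frattini_eq (N.subgroupOf P) f hf hker]
    constructor
    · rintro ⟨z, hz, rfl⟩
      exact ⟨z.2, f z, hz, rfl⟩
    · rintro ⟨hy, z, hz, hz'⟩
      refine ⟨⟨y, hy⟩, ?_, rfl⟩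
      have : f ⟨y, hy⟩ = z := Subtype.ext hz'.symm
      rw [SetLike.mem_coe, Subgroup.mem_comap, this]
      exact hz
  rw [hPmap g, ← mem_pCore_iff (CfsgLib.PLocal.isPSolvable_quotient hG N)
    (CfsgLib.PLocal.pPrimeCore_quotient_pPrimeCore_eq_bot p G)]
  constructor
  · intro h y hy
    obtain ⟨x, rfl⟩ := QuotientGroup.mk'_surjective N y
    have := ((key _).1 (h x ((hPmap x).2 hy))).2
    simp only [map_mul, map_inv] at this
    exact this
  · intro h x hx
    refine (key _).2 ⟨?_, by simpa using h (π x) ((hPmap x).1 hx)⟩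
    have hPn : P.Normal := by rw [hP]; infer_instance
    exact mul_mem (hPn.conj_mem x hx g) (inv_mem hx)

end Cfsg.Agent.S4218
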