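import Cfsg.Statements.S0496
import Cfsg.Agent.Classification.SmallOrders.Table
import Cfsg.Agent.Classification.SmallOrders.Case612
import Cfsg.Agent.Classification.SmallOrders.Case720
import Cfsg.Agent.Classification.SmallOrders.Case1008
import Cfsg.Agent.Classification.SmallOrders.Case1040

set_option autoImplicit false
open Cfsg

namespace Cfsg.Agent.S0496

open CfsgLib.Classification.SmallOrders in
/-- A non-abelian finite simple group of order at most 1092 has order 60, 168, 360, 504, 660 or 1092. -/
theorem result {G : Type*} [Group G] [Finite G] [IsSimpleGroup G]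
    (hG : ¬ IsMulCommutative G) (h : Nat.card G ≤ 1092) :
    Nat.card G = 60 ∨ Nat.card G = 168 ∨ Nat.card G = 360 ∨ Nat.card G = 504 ∨ Nat.card G = 660 ∨
      Nat.card G = 1092 := by
  obtain ⟨c, hc⟩ := exists_cert Nat.card_pos h
  have := mem_of_check hG hc
  simp only [List.mem_cons, List.not_mem_nil, or_false] at this
  rcases this with h' | e | e | e | e | e | e
  · exact h'
  · exact (false_of_card_612 hG e).elim
  · exact (false_of_card_720 hG e).elim
  · exact (false_of_card_756 hG e).elim
  · exact (false_of_card_1008 hG e).elim
  · exact (false_of_card_1040 hG e).elim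
  · exact (false_of_card_1080 hG e).elim

end Cfsg.Agent.S0496
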