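import Cfsg.Statements.S0111
import Mathlib.GroupTheory.IndexNormal

set_option autoImplicit false
open Cfsg

namespace Cfsg.Agent.S0111

/-- Thompson's transfer lemma, by the transfer into `P / Q`. -/
theorem thompson_transfer {G : Type*} [Group G] [Finite G] (P : Sylow 2 G) (Q : Subgroup G)
    (hQP : Q ≤ (P : Subgroup G)) (hQi : Q.relIndex (P : Subgroup G) = 2) (u : G)
    (hu : orderOf u = 2) (huP : u ∈ (P : Subgroup G)) (huQ : u ∉ Q) :
    (∃ M : Subgroup G, M.Normal ∧ M.index = 2 ∧ u ∉ M) ∨ ∃ g : G, g * u * g⁻¹ ∈ Q := by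
  classical
  by_cases hconj : ∃ g : G, g * u * g⁻¹ ∈ Q
  · exact Or.inr hconj
  left
  set Q' := Q.subgroupOf (P : Subgroup G) with hQ'
  haveI : Q'.Normal := Subgroup.normal_of_index_eq_two hQi
  have hcard : Nat.card ((P : Subgroup G) ⧸ Q') = 2 := by rw [← Subgroup.index_eq_card]; exact hQi
  haveI : IsCyclic ((P : Subgroup G) ⧸ Q') := isCyclic_of_prime_card hcard
  letI : CommGroup ((P : Subgroup G) ⧸ Q') := IsCyclic.commGroup
  let r : (P : Subgroup G) →* (P : Subgroup G) ⧸ Q' := QuotientGroup.mk' Q'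
  let a := r ⟨u, huP⟩
  have ha : a ≠ 1 := fun h =>
    huQ (Subgroup.mem_subgroupOf.1 ((QuotientGroup.eq_one_iff _).1 h))
  have htwo : ∀ y : (P : Subgroup G) ⧸ Q', y ≠ 1 → y = a := by
    intro y hy
    obtain ⟨b, c, hbc, huniv⟩ := Nat.card_eq_two_iff.1 hcard
    have h1 : (1 : (P : Subgroup G) ⧸ Q') ∈ ({b, c} : Set _) := huniv ▸ Set.mem_univ _
    have h2 : a ∈ ({b, c} : Set _) := huniv ▸ Set.mem_univ _
    have h3 : y ∈ ({b, c} : Set _) := huniv ▸ Set.mem_univ _
    simp only [Set.mem_insert_iff, Set.mem_singleton_iff] at h1 h2 h3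
    grind
  have hu2 : u ^ 2 = 1 := hu ▸ pow_orderOf_eq_one u
  let V := MonoidHom.transfer r
  have hrange : Function.Surjective V ∧ V u = a := by
    have hVu : V u = a := by
      haveI : Fintype (Quotient (MulAction.orbitRel (Subgroup.zpowers u) (G ⧸ (P : Subgroup G)))) :=
        Fintype.ofFinite _
      change MonoidHom.transfer r u = a
      rw [MonoidHom.transfer_eq_prod_quotient_orbitRel_zpowers_quot]
      have hterm : ∀ (m : ℕ) (t : G) (hm : t⁻¹ * u ^ m * t ∈ (P : Subgroup G)),
          r ⟨t⁻¹ * u ^ m * t, hm⟩ = a ^ m := by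
        intro m t hm
        have hum : u ^ m = u ^ (m % 2) := by
          conv_lhs => rw [← Nat.mod_add_div m 2, pow_add, pow_mul, hu2, one_pow, mul_one]
        have ha2 : a ^ m = a ^ (m % 2) := by
          have : a ^ 2 = 1 := by
            have := pow_card_eq_one' (x := a)
            rwa [hcard] at this
          conv_lhs => rw [← Nat.mod_add_div m 2, pow_add, pow_mul, this, one_pow, mul_one]
        rw [ha2]
        rcases Nat.mod_two_eq_zero_or_one m with h | h <;> rw [h] at hum ⊢
        · rw [pow_zero, ← map_one r]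
          congr 1
          ext
          simp [hum]
        · rw [pow_one]
          refine htwo _ fun h1 => hconj ⟨t⁻¹, ?_⟩
          have := Subgroup.mem_subgroupOf.1 ((QuotientGroup.eq_one_iff _).1 h1)
          simpa [hum] using this
      rw [Finset.prod_congr rfl (fun q _ => hterm _ _ _), Finset.prod_pow_eq_pow_sum,
        ← Subgroup.index_eq_sum_minimalPeriod]
      have hodd : ¬ 2 ∣ (P : Subgroup G).index := P.not_dvd_index
      have : a ^ 2 = 1 := by
        have := pow_card_eq_one' (x := a)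
        rwa [hcard] at this
      rw [← Nat.mod_add_div (P : Subgroup G).index 2, pow_add, pow_mul, this, one_pow, mul_one,
        Nat.two_dvd_ne_zero.1 hodd, pow_one]
    refine ⟨fun y => ?_, hVu⟩
    rcases eq_or_ne y 1 with rfl | hy
    · exact ⟨1, map_one V⟩
    · exact ⟨u, hVu.trans (htwo y hy).symm⟩
  refine ⟨V.ker, inferInstance, ?_, fun h => ha (hrange.2.symm.trans h)⟩
  rw [Subgroup.index_ker, MonoidHom.range_eq_top.2 hrange.1, Subgroup.card_top, hcard]

/-- The Thompson transfer lemma states that an involution of a Sylow 2-subgroup P lying outside a subgroup Q of index 2 in P either lies outside some normal subgroup of index 2 in G or is conjugate to an element of Q. -/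
theorem result {G : Type*} [Group G] [Finite G] (P : Sylow 2 G) (Q : Subgroup G) (hQP : Q ≤ (P : Subgroup G)) (hQi : Q.relIndex (P : Subgroup G) = 2) (u : G) (hu : orderOf u = 2) (huP : u ∈ (P : Subgroup G)) (huQ : u ∉ Q) : (∃ M : Subgroup G, M.Normal ∧ M.index = 2 ∧ u ∉ M) ∨ ∃ g : G, g * u * g⁻¹ ∈ Q := by
  exact thompson_transfer P Q hQP hQi u hu huP huQ

end Cfsg.Agent.S0111
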