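import Cfsg.Statements.S1035
import Cfsg.Agent.ChevTorus.Order
import Cfsg.Agent.Chevalley.WeylData

set_option autoImplicit false
open Cfsg

namespace Cfsg.Agent.S1035

/-- `d · |H| = (q - 1)^rank` over a field with `q` elements, with `d = 1` (G₂, F₄, E₈), `gcd(3, q-1)` (E₆), `gcd(2, q-1)` (E₇, B₂), `gcd(2, q-1)²` (D₄). -/
theorem result {F : Type*} [Field F] [Fintype F] {q : ℕ} (hq : Fintype.card F = q)
    (p : Cfsg.Lie.ChevalleyDatum × ℕ)
    (hp : p ∈ [(Cfsg.Lie.chevG2, 1), (Cfsg.Lie.chevF4, 1), (Cfsg.Lie.chevE8, 1), (Cfsg.Lie.chevE6, Nat.gcd 3 (q - 1)),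
      (Cfsg.Lie.chevE7, Nat.gcd 2 (q - 1)), (Cfsg.Lie.chevB2, Nat.gcd 2 (q - 1)), (Cfsg.Lie.chevD4, Nat.gcd 2 (q - 1) ^ 2)]) :
    p.2 * Nat.card (p.1.diagonalSubgroup F) = (q - 1) ^ p.1.rank := by
  subst hq
  simp only [List.mem_cons, List.not_mem_nil, or_false] at hp
  rcases hp with rfl | rfl | rfl | rfl | rfl | rfl | rfl
  · have h := CfsgLib.ChevTorus.card_diagonalSubgroup (F := F)
      (CfsgLib.Chevalley.goodWeyl_of_mem (D := Cfsg.Lie.chevG2) (by simp))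
      CfsgLib.ChevTorus.smithG2
    have e : (∏ i : Fin 2, (Fintype.card F - 1).gcd ((![1, 1] : Fin 2 → ℕ) i)) = 1 := by
      simp [Fin.prod_univ_succ, Nat.gcd_comm, sq]
    exact (congrArg (· * _) e).symm.trans h
  · have h := CfsgLib.ChevTorus.card_diagonalSubgroup (F := F)
      (CfsgLib.Chevalley.goodWeyl_of_mem (D := Cfsg.Lie.chevF4) (by simp))
      CfsgLib.ChevTorus.smithF4
    have e : (∏ i : Fin 4, (Fintype.card F - 1).gcd ((![1, 1, 1, 1] : Fin 4 → ℕ) i)) = 1 := by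
      simp [Fin.prod_univ_succ, Nat.gcd_comm, sq]
    exact (congrArg (· * _) e).symm.trans h
  · have h := CfsgLib.ChevTorus.card_diagonalSubgroup (F := F)
      (CfsgLib.Chevalley.goodWeyl_of_mem (D := Cfsg.Lie.chevE8) (by simp))
      CfsgLib.ChevTorus.smithE8
    have e : (∏ i : Fin 8, (Fintype.card F - 1).gcd ((![1, 1, 1, 1, 1, 1, 1, 1] : Fin 8 → ℕ) i)) = 1 := by
      simp [Fin.prod_univ_succ, Nat.gcd_comm, sq]
    exact (congrArg (· * _) e).symm.trans h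
  · have h := CfsgLib.ChevTorus.card_diagonalSubgroup (F := F)
      (CfsgLib.Chevalley.goodWeyl_of_mem (D := Cfsg.Lie.chevE6) (by simp))
      CfsgLib.ChevTorus.smithE6
    have e : (∏ i : Fin 6, (Fintype.card F - 1).gcd ((![1, 1, 1, 1, 1, 3] : Fin 6 → ℕ) i)) = Nat.gcd 3 (Fintype.card F - 1) := by
      simp [Fin.prod_univ_succ, Nat.gcd_comm, sq]
    exact (congrArg (· * _) e).symm.trans h
  · have h := CfsgLib.ChevTorus.card_diagonalSubgroup (F := F)
      (CfsgLib.Chevalley.goodWeyl_of_mem (D := Cfsg.Lie.chevE7) (by simp))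
      CfsgLib.ChevTorus.smithE7
    have e : (∏ i : Fin 7, (Fintype.card F - 1).gcd ((![1, 1, 1, 1, 1, 1, 2] : Fin 7 → ℕ) i)) = Nat.gcd 2 (Fintype.card F - 1) := by
      simp [Fin.prod_univ_succ, Nat.gcd_comm, sq]
    exact (congrArg (· * _) e).symm.trans h
  · have h := CfsgLib.ChevTorus.card_diagonalSubgroup (F := F)
      (CfsgLib.Chevalley.goodWeyl_of_mem (D := Cfsg.Lie.chevB2) (by simp))
      CfsgLib.ChevTorus.smithB2
    have e : (∏ i : Fin 2, (Fintype.card F - 1).gcd ((![1, 2] : Fin 2 → ℕ) i)) = Nat.gcd 2 (Fintype.card F - 1) := by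
      simp [Fin.prod_univ_succ, Nat.gcd_comm, sq]
    exact (congrArg (· * _) e).symm.trans h
  · have h := CfsgLib.ChevTorus.card_diagonalSubgroup (F := F)
      (CfsgLib.Chevalley.goodWeyl_of_mem (D := Cfsg.Lie.chevD4) (by simp))
      CfsgLib.ChevTorus.smithD4
    have e : (∏ i : Fin 4, (Fintype.card F - 1).gcd ((![1, 1, 2, 2] : Fin 4 → ℕ) i)) = Nat.gcd 2 (Fintype.card F - 1) ^ 2 := by
      simp [Fin.prod_univ_succ, Nat.gcd_comm, sq]
    exact (congrArg (· * _) e).symm.trans h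

end Cfsg.Agent.S1035
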