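import Cfsg.Statements.S1062
import Cfsg.Agent.Chevalley.OrderFormula
import Cfsg.Agent.Chevalley.WeylData
import Cfsg.Agent.Weyl.Degrees
import Cfsg.Agent.S1035
-- import your own Cfsg.Agent.* helpers here

set_option autoImplicit false
open Cfsg

namespace Cfsg.Agent.S1062

/-- `|F₄(q)| = q²⁴ (q² - 1)(q⁶ - 1)(q⁸ - 1)(q¹² - 1)`. -/
theorem result {F : Type*} [Field F] [Fintype F] {q : ℕ} (hq : Fintype.card F = q) : Nat.card ↥(Cfsg.Lie.chevF4.group F) = q ^ 24 * (q ^ 2 - 1) * (q ^ 6 - 1) * (q ^ 8 - 1) * (q ^ 12 - 1) := by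
  have h := CfsgLib.Chevalley.natCard_group_degrees (F := F)
    (CfsgLib.Chevalley.goodWeyl_of_mem (D := Cfsg.Lie.chevF4) (by simp))
    CfsgLib.Weyl.rootF4_good (c := 1) (N := 24) hq [2, 6, 8, 12] (by decide +kernel) (by decide +kernel)
    (Cfsg.Agent.S1035.result hq (Cfsg.Lie.chevF4, 1) (by simp))
    (fun i => @CfsgLib.Weyl.poincareF4 ℕ _ i q)
  simpa [mul_assoc] using h

end Cfsg.Agent.S1062
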