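import Cfsg.Statements.S1059
import Cfsg.Agent.Chevalley.OrderFormula
import Cfsg.Agent.Chevalley.WeylData
import Cfsg.Agent.Weyl.Degrees
import Cfsg.Agent.S1035
-- import your own Cfsg.Agent.* helpers here

set_option autoImplicit false
open Cfsg

namespace Cfsg.Agent.S1059

/-- `|G₂(q)| = q⁶ (q² - 1)(q⁶ - 1)`. -/
theorem result {F : Type*} [Field F] [Fintype F] {q : ℕ} (hq : Fintype.card F = q) : Nat.card ↥(Cfsg.Lie.chevG2.group F) = q ^ 6 * (q ^ 2 - 1) * (q ^ 6 - 1) := by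
  have h := CfsgLib.Chevalley.natCard_group_degrees (F := F)
    (CfsgLib.Chevalley.goodWeyl_of_mem (D := Cfsg.Lie.chevG2) (by simp))
    CfsgLib.Weyl.rootG2_good (c := 1) (N := 6) hq [2, 6] (by decide +kernel) (by decide +kernel)
    (Cfsg.Agent.S1035.result hq (Cfsg.Lie.chevG2, 1) (by simp))
    (fun i => @CfsgLib.Weyl.poincareG2 ℕ _ i q)
  simpa [mul_assoc] using h

end Cfsg.Agent.S1059
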