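import Cfsg.Statements.S4059
-- import your own Cfsg.Agent.* helpers here

set_option autoImplicit false
open Cfsg
open scoped commutatorElement

namespace Cfsg.Agent.S4059

/-- An element inverted by some element is inverted by a 2-element. -/
theorem exists_two_element_inverting {G : Type*} [Group G] [Finite G] {x h : G}
    (hh : h * x * h⁻¹ = x⁻¹) : ∃ t : G, (∃ k : ℕ, orderOf t = 2 ^ k) ∧ t * x * t⁻¹ = x⁻¹ := by
  have hodd : ∀ n : ℕ, h ^ (2 * n + 1) * x * (h ^ (2 * n + 1))⁻¹ = x⁻¹ := by
    intro n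
    induction n with
    | zero => simpa using hh
    | succ n ih =>
      have h2 : h * x⁻¹ * h⁻¹ = x := by
        have := congrArg (·⁻¹) hh
        simpa [mul_assoc] using this
      rw [show 2 * (n + 1) + 1 = (2 * n + 1) + 1 + 1 by ring, pow_succ', pow_succ']
      calc h * (h * h ^ (2 * n + 1)) * x * (h * (h * h ^ (2 * n + 1)))⁻¹
          = h * (h * (h ^ (2 * n + 1) * x * (h ^ (2 * n + 1))⁻¹) * h⁻¹) * h⁻¹ := by group
        _ = x⁻¹ := by rw [ih, h2, hh]
  obtain ⟨k, m, hm, hkm⟩ := Nat.exists_eq_two_pow_mul_odd (orderOf_pos h).ne'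
  obtain ⟨n, rfl⟩ := hm
  refine ⟨h ^ (2 * n + 1), ⟨k, ?_⟩, hodd n⟩
  rw [orderOf_pow_of_dvd (by omega) (hkm ▸ dvd_mul_left _ _), hkm,
    Nat.mul_div_cancel _ (by omega)]

/-- A real element centralizing a Sylow 2-subgroup has square 1. -/
theorem sq_eq_one_of_real {G : Type*} [Group G] [Finite G] (S : Sylow 2 G) {x : G}
    (hx : x ∈ Subgroup.centralizer ((S : Subgroup G) : Set G)) (hreal : IsConj x x⁻¹) :
    x ^ 2 = 1 := by
  by_contra hne
  have hle : (S : Subgroup G) ≤ (MulAction.stabilizer (ConjAct G) x).comap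
      (ConjAct.toConjAct (G := G)).toMonoidHom := by
    intro s hs
    simp only [Subgroup.mem_comap, MulEquiv.coe_toMonoidHom, MulAction.mem_stabilizer_iff,
      ConjAct.toConjAct_smul]
    rw [Subgroup.mem_centralizer_iff.1 hx s hs]
    group
  have hodd : Odd (Nat.card (MulAction.orbit (ConjAct G) x)) := by
    rw [Nat.card_coe_set_eq, ← MulAction.index_stabilizer]
    have h1 := Subgroup.index_dvd_of_le hle
    rw [Subgroup.index_comap_of_surjective _ ConjAct.toConjAct.surjective] at h1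
    rw [← Nat.not_even_iff_odd, even_iff_two_dvd]
    exact fun h => S.not_dvd_index (h.trans h1)
  let i : MulAction.orbit (ConjAct G) x → MulAction.orbit (ConjAct G) x := fun y =>
    ⟨(y : G)⁻¹, by
      obtain ⟨y, hy⟩ := y
      rw [ConjAct.mem_orbit_conjAct] at hy ⊢
      obtain ⟨c, hc⟩ := isConj_iff.1 hy
      refine IsConj.trans (isConj_iff.2 ⟨c, ?_⟩ : IsConj y⁻¹ x⁻¹) hreal.symm
      rw [← hc]; group⟩
  have hfix : ∀ y, i y ≠ y := by
    rintro ⟨y, hy⟩ heq
    have h1 : y⁻¹ = y := congrArg Subtype.val heq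
    rw [ConjAct.mem_orbit_conjAct] at hy
    obtain ⟨c, hc⟩ := isConj_iff.1 hy
    apply hne
    have : x = c * y * c⁻¹ := hc.symm
    rw [this, conj_pow, pow_two]
    nth_rewrite 1 [← h1]
    simp
  have hi : Function.Involutive i := fun y => Subtype.ext (inv_inv _)
  have : Fintype (MulAction.orbit (ConjAct G) x) := Fintype.ofFinite _
  have hsum : ∑ _y : MulAction.orbit (ConjAct G) x, (1 : ZMod 2) = 0 :=
    Finset.sum_involution (fun y _ => i y) (fun _ _ => rfl) (fun y _ _ => hfix y)
      (fun _ _ => Finset.mem_univ _) (fun y _ => hi y)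
  rw [Finset.sum_const, Finset.card_univ, nsmul_one, ZMod.natCast_eq_zero_iff_even,
    ← Nat.card_eq_fintype_card] at hsum
  exact (Nat.not_even_iff_odd.2 hodd) hsum

/-- Let G be a finite group in which every element is conjugate to its inverse. Then: every non-identity element commuting with all elements of some Sylow 2-subgroup is an involution; the centre of G is an elementary abelian 2-group; the commutator quotient G/G' is an elementary abelian 2-group; and G is generated by its 2-elements. -/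
theorem result {G : Type*} [Group G] [Finite G] (hamb : ∀ x : G, IsConj x x⁻¹) :
    (∀ (S : Sylow 2 G) (x : G), x ∈ Subgroup.centralizer ((S : Subgroup G) : Set G) → x ≠ 1 → orderOf x = 2) ∧
    (∀ z : G, z ∈ Subgroup.center G → z ^ 2 = 1) ∧
    (∀ x : G, x ^ 2 ∈ commutator G) ∧
    Subgroup.closure {x : G | ∃ k : ℕ, orderOf x = 2 ^ k} = ⊤ := by
  refine ⟨fun S x hx hx1 => ?_, fun z hz => ?_, fun x => ?_, ?_⟩
  · exact orderOf_eq_prime (sq_eq_one_of_real S hx (hamb x)) hx1
  · obtain ⟨c, hc⟩ := isConj_iff.1 (hamb z)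
    rw [Subgroup.mem_center_iff.1 hz c, mul_inv_cancel_right] at hc
    rw [pow_two]
    exact mul_eq_one_iff_eq_inv.2 hc
  · obtain ⟨c, hc⟩ := isConj_iff.1 (hamb x)
    have h : x ^ 2 = ⁅x, c⁆ := by
      rw [commutatorElement_def]
      have : c * x⁻¹ * c⁻¹ = x := by
        have := congrArg (·⁻¹) hc
        simpa [mul_assoc] using this
      calc x ^ 2 = x * (c * x⁻¹ * c⁻¹) := by rw [this, pow_two]
        _ = _ := by group
    rw [h, commutator_def]
    exact Subgroup.commutator_mem_commutator (Subgroup.mem_top _) (Subgroup.mem_top _)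
  · set H := Subgroup.closure {x : G | ∃ k : ℕ, orderOf x = 2 ^ k} with hH
    rw [Subgroup.eq_top_iff']
    intro g
    have hconj : ∀ a : G, ∀ t ∈ {x : G | ∃ k : ℕ, orderOf x = 2 ^ k}, a * t * a⁻¹ ∈ H := by
      rintro a t ⟨k, hk⟩
      refine Subgroup.subset_closure ⟨k, ?_⟩
      rw [← hk]
      exact orderOf_injective (MulAut.conj a).toMonoidHom (MulAut.conj a).injective t
    obtain ⟨c, hc⟩ := isConj_iff.1 (hamb g)
    obtain ⟨t, ht, htg⟩ := exists_two_element_inverting hc
    have h2 : g ^ 2 ∈ H := by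
      have heq : g ^ 2 = (g * t * g⁻¹) * t⁻¹ := by
        have : t * g⁻¹ * t⁻¹ = g := by
          have := congrArg (·⁻¹) htg
          simpa [mul_assoc] using this
        calc g ^ 2 = g * (t * g⁻¹ * t⁻¹) := by rw [this, pow_two]
          _ = _ := by group
      rw [heq]
      exact H.mul_mem (hconj g t ht) (H.inv_mem (Subgroup.subset_closure ht))
    obtain ⟨k, m, hm, hkm⟩ := Nat.exists_eq_two_pow_mul_odd (orderOf_pos g).ne'
    have hm' : g ^ m ∈ H := Subgroup.subset_closure ⟨k, by
      rw [orderOf_pow_of_dvd (by rcases hm with ⟨n, rfl⟩; omega) (hkm ▸ dvd_mul_left _ _), hkm,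
        Nat.mul_div_cancel _ (by rcases hm with ⟨n, rfl⟩; omega)]⟩
    obtain ⟨n, rfl⟩ := hm
    rw [pow_succ, pow_mul] at hm'
    exact (Subgroup.mul_mem_cancel_left H (H.pow_mem h2 n)).1 hm' 

end Cfsg.Agent.S4059
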