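import Cfsg.Statements.S4060
import Cfsg.Agent.S4059

set_option autoImplicit false
open Cfsg
open scoped commutatorElement

namespace Cfsg.Agent.S4060

/-- Let G be a finite solvable group with Sylow 2-subgroup S, and let x ≠ 1 be an element of odd order normalizing S. Then x is not conjugate to its inverse in G. -/
theorem result {G : Type*} [Group G] [Finite G] [Group.IsSolvable G]
    (S : Sylow 2 G) (x : G) (hx : x ≠ 1) (hodd : Odd (orderOf x))
    (hnorm : x ∈ Subgroup.normalizer ((S : Subgroup G) : Set G)) : ¬ IsConj x x⁻¹ := by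
  intro hreal
  obtain ⟨n, hn⟩ := (Group.isSolvable_def G).1 inferInstance
  classical
  have hex : ∃ k, x ∉ derivedSeries G k := ⟨n, by rw [hn, Subgroup.mem_bot]; exact hx⟩
  obtain ⟨k, hk⟩ : ∃ k, Nat.find hex = k + 1 := by
    refine Nat.exists_eq_add_one.2 ?_
    rw [Nat.find_pos]
    simp [derivedSeries_zero]
  have hmem : x ∈ derivedSeries G k := not_not.1 (Nat.find_min hex (by omega))
  have hnot : x ∉ derivedSeries G (k + 1) := hk ▸ Nat.find_spec hex
  have : (derivedSeries G (k + 1)).Normal := derivedSeries_normal G _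
  set π := QuotientGroup.mk' (derivedSeries G (k + 1)) with hπ
  have hcomm : ∀ a ∈ derivedSeries G k, ∀ b ∈ derivedSeries G k, Commute (π a) (π b) := by
    intro a ha b hb
    rw [← commutatorElement_eq_one_iff_commute, ← map_commutatorElement, hπ, QuotientGroup.mk'_apply,
      QuotientGroup.eq_one_iff, derivedSeries_succ]
    exact Subgroup.commutator_mem_commutator ha hb
  have hπs : Function.Surjective π := QuotientGroup.mk'_surjective _
  have hxodd : ¬ 2 ∣ orderOf (π x) := fun h => hodd.not_two_dvd_nat (h.trans (orderOf_map_dvd π x))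
  let T : Sylow 2 (G ⧸ derivedSeries G (k + 1)) := S.mapSurjective hπs
  have hcent : π x ∈ Subgroup.centralizer (T.toSubgroup : Set (G ⧸ derivedSeries G (k + 1))) := by
    rw [Subgroup.mem_centralizer_iff]
    intro t ht
    rw [SetLike.mem_coe, Sylow.coe_mapSurjective, Subgroup.mem_map] at ht
    obtain ⟨s, hs, rfl⟩ := ht
    set c := π x * (π s * (π x)⁻¹ * (π s)⁻¹) with hc
    have h1 : Commute (π x) (π s * (π x)⁻¹ * (π s)⁻¹) := by
      rw [← map_inv, ← map_inv, ← map_mul, ← map_mul]
      exact hcomm x hmem _ ((derivedSeries_normal G k).conj_mem _ (Subgroup.inv_mem _ hmem) s)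
    have h2 : orderOf c ∣ orderOf (π x) := by
      rw [orderOf_dvd_iff_pow_eq_one, hc, h1.mul_pow, conj_pow, inv_pow, pow_orderOf_eq_one,
        inv_one, mul_one, one_mul, mul_inv_cancel]
    have h3 : ∃ j : ℕ, orderOf c ∣ 2 ^ j := by
      have : x * s * x⁻¹ * s⁻¹ ∈ (S : Subgroup G) :=
        S.mul_mem ((Subgroup.mem_normalizer_iff.1 hnorm s).1 hs) (S.inv_mem hs)
      obtain ⟨j, hj⟩ := S.2 ⟨_, this⟩
      refine ⟨j, orderOf_dvd_of_pow_eq_one ?_⟩
      have hj' : (x * s * x⁻¹ * s⁻¹) ^ 2 ^ j = 1 := congrArg Subtype.val hj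
      have := congrArg π hj'
      simp only [map_pow, map_one, map_mul, map_inv, mul_assoc] at this
      rw [hc]
      simpa only [mul_assoc] using this
    obtain ⟨j, hj⟩ := h3
    have hc1 : c = 1 := orderOf_eq_one_iff.1 (Nat.eq_one_of_dvd_coprimes
      ((Nat.prime_two.coprime_iff_not_dvd.2 hxodd).pow_left j) hj h2)
    calc π s * π x = c * (π s * π x) := by rw [hc1, one_mul]
      _ = π x * π s := by rw [hc]; group
  have h2 := S4059.sq_eq_one_of_real T hcent (by rw [← map_inv]; exact π.map_isConj hreal)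
  have h3 : orderOf (π x) = 1 := by
    rcases (Nat.dvd_prime Nat.prime_two).1 (orderOf_dvd_of_pow_eq_one h2) with h | h
    · exact h
    · exact absurd (h ▸ dvd_rfl) hxodd
  exact hnot ((QuotientGroup.eq_one_iff x).1 (orderOf_eq_one_iff.1 h3))

end Cfsg.Agent.S4060
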