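import Cfsg.Statements.S3370
-- import your own Cfsg.Agent.* helpers here

set_option autoImplicit false
open Cfsg

namespace Cfsg.Agent.S3370

/-- `2 ^ n - 1` is a proper power of no odd number. -/
lemma mersenne_not_power {p k n : ℕ} (hn : 2 ≤ n) (hp : Odd p) (h : p ^ k + 1 = 2 ^ n) : k = 1 := by
  have h4 : (4 : ℕ) ∣ 2 ^ n := pow_dvd_pow 2 hn
  rcases Nat.even_or_odd k with ⟨j, rfl⟩ | hk
  · exfalso
    obtain ⟨a, ha⟩ := (hp.pow : Odd (p ^ j))
    rw [pow_add, ha] at h
    have h0 : 2 ^ n = 4 * (a * a + a) + 2 := by rw [← h]; ring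
    omega
  · by_contra hk1
    have h2 : ((p : ℤ) + 1) ∣ (p : ℤ) ^ k + 1 := by simpa using hk.add_dvd_pow_add_pow (p : ℤ) 1
    obtain ⟨c, hc⟩ := h2
    -- the cofactor is odd
    have hc2 : Odd c := by
      have e : (∑ i ∈ Finset.range k, (-(p : ℤ)) ^ i) * (-(p : ℤ) - 1) = (-(p : ℤ)) ^ k - 1 :=
        geom_sum_mul _ _
      rw [hk.neg_pow] at e
      have : c = ∑ i ∈ Finset.range k, (-(p : ℤ)) ^ i := by
        apply mul_left_cancel₀ (show ((p : ℤ) + 1) ≠ 0 by positivity)
        linear_combination -hc + e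
      rw [this, Int.odd_iff, Finset.sum_int_mod]
      have hterm : ∀ i, (-(p : ℤ)) ^ i % 2 = 1 := fun i => Int.odd_iff.mp ((hp.natCast (R := ℤ)).neg.pow)
      simp only [hterm, Finset.sum_const, Finset.card_range, nsmul_eq_mul, mul_one]
      exact Int.odd_iff.mp (hk.natCast (R := ℤ))
    have hcpos : 0 < c := by
      by_contra hc0
      push Not at hc0
      have : (0 : ℤ) < (p : ℤ) ^ k + 1 := by positivity
      rw [hc] at this
      exact absurd this (not_lt.mpr (mul_nonpos_of_nonneg_of_nonpos (by positivity) hc0))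
    obtain ⟨c', rfl⟩ : ∃ c' : ℕ, c = (c' : ℤ) := ⟨c.toNat, (Int.toNat_of_nonneg hcpos.le).symm⟩
    have hc' : c' ∣ 2 ^ n := ⟨p + 1, by rw [← h]; exact_mod_cast hc.trans (mul_comm _ _)⟩
    obtain ⟨i, -, hi⟩ := (Nat.dvd_prime_pow Nat.prime_two).mp hc'
    have hc'2 : Odd c' := (Int.odd_coe_nat c').mp hc2
    obtain rfl : c' = 1 := by
      rcases Nat.eq_zero_or_pos i with rfl | hi0
      · simpa using hi
      · exfalso; rw [hi] at hc'2
        exact (Nat.not_odd_iff_even.mpr (Nat.even_pow.mpr ⟨even_two, hi0.ne'⟩)) hc'2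
    have : p ^ k + 1 = p ^ 1 + 1 := by rw [pow_one]; exact_mod_cast (by simpa using hc : (p : ℤ) ^ k + 1 = p + 1)
    rcases eq_or_ne p 1 with rfl | hp1
    · simp at h; have := Nat.le_of_dvd (by omega) h4; omega
    · exact hk1 (Nat.pow_right_injective (by rcases hp with ⟨a, rfl⟩; omega) (Nat.add_right_cancel this))

/-- The prime powers next to a power of two. -/
lemma odd_power_succ_two_pow {q n k : ℕ} (hq : Odd q) (hq3 : 3 ≤ q) (hn : 0 < n) (h : q ^ n = 2 ^ k + 1) :
    n = 1 ∨ (q = 3 ∧ n = 2) := by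
  rcases Nat.even_or_odd n with ⟨j, rfl⟩ | hn'
  · right
    have hj : 0 < j := by omega
    obtain ⟨a, ha⟩ := (hq.pow : Odd (q ^ j))
    have hqj : q ≤ q ^ j := Nat.le_self_pow hj.ne' q
    rw [pow_add] at h
    have hprod : (q ^ j - 1) * (q ^ j + 1) = 2 ^ k := by
      rw [ha] at h ⊢
      simp only [Nat.add_sub_cancel]
      have : (2 * a + 1) * (2 * a + 1) = 2 * a * (2 * a + 1 + 1) + 1 := by ring
      omega
    obtain ⟨u, -, hu⟩ := (Nat.dvd_prime_pow Nat.prime_two).mp (Dvd.intro _ hprod)
    obtain ⟨v, -, hv⟩ := (Nat.dvd_prime_pow Nat.prime_two).mp (Dvd.intro_left _ hprod)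
    have h2 : q ^ j = 3 := by
      rcases Nat.lt_or_ge u 2 with hu2 | hu2
      · interval_cases u <;> omega
      · have : 4 ∣ q ^ j - 1 := hu ▸ (pow_dvd_pow 2 hu2)
        rcases Nat.lt_or_ge v 2 with hv2 | hv2
        · interval_cases v <;> omega
        · have : 4 ∣ q ^ j + 1 := hv ▸ (pow_dvd_pow 2 hv2)
          omega
    have hq' : q = 3 := le_antisymm (h2 ▸ hqj) hq3
    subst hq'
    have : j = 1 := Nat.pow_right_injective (show 2 ≤ 3 by omega) (show 3 ^ j = 3 ^ 1 by rw [h2, pow_one])
    exact ⟨rfl, by omega⟩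
  · left
    by_contra hn1
    obtain ⟨c, hc⟩ : q - 1 ∣ q ^ n - 1 := by simpa using Nat.sub_dvd_pow_sub_pow q 1 n
    have hgeo : (∑ i ∈ Finset.range n, q ^ i) * (q - 1) + 1 = q ^ n := by
      obtain ⟨s, rfl⟩ : ∃ s, q = s + 1 := ⟨q - 1, by omega⟩
      simpa using geom_sum_mul_add s n
    have hd : (∑ i ∈ Finset.range n, q ^ i) ∣ 2 ^ k := Dvd.intro _ (Nat.add_right_cancel (hgeo.trans h))
    obtain ⟨i, -, hi⟩ := (Nat.dvd_prime_pow Nat.prime_two).mp hd
    have hodd : Odd (∑ i ∈ Finset.range n, q ^ i) := by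
      rw [Nat.odd_iff, Finset.sum_nat_mod]
      have hterm : ∀ i, q ^ i % 2 = 1 := fun i => Nat.odd_iff.mp hq.pow
      simp only [hterm, Finset.sum_const, Finset.card_range, smul_eq_mul, mul_one]
      exact Nat.odd_iff.mp hn'
    have h1 : 1 + q ≤ ∑ i ∈ Finset.range n, q ^ i := by
      have : Finset.range 2 ⊆ Finset.range n := Finset.range_subset_range.mpr (by omega)
      have := Finset.sum_le_sum_of_subset (f := fun i => q ^ i) this
      simpa [Finset.sum_range_succ] using this
    rcases Nat.eq_zero_or_pos i with rfl | hi0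
    · rw [hi] at h1; simp at h1; omega
    · rw [hi] at hodd
      exact (Nat.not_odd_iff_even.mpr (Nat.even_pow.mpr ⟨even_two, hi0.ne'⟩)) hodd

/-- A non-cyclic group of order 8 with only one involution is a quaternion group. -/
lemma cyclic_or_quaternion {G : Type*} [Group G] [Finite G] (hG : Nat.card G = 8)
    (huniq : ∀ a b : G, a ≠ 1 → b ≠ 1 → a * a = 1 → b * b = 1 → a = b) :
    IsCyclic G ∨ Nonempty (G ≃* QuaternionGroup 2) := by
  by_cases hc : IsCyclic G
  · exact Or.inl hc
  right
  have hord : ∀ g : G, orderOf g ∣ 4 := by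
    intro g
    obtain ⟨i, hi, he⟩ := (Nat.dvd_prime_pow Nat.prime_two).mp (show orderOf g ∣ 2 ^ 3 by
      rw [show (2 : ℕ) ^ 3 = 8 from rfl, ← hG]; exact orderOf_dvd_natCard g)
    rw [he, show (4 : ℕ) = 2 ^ 2 from rfl]
    refine pow_dvd_pow 2 ?_
    by_contra hi2
    have hi3 : i = 3 := by omega
    exact hc (isCyclic_of_orderOf_eq_card g (by rw [he, hi3, hG]; rfl))
  obtain ⟨x, hx⟩ : ∃ x : G, x * x ≠ 1 := by
    by_contra h
    push Not at h
    obtain ⟨a, ha⟩ : ∃ a : G, a ≠ 1 := by
      haveI : Nontrivial G := Finite.one_lt_card_iff_nontrivial.mp (by omega)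
      exact exists_ne 1
    have hle : Nat.card G ≤ Nat.card Bool := by
      refine Nat.card_le_card_of_injective (fun g : G => (Classical.propDecidable (g = 1)).decide) ?_
      intro g g' hg
      simp only [decide_eq_decide] at hg
      by_cases h1 : g = 1
      · rw [h1, hg.mp h1]
      · exact huniq g g' h1 (fun e => h1 (hg.mpr e)) (h g) (h g')
    simp [hG] at hle
  have hx4 : x ^ 4 = 1 := orderOf_dvd_iff_pow_eq_one.mp (hord x)
  have hox : orderOf x = 4 := by
    obtain ⟨i, hi, he⟩ := (Nat.dvd_prime_pow Nat.prime_two).mp (show orderOf x ∣ 2 ^ 2 from hord x)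
    interval_cases i
    · simp [orderOf_eq_one_iff.mp he] at hx
    · exact absurd (by rw [← pow_two, ← pow_one (2 : ℕ), ← he]; exact pow_orderOf_eq_one x) hx
    · exact he
  set C := Subgroup.zpowers x with hC
  have hCcard : Nat.card C = 4 := by rw [hC, Nat.card_zpowers, hox]
  have hCi : C.index = 2 := by
    have := C.card_mul_index; rw [hCcard, hG] at this; omega
  obtain ⟨y, hy⟩ : ∃ y : G, y ∉ C := by
    by_contra h
    push Not at h
    have : C = ⊤ := (Subgroup.eq_top_iff' C).mpr h
    rw [this, Subgroup.index_top] at hCi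
    omega
  have hyy : y * y = x ^ 2 := by
    refine huniq _ _ ?_ (by rwa [pow_two]) ?_ (by rw [← pow_add, hx4])
    · intro h1
      have := huniq y (x * x) (fun e => hy (e ▸ C.one_mem)) hx h1 (by
        rw [show x * x * (x * x) = x ^ 4 by simp [pow_succ, mul_assoc], hx4])
      exact hy (this ▸ C.mul_mem (Subgroup.mem_zpowers x) (Subgroup.mem_zpowers x))
    · have h4 : y ^ 4 = 1 := orderOf_dvd_iff_pow_eq_one.mp (hord y)
      rw [← h4]; simp [pow_succ, mul_assoc]
  obtain ⟨k, hk⟩ : ∃ k : ℕ, y * x * y⁻¹ = x ^ k := by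
    haveI : C.Normal := Subgroup.normal_of_index_eq_two hCi
    have := (inferInstance : C.Normal).conj_mem x (Subgroup.mem_zpowers x) y
    rw [hC, ← mem_powers_iff_mem_zpowers] at this
    obtain ⟨k, hk⟩ := this
    exact ⟨k, hk.symm⟩
  have hconj : y * x * y⁻¹ = x⁻¹ := by
    rw [hk, ← pow_mod_orderOf, hox]
    have h3 : x⁻¹ = x ^ 3 := inv_eq_of_mul_eq_one_right (by rw [← pow_succ', hx4])
    rw [h3]
    have hnc : ¬ Commute x y := by
      intro hcm
      have hinv : (x * y⁻¹) * (x * y⁻¹) = 1 := by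
        rw [← mul_inv_eq_one.mpr (show x * x = y * y by rw [hyy, pow_two])]
        rw [mul_assoc, ← mul_assoc y⁻¹, (hcm.inv_right).symm.eq]
        group
      rcases eq_or_ne (x * y⁻¹) 1 with h | h
      · exact hy (mul_inv_eq_one.mp h ▸ Subgroup.mem_zpowers x)
      · have := huniq _ (x * x) h hx hinv (by rw [show x * x * (x * x) = x ^ 4 by simp [pow_succ, mul_assoc], hx4])
        have hyx : y = x⁻¹ := by
          have h' := mul_left_cancel this
          rw [← inv_inv y, h']
        exact hy (hyx ▸ C.inv_mem (Subgroup.mem_zpowers x))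
    have hne1 : (y * x * y⁻¹) * (y * x * y⁻¹) ≠ 1 := by
      intro h
      apply hx
      have : y * (x * x) * y⁻¹ = 1 := by rw [← h]; group
      simpa using this
    rw [hk, ← pow_add, ← pow_mod_orderOf, hox] at hne1
    have hk4 : k % 4 < 4 := Nat.mod_lt _ (by omega)
    interval_cases hkm : k % 4
    · exact absurd (by rw [show (k + k) % 4 = 0 by omega, pow_zero]) hne1
    · exfalso
      apply hnc
      have h1 : y * x * y⁻¹ = x := by rw [hk, ← pow_mod_orderOf, hox, hkm, pow_one]
      exact (mul_inv_eq_iff_eq_mul.mp h1).symm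
    · exact absurd (by rw [show (k + k) % 4 = 0 by omega, pow_zero]) hne1
    · rfl
  have hxy : ∀ i : ℕ, x ^ i * y = y * (x ^ i)⁻¹ := by
    intro i
    have h1 : y * x ^ i * y⁻¹ = (x ^ i)⁻¹ := by rw [← conj_pow, hconj, inv_pow]
    calc x ^ i * y = ((x ^ i)⁻¹)⁻¹ * y := by rw [inv_inv]
      _ = (y * x ^ i * y⁻¹)⁻¹ * y := by rw [h1]
      _ = y * (x ^ i)⁻¹ := by group
  have hv : ∀ a b : ZMod (2 * 2), x ^ (a + b).val = x ^ a.val * x ^ b.val := by
    intro a b
    rw [← pow_add, ZMod.val_add, ← pow_mod_orderOf x (a.val + b.val), hox]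
  have hvs : ∀ a b : ZMod (2 * 2), x ^ (b - a).val = (x ^ a.val)⁻¹ * x ^ b.val := by
    intro a b
    rw [eq_inv_mul_iff_mul_eq, ← hv, add_sub_cancel]
  let f : QuaternionGroup 2 → G
    | .a i => x ^ i.val
    | .xa i => y * x ^ i.val
  have hf : ∀ u v, f (u * v) = f u * f v := by
    rintro (i | i) (j | j)
    · exact hv i j
    · change y * x ^ (j - i).val = x ^ i.val * (y * x ^ j.val)
      rw [hvs, ← mul_assoc, ← mul_assoc, hxy]
    · change y * x ^ (i + j).val = y * x ^ i.val * x ^ j.val
      rw [hv, mul_assoc]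
    · change x ^ (((2 : ℕ) : ZMod (2 * 2)) + j - i).val = y * x ^ i.val * (y * x ^ j.val)
      rw [hvs, hv, show y * x ^ i.val * (y * x ^ j.val) = y * (x ^ i.val * y) * x ^ j.val by group, hxy,
        show y * (y * (x ^ i.val)⁻¹) * x ^ j.val = (y * y) * (x ^ i.val)⁻¹ * x ^ j.val by group, hyy,
        show (((2 : ℕ) : ZMod (2 * 2))).val = 2 from rfl]
      group
  let φ : QuaternionGroup 2 →* G := MonoidHom.mk' f hf
  have hx' : x ∈ φ.range := ⟨.a 1, by change x ^ (1 : ZMod (2 * 2)).val = x; exact pow_one x⟩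
  have hy' : y ∈ φ.range := ⟨.xa 0, by change y * x ^ (0 : ZMod (2 * 2)).val = y; rw [ZMod.val_zero, pow_zero, mul_one]⟩
  have htop : φ.range = ⊤ := by
    have hle : C ≤ φ.range := Subgroup.zpowers_le.mpr hx'
    have h2 := Subgroup.index_dvd_of_le hle
    rw [hCi] at h2
    rw [← Subgroup.index_eq_one]
    rcases (Nat.dvd_prime Nat.prime_two).mp h2 with h | h
    · exact h
    · exfalso
      have : φ.range = C := by
        refine (Subgroup.eq_of_le_of_card_ge hle ?_).symm
        have := φ.range.card_mul_index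
        rw [h, hG] at this
        omega
      exact hy (this ▸ hy')
  have hsurj : Function.Surjective φ := MonoidHom.range_eq_top.mp htop
  have hbij : Function.Bijective φ := by
    refine (Nat.bijective_iff_surjective_and_card _).mpr ⟨hsurj, ?_⟩
    rw [hG, Nat.card_eq_fintype_card, QuaternionGroup.card]
  exact ⟨(MulEquiv.ofBijective φ hbij).symm⟩

/-- An element of order 8 of `GL(2,3)`. -/
def A8 : GL (Fin 2) (ZMod 3) := ⟨!![1, 1; 1, 0], !![0, 1; 1, 2], by decide, by decide⟩

/-- An involution inverting `A8` up to the cube. -/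
def B8 : GL (Fin 2) (ZMod 3) := ⟨!![2, 0; 1, 1], !![2, 0; 1, 1], by decide, by decide⟩

lemma A8_order : orderOf A8 = 8 :=
  orderOf_eq_prime_pow (p := 2) (n := 2) (by decide +kernel) (by decide +kernel)

lemma sd16_rel : B8 * A8 * B8⁻¹ = A8 ^ 3 := by decide +kernel

/-- The semidihedral subgroup generated by the two elements. -/
def SD : Subgroup (GL (Fin 2) (ZMod 3)) where
  carrier := {g | ∃ i : Fin 8, ∃ j : Fin 2, g = A8 ^ (i : ℕ) * B8 ^ (j : ℕ)}
  one_mem' := ⟨0, 0, by simp⟩
  mul_mem' := by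
    rintro _ _ ⟨i, j, rfl⟩ ⟨k, l, rfl⟩
    revert i j k l
    decide +kernel
  inv_mem' := by
    rintro _ ⟨i, j, rfl⟩
    revert i j
    decide +kernel

lemma A8_mem : A8 ∈ SD := ⟨1, 0, by simp⟩

lemma B8_mem : B8 ∈ SD := ⟨0, 1, by simp⟩

lemma SD_isPGroup : IsPGroup 2 SD := by
  rintro ⟨g, i, j, rfl⟩
  refine ⟨3, Subtype.ext ?_⟩
  change (A8 ^ (i : ℕ) * B8 ^ (j : ℕ)) ^ 2 ^ 3 = 1
  revert i j
  decide +kernel


/-- Let q be a prime, V a non-trivial finite vector space over the field with q elements, and G a non-trivial finite p-group (p prime) acting faithfully and linearly on V and transitively on the non-zero vectors. Then either q = 2 and G has prime order p = |V| − 1; or p = 2, V has q elements with q = 2^m + 1 and G is cyclic of order 2^m; or p = 2, q = 3, V has 9 elements and G is cyclic of order 8, quaternion of order 8, or semidihedral of order 16. -/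
theorem result (q : ℕ) [Fact q.Prime] {V : Type*} [AddCommGroup V] [Module (ZMod q) V] [Finite V] [Nontrivial V]
    {G : Type*} [Group G] [Finite G] [Nontrivial G] (p : ℕ) [Fact p.Prime] (hG : IsPGroup p G)
    (ρ : G →* (V ≃ₗ[ZMod q] V)) (hρ : Function.Injective ρ)
    (htrans : ∀ v w : V, v ≠ 0 → w ≠ 0 → ∃ g : G, ρ g v = w) :
    (q = 2 ∧ p = Nat.card V - 1 ∧ Nat.card G = p) ∨
    (p = 2 ∧ Nat.card V = q ∧ (∃ m : ℕ, q = 2 ^ m + 1 ∧ Nat.card G = 2 ^ m) ∧ IsCyclic G) ∨
    (p = 2 ∧ q = 3 ∧ Nat.card V = 9 ∧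
      ((IsCyclic G ∧ Nat.card G = 8) ∨ Nonempty (G ≃* QuaternionGroup 2) ∨ (Cfsg.IsQuasiDihedral G ∧ Nat.card G = 16))) := by
  classical
  haveI := Fintype.ofFinite V
  have hq : q.Prime := Fact.out
  have hp : p.Prime := Fact.out
  haveI : FiniteDimensional (ZMod q) V := Module.Finite.of_finite
  set n := Module.finrank (ZMod q) V with hn
  have hV : Nat.card V = q ^ n := by rw [hn, Module.natCard_eq_pow_finrank (K := ZMod q), Nat.card_zmod]
  have hn0 : 0 < n := Module.finrank_pos
  obtain ⟨v₀, hv₀⟩ := exists_ne (0 : V)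
  letI act : MulAction G V :=
    { smul := fun g v => ρ g v
      one_smul := fun v => show ρ 1 v = v by rw [map_one]; rfl
      mul_smul := fun g h v => show ρ (g * h) v = ρ g (ρ h v) by rw [map_mul]; rfl }
  have horb : MulAction.orbit G v₀ = {v | v ≠ 0} := by
    ext v
    constructor
    · rintro ⟨g, rfl⟩ h
      exact hv₀ ((ρ g).map_eq_zero_iff.mp h)
    · intro hv
      exact htrans v₀ v hv₀ hv
  obtain ⟨k, hk⟩ := hG.card_orbit v₀
  have hVk : Nat.card V = p ^ k + 1 := by
    rw [← hk, horb, Nat.card_coe_set_eq, show {v : V | v ≠ 0} = ({0} : Set V)ᶜ from rfl, Set.ncard_compl,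
      Set.ncard_singleton]
    have : 0 < Nat.card V := Nat.card_pos
    omega
  have hstab : ∀ v : V, v ≠ 0 → (MulAction.stabilizer G v).index = p ^ k := by
    intro v hv
    have : Nat.card (MulAction.orbit G v) = p ^ k := by
      have hv' : v ∈ MulAction.orbit G v₀ := horb ▸ hv
      rw [MulAction.orbit_eq_iff.mpr hv', hk]
    rw [MulAction.index_stabilizer, ← Nat.card_coe_set_eq, this]
  obtain ⟨m, hm⟩ := IsPGroup.iff_card.mp hG
  have hG1 : 1 < Nat.card G := Finite.one_lt_card
  -- fixed points of non-identity elements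
  have hsmall : ∀ g : G, g ≠ 1 → ∀ v : V, v ≠ 0 → ρ g v = v → p + 1 < Nat.card V := by
    intro g hg v hv hgv
    obtain ⟨u, hu⟩ : ∃ u, ρ g u ≠ u := by
      by_contra h
      push Not at h
      exact hg (hρ (LinearEquiv.ext fun u => by rw [h u, map_one]; rfl))
    obtain ⟨i, hi⟩ := (hG.to_subgroup (Subgroup.zpowers g)).card_orbit u
    have hi1 : p ≤ p ^ i := by
      rcases Nat.eq_zero_or_pos i with h | h
      · exfalso
        rw [h, pow_zero, Nat.card_eq_one_iff_unique] at hi
        apply hu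
        exact congrArg Subtype.val (hi.1.elim
          (⟨_, MulAction.mem_orbit u (⟨g, Subgroup.mem_zpowers g⟩ : Subgroup.zpowers g)⟩ : MulAction.orbit (Subgroup.zpowers g) u)
          ⟨u, MulAction.mem_orbit_self u⟩)
      · exact Nat.le_self_pow h.ne' p
    have hfixz : ∀ c : Subgroup.zpowers g, ∀ w : V, g • w = w → c • w = w := by
      intro c w hw
      obtain ⟨j, hj⟩ := Subgroup.mem_zpowers_iff.mp c.2
      change (c : G) • w = w
      rw [← hj]
      exact Subgroup.zpow_mem (MulAction.stabilizer G w) hw j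
    have hsub : MulAction.orbit (Subgroup.zpowers g) u ⊆ ({0, v} : Set V)ᶜ := by
      rintro _ ⟨c, rfl⟩ hc
      simp only at hc
      apply hu
      have hgu : g • (c • u) = c • u := by
        rcases hc with hc | hc
        · rw [hc]; exact (ρ g).map_zero
        · rw [Set.mem_singleton_iff.mp hc]; exact hgv
      have := hfixz c⁻¹ _ hgu
      rw [inv_smul_smul] at this
      rw [← this] at hgu
      exact hgu
    have hle := Set.ncard_le_ncard hsub (Set.toFinite _)
    rw [Set.ncard_compl, Set.ncard_pair (Ne.symm hv), ← Nat.card_coe_set_eq, hi] at hle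
    have h2 : 2 ≤ p := hp.two_le
    omega
  rcases hq.eq_two_or_odd' with hq2 | hqodd
  · left
    have hn2 : 2 ≤ n := by
      by_contra hn1
      obtain ⟨g, hg⟩ := exists_ne (1 : G)
      apply hg
      apply hρ
      ext v
      rw [map_one]
      change ρ g v = v
      by_cases hv : v = 0
      · rw [hv, map_zero]
      · have h2 : Nat.card V = 2 := by rw [hV, hq2, show n = 1 by omega, pow_one]
        rw [Nat.card_eq_two_iff' (0 : V)] at h2
        exact h2.unique (fun e => hv ((ρ g).map_eq_zero_iff.mp e)) hv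
    have hpodd : Odd p := by
      rcases hp.eq_two_or_odd' with rfl | h
      · exfalso
        rw [hV, hq2] at hVk
        rcases Nat.eq_zero_or_pos k with rfl | hk0
        · have h4 : 2 ^ 2 ≤ 2 ^ n := Nat.pow_le_pow_right (by omega) hn2
          simp at hVk h4
          omega
        · have h1 : 2 ∣ 2 ^ n := dvd_pow_self 2 (by omega)
          have h2 : 2 ∣ 2 ^ k := dvd_pow_self 2 hk0.ne'
          omega
      · exact h
    have hk1 := mersenne_not_power hn2 hpodd (by rw [← hVk, hV, hq2] : p ^ k + 1 = 2 ^ n)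
    rw [hk1, pow_one] at hVk
    refine ⟨hq2, by omega, ?_⟩
    have : MulAction.stabilizer G v₀ = ⊥ := by
      rw [Subgroup.eq_bot_iff_forall]
      intro g hg
      by_contra h1
      have := hsmall g h1 v₀ hv₀ hg
      omega
    have h1 := hstab v₀ hv₀
    rw [this, Subgroup.index_bot, hk1, pow_one] at h1
    exact h1
  · right
    have hq3 : 3 ≤ q := by have := hq.two_le; rcases hqodd with ⟨a, rfl⟩; omega
    have hqn : 3 ≤ q ^ n := le_trans hq3 (Nat.le_self_pow hn0.ne' q)
    have hp2 : p = 2 := by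
      by_contra hp2
      have h1 : Odd (p ^ k) := (hp.odd_of_ne_two hp2).pow
      have h2 : Odd (q ^ n) := hqodd.pow
      rw [← hV, hVk] at h2
      exact (Nat.not_odd_iff_even.mpr h1.add_one) h2
    subst hp2
    rcases odd_power_succ_two_pow hqodd hq3 hn0 (hV.symm.trans hVk) with h1 | ⟨hq9, hn9⟩
    · left
      have hVq : Nat.card V = q := by rw [hV, h1, pow_one]
      have hex : ∀ v : V, ∃ c : ZMod q, c • v₀ = v := (finrank_eq_one_iff_of_nonzero' v₀ hv₀).mp h1
      have hfree : ∀ g : G, ρ g v₀ = v₀ → g = 1 := by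
        intro g hg
        apply hρ
        ext v
        obtain ⟨c, rfl⟩ := hex v
        rw [map_smul, hg, map_one]
        rfl
      choose c hc using fun g : G => hex (ρ g v₀)
      refine ⟨rfl, hVq, ⟨k, hVq ▸ hVk, ?_⟩, ?_⟩
      · have : MulAction.stabilizer G v₀ = ⊥ := (Subgroup.eq_bot_iff_forall _).mpr fun g hg => hfree g hg
        have h2 := hstab v₀ hv₀
        rwa [this, Subgroup.index_bot] at h2
      · have hinj : ∀ a b : ZMod q, a • v₀ = b • v₀ → a = b := fun a b h => smul_left_injective (ZMod q) hv₀ h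
        let χ : G →* ZMod q :=
          { toFun := c
            map_one' := hinj _ _ (by rw [hc, map_one, one_smul]; rfl)
            map_mul' := fun g h => hinj _ _ (by
              rw [hc, map_mul, mul_comm, mul_smul, hc g, ← map_smul, hc h]; rfl) }
        refine isCyclic_of_subgroup_isDomain χ fun g h e => ?_
        have e' : ρ g v₀ = ρ h v₀ := by rw [← hc g, ← hc h, show c g = c h from e]
        have : h⁻¹ * g = 1 := hfree _ (by
          rw [map_mul]; change ρ h⁻¹ (ρ g v₀) = v₀
          rw [e', map_inv]; exact (ρ h).symm_apply_apply v₀)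
        exact (inv_mul_eq_one.mp this).symm
    · right
      subst hq9
      refine ⟨rfl, rfl, by rw [hV, hn9]; norm_num, ?_⟩
      have hV9 : Nat.card V = 9 := by rw [hV, hn9]; norm_num
      have hk3 : k = 3 := Nat.pow_right_injective (le_refl 2) (show 2 ^ k = 2 ^ 3 by omega)
      -- embedding in GL(2,3)
      let b := Module.finBasisOfFinrankEq (ZMod 3) V hn9
      let φ : G →* GL (Fin 2) (ZMod 3) :=
        (Units.map (LinearMap.toMatrixAlgEquiv b).toRingEquiv.toMonoidHom).comp
          ((LinearMap.GeneralLinearGroup.generalLinearEquiv (ZMod 3) V).symm.toMonoidHom.comp ρ)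
      have hφ : Function.Injective φ :=
        fun g h e => hρ ((LinearMap.GeneralLinearGroup.generalLinearEquiv (ZMod 3) V).symm.injective
          (Units.map_injective (f := (LinearMap.toMatrixAlgEquiv b).toRingEquiv.toMonoidHom)
            (LinearMap.toMatrixAlgEquiv b).injective e))
      have hGL : Nat.card (GL (Fin 2) (ZMod 3)) = 48 := by
        rw [Matrix.card_GL_field, ZMod.card]; rfl
      have hrng : Nat.card φ.range = 2 ^ m := by
        rw [← hm]; exact (Nat.card_congr (MonoidHom.ofInjective hφ).toEquiv).symm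
      have hm4 : m ≤ 4 := by
        have h := φ.range.card_subgroup_dvd_card
        rw [hrng, hGL] at h
        by_contra hm5
        have : 2 ^ 5 ∣ 48 := (pow_dvd_pow 2 (by omega : 5 ≤ m)).trans h
        norm_num at this
      have hm3 : 3 ≤ m := by
        have h := (MulAction.stabilizer G v₀).index_dvd_card
        rw [hstab v₀ hv₀, hm, hk3] at h
        exact (Nat.pow_dvd_pow_iff_le_right (le_refl 2)).mp h
      rcases (show m = 3 ∨ m = 4 by omega) with h3 | h4
      · have hG8 : Nat.card G = 8 := by rw [hm, h3]; rfl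
        have hfree : ∀ g : G, g ≠ 1 → ∀ v : V, v ≠ 0 → ρ g v ≠ v := by
          intro g hg v hv hgv
          have h := hstab v hv
          rw [hk3] at h
          have h2 := (MulAction.stabilizer G v).card_mul_index
          rw [h, hG8] at h2
          have h3 : MulAction.stabilizer G v = ⊥ := Subgroup.card_eq_one.mp (by omega)
          exact hg ((Subgroup.eq_bot_iff_forall _).mp h3 g hgv)
        have hneg : ∀ g : G, g ≠ 1 → g * g = 1 → ∀ v, ρ g v = -v := by
          intro g hg hgg v
          have hfix : ρ g (v + ρ g v) = v + ρ g v := by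
            rw [map_add, show ρ g (ρ g v) = v by
              change (ρ g * ρ g) v = v
              rw [← map_mul, hgg, map_one]; rfl, add_comm]
          by_contra hne
          exact hfree g hg _ (fun h => hne (eq_neg_of_add_eq_zero_right h)) hfix
        rcases cyclic_or_quaternion hG8 (fun a b ha hb haa hbb => hρ (LinearEquiv.ext fun v => by
          rw [hneg a ha haa, hneg b hb hbb])) with h | h
        · exact Or.inl ⟨h, hG8⟩
        · exact Or.inr (Or.inl h)
      · right; right
        have hG16 : Nat.card G = 16 := by rw [hm, h4]; rfl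
        refine ⟨?_, hG16⟩
        have hmult : Nat.card φ.range = 2 ^ (Nat.card (GL (Fin 2) (ZMod 3))).factorization 2 := by
          rw [hrng, h4, hGL, show (48 : ℕ) = 2 ^ 4 * 3 from rfl, Nat.factorization_mul (by norm_num) (by norm_num),
            Finsupp.add_apply, Nat.Prime.factorization_pow Nat.prime_two, Nat.Prime.factorization (by norm_num : Nat.Prime 3)]
          simp
        let P : Sylow 2 (GL (Fin 2) (ZMod 3)) := Sylow.ofCard φ.range hmult
        obtain ⟨Q, hQ⟩ := SD_isPGroup.exists_le_sylow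
        obtain ⟨c, hc⟩ := MulAction.exists_smul_eq (GL (Fin 2) (ZMod 3)) Q P
        have hmem : ∀ g ∈ SD, ∃ x : G, φ x = c * g * c⁻¹ := by
          intro g hg
          have h : c * g * c⁻¹ ∈ (↑(c • Q) : Subgroup (GL (Fin 2) (ZMod 3))) := ⟨g, hQ hg, rfl⟩
          rw [hc] at h
          exact h
        obtain ⟨x, hx⟩ := hmem A8 A8_mem
        obtain ⟨y, hy⟩ := hmem B8 B8_mem
        have hB : orderOf B8 = 2 := orderOf_eq_prime (by decide +kernel) (by decide +kernel)
        refine ⟨3, le_refl 3, hG16, x, y, ?_, ?_, hφ ?_⟩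
        · rw [← orderOf_injective φ hφ, hx, ← MulAut.conj_apply,
            MulEquiv.orderOf_eq, A8_order]
          rfl
        · rw [← orderOf_injective φ hφ, hy, ← MulAut.conj_apply,
            MulEquiv.orderOf_eq, hB]
        · rw [map_mul, map_mul, map_inv, map_pow, hx, hy, conj_pow, show (2 ^ (3 - 1) - 1) = 3 from rfl, ← sd16_rel]
          group

end Cfsg.Agent.S3370
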