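import Cfsg.Statements.S0762

set_option autoImplicit false
open Cfsg

namespace Cfsg.Agent.S0762

/-- In characteristic two over a finite field, a quadratic form on a space of dimension at least 3 vanishes on some non-zero vector. -/
theorem result {F V : Type*} [Field F] [Finite F] [CharP F 2] [AddCommGroup V] [Module F V] [FiniteDimensional F V] (Q : QuadraticForm F V) (h3 : 3 ≤ Module.finrank F V) : ∃ v : V, v ≠ 0 ∧ Q v = 0 := by
  haveI : Nontrivial V := Module.nontrivial_of_finrank_pos (R := F) (by omega)
  obtain ⟨v, hv⟩ := exists_ne (0 : V)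
  by_cases hQv : Q v = 0
  · exact ⟨v, hv, hQv⟩
  let L : V →ₗ[F] F := QuadraticMap.polarBilin Q v
  obtain ⟨w, hw, hwv⟩ : ∃ w ∈ LinearMap.ker L, w ∉ Submodule.span F {v} := by
    by_contra h
    have hle : LinearMap.ker L ≤ Submodule.span F {v} := fun w hw => not_not.1 fun h' => h ⟨w, hw, h'⟩
    have h1 := Submodule.finrank_mono hle
    rw [finrank_span_singleton hv] at h1
    have h2 := L.finrank_range_add_finrank_ker
    have h3 := Submodule.finrank_le (LinearMap.range L)
    rw [Module.finrank_self] at h3
    omega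
  obtain ⟨a, ha⟩ := FiniteField.isSquare_of_char_two (ringChar.eq F 2) (Q w / Q v)
  refine ⟨a • v + w, fun h => hwv ?_, ?_⟩
  · rw [Submodule.mem_span_singleton]
    exact ⟨-a, by rw [neg_smul]; exact neg_eq_of_add_eq_zero_right h⟩
  · have hp : QuadraticMap.polar Q v w = 0 := hw
    rw [QuadraticMap.map_add Q, QuadraticMap.map_smul, QuadraticMap.polar_smul_left, hp, smul_zero,
      smul_eq_mul, ← ha, div_mul_cancel₀ _ hQv, add_zero, CharTwo.add_self_eq_zero]

end Cfsg.Agent.S0762
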