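import Cfsg.Statements.S2616
import Cfsg.Agent.StdBasis.Basic

set_option autoImplicit false
open Cfsg

namespace Cfsg.Agent.S2616



/-- Standard bases of a non-degenerate quadratic space of even dimension 2m over a finite field: either there is a hyperbolic basis e_i, f_i (Q(e_i) = Q(f_i) = 0, B(e_i, f_j) = δ_ij, the e's pairwise orthogonal and the f's pairwise orthogonal, B the polar form), or there is an elliptic basis: hyperbolic pairs e_i, f_i for i < m − 1 together with x, y orthogonal to them with Q(x) = 1, B(x, y) = 1, Q(y) = ζ where t² + t + ζ has no root in the field. -/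
theorem result {F V : Type*} [Field F] [Finite F] [AddCommGroup V] [Module F V] [FiniteDimensional F V] {m : ℕ} (hm : 1 ≤ m) (hV : Module.finrank F V = 2 * m) (Q : QuadraticForm F V) (hQ : (QuadraticMap.polarBilin Q).Nondegenerate) : (∃ b : Module.Basis (Fin m ⊕ Fin m) F V, (∀ i, Q (b (Sum.inl i)) = 0 ∧ Q (b (Sum.inr i)) = 0) ∧ (∀ i j, QuadraticMap.polar ⇑Q (b (Sum.inl i)) (b (Sum.inr j)) = if i = j then 1 else 0) ∧ (∀ i j, QuadraticMap.polar ⇑Q (b (Sum.inl i)) (b (Sum.inl j)) = 0 ∧ QuadraticMap.polar ⇑Q (b (Sum.inr i)) (b (Sum.inr j)) = 0)) ∨ (∃ (b : Module.Basis ((Fin (m - 1) ⊕ Fin (m - 1)) ⊕ Fin 2) F V) (ζ : F), (∀ t : F, t ^ 2 + t + ζ ≠ 0) ∧ (∀ i, Q (b (Sum.inl (Sum.inl i))) = 0 ∧ Q (b (Sum.inl (Sum.inr i))) = 0) ∧ (∀ i j, QuadraticMap.polar ⇑Q (b (Sum.inl (Sum.inl i))) (b (Sum.inl (Sum.inr j))) = if i = j then 1 else 0) ∧ (∀ i j, QuadraticMap.polar ⇑Q (b (Sum.inl (Sum.inl i))) (b (Sum.inl (Sum.inl j)))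 = 0 ∧ QuadraticMap.polar ⇑Q (b (Sum.inl (Sum.inr i))) (b (Sum.inl (Sum.inr j))) = 0) ∧ (∀ i (k : Fin 2), QuadraticMap.polar ⇑Q (b (Sum.inl (Sum.inl i))) (b (Sum.inr k)) = 0 ∧ QuadraticMap.polar ⇑Q (b (Sum.inl (Sum.inr i))) (b (Sum.inr k)) = 0) ∧ Q (b (Sum.inr 0)) = 1 ∧ QuadraticMap.polar ⇑Q (b (Sum.inr 0)) (b (Sum.inr 1)) = 1 ∧ Q (b (Sum.inr 1)) = ζ) := by
  obtain ⟨k, d, e, f, t, hkd, hfam, hd2, hnorm⟩ := CfsgLib.StdBasis.exists_decomp Q hQ hV
  rcases (show d = 0 ∨ d = 2 by omega) with rfl | rfl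
  · obtain rfl : k = m := by omega
    left
    have hli : LinearIndependent F (Sum.elim e f) := hfam.li.comp _ Sum.inl_injective
    haveI : Nonempty (Fin k ⊕ Fin k) := ⟨Sum.inl ⟨0, hm⟩⟩
    refine ⟨basisOfLinearIndependentOfCardEqFinrank hli (by simp; omega), ?_⟩
    simp only [coe_basisOfLinearIndependentOfCardEqFinrank, Sum.elim_inl, Sum.elim_inr]
    exact ⟨fun i => ⟨hfam.qe i, hfam.qf i⟩, hfam.ef, fun i j => ⟨hfam.ee i j, hfam.ff i j⟩⟩
  · obtain rfl : k = m - 1 := by omega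
    right
    obtain ⟨h1, h2⟩ := hnorm rfl
    refine ⟨basisOfLinearIndependentOfCardEqFinrank hfam.li (by simp; omega), Q (t 1), ?_⟩
    simp only [coe_basisOfLinearIndependentOfCardEqFinrank, Sum.elim_inl, Sum.elim_inr]
    refine ⟨fun r hr => ?_, fun i => ⟨hfam.qe i, hfam.qf i⟩, hfam.ef,
      fun i j => ⟨hfam.ee i j, hfam.ff i j⟩, fun i l => ⟨hfam.te i l, hfam.tf i l⟩, h1, h2, trivial⟩
    have h := congrFun (hfam.tail ![r, 1] (by
      rw [Fin.sum_univ_two]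
      simp only [Matrix.cons_val_zero, Matrix.cons_val_one, one_smul, QuadraticMap.map_add (⇑Q),
        QuadraticMap.map_smul, QuadraticMap.polar_smul_left]
      rw [show Q (t 0) = 1 from h1, show QuadraticMap.polar (⇑Q) (t 0) (t 1) = 1 from h2, ← hr]
      simp only [smul_eq_mul]
      ring)) 1
    simp at h

end Cfsg.Agent.S2616
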