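import Cfsg.Statements.S2618
import Cfsg.Agent.StdBasis.Basic

set_option autoImplicit false
open Cfsg

namespace Cfsg.Agent.S2618



/-- Standard (parabolic) basis of a non-degenerate quadratic space of odd dimension 2m + 1 over a finite field (the non-degeneracy of the polar form forces the characteristic to be odd): there is a basis e_i, f_i (i < m), x with Q(e_i) = Q(f_i) = 0, B(e_i, f_j) = δ_ij (B the polar form), the e's pairwise orthogonal and the f's pairwise orthogonal, x orthogonal to all of them and Q(x) ≠ 0. -/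
theorem result {F V : Type*} [Field F] [Finite F] [AddCommGroup V] [Module F V] [FiniteDimensional F V] {m : ℕ} (hV : Module.finrank F V = 2 * m + 1) (Q : QuadraticForm F V) (hQ : (QuadraticMap.polarBilin Q).Nondegenerate) : ∃ b : Module.Basis (Unit ⊕ (Fin m ⊕ Fin m)) F V, Q (b (Sum.inl ())) ≠ 0 ∧ (∀ i, QuadraticMap.polar ⇑Q (b (Sum.inl ())) (b (Sum.inr (Sum.inl i))) = 0 ∧ QuadraticMap.polar ⇑Q (b (Sum.inl ())) (b (Sum.inr (Sum.inr i))) = 0) ∧ (∀ i, Q (b (Sum.inr (Sum.inl i))) = 0 ∧ Q (b (Sum.inr (Sum.inr i))) = 0) ∧ (∀ i j, QuadraticMap.polar ⇑Q (b (Sum.inr (Sum.inl i))) (b (Sum.inr (Sum.inr j))) = if i = j then 1 else 0) ∧ (∀ i j, QuadraticMap.polar ⇑Q (b (Sum.inr (Sum.inl i))) (b (Sum.inr (Sum.inl j))) = 0 ∧ QuadraticMap.polar ⇑Q (b (Sum.inr (Sum.inr i))) (b (Sum.inr (Sum.inr j))) = 0) := by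
  obtain ⟨k, d, e, f, t, hkd, hfam, hd2, -⟩ := CfsgLib.StdBasis.exists_decomp Q hQ hV
  obtain rfl : d = 1 := by omega
  obtain rfl : k = m := by omega
  let g : Unit ⊕ (Fin k ⊕ Fin k) → (Fin k ⊕ Fin k) ⊕ Fin 1 := Sum.elim (fun _ => Sum.inr 0) Sum.inl
  have hg : Function.Injective g := by
    rintro (a | a) (b | b) h <;> simp_all [g]
  have hli : LinearIndependent F (Sum.elim (Sum.elim e f) t ∘ g) := hfam.li.comp g hg
  haveI : Nonempty (Unit ⊕ (Fin k ⊕ Fin k)) := ⟨Sum.inl ()⟩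
  refine ⟨basisOfLinearIndependentOfCardEqFinrank hli (by simp; omega), ?_⟩
  simp only [coe_basisOfLinearIndependentOfCardEqFinrank, Function.comp, g, Sum.elim_inl,
    Sum.elim_inr]
  refine ⟨fun h => ?_, fun i => ⟨?_, ?_⟩, fun i => ⟨hfam.qe i, hfam.qf i⟩, hfam.ef,
    fun i j => ⟨hfam.ee i j, hfam.ff i j⟩⟩
  · have h' := congrFun (hfam.tail 1 (by simpa using h)) 0
    simp at h'
  · rw [QuadraticMap.polar_comm]; exact hfam.te i 0
  · rw [QuadraticMap.polar_comm]; exact hfam.tf i 0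

end Cfsg.Agent.S2618
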