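import Cfsg.Statements.S0502
import Cfsg.Agent.Classification.Four

set_option autoImplicit false
open Cfsg CfsgLib.Classification
open scoped Pointwise

namespace Cfsg.Agent.S0502

/-- If a finite 2-group has a normal elementary abelian subgroup of order at least 8, then any two of its Klein
four-subgroups are joined by a chain of Klein four-subgroups with consecutive members commuting elementwise. -/
theorem result {P : Type*} [Group P] [Finite P] (hP : IsPGroup 2 P)
    (E : Subgroup P) [E.Normal] (hE : IsMulCommutative E) (hE2 : ∀ e ∈ E, e ^ 2 = 1) (hE8 : 8 ≤ Nat.card E) :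
    Cfsg.IsFourConnected P := by
  classical
  intro U V hU hV
  obtain ⟨z, hzE, hz1, hzc⟩ : ∃ z ∈ E, z ≠ 1 ∧ ∀ g : P, g * z = z * g := by
    let _ : MulAction P E := MulAction.compHom E (MulAut.conjNormal (H := E))
    have hdvd : 2 ∣ Nat.card E := by
      obtain ⟨k, hk⟩ := (IsPGroup.iff_card (p := 2)).mp (hP.to_subgroup E)
      rw [hk] at hE8 ⊢
      refine dvd_pow_self 2 ?_
      rintro rfl
      norm_num at hE8
    have h1 : (1 : E) ∈ MulAction.fixedPoints P E := fun g => map_one (MulAut.conjNormal (H := E) g)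
    obtain ⟨z, hz, hne⟩ := hP.exists_fixed_point_of_prime_dvd_card_of_fixed_point E hdvd h1
    refine ⟨z, z.2, fun h => hne (Subtype.ext h.symm), fun g => ?_⟩
    have h2 : g * (z : P) * g⁻¹ = z :=
      (MulAut.conjNormal_apply g z).symm.trans (congrArg Subtype.val (hz g))
    exact mul_inv_eq_iff_eq_mul.mp h2
  have hsq : ∀ e ∈ E, e * e = 1 := fun e he => by rw [← sq]; exact hE2 e he
  have hEc : ∀ a ∈ E, ∀ b ∈ E, a * b = b * a := fun a ha b hb =>
    congrArg Subtype.val (hE.is_comm.comm ⟨a, ha⟩ ⟨b, hb⟩)
  let R := fun A B : Subgroup P => IsKleinFour A ∧ IsKleinFour B ∧ ∀ a ∈ A, ∀ b ∈ B, a * b = b * a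
  have hsymm : ∀ A B, R A B → R B A := fun A B h =>
    ⟨h.2.1, h.1, fun b hb a ha => (h.2.2 a ha b hb).symm⟩
  have key : ∀ U : Subgroup P, IsKleinFour U →
      ∃ W : Subgroup P, W ≤ E ∧ IsKleinFour W ∧ Relation.ReflTransGen R U W ∧
        Relation.ReflTransGen R W U := by
    intro U hU
    obtain ⟨u, huU, hu1, huz⟩ := exists_mem_ne_of_isKleinFour hU z
    have hu2 := sq_eq_one_of_isKleinFour hU huU
    have hV₁ := isKleinFour_fourSpan hu2 (hsq z hzE) (hzc u) hu1 hz1 huz
    obtain ⟨w, hwE, hwu, hw1, hwz⟩ : ∃ w ∈ E, u * w = w * u ∧ w ≠ 1 ∧ w ≠ z := by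
      let f : E → E := fun e => ⟨e * (u * e * u⁻¹), E.mul_mem e.2 (Subgroup.Normal.conj_mem inferInstance _ e.2 u)⟩
      let S : Set E := {e | u * (e : P) = e * u}
      have huinv : u⁻¹ = u := inv_eq_of_mul_eq_one_left hu2
      have himg : ∀ e : E, f e ∈ S := by
        intro e
        show u * (e * (u * e * u⁻¹)) = e * (u * e * u⁻¹) * u
        rw [huinv]
        have h := hEc (u * e * u) (by simpa [huinv] using Subgroup.Normal.conj_mem inferInstance (e : P) e.2 u) e e.2
        calc u * (e * (u * e * u)) = u * e * u * e * u := by group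
          _ = e * (u * e * u) * u := by rw [h]
      by_contra hcon
      push Not at hcon
      have hS : S ⊆ {1, ⟨z, hzE⟩} := fun e he => by
        by_cases he1 : (e : P) = 1
        · exact Or.inl (Subtype.ext he1)
        · exact Or.inr (Subtype.ext (hcon e e.2 he he1))
      have hScard : S.ncard ≤ 2 := (Set.ncard_le_ncard hS).trans
        ((Set.ncard_insert_le _ _).trans (by simp))
      have hfib : ∀ a b : E, f a = f b → a⁻¹ * b ∈ S := by
        intro a b hab
        have h0 : (a : P) * (u * a * u) = b * (u * b * u) := by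
          simpa [f, huinv] using congrArg Subtype.val hab
        have hma : u * (a : P) * u ∈ E := by simpa [huinv] using Subgroup.Normal.conj_mem inferInstance (a : P) a.2 u
        have hb' : (b : P)⁻¹ = b := inv_eq_of_mul_eq_one_left (hsq b b.2)
        have ha' : (a : P)⁻¹ = a := inv_eq_of_mul_eq_one_left (hsq a a.2)
        have h2 : (a : P) * b = u * a * u * (u * b * u) := by
          calc (a : P) * b = (a * (u * a * u)) * (u * a * u)⁻¹ * b := by group
            _ = b * (u * b * u) * (u * a * u)⁻¹ * b := by rw [h0]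
            _ = _ := by
              have hmb : u * (b : P) * u ∈ E := by simpa [huinv] using Subgroup.Normal.conj_mem inferInstance (b : P) b.2 u
              rw [inv_eq_of_mul_eq_one_left (hsq _ hma), hEc b b.2 _ hmb, mul_assoc _ (b : P) _,
                hEc b b.2 _ hma, ← mul_assoc, mul_assoc _ (b : P) b, hsq b b.2, mul_one,
                hEc _ hmb _ hma]
        show u * ((a : P)⁻¹ * b) = (a : P)⁻¹ * b * u
        rw [ha']
        conv_rhs => rw [h2]
        calc u * ((a : P) * b) = u * a * (u * u) * b * (u * u) := by rw [hu2]; group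
          _ = _ := by group
      let g : E → S × S := fun e => (⟨f e, himg e⟩,
        ⟨(Function.invFun f (f e))⁻¹ * e, hfib _ _ (Function.invFun_eq ⟨e, rfl⟩)⟩)
      have ginj : Function.Injective g := by
        intro a b hab
        have h1 : f a = f b := congrArg (fun p => (p.1 : E)) hab
        have h2 : (Function.invFun f (f a))⁻¹ * a = (Function.invFun f (f b))⁻¹ * b :=
          congrArg (fun p => (p.2 : E)) hab
        rw [h1] at h2
        exact mul_left_cancel h2
      have := Nat.card_le_card_of_injective g ginj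
      rw [Nat.card_prod, Nat.card_coe_set_eq] at this
      nlinarith
    have hzw := hzc w
    have hW := isKleinFour_fourSpan (hsq w hwE) (hsq z hzE) hzw hw1 hz1 hwz
    have hWle : fourSpan w z (hsq w hwE) (hsq z hzE) hzw ≤ E := by
      intro x hx
      rcases mem_fourSpan.mp hx with rfl | rfl | rfl | rfl
      exacts [E.one_mem, hwE, hzE, E.mul_mem hwE hzE]
    have e1 : R U (fourSpan u z hu2 (hsq z hzE) (hzc u)) := by
      refine ⟨hU, hV₁, fun a ha b hb => ?_⟩
      have hau := comm_of_isKleinFour hU ha huU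
      rcases mem_fourSpan.mp hb with rfl | rfl | rfl | rfl
      · simp
      · exact hau
      · exact hzc a
      · rw [← mul_assoc, hau, mul_assoc, hzc a, ← mul_assoc]
    have e2 : R (fourSpan u z hu2 (hsq z hzE) (hzc u)) (fourSpan w z (hsq w hwE) (hsq z hzE) hzw) := by
      refine ⟨hV₁, hW, fun a ha b hb => ?_⟩
      have hb' : u * b = b * u := by
        rcases mem_fourSpan.mp hb with rfl | rfl | rfl | rfl
        · simp
        · exact hwu
        · exact hzc u
        · rw [← mul_assoc, hwu, mul_assoc, hzc u, ← mul_assoc]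
      rcases mem_fourSpan.mp ha with rfl | rfl | rfl | rfl
      · simp
      · exact hb'
      · exact (hzc b).symm
      · rw [mul_assoc, ← hzc b, ← mul_assoc, hb', mul_assoc]
    exact ⟨_, hWle, hW, (Relation.ReflTransGen.single e1).tail e2,
      (Relation.ReflTransGen.single (hsymm _ _ e2)).tail (hsymm _ _ e1)⟩
  obtain ⟨W, hWE, hW, hUW, -⟩ := key U hU
  obtain ⟨W', hWE', hW', -, hWV⟩ := key V hV
  exact (hUW.tail ⟨hW, hW', fun a ha b hb => hEc a (hWE ha) b (hWE' hb)⟩).trans hWV

end Cfsg.Agent.S0502
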