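import Cfsg.Statements.S1327
import Cfsg.Agent.Components.PComponents
import Cfsg.Agent.Components.FStar
import Cfsg.Agent.PLocal.Constraint

set_option autoImplicit false
open Cfsg

namespace Cfsg.Agent.S1327

/-- A finite group X is p-constrained if and only if its p-layer L_{p'}(X) is trivial (equivalently X / O_{p'}(X) has trivial layer). -/
theorem result {X : Type*} [Group X] [Finite X] (p : ℕ) [Fact p.Prime] : Cfsg.IsPConstrained p X ↔ Cfsg.pLayer p X = ⊥ := by
  rw [CfsgLib.PLocal.isPConstrained_iff, CfsgLib.Components.pLayer_eq_bot_iff]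
  have hbot := CfsgLib.PLocal.pPrimeCore_quotient_pPrimeCore_eq_bot p X
  constructor
  · intro h
    rw [CfsgLib.Components.layer_eq_bot_iff]
    intro L hL
    apply CfsgLib.Components.IsComponent.not_isSolvable hL
    have hle : L ≤ Cfsg.pCore p (X ⧸ Cfsg.pPrimeCore p X) := by
      refine le_trans ?_ h
      refine ((CfsgLib.Components.IsComponent.le_layer hL).trans
        CfsgLib.Components.layer_le_centralizer_fittingSubgroup).trans ?_
      exact Subgroup.centralizer_le
        (SetLike.coe_subset_coe.2 (CfsgLib.Components.pCore_le_fittingSubgroup p))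
    haveI : Group.IsNilpotent ↥(Cfsg.pCore p (X ⧸ Cfsg.pPrimeCore p X)) :=
      (CfsgLib.Components.isPGroup_pCore p).isNilpotent
    exact CfsgLib.Components.isSolvable_mono inferInstance hle
  · intro h
    have hF := CfsgLib.Components.generalizedFitting_eq_pCore p h fun N hN hc => by
      haveI := hN
      exact le_bot_iff.1 (hbot ▸ CfsgLib.PLocal.le_pPrimeCore hc)
    have h2 := CfsgLib.Components.centralizer_generalizedFitting_le_self
      (G := X ⧸ Cfsg.pPrimeCore p X)
    rwa [hF] at h2

end Cfsg.Agent.S1327
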