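import Cfsg.Statements.S1295
import Cfsg.Agent.SolvSig.Equivariant
import Cfsg.Agent.Inv53.Constrained
import Cfsg.Agent.S1327
import Cfsg.Agent.Transitivity.KBalanced

set_option autoImplicit false
open Cfsg

namespace Cfsg.Agent.S1295

theorem not_dvd_centralizerPPrimeCore {G : Type*} [Group G] [Finite G] {p : ℕ} [Fact p.Prime]
    (a : G) : ¬ p ∣ Nat.card ↥(Cfsg.centralizerPPrimeCore p a) :=
  CfsgLib.Transitivity.not_dvd_centralizerPPrimeCore a

theorem centralizerPPrimeCore_conj {G : Type*} [Group G] [Finite G] {p : ℕ} [Fact p.Prime]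
    (a g : G) : Cfsg.centralizerPPrimeCore p (g * a * g⁻¹) =
      (Cfsg.centralizerPPrimeCore p a).map (MulAut.conj g).toMonoidHom := by
  have key : ∀ (a g : G), (Cfsg.centralizerPPrimeCore p a).map (MulAut.conj g).toMonoidHom ≤
      Cfsg.centralizerPPrimeCore p (g * a * g⁻¹) := by
    intro a g
    set X := (Cfsg.centralizerPPrimeCore p a).map (MulAut.conj g).toMonoidHom
    have hCa : (Subgroup.centralizer ({a} : Set G)).map (MulAut.conj g).toMonoidHom =
        Subgroup.centralizer ({g * a * g⁻¹} : Set G) := by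
      ext x
      simp only [Subgroup.mem_map_equiv, Subgroup.mem_centralizer_singleton_iff, MulAut.conj_symm_apply]
      constructor
      · intro h
        calc x * (g * a * g⁻¹) = g * (g⁻¹ * x * g * a) * g⁻¹ := by group
          _ = g * (a * (g⁻¹ * x * g)) * g⁻¹ := by rw [h]
          _ = g * a * g⁻¹ * x := by group
      · intro h
        calc g⁻¹ * x * g * a = g⁻¹ * (x * (g * a * g⁻¹)) * g := by group
          _ = g⁻¹ * (g * a * g⁻¹ * x) * g := by rw [h]
          _ = a * (g⁻¹ * x * g) := by group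
    refine CfsgLib.SolvSig.le_core' (r := p)
      ((Subgroup.map_mono (Subgroup.map_subtype_le _)).trans hCa.le) ?_ ?_
    · rw [← hCa]
      exact (Subgroup.map_mono (Subgroup.le_normalizer.trans
        (CfsgLib.SolvSig.normalizer_le_normalizer_core' p _))).trans (Subgroup.le_normalizer_map _)
    · rw [Subgroup.card_map_of_injective (MulAut.conj g).injective]
      exact CfsgLib.SolvSig.card_core'_coprime p _
  refine le_antisymm ?_ (key a g)
  intro x hx
  have h := key (g * a * g⁻¹) g⁻¹ ⟨x, hx, rfl⟩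
  rw [show g⁻¹ * (g * a * g⁻¹) * g⁻¹⁻¹ = a by group] at h
  exact ⟨_, h, by simp [mul_assoc]⟩

/-- Balance for a `p`-constrained centraliser. -/
theorem balance {G : Type*} [Group G] [Finite G] {p : ℕ} [Fact p.Prime] {a b : G}
    (hc : Cfsg.IsPConstrained p ↥(Subgroup.centralizer ({b} : Set G))) (ha : orderOf a = p)
    (hab : a * b = b * a) :
    Cfsg.centralizerPPrimeCore p a ⊓ Subgroup.centralizer {b} ≤ Cfsg.centralizerPPrimeCore p b := by
  set H := Subgroup.centralizer ({b} : Set G)
  set X := Cfsg.centralizerPPrimeCore p a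
  have haH : a ∈ H := Subgroup.mem_centralizer_singleton_iff.mpr hab
  intro x hx
  refine ⟨⟨x, hx.2⟩, ?_, rfl⟩
  refine CfsgLib.Inv53.le_pPrimeCore_of_normalized hc (A := (Subgroup.zpowers a).subgroupOf H)
    (X := X.subgroupOf H) ?_ ?_ ?_ ?_ hx.1
  · refine IsPGroup.comap_subtype (IsPGroup.of_card (n := 1) ?_)
    rw [Nat.card_zpowers, ha, pow_one]
  · rw [← Subgroup.card_map_of_injective H.subtype_injective, Subgroup.subgroupOf_map_subtype]
    exact (CfsgLib.SolvSig.card_core'_coprime p _).coprime_dvd_left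
      (Subgroup.card_dvd_of_le inf_le_left)
  · intro y hy
    refine Subgroup.mem_centralizer_iff.mpr fun z hz => Subtype.ext ?_
    obtain ⟨k, hk⟩ := Subgroup.mem_zpowers_iff.mp hy
    show (z : G) * y = y * z
    rw [show (y : G) = a ^ k from hk.symm]
    exact (Commute.zpow_right (Subgroup.mem_centralizer_singleton_iff.mp
      (Subgroup.map_subtype_le _ hz) : Commute (z : G) a) k).eq
  · intro c hc'
    have hca : (c : G) ∈ Subgroup.centralizer ({a} : Set G) :=
      Subgroup.mem_centralizer_singleton_iff.mpr (congrArg Subtype.val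
        (Subgroup.mem_centralizer_iff.mp hc' ⟨a, haH⟩ (Subgroup.mem_zpowers a))).symm
    exact Subgroup.mem_normalizer_iff.mpr fun y => Subgroup.mem_normalizer_iff.mp
      (CfsgLib.SolvSig.normalizer_le_normalizer_core' p _ (Subgroup.le_normalizer hca)) (y : G)

theorem layer_eq_bot {X : Type*} [Group X] [Finite X] {p : ℕ} [Fact p.Prime]
    (hc : Cfsg.IsPConstrained p X) (hb : Cfsg.pPrimeCore p X = ⊥) : Cfsg.layer X = ⊥ := by
  rw [CfsgLib.Components.layer_eq_bot_iff]
  intro L hL
  apply CfsgLib.Components.IsComponent.not_isSolvable hL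
  have hle : L ≤ Cfsg.pCore p X := by
    refine le_trans ?_ (CfsgLib.Inv53.centralizer_pCore_le hc hb)
    refine ((CfsgLib.Components.IsComponent.le_layer hL).trans
      CfsgLib.Components.layer_le_centralizer_fittingSubgroup).trans ?_
    exact Subgroup.centralizer_le
      (SetLike.coe_subset_coe.mpr (CfsgLib.Components.pCore_le_fittingSubgroup p))
  have := ((CfsgLib.Components.isPGroup_pCore (G := X) p).to_le hle).isNilpotent
  exact inferInstance


/-- Let G be finite with O_{p'}(G) = 1 and p-rank at least 3, whose reduced rank-2 commuting graph for p is connected. Suppose that for every element a of order p with m_p(C_G(a)) ≥ 3 the p-layer of C_G(a) is trivial and O_{p'}(C_G(a)) is solvable. Then F*(C_G(a)) = O_p(C_G(a)) for every such a. -/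
theorem result {G : Type*} [Group G] [Finite G] (p : ℕ) [Fact p.Prime] (hO : Cfsg.pPrimeCore p G = ⊥) (hrk : ¬ Cfsg.PRankLE p 2 G) (hconn : Cfsg.IsRankGraphConnected p 2 G) (hL : ∀ a : G, (orderOf a = p ∧ ¬ Cfsg.PRankLE p 2 ↥(Subgroup.centralizer ({a} : Set G))) → Cfsg.pLayer p ↥(Subgroup.centralizer ({a} : Set G)) = ⊥ ∧ Group.IsSolvable ↥(Cfsg.centralizerPPrimeCore p a)) (a : G) (ha : (orderOf a = p ∧ ¬ Cfsg.PRankLE p 2 ↥(Subgroup.centralizer ({a} : Set G)))) : Cfsg.generalizedFittingSubgroup ↥(Subgroup.centralizer ({a} : Set G)) = Cfsg.pCore p ↥(Subgroup.centralizer ({a} : Set G)) := by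
  have hpt : ∀ b : G, CfsgLib.SolvSig.RankThreePoint p b →
      Cfsg.IsPConstrained p ↥(Subgroup.centralizer ({b} : Set G)) := fun b hb =>
    (Cfsg.Agent.S1327.result p).mpr (hL b hb).1
  have hθ : Cfsg.centralizerPPrimeCore p a = ⊥ := by
    refine CfsgLib.SolvSig.equivariant_eq_bot (θ := Cfsg.centralizerPPrimeCore p)
      (fun b hb => ⟨Subgroup.map_subtype_le _, not_dvd_centralizerPPrimeCore b, (hL b hb).2⟩)
      (fun b g _ => centralizerPPrimeCore_conj b g) (fun b c hb hc hcomm => ?_) hO hconn ha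
    exact balance (hpt c hc) hb.1 hcomm
  have hc := hpt a ha
  have hcore : Cfsg.pPrimeCore p ↥(Subgroup.centralizer ({a} : Set G)) = ⊥ :=
    (Subgroup.map_eq_bot_iff_of_injective _ (Subgroup.subtype_injective _)).mp hθ
  refine CfsgLib.Components.generalizedFitting_eq_pCore p (layer_eq_bot hc hcore) fun N hN hcop => ?_
  exact le_bot_iff.mp (hcore ▸ CfsgLib.PLocal.le_pPrimeCore hcop)

end Cfsg.Agent.S1295
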