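import Cfsg.Statements.S3011
import Cfsg.Agent.Small.BaerSuzuki
import Cfsg.Agent.PLocal.Cores

set_option autoImplicit false
open Cfsg

namespace Cfsg.Agent.S3011

open Subgroup

variable {G : Type*} [Group G] [Finite G]

theorem eq_one_of_sq {h : G} (ho : Odd (orderOf h)) (h2 : h = h⁻¹) : h = 1 := by
  have h3 : orderOf h ∣ 2 := orderOf_dvd_of_pow_eq_one (by
    rw [sq]; nth_rewrite 2 [h2]; exact mul_inv_cancel h)
  rcases (Nat.dvd_prime Nat.prime_two).mp h3 with h4 | h4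
  · exact orderOf_eq_one_iff.mp h4
  · rw [h4] at ho; exact absurd ho (by decide)

theorem commute_of_sq {k h : G} (ho : Odd (orderOf k)) (hc : Commute (k ^ 2) h) : Commute k h := by
  obtain ⟨j, hj⟩ := exists_pow_eq_self_of_coprime (x := k) (n := 2)
    (Nat.coprime_two_left.mpr ho)
  exact hj ▸ hc.pow_left j

theorem exists_inverted {x : G} (hx : orderOf x = 2) (hn : x ∉ Cfsg.pCore 2 G) :
    ∃ h : G, h ≠ 1 ∧ Odd (orderOf h) ∧ x * h * x⁻¹ = h⁻¹ := by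
  by_contra hno
  apply hn
  suffices hkey : ∀ g : G, IsPGroup 2 ↥(closure ({x, g * x * g⁻¹} : Set G)) by
    obtain ⟨N, hN, hNp, hxN⟩ := CfsgLib.Small.baerSuzuki_elem (p := 2) x hkey
    exact @CfsgLib.PLocal.le_pCore _ _ _ N hN hNp x hxN
  intro g
  have hy : orderOf (g * x * g⁻¹) = 2 := (CfsgLib.Small.orderOf_conj_eq g x).trans hx
  obtain ⟨i, m, hm, hi⟩ :=
    Nat.exists_eq_pow_mul_and_not_dvd (orderOf_pos (x * (g * x * g⁻¹))).ne' 2 (by decide)
  have h1 : (x * (g * x * g⁻¹)) ^ 2 ^ i = 1 := by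
    by_contra h2
    refine hno ⟨_, h2, ?_, CfsgLib.Small.invol_conj_pow (CfsgLib.Small.invol_conj_mul hx hy) _⟩
    rw [orderOf_pow' _ (pow_ne_zero i two_ne_zero), Nat.gcd_eq_right (hi ▸ dvd_mul_right _ _), hi,
      Nat.mul_div_cancel_left _ (pow_pos two_pos i)]
    exact Nat.not_even_iff_odd.mp fun he => hm he.two_dvd
  rintro ⟨d, hd⟩
  obtain ⟨k, rfl | rfl⟩ := CfsgLib.Small.mem_closure_pair_invol hx hy hd
  · refine ⟨i, Subtype.ext ?_⟩
    show ((x * (g * x * g⁻¹)) ^ k) ^ 2 ^ i = 1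
    rw [← zpow_natCast, ← zpow_mul, mul_comm, zpow_mul, zpow_natCast, h1, one_zpow]
  · refine ⟨1, Subtype.ext ?_⟩
    show (x * (x * (g * x * g⁻¹)) ^ k) ^ 2 ^ 1 = 1
    have e := CfsgLib.Small.invol_conj_zpow (CfsgLib.Small.invol_conj_mul hx hy) k
    rw [CfsgLib.Small.inv_eq_self_of_orderOf_two hx] at e
    rw [pow_one, sq, ← mul_assoc, e, inv_mul_cancel]

theorem key {V : Subgroup G} (hS : Cfsg.IsSidkiPair V) {a b : G} (ha : a ∈ V) (hb : b ∈ V)
    (ha2 : a⁻¹ = a) (hb2 : b⁻¹ = b)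
    (hV : ∀ w ∈ V, w ≠ 1 → w = a ∨ w = b ∨ w = a * b)
    {h k : G} (hh : h ≠ 1) (hk : k ≠ 1) (hho : Odd (orderOf h)) (hko : Odd (orderOf k))
    (hah : a * h * a⁻¹ = h⁻¹) (hbh : b * h * b⁻¹ = h) (hbk : b * k * b⁻¹ = k⁻¹)
    (hak : a * k * a⁻¹ = k) : False := by
  have fix_iff : ∀ {w y : G}, w * y = y * w → w * y * w⁻¹ = y :=
    fun e => by rw [e, mul_inv_cancel_right]
  have hxo : Odd (orderOf (k * h * k⁻¹)) := by
    rwa [CfsgLib.Small.orderOf_conj_eq]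
  have hx : a * (k * h * k⁻¹) * a⁻¹ = (k * h * k⁻¹)⁻¹ := by
    calc a * (k * h * k⁻¹) * a⁻¹ = (a * k * a⁻¹) * (a * h * a⁻¹) * (a * k * a⁻¹)⁻¹ := by group
      _ = (k * h * k⁻¹)⁻¹ := by rw [hah, hak]; group
  have hbx : b * (k * h * k⁻¹) * b⁻¹ = k⁻¹ * h * k := by
    calc b * (k * h * k⁻¹) * b⁻¹ = (b * k * b⁻¹) * (b * h * b⁻¹) * (b * k * b⁻¹)⁻¹ := by group
      _ = k⁻¹ * h * k := by rw [hbh, hbk, inv_inv]
  obtain ⟨w, hw, hw1, hwx⟩ := hS _ a ha hxo hx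
  have hwx' := fix_iff hwx
  have hkh : Commute k h := by
    rcases hV w hw hw1 with rfl | rfl | rfl
    · exfalso
      rw [hx] at hwx'
      exact hh (conj_eq_one_iff.mp (eq_one_of_sq hxo hwx'.symm))
    · rw [hbx] at hwx'
      refine commute_of_sq hko (mul_inv_eq_iff_eq_mul.mp ?_)
      calc k ^ 2 * h * (k ^ 2)⁻¹ = k * (k * h * k⁻¹) * k⁻¹ := by rw [sq, mul_inv_rev]; group
        _ = k * (k⁻¹ * h * k) * k⁻¹ := by rw [hwx']
        _ = h := by group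
    · exfalso
      have e : k⁻¹ * h⁻¹ * k = k * h * k⁻¹ := by
        calc k⁻¹ * h⁻¹ * k = (a * k * a⁻¹)⁻¹ * (a * h * a⁻¹) * (a * k * a⁻¹) := by rw [hah, hak]
          _ = a * (k⁻¹ * h * k) * a⁻¹ := by group
          _ = a * (b * (k * h * k⁻¹) * b⁻¹) * a⁻¹ := by rw [hbx]
          _ = a * b * (k * h * k⁻¹) * (a * b)⁻¹ := by group
          _ = k * h * k⁻¹ := hwx'
      have e2 : k ^ 2 * h * (k ^ 2)⁻¹ = h⁻¹ := by
        calc k ^ 2 * h * (k ^ 2)⁻¹ = k * (k * h * k⁻¹) * k⁻¹ := by rw [sq, mul_inv_rev]; group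
          _ = k * (k⁻¹ * h⁻¹ * k) * k⁻¹ := by rw [e]
          _ = h⁻¹ := by group
      have e4 : Commute (k ^ 2 * k ^ 2) h := by
        refine mul_inv_eq_iff_eq_mul.mp ?_
        calc k ^ 2 * k ^ 2 * h * (k ^ 2 * k ^ 2)⁻¹
            = k ^ 2 * (k ^ 2 * h * (k ^ 2)⁻¹) * (k ^ 2)⁻¹ := by group
          _ = (k ^ 2 * h * (k ^ 2)⁻¹)⁻¹ := by rw [e2, ← conj_inv, e2]; 
          _ = h := by rw [e2, inv_inv]
      have hk2o : Odd (orderOf (k ^ 2)) :=
        Odd.of_dvd_nat hko (orderOf_pow_dvd 2)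
      have hk2 : Commute (k ^ 2) h := commute_of_sq hk2o (by rwa [sq (k ^ 2)])
      rw [hk2.eq, mul_inv_cancel_right] at e2
      exact hh (eq_one_of_sq hho e2)
  have hyo : Odd (orderOf (h * k)) :=
    Odd.of_dvd_nat (hho.mul hko) (hkh.symm.orderOf_mul_dvd_mul_orderOf)
  have hay : a * (h * k) * a⁻¹ = h⁻¹ * k := by
    calc a * (h * k) * a⁻¹ = (a * h * a⁻¹) * (a * k * a⁻¹) := by group
      _ = h⁻¹ * k := by rw [hah, hak]
  have hby : b * (h * k) * b⁻¹ = h * k⁻¹ := by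
    calc b * (h * k) * b⁻¹ = (b * h * b⁻¹) * (b * k * b⁻¹) := by group
      _ = h * k⁻¹ := by rw [hbh, hbk]
  have hcy : a * b * (h * k) * (a * b)⁻¹ = (h * k)⁻¹ := by
    calc a * b * (h * k) * (a * b)⁻¹ = a * (b * (h * k) * b⁻¹) * a⁻¹ := by group
      _ = (a * h * a⁻¹) * (a * k * a⁻¹)⁻¹ := by rw [hby]; group
      _ = (h * k)⁻¹ := by rw [hah, hak, mul_inv_rev, (hkh.inv_inv).eq]
  obtain ⟨w', hw', hw'1, hwy⟩ := hS _ (a * b) (mul_mem ha hb) hyo hcy
  have hwy' := fix_iff hwy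
  rcases hV w' hw' hw'1 with rfl | rfl | rfl
  · rw [hay] at hwy'
    exact hh (eq_one_of_sq hho (mul_right_cancel hwy').symm)
  · rw [hby] at hwy'
    exact hk (eq_one_of_sq hko (mul_left_cancel hwy').symm)
  · rw [hcy] at hwy'
    have h1 := eq_one_of_sq hyo hwy'.symm
    rw [eq_inv_of_mul_eq_one_right h1, ← conj_inv] at hak
    rw [inv_inj, hah] at hak
    exact hh (eq_one_of_sq hho hak.symm)


/-- Let G be a finite group and V a nontrivial elementary abelian 2-subgroup of G of order at most 4 such that, whenever an element of V inverts an element h of G of odd order, some nontrivial element of V commutes with h. Then V meets O₂(G) nontrivially. (The case of order at most 4 has a short argument from the Baer–Suzuki theorem.) -/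
theorem result {G : Type*} [Group G] [Finite G] (V : Subgroup G) (hV : Cfsg.IsElementaryAbelian 2 V) (hV1 : V ≠ ⊥) (hS : Cfsg.IsSidkiPair V) (h4 : Nat.card V ≤ 4) : V ⊓ Cfsg.pCore 2 G ≠ ⊥ := by
  intro hbot
  have hord : ∀ v ∈ V, v ≠ 1 → orderOf v = 2 := fun v hv h1 => orderOf_eq_prime (hV.2 v hv) h1
  have hinv : ∀ v ∈ V, v⁻¹ = v := fun v hv => by
    rw [inv_eq_iff_mul_eq_one, ← sq]; exact hV.2 v hv
  have hout : ∀ v ∈ V, v ≠ 1 → v ∉ Cfsg.pCore 2 G := fun v hv h1 h2 => h1 (by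
    have : v ∈ V ⊓ Cfsg.pCore 2 G := ⟨hv, h2⟩
    rwa [hbot, mem_bot] at this)
  obtain ⟨a, ha, ha1⟩ := (V.bot_or_exists_ne_one).resolve_left hV1
  obtain ⟨h, hh, hho, hah⟩ := exists_inverted (hord a ha ha1) (hout a ha ha1)
  obtain ⟨b, hb, hb1, hbh⟩ := hS h a ha hho hah
  have hab : a ≠ b := by
    rintro rfl
    rw [hbh, mul_inv_cancel_right] at hah
    exact hh (eq_one_of_sq hho hah)
  have hba : b * a = a * b := by
    calc b * a = (a * b)⁻¹ := by rw [mul_inv_rev, hinv a ha, hinv b hb]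
      _ = a * b := hinv _ (mul_mem ha hb)
  have hsurj : ∀ w ∈ V, w ≠ 1 → w = a ∨ w = b ∨ w = a * b := by
    intro w hw hw1
    by_contra hne
    push Not at hne
    obtain ⟨hwa, hwb, hwc⟩ := hne
    classical
    haveI : Fintype V := Fintype.ofFinite _
    have h5 : ({1, ⟨a, ha⟩, ⟨b, hb⟩, ⟨a * b, mul_mem ha hb⟩, ⟨w, hw⟩} : Finset V).card = 5 := by
      have hab1 : a * b ≠ 1 := fun e => hab (by
        rw [← hinv a ha]; exact (eq_inv_of_mul_eq_one_right e).symm)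
      have hca : a * b ≠ a := fun e => hb1 (mul_eq_left.mp e)
      have hcb : a * b ≠ b := fun e => ha1 (mul_eq_right.mp e)
      simp [Finset.card_insert_of_notMem, Subtype.ext_iff, ha1.symm, hb1.symm, hab1.symm,
        hw1.symm, hab, hca.symm, hcb.symm, hwa.symm, hwb.symm, hwc.symm]
    have h6 := Finset.card_le_univ
      ({1, ⟨a, ha⟩, ⟨b, hb⟩, ⟨a * b, mul_mem ha hb⟩, ⟨w, hw⟩} : Finset V)
    rw [h5, ← Nat.card_eq_fintype_card] at h6
    omega
  obtain ⟨k, hk, hko, hbk⟩ := exists_inverted (hord b hb hb1) (hout b hb hb1)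
  obtain ⟨w, hw, hw1, hwk⟩ := hS k b hb hko hbk
  have hwk' : w * k * w⁻¹ = k := by rw [hwk, mul_inv_cancel_right]
  have hbh' : b * h * b⁻¹ = h := by rw [hbh, mul_inv_cancel_right]
  rcases hsurj w hw hw1 with rfl | rfl | rfl
  · exact key hS ha hb (hinv _ ha) (hinv _ hb) hsurj hh hk hho hko hah hbh' hbk hwk'
  · rw [hbk] at hwk'
    exact hk (eq_one_of_sq hko hwk'.symm)
  · refine key hS (mul_mem ha hb) hb (hinv _ (mul_mem ha hb)) (hinv _ hb) (fun v hv hv1 => ?_)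
      hh hk hho hko ?_ hbh' hbk hwk'
    · have hb2 : a * b * b = a := by rw [mul_assoc, ← sq, hV.2 b hb, mul_one]
      rw [hb2]
      rcases hsurj v hv hv1 with h | h | h
      · exact Or.inr (Or.inr h)
      · exact Or.inr (Or.inl h)
      · exact Or.inl h
    · calc a * b * h * (a * b)⁻¹ = a * (b * h * b⁻¹) * a⁻¹ := by group
        _ = h⁻¹ := by rw [hbh', hah]

end Cfsg.Agent.S3011
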