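import Cfsg.Statements.S3776
import Cfsg.Agent.SolvableTransitive.ClassTwo
import Cfsg.Agent.Solvable.Frattini

set_option autoImplicit false
open Cfsg

namespace Cfsg.Agent.S3776

open scoped commutatorElement

/-- Let G be a finite non-abelian 2-group with more than one involution admitting a solvable group of automorphisms that permutes its involutions transitively. Then the derived subgroup, the Frattini subgroup and the centre of G coincide and consist exactly of the elements x with x² = 1. -/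
theorem result {G : Type*} [Group G] [Finite G] (hG : IsPGroup 2 G) (hna : ¬ IsMulCommutative G) (htwo : ∃ x y : G, x ≠ y ∧ x ≠ 1 ∧ x ^ 2 = 1 ∧ y ≠ 1 ∧ y ^ 2 = 1) (hY : ∃ Y : Subgroup (MulAut G), Group.IsSolvable Y ∧ ∀ x y : G, x ≠ 1 → x ^ 2 = 1 → y ≠ 1 → y ^ 2 = 1 → ∃ a ∈ Y, a x = y) : commutator G = frattini G ∧ frattini G = Subgroup.center G ∧ ∀ x : G, x ∈ Subgroup.center G ↔ x ^ 2 = 1 := by
  classical
  obtain ⟨Y, hYs, hYt⟩ := hY
  haveI : Finite (MulAut G) := Finite.of_injective _ DFunLike.coe_injective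
  haveI := hYs
  have htr : ∀ x y : G, x ≠ 1 → x * x = 1 → y ≠ 1 → y * y = 1 → ∃ k : Y, (k : MulAut G) x = y :=
    fun x y h1 h2 h3 h4 => by
      obtain ⟨a, ha, h⟩ := hYt x y h1 (by rw [sq, h2]) h3 (by rw [sq, h4])
      exact ⟨⟨a, ha⟩, h⟩
  have hnc : ∃ x y : G, x * y ≠ y * x := by
    by_contra hall
    push Not at hall
    exact hna ⟨⟨hall⟩⟩
  have hcsq : ∀ z ∈ Subgroup.center G, z * z = 1 := by
    intro z hz
    by_contra hne
    obtain ⟨a, b, hab⟩ := hnc
    exact hab (CfsgLib.SolvableTransitive.mul_comm_of_center_exponent _ Y.subtype htr hG rfl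
      ⟨z, hz, hne⟩ a b)
  obtain ⟨u, v, huv, hu1, hu2, hv1, hv2⟩ := htwo
  have S : CfsgLib.SolvableTransitive.Setting Y := ⟨inferInstance, hG, hYs, htr,
    ⟨u, v, huv, hu1, by rw [← sq, hu2], hv1, by rw [← sq, hv2]⟩, hcsq, hnc⟩
  haveI : Fact (Nat.Prime 2) := ⟨Nat.prime_two⟩
  have hcomm : commutator G ≤ Subgroup.center G := by
    rw [commutator_def, Subgroup.commutator_le]
    exact fun x _ y _ => S.commutator_mem_center x y
  have hne : commutator G ≠ ⊥ := by
    intro h
    obtain ⟨a, b, hab⟩ := hnc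
    have hm : ⁅a, b⁆ ∈ commutator G := by
      rw [commutator_def]
      exact Subgroup.commutator_mem_commutator (Subgroup.mem_top a) (Subgroup.mem_top b)
    rw [h, Subgroup.mem_bot, commutatorElement_eq_one_iff_mul_comm] at hm
    exact hab hm
  have hle : Subgroup.center G ≤ commutator G := by
    intro x hx
    by_cases hx1 : x = 1
    · rw [hx1]; exact one_mem _
    obtain ⟨w, hw, hw1⟩ := (Subgroup.bot_or_exists_ne_one _).resolve_left hne
    obtain ⟨k, hk⟩ := htr w x hw1 (hcsq w (hcomm hw)) hx1 (hcsq x hx)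
    exact hk ▸ Subgroup.characteristic_iff_map_le.1 inferInstance (k : MulAut G) ⟨w, hw, rfl⟩
  have hfr : frattini G ≤ Subgroup.center G :=
    CfsgLib.Solvable.frattini_le_of_elementary (p := 2) hcomm fun x => by
      rw [sq]; exact S.sq_mem_center x
  have hfr' : commutator G ≤ frattini G := CfsgLib.Solvable.commutator_le_frattini hG
  refine ⟨le_antisymm hfr' (hfr.trans hle), le_antisymm hfr (hle.trans hfr'), fun x => ⟨fun h => ?_, fun h => ?_⟩⟩
  · rw [sq]; exact hcsq x h
  · exact S.mem_center (by rw [← sq, h])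

end Cfsg.Agent.S3776
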