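import Cfsg.Statements.S4207
import Mathlib
import Cfsg.Agent.Solvable.Frattini

set_option autoImplicit false
open Cfsg

/-!
Automorphisms acting trivially on the Frattini quotient act freely on the lifts of a generating
tuple of that quotient.
-/

namespace Cfsg.Agent.S4207

/-- A group acting freely on a finite nonempty type has order dividing its cardinality. -/
theorem card_dvd_of_free {A Ω : Type*} [Group A] [Finite Ω] [MulAction A Ω]
    (hfree : ∀ (a : A) (x : Ω), a • x = x → a = 1) : Nat.card A ∣ Nat.card Ω := by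
  classical
  by_cases hne : Nonempty Ω
  swap
  · rw [not_nonempty_iff] at hne
    simp
  have hinj : ∀ x : Ω, Function.Injective fun a : A => a • x := fun x a b h => by
    have : (b⁻¹ * a) • x = x := by rw [mul_smul, show a • x = b • x from h, inv_smul_smul]
    exact (inv_mul_eq_one.1 (hfree _ _ this)).symm
  obtain ⟨x⟩ := hne
  have : Finite A := Finite.of_injective _ (hinj x)
  have := Fintype.ofFinite Ω
  have := Fintype.ofFinite A
  have h := MulAction.selfEquivSigmaOrbits A Ω
  rw [Nat.card_congr h, Nat.card_sigma]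
  refine Finset.dvd_sum fun q _ => ?_
  have hst : MulAction.stabilizer A q.out = ⊥ := eq_bot_iff.2 fun a ha => hfree a _ ha
  have := MulAction.index_stabilizer A q.out
  rw [hst, Subgroup.index_bot] at this
  rw [Nat.card_coe_set_eq, ← this]

/-- An automorphism fixing a generating set is trivial. -/
theorem aut_eq_one {P : Type*} [Group P] {α : MulAut P} {S : Set P}
    (hS : Subgroup.closure S = ⊤) (h : ∀ x ∈ S, α x = x) : α = 1 :=
  MulEquiv.ext fun x =>
    DFunLike.congr_fun (MonoidHom.eq_of_eqOn_dense hS (f := α.toMonoidHom) (g := MonoidHom.id P) h) x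

/-- If `P` has order `p^n` and Frattini quotient of order `p^r`, the automorphisms acting trivially
on the quotient form a group of order dividing `p^(r(n-r))`. -/
theorem result {P : Type*} [Group P] [Finite P] {p n r : ℕ} [Fact p.Prime] (hP : Nat.card P = p ^ n) (hr : (frattini P).index = p ^ r) (A : Subgroup (MulAut P)) (hA : ∀ α ∈ A, ∀ x : P, α x * x⁻¹ ∈ frattini P) : Nat.card A ∣ p ^ (r * (n - r)) := by
  classical
  have := Fintype.ofFinite P
  have hpP : IsPGroup p P := IsPGroup.of_card hP
  obtain ⟨T, -, hT, hTgen⟩ := (CfsgLib.Solvable.burnside_basis hpP r hr).1 Finset.univ (by simp)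
  let Ω := (i : T) → {x : P // x * (i : P)⁻¹ ∈ frattini P}
  letI act : MulAction A Ω :=
    { smul := fun a f i => ⟨(a : MulAut P) (f i).1, by
        have h := (frattini P).mul_mem (hA _ a.2 (f i).1) (f i).2
        rwa [mul_assoc, inv_mul_cancel_left] at h⟩
      one_smul := fun f => rfl
      mul_smul := fun a b f => rfl }
  have hfree : ∀ (a : A) (f : Ω), a • f = f → a = 1 := by
    intro a f h
    have hgen : Subgroup.closure (Set.range fun i : T => (f i).1) = ⊤ := by
      refine frattini_nongenerating ?_
      rw [eq_top_iff, ← hTgen, Subgroup.closure_le]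
      intro x hx
      have h1 : ((f ⟨x, hx⟩).1 * x⁻¹)⁻¹ * (f ⟨x, hx⟩).1 = x := by group
      rw [SetLike.mem_coe, ← h1]
      exact mul_mem (Subgroup.mem_sup_right (inv_mem (f ⟨x, hx⟩).2))
        (Subgroup.mem_sup_left (Subgroup.subset_closure ⟨⟨x, hx⟩, rfl⟩))
    apply Subtype.ext
    refine aut_eq_one hgen ?_
    rintro _ ⟨i, rfl⟩
    exact congrArg Subtype.val (congrFun h i)
  have hΩ : Nat.card Ω = p ^ (r * (n - r)) := by
    have hcoset : ∀ i : T, Nat.card {x : P // x * (i : P)⁻¹ ∈ frattini P} = Nat.card (frattini P) :=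
      fun i => Nat.card_congr ((Equiv.mulRight (i : P)⁻¹).subtypeEquiv fun x => Iff.rfl)
    have hΦ : Nat.card (frattini P) = p ^ (n - r) := by
      have h := Subgroup.card_mul_index (frattini P)
      rw [hP, hr] at h
      have hrn : r ≤ n := (Nat.pow_dvd_pow_iff_le_right (Fact.out : p.Prime).one_lt).1 ⟨_, by rw [← h, mul_comm]⟩
      refine Nat.eq_of_mul_eq_mul_right (pow_pos (Fact.out : p.Prime).pos r) ?_
      rw [h, ← pow_add, Nat.sub_add_cancel hrn]
    rw [Nat.card_pi, Finset.prod_congr rfl fun i _ => (hcoset i).trans hΦ, Finset.prod_const,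
      Finset.card_univ, Fintype.card_coe, hT, ← pow_mul, mul_comm]
  exact hΩ ▸ card_dvd_of_free hfree

end Cfsg.Agent.S4207
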