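import Cfsg.Statements.S4189
import Mathlib
import Cfsg.Agent.S4207
import Cfsg.Agent.Solvable.Frattini

set_option autoImplicit false
open Cfsg
open scoped commutatorElement

/-!
A nonabelian 2-group with abelianisation of order 4 and an automorphism group that is not a
2-group is the quaternion group of order 8.
-/

namespace Cfsg.Agent.S4189

variable {P : Type*} [Group P]

/-- in a nilpotent group a subgroup equal to its commutator with the group is trivial -/
theorem eq_bot_of_le_commutator [Group.IsNilpotent P] {N : Subgroup P}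
    (h : N ≤ ⁅N, (⊤ : Subgroup P)⁆) : N = ⊥ := by
  obtain ⟨n, hn⟩ := Subgroup.nilpotent_iff_lowerCentralSeries.1 (inferInstance : Group.IsNilpotent P)
  refine eq_bot_iff.2 (hn ▸ ?_)
  clear hn
  induction n with
  | zero => simp
  | succ n ih =>
    refine h.trans ?_
    rw [Subgroup.lowerCentralSeries_succ]
    exact Subgroup.commutator_mono ih le_rfl

theorem mem_of_center_mk {N : Subgroup P} [N.Normal] {x : P}
    (h : ∀ y : P, Commute (x : P ⧸ N) (y : P ⧸ N)) (y : P) : ⁅x, y⁆ ∈ N := by
  rw [← QuotientGroup.eq_one_iff]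
  change QuotientGroup.mk' N ⁅x, y⁆ = 1
  rw [map_commutatorElement, commutatorElement_eq_one_iff_commute]
  exact h y

theorem commute_mk {N : Subgroup P} [N.Normal] {x y : P} (h : ⁅x, y⁆ ∈ N) :
    Commute (x : P ⧸ N) (y : P ⧸ N) := by
  rw [← QuotientGroup.eq_one_iff] at h
  change QuotientGroup.mk' N ⁅x, y⁆ = 1 at h
  rwa [map_commutatorElement, commutatorElement_eq_one_iff_commute] at h

/-- A group of order 8 with the quaternion relations is the quaternion group. -/
theorem nonempty_equiv_quaternion [Finite P] (a b : P) (hcard : Nat.card P = 8) (ha2 : a ^ 2 ≠ 1)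
    (ha : a ^ 4 = 1) (hb : b ^ 2 = a ^ 2) (hab : b⁻¹ * a * b = a⁻¹)
    (hgen : Subgroup.closure {a, b} = ⊤) :
    Nonempty (P ≃* QuaternionGroup 2) := by
  let f : QuaternionGroup 2 → P := fun q => match q with
    | QuaternionGroup.a i => a ^ i.val
    | QuaternionGroup.xa i => b * a ^ i.val
  have hmod : ∀ m : ℕ, a ^ m = a ^ (m % 4) := fun m => by
    conv_lhs => rw [← Nat.mod_add_div m 4, pow_add, pow_mul, ha, one_pow, mul_one]
  have hsub : ∀ i j : ZMod 4, a ^ (j - i).val = (a⁻¹) ^ i.val * a ^ j.val := by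
    intro i j
    rw [eq_comm, inv_pow, inv_mul_eq_iff_eq_mul, ← pow_add]
    conv_rhs => rw [hmod, ← ZMod.val_add, add_sub_cancel]
  have hadd : ∀ i j : ZMod 4, a ^ (i + j).val = a ^ i.val * a ^ j.val := by
    intro i j
    rw [ZMod.val_add, ← hmod, pow_add]
  have hswap : ∀ m : ℕ, a ^ m * b = b * (a⁻¹) ^ m := by
    intro m
    rw [← hab]
    calc a ^ m * b = b * (b⁻¹ * a ^ m * b) := by group
      _ = _ := by
        congr 1
        have h := map_pow (MulAut.conj b⁻¹) a m
        simpa [MulAut.conj_apply] using h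
  let φ : QuaternionGroup 2 →* P := MonoidHom.mk' f (by
    rintro (i | i) (j | j)
    · exact hadd i j
    · change b * a ^ (j - i : ZMod 4).val = a ^ i.val * (b * a ^ j.val)
      rw [← mul_assoc, hswap, hsub]
      group
    · change b * a ^ (i + j : ZMod 4).val = b * a ^ i.val * a ^ j.val
      rw [mul_assoc]; congr 1
      exact hadd i j
    · change a ^ (2 + j - i : ZMod 4).val = b * a ^ i.val * (b * a ^ j.val)
      rw [hsub, hadd, show (2 : ZMod 4).val = 2 from rfl]
      calc a⁻¹ ^ i.val * (a ^ 2 * a ^ j.val) = (a⁻¹ ^ i.val * a ^ 2) * a ^ j.val := by group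
        _ = (a ^ 2 * a⁻¹ ^ i.val) * a ^ j.val := by
            rw [((Commute.refl a).inv_left.pow_pow i.val 2).eq]
        _ = b * (b * a⁻¹ ^ i.val) * a ^ j.val := by rw [← hb, pow_two]; group
        _ = _ := by rw [← hswap]; group)
  have hsurj : Function.Surjective φ := by
    rw [← MonoidHom.range_eq_top, eq_top_iff, ← hgen, Subgroup.closure_le]
    intro x hx
    rcases hx with rfl | hx
    · exact ⟨QuaternionGroup.a 1, pow_one _⟩
    · rcases (Set.mem_singleton_iff.1 hx) with rfl
      exact ⟨QuaternionGroup.xa 0, by change x * a ^ 0 = x; simp⟩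
  have hbij := hsurj.bijective_of_nat_card_le (by
    rw [hcard, Nat.card_eq_fintype_card, QuaternionGroup.card])
  exact ⟨(MulEquiv.ofBijective φ hbij).symm⟩

/-- A non-abelian 2-group with `[P : P'] = 4` whose automorphism group is not a 2-group is `Q₈`. -/
theorem result {P : Type*} [Group P] [Finite P] (hP : IsPGroup 2 P) (hna : ¬ IsMulCommutative P) (h4 : (commutator P).index = 4) (haut : ¬ IsPGroup 2 (MulAut P)) : Nonempty (P ≃* QuaternionGroup 2) := by
  classical
  have := Fintype.ofFinite P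
  have hnil : Group.IsNilpotent P := hP.isNilpotent
  set K : Subgroup P := commutator P with hK
  have hKtop : K = ⁅(⊤ : Subgroup P), ⊤⁆ := rfl
  have hKne : K ≠ ⊥ := by
    intro h
    apply hna
    refine ⟨⟨fun x y => ?_⟩⟩
    have hmem : ⁅x, y⁆ ∈ K :=
      Subgroup.commutator_mem_commutator (Subgroup.mem_top x) (Subgroup.mem_top y)
    rwa [h, Subgroup.mem_bot, commutatorElement_eq_one_iff_commute] at hmem
  -- the quotient by `P'` has exponent two
  have hsq : ∀ x : P, x ^ 2 ∈ K := by
    by_contra hno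
    push Not at hno
    obtain ⟨x, hx⟩ := hno
    have hord : orderOf (x : P ⧸ K) = 2 ^ 2 := by
      refine orderOf_eq_prime_pow ?_ ?_
      · rw [pow_one, ← QuotientGroup.mk_pow, QuotientGroup.eq_one_iff]; exact hx
      · rw [show 2 ^ (1 + 1) = Nat.card (P ⧸ K) from h4.symm]; exact pow_card_eq_one'
    have htop : Subgroup.zpowers (x : P ⧸ K) = ⊤ := by
      apply Subgroup.eq_top_of_card_eq
      rw [Nat.card_zpowers, hord]; exact h4.symm
    have hgen : Subgroup.zpowers x = ⊤ := by
      refine frattini_nongenerating (eq_top_iff.2 fun y _ => ?_)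
      have hy : (y : P ⧸ K) ∈ Subgroup.zpowers (x : P ⧸ K) := htop ▸ Subgroup.mem_top _
      obtain ⟨m, hm⟩ := Subgroup.mem_zpowers_iff.1 hy
      rw [← QuotientGroup.mk_zpow, QuotientGroup.eq] at hm
      have := CfsgLib.Solvable.commutator_le_frattini hP hm
      have h2 : y = x ^ m * ((x ^ m)⁻¹ * y) := by group
      rw [h2]
      exact mul_mem (Subgroup.mem_sup_left (zpow_mem (Subgroup.mem_zpowers _) _))
        (Subgroup.mem_sup_right this)
    apply hna
    refine ⟨⟨fun u v => ?_⟩⟩
    obtain ⟨i, hi⟩ := Subgroup.mem_zpowers_iff.1 (hgen ▸ Subgroup.mem_top u : u ∈ Subgroup.zpowers x)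
    obtain ⟨j, hj⟩ := Subgroup.mem_zpowers_iff.1 (hgen ▸ Subgroup.mem_top v : v ∈ Subgroup.zpowers x)
    rw [← hi, ← hj, ← zpow_add, ← zpow_add, add_comm]
  have hΦ : frattini P = K :=
    le_antisymm (CfsgLib.Solvable.frattini_le_of_elementary le_rfl hsq)
      (CfsgLib.Solvable.commutator_le_frattini hP)
  -- an automorphism moving cosets of `P'` in a cycle of length three
  obtain ⟨r, hr, hr2, α, hαr⟩ :
      ∃ r : ℕ, r.Prime ∧ r ≠ 2 ∧ ∃ α : MulAut P, orderOf α = r := by
    have : Finite (MulAut P) := Finite.of_injective (fun e : MulAut P => (e : P → P))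
      (fun e f h => MulEquiv.ext (congrFun h))
    by_contra hno
    push Not at hno
    refine haut (IsPGroup.of_card (n := (Nat.card (MulAut P)).primeFactorsList.length) ?_)
    refine Nat.eq_prime_pow_of_unique_prime_dvd Nat.card_pos.ne' fun {d} hd hdd => ?_
    by_contra hd2
    have := Fact.mk hd
    obtain ⟨α, hα⟩ := exists_prime_orderOf_dvd_card' (G := MulAut P) d hdd
    exact hno d hd hd2 α hα
  obtain ⟨n, hn⟩ := IsPGroup.iff_card.1 hP
  have hαmove : ∃ a : P, α a * a⁻¹ ∉ K := by
    by_contra hno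
    push Not at hno
    have key := Cfsg.Agent.S4207.result (r := 2) hn (by rw [hΦ]; exact h4)
      (Subgroup.zpowers α) (by
        have : Subgroup.zpowers α ≤
            ({ carrier := {β | ∀ x, β x * x⁻¹ ∈ frattini P}
               one_mem' := fun x => by simp
               mul_mem' := fun {β γ} hβ hγ x => by
                 have := (frattini P).mul_mem (hβ (γ x)) (hγ x)
                 rw [mul_assoc, inv_mul_cancel_left] at this
                 exact this
               inv_mem' := fun {β} hβ x => by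
                 have := (frattini P).inv_mem (hβ (β⁻¹ x))
                 rwa [MulAut.apply_inv_self, mul_inv_rev, inv_inv] at this } : Subgroup (MulAut P)) := by
          rw [Subgroup.zpowers_le]
          exact fun x => hΦ ▸ hno x
        exact fun β hβ => this hβ)
    rw [Nat.card_zpowers, hαr] at key
    exact hr2 ((Nat.prime_dvd_prime_iff_eq hr Nat.prime_two).1 (hr.dvd_of_dvd_pow key))
  -- the action on the cosets
  have hchar : K.map α.toMonoidHom = K := by
    rw [hKtop, Subgroup.map_commutator, Subgroup.map_top_of_surjective _ α.surjective]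
  let σ : P ⧸ K →* P ⧸ K := QuotientGroup.map K K α.toMonoidHom (fun x hx => by
    rw [Subgroup.mem_comap, ← hchar]; exact Subgroup.mem_map_of_mem _ hx)
  have hσmk : ∀ x : P, σ x = ((α x : P) : P ⧸ K) := fun x => rfl
  have hσr : ∀ q, σ^[r] q = q := by
    have hit : ∀ (m : ℕ) (x : P), σ^[m] (x : P ⧸ K) = (((α ^ m) x : P) : P ⧸ K) := by
      intro m
      induction m with
      | zero => intro x; rfl
      | succ m ih => intro x; rw [Function.iterate_succ_apply, hσmk, ih, pow_succ]; rfl
    intro q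
    induction q using QuotientGroup.induction_on with | H x => ?_
    rw [hit, ← hαr, pow_orderOf_eq_one]; rfl
  obtain ⟨m, hm⟩ := hr.odd_of_ne_two hr2
  have h2fix : ∀ q, σ (σ q) = q → σ q = q := by
    intro q h
    have hev : ∀ i, σ^[2 * i] q = q := by
      intro i
      induction i with
      | zero => rfl
      | succ i ih =>
        rw [show 2 * (i + 1) = 2 * i + 1 + 1 from rfl, Function.iterate_succ_apply,
          Function.iterate_succ_apply, h, ih]
    have := hσr q
    rw [hm, add_comm, Function.iterate_add_apply, hev] at this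
    exact this
  obtain ⟨a, ha⟩ := hαmove
  set b : P := α a with hb
  have habne : (b : P ⧸ K) ≠ (a : P ⧸ K) := by
    intro h
    rw [QuotientGroup.eq] at h
    have h' := (inferInstance : K.Normal).conj_mem _ h b
    apply ha
    have h'' := inv_mem h'
    simpa [mul_assoc] using h''
  have hVcomm : ∀ x y : P, Commute (x : P ⧸ K) (y : P ⧸ K) := fun x y =>
    commute_mk (Subgroup.commutator_mem_commutator (Subgroup.mem_top x) (Subgroup.mem_top y))
  have hVsq : ∀ q : P ⧸ K, q * q = 1 := by
    intro q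
    induction q using QuotientGroup.induction_on with | H x => ?_
    rw [← QuotientGroup.mk_mul, QuotientGroup.eq_one_iff, ← pow_two]; exact hsq x
  have ha1 : (a : P ⧸ K) ≠ 1 := by
    intro h
    apply habne
    rw [← hσmk, h, map_one]
  have hb1 : (b : P ⧸ K) ≠ 1 := by
    intro h
    apply ha1
    have hinj : Function.Injective σ := by
      intro x y hxy
      obtain ⟨k, hk⟩ : ∃ k, r = k + 1 := ⟨r - 1, by have := hr.one_lt; omega⟩
      rw [← hσr x, ← hσr y, hk, Function.iterate_succ_apply, Function.iterate_succ_apply, hxy]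
    apply hinj
    rw [hσmk, map_one]; exact h
  -- the four cosets
  have hcases : ∀ q : P ⧸ K, q = 1 ∨ q = (a : P ⧸ K) ∨ q = b ∨ q = (a : P ⧸ K) * b := by
    intro q
    by_contra hno
    push Not at hno
    obtain ⟨h1, h2, h3, h4'⟩ := hno
    have hab1 : (a : P ⧸ K) * b ≠ 1 := fun h => habne (by
      rw [← mul_eq_one_iff_eq_inv.1 h |>.trans (inv_eq_of_mul_eq_one_right (hVsq _))])
    have : ({1, (a : P ⧸ K), (b : P ⧸ K), (a : P ⧸ K) * b, q} : Finset (P ⧸ K)).card = 5 := by
      have haab : (a : P ⧸ K) ≠ (a : P ⧸ K) * b := fun h => hb1 (mul_left_cancel ((mul_one _).trans h)).symm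
      have hbab : (b : P ⧸ K) ≠ (a : P ⧸ K) * b := fun h => ha1 (mul_right_cancel ((one_mul _).trans h)).symm
      simp [Finset.card_insert_of_notMem, Ne.symm h1, Ne.symm h2, Ne.symm h3, Ne.symm h4',
        Ne.symm ha1, Ne.symm hb1, Ne.symm hab1, Ne.symm habne, haab, hbab]
    have hle := Finset.card_le_univ ({1, (a : P ⧸ K), (b : P ⧸ K), (a : P ⧸ K) * b, q} : Finset (P ⧸ K))
    rw [this, ← Nat.card_eq_fintype_card] at hle
    have : Nat.card (P ⧸ K) = 4 := h4
    omega
  have hαb : (α b : P ⧸ K) = (a : P ⧸ K) * b := by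
    rcases hcases (α b) with h | h | h | h
    · exact absurd h (by
        intro h'
        rw [← hσmk] at h'
        apply hb1
        have hinj : Function.Injective σ := by
          intro x y hxy
          obtain ⟨k, hk⟩ : ∃ k, r = k + 1 := ⟨r - 1, by have := hr.one_lt; omega⟩
          rw [← hσr x, ← hσr y, hk, Function.iterate_succ_apply, Function.iterate_succ_apply, hxy]
        apply hinj
        rw [map_one]; exact h')
    · exfalso
      apply habne
      rw [← hσmk] at h
      have h2 := h2fix (a : P ⧸ K) (by rw [hσmk]; exact h)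
      rwa [hσmk] at h2
    · exfalso
      apply habne
      have hinj : Function.Injective σ := by
        intro x y hxy
        obtain ⟨k, hk⟩ : ∃ k, r = k + 1 := ⟨r - 1, by have := hr.one_lt; omega⟩
        rw [← hσr x, ← hσr y, hk, Function.iterate_succ_apply, Function.iterate_succ_apply, hxy]
      apply hinj
      rw [hσmk, hσmk]; exact h
    · exact h
  -- generation
  have hgen : Subgroup.closure {a, b} = (⊤ : Subgroup P) := by
    refine frattini_nongenerating (eq_top_iff.2 fun y _ => ?_)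
    rw [hΦ]
    have key : ∀ c ∈ Subgroup.closure {a, b}, (y : P ⧸ K) = c → y ∈ Subgroup.closure {a, b} ⊔ K := by
      intro c hc h
      rw [eq_comm, QuotientGroup.eq] at h
      have := mul_mem (Subgroup.mem_sup_left hc : c ∈ Subgroup.closure {a, b} ⊔ K) (Subgroup.mem_sup_right h)
      rwa [mul_inv_cancel_left] at this
    rcases hcases y with h | h | h | h
    · exact key 1 (one_mem _) h
    · exact key a (Subgroup.subset_closure (by simp)) h
    · exact key b (Subgroup.subset_closure (by simp)) h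
    · exact key (a * b) (mul_mem (Subgroup.subset_closure (by simp)) (Subgroup.subset_closure (by simp))) h
  have central_of_gen : ∀ (N : Subgroup P) [N.Normal] (x : P), Commute (x : P ⧸ N) (a : P ⧸ N) →
      Commute (x : P ⧸ N) (b : P ⧸ N) → ∀ y : P, Commute (x : P ⧸ N) (y : P ⧸ N) := by
    intro N _ x hxa hxb y
    have hy : y ∈ Subgroup.closure {a, b} := hgen ▸ Subgroup.mem_top y
    induction hy using Subgroup.closure_induction with
    | mem u hu =>
      rw [Set.mem_insert_iff, Set.mem_singleton_iff] at hu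
      rcases hu with h | h <;> rw [h]
      · exact hxa
      · exact hxb
    | one => exact Commute.one_right _
    | mul u v _ _ hu hv => exact hu.mul_right hv
    | inv u _ hu => exact hu.inv_right
  set L : Subgroup P := ⁅K, (⊤ : Subgroup P)⁆ with hL
  have hLK : L ≤ K := Subgroup.commutator_le_left _ _
  have hKLcomm : ∀ k ∈ K, ∀ y : P, Commute (k : P ⧸ L) (y : P ⧸ L) := fun k hk y =>
    commute_mk (Subgroup.commutator_mem_commutator hk (Subgroup.mem_top y))
  set z : P := ⁅a, b⁆ with hz
  have hzK : z ∈ K := Subgroup.commutator_mem_commutator (Subgroup.mem_top a) (Subgroup.mem_top b)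
  -- modulo `L` the derived subgroup is generated by `z`, of order two
  have hz2 : z ^ 2 ∈ L := by
    have hc : Commute ((a : P ⧸ L)) ((z : P ⧸ L)) := (hKLcomm z hzK a).symm
    have hd : Commute ((a : P ⧸ L) ^ 2) (b : P ⧸ L) := hKLcomm (a ^ 2) (hsq a) b
    rw [← QuotientGroup.eq_one_iff, QuotientGroup.mk_pow]
    have hzdef : (z : P ⧸ L) = ⁅(a : P ⧸ L), (b : P ⧸ L)⁆ := rfl
    rw [commutatorElement_def] at hzdef
    calc (z : P ⧸ L) ^ 2 = (z : P ⧸ L) * (a : P ⧸ L) * (b : P ⧸ L) * (a : P ⧸ L)⁻¹ * (b : P ⧸ L)⁻¹ := by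
          rw [pow_two]; nth_rw 2 [hzdef]; group
      _ = (a : P ⧸ L) * (z : P ⧸ L) * (b : P ⧸ L) * (a : P ⧸ L)⁻¹ * (b : P ⧸ L)⁻¹ := by rw [hc.eq]
      _ = (a : P ⧸ L) ^ 2 * (b : P ⧸ L) * ((a : P ⧸ L) ^ 2)⁻¹ * (b : P ⧸ L)⁻¹ := by
          rw [hzdef, pow_two]; group
      _ = 1 := by rw [hd.eq]; group
  let W : Subgroup P := L ⊔ Subgroup.zpowers z
  have hWn : W.Normal := ⟨fun w hw g => by
    have hwK : w ∈ K := sup_le hLK (Subgroup.zpowers_le.2 hzK) hw
    have := Subgroup.commutator_mem_commutator hwK (Subgroup.mem_top g⁻¹)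
    have h2 : g * w * g⁻¹ = w * ⁅w⁻¹, g⁆ := by rw [commutatorElement_def]; group
    rw [h2]
    exact mul_mem hw (Subgroup.mem_sup_left
      (Subgroup.commutator_mem_commutator (inv_mem hwK) (Subgroup.mem_top g)))⟩
  have hKW : K ≤ W := by
    have hab : Commute (a : P ⧸ W) (b : P ⧸ W) := commute_mk (Subgroup.mem_sup_right (Subgroup.mem_zpowers z))
    rw [hKtop, Subgroup.commutator_le]
    intro x _ y _
    refine mem_of_center_mk (fun w => ?_) y
    refine central_of_gen W x ?_ ?_ w
    · exact (central_of_gen W a (Commute.refl _) hab x).symm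
    · exact (central_of_gen W b hab.symm (Commute.refl _) x).symm
  have hzL : z ∉ L := by
    intro h
    have h' : K ≤ L := hKW.trans (sup_le le_rfl (Subgroup.zpowers_le.2 h))
    exact hKne (eq_bot_of_le_commutator h')
  have hKcases : ∀ k ∈ K, k ∈ L ∨ z⁻¹ * k ∈ L := by
    intro k hk
    obtain ⟨l, hl, w, hw, rfl⟩ := Subgroup.mem_sup_of_normal_left.1 (hKW hk)
    obtain ⟨i, rfl⟩ := Subgroup.mem_zpowers_iff.1 hw
    have hz2' : ((z : P ⧸ L)) ^ (2 : ℤ) = 1 := by
      rw [zpow_ofNat, ← QuotientGroup.mk_pow, QuotientGroup.eq_one_iff]; exact hz2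
    rcases Int.even_or_odd i with ⟨j, rfl⟩ | ⟨j, rfl⟩
    · left
      refine L.mul_mem hl ?_
      rw [← QuotientGroup.eq_one_iff, QuotientGroup.mk_zpow, ← two_mul, zpow_mul, hz2', one_zpow]
    · right
      rw [← QuotientGroup.eq_one_iff, QuotientGroup.mk_mul, QuotientGroup.mk_mul, QuotientGroup.mk_inv,
        QuotientGroup.mk_zpow, (QuotientGroup.eq_one_iff l).2 hl, one_mul, zpow_add, zpow_mul, hz2',
        one_zpow, one_mul, zpow_one, inv_mul_cancel]
  -- the automorphism on the factor group modulo `L`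
  have hLchar : L.map α.toMonoidHom = L := by
    rw [hL, Subgroup.map_commutator, hchar, Subgroup.map_top_of_surjective _ α.surjective]
  let τ : P ⧸ L →* P ⧸ L := QuotientGroup.map L L α.toMonoidHom (fun x hx => by
    rw [Subgroup.mem_comap, ← hLchar]; exact Subgroup.mem_map_of_mem _ hx)
  have hτmk : ∀ x : P, τ x = ((α x : P) : P ⧸ L) := fun x => rfl
  have hzbar : (z : P ⧸ L) ≠ 1 := fun h => hzL ((QuotientGroup.eq_one_iff z).1 h)
  have hKbar : ∀ k ∈ K, (k : P ⧸ L) = 1 ∨ (k : P ⧸ L) = z := by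
    intro k hk
    rcases hKcases k hk with h | h
    · exact Or.inl ((QuotientGroup.eq_one_iff k).2 h)
    · exact Or.inr (QuotientGroup.eq.2 h).symm
  have hτK : ∀ k ∈ K, τ (k : P ⧸ L) = (k : P ⧸ L) := by
    intro k hk
    rw [hτmk]
    have hαk : α k ∈ K := hchar ▸ Subgroup.mem_map_of_mem _ hk
    have hiff : α k ∈ L ↔ k ∈ L := by
      constructor
      · intro h
        rw [← hLchar, Subgroup.mem_map] at h
        obtain ⟨l, hl, hl'⟩ := h
        exact (α.injective hl') ▸ hl
      · exact fun h => hLchar ▸ Subgroup.mem_map_of_mem _ h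
    rcases hKbar k hk with h | h
    · rw [h, QuotientGroup.eq_one_iff]; exact hiff.2 ((QuotientGroup.eq_one_iff k).1 h)
    · rcases hKbar _ hαk with h' | h'
      · exact absurd ((QuotientGroup.eq_one_iff k).2 (hiff.1 ((QuotientGroup.eq_one_iff _).1 h')))
          (by rw [h]; exact hzbar)
      · rw [h, h']
  -- squares of `a`, `b` and `ab` agree modulo `L`
  have hcong : ∀ x y : P, (x : P ⧸ K) = y → (x : P ⧸ L) ^ 2 = (y : P ⧸ L) ^ 2 := by
    intro x y h
    rw [QuotientGroup.eq] at h
    have hk := hKbar _ h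
    rw [QuotientGroup.mk_mul, QuotientGroup.mk_inv] at hk
    rcases hk with hk | hk
    · rw [inv_mul_eq_one.1 hk]
    · have hy : (y : P ⧸ L) = (x : P ⧸ L) * z := inv_mul_eq_iff_eq_mul.1 hk
      rw [hy, (hKLcomm z hzK x).symm.mul_pow,
        show (z : P ⧸ L) ^ 2 = 1 from (QuotientGroup.eq_one_iff _).2 hz2, mul_one]
  have hA2 : (b : P ⧸ L) ^ 2 = (a : P ⧸ L) ^ 2 := by
    have := hτK (a ^ 2) (hsq a)
    rw [hτmk, map_pow, QuotientGroup.mk_pow, QuotientGroup.mk_pow] at this
    exact this
  have hB2 : ((a : P ⧸ L) * b) ^ 2 = (b : P ⧸ L) ^ 2 := by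
    have := hτK (b ^ 2) (hsq b)
    rw [hτmk, map_pow, QuotientGroup.mk_pow, QuotientGroup.mk_pow] at this
    rw [← this, ← QuotientGroup.mk_mul]
    exact hcong _ _ (by rw [QuotientGroup.mk_mul]; exact hαb.symm)
  have ha2z : (a : P ⧸ L) ^ 2 = z := by
    rcases hKbar _ (hsq a) with h | h <;> rw [QuotientGroup.mk_pow] at h
    · exfalso
      have hb2 := hA2.trans h
      have hab2 := hB2.trans hb2
      apply hzbar
      rw [pow_two] at h hb2 hab2
      have e1 := (inv_eq_of_mul_eq_one_right h)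
      have e2 := (inv_eq_of_mul_eq_one_right hb2)
      change ⁅(a : P ⧸ L), (b : P ⧸ L)⁆ = 1
      rw [commutatorElement_def, e1, e2, mul_assoc ((a : P ⧸ L) * b)]
      exact hab2
    · exact h
  -- so `P'` is central
  set M : Subgroup P := ⁅L, (⊤ : Subgroup P)⁆ with hM
  have hLM : ∀ l ∈ L, ∀ y : P, Commute (l : P ⧸ M) (y : P ⧸ M) := fun l hl y =>
    commute_mk (Subgroup.commutator_mem_commutator hl (Subgroup.mem_top y))
  have hzcomm : ∀ (g : P), (g : P ⧸ L) ^ 2 = z → Commute (z : P ⧸ M) (g : P ⧸ M) := by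
    intro g hg
    rw [← QuotientGroup.mk_pow, QuotientGroup.eq] at hg
    have h2 : (z : P ⧸ M) = (g : P ⧸ M) ^ 2 * (((g ^ 2)⁻¹ * z : P) : P ⧸ M) := by
      rw [← QuotientGroup.mk_pow, ← QuotientGroup.mk_mul, mul_inv_cancel_left]
    rw [h2]
    exact ((Commute.refl _).pow_left 2).mul_left (hLM _ hg g)
  have hzall : ∀ y : P, Commute (z : P ⧸ M) (y : P ⧸ M) :=
    central_of_gen M z (hzcomm a ha2z) (hzcomm b (hA2.trans ha2z))
  have hLbot : L = ⊥ := by
    apply eq_bot_of_le_commutator
    change L ≤ M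
    rw [hL, Subgroup.commutator_le]
    intro k hk y _
    refine mem_of_center_mk (fun w => ?_) y
    rcases hKcases k hk with h | h
    · exact hLM k h w
    · have h2 : (k : P ⧸ M) = (z : P ⧸ M) * ((z⁻¹ * k : P) : P ⧸ M) := by
        rw [← QuotientGroup.mk_mul, mul_inv_cancel_left]
      rw [h2]
      exact (hzall w).mul_left (hLM _ h w)
  -- conclude
  have hinj : ∀ x y : P, (x : P ⧸ L) = y → x = y := fun x y h => by
    rw [QuotientGroup.eq, hLbot, Subgroup.mem_bot] at h
    exact inv_mul_eq_one.1 h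
  have hz1 : z ≠ 1 := fun h => hzL (by rw [h]; exact one_mem _)
  have haz : a ^ 2 = z := hinj _ _ (by rw [QuotientGroup.mk_pow, ha2z])
  have hbz : b ^ 2 = z := hinj _ _ (by rw [QuotientGroup.mk_pow, hA2, ha2z])
  have hzz : z * z = 1 := by
    rw [← pow_two, ← Subgroup.mem_bot, ← hLbot]; exact hz2
  have hcardK : Nat.card K = 2 := by
    rw [Nat.card_eq_two_iff]
    refine ⟨1, ⟨z, hzK⟩, fun h => hz1 (congrArg Subtype.val h).symm, Set.eq_univ_of_forall fun k => ?_⟩
    rcases hKcases k k.2 with h | h <;> rw [hLbot, Subgroup.mem_bot] at h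
    · left; exact Subtype.ext h
    · right; exact Subtype.ext (inv_mul_eq_one.1 h).symm
  have hzc : ∀ y, Commute z y := fun y => by
    have := Subgroup.commutator_mem_commutator hzK (Subgroup.mem_top y)
    rwa [← hL, hLbot, Subgroup.mem_bot, commutatorElement_eq_one_iff_commute] at this
  refine nonempty_equiv_quaternion a b ?_ (haz ▸ hz1) ?_ (hbz.trans haz.symm) ?_ hgen
  · rw [← Subgroup.card_mul_index K, hcardK, h4]
  · rw [show 4 = 2 * 2 from rfl, pow_mul, haz, pow_two, hzz]
  · -- `z = a b a⁻¹ b⁻¹`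
    have hz' : z = a * b * a⁻¹ * b⁻¹ := rfl
    have h1 : b * a⁻¹ * b⁻¹ = z * a⁻¹ := by
      rw [((hzc a⁻¹).eq : z * a⁻¹ = a⁻¹ * z), hz']; group
    have h2 : b⁻¹ * a * b = b * a * b⁻¹ := by
      calc b⁻¹ * a * b = b⁻¹ * (a * z) * z⁻¹ * b := by group
        _ = b⁻¹ * (z * a) * z⁻¹ * b := by rw [(hzc a).eq]
        _ = _ := by rw [← hbz, pow_two]; group
    have hzinv : z⁻¹ = z := inv_eq_of_mul_eq_one_right hzz
    calc b⁻¹ * a * b = (b * a⁻¹ * b⁻¹)⁻¹ := by rw [h2]; group
      _ = a * z := by rw [h1, mul_inv_rev, inv_inv, hzinv]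
      _ = a⁻¹ * ((a ^ 2) * z) := by group
      _ = a⁻¹ := by rw [haz, hzz, mul_one]

end Cfsg.Agent.S4189
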