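import Cfsg.Statements.S1203
import Cfsg.Agent.TwoGroups.SemidihedralSubgroups
import Cfsg.Agent.TwoGroups.Automizer

-- import your own Cfsg.Agent.* helpers here

set_option autoImplicit false
open Cfsg

namespace Cfsg.Agent.S1203

/-- Let G be a finite group with quasi-dihedral Sylow 2-subgroup S, T a Klein four-subgroup of S and Q a quaternion subgroup of order 8 of S. Then |N_G(T) : C_G(T)| ∈ {2, 6} and |N_G(Q) : Q C_G(Q)| ∈ {2, 6}. -/
theorem result {G : Type*} [Group G] [Finite G] (S : Sylow 2 G) (hS : Cfsg.IsQuasiDihedral (S : Subgroup G)) (T : Subgroup G) (hT : IsKleinFour T) (hTS : T ≤ S) (Q : Subgroup G) (hQS : Q ≤ S) (eQ : Q ≃* QuaternionGroup 2) : ((Subgroup.centralizer (T : Set G)).relIndex (Subgroup.normalizer (T : Set G)) = 2 ∨ (Subgroup.centralizer (T : Set G)).relIndex (Subgroup.normalizer (T : Set G)) = 6) ∧ ((Q ⊔ Subgroup.centralizer (Q : Set G)).relIndex (Subgroup.normalizer (Q : Set G)) = 2 ∨ (Q ⊔ Subgroup.centralizer (Q : Set G)).relIndex (Subgroup.normalizer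 (Q : Set G)) = 6) := by
  open Subgroup CfsgLib.TwoGroups in
  haveI : Fact (Nat.Prime 2) := ⟨Nat.prime_two⟩
  obtain ⟨n, x, y, d⟩ := exists_sdPair hS
  have h16 : 16 ≤ Nat.card (S : Subgroup G) := by
    rw [d.card]
    calc 16 = 2 ^ 4 := rfl
      _ ≤ _ := Nat.pow_le_pow_right two_pos (by have := d.le; omega)
  have hgrow : ∀ X : Subgroup G, X ≤ (S : Subgroup G) → Nat.card X < 16 →
      ∃ u ∈ (S : Subgroup G), u ∈ normalizer (X : Set G) ∧ u ∉ X ∧ ∃ k : ℕ, u ^ 2 ^ k = 1 := by
    intro X hX hc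
    have hlt : X < (S : Subgroup G) := lt_of_le_of_ne hX fun h => by rw [h] at hc; omega
    obtain ⟨u, hu, huX⟩ := SetLike.exists_of_lt (CfsgLib.Transfer.lt_inf_normalizer S.isPGroup' hlt)
    obtain ⟨k, hk⟩ := S.isPGroup' ⟨u, hu.1⟩
    exact ⟨u, hu.1, hu.2, huX, k, by simpa [Subtype.ext_iff] using hk⟩
  constructor
  · obtain ⟨u, huS, huN, huT, k, hk⟩ := hgrow T hTS (by rw [hT.card_four]; norm_num)
    refine relIndex_centralizer_kleinFour hT huN (fun h => huT ?_) hk
    have := d.centralizer_kleinFour (isKleinFour_subgroupOf hT hTS)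
    have hu' : (⟨u, huS⟩ : (S : Subgroup G)) ∈
        centralizer ((T.subgroupOf (S : Subgroup G) : Subgroup _) : Set (S : Subgroup G)) :=
      fun v hv => Subtype.ext (h v (mem_subgroupOf.1 hv))
    rw [this] at hu'
    exact mem_subgroupOf.1 hu'
  · obtain ⟨a, ha, b, hb, hab⟩ := quaternion8_not_comm eQ
    obtain ⟨u, huS, huN, huQ, k, hk⟩ := hgrow Q hQS (by rw [card_quaternion8 eQ]; norm_num)
    have hinv : ∀ c ∈ Q ⊓ centralizer (Q : Set G), c * c = 1 := fun c hc =>
      quaternion8_central_sq eQ hc.1 fun v hv => (hc.2 v hv).symm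
    refine relIndex_sup_centralizer (Z := Q ⊓ centralizer (Q : Set G)) ha hb inf_le_left
      inf_le_right le_rfl (fun w hw => ?_) ⟨mul_mem ha ha, quaternion8_sq_central eQ ha⟩
      ⟨mul_mem hb hb, quaternion8_sq_central eQ hb⟩ hab
      (fun c hc h => quaternion8_invol eQ ha hb hab hc.1 h) (fun g hg c hc => ?_) huN
      (fun h => huQ ?_) hk
    · obtain ⟨c, hc, hw'⟩ := quaternion8_form eQ ha hb hab hw
      exact ⟨c, by rcases hc with rfl | rfl; exacts [one_mem _,
        ⟨mul_mem ha ha, quaternion8_sq_central eQ ha⟩], hw'⟩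
    · have h2 : g * c * g⁻¹ * (g * c * g⁻¹) = 1 := by
        rw [show g * c * g⁻¹ * (g * c * g⁻¹) = g * (c * c) * g⁻¹ by group, hinv c hc, mul_one,
          mul_inv_cancel]
      rcases quaternion8_invol eQ ha hb hab ((mem_normalizer_iff.1 hg c).1 hc.1) h2 with h | h
      · rw [conj_eq_one_iff] at h
        rw [h, mul_one, mul_inv_cancel]
      · rcases quaternion8_invol eQ ha hb hab hc.1 (hinv c hc) with h' | h'
        · rw [h', mul_one, mul_inv_cancel]
        · exact h.trans h'.symm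
    · obtain ⟨q, hq, c, hc, rfl⟩ :=
        CfsgLib.Coprime.exists_mul_of_mem_sup (centralizer_le_normalizer _) h
      have hcS : c ∈ (S : Subgroup G) := by
        simpa using mul_mem (inv_mem (hQS hq)) huS
      have := d.centralizer_quaternion ((subgroupOfEquivOfLe hQS).trans eQ)
      have hc' : (⟨c, hcS⟩ : (S : Subgroup G)) ∈
          centralizer ((Q.subgroupOf (S : Subgroup G) : Subgroup _) : Set (S : Subgroup G)) :=
        fun v hv => Subtype.ext (hc v (mem_subgroupOf.1 hv))
      rw [this] at hc'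
      exact mul_mem hq (mem_subgroupOf.1 (Subgroup.map_subtype_le _ hc'))

end Cfsg.Agent.S1203
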