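import Cfsg.Statements.S1208
import Cfsg.Agent.TwoGroups.WreathedSubgroups
import Cfsg.Agent.TwoGroups.Automizer

-- import your own Cfsg.Agent.* helpers here

set_option autoImplicit false
open Cfsg

namespace Cfsg.Agent.S1208

/-- Let G be a finite group whose Sylow 2-subgroup S is wreathed of order 2^(2n+1), U the commutative subgroup of index 2 in S, Q a quaternion subgroup of order 8 of S and V = Q Z(S). Then |N_G(U) : C_G(U)| ∈ {2, 6} and |N_G(V) : V C_G(V)| ∈ {2, 6}. -/
theorem result {G : Type*} [Group G] [Finite G] (S : Sylow 2 G) (hS : Cfsg.IsWreathed (S : Subgroup G)) (n : ℕ) (hn : Nat.card S = 2 ^ (2 * n + 1)) (U : Subgroup G) (hUS : U ≤ S) (hUab : IsMulCommutative U) (hUcard : Nat.card U = 2 ^ (2 * n)) (Q : Subgroup G) (hQS : Q ≤ S) (eQ : Q ≃* QuaternionGroup 2) : ((Subgroup.centralizer (U : Set G)).relIndex (Subgroup.normalizer (U : Set G)) = 2 ∨ (Subgroup.centralizer (U : Set G)).relIndex (Subgroup.normalizer (U : Set G)) = 6) ∧ (((Q ⊔ ((Subgroup.center (S : Subgroup G)).map (S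 : Subgroup G).subtype)) ⊔ Subgroup.centralizer ((Q ⊔ ((Subgroup.center (S : Subgroup G)).map (S : Subgroup G).subtype) : Subgroup G) : Set G)).relIndex (Subgroup.normalizer ((Q ⊔ ((Subgroup.center (S : Subgroup G)).map (S : Subgroup G).subtype) : Subgroup G) : Set G)) = 2 ∨ ((Q ⊔ ((Subgroup.center (S : Subgroup G)).map (S : Subgroup G).subtype)) ⊔ Subgroup.centralizer ((Q ⊔ ((Subgroup.center (S : Subgroup G)).map (S : Subgroup G).subtype) : Subgroup G) : Set G)).relIndex (Subgroup.normalizer ((Q ⊔ ((Subgroup.center (S : Subgroup G)).map (S : Subgroup G).subtype) : Subgroup G) : Set G)) = 6) := by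
  open Subgroup CfsgLib.TwoGroups in
  haveI : Fact (Nat.Prime 2) := ⟨Nat.prime_two⟩
  obtain ⟨m, x, y, z, d⟩ := exists_wrTriple hS
  obtain rfl : m = n := by
    have := d.card.symm.trans hn
    have := Nat.pow_right_injective le_rfl this
    omega
  constructor
  · haveI := hUab
    have hbase : U.subgroupOf (S : Subgroup G) = d.base := d.eq_base_of_isMulCommutative
      ⟨⟨fun p q => by
        apply Subtype.ext; apply Subtype.ext
        show ((p.1 : (S : Subgroup G)) : G) * q.1.1 = q.1.1 * p.1.1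
        exact congrArg Subtype.val
          (IsMulCommutative.is_comm.comm (⟨_, mem_subgroupOf.1 p.2⟩ : U) ⟨_, mem_subgroupOf.1 q.2⟩)⟩⟩
      (by rw [Nat.card_congr (subgroupOfEquivOfLe hUS).toEquiv]; exact hUcard)
    have hbU : ∀ a b : ℤ, ((el x y a b : (S : Subgroup G)) : G) ∈ U := fun a b =>
      mem_subgroupOf.1 (hbase.symm ▸ d.el_mem_base a b)
    have hSN : (S : Subgroup G) ≤ normalizer (U : Set G) := by
      have hn : (U.subgroupOf (S : Subgroup G)).Normal :=
        hbase ▸ normal_of_index_eq_two d.index_base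
      exact normal_subgroupOf_iff_le_normalizer hUS |>.1 hn
    let T : Subgroup G :=
      { carrier := {v | v ∈ U ∧ v * v = 1}
        one_mem' := ⟨one_mem _, one_mul 1⟩
        mul_mem' := by
          rintro v w ⟨hv, hv2⟩ ⟨hw', hw2⟩
          refine ⟨mul_mem hv hw', ?_⟩
          have hc : Commute v w :=
            congrArg Subtype.val (IsMulCommutative.is_comm.comm (⟨v, hv⟩ : U) ⟨w, hw'⟩)
          rw [hc.symm.mul_mul_mul_comm, hv2, hw2, one_mul]
        inv_mem' := by
          rintro v ⟨hv, hv2⟩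
          exact ⟨inv_mem hv, by rw [← mul_inv_rev, hv2, inv_one]⟩ }
    have hTU : T ≤ U := fun v hv => hv.1
    obtain ⟨T₀, hT₀, -, hl, hr, hmem⟩ := d.exists_baseFour
    have hTeq : T = T₀.map (S : Subgroup G).subtype := by
      ext v
      constructor
      · rintro ⟨hv, hv2⟩
        obtain ⟨a, b, he⟩ := d.mem_base.1 (hbase ▸ (mem_subgroupOf.2 hv : (⟨v, hUS hv⟩ :
          (S : Subgroup G)) ∈ U.subgroupOf (S : Subgroup G)))
        refine ⟨⟨v, hUS hv⟩, (hmem _).2 ?_, rfl⟩
        rw [he]
        exact d.el_invol (by rw [← he]; exact Subtype.ext hv2)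
      · rintro ⟨w, hw, rfl⟩
        refine ⟨?_, congrArg Subtype.val ((isKleinFour_iff.1 hT₀).2 w hw)⟩
        rcases (hmem w).1 hw with rfl | rfl | rfl | rfl
        exacts [one_mem _, hbU _ _, hbU _ _, hbU _ _]
    have hT : IsKleinFour T := by
      refine isKleinFour_iff.2 ⟨?_, fun v hv => hv.2⟩
      rw [hTeq, card_map_of_injective (Subgroup.subtype_injective _)]
      exact hT₀.card_four
    have hNT : normalizer (U : Set G) ≤ normalizer (T : Set G) := by
      intro g hg
      rw [mem_normalizer_iff]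
      intro v
      show (v ∈ U ∧ v * v = 1) ↔ (g * v * g⁻¹ ∈ U ∧ g * v * g⁻¹ * (g * v * g⁻¹) = 1)
      rw [show g * v * g⁻¹ * (g * v * g⁻¹) = g * (v * v) * g⁻¹ by group, conj_eq_one_iff,
        ← mem_normalizer_iff.1 hg v]
    have hbaseC : ∀ v ∈ U, v ∈ centralizer (U : Set G) := fun v hv w hw =>
      congrArg Subtype.val (IsMulCommutative.is_comm.comm (⟨w, hw⟩ : U) ⟨v, hv⟩)
    have hz : (z : G) ∉ centralizer (T : Set G) := fun h => by
      have h' : el x y (hw m) 0 * z = z * el x y (hw m) 0 :=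
        Subtype.ext (h _ (by rw [hTeq]; exact ⟨_, hl, rfl⟩))
      rw [d.z_mul_el, d.elz_inj, sub_zero] at h'
      exact d.not_nn_dvd_hw h'.2
    have hk : (normalizer (U : Set G)) ⊓ centralizer (T : Set G) = centralizer (U : Set G) := by
      refine le_antisymm (fun g hg => ?_)
        (le_inf (centralizer_le_normalizer _) (centralizer_le (fun v hv => hTU hv)))
      refine mem_centralizer_of_fix_invol ?_ hg.1 ?_ ?_
      · exact IsPGroup.of_card hUcard
      · intro v hv hv2
        rw [mul_inv_eq_iff_eq_mul]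
        exact (hg.2 v ⟨hv, hv2⟩).symm
      · rintro u hu ⟨k, hk⟩
        have huK : u ∈ normalizer (U : Set G) ⊓ centralizer (T : Set G) :=
          zpowers_le.2 hg hu
        have hP : IsPGroup 2 (zpowers u) := by
          obtain ⟨j, -, hj⟩ := (Nat.dvd_prime_pow Nat.prime_two).1 (orderOf_dvd_of_pow_eq_one hk)
          exact IsPGroup.of_card (by rw [Nat.card_zpowers, hj])
        obtain ⟨h, hh, hmv⟩ := exists_conj_mem_sylow S hSN (zpowers_le.2 huK.1) hP
        have hs := hmv u (mem_zpowers u)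
        obtain ⟨a, b, he | he⟩ := d.eq_cases ⟨_, hs⟩
        · intro v hv
          have hmem' : h * u * h⁻¹ ∈ U := by
            have := hbU a b
            rwa [← congrArg Subtype.val he] at this
          have := hbaseC _ hmem' _ ((mem_normalizer_iff.1 hh v).1 hv)
          calc v * u = h⁻¹ * ((h * v * h⁻¹) * (h * u * h⁻¹)) * h := by group
            _ = u * v := by rw [this]; group
        · exfalso
          have hsT : h * u * h⁻¹ ∈ centralizer (T : Set G) := by
            intro v hv
            have hv' : h⁻¹ * v * h ∈ T := (mem_normalizer_iff''.1 (hNT hh) v).1 hv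
            calc v * (h * u * h⁻¹) = h * ((h⁻¹ * v * h) * u) * h⁻¹ := by group
              _ = h * u * h⁻¹ * v := by rw [huK.2 _ hv']; group
          have h1 : el x y (hw m) 0 * (⟨_, hs⟩ : (S : Subgroup G)) =
              ⟨_, hs⟩ * el x y (hw m) 0 :=
            Subtype.ext (hsT _ (by rw [hTeq]; exact ⟨_, hl, rfl⟩))
          rw [he] at h1
          have := d.commute_el_elz.1 h1
          rw [sub_zero] at this
          exact d.not_nn_dvd_hw this
    have hker : (T.normalizerMonoidHom.comp (inclusion hNT)).ker =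
        (centralizer (U : Set G)).subgroupOf (normalizer (U : Set G)) := by
      ext g
      rw [← MonoidHom.comap_ker, normalizerMonoidHom_ker, mem_subgroupOf, ← hk]
      exact ⟨fun h => ⟨g.2, h⟩, fun h => h.2⟩
    exact relIndex_eq_two_or_six (card_mulAut_dvd_six hT.card_four) _ hker
      (hSN z.2) (fun h => hz (centralizer_le (fun v hv => hTU hv) h)) (k := 1)
      (by rw [pow_one, sq]; exact congrArg Subtype.val d.z_mul_z)
  · set Z := (Subgroup.center (S : Subgroup G)).map (S : Subgroup G).subtype with hZdef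
    have hZS : Z ≤ (S : Subgroup G) := map_subtype_le _
    have hZc : ∀ c ∈ Z, ∀ s ∈ (S : Subgroup G), s * c = c * s := by
      rintro _ ⟨c, hc, rfl⟩ s hs
      exact congrArg Subtype.val (mem_center_iff.1 hc ⟨s, hs⟩)
    have keyA : ∀ Q' : Subgroup G, Q' ≤ (S : Subgroup G) → (Q' ≃* QuaternionGroup 2) →
        ∀ c ∈ (S : Subgroup G), (∀ q ∈ Q', q * c = c * q) → c ∈ Z := by
      intro Q' hQ' e c hc hcomm
      let X := Q'.subgroupOf (S : Subgroup G) ⊔ zpowers (⟨c, hc⟩ : (S : Subgroup G))
      obtain ⟨a, ha, b, hb, hab⟩ := quaternion8_not_comm e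
      have hX : ¬ IsMulCommutative X := fun h => hab (by
        have := h.is_comm.comm
          (⟨⟨a, hQ' ha⟩, mem_sup_left (mem_subgroupOf.2 ha)⟩ : X)
          ⟨⟨b, hQ' hb⟩, mem_sup_left (mem_subgroupOf.2 hb)⟩
        exact congrArg Subtype.val (congrArg Subtype.val this))
      have hcX : (⟨⟨c, hc⟩, mem_sup_right (mem_zpowers _)⟩ : X) ∈ Subgroup.center X := by
        rw [mem_center_iff]
        rintro ⟨v, hv⟩
        apply Subtype.ext
        have hle : X ≤ centralizer ({⟨c, hc⟩} : Set (S : Subgroup G)) :=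
          sup_le (fun q hq => mem_centralizer_singleton_iff.2
              (Subtype.ext (hcomm _ (mem_subgroupOf.1 hq))))
            (zpowers_le.2 (mem_centralizer_singleton_iff.2 rfl))
        exact mem_centralizer_singleton_iff.1 (hle hv)
      exact ⟨⟨c, hc⟩, d.center_le_center hX ⟨_, hcX, rfl⟩, rfl⟩
    obtain ⟨a, ha, b, hb, hab⟩ := quaternion8_not_comm eQ
    obtain ⟨hinvb, -, -⟩ := quaternion8_inverts eQ ha hb hab
    set W := Q ⊔ Z with hW
    have hWS : W ≤ (S : Subgroup G) := sup_le hQS hZS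
    have hWC : W ⊓ centralizer (W : Set G) ≤ Z := fun c hc =>
      keyA Q hQS eQ c (hWS hc.1) (fun q hq => hc.2 q (mem_sup_left hq))
    have hZW : Z ≤ centralizer (W : Set G) := fun c hc w hw => hZc c hc w (hWS hw)
    have hsqZ : ∀ q ∈ Q, q * q ∈ Z := fun q hq =>
      keyA Q hQS eQ _ (hQS (mul_mem hq hq)) (fun r hr => quaternion8_sq_central eQ hq r hr)
    have hcZ : a * b * a⁻¹ * b⁻¹ ∈ Z := by
      rw [hinvb, ← mul_inv_rev]; exact inv_mem (hsqZ b hb)
    have hc2 : a * b * a⁻¹ * b⁻¹ * (a * b * a⁻¹ * b⁻¹) = 1 := by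
      rw [hinvb, ← mul_inv_rev, ← mul_inv_rev, quaternion8_pow_four eQ hb, inv_one]
    have hinv : ∀ c ∈ Z, c * c = 1 → c = 1 ∨ c = a * b * a⁻¹ * b⁻¹ := by
      have hdiag : ∀ v : (S : Subgroup G), v ∈ Subgroup.center (S : Subgroup G) → v * v = 1 →
          v = 1 ∨ v = el x y (hw m) (hw m) := by
        intro v hv hv2
        obtain ⟨p, q, rfl, hpq⟩ := d.mem_center_iff.1 hv
        rcases d.el_invol hv2 with h | h | h | h
        · exact Or.inl h
        · exfalso
          obtain ⟨h1, h2⟩ := d.el_inj.1 h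
          apply d.not_nn_dvd_hw
          have := dvd_add (dvd_sub h1 h2) hpq
          rwa [show hw m - p - (0 - q) + (p - q) = hw m by ring] at this
        · exfalso
          obtain ⟨h1, h2⟩ := d.el_inj.1 h
          apply d.not_nn_dvd_hw
          have := dvd_sub (dvd_sub h2 h1) hpq
          rwa [show hw m - q - (0 - p) - (p - q) = hw m by ring] at this
        · exact Or.inr h
      rintro c ⟨c', hc', rfl⟩ h2
      obtain ⟨w, hw', hwe⟩ := hcZ
      rcases hdiag c' hc' (Subtype.ext h2) with h | h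
      · exact Or.inl (by rw [h]; rfl)
      · rcases hdiag w hw' (Subtype.ext (by
          have := hc2; rw [← hwe] at this; exact this)) with h' | h'
        · exfalso; apply hab
          rw [h', map_one] at hwe
          calc a * b = (a * b * a⁻¹ * b⁻¹) * (b * a) := by group
            _ = b * a := by rw [← hwe, one_mul]
        · exact Or.inr (by rw [h, ← hwe, h'])
    have hZN : ∀ g ∈ normalizer (W : Set G), ∀ c ∈ Z, g * c * g⁻¹ ∈ Z := by
      intro g hg c hc
      refine hWC ⟨(mem_normalizer_iff.1 hg c).1 (mem_sup_right hc), fun w hw => ?_⟩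
      have hw' : g⁻¹ * w * g ∈ W := (mem_normalizer_iff''.1 hg w).1 hw
      calc w * (g * c * g⁻¹) = g * ((g⁻¹ * w * g) * c) * g⁻¹ := by group
        _ = g * c * g⁻¹ * w := by rw [hZW hc _ hw']; group
    have hfix : ∀ g ∈ normalizer (W : Set G), ∀ c ∈ Z, g * c * g⁻¹ = c := by
      intro g hg c hc
      haveI : IsMulCommutative Z := ⟨⟨fun p q => Subtype.ext (hZc _ q.2 _ (hZS p.2))⟩⟩
      have hgZ : g ∈ normalizer (Z : Set G) := by
        rw [mem_normalizer_iff]
        refine fun v => ⟨hZN g hg v, fun h => ?_⟩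
        have h' := hZN g⁻¹ (inv_mem hg) _ h
        rwa [show g⁻¹ * (g * v * g⁻¹) * g⁻¹⁻¹ = v by group] at h'
      suffices g ∈ centralizer (Z : Set G) by rw [← this c hc, mul_inv_cancel_right]
      refine mem_centralizer_of_fix_invol (S.isPGroup'.to_le hZS) hgZ (fun v hv hv2 => ?_) ?_
      · rcases hinv v hv hv2 with rfl | rfl
        · rw [mul_one, mul_inv_cancel]
        · rcases hinv _ (hZN g hg _ hv)
            (by rw [show ∀ t : G, g * t * g⁻¹ * (g * t * g⁻¹) = g * (t * t) * g⁻¹ from
              fun t => by group, hv2, mul_one, mul_inv_cancel]) with h | h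
          · rw [conj_eq_one_iff] at h
            rw [h, mul_one, mul_inv_cancel]
          · exact h
      · rintro u hu ⟨k, hk⟩
        have huW : zpowers u ≤ normalizer (W : Set G) := zpowers_le.2 (zpowers_le.2 hg hu)
        have hP : IsPGroup 2 (zpowers u ⊔ W : Subgroup G) := by
          refine IsPGroup.to_sup_of_normal_right' ?_ (S.isPGroup'.to_le hWS) huW
          obtain ⟨j, -, hj⟩ := (Nat.dvd_prime_pow Nat.prime_two).1 (orderOf_dvd_of_pow_eq_one hk)
          exact IsPGroup.of_card (by rw [Nat.card_zpowers, hj])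
        obtain ⟨h, -, hmv⟩ := exists_conj_mem_sylow S le_top le_top hP
        intro v hv
        have hQ'S : Q.map (MulAut.conj h).toMonoidHom ≤ (S : Subgroup G) := by
          rintro _ ⟨q, hq, rfl⟩
          exact hmv q (mem_sup_right (mem_sup_left hq))
        have e' : Q.map (MulAut.conj h).toMonoidHom ≃* QuaternionGroup 2 :=
          (Q.equivMapOfInjective _ (MulAut.conj h).injective).symm.trans eQ
        have hvZ : h * v * h⁻¹ ∈ Z := by
          refine keyA _ hQ'S e' _ (hmv v (mem_sup_right (mem_sup_right hv))) ?_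
          rintro _ ⟨q, hq, rfl⟩
          show h * q * h⁻¹ * (h * v * h⁻¹) = h * v * h⁻¹ * (h * q * h⁻¹)
          rw [show h * q * h⁻¹ * (h * v * h⁻¹) = h * (q * v) * h⁻¹ by group,
            show h * v * h⁻¹ * (h * q * h⁻¹) = h * (v * q) * h⁻¹ by group,
            hZc v hv q (hQS hq)]
        have := hZc _ hvZ _ (hmv u (mem_sup_left (mem_zpowers u)))
        calc v * u = h⁻¹ * ((h * v * h⁻¹) * (h * u * h⁻¹)) * h := by group
          _ = u * v := by rw [← this]; group
    have hQZ : Z ≤ normalizer (Q : Set G) :=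
      le_trans (show Z ≤ centralizer (Q : Set G) from fun c hc q hq => hZc c hc q (hQS hq))
        (centralizer_le_normalizer _)
    have hform : ∀ w ∈ W, ∃ c ∈ Z, w = c ∨ w = a * c ∨ w = b * c ∨ w = a * b * c := by
      intro w hw
      obtain ⟨q, hq, c, hc, rfl⟩ := CfsgLib.Coprime.exists_mul_of_mem_sup hQZ hw
      obtain ⟨e, he, hq'⟩ := quaternion8_form eQ ha hb hab hq
      have heZ : e ∈ Z := by
        rcases he with rfl | rfl
        exacts [one_mem _, hsqZ a ha]
      refine ⟨e * c, mul_mem heZ hc, ?_⟩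
      simp only [← mul_assoc]
      rcases hq' with rfl | rfl | rfl | rfl
      exacts [Or.inl rfl, Or.inr (Or.inl rfl), Or.inr (Or.inr (Or.inl rfl)),
        Or.inr (Or.inr (Or.inr rfl))]
    have hlt : W < (S : Subgroup G) := by
      refine lt_of_le_of_ne hWS fun h => ?_
      obtain ⟨c, hc, hq⟩ := hform ((el x y 1 0 : (S : Subgroup G)) : G)
        (h.symm ▸ (el x y 1 0 : (S : Subgroup G)).2)
      have hsq : ((el x y 2 0 : (S : Subgroup G)) : G) ∈ Z := by
        have e1 : ((el x y 2 0 : (S : Subgroup G)) : G) =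
            ((el x y 1 0 : (S : Subgroup G)) : G) * ((el x y 1 0 : (S : Subgroup G)) : G) := by
          rw [← Subgroup.coe_mul, d.el_mul]; norm_num
        have hq2 : ∀ q ∈ Q, q * c * (q * c) ∈ Z := fun q hq' => by
          rw [show q * c * (q * c) = q * (c * q) * c by group, ← hZc c hc q (hQS hq'),
            show q * (q * c) * c = (q * q) * (c * c) by group]
          exact mul_mem (hsqZ q hq') (mul_mem hc hc)
        rw [e1]
        rcases hq with hq | hq | hq | hq <;> rw [hq]
        exacts [mul_mem hc hc, hq2 a ha, hq2 b hb, hq2 _ (mul_mem ha hb)]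
      obtain ⟨v, hv, he⟩ := hsq
      obtain ⟨p, q, rfl, hpq⟩ := d.mem_center_iff.1 hv
      obtain ⟨h1, h2⟩ := d.el_inj.1 (Subtype.ext he : el x y p q = el x y 2 0)
      have h3 : nn m ≤ 2 := Int.le_of_dvd two_pos (by
        have := dvd_add (dvd_sub h1 h2) hpq
        rwa [show 2 - p - (0 - q) + (p - q) = (2 : ℤ) by ring] at this)
      have h4 : (4 : ℤ) ≤ nn m := by
        rw [nn, show (4 : ℤ) = 2 ^ 2 by norm_num]
        exact pow_le_pow_right₀ (by norm_num) d.le
      omega
    obtain ⟨u, hu, huW⟩ := SetLike.exists_of_lt (CfsgLib.Transfer.lt_inf_normalizer S.isPGroup' hlt)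
    obtain ⟨k, hk⟩ := S.isPGroup' ⟨u, hu.1⟩
    refine relIndex_sup_centralizer (W := W) (Z := Z) (mem_sup_left ha) (mem_sup_left hb)
      le_sup_right hZW hWC hform (hsqZ a ha) (hsqZ b hb) hab hinv hfix hu.2 (fun h => huW ?_)
      (by simpa [Subtype.ext_iff] using hk)
    obtain ⟨w, hw, c, hc, rfl⟩ :=
      CfsgLib.Coprime.exists_mul_of_mem_sup (centralizer_le_normalizer _) h
    refine mul_mem hw (mem_sup_right (keyA Q hQS eQ c ?_ fun q hq => hc q (mem_sup_left hq)))
    simpa using mul_mem (inv_mem (hWS hw)) hu.1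

end Cfsg.Agent.S1208
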