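import Cfsg.Statements.S1202
import Cfsg.Agent.TwoGroups.WreathedAut

-- import your own Cfsg.Agent.* helpers here

set_option autoImplicit false
open Cfsg

namespace Cfsg.Agent.S1202

/-- Let S be a wreathed 2-group of order 2^(2n+1) and X a subgroup with C_S(X) ≤ X such that Aut(X) is not a 2-group. Then |N_S(X) : X| = 2, and either X is the commutative subgroup of order 2^(2n), or X = Q·Z(S) for some subgroup Q ≅ Q₈; in the latter case any two such subgroups are conjugate in S. -/
theorem result {S : Type*} [Group S] [Finite S] (hS : Cfsg.IsWreathed S) (n : ℕ) (hn : Nat.card S = 2 ^ (2 * n + 1)) (X : Subgroup S) (hC : Subgroup.centralizer (X : Set S) ≤ X) (hA : ¬ IsPGroup 2 (MulAut X)) : X.relIndex (Subgroup.normalizer (X : Set S)) = 2 ∧ ((IsMulCommutative X ∧ Nat.card X = 2 ^ (2 * n)) ∨ ∃ Q : Subgroup S, Nonempty (Q ≃* QuaternionGroup 2) ∧ X = Q ⊔ Subgroup.center S) ∧ ∀ X' : Subgroup S, Subgroup.centralizer (X' : Set S) ≤ X' → ¬ IsPGroup 2 (MulAut X') → ¬ IsMulCommutative X → ¬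 IsMulCommutative X' → ∃ s : S, X.map (MulAut.conj s).toMonoidHom = X' := by
  open Subgroup CfsgLib.TwoGroups in
  obtain ⟨m, x, y, z, d⟩ := exists_wrTriple hS
  obtain rfl : m = n := by
    have := d.card.symm.trans hn
    have := Nat.pow_right_injective le_rfl this
    omega
  have hbc : IsMulCommutative d.base := ⟨⟨fun u v => Subtype.ext (by
    obtain ⟨a, b, ha⟩ := d.mem_base.1 u.2
    obtain ⟨c, e, hc⟩ := d.mem_base.1 v.2
    show (u : S) * v = v * u
    rw [ha, hc]
    exact (d.commute_el_el _ _ _ _).eq)⟩⟩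
  have hle : ∀ Y : Subgroup S, Subgroup.centralizer (Y : Set S) ≤ Y → Y ≤ d.base → Y = d.base := by
    intro Y hY hYb
    refine le_antisymm hYb fun g hg => hY fun v hv => ?_
    exact congrArg Subtype.val (hbc.is_comm.comm (⟨v, hYb hv⟩ : d.base) ⟨g, hg⟩)
  constructor
  · by_cases hb : X ≤ d.base
    · rw [hle X hC hb]
      haveI := normal_of_index_eq_two d.index_base
      rw [normalizer_eq_top, relIndex_top_right, d.index_base]
    · obtain ⟨g, rfl⟩ := d.exists_conj_autSub hC hb hA
      rw [← map_equiv_normalizer_eq, relIndex_map_map_of_injective _ _ (MulAut.conj g).injective,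
        d.relIndex_autSub]
  constructor
  · by_cases hb : X ≤ d.base
    · exact Or.inl ⟨hle X hC hb ▸ hbc, by rw [hle X hC hb, d.card_base]⟩
    · right
      obtain ⟨g, rfl⟩ := d.exists_conj_autSub hC hb hA
      obtain ⟨Q, ⟨e⟩, hQ⟩ := d.exists_quaternion_autSub
      refine ⟨Q.map (MulAut.conj g).toMonoidHom,
        ⟨(Q.equivMapOfInjective _ (MulAut.conj g).injective).symm.trans e⟩, ?_⟩
      rw [hQ, Subgroup.map_sup]
      congr 1
      ext v
      constructor
      · rintro ⟨c, hc, rfl⟩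
        show g * c * g⁻¹ ∈ Subgroup.center S
        rw [Subgroup.mem_center_iff.1 hc g, mul_inv_cancel_right]; exact hc
      · intro hv
        refine ⟨v, hv, ?_⟩
        show g * v * g⁻¹ = v
        rw [Subgroup.mem_center_iff.1 hv g, mul_inv_cancel_right]
  · intro X' hC' hA' hXc hXc'
    have hb : ¬ X ≤ d.base := fun h => hXc (hle X hC h ▸ hbc)
    have hb' : ¬ X' ≤ d.base := fun h => hXc' (hle X' hC' h ▸ hbc)
    obtain ⟨g, rfl⟩ := d.exists_conj_autSub hC hb hA
    obtain ⟨g', rfl⟩ := d.exists_conj_autSub hC' hb' hA'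
    refine ⟨g' * g⁻¹, ?_⟩
    rw [Subgroup.map_map]
    congr 1
    ext v
    simp [mul_assoc]

end Cfsg.Agent.S1202
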