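import Cfsg.Statements.S5736
import Cfsg.Agent.DicksonPSL2.BinaryMain


set_option autoImplicit false
open Cfsg

namespace Cfsg.Agent.S5736

/-- Let F be a finite field with q ≥ 4 elements, q ≠ 5, let G = PSL₂(F) and let H be a proper subgroup of G. Then the action of G on the cosets of H is binary if and only if H is trivial, or q is a power of 2 and H is a Sylow 2-subgroup, or q = 2^a with a odd and H has order 3. Here an action is binary (relational complexity 2) when, for every n ≥ 2 and all n-tuples I, J of points, if for every pair of positions some group element carries the corresponding pair of entries of I to those of J, then a single group element carries I to J. -/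
theorem result {F : Type*} [Field F] [Fintype F] (h4 : 4 ≤ Fintype.card F) (h5 : Fintype.card F ≠ 5)
    (H : Subgroup (Matrix.ProjectiveSpecialLinearGroup (Fin 2) F)) (hH : H ≠ ⊤) :
    (∀ (n : ℕ) (I J : Fin n → Matrix.ProjectiveSpecialLinearGroup (Fin 2) F ⧸ H), 2 ≤ n →
        (∀ i j : Fin n, i ≠ j → ∃ g : Matrix.ProjectiveSpecialLinearGroup (Fin 2) F, g • I i = J i ∧ g • I j = J j) → ∃ g : Matrix.ProjectiveSpecialLinearGroup (Fin 2) F, ∀ i, g • I i = J i) ↔
      (H = ⊥ ∨ ((∃ a : ℕ, Fintype.card F = 2 ^ a) ∧ ∃ P : Sylow 2 (Matrix.ProjectiveSpecialLinearGroup (Fin 2) F), H = P) ∨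
        ((∃ a : ℕ, Odd a ∧ Fintype.card F = 2 ^ a) ∧ Nat.card H = 3)) := by
  open CfsgLib.DicksonPSL2 in
  have h2of : ∀ a : ℕ, Fintype.card F = 2 ^ a → Fintype.card F % 2 = 0 := by
    intro a ha
    rcases a with _ | a
    · simp at ha; omega
    · rw [ha, pow_succ]; omega
  have pow2 : Fintype.card F % 2 = 0 → ∃ a : ℕ, Fintype.card F = 2 ^ a := by
    intro h
    haveI := ringChar.of_eq (FiniteField.even_card_iff_char_two.2 h)
    obtain ⟨n, -, hn⟩ := FiniteField.card F 2
    exact ⟨n, hn⟩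
  have mod3 : ∀ a : ℕ, 2 ^ a % 3 = if Even a then 1 else 2 := by
    intro a
    induction a with
    | zero => simp
    | succ k ih =>
      rw [pow_succ, Nat.mul_mod, ih]
      by_cases hk : Even k <;> simp [hk, Nat.even_add_one]
  haveI : Fact (Nat.Prime 2) := ⟨Nat.prime_two⟩
  have hU : Fintype.card F % 2 = 0 → ∀ c, ∃ P : Sylow 2 (Matrix.ProjectiveSpecialLinearGroup (Fin 2) F),
      (CfsgLib.DicksonPSL2.conjS c (CfsgLib.DicksonPSL2.upGroup (F := F)) :
        Subgroup (Matrix.ProjectiveSpecialLinearGroup (Fin 2) F)) = P := by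
    intro hev c
    obtain ⟨a, ha⟩ := pow2 hev
    set K := CfsgLib.DicksonPSL2.conjS c (CfsgLib.DicksonPSL2.upGroup (F := F))
    have hK : Nat.card K = Fintype.card F := by
      rw [CfsgLib.DicksonPSL2.card_conjS, CfsgLib.DicksonPSL2.card_upGroup]
    have hp : IsPGroup 2 K := IsPGroup.of_card (n := a) (by rw [hK, ha])
    have hi : ¬ 2 ∣ K.index := by
      intro hd
      have h := CfsgLib.DicksonPSL2.card_PSL_formula F
      have hg : Nat.gcd 2 (Fintype.card F - 1) = 1 :=
        Nat.prime_two.coprime_iff_not_dvd.2 (fun h => by omega)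
      rw [hg, one_mul, ← K.card_mul_index, hK, mul_assoc] at h
      have h' := Nat.eq_of_mul_eq_mul_left (by omega) h
      rw [h'] at hd
      rcases Nat.prime_two.dvd_mul.1 hd with h | h <;> omega
    exact ⟨hp.toSylow hi, rfl⟩
  constructor
  · intro hb
    by_cases h1 : H = ⊥
    · exact Or.inl h1
    obtain ⟨hev, hcases⟩ := CfsgLib.DicksonPSL2.Binary.cases_of_isBin h4 h5 hb hH h1
    obtain ⟨a, ha⟩ := pow2 hev
    rcases hcases with ⟨c, rfl⟩ | ⟨h3, hc⟩
    · exact Or.inr (Or.inl ⟨⟨a, ha⟩, hU hev c⟩)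
    · refine Or.inr (Or.inr ⟨⟨a, ?_, ha⟩, hc⟩)
      rw [ha, mod3] at h3
      by_contra ho
      rw [Nat.not_odd_iff_even] at ho
      simp [ho] at h3
  · rintro (rfl | ⟨⟨a, ha⟩, P, rfl⟩ | ⟨⟨a, hao, ha⟩, hc⟩)
    · exact CfsgLib.DicksonPSL2.Binary.isBin_bot
    · have hev := h2of a ha
      obtain ⟨Q, hQ⟩ := hU hev 1
      obtain ⟨g, hg⟩ := MulAction.exists_smul_eq (Matrix.ProjectiveSpecialLinearGroup (Fin 2) F) Q P
      have e : (P : Subgroup (Matrix.ProjectiveSpecialLinearGroup (Fin 2) F)) =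
          CfsgLib.DicksonPSL2.conjS (g * 1) CfsgLib.DicksonPSL2.upGroup := by
        rw [CfsgLib.DicksonPSL2.conjS_mul, hQ, ← hg]
        rfl
      rw [e]
      exact CfsgLib.DicksonPSL2.Binary.isBin_upGroup
        (CfsgLib.DicksonPSL2.Binary.even_card_iff.1 hev) _
    · have hev := h2of a ha
      refine CfsgLib.DicksonPSL2.Binary.isBin_of_card_three
        (CfsgLib.DicksonPSL2.Binary.even_card_iff.1 hev) ?_ hc
      rw [ha, mod3, if_neg (Nat.not_even_iff_odd.2 hao)]

end Cfsg.Agent.S5736
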