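import Cfsg.Statements.S5944
-- import your own Cfsg.Agent.* helpers here

set_option autoImplicit false
open Cfsg

namespace Cfsg.Agent.S5944

open Equiv

/-- For `n ≥ 5` a proper subgroup other than the alternating group contains no non-trivial normal subgroup. -/
theorem normalCore_eq_bot {n : ℕ} (hn : 5 ≤ n) {H : Subgroup (Perm (Fin n))} (hH : H ≠ ⊤)
    (hA : H ≠ alternatingGroup (Fin n)) : H.normalCore = ⊥ := by
  haveI : Nontrivial (Fin n) := Fin.nontrivial_iff_two_le.mpr (by omega)
  haveI : IsSimpleGroup (alternatingGroup (Fin n)) := alternatingGroup.isSimpleGroup (by simpa using hn)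
  set N := H.normalCore with hN
  haveI : N.Normal := Subgroup.normalCore_normal H
  rcases IsSimpleGroup.eq_bot_or_eq_top_of_normal (N.subgroupOf (alternatingGroup (Fin n))) inferInstance with h | h
  · have hdisj : N ⊓ alternatingGroup (Fin n) = ⊥ := by
      rw [Subgroup.subgroupOf_eq_bot, disjoint_iff] at h; exact h
    by_contra hne
    obtain ⟨x, hxN, hx1⟩ := N.ne_bot_iff_exists_ne_one.mp hne |>.elim
      fun x hx => (⟨x.1, x.2, fun h => hx (Subtype.ext h)⟩ : ∃ x ∈ N, x ≠ 1)
    have hsgn : ∀ y ∈ N, y ≠ 1 → Perm.sign y = -1 := fun y hy hy1 => by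
      rcases Int.units_eq_one_or (Perm.sign y) with h | h
      · exact absurd ((Subgroup.eq_bot_iff_forall _).mp hdisj y ⟨hy, Perm.mem_alternatingGroup.mpr h⟩) hy1
      · exact h
    have hcomm : ∀ g : Perm (Fin n), g * x = x * g := fun g => by
      have h1 : g * x * g⁻¹ ∈ N := Subgroup.Normal.conj_mem inferInstance x hxN g
      have h2 : g * x * g⁻¹ * x⁻¹ ∈ N ⊓ alternatingGroup (Fin n) :=
        ⟨N.mul_mem h1 (N.inv_mem hxN), Perm.mem_alternatingGroup.mpr (by simp [mul_comm, mul_left_comm])⟩
      rw [hdisj, Subgroup.mem_bot, mul_inv_eq_one, mul_inv_eq_iff_eq_mul] at h2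
      exact h2
    apply hx1
    refine Equiv.ext fun i => ?_
    by_contra hi
    obtain ⟨k, hki, hkj⟩ := Fin.exists_ne_and_ne_of_two_lt i (x i) (by omega)
    have he := congrArg (fun g => g i) (hcomm (Equiv.swap (x i) k))
    simp only [Perm.mul_apply, Equiv.swap_apply_left] at he
    rw [Equiv.swap_apply_of_ne_of_ne (fun h => hi (by simpa using h.symm)) (Ne.symm hki)] at he
    exact hkj he
  · rw [Subgroup.subgroupOf_eq_top] at h
    have h2 : alternatingGroup (Fin n) ≤ H := h.trans (Subgroup.normalCore_le H)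
    have hdvd := Subgroup.index_dvd_of_le h2
    rw [alternatingGroup.index_eq_two] at hdvd
    rcases (Nat.dvd_prime Nat.prime_two).mp hdvd with h3 | h3
    · exact absurd (Subgroup.index_eq_one.mp h3) hH
    · exact absurd (Equiv.Perm.eq_alternatingGroup_of_index_eq_two h3) hA

/-- `|S_n|` divides `k!` for the index `k` of such a subgroup. -/
theorem factorial_dvd {n : ℕ} (hn : 5 ≤ n) {H : Subgroup (Perm (Fin n))} (hH : H ≠ ⊤)
    (hA : H ≠ alternatingGroup (Fin n)) : n.factorial ∣ H.index.factorial := by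
  have h := normalCore_eq_bot hn hH hA
  have hinj : Function.Injective (MulAction.toPermHom (Perm (Fin n)) (Perm (Fin n) ⧸ H)) := by
    rw [← MonoidHom.ker_eq_bot_iff, ← Subgroup.normalCore_eq_ker, h]
  have := Subgroup.card_dvd_of_injective _ hinj
  rw [Nat.card_perm, Nat.card_perm, Nat.card_fin] at this
  exact this

/-- For n ≠ 4, every proper subgroup of the symmetric group S_n other than the alternating group A_n has index at least n. -/
theorem result (n : ℕ) (hn : n ≠ 4) (H : Subgroup (Equiv.Perm (Fin n))) (hH : H ≠ ⊤) (hA : H ≠ alternatingGroup (Fin n)) : n ≤ H.index := by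
  rcases le_or_gt n 3 with h3 | h3
  · have h1 : H.index ≠ 1 := fun h => hH (Subgroup.index_eq_one.mp h)
    have h0 : H.index ≠ 0 := Subgroup.index_ne_zero_of_finite
    have h2 : n ≠ 3 ∨ H.index ≠ 2 := Or.inr fun h => hA (Equiv.Perm.eq_alternatingGroup_of_index_eq_two h)
    omega
  · by_contra hlt
    have hd := factorial_dvd (show 5 ≤ n by omega) hH hA
    have := Nat.le_of_dvd (Nat.factorial_pos _) hd
    exact absurd this (not_le.mpr ((Nat.factorial_lt (Nat.pos_of_ne_zero Subgroup.index_ne_zero_of_finite)).mpr (not_le.mp hlt)))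

end Cfsg.Agent.S5944
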