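import Cfsg.Statements.S2984
import Cfsg.Agent.LocalEven50.Blocks

set_option autoImplicit false
open Cfsg

namespace Cfsg.Agent.S2984

open CfsgLib CfsgLib.LocalEven50 Subgroup
open scoped commutatorElement


/-- Let G be a finite group of characteristic p (C_G(O_p(G)) ≤ O_p(G)), T a Sylow p-subgroup and E a B(T)-block of G, with W_E = [Ω₁(Z(O_p(E))), E]. Then E = O^p(E·O_p(G)), W_E ≤ Ω₁(Z(O_p(G))), and [W_E, J(T)] ≠ 1, where J(T) is generated by the elementary abelian p-subgroups of T of largest order. -/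
theorem result {G : Type*} [Group G] [Finite G] {p : ℕ} [Fact p.Prime] (hG : Subgroup.centralizer (Cfsg.pCore p G : Set G) ≤ Cfsg.pCore p G) (T : Sylow p G) (E : Subgroup G) (hE : Cfsg.IsBaumannBlock p (T : Subgroup G) E) : Cfsg.pResidualOf p (E ⊔ Cfsg.pCore p G) = E ∧ ⁅Cfsg.omegaOneCenter p (Cfsg.pCoreOf p E), E⁆ ≤ Cfsg.omegaOneCenter p (Cfsg.pCore p G) ∧ ⁅⁅Cfsg.omegaOneCenter p (Cfsg.pCoreOf p E), E⁆, Cfsg.thompsonSubgroupOf p (T : Subgroup G)⁆ ≠ ⊥ := by
  haveI := LocalStructure.pCore_normal (p := p) (G := G)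
  obtain ⟨hRn, hUW, hUne, hW⟩ := block_module hG T hE
  set V := Cfsg.omegaOneCenter p (Cfsg.pCore p G) with hVdef
  set W := Cfsg.omegaOneCenter p (Cfsg.pCoreOf p E)
  set U := ⁅V, E⁆
  have hEV : E ≤ normalizer (V : Set G) := by
    refine le_trans ?_ (normalizer_le_normalizer_omegaOneCenter _)
    rw [normalizer_eq_top]; exact le_top
  have hEU : E ≤ normalizer (U : Set G) :=
    le_sup_right.trans (Coprime.sup_le_normalizer_commutator V E)
  have hWE : ⁅W, E⁆ = ⁅U, E⁆ := by
    refine le_antisymm ?_ (commutator_mono hUW le_rfl)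
    refine commutator_le.mpr fun x hx e he => ?_
    rw [hW] at hx
    have hUZ : U ≤ normalizer ((W ⊓ centralizer (E : Set G) : Subgroup G) : Set G) :=
      (hUW.trans (le_centralizer_iff_isMulCommutative.mpr
        (isElementaryAbelian_omegaOneCenter _).1)).trans
        ((centralizer_le (show ((W ⊓ centralizer (E : Set G) : Subgroup G) : Set G) ⊆ W from
          inf_le_left (a := W))).trans (centralizer_le_normalizer _))
    obtain ⟨u, hu, z, hz, rfl⟩ := (coe_mul_of_left_le_normalizer_right _ _ hUZ).le hx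
    have hze : e * z = z * e := mem_centralizer_iff.mp hz.2 e he
    have e1 : ⁅u * z, e⁆ = ⁅u, e⁆ := by
      rw [commutatorElement_def, commutatorElement_def, mul_assoc u z e, ← hze]; group
    simp only at *
    rw [e1]
    exact commutator_mem_commutator hu he
  have hWV : ⁅W, E⁆ ≤ V :=
    hWE.le.trans ((Coprime.commutator_le_of_le_normalizer hEU).trans
      (Coprime.commutator_le_of_le_normalizer hEV))
  refine ⟨?_, hWV, ?_⟩
  · refine le_antisymm ?_ ?_
    · rw [show Cfsg.pResidualOf p (E ⊔ Cfsg.pCore p G) =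
        LocalStructure.pResOf p (E ⊔ Cfsg.pCore p G) from LocalStructure.map_pResidual _]
      refine LocalStructure.pResOf_le_of_forall fun g hg hc => ?_
      obtain ⟨r, hr, e, he, rfl⟩ :=
        (coe_mul_of_left_le_normalizer_right _ _ hRn).le (sup_comm E (Cfsg.pCore p G) ▸ hg)
      simp only at *
      obtain ⟨k, hk⟩ := LocalStructure.pCore_isPGroup (p := p) (G := G) ⟨r, hr⟩
      have hpow : ∀ n : ℕ, ∃ e' ∈ E, (r * e) ^ n = r ^ n * e' := by
        intro n
        induction n with
        | zero => exact ⟨1, E.one_mem, by simp⟩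
        | succ n ih =>
          obtain ⟨e', he', h'⟩ := ih
          refine ⟨r⁻¹ * e' * r * e, E.mul_mem ?_ he, ?_⟩
          · simpa using (mem_normalizer_iff.mp (inv_mem (hRn hr)) e').mp he'
          · rw [pow_succ (r * e), h', pow_succ r]; group
      obtain ⟨e', he', h'⟩ := hpow (p ^ k)
      have hk' : r ^ p ^ k = 1 := congrArg Subtype.val hk
      rw [hk', one_mul] at h'
      exact LocalStructure.mem_of_coprime_of_pow_mem (k := k) hc (h' ▸ he')
    · conv_lhs => rw [← hE.1]
      rw [show Cfsg.pResidualOf p E = LocalStructure.pResOf p E from LocalStructure.map_pResidual _,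
        show Cfsg.pResidualOf p (E ⊔ Cfsg.pCore p G) =
        LocalStructure.pResOf p (E ⊔ Cfsg.pCore p G) from LocalStructure.map_pResidual _]
      exact LocalStructure.pResOf_mono le_sup_left
  · intro hJ
    have hWT : ⁅W, E⁆ ≤ T :=
      hWV.trans ((omegaOneCenter_le (Cfsg.pCore p G)).trans (PLocal.pCore_le_sylow T))
    have hWel : Cfsg.IsElementaryAbelian p (⁅W, E⁆ : Subgroup G) :=
      PLocal.isElementaryAbelian_of_le (isElementaryAbelian_omegaOneCenter (Cfsg.pCore p G)) hWV
    have hWJC : ⁅W, E⁆ ≤ centralizer (Cfsg.thompsonSubgroupOf p (T : Subgroup G) : Set G) :=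
      (commutator_eq_bot_iff_le_centralizer.mp hJ)
    obtain ⟨A, hA⟩ := PLocal.maxEAIn_nonempty p (T : Subgroup G)
    have hAW : ⁅W, E⁆ ≤ A := by
      have hel : Cfsg.IsElementaryAbelian p (A ⊔ ⁅W, E⁆) :=
        PLocal.isElementaryAbelian_sup hA.2.1 hWel
          (le_centralizer_iff.mp (hWJC.trans (centralizer_le (PLocal.le_thompsonSubgroupOf hA))))
      have := eq_of_le_of_card_ge le_sup_left (hA.2.2 _ (sup_le hA.1 hWT) hel)
      exact le_sup_right.trans this.ge
    have hWO : ⁅W, E⁆ ≤ Cfsg.omegaOne p (Cfsg.centerThompsonOf p (T : Subgroup G)) :=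
      fun x hx => PLocal.mem_omegaOne
        ⟨PLocal.le_thompsonSubgroupOf hA (hAW hx), hWJC hx⟩ (hWel.2 x hx)
    have hBC : Cfsg.baumannSubgroupOf p (T : Subgroup G) ≤
        centralizer ((⁅W, E⁆ : Subgroup G) : Set G) :=
      inf_le_right.trans (centralizer_le hWO)
    have hEC : ⁅⁅E, Cfsg.baumannSubgroupOf p (T : Subgroup G)⁆, ⁅W, E⁆⁆ = ⊥ := by
      have hEn : E ≤ normalizer ((⁅W, E⁆ : Subgroup G) : Set G) :=
        le_sup_right.trans (Coprime.sup_le_normalizer_commutator W E)
      refine commutator_commutator_eq_bot_of_rotate ?_ ?_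
      · rw [commutator_eq_bot_iff_le_centralizer.mpr hBC, commutator_bot_left]
      · refine le_bot_iff.mp ((commutator_mono (Coprime.commutator_le_of_le_normalizer hEn)
          le_rfl).trans ?_)
        rw [le_bot_iff, commutator_comm, commutator_eq_bot_iff_le_centralizer]
        exact hBC
    rw [hE.2.1, hWE, commutator_comm] at hEC
    have h1 : ⁅U, E⁆ = ⊥ := commutator_eq_bot_of_twice
      (PLocal.isPGroup_of_isElementaryAbelian (PLocal.isElementaryAbelian_of_le
        (isElementaryAbelian_omegaOneCenter (Cfsg.pCoreOf p E)) hUW)) (pResOf_block hE) hEU hEC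
    exact hUne h1

end Cfsg.Agent.S2984
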