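import Cfsg.Statements.S0542
import Mathlib.GroupTheory.IsSubnormal
import Mathlib.GroupTheory.Sylow

set_option autoImplicit false
open Cfsg

namespace Cfsg.Agent.S0542

open Pointwise in
private theorem sylow_inf {G : Type*} [Group G] [Finite G] (p : ℕ) [Fact p.Prime] {H : Subgroup G}
    (hH : H.IsSubnormal) (S : Sylow p G) :
    Nat.card ↥((S : Subgroup G) ⊓ H) = p ^ (Nat.card H).factorization p := by
  induction hH with
  | top => rw [inf_top_eq, Subgroup.card_top]; exact S.card_eq_multiplicity
  | step H K hle hK hN ih =>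
    -- a Sylow subgroup of `H` lies in a conjugate of `S ⊓ K` by an element of `K`
    have hKn := (Subgroup.normal_subgroupOf_iff_le_normalizer hle).mp hN
    have hc : Nat.card (((S : Subgroup G) ⊓ K).subgroupOf K) = p ^ (Nat.card K).factorization p := by
      rw [← ih]; exact Nat.card_congr (Subgroup.subgroupOfEquivOfLe inf_le_right).toEquiv
    let R : Sylow p H := default
    obtain ⟨Q, hQ⟩ := (R.isPGroup'.map (Subgroup.inclusion hle)).exists_le_sylow
    obtain ⟨k, hk⟩ := MulAction.exists_smul_eq K (Sylow.ofCard _ hc) Q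
    have h1 : (R : Subgroup H).map H.subtype ≤ MulAut.conj (k : G) • ((S : Subgroup G) ⊓ H) := by
      rintro _ ⟨r, hr, rfl⟩
      have h3 := hQ ⟨r, hr, rfl⟩
      rw [← hk, Sylow.coe_subgroup_smul, Sylow.coe_ofCard,
        Subgroup.mem_pointwise_smul_iff_inv_smul_mem, Subgroup.mem_subgroupOf] at h3
      rw [Subgroup.mem_pointwise_smul_iff_inv_smul_mem]
      refine Subgroup.mem_inf.mpr ⟨?_, ?_⟩
      · simpa [MulAut.smul_def] using (Subgroup.mem_inf.mp h3).1
      · have h4 := (Subgroup.mem_normalizer_iff.mp (K.inv_mem k.2 |> fun h => hKn h) _).mp r.2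
        simpa [MulAut.smul_def] using h4
    have h2 := Subgroup.card_le_of_le h1
    rw [Subgroup.card_map_of_injective H.subtype_injective, R.card_eq_multiplicity,
      ← Nat.card_congr (Subgroup.equivSMul _ _).toEquiv] at h2
    obtain ⟨j, hj⟩ := (S.isPGroup'.to_le (inf_le_left : (S : Subgroup G) ⊓ H ≤ S)).exists_card_eq
    have hdvd : p ^ j ∣ Nat.card H := hj ▸ Subgroup.card_dvd_of_le inf_le_right
    rw [hj] at h2 ⊢
    have := ((Fact.out : p.Prime).pow_dvd_iff_le_factorization Nat.card_pos.ne').mp hdvd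
    exact le_antisymm (Nat.pow_le_pow_right (Fact.out : p.Prime).pos this) h2

/-- A Sylow p-subgroup of a finite group meets every subnormal subgroup H in a Sylow p-subgroup of H. -/
theorem result {G : Type*} [Group G] [Finite G] (p : ℕ) [Fact p.Prime] (H : Subgroup G) (hH : H.IsSubnormal) (S : Sylow p G) : ∃ Q : Sylow p H, (Q : Subgroup H) = (S : Subgroup G).subgroupOf H := by
  have hc : Nat.card ((S : Subgroup G).subgroupOf H) = p ^ (Nat.card H).factorization p := by
    rw [← sylow_inf p hH S, ← Subgroup.inf_subgroupOf_right,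
      Nat.card_congr (Subgroup.subgroupOfEquivOfLe inf_le_right).toEquiv]
  exact ⟨Sylow.ofCard _ hc, Sylow.coe_ofCard _ hc⟩

end Cfsg.Agent.S0542
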