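import Cfsg.Statements.S4250
import Cfsg.Agent.Transfer.Frobenius

set_option autoImplicit false
open Cfsg

set_option linter.style.haveILetI false

namespace Cfsg.Agent.S4250

open Subgroup CfsgLib.Transfer
open scoped commutatorElement

universe u

variable {G : Type u} [Group G] {p : ℕ}

/-- The subgroup generated by the commutators in the statement. -/
def tameFocal (P : Sylow p G) : Subgroup G :=
  ⁅(P : Subgroup G), normalizer ((P : Subgroup G) : Set G)⁆ ⊔
    ⨆ (Q : Sylow p G) (_ : IsTameInf P Q) (x : G)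
      (_ : x ∈ normalizer ((((P : Subgroup G) ⊓ (Q : Subgroup G)) : Subgroup G) : Set G) ∧
        ∃ k : ℕ, orderOf x = p ^ k),
      ⁅(P : Subgroup G) ⊓ (Q : Subgroup G), zpowers x⁆

theorem conj_inv_mul_eq (a x : G) : a⁻¹ * (x⁻¹ * a * x) = ⁅a⁻¹, x⁻¹⁆ := by
  simp [commutatorElement_def, mul_assoc]

/-- Elements of a `p`-generated part of the normalizer of a tame intersection. -/
theorem mem_tameFocal_of_closure [Finite G] [Fact p.Prime] (P Q : Sylow p G) (ht : IsTameInf P Q)
    {k : normalizer ((((P : Subgroup G) ⊓ (Q : Subgroup G)) : Subgroup G) : Set G)}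
    (hk : k ∈ closure {y : normalizer ((((P : Subgroup G) ⊓ (Q : Subgroup G)) : Subgroup G) :
      Set G) | ∃ e : ℕ, orderOf y = p ^ e}) :
    ∀ a ∈ (P : Subgroup G) ⊓ (Q : Subgroup G), a⁻¹ * ((k : G)⁻¹ * a * k) ∈ tameFocal P := by
  induction hk using closure_induction with
  | mem y hy =>
    intro a ha
    obtain ⟨e, he⟩ := hy
    rw [conj_inv_mul_eq]
    refine le_sup_right (α := Subgroup G) ?_
    have hxy : (y : G) ∈ normalizer ((((P : Subgroup G) ⊓ (Q : Subgroup G)) : Subgroup G) : Set G) ∧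
        ∃ k : ℕ, orderOf (y : G) = p ^ k := ⟨y.2, e, by rw [orderOf_coe, he]⟩
    exact mem_iSup_of_mem Q (mem_iSup_of_mem ht (mem_iSup_of_mem (y : G) (mem_iSup_of_mem hxy
      (commutator_mem_commutator (inv_mem ha) (inv_mem (mem_zpowers _))))))
  | one => intro a _; simp
  | mul y z _ _ hy hz =>
    intro a ha
    have hd := (mem_normalizer_iff''.1 y.2 a).1 ha
    have := mul_mem (hy a ha) (hz _ hd)
    simpa [mul_assoc] using this
  | inv y _ hy =>
    intro a ha
    have hd := (mem_normalizer_iff''.1 (inv_mem y.2) a).1 ha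
    have := inv_mem (hy _ hd)
    simpa [mul_assoc] using this

/-- A chain all whose intersections are good moves each point inside the coset of `tameFocal`. -/
theorem mem_tameFocal_of_chain [Finite G] [Fact p.Prime] (P : Sylow p G) {A : Set G} {g : G}
    (hc : FusionChain P A g)
    (hgood : ∀ Q : Sylow p G, IsTameInf P Q →
      A.ncard ≤ Nat.card ((P : Subgroup G) ⊓ (Q : Subgroup G) : Subgroup G) →
      ∀ x ∈ normalizer ((((P : Subgroup G) ⊓ (Q : Subgroup G)) : Subgroup G) : Set G),
      ∀ a ∈ (P : Subgroup G) ⊓ (Q : Subgroup G), a⁻¹ * (x⁻¹ * a * x) ∈ tameFocal P) :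
    ∀ a ∈ A, a⁻¹ * (g⁻¹ * a * g) ∈ tameFocal P := by
  induction hc with
  | nil A => intro a _; simp
  | cons A Q x g hA ht hx _ ih =>
    intro a ha
    have hinj : Function.Injective (fun a => x⁻¹ * a * x) := fun u v huv => by simpa using huv
    have hn : A.ncard ≤ Nat.card ((P : Subgroup G) ⊓ (Q : Subgroup G) : Subgroup G) :=
      (Set.ncard_le_ncard hA (Set.toFinite _)).trans (Nat.card_coe_set_eq _).symm.le
    have h1 := hgood Q ht hn x hx a (hA ha)
    have h2 := ih (fun R hR hcard => hgood R hR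
      (by rwa [Set.ncard_image_of_injective _ hinj] at hcard)) _ ⟨a, ha, rfl⟩
    have := mul_mem h1 h2
    simpa [mul_assoc] using this

theorem step_mem_tameFocal [Finite G] [Fact p.Prime] (P : Sylow p G) :
    ∀ (m : ℕ) (Q : Sylow p G), IsTameInf P Q →
      Nat.card (P : Subgroup G) ≤
        Nat.card ((P : Subgroup G) ⊓ (Q : Subgroup G) : Subgroup G) + m →
      ∀ x ∈ normalizer ((((P : Subgroup G) ⊓ (Q : Subgroup G)) : Subgroup G) : Set G),
      ∀ a ∈ (P : Subgroup G) ⊓ (Q : Subgroup G), a⁻¹ * (x⁻¹ * a * x) ∈ tameFocal P := by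
  intro m
  induction m using Nat.strong_induction_on with
  | _ m ih =>
  intro Q ht hm x hx a ha
  set D := (P : Subgroup G) ⊓ (Q : Subgroup G) with hD
  rcases eq_or_lt_of_le (inf_le_left : D ≤ (P : Subgroup G)) with heq | hlt
  · rw [conj_inv_mul_eq]
    refine le_sup_left (α := Subgroup G) (commutator_mem_commutator (inv_mem ha.1) (inv_mem ?_))
    rwa [← heq]
  set N := normalizer (D : Set G) with hN
  let S : Sylow p N := Sylow.ofCard _ (card_subgroupOf_eq P ht.1)
  set K : Subgroup N := closure {y : N | ∃ e : ℕ, orderOf y = p ^ e} with hK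
  haveI hKn : K.Normal := by
    constructor
    intro y hy g
    induction hy using closure_induction with
    | mem y hy =>
      obtain ⟨e, he⟩ := hy
      exact subset_closure ⟨e, by
        rw [show g * y * g⁻¹ = MulAut.conj g y from rfl, MulEquiv.orderOf_eq, he]⟩
    | one => simp
    | mul y z _ _ hy hz => simpa [mul_assoc] using mul_mem hy hz
    | inv y _ hy => simpa [mul_assoc] using inv_mem hy
  have hSK : (S : Subgroup N) ≤ K := by
    intro y hy
    obtain ⟨e, he⟩ := IsPGroup.iff_orderOf.1 S.2 ⟨y, hy⟩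
    exact subset_closure ⟨e, by rwa [Subgroup.orderOf_mk] at he⟩
  have htop : normalizer ((S : Subgroup N) : Set N) ⊔ K = ⊤ := Sylow.normalizer_sup_eq_top' S hSK
  have hxm : (⟨x, hx⟩ : N) ∈ K ⊔ normalizer ((S : Subgroup N) : Set N) := by
    rw [sup_comm, htop]; exact mem_top _
  rw [← SetLike.mem_coe, normal_mul] at hxm
  obtain ⟨k, hk, n, hn, hkn⟩ := hxm
  have hxe : x = (k : G) * n := congrArg Subtype.val hkn.symm
  have h1 := mem_tameFocal_of_closure P Q ht hk a ha
  set b := (k : G)⁻¹ * a * k with hb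
  have hbD : b ∈ D := (mem_normalizer_iff''.1 k.2 a).1 ha
  -- the second factor normalises `P ⊓ N`, which is bigger than `D`
  set T := (P : Subgroup G) ⊓ N with hT
  have hnT : ∀ t ∈ T, (n : G)⁻¹ * t * n ∈ T := by
    intro t htT
    have h3 := (mem_normalizer_iff''.1 hn (⟨t, htT.2⟩ : N)).1 htT.1
    exact ⟨h3, (n⁻¹ * ⟨t, htT.2⟩ * n).2⟩
  have hchain := exists_fusionChain P (A := (T : Set G)) (g := (n : G))
    (fun t htT => htT.1) (by rintro _ ⟨t, htT, rfl⟩; exact (hnT t htT).1)
  have hDT : D < T := lt_inf_normalizer P.isPGroup' hlt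
  have hcardT := card_lt_card_of_lt hDT
  have h2 := mem_tameFocal_of_chain P hchain (fun R hR hcard => by
    rw [← Nat.card_coe_set_eq] at hcard
    refine ih (Nat.card (P : Subgroup G) -
      Nat.card ((P : Subgroup G) ⊓ (R : Subgroup G) : Subgroup G)) ?_ R hR (by omega)
    change Nat.card T ≤ _ at hcard
    have := Nat.card_le_card_of_injective _
      (inclusion_injective (inf_le_left : (P : Subgroup G) ⊓ (R : Subgroup G) ≤ P))
    omega) b (hDT.le hbD)
  have := mul_mem h1 h2
  rw [hxe]
  simpa [hb, mul_assoc] using this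


/-- Let P be a Sylow p-subgroup of a finite group G. Call an intersection H = P ∩ Q with a Sylow p-subgroup Q tame when N_P(H) and N_Q(H) are Sylow p-subgroups of N_G(H). Then P ∩ G′ is generated by [P, N_G(P)] together with the commutator subgroups [P ∩ Q, ⟨x⟩] for all tame intersections P ∩ Q and all p-elements x of N_G(P ∩ Q). -/
theorem result {G : Type*} [Group G] [Finite G] (p : ℕ) [Fact p.Prime] (P : Sylow p G) :
    (P : Subgroup G) ⊓ commutator G =
      ⁅(P : Subgroup G), Subgroup.normalizer ((P : Subgroup G) : Set G)⁆ ⊔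
        ⨆ (Q : Sylow p G) (_ : (¬ p ∣ ((P : Subgroup G) ⊓ Subgroup.normalizer (((P : Subgroup G) ⊓ (Q : Subgroup G) : Subgroup G) : Set G)).relIndex (Subgroup.normalizer (((P : Subgroup G) ⊓ (Q : Subgroup G) : Subgroup G) : Set G)) ∧ ¬ p ∣ ((Q : Subgroup G) ⊓ Subgroup.normalizer (((P : Subgroup G) ⊓ (Q : Subgroup G) : Subgroup G) : Set G)).relIndex (Subgroup.normalizer (((P : Subgroup G) ⊓ (Q : Subgroup G) : Subgroup G) : Set G))))
          (x : G) (_ : x ∈ Subgroup.normalizer (((P : Subgroup G) ⊓ (Q : Subgroup G) : Subgroup G) : Set G) ∧ ∃ k : ℕ, orderOf x = p ^ k),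
          ⁅(P : Subgroup G) ⊓ (Q : Subgroup G), Subgroup.zpowers x⁆ := by
  change _ = tameFocal P
  apply le_antisymm
  · rw [inf_comm, commutator_inf_eq_focalSubgroup P, focalSubgroup_def, closure_le]
    rintro _ ⟨hgP, x, hx, u, rfl⟩
    have hu : u * x⁻¹ * u⁻¹ ∈ (P : Subgroup G) := by
      have := (P : Subgroup G).mul_mem ((P : Subgroup G).inv_mem hx) hgP
      simpa [commutatorElement_def, mul_assoc] using this
    have hc := exists_fusionChain P (A := {x⁻¹}) (g := u⁻¹)
      (Set.singleton_subset_iff.2 (inv_mem hx))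
      (by rw [Set.image_singleton, inv_inv]; exact Set.singleton_subset_iff.2 hu)
    have := mem_tameFocal_of_chain P hc
      (fun Q hQ _ => step_mem_tameFocal P _ Q hQ le_add_self) x⁻¹ rfl
    simpa [commutatorElement_def, mul_assoc] using this
  · refine sup_le (le_inf ?_ (commutator_mono le_top le_top)) (iSup₂_le fun Q _ => iSup₂_le
      fun x hx => le_inf ?_ (commutator_mono le_top le_top))
    · rw [commutator_le]
      intro a ha b hb
      rw [commutatorElement_def, mul_assoc, mul_assoc, ← mul_assoc b]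
      exact mul_mem ha ((mem_normalizer_iff.1 hb a⁻¹).1 (inv_mem ha))
    · rw [commutator_le]
      intro a ha b hb
      have hb' : b ∈ normalizer ((((P : Subgroup G) ⊓ (Q : Subgroup G)) : Subgroup G) : Set G) :=
        (zpowers_le.2 hx.1) hb
      rw [commutatorElement_def, mul_assoc, mul_assoc, ← mul_assoc b]
      exact ((mul_mem ha ((mem_normalizer_iff.1 hb' a⁻¹).1 (inv_mem ha))) : _ ∈ (P : Subgroup G) ⊓ (Q : Subgroup G)).1

end Cfsg.Agent.S4250
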