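import Cfsg.Statements.S1340
import Cfsg.Agent.Linear.Perfect
import Cfsg.Agent.WordLaws.Embed
import Cfsg.Agent.Components.Basic
import Cfsg.Agent.PLocal.Cores
import Cfsg.Prelude.Def_Local

set_option autoImplicit false
open Cfsg

namespace Cfsg.Agent.S1340

open Matrix CfsgLib

theorem isQuasisimple_SL {F : Type*} [Field F] [Fintype F] [DecidableEq F] (m : ℕ) (hm : 2 ≤ m)
    (h : m = 2 → 4 ≤ Fintype.card F) :
    Cfsg.IsQuasisimple (SpecialLinearGroup (Fin m) F) := by
  refine ⟨⟨?_⟩, Linear.isSimpleGroup_PSL_of m hm h⟩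
  rcases eq_or_lt_of_le hm with rfl | hm'
  · exact WordLaws.commutator_SL2 (h rfl)
  · exact Linear.commutator_SL_eq_top (by rw [Fintype.card_fin]; omega)

/-- Image of a quasisimple normal subgroup of even order modulo the odd core. -/
theorem hasComponent_of_normal {C : Type*} [Group C] [Finite C] (K : Subgroup C) (hKn : K.Normal)
    (hK : Cfsg.IsQuasisimple K) (h2 : 2 ∣ Nat.card K) :
    Cfsg.HasComponent (C ⧸ Cfsg.oddCore C) := by
  set f := QuotientGroup.mk' (Cfsg.oddCore C)
  haveI := hKn
  refine ⟨K.map f, (hKn.map f (QuotientGroup.mk'_surjective _)).isSubnormal, ?_⟩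
  set φ : K →* K.map f := f.subgroupMap K
  have hsurj : Function.Surjective φ := f.subgroupMap_surjective K
  have hperf := hK.1
  have hkc : φ.ker ≤ Subgroup.center K := by
    refine (Components.IsQuasisimple.normal_eq_top_or_le_center hK φ.ker).resolve_left fun h => ?_
    have hle : K ≤ Cfsg.oddCore C := fun x hx => by
      have := h ▸ Subgroup.mem_top (⟨x, hx⟩ : K)
      rw [MonoidHom.mem_ker] at this
      exact (QuotientGroup.eq_one_iff x).mp (congrArg Subtype.val this)
    have hd := h2.trans (Subgroup.card_dvd_of_le hle)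
    exact absurd (Nat.eq_one_of_dvd_coprimes (PLocal.coprime_card_pPrimeCore 2 C) hd dvd_rfl) (by norm_num)
  haveI : Nontrivial (K.map f) := by
    by_contra hn
    rw [not_nontrivial_iff_subsingleton] at hn
    refine Components.IsQuasisimple.center_ne_top hK (top_unique fun x _ => hkc ?_)
    rw [MonoidHom.mem_ker]
    exact Subsingleton.elim _ _
  refine Components.isQuasisimple_of_normal_le_center ?_ fun N hN hNt => ?_
  · rw [← Subgroup.map_top_of_surjective φ hsurj, ← Subgroup.map_commutator,
      Components.IsQuasisimple.perfect hK]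
  · haveI := hN
    rw [← Subgroup.map_comap_eq_self_of_surjective hsurj N]
    rcases Components.IsQuasisimple.normal_eq_top_or_le_center hK (N.comap φ) with h | h
    · exact absurd (top_unique (by
        rw [← Subgroup.map_comap_eq_self_of_surjective hsurj N, h,
          Subgroup.map_top_of_surjective φ hsurj])) hNt
    · rintro _ ⟨x, hx, rfl⟩
      rw [Subgroup.mem_center_iff]
      intro y
      obtain ⟨y, rfl⟩ := hsurj y
      rw [← map_mul, ← map_mul, Subgroup.mem_center_iff.mp (h hx) y]

variable {F : Type*} [Field F] [Fintype F] [DecidableEq F] {m n : ℕ}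

/-- `SL_m` as the lower block. -/
def emb : SpecialLinearGroup (Fin m) F →* GL (Fin 1 ⊕ Fin m) F :=
  MonoidHom.toHomUnits
    { toFun := fun s => fromBlocks 1 0 0 (s : Matrix (Fin m) (Fin m) F)
      map_one' := by simp [fromBlocks_one]
      map_mul' := fun a b => by simp [fromBlocks_multiply] }

theorem emb_val (s : SpecialLinearGroup (Fin m) F) :
    (emb s : Matrix (Fin 1 ⊕ Fin m) (Fin 1 ⊕ Fin m) F) = fromBlocks 1 0 0 s.1 := rfl

theorem emb_injective : Function.Injective (emb (F := F) (m := m)) := fun a b h => by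
  have h' := congrArg Units.val h
  simp only [emb_val, fromBlocks_inj] at h'
  exact Subtype.ext h'.2.2.2

/-- The reflection. -/
def refl0 : GL (Fin 1 ⊕ Fin m) F where
  val := fromBlocks (-1) 0 0 1
  inv := fromBlocks (-1) 0 0 1
  val_inv := by simp [fromBlocks_multiply, fromBlocks_one]
  inv_val := by simp [fromBlocks_multiply, fromBlocks_one]

theorem emb_mem_centralizer (s : SpecialLinearGroup (Fin m) F) :
    emb s ∈ Subgroup.centralizer ({refl0} : Set (GL (Fin 1 ⊕ Fin m) F)) := by
  rw [Subgroup.mem_centralizer_singleton_iff]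
  refine Units.ext ?_
  simp [emb_val, refl0, fromBlocks_multiply]

theorem emb_conj (h2 : (2 : F) ≠ 0) {g : GL (Fin 1 ⊕ Fin m) F}
    (hg : g ∈ Subgroup.centralizer ({refl0} : Set (GL (Fin 1 ⊕ Fin m) F)))
    (s : SpecialLinearGroup (Fin m) F) : g * emb s * g⁻¹ ∈ (emb (F := F) (m := m)).range := by
  set M : Matrix (Fin 1 ⊕ Fin m) (Fin 1 ⊕ Fin m) F := g.val with hM
  have hc : M * fromBlocks (-1) 0 0 1 = fromBlocks (-1) 0 0 1 * M :=
    congrArg Units.val (Subgroup.mem_centralizer_singleton_iff.mp hg)
  rw [← fromBlocks_toBlocks M] at hc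
  simp only [fromBlocks_multiply, fromBlocks_inj, Matrix.mul_zero, Matrix.zero_mul, add_zero,
    zero_add, Matrix.mul_one, Matrix.one_mul, Matrix.mul_neg, Matrix.neg_mul] at hc
  obtain ⟨-, hb, hcc, -⟩ := hc
  have h12 : M.toBlocks₁₂ = 0 := by
    ext i j
    have := congrArg (fun X => X i j) hb
    rw [Matrix.neg_apply] at this
    have h' : (2 : F) * M.toBlocks₁₂ i j = 0 := by linear_combination this
    exact (mul_eq_zero.mp h').resolve_left h2
  have h21 : M.toBlocks₂₁ = 0 := by
    ext i j
    have := congrArg (fun X => X i j) hcc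
    rw [Matrix.neg_apply] at this
    have h' : (2 : F) * M.toBlocks₂₁ i j = 0 := by linear_combination -this
    exact (mul_eq_zero.mp h').resolve_left h2
  have hMb : M = fromBlocks M.toBlocks₁₁ 0 0 M.toBlocks₂₂ := by
    conv_lhs => rw [← fromBlocks_toBlocks M, h12, h21]
  set d := M.toBlocks₂₂
  have hdet : IsUnit M.det := (Matrix.isUnit_iff_isUnit_det M).mp g.isUnit
  rw [hMb, det_fromBlocks_zero₂₁] at hdet
  have hd : IsUnit d.det := isUnit_of_mul_isUnit_right hdet
  let s' : SpecialLinearGroup (Fin m) F :=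
    ⟨d * s.1 * d⁻¹, by rw [det_mul, det_mul, mul_comm d.det, mul_assoc, ← det_mul,
      mul_nonsing_inv d hd, det_one, mul_one, s.2]⟩
  refine ⟨s', ?_⟩
  rw [eq_mul_inv_iff_mul_eq]
  refine Units.ext ?_
  rw [Units.val_mul, Units.val_mul, emb_val, emb_val, ← hM, show s'.1 = d * s.1 * d⁻¹ from rfl]
  rw [hMb, fromBlocks_multiply, fromBlocks_multiply]
  simp [nonsing_inv_mul d hd, mul_assoc]

/-- Reindexing. -/
noncomputable def reind (e : Fin 1 ⊕ Fin m ≃ Fin n) : GL (Fin 1 ⊕ Fin m) F ≃* GL (Fin n) F :=
  Units.mapEquiv (Matrix.reindexAlgEquiv F F e).toMulEquiv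

/-- Let F be a finite field of odd order and n ≥ 3 with (n, |F|) ≠ (3, 3). Then GL(n, F) has a non-central involution t such that C(t) / O(C(t)) has a component. -/
theorem result {F : Type*} [Field F] [Fintype F] [DecidableEq F] (hF : Odd (Fintype.card F)) (n : ℕ) (hn : 3 ≤ n) (h33 : ¬ (n = 3 ∧ Fintype.card F = 3)) : ∃ t : Matrix.GeneralLinearGroup (Fin n) F, orderOf t = 2 ∧ t ∉ Subgroup.center (Matrix.GeneralLinearGroup (Fin n) F) ∧ Cfsg.HasComponent (↥(Subgroup.centralizer ({t} : Set (Matrix.GeneralLinearGroup (Fin n) F))) ⧸ Cfsg.oddCore ↥(Subgroup.centralizer ({t} : Set (Matrix.GeneralLinearGroup (Fin n) F)))) := by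
  obtain ⟨m, rfl⟩ : ∃ m, n = 1 + m := ⟨n - 1, by omega⟩
  have hq : m = 2 → 4 ≤ Fintype.card F := fun hm => by
    have h1 : 1 < Fintype.card F := Fintype.one_lt_card
    have h2 : Fintype.card F ≠ 3 := fun h => h33 ⟨by omega, h⟩
    obtain ⟨k, hk⟩ := hF
    omega
  have h2 : (2 : F) ≠ 0 := by
    intro h
    haveI : CharP F 2 := CharTwo.of_one_ne_zero_of_two_eq_zero one_ne_zero h
    obtain ⟨k, -, hk⟩ := FiniteField.card F 2
    rw [hk] at hF
    exact absurd hF (Nat.not_odd_iff_even.mpr (Nat.even_pow.mpr ⟨even_two, k.pos.ne'⟩))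
  let E := reind (F := F) (finSumFinEquiv : Fin 1 ⊕ Fin m ≃ Fin (1 + m))
  set t := E refl0 with ht
  have hto : orderOf t = 2 := by
    rw [ht, MulEquiv.orderOf_eq]
    refine orderOf_eq_prime (Units.ext (by simp [refl0, pow_two, fromBlocks_multiply, fromBlocks_one]))
      fun h => ?_
    have := congrArg (fun g : GL (Fin 1 ⊕ Fin m) F => g.val (Sum.inl 0) (Sum.inl 0)) h
    simp [refl0] at this
    exact h2 (by linear_combination -this)
  refine ⟨t, hto, fun hc => ?_, ?_⟩
  · have hcent : ∀ g, g * refl0 = refl0 * g := fun g => E.injective (by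
      rw [map_mul, map_mul, ← ht]; exact Subgroup.mem_center_iff.mp hc (E g))
    let u : GL (Fin 1 ⊕ Fin m) F :=
      { val := fromBlocks 1 (Matrix.of fun _ _ => 1) 0 1
        inv := fromBlocks 1 (-Matrix.of fun _ _ => 1) 0 1
        val_inv := by simp [fromBlocks_multiply, fromBlocks_one]
        inv_val := by simp [fromBlocks_multiply, fromBlocks_one] }
    have := congrArg (fun g : GL (Fin 1 ⊕ Fin m) F => g.val (Sum.inl 0) (Sum.inr ⟨0, by omega⟩))
      (hcent u)
    simp [u, refl0, fromBlocks_multiply] at this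
    exact h2 (by linear_combination this)
  set C := Subgroup.centralizer ({t} : Set (GL (Fin (1 + m)) F))
  let f : Matrix.SpecialLinearGroup (Fin m) F →* C :=
    (E.toMonoidHom.comp emb).codRestrict C fun s => by
      rw [Subgroup.mem_centralizer_singleton_iff]
      exact (map_mul E _ _).symm.trans ((congrArg E
        (Subgroup.mem_centralizer_singleton_iff.mp (emb_mem_centralizer s))).trans (map_mul E _ _))
  have hinj : Function.Injective f := fun a b h =>
    emb_injective (E.injective (congrArg Subtype.val h))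
  have hn : f.range.Normal := by
    refine ⟨?_⟩
    rintro _ ⟨s, rfl⟩ g
    obtain ⟨g₀, hg₀⟩ := E.surjective (g : GL (Fin (1 + m)) F)
    have hg : g₀ ∈ Subgroup.centralizer ({refl0} : Set (GL (Fin 1 ⊕ Fin m) F)) := by
      rw [Subgroup.mem_centralizer_singleton_iff]
      apply E.injective
      rw [map_mul, map_mul, hg₀]
      exact Subgroup.mem_centralizer_singleton_iff.mp g.2
    obtain ⟨s', hs'⟩ := emb_conj h2 hg s
    refine ⟨s', Subtype.ext ?_⟩
    show E (emb s') = (g : GL (Fin (1 + m)) F) * E (emb s) * (g : GL (Fin (1 + m)) F)⁻¹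
    rw [hs', map_mul, map_mul, map_inv, hg₀]
  have hq' := isQuasisimple_SL (F := F) m (by omega) hq
  refine hasComponent_of_normal f.range hn
    (Components.isQuasisimple_congr (MonoidHom.ofInjective hinj) hq') ?_
  rw [← Nat.card_congr (MonoidHom.ofInjective hinj).toEquiv]
  -- an element of order two in `SL_m`
  let i : Fin m := ⟨0, by omega⟩
  let j : Fin m := ⟨1, by omega⟩
  have hij : i ≠ j := by simp [i, j]
  let d : Matrix.SpecialLinearGroup (Fin m) F :=
    ⟨Matrix.diagonal (fun k => if k = i ∨ k = j then -1 else 1), by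
      rw [Matrix.det_diagonal, Finset.prod_ite, Finset.prod_const, Finset.prod_const_one, mul_one]
      rw [show (Finset.univ.filter fun k => k = i ∨ k = j) = {i, j} by ext; simp,
        Finset.card_pair hij]
      norm_num⟩
  have hd : orderOf d = 2 := by
    refine orderOf_eq_prime (Subtype.ext ?_) fun h => ?_
    · rw [pow_two]
      show Matrix.diagonal _ * Matrix.diagonal _ = 1
      rw [Matrix.diagonal_mul_diagonal, ← Matrix.diagonal_one]
      congr 1
      funext k
      split_ifs <;> simp
    · have := congrArg (fun g : Matrix.SpecialLinearGroup (Fin m) F => g.1 i i) h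
      simp [d] at this
      exact h2 (by linear_combination -this)
  exact hd ▸ orderOf_dvd_natCard d

end Cfsg.Agent.S1340
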