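import Cfsg.Statements.S2427
-- import your own Cfsg.Agent.* helpers here

set_option autoImplicit false
open Cfsg

namespace Cfsg.Agent.S2427

local notation "G" => Matrix.SpecialLinearGroup (Fin 2) (ZMod 3)

lemma center_iff : ∀ g : G, (∀ h : G, h * g = g * h) ↔ (g = 1 ∨ g = -1) := by decide +kernel

lemma comm_pow_four : ∀ a b : G, (a * b * a⁻¹ * b⁻¹) ^ 4 = 1 := by decide +kernel

lemma mul_pow_four : ∀ a b : G, a ^ 4 = 1 → b ^ 4 = 1 → (a * b) ^ 4 = 1 := by decide +kernel

lemma exists_comm : ∀ q : G, q ^ 4 = 1 → ∃ a b : G, q = a * b * a⁻¹ * b⁻¹ := by decide +kernel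

/-- The elements of order dividing 4 form a subgroup. -/
def quat : Subgroup G where
  carrier := {g | g ^ 4 = 1}
  one_mem' := one_pow 4
  mul_mem' := fun {a b} ha hb => mul_pow_four a b ha hb
  inv_mem' := fun {a} ha => by
    change a⁻¹ ^ 4 = 1
    rw [inv_pow, show a ^ 4 = 1 from ha, inv_one]

lemma commutator_eq : commutator G = quat := by
  refine le_antisymm ?_ ?_
  · rw [commutator_def]
    exact Subgroup.commutator_le.2 fun a _ b _ => by
      rw [commutatorElement_def]; exact comm_pow_four a b
  · intro q hq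
    obtain ⟨a, b, rfl⟩ := exists_comm q hq
    rw [← commutatorElement_def]
    exact Subgroup.commutator_mem_commutator (Subgroup.mem_top a) (Subgroup.mem_top b)

/-- An element of order 4. -/
def qA : G := ⟨!![0, 1; -1, 0], by decide⟩

/-- A second element of order 4. -/
def qX : G := ⟨!![1, 1; 1, -1], by decide⟩

/-- The standard generators of the quaternion subgroup. -/
def quatFun : QuaternionGroup 2 → G
  | .a i => qA ^ i.val
  | .xa i => qX * qA ^ i.val

lemma quatFun_mul : ∀ a b, quatFun (a * b) = quatFun a * quatFun b := by decide +kernel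

lemma quatFun_injective : Function.Injective quatFun := by unfold Function.Injective; decide +kernel

lemma quatFun_mem : ∀ a, quatFun a ^ 4 = 1 := by decide +kernel

lemma quat_surj : ∀ g : G, g ^ 4 = 1 → ∃ a, quatFun a = g := by decide +kernel

lemma noncentral_class : ∀ g x : G, g ^ 4 = 1 → ¬ (g = 1 ∨ g = -1) → x ^ 4 = 1 → ¬ (x = 1 ∨ x = -1) →
    ∃ h : G, x = h * g * h⁻¹ := by decide +kernel

lemma quat_noncentral : ∃ g : G, g ^ 4 = 1 ∧ ¬ (g = 1 ∨ g = -1) := by decide +kernel

lemma quat_central_from_noncentral : ∀ x : G, (x = 1 ∨ x = -1) → ∀ g : G, g ^ 4 = 1 →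
    ¬ (g = 1 ∨ g = -1) → x = 1 ∨ x = g * g := by decide +kernel

lemma outer_commutator : ∀ g : G, g ^ 4 ≠ 1 → ∃ h : G, (g * h * g⁻¹ * h⁻¹) ^ 4 = 1 ∧
    ¬ (g * h * g⁻¹ * h⁻¹ = 1 ∨ g * h * g⁻¹ * h⁻¹ = -1) := by decide +kernel

lemma outer_cosets : ∀ g : G, g ^ 4 ≠ 1 → ∀ x : G,
    x ^ 4 = 1 ∨ (x * g⁻¹) ^ 4 = 1 ∨ (x * g⁻¹ * g⁻¹) ^ 4 = 1 := by decide +kernel

/-- The group SL₂ over the field with 3 elements has order 24 and centre of order 2; its commutator subgroup has order 8, is isomorphic to the quaternion group of order 8 and is complemented by every Sylow 3-subgroup (so the group is a semidirect product of a quaternion group of order 8 by a cyclic group of order 3); and its only normal subgroups besides the trivial subgroup and the whole group are the centre and the commutator subgroup. -/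
theorem result :
    Nat.card (Matrix.SpecialLinearGroup (Fin 2) (ZMod 3)) = 24 ∧
    Nat.card (Subgroup.center (Matrix.SpecialLinearGroup (Fin 2) (ZMod 3))) = 2 ∧
    Nat.card (commutator (Matrix.SpecialLinearGroup (Fin 2) (ZMod 3))) = 8 ∧
    Nonempty (commutator (Matrix.SpecialLinearGroup (Fin 2) (ZMod 3)) ≃* QuaternionGroup 2) ∧
    (∀ P : Sylow 3 (Matrix.SpecialLinearGroup (Fin 2) (ZMod 3)),
      Subgroup.IsComplement' (commutator (Matrix.SpecialLinearGroup (Fin 2) (ZMod 3)))
        (P : Subgroup (Matrix.SpecialLinearGroup (Fin 2) (ZMod 3)))) ∧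
    ∀ N : Subgroup (Matrix.SpecialLinearGroup (Fin 2) (ZMod 3)), N.Normal →
      N = ⊥ ∨ N = ⊤ ∨ N = Subgroup.center (Matrix.SpecialLinearGroup (Fin 2) (ZMod 3)) ∨
        N = commutator (Matrix.SpecialLinearGroup (Fin 2) (ZMod 3)) := by
  classical
  have hcard : Nat.card G = 24 := by
    rw [Nat.card_eq_fintype_card]
    decide +kernel
  have hZ : ∀ g : G, g ∈ Subgroup.center G ↔ (g = 1 ∨ g = -1) := fun g => by
    rw [Subgroup.mem_center_iff]; exact center_iff g
  let f : QuaternionGroup 2 →* ↥(commutator G) :=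
    { toFun := fun a => ⟨quatFun a, commutator_eq ▸ quatFun_mem a⟩
      map_one' := Subtype.ext (by decide +kernel)
      map_mul' := fun a b => Subtype.ext (quatFun_mul a b) }
  have hf : Function.Bijective f :=
    ⟨fun a b h => quatFun_injective (congr_arg Subtype.val h), fun ⟨g, hg⟩ => by
      obtain ⟨a, ha⟩ := quat_surj g (by rw [commutator_eq] at hg; exact hg)
      exact ⟨a, Subtype.ext ha⟩⟩
  have hQ : Nat.card (commutator G) = 8 := by
    rw [← Nat.card_eq_of_bijective f hf, Nat.card_eq_fintype_card, QuaternionGroup.card]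
  refine ⟨hcard, ?_, hQ, ⟨(MulEquiv.ofBijective f hf).symm⟩, fun P => ?_, fun N hN => ?_⟩
  · rw [Nat.card_congr (Equiv.subtypeEquivRight hZ), Nat.card_eq_fintype_card]
    decide +kernel
  · have hP : Nat.card (P : Subgroup G) = 3 := by
      rw [P.card_eq_multiplicity, hcard, show (24 : ℕ) = 2 ^ 3 * 3 by norm_num,
        Nat.factorization_mul (by norm_num) (by norm_num), Nat.factorization_pow]
      simp [Nat.prime_two.factorization_self, Nat.prime_three.factorization_self,
        Nat.prime_two.factorization, Nat.prime_three.factorization]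
    exact Subgroup.isComplement'_of_coprime (by rw [hQ, hP, hcard]) (by rw [hQ, hP]; norm_num)
  · by_cases h1 : ∀ g ∈ N, g = 1 ∨ g = -1
    · by_cases h2 : (-1 : G) ∈ N
      · right; right; left
        ext g
        rw [hZ]
        exact ⟨h1 g, fun h => h.elim (fun e => e ▸ N.one_mem) (fun e => e ▸ h2)⟩
      · left
        rw [eq_bot_iff]
        intro g hg
        rcases h1 g hg with rfl | rfl
        · exact Subgroup.mem_bot.2 rfl
        · exact absurd hg h2
    · push Not at h1
      obtain ⟨g, hg, hg'⟩ := h1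
      have hgc : ¬ (g = 1 ∨ g = -1) := fun h => h.elim hg'.1 hg'.2
      obtain ⟨q, hq, hq4, hqc⟩ : ∃ q ∈ N, q ^ 4 = 1 ∧ ¬ (q = 1 ∨ q = -1) := by
        by_cases h4 : g ^ 4 = 1
        · exact ⟨g, hg, h4, hgc⟩
        · obtain ⟨h, ha, hb⟩ := outer_commutator g h4
          refine ⟨_, ?_, ha, hb⟩
          simpa [mul_assoc] using N.mul_mem hg (hN.conj_mem g⁻¹ (N.inv_mem hg) h)
      have hQN : ∀ x : G, x ^ 4 = 1 → x ∈ N := by
        intro x hx
        by_cases hxc : x = 1 ∨ x = -1
        · rcases quat_central_from_noncentral x hxc q hq4 hqc with rfl | rfl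
          · exact N.one_mem
          · exact N.mul_mem hq hq
        · obtain ⟨h, rfl⟩ := noncentral_class q x hq4 hqc hx hxc
          exact hN.conj_mem q hq h
      by_cases h4 : ∀ x ∈ N, x ^ 4 = 1
      · right; right; right
        rw [commutator_eq]
        exact le_antisymm h4 hQN
      · push Not at h4
        obtain ⟨o, ho, ho4⟩ := h4
        right; left
        rw [eq_top_iff]
        intro x _
        rcases outer_cosets o ho4 x with h | h | h
        · exact hQN x h
        · simpa using N.mul_mem (hQN _ h) ho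
        · simpa using N.mul_mem (N.mul_mem (hQN _ h) ho) ho

end Cfsg.Agent.S2427
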