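import Cfsg.Statements.S0941

import Cfsg.Agent.BlocksLocal.Support
import Cfsg.Agent.BlocksLocal.NormalAverage

set_option autoImplicit false
open Cfsg

namespace Cfsg.Agent.S0941

/-- Let P be a normal p-subgroup of the finite group G such that the index of C_G(P) is a power of p, and fix a maximal ideal M of the algebraic integers containing p. Then (i) two irreducible characters of G ⧸ P lie in the same block if and only if their inflations to G do, and (ii) every block of G contains the inflation of some irreducible character of G ⧸ P; so inflation induces a bijection between the blocks of G ⧸ P and the blocks of G. -/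
theorem result {G : Type*} [Group G] [Finite G] (p : ℕ) [Fact p.Prime] (M : Ideal Cfsg.AlgInt) (hM : Cfsg.IsPModular p M) (P : Subgroup G) [P.Normal] (hP : IsPGroup p P) (hC : ∃ k : ℕ, (Subgroup.centralizer (P : Set G)).index = p ^ k) : (∀ χ ψ : Cfsg.IrrCharacter (G ⧸ P), Cfsg.SameBlock M (χ : G ⧸ P → ℂ) (ψ : G ⧸ P → ℂ) ↔ Cfsg.SameBlock M ((χ : G ⧸ P → ℂ) ∘ QuotientGroup.mk) ((ψ : G ⧸ P → ℂ) ∘ QuotientGroup.mk)) ∧ ∀ B : Set (Cfsg.IrrCharacter G), Cfsg.IsPBlock M B → ∃ χ : Cfsg.IrrCharacter (G ⧸ P), ∃ θ ∈ B, (θ : G → ℂ) = (χ : G ⧸ P → ℂ) ∘ QuotientGroup.mk := by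
  classical
  have : M.IsPrime := hM.2.1.isPrime
  have := Fintype.ofFinite G
  have := Fintype.ofFinite (G ⧸ P)
  set C := Subgroup.centralizer (P : Set G) with hC'
  obtain ⟨k, hk⟩ := hC
  have hregC : ∀ x : G, ¬ p ∣ orderOf x → x ∈ C := by
    intro x hx
    have h1 : orderOf (QuotientGroup.mk' C x) ∣ p ^ k := by
      rw [← hk]; exact orderOf_dvd_natCard _
    have h2 : orderOf (QuotientGroup.mk' C x) ∣ orderOf x := orderOf_map_dvd _ x
    have h3 : (p ^ k).Coprime (orderOf x) :=
      Nat.Coprime.pow_left k ((Nat.Prime.coprime_iff_not_dvd Fact.out).2 hx)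
    have h4 := Nat.eq_one_of_dvd_coprimes h3 h1 h2
    rw [orderOf_eq_one_iff, QuotientGroup.mk'_apply, QuotientGroup.eq_one_iff] at h4
    exact h4
  have hinj : ∀ x x' : G, ¬ p ∣ orderOf x → ¬ p ∣ orderOf x' →
      (x : G ⧸ P) = (x' : G ⧸ P) → x = x' := by
    intro x x' hx hx' he
    have hu : x⁻¹ * x' ∈ P := (QuotientGroup.eq).1 he
    have hc : Commute x (x⁻¹ * x') := (Subgroup.mem_centralizer_iff.1 (hregC x hx) _ hu).symm
    have hxx : x' = x * (x⁻¹ * x') := by group
    obtain ⟨j, hj⟩ := hP ⟨x⁻¹ * x', hu⟩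
    have hj' : (x⁻¹ * x') ^ p ^ j = 1 := congrArg Subtype.val hj
    by_contra hne
    obtain ⟨i, -, hi⟩ := (Nat.dvd_prime_pow Fact.out).1 (orderOf_dvd_of_pow_eq_one hj')
    have hi0 : i ≠ 0 := by
      rintro rfl
      rw [pow_zero, orderOf_eq_one_iff, inv_mul_eq_one] at hi
      exact hne hi
    apply hx'
    rw [hxx, hc.orderOf_mul_eq_mul_orderOf_of_coprime (by
      rw [hi]; exact Nat.Coprime.pow_right i (Nat.Coprime.symm
        ((Nat.Prime.coprime_iff_not_dvd Fact.out).2 hx))), hi]
    exact dvd_mul_of_dvd_right (dvd_pow_self p hi0) _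
  have hsurj : ∀ y : G ⧸ P, ¬ p ∣ orderOf y → ∃ x : G, ¬ p ∣ orderOf x ∧ (x : G ⧸ P) = y := by
    intro y hy
    obtain ⟨g, rfl⟩ := QuotientGroup.mk_surjective y
    set a := (Nat.card G).factorization p
    have hcop : (p ^ a).Coprime (orderOf (g : G ⧸ P)) :=
      Nat.Coprime.pow_left a ((Nat.Prime.coprime_iff_not_dvd Fact.out).2 hy)
    obtain ⟨c, hc⟩ := exists_pow_eq_self_of_coprime (x := (g : G ⧸ P)) hcop
    refine ⟨(g ^ p ^ a) ^ c, fun hd => ?_, ?_⟩
    · exact CfsgLib.BlocksLocal.not_dvd_orderOf_pow_prime_pow p g le_rfl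
        (hd.trans (orderOf_pow_dvd c))
    · rw [QuotientGroup.mk_pow, QuotientGroup.mk_pow]; exact hc
  refine ⟨fun χ ψ => ⟨CfsgLib.BlocksLocal.sameBlock_infl P, fun h => ?_⟩, fun B hB => ?_⟩
  · -- a lift of the idempotent of the block of χ
    set A := Cfsg.blockOf M (χ : G ⧸ P → ℂ)
    have hA : CfsgLib.Blocks.IsBlockUnion M A :=
      CfsgLib.Blocks.isBlockUnion_of_isPBlock (CfsgLib.Blocks.isPBlock_blockOf χ)
    let z : CfsgLib.Blocks.Ctr (CfsgLib.Blocks.localRing M) G :=
      ⟨CfsgLib.Blocks.ofFun fun g => if p ∣ orderOf g then 0 else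
        ⟨Cfsg.blockCoeff A (g : G ⧸ P), CfsgLib.Blocks.memLocalRing_blockCoeff hA _⟩,
        CfsgLib.Blocks.mem_ctr_iff.2 fun g c => by
          simp only [CfsgLib.Blocks.coeff_ofFun]
          have ho : orderOf (c * g * c⁻¹) = orderOf g := MulEquiv.orderOf_eq (MulAut.conj c) g
          simp only [ho]
          split_ifs
          · rfl
          · exact Subtype.ext (by
              simp only [QuotientGroup.mk_mul, QuotientGroup.mk_inv,
                CfsgLib.Blocks.blockCoeff_conj])⟩
    have hval : ∀ φ : Cfsg.IrrCharacter (G ⧸ P),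
        CfsgLib.Blocks.omegaO M (CfsgLib.BlocksLocal.infl P φ) z = if φ ∈ A then 1 else 0 := by
      intro φ
      apply Subtype.ext
      rw [CfsgLib.Blocks.coe_omegaO, CfsgLib.Blocks.omega_apply]
      have hR : (((if φ ∈ A then 1 else 0) : CfsgLib.Blocks.localRing M) : ℂ) =
          CfsgLib.Blocks.omega φ (CfsgLib.Blocks.setIdemC A) := by
        rw [CfsgLib.Blocks.omega_setIdemC]; split_ifs <;> simp
      rw [hR, CfsgLib.Blocks.omega_apply, CfsgLib.BlocksLocal.infl_apply, QuotientGroup.mk_one]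
      refine congrArg (· / _) ?_
      simp only [CfsgLib.Blocks.toC, CfsgLib.Blocks.coeff_mapCtr, z, CfsgLib.Blocks.coeff_ofFun,
        CfsgLib.Blocks.coeff_setIdemC, CfsgLib.BlocksLocal.infl_apply]
      rw [← Finset.sum_filter_add_sum_filter_not Finset.univ (fun g : G => p ∣ orderOf g),
        ← Finset.sum_filter_add_sum_filter_not Finset.univ (fun y : G ⧸ P => p ∣ orderOf y)]
      rw [Finset.sum_eq_zero (s := Finset.univ.filter fun g : G => p ∣ orderOf g),
        Finset.sum_eq_zero (s := Finset.univ.filter fun y : G ⧸ P => p ∣ orderOf y)]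
      · congr 1
        refine Finset.sum_bij (fun g _ => (g : G ⧸ P)) ?_ ?_ ?_ ?_
        · intro g hg
          simp only [Finset.mem_filter, Finset.mem_univ, true_and] at hg ⊢
          exact fun hd => hg (hd.trans (orderOf_map_dvd (QuotientGroup.mk' P) g))
        · intro g hg g' hg' he
          simp only [Finset.mem_filter, Finset.mem_univ, true_and] at hg hg'
          exact hinj g g' hg hg' he
        · intro y hy
          simp only [Finset.mem_filter, Finset.mem_univ, true_and] at hy
          obtain ⟨x, hx, hxy⟩ := hsurj y hy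
          exact ⟨x, by simp [hx], hxy⟩
        · intro g hg
          simp only [Finset.mem_filter, Finset.mem_univ, true_and] at hg
          simp [hg]
      · intro y hy
        simp only [Finset.mem_filter, Finset.mem_univ, true_and] at hy
        rw [CfsgLib.BlocksLocal.blockCoeff_eq_zero_of_dvd hM hA hy, zero_mul]
      · intro g hg
        simp only [Finset.mem_filter, Finset.mem_univ, true_and] at hg
        simp [hg]
    have h1 := DFunLike.congr_fun ((CfsgLib.Blocks.sameBlock_iff (CfsgLib.BlocksLocal.infl P χ)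
      (CfsgLib.BlocksLocal.infl P ψ)).1 h) (CfsgLib.Blocks.redCtr M z)
    rw [CfsgLib.Blocks.omegaBar_redCtr, CfsgLib.Blocks.omegaBar_redCtr, hval, hval,
      if_pos (CfsgLib.Blocks.mem_blockOf_self χ), map_one] at h1
    by_contra hn
    rw [if_neg (show ψ ∉ A from hn), map_zero] at h1
    exact one_ne_zero h1
  · have hU := CfsgLib.Blocks.isBlockUnion_of_isPBlock hB
    have hsum : ∑ x : G, (if x ∈ P then Cfsg.blockCoeff B x else 0) = Cfsg.blockCoeff B 1 := by
      rw [Finset.sum_eq_single (1 : G)]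
      · rw [if_pos P.one_mem]
      · intro x _ hx
        split_ifs with hxP
        · refine CfsgLib.BlocksLocal.blockCoeff_eq_zero_of_dvd hM hU ?_
          obtain ⟨j, hj⟩ := hP ⟨x, hxP⟩
          obtain ⟨i, -, hi⟩ := (Nat.dvd_prime_pow Fact.out).1
            (orderOf_dvd_of_pow_eq_one (congrArg Subtype.val hj : x ^ p ^ j = 1))
          rw [hi]
          refine dvd_pow_self p ?_
          rintro rfl
          rw [pow_zero, orderOf_eq_one_iff] at hi
          exact hx hi
        · rfl
      · simp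
    obtain ⟨θ₀, hθ₀⟩ := CfsgLib.Blocks.isPBlock_nonempty hB
    by_contra hno
    push Not at hno
    have hzero : ∀ θ : Cfsg.IrrCharacter G, θ ∈ B →
        ∑ x : G, (if x ∈ P then (θ : G → ℂ) x else 0) = 0 := by
      intro θ hθ
      by_contra hne
      have hom : CfsgLib.Blocks.omega θ (CfsgLib.BlocksLocal.normalInd ℂ P) ≠ 0 := by
        rw [CfsgLib.BlocksLocal.omega_normalInd]
        exact div_ne_zero hne (CfsgLib.Characters.irr_one_ne_zero θ.2)
      obtain ⟨φ, hφ, hval⟩ := CfsgLib.Characters.exists_irr_quotient P θ.2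
        (fun n hn => CfsgLib.BlocksLocal.eq_degree_of_omega_normalInd θ P hom hn)
      exact hno ⟨φ, hφ⟩ θ hθ (funext hval)
    have h0 : Cfsg.blockCoeff B 1 = 0 := by
      rw [← hsum]
      simp only [CfsgLib.Blocks.blockCoeff_eq_sum]
      have : ∀ x : G, (if x ∈ P then (Nat.card G : ℂ)⁻¹ * ∑ θ : Cfsg.IrrCharacter G,
          (if θ ∈ B then (θ : G → ℂ) 1 * (starRingEnd ℂ) ((θ : G → ℂ) x) else 0) else 0) =
          (Nat.card G : ℂ)⁻¹ * ∑ θ : Cfsg.IrrCharacter G, (if θ ∈ B then (θ : G → ℂ) 1 *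
            (starRingEnd ℂ) (if x ∈ P then (θ : G → ℂ) x else 0) else 0) := by
        intro x
        split_ifs <;> simp
      rw [Finset.sum_congr rfl fun x _ => this x, ← Finset.mul_sum, Finset.sum_comm,
        Finset.sum_eq_zero, mul_zero]
      intro θ _
      split_ifs with hθ
      · rw [← Finset.mul_sum, ← map_sum, hzero θ hθ, map_zero, mul_zero]
      · simp
    rw [CfsgLib.Blocks.blockCoeff_eq_sum, mul_eq_zero] at h0
    have h1 := h0.resolve_left (inv_ne_zero CfsgLib.Characters.natCard_ne_zero)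
    have hre := congrArg Complex.re h1
    rw [Complex.re_sum, Complex.zero_re] at hre
    have h2 := (Finset.sum_eq_zero_iff_of_nonneg (fun θ _ => ?_)).1 hre θ₀ (Finset.mem_univ _)
    · rw [if_pos hθ₀, Complex.mul_conj, Complex.ofReal_re, Complex.normSq_eq_zero] at h2
      exact CfsgLib.Characters.irr_one_ne_zero θ₀.2 h2
    · split_ifs
      · rw [Complex.mul_conj, Complex.ofReal_re]; exact Complex.normSq_nonneg _
      · simp

end Cfsg.Agent.S0941
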