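import Cfsg.Statements.S4669
import Cfsg.Agent.BlockPairs.RegularSpan
import Cfsg.Agent.BlocksLocal.CentralisingDefect

set_option autoImplicit false
set_option linter.style.haveILetI false
open Cfsg CfsgLib.BlockPairs

namespace Cfsg.Agent.S4669

/-- Fix a prime p and a maximal ideal M of the algebraic integers containing p. If the p-block B of the finite group G has a defect group P contained in the centre of G, then B has p-regular rank one (a single irreducible Brauer character). -/
theorem result {G : Type*} [Group G] [Fintype G] (p : ℕ) [Fact p.Prime] (M : Ideal Cfsg.AlgInt) (hM : Cfsg.IsPModular p M) (B : Set (Cfsg.IrrCharacter G)) (hB : Cfsg.IsPBlock M B) (P : Subgroup G) (hD : Cfsg.IsDefectGroup p M B P) (hPZ : P ≤ Subgroup.center G) : Cfsg.blockRank p B = 1 := by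
  haveI := CfsgLib.Blocks.IsPModular.isPrime hM
  classical
  obtain ⟨g, -, S, hS⟩ := id hD
  have hP : IsPGroup p P := hS ▸ S.isPGroup'.map _
  haveI : P.Normal := ⟨fun z hz x => by
    rwa [Subgroup.mem_center_iff.1 (hPZ hz) x, mul_inv_cancel_right]⟩
  have hG : P ⊔ Subgroup.centralizer (P : Set G) = ⊤ := by
    rw [Subgroup.centralizer_eq_top_iff_subset.2 hPZ, sup_top_eq]
  have h := CfsgLib.BlocksLocal.sum_classInner_regPart_eq_one hP hG hM hB hD
  have h2 := CfsgLib.Contributions.blockRank_eq_sum (p := p) hM hB
  rw [← Nat.cast_inj (R := ℂ), h2, Nat.cast_one, ← h, ← Finset.sum_filter]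
  refine Finset.sum_congr (by ext; simp) fun χ _ => ?_
  exact CfsgLib.Contributions.regInner_eq_classInner p _ _

end Cfsg.Agent.S4669
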