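import Cfsg.Statements.S4512
import Cfsg.Agent.BlockPairing.DefectOne
import Cfsg.Agent.BlocksLocal.PrincipalSection
import Mathlib.GroupTheory.Transfer

set_option autoImplicit false
open Cfsg

namespace Cfsg.Agent.S4512

open CfsgLib in
theorem exists_complement {H : Type*} [Group H] [Finite H] (P : Sylow 2 H)
    (hP : Nat.card P = 4) (hexp : ∀ a : P, a * a = 1) (x : H) (hxP : x ∈ (P : Subgroup H))
    (hx1 : x ≠ 1) (hx : ∀ h : H, h * x = x * h) :
    ∃ K : Subgroup H, K.Normal ∧ ¬ 2 ∣ Nat.card K ∧ K.index = 4 := by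
  classical
  haveI : Fact (Nat.Prime 2) := ⟨Nat.prime_two⟩
  have hexp' : ∀ a ∈ (P : Subgroup H), a * a = 1 := fun a ha =>
    congrArg Subtype.val (hexp ⟨a, ha⟩)
  have hcomm : ∀ a ∈ (P : Subgroup H), ∀ b ∈ (P : Subgroup H), a * b = b * a := by
    intro a ha b hb
    have h1 := hexp' (a * b) (mul_mem ha hb)
    calc a * b = a * (a * b * (a * b)) * b := by rw [h1, mul_one]
      _ = (a * a) * (b * a) * (b * b) := by group
      _ = b * a := by rw [hexp' a ha, hexp' b hb]; group
  have hle : Subgroup.normalizer ((P : Subgroup H) : Set H) ≤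
      Subgroup.centralizer ((P : Subgroup H) : Set H) := by
    intro g hg
    -- two squarings
    have hconj : ∀ a ∈ (P : Subgroup H), g * a * g⁻¹ ∈ (P : Subgroup H) := fun a ha =>
      (Subgroup.mem_normalizer_iff.1 hg a).1 ha
    have hsq : ∀ a ∈ (P : Subgroup H), g ^ 2 * a * (g ^ 2)⁻¹ = a := by
      intro a ha
      by_cases h1 : a = 1 ∨ a = x ∨ g * a * g⁻¹ = a
      · rcases h1 with rfl | rfl | h1
        · simp
        · have := hx (g ^ 2); rw [this, mul_inv_cancel_right]
        · rw [sq, show g * g * a * (g * g)⁻¹ = g * (g * a * g⁻¹) * g⁻¹ by group, h1, h1]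
      · push Not at h1
        obtain ⟨ha1, hax, hab⟩ := h1
        set b := g * a * g⁻¹ with hb
        have hb1 : b ≠ 1 := fun h => ha1 (by
          have := congrArg (fun t => g⁻¹ * t * g) (hb.symm.trans h)
          simpa [mul_assoc] using this)
        have hbx : b ≠ x := fun h => hax (by
          have := congrArg (fun t => g⁻¹ * t * g) (hb.symm.trans h)
          simp only [mul_assoc, inv_mul_cancel, inv_mul_cancel_left, mul_one] at this
          rw [this, ← hx g, inv_mul_cancel_left])
        -- `P = {1, x, a, b}`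
        have hall : ∀ c ∈ (P : Subgroup H), c = 1 ∨ c = x ∨ c = a ∨ c = b := by
          intro c hc
          by_contra hn
          push Not at hn
          obtain ⟨n1, n2, n3, n4⟩ := hn
          haveI := Fintype.ofFinite (P : Subgroup H)
          have h5 : ({1, ⟨x, hxP⟩, ⟨a, ha⟩, ⟨b, hconj a ha⟩, ⟨c, hc⟩} :
              Finset (P : Subgroup H)).card = 5 := by
            have hx1' : (1 : H) ≠ x := Ne.symm hx1
            rw [Finset.card_insert_of_notMem, Finset.card_insert_of_notMem,
              Finset.card_insert_of_notMem, Finset.card_insert_of_notMem, Finset.card_singleton]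
            all_goals simp only [Finset.mem_insert, Finset.mem_singleton, not_or, Subtype.ext_iff,
              Subgroup.coe_one]
            exacts [fun h => n4 h.symm, ⟨fun h => hab h.symm, fun h => n3 h.symm⟩,
              ⟨fun h => hax h.symm, fun h => hbx h.symm, fun h => n2 h.symm⟩,
              ⟨hx1', fun h => ha1 h.symm, fun h => hb1 h.symm, fun h => n1 h.symm⟩]
          have := Finset.card_le_univ ({1, ⟨x, hxP⟩, ⟨a, ha⟩, ⟨b, hconj a ha⟩, ⟨c, hc⟩} :
            Finset (P : Subgroup H))
          rw [h5, ← Nat.card_eq_fintype_card, hP] at this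
          omega
        have hinj : ∀ c d : H, g * c * g⁻¹ = g * d * g⁻¹ → c = d := fun c d h =>
          mul_left_cancel (mul_right_cancel h)
        rcases hall _ (hconj b (hconj a ha)) with h | h | h | h
        · exact absurd (hinj b 1 (by rw [h, mul_one, mul_inv_cancel])) hb1
        · exact absurd (hinj b x (by rw [h, hx g, mul_inv_cancel_right])) hbx
        · rw [sq, show g * g * a * (g * g)⁻¹ = g * (g * a * g⁻¹) * g⁻¹ by group, ← hb, h]
        · exact absurd (hinj b a (by rw [h, hb])).symm (Ne.symm hab)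
    -- an odd power lies in `P`
    let N := Subgroup.normalizer ((P : Subgroup H) : Set H)
    have hPN : (P : Subgroup H) ≤ N := Subgroup.le_normalizer
    haveI : ((P : Subgroup H).subgroupOf N).Normal := Subgroup.normal_in_normalizer
    have hm := Subgroup.pow_index_mem ((P : Subgroup H).subgroupOf N) (⟨g, hg⟩ : N)
    set m := ((P : Subgroup H).subgroupOf N).index
    have hodd : ¬ 2 ∣ m := fun h => P.not_dvd_index (h.trans (Subgroup.relIndex_dvd_index_of_le hPN))
    refine Subgroup.mem_centralizer_iff.2 fun a ha => ?_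
    have hm' : g ^ m ∈ (P : Subgroup H) := by simpa [Subgroup.mem_subgroupOf] using hm
    have hc2 : Commute (g ^ 2) a := mul_inv_eq_iff_eq_mul.1 (hsq a ha)
    have hcm : Commute (g ^ m) a := hcomm _ hm' a ha
    obtain ⟨k, hk⟩ : ∃ k, m = 2 * k + 1 := ⟨m / 2, by omega⟩
    rw [hk, pow_succ, pow_mul] at hcm
    have h3 : Commute (((g ^ 2) ^ k)⁻¹ * ((g ^ 2) ^ k * g)) a :=
      ((hc2.pow_left k).inv_left).mul_left hcm
    rw [inv_mul_cancel_left] at h3
    exact h3.eq.symm
  refine ⟨(MonoidHom.transferSylow P hle).ker, inferInstance,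
    MonoidHom.not_dvd_card_ker_transferSylow P hle, ?_⟩
  rw [(MonoidHom.ker_transferSylow_isComplement' P hle).symm.index_eq_card, hP]

open scoped ComplexConjugate in
theorem int_value {G : Type*} [Group G] [Finite G] (χ : Cfsg.IrrCharacter G) (x : G) (hx : x * x = 1) :
    ∃ z : ℤ, (χ : G → ℂ) x = z := by
  obtain ⟨n, ρ, hρ, he⟩ := χ.2
  obtain ⟨μ, hμ, hj, -⟩ := CfsgLib.Characters.exists_eigenvalues ρ x
  have h2 : ∀ i, μ i = 1 ∨ μ i = -1 := fun i => by
    have h := hμ i
    have hd : orderOf x ∣ 2 := orderOf_dvd_of_pow_eq_one (by rw [sq, hx])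
    obtain ⟨c, hc⟩ := hd
    have : μ i ^ 2 = 1 := by rw [hc, pow_mul, h, one_pow]
    exact sq_eq_one_iff.1 this
  refine ⟨∑ i, if μ i = 1 then 1 else -1, ?_⟩
  have h1 := hj 1
  simp only [pow_one] at h1
  rw [← he, h1]
  push_cast
  refine Finset.sum_congr rfl fun i _ => ?_
  rcases h2 i with h | h <;> rw [h] <;> norm_num

/-- If G is a finite group with a Sylow 2-subgroup that is a Klein four-group and a single conjugacy class of involutions, then its principal 2-block (relative to a maximal ideal M of the algebraic integers containing 2) has 2-regular rank 3: the restrictions of its irreducible characters to the elements of odd order span a space of dimension 3 (it has three irreducible Brauer characters). -/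
theorem result {G : Type*} [Group G] [Finite G] (M : Ideal Cfsg.AlgInt) (hM : Cfsg.IsPModular 2 M) (P : Sylow 2 G)
    (hP : Nat.card P = 4) (hexp : ∀ x : P, x * x = 1)
    (hone : ∀ s t : G, orderOf s = 2 → orderOf t = 2 → IsConj s t) :
    Cfsg.blockRank 2 (Cfsg.principalBlock M G) = 3 := by
  classical
  cases nonempty_fintype G
  haveI := CfsgLib.Blocks.IsPModular.isPrime hM
  haveI : Fact (Nat.Prime 2) := ⟨Nat.prime_two⟩
  set B := Cfsg.principalBlock M G with hBdef
  have hB : Cfsg.IsPBlock M B := CfsgLib.PrincipalBlock.isPBlock_principalBlock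
  set one := CfsgLib.PrincipalBlock.trivChar G with honedef
  have h1B : one ∈ B := CfsgLib.PrincipalBlock.trivChar_mem
  have hexp' : ∀ a ∈ (P : Subgroup G), a * a = 1 := fun a ha =>
    congrArg Subtype.val (hexp ⟨a, ha⟩)
  obtain ⟨⟨x, hxP⟩, hxne⟩ : ∃ a : P, a ≠ 1 := by
    by_contra hcon
    push Not at hcon
    have : Subsingleton P := ⟨fun a b => by rw [hcon a, hcon b]⟩
    have := Finite.card_le_one_iff_subsingleton.2 this
    omega
  have hx1 : x ≠ 1 := fun h => hxne (Subtype.ext h)
  have hxo : orderOf x = 2 := orderOf_eq_prime (by rw [sq]; exact hexp' x hxP) hx1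
  have hx2 : ∃ k, orderOf x = 2 ^ k := ⟨1, by rw [hxo, pow_one]⟩
  have hPH : (P : Subgroup G) ≤ Subgroup.centralizer ({x} : Set G) := by
    intro a ha
    rw [Subgroup.mem_centralizer_singleton_iff]
    have h1 := hexp' (a * x) (mul_mem ha hxP)
    calc a * x = a * (a * x * (a * x)) * x := by rw [h1, mul_one]
      _ = (a * a) * (x * a) * (x * x) := by group
      _ = x * a := by rw [hexp' a ha, hexp' x hxP]; group
  haveI : Fintype (Subgroup.centralizer ({x} : Set G)) :=
    Fintype.ofFinite (Subgroup.centralizer ({x} : Set G))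
  let xH : Subgroup.centralizer ({x} : Set G) := ⟨x, Subgroup.mem_centralizer_singleton_iff.2 rfl⟩
  let eP := Subgroup.subgroupOfEquivOfLe hPH
  obtain ⟨K, hKn, hKodd, hKidx⟩ := exists_complement (P.subtype hPH)
    (by rw [← hP]; exact Nat.card_congr eP.toEquiv)
    (fun a => Subtype.ext (Subtype.ext (hexp' (a.1 : G) a.2)))
    xH hxP (fun h => hx1 (congrArg Subtype.val h))
    (fun h => Subtype.ext (Subgroup.mem_centralizer_singleton_iff.1 h.2))
  haveI := hKn
  have hKreg : ∀ y : Subgroup.centralizer ({x} : Set G), y ∈ K ↔ ¬ 2 ∣ orderOf y := by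
    intro y
    constructor
    · exact fun h hd => hKodd (hd.trans (Subgroup.orderOf_dvd_natCard K h))
    · intro hy
      rw [← QuotientGroup.eq_one_iff, ← orderOf_eq_one_iff]
      have h1 : orderOf (y : Subgroup.centralizer ({x} : Set G) ⧸ K) ∣ orderOf y :=
        orderOf_map_dvd (QuotientGroup.mk' K) y
      have h2 : orderOf (y : Subgroup.centralizer ({x} : Set G) ⧸ K) ∣ 4 := by
        rw [← hKidx, Subgroup.index_eq_card]; exact orderOf_dvd_natCard _
      refine Nat.Coprime.eq_one_of_dvd (Nat.Coprime.coprime_dvd_left h1 ?_) h2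
      rw [show (4 : ℕ) = 2 ^ 2 by norm_num]
      exact Nat.Coprime.pow_right _ (Nat.coprime_comm.1 ((Nat.prime_two.coprime_iff_not_dvd).2 hy))
  set b := Cfsg.principalBlock M (Subgroup.centralizer ({x} : Set G))
  -- the squared values on the section
  have hsec : ∀ y : Subgroup.centralizer ({x} : Set G), ¬ 2 ∣ orderOf y →
      (∑ χ : Cfsg.IrrCharacter G, if χ ∈ B then (χ : G → ℂ) (x * (y : G)) *
        (starRingEnd ℂ) ((χ : G → ℂ) (x * (y : G))) else 0) = 4 := by
    intro y hy
    rw [CfsgLib.BlocksLocal.sum_principal_section_mul_conj hM hx2 hy hy]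
    have hker : ∀ ξ : Cfsg.IrrCharacter (Subgroup.centralizer ({x} : Set G)), ξ ∈ b →
        (ξ : Subgroup.centralizer ({x} : Set G) → ℂ) y =
          (ξ : Subgroup.centralizer ({x} : Set G) → ℂ) 1 := fun ξ hξ =>
      CfsgLib.PrincipalBlock.mem_charKer.1
        (CfsgLib.PrincipalBlock.le_charKer_of_mem hM K hKodd hξ ((hKreg y).2 hy))
    have h := CfsgLib.BlocksLocal.blockCoeff_principal_of_normal_complement hM K hKodd
      ⟨2, by rw [hKidx]; norm_num⟩ 1
    rw [CfsgLib.Blocks.blockCoeff_eq_sum, ← mul_assoc, mul_inv_cancel₀ (Nat.cast_ne_zero.2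
      Nat.card_pos.ne'), one_mul, Set.indicator_of_mem (one_mem K), hKidx, mul_one] at h
    push_cast at h
    rw [← h]
    refine Finset.sum_congr rfl fun ξ _ => ?_
    by_cases hξ : ξ ∈ b
    · rw [if_pos hξ, if_pos hξ, hker ξ hξ]
    · rw [if_neg hξ, if_neg hξ]
  -- norm = regular part + section
  have hsplit : ∀ χ : Cfsg.IrrCharacter G, 1 = CfsgLib.BlockPairing.regInner 2 (χ : G → ℂ) χ +
      (Nat.card (Subgroup.centralizer ({x} : Set G)) : ℂ)⁻¹ *
        ∑ y : Subgroup.centralizer ({x} : Set G), if 2 ∣ orderOf y then 0 else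
          (χ : G → ℂ) (x * (y : G)) * (starRingEnd ℂ) ((χ : G → ℂ) (x * (y : G))) := by
    intro χ
    set f : G → ℂ := fun g => (χ : G → ℂ) g * (starRingEnd ℂ) ((χ : G → ℂ) g)
    have hfc : ∀ g c : G, f (c * g * c⁻¹) = f g := fun g c => by
      show (χ : G → ℂ) (c * g * c⁻¹) * _ = _
      rw [CfsgLib.Characters.isClassFunction_of_isIrr χ.2 g c]
    choose pp hpp' using fun g : G => CfsgLib.Blocks.exists_isPPart (p := 2) Nat.prime_two g
    have hdich : ∀ z : G, (∃ k, orderOf z = 2 ^ k) → z = 1 ∨ IsConj x z := by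
      rintro z ⟨k, hk⟩
      by_cases hz : z = 1
      · exact Or.inl hz
      right
      have hzp : IsPGroup 2 (Subgroup.zpowers z) :=
        IsPGroup.of_card (n := k) (by rw [Nat.card_zpowers, hk])
      obtain ⟨Q, hQ⟩ := hzp.exists_le_sylow
      let e := Sylow.equiv P Q
      have h2 : z * z = 1 := by
        have h3 : (⟨z, hQ (Subgroup.mem_zpowers z)⟩ : Q) * ⟨z, hQ (Subgroup.mem_zpowers z)⟩ = 1 := by
          apply e.symm.injective
          rw [map_mul, map_one]
          exact hexp _
        exact congrArg Subtype.val h3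
      exact hone x z hxo (orderOf_eq_prime (by rw [sq]; exact h2) hz)
    have hxz : ¬ IsConj x (1 : G) := fun h => hx1 (isConj_one_left.1 h)
    have hreg : ∀ g, pp g = 1 ↔ ¬ 2 ∣ orderOf g := by
      intro g
      constructor
      · intro h
        obtain ⟨y, hy, -, -, hyo⟩ := hpp' g
        rw [h, one_mul] at hy
        exact hy ▸ hyo
      · intro h
        exact CfsgLib.Blocks.isPPart_unique Nat.prime_two (hpp' g)
          ⟨g, one_mul g, Commute.one_left g, ⟨0, by simp⟩, h⟩
    have hsum : ∑ g, f g = (∑ g, if 2 ∣ orderOf g then 0 else f g) +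
        ((Subgroup.centralizer ({x} : Set G)).index : ℂ) *
          ∑ y : Subgroup.centralizer ({x} : Set G), if 2 ∣ orderOf y then 0 else f (x * (y : G)) := by
      rw [← Finset.sum_filter_add_sum_filter_not Finset.univ (fun g => pp g = 1) f]
      congr 1
      · rw [Finset.sum_filter]
        refine Finset.sum_congr rfl fun g _ => ?_
        by_cases hg : 2 ∣ orderOf g
        · rw [if_pos hg, if_neg (fun h => (hreg g).1 h hg)]
        · rw [if_neg hg, if_pos ((hreg g).2 hg)]
      have hfib : ∀ z : G, IsConj x z →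
          ∑ g ∈ Finset.univ.filter (fun g => pp g = z), f g =
          ∑ y : Subgroup.centralizer ({x} : Set G), if 2 ∣ orderOf y then 0 else f (x * (y : G)) := by
        intro z hz
        obtain ⟨c, rfl⟩ := isConj_iff.1 hz
        have hite : ∀ y : Subgroup.centralizer ({x} : Set G),
            (if 2 ∣ orderOf y then 0 else f (x * (y : G))) =
            if ¬ 2 ∣ orderOf y then f (x * (y : G)) else 0 := fun y => by split_ifs <;> rfl
        simp only [hite]
        rw [← Finset.sum_filter]
        refine (Finset.sum_bij (fun (y : Subgroup.centralizer ({x} : Set G)) _ =>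
          c * (x * (y : G)) * c⁻¹) (fun y hy => ?_) (fun y _ y' _ h => ?_) (fun g hg => ?_)
          (fun y _ => (hfc _ _).symm)).symm
        · refine Finset.mem_filter.2 ⟨Finset.mem_univ _, CfsgLib.Blocks.isPPart_unique Nat.prime_two
            (hpp' _) (CfsgLib.Blocks.isPPart_conj (CfsgLib.Blocks.isPPart_of_mul
              (Subgroup.mem_centralizer_singleton_iff.1 y.2).symm hx2 ?_) c)⟩
          rw [Subgroup.orderOf_coe]
          exact (Finset.mem_filter.1 hy).2
        · exact Subtype.ext (mul_left_cancel (mul_left_cancel (mul_right_cancel h)))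
        · have h1 := CfsgLib.Blocks.isPPart_conj (hpp' g) c⁻¹
          rw [(Finset.mem_filter.1 hg).2, inv_inv, show c⁻¹ * (c * x * c⁻¹) * c = x by group] at h1
          obtain ⟨y, hxy, hc, -, hy⟩ := h1
          refine ⟨⟨y, Subgroup.mem_centralizer_singleton_iff.2 hc.eq.symm⟩,
            Finset.mem_filter.2 ⟨Finset.mem_univ _, by rwa [← Subgroup.orderOf_coe]⟩, ?_⟩
          show c * (x * y) * c⁻¹ = g
          rw [hxy]; group
      rw [← CfsgLib.Blocks.natCard_class x, Nat.card_eq_fintype_card, Fintype.card_subtype]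
      rw [← Finset.sum_fiberwise_of_maps_to (g := pp)
        (t := Finset.univ.filter (fun z : G => IsConj x z)) (fun g hg => ?_)]
      · rw [Finset.sum_congr rfl fun z hz => ?_, Finset.sum_const, nsmul_eq_mul]
        · congr 3
          ext z
          simp only [Finset.mem_filter, Finset.mem_univ, true_and, ConjClasses.mk_eq_mk_iff_isConj]
          exact isConj_comm
        · rw [← hfib z (Finset.mem_filter.1 hz).2]
          refine Finset.sum_congr ?_ fun _ _ => rfl
          ext g
          simp only [Finset.mem_filter, Finset.mem_univ, true_and]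
          exact ⟨fun h => h.2, fun h => ⟨fun h1 => hxz (h1 ▸ h.symm ▸ (Finset.mem_filter.1 hz).2), h⟩⟩
      · refine Finset.mem_filter.2 ⟨Finset.mem_univ _, (hdich _ ?_).resolve_left
          (Finset.mem_filter.1 hg).2⟩
        obtain ⟨_, -, -, hk, -⟩ := hpp' g
        exact hk
    have h := CfsgLib.Characters.classInner_isIrr_self χ.2
    rw [Cfsg.classInner, hsum, mul_add, ← mul_assoc] at h
    rw [← h, CfsgLib.BlockPairing.regInner]
    congr 2
    rw [← (Subgroup.centralizer ({x} : Set G)).index_mul_card]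
    push_cast
    rw [mul_inv, mul_right_comm, inv_mul_cancel₀
      (Nat.cast_ne_zero.2 Subgroup.index_ne_zero_of_finite), one_mul]
  have hcardH : (Nat.card (Subgroup.centralizer ({x} : Set G)) : ℂ) = 4 * (Nat.card K : ℂ) := by
    rw [← K.index_mul_card, hKidx]; push_cast; ring
  have hKne : (Nat.card K : ℂ) ≠ 0 := Nat.cast_ne_zero.2 Nat.card_pos.ne'
  have hcount : ((Nat.card (Subgroup.centralizer ({x} : Set G)) : ℂ))⁻¹ *
      (∑ y : Subgroup.centralizer ({x} : Set G), if 2 ∣ orderOf y then 0 else (4 : ℂ)) = 1 := by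
    rw [hcardH, Finset.sum_congr rfl (g := fun y => if y ∈ K then (4 : ℂ) else 0) fun y _ => ?_,
      ← Finset.sum_filter, Finset.sum_const, nsmul_eq_mul, ← Fintype.card_subtype,
      ← Nat.card_eq_fintype_card]
    · field_simp
    · by_cases hy : 2 ∣ orderOf y
      · rw [if_pos hy, if_neg (fun h => (hKreg y).1 h hy)]
      · rw [if_neg hy, if_pos ((hKreg y).2 hy)]
  -- rank = k - 1
  have hrank : ((Cfsg.blockRank 2 B : ℕ) : ℂ) = (Nat.card B : ℂ) - 1 := by
    rw [CfsgLib.BlockPairing.blockRank_eq_sum hM (CfsgLib.Blocks.isBlockUnion_of_isPBlock hB),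
      eq_sub_iff_add_eq]
    conv_lhs => arg 2; rw [← hcount]
    rw [Finset.mul_sum, Finset.sum_congr rfl (g := fun y : Subgroup.centralizer ({x} : Set G) =>
      ∑ χ : Cfsg.IrrCharacter G, if χ ∈ B then
        (Nat.card (Subgroup.centralizer ({x} : Set G)) : ℂ)⁻¹ * (if 2 ∣ orderOf y then 0 else
          (χ : G → ℂ) (x * (y : G)) * (starRingEnd ℂ) ((χ : G → ℂ) (x * (y : G)))) else 0)
      fun y _ => ?_, Finset.sum_comm, ← Finset.sum_add_distrib]
    · rw [show (Nat.card B : ℂ) = ∑ χ : Cfsg.IrrCharacter G, if χ ∈ B then (1 : ℂ) else 0 by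
        rw [Finset.sum_boole, Nat.card_eq_fintype_card, Fintype.card_subtype]]
      refine Finset.sum_congr rfl fun χ _ => ?_
      split_ifs with hχ
      · rw [← Finset.mul_sum, ← hsplit χ]
      · simp
    · by_cases hy : 2 ∣ orderOf y
      · simp [hy]
      · simp only [if_neg hy]
        rw [← hsec y hy, Finset.mul_sum]
        exact Finset.sum_congr rfl fun χ _ => by split_ifs <;> simp
  -- upper bound from the row of the trivial character
  have hdeg1 : Cfsg.charDegree (one : G → ℂ) = 1 := by
    simp [Cfsg.charDegree, honedef, CfsgLib.PrincipalBlock.trivChar]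
  have hmin : ∀ φ ∈ B, (Cfsg.charDegree (one : G → ℂ)).factorization 2 ≤
      (Cfsg.charDegree (φ : G → ℂ)).factorization 2 := by
    intro φ _
    rw [hdeg1, Nat.factorization_one]
    exact Nat.zero_le _
  have hd : Cfsg.blockDefect 2 B = 2 := by
    have h2 := CfsgLib.BlockPairing.factorization_sub_le_blockDefect (p := 2) h1B
    have h3 : (Nat.card G).factorization 2 = 2 := by
      have h := P.card_eq_multiplicity
      rw [hP, show (4 : ℕ) = 2 ^ 2 by norm_num] at h
      exact (Nat.pow_right_injective le_rfl h).symm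
    rw [hdeg1, Nat.factorization_one, Finsupp.zero_apply, Nat.sub_zero, h3] at h2
    have h4 : Cfsg.blockDefect 2 B ≤ (Nat.card G).factorization 2 := Nat.sub_le _ _
    omega
  obtain ⟨c, hc, -, -, hle⟩ := CfsgLib.BlockPairing.exists_row hM hB h1B hmin
  rw [hd] at hc hle
  have hc3 : c one = 3 := by
    have h := hsplit one
    have hsimp : ∀ y : Subgroup.centralizer ({x} : Set G), (one : G → ℂ) (x * (y : G)) *
        (starRingEnd ℂ) ((one : G → ℂ) (x * (y : G))) = 1 := fun y => by
      simp [honedef, CfsgLib.PrincipalBlock.trivChar]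
    simp only [hsimp] at h
    have h4 : (Nat.card (Subgroup.centralizer ({x} : Set G)) : ℂ)⁻¹ *
        (∑ y : Subgroup.centralizer ({x} : Set G), if 2 ∣ orderOf y then 0 else (1 : ℂ)) = 1 / 4 := by
      have e : (∑ y : Subgroup.centralizer ({x} : Set G), if 2 ∣ orderOf y then 0 else (4 : ℂ)) =
          4 * ∑ y : Subgroup.centralizer ({x} : Set G), if 2 ∣ orderOf y then 0 else (1 : ℂ) := by
        rw [Finset.mul_sum]
        exact Finset.sum_congr rfl fun y _ => by split_ifs <;> simp
      rw [e] at hcount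
      linear_combination (1 / 4 : ℂ) * hcount
    rw [h4] at h
    have h5 := hc one
    apply Int.cast_injective (α := ℂ)
    rw [← h5]
    push_cast
    linear_combination (-4 : ℂ) * h
  -- lower bound from the values at `x`
  choose z hz using fun χ : Cfsg.IrrCharacter G => int_value χ x (hexp' x hxP)
  have hsum4 : (∑ χ : Cfsg.IrrCharacter G, if χ ∈ B then z χ ^ 2 else 0) = 4 := by
    apply Int.cast_injective (α := ℂ)
    push_cast
    rw [← hsec 1 (by rw [orderOf_one]; decide)]
    refine Finset.sum_congr rfl fun χ _ => ?_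
    simp only [OneMemClass.coe_one, mul_one, hz, map_intCast, sq]
  have hz1 : z one = 1 := by
    apply Int.cast_injective (α := ℂ)
    rw [← hz]
    simp [honedef, CfsgLib.PrincipalBlock.trivChar]
  have hrest : ∀ χ ∈ B, χ ≠ one → z χ ^ 2 ≤ 1 := by
    intro χ hχ hne
    have h2 := Finset.sum_le_sum_of_subset_of_nonneg
      (f := fun φ => if φ ∈ B then z φ ^ 2 else 0)
      (Finset.subset_univ ({one, χ} : Finset (Cfsg.IrrCharacter G))) fun φ _ _ => by
        split_ifs <;> positivity
    rw [hsum4, Finset.sum_pair (Ne.symm hne), if_pos h1B, if_pos hχ, hz1] at h2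
    have h3 : z χ ≤ 1 ∧ -1 ≤ z χ := by constructor <;> nlinarith
    nlinarith
  have hlow : (4 : ℤ) ≤ Nat.card B := by
    have hle1 : (∑ χ : Cfsg.IrrCharacter G, if χ ∈ B then z χ ^ 2 else 0) ≤
        ∑ χ : Cfsg.IrrCharacter G, if χ ∈ B then (1 : ℤ) else 0 := by
      refine Finset.sum_le_sum fun χ _ => ?_
      split_ifs with hχ
      · by_cases h : χ = one
        · rw [h, hz1, one_pow]
        · exact hrest χ hχ h
      · exact le_rfl
    rw [hsum4, Finset.sum_boole] at hle1
    rwa [Nat.card_eq_fintype_card, Fintype.card_subtype]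
  rw [hc3] at hle
  have hk : Nat.card B = 4 := by push_cast at hle; omega
  rw [hk] at hrank
  apply Nat.cast_injective (R := ℂ)
  rw [hrank]
  norm_num

end Cfsg.Agent.S4512
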