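import Cfsg.Statements.S4640
import Cfsg.Agent.BlocksLocal.MajorExists
import Cfsg.Agent.BlocksLocal.Fong
import Cfsg.Agent.BlocksLocal.Knorr
import Cfsg.Agent.BlocksLocal.CoverAll
import Cfsg.Agent.BlocksFrobenius.Dual
import Cfsg.Agent.BlocksCharsC.RegularSupport
import Cfsg.Agent.Characters.Linear
import Cfsg.Agent.Characters.Induction

set_option autoImplicit false
open Cfsg CfsgLib.Blocks CfsgLib.BlocksLocal

namespace Cfsg.Agent.S4640

/-- An irreducible character times a linear character is irreducible. -/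
theorem isIrr_twist {G : Type*} [Group G] [Fintype G] (f : G →* ℂˣ) (χ : Cfsg.IrrCharacter G) :
    Cfsg.IsIrrCharacter G (fun g => (f g : ℂ) * (χ : G → ℂ) g) := by
  refine CfsgLib.Characters.isIrr_of_classInner_self (CfsgLib.Characters.isCharacter_mul
    (CfsgLib.Characters.isCharacter_of_isIrr (CfsgLib.Characters.isIrr_linChar f))
    (CfsgLib.Characters.isCharacter_of_isIrr χ.2)) ?_
  rw [← CfsgLib.Characters.classInner_isIrr_self χ.2]
  simp only [Cfsg.classInner]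
  congr 1
  refine Finset.sum_congr rfl fun g _ => ?_
  rw [map_mul, CfsgLib.BlocksFrobenius.conj_apply, MonoidHom.inv_apply, Units.val_inv_eq_inv_val,
    mul_mul_mul_comm, mul_inv_cancel₀ (Units.ne_zero _), one_mul]

/-- Let N be a normal subgroup of the finite group G of index a power of the prime p, M a maximal ideal of the algebraic integers containing p, b a block of N stabilized by every element of G, and B a block of G covering b (some member of B has a member of b as a constituent of its restriction to N). Suppose that B has a commutative defect group P. Then G = NP and P ∩ N is a defect group of b; every member of B restricts to a member of b; every member of b is the restriction of exactly [G : N] members of B; B contains exactly [G : N] times as many irreducible characters as b; and B and b have the same p-regular rank. -/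
theorem result {G : Type*} [Group G] [Fintype G] (p : ℕ) [Fact p.Prime] (M : Ideal Cfsg.AlgInt) (hM : Cfsg.IsPModular p M) (N : Subgroup G) [N.Normal] [Fintype N] (hNi : ∃ k : ℕ, N.index = p ^ k) (b : Set (Cfsg.IrrCharacter N)) (hb : Cfsg.IsPBlock M b) (hstab : ∀ g : G, Cfsg.StabilizesBlock N b g) (B : Set (Cfsg.IrrCharacter G)) (hB : Cfsg.IsPBlock M B) (hcov : ∃ χ ∈ B, ∃ θ ∈ b, Cfsg.classInner (fun n : N => (χ : G → ℂ) n) (θ : N → ℂ) ≠ 0) (P : Subgroup G) (hPD : Cfsg.IsDefectGroup p M B P) (hPab : ∀ x ∈ P, ∀ y ∈ P, x * y = y * x) : N ⊔ P = ⊤ ∧ Cfsg.IsDefectGroup p M b ((P ⊓ N).subgroupOf N) ∧ (∀ χ ∈ B, ∃ θ ∈ b, ∀ n : N, (χ : G → ℂ) n = (θ : N → ℂ) n) ∧ (∀ θ ∈ b, Nat.card {χ : Cfsg.IrrCharacter G // χ ∈ B ∧ ∀ n : N, (χ : G → ℂ) n = (θ : N → ℂ) n} = N.index) ∧ Nat.card B = N.index * Nat.card b ∧ Cfsg.blockRank p B = Cfsg.blockRank p b := by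
  classical
  haveI : M.IsPrime := CfsgLib.Blocks.IsPModular.isPrime hM
  obtain ⟨k, hk⟩ := hNi
  have hreg : ∀ y : G, ¬ p ∣ orderOf y → y ∈ N := by
    intro y hy
    rw [← QuotientGroup.eq_one_iff, ← orderOf_eq_one_iff, ← Nat.dvd_one]
    have h1 : orderOf (y : G ⧸ N) ∣ Nat.gcd (orderOf y) (p ^ k) :=
      Nat.dvd_gcd (orderOf_map_dvd (QuotientGroup.mk' N) y)
        (hk ▸ N.index_eq_card ▸ orderOf_dvd_natCard _)
    rwa [((Fact.out : p.Prime).coprime_iff_not_dvd.2 hy).pow_left k |>.symm.gcd_eq_one] at h1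
  have hinv : ∀ g : G, ∀ θ ∈ b, conjIrr N θ g ∈ b := by
    intro g θ hθ
    obtain ⟨θ', hθ', hc⟩ := (hstab g⁻¹).2 θ hθ
    have e : conjIrr N θ g = θ' := Subtype.ext (funext fun n => by
      show (θ : N → ℂ) ⟨g * (n : G) * g⁻¹, _⟩ = _
      exact (hc ⟨g * (n : G) * g⁻¹, Subgroup.Normal.conj_mem ‹N.Normal› n n.2 g⟩ n (by
        show (n : G) = g⁻¹ * (g * (n : G) * g⁻¹) * g⁻¹⁻¹
        group)).symm)
    rwa [e]
  -- a single block lies over `b`
  obtain ⟨χ₀, hχ₀, θ₀, hθ₀, hne₀⟩ := hcov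
  have hsame : ∀ (χ : Cfsg.IrrCharacter G) (θ : Cfsg.IrrCharacter N), θ ∈ b →
      Cfsg.classInner (fun n : N => (χ : G → ℂ) n) (θ : N → ℂ) ≠ 0 → χ ∈ B := by
    intro χ θ hθ hne
    rw [eq_blockOf_of_mem hB hχ₀, mem_blockOf]
    refine CfsgLib.BlocksCharsC.sameBlock_of_regular hM fun g hg => ?_
    obtain ⟨n, rfl⟩ : ∃ n : N, (n : G) = g := ⟨⟨g, hreg g hg⟩, rfl⟩
    have h1 := omegaBar_classSum_eq_of_covers (M := M) N hne₀ n
    have h2 := omegaBar_classSum_eq_of_covers (M := M) N hne n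
    have hs : omegaBar M θ₀ = omegaBar M θ := (sameBlock_iff θ₀ θ).1
      (mem_blockOf.1 (eq_blockOf_of_mem hb hθ₀ ▸ hθ))
    rw [hs, ← h2, omegaBar_classSum, omegaBar_classSum] at h1
    exact red_eq_red_iff.1 h1
  obtain ⟨hidx, hdef, -⟩ := fong N hM hb hinv hB ⟨χ₀, hχ₀, θ₀, hθ₀, hne₀⟩
    (fun B' hB' ⟨χ', hχ', θ', hθ', hne'⟩ => by
      rw [isPBlock_eq_of_mem hB' hB hχ' (hsame χ' θ' hθ' hne')]) hPD
  have htop : N ⊔ P = ⊤ := by
    rw [sup_comm, ← Subgroup.index_eq_one]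
    have hd : (P ⊔ N).index ∣ p ^ k := hk ▸ Subgroup.index_dvd_of_le le_sup_right
    exact Nat.eq_one_of_dvd_coprimes
      (((Fact.out : p.Prime).coprime_iff_not_dvd.2 hidx).symm.pow_right k) dvd_rfl hd
  refine ⟨htop, hdef, ?_⟩
  -- the abelian quotient
  have hsurj : ∀ q : G ⧸ N, ∃ u ∈ P, (u : G ⧸ N) = q := by
    intro q
    obtain ⟨g, rfl⟩ := QuotientGroup.mk_surjective q
    have hg : g ∈ N ⊔ P := htop ▸ Subgroup.mem_top g
    obtain ⟨n, hn, u, hu, rfl⟩ := Subgroup.mem_sup_of_normal_left.1 hg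
    exact ⟨u, hu, by rw [QuotientGroup.mk_mul, (QuotientGroup.eq_one_iff n).2 hn, one_mul]⟩
  haveI : IsMulCommutative (G ⧸ N) := ⟨⟨fun q r => by
    obtain ⟨u, hu, rfl⟩ := hsurj q
    obtain ⟨v, hv, rfl⟩ := hsurj r
    rw [← QuotientGroup.mk_mul, ← QuotientGroup.mk_mul, hPab u hu v hv]⟩⟩
  haveI := CfsgLib.BlocksFrobenius.finite_dual (A := G ⧸ N)
  haveI := Fintype.ofFinite ((G ⧸ N) →* ℂˣ)
  let tw : ((G ⧸ N) →* ℂˣ) → Cfsg.IrrCharacter G → Cfsg.IrrCharacter G := fun f χ =>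
    ⟨_, isIrr_twist (f.comp (QuotientGroup.mk' N)) χ⟩
  have htwN : ∀ f χ (n : N), (tw f χ : G → ℂ) n = (χ : G → ℂ) n := fun f χ n => by
    show ((f ((n : G) : G ⧸ N)) : ℂ) * _ = _
    rw [(QuotientGroup.eq_one_iff (n : G)).2 n.2, map_one, Units.val_one, one_mul]
  have hfix : ∀ χ ∈ B, ∀ f : (G ⧸ N) →* ℂˣ, tw f χ = χ → f = 1 := by
    intro χ hχ f hf
    refine MonoidHom.ext fun q => ?_
    obtain ⟨u, hu, rfl⟩ := hsurj q
    obtain ⟨y, -, hy, hne⟩ := exists_section_apply_ne_zero hM hB hPD hu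
      (fun w hw => hPab u hu w hw) hχ
    have h := congrArg (fun ψ : Cfsg.IrrCharacter G => (ψ : G → ℂ) (u * y)) hf
    have e : ((u * y : G) : G ⧸ N) = (u : G ⧸ N) := by
      rw [QuotientGroup.mk_mul, (QuotientGroup.eq_one_iff y).2 (hreg y hy), mul_one]
    change ((f ((u * y : G) : G ⧸ N)) : ℂ) * _ = _ at h
    rw [e] at h
    exact Units.ext (by simpa using (mul_eq_right₀ hne).1 h)
  -- orthogonality on the restriction
  have hdual : ∀ χ ψ : Cfsg.IrrCharacter G,
      Cfsg.classInner (fun n : N => (χ : G → ℂ) n) (fun n : N => (ψ : G → ℂ) n) =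
        ∑ f : (G ⧸ N) →* ℂˣ, Cfsg.classInner (tw f χ : G → ℂ) (ψ : G → ℂ) := by
    intro χ ψ
    simp only [Cfsg.classInner, ← Finset.mul_sum]
    rw [Finset.sum_comm]
    have hstep : ∀ g : G, ∑ f : (G ⧸ N) →* ℂˣ, (tw f χ : G → ℂ) g * (starRingEnd ℂ) ((ψ : G → ℂ) g) =
        if g ∈ N then (N.index : ℂ) * ((χ : G → ℂ) g * (starRingEnd ℂ) ((ψ : G → ℂ) g)) else 0 := by
      intro g
      show ∑ f : (G ⧸ N) →* ℂˣ, ((f (g : G ⧸ N)) : ℂ) * (χ : G → ℂ) g * _ = _
      rw [← Finset.sum_mul, ← Finset.sum_mul, CfsgLib.BlocksFrobenius.sum_dual_apply,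
        ← Subgroup.index_eq_card]
      simp only [QuotientGroup.eq_one_iff]
      split_ifs <;> ring
    rw [Finset.sum_congr rfl fun g _ => hstep g, ← Finset.sum_filter,
      Finset.sum_subtype _ (p := fun g => g ∈ N) (by simp)
        (fun g => (N.index : ℂ) * ((χ : G → ℂ) g * (starRingEnd ℂ) ((ψ : G → ℂ) g))),
      ← Finset.mul_sum, ← mul_assoc]
    congr 1
    have hG : (Nat.card G : ℂ) = (N.index : ℂ) * Nat.card N := by
      rw [← Nat.cast_mul, Subgroup.index_mul_card]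
    have hi : (N.index : ℂ) ≠ 0 := Nat.cast_ne_zero.2 Subgroup.index_ne_zero_of_finite
    have hc : (Nat.card N : ℂ) ≠ 0 := Nat.cast_ne_zero.2 Nat.card_pos.ne'
    rw [hG]
    field_simp
  have hirr : ∀ χ ∈ B, Cfsg.IsIrrCharacter N (fun n : N => (χ : G → ℂ) n) := by
    intro χ hχ
    refine CfsgLib.Characters.isIrr_of_classInner_self (CfsgLib.Characters.isCharacter_restrict N
      (CfsgLib.Characters.isCharacter_of_isIrr χ.2)) ?_
    rw [hdual, Finset.sum_eq_single 1]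
    · have : tw 1 χ = χ := Subtype.ext (funext fun g => by
        show (((1 : (G ⧸ N) →* ℂˣ) (g : G ⧸ N)) : ℂ) * _ = _
        simp)
      rw [this]
      exact CfsgLib.Characters.classInner_isIrr_self χ.2
    · intro f _ hf
      rw [CfsgLib.Characters.classInner_irr, if_neg fun h => hf (hfix χ hχ f h)]
    · simp
  let res : ∀ χ ∈ B, Cfsg.IrrCharacter N := fun χ hχ => ⟨_, hirr χ hχ⟩
  have hres : ∀ χ (hχ : χ ∈ B), res χ hχ ∈ b := by
    intro χ hχ
    have hself : Cfsg.classInner (fun n : N => (χ : G → ℂ) n) (res χ hχ : N → ℂ) ≠ 0 := by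
      rw [show Cfsg.classInner (fun n : N => (χ : G → ℂ) n) (res χ hχ : N → ℂ) = 1 from
        CfsgLib.Characters.classInner_isIrr_self (res χ hχ).2]
      exact one_ne_zero
    obtain ⟨g, θ, hθ, e⟩ := mem_coverSet_of_covers (M := M) N hB hb hχ₀ hθ₀ hne₀ hχ hself
    rw [e]
    exact hinv g θ hθ
  refine ⟨fun χ hχ => ⟨res χ hχ, hres χ hχ, fun n => rfl⟩, ?_⟩
  have hcount : ∀ θ ∈ b, Nat.card {χ : Cfsg.IrrCharacter G //
      χ ∈ B ∧ ∀ n : N, (χ : G → ℂ) n = (θ : N → ℂ) n} = N.index := by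
    intro θ hθ
    obtain ⟨χ, hχ, hne⟩ := CoverAll.exists_over hB hb ⟨χ₀, hχ₀, θ₀, hθ₀, hne₀⟩ θ hθ
    have he : res χ hχ = θ := by
      by_contra hcon
      apply hne
      show Cfsg.classInner (res χ hχ : N → ℂ) (θ : N → ℂ) = 0
      rw [CfsgLib.Characters.classInner_irr, if_neg hcon]
    have hv : ∀ n : N, (χ : G → ℂ) n = (θ : N → ℂ) n := fun n =>
      congrFun (congrArg Subtype.val he) n
    have hin : ∀ f, tw f χ ∈ B := fun f => hsame _ θ hθ (by
      rw [show (fun n : N => (tw f χ : G → ℂ) n) = (θ : N → ℂ) from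
        funext fun n => (htwN f χ n).trans (hv n), CfsgLib.Characters.classInner_isIrr_self θ.2]
      exact one_ne_zero)
    rw [Subgroup.index_eq_card, ← CfsgLib.BlocksFrobenius.card_dual (A := G ⧸ N)]
    refine (Nat.card_congr (Equiv.ofBijective (fun f => (⟨tw f χ, hin f, fun n =>
      (htwN f χ n).trans (hv n)⟩ : {χ : Cfsg.IrrCharacter G //
        χ ∈ B ∧ ∀ n : N, (χ : G → ℂ) n = (θ : N → ℂ) n})) ⟨fun f f' h => ?_, ?_⟩)).symm
    · have h' : tw f χ = tw f' χ := congrArg Subtype.val h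
      have hm : tw (f'⁻¹ * f) χ = χ := Subtype.ext (funext fun g => by
        have := congrArg (fun ψ : Cfsg.IrrCharacter G => (ψ : G → ℂ) g) h'
        change ((f (g : G ⧸ N)) : ℂ) * _ = ((f' (g : G ⧸ N)) : ℂ) * _ at this
        show (((f'⁻¹ * f) (g : G ⧸ N)) : ℂ) * _ = _
        rw [MonoidHom.mul_apply, MonoidHom.inv_apply, Units.val_mul, mul_assoc, this, ← mul_assoc,
          Units.inv_mul, one_mul])
      exact (inv_mul_eq_one.1 (hfix χ hχ _ hm)).symm
    · rintro ⟨ψ, hψ, hψv⟩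
      have h1 : Cfsg.classInner (fun n : N => (χ : G → ℂ) n) (fun n : N => (ψ : G → ℂ) n) = 1 := by
        rw [show (fun n : N => (χ : G → ℂ) n) = (θ : N → ℂ) from funext hv,
          show (fun n : N => (ψ : G → ℂ) n) = (θ : N → ℂ) from funext hψv,
          CfsgLib.Characters.classInner_isIrr_self θ.2]
      rw [hdual] at h1
      by_contra hno
      push Not at hno
      rw [Finset.sum_eq_zero fun f _ => by
        rw [CfsgLib.Characters.classInner_irr, if_neg fun h => hno f (Subtype.ext h)]] at h1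
      exact zero_ne_one h1
  refine ⟨hcount, ?_, ?_⟩
  · haveI := Fintype.ofFinite b
    let e : B ≃ Σ θ : b, {χ : Cfsg.IrrCharacter G //
        χ ∈ B ∧ ∀ n : N, (χ : G → ℂ) n = ((θ : Cfsg.IrrCharacter N) : N → ℂ) n} :=
      { toFun := fun χ => ⟨⟨res χ.1 χ.2, hres χ.1 χ.2⟩, χ.1, χ.2, fun n => rfl⟩
        invFun := fun s => ⟨s.2.1, s.2.2.1⟩
        left_inv := fun χ => rfl
        right_inv := by
          rintro ⟨⟨θ, hθ⟩, χ, hχ, hv⟩
          obtain rfl : res χ hχ = θ := Subtype.ext (funext hv)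
          rfl }
    rw [Nat.card_congr e, Nat.card_sigma, Finset.sum_congr rfl fun θ _ => hcount θ.1 θ.2,
      Finset.sum_const, Finset.card_univ, ← Nat.card_eq_fintype_card, smul_eq_mul, mul_comm]
  · -- the p-regular rank
    unfold Cfsg.blockRank
    let L : (N → ℂ) →ₗ[ℂ] (G → ℂ) :=
      { toFun := fun φ g => if h : g ∈ N then φ ⟨g, h⟩ else 0
        map_add' := fun a c => funext fun g => by by_cases h : g ∈ N <;> simp [h]
        map_smul' := fun r a => funext fun g => by by_cases h : g ∈ N <;> simp [h] }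
    have hL : Function.Injective L := fun a c h => funext fun n => by
      have := congrFun h (n : G)
      simpa [L, n.2] using this
    have hkey : ∀ χ (hχ : χ ∈ B), Cfsg.pRegularPart p (χ : G → ℂ) =
        L (Cfsg.pRegularPart p (res χ hχ : N → ℂ)) := by
      intro χ hχ
      funext g
      by_cases hg : g ∈ N
      · simp [L, hg, res, Cfsg.pRegularPart, Cfsg.IsPRegular, Subgroup.orderOf_mk, ite_not]
        split_ifs <;> simp_all
      · have : ¬ Cfsg.IsPRegular p g := fun h => hg (hreg g h)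
        simp [L, hg, Cfsg.pRegularPart, this]
    have himg : (fun χ : Cfsg.IrrCharacter G => Cfsg.pRegularPart p (χ : G → ℂ)) '' B =
        L '' ((fun θ : Cfsg.IrrCharacter N => Cfsg.pRegularPart p (θ : N → ℂ)) '' b) := by
      ext φ
      constructor
      · rintro ⟨χ, hχ, rfl⟩
        exact ⟨_, ⟨res χ hχ, hres χ hχ, rfl⟩, (hkey χ hχ).symm⟩
      · rintro ⟨_, ⟨θ, hθ, rfl⟩, rfl⟩
        obtain ⟨χ, hχ, hne⟩ := CoverAll.exists_over hB hb ⟨χ₀, hχ₀, θ₀, hθ₀, hne₀⟩ θ hθ
        have he : res χ hχ = θ := by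
          by_contra hcon
          apply hne
          show Cfsg.classInner (res χ hχ : N → ℂ) (θ : N → ℂ) = 0
          rw [CfsgLib.Characters.classInner_irr, if_neg hcon]
        exact ⟨χ, hχ, by rw [← he]; exact hkey χ hχ⟩
    rw [himg, ← Submodule.map_span]
    exact (Submodule.equivMapOfInjective L hL _).finrank_eq.symm

end Cfsg.Agent.S4640
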