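import Cfsg.Statements.S4646
import Cfsg.Agent.PrincipalBlock.Basic
import Cfsg.Agent.Transfer.Frobenius

set_option autoImplicit false
open Cfsg CfsgLib.Blocks CfsgLib.PrincipalBlock

namespace Cfsg.Agent.S4646

section aux

universe u

variable {G : Type u} [Group G] [Fintype G] {M : Ideal AlgInt} {p : ℕ} [Fact p.Prime] [M.IsPrime]

theorem centralizer_normalised {Q : Subgroup G} {g : G}
    (hg : g ∈ Subgroup.normalizer (Q : Set G)) :
    g ∈ Subgroup.normalizer (Subgroup.centralizer (Q : Set G) : Set G) := by
  have h : ∀ y ∈ Subgroup.normalizer (Q : Set G), ∀ c ∈ Subgroup.centralizer (Q : Set G),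
      y * c * y⁻¹ ∈ Subgroup.centralizer (Q : Set G) := by
    intro y hy c hc
    rw [Subgroup.mem_centralizer_iff] at hc ⊢
    intro q hq
    have hq' : y⁻¹ * q * y ∈ Q := (Subgroup.mem_normalizer_iff''.mp hy q).mp hq
    calc q * (y * c * y⁻¹) = y * ((y⁻¹ * q * y) * c) * y⁻¹ := by group
      _ = y * (c * (y⁻¹ * q * y)) * y⁻¹ := by rw [hc _ hq']
      _ = _ := by group
  rw [Subgroup.mem_normalizer_iff]
  refine fun c => ⟨h g hg c, fun hc => ?_⟩
  simpa [mul_assoc] using h g⁻¹ (inv_mem hg) _ hc

/-- An element normalising a subgroup stabilises its principal block. -/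
theorem stabilizesBlock_principal (K : Subgroup G) {g : G}
    (hg : g ∈ Subgroup.normalizer (K : Set G)) :
    StabilizesBlock K (Cfsg.principalBlock M K) g := by
  classical
  refine ⟨hg, fun ξ hξ => ?_⟩
  have hm : ∀ k : K, g⁻¹ * (k : G) * g ∈ K := fun k =>
    (Subgroup.mem_normalizer_iff''.mp hg _).mp k.2
  have hm' : ∀ k : K, g * (k : G) * g⁻¹ ∈ K := fun k =>
    (Subgroup.mem_normalizer_iff.mp hg _).mp k.2
  let e : K ≃* K :=
    { toFun := fun k => ⟨g⁻¹ * (k : G) * g, hm k⟩
      invFun := fun k => ⟨g * (k : G) * g⁻¹, hm' k⟩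
      left_inv := fun k => Subtype.ext (by group)
      right_inv := fun k => Subtype.ext (by group)
      map_mul' := fun a b => Subtype.ext (by simp [mul_assoc]) }
  have hchar : IsCharacter K ((ξ : K → ℂ) ∘ e) :=
    CfsgLib.Characters.isCharacter_comp e.toMonoidHom (CfsgLib.Characters.isCharacter_of_isIrr ξ.2)
  have h1 : classInner ((ξ : K → ℂ) ∘ e) ((ξ : K → ℂ) ∘ e) = 1 := by
    rw [← CfsgLib.Characters.classInner_isIrr_self ξ.2]
    simp only [classInner, Function.comp]
    exact congrArg _ (Fintype.sum_equiv e.toEquiv _ _ fun x => rfl)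
  refine ⟨⟨(ξ : K → ℂ) ∘ e, CfsgLib.Characters.isIrr_of_classInner_self hchar h1⟩, ?_, ?_⟩
  · intro k
    have hidx : (Subgroup.centralizer ({e k} : Set K)).index =
        (Subgroup.centralizer ({k} : Set K)).index := by
      have : (Subgroup.centralizer ({k} : Set K)) =
          (Subgroup.centralizer ({e k} : Set K)).comap e.toMonoidHom := by
        ext c
        simp [Subgroup.mem_centralizer_singleton_iff, ← map_mul]
      rw [this, Subgroup.index_comap_of_surjective _ e.surjective]
    have := hξ (e k)
    simp only [centralChar, Function.comp, map_one, mul_one, div_one, hidx] at this ⊢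
    exact this
  · intro k k' h
    show (ξ : K → ℂ) (e k') = (ξ : K → ℂ) k
    refine congrArg _ (Subtype.ext ?_)
    show g⁻¹ * (k' : G) * g = k
    rw [h]; group

/-- Every pair `(Q, principal block of C(Q))` is a Brauer pair of the principal block. -/
theorem isBrauerPairOf_principal (hM : IsPModular p M) (Q : Subgroup G) (hQ : IsPGroup p Q) :
    IsBrauerPairOf p M (Cfsg.principalBlock M G) Q
      (Cfsg.principalBlock M (Subgroup.centralizer (Q : Set G))) := by
  classical
  haveI := charP_res hM
  set C := Subgroup.centralizer (Q : Set G) with hC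
  set B := Cfsg.principalBlock M G
  refine ⟨⟨hQ, isPBlock_principalBlock⟩, isPBlock_principalBlock, fun ξ hξ => ?_⟩
  let z : Ctr (localRing M) C := ⟨ofFun fun x => ⟨blockCoeff B x, memLocalRing_principalCoeff _⟩,
    mem_ctr_iff.mpr fun x h => Subtype.ext (by simpa using blockCoeff_conj B (x : G) (h : G))⟩
  have hz : brauerOmega Q (blockCoeff B) (ξ : C → ℂ) = (omegaO M ξ z : ℂ) := by
    rw [coe_omegaO, omega_apply, brauerOmega, finsum_eq_sum_of_fintype, Finset.sum_div]
    exact Finset.sum_congr rfl fun x _ => by simp [z, toC]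
  rw [hz]
  change MemLocalIdeal M ((omegaO M ξ z : ℂ) - ((1 : localRing M) : ℂ))
  rw [← red_eq_red_iff, ← omegaBar_redCtr, mem_principalBlock_iff.mp hξ, omegaBar_trivChar]
  set f : G → Res M := fun g => red M ⟨blockCoeff B g, memLocalRing_principalCoeff g⟩ with hf
  have hall : ∑ g : G, f g = red M 1 := by
    rw [hf, ← map_sum]
    refine congrArg _ (Subtype.ext ?_)
    rw [AddSubmonoidClass.coe_finsetSum]
    exact sum_blockCoeff
  rw [← hall]
  have hout : ∑ g : G, (if g ∈ C then 0 else f g) = 0 := by
    refine sum_eq_zero_of_no_fixed (p := p) (hQ.map ConjAct.toConjAct.toMonoidHom) _ ?_ ?_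
    · rintro ⟨_, q, hq, rfl⟩ y hne
      have hy : y ∉ C := fun h => hne (if_pos h)
      show (if q * y * q⁻¹ ∈ C then 0 else f (q * y * q⁻¹)) = _
      have hqy : q * y * q⁻¹ ∉ C := by
        intro h
        apply hy
        have hc := centralizer_normalised (Q.le_normalizer hq)
        exact (Subgroup.mem_normalizer_iff.mp hc y).mpr h
      rw [if_neg hqy, if_neg hy, hf]
      exact congrArg _ (Subtype.ext (blockCoeff_conj B y q))
    · intro y hne
      have hy : y ∉ C := fun h => hne (if_pos h)
      rw [hC, Subgroup.mem_centralizer_iff] at hy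
      push Not at hy
      obtain ⟨q, hq, hqy⟩ := hy
      refine ⟨⟨_, q, hq, rfl⟩, fun h => hqy ?_⟩
      have h : q * y * q⁻¹ = y := h
      rwa [mul_inv_eq_iff_eq_mul] at h
  rw [← sub_zero (∑ g : G, f g), ← hout, ← Finset.sum_sub_distrib]
  have h2 : ∀ g : G, f g - (if g ∈ C then 0 else f g) = if g ∈ C then f g else 0 := by
    intro g; split_ifs <;> simp
  rw [Finset.sum_congr rfl fun g _ => h2 g, ← Finset.sum_filter]
  refine Eq.trans ?_ (Finset.sum_subtype (F := inferInstance) _ (p := fun x => x ∈ C)
    (fun x => by simp) f).symm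
  exact Finset.sum_congr rfl fun x _ => by simp [z, hf, redCtr]

end aux

/-- For a finite group G, a prime p and a maximal ideal M of the algebraic integers containing p: the principal block of G is nilpotent if and only if its p-regular rank is 1 (the trivial Brauer character is its only irreducible Brauer character). -/
theorem result {G : Type*} [Group G] [Finite G] (p : ℕ) [Fact p.Prime] (M : Ideal Cfsg.AlgInt) (hM : Cfsg.IsPModular p M) : Cfsg.IsNilpotentBlock p M (Cfsg.principalBlock M G) ↔ Cfsg.blockRank p (Cfsg.principalBlock M G) = 1 := by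
  classical
  haveI := Fintype.ofFinite G
  haveI : M.IsPrime := hM.2.1.isPrime
  set B := Cfsg.principalBlock M G with hB
  have hreg : ∀ {g : G}, IsPRegular p g → Nat.Coprime (orderOf g) p := fun {g} hg =>
    ((Fact.out : p.Prime).coprime_iff_not_dvd.mpr hg).symm
  constructor
  · rintro ⟨-, hnil⟩
    have hcomp : HasNormalPComplement p G := by
      obtain ⟨P⟩ : Nonempty (Sylow p G) := inferInstance
      refine CfsgLib.Transfer.hasNormalPComplement_of_local P fun Q hQ g hg hgp => ?_
      refine hnil Q _ (isBrauerPairOf_principal hM Q (P.isPGroup'.to_le hQ)) g hg ?_ ?_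
      · exact stabilizesBlock_principal _
          (centralizer_normalised hg)
      · intro hd
        exact (Fact.out : p.Prime).one_lt.ne' (Nat.eq_one_of_dvd_coprimes hgp hd dvd_rfl)
    set K := Cfsg.pResidual p G
    have hK : ¬ p ∣ Nat.card K := CfsgLib.Transfer.hasNormalPComplement_iff.mp hcomp
    have hval : ∀ χ ∈ B, pRegularPart p (χ : G → ℂ) =
        ((χ : G → ℂ) 1) • pRegularPart p (fun _ : G => (1 : ℂ)) := by
      intro χ hχ
      funext g
      simp only [pRegularPart, Pi.smul_apply, smul_eq_mul]
      split_ifs with hg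
      · rw [mul_one]
        exact mem_charKer.mp (le_charKer_of_mem hM K hK hχ
          ((CfsgLib.Transfer.mem_pResidual_iff hcomp).mpr (hreg hg)))
      · rw [mul_zero]
    have hspan : Submodule.span ℂ ((fun χ : IrrCharacter G => pRegularPart p (χ : G → ℂ)) '' B) =
        ℂ ∙ pRegularPart p (fun _ : G => (1 : ℂ)) := by
      refine le_antisymm (Submodule.span_le.mpr ?_) (Submodule.span_le.mpr ?_)
      · rintro _ ⟨χ, hχ, rfl⟩
        exact Submodule.mem_span_singleton.mpr ⟨_, (hval χ hχ).symm⟩
      · rw [Set.singleton_subset_iff]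
        exact Submodule.subset_span ⟨trivChar G, trivChar_mem, rfl⟩
    rw [blockRank, hspan, finrank_span_singleton]
    intro h0
    have := congrFun h0 1
    simp [pRegularPart, IsPRegular, (Fact.out : p.Prime).ne_one] at this
  · intro hl
    refine ⟨isPBlock_principalBlock, fun Q e he x hx _ hxp => ?_⟩
    set K := setKer B
    have hKreg : ∀ g : G, IsPRegular p g → g ∈ K := by
      intro g hg
      rw [mem_setKer]
      intro χ hχ
      set S := Submodule.span ℂ ((fun χ : IrrCharacter G => pRegularPart p (χ : G → ℂ)) '' B)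
      have hne : (⟨pRegularPart p (fun _ : G => (1 : ℂ)),
          Submodule.subset_span ⟨trivChar G, trivChar_mem, rfl⟩⟩ : S) ≠ 0 := by
        intro h0
        have := congrFun (congrArg Subtype.val h0) 1
        simp [pRegularPart, IsPRegular, (Fact.out : p.Prime).ne_one] at this
      obtain ⟨c, hc⟩ := (finrank_eq_one_iff_of_nonzero' _ hne).mp hl
        ⟨pRegularPart p (χ : G → ℂ), Submodule.subset_span ⟨χ, hχ, rfl⟩⟩
      have h1 : ∀ y : G, IsPRegular p y → (χ : G → ℂ) y = c := by
        intro y hy
        have := congrFun (congrArg Subtype.val hc) y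
        simp [pRegularPart, hy] at this
        exact this.symm
      rw [h1 g hg, h1 1 (by simp [IsPRegular, (Fact.out : p.Prime).ne_one])]
    have hcomp : HasNormalPComplement p G := by
      refine CfsgLib.Transfer.hasNormalPComplement_of_normal K (not_dvd_card_setKer hM) ?_
      intro q
      obtain ⟨y, rfl⟩ := QuotientGroup.mk_surjective q
      refine ⟨(orderOf y).factorization p, ?_⟩
      rw [← QuotientGroup.mk_pow, QuotientGroup.eq_one_iff]
      refine hKreg _ ?_
      rw [IsPRegular, orderOf_pow, Nat.gcd_eq_right (Nat.ordProj_dvd _ _)]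
      exact Nat.not_dvd_ordCompl (Fact.out : p.Prime) (orderOf_pos y).ne'
    exact CfsgLib.Transfer.mem_centralizer_of_hasNormalPComplement hcomp he.1.1 hx (hreg hxp)

end Cfsg.Agent.S4646
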