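import Cfsg.Statements.S4652
import Cfsg.Agent.PrincipalBlock.Basic

set_option autoImplicit false
open Cfsg CfsgLib.Blocks CfsgLib.PrincipalBlock
open scoped Pointwise

namespace Cfsg.Agent.S4652

/-- Fix a prime p and a maximal ideal M of the algebraic integers containing p. The defect groups of the principal p-block of a finite group G are exactly the Sylow p-subgroups of G: a subgroup D is a defect group of the principal block if and only if D is a Sylow p-subgroup. -/
theorem result {G : Type*} [Group G] [Fintype G] (p : ℕ) [Fact p.Prime] (M : Ideal Cfsg.AlgInt) (hM : Cfsg.IsPModular p M) (D : Subgroup G) : Cfsg.IsDefectGroup p M (Cfsg.principalBlock M G) D ↔ ∃ S : Sylow p G, (S : Subgroup G) = D := by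
  classical
  haveI : M.IsPrime := hM.2.1.isPrime
  haveI : Fact p.Prime := ⟨hM.1⟩
  set B := Cfsg.principalBlock M G with hB
  have hdef : ∀ g : G, Cfsg.IsDefectClass M B g ↔
      (¬ MemLocalIdeal M (blockCoeff B g) ∧ ¬ p ∣ (Subgroup.centralizer ({g} : Set G)).index) := by
    intro g
    have hone : MemLocalIdeal M (centralChar ((trivChar G : IrrCharacter G) : G → ℂ) g) ↔
        p ∣ (Subgroup.centralizer ({g} : Set G)).index := by
      rw [← memLocalIdeal_natCast_iff hM]
      simp [centralChar]
    constructor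
    · rintro ⟨-, h2, h3⟩
      exact ⟨h2, fun hd => h3 _ trivChar_mem (hone.mpr hd)⟩
    · rintro ⟨h2, h3⟩
      refine ⟨memLocalRing_principalCoeff g, h2, fun χ hχ hd => h3 (hone.mp ?_)⟩
      have hs : SameBlock M ((trivChar G : IrrCharacter G) : G → ℂ) (χ : G → ℂ) := hχ
      simpa using memLocalIdeal_add (hs g) hd
  have hsylow : ∀ g : G, Cfsg.IsDefectClass M B g → ∀ P : Sylow p (Subgroup.centralizer ({g} : Set G)),
      ¬ p ∣ ((P : Subgroup (Subgroup.centralizer ({g} : Set G))).map
        (Subgroup.centralizer ({g} : Set G)).subtype).index := by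
    intro g hg P
    rw [Subgroup.index_map_subtype]
    exact hM.1.not_dvd_mul P.not_dvd_index ((hdef g).mp hg).2
  constructor
  · rintro ⟨g, hg, P, rfl⟩
    exact ⟨(P.isPGroup'.map _).toSylow (hsylow g hg P), rfl⟩
  · rintro ⟨S, rfl⟩
    obtain ⟨g, hg⟩ : ∃ g : G, Cfsg.IsDefectClass M B g := by
      by_contra hne
      push Not at hne
      have h1 := sum_blockCoeff (M := M) (G := G)
      rw [← hB, ← Finset.sum_fiberwise Finset.univ (fun g : G => ConjClasses.mk g)] at h1
      refine not_memLocalIdeal_one (M := M) (h1 ▸ memLocalIdeal_sum _ fun C _ => ?_)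
      obtain ⟨g, rfl⟩ := ConjClasses.mk_surjective C
      rw [Finset.sum_congr rfl (g := fun _ => blockCoeff B g) fun x hx => blockCoeff_isConj B
        (ConjClasses.mk_eq_mk_iff_isConj.mp (Finset.mem_filter.mp hx).2), Finset.sum_const,
        nsmul_eq_mul, ← Fintype.card_subtype, ← Nat.card_eq_fintype_card, natCard_class g]
      have := hne g
      rw [hdef g, not_and_or, not_not, not_not] at this
      rcases this with h | h
      · exact memLocalIdeal_mul_left (memLocalRing_natCast _) h
      · exact memLocalIdeal_mul_right ((memLocalIdeal_natCast_iff hM _).mpr h)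
          (memLocalRing_principalCoeff g)
    obtain ⟨P⟩ : Nonempty (Sylow p (Subgroup.centralizer ({g} : Set G))) := inferInstance
    obtain ⟨x, hx⟩ := MulAction.exists_smul_eq G ((P.isPGroup'.map _).toSylow (hsylow g hg P)) S
    set g' := x * g * x⁻¹ with hg'
    have hconj : IsConj g g' := isConj_iff.mpr ⟨x, rfl⟩
    have hle : (S : Subgroup G) ≤ Subgroup.centralizer ({g'} : Set G) := by
      intro s hs
      rw [← hx] at hs
      obtain ⟨t, ht, rfl⟩ := hs
      obtain ⟨u, -, rfl⟩ := ht
      have hu := Subgroup.mem_centralizer_singleton_iff.mp u.2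
      rw [Subgroup.mem_centralizer_singleton_iff]
      show x * (u : G) * x⁻¹ * (x * g * x⁻¹) = x * g * x⁻¹ * (x * (u : G) * x⁻¹)
      calc x * (u : G) * x⁻¹ * (x * g * x⁻¹) = x * ((u : G) * g) * x⁻¹ := by group
        _ = x * (g * (u : G)) * x⁻¹ := by rw [hu]
        _ = _ := by group
    have hg'd : Cfsg.IsDefectClass M B g' := by
      rw [hdef]
      refine ⟨blockCoeff_isConj B hconj ▸ ((hdef g).mp hg).1, fun hd => S.not_dvd_index ?_⟩
      exact hd.trans (Subgroup.index_dvd_of_le hle)
    refine ⟨g', hg'd, S.subtype hle, ?_⟩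
    rw [Sylow.coe_subtype, Subgroup.subgroupOf_map_subtype, inf_eq_left.mpr hle]

end Cfsg.Agent.S4652
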