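import Cfsg.Statements.S0081
import Cfsg.Agent.Transfer.Tate
import Cfsg.Agent.Solvable.Frattini

set_option autoImplicit false
open Cfsg

namespace Cfsg.Agent.S0081

/-- Tate's theorem for `N ⊔ P`, applied to the residual of `N`. -/
theorem card_residual_of_tate {G : Type*} [Group G] [Finite G] {p : ℕ} [Fact p.Prime]
    (P : Sylow p G) (N : Subgroup G) [N.Normal]
    (h : N ⊓ (P : Subgroup G) ≤ (frattini P).map (P : Subgroup G).subtype) :
    ¬ p ∣ Nat.card (Cfsg.pResidual p N) := by
  open CfsgLib.Transfer in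
  set L : Subgroup G := (P : Subgroup G) ⊔ N with hL
  have hPL : (P : Subgroup G) ≤ L := le_sup_left
  let P' : Sylow p L := P.subtype hPL
  have hsup : (P' : Subgroup L) ⊔ N.subgroupOf L = ⊤ := by
    apply Subgroup.map_injective L.subtype_injective
    simp only [P', Sylow.coe_subtype]
    rw [Subgroup.map_sup, Subgroup.map_subgroupOf_eq_of_le hPL,
      Subgroup.map_subgroupOf_eq_of_le (le_sup_right : N ≤ L), ← MonoidHom.range_eq_map,
      Subgroup.range_subtype]
  -- `E(L)` lies in `N` times `E(P)`
  have hE : ∀ x ∈ (P' : Subgroup L) ⊓ elemResidual p L,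
      x ∈ (elemResidual p (P' : Subgroup L)).map (P' : Subgroup L).subtype := by
    intro x hx
    set E := (elemResidual p (P' : Subgroup L)).map (P' : Subgroup L).subtype with hEdef
    let f := QuotientGroup.mk' (N.subgroupOf L)
    have hle : (elemResidual p L).map f ≤ E.map f := by
      have hsurj : Function.Surjective (f.comp (P' : Subgroup L).subtype) := by
        intro y
        obtain ⟨g, rfl⟩ := QuotientGroup.mk'_surjective _ y
        obtain ⟨a, ha, b, hb, rfl⟩ := Subgroup.mem_sup_of_normal_right.1 (hsup ▸ Subgroup.mem_top g)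
        exact ⟨⟨a, ha⟩, by simp [f, (QuotientGroup.eq_one_iff b).2 hb]⟩
      rw [hEdef, Subgroup.map_map]
      refine (map_elemResidual_le _).trans ?_
      rw [elemResidual, elemResidual, Subgroup.map_sup, MonoidHom.map_closure]
      refine sup_le_sup ?_ (Subgroup.closure_mono ?_)
      · rw [commutator_def, commutator_def, Subgroup.map_commutator,
          Subgroup.map_top_of_surjective _ hsurj]
      · rintro _ ⟨y, rfl⟩
        obtain ⟨z, rfl⟩ := hsurj y
        exact ⟨z ^ p, ⟨z, rfl⟩, map_pow _ _ _⟩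
    obtain ⟨e, he, hef⟩ := hle ⟨x, hx.2, rfl⟩
    have hxe : e⁻¹ * x ∈ N.subgroupOf L := QuotientGroup.eq.1 hef
    have hxeP : e⁻¹ * x ∈ (P' : Subgroup L) :=
      mul_mem (inv_mem (Subgroup.map_subtype_le _ he)) hx.1
    obtain ⟨y, hy, hye⟩ := h (show ((e⁻¹ * x : L) : G) ∈ N ⊓ (P : Subgroup G) from
      ⟨Subgroup.mem_subgroupOf.1 hxe, Subgroup.mem_subgroupOf.1 hxeP⟩)
    have hy' : y ∈ elemResidual p (P : Subgroup G) :=
      CfsgLib.Solvable.frattini_le_of_elementary (N := elemResidual p (P : Subgroup G)) le_sup_left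
        (fun a => Subgroup.mem_sup_right (Subgroup.subset_closure ⟨a, rfl⟩)) hy
    have hy2 : e⁻¹ * x ∈ E := by
      let ι : (P : Subgroup G) →* (P' : Subgroup L) :=
        MonoidHom.mk' (fun a => ⟨⟨a, hPL a.2⟩, Subgroup.mem_subgroupOf.2 a.2⟩) fun a b => rfl
      refine ⟨ι y, map_elemResidual_le ι ⟨y, hy', rfl⟩, ?_⟩
      exact Subtype.ext hye
    simpa using mul_mem he hy2
  have hT := tate_of_elemResidual P' (H := (P' : Subgroup L)) le_rfl hE
  rw [pResidual_eq_bot_of_isPGroup P'.isPGroup', Subgroup.map_bot] at hT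
  have hcomp := (hasNormalPComplement_iff_sylow_inf P').2 hT
  exact hasNormalPComplement_iff.1 (hasNormalPComplement_of_injective hcomp
    (Subgroup.inclusion (le_sup_right : N ≤ L)) (Subgroup.inclusion_injective _))

/-- If a normal subgroup meets a Sylow p-subgroup P inside the Frattini subgroup of P, then it has a normal p-complement. -/
theorem result {G : Type*} [Group G] [Finite G] {p : ℕ} [Fact p.Prime] (P : Sylow p G) (N : Subgroup G) [N.Normal] (h : N ⊓ (P : Subgroup G) ≤ (frattini P).map (P : Subgroup G).subtype) : Cfsg.HasNormalPComplement p N := by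
  set L : Subgroup G := (P : Subgroup G) ⊔ N with hL
  rw [CfsgLib.Transfer.hasNormalPComplement_iff]
  exact card_residual_of_tate P N h

end Cfsg.Agent.S0081
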