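import Cfsg.Statements.S0944

import Cfsg.Agent.Characters.RepBasic

set_option autoImplicit false
open Cfsg

namespace Cfsg.Agent.S0944

/-- Let χ be an irreducible character of the finite group G and u an involution. Then χ u is a rational integer n with n ≡ χ 1 (mod 2). -/
theorem result {G : Type*} [Group G] [Finite G] (χ : Cfsg.IrrCharacter G) (u : G) (hu : orderOf u = 2) : ∃ n : ℤ, (χ : G → ℂ) u = (n : ℂ) ∧ (2 : ℤ) ∣ (Cfsg.charDegree (χ : G → ℂ) : ℤ) - n := by
  classical
  obtain ⟨k, ρ, hρ, hχ⟩ := χ.2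
  obtain ⟨μ, hμ, hj, -⟩ := CfsgLib.Characters.exists_eigenvalues ρ u
  have h1 : ρ.character 1 = (Module.finrank ℂ (Fin k → ℂ) : ℂ) := Representation.char_one ρ
  have hu1 := hj 1
  rw [pow_one] at hu1
  set s := Finset.univ.filter fun i => μ i = -1
  refine ⟨(Module.finrank ℂ (Fin k → ℂ) : ℤ) - 2 * s.card, ?_, ?_⟩
  · rw [← hχ, hu1]
    have hval : ∀ i, μ i ^ 1 = 1 - 2 * (if μ i = -1 then (1 : ℂ) else 0) := by
      intro i
      have h2 := hμ i
      rw [hu, sq_eq_one_iff] at h2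
      rcases h2 with h | h <;> rw [h] <;> norm_num
    rw [Finset.sum_congr rfl fun i _ => hval i, Finset.sum_sub_distrib, ← Finset.mul_sum,
      Finset.sum_boole]
    simp [s]
  · have hdeg : Cfsg.charDegree (χ : G → ℂ) = Module.finrank ℂ (Fin k → ℂ) := by
      rw [Cfsg.charDegree, ← hχ, h1]
      simp
    rw [hdeg]
    exact ⟨s.card, by ring⟩

end Cfsg.Agent.S0944
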