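import Cfsg.Statements.S1124
import Cfsg.Agent.RankOne.Basic

set_option autoImplicit false
open scoped Pointwise
open Cfsg

namespace Cfsg.Agent.S1124

/-- Let `t` be an element of order 2 of a finite group normalising a subgroup `X` of odd order, `Y = C_X(t)` and `Z` the set of elements of `X` inverted by `t`. Then `(y, z) ↦ y z` is a bijection `Y × Z → X`, so `|X| = |Y| |Z|`, and the subgroup generated by `Z` is normal in `X`. -/
theorem result {M : Type*} [Group M] [Finite M]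
    (t : M) (ht : orderOf t = 2) (X : Subgroup M) (hodd : Odd (Nat.card X))
    (hnorm : ∀ x ∈ X, t * x * t⁻¹ ∈ X) :
    (∀ x ∈ X, ∃! p : M × M, p.1 ∈ X ⊓ Subgroup.centralizer {t} ∧ p.2 ∈ Cfsg.invertedBy X t ∧ x = p.1 * p.2) ∧
      Nat.card X = Nat.card ↥(X ⊓ Subgroup.centralizer {t}) * Nat.card (Cfsg.invertedBy X t) ∧
      ∀ x ∈ X, MulAut.conj x • Subgroup.closure (Cfsg.invertedBy X t) = Subgroup.closure (Cfsg.invertedBy X t) := by
  have ht2 : t * t = 1 := by rw [← pow_two, ← ht, pow_orderOf_eq_one]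
  have hti : t⁻¹ = t := inv_eq_of_mul_eq_one_right ht2
  have hn : ∀ x ∈ X, t * x * t ∈ X := fun x hx => by
    have := hnorm x hx
    rwa [hti] at this
  have hinv : ∀ z, z ∈ Cfsg.invertedBy X t ↔ z ∈ X ∧ t * z * t = z⁻¹ := fun z => by
    show z ∈ X ∧ t * z * t⁻¹ = z⁻¹ ↔ _
    rw [hti]
  have hU : ∀ x ∈ X, ∃! p : M × M, p.1 ∈ X ⊓ Subgroup.centralizer {t} ∧
      p.2 ∈ Cfsg.invertedBy X t ∧ x = p.1 * p.2 := by
    intro x hx
    obtain ⟨y, hy, z, hz, hyt, hzt, e⟩ := CfsgLib.RankOne.exists_decomp ht2 hodd hn hx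
    refine ⟨(y, z), ⟨Subgroup.mem_inf.2 ⟨hy, Subgroup.mem_centralizer_singleton_iff.2 hyt.symm⟩,
      (hinv z).2 ⟨hz, hzt⟩, e⟩, ?_⟩
    rintro ⟨y', z'⟩ ⟨hy', hz', e'⟩
    obtain ⟨hz'X, hz't⟩ := (hinv z').1 hz'
    obtain ⟨h1, h2⟩ := CfsgLib.RankOne.decomp_unique (X := X) ht2 hodd
      (Subgroup.mem_centralizer_singleton_iff.1 (Subgroup.mem_inf.1 hy').2).symm hyt hz'X hz hz't hzt
      (e'.symm.trans e)
    exact Prod.ext h1 h2
  refine ⟨hU, ?_, ?_⟩
  · rw [← Nat.card_prod]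
    refine (Nat.card_eq_of_bijective
      (fun p : ↥(X ⊓ Subgroup.centralizer {t}) × Cfsg.invertedBy X t =>
        (⟨(p.1 : M) * p.2, mul_mem (Subgroup.mem_inf.1 p.1.2).1 p.2.2.1⟩ : X)) ?_).symm
    constructor
    · rintro ⟨y, z⟩ ⟨y', z'⟩ h
      have h' : (y : M) * z = (y' : M) * z' := congrArg Subtype.val h
      have := (hU _ (mul_mem (Subgroup.mem_inf.1 y.2).1 z.2.1)).unique
        (y₁ := ((y : M), (z : M))) (y₂ := ((y' : M), (z' : M)))
        ⟨y.2, z.2, rfl⟩ ⟨y'.2, z'.2, h'⟩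
      exact Prod.ext (Subtype.ext (Prod.ext_iff.1 this).1) (Subtype.ext (Prod.ext_iff.1 this).2)
    · rintro ⟨x, hx⟩
      obtain ⟨⟨y, z⟩, ⟨hy, hz, e⟩, -⟩ := hU x hx
      exact ⟨(⟨y, hy⟩, ⟨z, hz⟩), Subtype.ext e.symm⟩
  · intro x hx
    obtain ⟨⟨y, z⟩, ⟨hy, hz, rfl⟩, -⟩ := hU x hx
    have hmem : y * z ∈ Subgroup.normalizer (Subgroup.closure (Cfsg.invertedBy X t) : Set M) := by
      refine mul_mem ?_ (Subgroup.le_normalizer (Subgroup.subset_closure hz))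
      obtain ⟨hyX, hyt⟩ := Subgroup.mem_inf.1 hy
      rw [Subgroup.mem_centralizer_singleton_iff] at hyt
      have hstep : ∀ y ∈ X, y * t = t * y → ∀ w ∈ Cfsg.invertedBy X t,
          y * w * y⁻¹ ∈ Cfsg.invertedBy X t := by
        intro y hy hyt w hw
        obtain ⟨hwX, hwt⟩ := (hinv w).1 hw
        refine (hinv _).2 ⟨mul_mem (mul_mem hy hwX) (inv_mem hy), ?_⟩
        have h1 : y⁻¹ * t = t * y⁻¹ := (Commute.inv_left (show Commute y t from hyt)).eq
        calc t * (y * w * y⁻¹) * t = (t * y) * w * (y⁻¹ * t) := by group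
          _ = y * (t * w * t) * y⁻¹ := by rw [← hyt, h1]; group
          _ = _ := by rw [hwt]; group
      rw [Subgroup.mem_normalizer_iff_map_conj_eq, MonoidHom.map_closure]
      congr 1
      apply le_antisymm
      · rintro _ ⟨w, hw, rfl⟩
        exact hstep y hyX hyt w hw
      · intro w hw
        refine ⟨y⁻¹ * w * y⁻¹⁻¹, hstep _ (inv_mem hyX)
          (Commute.inv_left (show Commute y t from hyt)).eq w hw, ?_⟩
        show y * (y⁻¹ * w * y⁻¹⁻¹) * y⁻¹ = w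
        group
    exact Subgroup.mem_normalizer_iff_map_conj_eq.1 hmem

end Cfsg.Agent.S1124
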