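import Cfsg.Statements.S0887
import Cfsg.Agent.CharactersDeep.ExtensionCriteria

set_option autoImplicit false
open Cfsg

namespace Cfsg.Agent.S0887

/-- Let N be a normal subgroup of the finite group G, χ an irreducible character of G and ϑ an irreducible character of N having nonzero inner product with the restriction of χ. If χ 1 = c and ϑ 1 = d as natural numbers, then d divides c and c / d divides the index of N. -/
theorem result {G : Type*} [Group G] [Fintype G] (N : Subgroup G) [N.Normal] [Fintype N] (χ : G → ℂ) (hχ : Cfsg.IsIrrCharacter G χ) (ϑ : N → ℂ) (hϑ : Cfsg.IsIrrCharacter N ϑ) (hcon : Cfsg.classInner (fun n : N => χ n) ϑ ≠ 0) (c d : ℕ) (hc : χ 1 = c) (hd : ϑ 1 = d) : d ∣ c ∧ c / d ∣ N.index := by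
  classical
  let T : Subgroup G :=
    { carrier := {g | CfsgLib.OddOrderChar.conjBy N ϑ g = ϑ}
      one_mem' := CfsgLib.OddOrderChar.conjBy_one N ϑ
      mul_mem' := fun {a b} ha hb => by
        simp only [Set.mem_setOf_eq] at ha hb ⊢
        rw [← CfsgLib.OddOrderChar.conjBy_mul, ha, hb]
      inv_mem' := fun {a} ha => by
        simp only [Set.mem_setOf_eq] at ha ⊢
        conv_lhs => rw [← ha]
        rw [CfsgLib.OddOrderChar.conjBy_mul, mul_inv_cancel, CfsgLib.OddOrderChar.conjBy_one] }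
  have hT : ∀ g, g ∈ T ↔ CfsgLib.OddOrderChar.conjBy N ϑ g = ϑ := fun g => Iff.rfl
  have hNT : N ≤ T := fun m hm => funext fun n =>
    (congrArg ϑ (Subtype.ext (by simp [mul_assoc]) :
      (⟨m * n * m⁻¹, _⟩ : N) = ⟨m, hm⟩ * n * ⟨m, hm⟩⁻¹)).trans
      (CfsgLib.Characters.isClassFunction_of_isIrr hϑ n ⟨m, hm⟩)
  obtain ⟨ψ, e, he0, hψ, hind, hres, -⟩ :=
    CfsgLib.CharactersDeep.Clifford.exists_induced_from_inertia N hϑ T hT hNT hχ hcon
  let E : N.subgroupOf T ≃* N := Subgroup.subgroupOfEquivOfLe hNT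
  have hdvd : e ∣ (N.subgroupOf T).index := by
    refine CfsgLib.CharactersDeep.ExtensionCriteria.ramification_dvd_index (N.subgroupOf T) (θ := fun x => ϑ (E x))
      (CfsgLib.Characters.isIrr_comp E.toMonoidHom E.surjective hϑ) (fun t x => ?_) hψ he0 ?_
    · exact congrFun ((hT t).1 t.2) (E x)
    · funext x
      exact congrFun hres (E x)
  have hψ1 : ψ 1 = (e : ℂ) * ϑ 1 := congrFun hres 1
  have hc' : c = T.index * e * d := by
    apply Nat.cast_injective (R := ℂ)
    rw [← hc, ← hind, CfsgLib.Characters.indFun_one, hψ1, hd]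
    push_cast
    ring
  have hd0 : 0 < d := Nat.pos_of_ne_zero fun h0 =>
    CfsgLib.Characters.irr_one_ne_zero hϑ (by rw [hd, h0, Nat.cast_zero])
  refine ⟨hc' ▸ Dvd.intro_left _ rfl, ?_⟩
  rw [hc', Nat.mul_div_cancel _ hd0, ← Subgroup.relIndex_mul_index hNT, mul_comm T.index]
  exact Nat.mul_dvd_mul_right hdvd _

end Cfsg.Agent.S0887
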