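import Cfsg.Statements.S0971
import Cfsg.Agent.BlocksLocal.Covering
import Cfsg.Agent.Blocks.BrauerMap

set_option autoImplicit false
open Cfsg CfsgLib.Blocks CfsgLib.BlocksLocal

namespace Cfsg.Agent.S0971

/-- Let Q be a normal p-subgroup of the finite group G, let N = Q ⊔ C_G(Q) (a normal subgroup) and let b be a block of N relative to a maximal ideal M of the algebraic integers containing p. Then b induces some block of G, and every block B of G containing a character whose restriction to N has a constituent in b is induced by b. -/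
theorem result {G : Type*} [Group G] [Fintype G] (p : ℕ) [Fact p.Prime] (M : Ideal Cfsg.AlgInt) (hM : Cfsg.IsPModular p M) (Q : Subgroup G) [Q.Normal] (hQ : IsPGroup p Q) [Fintype ↥(Q ⊔ Subgroup.centralizer (Q : Set G))] (b : Set (Cfsg.IrrCharacter ↥(Q ⊔ Subgroup.centralizer (Q : Set G)))) (hb : Cfsg.IsPBlock M b) : Cfsg.InducedBlockDefined M (Q ⊔ Subgroup.centralizer (Q : Set G)) b ∧ ∀ B : Set (Cfsg.IrrCharacter G), Cfsg.IsPBlock M B → (∃ χ ∈ B, ∃ θ ∈ b, Cfsg.classInner (fun n : ↥(Q ⊔ Subgroup.centralizer (Q : Set G)) => (χ : G → ℂ) n) (θ : ↥(Q ⊔ Subgroup.centralizer (Q : Set G)) → ℂ) ≠ 0) → Cfsg.IsInducedBlock M (Q ⊔ Subgroup.centralizer (Q : Set G)) b B := by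
  classical
  haveI : M.IsPrime := IsPModular.isPrime hM
  haveI := charP_res hM
  have hNN : (Q ⊔ Subgroup.centralizer (Q : Set G)) ≤ Subgroup.normalizer (Q : Set G) := by
    rw [Subgroup.normalizer_eq_top]; exact le_top
  refine ⟨inducedBlockDefined_of_local hM hQ le_sup_left le_sup_right hNN hb, ?_⟩
  rintro B hB ⟨χ, hχ, θ, hθ, hcov⟩
  refine (isInducedBlock_iff (Q ⊔ Subgroup.centralizer (Q : Set G)) hb hB hθ hχ).2 fun a => ?_
  set t := truncHom Q hQ a with ht
  have hsupp : ∀ g : G, g ∉ (Q ⊔ Subgroup.centralizer (Q : Set G)) → (t : MonoidAlgebra (Res M) G).coeff g = 0 := fun g hg =>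
    coeff_truncHom_of_notMem Q hQ a fun h => hg ((le_sup_right : _ ≤ (Q ⊔ Subgroup.centralizer (Q : Set G))) h)
  have h1 : omegaBar M χ a = omegaBar M χ t := by
    rw [← sub_eq_zero, ← map_sub]
    refine omegaBar_eq_zero_of_coeff_centralizer hM Q hQ χ fun g hg => ?_
    simp [ht, coeff_truncHom_of_mem Q hQ a hg]
  have h2 : brRes Q (Q ⊔ Subgroup.centralizer (Q : Set G)) hNN a = resCtr (Q ⊔ Subgroup.centralizer (Q : Set G)) t := ctr_ext fun n => by
    by_cases hn : (n : G) ∈ Subgroup.centralizer (Q : Set G)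
    · rw [coeff_brRes_of_mem hNN _ hn, coeff_resCtr, coeff_truncHom_of_mem Q hQ a hn]
    · rw [coeff_brRes_of_notMem hNN _ hn, coeff_resCtr, coeff_truncHom_of_notMem Q hQ a hn]
  rw [h1, omegaBar_eq_of_covers (Q ⊔ Subgroup.centralizer (Q : Set G)) hcov t hsupp, omegaBar_resCtr_eq_brRes hM hQ le_sup_left hNN, h2]

end Cfsg.Agent.S0971
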