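import Cfsg.Statements.S0741
import Mathlib
import Cfsg.Agent.Perm.Zassenhaus
-- import your own Cfsg.Agent.* helpers here

set_option autoImplicit false
open Cfsg

namespace Cfsg.Agent.S0741

/-- If the two-point stabilisers of a finite Zassenhaus group of degree `n + 1` have even order `d`, then `2d ≥ n - 1`. -/
theorem result {G Ω : Type*} [Group G] [Finite G] [MulAction G Ω] [Fintype Ω] (hZ : Cfsg.IsZassenhausGroup G Ω) {a b : Ω} (hab : a ≠ b) (heven : Even (Nat.card ↥(MulAction.stabilizer G a ⊓ MulAction.stabilizer G b))) : Fintype.card Ω - 2 ≤ 2 * Nat.card ↥(MulAction.stabilizer G a ⊓ MulAction.stabilizer G b) := by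
  classical
  haveI := hZ.1
  haveI : Fintype G := Fintype.ofFinite G
  have h3 := CfsgLib.Perm.Zassenhaus.card_ge_three hZ
  haveI := Fact.mk Nat.prime_two
  obtain ⟨t₀, ht₀⟩ := exists_prime_orderOf_dvd_card'
    (G := ↥(MulAction.stabilizer G a ⊓ MulAction.stabilizer G b)) 2 heven.two_dvd
  -- involutions with two fixed points
  let I : Finset G := {t : G | t ≠ 1 ∧ t * t = 1 ∧ Nat.card (MulAction.fixedBy Ω t) = 2}
  let P : Finset (Ω × Ω) := {q : Ω × Ω | q.1 ≠ q.2}
  let F : Ω × Ω → Finset G := fun q => I.filter fun t => t • q.1 = q.1 ∧ t • q.2 = q.2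
  let W : Ω × Ω → Finset G := fun q => I.filter fun t => t • q.1 = q.2
  have hconj : ∀ (g t : G), g * t * g⁻¹ ∈ I ↔ t ∈ I := by
    intro g t
    simp only [I, Finset.mem_filter, Finset.mem_univ, true_and]
    have e1 : g * t * g⁻¹ ≠ 1 ↔ t ≠ 1 := conj_eq_one_iff.not
    have e2 : g * t * g⁻¹ * (g * t * g⁻¹) = 1 ↔ t * t = 1 := by
      rw [conj_mul, conj_eq_one_iff]
    have e3 : Nat.card (MulAction.fixedBy Ω (g * t * g⁻¹)) = Nat.card (MulAction.fixedBy Ω t) := by
      refine Nat.card_congr ((MulAction.toPerm g⁻¹ : Equiv.Perm Ω).subtypeEquiv fun x => ?_)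
      show (g * t * g⁻¹) • x = x ↔ t • g⁻¹ • x = g⁻¹ • x
      rw [mul_smul, mul_smul, ← eq_inv_smul_iff]
    rw [e1, e2, e3]
  have hconst : ∀ q ∈ P, (F q).card = (F (a, b)).card ∧ (W q).card = (W (a, b)).card := by
    rintro ⟨u, v⟩ huv
    simp only [P, Finset.mem_filter, Finset.mem_univ, true_and] at huv
    obtain ⟨g, hgu, hgv⟩ := MulAction.is_two_pretransitive_iff.1 hZ.2.1 huv hab
    constructor
    · refine Finset.card_equiv (MulAut.conj g).toEquiv (fun t => ?_)
      simp only [F, Finset.mem_filter, MulEquiv.toEquiv_eq_coe, EquivLike.coe_coe, MulAut.conj_apply,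
        hconj]
      rw [mul_smul, mul_smul, mul_smul, mul_smul, ← hgu, ← hgv, inv_smul_smul, inv_smul_smul,
        (MulAction.injective g).eq_iff, (MulAction.injective g).eq_iff]
    · refine Finset.card_equiv (MulAut.conj g).toEquiv (fun t => ?_)
      simp only [W, Finset.mem_filter, MulEquiv.toEquiv_eq_coe, EquivLike.coe_coe, MulAut.conj_apply,
        hconj]
      rw [mul_smul, mul_smul, ← hgu, ← hgv, inv_smul_smul, (MulAction.injective g).eq_iff]
  -- double counting
  have hfixc : ∀ t ∈ I, (P.filter fun q => t • q.1 = q.1 ∧ t • q.2 = q.2).card = 2 := by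
    intro t ht
    simp only [I, Finset.mem_filter, Finset.mem_univ, true_and] at ht
    obtain ⟨x, y, hxy, hset⟩ := Set.ncard_eq_two.1 ((Nat.card_coe_set_eq _).symm.trans ht.2.2)
    have hiff : ∀ z, t • z = z ↔ z = x ∨ z = y := fun z => by
      rw [← MulAction.mem_fixedBy, hset]; simp
    have : (P.filter fun q => t • q.1 = q.1 ∧ t • q.2 = q.2) = {(x, y), (y, x)} := by
      ext ⟨u, v⟩
      simp only [P, Finset.mem_filter, Finset.mem_univ, true_and, hiff, Finset.mem_insert,
        Finset.mem_singleton, Prod.mk.injEq]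
      constructor
      · rintro ⟨huv, h1 | h1, h2 | h2⟩ <;> subst h1 <;> subst h2
        · exact absurd rfl huv
        · exact Or.inl ⟨rfl, rfl⟩
        · exact Or.inr ⟨rfl, rfl⟩
        · exact absurd rfl huv
      · rintro (⟨rfl, rfl⟩ | ⟨rfl, rfl⟩)
        · exact ⟨hxy, Or.inl rfl, Or.inr rfl⟩
        · exact ⟨hxy.symm, Or.inr rfl, Or.inl rfl⟩
    rw [this, Finset.card_pair (fun h => hxy (congrArg Prod.fst h))]
  have hswc : ∀ t ∈ I, (P.filter fun q => t • q.1 = q.2).card = Fintype.card Ω - 2 := by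
    intro t ht
    simp only [I, Finset.mem_filter, Finset.mem_univ, true_and] at ht
    have e : (P.filter fun q => t • q.1 = q.2) =
        ((MulAction.fixedBy Ω t).toFinset)ᶜ.image (fun u => (u, t • u)) := by
      ext ⟨u, v⟩
      simp only [P, Finset.mem_filter, Finset.mem_univ, true_and, Finset.mem_image,
        Finset.mem_compl, Set.mem_toFinset, MulAction.mem_fixedBy, Prod.mk.injEq]
      constructor
      · rintro ⟨huv, rfl⟩; exact ⟨u, fun h => huv h.symm, rfl, rfl⟩
      · rintro ⟨w, hw, rfl, rfl⟩; exact ⟨fun h => hw h.symm, rfl⟩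
    rw [e, Finset.card_image_of_injective _ (fun x y h => congrArg Prod.fst h), Finset.card_compl,
      ← Set.ncard_eq_toFinset_card', ← Nat.card_coe_set_eq, ht.2.2]
  have e1 : ∑ t ∈ I, (P.filter fun q => t • q.1 = q.1 ∧ t • q.2 = q.2).card = ∑ q ∈ P, (F q).card := by
    simp only [Finset.card_filter, F]
    exact Finset.sum_comm
  have e2 : ∑ t ∈ I, (P.filter fun q => t • q.1 = q.2).card = ∑ q ∈ P, (W q).card := by
    simp only [Finset.card_filter, W]
    exact Finset.sum_comm
  rw [Finset.sum_congr rfl hfixc, Finset.sum_congr rfl (fun q hq => (hconst q hq).1),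
    Finset.sum_const, Finset.sum_const, smul_eq_mul, smul_eq_mul] at e1
  rw [Finset.sum_congr rfl hswc, Finset.sum_congr rfl (fun q hq => (hconst q hq).2),
    Finset.sum_const, Finset.sum_const, smul_eq_mul, smul_eq_mul] at e2
  have hPpos : 0 < P.card := Finset.card_pos.2 ⟨(a, b), by simp [P, hab]⟩
  have hF1 : 1 ≤ (F (a, b)).card := by
    refine Finset.card_pos.2 ⟨t₀, ?_⟩
    have ho : orderOf (t₀ : G) = 2 := by rw [Subgroup.orderOf_coe, ht₀]
    have hne : (t₀ : G) ≠ 1 := fun e => by rw [e, orderOf_one] at ho; omega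
    simp only [F, I, Finset.mem_filter, Finset.mem_univ, true_and]
    refine ⟨⟨hne, by rw [← pow_two, ← ho, pow_orderOf_eq_one], ?_⟩, t₀.2.1, t₀.2.2⟩
    have h1 := CfsgLib.Perm.Zassenhaus.fixedBy_le_two hZ hne
    have h2 : ({a, b} : Set Ω).ncard ≤ (MulAction.fixedBy Ω (t₀ : G)).ncard :=
      Set.ncard_le_ncard (Set.insert_subset t₀.2.1 (Set.singleton_subset_iff.2 t₀.2.2)) (Set.toFinite _)
    rw [Set.ncard_pair hab, ← Nat.card_coe_set_eq] at h2
    omega
  have hWd : (W (a, b)).card ≤ Nat.card ↥(MulAction.stabilizer G a ⊓ MulAction.stabilizer G b) := by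
    have hswap : ∀ t ∈ W (a, b), t • a = b ∧ t • b = a := by
      intro t ht
      simp only [W, I, Finset.mem_filter, Finset.mem_univ, true_and] at ht
      exact ⟨ht.2, by rw [← ht.2, smul_smul, ht.1.2.1, one_smul]⟩
    rcases (W (a, b)).eq_empty_or_nonempty with h0 | ⟨r, hr⟩
    · rw [h0]; simp
    obtain ⟨hra, hrb⟩ := hswap r hr
    rw [← Fintype.card_coe, ← Nat.card_eq_fintype_card]
    refine Nat.card_le_card_of_injective (fun t => (⟨r * t.1, ?_, ?_⟩ :
      ↥(MulAction.stabilizer G a ⊓ MulAction.stabilizer G b))) ?_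
    · show (r * t.1) • a = a
      rw [mul_smul, (hswap t.1 t.2).1, hrb]
    · show (r * t.1) • b = b
      rw [mul_smul, (hswap t.1 t.2).2, hra]
    · intro t t' h
      exact Subtype.ext (mul_left_cancel (congrArg Subtype.val h))
  have key : (F (a, b)).card * (Fintype.card Ω - 2) = 2 * (W (a, b)).card := by
    have : P.card * ((F (a, b)).card * (Fintype.card Ω - 2)) = P.card * (2 * (W (a, b)).card) := by
      calc P.card * ((F (a, b)).card * (Fintype.card Ω - 2))
          = P.card * (F (a, b)).card * (Fintype.card Ω - 2) := by ring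
        _ = I.card * 2 * (Fintype.card Ω - 2) := by rw [e1]
        _ = 2 * (I.card * (Fintype.card Ω - 2)) := by ring
        _ = P.card * (2 * (W (a, b)).card) := by rw [e2]; ring
    exact Nat.eq_of_mul_eq_mul_left hPpos this
  calc Fintype.card Ω - 2 ≤ (F (a, b)).card * (Fintype.card Ω - 2) := Nat.le_mul_of_pos_left _ hF1
    _ = 2 * (W (a, b)).card := key
    _ ≤ _ := Nat.mul_le_mul_left 2 hWd

end Cfsg.Agent.S0741
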