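import Cfsg.Prelude.Def_DegreeGraph
import Cfsg.Agent.Characters.Orthogonality
import Cfsg.Agent.Characters.Classes
import Cfsg.Agent.Characters.Integrality
import Cfsg.Agent.Characters.Linear
import Cfsg.Agent.GaloisAverage.Ito
import Cfsg.Agent.SylowNumber.Basic
import Cfsg.Agent.Small.SylowArgs
import Cfsg.Agent.Small.SylowPrime
import Cfsg.Agent.Classification.SimpleSixty
import Mathlib

/-!
# A group of order 60 with the degree graph of `A₅`

If the group is not simple its Sylow 5-subgroup is normal, so by Itô 5 divides no degree; the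
alternating group has five classes, hence a character of degree 5.
-/

namespace Cfsg.Agent.S3669

/-- A group of order 30 has one Sylow 5-subgroup. -/
theorem card_sylow_five_of_thirty {G : Type*} [Group G] [Finite G] (h : Nat.card G = 30) :
    Nat.card (Sylow 5 G) = 1 := by
  haveI : Fact (Nat.Prime 3) := ⟨Nat.prime_three⟩
  haveI : Fact (Nat.Prime 5) := ⟨by norm_num⟩
  have hP : ∀ P : Sylow 5 G, Nat.card (P : Subgroup G) = 5 := fun P => by
    rw [CfsgLib.Small.card_sylow_eq (k := 1) (m := 6) (by rw [h]; norm_num) (by norm_num) P]; norm_num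
  have hQ : ∀ P : Sylow 3 G, Nat.card (P : Subgroup G) = 3 := fun P => by
    rw [CfsgLib.Small.card_sylow_eq (k := 1) (m := 10) (by rw [h]; norm_num) (by norm_num) P]; norm_num
  have h5d : Nat.card (Sylow 5 G) ∣ 6 := CfsgLib.Small.card_sylow_dvd (k := 1) (by rw [h]; norm_num) (by norm_num)
  have h5m : Nat.card (Sylow 5 G) ≡ 1 [MOD 5] := card_sylow_modEq_one 5 G
  by_contra hne
  have h5 : Nat.card (Sylow 5 G) = 6 := by
    revert h5d h5m hne
    generalize Nat.card (Sylow 5 G) = k
    intro hd hm hne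
    have := Nat.le_of_dvd (by norm_num) hd
    unfold Nat.ModEq at hm
    omega
  -- then there is a normal subgroup of order three
  have h3 : Nat.card (Sylow 3 G) = 1 := by
    have h3d : Nat.card (Sylow 3 G) ∣ 10 := CfsgLib.Small.card_sylow_dvd (k := 1) (by rw [h]; norm_num) (by norm_num)
    have h3m : Nat.card (Sylow 3 G) ≡ 1 [MOD 3] := card_sylow_modEq_one 3 G
    have e5 := CfsgLib.Small.card_orderOf_eq_prime (G := G) (p := 5) hP
    have e3 := CfsgLib.Small.card_orderOf_eq_prime (G := G) (p := 3) hQ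
    have hle : Nat.card ({g : G // orderOf g = 5} ⊕ {g : G // orderOf g = 3}) ≤ Nat.card G := by
      refine Nat.card_le_card_of_injective (Sum.elim Subtype.val Subtype.val) ?_
      rintro (⟨x, hx⟩ | ⟨x, hx⟩) (⟨y, hy⟩ | ⟨y, hy⟩) he <;> simp only [Sum.elim_inl, Sum.elim_inr] at he <;>
        subst he <;> first | rfl | omega
    rw [Nat.card_sum, e5, e3, h5, h] at hle
    revert h3d h3m hle
    generalize Nat.card (Sylow 3 G) = k
    intro hd hm hle
    have h3' : k ≤ 3 := by omega
    interval_cases k <;> simp_all [Nat.ModEq]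
  obtain ⟨Q⟩ : Nonempty (Sylow 3 G) := inferInstance
  haveI : Subsingleton (Sylow 3 G) := (Nat.card_eq_one_iff_unique.mp h3).1
  haveI hQn : (Q : Subgroup G).Normal := Sylow.normal_of_subsingleton Q
  obtain ⟨c, -, hc, hc'⟩ := CfsgLib.SylowNumber.card_sylow_eq (p := 5) (Q : Subgroup G)
  have hq : Nat.card (G ⧸ (Q : Subgroup G)) = 10 := by
    have := (Q : Subgroup G).index_mul_card
    rw [Subgroup.index_eq_card, hQ, h] at this
    omega
  have h1 : Nat.card (Sylow 5 (G ⧸ (Q : Subgroup G))) = 1 := by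
    have hd := CfsgLib.Small.card_sylow_dvd (G := G ⧸ (Q : Subgroup G)) (p := 5) (k := 1) (m := 2) (by rw [hq]; norm_num) (by norm_num)
    have hm := card_sylow_modEq_one 5 (G ⧸ (Q : Subgroup G))
    have := Nat.le_of_dvd (by norm_num) hd
    unfold Nat.ModEq at hm
    omega
  have h2 : Nat.card (Sylow 5 (Q : Subgroup G)) = 1 := by
    obtain ⟨S⟩ : Nonempty (Sylow 5 (Q : Subgroup G)) := inferInstance
    rw [S.card_eq_index_normalizer]
    have hd : Nat.card (Sylow 5 (Q : Subgroup G)) ∣ 3 := by
      have := Subgroup.index_dvd_card (Subgroup.normalizer ((S : Subgroup (Q : Subgroup G)) : Set (Q : Subgroup G)))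
      rw [hQ Q] at this
      rwa [S.card_eq_index_normalizer]
    rw [S.card_eq_index_normalizer] at hd
    have hm := card_sylow_modEq_one 5 (Q : Subgroup G)
    rw [S.card_eq_index_normalizer] at hm
    have := Nat.le_of_dvd (by norm_num) hd
    unfold Nat.ModEq at hm
    omega
  rw [h5, h1, h2, one_mul, one_mul] at hc
  have := hc' 2 Nat.prime_two
  rw [← hc, show (6 : ℕ) = 2 ^ 1 * 3 from rfl, Nat.factorization_mul (by norm_num) (by norm_num),
    Finsupp.add_apply, Nat.factorization_pow_self Nat.prime_two,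
    Nat.factorization_eq_zero_of_not_dvd (by norm_num)] at this
  simp [Nat.ModEq] at this

/-- A non-simple group of order 60 has one Sylow 5-subgroup. -/
theorem card_sylow_five_of_sixty {G : Type*} [Group G] [Finite G] (h : Nat.card G = 60)
    (hns : ¬ IsSimpleGroup G) : Nat.card (Sylow 5 G) = 1 := by
  haveI : Fact (Nat.Prime 5) := ⟨by norm_num⟩
  have h5d : Nat.card (Sylow 5 G) ∣ 12 := CfsgLib.Small.card_sylow_dvd (k := 1) (by rw [h]; norm_num) (by norm_num)
  have h5m : Nat.card (Sylow 5 G) ≡ 1 [MOD 5] := card_sylow_modEq_one 5 G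
  by_contra hne
  have h5 : Nat.card (Sylow 5 G) = 6 := by
    revert h5d h5m hne
    generalize Nat.card (Sylow 5 G) = k
    intro hd hm hne
    have := Nat.le_of_dvd (by norm_num) hd
    interval_cases k <;> simp_all [Nat.ModEq]
  haveI : Nontrivial G := Finite.one_lt_card_iff_nontrivial.mp (by omega)
  obtain ⟨N, hN, hN1, hN2⟩ : ∃ N : Subgroup G, N.Normal ∧ N ≠ ⊥ ∧ N ≠ ⊤ := by
    by_contra hno
    push Not at hno
    exact hns ⟨fun N hN => (em (N = ⊥)).imp id (hno N hN)⟩
  haveI := hN
  obtain ⟨c, -, hc, hc'⟩ := CfsgLib.SylowNumber.card_sylow_eq (p := 5) N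
  rw [h5] at hc
  have hA := card_sylow_modEq_one 5 (G ⧸ N)
  have hB := card_sylow_modEq_one 5 N
  -- an order with six Sylow 5-subgroups is a multiple of thirty
  have key : ∀ (X : Type _) [Group X] [Finite X], Nat.card X ∣ 60 → Nat.card X ≠ 60 →
      Nat.card (Sylow 5 X) ≠ 6 := by
    intro X _ _ hX hX60 h6
    obtain ⟨S⟩ : Nonempty (Sylow 5 X) := inferInstance
    have hd : 6 ∣ Nat.card X := by
      rw [← h6, S.card_eq_index_normalizer]; exact Subgroup.index_dvd_card _
    have h5X : 5 ∣ Nat.card X := by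
      by_contra h5X
      have hbot : (S : Subgroup X) = ⊥ := Subgroup.card_eq_one.mp (by
        rw [S.card_eq_multiplicity, Nat.factorization_eq_zero_of_not_dvd h5X, pow_zero])
      haveI : (S : Subgroup X).Normal := hbot ▸ inferInstance
      haveI := Sylow.unique_of_normal S inferInstance
      rw [Nat.card_unique] at h6
      omega
    have h30 : Nat.card X = 30 := by
      obtain ⟨l, hl⟩ : 30 ∣ Nat.card X := Nat.Coprime.mul_dvd_of_dvd_of_dvd (show Nat.Coprime 6 5 by norm_num) hd h5X
      have := Nat.le_of_dvd (by norm_num) hX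
      have := Nat.card_pos (α := X)
      omega
    rw [card_sylow_five_of_thirty h30] at h6
    omega
  have hNQ := N.index_mul_card
  rw [h, Subgroup.index_eq_card] at hNQ
  have hNlt : Nat.card N ≠ 60 := fun e => hN2 (N.eq_top_of_card_eq (e.trans h.symm))
  have hQlt : Nat.card (G ⧸ N) ≠ 60 := fun e => hN1 (Subgroup.card_eq_one.mp (by rw [e] at hNQ; omega))
  have k1 := key (G ⧸ N) (Dvd.intro _ hNQ) hQlt
  have k2 := key N (Dvd.intro_left _ hNQ) hNlt
  have hcd : c ∣ 6 := Dvd.intro_left _ hc.symm
  have hc1 : c = 1 := by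
    have := Nat.le_of_dvd (by norm_num) hcd
    have e2 := hc' 2 Nat.prime_two
    have e3 := hc' 3 Nat.prime_three
    interval_cases c
    · norm_num at hcd
    · rfl
    · rw [Nat.Prime.factorization_self Nat.prime_two] at e2; simp [Nat.ModEq] at e2
    · rw [Nat.Prime.factorization_self Nat.prime_three] at e3; simp [Nat.ModEq] at e3
    · norm_num at hcd
    · norm_num at hcd
    · rw [show (6 : ℕ) = 2 ^ 1 * 3 from rfl, Nat.factorization_mul (by norm_num) (by norm_num),
        Finsupp.add_apply, Nat.factorization_pow_self Nat.prime_two,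
        Nat.factorization_eq_zero_of_not_dvd (by norm_num)] at e2
      simp [Nat.ModEq] at e2
  rw [hc1, mul_one] at hc
  revert hc hA hB k1 k2
  generalize Nat.card (Sylow 5 (G ⧸ N)) = x
  generalize Nat.card (Sylow 5 N) = y
  intro hc hA hB k1 k2
  have hx : x ≤ 6 := Nat.le_of_dvd (by norm_num) (Dvd.intro _ hc.symm)
  have hy : y ≤ 6 := Nat.le_of_dvd (by norm_num) (Dvd.intro_left _ hc.symm)
  unfold Nat.ModEq at hA hB
  have hx' : x = 0 ∨ x = 1 ∨ x = 6 := by omega
  have hy' : y = 0 ∨ y = 1 ∨ y = 6 := by omega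
  rcases hx' with rfl | rfl | rfl <;> rcases hy' with rfl | rfl | rfl <;> omega

theorem charDegree_of_eq {G : Type*} [Group G] {χ : G → ℂ} {n : ℕ} (h : χ 1 = n) :
    Cfsg.charDegree χ = n := by
  simp [Cfsg.charDegree, h]

theorem card_conjClasses_five : Nat.card (ConjClasses (alternatingGroup (Fin 5))) = 5 := by
  rw [Nat.card_eq_fintype_card]
  decide +kernel

/-- `A₅` has an irreducible character of degree 5. -/
theorem five_mem_degreePrimes : 5 ∈ Cfsg.degreePrimes (alternatingGroup (Fin 5)) := by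
  classical
  refine ⟨by norm_num, ?_⟩
  have hcard : Nat.card (alternatingGroup (Fin 5)) = 60 := by
    rw [nat_card_alternatingGroup]; simp [Nat.factorial]
  haveI : Finite (Cfsg.IrrCharacter (alternatingGroup (Fin 5))) := Nat.finite_of_card_ne_zero (by
    rw [CfsgLib.Characters.card_irrCharacter, card_conjClasses_five]; norm_num)
  letI := Fintype.ofFinite (Cfsg.IrrCharacter (alternatingGroup (Fin 5)))
  choose d hd0 hd using fun χ : Cfsg.IrrCharacter (alternatingGroup (Fin 5)) =>
    CfsgLib.Characters.exists_degree_pos χ.2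
  have hk : Fintype.card (Cfsg.IrrCharacter (alternatingGroup (Fin 5))) = 5 := by
    rw [← Nat.card_eq_fintype_card, CfsgLib.Characters.card_irrCharacter, card_conjClasses_five]
  have hsum : ∑ χ : Cfsg.IrrCharacter (alternatingGroup (Fin 5)), d χ ^ 2 = 60 := by
    have := CfsgLib.Characters.sum_degree_sq (G := alternatingGroup (Fin 5))
    simp only [hd, hcard] at this
    exact_mod_cast this
  have hdvd : ∀ χ, d χ ∣ 60 := by
    intro χ
    obtain ⟨n, ρ, hρ, hχ⟩ := χ.2
    have e : d χ = n := by
      have h1 := hd χ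
      rw [← hχ, Representation.char_one, Module.finrank_fin_fun] at h1
      exact_mod_cast h1.symm
    have := CfsgLib.Characters.finrank_dvd_card ρ
    rw [Module.finrank_fin_fun, hcard] at this
    rwa [e]
  have hlin : (Finset.univ.filter fun χ => d χ = 1).card = 1 := by
    have h1 := CfsgLib.Characters.card_linear_char (G := alternatingGroup (Fin 5))
    have htop : commutator (alternatingGroup (Fin 5)) = ⊤ := by
      haveI : IsSimpleGroup (alternatingGroup (Fin 5)) := alternatingGroup.isSimpleGroup_five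
      rcases (Subgroup.Normal.eq_bot_or_eq_top (inferInstance : (commutator (alternatingGroup (Fin 5))).Normal)) with h | h
      · exfalso
        have hc : ∀ a b : alternatingGroup (Fin 5), a * b = b * a := fun a b =>
          commutatorElement_eq_one_iff_mul_comm.mp (by
            rw [← Subgroup.mem_bot, ← h]
            exact Subgroup.commutator_mem_commutator (Subgroup.mem_top a) (Subgroup.mem_top b))
        exact CfsgLib.Classification.not_comm_of_card_sixty hcard ⟨⟨hc⟩⟩
      · exact h
    rw [htop, Subgroup.index_top, Nat.card_eq_fintype_card, Fintype.card_subtype] at h1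
    refine Eq.trans ?_ h1
    congr 1
    ext χ
    simp only [Finset.mem_filter, Finset.mem_univ, true_and, hd]
    norm_cast
  by_contra hno
  push Not at hno
  -- the four non-linear degrees would be 2, 3, 4 or 6
  have hsmall : ∀ χ, d χ ≠ 1 → d χ = 2 ∨ d χ = 3 ∨ d χ = 4 ∨ d χ = 6 := by
    intro χ h1
    have hle : d χ ^ 2 ≤ 60 := hsum ▸ Finset.single_le_sum (f := fun χ => d χ ^ 2) (fun _ _ => Nat.zero_le _) (Finset.mem_univ χ)
    have h7 : d χ < 8 := by nlinarith
    have h5 : d χ ≠ 5 := fun h => hno 5 ⟨χ, by rw [charDegree_of_eq (hd χ), h]⟩ dvd_rfl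
    have := hdvd χ
    have := hd0 χ
    interval_cases h : d χ <;> simp_all
  rw [← Finset.sum_filter_add_sum_filter_not Finset.univ (fun χ => d χ = 1)] at hsum
  rw [Finset.sum_congr rfl (fun χ hχ => by rw [(Finset.mem_filter.mp hχ).2]), Finset.sum_const, hlin] at hsum
  have hrest : (Finset.univ.filter fun χ => ¬ d χ = 1).card = 4 := by
    have := Finset.card_filter_add_card_filter_not (s := Finset.univ) (fun χ => d χ = 1)
    rw [hlin, Finset.card_univ, hk] at this
    omega
  obtain ⟨w, x, y, z, hwx, hwy, hwz, hxy, hxz, hyz, hset⟩ := Finset.card_eq_four.mp hrest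
  have hmem : ∀ χ ∈ ({w, x, y, z} : Finset _), d χ ≠ 1 := fun χ hχ => by
    rw [← hset] at hχ; exact (Finset.mem_filter.mp hχ).2
  rw [hset, Finset.sum_insert (by simp [hwx, hwy, hwz]), Finset.sum_insert (by simp [hxy, hxz]),
    Finset.sum_insert (by simp [hyz]), Finset.sum_singleton] at hsum
  rcases hsmall w (hmem w (by simp)) with e₁ | e₁ | e₁ | e₁ <;>
    rcases hsmall x (hmem x (by simp)) with e₂ | e₂ | e₂ | e₂ <;>
    rcases hsmall y (hmem y (by simp)) with e₃ | e₃ | e₃ | e₃ <;>
    rcases hsmall z (hmem z (by simp)) with e₄ | e₄ | e₄ | e₄ <;>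
    simp [e₁, e₂, e₃, e₄] at hsum

theorem result {G : Type*} [Group G] [Finite G] (hcard : Nat.card G = 60)
    (hΓ : Cfsg.degreePrimes G = Cfsg.degreePrimes (alternatingGroup (Fin 5)) ∧ Cfsg.degreeGraph G = Cfsg.degreeGraph (alternatingGroup (Fin 5))) : Nonempty (G ≃* alternatingGroup (Fin 5)) := by
  by_cases hs : IsSimpleGroup G
  · exact CfsgLib.Classification.nonempty_equiv_alternating_five hcard
  exfalso
  haveI : Fact (Nat.Prime 5) := ⟨by norm_num⟩
  have h1 := card_sylow_five_of_sixty hcard hs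
  obtain ⟨P⟩ : Nonempty (Sylow 5 G) := inferInstance
  haveI : Subsingleton (Sylow 5 G) := (Nat.card_eq_one_iff_unique.mp h1).1
  haveI : (P : Subgroup G).Normal := Sylow.normal_of_subsingleton P
  have hP : Nat.card (P : Subgroup G) = 5 := by
    rw [CfsgLib.Small.card_sylow_eq (k := 1) (m := 12) (by rw [hcard]; norm_num) (by norm_num) P]; norm_num
  obtain ⟨-, d, ⟨χ, rfl⟩, hd⟩ := hΓ.1.symm ▸ five_mem_degreePrimes
  haveI : IsCyclic (P : Subgroup G) := isCyclic_of_prime_card hP
  obtain ⟨n, hn, hdv⟩ := CfsgLib.GaloisAverage.exists_degree_dvd_index χ.2 (P : Subgroup G)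
    (fun a ha b hb => by
      letI := IsCyclic.commGroup (α := (P : Subgroup G))
      exact congrArg Subtype.val (mul_comm (⟨a, ha⟩ : (P : Subgroup G)) ⟨b, hb⟩))
  rw [charDegree_of_eq hn] at hd
  have hi := (P : Subgroup G).index_mul_card
  rw [hP, hcard] at hi
  have := dvd_trans hd hdv
  omega

end Cfsg.Agent.S3669
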