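import Cfsg.Statements.S0820
import Cfsg.Agent.Forms.SLThreeInvolutions
import Mathlib.Algebra.CharP.Two

set_option autoImplicit false
open Cfsg

namespace Cfsg.Agent.S0820

/-- Any two elements of order 2 of PSL_3(4) are conjugate. -/
theorem result {F : Type*} [Field F] [Fintype F] (hF : Fintype.card F = 4) (x y : Matrix.ProjectiveSpecialLinearGroup (Fin 3) F) (hx : orderOf x = 2) (hy : orderOf y = 2) : IsConj x y := by
  haveI : CharP F 2 := ringChar.of_eq (FiniteField.even_card_iff_char_two.2 (by rw [hF]))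
  have key : ∀ a : Matrix.ProjectiveSpecialLinearGroup (Fin 3) F, orderOf a = 2 →
      IsConj (QuotientGroup.mk' _ (CfsgLib.Forms.SLThreeInvolutions.std F)) a := fun a ha => by
    obtain ⟨t, ht1, ht, rfl⟩ := CfsgLib.Forms.SLThreeInvolutions.exists_lift
      (show a ≠ 1 from fun e => by rw [e, orderOf_one] at ha; omega)
      (show a * a = 1 by rw [← pow_two]; exact orderOf_dvd_iff_pow_eq_one.1 ha.dvd)
    exact MonoidHom.map_isConj _ (CfsgLib.Forms.SLThreeInvolutions.isConj_std ht1 ht)
  exact (key x hx).symm.trans (key y hy)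

end Cfsg.Agent.S0820
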