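import Cfsg.Statements.S3633
import Cfsg.Agent.PrimeGraph.Lucido

set_option autoImplicit false
open Cfsg

namespace Cfsg.Agent.S3633

/-- Let G be a finite group and ρ a set of at least three prime divisors of the order of G that are pairwise non-adjacent in the prime graph (no element of order rs for distinct r, s ∈ ρ). Then at most one prime of ρ divides the order of any given solvable normal subgroup of G; in particular G is not solvable. -/
theorem result {G : Type*} [Group G] [Finite G] (ρ : Finset ℕ) (hρ : 3 ≤ ρ.card) (hc : ((∀ r ∈ ρ, r.Prime ∧ r ∣ Nat.card G) ∧ (∀ r ∈ ρ, ∀ s ∈ ρ, r ≠ s → ¬ ∃ x : G, orderOf x = r * s)))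
    (K : Subgroup G) [K.Normal] (hK : Group.IsSolvable ↥K) :
    (∀ r ∈ ρ, ∀ s ∈ ρ, r ∣ Nat.card ↥K → s ∣ Nat.card ↥K → r = s) ∧ ¬ Group.IsSolvable G := by
  obtain ⟨hprime, hno⟩ := hc
  have key : ∀ W : Subgroup G, Group.IsSolvable W → ∀ a ∈ ρ, ∀ b ∈ ρ, ∀ c ∈ ρ, a ≠ b → a ≠ c →
      b ≠ c → a ∣ Nat.card W → b ∣ Nat.card W → c ∣ Nat.card W → False := by
    intro W hW a ha b hb c hc hab hac hbc h1 h2 h3
    rcases CfsgLib.PrimeGraph.exists_edge_of_isSolvable hW (hprime a ha).1 (hprime b hb).1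
      (hprime c hc).1 hab hac hbc h1 h2 h3 with h | h | h
    · exact hno a ha b hb hab (CfsgLib.PrimeGraph.exists_orderOf_eq_of_subgroup h)
    · exact hno a ha c hc hac (CfsgLib.PrimeGraph.exists_orderOf_eq_of_subgroup h)
    · exact hno b hb c hc hbc (CfsgLib.PrimeGraph.exists_orderOf_eq_of_subgroup h)
  refine ⟨fun r hr s hs hrK hsK => ?_, fun hG => ?_⟩
  · by_contra hrs
    obtain ⟨t, ht, htrs⟩ := Finset.exists_mem_notMem_of_card_lt_card (s := ({r, s} : Finset ℕ))
      (t := ρ) (lt_of_le_of_lt Finset.card_le_two hρ)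
    simp only [Finset.mem_insert, Finset.mem_singleton, not_or] at htrs
    have := Fact.mk (hprime t ht).1
    obtain ⟨x, hx⟩ := exists_prime_orderOf_dvd_card' t (hprime t ht).2
    have hW := CfsgLib.PrimeGraph.isSolvable_sup hK (inferInstance : Group.IsSolvable (Subgroup.zpowers x))
      Subgroup.le_normalizer_of_normal
    refine key _ hW r hr s hs t ht hrs (Ne.symm htrs.1) (Ne.symm htrs.2)
      (hrK.trans (Subgroup.card_dvd_of_le le_sup_left))
      (hsK.trans (Subgroup.card_dvd_of_le le_sup_left)) ?_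
    refine dvd_trans ?_ (Subgroup.card_dvd_of_le le_sup_right)
    rw [Nat.card_zpowers, hx]
  · obtain ⟨a, ha, b, hb, c, hc, hab, hac, hbc⟩ := Finset.two_lt_card.1 (show 2 < ρ.card by omega)
    exact key ⊤ (inferInstance : Group.IsSolvable (⊤ : Subgroup G)) a ha b hb c hc hab hac hbc
      (by rw [Subgroup.card_top]; exact (hprime a ha).2) (by rw [Subgroup.card_top]; exact (hprime b hb).2)
      (by rw [Subgroup.card_top]; exact (hprime c hc).2)

end Cfsg.Agent.S3633
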