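import Cfsg.Statements.S2475
import Cfsg.Agent.SL2Trace.Order

set_option autoImplicit false
open Cfsg

namespace Cfsg.Agent.S2475

section aux

open Matrix
open scoped MatrixGroups
open CfsgLib.SL2Trace (det_eq_one companion mkSL coe_mkSL proj)

variable {F : Type*} [Field F] [Fintype F]

theorem gcd_two_eq (n : ℕ) : Nat.gcd 2 n = if 2 ∣ n then 2 else 1 := by
  split_ifs with h
  · exact Nat.gcd_eq_left h
  · exact (Nat.prime_two.coprime_iff_not_dvd.2 h)

omit [Fintype F] in
theorem sq_eq_one (h2 : (2 : F) ≠ 0) (y : SL(2, F)) (hy : y ^ 2 = 1) : proj y = 1 := by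
  rw [CfsgLib.SL2Trace.proj_eq_one_iff]
  have hc := CfsgLib.SL2Trace.cayley y _ rfl
  rw [← Matrix.SpecialLinearGroup.coe_pow, hy, Matrix.SpecialLinearGroup.coe_one] at hc
  set t := Matrix.trace (y : Matrix (Fin 2) (Fin 2) F) with ht
  have e : ∀ i j, (1 : Matrix (Fin 2) (Fin 2) F) i j - t * y i j + (1 : Matrix (Fin 2) (Fin 2) F) i j = 0 := by
    intro i j
    simpa using congrFun (congrFun hc i) j
  have e00 := e 0 0
  have e01 := e 0 1
  have e10 := e 1 0
  have e11 := e 1 1
  simp at e00 e01 e10 e11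
  have ht0 : t ≠ 0 := by
    intro h; apply h2; rw [h] at e00; linear_combination e00
  have h10 : y 1 0 = 0 := e10.resolve_left ht0
  have h01 : y 0 1 = 0 := e01.resolve_left ht0
  have h11 : y 1 1 = y 0 0 := mul_left_cancel₀ ht0 (by linear_combination e00 - e11)
  have hd := det_eq_one y
  rw [h10, h11] at hd
  have hsq : y 0 0 ^ 2 = 1 := by linear_combination hd
  rcases sq_eq_one_iff.1 hsq with h | h
  · left; ext i j; fin_cases i <;> fin_cases j <;> simp [h10, h01, h11, h]
  · right; ext i j; fin_cases i <;> fin_cases j <;> simp [h10, h01, h11, h]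

omit [Fintype F] in
theorem proj_pow (g : SL(2, F)) (n : ℕ) : proj g ^ n = proj (g ^ n) := rfl

/-- A torus bound in `SL` gives one in `PSL`. -/
theorem dvd_div_of_pow (p : ℕ) [Fact p.Prime] [CharP F p] (g : SL(2, F)) (N : ℕ)
    (hN : N % 2 = (Fintype.card F - 1) % 2) (h : g ^ N = 1) :
    orderOf (proj g) ∣ N / Nat.gcd 2 (Fintype.card F - 1) := by
  apply orderOf_dvd_of_pow_eq_one
  rw [gcd_two_eq]
  split_ifs with h2
  · have hp : (2 : F) ≠ 0 := by
      apply Ring.two_ne_zero
      intro hc
      have := FiniteField.even_card_of_char_two hc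
      have := Fintype.one_lt_card (α := F)
      omega
    rw [proj_pow]
    apply sq_eq_one hp
    rw [← pow_mul, Nat.div_mul_cancel (by omega), h]
  · rw [Nat.div_one, proj_pow, h]; rfl

theorem order_dvd (p : ℕ) [Fact p.Prime] [CharP F p] (g : SL(2, F)) :
    orderOf (proj g) ∈ {m : ℕ | m ∣ p ∨ m ∣ (Fintype.card F - 1) / Nat.gcd 2 (Fintype.card F - 1) ∨
      m ∣ (Fintype.card F + 1) / Nat.gcd 2 (Fintype.card F - 1)} := by
  set t := Matrix.trace (g : Matrix (Fin 2) (Fin 2) F) with ht
  by_cases h4 : t ^ 2 = 4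
  · exact Or.inl (orderOf_dvd_of_pow_eq_one (CfsgLib.SL2Trace.proj_pow_char_eq_one p g h4))
  by_cases hr : ∃ l : F, l ^ 2 - t * l + 1 = 0
  · obtain ⟨l, hl⟩ := hr
    exact Or.inr (Or.inl (dvd_div_of_pow p g _ rfl (CfsgLib.SL2Trace.pow_card_sub_one g t l rfl hl h4)))
  · push Not at hr
    refine Or.inr (Or.inr (dvd_div_of_pow p g _ ?_ (CfsgLib.SL2Trace.pow_card_add_one g t rfl hr)))
    have := Fintype.one_lt_card (α := F)
    omega

omit [Fintype F] in
theorem orderOf_unip (p : ℕ) [Fact p.Prime] [CharP F p] :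
    orderOf (proj (mkSL (!![1, 1; 0, 1] : Matrix (Fin 2) (Fin 2) F) (by simp [Matrix.det_fin_two_of]))) = p := by
  refine orderOf_eq_prime (CfsgLib.SL2Trace.proj_pow_char_eq_one p _ ?_) ?_
  · simp [coe_mkSL, Matrix.trace_fin_two]; norm_num
  · intro h
    rcases (CfsgLib.SL2Trace.proj_eq_one_iff _).1 h with e | e <;>
    · have := congrArg (fun z : SL(2, F) => (z : Matrix (Fin 2) (Fin 2) F) 0 1) e
      simp [coe_mkSL] at this

/-- An element of multiplicative order `N` in a field extension, with trace in `F`, gives an element of `PSL`. -/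
theorem order_companion {K : Type*} [Field K] (ι : F →+* K) (w : K) (N : ℕ) (hw : orderOf w = N) (t : F)
    (ht : w ^ 2 - ι t * w + 1 = 0) :
    N ∣ Nat.gcd 2 (Fintype.card F - 1) * orderOf (proj (companion t)) := by
  set n := orderOf (proj (companion t)) with hn
  have h1 : proj (companion t) ^ n = 1 := pow_orderOf_eq_one _
  rw [proj_pow, CfsgLib.SL2Trace.proj_eq_one_iff] at h1
  have hv : ∀ k : ℕ, (((companion t : Matrix (Fin 2) (Fin 2) F).map ι) ^ k) *ᵥ ![1, -w] = w ^ k • ![1, -w] := by
    intro k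
    induction k with
    | zero => simp
    | succ k ih =>
      have hC : ((companion t : Matrix (Fin 2) (Fin 2) F).map ι) *ᵥ ![1, -w] = w • ![1, -w] := by
        funext i
        fin_cases i <;> simp [companion, Matrix.mulVec, dotProduct, Fin.sum_univ_two]
        linear_combination ht
      rw [pow_succ, ← Matrix.mulVec_mulVec, hC, Matrix.mulVec_smul, ih, smul_smul, pow_succ, mul_comm]
  have hval := hv n
  rw [← RingHom.mapMatrix_apply, ← map_pow, ← Matrix.SpecialLinearGroup.coe_pow] at hval
  have hwn : w ^ n = 1 ∨ w ^ n = -1 := by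
    rcases h1 with e | e <;> rw [e] at hval
    · left
      have := congrFun hval 0
      simpa using this.symm
    · right
      have := congrFun hval 0
      simp at this
      exact this.symm
  rw [gcd_two_eq]
  split_ifs with h2
  · rw [← hw]
    apply orderOf_dvd_of_pow_eq_one
    rw [mul_comm, pow_mul]
    rcases hwn with e | e <;> rw [e] <;> ring
  · rw [one_mul, ← hw]
    apply orderOf_dvd_of_pow_eq_one
    rcases hwn with e | e
    · exact e
    · have hq : Fintype.card F % 2 = 0 := by
        have := Fintype.one_lt_card (α := F); omega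
      haveI : CharP F 2 := ringChar.of_eq (FiniteField.even_card_iff_char_two.2 hq)
      haveI : CharP K 2 := charP_of_injective_ringHom ι.injective 2
      rw [e, CharTwo.neg_eq]

theorem exists_split (p : ℕ) [Fact p.Prime] [CharP F p] (h4 : 4 ≤ Fintype.card F) :
    ∃ x : Matrix.ProjectiveSpecialLinearGroup (Fin 2) F,
      orderOf x = (Fintype.card F - 1) / Nat.gcd 2 (Fintype.card F - 1) := by
  classical
  obtain ⟨a, ha⟩ := IsCyclic.exists_generator (α := Fˣ)
  have hord : orderOf (a : F) = Fintype.card F - 1 := by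
    rw [orderOf_units, orderOf_eq_card_of_forall_mem_zpowers ha, Nat.card_eq_fintype_card, Fintype.card_units]
  have hroot : (a : F) ^ 2 - ((a : F) + (a : F)⁻¹) * a + 1 = 0 := by
    field_simp; ring
  refine ⟨proj (companion ((a : F) + (a : F)⁻¹)), Nat.dvd_antisymm ?_ ?_⟩
  · refine dvd_div_of_pow p _ _ rfl
      (CfsgLib.SL2Trace.pow_card_sub_one _ _ (a : F) (by simp [companion, Matrix.trace_fin_two]) hroot ?_)
    intro h
    have hsq : (a : F) ^ 2 = 1 := by
      have : ((a : F) ^ 2 - 1) ^ 2 = 0 := by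
        field_simp at h
        linear_combination h
      exact sub_eq_zero.1 (sq_eq_zero_iff.1 this)
    have := Nat.le_of_dvd two_pos (orderOf_dvd_of_pow_eq_one hsq)
    omega
  · have := order_companion (RingHom.id F) (a : F) _ hord _ hroot
    rw [Nat.div_dvd_iff_dvd_mul (Nat.gcd_dvd_right _ _) (Nat.gcd_pos_of_pos_left _ two_pos)]
    exact this

open Polynomial in
theorem exists_nonsplit (p : ℕ) [Fact p.Prime] [CharP F p] (h4 : 4 ≤ Fintype.card F) :
    ∃ x : Matrix.ProjectiveSpecialLinearGroup (Fin 2) F,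
      orderOf x = (Fintype.card F + 1) / Nat.gcd 2 (Fintype.card F - 1) := by
  classical
  have hns : ¬ Function.Surjective (fun x : F => x ^ 2 + x) := by
    intro hs
    have hi := Finite.injective_iff_surjective.2 hs (a₁ := 0) (a₂ := -1) (by simp)
    exact neg_ne_zero.2 one_ne_zero hi.symm
  simp only [Function.Surjective, not_forall, not_exists] at hns
  obtain ⟨d, hd⟩ := hns
  let f : F[X] := X ^ 2 + X - C d
  have hdeg : f.natDegree = 2 := by simp only [f]; compute_degree!
  have hirr : Irreducible f := by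
    rw [Polynomial.irreducible_iff_roots_eq_zero_of_degree_le_three (by omega) (by omega),
      Multiset.eq_zero_iff_forall_notMem]
    intro l hl
    have := (Polynomial.mem_roots'.1 hl).2
    simp [f] at this
    exact hd l (sub_eq_zero.1 this)
  haveI : Fact (Irreducible f) := ⟨hirr⟩
  have hf0 : f ≠ 0 := hirr.ne_zero
  haveI : Module.Finite F (AdjoinRoot f) := (AdjoinRoot.powerBasis hf0).finite
  haveI : Finite (AdjoinRoot f) := Module.finite_of_finite F
  letI : Fintype (AdjoinRoot f) := Fintype.ofFinite _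
  have hcard : Fintype.card (AdjoinRoot f) = Fintype.card F ^ 2 := by
    rw [Module.card_eq_pow_finrank (K := F), (AdjoinRoot.powerBasis hf0).finrank, AdjoinRoot.powerBasis_dim, hdeg]
  obtain ⟨z, hz⟩ := IsCyclic.exists_generator (α := (AdjoinRoot f)ˣ)
  have hordz : orderOf (z : AdjoinRoot f) = (Fintype.card F - 1) * (Fintype.card F + 1) := by
    rw [orderOf_units, orderOf_eq_card_of_forall_mem_zpowers hz, Nat.card_eq_fintype_card, Fintype.card_units, hcard]
    obtain ⟨k, hk⟩ : ∃ k, Fintype.card F = k + 1 := ⟨Fintype.card F - 1, by omega⟩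
    rw [hk, Nat.add_sub_cancel]; ring_nf; omega
  set w : AdjoinRoot f := (z : AdjoinRoot f) ^ (Fintype.card F - 1) with hwdef
  have hw : orderOf w = Fintype.card F + 1 := by
    rw [hwdef, orderOf_pow' _ (by omega), hordz, Nat.gcd_eq_right (dvd_mul_right _ _),
      Nat.mul_div_cancel_left _ (by omega)]
  have hw0 : w ≠ 0 := pow_ne_zero _ z.ne_zero
  have hwq : w ^ Fintype.card F = w⁻¹ := by
    apply eq_inv_of_mul_eq_one_left
    rw [← pow_succ, ← hw, pow_orderOf_eq_one]
  obtain ⟨t, ht⟩ : ∃ t : F, AdjoinRoot.of f t = w + w⁻¹ := by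
    have hfix : (w + w⁻¹) ^ Fintype.card F = w + w⁻¹ := by
      obtain ⟨n, _, hq⟩ := FiniteField.card F p
      haveI : CharP (AdjoinRoot f) p := charP_of_injective_ringHom (AdjoinRoot.of f).injective p
      conv_lhs => rw [hq, ← iterateFrobenius_def, map_add, iterateFrobenius_def, iterateFrobenius_def, ← hq]
      rw [inv_pow, hwq, inv_inv, add_comm]
    by_contra hno
    push Not at hno
    let P : (AdjoinRoot f)[X] := X ^ Fintype.card F - X
    have hP : P ≠ 0 := FiniteField.X_pow_card_sub_X_ne_zero _ Fintype.one_lt_card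
    let S : Finset (AdjoinRoot f) := insert (w + w⁻¹) (Finset.univ.image (AdjoinRoot.of f))
    have hsub : S ⊆ P.roots.toFinset := by
      intro u hu
      rw [Multiset.mem_toFinset, Polynomial.mem_roots hP]
      rcases Finset.mem_insert.1 hu with rfl | hu'
      · simp [P, hfix]
      · obtain ⟨a, _, rfl⟩ := Finset.mem_image.1 hu'
        simp [P, ← map_pow, FiniteField.pow_card]
    have h1 := Finset.card_le_card hsub
    have h2 : P.roots.toFinset.card ≤ Fintype.card F := by
      refine (Multiset.toFinset_card_le _).trans ((Polynomial.card_roots' P).trans ?_)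
      rw [FiniteField.X_pow_card_sub_X_natDegree_eq _ Fintype.one_lt_card]
    have h3 : S.card = Fintype.card F + 1 := by
      rw [Finset.card_insert_of_notMem, Finset.card_image_of_injective _ (AdjoinRoot.of f).injective, Finset.card_univ]
      intro h
      obtain ⟨a, _, ha⟩ := Finset.mem_image.1 h
      exact hno a ha
    omega
  have hroot : w ^ 2 - AdjoinRoot.of f t * w + 1 = 0 := by
    rw [ht]; field_simp; ring
  have hno : ∀ l : F, l ^ 2 - t * l + 1 ≠ 0 := by
    intro l hl
    have hl' : (AdjoinRoot.of f l) ^ 2 - AdjoinRoot.of f t * AdjoinRoot.of f l + 1 = 0 := by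
      rw [← map_pow, ← map_mul, ← map_sub, ← map_one (AdjoinRoot.of f), ← map_add, hl, map_zero]
    have hl0 : l ≠ 0 := by rintro rfl; simp at hl
    have hfac : (AdjoinRoot.of f l - w) * (AdjoinRoot.of f l * w - 1) = 0 := by
      rw [ht] at hl'
      field_simp at hl'
      linear_combination hl'
    have hwF : ∃ a : F, a ≠ 0 ∧ AdjoinRoot.of f a = w := by
      rcases mul_eq_zero.1 hfac with h | h
      · exact ⟨l, hl0, sub_eq_zero.1 h⟩
      · exact ⟨l⁻¹, inv_ne_zero hl0, by rw [map_inv₀]; exact inv_eq_of_mul_eq_one_right (sub_eq_zero.1 h)⟩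
    obtain ⟨a, ha0, ha⟩ := hwF
    have : w ^ (Fintype.card F - 1) = 1 := by
      rw [← ha, ← map_pow, FiniteField.pow_card_sub_one_eq_one a ha0, map_one]
    have := Nat.le_of_dvd (by omega) (orderOf_dvd_of_pow_eq_one this)
    omega
  refine ⟨proj (companion t), Nat.dvd_antisymm ?_ ?_⟩
  · refine dvd_div_of_pow p _ _ (by omega)
      (CfsgLib.SL2Trace.pow_card_add_one _ t (by simp [companion, Matrix.trace_fin_two]) hno)
  · have hd : Nat.gcd 2 (Fintype.card F - 1) ∣ Fintype.card F + 1 := by
      rw [show Fintype.card F + 1 = Fintype.card F - 1 + 2 by omega]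
      exact dvd_add (Nat.gcd_dvd_right _ _) (Nat.gcd_dvd_left _ _)
    rw [Nat.div_dvd_iff_dvd_mul hd (Nat.gcd_pos_of_pos_left _ two_pos)]
    exact order_companion (AdjoinRoot.of f) w _ hw t hroot

end aux

/-- The set of element orders of PSL(2,q): let F be a finite field of characteristic p with q ≥ 4 elements and d = gcd(2, q − 1). The orders of elements of PSL(2,F) are exactly the divisors of p, of (q − 1)/d and of (q + 1)/d. -/
theorem result {F : Type*} [Field F] [Fintype F] (p : ℕ) [Fact p.Prime] [CharP F p] (h4 : 4 ≤ Fintype.card F) :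
    Set.range (orderOf : Matrix.ProjectiveSpecialLinearGroup (Fin 2) F → ℕ) =
      {m : ℕ | m ∣ p ∨ m ∣ (Fintype.card F - 1) / Nat.gcd 2 (Fintype.card F - 1) ∨ m ∣ (Fintype.card F + 1) / Nat.gcd 2 (Fintype.card F - 1)} := by
  classical
  apply Set.Subset.antisymm
  · rintro _ ⟨x, rfl⟩
    obtain ⟨g, rfl⟩ := CfsgLib.SL2Trace.proj_surjective x
    exact order_dvd p g
  · rintro m hm
    obtain ⟨x, hx⟩ : ∃ x : Matrix.ProjectiveSpecialLinearGroup (Fin 2) F, m ∣ orderOf x := by
      rcases hm with h | h | h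
      · exact ⟨_, h.trans (orderOf_unip (F := F) p).symm.dvd⟩
      · exact ⟨_, h.trans (exists_split p h4).choose_spec.symm.dvd⟩
      · exact ⟨_, h.trans (exists_nonsplit p h4).choose_spec.symm.dvd⟩
    exact ⟨x ^ (orderOf x / m), orderOf_pow_orderOf_div (orderOf_pos x).ne' hx⟩

end Cfsg.Agent.S2475
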