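import Cfsg.Statements.S0200
import Cfsg.Agent.Small.BaerSuzuki

set_option autoImplicit false
open Cfsg

namespace Cfsg.Agent.S0200

/-- An involution lying in no normal 2-subgroup of a finite group inverts a nontrivial element of odd order (a consequence of the Baer–Suzuki Theorem). -/
theorem result {G : Type*} [Group G] [Finite G] (t : G) (ht : orderOf t = 2) (hO : ∀ N : Subgroup G, N.Normal → IsPGroup 2 N → t ∉ N) : ∃ h : G, h ≠ 1 ∧ Odd (orderOf h) ∧ t * h * t⁻¹ = h⁻¹ := by
  haveI : Fact (Nat.Prime 2) := ⟨Nat.prime_two⟩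
  by_contra hcon
  push Not at hcon
  obtain ⟨N, hN, hNp, htN⟩ := CfsgLib.Small.baerSuzuki_elem (p := 2) t (fun g => by
    have hs : orderOf (g * t * g⁻¹) = 2 := by rw [CfsgLib.Small.orderOf_conj_eq, ht]
    by_cases hts : t = g * t * g⁻¹
    · rw [← hts, Set.pair_eq_singleton, ← Subgroup.zpowers_eq_closure]
      exact IsPGroup.of_card (n := 1) (by rw [Nat.card_zpowers, ht, pow_one])
    generalize g * t * g⁻¹ = s at hs hts
    obtain ⟨k, m, hm, hkm⟩ := Nat.exists_eq_two_pow_mul_odd (orderOf_pos (t * s)).ne'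
    have h1 : ((t * s) ^ 2 ^ k) = 1 := by
      by_contra hne
      refine hcon _ hne ?_ (CfsgLib.Small.invol_conj_pow (CfsgLib.Small.invol_conj_mul ht hs) _)
      rw [orderOf_pow' _ (by positivity), hkm, Nat.gcd_comm,
        Nat.gcd_eq_left (dvd_mul_right _ m), Nat.mul_div_cancel_left _ (by positivity)]
      exact hm
    obtain ⟨j, -, hj⟩ := (Nat.dvd_prime_pow Nat.prime_two).1 (orderOf_dvd_of_pow_eq_one h1)
    exact IsPGroup.of_card (n := j + 1) (by
      rw [CfsgLib.Small.card_closure_pair_invol ht hs hts, hj, pow_succ']))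
  exact hO N hN hNp htN

end Cfsg.Agent.S0200
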