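import Cfsg.Statements.S4033
import Cfsg.Agent.TwoRegularSizes.Main
import Cfsg.Agent.GroupBasics.Conjugates

set_option autoImplicit false
open Cfsg

namespace Cfsg.Agent.S4033

/-- Let G be a finite group and p a prime, and suppose the conjugacy classes of p-regular elements of G (elements of order prime to p) have exactly two distinct sizes. Then either G has an abelian p-complement (an abelian subgroup of order prime to p and p-power index), or there are a prime q ≠ p, a Sylow p-subgroup P, a Sylow q-subgroup Q and a central subgroup A such that PQ is a normal subgroup of order #P·#Q and G is the internal direct product PQ × A. -/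
theorem result {G : Type*} [Group G] [Finite G] {p : ℕ} (hp : p.Prime)
    (h2 : Set.ncard (Set.range fun x : {x : G // (orderOf x).Coprime p} => (ConjClasses.mk (x : G)).carrier.ncard) = 2) :
    (∃ H : Subgroup G, IsMulCommutative H ∧ ¬ p ∣ Nat.card H ∧ ∃ k : ℕ, H.index = p ^ k) ∨
    (∃ (q : ℕ) (_ : Fact q.Prime) (P : Sylow p G) (Q : Sylow q G) (A : Subgroup G), q ≠ p ∧
        A ≤ Subgroup.center G ∧ Nat.card ↥((P : Subgroup G) ⊔ (Q : Subgroup G)) = Nat.card P * Nat.card Q ∧
        ((P : Subgroup G) ⊔ (Q : Subgroup G)).Normal ∧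
        ((P : Subgroup G) ⊔ (Q : Subgroup G)) ⊓ A = ⊥ ∧ ((P : Subgroup G) ⊔ (Q : Subgroup G)) ⊔ A = ⊤) := by
  classical
  set f := fun x : {x : G // (orderOf x).Coprime p} => (ConjClasses.mk (x : G)).carrier.ncard with hf
  obtain ⟨c, d, hcd, hset⟩ := Set.ncard_eq_two.1 h2
  have hone : f ⟨1, by rw [orderOf_one]; exact Nat.coprime_one_left p⟩ = 1 := by
    show (ConjClasses.mk (1 : G)).carrier.ncard = 1
    rw [CfsgLib.GroupBasics.card_carrier_eq_index_centralizer, Subgroup.index_eq_one, eq_top_iff]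
    exact fun g _ => CfsgLib.TwoRegularSizes.mem_cent.2 (Commute.one_right g)
  obtain ⟨m, hm, hrange⟩ : ∃ m, m ≠ 1 ∧ Set.range f = {1, m} := by
    have h1 : (1 : ℕ) ∈ ({c, d} : Set ℕ) := hset ▸ ⟨_, hone⟩
    rcases h1 with e | e
    · exact ⟨d, fun e' => hcd (by rw [← e, e']), by rw [hset, ← e]⟩
    · rw [Set.mem_singleton_iff] at e
      exact ⟨c, fun e' => hcd (by rw [← e, e']), by rw [hset, ← e, Set.pair_comm]⟩
  refine CfsgLib.TwoRegularSizes.structure_thm (m := m) ⟨hp, fun x hx => ?_, ?_⟩
  · have hmem : f ⟨x, hx⟩ ∈ ({1, m} : Set ℕ) := hrange ▸ Set.mem_range_self _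
    simp only [hf, CfsgLib.GroupBasics.card_carrier_eq_index_centralizer] at hmem
    rcases hmem with e | e
    · left
      rw [Subgroup.index_eq_one] at e
      exact Subgroup.mem_center_iff.2 fun g =>
        (CfsgLib.TwoRegularSizes.mem_cent.1 (e ▸ Subgroup.mem_top g : g ∈ Subgroup.centralizer ({x} : Set G))).eq
    · exact Or.inr e
  · obtain ⟨⟨x, hx⟩, e⟩ : m ∈ Set.range f := hrange ▸ Or.inr rfl
    refine ⟨x, hx, ?_⟩
    rw [← CfsgLib.GroupBasics.card_carrier_eq_index_centralizer]
    exact e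

end Cfsg.Agent.S4033
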