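import Cfsg.Statements.S4034
import Cfsg.Agent.GroupBasics.AbelianHall
import Cfsg.Agent.Characters.Burnside
import Cfsg.Agent.Solvable.Hall
import Cfsg.Agent.Solvable.Fitting
import Cfsg.Agent.Transfer.Residual

set_option autoImplicit false
open Cfsg

namespace Cfsg.Agent.S4034

universe u

/-- A number all whose prime divisors equal `p` is a power of `p`. -/
theorem exists_eq_pow_of_forall {p n : ℕ} (_hp : p.Prime) (hn : n ≠ 0)
    (h : ∀ r : ℕ, r.Prime → r ∣ n → r = p) : ∃ k : ℕ, n = p ^ k :=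
  ⟨_, Nat.eq_prime_pow_of_unique_prime_dvd hn fun {d} hd hdn => h d hd hdn⟩

/-- The hypothesis on the `p`-regular classes, in terms of centralizers. -/
theorem index_centralizer_eq {G : Type u} [Group G] [Finite G] {p : ℕ}
    (h : ∀ x : G, (orderOf x).Coprime p → ∃ k : ℕ, (ConjClasses.mk x).carrier.ncard = p ^ k)
    {x : G} (hx : (orderOf x).Coprime p) :
    ∃ k : ℕ, (Subgroup.centralizer ({x} : Set G)).index = p ^ k := by
  obtain ⟨k, hk⟩ := h x hx
  exact ⟨k, by rw [← CfsgLib.GroupBasics.card_carrier_eq_index_centralizer, hk]⟩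

/-- The hypothesis passes to quotients. -/
theorem quotient_hyp {G : Type u} [Group G] [Finite G] {p : ℕ} (hp : p.Prime)
    (h : ∀ x : G, (orderOf x).Coprime p → ∃ k : ℕ, (ConjClasses.mk x).carrier.ncard = p ^ k)
    (N : Subgroup G) [N.Normal] :
    ∀ x : G ⧸ N, (orderOf x).Coprime p → ∃ k : ℕ, (ConjClasses.mk x).carrier.ncard = p ^ k := by
  haveI : Fact p.Prime := ⟨hp⟩
  intro y hy
  obtain ⟨g, rfl⟩ := QuotientGroup.mk_surjective y
  obtain ⟨a, b, ⟨i, hi⟩, ⟨j, hj⟩, ⟨k, hak⟩, hbp, rfl⟩ :=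
    CfsgLib.LocalStructure.exists_pPart_mul (p := p) g
  set g := a * b with hg
  have himg : ((b : G) : G ⧸ N) = ((g : G) : G ⧸ N) := by
    have h1 : orderOf (a : G ⧸ N) ∣ p ^ k := hak ▸ orderOf_map_dvd (QuotientGroup.mk' N) a
    have h2 : orderOf (a : G ⧸ N) ∣ orderOf (g : G ⧸ N) :=
      orderOf_dvd_of_mem_zpowers ⟨i, by simp only [← QuotientGroup.mk_zpow]; exact congrArg _ hi⟩
    have h3 : (a : G ⧸ N) = 1 :=
      orderOf_eq_one_iff.1 (Nat.eq_one_of_dvd_coprimes (hy.pow_right k) h2 h1)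
    rw [hg, QuotientGroup.mk_mul, h3, one_mul]
  obtain ⟨m, hm⟩ := index_centralizer_eq h hbp
  rw [CfsgLib.GroupBasics.card_carrier_eq_index_centralizer, ← himg]
  have hle : (Subgroup.centralizer ({b} : Set G)).map (QuotientGroup.mk' N) ≤
      Subgroup.centralizer ({(b : G ⧸ N)} : Set (G ⧸ N)) := by
    rintro _ ⟨c, hc, rfl⟩
    rw [Subgroup.mem_centralizer_singleton_iff]
    exact congrArg (QuotientGroup.mk' N) (Subgroup.mem_centralizer_singleton_iff.1 hc)
  have hdvd := (Subgroup.index_dvd_of_le hle).trans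
    (Subgroup.index_map_dvd _ (QuotientGroup.mk'_surjective N))
  obtain ⟨e, -, he⟩ := (Nat.dvd_prime_pow hp).1 (hm ▸ hdvd)
  exact ⟨e, he⟩

/-- The hypothesis passes to normal subgroups. -/
theorem normal_hyp {G : Type u} [Group G] [Finite G] {p : ℕ} (hp : p.Prime)
    (h : ∀ x : G, (orderOf x).Coprime p → ∃ k : ℕ, (ConjClasses.mk x).carrier.ncard = p ^ k)
    (N : Subgroup G) [N.Normal] :
    ∀ x : N, (orderOf x).Coprime p → ∃ k : ℕ, (ConjClasses.mk x).carrier.ncard = p ^ k := by
  intro x hx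
  obtain ⟨m, hm⟩ := index_centralizer_eq h (x := (x : G)) (by rwa [Subgroup.orderOf_coe])
  rw [CfsgLib.GroupBasics.card_carrier_eq_index_centralizer]
  have heq : (Subgroup.centralizer ({(x : G)} : Set G)).subgroupOf N =
      Subgroup.centralizer ({x} : Set N) := by
    ext y
    simp only [Subgroup.mem_subgroupOf, Subgroup.mem_centralizer_singleton_iff, Subtype.ext_iff,
      Subgroup.coe_mul]
  rw [← heq]
  obtain ⟨e, -, he⟩ := (Nat.dvd_prime_pow hp).1
    (hm ▸ CfsgLib.Transfer.relIndex_dvd_index_of_normal_right (Subgroup.centralizer ({(x : G)} : Set G)) N)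
  exact ⟨e, he⟩

/-- A group whose `p`-regular classes have `p`-power size is solvable. -/
theorem isSolvable_of_pRegular {p : ℕ} (hp : p.Prime) : ∀ (n : ℕ) (G : Type u) [Group G] [Finite G],
    Nat.card G = n →
    (∀ x : G, (orderOf x).Coprime p → ∃ k : ℕ, (ConjClasses.mk x).carrier.ncard = p ^ k) →
    Group.IsSolvable G := by
  intro n
  induction n using Nat.strong_induction_on with
  | _ n ih =>
    intro G _ _ hn h
    haveI : Fact p.Prime := ⟨hp⟩
    by_cases hab : ∀ a b : G, a * b = b * a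
    · exact Group.isSolvable_of_comm hab
    by_cases hsimple : ∀ N : Subgroup G, N.Normal → N = ⊥ ∨ N = ⊤
    · exfalso
      haveI : Nontrivial G := ⟨by
        by_contra hs; push Not at hs; exact hab fun a b => (hs _ _)⟩
      haveI : IsSimpleGroup G := ⟨hsimple⟩
      have hnp : ¬ IsPGroup p G := fun hG => by
        have hc := hG.center_nontrivial
        rcases hsimple _ (inferInstance : (Subgroup.center G).Normal) with hb | hb
        · obtain ⟨z, hz⟩ := exists_ne (1 : Subgroup.center G)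
          exact hz (Subtype.ext (Subgroup.mem_bot.1 (hb ▸ z.2)))
        · exact hab fun a b =>
            (Subgroup.mem_center_iff.1 (show a ∈ Subgroup.center G from hb ▸ Subgroup.mem_top a) b).symm
      obtain ⟨q, hq, hqdvd, hqp⟩ : ∃ q : ℕ, q.Prime ∧ q ∣ Nat.card G ∧ q ≠ p := by
        by_contra hno
        push Not at hno
        obtain ⟨k, hk⟩ := exists_eq_pow_of_forall hp Nat.card_pos.ne' hno
        exact hnp (IsPGroup.of_card hk)
      haveI : Fact q.Prime := ⟨hq⟩
      obtain ⟨g, hg⟩ := exists_prime_orderOf_dvd_card' q hqdvd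
      obtain ⟨k, hk⟩ := index_centralizer_eq h (x := g) (by rw [hg]; exact (Nat.coprime_primes hq hp).2 hqp)
      have hg1 : g ≠ 1 := fun h1 => hq.ne_one (by rw [← hg, h1, orderOf_one])
      have hprime := CfsgLib.Characters.prime_card_of_primePow_class p k hp g hg1 hk
      haveI : Fact (Nat.card G).Prime := ⟨hprime⟩
      haveI : IsCyclic G := isCyclic_of_prime_card rfl
      exact hab fun a b => mul_comm' a b
    · push Not at hsimple
      obtain ⟨N, hN, hNb, hNt⟩ := hsimple
      haveI := hN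
      have h1 : Nat.card N < n := hn ▸ lt_of_le_of_ne (Subgroup.card_le_card_group N)
        (fun he => hNt (Subgroup.eq_top_of_card_eq N he))
      have h2 : Nat.card (G ⧸ N) < n := by
        rw [← hn, Subgroup.card_eq_card_quotient_mul_card_subgroup N]
        exact lt_mul_right Nat.card_pos ((Subgroup.one_lt_card_iff_ne_bot N).2 hNb)
      haveI := ih _ h1 N rfl (normal_hyp hp h N)
      haveI := ih _ h2 (G ⧸ N) rfl (quotient_hyp hp h N)
      exact Group.isSolvable_of_ker_le_range N.subtype (QuotientGroup.mk' N) (by simp)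

/-- In such a group the `p`-complements are commutative. -/
theorem commutative_of_pRegular {p : ℕ} (hp : p.Prime) : ∀ (n : ℕ) (G : Type u) [Group G] [Finite G],
    Nat.card G = n →
    (∀ x : G, (orderOf x).Coprime p → ∃ k : ℕ, (ConjClasses.mk x).carrier.ncard = p ^ k) →
    ∀ H : Subgroup G, ¬ p ∣ Nat.card H → (∃ k : ℕ, H.index = p ^ k) → IsMulCommutative H := by
  intro n
  induction n using Nat.strong_induction_on with
  | _ n ih =>
    intro G _ _ hn h H hHp hidx
    haveI : Fact p.Prime := ⟨hp⟩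
    haveI := isSolvable_of_pRegular hp _ G rfl h
    by_cases hcore : Cfsg.pCore p G = ⊥
    swap
    · -- reduce modulo the `p`-core
      haveI := CfsgLib.Solvable.pCore_normal (G := G) p
      obtain ⟨j, hj⟩ := IsPGroup.iff_card.1 (CfsgLib.Solvable.isPGroup_pCore (G := G) p)
      have h2 : Nat.card (G ⧸ Cfsg.pCore p G) < n := by
        rw [← hn, Subgroup.card_eq_card_quotient_mul_card_subgroup (Cfsg.pCore p G)]
        exact lt_mul_right Nat.card_pos ((Subgroup.one_lt_card_iff_ne_bot _).2 hcore)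
      obtain ⟨k, hk⟩ := hidx
      have hinj : ∀ y ∈ H, (y : G ⧸ Cfsg.pCore p G) = 1 → y = 1 := fun y hy h1 => by
        have hd := Subgroup.orderOf_dvd_natCard _ ((QuotientGroup.eq_one_iff y).1 h1)
        rw [hj] at hd
        exact orderOf_eq_one_iff.1 (Nat.eq_one_of_dvd_coprimes
          ((hp.coprime_iff_not_dvd.2 hHp).pow_left j) hd (Subgroup.orderOf_dvd_natCard _ hy))
      let f : G →* G ⧸ Cfsg.pCore p G := QuotientGroup.mk' (Cfsg.pCore p G)
      have hcard : ¬ p ∣ Nat.card (H.map f) := fun hd => hHp (hd.trans (H.card_map_dvd f))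
      have hind : (H.map f).index ∣ p ^ k :=
        hk ▸ H.index_map_dvd (f := f) (QuotientGroup.mk'_surjective _)
      obtain ⟨e, -, he⟩ := (Nat.dvd_prime_pow hp).1 hind
      have hq := quotient_hyp hp h (Cfsg.pCore p G)
      have hcomm : IsMulCommutative (H.map f) := ih _ h2 (G ⧸ Cfsg.pCore p G) rfl hq (H.map f) hcard ⟨e, he⟩
      refine ⟨⟨fun a b => Subtype.ext ?_⟩⟩
      have hcomm' : ∀ u v : G ⧸ Cfsg.pCore p G, u ∈ H.map f → v ∈ H.map f → u * v = v * u :=
        fun u v hu hv => congrArg Subtype.val (hcomm.is_comm.comm ⟨u, hu⟩ ⟨v, hv⟩)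
      have h1 : f ((a : G) * b) = f (b * a) := by
        rw [map_mul, map_mul]
        exact hcomm' _ _ (Subgroup.mem_map_of_mem f a.2) (Subgroup.mem_map_of_mem f b.2)
      have h4 : f (((a : G) * b)⁻¹ * (b * a)) = 1 := by rw [map_mul, map_inv, h1, inv_mul_cancel]
      have h3 := hinj (((a : G) * b)⁻¹ * (b * a))
        (H.mul_mem (H.inv_mem (H.mul_mem a.2 b.2)) (H.mul_mem b.2 a.2)) h4
      exact inv_mul_eq_one.1 h3
    -- every `p`-complement contains the Fitting subgroup
    have hFle : ∀ K : Subgroup G, ¬ p ∣ Nat.card K → (∃ k : ℕ, K.index = p ^ k) →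
        Cfsg.fittingSubgroup G ≤ K := by
      intro K hKp hKi
      rw [CfsgLib.Solvable.fittingSubgroup_eq_iSup]
      refine iSup_le fun q => ?_
      by_cases hqp : (q : ℕ) = p
      · rw [hqp, hcore]; exact bot_le
      obtain ⟨r₀, hr₀⟩ := q
      generalize hQ : Cfsg.pCore r₀ G = Q
      haveI : Q.Normal := hQ ▸ CfsgLib.Solvable.pCore_normal (G := G) r₀
      refine CfsgLib.Solvable.le_isPiHall_of_normal (π := {r : ℕ | r ≠ p}) (H := K) (N := Q) ?_ ?_
      · refine ⟨fun r hr hd he => hKp (he ▸ hd), fun r hr hne hd => ?_⟩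
        obtain ⟨k, hk⟩ := hKi
        exact hne ((Nat.prime_dvd_prime_iff_eq hr hp).1 (hr.dvd_of_dvd_pow (hk ▸ hd)))
      · exact CfsgLib.Solvable.piNat_of_isPGroup hr₀ hqp
          (hQ ▸ CfsgLib.Solvable.isPGroup_pCore (G := G) r₀)
    have hF : ∀ x : G, (orderOf x).Coprime p → x ∈ Cfsg.fittingSubgroup G ∧
        Cfsg.fittingSubgroup G ≤ Subgroup.centralizer ({x} : Set G) := by
      intro x hx
      obtain ⟨m, hm⟩ := index_centralizer_eq h hx
      obtain ⟨K, hK⟩ := CfsgLib.Solvable.exists_isPiHall {r : ℕ | r ≠ p} (Subgroup.centralizer ({x} : Set G))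
      have hKle : K.map (Subgroup.centralizer ({x} : Set G)).subtype ≤ Subgroup.centralizer ({x} : Set G) :=
        Subgroup.map_subtype_le K
      have hFC : Cfsg.fittingSubgroup G ≤ Subgroup.centralizer ({x} : Set G) := by
        refine le_trans (hFle _ ?_ ?_) hKle
        · rw [Subgroup.card_map_of_injective (Subgroup.subtype_injective _)]
          exact fun hd => hK.1 p hp hd rfl
        · obtain ⟨e, he⟩ := exists_eq_pow_of_forall hp K.index_ne_zero_of_finite
            (fun r hr hd => by by_contra hne; exact hK.2 r hr hne hd)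
          exact ⟨e + m, by rw [Subgroup.index_map_subtype, he, hm, pow_add]⟩
      refine ⟨CfsgLib.Solvable.centralizer_fittingSubgroup_le ?_, hFC⟩
      rw [Subgroup.mem_centralizer_iff]
      exact fun f hf => Subgroup.mem_centralizer_singleton_iff.1 (hFC hf)
    have hcopH : ∀ y : G, y ∈ H → (orderOf y).Coprime p := fun y hy =>
      (hp.coprime_iff_not_dvd.2 fun hd => hHp (hd.trans (Subgroup.orderOf_dvd_natCard H hy))).symm
    exact ⟨⟨fun a b => Subtype.ext
      (Subgroup.mem_centralizer_singleton_iff.1 ((hF b (hcopH b b.2)).2 (hF a (hcopH a a.2)).1))⟩⟩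

/-- Let G be a finite group and p a prime. Every conjugacy class of p-regular elements of G (elements of order prime to p) has p-power size if and only if G has an abelian p-complement, i.e. an abelian subgroup of order prime to p and p-power index. -/
theorem result {G : Type*} [Group G] [Finite G] {p : ℕ} (hp : p.Prime) :
    (∀ x : G, (orderOf x).Coprime p → ∃ k : ℕ, (ConjClasses.mk x).carrier.ncard = p ^ k) ↔
    (∃ H : Subgroup G, IsMulCommutative H ∧ ¬ p ∣ Nat.card H ∧ ∃ k : ℕ, H.index = p ^ k) := by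
  haveI : Fact p.Prime := ⟨hp⟩
  constructor
  · intro h
    haveI := isSolvable_of_pRegular hp _ G rfl h
    obtain ⟨H, hH⟩ := CfsgLib.Solvable.exists_isPiHall {r : ℕ | r ≠ p} G
    have hHp : ¬ p ∣ Nat.card H := fun hd => hH.1 p hp hd rfl
    have hidx : ∃ k : ℕ, H.index = p ^ k := exists_eq_pow_of_forall hp H.index_ne_zero_of_finite
      fun r hr hd => by by_contra hne; exact hH.2 r hr hne hd
    exact ⟨H, commutative_of_pRegular hp _ G rfl h H hHp hidx, hHp, hidx⟩
  · rintro ⟨H, hHc, hHp, k, hk⟩ x hx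
    haveI := hHc
    have hcard : ∀ q : ℕ, q.Prime → q ∣ H.index → q = p := fun q hq hd =>
      (Nat.prime_dvd_prime_iff_eq hq hp).1 (hq.dvd_of_dvd_pow (hk ▸ hd))
    obtain ⟨c, -, hc⟩ := CfsgLib.GroupBasics.exists_conj_mem_of_abelian_hall (H := H)
      (fun q hq hd hd' => hHp (hcard q hq hd' ▸ hd)) x ⊤ le_top (Subgroup.mem_top x) (fun q hq hd hd' => by
        rw [hcard q hq hd'] at hd
        exact (hp.coprime_iff_not_dvd.1 hx.symm) hd)
    have hle : H ≤ Subgroup.centralizer ({c * x * c⁻¹} : Set G) := fun y hy =>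
      Subgroup.mem_centralizer_singleton_iff.2 (congrArg Subtype.val (mul_comm' (⟨y, hy⟩ : H) ⟨_, hc⟩))
    have heq : ConjClasses.mk x = ConjClasses.mk (c * x * c⁻¹) :=
      ConjClasses.mk_eq_mk_iff_isConj.2 (isConj_iff.2 ⟨c, rfl⟩)
    rw [heq, CfsgLib.GroupBasics.card_carrier_eq_index_centralizer]
    obtain ⟨i, -, hi⟩ := (Nat.dvd_prime_pow hp).1 (hk ▸ Subgroup.index_dvd_of_le hle)
    exact ⟨i, hi⟩

end Cfsg.Agent.S4034
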