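import Cfsg.Statements.S4127
import Cfsg.Agent.PiClasses69.PTools
import Cfsg.Agent.Transfer.NormalPComplement
import Cfsg.Agent.Coprime.PTimesQ

set_option autoImplicit false
open Cfsg

namespace Cfsg.Agent.S4127

open scoped Pointwise
open CfsgLib.PTools69

/-- Let G be a finite group, p a prime and p^a the largest power of p dividing the size of any conjugacy class of G. If some element of p-power order has a conjugacy class of size exactly p^a, then G has a normal p-complement. -/
theorem result {G : Type*} [Group G] [Finite G] (p : ℕ) [Fact p.Prime]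
    (a : ℕ) (hmax : ∀ y : G, ¬ p ^ (a + 1) ∣ (Subgroup.centralizer ({y} : Set G)).index)
    (hx : ∃ x : G, (∃ k : ℕ, orderOf x = p ^ k) ∧ (Subgroup.centralizer ({x} : Set G)).index = p ^ a) :
    Cfsg.HasNormalPComplement p G := by
  have hp : p.Prime := Fact.out
  obtain ⟨x, ⟨k0, hxk⟩, hxa⟩ := hx
  set H := Subgroup.centralizer ({x} : Set G) with hH
  have hmemH : ∀ g, g ∈ H ↔ g * x = x * g := fun g => Subgroup.mem_centralizer_singleton_iff
  -- every `p'`-element of `C(x)` centralises a Sylow subgroup of `C(x)`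
  have step1 : ∀ y : H, ¬ p ∣ orderOf y → ∃ Q : Sylow p H,
      (Q : Subgroup H) ≤ Subgroup.centralizer ({y} : Set H) := by
    intro y hy
    have hcomm : Commute x (y : G) := ((hmemH y).mp y.2).symm
    have hy' : ¬ p ∣ orderOf (y : G) := by rwa [Subgroup.orderOf_coe]
    set z := x * (y : G) with hz
    have hxz : ∀ g : G, g * z = z * g → g * x = x * g ∧ g * (y : G) = (y : G) * g := by
      intro g hg
      have hxgen : x ∈ Subgroup.zpowers z := by
        have h1 : x ^ orderOf (y : G) ∈ Subgroup.zpowers z := by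
          have : z ^ orderOf (y : G) = x ^ orderOf (y : G) := by
            rw [hz, hcomm.mul_pow, pow_orderOf_eq_one, mul_one]
          rw [← this]; exact Subgroup.pow_mem _ (Subgroup.mem_zpowers z) _
        refine mem_of_pow_mem ?_ h1
        rw [hxk]
        exact ((hp.coprime_iff_not_dvd.mpr hy').pow_left k0).symm
      have hygen : (y : G) ∈ Subgroup.zpowers z := by
        have : x⁻¹ * z ∈ Subgroup.zpowers z :=
          Subgroup.mul_mem _ (Subgroup.inv_mem _ hxgen) (Subgroup.mem_zpowers z)
        rwa [hz, inv_mul_cancel_left] at this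
      obtain ⟨i, hi⟩ := Subgroup.mem_zpowers_iff.mp hxgen
      obtain ⟨j, hj⟩ := Subgroup.mem_zpowers_iff.mp hygen
      exact ⟨hi ▸ (show Commute g z from hg).zpow_right i,
        hj ▸ (show Commute g z from hg).zpow_right j⟩
    set Cy := Subgroup.centralizer ({y} : Set H) with hCy
    have hmap : Cy.map H.subtype = Subgroup.centralizer ({z} : Set G) := by
      ext g
      rw [Subgroup.mem_centralizer_singleton_iff]
      constructor
      · rintro ⟨h, hh, rfl⟩
        rw [SetLike.mem_coe, hCy, Subgroup.mem_centralizer_singleton_iff] at hh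
        have h2 : Commute (h : G) (y : G) := congrArg Subtype.val hh
        exact (Commute.mul_right ((hmemH h).mp h.2) h2).eq
      · intro hg
        obtain ⟨h1, h2⟩ := hxz g hg
        exact ⟨⟨g, (hmemH g).mpr h1⟩,
          (Subgroup.mem_centralizer_singleton_iff).mpr (Subtype.ext h2), rfl⟩
    have hidx : ¬ p ∣ Cy.index := by
      intro hd
      apply hmax z
      rw [← hmap, Subgroup.index_map_subtype, hxa, pow_succ, mul_comm]
      exact Nat.mul_dvd_mul hd dvd_rfl
    obtain ⟨Q0⟩ := (inferInstance : Nonempty (Sylow p Cy))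
    have hQidx : ¬ p ∣ ((Q0 : Subgroup Cy).map Cy.subtype).index := by
      rw [Subgroup.index_map_subtype, hp.dvd_mul]
      exact fun h => h.elim Q0.not_dvd_index hidx
    have hQp : IsPGroup p ((Q0 : Subgroup Cy).map Cy.subtype) := Q0.isPGroup'.map _
    exact ⟨hQp.toSylow hQidx, Subgroup.map_subtype_le _⟩
  obtain ⟨P⟩ := (inferInstance : Nonempty (Sylow p H))
  -- the Sylow subgroup of `C(x)` is normal and centralised by all `p'`-elements
  have hconj : ∀ h : H, ∃ g : H, g⁻¹ * h * g ∈ Subgroup.normalizer ((P : Subgroup H) : Set H) ∧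
      (¬ p ∣ orderOf h → g⁻¹ * h * g ∈ Subgroup.centralizer ((P : Subgroup H) : Set H)) := by
    intro h
    obtain ⟨e, f, hef, ⟨k, hk⟩, hf⟩ := exists_parts (p := p) h
    obtain ⟨Q, hQ⟩ := step1 _ hf
    set Cy := Subgroup.centralizer ({h ^ f} : Set H) with hCy
    have heC : h ^ e ∈ Cy := Subgroup.mem_centralizer_singleton_iff.mpr (Commute.pow_pow_self h e f).eq
    -- a Sylow subgroup of the centraliser containing the `p`-part
    have hu : IsPGroup p (Subgroup.zpowers (⟨h ^ e, heC⟩ : Cy)) := by
      rw [IsPGroup.iff_card]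
      obtain ⟨j, -, hj⟩ := (Nat.dvd_prime_pow hp).mp (orderOf_dvd_of_pow_eq_one
        (show (⟨h ^ e, heC⟩ : Cy) ^ p ^ k = 1 from Subtype.ext hk))
      exact ⟨j, by rw [Nat.card_zpowers, hj]⟩
    obtain ⟨R, hR⟩ := hu.exists_le_sylow
    have hidx : ¬ p ∣ Cy.index := fun hd => Q.not_dvd_index (hd.trans (Subgroup.index_dvd_of_le hQ))
    have hRidx : ¬ p ∣ ((R : Subgroup Cy).map Cy.subtype).index := by
      rw [Subgroup.index_map_subtype, hp.dvd_mul]
      exact fun h => h.elim R.not_dvd_index hidx
    let R' : Sylow p H := (R.isPGroup'.map Cy.subtype).toSylow hRidx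
    obtain ⟨g, hg⟩ := MulAction.exists_smul_eq H P R'
    have hmemP : ∀ r ∈ (R' : Subgroup H), g⁻¹ * r * g ∈ (P : Subgroup H) := by
      intro r hr
      rw [← hg, Sylow.coe_subgroup_smul] at hr
      obtain ⟨w, hw, rfl⟩ := hr
      show g⁻¹ * (g * w * g⁻¹) * g ∈ _
      rw [show g⁻¹ * (g * w * g⁻¹) * g = w by group]
      exact hw
    have hcen : g⁻¹ * h ^ f * g ∈ Subgroup.centralizer ((P : Subgroup H) : Set H) := by
      rw [Subgroup.mem_centralizer_iff]
      intro r hr
      have hr' : g * r * g⁻¹ ∈ (R' : Subgroup H) := by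
        rw [← hg, Sylow.coe_subgroup_smul]
        exact ⟨r, hr, by simp [MulAut.smul_def, MulAut.conj_apply]⟩
      have hc : g * r * g⁻¹ * h ^ f = h ^ f * (g * r * g⁻¹) :=
        Subgroup.mem_centralizer_singleton_iff.mp (Subgroup.map_subtype_le (R : Subgroup Cy) hr')
      calc r * (g⁻¹ * h ^ f * g) = g⁻¹ * (g * r * g⁻¹ * h ^ f) * g := by group
        _ = g⁻¹ * h ^ f * g * r := by rw [hc]; group
    refine ⟨g, ?_, fun hh => ?_⟩
    · rw [hef, show g⁻¹ * (h ^ e * h ^ f) * g = (g⁻¹ * h ^ e * g) * (g⁻¹ * h ^ f * g) by group]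
      exact Subgroup.mul_mem _ (Subgroup.le_normalizer (hmemP _ ⟨⟨h ^ e, heC⟩,
        hR (Subgroup.mem_zpowers _), rfl⟩)) (Subgroup.centralizer_le_normalizer _ hcen)
    · have he1 : h ^ e = 1 := by
        rw [← orderOf_eq_one_iff]
        by_contra hne
        obtain ⟨q, hq, hqd⟩ := Nat.exists_prime_and_dvd hne
        have hqp : q = p := (Nat.prime_dvd_prime_iff_eq hq hp).mp
          (hq.dvd_of_dvd_pow (hqd.trans (orderOf_dvd_of_pow_eq_one hk)))
        exact hh (hqp ▸ hqd.trans (orderOf_pow_dvd e))
      have hhf : h = h ^ f := by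
        conv_lhs => rw [hef, he1, one_mul]
      rw [hhf]; exact hcen
  have hN : Subgroup.normalizer ((P : Subgroup H) : Set H) = ⊤ := by
    apply Subgroup.eq_top_of_le_card
    by_contra hlt
    rw [not_le] at hlt
    -- union of conjugates of a proper subgroup
    set N := Subgroup.normalizer ((P : Subgroup H) : Set H) with hN
    haveI : Fintype (H ⧸ N) := Fintype.ofFinite _
    have hall : ∀ h : H, h = 1 ∨ ∃ q : (H ⧸ N), ∃ m ∈ N, m ≠ 1 ∧ q.out * m * q.out⁻¹ = h := by
      intro h
      by_cases h1 : h = 1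
      · exact Or.inl h1
      right
      obtain ⟨g, hg, -⟩ := hconj h
      set q : H ⧸ N := QuotientGroup.mk g
      obtain ⟨n, hn⟩ : ∃ n ∈ N, q.out = g * n :=
        ⟨g⁻¹ * q.out, QuotientGroup.eq.mp (QuotientGroup.out_eq' q).symm, by group⟩
      refine ⟨q, n⁻¹ * (g⁻¹ * h * g) * n, N.mul_mem (N.mul_mem (N.inv_mem hn.1) hg) hn.1, ?_, ?_⟩
      · intro h2
        apply h1
        rw [mul_eq_one_iff_eq_inv, mul_eq_left] at h2
        rw [show h = g * (g⁻¹ * h * g) * g⁻¹ by group, h2]; group
      · rw [hn.2]; group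
    classical
    haveI : Fintype H := Fintype.ofFinite H
    let φ : Option ((H ⧸ N) × {m : N // (m : H) ≠ 1}) → H := fun o =>
      o.elim 1 (fun a => a.1.out * ((a.2 : N) : H) * a.1.out⁻¹)
    have hs : Function.Surjective φ := by
      intro h
      rcases hall h with rfl | ⟨q, m, hm, hm1, rfl⟩
      · exact ⟨none, rfl⟩
      · exact ⟨some (q, ⟨⟨m, hm⟩, hm1⟩), rfl⟩
    have hle := Nat.card_le_card_of_surjective φ hs
    have hm : Nat.card {m : N // (m : H) ≠ 1} + 1 = Nat.card N := by
      rw [← Finite.card_option]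
      apply Nat.card_congr
      refine (Equiv.optionCongr (Equiv.subtypeEquivRight (fun m => ?_))).trans
        (Equiv.optionSubtypeNe (1 : N))
      exact ⟨fun h e => h (by rw [e]; rfl), fun h e => h (Subtype.ext e)⟩
    rw [Finite.card_option, Nat.card_prod, Subgroup.card_eq_card_quotient_mul_card_subgroup N,
      ← hm, Nat.mul_succ] at hle
    have h2 : 2 ≤ Nat.card (H ⧸ N) := by
      rw [← Subgroup.index_eq_card]
      have h0 := N.index_ne_zero_of_finite
      by_contra h3
      have : N.index = 1 := by omega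
      have := N.card_mul_index
      rw [‹N.index = 1›, mul_one] at this
      omega
    omega
  haveI hPn : (P : Subgroup H).Normal := Subgroup.normalizer_eq_top_iff.mp hN
  have hcentP : ∀ h : H, ¬ p ∣ orderOf h →
      h ∈ Subgroup.centralizer ((P : Subgroup H) : Set H) := by
    intro h hh
    obtain ⟨g, -, hg⟩ := hconj h
    haveI : (Subgroup.centralizer ((P : Subgroup H) : Set H)).Normal := inferInstance
    have := Subgroup.Normal.conj_mem inferInstance _ (hg hh) g
    rwa [show g * (g⁻¹ * h * g) * g⁻¹ = h by group] at this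
  -- the normal closure of `x` is a `p`-group
  obtain ⟨S, hS⟩ := (show IsPGroup p (Subgroup.zpowers x) from IsPGroup.of_card (n := k0)
    (by rw [Nat.card_zpowers, hxk])).exists_le_sylow
  set X := Subgroup.normalClosure ({x} : Set G) with hX
  have hXS : ∀ T : Sylow p G, X ≤ (T : Subgroup G) := by
    suffices h : ∀ T : Sylow p G, x ∈ (T : Subgroup G) by
      intro T
      rw [hX, Subgroup.normalClosure, Subgroup.closure_le]
      intro y hy
      obtain ⟨z, hz, hzy⟩ := Group.mem_conjugatesOfSet_iff.mp hy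
      rw [Set.mem_singleton_iff.mp hz] at hzy
      obtain ⟨c, rfl⟩ := isConj_iff.mp hzy
      have := h (c⁻¹ • T)
      rw [Sylow.coe_subgroup_smul] at this
      obtain ⟨w, hw, hwx⟩ := this
      have : c * x * c⁻¹ = w := by
        rw [← hwx]; simp [MulAut.smul_def, MulAut.conj_apply]; group
      rw [this]; exact hw
    intro T
    have hxS : x ∈ (S : Subgroup G) := hS (Subgroup.mem_zpowers x)
    obtain ⟨g, hg⟩ := MulAction.exists_smul_eq G S T
    -- `G = S H`
    have hcover : ∀ u : G, ∃ s ∈ (S : Subgroup G), ∃ h ∈ H, u = s * h := by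
      set r := H.relIndex (S : Subgroup G) with hr
      have h2 : r * (S : Subgroup G).index = ((S : Subgroup G) ⊓ H).relIndex H * H.index := by
        rw [hr, ← Subgroup.inf_relIndex_left, Subgroup.relIndex_mul_index inf_le_left,
          Subgroup.relIndex_mul_index inf_le_right]
      rw [hxa] at h2
      have hd : p ^ a ∣ r := Nat.Coprime.dvd_of_dvd_mul_right
        (((hp.coprime_iff_not_dvd).mpr S.not_dvd_index).pow_left a) (Dvd.intro_left _ h2.symm)
      let f : (S : Subgroup G) ⧸ H.subgroupOf (S : Subgroup G) → G ⧸ H :=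
        Quotient.map' Subtype.val (fun u v huv => by
          rw [QuotientGroup.leftRel_apply] at huv ⊢; exact huv)
      have hf : Function.Injective f := by
        intro u v
        induction u using QuotientGroup.induction_on with
        | H u =>
          induction v using QuotientGroup.induction_on with
          | H v => intro h; exact QuotientGroup.eq.mpr (QuotientGroup.eq (s := H).mp h)
      haveI : Fintype ((S : Subgroup G) ⧸ H.subgroupOf (S : Subgroup G)) := Fintype.ofFinite _
      have hsurj : Function.Surjective f := by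
        haveI : Fintype (G ⧸ H) := Fintype.ofFinite _
        refine ((Fintype.bijective_iff_injective_and_card f).mpr ⟨hf,
          le_antisymm (Fintype.card_le_of_injective f hf) ?_⟩).surjective
        rw [← Nat.card_eq_fintype_card, ← Nat.card_eq_fintype_card, ← Subgroup.index_eq_card,
          ← Subgroup.index_eq_card, hxa]
        exact Nat.le_of_dvd (Nat.pos_of_ne_zero Subgroup.index_ne_zero_of_finite) hd
      intro u
      obtain ⟨w, hw⟩ := hsurj (QuotientGroup.mk u)
      induction w using QuotientGroup.induction_on with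
      | H w => exact ⟨w, w.2, (w : G)⁻¹ * u, QuotientGroup.eq (s := H).mp hw, (mul_inv_cancel_left _ _).symm⟩
    obtain ⟨s, hs, h, hh, hgsh⟩ := hcover g⁻¹
    have hgsh' : g⁻¹ = s * h := hgsh
    rw [← hg, Sylow.coe_subgroup_smul]
    refine ⟨g⁻¹ * x * g, ?_, by simp [MulAut.smul_def, MulAut.conj_apply]; group⟩
    have e : g⁻¹ * x * g = s * x * s⁻¹ := by
      have hgi : g = h⁻¹ * s⁻¹ := by rw [← inv_inv g, hgsh', mul_inv_rev]
      have hhx : h * x * h⁻¹ = x := by rw [(hmemH h).mp hh, mul_inv_cancel_right]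
      rw [hgsh', hgi, show s * h * x * (h⁻¹ * s⁻¹) = s * (h * x * h⁻¹) * s⁻¹ by group, hhx]
    rw [e]
    exact (S : Subgroup G).mul_mem ((S : Subgroup G).mul_mem hs hxS) ((S : Subgroup G).inv_mem hs)
  have hXp : IsPGroup p X := S.isPGroup'.to_le (hXS S)
  have hxX : x ∈ X := Subgroup.subset_normalClosure rfl
  -- `p'`-elements of `C(x)` centralise `X`
  have hcX : ∀ y : H, ¬ p ∣ orderOf y → (y : G) ∈ Subgroup.centralizer (X : Set G) := by
    intro y hy
    have hyx : Commute (y : G) x := (hmemH y).mp y.2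
    have key := CfsgLib.Coprime.le_centralizer_of_inf_centralizer_le (U := X)
      (P := Subgroup.zpowers x) (Q := Subgroup.zpowers (y : G))
      (IsPGroup.of_card (n := k0) (by rw [Nat.card_zpowers, hxk]))
      (by rw [Nat.card_zpowers, Subgroup.orderOf_coe]; exact (hp.coprime_iff_not_dvd.mpr hy).symm)
      hXp ?_ ?_ ?_ ?_
    · exact key (Subgroup.mem_zpowers _)
    · rw [Subgroup.zpowers_le, Subgroup.mem_centralizer_iff]
      intro w hw
      obtain ⟨i, rfl⟩ := Subgroup.mem_zpowers_iff.mp hw
      exact (hyx.zpow_left i).eq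
    · exact (Subgroup.zpowers_le.mpr (Subgroup.le_normalizer hxX))
    · rw [Subgroup.normalizer_eq_top]; exact le_top
    · intro w hw
      obtain ⟨hwX, hwC⟩ := Subgroup.mem_inf.mp hw
      have hwH : w ∈ H := (hmemH w).mpr
        (Subgroup.mem_centralizer_iff.mp hwC x (Subgroup.mem_zpowers x)).symm
      have hwP : (⟨w, hwH⟩ : H) ∈ (P : Subgroup H) := by
        refine mem_sylow_of_normalizes P (by rw [hN]; trivial) ?_
        obtain ⟨k, hk⟩ := hXp ⟨w, hwX⟩
        exact ⟨k, Subtype.ext (by simpa using congrArg Subtype.val hk)⟩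
      have hc := Subgroup.mem_centralizer_iff.mp (hcentP y hy) _ hwP
      rw [Subgroup.mem_centralizer_iff]
      intro v hv
      obtain ⟨i, rfl⟩ := Subgroup.mem_zpowers_iff.mp hv
      exact ((show Commute (y : G) w from (congrArg Subtype.val hc).symm).zpow_left i).eq
  -- all `p'`-elements of `G` lie in `C(x)`
  haveI : (Subgroup.centralizer (X : Set G)).Normal := inferInstance
  have hCH : Subgroup.centralizer (X : Set G) ≤ H := by
    intro g hg
    exact (hmemH g).mpr (Subgroup.mem_centralizer_iff.mp hg x hxX).symm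
  have hall : ∀ g : G, ¬ p ∣ orderOf g → g ∈ Subgroup.centralizer (X : Set G) := by
    intro g hg
    set C := Subgroup.centralizer (X : Set G) with hC
    have hd : ∀ q : ℕ, q.Prime → q ∣ C.index → q = p := by
      intro q hq hqd
      by_contra hne
      haveI := Fact.mk hq
      obtain ⟨R⟩ := (inferInstance : Nonempty (Sylow q H))
      have hle : (R : Subgroup H).map H.subtype ≤ C := by
        rintro _ ⟨r, hr, rfl⟩
        refine hcX r ?_
        obtain ⟨j, hj⟩ := IsPGroup.iff_orderOf.mp R.isPGroup' ⟨r, hr⟩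
        rw [Subgroup.orderOf_mk] at hj
        rw [hj]
        intro hpd
        exact hne ((Nat.prime_dvd_prime_iff_eq hp hq).mp (hp.dvd_of_dvd_pow hpd)).symm
      have := hqd.trans (Subgroup.index_dvd_of_le hle)
      rw [Subgroup.index_map_subtype, hq.dvd_mul, hxa] at this
      rcases this with h | h
      · exact R.not_dvd_index h
      · exact hne ((Nat.prime_dvd_prime_iff_eq hq hp).mp (hq.dvd_of_dvd_pow h))
    refine mem_of_pow_mem (n := C.index) (Nat.coprime_of_dvd fun q hq h1 h2 =>
      hg (hd q hq h1 ▸ h2)) ?_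
    exact Subgroup.pow_index_mem C g
  -- hence `O^p(G)` centralises the Sylow subgroup of `C(x)`
  set K := Cfsg.pResidual p G with hK
  have hKH : K ≤ H := by
    rw [hK, Cfsg.pResidual, Subgroup.closure_le]
    exact fun g hg => hCH (hall g (CfsgLib.Transfer.coprime_prime_iff.mp hg))
  have hKP : ∀ k : H, (k : G) ∈ K → k ∈ Subgroup.centralizer ((P : Subgroup H) : Set H) := by
    intro k hk
    have hk' : (k : G) ∈ (Subgroup.centralizer ((P : Subgroup H) : Set H)).map H.subtype := by
      revert hk
      suffices h : K ≤ (Subgroup.centralizer ((P : Subgroup H) : Set H)).map H.subtype from fun hk => h hk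
      rw [hK, Cfsg.pResidual, Subgroup.closure_le]
      intro g hg
      have hg' := CfsgLib.Transfer.coprime_prime_iff.mp hg
      have hgH : g ∈ H := hCH (hall g hg')
      exact ⟨⟨g, hgH⟩, hcentP _ (by rwa [Subgroup.orderOf_mk]), rfl⟩
    obtain ⟨k', hk', he⟩ := hk'
    rw [← Subtype.ext he]; exact hk'
  -- Burnside's transfer theorem in `O^p(G)`
  rw [CfsgLib.Transfer.hasNormalPComplement_iff]
  obtain ⟨T⟩ := (inferInstance : Nonempty (Sylow p K))
  have hT : Subgroup.normalizer ((T : Subgroup K) : Set K) ≤ Subgroup.centralizer (T : Set K) := by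
    intro n _
    rw [Subgroup.mem_centralizer_iff]
    intro t ht
    have htP : (⟨(t : G), hKH t.2⟩ : H) ∈ (P : Subgroup H) := by
      refine mem_sylow_of_normalizes P (by rw [hN]; trivial) ?_
      obtain ⟨k, hk⟩ := T.isPGroup' ⟨t, ht⟩
      exact ⟨k, Subtype.ext (by simpa using congrArg (fun z : (T : Subgroup K) => ((z : K) : G)) hk)⟩
    have := Subgroup.mem_centralizer_iff.mp (hKP ⟨n, hKH n.2⟩ n.2) _ htP
    exact Subtype.ext (congrArg (fun z : H => (z : G)) this)
  have hnpc : Cfsg.HasNormalPComplement p K :=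
    ⟨T, _, inferInstance, MonoidHom.ker_transferSylow_isComplement' T hT⟩
  have := CfsgLib.Transfer.hasNormalPComplement_iff.mp hnpc
  rwa [hK, CfsgLib.Transfer.pResidual_pResidual, Subgroup.card_top] at this

end Cfsg.Agent.S4127
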