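import Cfsg.Statements.S4593
import Cfsg.Agent.ZStar.Theorem

set_option autoImplicit false
set_option linter.style.haveILetI false
open Cfsg

namespace Cfsg.Agent.S4593

universe u

/-- An element of a subgroup of the automorphism group that centralises the inner ones is trivial. -/
theorem eq_one_of_commute_conj {G : Type u} [Group G] (hZ : Subgroup.center G = ⊥) (t : MulAut G)
    (h : ∀ g : G, t * MulAut.conj g = MulAut.conj g * t) : t = 1 := by
  ext g
  have h1 : ∀ x : G, t g * t x * (t g)⁻¹ = g * t x * g⁻¹ := fun x => by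
    have := DFunLike.congr_fun (h g) x
    simpa [MulAut.conj_apply] using this
  have h2 : g⁻¹ * t g ∈ Subgroup.center G := by
    rw [Subgroup.mem_center_iff]
    intro y
    obtain ⟨x, rfl⟩ := t.surjective y
    calc t x * (g⁻¹ * t g) = g⁻¹ * (g * t x * g⁻¹) * t g := by group
      _ = g⁻¹ * (t g * t x * (t g)⁻¹) * t g := by rw [h1]
      _ = g⁻¹ * t g * t x := by group
  rw [hZ, Subgroup.mem_bot, inv_mul_eq_one] at h2
  exact h2.symm

/-- Let G be a finite group with trivial centre and no nontrivial normal subgroup of odd order, whose Sylow 2-subgroups are abelian, and let P be a Sylow 2-subgroup. Every automorphism of G of 2-power order that fixes P elementwise is inner. -/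
theorem result {G : Type*} [Group G] [Finite G] (hZ : Subgroup.center G = ⊥) (hcore : Cfsg.pPrimeCore 2 G = ⊥) (P : Sylow 2 G) (hab : IsMulCommutative (P : Subgroup G))
    (α : MulAut G) (h2 : ∃ j : ℕ, orderOf α = 2 ^ j) (hfix : ∀ x ∈ (P : Subgroup G), α x = x) :
    ∃ g : G, ∀ x : G, α x = g * x * g⁻¹ := by
  classical
  obtain ⟨j, hj⟩ := h2
  haveI : Finite (MulAut G) := Finite.of_injective (fun f => (f : G → G)) DFunLike.coe_injective
  let I : Subgroup (MulAut G) := (MulAut.conj (G := G)).range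
  let X : Subgroup (MulAut G) := I ⊔ Subgroup.zpowers α
  suffices hα : α ∈ I by
    obtain ⟨g, hg⟩ := hα
    exact ⟨g, fun x => by rw [← hg, MulAut.conj_apply]⟩
  let ι : G →* X := (MulAut.conj (G := G)).codRestrict X fun g => Subgroup.mem_sup_left ⟨g, rfl⟩
  let a : X := ⟨α, Subgroup.mem_sup_right (Subgroup.mem_zpowers α)⟩
  have hι : ∀ g : G, ((ι g : X) : MulAut G) = MulAut.conj g := fun _ => rfl
  have haι : ∀ g : G, a * ι g = ι (α g) * a := fun g => Subtype.ext (MulEquiv.ext fun x => by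
    show α (g * x * g⁻¹) = α g * α x * (α g)⁻¹
    simp)
  have hιinj : Function.Injective ι := by
    refine (injective_iff_map_eq_one ι).2 fun g hg => ?_
    have : g ∈ Subgroup.center G := Subgroup.mem_center_iff.2 fun x => by
      have := DFunLike.congr_fun (congrArg Subtype.val hg) x
      rw [hι, MulAut.conj_apply] at this
      calc x * g = g * x * g⁻¹ * g := by rw [this]; rfl
        _ = g * x := by group
    rwa [hZ] at this
  set J : Subgroup X := ι.range with hJ
  haveI hJn : J.Normal := by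
    refine ⟨?_⟩
    rintro _ ⟨g, rfl⟩ y
    refine ⟨(y : MulAut G) g, Subtype.ext (MulEquiv.ext fun x => ?_)⟩
    show (y : MulAut G) g * x * ((y : MulAut G) g)⁻¹ =
      (y : MulAut G) (g * ((y : MulAut G)⁻¹ x) * g⁻¹)
    simp
  -- every element is inner times a power of `a`
  have hdec : ∀ x : X, ∃ g : G, ∃ i : ℤ, x = ι g * a ^ i := by
    intro x
    haveI : I.Normal := by
      refine ⟨?_⟩
      rintro _ ⟨g, rfl⟩ y
      refine ⟨y g, MulEquiv.ext fun x => ?_⟩
      show y g * x * (y g)⁻¹ = y (g * (y⁻¹ x) * g⁻¹)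
      simp
    obtain ⟨_, ⟨g, rfl⟩, _, ⟨i, rfl⟩, hx⟩ := Subgroup.mem_sup_of_normal_left.1 x.2
    exact ⟨g, i, Subtype.ext hx.symm⟩
  set Pb : Subgroup X := (P : Subgroup G).map ι with hPb
  set S : Subgroup X := Pb ⊔ Subgroup.zpowers a with hS
  have haP : ∀ x ∈ (P : Subgroup G), a * ι x = ι x * a := fun x hx => by rw [haι, hfix x hx]
  have haC : a ∈ Subgroup.centralizer (Pb : Set X) := by
    rw [Subgroup.mem_centralizer_iff]
    rintro _ ⟨x, hx, rfl⟩
    exact (haP x hx).symm
  have hPC : Pb ≤ Subgroup.centralizer (Pb : Set X) := by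
    rintro _ ⟨x, hx, rfl⟩
    rw [Subgroup.mem_centralizer_iff]
    rintro _ ⟨y, hy, rfl⟩
    rw [← map_mul, ← map_mul]
    exact congrArg ι (congrArg Subtype.val (hab.is_comm.comm (⟨y, hy⟩ : (P : Subgroup G)) ⟨x, hx⟩))
  have hSP : S ≤ Subgroup.centralizer (Pb : Set X) := sup_le hPC ((Subgroup.zpowers_le).2 haC)
  have hScomm : S ≤ Subgroup.centralizer (S : Set X) := by
    refine sup_le (Subgroup.le_centralizer_iff.1 hSP) ((Subgroup.zpowers_le).2 ?_)
    have : S ≤ Subgroup.centralizer ({a} : Set X) := by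
      refine sup_le ?_ ((Subgroup.zpowers_le).2 (Subgroup.mem_centralizer_singleton_iff.2 rfl))
      rintro _ ⟨x, hx, rfl⟩
      exact Subgroup.mem_centralizer_singleton_iff.2 (haP x hx).symm
    rw [Subgroup.mem_centralizer_iff]
    exact fun y hy => Subgroup.mem_centralizer_singleton_iff.1 (this hy)
  have haord : orderOf a = 2 ^ j := by rw [← hj]; exact (Subgroup.orderOf_coe a).symm
  have hSp : IsPGroup 2 S := by
    refine (P.isPGroup'.map ι).to_sup_of_normal_right' ?_ ?_
    · exact IsPGroup.iff_card.2 ⟨j, by rw [Nat.card_zpowers, haord]⟩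
    · refine le_trans ?_ (Subgroup.centralizer_le_normalizer _)
      exact Subgroup.le_centralizer_iff.1 ((Subgroup.zpowers_le).2 haC)
  obtain ⟨T, hST⟩ := hSp.exists_le_sylow
  have haT : a ∈ T := hST (Subgroup.mem_sup_right (Subgroup.mem_zpowers a))
  have hTJ : ∀ g : G, ι g ∈ T → g ∈ (P : Subgroup G) := by
    intro g hg
    have hP2 : (T : Subgroup X).comap ι = (P : Subgroup G) :=
      P.3 (T.isPGroup'.comap_of_injective ι hιinj) fun x hx =>
        hST (Subgroup.mem_sup_left (Subgroup.mem_map_of_mem ι hx))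
    rw [← hP2]; exact hg
  have hTS : (T : Subgroup X) ≤ S := by
    intro t ht
    obtain ⟨g, i, rfl⟩ := hdec t
    have hg : ι g ∈ T := by
      have := T.mul_mem ht (T.inv_mem (T.zpow_mem haT i))
      rwa [mul_inv_cancel_right] at this
    exact S.mul_mem (Subgroup.mem_sup_left ⟨g, hTJ g hg, rfl⟩)
      (Subgroup.zpow_mem _ (Subgroup.mem_sup_right (Subgroup.mem_zpowers a)) i)
  have hTcomm : ∀ x ∈ T, ∀ y ∈ T, x * y = y * x := fun x hx y hy =>
    Subgroup.mem_centralizer_iff.1 (hScomm (hTS hy)) x (hTS hx)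
  haveI hTm : IsMulCommutative (T : Subgroup X) :=
    ⟨⟨fun x y => Subtype.ext (hTcomm x x.2 y y.2)⟩⟩
  -- the product of the conjugates of `a` under the normalizer of `T`
  set N := Subgroup.normalizer ((T : Subgroup X) : Set X) with hN
  let T' : Subgroup N := (T : Subgroup X).subgroupOf N
  haveI : Fintype (N ⧸ T') := Fintype.ofFinite _
  let c : N → (T : Subgroup X) := fun n =>
    ⟨(n : X) * a * (n : X)⁻¹, (Subgroup.mem_normalizer_iff.1 n.2 a).1 haT⟩
  have hc : ∀ n : N, ∀ t : T', c (n * (t : N)) = c n := fun n t => Subtype.ext (by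
    have h1 : ((t : N) : X) * a = a * ((t : N) : X) := hTcomm _ t.2 _ haT
    show (n : X) * ((t : N) : X) * a * ((n : X) * ((t : N) : X))⁻¹ = (n : X) * a * (n : X)⁻¹
    rw [mul_assoc (n : X) _ a, h1]; group)
  have hc' : ∀ n : N, c ((QuotientGroup.mk n : N ⧸ T').out) = c n := fun n => by
    obtain ⟨t, ht⟩ := QuotientGroup.mk_out_eq_mul T' n
    rw [ht, hc]
  letI : CommGroup (T : Subgroup X) :=
    { (inferInstance : Group (T : Subgroup X)) with
      mul_comm := fun x y => Subtype.ext (hTcomm x x.2 y y.2) }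
  let β : (T : Subgroup X) := ∏ q : N ⧸ T', c q.out
  have hβfix : ∀ n : N, (n : X) * β * (n : X)⁻¹ = β := by
    intro n
    let f : (T : Subgroup X) →* (T : Subgroup X) :=
      { toFun := fun x => ⟨(n : X) * x * (n : X)⁻¹, (Subgroup.mem_normalizer_iff.1 n.2 x).1 x.2⟩
        map_one' := Subtype.ext (by simp)
        map_mul' := fun x y => Subtype.ext (by simp [mul_assoc]) }
    have h1 : f β = β := by
      rw [map_prod]
      refine Fintype.prod_equiv (MulAction.toPerm n) _ _ fun q => ?_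
      obtain ⟨m, rfl⟩ := QuotientGroup.mk_surjective q
      show f (c _) = c ((QuotientGroup.mk (n * m) : N ⧸ T').out)
      rw [hc', hc']
      exact Subtype.ext (by
        show (n : X) * ((m : X) * a * (m : X)⁻¹) * (n : X)⁻¹ = ((n : X) * m) * a * ((n : X) * m)⁻¹
        group)
    exact congrArg Subtype.val h1
  -- its image in `X ⧸ J`
  have hodd : Odd (Fintype.card (N ⧸ T')) := by
    rw [← Nat.card_eq_fintype_card, ← Subgroup.index, ← Nat.not_even_iff_odd, even_iff_two_dvd]
    intro hd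
    exact T.not_dvd_index (hd.trans (Subgroup.relIndex_dvd_index_of_le Subgroup.le_normalizer))
  let q : X →* X ⧸ J := QuotientGroup.mk' J
  have hqc : ∀ n : N, q (c n : X) = q a := by
    intro n
    obtain ⟨g, i, hn⟩ := hdec (n : X)
    have hg : q (ι g) = 1 := (QuotientGroup.eq_one_iff _).2 ⟨g, rfl⟩
    show q ((n : X) * a * (n : X)⁻¹) = _
    rw [hn, map_mul, map_mul, map_inv, map_mul, hg, one_mul, map_zpow]
    rw [← zpow_add_one, ← zpow_neg, ← zpow_add, show i + 1 + -i = 1 by ring, zpow_one]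
  have hqz : ∀ x : X, ∃ i : ℤ, q x = q a ^ i := fun x => by
    obtain ⟨g, i, rfl⟩ := hdec x
    exact ⟨i, by rw [map_mul, map_zpow, show q (ι g) = 1 from
      (QuotientGroup.eq_one_iff _).2 ⟨g, rfl⟩, one_mul]⟩
  letI : CommGroup (X ⧸ J) :=
    { (inferInstance : Group (X ⧸ J)) with
      mul_comm := fun u v => by
        obtain ⟨x, rfl⟩ := QuotientGroup.mk'_surjective J u
        obtain ⟨y, rfl⟩ := QuotientGroup.mk'_surjective J v
        obtain ⟨i, hi⟩ := hqz x
        obtain ⟨k, hk⟩ := hqz y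
        show q x * q y = q y * q x
        rw [hi, hk, ← zpow_add, ← zpow_add, add_comm] }
  have hqβ : q (β : X) = q a ^ Fintype.card (N ⧸ T') := by
    have := map_prod (q.comp (T : Subgroup X).subtype) (fun r : N ⧸ T' => c r.out) Finset.univ
    refine this.trans ?_
    rw [← Finset.card_univ]
    exact Finset.prod_eq_pow_card (b := q a) fun r _ => hqc _
  by_cases hβ : (β : X) = 1
  · -- `a` is inner
    rw [hβ, map_one] at hqβ
    have h1 : q a ^ (2 ^ j) = 1 := by rw [← map_pow, ← haord, pow_orderOf_eq_one, map_one]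
    have hcop : Nat.gcd (Fintype.card (N ⧸ T')) (2 ^ j) = 1 :=
      Nat.Coprime.pow_right j (Nat.coprime_two_right.2 hodd)
    have h3 : q a = 1 := orderOf_eq_one_iff.1 (Nat.dvd_one.1 (hcop ▸ Nat.dvd_gcd
      (orderOf_dvd_of_pow_eq_one hqβ.symm) (orderOf_dvd_of_pow_eq_one h1)))
    obtain ⟨g, hg⟩ := (QuotientGroup.eq_one_iff a).1 h3
    exact ⟨g, congrArg Subtype.val hg⟩
  exfalso
  -- an isolated involution
  obtain ⟨k, hk⟩ : ∃ k : ℕ, orderOf (β : X) = 2 ^ k := by
    obtain ⟨k, hk⟩ := IsPGroup.iff_orderOf.1 T.isPGroup' β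
    exact ⟨k, by rw [← hk, Subgroup.orderOf_coe]⟩
  obtain ⟨k, rfl⟩ : ∃ k' : ℕ, k = k' + 1 :=
    ⟨k - 1, (Nat.succ_pred_eq_of_pos (Nat.pos_of_ne_zero fun h0 => hβ (orderOf_eq_one_iff.1
      (by rw [hk, h0, pow_zero])))).symm⟩
  set t : X := (β : X) ^ (2 ^ k) with ht
  have htord : orderOf t = 2 := by
    rw [ht, orderOf_pow_of_dvd (pow_ne_zero _ two_ne_zero) (by rw [hk]; exact pow_dvd_pow 2 (Nat.le_succ k)),
      hk, pow_succ, Nat.mul_div_cancel_left _ (pow_pos two_pos k)]
  have htT : t ∈ T := T.pow_mem β.2 _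
  have hiso : ∀ x : X, x * t * x⁻¹ ∈ T → x * t * x⁻¹ = t := by
    intro x hx
    obtain ⟨n, hn, heq⟩ := T.conj_eq_normalizer_conj_of_mem t x⁻¹ htT (by simpa using hx)
    simp only [inv_inv] at heq
    rw [heq]
    have h1 := hβfix ⟨n⁻¹, inv_mem hn⟩
    simp only [inv_inv] at h1
    rw [ht]
    calc n⁻¹ * (β : X) ^ 2 ^ k * n = (n⁻¹ * (β : X) * n⁻¹⁻¹) ^ 2 ^ k := by rw [conj_pow, inv_inv]
      _ = _ := by rw [inv_inv, h1]
  obtain ⟨N₀, hN₀, hodd₀, hcomm⟩ := CfsgLib.ZStar.exists_oddNormal_of_sylow T htord htT hiso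
  have hN₀bot : N₀ = ⊥ := by
    have hK : N₀.comap ι = ⊥ := by
      rw [eq_bot_iff, ← hcore]
      haveI : (N₀.comap ι).Normal := hN₀.comap ι
      refine le_sSup ⟨inferInstance, Nat.coprime_two_right.2 ?_⟩
      refine hodd₀.of_dvd_nat ?_
      rw [← Subgroup.card_map_of_injective hιinj]
      exact Subgroup.card_dvd_of_le (Subgroup.map_comap_le ι N₀)
    rw [eq_bot_iff]
    intro x hx
    obtain ⟨g, i, rfl⟩ := hdec x
    have h1 : q (ι g * a ^ i) ^ 2 ^ j = 1 := by
      rw [map_mul, show q (ι g) = 1 from (QuotientGroup.eq_one_iff _).2 ⟨g, rfl⟩, one_mul,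
        map_zpow, ← zpow_natCast, ← zpow_mul, mul_comm, zpow_mul, zpow_natCast, ← map_pow, ← haord,
        pow_orderOf_eq_one, map_one, one_zpow]
    have h2 : q (ι g * a ^ i) ^ Nat.card N₀ = 1 := by
      rw [← map_pow]
      have := congrArg Subtype.val (pow_card_eq_one' (x := (⟨_, hx⟩ : N₀)))
      rw [SubgroupClass.coe_pow, OneMemClass.coe_one] at this
      rw [this, map_one]
    have hcop : Nat.gcd (Nat.card N₀) (2 ^ j) = 1 :=
      Nat.Coprime.pow_right j (Nat.coprime_two_right.2 hodd₀)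
    have h3 : q (ι g * a ^ i) = 1 := orderOf_eq_one_iff.1 (Nat.dvd_one.1 (hcop ▸ Nat.dvd_gcd
      (orderOf_dvd_of_pow_eq_one h2) (orderOf_dvd_of_pow_eq_one h1)))
    obtain ⟨g', hg'⟩ := (QuotientGroup.eq_one_iff _).1 h3
    have hg'' : g' ∈ N₀.comap ι := by rw [Subgroup.mem_comap, hg']; exact hx
    rw [hK, Subgroup.mem_bot] at hg''
    rw [← hg', hg'', map_one]
    exact Subgroup.mem_bot.2 rfl
  have htc : ∀ g : G, t * ι g = ι g * t := fun g => by
    have h1 := hcomm (ι g)
    rw [hN₀bot, Subgroup.mem_bot, mul_inv_eq_one, mul_inv_eq_iff_eq_mul] at h1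
    exact h1
  have ht1 : (t : MulAut G) = 1 :=
    eq_one_of_commute_conj hZ _ fun g => congrArg Subtype.val (htc g)
  rw [show t = 1 from Subtype.ext ht1, orderOf_one] at htord
  exact absurd htord (by decide)

end Cfsg.Agent.S4593
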