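import Cfsg.Statements.S0170
import Cfsg.Agent.Characters.Exceptional
import Cfsg.Agent.S0150
-- import your own Cfsg.Agent.* helpers here

set_option autoImplicit false
open Cfsg

namespace Cfsg.Agent.S0170

/-- Exceptional characters. Let S be a subset of a finite group contained in its normalizer N and meeting its conjugates by elements outside N only in the identity. Given n ≥ 2 distinct irreducible characters of N of equal degree that vanish on N away from S, there exist a sign ε and n distinct irreducible characters θ_i of G such that inducing χ_i − χ_j to G gives ε (θ_i − θ_j) for all i, j. -/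
theorem result {G : Type*} [Group G] [Fintype G] (S : Set G) (hSN : S ⊆ Subgroup.normalizer S) (hTI : ∀ g : G, g ∉ Subgroup.normalizer S → ∀ s ∈ S, g * s * g⁻¹ ∈ S → s = 1) (n : ℕ) (hn : 2 ≤ n) (χ : Fin n → (Subgroup.normalizer S → ℂ)) (hirr : ∀ i, Cfsg.IsIrrCharacter (Subgroup.normalizer S) (χ i)) (hinj : Function.Injective χ) (hvan : ∀ i, ∀ x : Subgroup.normalizer S, (x : G) ∉ S → χ i x = 0) (hdeg : ∀ i j, χ i 1 = χ j 1) : ∃ ε : ℂ, (ε = 1 ∨ ε = -1) ∧ ∃ θ : Fin n → (G → ℂ), (∀ i, Cfsg.IsIrrCharacter G (θ i)) ∧ Function.Injective θ ∧ ∀ i j, Cfsg.indFun (Subgroup.normalizer S) (χ i) - Cfsg.indFun (Subgroup.normalizer S) (χ j) = ε • (θ i - θ j) := by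
  classical
  let i₀ : Fin n := ⟨0, by omega⟩
  let τ : Fin n → G → ℂ := fun i => Cfsg.indFun (Subgroup.normalizer S) (χ i) -
    Cfsg.indFun (Subgroup.normalizer S) (χ i₀)
  have hτ : ∀ i, τ i = Cfsg.indFun (Subgroup.normalizer S) (χ i - χ i₀) := fun i =>
    (CfsgLib.Characters.indFun_sub _ _ _).symm
  have hcls : ∀ i, Cfsg.IsClassFunction (Subgroup.normalizer S) (χ i - χ i₀) := fun i g x => by
    simp only [Pi.sub_apply, CfsgLib.Characters.isClassFunction_of_isIrr (hirr i) g x,
      CfsgLib.Characters.isClassFunction_of_isIrr (hirr i₀) g x]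
  have hv : ∀ i, ∀ x : Subgroup.normalizer S, (x : G) ∉ S → (χ i - χ i₀) x = 0 := fun i x hx => by
    simp [hvan i x hx, hvan i₀ x hx]
  have h1 : ∀ i, (χ i - χ i₀) 1 = 0 := fun i => by simp [hdeg i i₀]
  obtain ⟨ε, hε, μ, hμ, hinjμ, hμτ⟩ := CfsgLib.Characters.exists_exceptional i₀ τ (sub_self _)
    (fun i => hτ i ▸ CfsgLib.Characters.isGen_indFun _ (CfsgLib.Characters.isGen_sub
      (CfsgLib.Characters.isGen_of_isIrr (hirr i)) (CfsgLib.Characters.isGen_of_isIrr (hirr i₀))))
    (fun i => by rw [hτ, CfsgLib.Characters.indFun_one, h1, mul_zero])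
    (fun i j hi hj => by
      rw [hτ, hτ, Cfsg.Agent.S0150.result S hTI hSN _ _ (hcls i) (hcls j) (hv i) (hv j) (h1 i),
        CfsgLib.Characters.classInner_sub_left, CfsgLib.Characters.classInner_sub_right,
        CfsgLib.Characters.classInner_sub_right, CfsgLib.Characters.classInner_isIrr_self (hirr i₀),
        CfsgLib.Characters.classInner_isIrr_ne (hirr i) (hirr i₀) fun e => hi (hinj e),
        CfsgLib.Characters.classInner_isIrr_ne (hirr i₀) (hirr j) fun e => hj (hinj e).symm]
      split_ifs with e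
      · rw [← e, CfsgLib.Characters.classInner_isIrr_self (hirr i)]; norm_num
      · rw [CfsgLib.Characters.classInner_isIrr_ne (hirr i) (hirr j) fun h => e (hinj h)]; norm_num)
  refine ⟨ε, hε, μ, hμ, hinjμ, fun i j => ?_⟩
  rw [← sub_sub_sub_cancel_right _ _ (Cfsg.indFun (Subgroup.normalizer S) (χ i₀))]
  show τ i - τ j = _
  rw [hμτ i, hμτ j, ← smul_sub, sub_sub_sub_cancel_right]

end Cfsg.Agent.S0170
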