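import Cfsg.Statements.S0193
import Cfsg.Agent.Characters.Induction
import Cfsg.Agent.CharactersDeep.Clifford
-- import your own Cfsg.Agent.* helpers here

set_option autoImplicit false
open Cfsg

namespace Cfsg.Agent.S0193

/-- Let H be a normal subgroup of a finite group G and θ an irreducible character of H. Then |H| times the inner product of the induced function of θ with itself equals the number of g in G with θ(g h g⁻¹) = θ(h) for all h in H; in particular the induced character is irreducible when only elements of H stabilise θ. -/
theorem result {G : Type*} [Group G] [Fintype G] (H : Subgroup G) [hN : H.Normal] (θ : H → ℂ) (hθ : Cfsg.IsIrrCharacter H θ) : (Nat.card H : ℂ) * Cfsg.classInner (Cfsg.indFun H θ) (Cfsg.indFun H θ) = (Nat.card {g : G // ∀ h : H, θ ⟨g * h * g⁻¹, hN.conj_mem h h.2 g⟩ = θ h} : ℂ) := by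
  classical
  haveI := Fintype.ofFinite H
  have hres : (fun h : H => Cfsg.indFun H θ h) =
      (Nat.card H : ℂ)⁻¹ • ∑ g : G, CfsgLib.OddOrderChar.conjBy H θ g := by
    funext h
    rw [CfsgLib.OddOrderChar.indFun_normal_apply, Pi.smul_apply, Finset.sum_apply, smul_eq_mul]
  rw [CfsgLib.Characters.classInner_indFun H θ (CfsgLib.Characters.isClassFunction_indFun H θ),
    hres, CfsgLib.Characters.classInner_smul_right, CfsgLib.Characters.classInner_sum_right,
    map_inv₀, Complex.conj_natCast, ← mul_assoc,
    mul_inv_cancel₀ (CfsgLib.Characters.subgroup_card_ne_zero H), one_mul,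
    Nat.card_eq_fintype_card, Fintype.card_subtype, ← Finset.sum_boole]
  refine Finset.sum_congr rfl fun g _ => ?_
  have hg := CfsgLib.CharactersDeep.Clifford.isIrr_conjBy H hθ g
  split_ifs with h
  · rw [show CfsgLib.OddOrderChar.conjBy H θ g = θ from funext h]
    exact CfsgLib.Characters.classInner_isIrr_self hθ
  · exact CfsgLib.Characters.classInner_isIrr_ne hθ hg fun he => h fun x =>
      (congrFun he x).symm

end Cfsg.Agent.S0193
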