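import Cfsg.Statements.S0878
import Cfsg.Agent.CharactersDeep.Zassenhaus

set_option autoImplicit false
open Cfsg

namespace Cfsg.Agent.S0878

/-- Let G be a Zassenhaus group on the finite set Ω, a a point, and let H be the subgroup of the stabilizer of a consisting of the identity and the elements fixing no point other than a (given here as a subgroup of the stabilizer of order one less than the number of points whose non-identity elements fix only a; it is the Frobenius kernel of the stabilizer). Then an element outside the stabilizer of a conjugates no non-identity element of H into H, and the normalizer of H is exactly the stabilizer of a. -/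
theorem result {G Ω : Type*} [Group G] [Finite G] [MulAction G Ω] [Fintype Ω] (hZ : Cfsg.IsZassenhausGroup G Ω) (a : Ω) (H : Subgroup G) (hHa : H ≤ MulAction.stabilizer G a) (hHcard : Nat.card H + 1 = Fintype.card Ω) (hHfix : ∀ u ∈ H, u ≠ 1 → ∀ c : Ω, u • c = c → c = a) : (∀ g : G, g ∉ MulAction.stabilizer G a → ∀ u ∈ H, g * u * g⁻¹ ∈ H → u = 1) ∧ Subgroup.normalizer (H : Set G) = MulAction.stabilizer G a := by
  have hcard : Nat.card H + 1 = Nat.card Ω := by rw [Nat.card_eq_fintype_card (α := Ω)]; exact hHcard
  have h1 : ∀ g : G, g ∉ MulAction.stabilizer G a → ∀ u ∈ H, g * u * g⁻¹ ∈ H → u = 1 := by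
    intro g hg u hu hgu
    by_contra hu1
    refine hg (MulAction.mem_stabilizer_iff.mpr (hHfix _ hgu ?_ (g • a) ?_))
    · intro h
      have h2 : g * u * g⁻¹ * g = 1 * g := congrArg (· * g) h
      exact hu1 (by simpa using h2)
    · simp [mul_smul, MulAction.mem_stabilizer_iff.mp (hHa hu)]
  refine ⟨h1, le_antisymm ?_ ?_⟩
  · intro g hg
    by_contra hga
    haveI : Nontrivial H := Finite.one_lt_card_iff_nontrivial.mp
      (CfsgLib.CharactersDeep.Zassenhaus.one_lt_card_H hZ hcard)
    obtain ⟨u, hu⟩ := exists_ne (1 : H)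
    exact hu (Subtype.ext (h1 g hga u u.2 ((Subgroup.mem_normalizer_iff.mp hg u).mp u.2)))
  · intro g hg
    have hconj : ∀ k : G, k • a = a → ∀ u ∈ H, k * u * k⁻¹ ∈ H := by
      intro k hka u hu
      by_cases hu1 : u = 1
      · simp [hu1]
      have hk' : k⁻¹ • a = a := inv_smul_eq_iff.mpr hka.symm
      refine CfsgLib.CharactersDeep.Zassenhaus.mem_of_fix_only hZ hHa hcard hHfix ?_ fun c hc => ?_
      · simp [mul_smul, hk', MulAction.mem_stabilizer_iff.mp (hHa hu), hka]
      · rw [mul_smul, mul_smul] at hc
        have h2 : u • (k⁻¹ • c) = k⁻¹ • c := (inv_smul_eq_iff.mpr hc.symm).symm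
        have h3 := hHfix u hu hu1 _ h2
        rw [inv_smul_eq_iff] at h3
        rw [h3, hka]
    rw [Subgroup.mem_normalizer_iff]
    intro u
    refine ⟨hconj g hg u, fun h => ?_⟩
    have := hconj g⁻¹ (inv_smul_eq_iff.mpr (MulAction.mem_stabilizer_iff.mp hg).symm) _ h
    simpa [mul_assoc] using this

end Cfsg.Agent.S0878
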