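import Cfsg.Statements.S2587
import Cfsg.Agent.InvNorm.Hermitian

set_option autoImplicit false
open Cfsg

namespace Cfsg.Agent.S2587

open CfsgLib.InvNorm CfsgLib.FieldEmb Matrix


/-- Conjugacy in the finite general unitary group is controlled by the general linear group: two elements of GU_n(q) (the invertible matrices over the field with q² elements preserving the Hermitian form Σ u_i v_i^q) are conjugate in GU_n(q) if and only if they are conjugate in GL_n(q²). -/
theorem result {K : Type*} [Field K] [Fintype K] {q n : ℕ} (hK : Fintype.card K = q ^ 2) (A B : ↥(Cfsg.GU n K q)) : IsConj A B ↔ IsConj (A : GL (Fin n) K) (B : GL (Fin n) K) := by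
  obtain ⟨σ, hσ, hσσ⟩ := exists_conj hK
  refine ⟨fun h => (Cfsg.GU n K q).subtype.map_isConj h, fun hAB => ?_⟩
  obtain ⟨g, hg⟩ := isConj_iff.1 hAB
  set MA : Matrix (Fin n) (Fin n) K := ((A : GL (Fin n) K) : Matrix (Fin n) (Fin n) K)
  set MB : Matrix (Fin n) (Fin n) K := ((B : GL (Fin n) K) : Matrix (Fin n) (Fin n) K)
  set G : Matrix (Fin n) (Fin n) K := (g : Matrix (Fin n) (Fin n) K)
  have hA : tau σ MA * MA = 1 := (mem_GU_iff hσ hσσ _).1 A.2
  have hB : tau σ MB * MB = 1 := (mem_GU_iff hσ hσσ _).1 B.2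
  have hGA : G * MA = MB * G := by
    have h := congrArg (fun x : GL (Fin n) K => ((x * g : GL (Fin n) K) : Matrix (Fin n) (Fin n) K)) hg
    simpa only [inv_mul_cancel_right, Units.val_mul] using h
  set h := tau σ G * G with hh
  have hfix : tau σ h = h := by rw [hh, tau_mul, tau_tau hσσ]
  have hunit : IsUnit h := (isUnit_tau g.isUnit).mul g.isUnit
  have hinvA : tau σ MA * h * MA = h := by
    calc tau σ MA * h * MA = tau σ (G * MA) * (G * MA) := by
          rw [hh, tau_mul]; simp only [mul_assoc]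
      _ = tau σ G * (tau σ MB * MB) * G := by rw [hGA, tau_mul]; simp only [mul_assoc]
      _ = h := by rw [hB, mul_one, hh]
  have hcomm : MA * h = h * MA := by
    have hA' : MA * tau σ MA = 1 := mul_eq_one_comm.1 hA
    calc MA * h = MA * (tau σ MA * h * MA) := by rw [hinvA]
      _ = MA * tau σ MA * h * MA := by simp only [mul_assoc]
      _ = h * MA := by rw [hA', one_mul]
  obtain ⟨a, ha⟩ := exists_lam (n := n) hσ hK
  obtain ⟨c, hcS, hcu, -, hch⟩ := exists_norm_eq_of_anti (tau σ) (tau_add σ) (tau_mul σ)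
    (tau_one σ) (scalarsAnd {h})
    (scalarsAnd_comm (by rintro _ rfl _ rfl; rfl))
    (by
      rintro x (⟨r, rfl⟩ | rfl)
      · rw [tau_scalar]; exact Subring.subset_closure (Or.inl ⟨_, rfl⟩)
      · rw [hfix]; exact Subring.subset_closure (Or.inr rfl))
    (fun x _ => tau_tau hσσ x)
    (Subring.subset_closure (Or.inl ⟨a, rfl⟩)) ha
    (Subring.subset_closure (Or.inr rfl)) hunit hfix
  have hcA : MA * c = c * MA := closure_commute (by rintro _ rfl; exact hcomm) hcS
  have hU : g * hcu.unit⁻¹ ∈ Cfsg.GU n K q := by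
    rw [mem_GU_iff hσ hσσ, Units.val_mul, tau_mul]
    set D : Matrix (Fin n) (Fin n) K :=
      ((hcu.unit⁻¹ : (Matrix (Fin n) (Fin n) K)ˣ) : Matrix (Fin n) (Fin n) K) with hD
    have hcD : c * D = 1 := by rw [hD, IsUnit.mul_val_inv]
    calc tau σ D * tau σ G * (G * D) = tau σ D * (tau σ c * c) * D := by
          rw [hch, hh]; simp only [mul_assoc]
      _ = tau σ (c * D) * (c * D) := by rw [tau_mul]; simp only [mul_assoc]
      _ = 1 := by rw [hcD, tau_one, one_mul]
  refine isConj_iff.2 ⟨⟨_, hU⟩, Subtype.ext ?_⟩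
  have hcomm' : Commute (A : GL (Fin n) K) hcu.unit := Units.ext hcA
  show g * hcu.unit⁻¹ * (A : GL (Fin n) K) * (g * hcu.unit⁻¹)⁻¹ = B
  rw [← hg, _root_.mul_inv_rev, inv_inv, mul_assoc g, ← hcomm'.inv_right.eq]
  group

end Cfsg.Agent.S2587
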