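import Cfsg.Statements.S2588
import Cfsg.Agent.InvNorm.Hermitian

set_option autoImplicit false
open Cfsg

namespace Cfsg.Agent.S2588

open CfsgLib.InvNorm CfsgLib.FieldEmb Matrix


/-- An invertible matrix A over the field with q² elements is conjugate in GL_n(q²) to an element of the general unitary group GU_n(q) (isometries of the Hermitian form Σ u_i v_i^q) if and only if A is similar to the inverse transpose of its entrywise q-th power (A ~ A^(−qT), the image of A under the map sending a matrix to the inverse transpose of its entrywise q-th power — inverse transpose composed with the field automorphism — whose fixed points form GU_n(q)). -/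
theorem result {K : Type*} [Field K] [Fintype K] {q n : ℕ} (hK : Fintype.card K = q ^ 2) (A : GL (Fin n) K) : (∃ B : ↥(Cfsg.GU n K q), IsConj A (B : GL (Fin n) K)) ↔ IsConj (A : Matrix (Fin n) (Fin n) K) (((A : Matrix (Fin n) (Fin n) K).map (fun x : K => x ^ q)).transpose)⁻¹ := by
  obtain ⟨σ, hσ, hσσ⟩ := exists_conj hK
  set MA : Matrix (Fin n) (Fin n) K := (A : Matrix (Fin n) (Fin n) K)
  have htau : ((MA.map (fun x : K => x ^ q)).transpose)⁻¹ = (tau σ MA)⁻¹ := by
    simp [tau, show (⇑σ : K → K) = fun x => x ^ q from funext hσ]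
  rw [htau]
  constructor
  · rintro ⟨B, hAB⟩
    obtain ⟨g, hg⟩ := isConj_iff.1 hAB
    set G : Matrix (Fin n) (Fin n) K := (g : Matrix (Fin n) (Fin n) K)
    set MB : Matrix (Fin n) (Fin n) K := ((B : GL (Fin n) K) : Matrix (Fin n) (Fin n) K)
    have hB : tau σ MB * MB = 1 := (mem_GU_iff hσ hσσ _).1 B.2
    have hGA : G * MA = MB * G := by
      have h := congrArg (fun x : GL (Fin n) K => ((x * g : GL (Fin n) K) : Matrix (Fin n) (Fin n) K)) hg
      simpa only [inv_mul_cancel_right, Units.val_mul] using h
    have hu : IsUnit (tau σ G * G) := (isUnit_tau g.isUnit).mul g.isUnit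
    refine ⟨hu.unit, ?_⟩
    show tau σ G * G * MA = (tau σ MA)⁻¹ * (tau σ G * G)
    have h1 : tau σ MA * (tau σ G * G * MA) = tau σ G * G :=
      calc tau σ MA * (tau σ G * G * MA) = tau σ (G * MA) * (G * MA) := by
            rw [tau_mul]; simp only [mul_assoc]
        _ = tau σ G * (tau σ MB * MB) * G := by rw [hGA, tau_mul]; simp only [mul_assoc]
        _ = tau σ G * G := by rw [hB, mul_one]
    conv_rhs => rw [← h1]
    rw [nonsing_inv_mul_cancel_left _ _ ((isUnit_iff_isUnit_det _).1 (isUnit_tau A.isUnit))]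
  · rintro ⟨g, hg⟩
    set G : Matrix (Fin n) (Fin n) K := (g : Matrix (Fin n) (Fin n) K)
    set Gi : Matrix (Fin n) (Fin n) K :=
      ((g⁻¹ : (Matrix (Fin n) (Fin n) K)ˣ) : Matrix (Fin n) (Fin n) K)
    have hGGi : G * Gi = 1 := g.mul_inv
    have hGiG : Gi * G = 1 := g.inv_mul
    have hAg : tau σ MA * G * MA = G := by
      have h1 : G * MA = (tau σ MA)⁻¹ * G := hg
      rw [mul_assoc, h1,
        mul_nonsing_inv_cancel_left _ _ ((isUnit_iff_isUnit_det _).1 (isUnit_tau A.isUnit))]
    have hAtg : tau σ MA * tau σ G * MA = tau σ G := by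
      have := congrArg (tau σ) hAg
      rwa [tau_mul, tau_mul, tau_tau hσσ, ← mul_assoc] at this
    set y := Gi * tau σ G with hy
    set y' := tau σ Gi * G with hy'
    have htGG : tau σ G * tau σ Gi = 1 := by rw [← tau_mul, hGiG, tau_one]
    have htGiG : tau σ Gi * tau σ G = 1 := by rw [← tau_mul, hGGi, tau_one]
    have hyy : y * y' = 1 := by
      rw [hy, hy', mul_assoc, ← mul_assoc (tau σ G), htGG, one_mul, hGiG]
    have hyy' : y' * y = 1 := mul_eq_one_comm.1 hyy
    -- the adjoint with respect to `g`
    let τ' : Matrix (Fin n) (Fin n) K → Matrix (Fin n) (Fin n) K := fun r => Gi * tau σ r * G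
    have hτmul : ∀ r s, τ' (r * s) = τ' s * τ' r := by
      intro r s
      show Gi * tau σ (r * s) * G = Gi * tau σ s * G * (Gi * tau σ r * G)
      rw [tau_mul, show Gi * tau σ s * G * (Gi * tau σ r * G) =
        Gi * tau σ s * (G * Gi) * tau σ r * G by simp only [mul_assoc], hGGi, mul_one]
      simp only [mul_assoc]
    have hτtau : ∀ r, τ' (τ' r) = y * r * y' := by
      intro r
      show Gi * tau σ (Gi * tau σ r * G) * G = _
      rw [tau_mul, tau_mul, tau_tau hσσ, hy, hy']
      simp only [mul_assoc]
    have hcy : MA * y = y * MA := by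
      have hAi : ∀ x, G * MA * x = (tau σ MA)⁻¹ * (G * x) := fun x => by
        rw [show G * MA = (tau σ MA)⁻¹ * G from hg, mul_assoc]
      have h2 : G * (MA * y) = G * (y * MA) := by
        rw [← mul_assoc, hAi, hy, ← mul_assoc G Gi, hGGi, one_mul, ← mul_assoc G (Gi * tau σ G),
          ← mul_assoc G Gi, hGGi, one_mul]
        conv_lhs => rw [← hAtg, mul_assoc (tau σ MA),
          nonsing_inv_mul_cancel_left _ _ ((isUnit_iff_isUnit_det _).1 (isUnit_tau A.isUnit))]
      exact g.isUnit.mul_left_cancel h2
    have hcy' : MA * y' = y' * MA := by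
      calc MA * y' = y' * y * MA * y' := by rw [hyy', one_mul]
        _ = y' * (MA * y) * y' := by rw [hcy, mul_assoc y' y MA]
        _ = y' * MA * (y * y') := by simp only [mul_assoc]
        _ = y' * MA := by rw [hyy, mul_one]
    have hτy : τ' y = y' := by
      show Gi * tau σ (Gi * tau σ G) * G = y'
      rw [tau_mul, tau_tau hσσ, hy', show Gi * (G * tau σ Gi) * G = Gi * G * (tau σ Gi * G) by
        simp only [mul_assoc], hGiG, one_mul]
    have hτy' : τ' y' = y := by
      rw [← hτy, hτtau, mul_assoc, hyy, mul_one]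
    have hτs : ∀ r, τ' (Matrix.scalar (Fin n) r) = Matrix.scalar (Fin n) (σ r) := by
      intro r
      show Gi * tau σ (Matrix.scalar (Fin n) r) * G = _
      rw [tau_scalar, mul_assoc, CfsgLib.InvNorm.scalar_comm, ← mul_assoc, hGiG, one_mul]
    obtain ⟨a, ha⟩ := exists_lam (n := n) hσ hK
    rw [tau_scalar] at ha
    obtain ⟨x, hxS, hx⟩ := exists_isUnit_add_of_anti τ'
      (fun r s => by show Gi * tau σ (r + s) * G = _; rw [tau_add, mul_add, add_mul])
      hτmul (by show Gi * tau σ 1 * G = 1; rw [tau_one, mul_one, hGiG])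
      (scalarsAnd {y, y'})
      (scalarsAnd_comm (by
        rintro _ (rfl | rfl) _ (rfl | rfl)
        · rfl
        · rw [hyy, hyy']
        · rw [hyy, hyy']
        · rfl))
      (by
        rintro z (⟨r, rfl⟩ | rfl | rfl)
        · rw [hτs]; exact Subring.subset_closure (Or.inl ⟨_, rfl⟩)
        · rw [hτy]; exact Subring.subset_closure (Or.inr (Or.inr rfl))
        · rw [hτy']; exact Subring.subset_closure (Or.inr (Or.inl rfl)))
      (by
        rintro z (⟨r, rfl⟩ | rfl | rfl)
        · rw [hτs, hτs, hσσ]
        · rw [hτy, hτy']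
        · rw [hτy', hτy])
      (Subring.subset_closure (Or.inl ⟨a, rfl⟩)) (by rwa [hτs])
      (Subring.subset_closure (Or.inr (Or.inl rfl))) (by rw [hτy, hyy])
    have hxA : MA * x = x * MA := by
      refine closure_commute ?_ hxS
      rintro _ (rfl | rfl)
      · exact hcy
      · exact hcy'
    have hxy : x * y = y * x := by
      refine (closure_commute ?_ hxS).symm
      rintro _ (rfl | rfl)
      · rfl
      · rw [hyy, hyy']
    set H := G * x + tau σ (G * x) with hH
    have hHu : IsUnit H := by
      have : H = G * (x + y * τ' x) := by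
        have hτxy : y * τ' x = τ' x * y := by
          have h3 := congrArg τ' (show x * y' = y' * x by
            refine (closure_commute ?_ hxS).symm
            rintro _ (rfl | rfl)
            · rw [hyy, hyy']
            · rfl)
          rw [hτmul x y', hτmul y' x, hτy'] at h3
          exact h3
        have hg2 : G * (τ' x * y) = tau σ x * tau σ G := by
          show G * (Gi * tau σ x * G * (Gi * tau σ G)) = _
          rw [show G * (Gi * tau σ x * G * (Gi * tau σ G)) =
            G * Gi * tau σ x * (G * Gi) * tau σ G by simp only [mul_assoc], hGGi, one_mul, mul_one]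
        rw [hH, tau_mul, mul_add, hτxy, hg2]
      rw [this]
      exact g.isUnit.mul hx
    have hHfix : tau σ H = H := by rw [hH, tau_add, tau_tau hσσ, add_comm]
    have hAGx : tau σ MA * (G * x) * MA = G * x := by
      rw [show tau σ MA * (G * x) * MA = tau σ MA * G * (x * MA) by simp only [mul_assoc],
        ← hxA, show tau σ MA * G * (MA * x) = tau σ MA * G * MA * x by simp only [mul_assoc], hAg]
    have hHA : tau σ MA * H * MA = H := by
      have h4 := congrArg (tau σ) hAGx
      rw [tau_mul, tau_mul (M := tau σ MA), tau_tau hσσ, ← mul_assoc] at h4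
      rw [hH, mul_add, add_mul, hAGx, h4]
    obtain ⟨b, hb⟩ := exists_lam (n := n) hσ hK
    obtain ⟨c, hcS, hcu, -, hcH⟩ := exists_norm_eq_of_anti (tau σ) (tau_add σ) (tau_mul σ)
      (tau_one σ) (scalarsAnd {H}) (scalarsAnd_comm (by rintro _ rfl _ rfl; rfl))
      (by
        rintro z (⟨r, rfl⟩ | rfl)
        · rw [tau_scalar]; exact Subring.subset_closure (Or.inl ⟨_, rfl⟩)
        · rw [hHfix]; exact Subring.subset_closure (Or.inr rfl))
      (fun z _ => tau_tau hσσ z)
      (Subring.subset_closure (Or.inl ⟨b, rfl⟩)) hb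
      (Subring.subset_closure (Or.inr rfl)) hHu hHfix
    have hU : hcu.unit * A * hcu.unit⁻¹ ∈ Cfsg.GU n K q := by
      rw [mem_GU_iff hσ hσσ, Units.val_mul, Units.val_mul, IsUnit.unit_spec, tau_mul, tau_mul]
      set D : Matrix (Fin n) (Fin n) K :=
        ((hcu.unit⁻¹ : (Matrix (Fin n) (Fin n) K)ˣ) : Matrix (Fin n) (Fin n) K) with hD
      have hcD : c * D = 1 := by rw [hD, IsUnit.mul_val_inv]
      calc tau σ D * (tau σ MA * tau σ c) * (c * MA * D)
          = tau σ D * (tau σ MA * (tau σ c * c) * MA) * D := by simp only [mul_assoc]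
        _ = tau σ D * (tau σ c * c) * D := by rw [hcH, hHA]
        _ = tau σ (c * D) * (c * D) := by rw [tau_mul]; simp only [mul_assoc]
        _ = 1 := by rw [hcD, tau_one, one_mul]
    exact ⟨⟨_, hU⟩, isConj_iff.2 ⟨hcu.unit, rfl⟩⟩

end Cfsg.Agent.S2588
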