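import Cfsg.Statements.S4200
import Mathlib
import Cfsg.Agent.CommutingPairs.Basic

set_option autoImplicit false
open Cfsg

namespace Cfsg.Agent.S4200

/-- Let Y be a subgroup of the finite group X, of index m. Then the numbers of conjugacy classes satisfy k(Y) ≤ m·k(X) and k(X) ≤ m·k(Y), and the second inequality is strict unless Y is normal in X. -/
theorem result {X : Type*} [Group X] [Finite X] (Y : Subgroup X) : Nat.card (ConjClasses Y) ≤ Y.index * Nat.card (ConjClasses X) ∧ Nat.card (ConjClasses X) ≤ Y.index * Nat.card (ConjClasses Y) ∧ (¬ Y.Normal → Nat.card (ConjClasses X) < Y.index * Nat.card (ConjClasses Y)) := by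
  classical
  have := Fintype.ofFinite X
  set C : X → Subgroup X := fun g => Subgroup.centralizer ({g} : Set X) with hC
  have hX := CfsgLib.CommutingPairs.sum_card_centralizer X
  have hY := CfsgLib.CommutingPairs.sum_card_centralizer Y
  have hsub : ∀ y : Y, Nat.card (Subgroup.centralizer ({y} : Set Y)) = Nat.card (C y ⊓ Y : Subgroup X) := by
    intro y
    exact Nat.card_congr
      { toFun := fun z => ⟨z.1.1, Subgroup.mem_centralizer_singleton_iff.2
          (congrArg Subtype.val (Subgroup.mem_centralizer_singleton_iff.1 z.2)), z.1.2⟩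
        invFun := fun z => ⟨⟨z.1, z.2.2⟩, Subgroup.mem_centralizer_singleton_iff.2
          (Subtype.ext (Subgroup.mem_centralizer_singleton_iff.1 z.2.1))⟩
        left_inv := fun _ => rfl
        right_inv := fun _ => rfl }
  have hm : Nat.card X = Nat.card Y * Y.index := (Subgroup.card_mul_index Y).symm
  have hpos : 0 < Nat.card Y := Nat.card_pos
  have hle : ∀ g, Nat.card (C g) ≤ Y.index * Nat.card (C g ⊓ Y : Subgroup X) := by
    intro g
    have h := Subgroup.card_mul_index (Y.subgroupOf (C g))
    rw [← Subgroup.inf_subgroupOf_left,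
      Nat.card_congr (Subgroup.subgroupOfEquivOfLe (inf_le_left : C g ⊓ Y ≤ C g)).toEquiv] at h
    rw [← h, mul_comm]
    refine Nat.mul_le_mul_right _ ?_
    rw [← Subgroup.relIndex, Subgroup.inf_relIndex_left]
    rw [← Subgroup.relIndex_top_right Y]
    exact Subgroup.relIndex_le_of_le_right le_top (by rw [Subgroup.relIndex_top_right]; exact Subgroup.index_ne_zero_of_finite)
  -- pairs with one entry in `Y`
  have hswap : ∑ g : X, Nat.card (C g ⊓ Y : Subgroup X) = ∑ y : Y, Nat.card (C y) := by
    rw [← Nat.card_sigma, ← Nat.card_sigma]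
    exact Nat.card_congr
      { toFun := fun x => ⟨⟨x.2.1, x.2.2.2⟩, x.1, Subgroup.mem_centralizer_singleton_iff.2
          (Subgroup.mem_centralizer_singleton_iff.1 x.2.2.1).symm⟩
        invFun := fun x => ⟨x.2.1, x.1.1, Subgroup.mem_centralizer_singleton_iff.2
          (Subgroup.mem_centralizer_singleton_iff.1 x.2.2).symm, x.1.2⟩
        left_inv := fun _ => rfl
        right_inv := fun _ => rfl }
  have hle' : ∀ y : Y, Nat.card (C y) ≤ Y.index * Nat.card (Subgroup.centralizer ({y} : Set Y)) :=
    fun y => by rw [hsub]; exact hle y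
  have hsum : ∑ g : X, Nat.card (C g) ≤ Y.index * ∑ y : Y, Nat.card (C y) := by
    rw [← hswap, Finset.mul_sum]; exact Finset.sum_le_sum fun g _ => hle g
  refine ⟨?_, ?_, ?_⟩
  · have h1 : ∑ y : Y, Nat.card (Subgroup.centralizer ({y} : Set Y)) ≤ ∑ g : X, Nat.card (C g) := by
      refine le_trans (Finset.sum_le_sum fun y _ => ?_) (le_of_eq_of_le
        (Finset.sum_map Finset.univ (Function.Embedding.subtype fun x => x ∈ Y)
          (fun g => Nat.card (C g))).symm
        (Finset.sum_le_sum_of_subset (Finset.subset_univ _)))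
      rw [hsub]
      exact Subgroup.card_le_of_le inf_le_left
    rw [hY, hX, hm] at h1
    have h2 : Nat.card (ConjClasses Y) * Nat.card Y ≤ (Y.index * Nat.card (ConjClasses X)) * Nat.card Y :=
      h1.trans (le_of_eq (by ring))
    exact Nat.le_of_mul_le_mul_right h2 hpos
  · have h2 : ∑ y : Y, Nat.card (C y) ≤ Y.index * ∑ y : Y, Nat.card (Subgroup.centralizer ({y} : Set Y)) := by
      rw [Finset.mul_sum]; exact Finset.sum_le_sum fun y _ => hle' y
    have h3 := hsum.trans (Nat.mul_le_mul_left _ h2)
    rw [hX, hY, hm] at h3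
    have hi : 0 < Y.index := Nat.pos_of_ne_zero Subgroup.index_ne_zero_of_finite
    refine Nat.le_of_mul_le_mul_right ?_ (Nat.mul_pos hpos hi)
    refine h3.trans (le_of_eq ?_)
    ring
  · intro hnn
    have hi : 0 < Y.index := Nat.pos_of_ne_zero Subgroup.index_ne_zero_of_finite
    -- some centralizer has too small an index over its trace on `Y`
    obtain ⟨y, hy⟩ : ∃ y : Y, Nat.card (C y) < Y.index * Nat.card (Subgroup.centralizer ({y} : Set Y)) := by
      by_contra hno
      push Not at hno
      apply hnn
      refine ⟨fun a ha g => ?_⟩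
      have heq : Nat.card (C a) = Y.index * Nat.card (C a ⊓ Y : Subgroup X) :=
        le_antisymm (hle a) (by rw [← hsub ⟨a, ha⟩]; exact hno ⟨a, ha⟩)
      have hrel : Y.relIndex (C a) = Y.index := by
        have h := Subgroup.card_mul_index (Y.subgroupOf (C a))
        rw [← Subgroup.inf_subgroupOf_left,
          Nat.card_congr (Subgroup.subgroupOfEquivOfLe (inf_le_left : C a ⊓ Y ≤ C a)).toEquiv,
          heq, mul_comm Y.index] at h
        rw [← Subgroup.inf_relIndex_left]
        exact Nat.eq_of_mul_eq_mul_left Nat.card_pos h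
      -- so `C a` meets every coset of `Y`
      let f : C a ⧸ Y.subgroupOf (C a) → X ⧸ Y :=
        Quotient.map' Subtype.val fun x y hxy => by
          rw [QuotientGroup.leftRel_apply] at hxy ⊢
          simpa [Subgroup.mem_subgroupOf] using hxy
      have hf : Function.Injective f := by
        intro x y
        induction x using QuotientGroup.induction_on with | H x => ?_
        induction y using QuotientGroup.induction_on with | H y => ?_
        intro hxy
        have hxy' : ((x : X) : X ⧸ Y) = ((y : X) : X ⧸ Y) := hxy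
        rw [QuotientGroup.eq] at hxy' ⊢
        simpa [Subgroup.mem_subgroupOf] using hxy'
      obtain ⟨q, hq⟩ := (hf.bijective_of_nat_card_le (le_of_eq hrel.symm)).2 ((g⁻¹ : X) : X ⧸ Y)
      induction q using QuotientGroup.induction_on with | H c => ?_
      have hq' : ((c : X) : X ⧸ Y) = ((g⁻¹ : X) : X ⧸ Y) := hq
      rw [QuotientGroup.eq] at hq'
      have hc : (c : X) * a = a * c := Subgroup.mem_centralizer_singleton_iff.1 c.2
      have : g * a * g⁻¹ = ((c : X)⁻¹ * g⁻¹)⁻¹ * a * ((c : X)⁻¹ * g⁻¹) := by
        calc g * a * g⁻¹ = g * (a * c * (c : X)⁻¹) * g⁻¹ := by group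
          _ = g * ((c : X) * a * (c : X)⁻¹) * g⁻¹ := by rw [hc]
          _ = _ := by group
      rw [this]
      exact Y.mul_mem (Y.mul_mem (Y.inv_mem hq') ha) hq'
    have h2 : ∑ y : Y, Nat.card (C y) < Y.index * ∑ y : Y, Nat.card (Subgroup.centralizer ({y} : Set Y)) := by
      rw [Finset.mul_sum]
      exact Finset.sum_lt_sum (fun y _ => hle' y) ⟨y, Finset.mem_univ _, hy⟩
    have h3 := hsum.trans_lt (Nat.mul_lt_mul_of_pos_left h2 hi)
    rw [hX, hY, hm] at h3
    refine Nat.lt_of_mul_lt_mul_right (a := Nat.card Y * Y.index) (h3.trans_le (le_of_eq ?_))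
    ring

end Cfsg.Agent.S4200
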