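import Cfsg.Statements.S4729
import Cfsg.Agent.Blocks.Idempotent
import Cfsg.Agent.Characters.RepBasic
import Mathlib.GroupTheory.Abelianization.Defs

set_option autoImplicit false
open Cfsg

namespace Cfsg.Agent.S4729

open CfsgLib

theorem det_eq_one_of_perfect {G : Type*} [Group G] (hperf : commutator G = ⊤) {n : ℕ}
    (ρ : Representation ℂ G (Fin n → ℂ)) (g : G) : LinearMap.det (ρ g) = 1 := by
  let f : G →* ℂˣ :=
    (Units.map (LinearMap.det : ((Fin n → ℂ) →ₗ[ℂ] (Fin n → ℂ)) →* ℂ)).comp ρ.toHomUnits
  have hker : g ∈ f.ker := Abelianization.commutator_subset_ker f (hperf ▸ Subgroup.mem_top g)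
  have h : ((f g : ℂˣ) : ℂ) = 1 := by rw [MonoidHom.mem_ker.1 hker]; rfl
  exact h


/-- Let p be a prime, M a maximal ideal of the algebraic integers containing p, G a finite perfect group and P a Sylow p-subgroup. If the principal p-block of G contains a faithful irreducible character of degree less than 2p, then the centralizer of P is a p-group. -/
theorem result {G : Type*} [Group G] [Finite G] (p : ℕ) [Fact p.Prime] (M : Ideal Cfsg.AlgInt) (hM : Cfsg.IsPModular p M) (hperf : commutator G = ⊤) (P : Sylow p G) (χ : Cfsg.IrrCharacter G) (hχ : χ ∈ Cfsg.principalBlock M G) (hfaith : ∀ g : G, (χ : G → ℂ) g = (χ : G → ℂ) 1 → g = 1) (hdeg : Cfsg.charDegree (χ : G → ℂ) < 2 * p) : IsPGroup p ↥(Subgroup.centralizer ((P : Subgroup G) : Set G)) := by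
  classical
  have := Fintype.ofFinite G
  have := Blocks.IsPModular.isPrime hM
  have hpp : p.Prime := Fact.out
  by_contra hnot
  -- a nontrivial element of prime order `q ≠ p` centralising `P`
  obtain ⟨q, hq, hqp, hqC⟩ : ∃ q : ℕ, q.Prime ∧ q ≠ p ∧
      q ∣ Nat.card ↥(Subgroup.centralizer ((P : Subgroup G) : Set G)) := by
    by_contra h
    push Not at h
    refine hnot (IsPGroup.of_card (n := (Nat.card ↥(Subgroup.centralizer ((P : Subgroup G) : Set G))).primeFactorsList.length) ?_)
    refine Nat.eq_prime_pow_of_unique_prime_dvd Nat.card_pos.ne' fun {d} hd hdvd => ?_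
    by_contra hne
    exact h d hd hne hdvd
  have : Fact q.Prime := ⟨hq⟩
  obtain ⟨⟨x, hxC⟩, hx⟩ := exists_prime_orderOf_dvd_card' q hqC
  rw [Subgroup.orderOf_mk] at hx
  obtain ⟨d, ρ, hρ, hρc⟩ := χ.2
  have hdeg' : Cfsg.charDegree (χ : G → ℂ) = d := by
    rw [Cfsg.charDegree, ← hρc, Representation.char_one]
    simp
  rw [hdeg'] at hdeg
  obtain ⟨b, μ, hμ⟩ := Characters.exists_eigenbasis ρ x
  have hn : Module.finrank ℂ (Fin d → ℂ) = d := Module.finrank_fin_fun ℂ
  rw [hx] at hμ
  have hone : (χ : G → ℂ) 1 = (d : ℂ) := by rw [← hρc, Representation.char_one, hn]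
  -- the lifted eigenvalues
  let lift : Fin (Module.finrank ℂ (Fin d → ℂ)) → Blocks.localRing M := fun i =>
    ⟨μ i, Blocks.memLocalRing_of_isIntegral
      (IsIntegral.of_pow hq.pos (by rw [(hμ i).2]; exact isIntegral_one))⟩
  have hliftpow : ∀ i, lift i ^ q = 1 := fun i => Subtype.ext (hμ i).2
  -- congruences of the values at powers of `x`
  have hcong : ∀ j : ℕ, ∑ i, Blocks.red M (lift i) ^ j = (d : Blocks.Res M) := by
    intro j
    have hval : ∑ i, μ i ^ j = (χ : G → ℂ) (x ^ j) := by
      rw [← hρc, Representation.character, LinearMap.trace_eq_matrix_trace ℂ b, Matrix.trace]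
      refine Finset.sum_congr rfl fun i _ => ?_
      have hk : ρ (x ^ j) (b i) = μ i ^ j • b i := by
        induction j with
        | zero => simp
        | succ j ih => rw [pow_succ', map_mul, Module.End.mul_apply, ih, map_smul, (hμ i).1,
            smul_smul, ← pow_succ]
      rw [Matrix.diag, LinearMap.toMatrix_apply, hk]; simp
    have hI : ¬ p ∣ (Subgroup.centralizer ({x ^ j} : Set G)).index := by
      intro hdvd
      refine P.not_dvd_index (hdvd.trans (Subgroup.index_dvd_of_le ?_))
      intro y hy
      rw [Subgroup.mem_centralizer_singleton_iff]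
      exact Subgroup.mem_centralizer_iff.1 ((Subgroup.centralizer _).pow_mem hxC j) y hy
    have h1 := hχ (x ^ j)
    rw [Cfsg.centralChar, Cfsg.centralChar, div_one, mul_one] at h1
    have hI0 : ((Subgroup.centralizer ({x ^ j} : Set G)).index : ℂ) ≠ 0 :=
      Nat.cast_ne_zero.2 Subgroup.index_ne_zero_of_finite
    have h2 : Cfsg.MemLocalIdeal M ((χ : G → ℂ) (x ^ j) - (d : ℂ)) := by
      have e : (χ : G → ℂ) (x ^ j) - (d : ℂ) =
          -(((Subgroup.centralizer ({x ^ j} : Set G)).index -
            (((Subgroup.centralizer ({x ^ j} : Set G)).index : ℂ) * (χ : G → ℂ) (x ^ j) / (χ : G → ℂ) 1)) *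
            (((Subgroup.centralizer ({x ^ j} : Set G)).index : ℂ)⁻¹ * (d : ℂ))) := by
        have hd0 : (χ : G → ℂ) 1 ≠ 0 := Characters.irr_one_ne_zero χ.2
        rw [hone] at hd0 ⊢
        field_simp
        ring
      rw [e]
      exact Blocks.memLocalIdeal_neg (Blocks.memLocalIdeal_mul_right h1
        ((Blocks.localRing M).mul_mem (Blocks.memLocalRing_natCast_inv hM hI)
          (Blocks.memLocalRing_natCast _)))
    have h3 : Blocks.red M (∑ i, lift i ^ j - (d : Blocks.localRing M)) = 0 := by
      rw [Blocks.red_eq_zero_iff]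
      rw [AddSubgroupClass.coe_sub, AddSubmonoidClass.coe_finsetSum]
      simp only [SubmonoidClass.coe_pow, lift, hval]
      exact_mod_cast h2
    rw [map_sub, map_sum, map_natCast, sub_eq_zero] at h3
    simpa [map_pow] using h3
  -- multiplicities of nontrivial eigenvalues are multiples of `p`
  have hinj : ∀ i k, Blocks.red M (lift i) = Blocks.red M (lift k) → lift i = lift k := by
    intro i k h
    by_contra hne
    have hk0 : lift k ≠ 0 := fun h0 => by
      have := hliftpow k
      rw [h0, zero_pow hq.ne_zero] at this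
      exact zero_ne_one this
    set r := lift i * lift k ^ (q - 1) with hr
    have hrpow : r ^ q = 1 := by
      rw [hr, mul_pow, ← pow_mul, mul_comm (q - 1), pow_mul, hliftpow, hliftpow, one_pow, one_mul]
    have hr1 : r ≠ 1 := by
      intro h1
      apply hne
      calc lift i = lift i * lift k ^ (q - 1) * lift k := by
            rw [mul_assoc, ← pow_succ, Nat.sub_add_cancel hq.pos, hliftpow, mul_one]
        _ = lift k := by rw [← hr, h1, one_mul]
    have hgeo : ∑ j ∈ Finset.range q, r ^ j = 0 := by
      have h5 := geom_sum_mul r q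
      rw [hrpow, sub_self, mul_eq_zero] at h5
      exact h5.resolve_right (sub_ne_zero.2 hr1)
    have hred : Blocks.red M r = 1 := by
      rw [hr, map_mul, h, ← map_mul, ← pow_succ', Nat.sub_add_cancel hq.pos, hliftpow, map_one]
    have h6 := congrArg (Blocks.red M) hgeo
    simp only [map_sum, map_pow, hred, one_pow, Finset.sum_const, Finset.card_range, nsmul_eq_mul,
      mul_one, map_zero] at h6
    exact hqp ((Nat.prime_dvd_prime_iff_eq hpp hq).1 ((Blocks.red_natCast_eq_zero_iff hM q).1 h6)).symm
  have hmult : ∀ k, lift k ≠ 1 → p ∣ (Finset.univ.filter fun i => lift i = lift k).card := by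
    intro k hk
    set a := Blocks.red M (lift k) with ha
    have hapow : a ^ q = 1 := by rw [ha, ← map_pow, hliftpow, map_one]
    have ha1 : a ≠ 1 := by
      intro h1
      have hgeo : ∑ j ∈ Finset.range q, lift k ^ j = 0 := by
        have h5 := geom_sum_mul (lift k) q
        rw [hliftpow, sub_self, mul_eq_zero] at h5
        exact h5.resolve_right (sub_ne_zero.2 hk)
      have h6 := congrArg (Blocks.red M) hgeo
      rw [ha] at h1
      simp only [map_sum, map_pow, h1, one_pow, Finset.sum_const, Finset.card_range, nsmul_eq_mul,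
        mul_one, map_zero] at h6
      exact hqp ((Nat.prime_dvd_prime_iff_eq hpp hq).1 ((Blocks.red_natCast_eq_zero_iff hM q).1 h6)).symm
    have hinner : ∀ i, ∑ j ∈ Finset.range q, (Blocks.red M (lift i) * a ^ (q - 1)) ^ j =
        if lift i = lift k then (q : Blocks.Res M) else 0 := by
      intro i
      split_ifs with hik
      · have : Blocks.red M (lift i) * a ^ (q - 1) = 1 := by
          rw [hik, ← ha, ← pow_succ', Nat.sub_add_cancel hq.pos, hapow]
        simp [this]
      · set r := Blocks.red M (lift i) * a ^ (q - 1) with hr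
        have hrpow : r ^ q = 1 := by
          rw [hr, mul_pow, ← map_pow, hliftpow, map_one, one_mul, ← pow_mul, mul_comm (q - 1),
            pow_mul, hapow, one_pow]
        have hr1 : r ≠ 1 := by
          intro h1
          refine hik (hinj i k ?_)
          calc Blocks.red M (lift i) = r * a := by
                rw [hr, mul_assoc, ← pow_succ, Nat.sub_add_cancel hq.pos, hapow, mul_one]
            _ = Blocks.red M (lift k) := by rw [h1, one_mul, ha]
        have h5 := geom_sum_mul r q
        rw [hrpow, sub_self, mul_eq_zero] at h5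
        exact h5.resolve_right (sub_ne_zero.2 hr1)
    have h7 : ∑ i, ∑ j ∈ Finset.range q, (Blocks.red M (lift i) * a ^ (q - 1)) ^ j = 0 := by
      rw [Finset.sum_comm]
      simp only [mul_pow, ← Finset.sum_mul, hcong, ← Finset.mul_sum]
      set r := a ^ (q - 1) with hr
      have hrpow : r ^ q = 1 := by rw [hr, ← pow_mul, mul_comm (q - 1), pow_mul, hapow, one_pow]
      have hr1 : r ≠ 1 := by
        intro h1
        apply ha1
        calc a = r * a := by rw [h1, one_mul]
          _ = 1 := by rw [hr, ← pow_succ, Nat.sub_add_cancel hq.pos, hapow]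
      have h5 := geom_sum_mul r q
      rw [hrpow, sub_self, mul_eq_zero] at h5
      rw [h5.resolve_right (sub_ne_zero.2 hr1), mul_zero]
    simp only [hinner] at h7
    rw [Finset.sum_ite, Finset.sum_const_zero, add_zero, Finset.sum_const, nsmul_eq_mul,
      ← Nat.cast_mul, Blocks.red_natCast_eq_zero_iff hM] at h7
    exact (hpp.dvd_mul.1 h7).resolve_right
      fun h => hqp ((Nat.prime_dvd_prime_iff_eq hpp hq).1 h).symm
  -- conclusion from the determinant
  have hnontriv : ∃ k, lift k ≠ 1 := by
    by_contra h
    push Not at h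
    have hid : ρ x = 1 := b.ext fun i => by
      have hμ1 : μ i = 1 := congrArg Subtype.val (h i)
      rw [(hμ i).1, hμ1, one_smul]; rfl
    have hx1 : x = 1 := hfaith x (by
      rw [← hρc, Representation.character, Representation.character, hid, map_one ρ])
    rw [hx1, orderOf_one] at hx
    exact hq.one_lt.ne hx
  obtain ⟨k, hk⟩ := hnontriv
  set S := Finset.univ.filter fun i => lift i = lift k with hS
  have hSp : p ≤ S.card :=
    Nat.le_of_dvd (Finset.card_pos.2 ⟨k, by simp [hS]⟩) (hmult k hk)
  have hothers : ∀ i, i ∉ S → lift i = 1 := by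
    intro i hi
    by_contra hi1
    set T := Finset.univ.filter fun j => lift j = lift i with hT
    have hTp : p ≤ T.card := Nat.le_of_dvd (Finset.card_pos.2 ⟨i, by simp [hT]⟩) (hmult i hi1)
    have hdisj : Disjoint S T := Finset.disjoint_filter.2 fun j _ h1 h2 => hi (by
      simp only [hS, Finset.mem_filter, Finset.mem_univ, true_and]
      exact h2.symm.trans h1)
    have h8 := (S.card_union_of_disjoint hdisj).ge.trans (Finset.card_le_univ _)
    rw [Fintype.card_fin] at h8
    have := h8.trans_eq hn
    omega
  have hScard : S.card = p := by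
    obtain ⟨m, hm⟩ := hmult k hk
    have h9 : S.card ≤ d := by
      have h10 := Finset.card_le_univ S
      rw [Fintype.card_fin] at h10
      exact h10.trans_eq hn
    rw [← hS] at hm
    rcases Nat.lt_or_ge m 2 with hm2 | hm2
    · interval_cases m
      · omega
      · omega
    · nlinarith [hpp.two_le]
  have hdet : ∏ i, μ i = 1 := by
    rw [← det_eq_one_of_perfect hperf ρ x, ← LinearMap.det_toMatrix b,
      show LinearMap.toMatrix b b (ρ x) = Matrix.diagonal μ from ?_, Matrix.det_diagonal]
    ext i j
    rw [LinearMap.toMatrix_apply, (hμ j).1, Matrix.diagonal_apply]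
    by_cases hij : i = j
    · subst hij; simp
    · simp [hij, Finsupp.single_eq_of_ne hij, Ne.symm hij]
  have hpow : (lift k) ^ p = 1 := by
    apply Subtype.ext
    rw [SubmonoidClass.coe_pow, OneMemClass.coe_one, ← hdet,
      ← Finset.prod_filter_mul_prod_filter_not Finset.univ (fun i => lift i = lift k), ← hS,
      Finset.prod_congr rfl (g := fun _ => μ k) (fun i hi => congrArg Subtype.val (Finset.mem_filter.1 hi).2),
      Finset.prod_const, hScard, Finset.prod_eq_one (fun i hi => congrArg Subtype.val
        (hothers i (by simpa [hS] using (Finset.mem_filter.1 hi).2))), mul_one]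
  have h11 : lift k ^ Nat.gcd q p = 1 := pow_gcd_eq_one.2 ⟨hliftpow k, hpow⟩
  rw [(Nat.coprime_primes hq hpp).2 hqp, pow_one] at h11
  exact hk h11

end Cfsg.Agent.S4729
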