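import Cfsg.Statements.S0981
import Cfsg.Agent.S1230
import Cfsg.Agent.Linear.Basic
import Cfsg.Agent.Small.DegreeInvolution
import Cfsg.Agent.Small.DegreeSmall
import Cfsg.Agent.Small.ElementCount

set_option autoImplicit false
open Cfsg

namespace Cfsg.Agent.S0981

open CfsgLib.Small

variable {G : Type*} [Group G] [Finite G] [IsSimpleGroup G]

/-- The Sylow 17-subgroups are self-centralising, 120 in number. -/
theorem sylow_seventeen (hG : ¬ IsMulCommutative G) (hN : Nat.card G = 4080)
    [Fact (Nat.Prime 17)] (P : Sylow 17 G) : Nat.card (P : Subgroup G) = 17 ∧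
      Nat.card (Sylow 17 G) = 120 ∧
      Nat.card (Subgroup.normalizer ((P : Subgroup G) : Set G)) = 17 * 2 ∧
      Subgroup.centralizer ((P : Subgroup G) : Set G) = (P : Subgroup G) := by
  have hP : Nat.card (P : Subgroup G) = 17 := by
    simpa using card_sylow_eq (k := 1) (m := 240) (by rw [hN]; norm_num) (by norm_num) P
  have hn := card_sylow_mem hG (p := 17) (k := 1) (m := 240) (by rw [hN]; norm_num) one_ne_zero
    (by norm_num)
  rw [show (Nat.divisors 240).filter (fun d => d % 17 = 1 ∧ d ≠ 1) = {120} by decide +kernel,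
    Finset.mem_singleton] at hn
  have hNn := card_sylow_mul_card_normalizer P
  rw [hn, hN] at hNn
  have hNc : Nat.card (Subgroup.normalizer ((P : Subgroup G) : Set G)) = 17 * 2 := by omega
  exact ⟨hP, hn, hNc, Degree.centralizer_eq_of_relIndex hG P hP hNc (by decide +kernel)⟩

/-- Every involution has a centraliser of order sixteen. -/
theorem card_centralizer_invol (hG : ¬ IsMulCommutative G) (hN : Nat.card G = 4080) {t : G}
    (ht : orderOf t = 2) : Nat.card (Subgroup.centralizer ({t} : Set G)) = 16 := by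
  haveI : Fact (Nat.Prime 17) := ⟨by norm_num⟩
  obtain ⟨P⟩ : Nonempty (Sylow 17 G) := inferInstance
  obtain ⟨hP, -, hNc, hC⟩ := sylow_seventeen hG hN P
  obtain ⟨s, θ, d, v, hs, hθd, hθ1, hθN, hθp, hd1, hdN, hdp, hsq, hpar, hv1, hv2, hcol, -, heq⟩ :=
    Degree.involution_two hG (P : Subgroup G) hP hC 8 hNc (by norm_num) (by norm_num) ht
  set c := Nat.card (Subgroup.centralizer ({t} : Set G))
  have hcN : c ∣ 4080 := hN ▸ Subgroup.card_subgroup_dvd_card _
  rw [hN] at hθN hdN hsq
  push_cast at hθp hdp hcol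
  have hd : d ≤ 22 := by nlinarith
  have hall : ∀ y ≤ 22, 1 < y → y ∣ 4080 → (y % 17 = 2 ∨ y % 17 = 15) → y = 2 ∨ y = 15 := by
    decide +kernel
  have hd' := hall d hd hd1 hdN (by rcases hs with rfl | rfl <;> omega)
  have key : θ = 16 ∧ d = 15 ∧ s = -1 := by
    rcases hs with rfl | rfl <;> rcases hd' with rfl | rfl <;> omega
  obtain ⟨rfl, rfl, rfl⟩ := key
  rw [hN] at heq
  push_cast at heq hv1 hv2
  have hc2 : (c : ℤ) = 16 - v := by
    have h : ((c : ℤ)) ^ 2 = (16 - v) ^ 2 := by linarith
    have hc0 : (0 : ℤ) ≤ c := Int.natCast_nonneg _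
    nlinarith
  have hv3 : -1 ≤ v ∧ v ≤ 2 := by constructor <;> nlinarith
  rcases (show v = 2 ∨ v = 0 by omega) with rfl | rfl
  · rw [show c = 14 by omega] at hcN
    norm_num at hcN
  · omega

/-- An element of order three or five has a centraliser of order dividing 15. -/
theorem card_centralizer_odd (hG : ¬ IsMulCommutative G) (hN : Nat.card G = 4080) {y : G}
    (hy : orderOf y = 3 ∨ orderOf y = 5) :
    Nat.card (Subgroup.centralizer ({y} : Set G)) ∣ 15 := by
  haveI : Fact (Nat.Prime 17) := ⟨by norm_num⟩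
  haveI : Fact (Nat.Prime 2) := ⟨by norm_num⟩
  have hy1 : y ≠ 1 := fun h => by rw [h, orderOf_one] at hy; omega
  have h17 : ¬ 17 ∣ Nat.card (Subgroup.centralizer ({y} : Set G)) := fun h => by
    obtain ⟨P⟩ : Nonempty (Sylow 17 G) := inferInstance
    obtain ⟨hP, -, -, hC⟩ := sylow_seventeen hG hN P
    have := orderOf_eq_of_dvd_centralizer P hP hC hy1 h
    omega
  have h2 : ¬ 2 ∣ Nat.card (Subgroup.centralizer ({y} : Set G)) := fun h => by
    obtain ⟨u₀, hu₀⟩ :=
      exists_prime_orderOf_dvd_card' (G := ↥(Subgroup.centralizer ({y} : Set G))) 2 h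
    have hu : orderOf (u₀ : G) = 2 := by rw [Subgroup.orderOf_coe]; exact hu₀
    have h8 := card_centralizer_invol hG hN hu
    have hmem : y ∈ Subgroup.centralizer ({(u₀ : G)} : Set G) :=
      Subgroup.mem_centralizer_singleton_iff.2 (Subgroup.mem_centralizer_singleton_iff.1 u₀.2).symm
    have := Subgroup.orderOf_dvd_natCard _ hmem
    rw [h8] at this
    rcases hy with hy | hy <;> rw [hy] at this <;> norm_num at this
  have hd : Nat.card (Subgroup.centralizer ({y} : Set G)) ∣ 2 ^ 4 * (17 * 15) :=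
    (Subgroup.card_subgroup_dvd_card _).trans (dvd_of_eq hN)
  exact (((by norm_num : Nat.Prime 17).coprime_iff_not_dvd.2 h17).symm.dvd_of_dvd_mul_left
    (((Nat.prime_two.coprime_iff_not_dvd.2 h2).pow_left 4).symm.dvd_of_dvd_mul_left hd))

/-- No element has order four. -/
theorem no_four (hG : ¬ IsMulCommutative G) (hN : Nat.card G = 4080) (x : G) : orderOf x ≠ 4 := by
  intro hx
  classical
  haveI : Fact (Nat.Prime 17) := ⟨by norm_num⟩
  haveI : Fact (Nat.Prime 5) := ⟨by norm_num⟩
  haveI : Fact (Nat.Prime 3) := ⟨by norm_num⟩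
  obtain ⟨P⟩ : Nonempty (Sylow 17 G) := inferInstance
  obtain ⟨hP, hn, -, -⟩ := sylow_seventeen hG hN P
  have h17 := card_sylow_mul_le_card_orderOf P hP
  rw [hn] at h17
  have hx2 : orderOf (x ^ 2) = 2 := by
    rw [orderOf_pow_of_dvd two_ne_zero (by rw [hx]; norm_num), hx]
  have hle : Nat.card (Subgroup.centralizer ({x} : Set G)) ≤ 16 := by
    rw [← card_centralizer_invol hG hN hx2]
    refine Nat.le_of_dvd Nat.card_pos (Subgroup.card_dvd_of_le fun c hc => ?_)
    exact Subgroup.mem_centralizer_singleton_iff.2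
      ((show Commute c x from Subgroup.mem_centralizer_singleton_iff.1 hc).pow_right 2).eq
  have h4 := index_centralizer_le_card_orderOf x
  have h4' := Subgroup.index_mul_card (Subgroup.centralizer ({x} : Set G))
  rw [hx] at h4
  rw [hN] at h4'
  have h2 := index_centralizer_le_card_orderOf (x ^ 2)
  have h2' := Subgroup.index_mul_card (Subgroup.centralizer ({x ^ 2} : Set G))
  rw [hx2] at h2
  rw [card_centralizer_invol hG hN hx2, hN] at h2'
  have h255 : 255 ≤ (Subgroup.centralizer ({x} : Set G)).index := by nlinarith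
  -- Sylow 5-subgroups
  have h5card : ∀ Q : Sylow 5 G, Nat.card (Q : Subgroup G) = 5 := fun Q => by
    simpa using card_sylow_eq (k := 1) (m := 816) (by rw [hN]; norm_num) (by norm_num) Q
  have hC5 : ∀ Q : Sylow 5 G,
      Nat.card (Subgroup.centralizer ((Q : Subgroup G) : Set G)) = 15 ∧
        Nat.card (Sylow 5 G) = 136 := by
    intro Q
    haveI : Nontrivial ↥(Q : Subgroup G) :=
      Finite.one_lt_card_iff_nontrivial.1 (by rw [h5card]; norm_num)
    obtain ⟨a, ha⟩ := exists_ne (1 : ↥(Q : Subgroup G))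
    have ha1 : (a : G) ≠ 1 := fun h => ha (Subtype.ext h)
    have hd := card_centralizer_odd hG hN
      (y := (a : G)) (Or.inr (orderOf_eq_of_mem_prime (h5card Q) a.2 ha1))
    rw [centralizer_singleton_eq_of_prime (h5card Q) a.2 ha1] at hd
    have hn5 := card_sylow_mem hG (p := 5) (k := 1) (m := 816) (by rw [hN]; norm_num) one_ne_zero
      (by norm_num)
    rw [show (Nat.divisors 816).filter (fun d => d % 5 = 1 ∧ d ≠ 1) = {6, 16, 51, 136, 816} by
      decide +kernel] at hn5
    simp only [Finset.mem_insert, Finset.mem_singleton] at hn5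
    have hNn := card_sylow_mul_card_normalizer Q
    have hm := card_centralizer_mul_relIndex (Q : Subgroup G)
    have he := relIndex_centralizer_mem hG Q (h5card Q) (n := Nat.card
      (Subgroup.normalizer ((Q : Subgroup G) : Set G))) rfl
    obtain ⟨he1, -, he3⟩ := Finset.mem_filter.1 he
    set e := (Subgroup.centralizer ((Q : Subgroup G) : Set G)).relIndex
      (Subgroup.normalizer ((Q : Subgroup G) : Set G))
    set c := Nat.card (Subgroup.centralizer ((Q : Subgroup G) : Set G))
    have he4 : e = 2 ∨ e = 4 :=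
      (by decide : ∀ e ∈ Nat.divisors (5 - 1), e ≠ 1 → e = 2 ∨ e = 4) e he1 he3
    have hcall : ∀ m ≤ 15, m ∣ 15 → m = 1 ∨ m = 3 ∨ m = 5 ∨ m = 15 := by decide
    have hc4 := hcall c (Nat.le_of_dvd (by norm_num) hd) hd
    rw [← hm, hN] at hNn
    rcases hn5 with h | h | h | h | h <;> rw [h] at hNn ⊢ <;>
      rcases he4 with he' | he' <;> rw [he'] at hNn <;> omega
  obtain ⟨Q₀⟩ : Nonempty (Sylow 5 G) := inferInstance
  have h5 := card_sylow_mul_le_card_orderOf Q₀ (h5card Q₀)
  rw [(hC5 Q₀).2] at h5
  have hgen : ∀ Q : Sylow 5 G, IsCyclic (Subgroup.centralizer ((Q : Subgroup G) : Set G)) := by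
    intro Q
    obtain ⟨y₀, hy₀⟩ := exists_prime_orderOf_dvd_card'
      (G := ↥(Subgroup.centralizer ((Q : Subgroup G) : Set G))) 3 (by rw [(hC5 Q).1]; norm_num)
    haveI : IsCyclic ↥(Q : Subgroup G) := isCyclic_of_prime_card (h5card Q)
    obtain ⟨a₀, ha₀⟩ := exists_prime_orderOf_dvd_card'
      (G := ↥(Q : Subgroup G)) 5 (by rw [h5card])
    let a : ↥(Subgroup.centralizer ((Q : Subgroup G) : Set G)) :=
      ⟨a₀, Subgroup.le_centralizer _ a₀.2⟩
    have ha : orderOf a = 5 := by rw [← Subgroup.orderOf_coe, Subgroup.orderOf_coe a₀, ha₀]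
    have hc : Commute a y₀ := Subtype.ext (Subgroup.mem_centralizer_iff.1 y₀.2 a₀ a₀.2)
    refine isCyclic_of_orderOf_eq_card (a * y₀) ?_
    rw [hc.orderOf_mul_eq_mul_orderOf_of_coprime (by rw [ha, hy₀]; decide), ha, hy₀, (hC5 Q).1]
  have h15 : 136 * 8 ≤ Nat.card {g : G // orderOf g = 15} := by
    have hinj := Nat.card_le_card_of_injective
      (fun r : Σ Q : Sylow 5 G,
          {g : ↥(Subgroup.centralizer ((Q : Subgroup G) : Set G)) // orderOf g = 15} =>
        (⟨(r.2.1 : G), by rw [Subgroup.orderOf_coe]; exact r.2.2⟩ : {g : G // orderOf g = 15})) (by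
      rintro ⟨Q, g⟩ ⟨Q', g'⟩ h
      have h' : (g.1 : G) = g'.1 := congrArg Subtype.val h
      have key : ∀ (R : Sylow 5 G)
          (r : {g : ↥(Subgroup.centralizer ((R : Subgroup G) : Set G)) // orderOf g = 15}),
          (R : Subgroup G) = Subgroup.zpowers ((r.1 : G) ^ 3) := by
        intro R r
        haveI : IsCyclic ↥(Subgroup.centralizer ((R : Subgroup G) : Set G)) := hgen R
        haveI : IsCyclic ↥(R : Subgroup G) := isCyclic_of_prime_card (h5card R)
        have hr : orderOf ((r.1 : G) ^ 3) = 5 := by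
          rw [orderOf_pow_of_dvd (by norm_num) (by rw [Subgroup.orderOf_coe, r.2]; norm_num),
            Subgroup.orderOf_coe, r.2]
        have hle : Subgroup.zpowers ((r.1 : G) ^ 3)
            ≤ Subgroup.centralizer ((R : Subgroup G) : Set G) :=
          Subgroup.zpowers_le.2 (pow_mem r.1.2 3)
        set R' := (R : Subgroup G).subgroupOf (Subgroup.centralizer ((R : Subgroup G) : Set G))
        haveI : R'.Normal := ⟨fun m hm g => by
          have e : g * m = m * g :=
            Subtype.ext (Subgroup.mem_centralizer_iff.1 g.2 _ (Subgroup.mem_subgroupOf.1 hm)).symm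
          rw [e, mul_inv_cancel_right]; exact hm⟩
        have hR' : Nat.card R' = 5 := by
          rw [Nat.card_congr (Subgroup.subgroupOfEquivOfLe (Subgroup.le_centralizer _)).toEquiv,
            h5card]
        have hidx := Subgroup.card_mul_index R'
        rw [hR', (hC5 R).1] at hidx
        have hmem : (⟨(r.1 : G) ^ 3, pow_mem r.1.2 3⟩ : ↥(Subgroup.centralizer ((R : Subgroup G) : Set G))) ∈ R' := by
          rw [← QuotientGroup.eq_one_iff (N := R'), ← orderOf_eq_one_iff]
          refine Nat.eq_one_of_dvd_coprimes (a := 5) (b := 3) (by norm_num) ?_ ?_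
          · refine (orderOf_map_dvd (QuotientGroup.mk' R') _).trans (dvd_of_eq ?_)
            rw [← Subgroup.orderOf_coe]; exact hr
          · refine (orderOf_dvd_natCard _).trans (dvd_of_eq ?_)
            rw [← Subgroup.index_eq_card]; omega
        exact (Subgroup.eq_of_le_of_card_ge (Subgroup.zpowers_le.2 (Subgroup.mem_subgroupOf.1 hmem))
          (by rw [h5card, Nat.card_zpowers, hr])).symm
      have hQQ : Q = Q' := Sylow.ext ((key Q g).trans (h' ▸ (key Q' g').symm))
      subst hQQ
      exact congrArg (Sigma.mk Q) (Subtype.ext (Subtype.ext h')))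
    haveI := Fintype.ofFinite (Sylow 5 G)
    rw [Nat.card_sigma, Finset.sum_congr rfl fun Q _ => show _ = 8 by
      haveI := hgen Q
      haveI := Fintype.ofFinite ↥(Subgroup.centralizer ((Q : Subgroup G) : Set G))
      rw [Nat.card_eq_fintype_card, Fintype.card_subtype, IsCyclic.card_orderOf_eq_totient
        (by rw [← Nat.card_eq_fintype_card, (hC5 Q).1])]
      decide,
      Finset.sum_const, Finset.card_univ, ← Nat.card_eq_fintype_card, (hC5 Q₀).2, smul_eq_mul] at hinj
    exact hinj
  obtain ⟨y, hy⟩ := exists_prime_orderOf_dvd_card' (G := G) 3 (by rw [hN]; norm_num)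
  have h3 := index_centralizer_le_card_orderOf y
  have h3' := Subgroup.index_mul_card (Subgroup.centralizer ({y} : Set G))
  have h3le := Nat.le_of_dvd (by norm_num) (card_centralizer_odd hG hN (Or.inl hy))
  rw [hy] at h3
  rw [hN] at h3'
  have h272 : 272 ≤ (Subgroup.centralizer ({y} : Set G)).index := by nlinarith
  have hsum := sum_card_orderOf_le (G := G) {2, 3, 4, 5, 15, 17}
  simp [Finset.sum_insert, hN] at hsum
  omega


/-- A simple group of order 4080 is isomorphic to the projective special linear group of dimension 2 over the field with 16 elements. -/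
theorem result {G : Type*} [Group G] [Finite G] [IsSimpleGroup G] (h : Nat.card G = 4080) {F : Type*} [Field F] [Fintype F] (hF : Fintype.card F = 16) : Nonempty (G ≃* Matrix.ProjectiveSpecialLinearGroup (Fin 2) F) := by
  classical
  have hG := not_comm_of_card h (by norm_num)
  haveI : Fact (Nat.Prime 2) := ⟨by norm_num⟩
  have hsq : ∀ t : G, orderOf t = 2 →
      ∀ c ∈ Subgroup.centralizer ({t} : Set G), c ^ 2 = 1 := fun t ht c hc =>
    sq_eq_one_of_no_four (k := 4) (by rw [card_centralizer_invol hG h ht]; norm_num) (no_four hG h) hc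
  obtain ⟨T⟩ : Nonempty (Sylow 2 G) := inferInstance
  have hT : Nat.card (T : Subgroup G) = 16 := by
    simpa using card_sylow_eq (k := 4) (m := 255) (by rw [h]; norm_num) (by norm_num) T
  have hnc : ¬ IsCyclic (T : Subgroup G) := fun hc => by
    obtain ⟨⟨x, hx⟩, hord⟩ := hc.exists_ofOrder_eq_natCard
    rw [← Subgroup.orderOf_coe, hT] at hord
    refine no_four hG h (x ^ 4) ?_
    rw [orderOf_pow_of_dvd (by norm_num) (by rw [hord]; norm_num), hord]
  have hnn : ¬ (T : Subgroup G).Normal := fun hn => by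
    rcases hn.eq_bot_or_eq_top with e | e
    · rw [e, Subgroup.card_bot] at hT; omega
    · rw [e, Subgroup.card_top, h] at hT; omega
  obtain ⟨F', hF1, hF2, hcard, ⟨e⟩⟩ := Cfsg.Agent.S1230.result T hnc hnn
    fun t ht => ⟨isMulCommutative_of_sq (hsq t ht), hsq t ht⟩
  exact ⟨e.trans (CfsgLib.Linear.pslFieldCongr (by rw [hcard, hT, hF]))⟩

end Cfsg.Agent.S0981
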