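import Cfsg.Statements.S1011
import Cfsg.Agent.S1230
import Cfsg.Agent.Linear.Basic
import Cfsg.Agent.Small.ConjAction
import Cfsg.Agent.Small.DegreeInvolution
import Cfsg.Agent.Small.DegreeSmall
import Cfsg.Agent.Small.ElementCount

set_option autoImplicit false
open Cfsg

namespace Cfsg.Agent.S1011

open CfsgLib.Small

variable {G : Type*} [Group G] [Finite G] [IsSimpleGroup G]

/-- Eight Sylow 7-subgroups are impossible; there are 36, with self-centralising subgroups and
normalisers of order 14. -/
theorem sylow_seven (hG : ¬ IsMulCommutative G) (hN : Nat.card G = 504) [Fact (Nat.Prime 7)]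
    (P : Sylow 7 G) : Nat.card (P : Subgroup G) = 7 ∧ Nat.card (Sylow 7 G) = 36 ∧
      Nat.card (Subgroup.normalizer ((P : Subgroup G) : Set G)) = 7 * 2 ∧
      Subgroup.centralizer ((P : Subgroup G) : Set G) = (P : Subgroup G) := by
  classical
  haveI : Fact (Nat.Prime 3) := ⟨by norm_num⟩
  have hP : Nat.card (P : Subgroup G) = 7 := by
    simpa using card_sylow_eq (k := 1) (m := 72) (by rw [hN]; norm_num) (by norm_num) P
  have hn := card_sylow_mem hG (p := 7) (k := 1) (m := 72) (by rw [hN]; norm_num) one_ne_zero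
    (by norm_num)
  rw [show (Nat.divisors 72).filter (fun d => d % 7 = 1 ∧ d ≠ 1) = {8, 36} by decide +kernel,
    Finset.mem_insert, Finset.mem_singleton] at hn
  have hNn := card_sylow_mul_card_normalizer P
  rcases hn with hn | hn
  · exfalso
    rw [hn, hN] at hNn
    set N := Subgroup.normalizer ((P : Subgroup G) : Set G)
    set C := Subgroup.centralizer ((P : Subgroup G) : Set G)
    have hNc : Nat.card N = 63 := by omega
    have he := relIndex_centralizer_mem hG P hP hNc
    rw [show (Nat.divisors (7 - 1)).filter (fun e => e ∣ 63 ∧ e ≠ 1) = {3} by decide,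
      Finset.mem_singleton] at he
    have hm := card_centralizer_mul_relIndex (P : Subgroup G)
    rw [he, hNc] at hm
    obtain ⟨y₀, hy₀⟩ := exists_prime_orderOf_dvd_card' (G := ↥C) 3 ⟨7, by simp only [C]; omega⟩
    have hy : orderOf (y₀ : G) = 3 := by rw [Subgroup.orderOf_coe]; exact hy₀
    have h1 := card_fixedBy_modEq_one P hP y₀.2
    change Nat.card (MulAction.fixedBy (G ⧸ N) (y₀ : G)) % 7 = 1 at h1
    have hidx : N.index = 8 := P.card_eq_index_normalizer.symm.trans hn
    have hNt : N ≠ ⊤ := fun h => by rw [h, Subgroup.index_top] at hidx; omega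
    have h2 := card_fixedBy_modEq_index (q := 3) (k := 1) N (x := (y₀ : G))
      (by rw [pow_one]; exact orderOf_dvd_iff_pow_eq_one.1 (dvd_of_eq hy))
    have h3 := card_fixedBy_lt_index hNt (t := (y₀ : G))
      (fun h => by rw [h, orderOf_one] at hy; omega)
    rw [hidx] at h2 h3
    omega
  · rw [hn, hN] at hNn
    have hNc : Nat.card (Subgroup.normalizer ((P : Subgroup G) : Set G)) = 7 * 2 := by omega
    exact ⟨hP, hn, hNc, Degree.centralizer_eq_of_relIndex hG P hP hNc (by decide +kernel)⟩

/-- Every involution has a centraliser of order eight. -/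
theorem card_centralizer_invol (hG : ¬ IsMulCommutative G) (hN : Nat.card G = 504) {t : G}
    (ht : orderOf t = 2) : Nat.card (Subgroup.centralizer ({t} : Set G)) = 8 := by
  haveI : Fact (Nat.Prime 7) := ⟨by norm_num⟩
  obtain ⟨P⟩ : Nonempty (Sylow 7 G) := inferInstance
  obtain ⟨hP, -, hNc, hC⟩ := sylow_seven hG hN P
  obtain ⟨s, θ, d, v, hs, hθd, hθ1, hθN, hθp, hd1, hdN, hdp, hsq, hpar, hv1, hv2, hcol, -, heq⟩ :=
    Degree.involution_two hG (P : Subgroup G) hP hC 3 hNc (by norm_num) le_rfl ht
  set c := Nat.card (Subgroup.centralizer ({t} : Set G))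
  have hcN : c ∣ 504 := hN ▸ Subgroup.card_subgroup_dvd_card _
  rw [hN] at hθN hdN hsq
  push_cast at hθp hdp hcol
  have hd : d ≤ 12 := by nlinarith
  have hall : ∀ y ≤ 12, 1 < y → y ∣ 504 → (y % 7 = 2 ∨ y % 7 = 5) →
      y = 2 ∨ y = 9 ∨ y = 12 := by decide +kernel
  have hd' := hall d hd hd1 hdN (by rcases hs with rfl | rfl <;> omega)
  have key : θ = 8 ∧ d = 9 ∧ s = 1 := by
    rcases hs with rfl | rfl <;> rcases hd' with rfl | rfl | rfl <;>
      first
      | omega
      | (obtain rfl : θ = 13 := by omega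
         norm_num at hθN)
  obtain ⟨rfl, rfl, rfl⟩ := key
  rw [hN] at heq
  push_cast at heq hv1 hv2
  have hc2 : (c : ℤ) = 8 - v := by
    have h : ((c : ℤ)) ^ 2 = (8 - v) ^ 2 := by linarith
    have hc0 : (0 : ℤ) ≤ c := Int.natCast_nonneg _
    nlinarith
  have hv3 : -2 ≤ v ∧ v ≤ 1 := by constructor <;> nlinarith
  rcases (show v = -2 ∨ v = 0 by omega) with rfl | rfl
  · rw [show c = 10 by omega] at hcN
    norm_num at hcN
  · omega

/-- A nontrivial element of order dividing nine has a centraliser of odd order prime to seven. -/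
theorem card_centralizer_three (hG : ¬ IsMulCommutative G) (hN : Nat.card G = 504) {y : G}
    (hy : y ≠ 1) (hy9 : y ^ 9 = 1) :
    Nat.card (Subgroup.centralizer ({y} : Set G)) ∣ 9 := by
  haveI : Fact (Nat.Prime 7) := ⟨by norm_num⟩
  haveI : Fact (Nat.Prime 2) := ⟨by norm_num⟩
  have ho : orderOf y ∣ 9 := orderOf_dvd_iff_pow_eq_one.2 hy9
  have h7 : ¬ 7 ∣ Nat.card (Subgroup.centralizer ({y} : Set G)) := fun h => by
    obtain ⟨P⟩ : Nonempty (Sylow 7 G) := inferInstance
    obtain ⟨hP, -, -, hC⟩ := sylow_seven hG hN P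
    rw [orderOf_eq_of_dvd_centralizer P hP hC hy h] at ho
    norm_num at ho
  have h2 : ¬ 2 ∣ Nat.card (Subgroup.centralizer ({y} : Set G)) := fun h => by
    obtain ⟨u₀, hu₀⟩ :=
      exists_prime_orderOf_dvd_card' (G := ↥(Subgroup.centralizer ({y} : Set G))) 2 h
    have hu : orderOf (u₀ : G) = 2 := by rw [Subgroup.orderOf_coe]; exact hu₀
    have h8 := card_centralizer_invol hG hN hu
    have hmem : y ∈ Subgroup.centralizer ({(u₀ : G)} : Set G) :=
      Subgroup.mem_centralizer_singleton_iff.2 (Subgroup.mem_centralizer_singleton_iff.1 u₀.2).symm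
    have := Subgroup.orderOf_dvd_natCard _ hmem
    rw [h8] at this
    exact hy (orderOf_eq_one_iff.1 (Nat.eq_one_of_dvd_coprimes (by norm_num) ho this))
  have hd : Nat.card (Subgroup.centralizer ({y} : Set G)) ∣ 2 ^ 3 * (7 * 9) :=
    (Subgroup.card_subgroup_dvd_card _).trans (dvd_of_eq hN)
  exact ((Nat.prime_seven.coprime_iff_not_dvd.2 h7).symm.dvd_of_dvd_mul_left
    (((Nat.prime_two.coprime_iff_not_dvd.2 h2).pow_left 3).symm.dvd_of_dvd_mul_left hd))

/-- There are at least 224 elements of order three or nine. -/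
theorem two_hundred_le (hG : ¬ IsMulCommutative G) (hN : Nat.card G = 504) :
    224 ≤ Nat.card {g : G // orderOf g = 3} + Nat.card {g : G // orderOf g = 9} := by
  classical
  haveI : Fact (Nat.Prime 3) := ⟨by norm_num⟩
  haveI := Fintype.ofFinite G
  obtain ⟨S⟩ : Nonempty (Sylow 3 G) := inferInstance
  have hQ : ∀ Q : Sylow 3 G, Nat.card (Q : Subgroup G) = 9 := fun Q => by
    simpa using card_sylow_eq (k := 2) (m := 56) (by rw [hN]; norm_num) (by norm_num) Q
  have hpow : ∀ (Q : Sylow 3 G) (g : G), g ∈ (Q : Subgroup G) → g ^ 9 = 1 := fun Q g hg =>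
    orderOf_dvd_iff_pow_eq_one.1 ((hQ Q) ▸ Subgroup.orderOf_dvd_natCard _ hg)
  have hCQ : ∀ (Q : Sylow 3 G) (g : G), g ∈ (Q : Subgroup G) → g ≠ 1 →
      Subgroup.centralizer ({g} : Set G) = (Q : Subgroup G) := fun Q g hg hg1 => by
    refine (Subgroup.eq_of_le_of_card_ge (le_centralizer_of_card_sq (p := 3) (by rw [hQ]; norm_num) hg)
      ?_).symm
    rw [hQ]
    exact Nat.le_of_dvd (by norm_num) (card_centralizer_three hG hN hg1 (hpow Q g hg))
  have hn := card_sylow_mem hG (p := 3) (k := 2) (m := 56) (by rw [hN]; norm_num) two_ne_zero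
    (by norm_num)
  rw [show (Nat.divisors 56).filter (fun d => d % 3 = 1 ∧ d ≠ 1) = {4, 7, 28} by decide +kernel,
    Finset.mem_insert, Finset.mem_insert, Finset.mem_singleton] at hn
  have hdvd := two_mul_card_dvd_factorial_sylow hG (p := 3) (by rw [hN]; norm_num)
  rw [hN] at hdvd
  have hn28 : Nat.card (Sylow 3 G) = 28 := by
    rcases hn with hn | hn | hn
    · rw [hn] at hdvd; norm_num [Nat.factorial] at hdvd
    · exfalso
      set M := Subgroup.normalizer ((S : Subgroup G) : Set G)
      have hidx : M.index = 7 := S.card_eq_index_normalizer.symm.trans hn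
      have hM : M ≠ ⊤ := fun h => by rw [h, Subgroup.index_top] at hidx; omega
      haveI := Fintype.ofFinite (G ⧸ M)
      haveI : Nontrivial (G ⧸ M) := Finite.one_lt_card_iff_nontrivial.1
        (by rw [← Subgroup.index_eq_card, hidx]; norm_num)
      haveI : MulAction.IsPreprimitive G (G ⧸ M) :=
        MulAction.IsPreprimitive.of_prime_card (by rw [← Subgroup.index_eq_card, hidx]; norm_num)
      have hf : ∀ g ∈ (S : Subgroup G), g ≠ 1 →
          Nat.card (MulAction.fixedBy (G ⧸ M) g) = 1 := by
        intro g hg hg1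
        have h1 := card_fixedBy_modEq_index (q := 3) (k := 2) M (x := g) (hpow S g hg)
        have h2 := card_fixedBy_lt_index hM hg1
        rw [hidx] at h1 h2
        by_contra hne
        have h4 : Nat.card (MulAction.fixedBy (G ⧸ M) g) = 4 := by omega
        set f := MulAction.toPermHom G (G ⧸ M)
        let φ : MulActionHom f.rangeRestrict (G ⧸ M) (G ⧸ M) :=
          { toFun := id, map_smul' := fun _ _ => rfl }
        have hprim' : MulAction.IsPreprimitive f.range (G ⧸ M) :=
          MulAction.IsPreprimitive.of_surjective (f := φ) Function.surjective_id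
        have h3 : (f g).IsThreeCycle := by
          rw [← card_support_eq_three_iff]
          have h := Finset.card_compl_add_card (f g).support
          rw [← Nat.card_eq_fintype_card, ← Subgroup.index_eq_card, hidx] at h
          have hc : (f g).supportᶜ.card = 4 := by
            rw [← h4, Nat.card_eq_fintype_card]
            refine (Fintype.card_of_subtype _ fun c => ?_).symm
            rw [Finset.mem_compl, Equiv.Perm.mem_support, not_not]
            rfl
          omega
        have hle := Equiv.Perm.alternatingGroup_le_of_isPreprimitive_of_isThreeCycle_mem hprim' h3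
          ⟨g, rfl⟩
        have e1 := Nat.le_of_dvd Nat.card_pos (Subgroup.card_dvd_of_le hle)
        have e2 : Nat.card f.range ≤ 504 :=
          hN ▸ Nat.le_of_dvd Nat.card_pos (Subgroup.card_range_dvd f)
        have e3 := two_mul_nat_card_alternatingGroup (α := G ⧸ M)
        rw [Nat.card_perm, ← Subgroup.index_eq_card, hidx] at e3
        rw [show Nat.factorial 7 = 5040 from rfl] at e3
        omega
      have h := card_dvd_sum_fixedBy (S : Subgroup G) M 1 hf
      rw [hQ, hidx] at h
      norm_num at h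
    · exact hn
  let T : Finset G := Finset.univ.filter fun g => orderOf g = 3 ∨ orderOf g = 9
  have hT : T.card = Nat.card {g : G // orderOf g = 3} + Nat.card {g : G // orderOf g = 9} := by
    rw [Nat.card_eq_fintype_card, Nat.card_eq_fintype_card, Fintype.card_subtype,
      Fintype.card_subtype, ← Finset.card_union_of_disjoint]
    · congr 1
      exact Finset.filter_or _ _ _
    · exact Finset.disjoint_filter.2 fun g _ h h' => by omega
  rw [← hT]
  let F : Sylow 3 G → Finset G := fun Q => (Finset.univ.filter (· ∈ (Q : Subgroup G))).erase 1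
  have hF : ∀ Q, (F Q).card = 8 := fun Q => by
    rw [Finset.card_erase_of_mem (by simp), ← Fintype.card_subtype, ← Nat.card_eq_fintype_card, hQ]
  haveI := Fintype.ofFinite (Sylow 3 G)
  have hdisj : ∀ Q ∈ (Finset.univ : Finset (Sylow 3 G)), ∀ Q' ∈ (Finset.univ : Finset (Sylow 3 G)),
      Q ≠ Q' → Disjoint (F Q) (F Q') := by
    intro Q _ Q' _ hne
    rw [Finset.disjoint_left]
    intro g hg hg'
    simp only [F, Finset.mem_erase, Finset.mem_filter, Finset.mem_univ, true_and] at hg hg'
    exact hne (Sylow.ext ((hCQ Q g hg.2 hg.1).symm.trans (hCQ Q' g hg'.2 hg'.1)))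
  have hcard := Finset.card_biUnion hdisj
  rw [Finset.sum_congr rfl fun Q _ => hF Q, Finset.sum_const, Finset.card_univ,
    ← Nat.card_eq_fintype_card, hn28] at hcard
  calc 224 = (Finset.univ.biUnion F).card := by rw [hcard]; rfl
    _ ≤ T.card := Finset.card_le_card fun g hg => by
      obtain ⟨Q, -, hgQ⟩ := Finset.mem_biUnion.1 hg
      simp only [F, Finset.mem_erase, Finset.mem_filter, Finset.mem_univ, true_and] at hgQ
      obtain ⟨j, hj, hjo⟩ := (Nat.dvd_prime_pow (by norm_num : Nat.Prime 3)).1
        (show orderOf g ∣ 3 ^ 2 from (orderOf_dvd_iff_pow_eq_one.2 (hpow Q g hgQ.2)))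
      have hj0 : j ≠ 0 := fun h => hgQ.1 (orderOf_eq_one_iff.1 (by rw [hjo, h, pow_zero]))
      simp only [T, Finset.mem_filter, Finset.mem_univ, true_and, hjo]
      interval_cases j <;> simp at *

/-- No element has order four. -/
theorem no_four (hG : ¬ IsMulCommutative G) (hN : Nat.card G = 504) (x : G) : orderOf x ≠ 4 := by
  intro hx
  haveI : Fact (Nat.Prime 7) := ⟨by norm_num⟩
  obtain ⟨P⟩ : Nonempty (Sylow 7 G) := inferInstance
  obtain ⟨hP, hn, -, -⟩ := sylow_seven hG hN P
  have h7 := card_sylow_mul_le_card_orderOf P hP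
  rw [hn] at h7
  have hx2 : orderOf (x ^ 2) = 2 := by
    rw [orderOf_pow_of_dvd two_ne_zero (by rw [hx]; norm_num), hx]
  have hle : Nat.card (Subgroup.centralizer ({x} : Set G)) ≤ 8 := by
    rw [← card_centralizer_invol hG hN hx2]
    refine Nat.le_of_dvd Nat.card_pos (Subgroup.card_dvd_of_le fun c hc => ?_)
    exact Subgroup.mem_centralizer_singleton_iff.2
      ((show Commute c x from Subgroup.mem_centralizer_singleton_iff.1 hc).pow_right 2).eq
  have h4 := index_centralizer_le_card_orderOf x
  have h4' := Subgroup.index_mul_card (Subgroup.centralizer ({x} : Set G))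
  rw [hx] at h4
  rw [hN] at h4'
  have h2 := index_centralizer_le_card_orderOf (x ^ 2)
  have h2' := Subgroup.index_mul_card (Subgroup.centralizer ({x ^ 2} : Set G))
  rw [hx2] at h2
  rw [card_centralizer_invol hG hN hx2, hN] at h2'
  have h63 : 63 ≤ (Subgroup.centralizer ({x} : Set G)).index := by nlinarith
  have h39 := two_hundred_le hG hN
  have hsum := sum_card_orderOf_le (G := G) {2, 3, 4, 7, 9}
  simp [Finset.sum_insert, hN] at hsum
  omega


/-- A simple group of order 504 is isomorphic to the projective special linear group of dimension 2 over the field with 8 elements. -/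
theorem result {G : Type*} [Group G] [Finite G] [IsSimpleGroup G] (h : Nat.card G = 504) {F : Type*} [Field F] [Fintype F] (hF : Fintype.card F = 8) : Nonempty (G ≃* Matrix.ProjectiveSpecialLinearGroup (Fin 2) F) := by
  classical
  have hG := not_comm_of_card h (by norm_num)
  haveI : Fact (Nat.Prime 2) := ⟨by norm_num⟩
  have hsq : ∀ t : G, orderOf t = 2 →
      ∀ c ∈ Subgroup.centralizer ({t} : Set G), c ^ 2 = 1 := fun t ht c hc =>
    sq_eq_one_of_no_four (k := 3) (by rw [card_centralizer_invol hG h ht]; norm_num) (no_four hG h) hc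
  obtain ⟨T⟩ : Nonempty (Sylow 2 G) := inferInstance
  have hT : Nat.card (T : Subgroup G) = 8 := by
    simpa using card_sylow_eq (k := 3) (m := 63) (by rw [h]; norm_num) (by norm_num) T
  have hnc : ¬ IsCyclic (T : Subgroup G) := fun hc => by
    obtain ⟨⟨x, hx⟩, hord⟩ := hc.exists_ofOrder_eq_natCard
    rw [← Subgroup.orderOf_coe, hT] at hord
    refine no_four hG h (x ^ 2) ?_
    rw [orderOf_pow_of_dvd two_ne_zero (by rw [hord]; norm_num), hord]
  have hnn : ¬ (T : Subgroup G).Normal := fun hn => by
    rcases hn.eq_bot_or_eq_top with e | e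
    · rw [e, Subgroup.card_bot] at hT; omega
    · rw [e, Subgroup.card_top, h] at hT; omega
  obtain ⟨F', hF1, hF2, hcard, ⟨e⟩⟩ := Cfsg.Agent.S1230.result T hnc hnn
    fun t ht => ⟨isMulCommutative_of_sq (hsq t ht), hsq t ht⟩
  exact ⟨e.trans (CfsgLib.Linear.pslFieldCongr (by rw [hcard, hT, hF]))⟩

end Cfsg.Agent.S1011
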