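import Cfsg.Statements.S4812
import Cfsg.Agent.SL2CharTable.Even
import Cfsg.Agent.DegreeGraph.Basic

set_option autoImplicit false
open Cfsg

namespace Cfsg.Agent.S4812


open scoped MatrixGroups
open CfsgLib.SL2CharTable CfsgLib.SL2Tori

theorem charDegrees_subset {G H : Type*} [Group G] [Group H] (e : G ≃* H) :
    Cfsg.charDegrees H ⊆ Cfsg.charDegrees G := by
  rintro _ ⟨χ, rfl⟩
  exact ⟨⟨_, CfsgLib.Characters.isIrr_comp e.toMonoidHom e.surjective χ.2⟩, (by simp [Cfsg.charDegree] : Cfsg.charDegree (fun g => (χ : H → ℂ) (e g)) = _)⟩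

theorem charDegrees_eq (F : Type*) [Field F] [Fintype F] [DecidableEq F] [CharP F 2] (h4 : 4 ≤ Fintype.card F) :
    Cfsg.charDegrees SL(2, F) =
      {1, Fintype.card F, Fintype.card F + 1, Fintype.card F - 1} := by
  obtain ⟨g, -, hg⟩ := exists_nonsplit (F := F)
  obtain ⟨h1, hq, hp, hm⟩ := Even.degree_counts (F := F) h4
  have hne : ∀ {s : Set (Cfsg.IrrCharacter SL(2, F))}, 1 ≤ s.ncard → s.Nonempty := fun h =>
    Set.nonempty_of_ncard_ne_zero (by omega)
  ext d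
  constructor
  · rintro ⟨χ, rfl⟩
    rcases Even.exhaustive ⟨g, hg⟩ χ.1 χ.2 with ⟨-, e⟩ | ⟨-, e⟩ | ⟨_, -, -, e⟩ | ⟨_, -, -, e⟩ <;>
      rw [CfsgLib.DegreeGraph.charDegree_eq e] <;> simp
  · simp only [Set.mem_insert_iff, Set.mem_singleton_iff]
    rintro (rfl | rfl | rfl | rfl)
    · obtain ⟨χ, hχ⟩ := hne h1.ge
      exact CfsgLib.DegreeGraph.mem_charDegrees χ.2 (hχ.trans Nat.cast_one.symm)
    · obtain ⟨χ, hχ⟩ := hne hq.ge
      exact CfsgLib.DegreeGraph.mem_charDegrees χ.2 hχ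
    · obtain ⟨χ, hχ⟩ := hne (s := {χ | χ.1 1 = (Fintype.card F : ℂ) + 1}) (by omega)
      exact CfsgLib.DegreeGraph.mem_charDegrees χ.2 (hχ.trans (by push_cast; rfl))
    · obtain ⟨χ, hχ⟩ := hne (s := {χ | χ.1 1 = (Fintype.card F : ℂ) - 1}) (by omega)
      exact CfsgLib.DegreeGraph.mem_charDegrees χ.2
        (hχ.trans (by rw [Nat.cast_sub (by omega), Nat.cast_one]))

/-- Let F be a finite field of characteristic 2 with q ≥ 4 elements and let S be isomorphic to PSL(2,F) or to SL(2,F). Then the vertices of the character degree graph of S are the primes dividing q(q²−1), and two distinct primes are adjacent exactly when both divide q + 1 or both divide q − 1; so the graph has the three connected components {2}, the primes dividing q + 1 and the primes dividing q − 1, each complete. -/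
theorem result (F : Type*) [Field F] [Fintype F] [CharP F 2] (q : ℕ) (hq : Fintype.card F = q) (h4 : 4 ≤ q) {S : Type*} [Group S] [Finite S] (hS : Nonempty (S ≃* Matrix.ProjectiveSpecialLinearGroup (Fin 2) F) ∨ Nonempty (S ≃* Matrix.SpecialLinearGroup (Fin 2) F)) : Cfsg.degreePrimes S = {r : ℕ | r.Prime ∧ r ∣ q * (q ^ 2 - 1)} ∧ ∀ r s : ℕ, (Cfsg.degreeGraph S).Adj r s ↔ (r ≠ s ∧ r.Prime ∧ s.Prime ∧ ((r ∣ q + 1 ∧ s ∣ q + 1) ∨ (r ∣ q - 1 ∧ s ∣ q - 1))) := by
  classical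
  have hc : Subgroup.center SL(2, F) = ⊥ := by
    rw [eq_bot_iff]
    intro z hz
    rcases (CfsgLib.SL2Trace.mem_center_iff_eq z).1 hz with h | h
    · simp [h]
    · simp [h, CfsgLib.SL2CharTable.Even.neg_one_SL]
  obtain ⟨e⟩ : Nonempty (S ≃* SL(2, F)) := by
    rcases hS with ⟨⟨e⟩⟩ | h
    · exact ⟨e.trans ((QuotientGroup.quotientMulEquivOfEq hc).trans QuotientGroup.quotientBot)⟩
    · exact h
  have hD : Cfsg.charDegrees S = {1, q, q + 1, q - 1} := by
    rw [Set.Subset.antisymm (charDegrees_subset e.symm) (charDegrees_subset e), charDegrees_eq F (hq ▸ h4), hq]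
  obtain ⟨n, -, hn⟩ := FiniteField.card F 2
  have hq2 : q = 2 ^ (n : ℕ) := hq ▸ hn
  have hsq : q ^ 2 - 1 = (q + 1) * (q - 1) := by simpa using Nat.sq_sub_sq q 1
  constructor
  · ext r
    simp only [Cfsg.degreePrimes, hD, Set.mem_setOf_eq, Set.mem_insert_iff, Set.mem_singleton_iff, exists_eq_or_imp, exists_eq_left, hsq]
    constructor
    · rintro ⟨hr, h | h | h | h⟩
      · exact absurd (Nat.dvd_one.1 h) hr.ne_one
      · exact ⟨hr, dvd_mul_of_dvd_left h _⟩
      · exact ⟨hr, dvd_mul_of_dvd_right (dvd_mul_of_dvd_left h _) _⟩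
      · exact ⟨hr, dvd_mul_of_dvd_right (dvd_mul_of_dvd_right h _) _⟩
    · rintro ⟨hr, h⟩
      rcases hr.dvd_mul.1 h with h | h
      · exact ⟨hr, Or.inr (Or.inl h)⟩
      · rcases hr.dvd_mul.1 h with h | h
        · exact ⟨hr, Or.inr (Or.inr (Or.inl h))⟩
        · exact ⟨hr, Or.inr (Or.inr (Or.inr h))⟩
  · intro r s
    simp only [Cfsg.degreeGraph, hD, Set.mem_insert_iff, Set.mem_singleton_iff, exists_eq_or_imp, exists_eq_left]
    constructor
    · rintro ⟨hne, hr, hs, h | h | h | h⟩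
      · exact absurd (Nat.dvd_one.1 ((dvd_mul_right r s).trans h)) hr.ne_one
      · rw [hq2] at h
        exact absurd (((Nat.prime_dvd_prime_iff_eq hr Nat.prime_two).1 (hr.dvd_of_dvd_pow ((dvd_mul_right r s).trans h))).trans
          ((Nat.prime_dvd_prime_iff_eq hs Nat.prime_two).1 (hs.dvd_of_dvd_pow ((dvd_mul_left s r).trans h))).symm) hne
      · exact ⟨hne, hr, hs, Or.inl ⟨(dvd_mul_right r s).trans h, (dvd_mul_left s r).trans h⟩⟩
      · exact ⟨hne, hr, hs, Or.inr ⟨(dvd_mul_right r s).trans h, (dvd_mul_left s r).trans h⟩⟩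
    · rintro ⟨hne, hr, hs, ⟨h, h'⟩ | ⟨h, h'⟩⟩
      · exact ⟨hne, hr, hs, Or.inr (Or.inr (Or.inl ((Nat.coprime_primes hr hs).2 hne |>.mul_dvd_of_dvd_of_dvd h h')))⟩
      · exact ⟨hne, hr, hs, Or.inr (Or.inr (Or.inr ((Nat.coprime_primes hr hs).2 hne |>.mul_dvd_of_dvd_of_dvd h h')))⟩

end Cfsg.Agent.S4812
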