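import Cfsg.Statements.S0112
import Cfsg.Agent.OddOrder.BG4.Basic
import Mathlib.GroupTheory.Nilpotent

set_option autoImplicit false
open Cfsg

namespace Cfsg.Agent.S0112

open Subgroup
open scoped commutatorElement

theorem class_eq : ∀ (n : ℕ) {X : Type*} [Group X] [Finite X] {p : ℕ} [Fact p.Prime]
    (A : Subgroup X), Nat.card X = p ^ n → Nat.card A = p ^ 2 →
    centralizer (A : Set X) = A → Group.nilpotencyClass X = n - 1 := by
  intro n
  induction n with
  | zero =>
    intro X _ _ p _ A hX hA _
    have := Nat.le_of_dvd Nat.card_pos (hA ▸ card_subgroup_dvd_card A)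
    have : 1 < p ^ 2 := Nat.one_lt_pow two_ne_zero (Fact.out : p.Prime).one_lt
    simp_all
    omega
  | succ n ih =>
    intro X _ _ p _ A hX hA hC
    have hp : p.Prime := Fact.out
    have hG : IsPGroup p X := IsPGroup.of_card hX
    haveI := hG.isNilpotent
    haveI : Nontrivial X := Finite.one_lt_card_iff_nontrivial.1 (by
      rw [hX]; exact Nat.one_lt_pow (by omega) hp.one_lt)
    have hn : 2 ≤ n + 1 := (Nat.pow_dvd_pow_iff_le_right hp.one_lt).1
      (hX ▸ hA ▸ card_subgroup_dvd_card A)
    have hZA : center X ≤ A := by rw [← hC]; exact center_le_centralizer _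
    haveI hZnt : Nontrivial (center X) := hG.center_nontrivial
    by_cases hAX : A ≤ center X
    · have htop : A = ⊤ := by
        rw [← hC, eq_top_iff]
        intro g _ a ha
        exact (mem_center_iff.1 (hAX ha) g).symm
      have hn1 : n + 1 = 2 := Nat.pow_right_injective hp.two_le (by
        show p ^ (n + 1) = p ^ 2
        rw [← hX, ← hA, htop, card_top])
      have hab : IsMulCommutative X :=
        IsPGroup.isMulCommutative_of_card_eq_prime_sq (p := p) (hn1 ▸ hX)
      have h1 := Group.IsNilpotent.nilpotencyClass_le_one_iff.2 hab
      have h2 : Group.nilpotencyClass X ≠ 0 := by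
        rw [ne_eq, nilpotencyClass_zero_iff_subsingleton]
        exact not_subsingleton X
      omega
    · -- the centre has order `p` and lies in `A`
      obtain ⟨e, he⟩ := (hG.to_subgroup (center X)).exists_card_eq
      have hlt : center X < A := lt_of_le_of_ne hZA fun h => hAX h.ge
      have he1 : e = 1 := by
        have h1 : p ^ e < p ^ 2 := by
          rw [← he, ← hA]
          exact lt_of_le_of_ne (card_le_of_le hZA)
            fun h => hlt.ne (eq_of_le_of_card_ge hZA h.ge)
        have h2 := (Nat.pow_lt_pow_iff_right hp.one_lt).1 h1
        have h3 : e ≠ 0 := by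
          rintro rfl
          have := Finite.one_lt_card_iff_nontrivial.2 hZnt
          rw [he] at this
          simp at this
        omega
      subst he1
      rw [pow_one] at he
      have hAne : A ≠ ⊤ := fun h => hAX (by
        intro a ha
        rw [mem_center_iff]
        intro g
        have := hC.ge (show g ∈ A by rw [h]; trivial) a ha
        exact this.symm)
      set q := QuotientGroup.mk' (center X) with hq
      have hsurj : Function.Surjective q := QuotientGroup.mk'_surjective _
      have hker : q.ker = center X := QuotientGroup.ker_mk' _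
      set C := (centralizer ((A.map q : Subgroup _) : Set (X ⧸ center X))).comap q with hCdef
      have hmemC : ∀ g : X, g ∈ C ↔ ∀ a ∈ A, ⁅g, a⁆ ∈ center X := by
        intro g
        simp only [hCdef, mem_comap, mem_centralizer_iff]
        constructor
        · intro h a ha
          rw [← hker, MonoidHom.mem_ker, map_commutatorElement,
            commutatorElement_eq_one_iff_mul_comm]
          exact (h _ (mem_map_of_mem q ha)).symm
        · rintro h _ ⟨a, ha, rfl⟩
          have := h a ha
          rw [← hker, MonoidHom.mem_ker, map_commutatorElement,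
            commutatorElement_eq_one_iff_mul_comm] at this
          exact this.symm
      -- a generator of `A` modulo the centre
      obtain ⟨a₀, ha₀, ha₀Z⟩ := SetLike.exists_of_lt hlt
      have hAgen : center X ⊔ zpowers a₀ = A := by
        refine eq_of_le_of_card_ge (sup_le hZA (zpowers_le.2 ha₀)) ?_
        obtain ⟨f, hf⟩ := (hG.to_subgroup (center X ⊔ zpowers a₀)).exists_card_eq
        have hgt : center X < center X ⊔ zpowers a₀ :=
          lt_of_le_of_ne le_sup_left fun h => ha₀Z (h ▸ mem_sup_right (mem_zpowers a₀))
        have h1 : p ^ 1 < p ^ f := by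
          rw [← hf, pow_one, ← he]
          exact lt_of_le_of_ne (card_le_of_le le_sup_left)
            fun h => hgt.ne (eq_of_le_of_card_ge le_sup_left h.ge)
        rw [hA, hf]
        exact Nat.pow_le_pow_right hp.pos ((Nat.pow_lt_pow_iff_right hp.one_lt).1 h1)
      -- `g ↦ ⁅g, a₀⁆` on `C`
      let φ : C →* center X := MonoidHom.mk'
        (fun g => ⟨⁅(g : X), a₀⁆, (hmemC g).1 g.2 a₀ ha₀⟩) fun g h => Subtype.ext (by
          show ⁅(g : X) * h, a₀⁆ = ⁅(g : X), a₀⁆ * ⁅(h : X), a₀⁆
          have hc := mem_center_iff.1 ((hmemC h).1 h.2 a₀ ha₀)
          rw [commutatorElement_mul_left_eq_conj_mul, hc (g : X), mul_inv_cancel_right,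
            hc ⁅(g : X), a₀⁆])
      have hφ : φ.ker ≤ A.subgroupOf C := by
        intro g hg
        rw [mem_subgroupOf, ← hC]
        have h1 : Commute (g : X) a₀ :=
          commutatorElement_eq_one_iff_commute.1 (congrArg Subtype.val hg)
        intro a ha
        rw [SetLike.mem_coe, ← hAgen] at ha
        haveI : (center X).Normal := inferInstance
        obtain ⟨z, hz, w, hw, rfl⟩ := mem_sup_of_normal_left.1 ha
        obtain ⟨k, rfl⟩ := mem_zpowers_iff.1 hw
        exact ((show Commute z (g : X) from (mem_center_iff.1 hz _).symm).mul_left
          (h1.symm.zpow_left k)).eq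
      have hCle : Nat.card C ≤ p ^ 3 := by
        rw [← card_mul_index φ.ker, index_ker]
        have h1 : Nat.card φ.ker ≤ p ^ 2 := by
          rw [← hA]
          refine Nat.card_le_card_of_injective
            (fun g => (⟨((g : C) : X), mem_subgroupOf.1 (hφ g.2)⟩ : A)) ?_
          intro g h hgh
          exact Subtype.ext (Subtype.ext (congrArg Subtype.val hgh :))
        have h2 : Nat.card φ.range ≤ p := by
          have h := card_le_card_group φ.range
          rwa [he] at h
        calc _ ≤ p ^ 2 * p := Nat.mul_le_mul h1 h2
          _ = p ^ 3 := (pow_succ p 2).symm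
      -- `C` properly contains `A`
      haveI hAbar : IsMulCommutative A := by
        rw [← le_centralizer_iff_isMulCommutative, hC]
      have hAleC : A ≤ C := fun g hg => (hmemC g).2 fun a ha => by
        rw [commutatorElement_eq_one_iff_mul_comm.2
          (congrArg Subtype.val (mul_comm' (⟨g, hg⟩ : A) ⟨a, ha⟩))]
        exact one_mem _
      have hAltC : A < C := by
        refine lt_of_le_of_ne hAleC fun h => ?_
        have hN := Group.normalizerCondition_of_isNilpotent (G := X) A (lt_top_iff_ne_top.2 hAne)
        obtain ⟨g, hg, hgA⟩ := SetLike.exists_of_lt hN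
        apply hgA
        rw [h]
        -- `N(A)` acts trivially on `A / Z`, of order `p`
        set N := normalizer (A : Set X)
        haveI : (A.subgroupOf N).Normal := inferInstance
        let qN := q.subgroupMap N
        have hsN : Function.Surjective qN := q.subgroupMap_surjective N
        set Ab := (A.subgroupOf N).map qN with hAb
        haveI : Ab.Normal := Normal.map inferInstance _ hsN
        have hAbcard : Nat.card Ab = p := by
          have h1 : Ab.map (N.map q).subtype = A.map q := by
            ext y
            constructor
            · rintro ⟨_, ⟨u, hu, rfl⟩, rfl⟩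
              exact ⟨u, hu, rfl⟩
            · rintro ⟨a, ha, rfl⟩
              exact ⟨qN ⟨a, le_normalizer ha⟩, ⟨⟨a, le_normalizer ha⟩, ha, rfl⟩, rfl⟩
          rw [← card_map_of_injective (f := (N.map q).subtype) (subtype_injective _), h1]
          have h2 := relIndex_ker A q
          rw [hker] at h2
          rw [← h2]
          have h3 := card_mul_index ((center X).subgroupOf A)
          rw [Nat.card_congr (subgroupOfEquivOfLe hZA).toEquiv, he, hA, sq] at h3
          exact Nat.eq_of_mul_eq_mul_left hp.pos h3
        have hcen := CfsgLib.OddOrder.BG4.le_center_of_normal_card_prime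
          (((hG.to_subgroup N).of_surjective qN hsN)) hAbcard
        refine (hmemC g).2 fun a ha => ?_
        have := mem_center_iff.1 (hcen ⟨⟨a, le_normalizer ha⟩, ha, rfl⟩) (qN ⟨g, hg⟩)
        rw [← hker, MonoidHom.mem_ker, map_commutatorElement,
          commutatorElement_eq_one_iff_mul_comm]
        exact congrArg Subtype.val this
      have hZC : center X ≤ C := hZA.trans hAleC
      have hmapcard : Nat.card (C.map q) = p ^ 2 := by
        obtain ⟨f, hf⟩ := ((hG.to_subgroup C)).exists_card_eq
        have h1 : p ^ 2 < p ^ f := by
          rw [← hA, ← hf]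
          exact lt_of_le_of_ne (card_le_of_le hAleC)
            fun h => hAltC.ne (eq_of_le_of_card_ge hAleC h.ge)
        have h2 : f ≤ 3 := by
          rw [hf] at hCle
          exact (Nat.pow_le_pow_iff_right hp.one_lt).1 hCle
        have h3 : f = 3 := by
          have := (Nat.pow_lt_pow_iff_right hp.one_lt).1 h1
          omega
        subst h3
        have h4 := relIndex_ker C q
        rw [hker] at h4
        rw [← h4]
        have h5 := card_mul_index ((center X).subgroupOf C)
        rw [Nat.card_congr (subgroupOfEquivOfLe hZC).toEquiv, he, hf, pow_succ'] at h5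
        exact Nat.eq_of_mul_eq_mul_left hp.pos h5
      have hCmap : C.map q = centralizer ((A.map q : Subgroup _) : Set (X ⧸ center X)) :=
        map_comap_eq_self_of_surjective hsurj _
      have hcent : centralizer ((C.map q : Subgroup _) : Set (X ⧸ center X)) = C.map q := by
        refine le_antisymm ?_ ?_
        · conv_rhs => rw [hCmap]
          exact centralizer_le (map_mono hAleC)
        · exact le_centralizer_iff_isMulCommutative.2
            (IsPGroup.isMulCommutative_of_card_eq_prime_sq hmapcard)
      have hqc : Nat.card (X ⧸ center X) = p ^ n := by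
        have := card_mul_index (center X)
        rw [he, hX, pow_succ'] at this
        rw [← index_eq_card]
        exact Nat.eq_of_mul_eq_mul_left hp.pos this
      have hn2 : 2 ≤ n := by
        have := card_subgroup_dvd_card (C.map q)
        rw [hmapcard, hqc] at this
        exact (Nat.pow_dvd_pow_iff_le_right hp.one_lt).1 this
      rw [nilpotencyClass_eq_quotient_center_plus_one, ih (C.map q) hqc hmapcard hcent]
      omega

/-- A p-group with a self-centralizing subgroup of order p^2 is of maximal class. -/
theorem result {X : Type*} [Group X] [Finite X] {p : ℕ} [Fact p.Prime] (n : ℕ) (hX : Nat.card X = p ^ n) (A : Subgroup X) (hA : Nat.card A = p ^ 2) (hC : Subgroup.centralizer (A : Set X) = A) : Group.nilpotencyClass X = n - 1 := by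
  exact class_eq n A hX hA hC

end Cfsg.Agent.S0112
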