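import Cfsg.Statements.S0948
import Cfsg.Agent.BlocksLocal.PrincipalSection
import Cfsg.Agent.Blocks.Height
import Cfsg.Agent.PLocal.Cores
import Cfsg.Agent.Small.KleinSylow
import Cfsg.Agent.S0944

set_option autoImplicit false
open Cfsg CfsgLib.Blocks CfsgLib.BlocksLocal CfsgLib.PrincipalBlock

namespace Cfsg.Agent.S0948

/-- Let the finite group G have a Sylow 2-subgroup P that is a Klein four-group, suppose all involutions of G are conjugate, and fix a maximal ideal M of the algebraic integers containing 2. Then the principal block consists of exactly four irreducible characters, the principal character and ζ₂, ζ₃, ζ₄, and there is a sign ε such that for every involution z: ζ₂ z = 1, ζ₃ z = ε, ζ₄ z = -1; moreover ζ₂ 1 ≡ 1, ζ₃ 1 ≡ ε, ζ₄ 1 ≡ -1 (mod 4), and 1 + ζ₂ y + ε ζ₃ y - ζ₄ y = 0 for every y of odd order. -/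
theorem result {G : Type*} [Group G] [Finite G] (M : Ideal Cfsg.AlgInt) (hM : Cfsg.IsPModular 2 M) (P : Sylow 2 G) (hP : IsKleinFour (P : Subgroup G)) (hone : ∀ s t : G, orderOf s = 2 → orderOf t = 2 → IsConj s t) : ∃ ζ₂ ζ₃ ζ₄ : Cfsg.IrrCharacter G, ∃ ε : ℤ, (ε = 1 ∨ ε = -1) ∧ (ζ₂ : G → ℂ) ≠ (fun _ => 1) ∧ (ζ₃ : G → ℂ) ≠ (fun _ => 1) ∧ ζ₂ ≠ ζ₃ ∧ ζ₂ ≠ ζ₄ ∧ ζ₃ ≠ ζ₄ ∧ Cfsg.principalBlock M G = {χ : Cfsg.IrrCharacter G | (χ : G → ℂ) = (fun _ => 1) ∨ χ = ζ₂ ∨ χ = ζ₃ ∨ χ = ζ₄} ∧ (∀ z : G, orderOf z = 2 → (ζ₂ : G → ℂ) z = 1 ∧ (ζ₃ : G → ℂ) z = (ε : ℂ) ∧ (ζ₄ : G → ℂ) z = -1) ∧ (4 : ℤ) ∣ (Cfsg.charDegree (ζ₂ : G → ℂ) : ℤ) - 1 ∧ (4 : ℤ) ∣ (Cfsg.charDegree (ζ₃ : G → ℂ) : ℤ) - ε ∧ (4 : ℤ) ∣ (Cfsg.charDegree (ζ₄ : G → ℂ) : ℤ) + 1 ∧ ∀ y : G, Odd (orderOf y) → 1 + (ζ₂ : G → ℂ) y + (ε : ℂ) * (ζ₃ : G → ℂ) y - (ζ₄ : G → ℂ) y = 0 := by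
  classical
  have hconj := hone
  clear hone
  haveI := Fintype.ofFinite G
  haveI : Fact (Nat.Prime 2) := ⟨Nat.prime_two⟩
  haveI : M.IsPrime := CfsgLib.Blocks.IsPModular.isPrime hM
  haveI := Fintype.ofFinite (P : Subgroup G)
  have hP4 : Nat.card (P : Subgroup G) = 4 := hP.card_four
  -- an involution of P
  obtain ⟨z, hzP, hz1⟩ : ∃ z ∈ (P : Subgroup G), z ≠ 1 := by
    by_contra hcon
    push Not at hcon
    rw [show (P : Subgroup G) = ⊥ from (Subgroup.eq_bot_iff_forall _).2 hcon,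
      Subgroup.card_bot] at hP4
    omega
  have hord : ∀ u ∈ (P : Subgroup G), u ≠ 1 → orderOf u = 2 := fun u hu hu1 =>
    orderOf_eq_prime (by rw [pow_two]; exact CfsgLib.Small.kleinFour_mul_self hP hu) hu1
  have hz2 : orderOf z = 2 := hord z hzP hz1
  haveI := Fintype.ofFinite (Subgroup.centralizer ({z} : Set G))
  -- the centralizer of z has a normal 2-complement of index 4
  have hPC : (P : Subgroup G) ≤ Subgroup.centralizer ({z} : Set G) := fun u hu =>
    Subgroup.mem_centralizer_singleton_iff.2 (CfsgLib.Small.kleinFour_comm hP hu hzP)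
  let P' : Sylow 2 (Subgroup.centralizer ({z} : Set G)) := P.subtype hPC
  have hN : Subgroup.normalizer ((P' : Subgroup (Subgroup.centralizer ({z} : Set G))) : Set (Subgroup.centralizer ({z} : Set G))) ≤
      Subgroup.centralizer ((P' : Subgroup (Subgroup.centralizer ({z} : Set G))) : Set (Subgroup.centralizer ({z} : Set G))) := by
    intro n hn
    rw [Sylow.coe_subtype] at hn ⊢
    have hn' : (n : G) ∈ Subgroup.normalizer ((P : Subgroup G) : Set G) := by
      rw [Subgroup.mem_normalizer_iff]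
      intro u
      constructor
      · intro hu
        exact (Subgroup.mem_normalizer_iff.1 hn ⟨u, hPC hu⟩).1 hu
      · intro hu
        have hmem : u ∈ Subgroup.centralizer ({z} : Set G) := by
          have := mul_mem (mul_mem (Subgroup.inv_mem _ n.2) (hPC hu)) n.2
          simpa [mul_assoc] using this
        exact (Subgroup.mem_normalizer_iff.1 hn ⟨u, hmem⟩).2 hu
    have h := CfsgLib.Small.mem_centralizer_of_fix_one P hP hn' hzP hz1
      (by rw [Subgroup.mem_centralizer_singleton_iff.1 n.2, mul_inv_cancel_right])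
    exact Subgroup.mem_centralizer_iff.2 fun u hu =>
      Subtype.ext (Subgroup.mem_centralizer_iff.1 h (u : G) hu)
  have hcompl := MonoidHom.ker_transferSylow_isComplement' P' hN
  set L := (MonoidHom.transferSylow P' hN).ker with hL
  have hP'4 : Nat.card (P' : Subgroup (Subgroup.centralizer ({z} : Set G))) = 4 := by
    rw [Sylow.coe_subtype, Nat.card_congr (Subgroup.subgroupOfEquivOfLe hPC).toEquiv, hP4]
  have hLindex : L.index = 2 ^ 2 := by rw [hcompl.symm.index_eq_card, hP'4]; rfl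
  have hLodd : ¬ 2 ∣ Nat.card L := by
    rw [← hcompl.index_eq_card]
    exact P'.not_dvd_index
  have hcore : ∃ k, (Cfsg.pPrimeCore 2 (Subgroup.centralizer ({z} : Set G))).index = 2 ^ k := by
    have hle : L ≤ Cfsg.pPrimeCore 2 _ :=
      CfsgLib.PLocal.le_pPrimeCore (CfsgLib.PLocal.not_dvd_iff_coprime.2 hLodd)
    obtain ⟨k, -, hk⟩ := (Nat.dvd_prime_pow Nat.prime_two).1
      (hLindex ▸ Subgroup.index_dvd_of_le hle)
    exact ⟨k, hk⟩
  have hfact : (Nat.card (Subgroup.centralizer ({z} : Set G))).factorization 2 = 2 := by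
    rw [← Subgroup.card_mul_index L, hLindex, Nat.factorization_mul Nat.card_pos.ne' (by norm_num),
      Finsupp.add_apply, Nat.factorization_eq_zero_of_not_dvd hLodd,
      Nat.prime_two.factorization_pow, Finsupp.single_eq_same]
  -- integer values at z
  choose n hn using fun χ : IrrCharacter G => Cfsg.Agent.S0944.result χ z hz2
  set B := Cfsg.principalBlock M G with hB
  have hBb : Cfsg.IsPBlock M B := isPBlock_principalBlock
  have hone : n (trivChar G) = 1 := by
    have := (hn (trivChar G)).1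
    simp only [trivChar] at this
    exact_mod_cast this.symm
  -- the sum of the squares is four
  have hsq : ∑ χ : IrrCharacter G, (if χ ∈ B then n χ ^ 2 else 0) = 4 := by
    have h1 := sum_principal_section_mul_conj hM (x := z) ⟨1, by rw [hz2, pow_one]⟩
      (c := 1) (c' := 1) (by rw [orderOf_one]; norm_num) (by rw [orderOf_one]; norm_num)
    obtain ⟨k, hk⟩ := hcore
    set K := Cfsg.pPrimeCore 2 (Subgroup.centralizer ({z} : Set G))
    have hK : ¬ 2 ∣ Nat.card K :=
      CfsgLib.PLocal.not_dvd_iff_coprime.1 (CfsgLib.PLocal.coprime_card_pPrimeCore 2 _)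
    have hk2 : k = 2 := by
      rw [← hfact, ← Subgroup.card_mul_index K, hk, Nat.factorization_mul Nat.card_pos.ne'
        (by positivity), Finsupp.add_apply, Nat.factorization_eq_zero_of_not_dvd hK,
        Nat.prime_two.factorization_pow, Finsupp.single_eq_same, zero_add]
    have h2 := blockCoeff_principal_of_normal_complement
      (G := Subgroup.centralizer ({z} : Set G)) (M := M) hM K hK ⟨k, hk⟩ 1
    rw [blockCoeff_eq_sum, ← mul_assoc, mul_inv_cancel₀ CfsgLib.Characters.natCard_ne_zero, one_mul,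
      Set.indicator_of_mem (SetLike.mem_coe.2 K.one_mem), mul_one, hk, hk2] at h2
    rw [h2] at h1
    simp only [OneMemClass.coe_one, mul_one] at h1
    apply Int.cast_injective (α := ℂ)
    rw [Int.cast_sum]
    norm_num at h1 ⊢
    refine Eq.trans (Finset.sum_congr rfl fun χ _ => ?_) h1
    refine if_congr Iff.rfl ?_ (by simp)
    rw [(hn χ).1]
    simp [pow_two]
  -- congruence with the degree
  have h4 : ∀ χ : IrrCharacter G, (4 : ℤ) ∣ (Cfsg.charDegree (χ : G → ℂ) : ℤ) - n χ := by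
    intro χ
    obtain ⟨m, hm⟩ := CfsgLib.Characters.classInner_characters
      (CfsgLib.Characters.isCharacter_restrict (P : Subgroup G)
        (CfsgLib.Characters.isCharacter_of_isIrr χ.2))
      (CfsgLib.PrincipalBlock.isCharacter_one (G := (P : Subgroup G)))
    have hsum : ∑ u : (P : Subgroup G), (χ : G → ℂ) (u : G) = (4 : ℂ) * m := by
      rw [← hm, Cfsg.classInner, hP4, ← mul_assoc]
      norm_num
    rw [← Finset.add_sum_erase _ _ (Finset.mem_univ (1 : (P : Subgroup G))),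
      Finset.sum_congr rfl (g := fun _ => (n χ : ℂ)) fun u hu => ?_, Finset.sum_const,
      Finset.card_erase_of_mem (Finset.mem_univ _), Finset.card_univ,
      ← Nat.card_eq_fintype_card, hP4, OneMemClass.coe_one, ← charDegree_cast χ] at hsum
    · refine ⟨(m : ℤ) - n χ, ?_⟩
      have : (Cfsg.charDegree (χ : G → ℂ) : ℤ) + 3 * n χ = 4 * (m : ℤ) := by
        apply Int.cast_injective (α := ℂ)
        push_cast
        simpa using hsum
      linarith
    · have hu1 : (u : G) ≠ 1 := fun h => (Finset.mem_erase.1 hu).1 (Subtype.ext h)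
      obtain ⟨c, hc⟩ := isConj_iff.1 (hconj z u hz2 (hord u u.2 hu1))
      rw [← hc, CfsgLib.Characters.isClassFunction_of_isIrr χ.2, (hn χ).1]
  -- no member vanishes at z
  have hne : ∀ χ ∈ B, n χ ≠ 0 := by
    intro χ hχ h0
    have hd := h4 χ
    rw [h0, sub_zero] at hd
    have hd' : 4 ∣ Cfsg.charDegree (χ : G → ℂ) := by exact_mod_cast hd
    have hdz : ¬ 2 ∣ Nat.card G / Cfsg.charDegree (χ : G → ℂ) := by
      intro h2
      have h8 : 8 ∣ Nat.card G := by
        obtain ⟨c, hc⟩ := charDegree_dvd_card χ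
        rw [hc, Nat.mul_div_cancel_left _ (Nat.pos_of_ne_zero (charDegree_ne_zero χ))] at h2
        rw [hc]
        exact (Nat.mul_dvd_mul hd' h2 : 4 * 2 ∣ _)
      have h24 : (Nat.card G).factorization 2 = 2 := by
        rw [← Subgroup.card_mul_index (P : Subgroup G), hP4,
          Nat.factorization_mul (by norm_num) Subgroup.index_ne_zero_of_finite, Finsupp.add_apply,
          Nat.factorization_eq_zero_of_not_dvd P.not_dvd_index, add_zero,
          show (4 : ℕ) = 2 ^ 2 from rfl, Nat.prime_two.factorization_pow, Finsupp.single_eq_same]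
      have := (Nat.prime_two.pow_dvd_iff_le_factorization (k := 3) Nat.card_pos.ne').1 h8
      omega
    have h1 : trivChar G ∈ Cfsg.blockOf M (χ : G → ℂ) := by
      rw [← eq_blockOf_of_mem hBb hχ]; exact trivChar_mem
    rw [(defect_zero_iff hM χ).1 hdz, Set.mem_singleton_iff] at h1
    rw [← h1, hone] at h0
    exact one_ne_zero h0
  -- the four members
  set T := (Finset.univ.filter (· ∈ B)).erase (trivChar G) with hT
  have hmemT : ∀ χ, χ ∈ T ↔ χ ≠ trivChar G ∧ χ ∈ B := fun χ => by simp [hT]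
  have hT3 : ∑ χ ∈ T, n χ ^ 2 = 3 := by
    rw [← Finset.sum_filter, ← Finset.add_sum_erase _ _
      (Finset.mem_filter.2 ⟨Finset.mem_univ _, trivChar_mem⟩), hone] at hsq
    rw [hT]
    linarith
  have hpm : ∀ χ ∈ T, n χ = 1 ∨ n χ = -1 := by
    intro χ hχ
    have h1 : n χ ^ 2 ≤ 3 := hT3 ▸ Finset.single_le_sum (fun i _ => sq_nonneg (n i)) hχ
    have h2 := hne χ ((hmemT χ).1 hχ).2
    have h5 : -1 ≤ n χ ∧ n χ ≤ 1 := ⟨by nlinarith, by nlinarith⟩
    omega
  have hcard : T.card = 3 := by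
    rw [Finset.sum_congr rfl (g := fun _ => (1 : ℤ)) fun χ hχ => by
      rcases hpm χ hχ with h | h <;> simp [h]] at hT3
    rw [Finset.sum_const, nsmul_eq_mul, mul_one] at hT3
    exact_mod_cast hT3
  -- orthogonality to the odd classes
  have horth : ∀ y : G, ¬ 2 ∣ orderOf y →
      1 + ∑ χ ∈ T, (n χ : ℂ) * (χ : G → ℂ) y = 0 := by
    intro y hy
    have h := sum_union_mul_conj_eq_zero hM (isBlockUnion_of_isPBlock hBb) hy
      (show 2 ∣ orderOf z by rw [hz2])
    rw [← Finset.sum_filter, ← Finset.add_sum_erase _ _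
      (Finset.mem_filter.2 ⟨Finset.mem_univ _, trivChar_mem⟩)] at h
    refine Eq.trans ?_ h
    congr 1
    · simp [trivChar]
    · exact Finset.sum_congr rfl fun χ _ => by rw [(hn χ).1, map_intCast, mul_comm]
  have hdeg : 1 + ∑ χ ∈ T, n χ * (Cfsg.charDegree (χ : G → ℂ) : ℤ) = 0 := by
    apply Int.cast_injective (α := ℂ)
    push_cast
    simp only [charDegree_cast]
    exact horth 1 (by rw [orderOf_one]; norm_num)
  obtain ⟨a, haT, ha⟩ : ∃ a ∈ T, n a = 1 := by
    by_contra hcon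
    push Not at hcon
    have hall : ∀ χ ∈ T, n χ * (Cfsg.charDegree (χ : G → ℂ) : ℤ) ≤ -3 := by
      intro χ hχ
      have h1 := (hpm χ hχ).resolve_left (hcon χ hχ)
      obtain ⟨c, hc⟩ := h4 χ
      rw [h1] at hc ⊢
      have hpos : 0 < Cfsg.charDegree (χ : G → ℂ) := Nat.pos_of_ne_zero (charDegree_ne_zero χ)
      omega
    have := Finset.sum_le_sum hall
    rw [Finset.sum_const, hcard] at this
    norm_num at this
    omega
  obtain ⟨c, hcT, hc⟩ : ∃ c ∈ T, n c = -1 := by
    by_contra hcon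
    push Not at hcon
    have hall : ∀ χ ∈ T, 0 ≤ n χ * (Cfsg.charDegree (χ : G → ℂ) : ℤ) := by
      intro χ hχ
      rw [(hpm χ hχ).resolve_right (hcon χ hχ)]
      simp
    have := Finset.sum_nonneg hall
    omega
  have hac : a ≠ c := fun h => by rw [h, hc] at ha; omega
  obtain ⟨b, hb⟩ : ∃ b, (T.erase a).erase c = {b} := by
    refine Finset.card_eq_one.1 ?_
    rw [Finset.card_erase_of_mem (Finset.mem_erase.2 ⟨hac.symm, hcT⟩),
      Finset.card_erase_of_mem haT, hcard]
  have hbT : b ∈ (T.erase a).erase c := hb ▸ Finset.mem_singleton_self b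
  simp only [Finset.mem_erase] at hbT
  obtain ⟨hbc, hba, hbT⟩ := hbT
  have htri : ∀ χ ∈ T, (χ : G → ℂ) ≠ fun _ => 1 := fun χ hχ h =>
    ((hmemT χ).1 hχ).1 (Subtype.ext h)
  have hall : ∀ χ ∈ T, χ = a ∨ χ = b ∨ χ = c := by
    intro χ hχ
    by_cases h1 : χ = a
    · exact Or.inl h1
    by_cases h2 : χ = c
    · exact Or.inr (Or.inr h2)
    have : χ ∈ (T.erase a).erase c := by simp [h1, h2, hχ]
    rw [hb, Finset.mem_singleton] at this
    exact Or.inr (Or.inl this)
  refine ⟨a, b, c, n b, hpm b hbT, htri a haT, htri b hbT, hba.symm, hac, hbc, ?_, ?_,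
    ha ▸ h4 a, h4 b, ?_, fun y hy => ?_⟩
  · refine Set.ext fun χ => ⟨fun h => ?_, ?_⟩
    · by_cases h1 : χ = trivChar G
      · exact Or.inl (congrArg Subtype.val h1)
      · exact Or.inr (hall χ ((hmemT χ).2 ⟨h1, h⟩))
    · rintro (h | h | h | h)
      · rw [show χ = trivChar G from Subtype.ext h]; exact trivChar_mem
      · exact h ▸ ((hmemT a).1 haT).2
      · exact h ▸ ((hmemT b).1 hbT).2
      · exact h ▸ ((hmemT c).1 hcT).2
  · intro w hw
    obtain ⟨x, hx⟩ := isConj_iff.1 (hconj z w hz2 hw)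
    rw [← hx, CfsgLib.Characters.isClassFunction_of_isIrr a.2,
      CfsgLib.Characters.isClassFunction_of_isIrr b.2,
      CfsgLib.Characters.isClassFunction_of_isIrr c.2, (hn a).1, (hn b).1, (hn c).1, ha, hc]
    simp
  · have := h4 c
    rw [hc, sub_neg_eq_add] at this
    exact this
  · have h := horth y (Nat.two_dvd_ne_zero.2 (Nat.odd_iff.1 hy) |> fun h => h)
    rw [← Finset.add_sum_erase _ _ haT,
      ← Finset.add_sum_erase _ _ (Finset.mem_erase.2 ⟨hac.symm, hcT⟩), hb, Finset.sum_singleton,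
      ha, hc] at h
    push_cast at h
    linear_combination h

end Cfsg.Agent.S0948
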