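import Cfsg.Statements.S3279
import Cfsg.Agent.ZStar.Theorem
import Cfsg.Agent.S0111
import Cfsg.Agent.Classification.CyclicNormalAbelian
import Cfsg.Agent.Solvable.Nilpotent
import Cfsg.Agent.TwoGroupsQ.UniqueInvolution
-- import your own Cfsg.Agent.* helpers here

set_option autoImplicit false
open Cfsg

namespace Cfsg.Agent.S3279

/-- Above a normal subgroup of a 2-group, a larger normal subgroup has an element central modulo
the smaller. -/
theorem exists_central_mod {T : Type*} [Group T] [Finite T] (hT : IsPGroup 2 T) (V N : Subgroup T)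
    [V.Normal] [N.Normal] (h : ¬ N ≤ V) :
    ∃ u ∈ N, u ∉ V ∧ ∀ t : T, t * u * t⁻¹ * u⁻¹ ∈ V := by
  have := Fact.mk Nat.prime_two
  haveI : Group.IsNilpotent (T ⧸ V) := (hT.to_quotient V).isNilpotent
  haveI : (N.map (QuotientGroup.mk' V)).Normal :=
    Subgroup.Normal.map inferInstance _ (QuotientGroup.mk'_surjective V)
  have hne : N.map (QuotientGroup.mk' V) ≠ ⊥ := by
    rw [ne_eq, Subgroup.map_eq_bot_iff, QuotientGroup.ker_mk']
    exact h
  obtain ⟨c, ⟨⟨u, huN, rfl⟩, hc⟩, hc1⟩ :=
    (Subgroup.ne_bot_iff_exists_ne_one.mp (CfsgLib.Solvable.inf_center_ne_bot hne))|>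
      fun ⟨⟨c, hc⟩, hc1⟩ => (⟨c, hc, fun h => hc1 (Subtype.ext h)⟩ :
        ∃ c, c ∈ N.map (QuotientGroup.mk' V) ⊓ Subgroup.center (T ⧸ V) ∧ c ≠ 1)
  refine ⟨u, huN, fun h => hc1 ((QuotientGroup.eq_one_iff u).mpr h), fun t => ?_⟩
  rw [← QuotientGroup.eq_one_iff, QuotientGroup.mk_mul, QuotientGroup.mk_mul, QuotientGroup.mk_mul,
    QuotientGroup.mk_inv, QuotientGroup.mk_inv]
  have h1 := Subgroup.mem_center_iff.mp hc (QuotientGroup.mk' V t)
  rw [QuotientGroup.mk'_apply, QuotientGroup.mk'_apply] at h1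
  rw [h1, mul_inv_cancel_right, mul_inv_cancel]

/-- A 2-group that is cyclic, quaternion, dihedral or quasi-dihedral has a cyclic subgroup of
index at most 2. -/
theorem exists_cyclic_index {T : Type*} [Group T] [Finite T] (hT : IsPGroup 2 T)
    (hn : CfsgLib.Classification.CyclicNormal.AllCyclic T) :
    ∃ M : Subgroup T, IsCyclic M ∧ M.index ≤ 2 := by
  have := Fact.mk Nat.prime_two
  have key : ∀ a : T, Nat.card T ≤ orderOf a * 2 → ∃ M : Subgroup T, IsCyclic M ∧ M.index ≤ 2 := by
    intro a ha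
    refine ⟨Subgroup.zpowers a, inferInstance, ?_⟩
    rw [← Subgroup.index_mul_card (Subgroup.zpowers a), Nat.card_zpowers, mul_comm _ 2] at ha
    exact Nat.le_of_mul_le_mul_right ha (orderOf_pos a)
  rcases CfsgLib.Classification.CyclicNormal.classify hT hn with
    hc | ⟨-, ⟨n, ⟨e⟩⟩ | ⟨n, -, ⟨e⟩⟩ | ⟨n, hn3, hcard, x, y, hx, -, -⟩⟩
  · obtain ⟨g, hg⟩ := hc.exists_generator
    exact key g (by rw [orderOf_eq_card_of_forall_mem_zpowers hg]; omega)
  · have h1 := Nat.card_congr e.toEquiv
    haveI : NeZero n := ⟨fun h => by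
      subst h
      haveI : Infinite (QuaternionGroup 0) :=
        Infinite.of_injective (fun i : ℤ => QuaternionGroup.a (n := 0) i)
          fun i j h => (QuaternionGroup.a.injEq _ _).mp h
      rw [Nat.card_eq_zero_of_infinite (α := QuaternionGroup 0)] at h1
      exact Nat.card_pos.ne' h1⟩
    rw [Nat.card_eq_fintype_card (α := QuaternionGroup n), QuaternionGroup.card] at h1
    refine key (e.symm (QuaternionGroup.a 1)) ?_
    rw [MulEquiv.orderOf_eq, QuaternionGroup.orderOf_a_one]
    omega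
  · have h1 := Nat.card_congr e.toEquiv
    rw [DihedralGroup.nat_card] at h1
    refine key (e.symm (DihedralGroup.r 1)) ?_
    rw [MulEquiv.orderOf_eq, DihedralGroup.orderOf_r_one]
    omega
  · refine key x ?_
    rw [hcard, hx, pow_succ]

variable {G : Type*} [Group G] [Finite G]

/-- The three involutions of a centralizer. -/
theorem eq_of_three {x : G}
    (h3 : Nat.card {u : ↥(Subgroup.centralizer ({x} : Set G)) // orderOf u = 2} ≤ 3)
    {a b c d : G} (ha : orderOf a = 2) (hb : orderOf b = 2) (hc : orderOf c = 2) (hd : orderOf d = 2)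
    (hax : a * x = x * a) (hbx : b * x = x * b) (hcx : c * x = x * c) (hdx : d * x = x * d)
    (hab : a ≠ b) (hac : a ≠ c) (hbc : b ≠ c) : d = a ∨ d = b ∨ d = c := by
  classical
  by_contra! h
  let mk : ∀ w : G, orderOf w = 2 → w * x = x * w →
      {u : ↥(Subgroup.centralizer ({x} : Set G)) // orderOf u = 2} := fun w hw hwx =>
    ⟨⟨w, Subgroup.mem_centralizer_singleton_iff.mpr hwx⟩, by rw [Subgroup.orderOf_mk, hw]⟩
  have := Fintype.ofFinite {u : ↥(Subgroup.centralizer ({x} : Set G)) // orderOf u = 2}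
  have hne : ∀ v w hv hvx hw hwx, v ≠ w → mk v hv hvx ≠ mk w hw hwx := fun v w _ _ _ _ hvw e =>
    hvw (congrArg (fun u => ((u.1 : ↥(Subgroup.centralizer ({x} : Set G))) : G)) e)
  have h4 : ({mk a ha hax, mk b hb hbx, mk c hc hcx, mk d hd hdx} : Finset _).card = 4 := by
    rw [Finset.card_insert_of_notMem, Finset.card_insert_of_notMem, Finset.card_pair]
    · exact hne c d hc hcx hd hdx h.2.2.symm
    · simp [hne _ _ hb hbx hc hcx hbc, hne _ _ hb hbx hd hdx h.2.1.symm]
    · simp [hne _ _ ha hax hb hbx hab, hne _ _ ha hax hc hcx hac, hne _ _ ha hax hd hdx h.1.symm]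
  have h5 := Finset.card_le_univ ({mk a ha hax, mk b hb hbx, mk c hc hcx, mk d hd hdx} : Finset _)
  rw [h4, ← Nat.card_eq_fintype_card] at h5
  omega

theorem orderOf_mul_two {a b : G} (ha : orderOf a = 2) (hb : orderOf b = 2) (hab : a * b = b * a)
    (hne : a ≠ b) : orderOf (a * b) = 2 := by
  have := Fact.mk Nat.prime_two
  refine orderOf_eq_prime ?_ fun h => hne ?_
  · rw [(show Commute a b from hab).mul_pow, ← ha, pow_orderOf_eq_one, ha, ← hb, pow_orderOf_eq_one,
      one_mul]
  · rw [eq_inv_of_mul_eq_one_left h, CfsgLib.Small.inv_eq_self_of_orderOf_two hb]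

/-- All involutions are conjugate when some Sylow 2-subgroup centralizes `x`. -/
theorem conj_of_central [IsSimpleGroup G] {x : G} (hx : orderOf x = 2)
    (h3 : Nat.card {u : ↥(Subgroup.centralizer ({x} : Set G)) // orderOf u = 2} ≤ 3)
    (S : Sylow 2 G) (hS : (S : Subgroup G) ≤ Subgroup.centralizer ({x} : Set G)) :
    ∀ u v : G, orderOf u = 2 → orderOf v = 2 → IsConj u v := by
  have := Fact.mk Nat.prime_two
  have hSx : ∀ s ∈ (S : Subgroup G), s * x = x * s := fun s hs =>
    Subgroup.mem_centralizer_singleton_iff.mp (hS hs)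
  have hint : ∀ u : G, orderOf u = 2 → ∃ g : G, g * u * g⁻¹ ∈ S := by
    intro u hu
    obtain ⟨P, hP⟩ := (IsPGroup.of_card (n := 1) (show Nat.card (Subgroup.zpowers u) = 2 ^ 1 by
      rw [Nat.card_zpowers, hu, pow_one])).exists_le_sylow
    obtain ⟨g, hg⟩ := MulAction.exists_smul_eq G P S
    refine ⟨g, ?_⟩
    rw [← hg]
    change g * u * g⁻¹ ∈ ((g • P : Sylow 2 G) : Subgroup G)
    rw [Sylow.coe_subgroup_smul]
    exact Subgroup.smul_mem_pointwise_smul u (MulAut.conj g) P (hP (Subgroup.mem_zpowers u))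
  suffices h : ∀ u ∈ (S : Subgroup G), orderOf u = 2 → IsConj x u by
    intro u v hu hv
    obtain ⟨g, hg⟩ := hint u hu
    obtain ⟨g', hg'⟩ := hint v hv
    have h1 := h _ hg (by rw [CfsgLib.Small.orderOf_conj_eq, hu])
    have h2 := h _ hg' (by rw [CfsgLib.Small.orderOf_conj_eq, hv])
    exact ((isConj_iff.mpr ⟨g, rfl⟩).trans h1.symm).trans (h2.trans (isConj_iff.mpr ⟨g', rfl⟩).symm)
  have hxS : x ∈ (S : Subgroup G) := by
    have hle : (S : Subgroup G) ≤ Subgroup.normalizer ((Subgroup.zpowers x : Subgroup G) : Set G) := by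
      intro s hs
      rw [Subgroup.mem_normalizer_iff]
      intro y
      have hsx : Commute s x := hSx s hs
      constructor
      · intro hy
        obtain ⟨i, rfl⟩ := Subgroup.mem_zpowers_iff.mp hy
        rw [(hsx.zpow_right i).eq, mul_inv_cancel_right]
        exact Subgroup.zpow_mem_zpowers _ _
      · intro hy
        obtain ⟨i, hi⟩ := Subgroup.mem_zpowers_iff.mp hy
        have : y = x ^ i := by
          calc y = s⁻¹ * (s * y * s⁻¹) * s := by group
            _ = s⁻¹ * (x ^ i * s) := by rw [← hi]; group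
            _ = x ^ i := by rw [← (hsx.zpow_right i).eq, inv_mul_cancel_left]
        rw [this]
        exact Subgroup.zpow_mem_zpowers _ _
    have hp : IsPGroup 2 (Subgroup.zpowers x) :=
      IsPGroup.of_card (n := 1) (by rw [Nat.card_zpowers, hx, pow_one])
    have h1 : IsPGroup 2 ((S : Subgroup G) ⊔ Subgroup.zpowers x : Subgroup G) :=
      S.isPGroup'.to_sup_of_normal_right' hp hle
    exact (S.is_maximal' h1 le_sup_left).le (Subgroup.mem_sup_right (Subgroup.mem_zpowers x))
  intro z hzS hz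
  by_contra hxz
  have hne : x ≠ z := fun h => hxz (h ▸ IsConj.refl x)
  have hzx := hSx z hzS
  have hxzo : orderOf (x * z) = 2 := orderOf_mul_two hx hz hzx.symm hne
  have hxzS : x * z ∈ (S : Subgroup G) := (S : Subgroup G).mul_mem hxS hzS
  have hlist : ∀ d ∈ (S : Subgroup G), orderOf d = 2 → d = x ∨ d = z ∨ d = x * z := fun d hdS hd =>
    eq_of_three h3 hx hz hxzo hd rfl hzx (hSx _ hxzS) (hSx d hdS) hne
      (fun h => CfsgLib.Small.ne_one_of_orderOf_two hz (mul_eq_left.mp h.symm))
      (fun h => CfsgLib.Small.ne_one_of_orderOf_two hx (mul_eq_right.mp h.symm))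
  -- some point of `{x, z}` is isolated
  have hex : ∃ w ∈ (S : Subgroup G), orderOf w = 2 ∧ ∀ g : G, g * w * g⁻¹ ∈ S → g * w * g⁻¹ = w := by
    by_contra! hno
    obtain ⟨g, hg, hgne⟩ := hno x hxS hx
    rcases hlist _ hg (by rw [CfsgLib.Small.orderOf_conj_eq, hx]) with h | h | h
    · exact hgne h
    · exact hxz (isConj_iff.mpr ⟨g, h⟩)
    · have hx_xz : IsConj x (x * z) := isConj_iff.mpr ⟨g, h⟩
      obtain ⟨g', hg', hgne'⟩ := hno z hzS hz
      rcases hlist _ hg' (by rw [CfsgLib.Small.orderOf_conj_eq, hz]) with h' | h' | h'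
      · exact hxz (isConj_iff.mpr ⟨g', h'⟩).symm
      · exact hgne' h'
      · exact hxz (hx_xz.trans (isConj_iff.mpr ⟨g', h'⟩).symm)
  obtain ⟨w, hwS, hw, hiso⟩ := hex
  obtain ⟨N, hN, hodd, hNc⟩ := CfsgLib.ZStar.exists_oddNormal_of_sylow S hw hwS hiso
  rcases IsSimpleGroup.eq_bot_or_eq_top_of_normal N hN with rfl | rfl
  · have hwG : w ∈ Subgroup.center G := Subgroup.mem_center_iff.mpr fun g => by
      have h := Subgroup.mem_bot.mp (hNc g)
      rw [mul_inv_eq_one, mul_inv_eq_iff_eq_mul] at h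
      exact h.symm
    rcases IsSimpleGroup.eq_bot_or_eq_top_of_normal (Subgroup.center G) inferInstance with h | h
    · rw [h, Subgroup.mem_bot] at hwG
      exact CfsgLib.Small.ne_one_of_orderOf_two hw hwG
    · -- `G` is abelian
      have hxc : x ∈ Subgroup.center G := h ▸ Subgroup.mem_top x
      haveI : (Subgroup.zpowers x).Normal := ⟨fun a ha g => by
        have hc : Commute g a := Subgroup.mem_center_iff.mp (h ▸ Subgroup.mem_top a) g
        rw [hc.eq, mul_inv_cancel_right]; exact ha⟩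
      rcases IsSimpleGroup.eq_bot_or_eq_top_of_normal (Subgroup.zpowers x) inferInstance with h' | h'
      · exact CfsgLib.Small.ne_one_of_orderOf_two hx (Subgroup.zpowers_eq_bot.mp h')
      · have hG : Nat.card G = 2 := by rw [← Subgroup.card_top, ← h', Nat.card_zpowers, hx]
        obtain ⟨y, -, huniq⟩ := (Nat.card_eq_two_iff' (1 : G)).mp hG
        exact hne ((huniq x (CfsgLib.Small.ne_one_of_orderOf_two hx)).trans
          (huniq z (CfsgLib.Small.ne_one_of_orderOf_two hz)).symm)
  · have h2 := hw ▸ orderOf_dvd_natCard w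
    rw [Subgroup.card_top] at hodd
    exact (Nat.not_even_iff_odd.mpr hodd) (even_iff_two_dvd.mpr h2)

/-- Let G be a finite simple group and x an involution of G whose centralizer contains at most three involutions. Then C_G(x) contains a Sylow 2-subgroup of G, and all involutions of G are conjugate. -/
theorem result {G : Type*} [Group G] [Finite G] [IsSimpleGroup G] (x : G) (hx : orderOf x = 2)
    (h3 : Nat.card {u : ↥(Subgroup.centralizer ({x} : Set G)) // orderOf u = 2} ≤ 3) :
    (∃ S : Sylow 2 G, (S : Subgroup G) ≤ Subgroup.centralizer ({x} : Set G)) ∧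
      ∀ u v : G, orderOf u = 2 → orderOf v = 2 → IsConj u v := by
  classical
  have := Fact.mk Nat.prime_two
  suffices hA : ∃ S : Sylow 2 G, (S : Subgroup G) ≤ Subgroup.centralizer ({x} : Set G) by
    obtain ⟨S, hS⟩ := hA
    exact ⟨⟨S, hS⟩, conj_of_central hx h3 S hS⟩
  by_contra! hB
  set C := Subgroup.centralizer ({x} : Set G) with hC
  have hCi : ∀ {a : G}, a ∈ C ↔ a * x = x * a := Subgroup.mem_centralizer_singleton_iff
  have hcs : ∀ (g : G) (P : Subgroup G), IsPGroup 2 P →
      IsPGroup 2 (P.map (MulAut.conj g).toMonoidHom) := fun g P hP => hP.map _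
  -- no conjugate of `x` is 2-central
  have hnc : ∀ (g : G) (T : Sylow 2 G), ¬ ∀ s ∈ (T : Subgroup G), s * (g * x * g⁻¹) = g * x * g⁻¹ * s := by
    intro g T hT
    refine hB (g⁻¹ • T) fun s hs => hCi.mpr ?_
    rw [Sylow.coe_subgroup_smul, Subgroup.mem_pointwise_smul_iff_inv_smul_mem] at hs
    simp only [map_inv, inv_inv, MulAut.smul_def, MulAut.conj_apply] at hs
    have h1 := hT _ hs
    calc s * x = g⁻¹ * ((g * s * g⁻¹) * (g * x * g⁻¹)) * g := by group
      _ = g⁻¹ * ((g * x * g⁻¹) * (g * s * g⁻¹)) * g := by rw [h1]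
      _ = x * s := by group
  have hno2 : ∀ M : Subgroup G, M.Normal → M.index ≠ 2 := by
    intro M hM hidx
    rcases IsSimpleGroup.eq_bot_or_eq_top_of_normal M hM with rfl | rfl
    · rw [Subgroup.index_bot] at hidx
      obtain ⟨S⟩ : Nonempty (Sylow 2 G) := Sylow.nonempty
      obtain ⟨y, -, huniq⟩ := (Nat.card_eq_two_iff' (1 : G)).mp hidx
      refine hnc 1 S fun s _ => ?_
      rcases eq_or_ne s 1 with rfl | hs
      · simp
      · rw [huniq s hs, ← huniq x (CfsgLib.Small.ne_one_of_orderOf_two hx)]; simp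
    · rw [Subgroup.index_top] at hidx; omega
  obtain ⟨U⟩ : Nonempty (Sylow 2 C) := Sylow.nonempty
  obtain ⟨T, hUT⟩ := (U.isPGroup'.map C.subtype).exists_le_sylow
  set UG := (U : Subgroup C).map C.subtype with hUG
  have hUC : UG ≤ C := Subgroup.map_subtype_le _
  have hmax : ∀ P : Subgroup G, IsPGroup 2 P → P ≤ C → Nat.card P ≤ Nat.card UG := by
    intro P hP hPC
    obtain ⟨U', hU'⟩ := (hP.comap_subtype (K := C)).exists_le_sylow
    rw [← Nat.card_congr (Subgroup.subgroupOfEquivOfLe hPC).toEquiv,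
      Subgroup.card_map_of_injective Subtype.val_injective, U.card_eq_multiplicity, ← U'.card_eq_multiplicity]
    exact Subgroup.card_le_of_le hU'
  have hUeq : UG = (T : Subgroup G) ⊓ C := Subgroup.eq_of_le_of_card_ge (le_inf hUT hUC)
    (hmax _ (T.isPGroup'.to_le inf_le_left) inf_le_right)
  have hxC : x ∈ C := hCi.mpr rfl
  have hxT : x ∈ (T : Subgroup G) := by
    refine hUT ⟨⟨x, hxC⟩, ?_, rfl⟩
    haveI hn : (Subgroup.zpowers (⟨x, hxC⟩ : C)).Normal := ⟨fun a ha g => by
      obtain ⟨i, rfl⟩ := Subgroup.mem_zpowers_iff.mp ha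
      have hc : Commute g (⟨x, hxC⟩ : C) := Subtype.ext (hCi.mp g.2)
      rw [(hc.zpow_right i).eq, mul_inv_cancel_right]
      exact Subgroup.zpow_mem_zpowers _ _⟩
    have hp : IsPGroup 2 (Subgroup.zpowers (⟨x, hxC⟩ : C)) :=
      IsPGroup.of_card (n := 1) (by rw [Nat.card_zpowers, Subgroup.orderOf_mk, hx, pow_one])
    exact (U.is_maximal' (U.isPGroup'.to_sup_of_normal_right hp) le_sup_left).le
      (Subgroup.mem_sup_right (Subgroup.mem_zpowers _))
  set x₀ : (T : Subgroup G) := ⟨x, hxT⟩ with hx₀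
  -- a subgroup of index 2 contains a conjugate of `x` or `x` itself
  have htransfer : ∀ M : Subgroup (T : Subgroup G), M.index = 2 → x₀ ∉ M →
      ∃ g : G, ∃ hg : g * x * g⁻¹ ∈ (T : Subgroup G), (⟨_, hg⟩ : (T : Subgroup G)) ∈ M := by
    intro M hM hxM
    rcases Cfsg.Agent.S0111.thompson_transfer T (M.map (T : Subgroup G).subtype)
      (Subgroup.map_subtype_le M)
      (by rw [Subgroup.relIndex, Subgroup.subgroupOf,
        Subgroup.comap_map_eq_self_of_injective Subtype.val_injective]; exact hM) x hx hxT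
      (by rintro ⟨y, hy, hyx⟩; exact hxM ((show y = x₀ from Subtype.ext hyx) ▸ hy)) with
      ⟨N, hN, hN2, -⟩ | ⟨g, y, hy, hyg⟩
    · exact absurd hN2 (hno2 N hN)
    · exact ⟨g, (show g * x * g⁻¹ ∈ (T : Subgroup G) from hyg ▸ y.2), (show y = ⟨g * x * g⁻¹, hyg ▸ y.2⟩ from Subtype.ext hyg) ▸ hy⟩
  -- no cyclic subgroup of index at most 2
  have hncyc : ∀ M : Subgroup (T : Subgroup G), IsCyclic M → M.index ≤ 2 → False := by
    intro M hM hidx
    have hnorm : M.Normal := by
      rcases (show M.index = 0 ∨ M.index = 1 ∨ M.index = 2 by omega) with h | h | h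
      · exact absurd h Subgroup.index_ne_zero_of_finite
      · rw [Subgroup.index_eq_one.mp h]; infer_instance
      · exact Subgroup.normal_of_index_eq_two h
    have huniq : ∀ a b : (T : Subgroup G), a ∈ M → b ∈ M → orderOf a = 2 → orderOf b = 2 → a = b := by
      intro a b ha hb hoa hob
      by_contra hne
      have := Fintype.ofFinite M
      have h4 := IsCyclic.card_pow_eq_one_le (α := M) (n := 2) two_pos
      have hsub : ({1, ⟨a, ha⟩, ⟨b, hb⟩} : Finset M) ⊆ Finset.univ.filter fun w : M => w ^ 2 = 1 := by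
        intro w hw
        simp only [Finset.mem_insert, Finset.mem_singleton] at hw
        refine Finset.mem_filter.mpr ⟨Finset.mem_univ _, ?_⟩
        rcases hw with rfl | rfl | rfl
        · exact one_pow 2
        · exact Subtype.ext (orderOf_dvd_iff_pow_eq_one.mp hoa.dvd)
        · exact Subtype.ext (orderOf_dvd_iff_pow_eq_one.mp hob.dvd)
      have h5 : ({1, ⟨a, ha⟩, ⟨b, hb⟩} : Finset M).card = 3 := Finset.card_eq_three.mpr
        ⟨_, _, _, fun h => CfsgLib.Small.ne_one_of_orderOf_two hoa (congrArg Subtype.val h).symm,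
          fun h => CfsgLib.Small.ne_one_of_orderOf_two hob (congrArg Subtype.val h).symm,
          fun h => hne (congrArg Subtype.val h), rfl⟩
      have := Finset.card_le_card hsub
      omega
    have hxo : orderOf x₀ = 2 := by rw [hx₀, Subgroup.orderOf_mk, hx]
    have hfin : ∀ g : G, ∀ hg : g * x * g⁻¹ ∈ (T : Subgroup G),
        (⟨_, hg⟩ : (T : Subgroup G)) ∈ M → False := by
      intro g hg hgM
      refine hnc g T fun s hs => ?_
      have hgo : orderOf (⟨_, hg⟩ : (T : Subgroup G)) = 2 := by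
        rw [Subgroup.orderOf_mk, CfsgLib.Small.orderOf_conj_eq, hx]
      have h1 := huniq _ _ (hnorm.conj_mem _ hgM ⟨s, hs⟩) hgM
        (by rw [CfsgLib.Small.orderOf_conj_eq, hgo]) hgo
      exact mul_inv_eq_iff_eq_mul.mp (congrArg Subtype.val h1)
    by_cases hxM : x₀ ∈ M
    · exact hfin 1 (by simpa using hxT) (by convert hxM using 1; exact Subtype.ext (by simp [hx₀]))
    · have h2 : M.index = 2 := by
        rcases (show M.index = 0 ∨ M.index = 1 ∨ M.index = 2 by omega) with h | h | h
        · exact absurd h Subgroup.index_ne_zero_of_finite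
        · exact absurd (Subgroup.index_eq_one.mp h ▸ Subgroup.mem_top x₀) hxM
        · exact h
      obtain ⟨g, hg, hgM⟩ := htransfer M h2 hxM
      exact hfin g hg hgM
  -- facts about a central involution
  have hz_facts : ∀ z : (T : Subgroup G), z ∈ Subgroup.center (T : Subgroup G) → orderOf z = 2 →
      (z : G) ≠ x ∧ ¬ IsConj x (z : G) ∧
      (∀ d : G, orderOf d = 2 → d * x = x * d → d = x ∨ d = z ∨ d = x * z) := by
    intro z hz hzo
    have hzc : ∀ s ∈ (T : Subgroup G), s * z = z * s := fun s hs =>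
      congrArg Subtype.val (Subgroup.mem_center_iff.mp hz ⟨s, hs⟩)
    have h1 : ¬ IsConj x (z : G) := by
      intro h
      obtain ⟨g, hg⟩ := isConj_iff.mp h
      exact hnc g T fun s hs => by rw [hg]; exact hzc s hs
    have h2 : (z : G) ≠ x := fun h => h1 (h ▸ IsConj.refl x)
    refine ⟨h2, h1, fun d hd hdx => ?_⟩
    have hzx : (z : G) * x = x * z := (hzc x hxT).symm
    have hzo' : orderOf (z : G) = 2 := by rw [Subgroup.orderOf_coe, hzo]
    exact eq_of_three h3 hx hzo' (orderOf_mul_two hx hzo' hzx.symm h2.symm) hd rfl hzx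
      (by rw [mul_assoc, hzx, ← mul_assoc]) hdx h2.symm
      (fun h => CfsgLib.Small.ne_one_of_orderOf_two hzo' (mul_eq_left.mp h.symm))
      (fun h => CfsgLib.Small.ne_one_of_orderOf_two hx (mul_eq_right.mp h.symm))
  -- a normal four-group gives index 2
  have hnotall : ¬ CfsgLib.Classification.CyclicNormal.AllCyclic (T : Subgroup G) := by
    intro h
    obtain ⟨M, hM, hidx⟩ := exists_cyclic_index T.isPGroup' h
    exact hncyc M hM hidx
  simp only [CfsgLib.Classification.CyclicNormal.AllCyclic, not_forall] at hnotall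
  obtain ⟨A, hAn, hAc, hAnc⟩ := hnotall
  let Ω : Subgroup (T : Subgroup G) :=
    { carrier := {a | a ∈ A ∧ a * a = 1}
      one_mem' := ⟨A.one_mem, one_mul 1⟩
      mul_mem' := fun {a b} ha hb => ⟨A.mul_mem ha.1 hb.1, by
        have hc : Commute a b := congrArg Subtype.val (hAc.is_comm.comm ⟨a, ha.1⟩ ⟨b, hb.1⟩)
        rw [← sq, hc.mul_pow, sq, sq, ha.2, hb.2, one_mul]⟩
      inv_mem' := fun {a} ha => ⟨A.inv_mem ha.1, by rw [← mul_inv_rev, ha.2, inv_one]⟩ }
  have hΩn : Ω.Normal := ⟨fun a ha g => ⟨hAn.conj_mem a ha.1 g, by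
    rw [show g * a * g⁻¹ * (g * a * g⁻¹) = g * (a * a) * g⁻¹ by group, ha.2]; group⟩⟩
  obtain ⟨a₁, a₂, ha₁, ha₂, ha12, ha₁1, ha₂1⟩ : ∃ a₁ a₂, a₁ ∈ Ω ∧ a₂ ∈ Ω ∧ a₁ ≠ a₂ ∧ a₁ ≠ 1 ∧ a₂ ≠ 1 := by
    by_contra! hno
    refine hAnc (CfsgLib.TwoGroupsQ.isCyclic_of_comm (p := 2) (T.isPGroup'.to_subgroup A)
      (CfsgLib.TwoGroupsQ.hasUniqueOrderP_two fun a b ha ha1 hb hb1 => ?_) fun a b => hAc.is_comm.comm a b)
    by_contra hne
    exact hb1 (Subtype.ext (hno (a : (T : Subgroup G)) b
      ⟨a.2, by rw [← sq]; exact congrArg Subtype.val ha⟩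
      ⟨b.2, by rw [← sq]; exact congrArg Subtype.val hb⟩
      (fun h => hne (Subtype.ext h)) (fun h => ha1 (Subtype.ext h))))
  haveI hnil : Group.IsNilpotent (T : Subgroup G) := T.isPGroup'.isNilpotent
  obtain ⟨⟨z, hzΩ, hzc⟩, hz1⟩ := Subgroup.ne_bot_iff_exists_ne_one.mp
    (CfsgLib.Solvable.inf_center_ne_bot (N := Ω) (fun h => ha₁1 (Subgroup.mem_bot.mp (h ▸ ha₁))))
  have hzo : orderOf z = 2 :=
    orderOf_eq_prime (by rw [sq]; exact hzΩ.2) fun h => hz1 (Subtype.ext h)
  obtain ⟨hzx, hxz, hlist⟩ := hz_facts z hzc hzo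
  haveI hzn : (Subgroup.zpowers z).Normal := ⟨fun a ha g => by
    obtain ⟨i, rfl⟩ := Subgroup.mem_zpowers_iff.mp ha
    have hcz : Commute g z := Subgroup.mem_center_iff.mp hzc g
    rw [(hcz.zpow_right i).eq, mul_inv_cancel_right]
    exact Subgroup.zpow_mem_zpowers _ _⟩
  have hzpow : ∀ a ∈ Subgroup.zpowers z, a = 1 ∨ a = z := by
    intro a ha
    obtain ⟨i, rfl⟩ := mem_powers_iff_mem_zpowers.mpr ha
    show z ^ i = 1 ∨ z ^ i = z
    rw [← pow_mod_orderOf, hzo]
    rcases Nat.mod_two_eq_zero_or_one i with h | h <;> rw [h]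
    · exact Or.inl (pow_zero z)
    · exact Or.inr (pow_one z)
  have hΩz : ¬ Ω ≤ Subgroup.zpowers z := fun h => by
    rcases hzpow a₁ (h ha₁) with h1 | h1
    · exact ha₁1 h1
    rcases hzpow a₂ (h ha₂) with h2 | h2
    · exact ha₂1 h2
    exact ha12 (h1.trans h2.symm)
  obtain ⟨w, hwΩ, hwz, hwc⟩ := exists_central_mod T.isPGroup' (Subgroup.zpowers z) Ω hΩz
  have hwo : orderOf w = 2 :=
    orderOf_eq_prime (by rw [sq]; exact hwΩ.2) fun h => hwz (h ▸ one_mem _)
  -- the centraliser of `w` has index at most 2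
  have hfun : ∀ t : (T : Subgroup G), t * w * t⁻¹ = w ∨ t * w * t⁻¹ = z * w := fun t => by
    rcases hzpow _ (hwc t) with h | h
    · exact Or.inl (mul_inv_eq_one.mp h)
    · exact Or.inr (mul_inv_eq_iff_eq_mul.mp h)
  set Cw := Subgroup.centralizer ({w} : Set (T : Subgroup G)) with hCw
  have hCwi : Cw.index ≤ 2 := by
    have h1 : ∀ s t : (T : Subgroup G), s ∉ Cw → t ∉ Cw → s⁻¹ * t ∈ Cw := by
      intro s t hs ht
      rw [hCw, Subgroup.mem_centralizer_singleton_iff] at hs ht ⊢
      have hs' := (hfun s).resolve_left fun h => hs (mul_inv_eq_iff_eq_mul.mp h)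
      have ht' := (hfun t).resolve_left fun h => ht (mul_inv_eq_iff_eq_mul.mp h)
      calc s⁻¹ * t * w = s⁻¹ * (t * w * t⁻¹) * t := by group
        _ = s⁻¹ * (s * w * s⁻¹) * t := by rw [ht', hs']
        _ = w * (s⁻¹ * t) := by group
    rw [Subgroup.index_eq_card]
    by_contra! h3'
    have := Fintype.ofFinite ((T : Subgroup G) ⧸ Cw)
    rw [Nat.card_eq_fintype_card, ← Finset.card_univ] at h3'
    obtain ⟨p₁, p₂, p₃, -, -, -, h12, h13, h23⟩ := Finset.two_lt_card_iff.mp h3'
    obtain ⟨s₁, rfl⟩ := QuotientGroup.mk_surjective p₁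
    obtain ⟨s₂, rfl⟩ := QuotientGroup.mk_surjective p₂
    obtain ⟨s₃, rfl⟩ := QuotientGroup.mk_surjective p₃
    have hq : ∀ s t : (T : Subgroup G), ((s : (T : Subgroup G) ⧸ Cw) ≠ t) → (s ∈ Cw ↔ t ∉ Cw) := by
      intro s t hst
      rw [ne_eq, QuotientGroup.eq] at hst
      constructor
      · exact fun hs ht => hst (Cw.mul_mem (Cw.inv_mem hs) ht)
      · intro ht
        by_contra hs
        exact hst (h1 s t hs ht)
    have e1 := hq _ _ h12
    have e2 := hq _ _ h13
    have e3 := hq _ _ h23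
    tauto
  set W := ((T : Subgroup G) ⊓ C).subgroupOf (T : Subgroup G) with hW
  have hWmem : ∀ t : (T : Subgroup G), t ∈ W ↔ (t : G) * x = x * t := fun t => by
    rw [hW, Subgroup.mem_subgroupOf, Subgroup.mem_inf, hCi]
    exact ⟨fun h => h.2, fun h => ⟨t.2, h⟩⟩
  have hWtop : W ≠ ⊤ := fun h => hnc 1 T fun s hs => by
    simpa using (hWmem ⟨s, hs⟩).mp (h ▸ Subgroup.mem_top _)
  have hcardW : Nat.card W = Nat.card UG := by
    rw [hW, Nat.card_congr (Subgroup.subgroupOfEquivOfLe inf_le_left).toEquiv, hUeq]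
  have hWi : W.index = 2 := by
    have hle : W.index ≤ 2 := by
      by_cases hxw : (w : G) * x = x * w
      · have hwG : orderOf (w : G) = 2 := by rw [Subgroup.orderOf_coe, hwo]
        refine le_trans (Nat.le_of_dvd (Nat.pos_of_ne_zero Subgroup.index_ne_zero_of_finite)
          (Subgroup.index_dvd_of_le ?_)) hCwi
        intro t ht
        rw [hWmem]
        have htw : (t : G) * w = w * t :=
          congrArg Subtype.val (Subgroup.mem_centralizer_singleton_iff.mp ht)
        have htz : (t : G) * z = z * t := congrArg Subtype.val (Subgroup.mem_center_iff.mp hzc t)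
        rcases hlist _ hwG hxw with h | h | h
        · rwa [h] at htw
        · exact absurd (Subtype.ext h ▸ Subgroup.mem_zpowers z) hwz
        · have hxe : x = (w : G) * z := by
            rw [h, mul_assoc, show (z : G) * z = 1 from congrArg Subtype.val hzΩ.2, mul_one]
          rw [hxe, ← mul_assoc, htw, mul_assoc, htz, mul_assoc]
      · have hxM : x₀ ∉ Cw := fun h =>
          hxw (congrArg Subtype.val (Subgroup.mem_centralizer_singleton_iff.mp h)).symm
        have hC2 : Cw.index = 2 := by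
          rcases (show Cw.index = 0 ∨ Cw.index = 1 ∨ Cw.index = 2 by omega) with h | h | h
          · exact absurd h Subgroup.index_ne_zero_of_finite
          · exact absurd (Subgroup.index_eq_one.mp h ▸ Subgroup.mem_top x₀) hxM
          · exact h
        obtain ⟨g, hg, hgM⟩ := htransfer Cw hC2 hxM
        have hwG : orderOf (w : G) = 2 := by rw [Subgroup.orderOf_coe, hwo]
        have hgw : (g * x * g⁻¹) * w = w * (g * x * g⁻¹) :=
          congrArg Subtype.val (Subgroup.mem_centralizer_singleton_iff.mp hgM)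
        have hgz : (g * x * g⁻¹) * z = z * (g * x * g⁻¹) :=
          congrArg Subtype.val (Subgroup.mem_center_iff.mp hzc ⟨_, hg⟩)
        have hback : ∀ y : G, (g * x * g⁻¹) * y = y * (g * x * g⁻¹) →
            (g⁻¹ * y * g) * x = x * (g⁻¹ * y * g) := fun y hy => by
          calc g⁻¹ * y * g * x = g⁻¹ * (y * (g * x * g⁻¹)) * g := by group
            _ = g⁻¹ * ((g * x * g⁻¹) * y) * g := by rw [hy]
            _ = x * (g⁻¹ * y * g) := by group
        have ho : ∀ y : G, orderOf y = 2 → orderOf (g⁻¹ * y * g) = 2 := fun y hy => by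
          have := CfsgLib.Small.orderOf_conj_eq g⁻¹ y
          rw [inv_inv] at this
          rw [this, hy]
        have hzG : orderOf (z : G) = 2 := by rw [Subgroup.orderOf_coe, hzo]
        have hzw : (z : G) * w = w * z := (congrArg Subtype.val (Subgroup.mem_center_iff.mp hzc w)).symm
        have hzwne : (z : G) ≠ w := fun h => hwz (Subtype.ext h ▸ Subgroup.mem_zpowers z)
        have hzwo := orderOf_mul_two hzG hwG hzw hzwne
        have hcomm3 : (g * x * g⁻¹) * ((z : G) * w) = (z : G) * w * (g * x * g⁻¹) := by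
          rw [← mul_assoc, hgz, mul_assoc, hgw, ← mul_assoc]
        have hres := eq_of_three h3 (ho _ hzG) (ho _ hwG) (ho _ hzwo) hx (hback _ hgz) (hback _ hgw)
          (hback _ hcomm3) rfl (fun h => hzwne (by simpa using h))
          (fun h => CfsgLib.Small.ne_one_of_orderOf_two hwG (by
            have : (z : G) = z * w := by simpa using h
            exact mul_eq_left.mp this.symm))
          (fun h => CfsgLib.Small.ne_one_of_orderOf_two hzG (by
            have : (w : G) = z * w := by simpa using h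
            exact mul_eq_right.mp this.symm))
        -- `Cw` centralises the conjugate
        have hcen : ∀ t ∈ Cw, g⁻¹ * (t : G) * g * x = x * (g⁻¹ * t * g) := by
          intro t ht
          apply hback
          have htw : (t : G) * w = w * t :=
            congrArg Subtype.val (Subgroup.mem_centralizer_singleton_iff.mp ht)
          have htz : (t : G) * z = z * t := congrArg Subtype.val (Subgroup.mem_center_iff.mp hzc t)
          have key : ∀ y : G, x = g⁻¹ * y * g → g * x * g⁻¹ = y := fun y hy => by rw [hy]; group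
          rcases hres with h | h | h <;> rw [key _ h]
          · exact htz.symm
          · exact htw.symm
          · exact ((show Commute (t : G) z from htz).mul_right (show Commute (t : G) w from htw)).symm.eq
        have hle2 : (Cw.map (T : Subgroup G).subtype).map (MulAut.conj g⁻¹).toMonoidHom ≤ C := by
          rintro _ ⟨_, ⟨t, ht, rfl⟩, rfl⟩
          rw [hCi]
          simpa using hcen t ht
        have hcard := hmax _ (((T.isPGroup'.to_subgroup Cw).map _).map _) hle2
        rw [Subgroup.card_map_of_injective (MulEquiv.injective _),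
          Subgroup.card_map_of_injective Subtype.val_injective, ← hcardW] at hcard
        have e1 := Subgroup.card_mul_index Cw
        have e2 := Subgroup.card_mul_index W
        rw [hC2] at e1
        by_contra! hlt
        have e3 : Nat.card W * 3 ≤ Nat.card W * W.index := Nat.mul_le_mul_left _ hlt
        have := Nat.card_pos (α := W)
        omega
    rcases (show W.index = 0 ∨ W.index = 1 ∨ W.index = 2 by omega) with h | h | h
    · exact absurd h Subgroup.index_ne_zero_of_finite
    · exact absurd (Subgroup.index_eq_one.mp h) hWtop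
    · exact h
  have hWn : W.Normal := Subgroup.normal_of_index_eq_two hWi
  -- a conjugate of `z` outside `W`
  set zG : G := (z : G) with hzG'
  have hzG : orderOf zG = 2 := by rw [hzG', Subgroup.orderOf_coe, hzo]
  have hzT : ∀ s ∈ (T : Subgroup G), s * zG = zG * s := fun s hs =>
    congrArg Subtype.val (Subgroup.mem_center_iff.mp hzc ⟨s, hs⟩)
  have hxx : x * x = 1 := CfsgLib.Small.mul_self_of_orderOf_two hx
  have hzz : zG * zG = 1 := CfsgLib.Small.mul_self_of_orderOf_two hzG
  have hxzo : orderOf (x * zG) = 2 := orderOf_mul_two hx hzG (hzT x hxT) hzx.symm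
  obtain ⟨t₀, -, ht₀⟩ := SetLike.exists_of_lt (lt_top_iff_ne_top.mpr hWtop)
  have hxxz : IsConj x (x * zG) := by
    have hmem : t₀ * x₀ * t₀⁻¹ ∈ W := hWn.conj_mem _ ((hWmem x₀).mpr rfl) _
    rw [hWmem] at hmem
    have ho : orderOf ((t₀ * x₀ * t₀⁻¹ : (T : Subgroup G)) : G) = 2 := by
      rw [Subgroup.orderOf_coe, CfsgLib.Small.orderOf_conj_eq, hx₀, Subgroup.orderOf_mk, hx]
    refine isConj_iff.mpr ⟨(t₀ : G), ?_⟩
    rcases hlist _ ho hmem with h | h | h
    · exact absurd ((hWmem t₀).mpr (mul_inv_eq_iff_eq_mul.mp h)) ht₀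
    · exact absurd (isConj_iff.mpr ⟨(t₀ : G), h⟩) hxz
    · exact h
  have hexy : ∃ g : G, g * zG * g⁻¹ ∈ (T : Subgroup G) ∧ g * zG * g⁻¹ ≠ zG := by
    by_contra! hiso
    obtain ⟨N, hN, hodd, hNc⟩ := CfsgLib.ZStar.exists_oddNormal_of_sylow T hzG z.2 hiso
    rcases IsSimpleGroup.eq_bot_or_eq_top_of_normal N hN with rfl | rfl
    · have hwG : zG ∈ Subgroup.center G := Subgroup.mem_center_iff.mpr fun g => by
        have h := Subgroup.mem_bot.mp (hNc g)
        rw [mul_inv_eq_one, mul_inv_eq_iff_eq_mul] at h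
        exact h.symm
      rcases IsSimpleGroup.eq_bot_or_eq_top_of_normal (Subgroup.center G) inferInstance with h | h
      · rw [h, Subgroup.mem_bot] at hwG
        exact CfsgLib.Small.ne_one_of_orderOf_two hzG hwG
      · exact hnc 1 T fun s _ => by
          simpa using Subgroup.mem_center_iff.mp (h ▸ Subgroup.mem_top x : x ∈ Subgroup.center G) s
    · have h2 := hzG ▸ orderOf_dvd_natCard zG
      rw [Subgroup.card_top] at hodd
      exact (Nat.not_even_iff_odd.mpr hodd) (even_iff_two_dvd.mpr h2)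
  obtain ⟨g, hyT, hyz⟩ := hexy
  set y := g * zG * g⁻¹ with hy
  have hyo : orderOf y = 2 := by rw [hy, CfsgLib.Small.orderOf_conj_eq, hzG]
  have hzy : IsConj zG y := isConj_iff.mpr ⟨g, rfl⟩
  have hyW : (⟨y, hyT⟩ : (T : Subgroup G)) ∉ W := by
    rw [hWmem]
    intro h
    rcases hlist y hyo h with h1 | h1 | h1
    · exact hxz (h1 ▸ hzy).symm
    · exact hyz h1
    · exact hxz (hxxz.trans (h1 ▸ hzy).symm)
  have hyy : y * y = 1 := CfsgLib.Small.mul_self_of_orderOf_two hyo
  have hyi : y⁻¹ = y := CfsgLib.Small.inv_eq_self_of_orderOf_two hyo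
  have hyx : y * x * y = x * zG := by
    have hmem : (⟨y, hyT⟩ : (T : Subgroup G)) * x₀ * (⟨y, hyT⟩ : (T : Subgroup G))⁻¹ ∈ W :=
      hWn.conj_mem _ ((hWmem x₀).mpr rfl) _
    rw [hWmem] at hmem
    change y * x * y⁻¹ * x = x * (y * x * y⁻¹) at hmem
    rw [hyi] at hmem
    have ho : orderOf (y * x * y) = 2 := by
      have := CfsgLib.Small.orderOf_conj_eq y x
      rw [hyi] at this
      rw [this, hx]
    rcases hlist _ ho hmem with h | h | h
    · exfalso
      apply hyW
      rw [hWmem]
      show y * x = x * y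
      calc y * x = (y * x * y) * y := by rw [mul_assoc (y * x) y y, hyy, mul_one]
        _ = x * y := by rw [h]
    · exact absurd (isConj_iff.mpr ⟨y, by rw [hyi]; exact h⟩) hxz
    · exact h
  clear_value y
  -- elements of `W` commuting with `y`
  have hB : ∀ b : (T : Subgroup G), b ∈ W → (b : G) * y = y * b → (b : G) = 1 ∨ (b : G) = zG := by
    have hinv : ∀ b : (T : Subgroup G), b ∈ W → (b : G) * y = y * b → orderOf (b : G) = 2 →
        (b : G) = zG := by
      intro b hb hby ho
      rcases hlist _ ho ((hWmem b).mp hb) with h | h | h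
      · exfalso; apply hyW; rw [hWmem]; rw [h] at hby; exact hby.symm
      · exact h
      · exfalso
        apply hyW
        rw [hWmem]
        have hxe : x = (b : G) * zG := by rw [h, mul_assoc, hzz, mul_one]
        show y * x = x * y
        rw [hxe, ← mul_assoc, ← hby, mul_assoc, hzT y hyT, mul_assoc]
    intro b hb hby
    by_contra! hne
    by_cases hb2 : (b : G) * b = 1
    · exact hne.2 (hinv b hb hby (orderOf_eq_prime (by rw [sq, hb2]) hne.1))
    obtain ⟨k, hk⟩ := T.isPGroup' b
    obtain ⟨j, -, hj⟩ := (Nat.dvd_prime_pow Nat.prime_two).mp (orderOf_dvd_of_pow_eq_one hk)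
    have hj2 : 2 ≤ j := by
      by_contra! hlt
      apply hb2
      have : b ^ 2 = 1 := orderOf_dvd_iff_pow_eq_one.mp (by
        rw [hj]; calc 2 ^ j ∣ 2 ^ 1 := pow_dvd_pow 2 (by omega)
          _ = 2 := pow_one 2)
      rw [← sq]
      exact congrArg Subtype.val this
    set b₀ := b ^ 2 ^ (j - 2) with hb₀
    have hb₀o : orderOf b₀ = 4 := by
      rw [hb₀, orderOf_pow_of_dvd (pow_ne_zero _ (by norm_num)) (hj ▸ pow_dvd_pow 2 (by omega)), hj,
        Nat.pow_div (by omega) (by norm_num), show j - (j - 2) = 2 by omega]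
    have hb₀W : b₀ ∈ W := W.pow_mem hb _
    have hb₀y : (b₀ : G) * y = y * b₀ := by
      rw [hb₀, SubgroupClass.coe_pow]
      exact (Commute.pow_left (hby : Commute (b : G) y) _).eq
    have hb₀z : (b₀ : G) * b₀ = zG := by
      refine hinv (b₀ * b₀) (W.mul_mem hb₀W hb₀W) ?_ ?_
      · show (b₀ : G) * b₀ * y = y * (b₀ * b₀)
        rw [mul_assoc, hb₀y, ← mul_assoc, hb₀y, mul_assoc]
      · rw [Subgroup.orderOf_coe, ← sq, orderOf_pow, hb₀o]
        rfl
    -- move `y` to `z`
    set P := Subgroup.zpowers y ⊔ Subgroup.zpowers (b₀ : G) with hP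
    have hPT : P ≤ (T : Subgroup G) :=
      sup_le (Subgroup.zpowers_le.mpr hyT) (Subgroup.zpowers_le.mpr b₀.2)
    have hPy : ∀ s ∈ P, s * y = y * s := by
      have : P ≤ Subgroup.centralizer ({y} : Set G) := sup_le
        (Subgroup.zpowers_le.mpr (Subgroup.mem_centralizer_singleton_iff.mpr rfl))
        (Subgroup.zpowers_le.mpr (Subgroup.mem_centralizer_singleton_iff.mpr hb₀y))
      exact fun s hs => Subgroup.mem_centralizer_singleton_iff.mp (this hs)
    have hconjz : ∀ s : G, s * y = y * s → (g⁻¹ * s * g) * zG = zG * (g⁻¹ * s * g) := by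
      intro s hs
      have hge : zG = g⁻¹ * y * g := by rw [hy]; group
      calc g⁻¹ * s * g * zG = g⁻¹ * (s * y) * g := by rw [hge]; group
        _ = g⁻¹ * (y * s) * g := by rw [hs]
        _ = zG * (g⁻¹ * s * g) := by rw [hge]; group
    set Cz := Subgroup.centralizer ({zG} : Set G) with hCz
    have hTz : (T : Subgroup G) ≤ Cz := fun s hs => Subgroup.mem_centralizer_singleton_iff.mpr (hzT s hs)
    have hPz : P.map (MulAut.conj g⁻¹).toMonoidHom ≤ Cz := by
      rintro _ ⟨s, hs, rfl⟩
      rw [hCz, Subgroup.mem_centralizer_singleton_iff]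
      simpa using hconjz s (hPy s hs)
    obtain ⟨Q, hQ⟩ := (((T.isPGroup'.to_le hPT).map (MulAut.conj g⁻¹).toMonoidHom).comap_subtype
      (K := Cz)).exists_le_sylow
    obtain ⟨c, hc⟩ := MulAction.exists_smul_eq Cz Q (T.subtype hTz)
    set h := (c : G) * g⁻¹ with hh
    have hhy : h * y * h⁻¹ = zG := by
      have hcz : (c : G) * zG = zG * c := Subgroup.mem_centralizer_singleton_iff.mp c.2
      have hge : zG = g⁻¹ * y * g := by rw [hy]; group
      calc h * y * h⁻¹ = (c : G) * (g⁻¹ * y * g) * (c : G)⁻¹ := by rw [hh]; group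
        _ = zG := by rw [← hge, hcz, mul_inv_cancel_right]
    have hPin : ∀ s ∈ P, h * s * h⁻¹ ∈ (T : Subgroup G) := by
      intro s hs
      have hs1 : g⁻¹ * s * g ∈ Cz := hPz ⟨s, hs, by simp⟩
      have hs2 : (⟨_, hs1⟩ : Cz) ∈ (Q : Subgroup Cz) := hQ (Subgroup.mem_subgroupOf.mpr ⟨s, hs, by simp⟩)
      have h1 : c * ⟨_, hs1⟩ * c⁻¹ ∈ ((c • Q : Sylow 2 Cz) : Subgroup Cz) := by
        rw [Sylow.coe_subgroup_smul]
        exact Subgroup.smul_mem_pointwise_smul _ (MulAut.conj c) _ hs2
      rw [hc, Sylow.coe_subtype, Subgroup.mem_subgroupOf] at h1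
      have h2 : h * s * h⁻¹ = (c : G) * (g⁻¹ * s * g) * (c : G)⁻¹ := by rw [hh]; group
      rw [h2]
      exact h1
    have hzP : zG ∈ P := hb₀z ▸ P.mul_mem (Subgroup.mem_sup_right (Subgroup.mem_zpowers _))
      (Subgroup.mem_sup_right (Subgroup.mem_zpowers _))
    set e : (T : Subgroup G) := ⟨_, hPin _ (Subgroup.mem_sup_right (Subgroup.mem_zpowers (b₀ : G)))⟩ with he
    have hee : e * e ∈ W := by
      have := Subgroup.mul_self_mem_of_index_two hWi e
      exact this
    rw [hWmem] at hee
    have heq : ((e * e : (T : Subgroup G)) : G) = h * zG * h⁻¹ := by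
      show h * (b₀ : G) * h⁻¹ * (h * b₀ * h⁻¹) = _
      rw [← hb₀z]
      group
    rw [heq] at hee
    rcases hlist _ (by rw [CfsgLib.Small.orderOf_conj_eq, hzG]) hee with h1 | h1 | h1
    · exact hxz (isConj_iff.mpr ⟨h, h1⟩).symm
    · exact hyz (MulAut.conj h |>.injective (show h * y * h⁻¹ = h * zG * h⁻¹ by rw [hhy, h1]))
    · exact hxz (hxxz.trans (isConj_iff.mpr ⟨h, h1⟩).symm)
  -- `W` is the four-group
  let V : Subgroup (T : Subgroup G) := Subgroup.closure {x₀, z}
  have hx0W : x₀ ∈ W := (hWmem x₀).mpr rfl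
  have hVle : ∀ v ∈ V, (v : G) = 1 ∨ (v : G) = x ∨ (v : G) = zG ∨ (v : G) = x * zG := by
    intro v hv
    induction hv using Subgroup.closure_induction with
    | mem v hv =>
      rcases hv with rfl | rfl
      · exact Or.inr (Or.inl rfl)
      · exact Or.inr (Or.inr (Or.inl rfl))
    | one => exact Or.inl rfl
    | mul a b _ _ ha hb =>
      have hzx' : zG * x = x * zG := (hzT x hxT).symm
      have e1 : x * (x * zG) = zG := by rw [← mul_assoc, hxx, one_mul]
      have e2 : zG * (x * zG) = x := by rw [← mul_assoc, hzx', mul_assoc, hzz, mul_one]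
      have e3 : x * zG * x = zG := by rw [mul_assoc, hzx', e1]
      have e4 : x * zG * zG = x := by rw [mul_assoc, hzz, mul_one]
      have e5 : x * zG * (x * zG) = 1 := by rw [mul_assoc, e2, hxx]
      rw [Subgroup.coe_mul]
      rcases ha with ha | ha | ha | ha <;> rcases hb with hb | hb | hb | hb <;> rw [ha, hb] <;>
        simp [hxx, hzz, hzx', e1, e2, e3, e4, e5]
    | inv a _ ha =>
      rw [Subgroup.coe_inv]
      rcases ha with ha | ha | ha | ha <;> rw [ha] <;>
        simp [CfsgLib.Small.inv_eq_self_of_orderOf_two hx, CfsgLib.Small.inv_eq_self_of_orderOf_two hzG,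
          CfsgLib.Small.inv_eq_self_of_orderOf_two hxzo, -mul_inv_rev]
  have hzW : z ∈ W := (hWmem z).mpr (hzT x hxT).symm
  have hmemV : ∀ v : (T : Subgroup G),
      ((v : G) = 1 ∨ (v : G) = x ∨ (v : G) = zG ∨ (v : G) = x * zG) → v ∈ V := by
    rintro v (h | h | h | h)
    · rw [show v = 1 from Subtype.ext h]; exact one_mem _
    · rw [show v = x₀ from Subtype.ext h]; exact Subgroup.subset_closure (Or.inl rfl)
    · rw [show v = z from Subtype.ext h]; exact Subgroup.subset_closure (Or.inr rfl)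
    · rw [show v = x₀ * z from Subtype.ext h]
      exact mul_mem (Subgroup.subset_closure (Or.inl rfl)) (Subgroup.subset_closure (Or.inr rfl))
  haveI hVn : V.Normal := ⟨fun v hv t => by
    rcases hVle v hv with h | h
    · rw [show v = 1 from Subtype.ext h]; simp [one_mem]
    have hvo : orderOf (v : G) = 2 := by
      rcases h with h | h | h <;> rw [h] <;> assumption
    have hvW : v ∈ W := (Subgroup.closure_le _).mpr (Set.insert_subset_iff.mpr
      ⟨hx0W, Set.singleton_subset_iff.mpr hzW⟩) hv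
    have h1 := (hWmem _).mp (hWn.conj_mem v hvW t)
    have h2 : orderOf ((t * v * t⁻¹ : (T : Subgroup G)) : G) = 2 := by
      rw [Subgroup.orderOf_coe, CfsgLib.Small.orderOf_conj_eq, ← Subgroup.orderOf_coe, hvo]
    rcases hlist _ h2 h1 with h3' | h3' | h3'
    · exact hmemV _ (Or.inr (Or.inl h3'))
    · exact hmemV _ (Or.inr (Or.inr (Or.inl h3')))
    · exact hmemV _ (Or.inr (Or.inr (Or.inr h3')))⟩
  have hWV : W ≤ V := by
    by_contra hnle
    obtain ⟨u, huW, huV, huc⟩ := exists_central_mod T.isPGroup' V W hnle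
    apply huV
    have hc := hVle _ (huc ⟨y, hyT⟩)
    have hcoe : ((⟨y, hyT⟩ * u * ⟨y, hyT⟩⁻¹ * u⁻¹ : (T : Subgroup G)) : G) = y * u * y * (u : G)⁻¹ := by
      simp [hyi]
    rw [hcoe] at hc
    set d := y * (u : G) * y * (u : G)⁻¹ with hd
    have hdy : y * (u : G) * y = d * u := by rw [hd]; group
    have hycancel : ∀ a : G, y * (y * a * y) * y = a := fun a => by
      rw [show y * (y * a * y) * y = (y * y) * a * (y * y) by group, hyy, one_mul, mul_one]
    have hdd : y * d * y * d = 1 := by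
      have h1 : (u : G) = (y * d * y) * (y * u * y) := by
        rw [show y * d * y * (y * u * y) = y * (d * ((y * y) * u)) * y by group, hyy, one_mul,
          ← hdy, hycancel]
      rw [hdy, ← mul_assoc] at h1
      exact right_eq_mul.mp h1
    rcases hc with h | h | h | h
    · rw [h, one_mul] at hdy
      have hby : (u : G) * y = y * u := by
        conv_lhs => rw [← hdy, mul_assoc, hyy, mul_one]
      rcases hB u huW hby with h' | h'
      · exact hmemV _ (Or.inl h')
      · exact hmemV _ (Or.inr (Or.inr (Or.inl h')))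
    · rw [h, hyx] at hdd
      rw [mul_assoc, ← hzT x hxT, ← mul_assoc, hxx, one_mul] at hdd
      exact absurd hdd (CfsgLib.Small.ne_one_of_orderOf_two hzG)
    · -- then `u x` commutes with `y`
      rw [h] at hdy
      have hux : (u : G) * x = x * u := (hWmem u).mp huW
      have hby : ((u * x₀ : (T : Subgroup G)) : G) * y = y * (u * x₀ : (T : Subgroup G)) := by
        show (u : G) * x * y = y * (u * x)
        symm
        calc y * ((u : G) * x) = (y * u * y) * (y * x * y) * y := by
              rw [show y * (u : G) * y * (y * x * y) * y = y * u * (y * y) * x * (y * y) by group, hyy,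
                mul_one, mul_one, mul_assoc]
          _ = zG * u * (x * zG) * y := by rw [hdy, hyx]
          _ = (u : G) * (x * (zG * zG)) * y := by
              rw [← hzT u u.2]
              have hzx' : zG * x = x * zG := (hzT x hxT).symm
              calc (u : G) * zG * (x * zG) * y = (u : G) * ((zG * x) * zG) * y := by group
                _ = (u : G) * (x * (zG * zG)) * y := by rw [hzx', mul_assoc x zG zG]
          _ = (u : G) * x * y := by rw [hzz, mul_one]
      rcases hB _ (W.mul_mem huW hx0W) hby with h' | h'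
      · refine hmemV _ (Or.inr (Or.inl ?_))
        have h1 : (u : G) * x = 1 := h'
        rw [eq_inv_of_mul_eq_one_left h1, CfsgLib.Small.inv_eq_self_of_orderOf_two hx]
      · refine hmemV _ (Or.inr (Or.inr (Or.inr ?_)))
        have h1 : (u : G) * x = zG := h'
        calc (u : G) = (u : G) * x * x := by rw [mul_assoc, hxx, mul_one]
          _ = x * zG := by rw [h1, ← hzT x hxT]
    · rw [h, show y * (x * zG) * y = (y * x * y) * (y * zG * y) by
        rw [show y * x * y * (y * zG * y) = y * x * (y * y) * zG * y by group, hyy]; group,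
        hyx, hzT y hyT, mul_assoc zG y y, hyy, mul_one] at hdd
      rw [mul_assoc x zG zG, hzz, mul_one, ← mul_assoc, hxx, one_mul] at hdd
      exact absurd hdd (CfsgLib.Small.ne_one_of_orderOf_two hzG)
  have hW4 : Nat.card W ≤ 4 := by
    refine le_trans (Subgroup.card_le_of_le hWV) ?_
    have hs : (Subtype.val '' (V : Set (T : Subgroup G))) ⊆ {1, x, zG, x * zG} := by
      rintro _ ⟨v, hv, rfl⟩
      rcases hVle v hv with h | h | h | h <;> simp [h]
    have := Set.ncard_le_ncard hs (Set.toFinite _)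
    rw [Set.ncard_image_of_injective _ Subtype.val_injective] at this
    refine le_trans (le_of_eq (Nat.card_coe_set_eq _)) (this.trans ?_)
    exact le_trans (Set.ncard_insert_le _ _) (Nat.add_le_add_right (le_trans (Set.ncard_insert_le _ _)
      (Nat.add_le_add_right (le_trans (Set.ncard_insert_le _ _) (by simp)) 1)) 1)
  -- an element of order 4
  set q : (T : Subgroup G) := ⟨y, hyT⟩ * x₀ with hq
  have hqq : q * q = z := Subtype.ext (by
    show y * x * (y * x) = zG
    calc y * x * (y * x) = (y * x * y) * x := by group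
      _ = x * zG * x := by rw [hyx]
      _ = zG := by rw [mul_assoc, ← hzT x hxT, ← mul_assoc, hxx, one_mul])
  have hqo : orderOf q = 2 ^ (1 + 1) := orderOf_eq_prime_pow
    (by rw [pow_one, sq, hqq]; exact fun h => hz1 (Subtype.ext h))
    (by rw [show 2 ^ (1 + 1) = 2 * 2 from rfl, pow_mul, sq q, hqq, sq]; exact hzΩ.2)
  refine hncyc (Subgroup.zpowers q) inferInstance ?_
  have e1 := Subgroup.card_mul_index W
  have e2 := Subgroup.card_mul_index (Subgroup.zpowers q)
  rw [Nat.card_zpowers, hqo] at e2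
  rw [hWi] at e1
  by_contra! hlt
  have e3 : 2 ^ (1 + 1) * 3 ≤ 2 ^ (1 + 1) * (Subgroup.zpowers q).index := Nat.mul_le_mul_left _ hlt
  omega

end Cfsg.Agent.S3279
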