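import Cfsg.Statements.S3278
import Cfsg.Agent.S3279
import Cfsg.Agent.S0948
import Cfsg.Agent.ZStar.ThirdMain
import Cfsg.Agent.BlocksLocal.PrincipalSection
import Cfsg.Agent.CharactersDeep.ClassPairs
import Cfsg.Agent.Characters.Linear
import Cfsg.Agent.Small.KleinSylow
import Cfsg.Agent.Small.Counting
import Cfsg.Agent.Small.Dihedral
-- import your own Cfsg.Agent.* helpers here

set_option autoImplicit false
open Cfsg

namespace Cfsg.Agent.S3278

open CfsgLib CfsgLib.Blocks CfsgLib.PrincipalBlock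
open scoped ComplexConjugate

variable {G : Type*} [Group G] [Fintype G]

/-- Irreducible characters are determined on a section by their averages. -/
theorem sum_sq_section (x : G) (K : Subgroup (Subgroup.centralizer ({x} : Set G))) [Fintype K]
    (hK : ∀ k k' : K, ∀ g : G, g * (x * ((k : Subgroup.centralizer ({x} : Set G)) : G)) * g⁻¹ =
      x * ((k' : Subgroup.centralizer ({x} : Set G)) : G) → g ∈ Subgroup.centralizer ({x} : Set G))
    [K.Normal] :
    ∑ χ : IrrCharacter G, (∑ k : K, (χ : G → ℂ) (x * ((k : Subgroup.centralizer ({x} : Set G)) : G))) *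
      conj (∑ k : K, (χ : G → ℂ) (x * ((k : Subgroup.centralizer ({x} : Set G)) : G))) =
      (Nat.card (Subgroup.centralizer ({x} : Set G)) : ℂ) * (Nat.card K : ℂ) := by
  classical
  simp only [map_sum, Finset.sum_mul, Finset.mul_sum]
  rw [Finset.sum_comm, Finset.sum_congr rfl fun y _ => Finset.sum_comm, Finset.sum_comm]
  have h : ∀ k : K, (∑ k' : K, ∑ χ : IrrCharacter G,
      (χ : G → ℂ) (x * ((k : Subgroup.centralizer ({x} : Set G)) : G)) *
        conj ((χ : G → ℂ) (x * ((k' : Subgroup.centralizer ({x} : Set G)) : G)))) =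
      (Nat.card (Subgroup.centralizer ({x} : Set G)) : ℂ) := by
    intro k
    rw [Finset.sum_congr rfl fun k' _ => Characters.sum_irr_mul_conj _ _,
      ← Nat.cast_sum, ← Nat.card_sigma]
    refine congrArg _ (Nat.card_congr
      { toFun := fun s => ⟨s.2.1, hK k s.1 s.2.1 s.2.2⟩
        invFun := fun c => ⟨⟨c * (k : Subgroup.centralizer ({x} : Set G)) * c⁻¹,
          (inferInstance : K.Normal).conj_mem _ k.2 c⟩, ⟨(c : G), ?_⟩⟩
        left_inv := fun s => ?_
        right_inv := fun c => rfl })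
    · have hc : (c : G) * x = x * c := Subgroup.mem_centralizer_singleton_iff.1 c.2
      simp only [Subgroup.coe_mul, Subgroup.coe_inv]
      rw [← mul_assoc (c : G), hc]
      simp only [mul_assoc]
    · obtain ⟨k', g, hg⟩ := s
      refine Sigma.subtype_ext (Subtype.ext (Subtype.ext ?_)) rfl
      have hc : g * x = x * g := Subgroup.mem_centralizer_singleton_iff.1 (hK k k' g hg)
      simp only [Subgroup.coe_mul, Subgroup.coe_inv]
      refine mul_left_cancel (a := x) ?_
      rw [← hg, ← mul_assoc g, hc]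
      simp only [mul_assoc]
  rw [Finset.sum_congr rfl fun k _ => h k, Finset.sum_const, Finset.card_univ,
    ← Nat.card_eq_fintype_card, nsmul_eq_mul, mul_comm]

theorem degree_ne_one [IsSimpleGroup G] (hG : ∃ a b : G, a * b ≠ b * a) (χ : IrrCharacter G)
    (h1 : (χ : G → ℂ) 1 = 1) : (χ : G → ℂ) = fun _ => 1 := by
  obtain ⟨f, hf⟩ := Characters.exists_hom_of_degree_one (Characters.isCharacter_of_isIrr χ.2) h1
  rcases IsSimpleGroup.eq_bot_or_eq_top_of_normal f.ker inferInstance with h | h
  · obtain ⟨a, b, hab⟩ := hG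
    exact absurd ((MonoidHom.ker_eq_bot_iff f).1 h (by rw [map_mul, map_mul, mul_comm])) hab
  · funext g
    have hg : f g = 1 := MonoidHom.mem_ker.1 (h ▸ Subgroup.mem_top g)
    simp [hf, hg]

theorem bound_num {a b c : ℕ} {n : ℕ} (hn : 5 ≤ n) {ε : ℤ} (hε : ε = 1 ∨ ε = -1)
    (ha : 2 ≤ a) (hb : 2 ≤ b) (hc : 2 ≤ c) (h4a : (4 : ℤ) ∣ (a : ℤ) - 1)
    (h4b : (4 : ℤ) ∣ (b : ℤ) - ε) (h4c : (4 : ℤ) ∣ (c : ℤ) + 1)
    (hlin : (1 : ℤ) + a + ε * b - c = 0)
    (hS : (3 * n : ℚ) * (1 + 1 / a + ε / b - 1 / c) = 8) : n = 5 := by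
  have hn' : (5 : ℚ) ≤ n := by exact_mod_cast hn
  have ha5 : 5 ≤ a := by omega
  have hc3 : 3 ≤ c := by omega
  have ha0 : (0 : ℚ) < a := by exact_mod_cast (by omega : 0 < a)
  rcases hε with rfl | rfl
  · exfalso
    have hb5 : 5 ≤ b := by omega
    have hca : (a : ℚ) ≤ c := by exact_mod_cast (show a ≤ c by omega)
    have h1 : (1 : ℚ) / c ≤ 1 / a := one_div_le_one_div_of_le ha0 hca
    have h2 : (0 : ℚ) ≤ 1 / b := by positivity
    have : (1 : ℚ) ≤ 1 + 1 / a + ((1 : ℤ) : ℚ) / b - 1 / c := by push_cast; linarith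
    nlinarith
  · have hb3 : 3 ≤ b := by omega
    have key : (8 : ℚ) / 15 ≤ 1 + 1 / a + ((-1 : ℤ) : ℚ) / b - 1 / c := by
      push_cast
      rw [neg_div]
      by_cases hb' : b = 3
      · by_cases hc' : c = 3
        · have : a = 5 := by omega
          subst hb' hc' this
          norm_num
        · have hc7 : (7 : ℚ) ≤ c := by exact_mod_cast (show 7 ≤ c by omega)
          have h1 : (1 : ℚ) / c ≤ 1 / 7 := one_div_le_one_div_of_le (by norm_num) hc7
          have : (0 : ℚ) ≤ 1 / a := by positivity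
          have hac : (a : ℚ) = c + 2 := by exact_mod_cast (show a = c + 2 by omega)
          subst hb'
          rw [hac]
          have h2 : (1 : ℚ) / c - 1 / (c + 2) ≤ 2 / 63 := by
            rw [div_sub_div _ _ (by linarith) (by linarith), div_le_div_iff₀ (by nlinarith) (by norm_num)]
            nlinarith
          norm_num at h2 ⊢
          linarith
      · have hb7 : (7 : ℚ) ≤ b := by exact_mod_cast (show 7 ≤ b by omega)
        have h1 : (1 : ℚ) / b ≤ 1 / 7 := one_div_le_one_div_of_le (by norm_num) hb7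
        have hc3' : (3 : ℚ) ≤ c := by exact_mod_cast hc3
        by_cases hc' : c = 3
        · have hab : (a : ℚ) = b + 2 := by exact_mod_cast (show a = b + 2 by omega)
          subst hc'
          rw [hab]
          have h2 : (1 : ℚ) / b - 1 / (b + 2) ≤ 2 / 63 := by
            rw [div_sub_div _ _ (by linarith) (by linarith), div_le_div_iff₀ (by nlinarith) (by norm_num)]
            nlinarith
          norm_num at h2 ⊢
          linarith
        · have hc7 : (7 : ℚ) ≤ c := by exact_mod_cast (show 7 ≤ c by omega)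
          have h2 : (1 : ℚ) / c ≤ 1 / 7 := one_div_le_one_div_of_le (by norm_num) hc7
          have : (0 : ℚ) ≤ 1 / a := by positivity
          linarith
    have : (n : ℚ) ≤ 5 := by nlinarith
    have : n ≤ 5 := by exact_mod_cast this
    omega


set_option maxHeartbeats 1000000 in
/-- Let G be a finite simple group with an involution x such that a Sylow 2-subgroup of C_G(x) is a Klein four-group which is normal in C_G(x). Then G is isomorphic to the alternating group of degree 5 (that is, to PSL(2, 5)). -/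
theorem result {G : Type*} [Group G] [Finite G] [IsSimpleGroup G] (x : G) (hx : orderOf x = 2)
    (S₀ : Subgroup G) (hle : S₀ ≤ Subgroup.centralizer ({x} : Set G)) (hK : IsKleinFour ↥S₀)
    (hodd : ¬ 2 ∣ S₀.relIndex (Subgroup.centralizer ({x} : Set G))) (hn : (S₀.subgroupOf (Subgroup.centralizer ({x} : Set G))).Normal) :
    Nonempty (G ≃* ↥(alternatingGroup (Fin 5))) := by
  classical
  haveI := Fintype.ofFinite G
  haveI : Fact (Nat.Prime 2) := ⟨Nat.prime_two⟩
  set C := Subgroup.centralizer ({x} : Set G) with hC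
  haveI := hn
  have hCx : ∀ {a : G}, a ∈ C ↔ a * x = x * a := Subgroup.mem_centralizer_singleton_iff
  have hS4 : Nat.card S₀ = 4 := hK.card_four
  have hk : Odd (S₀.subgroupOf C).index := Nat.odd_iff.2 (Nat.two_dvd_ne_zero.1 hodd)
  have hord : ∀ a ∈ S₀, a ≠ 1 → orderOf a = 2 := fun a ha ha1 =>
    orderOf_eq_prime (by rw [pow_two]; exact CfsgLib.Small.kleinFour_mul_self hK ha) ha1
  -- the involutions of C
  have hinv : ∀ a ∈ C, a * a = 1 → a ∈ S₀ := by
    intro a ha haa
    have h := Subgroup.pow_index_mem (S₀.subgroupOf C) (⟨a, ha⟩ : C)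
    rw [Subgroup.mem_subgroupOf, Subgroup.coe_pow] at h
    obtain ⟨j, hj⟩ := hk
    rwa [hj, pow_succ, pow_mul, pow_two, haa, one_pow, one_mul] at h
  have hxS : x ∈ S₀ := hinv x (hCx.2 rfl) (by rw [← pow_two, ← hx, pow_orderOf_eq_one])
  have h3 : Nat.card {u : C // orderOf u = 2} ≤ 3 := by
    have hsub : Nat.card {v : S₀ // v ≠ 1} = 3 := by
      have h := Nat.card_eq_fintype_card (α := {v : S₀ // v ≠ 1})
      rw [Fintype.card_subtype_compl, Fintype.card_subtype_eq, ← Nat.card_eq_fintype_card, hS4] at h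
      exact h
    rw [← hsub]
    have hmem : ∀ u : {u : C // orderOf u = 2}, ((u.1 : C) : G) ∈ S₀ ∧ ((u.1 : C) : G) ≠ 1 := by
      intro u
      have h2 : orderOf ((u.1 : C) : G) = 2 := by rw [Subgroup.orderOf_coe, u.2]
      exact ⟨hinv _ u.1.2 (CfsgLib.Small.mul_self_of_orderOf_two h2),
        CfsgLib.Small.ne_one_of_orderOf_two h2⟩
    refine Nat.card_le_card_of_injective
      (fun u => ⟨⟨_, (hmem u).1⟩, fun h => (hmem u).2 (congrArg Subtype.val h)⟩) ?_
    intro u v h
    exact Subtype.ext (Subtype.ext (congrArg (fun t : {v : S₀ // v ≠ 1} => (t.1 : G)) h))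
  obtain ⟨⟨T, hT⟩, hconj⟩ := Cfsg.Agent.S3279.result x hx h3
  -- S₀ is a Sylow 2-subgroup of G
  have hTS : (T : Subgroup G) ≤ S₀ := by
    intro t ht
    obtain ⟨j, hj⟩ := T.isPGroup' ⟨t, ht⟩
    have hj' : t ^ 2 ^ j = 1 := congrArg Subtype.val hj
    have h := Subgroup.pow_index_mem (S₀.subgroupOf C) (⟨t, hT ht⟩ : C)
    rw [Subgroup.mem_subgroupOf, Subgroup.coe_pow] at h
    obtain ⟨q, hq⟩ := exists_pow_eq_self_of_coprime (x := t) (n := (S₀.subgroupOf C).index)
      (Nat.Coprime.of_dvd_right (orderOf_dvd_of_pow_eq_one hj')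
        ((Nat.coprime_two_right.2 hk).pow_right j))
    rw [← hq]
    exact S₀.pow_mem h q
  have hTeq : (T : Subgroup G) = S₀ :=
    (T.is_maximal' (IsPGroup.of_card (n := 2) (by rw [hS4]; norm_num)) hTS).symm
  have hKT : IsKleinFour (T : Subgroup G) := by rw [hTeq]; exact hK
  -- C centralizes S₀
  have hnormC : C ≤ Subgroup.normalizer (S₀ : Set G) :=
    (Subgroup.normal_subgroupOf_iff_le_normalizer hle).1 hn
  have hcent : ∀ c ∈ C, ∀ s ∈ S₀, c * s = s * c := by
    intro c hc s hs
    have h := CfsgLib.Small.mem_centralizer_of_fix_one T hKT (n := c) (a := x)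
      (by rw [hTeq]; exact hnormC hc) (by rw [hTeq]; exact hxS)
      (CfsgLib.Small.ne_one_of_orderOf_two hx) (by rw [hCx.1 hc, mul_inv_cancel_right])
    exact (Subgroup.mem_centralizer_iff.1 h s (show s ∈ (T : Subgroup G) by rw [hTeq]; exact hs)).symm
  -- a complement
  obtain ⟨K, hKc⟩ := Subgroup.exists_right_complement'_of_coprime (N := S₀.subgroupOf C) (by
    rw [Nat.card_congr (Subgroup.subgroupOfEquivOfLe hle).toEquiv, hS4, show 4 = 2 ^ 2 from rfl]
    exact ((Nat.coprime_two_left.2 hk)).pow_left 2)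
  have hKcard : Nat.card C = 4 * Nat.card K := by
    rw [← hKc.card_mul, Nat.card_congr (Subgroup.subgroupOfEquivOfLe hle).toEquiv, hS4]
  have hKodd : Odd (Nat.card K) := by
    have h := Subgroup.card_mul_index (S₀.subgroupOf C)
    rw [Nat.card_congr (Subgroup.subgroupOfEquivOfLe hle).toEquiv, hS4, hKcard] at h
    rw [← Nat.eq_of_mul_eq_mul_left (by norm_num) h]
    exact hk
  haveI hKn : K.Normal := ⟨fun k hkK c => by
    obtain ⟨⟨⟨s, hs⟩, ⟨d, hd⟩⟩, hsd⟩ := hKc.surjective c
    simp only at hsd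
    subst hsd
    have hm : d * k * d⁻¹ ∈ K := K.mul_mem (K.mul_mem hd hkK) (K.inv_mem hd)
    have hcomm : Commute s (d * k * d⁻¹) :=
      Subtype.ext (hcent _ (d * k * d⁻¹).2 _ (Subgroup.mem_subgroupOf.1 hs)).symm
    rw [show s * d * k * (s * d)⁻¹ = s * (d * k * d⁻¹) * s⁻¹ by group, hcomm.eq,
      mul_inv_cancel_right]
    exact hm⟩
  haveI := Fintype.ofFinite K
  haveI := Fintype.ofFinite C
  have hKsec : ∀ k k' : K, ∀ g : G, g * (x * ((k : C) : G)) * g⁻¹ = x * ((k' : C) : G) → g ∈ C := by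
    intro k k' g hg
    set r := Nat.card K
    have hx2 : x ^ r = x := by
      obtain ⟨j, hj⟩ := hKodd
      rw [hj, pow_succ, pow_mul, ← hx, pow_orderOf_eq_one, one_pow, one_mul]
    have hpow : ∀ k : K, (x * ((k : C) : G)) ^ r = x := fun k => by
      have hc : Commute x ((k : C) : G) := (hCx.1 (k : C).2).symm
      rw [hc.mul_pow, hx2, ← Subgroup.coe_pow, ← Subgroup.coe_pow, pow_card_eq_one']
      simp
    have h := congrArg (fun t => t ^ r) hg
    simp only [conj_pow, hpow] at h
    exact hCx.2 (mul_inv_eq_iff_eq_mul.1 h)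
  -- the principal block
  obtain ⟨M, hM⟩ := exists_isPModular 2 Nat.prime_two
  haveI : M.IsPrime := IsPModular.isPrime hM
  obtain ⟨ζ₂, ζ₃, ζ₄, ε, hε, h21, h31, h23, h24, h34, hB, hval, h4a, h4b, h4c, hlin⟩ :=
    Cfsg.Agent.S0948.result M hM T hKT hconj
  obtain ⟨hv2, hv3, hv4⟩ := hval x hx
  have h41 : (ζ₄ : G → ℂ) ≠ fun _ => 1 := fun h => by
    rw [h] at hv4; norm_num at hv4
  set B₀ := Cfsg.principalBlock M G with hB0
  have hfin : Finset.univ.filter (fun χ => χ ∈ B₀) = {trivChar G, ζ₂, ζ₃, ζ₄} := by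
    ext χ
    rw [Finset.mem_filter, hB]
    simp only [Finset.mem_univ, true_and, Set.mem_setOf_eq, Finset.mem_insert,
      Finset.mem_singleton]
    refine or_congr_left ⟨fun h => Subtype.ext (h.trans ?_), fun h => h ▸ ?_⟩
    · funext g; simp [trivChar]
    · funext g; simp [trivChar]
  have hne1 : ∀ ζ : IrrCharacter G, (ζ : G → ℂ) ≠ (fun _ => 1) → trivChar G ≠ ζ := fun ζ hζ h =>
    hζ (h ▸ funext fun g => by simp [trivChar])
  have hsum4 : ∀ F : IrrCharacter G → ℂ, (∑ χ, if χ ∈ B₀ then F χ else 0) =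
      F (trivChar G) + F ζ₂ + F ζ₃ + F ζ₄ := by
    intro F
    rw [← Finset.sum_filter, hfin, Finset.sum_insert (by simp [hne1 _ h21, hne1 _ h31, hne1 _ h41]),
      Finset.sum_insert (by simp [h23, h24]), Finset.sum_pair h34]
    ring
  have ht1 : ∀ g : G, (trivChar G : G → ℂ) g = 1 := fun g => by simp [trivChar]
  set b : IrrCharacter G → ℂ :=
    fun χ => ∑ k : K, (χ : G → ℂ) (x * ((k : C) : G)) with hb
  have hbin : ∀ χ ∈ B₀, b χ = (Nat.card K : ℂ) * (χ : G → ℂ) x := by
    intro χ hχ
    simp only [hb]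
    rw [Finset.sum_congr rfl fun k _ => CfsgLib.ZStar.apply_mul_eq_of_mem hM
      ⟨1, by rw [hx, pow_one]⟩ hχ K hKodd.not_two_dvd_nat k.2, Finset.sum_const, Finset.card_univ,
      ← Nat.card_eq_fintype_card, nsmul_eq_mul]
  have hbout : ∀ χ, χ ∉ B₀ → b χ = 0 := by
    have h1 := sum_sq_section x K hKsec
    have h2 : ∑ χ, (if χ ∈ B₀ then b χ * conj (b χ) else 0) =
        (Nat.card C : ℂ) * (Nat.card K : ℂ) := by
      rw [hsum4, hbin _ trivChar_mem, hbin _ (by rw [hB]; simp), hbin _ (by rw [hB]; simp),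
        hbin _ (by rw [hB]; simp), ht1, hv2, hv3, hv4, hKcard]
      rcases hε with rfl | rfl <;> push_cast <;> simp <;> ring
    have h3 : ∑ χ, (if χ ∈ B₀ then 0 else b χ * conj (b χ)) = 0 := by
      refine Eq.trans ?_ (sub_eq_zero.2 (h1.trans h2.symm))
      rw [← Finset.sum_sub_distrib]
      refine Finset.sum_congr rfl fun χ _ => ?_
      simp only [hb]
      split_ifs <;> ring
    intro χ hχ
    have h4 : ∑ χ, (if χ ∈ B₀ then 0 else Complex.normSq (b χ)) = 0 := by
      apply Complex.ofReal_injective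
      rw [Complex.ofReal_sum, Complex.ofReal_zero, ← h3]
      refine Finset.sum_congr rfl fun χ _ => ?_
      split_ifs <;> simp [Complex.mul_conj]
    have h5 := (Finset.sum_eq_zero_iff_of_nonneg fun χ _ => by
      split_ifs
      · exact le_rfl
      · exact Complex.normSq_nonneg _).1 h4 χ (Finset.mem_univ _)
    rw [if_neg hχ] at h5
    exact Complex.normSq_eq_zero.1 h5
  -- the class of x
  set m := Nat.card {g : G // IsConj x g} with hm
  have hmC : m * Nat.card C = Nat.card G := CfsgLib.Small.card_conjugates_mul_card_centralizer x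
  set cl := CharactersDeep.ClassPairs.classSet x with hcl
  have hmcl : cl.card = m := (CharactersDeep.ClassPairs.card_classSet x).symm
  have hio : ∀ a ∈ cl, orderOf a = 2 := fun a ha => by
    obtain ⟨g, rfl⟩ := isConj_iff.1 (CharactersDeep.ClassPairs.mem_classSet.1 ha)
    rw [CfsgLib.Small.orderOf_conj_eq, hx]
  have hmem : ∀ a : G, a ∈ cl ↔ orderOf a = 2 := fun a =>
    ⟨hio a, fun h => CharactersDeep.ClassPairs.mem_classSet.2 (hconj x a hx h)⟩
  have hsq : ∀ a : G, orderOf a = 2 → a * a = 1 := fun a ha => by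
    rw [← pow_two, ← ha, pow_orderOf_eq_one]
  -- two involutions centralized by a third commute
  have hcommute : ∀ z a c : G, orderOf z = 2 → orderOf a = 2 → orderOf c = 2 →
      Commute z a → Commute z c → Commute a c := by
    intro z a c hz ha hc hza hzc
    obtain ⟨g, hg⟩ := isConj_iff.1 (hconj z x hz hx)
    have hin : ∀ t : G, orderOf t = 2 → Commute z t → g * t * g⁻¹ ∈ S₀ := fun t ht hzt => by
      have hcm := congrArg (fun u => g * u * g⁻¹) hzt.eq
      refine hinv _ (hCx.2 ?_) (hsq _ (by rw [CfsgLib.Small.orderOf_conj_eq, ht]))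
      rw [← hg]
      simpa [mul_assoc] using hcm.symm
    have h := CfsgLib.Small.kleinFour_comm hK (hin a ha hza) (hin c hc hzc)
    rw [show g * a * g⁻¹ * (g * c * g⁻¹) = g * (a * c) * g⁻¹ by group,
      show g * c * g⁻¹ * (g * a * g⁻¹) = g * (c * a) * g⁻¹ by group] at h
    exact mul_left_cancel (mul_right_cancel h)
  have hpair : ∀ a c : G, a ∈ cl → c ∈ cl → ∀ k : K, IsConj (a * c) (x * ((k : C) : G)) →
      k = 1 := by
    intro a c ha hc k hac
    have hxk : Commute x ((k : C) : G) := (hCx.1 (k : C).2).symm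
    have hkodd : Odd (orderOf ((k : C) : G)) := by
      rw [Subgroup.orderOf_coe, Subgroup.orderOf_coe]
      exact hKodd.of_dvd_nat (orderOf_dvd_natCard k)
    have heq : orderOf (a * c) = orderOf (x * ((k : C) : G)) := by
      obtain ⟨g, hg⟩ := isConj_iff.1 hac
      rw [← hg, CfsgLib.Small.orderOf_conj_eq]
    have hord2 : orderOf (x * ((k : C) : G)) = 2 * orderOf ((k : C) : G) := by
      rw [hxk.orderOf_mul_eq_mul_orderOf_of_coprime (by rw [hx]; exact Nat.coprime_two_left.2 hkodd),
        hx]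
    obtain ⟨hz, hza, hzc⟩ := CfsgLib.Small.half_pow_spec (hio a ha) (hio c hc)
      (by rw [heq, hord2]; exact even_two_mul _)
    have hcm := hcommute _ a c hz (hio a ha) (hio c hc) hza hzc
    have hdvd : orderOf (a * c) ∣ 2 := orderOf_dvd_of_pow_eq_one (by
      rw [hcm.mul_pow, pow_two, pow_two, hsq a (hio a ha), hsq c (hio c hc), one_mul])
    rw [heq, hord2] at hdvd
    have : orderOf ((k : C) : G) = 1 := by
      have := Nat.dvd_of_mul_dvd_mul_left two_pos (show 2 * orderOf ((k : C) : G) ∣ 2 * 1 by simpa using hdvd)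
      exact Nat.dvd_one.1 this
    exact Subtype.ext (Subtype.ext (orderOf_eq_one_iff.1 this))
  -- ordered pairs of involutions with involution product
  have hcount : ((cl ×ˢ cl).filter fun p => IsConj (p.1 * p.2) x).card = 2 * m := by
    have hfib : ∀ d ∈ cl, ((cl ×ˢ cl).filter fun p => p.1 * p.2 = d).card = 2 := by
      intro d hd
      have hdo := hio d hd
      obtain ⟨g, hg⟩ := isConj_iff.1 (hconj d x hdo hx)
      have htwo : (Finset.univ.filter fun v : G => v ∈ S₀ ∧ v ≠ 1 ∧ v ≠ x).card = 2 := by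
        have h4 : (Finset.univ.filter fun v : G => v ∈ S₀).card = 4 := by
          rw [← hS4, Nat.card_eq_fintype_card, Fintype.card_subtype]
        have hsub : ({1, x} : Finset G) ⊆ Finset.univ.filter fun v : G => v ∈ S₀ := by
          intro v hv
          rcases Finset.mem_insert.1 hv with rfl | hv
          · simp
          · simp [Finset.mem_singleton.1 hv, hxS]
        rw [show (Finset.univ.filter fun v : G => v ∈ S₀ ∧ v ≠ 1 ∧ v ≠ x) =
            (Finset.univ.filter fun v : G => v ∈ S₀) \ {1, x} by ext v; simp,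
          Finset.card_sdiff_of_subset hsub, h4,
          Finset.card_pair (CfsgLib.Small.ne_one_of_orderOf_two hx).symm]
      rw [← htwo]
      refine Finset.card_bij' (fun p _ => g * p.1 * g⁻¹)
        (fun v _ => (g⁻¹ * v * g, g⁻¹ * v * g * d)) ?_ ?_ ?_ ?_
      · intro p hp
        obtain ⟨hp12, hpd⟩ := Finset.mem_filter.1 hp
        obtain ⟨hp1, hp2⟩ := Finset.mem_product.1 hp12
        have ha := hio _ hp1
        have hc := hio _ hp2
        have hda : p.1 * d = d * p.1 := by
          have hd2 : d⁻¹ = d := CfsgLib.Small.inv_eq_self_of_orderOf_two hdo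
          have e : p.2 * p.1 = d := by
            rw [← hd2, ← hpd, mul_inv_rev, CfsgLib.Small.inv_eq_self_of_orderOf_two ha,
              CfsgLib.Small.inv_eq_self_of_orderOf_two hc]
          conv_lhs => rw [← e, ← mul_assoc, hpd]
        refine Finset.mem_filter.2 ⟨Finset.mem_univ _,
          hinv _ (hCx.2 ?_) (hsq _ (by rw [CfsgLib.Small.orderOf_conj_eq, ha])), ?_, ?_⟩
        · rw [← hg]
          simpa [mul_assoc] using congrArg (fun u => g * u * g⁻¹) hda
        · exact CfsgLib.Small.ne_one_of_orderOf_two (by rw [CfsgLib.Small.orderOf_conj_eq, ha])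
        · intro h
          have hpd1 : p.1 = d := by
            rw [← hg] at h
            exact mul_left_cancel (mul_right_cancel h)
          rw [hpd1] at hpd
          exact CfsgLib.Small.ne_one_of_orderOf_two hc (mul_eq_left.1 hpd)
      · intro v hv
        obtain ⟨hvS, hv1, hvx⟩ := (Finset.mem_filter.1 hv).2
        have hvo := hord v hvS hv1
        have he1 : orderOf (g⁻¹ * v * g) = 2 := by
          have := CfsgLib.Small.orderOf_conj_eq g⁻¹ v
          rw [inv_inv] at this
          rw [this, hvo]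
        have he2 : g⁻¹ * v * g * d = g⁻¹ * (v * x) * g := by rw [← hg]; group
        have hvxS : v * x ∈ S₀ := S₀.mul_mem hvS hxS
        have hvx1 : v * x ≠ 1 := fun h => hvx (by
          rw [eq_inv_of_mul_eq_one_left h, CfsgLib.Small.inv_eq_self_of_orderOf_two hx])
        refine Finset.mem_filter.2 ⟨Finset.mem_product.2 ⟨(hmem _).2 he1, (hmem _).2 ?_⟩, ?_⟩
        · show orderOf (g⁻¹ * v * g * d) = 2
          rw [he2]
          have := CfsgLib.Small.orderOf_conj_eq g⁻¹ (v * x)
          rw [inv_inv] at this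
          rw [this, hord _ hvxS hvx1]
        · show g⁻¹ * v * g * (g⁻¹ * v * g * d) = d
          rw [← mul_assoc, hsq _ he1, one_mul]
      · intro p hp
        obtain ⟨hp12, hpd⟩ := Finset.mem_filter.1 hp
        have ha := hio _ (Finset.mem_product.1 hp12).1
        refine Prod.ext (by group) ?_
        show g⁻¹ * (g * p.1 * g⁻¹) * g * d = p.2
        rw [← hpd, show g⁻¹ * (g * p.1 * g⁻¹) * g = p.1 by group, ← mul_assoc, hsq _ ha, one_mul]
      · intro v _
        show g * (g⁻¹ * v * g) * g⁻¹ = v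
        group
    rw [Finset.card_eq_sum_card_fiberwise (f := fun p => p.1 * p.2) (t := cl) fun p hp =>
      CharactersDeep.ClassPairs.mem_classSet.2 (Finset.mem_filter.1 hp).2.symm]
    rw [Finset.sum_congr rfl fun d hd => ?_, Finset.sum_const, hmcl, smul_eq_mul, mul_comm]
    rw [Finset.filter_filter, ← hfib d hd]
    refine congrArg _ (Finset.filter_congr fun p _ => ⟨fun h => h.2, fun h => ⟨?_, h⟩⟩)
    rw [h]
    exact (CharactersDeep.ClassPairs.mem_classSet.1 hd).symm
  -- the structure identity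
  have hid : ((m : ℂ) * m) * ∑ χ : IrrCharacter G,
      (χ : G → ℂ) x * (χ : G → ℂ) x / (χ : G → ℂ) 1 * conj (b χ) =
      (2 * m : ℕ) * (Nat.card C : ℂ) := by
    calc _ = ∑ χ : IrrCharacter G, ∑ p ∈ cl ×ˢ cl, ∑ k : K,
          (χ : G → ℂ) (p.1 * p.2) * conj ((χ : G → ℂ) (x * ((k : C) : G))) := by
            rw [Finset.mul_sum]
            refine Finset.sum_congr rfl fun χ _ => ?_
            simp only [hb, map_sum]
            simp only [← Finset.mul_sum, ← Finset.sum_mul]
            rw [CharactersDeep.ClassPairs.sum_pairs_char χ.2, hmcl]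
            ring
      _ = ∑ p ∈ cl ×ˢ cl, ∑ k : K, ∑ χ : IrrCharacter G,
          (χ : G → ℂ) (p.1 * p.2) * conj ((χ : G → ℂ) (x * ((k : C) : G))) := by
            rw [Finset.sum_comm]
            exact Finset.sum_congr rfl fun p _ => Finset.sum_comm
      _ = ∑ p ∈ cl ×ˢ cl, if IsConj (p.1 * p.2) x then (Nat.card C : ℂ) else 0 := by
            refine Finset.sum_congr rfl fun p hp => ?_
            obtain ⟨ha, hc⟩ := Finset.mem_product.1 hp
            rw [Finset.sum_eq_single 1]
            · split_ifs with h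
              · refine Eq.trans ?_ (Characters.sum_irr_mul_conj_of_isConj (IsConj.refl x))
                refine Finset.sum_congr rfl fun χ _ => ?_
                rw [Characters.classFunction_isConj (Characters.isClassFunction_of_isIrr χ.2) h]
                simp
              · exact Characters.sum_irr_mul_conj_of_not_isConj (by simpa using h)
            · intro k _ hk1
              exact Characters.sum_irr_mul_conj_of_not_isConj fun h => hk1 (hpair _ _ ha hc k h)
            · simp
      _ = _ := by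
            rw [← Finset.sum_filter, Finset.sum_const, hcount, nsmul_eq_mul]
  have hmpos : 0 < m := Nat.pos_of_ne_zero fun h => by
    rw [h, zero_mul] at hmC; exact Nat.card_pos.ne' hmC.symm
  have hS : (m : ℂ) * (1 + 1 / (ζ₂ : G → ℂ) 1 + ε / (ζ₃ : G → ℂ) 1 - 1 / (ζ₄ : G → ℂ) 1) = 8 := by
    have hsplit : ∑ χ : IrrCharacter G, (χ : G → ℂ) x * (χ : G → ℂ) x / (χ : G → ℂ) 1 * conj (b χ) =
        ∑ χ : IrrCharacter G, if χ ∈ B₀ then
          (χ : G → ℂ) x * (χ : G → ℂ) x / (χ : G → ℂ) 1 * conj ((Nat.card K : ℂ) * (χ : G → ℂ) x) else 0 := by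
      refine Finset.sum_congr rfl fun χ _ => ?_
      split_ifs with h
      · rw [hbin χ h]
      · rw [hbout χ h, map_zero, mul_zero]
    rw [hsplit, hsum4, ht1, ht1, hv2, hv3, hv4, hKcard] at hid
    have hm0 : (m : ℂ) ≠ 0 := Nat.cast_ne_zero.2 hmpos.ne'
    have hK0 : (Nat.card K : ℂ) ≠ 0 := Nat.cast_ne_zero.2 Nat.card_pos.ne'
    refine mul_left_cancel₀ (mul_ne_zero hm0 hK0) ?_
    rcases hε with rfl | rfl <;> push_cast at hid ⊢ <;>
      simp only [map_mul, map_neg, map_one, Complex.conj_natCast] at hid <;> linear_combination hid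
  -- the normalizer of S₀
  set H := Subgroup.normalizer (S₀ : Set G) with hH
  have hSH : S₀ ≤ H := Subgroup.le_normalizer
  have hxH : x ∈ H := hSH hxS
  have hnormal_conj : ∀ g : G, g * x * g⁻¹ ∈ S₀ → g ∈ H := by
    intro g hg
    rw [hH, Subgroup.mem_normalizer_iff]
    have hsub : ∀ v ∈ S₀, g⁻¹ * v * g ∈ S₀ := by
      intro v hv
      refine hinv _ (hCx.2 ?_) ?_
      · have := CfsgLib.Small.kleinFour_comm hK hv hg
        calc g⁻¹ * v * g * x = g⁻¹ * (v * (g * x * g⁻¹)) * g := by group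
          _ = g⁻¹ * ((g * x * g⁻¹) * v) * g := by rw [this]
          _ = x * (g⁻¹ * v * g) := by group
      · calc g⁻¹ * v * g * (g⁻¹ * v * g) = g⁻¹ * (v * v) * g := by group
          _ = 1 := by rw [CfsgLib.Small.kleinFour_mul_self hK hv]; group
    have hmap : S₀.map (MulAut.conj g⁻¹).toMonoidHom = S₀ := by
      refine Subgroup.eq_of_le_of_card_ge ?_ ?_
      · rintro _ ⟨v, hv, rfl⟩
        simpa using hsub v hv
      · rw [Subgroup.card_map_of_injective (MulAut.conj g⁻¹).injective]
    intro v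
    constructor
    · intro hv
      obtain ⟨w, hw, hwv⟩ : v ∈ S₀.map (MulAut.conj g⁻¹).toMonoidHom := hmap.symm ▸ hv
      have : g * v * g⁻¹ = w := by rw [← hwv]; simp [mul_assoc]
      rwa [this]
    · intro hv
      simpa [mul_assoc] using hsub _ hv
  have hH3 : Nat.card H = 3 * Nat.card C := by
    have h1 := CfsgLib.Small.card_conjugates_mul_card_centralizer (⟨x, hxH⟩ : H)
    have h2 : Nat.card {g : H // IsConj (⟨x, hxH⟩ : H) g} = 3 := by
      have hsub : Nat.card {v : S₀ // v ≠ 1} = 3 := by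
        have h := Nat.card_eq_fintype_card (α := {v : S₀ // v ≠ 1})
        rw [Fintype.card_subtype_compl, Fintype.card_subtype_eq, ← Nat.card_eq_fintype_card, hS4] at h
        exact h
      rw [← hsub]
      symm
      have hcj : ∀ v : {v : S₀ // v ≠ 1}, IsConj (⟨x, hxH⟩ : H) ⟨_, hSH v.1.2⟩ := by
        intro v
        obtain ⟨g, hg⟩ := isConj_iff.1 (hconj x (v.1 : G) hx
          (hord _ v.1.2 fun h => v.2 (Subtype.ext h)))
        exact isConj_iff.2 ⟨⟨g, hnormal_conj g (hg ▸ v.1.2)⟩, Subtype.ext hg⟩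
      refine Nat.card_congr (Equiv.ofBijective (fun v => ⟨_, hcj v⟩) ⟨?_, ?_⟩)
      · intro v w h
        exact Subtype.ext (Subtype.ext (congrArg (fun t : {g : H // IsConj (⟨x, hxH⟩ : H) g} => (t.1 : G)) h))
      · rintro ⟨g, hg⟩
        obtain ⟨c, rfl⟩ := isConj_iff.1 hg
        have hmem' : (c : G) * x * (c : G)⁻¹ ∈ S₀ := (Subgroup.mem_normalizer_iff.1 c.2 x).1 hxS
        exact ⟨⟨⟨_, hmem'⟩, fun h => CfsgLib.Small.ne_one_of_orderOf_two
          (by rw [CfsgLib.Small.orderOf_conj_eq, hx]) (congrArg Subtype.val h)⟩, rfl⟩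
    have h3' : Nat.card (Subgroup.centralizer ({(⟨x, hxH⟩ : H)} : Set H)) = Nat.card C := by
      refine Nat.card_congr
        ⟨fun c => ⟨(c.1 : G), hCx.2 (congrArg Subtype.val (Subgroup.mem_centralizer_singleton_iff.1 c.2))⟩,
          fun c => ⟨⟨c.1, hnormC c.2⟩, Subgroup.mem_centralizer_singleton_iff.2 (Subtype.ext (hCx.1 c.2))⟩,
          fun c => rfl, fun c => rfl⟩
    rw [h2, h3'] at h1
    exact h1.symm
  set n := H.index with hn'
  have hCpos : 0 < Nat.card C := Nat.card_pos
  have hG : Nat.card G = n * 3 * (4 * Nat.card K) := by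
    rw [← Subgroup.index_mul_card H, hH3, hKcard, ← hn']; ring
  have hmn : m = 3 * n := by
    rw [hG, hKcard] at hmC
    have := Nat.eq_of_mul_eq_mul_right (by omega) hmC
    omega
  have hHtop : H ≠ ⊤ := by
    intro h
    haveI : S₀.Normal := Subgroup.normalizer_eq_top_iff.1 h
    rcases IsSimpleGroup.eq_bot_or_eq_top_of_normal S₀ inferInstance with h' | h'
    · rw [h', Subgroup.card_bot] at hS4; omega
    · haveI : (Subgroup.zpowers x).Normal := ⟨fun a ha g => by
        have hg : g * a = a * g := CfsgLib.Small.kleinFour_comm hK (h' ▸ Subgroup.mem_top g)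
          (h' ▸ Subgroup.mem_top a)
        rw [hg, mul_inv_cancel_right]; exact ha⟩
      rcases IsSimpleGroup.eq_bot_or_eq_top_of_normal (Subgroup.zpowers x) inferInstance with h'' | h''
      · exact CfsgLib.Small.ne_one_of_orderOf_two hx (Subgroup.zpowers_eq_bot.1 h'')
      · have e := Nat.card_zpowers x
        rw [h'', hx, Subgroup.card_top, ← Subgroup.card_top (G := G), ← h', hS4] at e
        omega
  let φ : G →* Equiv.Perm (G ⧸ H) := MulAction.toPermHom G (G ⧸ H)
  have hφ : Function.Injective φ := by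
    rw [← MonoidHom.ker_eq_bot_iff]
    refine (IsSimpleGroup.eq_bot_or_eq_top_of_normal φ.ker inferInstance).resolve_right fun h => hHtop ?_
    refine eq_top_iff.2 fun g _ => ?_
    have h1 : φ g = 1 := MonoidHom.mem_ker.1 (h ▸ Subgroup.mem_top g)
    have h2 : g • ((1 : G) : G ⧸ H) = ((1 : G) : G ⧸ H) :=
      (Equiv.Perm.ext_iff.1 h1 ((1 : G) : G ⧸ H) : φ g _ = _)
    rw [MulAction.Quotient.smul_coe, smul_eq_mul, mul_one, eq_comm, QuotientGroup.eq] at h2
    simpa using h2
  have hdvd : Nat.card G ∣ n.factorial := by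
    have h := Subgroup.card_subgroup_dvd_card φ.range
    rwa [← Nat.card_congr (MonoidHom.ofInjective hφ).toEquiv, Nat.card_perm, ← Subgroup.index, ← hn'] at h
  have hn5 : 5 ≤ n := by
    by_contra hlt
    have hle' := Nat.le_of_dvd (Nat.factorial_pos n) hdvd
    have hn0 : n ≠ 0 := Subgroup.index_ne_zero_of_finite
    have hn1 : n ≠ 1 := fun h => hHtop (Subgroup.index_eq_one.1 h)
    have hK1 : 1 ≤ Nat.card K := Nat.card_pos
    rw [hG] at hle'
    clear_value n
    clear hS hid hmn hn' hdvd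
    interval_cases n <;> simp only [Nat.factorial] at hle' <;> omega
  -- the degrees
  have hab : ∃ a c : G, a * c ≠ c * a := by
    by_contra! hcomm
    apply hHtop
    refine eq_top_iff.2 fun g _ => ?_
    exact hnormC (hCx.2 (hcomm g x))
  have hdeg : ∀ ζ : IrrCharacter G, (ζ : G → ℂ) ≠ (fun _ => 1) →
      2 ≤ Cfsg.charDegree (ζ : G → ℂ) := by
    intro ζ hζ
    have h0 := charDegree_ne_zero ζ
    have h1 : Cfsg.charDegree (ζ : G → ℂ) ≠ 1 := fun h => hζ (degree_ne_one hab ζ (by
      rw [← charDegree_cast, h, Nat.cast_one]))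
    omega
  have hlin1 := hlin 1 (by rw [orderOf_one]; exact odd_one)
  rw [← charDegree_cast, ← charDegree_cast, ← charDegree_cast] at hlin1 hS
  have hn5' : n = 5 := by
    refine bound_num hn5 hε (hdeg ζ₂ h21) (hdeg ζ₃ h31) (hdeg ζ₄ h41) h4a h4b h4c ?_ ?_
    · exact_mod_cast hlin1
    · rw [hmn] at hS
      apply (Rat.cast_injective (α := ℂ))
      push_cast at hS ⊢
      exact hS
  -- the embedding in degree five
  let e : G ⧸ H ≃ Fin 5 := (Finite.equivFinOfCardEq (show Nat.card (G ⧸ H) = 5 from hn5'))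
  let ψ : G →* Equiv.Perm (Fin 5) := e.permCongrHom.toMonoidHom.comp φ
  have hψ : Function.Injective ψ := e.permCongrHom.injective.comp hφ
  have hcardr : Nat.card ψ.range = Nat.card G :=
    (Nat.card_congr (MonoidHom.ofInjective hψ).toEquiv).symm
  have h120 := Subgroup.card_mul_index ψ.range
  rw [hcardr, hG, hn5', Nat.card_perm, Nat.card_fin,
    show Nat.factorial 5 = 120 from rfl] at h120
  have hKi : Nat.card K * ψ.range.index = 2 := by
    rw [show 5 * 3 * (4 * Nat.card K) * ψ.range.index = 60 * (Nat.card K * ψ.range.index) by ring]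
      at h120
    omega
  have hidx : ψ.range.index = 2 := by
    have hd : Nat.card K ∣ 2 := ⟨_, hKi.symm⟩
    rcases (Nat.dvd_prime Nat.prime_two).1 hd with h | h
    · rwa [h, one_mul] at hKi
    · rw [h] at hKodd; exact absurd hKodd (by decide)
  exact ⟨(MonoidHom.ofInjective hψ).trans
    (MulEquiv.subgroupCongr (Equiv.Perm.eq_alternatingGroup_of_index_eq_two hidx))⟩

end Cfsg.Agent.S3278
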