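import Cfsg.Statements.S4399
import Cfsg.Agent.MaxClassTwo.Basic
import Cfsg.Agent.TwoGroups.Models
-- import your own Cfsg.Agent.* helpers here

set_option autoImplicit false
open Cfsg

namespace Cfsg.Agent.S4399

open Subgroup

/-- A group of order at least eight whose derived subgroup has index four is dihedral,
semidihedral or generalized quaternion. -/
theorem shape_of_index_four {S : Type*} [Group S] [Finite S] {n : ℕ} (hn : 3 ≤ n)
    (hcard : Nat.card S = 2 ^ n) (hidx : (commutator S).index = 4) :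
    (∃ k : ℕ, Nonempty (S ≃* DihedralGroup (2 ^ (k + 2)))) ∨
      (∃ k : ℕ, Nat.card S = 2 ^ (k + 4) ∧ ∃ a b : S, orderOf a = 2 ^ (k + 3) ∧ orderOf b = 2 ∧
        b * a * b⁻¹ = a ^ (2 ^ (k + 2) - 1)) ∨
      (∃ k : ℕ, Nonempty (S ≃* QuaternionGroup (2 ^ (k + 1)))) := by
  obtain ⟨D⟩ := CfsgLib.MaxClassTwo.exists_data hn hcard hidx
  obtain ⟨j, rfl⟩ : ∃ j, n = j + 3 := ⟨n - 3, by omega⟩
  obtain ⟨a, b, k, hao, hindex, hnot, hconj, hinv, hsq, hder, -⟩ := D
  rw [show j + 3 - 1 = j + 2 by omega] at hao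
  rw [show j + 3 - 2 = j + 1 by omega] at hinv hsq
  have hcardtop : Nat.card (⊤ : Subgroup S) = 2 ^ (j + 3) := Subgroup.card_top.trans hcard
  have heq : ∀ x y : ℤ, a ^ x = a ^ y ↔ (2 : ℤ) ^ (j + 2) ∣ x - y := fun x y => by
    rw [← orderOf_dvd_sub_iff_zpow_eq_zpow, hao]; push_cast; rfl
  set t := a ^ 2 ^ (j + 1) with ht
  have ht2 : t * t = 1 := by
    rw [ht, ← pow_add, ← two_mul, ← pow_succ', ← hao, pow_orderOf_eq_one]
  have hb2 : b * b = 1 ∨ b * b = t := by
    obtain ⟨i, hi⟩ := mem_zpowers_iff.1 hsq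
    rcases Int.even_or_odd' i with ⟨l, rfl | rfl⟩
    · left
      rw [← sq, ← hi, zpow_mul, zpow_two, ht2, one_zpow]
    · right
      rw [← sq, ← hi, zpow_add, zpow_mul, zpow_two, ht2, one_zpow, one_mul, zpow_one]
  obtain ⟨l, hl⟩ := hinv
  rcases Int.even_or_odd' l with ⟨u, rfl | rfl⟩
  · -- `b` inverts `a`
    have hba : b * a * b⁻¹ = a⁻¹ := by
      rw [hconj, ← zpow_neg_one, heq]
      exact ⟨u, by linear_combination hl⟩
    rcases hb2 with h | h
    · left
      refine ⟨j, ?_⟩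
      obtain ⟨e⟩ := CfsgLib.TwoGroups.nonempty_equiv_dihedral (H := (⊤ : Subgroup S)) (mem_top a)
        (mem_top b) hao h hba hnot (by rw [hcardtop]; ring)
      exact ⟨Subgroup.topEquiv.symm.trans e⟩
    · right; right
      refine ⟨j, ?_⟩
      haveI : NeZero (2 ^ (j + 1)) := ⟨by positivity⟩
      obtain ⟨e⟩ := CfsgLib.TwoGroups.nonempty_equiv_quaternion (H := (⊤ : Subgroup S)) (mem_top a)
        (mem_top b) (m := 2 ^ (j + 1)) (by rw [hao]; ring) h hba hnot (by rw [hcardtop]; ring)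
      exact ⟨Subgroup.topEquiv.symm.trans e⟩
  · -- semidihedral
    right; left
    have hk : a ^ k = a ^ ((2 : ℤ) ^ (j + 1) - 1) := by
      rw [heq]; exact ⟨u, by linear_combination hl⟩
    rcases Nat.eq_zero_or_pos j with rfl | hj
    · exfalso
      have h1 : a ^ (k - 1) = 1 := by
        rw [zpow_sub, hk, zpow_one]
        norm_num
      have hb' := hder
      rw [h1, zpowers_one_eq_bot, le_bot_iff] at hb'
      rw [hb', index_bot, hcard] at hidx
      norm_num at hidx
    obtain ⟨i, rfl⟩ : ∃ i, j = i + 1 := ⟨j - 1, by omega⟩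
    refine ⟨i, by rw [hcard], ?_⟩
    have hpow : b * a * b⁻¹ = a ^ (2 ^ (i + 2) - 1 : ℕ) := by
      rw [hconj, hk, ← zpow_natCast a (2 ^ (i + 2) - 1), Nat.cast_sub (Nat.one_le_pow _ _ (by norm_num))]
      push_cast
      rfl
    rcases hb2 with h | h
    · refine ⟨a, b, hao, ?_, hpow⟩
      haveI : Fact (Nat.Prime 2) := ⟨Nat.prime_two⟩
      exact orderOf_eq_prime (by rw [sq, h]) (fun h1 => hnot (h1 ▸ one_mem _))
    · refine ⟨a, b * a, hao, ?_, ?_⟩
      · haveI : Fact (Nat.Prime 2) := ⟨Nat.prime_two⟩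
        refine orderOf_eq_prime ?_ (fun h1 => hnot ?_)
        · calc (b * a) ^ 2 = (b * a * b⁻¹) * (b * b) * a := by rw [sq]; group
            _ = a ^ k * t * a := by rw [hconj, h]
            _ = 1 := by
              rw [ht, ← zpow_natCast, hk, ← zpow_add, ← zpow_add_one, ← zpow_zero a, heq]
              exact ⟨1, by push_cast; ring⟩
        · rw [eq_inv_of_mul_eq_one_left h1]
          exact inv_mem (mem_zpowers a)
      · rw [← hpow]; group

/-- Let S be a finite 2-group whose commutator quotient S/[S,S] is a Klein four-group (order 4 and exponent 2). Then S itself has order 4, or S is dihedral of order at least 8, semidihedral of order at least 16 (order 2^(k+4) with an element a of order 2^(k+3) and an involution b with b a b⁻¹ = a^(2^(k+2)−1)), or generalized quaternion of order at least 8. -/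
theorem result {S : Type*} [Group S] [Finite S] (h2 : IsPGroup 2 S) (hab : Nat.card (Abelianization S) = 4)
    (hexp : ∀ x : Abelianization S, x ^ 2 = 1) :
    Nat.card S = 4 ∨
    ((∃ k : ℕ, Nonempty (S ≃* DihedralGroup (2 ^ (k + 2)))) ∨
      (∃ k : ℕ, Nat.card S = 2 ^ (k + 4) ∧ ∃ a b : S, orderOf a = 2 ^ (k + 3) ∧ orderOf b = 2 ∧ b * a * b⁻¹ = a ^ (2 ^ (k + 2) - 1)) ∨
      (∃ k : ℕ, Nonempty (S ≃* QuaternionGroup (2 ^ (k + 1))))) := by
  haveI : Fact (Nat.Prime 2) := ⟨Nat.prime_two⟩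
  obtain ⟨n, hn⟩ := IsPGroup.iff_card.1 h2
  have hidx : (commutator S).index = 4 := by
    rw [Subgroup.index_eq_card]; exact hab
  rcases Nat.lt_or_ge n 3 with h3 | h3
  · left
    have hd : (commutator S).index ∣ Nat.card S := Subgroup.index_dvd_card _
    rw [hidx, hn] at hd
    interval_cases n <;> simp_all
  · exact Or.inr (shape_of_index_four h3 hn hidx)

end Cfsg.Agent.S4399
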