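import Cfsg.Statements.S0731
import Cfsg.Agent.Classification.PSLTwoGeneral.ZassenhausAbelian

set_option autoImplicit false
open Cfsg

namespace Cfsg.Agent.S0731

/-- A finite Zassenhaus group whose point stabiliser has an abelian regular normal subgroup on the remaining points is sharply triply transitive or isomorphic to `PSL(2, F)` for a finite field `F` of odd characteristic. -/
theorem result {G Ω : Type*} [Group G] [Finite G] [MulAction G Ω] [Finite Ω] (hZ : Cfsg.IsZassenhausGroup G Ω) (x : Ω) (F : Subgroup G) (hFle : F ≤ MulAction.stabilizer G x) (hFn : (F.subgroupOf (MulAction.stabilizer G x)).Normal) (hFab : IsMulCommutative F) (hreg : ∀ y z : Ω, y ≠ x → z ≠ x → ∃! u : F, (u : G) • y = z) : (MulAction.IsMultiplyPretransitive G Ω 3 ∧ ∀ t : Fin 3 ↪ Ω, MulAction.stabilizer G t = ⊥) ∨ ∃ (K : Type) (_ : Field K) (_ : Fintype K), ringChar K ≠ 2 ∧ Nonempty (G ≃* Matrix.ProjectiveSpecialLinearGroup (Fin 2) K) := by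
  classical
  haveI := Fintype.ofFinite Ω
  obtain ⟨b, hb⟩ := CfsgLib.Zassenhaus.exists_ne hZ x
  have hfix : ∀ u ∈ F, u ≠ 1 → ∀ c : Ω, u • c = c → c = x := by
    intro u hu hu1 c hc
    by_contra hcx
    obtain ⟨w, -, hw⟩ := hreg c c hcx hcx
    exact hu1 (congrArg Subtype.val ((hw ⟨u, hu⟩ hc).trans (hw 1 (one_smul G c)).symm))
  have hcard : Nat.card F + 1 = Nat.card Ω := by
    have hne : ∀ u : F, (u : G) • b ≠ x := fun u h => hb
      ((smul_left_cancel_iff (u : G)).1 (h.trans (MulAction.mem_stabilizer_iff.1 (hFle u.2)).symm))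
    have hbij : Function.Bijective (fun u : F => (⟨(u : G) • b, hne u⟩ : {c : Ω // c ≠ x})) :=
      ⟨fun u v h => (hreg b _ hb (hne u)).unique rfl (congrArg Subtype.val h).symm,
        fun c => (hreg b c hb c.2).exists.imp fun u hu => Subtype.ext hu⟩
    rw [Nat.card_eq_of_bijective _ hbij, Nat.card_eq_fintype_card, Nat.card_eq_fintype_card,
      Fintype.card_subtype_compl, Fintype.card_subtype_eq]
    have : 0 < Fintype.card Ω := Fintype.card_pos_iff.2 ⟨x⟩
    omega
  rcases CfsgLib.Classification.PSLTwoGeneral.abelian_kernel_cases hZ hFle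
      (fun h hh u hu => hFn.conj_mem ⟨u, hFle hu⟩ hu ⟨h, hh⟩) hfix hcard
      (fun u hu v hv => congrArg Subtype.val (hFab.is_comm.comm ⟨u, hu⟩ ⟨v, hv⟩)) with
    h | ⟨K, fK, fFin, hodd, -, -, hiso⟩
  · exact Or.inl h
  · refine Or.inr ⟨K, fK, fFin, fun h2 => ?_, hiso⟩
    exact Nat.not_even_iff_odd.2 hodd (Nat.even_iff.2 (FiniteField.even_card_of_char_two h2))

end Cfsg.Agent.S0731
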