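import Cfsg.Statements.S0998
import Cfsg.Agent.LargePrime.PlusDegree
import Cfsg.Agent.S0252
import Cfsg.Agent.S0253
import Cfsg.Agent.Linear.Basic

set_option autoImplicit false
open Cfsg

namespace Cfsg.Agent.S0998

/-- `2 ^ m + 1` or `2 ^ m - 1` is divisible by three. -/
theorem three_dvd (m : ℕ) : (Even m → 3 ∣ 2 ^ m - 1) ∧ (Odd m → 3 ∣ 2 ^ m + 1) := by
  rcases Nat.even_or_odd' m with ⟨k, hk | hk⟩ <;> subst hk
  · refine ⟨fun _ => ?_, fun h => absurd h (by simp)⟩
    have : 2 ^ (2 * k) % 3 = 1 := by rw [pow_mul, Nat.pow_mod]; norm_num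
    omega
  · refine ⟨fun h => absurd h (by simp), fun _ => ?_⟩
    have : 2 ^ (2 * k + 1) % 3 = 2 := by
      rw [pow_succ, pow_mul, Nat.mul_mod, Nat.pow_mod]; norm_num
    omega

theorem eq_three {n : ℕ} (hn : n.Prime) (h : 3 ∣ n) : n = 3 :=
  ((Nat.prime_dvd_prime_iff_eq Nat.prime_three hn).1 h).symm

/-- Consecutive halves `2 ^ (m + 1) ± 1`, `2 ^ m ± 1` both prime. -/
theorem small_pair {p r m : ℕ} (hp : p.Prime) (hr : r.Prime) (hp3 : 3 < p)
    (h : (p = 2 * 2 ^ m + 1 ∧ r = 2 ^ m + 1) ∨ (p + 1 = 2 * 2 ^ m ∧ r + 1 = 2 ^ m)) :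
    p = 5 ∨ p = 7 := by
  have h1 := three_dvd m
  have h2 := three_dvd (m + 1)
  rw [pow_succ'] at h2
  rcases h with ⟨hA, hB⟩ | ⟨hA, hB⟩
  · rcases Nat.even_or_odd m with he | ho
    · have := eq_three hp (hA ▸ h2.2 he.add_one)
      omega
    · have := eq_three hr (hB ▸ h1.2 ho)
      omega
  · rcases Nat.even_or_odd m with he | ho
    · have h3 := h1.1 he
      rw [show 2 ^ m - 1 = r by omega] at h3
      have := eq_three hr h3
      omega
    · have h3 := h2.1 ho.add_one
      rw [show 2 * 2 ^ m - 1 = p by omega] at h3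
      have := eq_three hp h3
      omega

theorem eq_of_two_factors {r q b u v : ℕ} (hr : r.Prime) (hq : q.Prime) (hqr : q ≠ r)
    (hu : 1 < u) (h2u : ¬ 2 ∣ u) (hv : 2 ∣ v) 
    (h : r * q ^ b = v * u) : r = u ∨ r = 2 := by
  by_cases hr2 : r = 2
  · exact Or.inr hr2
  left
  have hq2 : q = 2 := by
    have h1 : 2 ∣ r * q ^ b := h ▸ hv.mul_right u
    rcases Nat.prime_two.dvd_mul.1 h1 with h2 | h2
    · exact absurd ((Nat.prime_dvd_prime_iff_eq Nat.prime_two hr).1 h2).symm hr2
    · exact ((Nat.prime_dvd_prime_iff_eq Nat.prime_two hq).1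
        (Nat.prime_two.dvd_of_dvd_pow h2)).symm
  subst hq2
  have h3 : u ∣ r := ((Nat.prime_two.coprime_iff_not_dvd.2 h2u).symm.pow_right b).dvd_of_dvd_mul_right
    ⟨v, by rw [h, mul_comm]⟩
  exact ((hr.eq_one_or_self_of_dvd u h3).resolve_left (by omega)).symm

theorem aux {G : Type*} [Group G] [Finite G] [IsSimpleGroup G] (hG : ¬ IsCyclic G) (p q r b : ℕ)
    (hp : p.Prime) (hq : q.Prime) (hr : r.Prime) (hpq : p ≠ q) (hqr : q ≠ r) (hrp : r < p)
    (hG' : Nat.card G = p * r * q ^ b) :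
    (∃ (F : Type) (_ : Field F) (_ : Fintype F), Fintype.card F = 5 ∧
      Nonempty (G ≃* Matrix.ProjectiveSpecialLinearGroup (Fin 2) F)) ∨
    (∃ (F : Type) (_ : Field F) (_ : Fintype F), Fintype.card F = 7 ∧
      Nonempty (G ≃* Matrix.ProjectiveSpecialLinearGroup (Fin 2) F)) := by
  have hna : ¬ IsMulCommutative G := fun hc => hG (by
    letI : CommGroup G := { (inferInstance : Group G) with mul_comm := hc.1.comm }
    infer_instance)
  have hr2 : r ≠ 2 := by
    rintro rfl
    have h4 := CfsgLib.Small.four_dvd_card_of_simple hna (hG' ▸ Dvd.intro (p * q ^ b) (by ring))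
    rw [hG'] at h4
    have h2 : 2 * 2 ∣ 2 * (p * q ^ b) := by
      rwa [show 2 * (p * q ^ b) = p * 2 * q ^ b by ring]
    rcases Nat.prime_two.dvd_mul.1 (Nat.dvd_of_mul_dvd_mul_left two_pos h2) with h | h
    · exact hrp.ne ((Nat.prime_dvd_prime_iff_eq Nat.prime_two hp).1 h)
    · exact hqr ((Nat.prime_dvd_prime_iff_eq Nat.prime_two hq).1
        (Nat.prime_two.dvd_of_dvd_pow h)).symm
  have hg : r < p - 1 := by
    rcases Nat.lt_or_ge r (p - 1) with h | h
    · exact h
    exfalso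
    have hr3 : 3 ≤ r := by have := hr.two_le; omega
    have hrodd := hr.eq_two_or_odd.resolve_left hr2
    have hpodd := hp.eq_two_or_odd.resolve_left (by omega)
    omega
  have hp3 : 3 < p := by have := hr.two_le; omega
  rcases CfsgLib.LargePrime.brauer_tuan hG p q b r hp hq hpq (by rw [hG']; ring) hg with
    ⟨m, F, i1, i2, hF, hm, ⟨φ⟩⟩ | ⟨m, F, i1, i2, hF, hm, -, ⟨φ⟩⟩
  · have hodd : Odd (Fintype.card F) := by
      rw [hF]; exact hp.odd_of_ne_two (by omega)
    have hc := CfsgLib.Linear.card_PSL_two_odd (F := F) hodd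
    rw [← Nat.card_congr φ.toEquiv, hG', hF] at hc
    have h1 : 2 * (r * q ^ b) = (p - 1) * (p + 1) := by
      have h2 : p ^ 2 - 1 = (p - 1) * (p + 1) := by
        rw [mul_comm, ← Nat.sq_sub_sq, one_pow]
      rw [h2] at hc
      refine Nat.eq_of_mul_eq_mul_left hp.pos ?_
      linarith
    rcases m with _ | _ | m
    · simp at hm; omega
    · simp at hm; omega
    have hpow : 2 ≤ 2 ^ (m + 1) := le_self_pow₀ (by norm_num) (by omega)
    rcases hm with hm | hm
    · have hu : 2 * 2 ^ (m + 1) + 1 = p := by rw [hm, pow_succ' 2 (m + 1)]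
      have h3 : r * q ^ b = (2 * 2 ^ (m + 1)) * (2 ^ (m + 1) + 1) := by
        refine Nat.eq_of_mul_eq_mul_left two_pos ?_
        rw [h1, ← hu, Nat.add_sub_cancel]; ring
      have h4 := eq_of_two_factors hr hq hqr (by omega)
        (by rw [pow_succ']; omega) (dvd_mul_right _ _) h3
      have h5 := small_pair hp hr hp3 (Or.inl ⟨hu.symm, h4.resolve_right hr2⟩)
      rcases h5 with h5 | h5
      · exact Or.inl ⟨F, i1, i2, hF.trans h5, ⟨φ⟩⟩
      · exact Or.inr ⟨F, i1, i2, hF.trans h5, ⟨φ⟩⟩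
    · have hu : p + 1 = 2 * 2 ^ (m + 1) := by
        rw [hm, pow_succ' 2 (m + 1)]; omega
      have h3 : r * q ^ b = (2 * 2 ^ (m + 1)) * (2 ^ (m + 1) - 1) := by
        refine Nat.eq_of_mul_eq_mul_left two_pos ?_
        rw [h1, hu, show p - 1 = 2 * (2 ^ (m + 1) - 1) by omega]; ring
      have hu1 : 1 < 2 ^ (m + 1) - 1 := by omega
      have h4 := eq_of_two_factors hr hq hqr hu1
        (by rw [pow_succ']; omega) (dvd_mul_right _ _) h3
      have h5 := small_pair hp hr hp3 (Or.inr ⟨hu, by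
        have := h4.resolve_right hr2; omega⟩)
      rcases h5 with h5 | h5
      · exact Or.inl ⟨F, i1, i2, hF.trans h5, ⟨φ⟩⟩
      · exact Or.inr ⟨F, i1, i2, hF.trans h5, ⟨φ⟩⟩
  · rcases m with _ | m
    · simp at hm; omega
    have heven : Even (Fintype.card F) := by rw [hF, pow_succ']; exact even_two_mul _
    have hc := CfsgLib.Linear.card_PSL_two_even (F := F) heven
    rw [← Nat.card_congr φ.toEquiv, hG', hF] at hc
    set Q := 2 ^ (m + 1) with hQ
    have hQ4 : 4 ≤ Q := by omega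
    have h3 : r * q ^ b = Q * (Q - 1) := by
      refine Nat.eq_of_mul_eq_mul_left hp.pos ?_
      rw [← mul_assoc, hc, show Q ^ 2 - 1 = (Q + 1) * (Q - 1) by rw [← Nat.sq_sub_sq, one_pow], hm]
      ring
    have hQ2 : 2 ∣ Q := dvd_pow_self 2 (by omega)
    have h4 := eq_of_two_factors hr hq hqr (show 1 < Q - 1 by omega) (by omega) hQ2
      h3
    have hQ' : Q = 4 := by
      rcases Nat.even_or_odd (m + 1) with he | ho
      · have h5 := (three_dvd (m + 1)).1 he
        rw [← hQ, ← h4.resolve_right hr2] at h5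
        have := eq_three hr h5
        omega
      · have h5 := (three_dvd (m + 1)).2 ho
        rw [← hQ, ← hm] at h5
        have := eq_three hp h5
        omega
    haveI : Fact (Nat.Prime 5) := ⟨by norm_num⟩
    obtain ⟨e4⟩ := Cfsg.Agent.S0252.result (F := F) (hF.trans hQ')
    obtain ⟨e5⟩ := Cfsg.Agent.S0253.result (F := ZMod 5) (ZMod.card 5)
    exact Or.inl ⟨ZMod 5, inferInstance, inferInstance, ZMod.card 5, ⟨(φ.trans e4).trans e5.symm⟩⟩

/-- A non-cyclic finite simple group whose order has the form p * r * q^b for distinct primes p, q, r is isomorphic to the projective special linear group of dimension 2 over the field with 5 or with 7 elements. -/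
theorem result {G : Type*} [Group G] [Finite G] [IsSimpleGroup G] (hG : ¬ IsCyclic G) (p q r b : ℕ) (hp : p.Prime) (hq : q.Prime) (hr : r.Prime) (hpq : p ≠ q) (hpr : p ≠ r) (hqr : q ≠ r) (hG' : Nat.card G = p * r * q ^ b) : (∃ (F : Type) (_ : Field F) (_ : Fintype F), Fintype.card F = 5 ∧ Nonempty (G ≃* Matrix.ProjectiveSpecialLinearGroup (Fin 2) F)) ∨ (∃ (F : Type) (_ : Field F) (_ : Fintype F), Fintype.card F = 7 ∧ Nonempty (G ≃* Matrix.ProjectiveSpecialLinearGroup (Fin 2) F)) := by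
  rcases Nat.lt_or_ge r p with h | h
  · exact aux hG p q r b hp hq hr hpq hqr h hG'
  · exact aux hG r q p b hr hq hp (Ne.symm hqr) (Ne.symm hpq) (lt_of_le_of_ne h hpr)
      (by rw [hG']; ring)

end Cfsg.Agent.S0998
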