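import Cfsg.Statements.S0976
import Cfsg.Agent.Small.NormalizerFusion
import Cfsg.Agent.Small.ClassCheck
-- import your own Cfsg.Agent.* helpers here

set_option autoImplicit false
set_option synthInstance.maxSize 4000
open Cfsg CfsgLib.Small CfsgLib.Small.Fusion

namespace Cfsg.Agent.S0976

variable {G : Type*} [Group G] [Finite G] [IsSimpleGroup G]

theorem case_eight (hG : ¬ IsMulCommutative G) [Fact (Nat.Prime 7)] (P : Sylow 7 G)
    (hP : Nat.card (P : Subgroup G) = 7) (hn : Nat.card (Sylow 7 G) = 8)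
    (hC : 2 ∣ Nat.card (C P)) : False := by
  obtain ⟨t, ht, hto⟩ := exists_orderOf Nat.prime_two hC
  have h1 := fixCard_mod P hP ht
  have h2 := fixCard_lt P (by omega) (ne_one_of_orderOf_two hto)
  have h3 := four_dvd_sub P hG (by omega) hto
  rw [hn] at h2 h3
  omega

theorem case_thirtySix (hN : Nat.card G = 4032) (hG : ¬ IsMulCommutative G)
    [Fact (Nat.Prime 7)] (P : Sylow 7 G)
    (hP : Nat.card (P : Subgroup G) = 7) (hn : Nat.card (Sylow 7 G) = 36)
    (hNc : Nat.card (N P) = 112) (hC : Nat.card (C P) = 56) : False := by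
  obtain ⟨T, hTN, hT⟩ := exists_two_subgroup_le (H := N P) (k := 4) (by rw [hNc]; norm_num)
  obtain ⟨t, ht, hto, hk⟩ := exists_invol_central P hP (by norm_num) hT hTN (by rw [hC]; norm_num)
  have ht1 := ne_one_of_orderOf_two hto
  have h1 := fixCard_mod P hP ht
  have h2 := fixCard_lt P (by omega) ht1
  have h3 := four_dvd_sub P hG (by omega) hto
  rw [hn] at h2 h3
  have hm := classCard_bound P hP (q := 2) (by norm_num)
    (orderOf_dvd_iff_pow_eq_one.1 (dvd_of_eq hto)) ht1
    fun h hh hth => mem_C_of_isConj P hP (by rw [hn]; omega) hh hth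
  have hid := fixCard_mul (N P) t
  rw [hNc, show fixCard (N P) t = 8 by omega] at hid
  rw [hC] at hm
  obtain ⟨n, hn7, hcard⟩ := exists_centralizer_eq P ht
  have hd := Subgroup.card_subgroup_dvd_card (Subgroup.centralizer ({t} : Set G))
  have hkN : Nat.card ↥(N P ⊓ Subgroup.centralizer ({t} : Set G)) ∣ 112 :=
    hNc ▸ Subgroup.card_dvd_of_le inf_le_left
  have hk' : Nat.card ↥(N P ⊓ Subgroup.centralizer ({t} : Set G)) = 112 := Nat.dvd_antisymm hkN hk
  rw [hk'] at hcard
  rw [hcard] at hid hd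
  rw [hN] at hd
  have hmn : classCard (N P) t * n = 8 := by
    have h896 : classCard (N P) t * n * 112 = 8 * 112 := by rw [mul_assoc, ← hid]
    omega
  have hall : ∀ m ∈ Nat.divisors 8, m < 8 → 8 / m % 7 = 1 → ¬ 8 / m * 112 ∣ 4032 := by
    decide +kernel
  have hm0 : 0 < classCard (N P) t := classCard_pos _ (C_le_N P ht)
  refine hall (classCard (N P) t) (Nat.mem_divisors.2 ⟨⟨n, hmn.symm⟩, by norm_num⟩) (by omega)
    ?_ ?_
  · rw [← hmn, Nat.mul_div_cancel_left _ hm0]; exact hn7
  · rw [← hmn, Nat.mul_div_cancel_left _ hm0]; exact hd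

theorem case_sixtyFour (hN : Nat.card G = 4032) (hG : ¬ IsMulCommutative G)
    [Fact (Nat.Prime 7)] (P : Sylow 7 G)
    (hP : Nat.card (P : Subgroup G) = 7) (hn : Nat.card (Sylow 7 G) = 64)
    (hNc : Nat.card (N P) = 63) (hC : Nat.card (C P) = 21) (he : (C P).relIndex (N P) = 3) :
    False := by
  haveI : Fact (Nat.Prime 3) := ⟨by norm_num⟩
  obtain ⟨S₀, hS₀⟩ := Sylow.exists_subgroup_card_pow_prime (G := ↥(N P)) 3 (n := 2)
    (by rw [hNc]; norm_num)
  set S' := S₀.map (N P).subtype with hS'def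
  have hS' : Nat.card S' = 3 ^ 2 := by
    rw [← Nat.card_congr (S₀.equivMapOfInjective _ (N P).subtype_injective).toEquiv, hS₀]
  have hSN : S' ≤ N P := Subgroup.map_subtype_le _
  haveI : IsMulCommutative ↥S' := IsPGroup.isMulCommutative_of_card_eq_prime_sq hS'
  obtain ⟨y, hy1, hyS, hyC⟩ := exists_ne_one_mem_centralizer_of_not_dvd hSN
    (by rw [hS']; change ¬ _ ∣ (C P).relIndex (N P); rw [he]; norm_num)
  have hyo : orderOf y = 3 := by
    have h1 := Subgroup.orderOf_dvd_natCard S' hyS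
    have h2 := Subgroup.orderOf_dvd_natCard (C P) hyC
    rw [hS'] at h1
    rw [hC] at h2
    rcases (Nat.dvd_prime Nat.prime_three).1 (Nat.dvd_gcd h1 h2) with h | h
    · exact absurd (orderOf_eq_one_iff.1 h) hy1
    · exact h
  have hSy : S' ≤ Subgroup.centralizer ({y} : Set G) := fun s hs =>
    Subgroup.mem_centralizer_singleton_iff.2 (congrArg Subtype.val
      (mul_comm' (⟨s, hs⟩ : S') ⟨y, hyS⟩) :)
  have hkN : Nat.card ↥(N P ⊓ Subgroup.centralizer ({y} : Set G)) ∣ 63 :=
    hNc ▸ Subgroup.card_dvd_of_le inf_le_left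
  have hk63 : Nat.card ↥(N P ⊓ Subgroup.centralizer ({y} : Set G)) = 63 := by
    refine Nat.dvd_antisymm hkN ?_
    rw [show 63 = 3 ^ 2 * 7 by norm_num]
    refine Nat.Coprime.mul_dvd_of_dvd_of_dvd (by norm_num) ?_ ?_
    · exact hS' ▸ Subgroup.card_dvd_of_le (le_inf hSN hSy)
    · have h := Subgroup.card_dvd_of_le
        (le_inf Subgroup.le_normalizer (sylow_le_centralizer_singleton P hyC) :
          (P : Subgroup G) ≤ N P ⊓ Subgroup.centralizer ({y} : Set G))
      simpa [hP] using h
  obtain ⟨n, hn7, hcard⟩ := exists_centralizer_eq P hyC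
  rw [hk63] at hcard
  have hd := Subgroup.card_subgroup_dvd_card (Subgroup.centralizer ({y} : Set G))
  rw [hN, hcard, show 4032 = 64 * 63 by norm_num] at hd
  have hn64 : n ∣ 64 := (Nat.mul_dvd_mul_iff_right (by norm_num)).1 hd
  have hlt : n < 64 := by
    refine lt_of_le_of_ne (Nat.le_of_dvd (by norm_num) hn64) fun h => ?_
    refine centralizer_singleton_ne_top hG hy1 (Subgroup.eq_top_of_card_eq _ ?_)
    rw [hcard, hN, h]
  have hid := fixCard_mul (N P) y
  rw [hNc, hcard, ← mul_assoc] at hid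
  have hf : fixCard (N P) y = classCard (N P) y * n :=
    Nat.eq_of_mul_eq_mul_right (by norm_num) hid
  have h1 := fixCard_mod P hP hyC
  have h2 := fixCard_lt P (by omega) hy1
  have h3 := fixCard_modEq_index (N P) hyo
  rw [index_N, hn] at h3
  rw [hn] at h2
  have hsmall : fixCard (N P) y = 1 := by
    by_contra hne
    have hm := classCard_bound P hP (q := 3) (by norm_num)
      (orderOf_dvd_iff_pow_eq_one.1 (dvd_of_eq hyo)) hy1
      fun h hh hth => mem_C_of_isConj P hP (by rw [hn]; omega) hh hth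
    rw [hC] at hm
    have hall : ∀ m < 3, ∀ n ∈ Nat.divisors 64, n < 64 → n % 7 = 1 → m * n % 7 = 1 →
        1 = m * n % 3 → m * n ≠ 1 → False := by decide +kernel
    exact hall (classCard (N P) y) (by omega) n (Nat.mem_divisors.2 ⟨hn64, by norm_num⟩) hlt hn7
      (hf ▸ h1) (by rw [← hf]; omega) (hf ▸ hne)
  obtain ⟨hm1, hn1⟩ : classCard (N P) y = 1 ∧ n = 1 := mul_eq_one.1 (hf.symm.trans hsmall)
  have huniq : ∀ h ∈ N P, IsConj y h → h = y := fun h hh hth => by
    haveI : Subsingleton {h : G // h ∈ N P ∧ IsConj y h} :=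
      (Nat.card_eq_one_iff_unique.1 hm1).1
    exact congrArg Subtype.val (Subsingleton.elim (⟨h, hh, hth⟩ : {h : G // h ∈ N P ∧ IsConj y h})
      ⟨y, C_le_N P hyC, IsConj.refl y⟩)
  rw [hn1, one_mul] at hcard
  have hCy : Subgroup.centralizer ({y} : Set G) = N P := by
    have h : N P ⊓ Subgroup.centralizer ({y} : Set G) = Subgroup.centralizer ({y} : Set G) :=
      Subgroup.eq_of_le_of_card_ge inf_le_right (le_of_eq (hcard.trans hk63.symm))
    exact Subgroup.eq_of_le_of_card_ge (inf_eq_right.1 h) (le_of_eq (hNc.trans hcard.symm))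
  obtain ⟨S, hS⟩ := (IsPGroup.of_card hS').exists_le_sylow
  have hSc : Nat.card (S : Subgroup G) = 3 ^ 2 :=
    card_sylow_eq (k := 2) (m := 448) (by rw [hN]; norm_num) (by norm_num) S
  have hSeq : S' = (S : Subgroup G) :=
    Subgroup.eq_of_le_of_card_ge hS (le_of_eq (hSc.trans hS'.symm))
  have hNS : Subgroup.normalizer ((S : Subgroup G) : Set G) ≤ N P := by
    intro g hg
    have hmem : g * y * g⁻¹ ∈ S' := by
      rw [hSeq] at hyS ⊢
      exact (Subgroup.mem_normalizer_iff.1 hg y).1 hyS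
    rw [← hCy, Subgroup.mem_centralizer_singleton_iff]
    exact mul_inv_eq_iff_eq_mul.1 (huniq _ (hSN hmem) (isConj_iff.2 ⟨g, rfl⟩))
  refine not_normalizer_le_centralizer hG (hN ▸ by norm_num) S ?_
  have hsub : Nat.card (Subgroup.normalizer ((S : Subgroup G) : Set G)) ∣ 63 :=
    hNc ▸ Subgroup.card_dvd_of_le hNS
  have hsup : 3 ^ 2 ∣ Nat.card (Subgroup.normalizer ((S : Subgroup G) : Set G)) :=
    hSc ▸ Subgroup.card_dvd_of_le Subgroup.le_normalizer
  have hall : ∀ d ∈ Nat.divisors 63, 3 ^ 2 ∣ d → d = 9 ∨ d = 63 := by decide +kernel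
  rcases hall _ (Nat.mem_divisors.2 ⟨hsub, by norm_num⟩) hsup with h | h
  · have heq : (S : Subgroup G) = Subgroup.normalizer ((S : Subgroup G) : Set G) :=
      Subgroup.eq_of_le_of_card_ge Subgroup.le_normalizer (le_of_eq (h.trans hSc.symm))
    rw [← heq, ← hSeq]
    exact fun s hs => Subgroup.mem_centralizer_iff.2 fun b hb =>
      (congrArg Subtype.val (mul_comm' (⟨b, hb⟩ : S') ⟨s, hs⟩) :)
  · exfalso
    have heq : Subgroup.normalizer ((S : Subgroup G) : Set G) = N P :=
      Subgroup.eq_of_le_of_card_ge hNS (le_of_eq (hNc.trans h.symm))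
    have hle : S' ≤ C P := by
      intro s hs
      refine Subgroup.mem_centralizer_iff.2 fun a ha => ?_
      have haN : a ∈ Subgroup.normalizer ((S : Subgroup G) : Set G) :=
        heq ▸ Subgroup.le_normalizer ha
      have hc1 : a * s * a⁻¹ * s⁻¹ ∈ S' := by
        rw [hSeq] at hs ⊢
        exact mul_mem ((Subgroup.mem_normalizer_iff.1 haN s).1 hs) (inv_mem hs)
      have hc2 : a * s * a⁻¹ * s⁻¹ ∈ (P : Subgroup G) := by
        rw [show a * s * a⁻¹ * s⁻¹ = a * (s * a⁻¹ * s⁻¹) by group]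
        exact mul_mem ha ((Subgroup.mem_normalizer_iff.1 (hSN hs) a⁻¹).1 (inv_mem ha))
      have hone : a * s * a⁻¹ * s⁻¹ = 1 := by
        have d1 := Subgroup.orderOf_dvd_natCard S' hc1
        have d2 := Subgroup.orderOf_dvd_natCard (P : Subgroup G) hc2
        rw [hS'] at d1
        exact orderOf_eq_one_iff.1 (Nat.eq_one_of_dvd_coprimes (a := 3 ^ 2) (b := 7)
          (by norm_num) d1 (by simpa [hP] using d2))
      exact mul_inv_eq_iff_eq_mul.1 (mul_inv_eq_one.1 hone)
    have h9 := Subgroup.card_dvd_of_le hle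
    rw [hS', hC] at h9
    norm_num at h9

theorem case_twoEightyEight (hN : Nat.card G = 4032) (hG : ¬ IsMulCommutative G)
    [Fact (Nat.Prime 7)] (P : Sylow 7 G)
    (hP : Nat.card (P : Subgroup G) = 7) (hNc : Nat.card (N P) = 14) (hC : Nat.card (C P) = 7) :
    False := by
  have hCP : Subgroup.centralizer ((P : Subgroup G) : Set G) = P := by
    haveI : IsCyclic ↥(P : Subgroup G) := isCyclic_of_prime_card hP
    exact (Subgroup.eq_of_le_of_card_ge (Subgroup.le_centralizer _)
      (le_of_eq (hC.trans hP.symm))).symm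
  obtain ⟨t, ht, hto⟩ := exists_orderOf (H := N P) Nat.prime_two (by rw [hNc]; norm_num)
  have hd := Subgroup.card_subgroup_dvd_card (Subgroup.centralizer ({t} : Set G))
  rw [hN] at hd
  have h2 : 2 ∣ Nat.card (Subgroup.centralizer ({t} : Set G)) :=
    hto ▸ Subgroup.orderOf_dvd_natCard _ (Subgroup.mem_centralizer_singleton_iff.2 rfl)
  have hlt : Nat.card (Subgroup.centralizer ({t} : Set G)) ≤ 2016 := by
    have hidx := (Subgroup.centralizer ({t} : Set G)).index_mul_card
    have h2i := two_lt_index hG _ (centralizer_singleton_ne_top hG (ne_one_of_orderOf_two hto))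
    rw [hN] at hidx
    nlinarith
  refine Check.false_of_check hG hN (P : Subgroup G) hP hCP 2 3 64 hNc rfl (by norm_num)
    (by norm_num) hto ⟨t, ht, IsConj.refl t⟩
    ((List.range 2017).filter fun C => decide (4032 % C = 0 ∧ C % 2 = 0)) ?_ (by decide +kernel)
  rw [List.mem_filter, List.mem_range, decide_eq_true_eq]
  exact ⟨by omega, Nat.mod_eq_zero_of_dvd hd, Nat.mod_eq_zero_of_dvd h2⟩

/-- No finite simple group has order 4032 = 2^6 * 3^2 * 7. -/
theorem result {G : Type*} [Group G] [Finite G] [IsSimpleGroup G] : Nat.card G ≠ 4032 := by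
  intro hN
  have hG := not_comm_of_card hN (by norm_num)
  haveI : Fact (Nat.Prime 7) := ⟨by norm_num⟩
  obtain ⟨P⟩ : Nonempty (Sylow 7 G) := inferInstance
  have hP : Nat.card (P : Subgroup G) = 7 := by
    simpa using card_sylow_eq (k := 1) (m := 576) (by rw [hN]; norm_num) (by norm_num) P
  have hn := card_sylow_mem hG (p := 7) (k := 1) (m := 576) (by rw [hN]; norm_num) one_ne_zero
    (by norm_num)
  rw [show (Nat.divisors 576).filter (fun d => d % 7 = 1 ∧ d ≠ 1) = {8, 36, 64, 288} by
    decide +kernel] at hn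
  simp only [Finset.mem_insert, Finset.mem_singleton] at hn
  have hNn := card_sylow_mul_card_normalizer P
  rw [hN] at hNn
  change _ * Nat.card (N P) = 4032 at hNn
  obtain ⟨hr1, hr2, hr3⟩ :=
    Finset.mem_filter.1 (relIndex_centralizer_mem hG P hP (n := Nat.card (N P)) rfl)
  have hmul := card_centralizer_mul_relIndex (P : Subgroup G)
  change (C P).relIndex (N P) ∈ _ at hr1
  change (C P).relIndex (N P) ∣ _ at hr2
  change (C P).relIndex (N P) ≠ 1 at hr3
  change Nat.card (C P) * (C P).relIndex (N P) = Nat.card (N P) at hmul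
  have he : ∀ e ∈ Nat.divisors (7 - 1), e ≠ 1 → e = 2 ∨ e = 3 ∨ e = 6 := by decide
  rcases hn with h | h | h | h
  · have hNc : Nat.card (N P) = 504 := by rw [h] at hNn; omega
    refine case_eight hG P hP h ?_
    rcases he _ hr1 hr3 with e | e | e <;> rw [e, hNc] at hmul <;>
      exact ⟨Nat.card (C P) / 2, by omega⟩
  · have hNc : Nat.card (N P) = 112 := by rw [h] at hNn; omega
    rcases he _ hr1 hr3 with e | e | e <;> rw [e, hNc] at hmul hr2
    · exact case_thirtySix hN hG P hP h hNc (by omega)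
    · norm_num at hr2
    · norm_num at hr2
  · have hNc : Nat.card (N P) = 63 := by rw [h] at hNn; omega
    rcases he _ hr1 hr3 with e | e | e <;> rw [e, hNc] at hmul hr2
    · norm_num at hr2
    · exact case_sixtyFour hN hG P hP h hNc (by omega) e
    · norm_num at hr2
  · have hNc : Nat.card (N P) = 14 := by rw [h] at hNn; omega
    rcases he _ hr1 hr3 with e | e | e <;> rw [e, hNc] at hmul hr2
    · exact case_twoEightyEight hN hG P hP hNc (by omega)
    · norm_num at hr2
    · norm_num at hr2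

end Cfsg.Agent.S0976
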