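import Cfsg.Statements.S0977
import Cfsg.Agent.Small.ThirtySixConj
import Cfsg.Agent.Small.ClassCheck
-- import your own Cfsg.Agent.* helpers here

set_option autoImplicit false
set_option synthInstance.maxSize 4000
open Cfsg CfsgLib.Small CfsgLib.Small.Fusion

namespace Cfsg.Agent.S0977

variable {G : Type*} [Group G] [Finite G] [IsSimpleGroup G]

theorem orderOf_conj {t h : G} (hth : IsConj t h) : orderOf h = orderOf t := by
  obtain ⟨g, hg⟩ := isConj_iff.1 hth
  rw [← hg, ← MulAut.conj_apply, MulEquiv.orderOf_eq]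

theorem case_sixteen (hG : ¬ IsMulCommutative G) [Fact (Nat.Prime 5)] (P : Sylow 5 G)
    (hP : Nat.card (P : Subgroup G) = 5) (hn : Nat.card (Sylow 5 G) = 16)
    (hC : Nat.card (C P) = 135) : False := by
  haveI : Fact (Nat.Prime 3) := ⟨by norm_num⟩
  obtain ⟨R₀, hR₀⟩ := Sylow.exists_subgroup_card_pow_prime (G := ↥(C P)) 3 (n := 3)
    (by rw [hC]; norm_num)
  set R := R₀.map (C P).subtype with hRdef
  have hR : Nat.card R = 27 := by
    rw [← Nat.card_congr (R₀.equivMapOfInjective _ (C P).subtype_injective).toEquiv, hR₀]; norm_num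
  have hf : ∀ a ∈ R, a ≠ 1 → Nat.card (MulAction.fixedBy (G ⧸ N P) a) = 1 := by
    intro a ha ha1
    have h1 := fixCard_mod P hP (Subgroup.map_subtype_le R₀ ha)
    have h2 := fixCard_lt P (by omega) ha1
    have h3 := card_fixedBy_modEq_index (q := 3) (k := 3) (N P) (x := a)
      (orderOf_dvd_iff_pow_eq_one.1 (by
        have h := Subgroup.orderOf_dvd_natCard R ha
        rw [hR] at h
        simpa using h))
    rw [index_N, hn] at h3
    rw [hn] at h2
    change 16 % 3 = fixCard (N P) a % 3 at h3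
    show fixCard (N P) a = 1
    omega
  have h := card_dvd_sum_fixedBy R (N P) 1 hf
  rw [hR, index_N, hn] at h
  norm_num at h

theorem case_thirtySix (hN : Nat.card G = 4320) (hG : ¬ IsMulCommutative G)
    [Fact (Nat.Prime 5)] (P : Sylow 5 G)
    (hP : Nat.card (P : Subgroup G) = 5) (hn : Nat.card (Sylow 5 G) = 36)
    (hNc : Nat.card (N P) = 120) (hC : 2 ∣ Nat.card (C P)) (hC' : Nat.card (C P) ≤ 60) : False := by
  haveI : Fact (Nat.Prime 3) := ⟨by norm_num⟩
  obtain ⟨T, hTN, hT⟩ := exists_two_subgroup_le (H := N P) (k := 3) (by rw [hNc]; norm_num)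
  obtain ⟨t, ht, hto, hk⟩ := exists_invol_central P hP (by norm_num) hT hTN hC
  have ht1 := ne_one_of_orderOf_two hto
  have h1 := fixCard_mod P hP ht
  have h2 := fixCard_lt P (by omega) ht1
  have h3 := four_dvd_sub P hG (by omega) hto
  rw [hn] at h2 h3
  have hall : ∀ h ∈ N P, IsConj t h → h ∈ C P := fun h hh hth =>
    mem_C_of_isConj P hP (by rw [hn]; omega) hh hth
  have hm := classCard_bound P hP (q := 2) (by norm_num)
    (orderOf_dvd_iff_pow_eq_one.1 (dvd_of_eq hto)) ht1 hall
  have hid := fixCard_mul (N P) t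
  rw [hNc, show fixCard (N P) t = 16 by omega] at hid
  have hm0 : 0 < classCard (N P) t := classCard_pos _ (C_le_N P ht)
  obtain ⟨n, hn5, hcard⟩ := exists_centralizer_eq P ht
  have hd := Subgroup.card_subgroup_dvd_card (Subgroup.centralizer ({t} : Set G))
  have hkN : Nat.card ↥(N P ⊓ Subgroup.centralizer ({t} : Set G)) ∣ 120 :=
    hNc ▸ Subgroup.card_dvd_of_le inf_le_left
  rw [hN] at hd
  have hcm : 1920 / classCard (N P) t = Nat.card (Subgroup.centralizer ({t} : Set G)) := by
    rw [show 1920 = 16 * 120 by norm_num, hid, Nat.mul_div_cancel_left _ hm0]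
  have hk0 : 0 < Nat.card ↥(N P ⊓ Subgroup.centralizer ({t} : Set G)) := Nat.card_pos
  have hall' : ∀ m < 12, ∀ k ∈ Nat.divisors 120, 40 ∣ k → m ∣ 1920 → 1920 / m ∣ 4320 →
      k ∣ 1920 / m → 1920 / m / k % 5 = 1 → m = 8 := by decide +kernel
  have hm8 := hall' (classCard (N P) t) (by omega) _
    (Nat.mem_divisors.2 ⟨hkN, by norm_num⟩) hk ⟨_, hid⟩ (by rw [hcm]; exact hd)
    (by rw [hcm]; exact Dvd.intro_left n hcard.symm)
    (by rw [hcm, hcard, Nat.mul_div_cancel _ hk0]; exact hn5)
  have hct : Nat.card (Subgroup.centralizer ({t} : Set G)) = 240 := by rw [← hcm, hm8]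
  -- an element of order three fixes one of the eight conjugates
  obtain ⟨x, hx, hxo⟩ := exists_orderOf (H := N P) Nat.prime_three (by rw [hNc]; norm_num)
  let α := {h : G // h ∈ N P ∧ IsConj t h}
  letI : MulAction (Subgroup.zpowers x) α :=
    { smul := fun a z => ⟨(a : G) * z.1 * (a : G)⁻¹,
        mul_mem (mul_mem (Subgroup.zpowers_le.2 hx a.2) z.2.1)
          (inv_mem (Subgroup.zpowers_le.2 hx a.2)), z.2.2.trans (isConj_iff.2 ⟨a, rfl⟩)⟩
      one_smul := fun z => Subtype.ext (by
        show ((1 : Subgroup.zpowers x) : G) * z.1 * ((1 : Subgroup.zpowers x) : G)⁻¹ = z.1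
        simp)
      mul_smul := fun a b z => Subtype.ext (by
        show ((a * b : Subgroup.zpowers x) : G) * z.1 * ((a * b : Subgroup.zpowers x) : G)⁻¹
          = (a : G) * ((b : G) * z.1 * (b : G)⁻¹) * (a : G)⁻¹
        simp [mul_assoc]) }
  have hX : IsPGroup 3 ↥(Subgroup.zpowers x) :=
    IsPGroup.of_card (n := 1) (by rw [Nat.card_zpowers, hxo, pow_one])
  obtain ⟨z, hz⟩ := hX.nonempty_fixed_point_of_prime_not_dvd_card α (by
    show ¬ 3 ∣ classCard (N P) t
    rw [hm8]; norm_num)
  have hzx : x * z.1 * x⁻¹ = z.1 := congrArg Subtype.val (hz ⟨x, Subgroup.mem_zpowers x⟩)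
  have hzC := hall z.1 z.2.1 z.2.2
  obtain ⟨n', hn', hcard'⟩ := exists_centralizer_eq P hzC
  have hcz : Nat.card (Subgroup.centralizer ({z.1} : Set G)) = 240 := by
    rw [← hct]
    obtain ⟨g, hg⟩ := isConj_iff.1 z.2.2
    rw [← hg]
    refine Nat.card_congr ((MulAut.conj g).toEquiv.subtypeEquiv fun a => ?_).symm
    rw [Subgroup.mem_centralizer_singleton_iff, Subgroup.mem_centralizer_singleton_iff]
    show a * t = t * a ↔ g * a * g⁻¹ * (g * t * g⁻¹) = g * t * g⁻¹ * (g * a * g⁻¹)
    simp only [show g * a * g⁻¹ * (g * t * g⁻¹) = g * (a * t) * g⁻¹ by group,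
      show g * t * g⁻¹ * (g * a * g⁻¹) = g * (t * a) * g⁻¹ by group, mul_left_inj, mul_right_inj]
  have hk'N : Nat.card ↥(N P ⊓ Subgroup.centralizer ({z.1} : Set G)) ∣ 120 :=
    hNc ▸ Subgroup.card_dvd_of_le inf_le_left
  have hk'2 : 2 ∣ Nat.card ↥(N P ⊓ Subgroup.centralizer ({z.1} : Set G)) := by
    rw [← hto, ← orderOf_conj z.2.2]
    exact Subgroup.orderOf_dvd_natCard _ ⟨z.2.1, Subgroup.mem_centralizer_singleton_iff.2 rfl⟩
  have hk'5 : 5 ∣ Nat.card ↥(N P ⊓ Subgroup.centralizer ({z.1} : Set G)) := by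
    have h5 := Subgroup.card_dvd_of_le
      (le_inf Subgroup.le_normalizer (sylow_le_centralizer_singleton P hzC) :
        (P : Subgroup G) ≤ N P ⊓ Subgroup.centralizer ({z.1} : Set G))
    simpa [hP] using h5
  have hk'3 : 3 ∣ Nat.card ↥(N P ⊓ Subgroup.centralizer ({z.1} : Set G)) := by
    rw [← hxo]
    exact Subgroup.orderOf_dvd_natCard _
      ⟨hx, Subgroup.mem_centralizer_singleton_iff.2 (mul_inv_eq_iff_eq_mul.1 hzx)⟩
  rw [hcz] at hcard'
  have hall'' : ∀ k ∈ Nat.divisors 120, 2 ∣ k → 5 ∣ k → 3 ∣ k → k ∣ 240 →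
      240 / k % 5 ≠ 1 := by decide +kernel
  refine hall'' _ (Nat.mem_divisors.2 ⟨hk'N, by norm_num⟩) hk'2 hk'5 hk'3
    (Dvd.intro_left n' hcard'.symm) ?_
  rw [hcard', Nat.mul_div_cancel _ Nat.card_pos]
  exact hn'

theorem case_ten (hN : Nat.card G = 4320) (hG : ¬ IsMulCommutative G)
    [Fact (Nat.Prime 5)] (P : Sylow 5 G)
    (hP : Nat.card (P : Subgroup G) = 5) (hn : Nat.card (Sylow 5 G) = 216)
    (hNc : Nat.card (N P) = 20) (hC : Nat.card (C P) = 10) : False := by
  classical
  obtain ⟨T, hTN, hT⟩ := exists_two_subgroup_le (H := N P) (k := 2) (by rw [hNc]; norm_num)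
  obtain ⟨t, ht, hto, hk⟩ := exists_invol_central P hP (by norm_num) hT hTN (by rw [hC]; norm_num)
  have ht1 := ne_one_of_orderOf_two hto
  have hkN : Nat.card ↥(N P ⊓ Subgroup.centralizer ({t} : Set G)) ∣ 20 :=
    hNc ▸ Subgroup.card_dvd_of_le inf_le_left
  have hk20 : Nat.card ↥(N P ⊓ Subgroup.centralizer ({t} : Set G)) = 20 :=
    Nat.dvd_antisymm hkN hk
  have hcen : N P ≤ Subgroup.centralizer ({t} : Set G) := inf_eq_left.1
    (Subgroup.eq_of_le_of_card_ge inf_le_left (le_of_eq (hNc.trans hk20.symm)))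
  have huniq : ∀ h ∈ C P, orderOf h = 2 → h = t := fun h hh hho => by
    by_contra hne
    have h4 := four_dvd_of_commuting_involutions (H := C P) hh ht hho hto hne
      (Subgroup.mem_centralizer_singleton_iff.1 (hcen (C_le_N P hh)))
    rw [hC] at h4
    norm_num at h4
  -- at most eleven conjugates of `t` in `N`
  have hm11 : classCard (N P) t ≤ 11 := by
    have hc : Nat.card {x : ↥(N P) // x ∉ (C P).subgroupOf (N P)} = 10 := by
      haveI := Fintype.ofFinite ↥(N P)
      rw [Nat.card_eq_fintype_card, Fintype.card_subtype_compl, ← Nat.card_eq_fintype_card,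
        ← Nat.card_eq_fintype_card, hNc]
      show 20 - Nat.card ((C P).subgroupOf (N P)) = 10
      rw [Nat.card_congr (Subgroup.subgroupOfEquivOfLe (C_le_N P)).toEquiv, hC]
    rw [show 11 = Nat.card (Option {x : ↥(N P) // x ∉ (C P).subgroupOf (N P)}) by
      rw [Finite.card_option, hc]]
    refine Nat.card_le_card_of_injective (fun h => if hh : h.1 ∈ C P then none
      else some ⟨⟨h.1, h.2.1⟩, hh⟩) fun a b hab => ?_
    simp only at hab
    split_ifs at hab with ha hb hb
    · exact Subtype.ext ((huniq _ ha ((orderOf_conj a.2.2).trans hto)).trans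
        (huniq _ hb ((orderOf_conj b.2.2).trans hto)).symm)
    · exact Subtype.ext (congrArg (fun x => ((x.1 : ↥(N P)) : G)) (Option.some.inj hab) :)
  obtain ⟨n, hn5, hcard⟩ := exists_centralizer_eq P ht
  rw [hk20] at hcard
  have hd := Subgroup.card_subgroup_dvd_card (Subgroup.centralizer ({t} : Set G))
  rw [hN, hcard, show 4320 = 216 * 20 by norm_num] at hd
  have hn216 : n ∣ 216 := (Nat.mul_dvd_mul_iff_right (by norm_num)).1 hd
  have hidx := (Subgroup.centralizer ({t} : Set G)).index_mul_card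
  rw [hN, hcard] at hidx
  have hMtop := centralizer_singleton_ne_top hG ht1
  have h6 := lt_index_of_not_dvd hG hMtop (b := 6) (by rw [hN]; decide +kernel)
  have hid := fixCard_mul (N P) t
  rw [hNc, hcard, ← mul_assoc] at hid
  have hf : fixCard (N P) t = classCard (N P) t * n :=
    Nat.eq_of_mul_eq_mul_right (by norm_num) hid
  have h1 := fixCard_mod P hP ht
  have h2 := fixCard_lt P (by omega) ht1
  have h3 := four_dvd_sub P hG (by omega) hto
  rw [hn] at h2 h3
  have hn6 : n = 6 := by
    have hall : ∀ m < 12, ∀ n ∈ Nat.divisors 216, n % 5 = 1 → m * n % 5 = 1 → m * n < 216 →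
        4 ∣ 216 - m * n → (44 < m * n → m ≤ 1) → 6 < 216 / n → n = 6 := by decide +kernel
    refine hall (classCard (N P) t) (by omega) n (Nat.mem_divisors.2 ⟨hn216, by norm_num⟩) hn5
      (hf ▸ h1) (hf ▸ h2) (hf ▸ h3) (fun hbig => ?_) ?_
    · have hm := classCard_bound P hP (q := 2) (by norm_num)
        (orderOf_dvd_iff_pow_eq_one.1 (dvd_of_eq hto)) ht1 fun h hh hth =>
          mem_C_of_isConj P hP (by rw [hn, hf]; omega) hh hth
      rw [hC] at hm
      omega
    · have hi : 216 / n = (Subgroup.centralizer ({t} : Set G)).index := by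
        have hi' : (Subgroup.centralizer ({t} : Set G)).index * n * 20 = 216 * 20 := by
          rw [mul_assoc]; exact hidx
        rw [← Nat.eq_of_mul_eq_mul_right (by norm_num) hi',
          Nat.mul_div_cancel _ (Nat.pos_of_dvd_of_pos hn216 (by norm_num))]
      rw [hi]; exact h6
  rw [hn6] at hcard hidx
  have hM : Nat.card (Subgroup.centralizer ({t} : Set G)) = 120 := hcard.trans (by norm_num)
  have hi36 : (Subgroup.centralizer ({t} : Set G)).index = 36 := by omega
  obtain ⟨a, haP, hao⟩ := exists_orderOf (H := (P : Subgroup G)) (q := 5) (by norm_num) (by rw [hP])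
  have ha1 : a ≠ 1 := fun h => by rw [h, orderOf_one] at hao; norm_num at hao
  have hfix : fixCard (Subgroup.centralizer ({t} : Set G)) t = 16 := by
    have hta : Commute t a := (Subgroup.mem_centralizer_iff.1 ht a haP).symm
    have g1 := fixCard_centralizer_modEq (q := 5) (k := 1) hta
      (by rw [pow_one, ← hao, pow_orderOf_eq_one])
    have hone : Nat.card {h : G // IsConj t h ∧ Commute t h ∧ Commute a h} = 1 := by
      refine Nat.card_eq_one_iff_unique.2 ⟨⟨fun u v => ?_⟩, ⟨⟨t, IsConj.refl t, Commute.refl t, hta.symm⟩⟩⟩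
      have key : ∀ w : {h : G // IsConj t h ∧ Commute t h ∧ Commute a h}, w.1 = t := fun w =>
        huniq _ (mem_centralizer_of_commute_prime hP haP ha1 w.2.2.2.symm)
          ((orderOf_conj w.2.1).trans hto)
      exact Subtype.ext ((key u).trans (key v).symm)
    rw [hone] at g1
    have g2 : fixCard (Subgroup.centralizer ({t} : Set G)) t
        < (Subgroup.centralizer ({t} : Set G)).index := card_fixedBy_lt_index hMtop ht1
    have g3 : 4 ∣ (Subgroup.centralizer ({t} : Set G)).index
        - fixCard (Subgroup.centralizer ({t} : Set G)) t :=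
      four_dvd_index_sub_fixedBy hG hMtop hto
    rw [hi36] at g2 g3
    omega
  refine ThirtySix.false_of_conjugates hto hi36 hM ?_ hfix ?_
  · intro h1'
    have hPM : (P : Subgroup G) ≤ Subgroup.centralizer ({t} : Set G) :=
      sylow_le_centralizer_singleton P ht
    haveI : Subsingleton (Sylow 5 ↥(Subgroup.centralizer ({t} : Set G))) :=
      (Nat.card_eq_one_iff_unique.1 h1').1
    haveI : ((P.subtype hPM : Sylow 5 _) :
        Subgroup ↥(Subgroup.centralizer ({t} : Set G))).Normal := Sylow.normal_of_subsingleton _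
    have hle : Subgroup.centralizer ({t} : Set G) ≤ N P :=
      (Subgroup.normal_subgroupOf_iff_le_normalizer hPM).1 (by assumption)
    have := Subgroup.card_le_of_le hle
    rw [hM, hNc] at this
    omega
  · intro x b hx hb hbo hbx
    obtain ⟨Q, hQ⟩ := (IsPGroup.of_card (n := 1) (by rw [Nat.card_zpowers,
        show orderOf (⟨b, hb⟩ : Subgroup.centralizer ({t} : Set G)) = 5 from
          (Subgroup.orderOf_coe _).symm.trans hbo, pow_one]) :
      IsPGroup 5 ↥(Subgroup.zpowers (⟨b, hb⟩ : Subgroup.centralizer ({t} : Set G)))).exists_le_sylow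
    let P' : Sylow 5 ↥(Subgroup.centralizer ({t} : Set G)) :=
      P.subtype (sylow_le_centralizer_singleton P ht)
    obtain ⟨g, hg⟩ := MulAction.exists_smul_eq ↥(Subgroup.centralizer ({t} : Set G)) Q P'
    have hmem : (g : G) * b * (g : G)⁻¹ ∈ (P : Subgroup G) := by
      have h : MulAut.conj g ⟨b, hb⟩ ∈ (P' : Subgroup _) := by
        rw [← hg, Sylow.coe_subgroup_smul]
        exact Subgroup.smul_mem_pointwise_smul _ _ _ (hQ (Subgroup.mem_zpowers _))
      exact h
    have hgt : Commute (g : G) t := Subgroup.mem_centralizer_singleton_iff.1 g.2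
    have hne : (g : G) * b * (g : G)⁻¹ ≠ 1 := fun h => by
      rw [conj_eq_one_iff.1 h, orderOf_one] at hbo; norm_num at hbo
    have hxC : (g : G) * x * (g : G)⁻¹ ∈ C P := by
      refine mem_centralizer_of_commute_prime hP hmem hne ?_
      have := congrArg (fun z => (g : G) * z * (g : G)⁻¹) hbx.eq.symm
      simpa [Commute, SemiconjBy, mul_assoc] using this
    have hxt := huniq _ hxC ((orderOf_conj (hx.trans (isConj_iff.2 ⟨_, rfl⟩))).trans hto)
    calc x = (g : G)⁻¹ * ((g : G) * x * (g : G)⁻¹) * g := by group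
      _ = (g : G)⁻¹ * t * g := by rw [hxt]
      _ = t := by rw [mul_assoc, ← hgt.eq, inv_mul_cancel_left]

theorem case_five (hN : Nat.card G = 4320) (hG : ¬ IsMulCommutative G)
    [Fact (Nat.Prime 5)] (P : Sylow 5 G)
    (hP : Nat.card (P : Subgroup G) = 5) (hNc : Nat.card (N P) = 20) (hC : Nat.card (C P) = 5) :
    False := by
  have hCP : Subgroup.centralizer ((P : Subgroup G) : Set G) = P := by
    haveI : IsCyclic ↥(P : Subgroup G) := isCyclic_of_prime_card hP
    exact (Subgroup.eq_of_le_of_card_ge (Subgroup.le_centralizer _)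
      (le_of_eq (hC.trans hP.symm))).symm
  obtain ⟨t, ht, hto⟩ := exists_orderOf (H := N P) Nat.prime_two (by rw [hNc]; norm_num)
  have hd := Subgroup.card_subgroup_dvd_card (Subgroup.centralizer ({t} : Set G))
  rw [hN] at hd
  have h2 : 2 ∣ Nat.card (Subgroup.centralizer ({t} : Set G)) :=
    hto ▸ Subgroup.orderOf_dvd_natCard _ (Subgroup.mem_centralizer_singleton_iff.2 rfl)
  have hlt : Nat.card (Subgroup.centralizer ({t} : Set G)) ≤ 2160 := by
    have hidx := (Subgroup.centralizer ({t} : Set G)).index_mul_card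
    have h2i := two_lt_index hG _ (centralizer_singleton_ne_top hG (ne_one_of_orderOf_two hto))
    rw [hN] at hidx
    nlinarith
  refine Check.false_of_check hG hN (P : Subgroup G) hP hCP 4 1 66 hNc rfl (by norm_num)
    (by norm_num) hto ⟨t, ht, IsConj.refl t⟩
    ((List.range 2161).filter fun C => decide (4320 % C = 0 ∧ C % 2 = 0)) ?_ (by decide +kernel)
  rw [List.mem_filter, List.mem_range, decide_eq_true_eq]
  exact ⟨by omega, Nat.mod_eq_zero_of_dvd hd, Nat.mod_eq_zero_of_dvd h2⟩

/-- No finite simple group has order 4320 = 2^5 * 3^3 * 5. -/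
theorem result {G : Type*} [Group G] [Finite G] [IsSimpleGroup G] : Nat.card G ≠ 4320 := by
  intro hN
  have hG := not_comm_of_card hN (by norm_num)
  haveI : Fact (Nat.Prime 5) := ⟨by norm_num⟩
  obtain ⟨P⟩ : Nonempty (Sylow 5 G) := inferInstance
  have hP : Nat.card (P : Subgroup G) = 5 := by
    simpa using card_sylow_eq (k := 1) (m := 864) (by rw [hN]; norm_num) (by norm_num) P
  have hn := card_sylow_mem hG (p := 5) (k := 1) (m := 864) (by rw [hN]; norm_num) one_ne_zero
    (by norm_num)
  rw [show (Nat.divisors 864).filter (fun d => d % 5 = 1 ∧ d ≠ 1) = {6, 16, 36, 96, 216} by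
    decide +kernel] at hn
  simp only [Finset.mem_insert, Finset.mem_singleton] at hn
  have hNn := card_sylow_mul_card_normalizer P
  rw [hN] at hNn
  change _ * Nat.card (N P) = 4320 at hNn
  obtain ⟨hr1, hr2, hr3⟩ :=
    Finset.mem_filter.1 (relIndex_centralizer_mem hG P hP (n := Nat.card (N P)) rfl)
  have hmul := card_centralizer_mul_relIndex (P : Subgroup G)
  change (C P).relIndex (N P) ∈ _ at hr1
  change (C P).relIndex (N P) ∣ _ at hr2
  change (C P).relIndex (N P) ≠ 1 at hr3
  change Nat.card (C P) * (C P).relIndex (N P) = Nat.card (N P) at hmul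
  have he : ∀ e ∈ Nat.divisors (5 - 1), e ≠ 1 → e = 2 ∨ e = 4 := by decide
  rcases hn with h | h | h | h | h
  · have hidx : (N P).index = 6 := (index_N P).trans h
    exact absurd (two_mul_card_dvd_factorial_index hG (N P) (N_ne_top P (by omega)))
      (by rw [hidx, hN]; decide +kernel)
  · have hNc : Nat.card (N P) = 270 := by rw [h] at hNn; omega
    rcases he _ hr1 hr3 with e | e <;> rw [e, hNc] at hmul hr2
    · exact case_sixteen hG P hP h (by omega)
    · norm_num at hr2
  · have hNc : Nat.card (N P) = 120 := by rw [h] at hNn; omega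
    rcases he _ hr1 hr3 with e | e <;> rw [e, hNc] at hmul <;>
      exact case_thirtySix hN hG P hP h hNc ⟨Nat.card (C P) / 2, by omega⟩ (by omega)
  · have hNc : Nat.card (N P) = 45 := by rw [h] at hNn; omega
    rcases he _ hr1 hr3 with e | e <;> rw [e, hNc] at hmul <;> omega
  · have hNc : Nat.card (N P) = 20 := by rw [h] at hNn; omega
    rcases he _ hr1 hr3 with e | e <;> rw [e, hNc] at hmul
    · exact case_ten hN hG P hP h hNc (by omega)
    · exact case_five hN hG P hP hNc (by omega)

end Cfsg.Agent.S0977
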