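import Cfsg.Statements.S0978
import Cfsg.Agent.Small.NormalizerFusion
import Cfsg.Agent.Small.ClassCheck
-- import your own Cfsg.Agent.* helpers here

set_option autoImplicit false
set_option synthInstance.maxSize 4000
open Cfsg CfsgLib.Small CfsgLib.Small.Fusion

namespace Cfsg.Agent.S0978

variable {G : Type*} [Group G] [Finite G] [IsSimpleGroup G]

theorem seven_case_eight (hG : ¬ IsMulCommutative G) [Fact (Nat.Prime 7)] (P : Sylow 7 G)
    (hP : Nat.card (P : Subgroup G) = 7) (hn : Nat.card (Sylow 7 G) = 8)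
    (hC : 5 ∣ Nat.card (C P)) : False := by
  haveI : Fact (Nat.Prime 5) := ⟨by norm_num⟩
  obtain ⟨x, hx, hxo⟩ := exists_orderOf (q := 5) (by norm_num) hC
  have hx1 : x ≠ 1 := fun h => by rw [h, orderOf_one] at hxo; norm_num at hxo
  have h1 := fixCard_mod P hP hx
  have h2 := fixCard_lt P (by omega) hx1
  have h3 := fixCard_modEq_index (N P) hxo
  rw [index_N, hn] at h3
  omega

theorem seven_case_fifteen (hG : ¬ IsMulCommutative G) [Fact (Nat.Prime 7)] (P : Sylow 7 G)
    (hP : Nat.card (P : Subgroup G) = 7) (hn : Nat.card (Sylow 7 G) = 15)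
    (hC : 2 ∣ Nat.card (C P)) : False := by
  obtain ⟨t, ht, hto⟩ := exists_orderOf Nat.prime_two hC
  have h1 := fixCard_mod P hP ht
  have h2 := fixCard_lt P (by omega) (ne_one_of_orderOf_two hto)
  have h3 := four_dvd_sub P hG (by omega) hto
  rw [hn] at h2 h3
  omega

theorem seven_case_thirtySix (hN : Nat.card G = 5040) (hG : ¬ IsMulCommutative G)
    [Fact (Nat.Prime 7)] (P : Sylow 7 G)
    (hP : Nat.card (P : Subgroup G) = 7) (hn : Nat.card (Sylow 7 G) = 36)
    (hNc : Nat.card (N P) = 140) (hC : Nat.card (C P) = 70) : False := by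
  obtain ⟨T, hTN, hT⟩ := exists_two_subgroup_le (H := N P) (k := 2) (by rw [hNc]; norm_num)
  obtain ⟨t, ht, hto, hk⟩ := exists_invol_central P hP (by norm_num) hT hTN (by rw [hC]; norm_num)
  have ht1 := ne_one_of_orderOf_two hto
  have ht2 : t ^ 2 = 1 := orderOf_dvd_iff_pow_eq_one.1 (dvd_of_eq hto)
  have h1 := fixCard_mod P hP ht
  have h2 := fixCard_lt P (by omega) ht1
  have h3 := four_dvd_sub P hG (by omega) hto
  rw [hn] at h2 h3
  have hall : ∀ h ∈ N P, IsConj t h → h ∈ C P := fun h hh hth =>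
    mem_C_of_isConj P hP (by rw [hn]; omega) hh hth
  have hm := classCard_bound P hP (q := 2) (by norm_num) ht2 ht1 hall
  have hid := fixCard_mul (N P) t
  rw [hNc, show fixCard (N P) t = 8 by omega] at hid
  rw [hC] at hm
  obtain ⟨n, hn7, hcard⟩ := exists_centralizer_eq P ht
  have hd := Subgroup.card_subgroup_dvd_card (Subgroup.centralizer ({t} : Set G))
  have hkN : Nat.card ↥(N P ⊓ Subgroup.centralizer ({t} : Set G)) ∣ 140 :=
    hNc ▸ Subgroup.card_dvd_of_le inf_le_left
  have hall' : ∀ m < 10, ∀ k ∈ Nat.divisors 140, 28 ∣ k → m ∣ 1120 → 1120 / m ∣ 5040 →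
      k ∣ 1120 / m → 1120 / m / k % 7 = 1 → m = 8 ∧ k = 140 := by decide +kernel
  have hm0 : 0 < classCard (N P) t := classCard_pos _ (C_le_N P ht)
  have hk0 : 0 < Nat.card ↥(N P ⊓ Subgroup.centralizer ({t} : Set G)) := Nat.card_pos
  rw [hN] at hd
  have hcm : 1120 / classCard (N P) t = Nat.card (Subgroup.centralizer ({t} : Set G)) := by
    rw [show 1120 = 8 * 140 by norm_num, hid, Nat.mul_div_cancel_left _ hm0]
  obtain ⟨hm8, hk140⟩ := hall' (classCard (N P) t) (by omega) _
    (Nat.mem_divisors.2 ⟨hkN, by norm_num⟩) hk ⟨_, hid⟩ (by rw [hcm]; exact hd)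
    (by rw [hcm]; exact Dvd.intro_left n hcard.symm)
    (by rw [hcm, hcard, Nat.mul_div_cancel _ hk0]; exact hn7)
  -- `t` is central in `N`, so it is the only involution of `C`
  have hcen : N P ≤ Subgroup.centralizer ({t} : Set G) := inf_eq_left.1
    (Subgroup.eq_of_le_of_card_ge inf_le_left (le_of_eq (hNc.trans hk140.symm)))
  have hone : classCard (N P) t ≤ 1 := by
    have key : ∀ h ∈ N P, IsConj t h → h = t := by
      intro h hh hth
      by_contra hne
      have hho : orderOf h = 2 := by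
        obtain ⟨g, hg⟩ := isConj_iff.1 hth
        rw [← hg, ← MulAut.conj_apply, MulEquiv.orderOf_eq, hto]
      have h4 := four_dvd_of_commuting_involutions (H := C P) (hall h hh hth) ht hho hto hne
        (Subgroup.mem_centralizer_singleton_iff.1 (hcen hh))
      rw [hC] at h4
      norm_num at h4
    exact Finite.card_le_one_iff_subsingleton.2
      ⟨fun a b => Subtype.ext ((key a a.2.1 a.2.2).trans (key b b.2.1 b.2.2).symm)⟩
  omega

theorem seven_case_fourteen (hN : Nat.card G = 5040) (hG : ¬ IsMulCommutative G)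
    [Fact (Nat.Prime 7)] (P : Sylow 7 G)
    (hP : Nat.card (P : Subgroup G) = 7) (hn : Nat.card (Sylow 7 G) = 120)
    (hNc : Nat.card (N P) = 42) (hC : Nat.card (C P) = 14) (he : (C P).relIndex (N P) = 3) :
    False := by
  obtain ⟨t, ht, hto⟩ := exists_orderOf (H := C P) Nat.prime_two (by rw [hC]; norm_num)
  have ht1 := ne_one_of_orderOf_two hto
  have ht2 : t ^ 2 = 1 := orderOf_dvd_iff_pow_eq_one.1 (dvd_of_eq hto)
  have hCle := C_le_centralizer P hP ht hto (by norm_num) hC
  have hall : ∀ h ∈ N P, IsConj t h → h ∈ C P ∧ Commute t h := fun h hh hth => by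
    have hhC := mem_C_of_coprime_relIndex P (q := 2) ht2 (by rw [he]; norm_num) hh hth
    exact ⟨hhC, (Subgroup.mem_centralizer_singleton_iff.1 (hCle hhC)).symm⟩
  have hm1 : classCard (N P) t = 1 := by
    have key : ∀ h ∈ N P, IsConj t h → h = t := by
      intro h hh hth
      by_contra hne
      have hho : orderOf h = 2 := by
        obtain ⟨g, hg⟩ := isConj_iff.1 hth
        rw [← hg, ← MulAut.conj_apply, MulEquiv.orderOf_eq, hto]
      have h4 := four_dvd_of_commuting_involutions (H := C P) (hall h hh hth).1 ht hho hto hne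
        (hall h hh hth).2.symm
      rw [hC] at h4
      norm_num at h4
    exact le_antisymm (Finite.card_le_one_iff_subsingleton.2
      ⟨fun a b => Subtype.ext ((key a a.2.1 a.2.2).trans (key b b.2.1 b.2.2).symm)⟩)
      (classCard_pos _ (C_le_N P ht))
  have h1 := fixCard_mod P hP ht
  have h2 := fixCard_lt P (by omega) ht1
  have h3 := four_dvd_sub P hG (by omega) hto
  have hid := fixCard_mul (N P) t
  rw [hn] at h2 h3
  rw [hNc, hm1, one_mul] at hid
  have hd := Subgroup.card_subgroup_dvd_card (Subgroup.centralizer ({t} : Set G))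
  rw [hN] at hd
  have hall' : ∀ f < 120, f % 7 = 1 → 4 ∣ 120 - f → f * 42 ∣ 5040 → f = 8 := by decide +kernel
  have hf := hall' _ h2 h1 h3 (hid ▸ hd)
  rw [hf] at hid
  -- on the fifteen cosets of `C(t)`
  have hidx := (Subgroup.centralizer ({t} : Set G)).index_mul_card
  rw [hN, ← hid] at hidx
  have hi : (Subgroup.centralizer ({t} : Set G)).index = 15 := by omega
  have hMtop := centralizer_singleton_ne_top hG ht1
  have g1 := fixCard_centralizer_mod P hP ht hall
  have g2 : fixCard (Subgroup.centralizer ({t} : Set G)) t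
      < (Subgroup.centralizer ({t} : Set G)).index := card_fixedBy_lt_index hMtop ht1
  have g3 : 4 ∣ (Subgroup.centralizer ({t} : Set G)).index
      - fixCard (Subgroup.centralizer ({t} : Set G)) t := four_dvd_index_sub_fixedBy hG hMtop hto
  rw [hm1] at g1
  rw [hi] at g2 g3
  omega

theorem seven_case_twentyOne (hN : Nat.card G = 5040) (hG : ¬ IsMulCommutative G)
    [Fact (Nat.Prime 7)] (P : Sylow 7 G)
    (hP : Nat.card (P : Subgroup G) = 7) (hn : Nat.card (Sylow 7 G) = 120)
    (hNc : Nat.card (N P) = 42) (hC : Nat.card (C P) = 21) (he : (C P).relIndex (N P) = 2) :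
    False := by
  haveI : Fact (Nat.Prime 3) := ⟨by norm_num⟩
  obtain ⟨y, hy, hyo⟩ := exists_orderOf (H := C P) Nat.prime_three (by rw [hC]; norm_num)
  have hy1 : y ≠ 1 := fun h => by rw [h, orderOf_one] at hyo; norm_num at hyo
  have hy3 : y ^ 3 = 1 := orderOf_dvd_iff_pow_eq_one.1 (dvd_of_eq hyo)
  have hCle := C_le_centralizer P hP hy hyo (by norm_num) hC
  have hall : ∀ h ∈ N P, IsConj y h → h ∈ C P ∧ Commute y h := fun h hh hth => by
    have hhC := mem_C_of_coprime_relIndex P (q := 3) hy3 (by rw [he]; norm_num) hh hth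
    exact ⟨hhC, (Subgroup.mem_centralizer_singleton_iff.1 (hCle hhC)).symm⟩
  have hm := classCard_bound P hP (q := 3) (by norm_num) hy3 hy1 fun h hh hth => (hall h hh hth).1
  rw [hC] at hm
  have hm0 := classCard_pos (N P) (C_le_N P hy)
  have h1 := fixCard_mod P hP hy
  have h2 := fixCard_lt P (by omega) hy1
  have h3 := fixCard_modEq_index (N P) hyo
  have hid := fixCard_mul (N P) y
  rw [index_N, hn] at h3
  rw [hn] at h2
  rw [hNc] at hid
  have hd := Subgroup.card_subgroup_dvd_card (Subgroup.centralizer ({y} : Set G))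
  rw [hN] at hd
  have hall' : ∀ m < 3, 0 < m → ∀ f < 120, f % 7 = 1 → 0 = f % 3 → m ∣ f * 42 →
      f * 42 / m ∣ 5040 → f * 42 / m = 630 ∧ m = 1 ∨ f * 42 / m = 315 ∧ m = 2 := by
    decide +kernel
  have hcase := hall' (classCard (N P) y) (by omega) hm0
    _ h2 h1 h3 ⟨_, hid⟩ (by rw [hid, Nat.mul_div_cancel_left _ hm0]; exact hd)
  rw [hid, Nat.mul_div_cancel_left _ hm0] at hcase
  have hidx := (Subgroup.centralizer ({y} : Set G)).index_mul_card
  rw [hN] at hidx
  have hMtop := centralizer_singleton_ne_top hG hy1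
  have g1 := fixCard_centralizer_mod P hP hy hall
  have g2 : fixCard (Subgroup.centralizer ({y} : Set G)) y
      < (Subgroup.centralizer ({y} : Set G)).index := card_fixedBy_lt_index hMtop hy1
  have g3 := fixCard_modEq_index (Subgroup.centralizer ({y} : Set G)) hyo
  rcases hcase with ⟨hc, hm'⟩ | ⟨hc, hm'⟩
  · rw [hc] at hidx
    rw [hm'] at g1
    have hi : (Subgroup.centralizer ({y} : Set G)).index = 8 := by omega
    rw [hi] at g2 g3
    omega
  · rw [hc] at hidx
    rw [hm'] at g1
    have hi : (Subgroup.centralizer ({y} : Set G)).index = 16 := by omega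
    rw [hi] at g2 g3
    omega

/-- The centraliser of a Sylow 7-subgroup has order seven. -/
theorem card_C_seven (hN : Nat.card G = 5040) (hG : ¬ IsMulCommutative G)
    [Fact (Nat.Prime 7)] (P : Sylow 7 G) :
    Nat.card (P : Subgroup G) = 7 ∧ Nat.card (C P) = 7 ∧ Nat.card (N P) = 42 := by
  have hP : Nat.card (P : Subgroup G) = 7 := by
    simpa using card_sylow_eq (k := 1) (m := 720) (by rw [hN]; norm_num) (by norm_num) P
  have hn := card_sylow_mem hG (p := 7) (k := 1) (m := 720) (by rw [hN]; norm_num) one_ne_zero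
    (by norm_num)
  rw [show (Nat.divisors 720).filter (fun d => d % 7 = 1 ∧ d ≠ 1) = {8, 15, 36, 120} by
    decide +kernel] at hn
  simp only [Finset.mem_insert, Finset.mem_singleton] at hn
  have hNn := card_sylow_mul_card_normalizer P
  rw [hN] at hNn
  change _ * Nat.card (N P) = 5040 at hNn
  obtain ⟨hr1, hr2, hr3⟩ :=
    Finset.mem_filter.1 (relIndex_centralizer_mem hG P hP (n := Nat.card (N P)) rfl)
  have hmul := card_centralizer_mul_relIndex (P : Subgroup G)
  change (C P).relIndex (N P) ∈ _ at hr1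
  change (C P).relIndex (N P) ∣ _ at hr2
  change (C P).relIndex (N P) ≠ 1 at hr3
  change Nat.card (C P) * (C P).relIndex (N P) = Nat.card (N P) at hmul
  have he : ∀ e ∈ Nat.divisors (7 - 1), e ≠ 1 → e = 2 ∨ e = 3 ∨ e = 6 := by decide
  rcases hn with h | h | h | h
  · have hNc : Nat.card (N P) = 630 := by rw [h] at hNn; omega
    refine (seven_case_eight hG P hP h ?_).elim
    rcases he _ hr1 hr3 with e | e | e <;> rw [e, hNc] at hmul <;>
      exact ⟨Nat.card (C P) / 5, by omega⟩
  · have hNc : Nat.card (N P) = 336 := by rw [h] at hNn; omega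
    refine (seven_case_fifteen hG P hP h ?_).elim
    rcases he _ hr1 hr3 with e | e | e <;> rw [e, hNc] at hmul <;>
      exact ⟨Nat.card (C P) / 2, by omega⟩
  · have hNc : Nat.card (N P) = 140 := by rw [h] at hNn; omega
    rcases he _ hr1 hr3 with e | e | e <;> rw [e, hNc] at hmul hr2
    · exact (seven_case_thirtySix hN hG P hP h hNc (by omega)).elim
    · norm_num at hr2
    · norm_num at hr2
  · have hNc : Nat.card (N P) = 42 := by rw [h] at hNn; omega
    rcases he _ hr1 hr3 with e | e | e <;> rw [e, hNc] at hmul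
    · exact (seven_case_twentyOne hN hG P hP h hNc (by omega) e).elim
    · exact (seven_case_fourteen hN hG P hP h hNc (by omega) e).elim
    · exact ⟨hP, by omega, hNc⟩

/-- An element of order prime to seven commutes with no element of order seven. -/
theorem seven_not_dvd (hN : Nat.card G = 5040) (hG : ¬ IsMulCommutative G) {t : G} {q : ℕ}
    (hto : orderOf t = q) (hq1 : q ≠ 1) (hq7 : q.Coprime 7) :
    ¬ 7 ∣ Nat.card (Subgroup.centralizer ({t} : Set G)) := by
  intro h
  haveI : Fact (Nat.Prime 7) := ⟨by norm_num⟩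
  obtain ⟨x, hx, hxo⟩ := exists_orderOf (q := 7) (by norm_num) h
  obtain ⟨Q, hQ⟩ := (IsPGroup.of_card (n := 1) (by rw [Nat.card_zpowers, hxo, pow_one]) :
    IsPGroup 7 ↥(Subgroup.zpowers x)).exists_le_sylow
  obtain ⟨hQc, hCQ, -⟩ := card_C_seven hN hG Q
  have hx1 : x ≠ 1 := fun h => by rw [h, orderOf_one] at hxo; norm_num at hxo
  have htC : t ∈ C Q := mem_centralizer_of_commute_prime hQc (hQ (Subgroup.mem_zpowers x)) hx1
    (Subgroup.mem_centralizer_singleton_iff.1 hx).symm
  have hdvd := Subgroup.orderOf_dvd_natCard (C Q) htC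
  rw [hto, hCQ] at hdvd
  exact hq1 (Nat.eq_one_of_dvd_coprimes hq7 dvd_rfl hdvd)

/-- No involution has centraliser order divisible by ten. -/
theorem ten_not_dvd (hN : Nat.card G = 5040) (hG : ¬ IsMulCommutative G) {t : G}
    (hto : orderOf t = 2) : ¬ 10 ∣ Nat.card (Subgroup.centralizer ({t} : Set G)) := by
  intro h10
  haveI : Fact (Nat.Prime 7) := ⟨by norm_num⟩
  obtain ⟨P⟩ : Nonempty (Sylow 7 G) := inferInstance
  obtain ⟨hP, hCP, hNP⟩ := card_C_seven hN hG P
  have hC : Subgroup.centralizer ((P : Subgroup G) : Set G) = P := by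
    haveI : IsCyclic ↥(P : Subgroup G) := isCyclic_of_prime_card hP
    exact (Subgroup.eq_of_le_of_card_ge (Subgroup.le_centralizer _)
      (le_of_eq (hCP.trans hP.symm))).symm
  obtain ⟨u, hu, huo⟩ := exists_orderOf (H := N P) Nat.prime_two (by rw [hNP]; norm_num)
  have h720 : ∀ s : G, orderOf s = 2 →
      Nat.card (Subgroup.centralizer ({s} : Set G)) ∈
        (Nat.divisors 720).filter (fun d => d % 2 = 0) := by
    intro s hs
    have h7 := seven_not_dvd hN hG hs (by norm_num) (by norm_num)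
    have hd := Subgroup.card_subgroup_dvd_card (Subgroup.centralizer ({s} : Set G))
    rw [hN, show 5040 = 7 * 720 by norm_num] at hd
    refine Finset.mem_filter.2 ⟨Nat.mem_divisors.2 ⟨?_, by norm_num⟩, ?_⟩
    · exact ((Nat.Prime.coprime_iff_not_dvd (by norm_num)).2 h7).symm.dvd_of_dvd_mul_left hd
    · have h2 : 2 ∣ Nat.card (Subgroup.centralizer ({s} : Set G)) :=
        hs ▸ Subgroup.orderOf_dvd_natCard _ (Subgroup.mem_centralizer_singleton_iff.2 rfl)
      omega
  have hall : ∀ d ∈ (Nat.divisors 720).filter (fun d => d % 2 = 0),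
      d ∈ ([2, 4, 6, 8, 10, 12, 16, 18, 20, 24, 30, 36, 40, 48, 60, 72, 80, 90, 120, 144, 180, 240,
        360, 720] : List ℕ) ∧
      (10 ∣ d → d ∈ ([10, 20, 30, 40, 60, 80, 90, 120, 180, 240, 360, 720] : List ℕ)) := by
    decide +kernel
  have h := Check.sel_eq_true hG (P : Subgroup G) hP hC 6 1 72 (hNP.trans (by norm_num)) rfl
    (by norm_num) (by rw [hN]; norm_num) (fun it =>
      ([10, 20, 30, 40, 60, 80, 90, 120, 180, 240, 360, 720] : List ℕ).any (fun C =>
        Check.valOK 7 5040 C false it || Check.valOK 7 5040 C true it) &&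
      ([2, 4, 6, 8, 10, 12, 16, 18, 20, 24, 30, 36, 40, 48, 60, 72, 80, 90, 120, 144, 180, 240,
        360, 720] : List ℕ).any fun C => Check.valOK 7 5040 C true it) (fun items hitems => by
      rw [hN] at hitems
      rw [Bool.and_eq_true, List.any_eq_true, List.any_eq_true]
      refine ⟨⟨_, (hall _ (h720 t hto)).2 h10, ?_⟩,
        ⟨_, (hall _ (h720 u huo)).1, hitems u huo true (iff_of_true rfl ⟨u, hu, IsConj.refl u⟩)⟩⟩
      rw [Bool.or_eq_true]
      by_cases hδ : ∃ v : G, v ∈ Subgroup.normalizer ((P : Subgroup G) : Set G) ∧ IsConj t v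
      · exact Or.inr (hitems t hto true (iff_of_true rfl hδ))
      · exact Or.inl (hitems t hto false (iff_of_false Bool.false_ne_true hδ)))
  rw [hN] at h
  revert h
  decide +kernel

/-- No finite simple group has order 5040 = 2^4 * 3^2 * 5 * 7. -/
theorem result {G : Type*} [Group G] [Finite G] [IsSimpleGroup G] : Nat.card G ≠ 5040 := by
  intro hN
  have hG := not_comm_of_card hN (by norm_num)
  haveI : Fact (Nat.Prime 5) := ⟨by norm_num⟩
  haveI : Fact (Nat.Prime 3) := ⟨by norm_num⟩
  obtain ⟨P⟩ : Nonempty (Sylow 5 G) := inferInstance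
  have hP : Nat.card (P : Subgroup G) = 5 := by
    simpa using card_sylow_eq (k := 1) (m := 1008) (by rw [hN]; norm_num) (by norm_num) P
  have hn := card_sylow_mem hG (p := 5) (k := 1) (m := 1008) (by rw [hN]; norm_num) one_ne_zero
    (by norm_num)
  rw [show (Nat.divisors 1008).filter (fun d => d % 5 = 1 ∧ d ≠ 1)
      = {6, 16, 21, 36, 56, 126, 336} by decide +kernel] at hn
  simp only [Finset.mem_insert, Finset.mem_singleton] at hn
  have hNn := card_sylow_mul_card_normalizer P
  rw [hN] at hNn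
  change _ * Nat.card (N P) = 5040 at hNn
  obtain ⟨hr1, hr2, hr3⟩ :=
    Finset.mem_filter.1 (relIndex_centralizer_mem hG P hP (n := Nat.card (N P)) rfl)
  have hmul := card_centralizer_mul_relIndex (P : Subgroup G)
  change (C P).relIndex (N P) ∈ _ at hr1
  change (C P).relIndex (N P) ≠ 1 at hr3
  change Nat.card (C P) * (C P).relIndex (N P) = Nat.card (N P) at hmul
  have he : (C P).relIndex (N P) = 2 ∨ (C P).relIndex (N P) = 4 := by
    have hall : ∀ e ∈ Nat.divisors (5 - 1), e ≠ 1 → e = 2 ∨ e = 4 := by decide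
    exact hall _ hr1 hr3
  have hseven : ¬ 7 ∣ Nat.card (N P) := by
    intro h
    obtain ⟨x, hx, hxo⟩ := exists_orderOf (q := 7) (by norm_num) h
    have hxC := mem_C_of_coprime_relIndex P (q := 7) (t := x)
      (orderOf_dvd_iff_pow_eq_one.1 (dvd_of_eq hxo))
      (by rcases he with e | e <;> rw [e] <;> norm_num) hx (IsConj.refl x)
    obtain ⟨a, ha, hao⟩ := exists_orderOf (H := (P : Subgroup G)) (q := 5) (by norm_num)
      (by rw [hP])
    refine seven_not_dvd hN hG hao (by norm_num) (by norm_num) (hxo ▸ Subgroup.orderOf_dvd_natCard _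
      (Subgroup.mem_centralizer_singleton_iff.2 ?_))
    exact (Subgroup.mem_centralizer_iff.1 hxC a ha).symm
  have hinv : 2 ∣ Nat.card (C P) → False := by
    intro h
    obtain ⟨t, ht, hto⟩ := exists_orderOf Nat.prime_two h
    refine ten_not_dvd hN hG hto
      (Nat.Coprime.mul_dvd_of_dvd_of_dvd (by norm_num : Nat.Coprime 2 5) ?_ ?_)
    · exact hto ▸ Subgroup.orderOf_dvd_natCard _ (Subgroup.mem_centralizer_singleton_iff.2 rfl)
    · exact hP ▸ Subgroup.card_dvd_of_le (sylow_le_centralizer_singleton P ht)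
  rcases hn with h | h | h | h | h | h | h <;> rw [h] at hNn
  · exact hseven ⟨120, by omega⟩
  · exact hseven ⟨45, by omega⟩
  · refine hinv ?_
    rcases he with e | e <;> rw [e] at hmul <;> exact ⟨Nat.card (C P) / 2, by omega⟩
  · exact hseven ⟨20, by omega⟩
  · -- fifty-six: an element of order three in `C(P)`
    have hNc : Nat.card (N P) = 90 := by omega
    rcases he with e | e <;> rw [e, hNc] at hmul
    swap; · omega
    have hC : Nat.card (C P) = 45 := by omega
    obtain ⟨y, hy, hyo⟩ := exists_orderOf (H := C P) Nat.prime_three (by rw [hC]; norm_num)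
    have hy1 : y ≠ 1 := fun hh => by rw [hh, orderOf_one] at hyo; norm_num at hyo
    have hy3 : y ^ 3 = 1 := orderOf_dvd_iff_pow_eq_one.1 (dvd_of_eq hyo)
    have hm := classCard_bound P hP (q := 3) (by norm_num) hy3 hy1 fun g hg hyg =>
      mem_C_of_coprime_relIndex P hy3 (by rw [e]; norm_num) hg hyg
    rw [hC] at hm
    have hm0 := classCard_pos (N P) (C_le_N P hy)
    have h1 := fixCard_mod P hP hy
    have h2 := fixCard_lt P (by omega) hy1
    have h3 := fixCard_modEq_index (N P) hyo
    have hid := fixCard_mul (N P) y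
    rw [index_N, h] at h3
    rw [h] at h2
    rw [hNc] at hid
    have hd := Subgroup.card_subgroup_dvd_card (Subgroup.centralizer ({y} : Set G))
    rw [hN] at hd
    have hall : ∀ m < 9, ∀ f < 56, f % 5 = 1 → 2 = f % 3 → m ∣ f * 90 →
        ¬ f * 90 / m ∣ 5040 := by decide +kernel
    exact hall (classCard (N P) y) (by omega) _ h2 h1 h3 ⟨_, hid⟩
      (by rw [hid, Nat.mul_div_cancel_left _ hm0]; exact hd)
  · refine hinv ?_
    rcases he with e | e <;> rw [e] at hmul <;> exact ⟨Nat.card (C P) / 2, by omega⟩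
  · rcases he with e | e <;> rw [e] at hmul <;> omega

end Cfsg.Agent.S0978
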