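import Cfsg.Statements.S0980
import Cfsg.Agent.Small.NormalizerFusion
import Cfsg.Agent.Small.ClassCheck
import Cfsg.Agent.Small.OneEighty
import Cfsg.Agent.Small.PlaneSixteen
import Mathlib.GroupTheory.Transfer
-- import your own Cfsg.Agent.* helpers here

set_option autoImplicit false
set_option synthInstance.maxSize 4000
open Cfsg CfsgLib.Small CfsgLib.Small.Fusion
open scoped Pointwise

namespace Cfsg.Agent.S0980

section
variable {G : Type*} [Group G] [Finite G]

/-- In `C(P)` of order 15 or 30 the elements of order dividing nine are powers of any one of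
order three. -/
theorem three_torsion [Fact (Nat.Prime 5)] (P : Sylow 5 G)
    (hP : Nat.card (P : Subgroup G) = 5)
    (hC : Nat.card (C P) = 15 ∨ Nat.card (C P) = 30) {y r : G} (hy : y ∈ C P)
    (hyo : orderOf y = 3) (hr : r ∈ C P) (hr9 : r ^ 9 = 1) : r ∈ Subgroup.zpowers y := by
  haveI : Fact (Nat.Prime 3) := ⟨Nat.prime_three⟩
  have hPC : (P : Subgroup G) ≤ C P := by
    haveI : IsCyclic ↥(P : Subgroup G) := isCyclic_of_prime_card hP
    exact Subgroup.le_centralizer _
  obtain ⟨Q, hQ⟩ := (IsPGroup.of_card (n := 1) (by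
    rw [Nat.card_zpowers, show orderOf (⟨y, hy⟩ : C P) = 3 from
      (Subgroup.orderOf_coe _).symm.trans hyo, pow_one]) :
    IsPGroup 3 ↥(Subgroup.zpowers (⟨y, hy⟩ : C P))).exists_le_sylow
  have hQc : Nat.card (Q : Subgroup ↥(C P)) = 3 := by
    rcases hC with h | h
    · simpa using card_sylow_eq (k := 1) (m := 5) (by rw [h]; norm_num) (by norm_num) Q
    · simpa using card_sylow_eq (k := 1) (m := 10) (by rw [h]; norm_num) (by norm_num) Q
  have hQy : Subgroup.zpowers (⟨y, hy⟩ : C P) = (Q : Subgroup ↥(C P)) :=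
    Subgroup.eq_of_le_of_card_ge hQ (by
      rw [hQc, Nat.card_zpowers, show orderOf (⟨y, hy⟩ : C P) = 3 from
        (Subgroup.orderOf_coe _).symm.trans hyo])
  have hN : (P : Subgroup G).subgroupOf (C P)
      ≤ Subgroup.normalizer ((Q : Subgroup ↥(C P)) : Set ↥(C P)) := by
    intro a ha
    rw [Subgroup.mem_normalizer_iff]
    intro x
    have hc : a * x * a⁻¹ = x := by
      refine Subtype.ext ?_
      show (a : G) * x * (a : G)⁻¹ = x
      rw [mul_inv_eq_iff_eq_mul]
      exact Subgroup.mem_centralizer_iff.1 x.2 _ ha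
    rw [hc]
  have hone : Nat.card (Sylow 3 ↥(C P)) = 1 := by
    have hmod := card_sylow_mod (G := ↥(C P)) 3
    have hmul := card_sylow_mul_card_normalizer Q
    have h15 : 15 ∣ Nat.card (Subgroup.normalizer ((Q : Subgroup ↥(C P)) : Set ↥(C P))) := by
      refine Nat.Coprime.mul_dvd_of_dvd_of_dvd (by norm_num : Nat.Coprime 3 5) ?_ ?_
      · have h := Subgroup.card_dvd_of_le (Subgroup.le_normalizer (H := (Q : Subgroup ↥(C P))))
        rwa [hQc] at h
      · have := Subgroup.card_dvd_of_le hN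
        rwa [Nat.card_congr (Subgroup.subgroupOfEquivOfLe hPC).toEquiv, hP] at this
    obtain ⟨c, hc⟩ := h15
    rw [hc, ← mul_assoc, mul_comm _ 15, mul_assoc] at hmul
    have hnc : Nat.card (Sylow 3 ↥(C P)) * c ∣ 2 := by
      rcases hC with h | h <;> rw [h] at hmul
      · exact ⟨2, by omega⟩
      · exact ⟨1, by omega⟩
    have := Nat.le_of_dvd (by norm_num) ((dvd_mul_right _ c).trans hnc)
    omega
  haveI : Subsingleton (Sylow 3 ↥(C P)) := (Nat.card_eq_one_iff_unique.1 hone).1
  have hr' : IsPGroup 3 ↥(Subgroup.zpowers (⟨r, hr⟩ : C P)) := by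
    have hd : orderOf (⟨r, hr⟩ : C P) ∣ 3 ^ 2 := orderOf_dvd_of_pow_eq_one (Subtype.ext (by
      simpa using hr9))
    obtain ⟨k, -, hk⟩ := (Nat.dvd_prime_pow Nat.prime_three).1 hd
    exact IsPGroup.of_card (n := k) (by rw [Nat.card_zpowers, hk])
  obtain ⟨R, hR⟩ := hr'.exists_le_sylow
  rw [Subsingleton.elim R Q, ← hQy] at hR
  obtain ⟨i, hi⟩ := hR (Subgroup.mem_zpowers _)
  exact ⟨i, by simpa using congrArg Subtype.val hi⟩

end

variable {G : Type*} [Group G] [Finite G] [IsSimpleGroup G]

/-- The case of an isolated element of order three. -/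
theorem false_of_isolated (hG : ¬ IsMulCommutative G) (hN : Nat.card G = 5760) {y : G}
    (hyo : orderOf y = 3) (huniq : ∀ h : G, IsConj y h → Commute y h → h = y) : False := by
  haveI : Fact (Nat.Prime 3) := ⟨Nat.prime_three⟩
  obtain ⟨S, hS⟩ := (IsPGroup.of_card (n := 1) (by rw [Nat.card_zpowers, hyo, pow_one]) :
    IsPGroup 3 ↥(Subgroup.zpowers y)).exists_le_sylow
  have hSc : Nat.card (S : Subgroup G) = 3 ^ 2 :=
    card_sylow_eq (k := 2) (m := 640) (by rw [hN]; norm_num) (by norm_num) S
  haveI hcomm : IsMulCommutative ↥(S : Subgroup G) :=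
    IsPGroup.isMulCommutative_of_card_eq_prime_sq hSc
  letI : CommGroup ↥(S : Subgroup G) :=
    { (inferInstance : Group ↥(S : Subgroup G)) with mul_comm := fun a b => mul_comm' a b }
  have hyS : y ∈ (S : Subgroup G) := hS (Subgroup.mem_zpowers y)
  have hkey : ∀ (k : ℕ) (g : G), g⁻¹ * y ^ k * g ∈ (S : Subgroup G) →
      g⁻¹ * y ^ k * g = y ^ k := by
    intro k g hk
    have hc : g⁻¹ * y ^ k * g = (g⁻¹ * y * g) ^ k := by
      have h := conj_pow (a := g⁻¹) (b := y) (i := k)
      rw [inv_inv] at h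
      exact h.symm
    rcases Nat.eq_zero_or_pos (k % 3) with h0 | hpos
    · have h1 : y ^ k = 1 := orderOf_dvd_iff_pow_eq_one.1 (hyo ▸ Nat.dvd_of_mod_eq_zero h0)
      rw [h1]; group
    · have h3 : (g⁻¹ * y * g) ^ 3 = 1 := by
        have h := conj_pow (a := g⁻¹) (b := y) (i := 3)
        rw [inv_inv] at h
        rw [h, orderOf_dvd_iff_pow_eq_one.1 (dvd_of_eq hyo)]; group
      have hmem : g⁻¹ * y * g ∈ (S : Subgroup G) := by
        rw [hc] at hk
        have hk' : ((g⁻¹ * y * g) ^ k) ^ k = g⁻¹ * y * g := by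
          rw [← pow_mul, ← Nat.mod_add_div (k * k) 3, pow_add, pow_mul, h3, one_pow, mul_one]
          have : k * k % 3 = 1 := by
            rw [Nat.mul_mod]
            rcases (by omega : k % 3 = 1 ∨ k % 3 = 2) with e | e <;> rw [e]
          rw [this, pow_one]
        exact hk' ▸ pow_mem hk k
      have hone : g⁻¹ * y * g = y := huniq _ (isConj_iff.2 ⟨g⁻¹, by group⟩)
        (congrArg Subtype.val (mul_comm' (⟨y, hyS⟩ : (S : Subgroup G)) ⟨_, hmem⟩) :)
      rw [hc, hone]
  have ht := MonoidHom.transfer_eq_pow (MonoidHom.id ↥(S : Subgroup G)) y hkey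
  refine hG (isMulCommutative_of_hom_ne_one (MonoidHom.transfer (MonoidHom.id ↥(S : Subgroup G)))
    fun h => ?_)
  rw [h, MonoidHom.one_apply, MonoidHom.id_apply] at ht
  have hpow : y ^ (S : Subgroup G).index = 1 := (congrArg Subtype.val ht :).symm
  have hd := orderOf_dvd_iff_pow_eq_one.2 hpow
  have hidx := (S : Subgroup G).index_mul_card
  rw [hSc, hN] at hidx
  rw [hyo] at hd
  omega

/-- The case of an element of order three inverted in `N(P)`. -/
theorem false_of_inverted (hG : ¬ IsMulCommutative G) (hN : Nat.card G = 5760) {y g₀ : G}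
    (hyo : orderOf y = 3) (hg₀ : g₀ * y * g₀⁻¹ = y⁻¹)
    (hcy : Nat.card (Subgroup.centralizer ({y} : Set G)) = 180)
    (hmod : fixCard (Subgroup.centralizer ({y} : Set G)) y % 5 = 2)
    (htor : ∀ a r : G, orderOf a = 5 → Commute y a → r ^ 9 = 1 → Commute r a →
      Commute r y → r ∈ Subgroup.zpowers y) : False := by
  classical
  haveI : Fact (Nat.Prime 3) := ⟨Nat.prime_three⟩
  haveI : Fact (Nat.Prime 5) := ⟨by norm_num⟩
  set Cy := Subgroup.centralizer ({y} : Set G) with hCy
  set K := Subgroup.normalizer ((Subgroup.zpowers y : Subgroup G) : Set G) with hK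
  have hy1 : y ≠ 1 := fun h => by rw [h, orderOf_one] at hyo; norm_num at hyo
  have hzc : Nat.card (Subgroup.zpowers y) = 3 := by rw [Nat.card_zpowers, hyo]
  have hcz : Subgroup.centralizer ((Subgroup.zpowers y : Subgroup G) : Set G) = Cy :=
    (centralizer_singleton_eq_of_prime hzc (Subgroup.mem_zpowers y) hy1).symm
  have hCK : Cy ≤ K := hcz ▸ Subgroup.centralizer_le_normalizer _
  have hg₀K : g₀ ∈ K := by
    rw [hK]
    refine Subgroup.mem_normalizer_fintype fun x hx => ?_
    obtain ⟨i, rfl⟩ := hx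
    show g₀ * y ^ i * g₀⁻¹ ∈ Subgroup.zpowers y
    rw [← conj_zpow, hg₀]
    exact zpow_mem (inv_mem (Subgroup.mem_zpowers y)) i
  have hrel : Cy.relIndex K = 2 := by
    have hd : Cy.relIndex K ∣ 3 - 1 := hcz ▸ relIndex_centralizer_dvd_pred hzc
    rcases (Nat.dvd_prime Nat.prime_two).1 hd with h | h
    · exfalso
      have hc := Subgroup.mem_centralizer_singleton_iff.1 (Subgroup.relIndex_eq_one.1 h hg₀K)
      rw [hc, mul_inv_cancel_right] at hg₀
      have h2 : y ^ 2 = 1 := by rw [pow_two]; nth_rw 1 [hg₀]; rw [inv_mul_cancel]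
      have := orderOf_dvd_iff_pow_eq_one.2 h2
      rw [hyo] at this
      norm_num at this
    · exact h
  have hKc : Nat.card K = 360 := by
    have h := card_centralizer_mul_relIndex (Subgroup.zpowers y : Subgroup G)
    rw [hcz, hrel, hcy] at h
    exact h.symm
  have hidx : K.index = 16 := by
    have h := K.index_mul_card
    rw [hKc, hN] at h
    omega
  have hKtop : K ≠ ⊤ := fun h => by rw [h, Subgroup.index_top] at hidx; norm_num at hidx
  -- elements of order three of `K` centralise `y`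
  have hthree : ∀ g ∈ K, g ^ 3 = 1 → g ∈ Cy := by
    intro g hg hg3
    have hi2 : (Cy.subgroupOf K).index = 2 := hrel
    have h2 := Subgroup.sq_mem_of_index_two hi2 (⟨g, hg⟩ : K)
    have h : (⟨g, hg⟩ : K) = (⟨g, hg⟩ : K) ^ 3 * ((⟨g, hg⟩ : K) ^ 2)⁻¹ := by group
    rw [show g = ((⟨g, hg⟩ : K) : G) from rfl, ← Subgroup.mem_subgroupOf, h,
      show (⟨g, hg⟩ : K) ^ 3 = 1 from Subtype.ext (by simpa using hg3), one_mul]
    exact inv_mem h2
  have hy3 : y ^ 3 = 1 := orderOf_dvd_iff_pow_eq_one.1 (dvd_of_eq hyo)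
  -- `y` fixes the base point only
  have hfy : fixCard K y = 1 := by
    have hid := fixCard_mul K y
    rw [hKc, hcy] at hid
    have hcls : classCard K y = fixCard Cy y := by
      rw [fixCard, card_fixedBy_centralizer]
      refine Nat.card_congr (Equiv.subtypeEquivRight fun h => ⟨fun hh => ⟨hh.2, ?_⟩, fun hh => ⟨?_, hh.1⟩⟩)
      · obtain ⟨g, hg⟩ := isConj_iff.1 hh.2
        exact (Subgroup.mem_centralizer_singleton_iff.1 (hthree h hh.1 (by
          rw [← hg, conj_pow, hy3, mul_one, mul_inv_cancel]))).symm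
      · exact hCK (Subgroup.mem_centralizer_singleton_iff.2 hh.2.symm.eq)
    have hi32 : Cy.index = 32 := by
      have h := Cy.index_mul_card
      rw [hcy, hN] at h
      omega
    have hlt : fixCard Cy y < Cy.index :=
      card_fixedBy_lt_index (centralizer_singleton_ne_top hG hy1) hy1
    have hm3 := fixCard_modEq_index Cy hyo
    rw [hi32] at hlt hm3
    rw [hcls] at hid
    omega
  let X := G ⧸ K
  set o : X := ((1 : G) : G ⧸ K) with ho
  have hstab : ∀ g : G, g • o = o ↔ g ∈ K := fun g => by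
    show ((g * 1 : G) : G ⧸ K) = _ ↔ _
    rw [mul_one, ho, QuotientGroup.eq, mul_one, inv_mem_iff]
  have hyfix : ∀ c : X, y • c = c → c = o := fun c hc => by
    have h := (Nat.card_eq_one_iff_unique.1 hfy).1
    exact congrArg Subtype.val (h.elim (⟨c, hc⟩ : MulAction.fixedBy X y)
      ⟨o, (hstab y).2 (hCK (Subgroup.mem_centralizer_singleton_iff.2 rfl))⟩)
  have hfive : ∀ b ∈ Cy, orderOf b = 5 → ∀ c : X, b • c = c → c = o := by
    intro b hb hbo c hc
    have hbc : Commute b y := Subgroup.mem_centralizer_singleton_iff.1 hb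
    have h5 := fixCard_modEq_index K hbo
    have hb1 : b ≠ 1 := fun h => by rw [h, orderOf_one] at hbo; norm_num at hbo
    have hlt : fixCard K b < K.index := card_fixedBy_lt_index hKtop hb1
    have h3 := card_fixedBy_modEq_inter (q := 3) (k := 1) K hbc (by rw [pow_one]; exact hy3)
    have hinter : Nat.card {c : G ⧸ K // b • c = c ∧ y • c = c} = 1 :=
      Nat.card_eq_one_iff_unique.2 ⟨⟨fun u v =>
        Subtype.ext ((hyfix _ u.2.2).trans (hyfix _ v.2.2).symm)⟩,
        ⟨⟨o, (hstab b).2 (hCK hb), (hstab y).2 (hCK (Subgroup.mem_centralizer_singleton_iff.2 rfl))⟩⟩⟩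
    rw [hinter] at h3
    change fixCard K b % 3 = 1 % 3 at h3
    rw [hidx] at h5 hlt
    have hone : fixCard K b = 1 := by omega
    have h := (Nat.card_eq_one_iff_unique.1 hone).1
    exact congrArg Subtype.val (h.elim (⟨c, hc⟩ : MulAction.fixedBy X b)
      ⟨o, (hstab b).2 (hCK hb)⟩)
  let W : OneEighty.Setting Cy :=
    { τ := ⟨y, Subgroup.mem_centralizer_singleton_iff.2 rfl⟩
      card_W := hcy
      central := fun w => Subtype.ext (Subgroup.mem_centralizer_singleton_iff.1 w.2).symm
      order_τ := (Subgroup.orderOf_coe _).symm.trans hyo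
      torsion := fun a r ha hr hc => by
        obtain ⟨i, hi⟩ := htor a r ((Subgroup.orderOf_coe a).trans ha)
          (Subgroup.mem_centralizer_singleton_iff.1 a.2).symm
          (by simpa using congrArg Subtype.val hr) (congrArg Subtype.val hc.eq :)
          (Subgroup.mem_centralizer_singleton_iff.1 r.2)
        exact ⟨i, Subtype.ext (by simpa using hi)⟩ }
  -- point stabilisers in `C(y)`
  have hL : ∀ c : X, c ≠ o → Nat.card (MulAction.stabilizer Cy c) = 12 ∧
      W.τ ∉ MulAction.stabilizer Cy c ∧ ∀ d : X, d ≠ o → ∃ w : Cy, w • c = d := by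
    intro c hc
    set L := MulAction.stabilizer Cy c
    have hτ : W.τ ∉ L := fun h => hc (hyfix c h)
    have h5 : ¬ 5 ∣ Nat.card L := by
      intro hd
      obtain ⟨b, hb⟩ := exists_prime_orderOf_dvd_card' (G := L) 5 hd
      exact hc (hfive ((b : Cy) : G) (b : Cy).2
        (by rw [Subgroup.orderOf_coe, Subgroup.orderOf_coe]; exact hb) c b.2)
    have h9 : ¬ 9 ∣ Nat.card L := by
      intro hd
      obtain ⟨U₀, hU₀⟩ := Sylow.exists_subgroup_card_pow_prime (G := L) 3 (n := 2) hd
      have hU : Nat.card (U₀.map L.subtype) = 3 ^ 2 := by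
        rw [← Nat.card_congr (U₀.equivMapOfInjective _ L.subtype_injective).toEquiv, hU₀]
      obtain ⟨U, hUle⟩ := (IsPGroup.of_card hU).exists_le_sylow
      have hUc : Nat.card (U : Subgroup Cy) = 3 ^ 2 :=
        card_sylow_eq (k := 2) (m := 20) (by rw [hcy]; norm_num) (by norm_num) U
      have heq := Subgroup.eq_of_le_of_card_ge hUle (le_of_eq (hUc.trans hU.symm))
      have hz : IsPGroup 3 ↥(Subgroup.zpowers W.τ) :=
        IsPGroup.of_card (n := 1) (by rw [Nat.card_zpowers, W.order_τ, pow_one])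
      have hNm : W.τ ∈ Subgroup.normalizer ((U : Subgroup Cy) : Set Cy) := by
        rw [Subgroup.mem_normalizer_iff]
        intro x
        rw [(W.central x).eq, mul_inv_cancel_right]
      have hτU : W.τ ∈ (U : Subgroup Cy) :=
        ((hz.inf_normalizer_sylow U).le ⟨Subgroup.mem_zpowers _, hNm⟩).2
      rw [← heq] at hτU
      exact hτ (Subgroup.map_subtype_le U₀ hτU)
    have hmul : Nat.card (MulAction.orbit Cy c) * Nat.card L = 180 := by
      rw [Nat.card_coe_set_eq, ← MulAction.index_stabilizer, Subgroup.index_mul_card, hcy]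
    have horb : MulAction.orbit Cy c ⊆ {d : X | d ≠ o} := by
      rintro _ ⟨w, rfl⟩ h
      refine hc ?_
      have h' : (w : G) • c = (w : G) • o := (h : (w : G) • c = o).trans ((hstab _).2 (hCK w.2)).symm
      exact MulAction.injective (w : G) h'
    haveI : Fintype X := Fintype.ofFinite X
    have h15 : ({d : X | d ≠ o}).ncard = 15 := by
      have h : ({d : X | d ≠ o}) = Set.univ \ {o} := by ext; simp
      rw [h, Set.ncard_sdiff_singleton_of_mem (Set.mem_univ _), Set.ncard_univ,
        ← Subgroup.index_eq_card, hidx]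
    have hle : Nat.card (MulAction.orbit Cy c) ≤ 15 := by
      rw [Nat.card_coe_set_eq, ← h15]; exact Set.ncard_le_ncard horb
    have hd : Nat.card L ∣ 180 := hcy ▸ Subgroup.card_subgroup_dvd_card L
    have hall : ∀ l ∈ Nat.divisors 180, ¬ 5 ∣ l → ¬ 9 ∣ l → l ≤ 12 := by decide +kernel
    have hl12 : Nat.card L ≤ 12 := hall _ (Nat.mem_divisors.2 ⟨hd, by norm_num⟩) h5 h9
    have hL12 : Nat.card L = 12 := by nlinarith
    refine ⟨hL12, hτ, fun d hd => ?_⟩
    have heq : MulAction.orbit Cy c = {d : X | d ≠ o} := by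
      refine Set.eq_of_subset_of_ncard_le horb ?_
      rw [h15, ← Nat.card_coe_set_eq]
      nlinarith
    have hmem : d ∈ MulAction.orbit Cy c := heq ▸ hd
    exact hmem
  -- pairs of points
  obtain ⟨α, hα⟩ : ∃ α : X, α ≠ o := by
    haveI : Nontrivial X := Finite.one_lt_card_iff_nontrivial.1 (by
      rw [← Subgroup.index_eq_card, hidx]; norm_num)
    exact exists_ne o
  have hpair : ∀ a b : X, a ≠ b → ∃ g : G, g • o = a ∧ g • α = b := by
    intro a b hab
    obtain ⟨g₁, rfl⟩ := MulAction.exists_smul_eq G o a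
    obtain ⟨w, hw⟩ := (hL α hα).2.2 (g₁⁻¹ • b) fun h => hab (by rw [← h, smul_inv_smul])
    refine ⟨g₁ * w, ?_, ?_⟩
    · rw [mul_smul, (hstab _).2 (hCK w.2)]
    · rw [mul_smul, show (w : G) • α = g₁⁻¹ • b from hw, smul_inv_smul]
  let S3 : X → X → Set G := fun a b => {g | g ^ 3 = 1 ∧ g • a = a ∧ g • b = b}
  let line : X → X → Set X := fun a b => {c | ∀ g ∈ S3 a b, g • c = c}
  have hS3conj : ∀ (h : G) (a b : X) (g : G),
      g ∈ S3 (h • a) (h • b) ↔ h⁻¹ * g * h ∈ S3 a b := by
    intro h a b g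
    have hp : (h⁻¹ * g * h) ^ 3 = h⁻¹ * g ^ 3 * h := by
      have e := conj_pow (a := h⁻¹) (b := g) (i := 3)
      rw [inv_inv] at e
      exact e
    show g ^ 3 = 1 ∧ g • h • a = h • a ∧ g • h • b = h • b ↔
      (h⁻¹ * g * h) ^ 3 = 1 ∧ (h⁻¹ * g * h) • a = a ∧ (h⁻¹ * g * h) • b = b
    refine and_congr ?_ (and_congr ?_ ?_)
    · rw [hp]
      constructor
      · intro e; rw [e]; group
      · intro e
        calc g ^ 3 = h * (h⁻¹ * g ^ 3 * h) * h⁻¹ := by group
          _ = 1 := by rw [e]; group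
    · rw [mul_smul, mul_smul, inv_smul_eq_iff]
    · rw [mul_smul, mul_smul, inv_smul_eq_iff]
  have hsmul : ∀ (h : G) (a b : X), h • line a b = line (h • a) (h • b) := by
    intro h a b
    ext c
    rw [Set.mem_smul_set_iff_inv_smul_mem]
    constructor
    · intro hc g hg
      have h1 := hc _ ((hS3conj h a b g).1 hg)
      rw [mul_smul, mul_smul, smul_inv_smul, inv_smul_eq_iff] at h1
      rw [h1, smul_inv_smul]
    · intro hc g hg
      have h2 : h * g * h⁻¹ ∈ S3 (h • a) (h • b) := (hS3conj h a b _).2 (by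
        rw [show h⁻¹ * (h * g * h⁻¹) * h = g by group]; exact hg)
      have h1 := hc _ h2
      rw [mul_smul, mul_smul] at h1
      exact eq_inv_smul_iff.2 h1
  have hS3card : ∀ a b : X, a ≠ b → (S3 a b).ncard = (S3 o α).ncard := by
    intro a b hab
    obtain ⟨h, rfl, rfl⟩ := hpair a b hab
    rw [← Nat.card_coe_set_eq, ← Nat.card_coe_set_eq]
    exact Nat.card_congr ((MulAut.conj h⁻¹).toEquiv.subtypeEquiv fun g => by
      show g ∈ S3 (h • o) (h • α) ↔ h⁻¹ * g * h⁻¹⁻¹ ∈ S3 o α
      rw [inv_inv]; exact hS3conj h o α g)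
  have hbase : line o α = insert o ((fun z : Subgroup.zpowers y => (z : G) • α) '' Set.univ) := by
    have hmemC : ∀ g ∈ S3 o α, g ∈ Cy := fun g hg => hthree g ((hstab g).1 hg.2.1) hg.1
    apply Set.Subset.antisymm
    · intro c hc
      by_cases hco : c = o
      · exact Or.inl hco
      refine Or.inr ?_
      obtain ⟨hLα, hτα, htr⟩ := hL α hα
      obtain ⟨hLc, -, -⟩ := hL c hco
      have hle : MulAction.stabilizer Cy α ≤ MulAction.stabilizer Cy c := by
        refine W.le_of_torsion_le hLα hτα fun x hx hx3 => ?_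
        exact hc (x : G) ⟨by simpa using congrArg Subtype.val hx3, (hstab _).2 (hCK x.2), hx⟩
      have heq := Subgroup.eq_of_le_of_card_ge hle (le_of_eq (hLc.trans hLα.symm))
      obtain ⟨w, rfl⟩ := htr c hco
      have hw : w ∈ Subgroup.normalizer ((MulAction.stabilizer Cy α : Subgroup Cy) : Set Cy) := by
        rw [Subgroup.mem_normalizer_iff]
        intro x
        constructor
        · intro hx
          rw [heq, MulAction.mem_stabilizer_iff, mul_smul, mul_smul, inv_smul_smul,
            MulAction.mem_stabilizer_iff.1 hx]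
        · intro hx
          rw [heq, MulAction.mem_stabilizer_iff, mul_smul, mul_smul, inv_smul_smul] at hx
          exact MulAction.mem_stabilizer_iff.2 (MulAction.injective w hx)
      obtain ⟨z, hz, hzw⟩ := W.exists_zpow_mul_mem hLα hτα hw
      obtain ⟨i, rfl⟩ := hz
      refine ⟨⟨y ^ (-i), zpow_mem (Subgroup.mem_zpowers y) _⟩, trivial, ?_⟩
      have h1 : (W.τ ^ i * w) • α = α := hzw
      have h2 : (y ^ i : G) • ((w : G) • α) = α := by
        rw [smul_smul]
        exact h1
      show y ^ (-i) • α = (w : G) • α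
      rw [zpow_neg, inv_smul_eq_iff, h2]
    · rintro c (rfl | ⟨z, -, rfl⟩) g hg
      · exact hg.2.1
      · show g • (z : G) • α = (z : G) • α
        have hc : Commute g (z : G) := by
          obtain ⟨i, hi⟩ := z.2
          rw [← hi]
          have hc' : Commute g y := Subgroup.mem_centralizer_singleton_iff.1 (hmemC g hg)
          exact hc'.zpow_right i
        rw [smul_smul, hc.eq, ← smul_smul, hg.2.2]
  have hbasecard : Nat.card (line o α) = 4 := by
    rw [hbase, Set.image_univ, Nat.card_coe_set_eq, Set.ncard_insert_of_notMem,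
      ← Nat.card_coe_set_eq, Nat.card_range_of_injective, hzc]
    · intro z z' h
      have h' : ((z' : G)⁻¹ * z) • α = α := by rw [mul_smul]; exact inv_smul_eq_iff.2 h
      by_contra hne
      have hne1 : (z' : G)⁻¹ * z ≠ 1 := fun e => hne (Subtype.ext (inv_mul_eq_one.1 e).symm)
      have hgen := eq_zpowers_of_mem_prime hzc (mul_mem (inv_mem z'.2) z.2) hne1
      have hyz : y ∈ Subgroup.zpowers ((z' : G)⁻¹ * z) := by
        rw [hgen]; exact Subgroup.mem_zpowers y
      obtain ⟨i, hi⟩ := hyz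
      refine hα (hyfix α ?_)
      rw [← hi]
      exact (MulAction.stabilizer G α).zpow_mem h' i
    · rintro ⟨z, hz⟩
      have hzo : (z : G) • o = o := by
        refine (hstab _).2 (hCK ?_)
        obtain ⟨i, hi⟩ := z.2
        rw [← hi]
        exact zpow_mem (Subgroup.mem_centralizer_singleton_iff.2 rfl) i
      exact hα (MulAction.injective (z : G) (hz.trans hzo.symm))
  let S : PlaneSixteen.LineSystem G X :=
    { line := line
      left_mem := fun a b g hg => hg.2.1
      right_mem := fun a b g hg => hg.2.2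
      line_comm := fun a b => Set.ext fun c =>
        ⟨fun h g hg => h g ⟨hg.1, hg.2.2, hg.2.1⟩, fun h g hg => h g ⟨hg.1, hg.2.2, hg.2.1⟩⟩
      line_card := fun a b hab => by
        obtain ⟨h, rfl, rfl⟩ := hpair a b hab
        rw [← hsmul, ← hbasecard, Nat.card_coe_set_eq, Nat.card_coe_set_eq, Set.ncard_smul_set]
      line_eq := fun a b c hab hc hca => by
        have hsub : S3 a b ⊆ S3 a c := fun g hg => ⟨hg.1, hg.2.1, hc g hg⟩
        have heq : S3 a b = S3 a c := Set.eq_of_subset_of_ncard_le hsub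
          (by rw [hS3card a b hab, hS3card a c (Ne.symm hca)])
        show {d : X | ∀ g ∈ S3 a c, g • d = d} = {d : X | ∀ g ∈ S3 a b, g • d = d}
        rw [heq]
      smul_line := hsmul }
  have hdvd := S.card_dvd (show Nat.card X = 16 by
    show Nat.card (G ⧸ K) = 16
    rw [← Subgroup.index_eq_card, hidx]) o fun a b ha hb => by
      obtain ⟨w, hw⟩ := (hL a ha).2.2 b hb
      exact ⟨w, (hstab _).2 (hCK w.2), hw⟩
  rw [hN] at hdvd
  norm_num [Nat.factorial] at hdvd

theorem case_ninetySix (hN : Nat.card G = 5760) (hG : ¬ IsMulCommutative G)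
    [Fact (Nat.Prime 5)] (P : Sylow 5 G) (hP : Nat.card (P : Subgroup G) = 5)
    (hn : Nat.card (Sylow 5 G) = 96) (hNc : Nat.card (N P) = 60)
    (hC : Nat.card (C P) = 15 ∨ Nat.card (C P) = 30)
    (hco : Nat.Coprime 3 ((C P).relIndex (N P))) : False := by
  haveI : Fact (Nat.Prime 3) := ⟨Nat.prime_three⟩
  obtain ⟨y, hy, hyo⟩ := exists_orderOf (H := C P) Nat.prime_three
    (by rcases hC with h | h <;> rw [h] <;> norm_num)
  have hy1 : y ≠ 1 := fun h => by rw [h, orderOf_one] at hyo; norm_num at hyo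
  have hy3 : y ^ 3 = 1 := orderOf_dvd_iff_pow_eq_one.1 (dvd_of_eq hyo)
  have hy9 : y ^ 9 = 1 := by rw [show (9 : ℕ) = 3 * 3 by norm_num, pow_mul, hy3, one_pow]
  have hinC : ∀ h ∈ N P, IsConj y h → h ∈ C P ∧ h ∈ Subgroup.zpowers y := by
    intro h hh hth
    have hhC := mem_C_of_coprime_relIndex P hy3 hco hh hth
    refine ⟨hhC, three_torsion P hP hC hy hyo hhC ?_⟩
    obtain ⟨g, hg⟩ := isConj_iff.1 hth
    rw [← hg, conj_pow, hy9, mul_one, mul_inv_cancel]
  have hm2 : classCard (N P) y + 1 ≤ 3 := by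
    rw [classCard, ← Finite.card_option]
    refine le_of_le_of_eq (Nat.card_le_card_of_injective
      (fun o => o.elim (1 : Subgroup.zpowers y) fun h => ⟨h.1, (hinC h.1 h.2.1 h.2.2).2⟩) ?_)
      (by rw [Nat.card_zpowers, hyo])
    rintro (_ | a) (_ | b) h
    · rfl
    · obtain ⟨g, hg⟩ := isConj_iff.1 b.2.2
      have h1 : b.1 = 1 := (congrArg Subtype.val h :).symm
      exact absurd (by simpa using hg.trans h1) hy1
    · obtain ⟨g, hg⟩ := isConj_iff.1 a.2.2
      have h1 : a.1 = 1 := (congrArg Subtype.val h :)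
      exact absurd (by simpa using hg.trans h1) hy1
    · exact congrArg some (Subtype.ext (congrArg Subtype.val h :))
  have hm0 := classCard_pos (N P) (C_le_N P hy)
  have h1 := fixCard_mod P hP hy
  have h2 := fixCard_lt P (by omega) hy1
  have h3 := fixCard_modEq_index (N P) hyo
  have hid := fixCard_mul (N P) y
  rw [index_N, hn] at h3
  rw [hn] at h2
  rw [hNc] at hid
  have hd := Subgroup.card_subgroup_dvd_card (Subgroup.centralizer ({y} : Set G))
  rw [hN] at hd
  have hall : ∀ m < 3, 0 < m → ∀ f < 96, f % 5 = 1 → 0 = f % 3 → m ∣ f * 60 →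
      f * 60 / m ∣ 5760 → f * 60 / m = 360 ∧ m = 1 ∨ f * 60 / m = 180 ∧ m = 2 := by
    decide +kernel
  have hcase := hall (classCard (N P) y) (by omega) hm0 _ h2 h1 h3 ⟨_, hid⟩
    (by rw [hid, Nat.mul_div_cancel_left _ hm0]; exact hd)
  rw [hid, Nat.mul_div_cancel_left _ hm0] at hcase
  have hallc : ∀ h ∈ N P, IsConj y h → h ∈ C P ∧ Commute y h := fun h hh hth => by
    obtain ⟨hhC, i, hi⟩ := hinC h hh hth
    refine ⟨hhC, ?_⟩
    rw [← show y ^ i = h from hi]
    exact Commute.self_zpow y i
  have g1 := fixCard_centralizer_mod P hP hy hallc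
  rcases hcase with ⟨hc, hm⟩ | ⟨hc, hm⟩
  · -- isolated
    have hidx := (Subgroup.centralizer ({y} : Set G)).index_mul_card
    rw [hc, hN] at hidx
    have hi : (Subgroup.centralizer ({y} : Set G)).index = 16 := by omega
    have g2 : fixCard (Subgroup.centralizer ({y} : Set G)) y
        < (Subgroup.centralizer ({y} : Set G)).index :=
      card_fixedBy_lt_index (centralizer_singleton_ne_top hG hy1) hy1
    have g3 := fixCard_modEq_index (Subgroup.centralizer ({y} : Set G)) hyo
    rw [hi] at g2 g3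
    rw [hm] at g1
    have hone : fixCard (Subgroup.centralizer ({y} : Set G)) y = 1 := by omega
    rw [fixCard, card_fixedBy_centralizer] at hone
    refine false_of_isolated hG hN hyo fun h hh hc => ?_
    have hu := (Nat.card_eq_one_iff_unique.1 hone).1
    exact congrArg Subtype.val (hu.elim (⟨h, hh, hc⟩ : {h : G // IsConj y h ∧ Commute y h})
      ⟨y, IsConj.refl y, Commute.refl y⟩)
  · -- inverted
    rw [hm] at g1
    obtain ⟨h, hne⟩ : ∃ h : {h : G // h ∈ N P ∧ IsConj y h}, h.1 ≠ y := by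
      by_contra hcon
      push Not at hcon
      have : classCard (N P) y ≤ 1 :=
        Finite.card_le_one_iff_subsingleton.2 ⟨fun a b => Subtype.ext ((hcon a).trans (hcon b).symm)⟩
      omega
    obtain ⟨g₀, hg₀⟩ := isConj_iff.1 h.2.2
    obtain ⟨i, hi⟩ := (hinC h.1 h.2.1 h.2.2).2
    have hinv : h.1 = y⁻¹ := by
      have hh1 : h.1 ≠ 1 := fun e => hy1 (by
        have := hg₀.trans e
        simpa using this)
      have hi' : h.1 = y ^ i := hi.symm
      have hmod3 : y ^ i = y ^ (i % 3) := by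
        conv_lhs => rw [← Int.emod_add_mul_ediv i 3, zpow_add, zpow_mul, zpow_ofNat, hy3, one_zpow,
          mul_one]
      rcases (by omega : i % 3 = 0 ∨ i % 3 = 1 ∨ i % 3 = 2) with e | e | e <;>
        rw [hmod3, e] at hi'
      · exact absurd (hi'.trans (zpow_zero y)) hh1
      · exact absurd (hi'.trans (zpow_one y)) hne
      · rw [hi', eq_inv_iff_mul_eq_one, ← hy3]; group
    refine false_of_inverted hG hN hyo (hg₀.trans hinv) hc g1 fun a r ha hya hr hra hry => ?_
    obtain ⟨Q, hQ⟩ := (IsPGroup.of_card (n := 1) (by rw [Nat.card_zpowers, ha, pow_one]) :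
      IsPGroup 5 ↥(Subgroup.zpowers a)).exists_le_sylow
    have hQc : Nat.card (Q : Subgroup G) = 5 := (Nat.card_congr (Q.equiv P).toEquiv).trans hP
    have ha1 : a ≠ 1 := fun e => by rw [e, orderOf_one] at ha; norm_num at ha
    have haQ : a ∈ (Q : Subgroup G) := hQ (Subgroup.mem_zpowers a)
    obtain ⟨x, hx⟩ := MulAction.exists_smul_eq G Q P
    have hCQ : Nat.card (C Q) = Nat.card (C P) := by
      rw [← hx]
      refine Nat.card_congr ((MulAut.conj x).toEquiv.subtypeEquiv fun c => ?_)
      show c ∈ C Q ↔ x * c * x⁻¹ ∈ C (x • Q)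
      simp only [C, Subgroup.mem_centralizer_iff, SetLike.mem_coe, Sylow.coe_subgroup_smul,
        Subgroup.mem_pointwise_smul_iff_inv_smul_mem]
      constructor
      · intro hh b hb
        have e := hh _ hb
        simp only [← map_inv, MulAut.smul_def, MulAut.conj_apply, inv_inv] at e
        calc b * (x * c * x⁻¹) = x * ((x⁻¹ * b * x) * c) * x⁻¹ := by group
          _ = x * (c * (x⁻¹ * b * x)) * x⁻¹ := by rw [e]
          _ = x * c * x⁻¹ * b := by group
      · intro hh b hb
        have e := hh (x * b * x⁻¹) (by simpa [MulAut.smul_def, mul_assoc] using hb)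
        calc b * c = x⁻¹ * (x * b * x⁻¹ * (x * c * x⁻¹)) * x := by group
          _ = x⁻¹ * (x * c * x⁻¹ * (x * b * x⁻¹)) * x := by rw [e]
          _ = c * b := by group
    exact three_torsion Q hQc (by rw [hCQ]; exact hC)
      (mem_centralizer_of_commute_prime hQc haQ ha1 hya) hyo
      (mem_centralizer_of_commute_prime hQc haQ ha1 hra) hr

theorem case_sixteen (hG : ¬ IsMulCommutative G) [Fact (Nat.Prime 5)] (P : Sylow 5 G)
    (hP : Nat.card (P : Subgroup G) = 5) (hn : Nat.card (Sylow 5 G) = 16)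
    (hC : 9 ∣ Nat.card (C P)) : False := by
  haveI : Fact (Nat.Prime 3) := ⟨Nat.prime_three⟩
  obtain ⟨R₀, hR₀⟩ := Sylow.exists_subgroup_card_pow_prime (G := ↥(C P)) 3 (n := 2) hC
  set R := R₀.map (C P).subtype with hRdef
  have hR : Nat.card R = 9 := by
    rw [← Nat.card_congr (R₀.equivMapOfInjective _ (C P).subtype_injective).toEquiv, hR₀]; norm_num
  have hf : ∀ a ∈ R, a ≠ 1 → Nat.card (MulAction.fixedBy (G ⧸ N P) a) = 1 := by
    intro a ha ha1
    have h1 := fixCard_mod P hP (Subgroup.map_subtype_le R₀ ha)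
    have h2 := fixCard_lt P (by omega) ha1
    have h3 := card_fixedBy_modEq_index (q := 3) (k := 2) (N P) (x := a)
      (orderOf_dvd_iff_pow_eq_one.1 (by
        have h := Subgroup.orderOf_dvd_natCard R ha
        rw [hR] at h
        simpa using h))
    rw [index_N, hn] at h3
    rw [hn] at h2
    change 16 % 3 = fixCard (N P) a % 3 at h3
    show fixCard (N P) a = 1
    omega
  have h := card_dvd_sum_fixedBy R (N P) 1 hf
  rw [hR, index_N, hn] at h
  norm_num at h

theorem case_thirtySix (hN : Nat.card G = 5760) (hG : ¬ IsMulCommutative G)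
    [Fact (Nat.Prime 5)] (P : Sylow 5 G)
    (hP : Nat.card (P : Subgroup G) = 5) (hn : Nat.card (Sylow 5 G) = 36)
    (hNc : Nat.card (N P) = 160) (hC : 2 ∣ Nat.card (C P)) (hC' : Nat.card (C P) ≤ 80) :
    False := by
  obtain ⟨T, hTN, hT⟩ := exists_two_subgroup_le (H := N P) (k := 5) (by rw [hNc]; norm_num)
  obtain ⟨t, ht, hto, hk⟩ := exists_invol_central P hP (by norm_num) hT hTN hC
  have ht1 := ne_one_of_orderOf_two hto
  have h1 := fixCard_mod P hP ht
  have h2 := fixCard_lt P (by omega) ht1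
  have h3 := four_dvd_sub P hG (by omega) hto
  rw [hn] at h2 h3
  have hm := classCard_bound P hP (q := 2) (by norm_num)
    (orderOf_dvd_iff_pow_eq_one.1 (dvd_of_eq hto)) ht1
    fun h hh hth => mem_C_of_isConj P hP (by rw [hn]; omega) hh hth
  have hid := fixCard_mul (N P) t
  rw [hNc, show fixCard (N P) t = 16 by omega] at hid
  obtain ⟨n, hn5, hcard⟩ := exists_centralizer_eq P ht
  have hd := Subgroup.card_subgroup_dvd_card (Subgroup.centralizer ({t} : Set G))
  have hkN : Nat.card ↥(N P ⊓ Subgroup.centralizer ({t} : Set G)) ∣ 160 :=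
    hNc ▸ Subgroup.card_dvd_of_le inf_le_left
  have hk' : Nat.card ↥(N P ⊓ Subgroup.centralizer ({t} : Set G)) = 160 := Nat.dvd_antisymm hkN hk
  rw [hk'] at hcard
  rw [hcard, ← mul_assoc] at hid
  rw [hcard, hN] at hd
  have hmn : classCard (N P) t * n = 16 := (Nat.eq_of_mul_eq_mul_right (by norm_num) hid).symm
  have hall : ∀ m ∈ Nat.divisors 16, m < 16 → 16 / m % 5 = 1 → ¬ 16 / m * 160 ∣ 5760 := by
    decide +kernel
  have hm0 : 0 < classCard (N P) t := classCard_pos _ (C_le_N P ht)
  refine hall (classCard (N P) t) (Nat.mem_divisors.2 ⟨⟨n, hmn.symm⟩, by norm_num⟩) (by omega)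
    ?_ ?_
  · rw [← hmn, Nat.mul_div_cancel_left _ hm0]; exact hn5
  · rw [← hmn, Nat.mul_div_cancel_left _ hm0]; exact hd

theorem case_fiveSeventySix (hN : Nat.card G = 5760) (hG : ¬ IsMulCommutative G)
    [Fact (Nat.Prime 5)] (P : Sylow 5 G)
    (hP : Nat.card (P : Subgroup G) = 5) (hNc : Nat.card (N P) = 10) (hC : Nat.card (C P) = 5) :
    False := by
  haveI : Fact (Nat.Prime 2) := ⟨Nat.prime_two⟩
  have hCP : Subgroup.centralizer ((P : Subgroup G) : Set G) = P := by
    haveI : IsCyclic ↥(P : Subgroup G) := isCyclic_of_prime_card hP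
    exact (Subgroup.eq_of_le_of_card_ge (Subgroup.le_centralizer _)
      (le_of_eq (hC.trans hP.symm))).symm
  obtain ⟨S⟩ : Nonempty (Sylow 2 G) := inferInstance
  have hS : Nat.card (S : Subgroup G) = 2 ^ 7 :=
    card_sylow_eq (k := 7) (m := 45) (by rw [hN]; norm_num) (by norm_num) S
  obtain ⟨t, -, hto, hSt⟩ := exists_central_involution (IsPGroup.of_card hS)
    (Subgroup.le_normalizer (H := (S : Subgroup G))) (by rw [hS]; norm_num)
  have hd := Subgroup.card_subgroup_dvd_card (Subgroup.centralizer ({t} : Set G))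
  rw [hN] at hd
  have h128 : 128 ∣ Nat.card (Subgroup.centralizer ({t} : Set G)) := by
    have h := Subgroup.card_dvd_of_le hSt
    rw [hS] at h
    simpa using h
  have hne : Nat.card (Subgroup.centralizer ({t} : Set G)) ≠ 5760 := fun h =>
    centralizer_singleton_ne_top hG (ne_one_of_orderOf_two hto)
      (Subgroup.eq_top_of_card_eq _ (h.trans hN.symm))
  have hall : ∀ d ∈ Nat.divisors 5760, 128 ∣ d → d ≠ 5760 →
      d ∈ ([128, 384, 640, 1152, 1920] : List ℕ) := by decide +kernel
  have h := Check.sel_eq_true hG (P : Subgroup G) hP hCP 2 2 76 (hNc.trans (by norm_num)) rfl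
    (by norm_num) (by rw [hN]; norm_num) (fun it =>
      ([128, 384, 640, 1152, 1920] : List ℕ).any fun C =>
        Check.valOK 5 5760 C true it || Check.valOK 5 5760 C false it) (fun items hitems => by
      rw [hN] at hitems
      rw [List.any_eq_true]
      refine ⟨_, hall _ (Nat.mem_divisors.2 ⟨hd, by norm_num⟩) h128 hne, ?_⟩
      rw [Bool.or_eq_true]
      by_cases hδ : ∃ v : G, v ∈ Subgroup.normalizer ((P : Subgroup G) : Set G) ∧ IsConj t v
      · exact Or.inl (hitems t hto true (iff_of_true rfl hδ))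
      · exact Or.inr (hitems t hto false (iff_of_false Bool.false_ne_true hδ)))
  rw [hN] at h
  revert h
  decide +kernel

/-- No finite simple group has order 5760 = 2^7 * 3^2 * 5. -/
theorem result {G : Type*} [Group G] [Finite G] [IsSimpleGroup G] : Nat.card G ≠ 5760 := by
  intro hN
  have hG := not_comm_of_card hN (by norm_num)
  haveI : Fact (Nat.Prime 5) := ⟨by norm_num⟩
  obtain ⟨P⟩ : Nonempty (Sylow 5 G) := inferInstance
  have hP : Nat.card (P : Subgroup G) = 5 := by
    simpa using card_sylow_eq (k := 1) (m := 1152) (by rw [hN]; norm_num) (by norm_num) P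
  have hn := card_sylow_mem hG (p := 5) (k := 1) (m := 1152) (by rw [hN]; norm_num) one_ne_zero
    (by norm_num)
  rw [show (Nat.divisors 1152).filter (fun d => d % 5 = 1 ∧ d ≠ 1) = {6, 16, 36, 96, 576} by
    decide +kernel] at hn
  simp only [Finset.mem_insert, Finset.mem_singleton] at hn
  have hNn := card_sylow_mul_card_normalizer P
  rw [hN] at hNn
  change _ * Nat.card (N P) = 5760 at hNn
  obtain ⟨hr1, hr2, hr3⟩ :=
    Finset.mem_filter.1 (relIndex_centralizer_mem hG P hP (n := Nat.card (N P)) rfl)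
  have hmul := card_centralizer_mul_relIndex (P : Subgroup G)
  change (C P).relIndex (N P) ∈ _ at hr1
  change (C P).relIndex (N P) ∣ _ at hr2
  change (C P).relIndex (N P) ≠ 1 at hr3
  change Nat.card (C P) * (C P).relIndex (N P) = Nat.card (N P) at hmul
  have he : ∀ e ∈ Nat.divisors (5 - 1), e ≠ 1 → e = 2 ∨ e = 4 := by decide
  rcases hn with h | h | h | h | h
  · have hidx : (N P).index = 6 := (index_N P).trans h
    exact absurd (two_mul_card_dvd_factorial_index hG (N P) (N_ne_top P (by omega)))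
      (by rw [hidx, hN]; decide +kernel)
  · have hNc : Nat.card (N P) = 360 := by rw [h] at hNn; omega
    rcases he _ hr1 hr3 with e | e <;> rw [e, hNc] at hmul <;>
      exact case_sixteen hG P hP h ⟨Nat.card (C P) / 9, by omega⟩
  · have hNc : Nat.card (N P) = 160 := by rw [h] at hNn; omega
    rcases he _ hr1 hr3 with e | e <;> rw [e, hNc] at hmul <;>
      exact case_thirtySix hN hG P hP h hNc ⟨Nat.card (C P) / 2, by omega⟩ (by omega)
  · have hNc : Nat.card (N P) = 60 := by rw [h] at hNn; omega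
    rcases he _ hr1 hr3 with e | e <;> rw [e, hNc] at hmul
    · exact case_ninetySix hN hG P hP h hNc (Or.inr (by omega)) (by rw [e]; norm_num)
    · exact case_ninetySix hN hG P hP h hNc (Or.inl (by omega)) (by rw [e]; norm_num)
  · have hNc : Nat.card (N P) = 10 := by rw [h] at hNn; omega
    rcases he _ hr1 hr3 with e | e <;> rw [e, hNc] at hmul
    · exact case_fiveSeventySix hN hG P hP hNc (by omega)
    · omega

end Cfsg.Agent.S0980
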