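import Cfsg.Statements.S0983
import Cfsg.Agent.Classification.OrderRange.Table
import Cfsg.Agent.Classification.OrderRange.Case5400
import Cfsg.Agent.S0976
import Cfsg.Agent.S0977
import Cfsg.Agent.S0978
import Cfsg.Agent.S0980

set_option autoImplicit false
open Cfsg

namespace Cfsg.Agent.S0983

/-- A non-abelian finite simple group of order greater than 3640 and at most 6232 has order 4080, 5616, 6048 or 6072. -/
theorem result {G : Type*} [Group G] [Finite G] [IsSimpleGroup G] (hG : ¬ IsMulCommutative G) (h1 : 3640 < Nat.card G) (h2 : Nat.card G ≤ 6232) : Nat.card G = 4080 ∨ Nat.card G = 5616 ∨ Nat.card G = 6048 ∨ Nat.card G = 6072 := by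
  obtain ⟨j, hj⟩ := CfsgLib.Classification.OrderRange.four_dvd_card hG
  obtain ⟨c, hc⟩ := CfsgLib.Classification.OrderRange.exists_cert (j := j) (by omega) (by omega)
  rw [← hj] at hc
  rcases CfsgLib.Classification.OrderRange.mem_of_check hG hc with h | h
  · simpa using h
  · simp only [List.mem_cons, List.not_mem_nil, or_false] at h
    rcases h with h | h | h | h | h
    · exact absurd h Cfsg.Agent.S0976.result
    · exact absurd h Cfsg.Agent.S0977.result
    · exact absurd h Cfsg.Agent.S0978.result
    · exact (CfsgLib.Classification.OrderRange.false_of_card_5400 hG h).elim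
    · exact absurd h Cfsg.Agent.S0980.result

end Cfsg.Agent.S0983
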