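import Cfsg.Statements.S0992
import Cfsg.Agent.Small.KleinSylow
import Cfsg.Agent.Small.SylowArgs

set_option autoImplicit false
open Cfsg

namespace Cfsg.Agent.S0992

/-- Let G be a non-abelian finite simple group of even order not divisible by 8, and T a Sylow 2-subgroup. Then T is a Klein four-group and the centralizer of T has index 3 in the normalizer of T. -/
theorem result {G : Type*} [Group G] [Finite G] [IsSimpleGroup G] (hG : ¬ IsMulCommutative G) (h2 : Even (Nat.card G)) (h8 : ¬ 8 ∣ Nat.card G) (T : Sylow 2 G) : IsKleinFour ↥(T : Subgroup G) ∧ (Subgroup.centralizer ((T : Subgroup G) : Set G)).relIndex (Subgroup.normalizer ((T : Subgroup G) : Set G)) = 3 := by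
  haveI : Fact (Nat.Prime 2) := ⟨Nat.prime_two⟩
  have h4 := CfsgLib.Small.four_dvd_card_of_simple hG (even_iff_two_dvd.1 h2)
  have hm : ¬ 2 ∣ Nat.card G / 4 := fun h => h8 (by omega)
  have hTc : Nat.card ↥(T : Subgroup G) = 2 ^ 2 :=
    CfsgLib.Small.card_sylow_eq (k := 2) (m := Nat.card G / 4)
      (by rw [show (2 : ℕ) ^ 2 = 4 by rfl, Nat.mul_div_cancel' h4]) hm T
  have hnc : ¬ IsCyclic ↥(T : Subgroup G) := fun hc =>
    CfsgLib.Small.not_normalizer_le_centralizer hG (even_iff_two_dvd.1 h2) T
      (IsCyclic.normalizer_le_centralizer ((Nat.minFac_eq_two_iff _).2 (even_iff_two_dvd.1 h2)) hc)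
  have hK : IsKleinFour ↥(T : Subgroup G) :=
    { card_four := by rw [hTc]; rfl
      exponent_two := by
        haveI : Nontrivial ↥(T : Subgroup G) := Finite.one_lt_card_iff_nontrivial.1 (by rw [hTc]; norm_num)
        refine (Monoid.exponent_eq_prime_iff Nat.prime_two).2 fun t ht => ?_
        obtain ⟨k, hk, hk'⟩ := (Nat.dvd_prime_pow Nat.prime_two).1 (hTc ▸ orderOf_dvd_natCard t)
        rcases k with _ | _ | k
        · exact absurd (orderOf_eq_one_iff.1 (by simpa using hk')) ht
        · simpa using hk'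
        · exfalso
          have hk2 : k = 0 := by omega
          exact hnc (isCyclic_of_orderOf_eq_card t (by rw [hk', hTc, hk2])) }
  exact ⟨hK, (CfsgLib.Small.kleinFour_normalizer_dichotomy T hK).resolve_left
    (CfsgLib.Small.not_normalizer_le_centralizer hG (even_iff_two_dvd.1 h2) T) |>.2⟩

end Cfsg.Agent.S0992
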