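import Cfsg.Statements.S4092
import Mathlib.GroupTheory.Nilpotent
-- import your own Cfsg.Agent.* helpers here

set_option autoImplicit false
open Cfsg

namespace Cfsg.Agent.S4092

variable {G : Type*} [Group G] [Finite G] {p : ℕ} [Fact p.Prime]

/-- normalizers grow inside `p`-groups -/
theorem exists_mem_normalizer {D P : Subgroup G} (hP : IsPGroup p P) (hle : D ≤ P) (hne : D ≠ P) :
    ∃ x ∈ P, x ∈ Subgroup.normalizer (D : Set G) ∧ x ∉ D := by
  haveI : Group.IsNilpotent P := hP.isNilpotent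
  have hlt : D.subgroupOf P < ⊤ := lt_top_iff_ne_top.2 fun h => hne (le_antisymm hle (Subgroup.subgroupOf_eq_top.1 h))
  obtain ⟨x, hx, hxD⟩ := SetLike.exists_of_lt (Group.normalizerCondition_of_isNilpotent (G := P) _ hlt)
  rw [← Subgroup.subgroupOf_normalizer_eq hle] at hx
  exact ⟨x, x.2, hx, hxD⟩

/-- at least `p + 1` Sylow subgroups contain a maximal intersection -/
theorem count_over {D : Subgroup G} {P Q : Sylow p G} (hPQ : P ≠ Q)
    (hD : D = (P : Subgroup G) ⊓ Q)
    (hmax : ∀ S S' : Sylow p G, D ≤ S → D ≤ S' → S ≠ S' → (S : Subgroup G) ⊓ S' = D) :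
    p + 1 ≤ Nat.card {S : Sylow p G // D ≤ S} := by
  classical
  set M := Subgroup.normalizer (D : Set G) with hM
  have hDM : D ≤ M := Subgroup.le_normalizer
  haveI : (D.subgroupOf M).Normal := Subgroup.normal_in_normalizer
  have hDP : D ≤ P := hD ▸ inf_le_left
  have hDR : ∀ R : Sylow p M, D.subgroupOf M ≤ R := by
    intro R
    have hDp : IsPGroup p ↥(D.subgroupOf M) :=
      (P.isPGroup'.to_le hDP).of_equiv (Subgroup.subgroupOfEquivOfLe hDM).symm
    obtain ⟨R', hR'⟩ := hDp.exists_le_sylow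
    obtain ⟨m, rfl⟩ := MulAction.exists_smul_eq M R' R
    intro d hd
    rw [Sylow.coe_subgroup_smul, Subgroup.mem_pointwise_smul_iff_inv_smul_mem]
    refine hR' ?_
    have := Subgroup.Normal.conj_mem (inferInstance : (D.subgroupOf M).Normal) d hd m⁻¹
    simpa [MulAut.smul_def, mul_assoc] using this
  have hS : ∀ R : Sylow p M, ∃ S : Sylow p G, (R : Subgroup M).map M.subtype ≤ S := fun R =>
    (R.isPGroup'.map M.subtype).exists_le_sylow
  choose f hf using hS
  have hfD : ∀ R, D ≤ f R := fun R d hd => hf R ⟨⟨d, hDM hd⟩, hDR R hd, rfl⟩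
  have hinj : Function.Injective f := by
    intro R R' hRR
    have hle : ∀ T : Sylow p M, f T = f R → (T : Subgroup M) = ((f R : Subgroup G)).subgroupOf M := by
      intro T hT
      refine (T.is_maximal' ((f R).isPGroup'.comap_of_injective _ M.subtype_injective) ?_).symm
      intro t ht
      exact hT ▸ hf T ⟨t, ht, rfl⟩
    exact Sylow.ext ((hle R rfl).trans (hle R' hRR.symm).symm)
  have hone : Nat.card (Sylow p M) ≠ 1 := by
    intro h1
    haveI := (Nat.card_eq_one_iff_unique.1 h1).1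
    obtain ⟨R⟩ : Nonempty (Sylow p M) := inferInstance
    have hboth : ∀ S : Sylow p G, D ≤ S → D ≠ S → S = f R := by
      intro S hle hne
      obtain ⟨x, hxS, hxM, hxD⟩ := exists_mem_normalizer S.isPGroup' hle hne
      obtain ⟨T, hT⟩ := (S.isPGroup'.comap_of_injective _ M.subtype_injective).exists_le_sylow
      rw [Subsingleton.elim T R] at hT
      by_contra hne'
      apply hxD
      rw [← hmax S (f R) hle (hfD R) hne']
      exact ⟨hxS, hf R ⟨⟨x, hxM⟩, hT hxS, rfl⟩⟩
    have hPne : D ≠ P := fun h => by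
      have : (P : Subgroup G) ≤ Q := h ▸ hD ▸ inf_le_right
      exact hPQ (Sylow.ext (P.is_maximal' Q.isPGroup' this).symm)
    have hQne : D ≠ Q := fun h => by
      have : (Q : Subgroup G) ≤ P := h ▸ hDP
      exact hPQ (Sylow.ext (Q.is_maximal' P.isPGroup' this))
    exact hPQ ((hboth P hDP hPne).trans (hboth Q (hD ▸ inf_le_right) hQne).symm)
  have hp : p.Prime := Fact.out
  have hge : p + 1 ≤ Nat.card (Sylow p M) := by
    have h := card_sylow_modEq_one p M
    have hpos : 0 < Nat.card (Sylow p M) := Nat.card_pos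
    by_contra hlt
    push Not at hlt
    rcases eq_or_lt_of_le (Nat.lt_succ_iff.1 hlt) with he | hl
    · rw [he, Nat.ModEq, Nat.mod_self, Nat.mod_eq_of_lt hp.one_lt] at h
      exact zero_ne_one h
    · rw [Nat.ModEq, Nat.mod_eq_of_lt hl, Nat.mod_eq_of_lt hp.one_lt] at h
      exact hone h
  exact hge.trans (Nat.card_le_card_of_injective (fun R => ⟨f R, hfD R⟩)
    fun R R' h => hinj (congrArg Subtype.val h))

/-- Let G be a finite group, p a prime and P a Sylow p-subgroup of G that is not normal in G. Then G has at least p·#P elements of p-power order (the identity included). -/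
theorem result {G : Type*} [Group G] [Finite G] (p : ℕ) [Fact p.Prime]
    (P : Sylow p G) (hP : ¬ (P : Subgroup G).Normal) :
    p * Nat.card (P : Subgroup G) ≤ Nat.card {g : G // ∃ k : ℕ, orderOf g = p ^ k} := by
  classical
  have hne : ∃ Q : Sylow p G, P ≠ Q := by
    by_contra hcon
    push Not at hcon
    haveI : Subsingleton (Sylow p G) := ⟨fun a b => (hcon a).symm.trans (hcon b)⟩
    exact hP inferInstance
  obtain ⟨Q₀, hQ₀⟩ := hne
  obtain ⟨⟨A, B⟩, hAB, hmax⟩ := Set.Finite.exists_maximalFor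
    (fun pr : Sylow p G × Sylow p G => Nat.card ↥((pr.1 : Subgroup G) ⊓ pr.2))
    {pr | pr.1 ≠ pr.2} (Set.toFinite _) ⟨(P, Q₀), hQ₀⟩
  set D := (A : Subgroup G) ⊓ B with hD
  have hmax' : ∀ S S' : Sylow p G, D ≤ S → D ≤ S' → S ≠ S' → (S : Subgroup G) ⊓ S' = D := by
    intro S S' h h' hne
    refine (Subgroup.eq_of_le_of_card_ge (le_inf h h') ?_).symm
    rcases le_total (Nat.card ↥((S : Subgroup G) ⊓ S')) (Nat.card D) with hl | hl
    · exact hl
    · exact hmax (j := (S, S')) hne hl
  have hT := count_over (show A ≠ B from hAB) hD hmax'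
  have hp : p.Prime := Fact.out
  have hcard : ∀ S : Sylow p G, Nat.card (S : Subgroup G) = Nat.card (P : Subgroup G) := fun S => by
    rw [S.card_eq_multiplicity, P.card_eq_multiplicity]
  have hDA : p * Nat.card D ≤ Nat.card (P : Subgroup G) := by
    obtain ⟨a, ha⟩ := IsPGroup.iff_card.1 P.isPGroup'
    obtain ⟨d, hd⟩ := IsPGroup.iff_card.1 (A.isPGroup'.to_le (inf_le_left : D ≤ A))
    have hlt : Nat.card D < Nat.card (P : Subgroup G) := by
      rw [← hcard A]
      rcases Nat.lt_or_ge (Nat.card D) (Nat.card (A : Subgroup G)) with hl | hl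
      · exact hl
      · exfalso
        have hle : (A : Subgroup G) ≤ B := (Subgroup.eq_of_le_of_card_ge inf_le_left hl).ge.trans inf_le_right
        exact hAB (Sylow.ext (A.is_maximal' B.isPGroup' hle).symm)
    rw [ha, hd] at hlt ⊢
    rw [← pow_succ']
    exact Nat.pow_le_pow_right hp.pos ((Nat.pow_lt_pow_iff_right hp.one_lt).1 hlt)
  let T := {S : Sylow p G // D ≤ S}
  let ι : D ⊕ (Σ S : T, {x : (S.1 : Subgroup G) // (x : G) ∉ D}) → {g : G // ∃ k : ℕ, orderOf g = p ^ k} :=
    Sum.elim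
      (fun d => ⟨d, (IsPGroup.iff_orderOf.1 (A.isPGroup'.to_le (inf_le_left : D ≤ A)) d).imp fun k hk => by rw [Subgroup.orderOf_coe]; exact hk⟩)
      (fun s => ⟨s.2.1, (IsPGroup.iff_orderOf.1 s.1.1.isPGroup' s.2.1).imp fun k hk => by rw [Subgroup.orderOf_coe]; exact hk⟩)
  have hι : Function.Injective ι := by
    rintro (d | ⟨S, x, hx⟩) (d' | ⟨S', x', hx'⟩) h
    · exact congrArg Sum.inl (Subtype.ext (congrArg Subtype.val h :))
    · exact absurd ((congrArg Subtype.val h : (d : G) = x') ▸ d.2) hx'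
    · exact absurd ((congrArg Subtype.val h : (x : G) = d').symm ▸ d'.2) hx
    · have hxx : (x : G) = x' := congrArg Subtype.val h
      have hSS : S = S' := by
        by_contra hne
        apply hx
        exact (hmax' S.1 S'.1 S.2 S'.2 fun e => hne (Subtype.ext e)).le ⟨x.2, hxx ▸ x'.2⟩
      subst hSS
      have : x = x' := Subtype.ext hxx
      subst this
      rfl
  have hle := Nat.card_le_card_of_injective ι hι
  haveI := Fintype.ofFinite T
  have hfib : ∀ S : T, Nat.card {x : (S.1 : Subgroup G) // (x : G) ∉ D} + Nat.card D = Nat.card (P : Subgroup G) := by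
    intro S
    rw [← hcard S.1, add_comm, show Nat.card D = Nat.card {x : (S.1 : Subgroup G) // (x : G) ∈ D} from
      Nat.card_congr ⟨fun d => ⟨⟨d, S.2 d.2⟩, d.2⟩, fun x => ⟨x.1, x.2⟩, fun d => rfl, fun x => rfl⟩,
      ← Nat.card_sum, Nat.card_congr (Equiv.sumCompl fun x : (S.1 : Subgroup G) => (x : G) ∈ D)]
  rw [Nat.card_sum, Nat.card_sigma] at hle
  have hsum : (∑ S : T, Nat.card {x : (S.1 : Subgroup G) // (x : G) ∉ D}) + Nat.card T * Nat.card D = Nat.card T * Nat.card (P : Subgroup G) := by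
    rw [Nat.card_eq_fintype_card (α := T), ← smul_eq_mul, ← smul_eq_mul, ← Finset.card_univ, ← Finset.sum_const, ← Finset.sum_const, ← Finset.sum_add_distrib]
    exact Finset.sum_congr rfl fun S _ => hfib S
  refine le_trans ?_ hle
  have hT' : p + 1 ≤ Nat.card T := hT
  have hDP : Nat.card D ≤ Nat.card (P : Subgroup G) :=
    (Nat.le_mul_of_pos_left _ hp.pos).trans hDA
  obtain ⟨r, hr⟩ := Nat.exists_eq_add_of_le hDP
  rw [hr] at hsum hDA ⊢
  nlinarith [hDA, hsum, Nat.mul_le_mul hT' (le_refl r)]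

end Cfsg.Agent.S4092
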