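import Cfsg.Statements.S4314
import Mathlib.GroupTheory.Nilpotent
import Mathlib.GroupTheory.Coset.Card
import Cfsg.Agent.GroupBasics.Conjugates

set_option autoImplicit false
open Cfsg

namespace Cfsg.Agent.S4314

variable {G : Type*} [Group G]

/-- The set of conjugates of an element. -/
def conjSet (a : G) : Set G := (ConjClasses.mk a).carrier

theorem mem_conjSet {a v : G} : v ∈ conjSet a ↔ ∃ g, g * a * g⁻¹ = v := by
  rw [conjSet, ConjClasses.mem_carrier_iff_mk_eq, ConjClasses.mk_eq_mk_iff_isConj, isConj_comm,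
    isConj_iff]

theorem self_mem_conjSet (a : G) : a ∈ conjSet a := mem_conjSet.mpr ⟨1, by group⟩

theorem conj_mem_conjSet {a v : G} (h : v ∈ conjSet a) (g : G) : g * v * g⁻¹ ∈ conjSet a := by
  obtain ⟨k, rfl⟩ := mem_conjSet.mp h
  exact mem_conjSet.mpr ⟨g * k, by group⟩

variable [Finite G]

theorem ncard_conjSet (a : G) :
    (conjSet a).ncard = (Subgroup.centralizer ({a} : Set G)).index :=
  CfsgLib.GroupBasics.card_carrier_eq_index_centralizer a

omit [Finite G] in
/-- A finite set stable under right translation by a subgroup has size divisible by its order. -/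
theorem card_dvd_of_mul_mem (W : Subgroup G) (S : Set G) (hS : ∀ s ∈ S, ∀ w ∈ W, s * w ∈ S) :
    Nat.card W ∣ S.ncard := by
  have hpre : QuotientGroup.mk ⁻¹' (QuotientGroup.mk '' S : Set (G ⧸ W)) = S := by
    refine Set.Subset.antisymm ?_ (Set.subset_preimage_image _ _)
    rintro v ⟨s, hs, hsv⟩
    have := hS s hs _ (QuotientGroup.eq.mp hsv)
    rwa [mul_inv_cancel_left] at this
  rw [← hpre, ← Nat.card_coe_set_eq,
    Nat.card_congr (QuotientGroup.preimageMkEquivSubgroupProdSet W _), Nat.card_prod]
  exact dvd_mul_right _ _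

/-- Subgroups of coprime index meet in the product of the indices. -/
theorem index_inf_eq_mul {A B : Subgroup G} (h : Nat.Coprime A.index B.index) :
    (A ⊓ B).index = A.index * B.index :=
  le_antisymm Subgroup.index_inf_le
    (Nat.le_of_dvd (Nat.pos_of_ne_zero Subgroup.index_ne_zero_of_finite)
      (h.mul_dvd_of_dvd_of_dvd (Subgroup.index_dvd_of_le inf_le_left)
        (Subgroup.index_dvd_of_le inf_le_right)))

/-- Subgroups of coprime index factorize the group. -/
theorem exists_mul_of_coprime_index {A B : Subgroup G} (h : Nat.Coprime A.index B.index) (g : G) :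
    ∃ c ∈ A, ∃ d ∈ B, g = c * d := by
  have h1 : B.relIndex A * A.index = B.index * A.index := by
    rw [← Subgroup.inf_relIndex_left, Subgroup.relIndex_mul_index inf_le_left, index_inf_eq_mul h,
      mul_comm]
  have h2 : B.relIndex A = B.index :=
    Nat.eq_of_mul_eq_mul_right (Nat.pos_of_ne_zero Subgroup.index_ne_zero_of_finite) h1
  let f : A ⧸ B.subgroupOf A → G ⧸ B := Quotient.map' (fun a => (a : G)) fun a b hab => by
    rw [QuotientGroup.leftRel_apply] at hab ⊢
    exact hab
  have hinj : Function.Injective f := by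
    rintro ⟨a⟩ ⟨b⟩ hab
    have := Quotient.exact' hab
    rw [QuotientGroup.leftRel_apply] at this
    exact QuotientGroup.eq.mpr this
  obtain ⟨a, ha⟩ := (hinj.bijective_of_nat_card_le
    (le_of_eq h2.symm)).surjective (g : G ⧸ B)
  induction a using QuotientGroup.induction_on with
  | _ a =>
    have ha' : ((a : G) : G ⧸ B) = (g : G ⧸ B) := ha
    exact ⟨a, a.2, _, QuotientGroup.eq.mp ha', (mul_inv_cancel_left (a : G) g).symm⟩

variable (hG : ∀ x : G, (Subgroup.centralizer ({x} : Set G)).index = 1 ∨
  ((Subgroup.centralizer ({x} : Set G)).index).Prime)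

omit [Finite G] in
theorem centralizer_eq_top_iff (x : G) :
    Subgroup.centralizer ({x} : Set G) = ⊤ ↔ x ∈ Subgroup.center G := by
  rw [Subgroup.centralizer_eq_top_iff_subset, Set.singleton_subset_iff, SetLike.mem_coe]

omit [Finite G] in
include hG in
theorem prime_of_notMem_center {x : G} (hx : x ∉ Subgroup.center G) :
    ((Subgroup.centralizer ({x} : Set G)).index).Prime :=
  (hG x).resolve_left fun h => hx ((centralizer_eq_top_iff x).mp (Subgroup.index_eq_one.mp h))

include hG in
/-- Commuting non-central elements cannot have classes of different sizes. -/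
theorem not_lt_of_commute {x z : G} (hx : x ∉ Subgroup.center G) (hz : z ∉ Subgroup.center G)
    (hxz : Commute x z) :
    ¬ (Subgroup.centralizer ({z} : Set G)).index < (Subgroup.centralizer ({x} : Set G)).index := by
  intro hlt
  set A := Subgroup.centralizer ({x} : Set G) with hA
  set B := Subgroup.centralizer ({z} : Set G) with hB
  have hp := prime_of_notMem_center hG hx
  have ht := prime_of_notMem_center hG hz
  rw [← hA] at hp
  rw [← hB] at ht
  set p := A.index with hpdef
  have hcop : Nat.Coprime A.index B.index := (Nat.coprime_primes hp ht).mpr hlt.ne'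
  have hprod := exists_mul_of_coprime_index hcop
  have hfixA : ∀ c ∈ A, c * x * c⁻¹ = x := fun c hc => by
    rw [Subgroup.mem_centralizer_singleton_iff.mp hc, mul_inv_cancel_right]
  have hfixB : ∀ d ∈ B, d * z * d⁻¹ = z := fun d hd => by
    rw [Subgroup.mem_centralizer_singleton_iff.mp hd, mul_inv_cancel_right]
  -- every conjugate of `x` is a conjugate under `B`
  have hxB : ∀ v ∈ conjSet x, ∃ d ∈ B, d * x * d⁻¹ = v := by
    intro v hv
    obtain ⟨g, rfl⟩ := mem_conjSet.mp hv
    obtain ⟨c, hc, d, hd, h⟩ := hprod g⁻¹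
    refine ⟨d⁻¹, B.inv_mem hd, ?_⟩
    rw [inv_inv, show g = d⁻¹ * c⁻¹ from by rw [← mul_inv_rev, ← h, inv_inv]]
    have := hfixA c⁻¹ (A.inv_mem hc)
    calc d⁻¹ * x * d = d⁻¹ * (c⁻¹ * x * c⁻¹⁻¹) * d := by rw [this]
      _ = _ := by group
  -- `(x z)^G = x^G z`
  have hsub : (fun v => v * z) '' conjSet x ⊆ conjSet (x * z) := by
    rintro _ ⟨v, hv, rfl⟩
    obtain ⟨d, hd, rfl⟩ := hxB v hv
    refine mem_conjSet.mpr ⟨d, ?_⟩
    calc d * (x * z) * d⁻¹ = d * x * d⁻¹ * (d * z * d⁻¹) := by group
      _ = _ := by rw [hfixB d hd]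
  have hcardimg : ((fun v => v * z) '' conjSet x).ncard = p := by
    rw [Set.ncard_image_of_injective _ (mul_left_injective z), ncard_conjSet]
  have hle : p ≤ (conjSet (x * z)).ncard :=
    hcardimg ▸ Set.ncard_le_ncard hsub (Set.toFinite _)
  have hxzp : (conjSet (x * z)).ncard = p := by
    have hdvd : (conjSet (x * z)).ncard ∣ p * B.index := by
      rw [ncard_conjSet, hpdef, ← index_inf_eq_mul hcop]
      refine Subgroup.index_dvd_of_le ?_
      intro g hg
      rw [Subgroup.mem_centralizer_singleton_iff]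
      exact ((show Commute g x from Subgroup.mem_centralizer_singleton_iff.mp hg.1).mul_right
        (Subgroup.mem_centralizer_singleton_iff.mp hg.2)).eq
    rcases hG (x * z) with h1 | hpr
    · rw [← ncard_conjSet] at h1
      have := hp.two_le
      omega
    · rw [← ncard_conjSet] at hpr
      rcases hpr.dvd_mul.mp hdvd with h | h
      · exact (Nat.prime_dvd_prime_iff_eq hpr hp).mp h
      · have := (Nat.prime_dvd_prime_iff_eq hpr ht).mp h
        omega
  have heq : (fun v => v * z) '' conjSet x = conjSet (x * z) :=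
    Set.eq_of_subset_of_ncard_le hsub (by omega) (Set.toFinite _)
  -- the stabilizer `W` of `x^G` under right translation
  let W : Subgroup G :=
    { carrier := {w | ∀ v ∈ conjSet x, v * w ∈ conjSet x}
      one_mem' := fun v hv => by rwa [mul_one]
      mul_mem' := fun ha hb v hv => by rw [← mul_assoc]; exact hb _ (ha v hv)
      inv_mem' := by
        intro w hw v hv
        have himg : (fun u => u * w) '' conjSet x = conjSet x :=
          Set.eq_of_subset_of_ncard_le (by rintro _ ⟨u, hu, rfl⟩; exact hw u hu)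
            (by rw [Set.ncard_image_of_injective _ (mul_left_injective w)]) (Set.toFinite _)
        obtain ⟨u, hu, rfl⟩ := himg.symm ▸ hv
        simpa using hu }
  have hWconj : ∀ (g : G), ∀ w ∈ W, g * w * g⁻¹ ∈ W := by
    intro g w hw v hv
    have h1 := conj_mem_conjSet (hw _ (conj_mem_conjSet hv g⁻¹)) g
    convert h1 using 1
    group
  have hWz : ∀ g, g * z * g⁻¹ * z⁻¹ ∈ W := by
    intro g v hv
    have hv' := conj_mem_conjSet hv g⁻¹
    have h1 : g⁻¹ * v * g⁻¹⁻¹ * z ∈ conjSet (x * z) := heq ▸ Set.mem_image_of_mem _ hv'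
    have h2 := conj_mem_conjSet h1 g
    rw [← heq] at h2
    obtain ⟨u, hu, huv⟩ := h2
    replace huv : u * z = g * (g⁻¹ * v * g⁻¹⁻¹ * z) * g⁻¹ := huv
    have : v * (g * z * g⁻¹ * z⁻¹) = u := by
      rw [← mul_inv_eq_of_eq_mul huv.symm]
      group
    rwa [this]
  -- `W` has order `p` and `x^G = x W`
  have hWne : W ≠ ⊥ := by
    intro h
    refine hz (Subgroup.mem_center_iff.mpr fun g => ?_)
    have := hWz g
    rw [h, Subgroup.mem_bot, mul_inv_eq_one, mul_inv_eq_iff_eq_mul] at this
    exact this
  have hWp : Nat.card W = p := by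
    have hd := card_dvd_of_mul_mem W (conjSet x) fun s hs w hw => hw s hs
    rw [ncard_conjSet] at hd
    exact (hp.eq_one_or_self_of_dvd _ hd).resolve_left fun h =>
      hWne (Subgroup.card_eq_one.mp h)
  have hxW : ∀ v ∈ conjSet x, x⁻¹ * v ∈ W := by
    have himg : (fun w => x * w) '' (W : Set G) = conjSet x := by
      refine Set.eq_of_subset_of_ncard_le ?_ ?_ (Set.toFinite _)
      · rintro _ ⟨w, hw, rfl⟩
        exact hw x (self_mem_conjSet x)
      · rw [Set.ncard_image_of_injective _ (mul_right_injective x), ncard_conjSet,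
          ← Nat.card_coe_set_eq]
        exact hWp.ge
    intro v hv
    rw [← himg] at hv
    obtain ⟨w, hw, rfl⟩ := hv
    rwa [inv_mul_cancel_left]
  have hgen : ∀ w ∈ W, w ≠ 1 → W = Subgroup.zpowers w := by
    intro w hw hw1
    refine (Subgroup.eq_of_le_of_card_ge (Subgroup.zpowers_le.mpr hw) ?_).symm
    rw [hWp, Nat.card_zpowers]
    have hd : orderOf w ∣ p := hWp ▸ Subgroup.orderOf_dvd_natCard W hw
    rw [(hp.eq_one_or_self_of_dvd _ hd).resolve_left (orderOf_eq_one_iff.not.mpr hw1)]
  -- `x` centralizes `W`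
  have hxCW : ∀ w ∈ W, Commute x w := by
    obtain ⟨g, hg⟩ : ∃ g, g * z * g⁻¹ * z⁻¹ ≠ 1 := by
      by_contra! h
      refine hz (Subgroup.mem_center_iff.mpr fun g => ?_)
      have := h g
      rwa [mul_inv_eq_one, mul_inv_eq_iff_eq_mul] at this
    have hc : Commute x (g * z * g⁻¹ * z⁻¹) := by
      obtain ⟨c, hc, d, hd, rfl⟩ := hprod g
      have hcz : c * d * z * (c * d)⁻¹ = c * z * c⁻¹ := by
        calc c * d * z * (c * d)⁻¹ = c * (d * z * d⁻¹) * c⁻¹ := by group
          _ = _ := by rw [hfixB d hd]
      rw [hcz]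
      have hcx : Commute x c := (Subgroup.mem_centralizer_singleton_iff.mp hc).symm
      exact ((hcx.mul_right hxz).mul_right hcx.inv_right).mul_right hxz.inv_right
    intro w hw
    rw [hgen _ (hWz g) hg] at hw
    obtain ⟨k, rfl⟩ := Subgroup.mem_zpowers_iff.mp hw
    exact hc.zpow_right k
  -- some element moves `W`
  obtain ⟨w₀, hw₀, hw₀1⟩ := W.ne_bot_iff_exists_ne_one.mp hWne |> fun ⟨a, ha⟩ =>
    (⟨a.1, a.2, fun h => ha (Subtype.ext h)⟩ : ∃ w ∈ W, w ≠ 1)
  have hnc : w₀ ∉ Subgroup.center G := by
    intro hcen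
    have hWcen : W ≤ Subgroup.center G := by
      rw [hgen w₀ hw₀ hw₀1, Subgroup.zpowers_le]
      exact hcen
    let T : Submonoid G :=
      { carrier := {w | ∃ g, g * z * g⁻¹ = w * z}
        one_mem' := ⟨1, by group⟩
        mul_mem' := by
          rintro a b ⟨g, hg⟩ ⟨k, hk⟩
          refine ⟨g * k, ?_⟩
          have hbm : g * b = b * g := by
            have : b ∈ Subgroup.center G := hWcen (by
              have := hWz k
              rwa [hk, mul_inv_cancel_right] at this)
            exact Subgroup.mem_center_iff.mp this g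
          calc g * k * z * (g * k)⁻¹ = g * (k * z * k⁻¹) * g⁻¹ := by group
            _ = g * b * z * g⁻¹ := by rw [hk]; group
            _ = b * (g * z * g⁻¹) := by rw [hbm]; group
            _ = a * b * z := by
              rw [hg, ← mul_assoc]
              have hab : a * b = b * a := Subgroup.mem_center_iff.mp (hWcen (by
                have := hWz k
                rwa [hk, mul_inv_cancel_right] at this)) a
              rw [hab] }
    obtain ⟨g, hg⟩ : ∃ g, g * z * g⁻¹ * z⁻¹ ≠ 1 := by
      by_contra! h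
      refine hz (Subgroup.mem_center_iff.mpr fun g => ?_)
      have := h g
      rwa [mul_inv_eq_one, mul_inv_eq_iff_eq_mul] at this
    have hsubW : (fun w => w * z) '' (W : Set G) ⊆ conjSet z := by
      rintro _ ⟨w, hw, rfl⟩
      rw [SetLike.mem_coe, hgen _ (hWz g) hg] at hw
      rw [← mem_powers_iff_mem_zpowers, Submonoid.mem_powers_iff] at hw
      obtain ⟨k, rfl⟩ := hw
      obtain ⟨g', hg'⟩ := T.pow_mem (show g * z * g⁻¹ * z⁻¹ ∈ T from ⟨g, by group⟩) k
      exact mem_conjSet.mpr ⟨g', hg'⟩
    have := Set.ncard_le_ncard hsubW (Set.toFinite _)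
    rw [Set.ncard_image_of_injective _ (mul_left_injective z), ncard_conjSet,
      ← Nat.card_coe_set_eq] at this
    change Nat.card W ≤ B.index at this
    omega
  -- some `u` centralizing `W` moves `x`
  obtain ⟨u, huW, hux⟩ : ∃ u, Commute u w₀ ∧ ¬ Commute u x := by
    by_contra! h
    have hle : Subgroup.centralizer ({w₀} : Set G) ≤ A := fun g hg =>
      Subgroup.mem_centralizer_singleton_iff.mpr
        (h g (Subgroup.mem_centralizer_singleton_iff.mp hg)).eq
    have h1 : p ∣ (Subgroup.centralizer ({w₀} : Set G)).index := Subgroup.index_dvd_of_le hle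
    have h2 : (conjSet w₀).ncard < p := by
      have hsub : conjSet w₀ ⊆ (W : Set G) \ {1} := by
        intro v hv
        obtain ⟨g, rfl⟩ := mem_conjSet.mp hv
        exact ⟨hWconj g w₀ hw₀, fun h => hw₀1 (conj_eq_one_iff.mp h)⟩
      have := Set.ncard_le_ncard hsub (Set.toFinite _)
      rw [Set.ncard_sdiff_singleton_of_mem W.one_mem, ← Nat.card_coe_set_eq] at this
      change (conjSet w₀).ncard ≤ Nat.card W - 1 at this
      have := hp.pos
      omega
    rw [ncard_conjSet] at h2
    exact absurd (Nat.le_of_dvd (Nat.pos_of_ne_zero Subgroup.index_ne_zero_of_finite) h1)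
      (by omega)
  have huW' : ∀ w ∈ W, Commute u w := by
    intro w hw
    rw [hgen w₀ hw₀ hw₀1] at hw
    obtain ⟨k, rfl⟩ := Subgroup.mem_zpowers_iff.mp hw
    exact huW.zpow_right k
  -- the class of `u` is `u W`
  have hustab : ∀ v ∈ conjSet u, ∀ w ∈ W, v * w ∈ conjSet u := by
    suffices hone : ∀ v ∈ conjSet u, ∃ w ∈ W, w ≠ 1 ∧ Commute v w ∧ Commute x w ∧
        x * v * x⁻¹ = v * w by
      intro v hv w hw
      obtain ⟨a, ha, ha1, hva, hxa, heqa⟩ := hone v hv
      rw [hgen a ha ha1, ← mem_powers_iff_mem_zpowers, Submonoid.mem_powers_iff] at hw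
      obtain ⟨k, rfl⟩ := hw
      induction k with
      | zero => simpa using hv
      | succ k ih =>
        have := conj_mem_conjSet ih x
        convert this using 1
        calc v * a ^ (k + 1) = v * a * a ^ k := by rw [pow_succ', mul_assoc]
          _ = x * v * x⁻¹ * a ^ k := by rw [heqa]
          _ = x * (v * a ^ k) * x⁻¹ := by
            rw [mul_assoc (x * v), (hxa.inv_left.pow_right k).eq]
            group
    intro v hv
    obtain ⟨g, rfl⟩ := mem_conjSet.mp hv
    set x' := g⁻¹ * x * g⁻¹⁻¹ with hx'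
    set a := x⁻¹ * x' with ha
    have haW : a ∈ W := hxW _ (conj_mem_conjSet (self_mem_conjSet x) g⁻¹)
    set c := u⁻¹ * (x * u * x⁻¹) with hcdef
    have hcW : c ∈ W := by
      have h1 : x⁻¹ * (u⁻¹ * x * u⁻¹⁻¹) ∈ W :=
        hxW _ (conj_mem_conjSet (self_mem_conjSet x) u⁻¹)
      have h2 := hWconj x _ h1
      convert h2 using 1
      rw [hcdef]; group
    have hc1 : c ≠ 1 := by
      intro h
      apply hux
      rw [hcdef, inv_mul_eq_one, eq_comm, mul_inv_eq_iff_eq_mul] at h
      exact h.symm
    have hconjW : ∀ w ∈ W, ∀ y, (∀ w ∈ W, Commute y w) →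
        Commute (g * y * g⁻¹) (g * w * g⁻¹) := fun w hw y hy => (hy w hw).conj g
    refine ⟨g * c * g⁻¹, hWconj g c hcW, fun h => hc1 (conj_eq_one_iff.mp h),
      hconjW c hcW u huW', hxCW _ (hWconj g c hcW), ?_⟩
    have hx'u : x' * u * x'⁻¹ = u * c := by
      have : x' = x * a := by rw [ha, mul_inv_cancel_left]
      rw [this, mul_assoc x a u, ((huW' a haW).symm).eq, hcdef]
      group
    calc x * (g * u * g⁻¹) * x⁻¹ = g * (x' * u * x'⁻¹) * g⁻¹ := by rw [hx']; group
      _ = g * (u * c) * g⁻¹ := by rw [hx'u]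
      _ = _ := by group
  have hunc : u ∉ Subgroup.center G := fun h => hux (Subgroup.mem_center_iff.mp h x).symm
  have hup : (conjSet u).ncard = p := by
    have h1 := card_dvd_of_mul_mem W (conjSet u) hustab
    have h2 := prime_of_notMem_center hG hunc
    rw [← ncard_conjSet] at h2
    rw [hWp] at h1
    exact ((Nat.prime_dvd_prime_iff_eq hp h2).mp h1).symm
  have huW'' : ∀ v ∈ conjSet u, u⁻¹ * v ∈ W := by
    have himg : (fun w => u * w) '' (W : Set G) = conjSet u := by
      refine Set.eq_of_subset_of_ncard_le ?_ ?_ (Set.toFinite _)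
      · rintro _ ⟨w, hw, rfl⟩
        exact hustab u (self_mem_conjSet u) w hw
      · rw [Set.ncard_image_of_injective _ (mul_right_injective u), hup, ← Nat.card_coe_set_eq]
        exact hWp.ge
    intro v hv
    rw [← himg] at hv
    obtain ⟨w, hw, rfl⟩ := hv
    rwa [inv_mul_cancel_left]
  -- every element fixes `[x, u]`, which generates `W`
  apply hnc
  set c := x * u * x⁻¹ * u⁻¹ with hcdef
  have hcW : c ∈ W := by
    have h := huW'' _ (conj_mem_conjSet (self_mem_conjSet u) x)
    convert hWconj u _ h using 1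
    rw [hcdef]; group
  have hc1 : c ≠ 1 := by
    intro h
    rw [hcdef, mul_inv_eq_one, mul_inv_eq_iff_eq_mul] at h
    exact hux h.symm
  have hccen : c ∈ Subgroup.center G := by
    refine Subgroup.mem_center_iff.mpr fun g => ?_
    rw [← mul_inv_eq_iff_eq_mul]
    set a := x⁻¹ * (g * x * g⁻¹) with ha
    set b := u⁻¹ * (g * u * g⁻¹) with hb
    have haW : a ∈ W := hxW _ (conj_mem_conjSet (self_mem_conjSet x) g)
    have hbW : b ∈ W := huW'' _ (conj_mem_conjSet (self_mem_conjSet u) g)
    have hau : Commute a u := (huW' a haW).symm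
    have hab : Commute a b := by
      have ha' := haW
      have hb' := hbW
      rw [hgen w₀ hw₀ hw₀1, Subgroup.mem_zpowers_iff] at ha' hb'
      obtain ⟨i, hi⟩ := ha'
      obtain ⟨j, hj⟩ := hb'
      rw [← hi, ← hj]
      exact Commute.zpow_zpow_self _ _ _
    calc g * c * g⁻¹ = (g * x * g⁻¹) * (g * u * g⁻¹) * (g * x * g⁻¹)⁻¹ * (g * u * g⁻¹)⁻¹ := by
          rw [hcdef]; group
      _ = (x * a) * (u * b) * (x * a)⁻¹ * (u * b)⁻¹ := by
          rw [ha, hb, mul_inv_cancel_left, mul_inv_cancel_left]
      _ = x * ((u * b) * (x⁻¹ * b⁻¹)) * u⁻¹ := by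
          rw [mul_assoc x a, (hau.mul_right hab).eq]
          group
      _ = c := by
          rw [((hxCW b hbW).inv_left.inv_right).eq, hcdef]
          group
  have : w₀ ∈ Subgroup.zpowers c := hgen c hcW hc1 ▸ hw₀
  obtain ⟨k, rfl⟩ := Subgroup.mem_zpowers_iff.mp this
  exact zpow_mem hccen k

/-- Let `G` be a finite group every conjugacy class of which has size 1 or a prime. Then either `G` is nilpotent of class at most 2, or `G/Z(G)` is a non-abelian group of order `pq` for distinct primes `p, q` (a Frobenius group of order `pq`). -/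
theorem result {G : Type*} [Group G] [Finite G]
    (h : ∀ x : G, (Subgroup.centralizer ({x} : Set G)).index = 1 ∨ ((Subgroup.centralizer ({x} : Set G)).index).Prime) :
    Subgroup.upperCentralSeries G 2 = ⊤ ∨
      ∃ p q : ℕ, p.Prime ∧ q.Prime ∧ p ≠ q ∧ Nat.card (G ⧸ Subgroup.center G) = p * q ∧ ¬ IsMulCommutative (G ⧸ Subgroup.center G) := by
  have same : ∀ {x y : G}, x ∉ Subgroup.center G → y ∉ Subgroup.center G → Commute x y →
      (Subgroup.centralizer ({x} : Set G)).index = (Subgroup.centralizer ({y} : Set G)).index :=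
    fun hx hy hxy => le_antisymm (not_lt.mp (not_lt_of_commute h hx hy hxy))
      (not_lt.mp (not_lt_of_commute h hy hx hxy.symm))
  -- the derived subgroup is central as soon as all centralizers are normal
  have class2 : (∀ x : G, x ∉ Subgroup.center G → (Subgroup.centralizer ({x} : Set G)).Normal) →
      Subgroup.upperCentralSeries G 2 = ⊤ := by
    intro hn
    have hcom : commutator G ≤ Subgroup.center G := by
      intro c hc
      refine Subgroup.mem_center_iff.mpr fun x => ?_
      by_cases hx : x ∈ Subgroup.center G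
      · exact (Subgroup.mem_center_iff.mp hx c).symm
      have := hn x hx
      have hp := prime_of_notMem_center h hx
      have : Fact (Nat.card (G ⧸ Subgroup.centralizer ({x} : Set G))).Prime := ⟨hp⟩
      have : IsCyclic (G ⧸ Subgroup.centralizer ({x} : Set G)) :=
        isCyclic_of_prime_card (p := Nat.card (G ⧸ Subgroup.centralizer ({x} : Set G))) rfl
      have hle : commutator G ≤ Subgroup.centralizer ({x} : Set G) := by
        rw [commutator_def, Subgroup.commutator_le]
        intro a _ b _
        rw [← QuotientGroup.eq_one_iff, ← QuotientGroup.mk'_apply, map_commutatorElement,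
          commutatorElement_eq_one_iff_mul_comm]
        exact mul_comm' _ _
      exact (Subgroup.mem_centralizer_singleton_iff.mp (hle hc)).symm
    rw [eq_top_iff]
    intro g _
    rw [Subgroup.mem_upperCentralSeries_succ_iff]
    intro y
    rw [Subgroup.upperCentralSeries_one]
    exact hcom (Subgroup.commutator_mem_commutator (Subgroup.mem_top g) (Subgroup.mem_top y))
  by_cases htwo : ∃ x y : G, x ∉ Subgroup.center G ∧ y ∉ Subgroup.center G ∧
      (Subgroup.centralizer ({x} : Set G)).index ≠ (Subgroup.centralizer ({y} : Set G)).index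
  · -- two primes
    obtain ⟨x, y, hx, hy, hne⟩ := htwo
    have hp := prime_of_notMem_center h hx
    have hq := prime_of_notMem_center h hy
    have hZ : Subgroup.centralizer ({x} : Set G) ⊓ Subgroup.centralizer ({y} : Set G)
        = Subgroup.center G := by
      refine le_antisymm ?_ (le_inf (Subgroup.center_le_centralizer _)
        (Subgroup.center_le_centralizer _))
      intro z hz
      by_contra hzc
      refine hne ((same hx hzc ?_).trans (same hzc hy ?_))
      · exact (Subgroup.mem_centralizer_singleton_iff.mp hz.1).symm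
      · exact Subgroup.mem_centralizer_singleton_iff.mp hz.2
    have hcard : Nat.card (G ⧸ Subgroup.center G) =
        (Subgroup.centralizer ({x} : Set G)).index * (Subgroup.centralizer ({y} : Set G)).index := by
      rw [← Subgroup.index_eq_card, ← hZ,
        index_inf_eq_mul ((Nat.coprime_primes hp hq).mpr hne)]
    by_cases hab : IsMulCommutative (G ⧸ Subgroup.center G)
    · refine Or.inl (class2 fun u _ => ⟨fun n hn g => ?_⟩)
      rw [Subgroup.mem_centralizer_singleton_iff] at hn ⊢
      have hc : g * n * g⁻¹ * n⁻¹ ∈ Subgroup.center G := by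
        rw [← QuotientGroup.eq_one_iff]
        simp only [QuotientGroup.mk_mul, QuotientGroup.mk_inv]
        rw [mul_comm' (g : G ⧸ Subgroup.center G) n, mul_inv_cancel_right, mul_inv_cancel]
      have : g * n * g⁻¹ = (g * n * g⁻¹ * n⁻¹) * n := by group
      rw [this, mul_assoc, hn, ← mul_assoc, ← Subgroup.mem_center_iff.mp hc u, mul_assoc]
    · exact Or.inr ⟨_, _, hp, hq, hne, hcard, hab⟩
  -- one prime
  left
  push Not at htwo
  by_cases hall : Subgroup.center G = ⊤
  · exact class2 fun x hx => absurd (hall ▸ Subgroup.mem_top x) hx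
  obtain ⟨x₀, hx₀⟩ : ∃ x₀, x₀ ∉ Subgroup.center G := by
    by_contra! h'
    exact hall (eq_top_iff.mpr fun g _ => h' g)
  have hp := prime_of_notMem_center h hx₀
  set p := (Subgroup.centralizer ({x₀} : Set G)).index
  have : Fact p.Prime := ⟨hp⟩
  have hquot : IsPGroup p (G ⧸ Subgroup.center G) := by
    refine IsPGroup.iff_card.mpr ⟨_, Nat.eq_prime_pow_of_unique_prime_dvd Nat.card_pos.ne' ?_⟩
    intro r hr hrd
    by_contra hrp
    have : Fact r.Prime := ⟨hr⟩
    let R : Sylow r G := default
    have hRcen : Subgroup.centralizer ((R : Subgroup G) : Set G) = ⊤ := by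
      refine CfsgLib.GroupBasics.eq_top_of_forall_conj_mem fun g => ?_
      have hndvd : ¬ r ∣ (Subgroup.centralizer ({g} : Set G)).index := by
        intro hd
        by_cases hg : g ∈ Subgroup.center G
        · rw [(centralizer_eq_top_iff g).mpr hg, Subgroup.index_top] at hd
          exact hr.not_dvd_one hd
        · rw [← htwo x₀ g hx₀ hg] at hd
          exact hrp ((Nat.prime_dvd_prime_iff_eq hr hp).mp hd)
      obtain ⟨S, -, hS⟩ := CfsgLib.GroupBasics.exists_sylow_le hndvd (IsPGroup.of_bot) bot_le
      obtain ⟨a, rfl⟩ := MulAction.exists_smul_eq G R S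
      refine ⟨a⁻¹, Subgroup.mem_centralizer_iff.mpr fun s hs => ?_⟩
      have h1 : a * s * a⁻¹ ∈ Subgroup.centralizer ({g} : Set G) := hS (by
        rw [Sylow.coe_subgroup_smul]
        exact ⟨s, hs, rfl⟩)
      rw [Subgroup.mem_centralizer_singleton_iff] at h1
      calc s * (a⁻¹ * g * a⁻¹⁻¹) = a⁻¹ * (a * s * a⁻¹ * g) * a := by group
        _ = a⁻¹ * (g * (a * s * a⁻¹)) * a := by rw [h1]
        _ = _ := by group
    have hRle : (R : Subgroup G) ≤ Subgroup.center G :=
      Subgroup.centralizer_eq_top_iff_subset.mp hRcen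
    have := Subgroup.index_dvd_of_le hRle
    rw [Subgroup.index_eq_card (Subgroup.center G)] at this
    exact R.not_dvd_index (hrd.trans this)
  have : Group.IsNilpotent G := Group.of_quotient_center_nilpotent hquot.isNilpotent
  refine class2 fun x hx => Subgroup.NormalizerCondition.normal_of_coatom _
    Group.normalizerCondition_of_isNilpotent ?_
  have hpx := prime_of_notMem_center h hx
  refine ⟨fun ht => hpx.ne_one (Subgroup.index_eq_one.mpr ht), fun K hK => ?_⟩
  rcases (Nat.dvd_prime hpx).mp (Subgroup.index_dvd_of_le hK.le) with h' | h'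
  · exact Subgroup.index_eq_one.mp h'
  · exact absurd h' (Subgroup.index_strictAnti hK).ne

end Cfsg.Agent.S4314
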