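import Cfsg.Statements.S2507
import Cfsg.Agent.SL2Classes.Cases

set_option autoImplicit false
open Cfsg

namespace Cfsg.Agent.S2507

/-- Let F be a finite field with q = 2^f ≥ 4 elements. The conjugacy class sizes of PSL(2,F) are exactly 1, q(q − 1), q² − 1 and q(q + 1). -/
theorem result {F : Type*} [Field F] [Fintype F]
    (h2 : 2 ∣ Fintype.card F) (h4 : 4 ≤ Fintype.card F) :
    Set.range (fun g : (Matrix.ProjectiveSpecialLinearGroup (Fin 2) F) => (Subgroup.centralizer ({g} : Set (Matrix.ProjectiveSpecialLinearGroup (Fin 2) F))).index) =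
      {1, Fintype.card F * (Fintype.card F - 1), Fintype.card F ^ 2 - 1, Fintype.card F * (Fintype.card F + 1)} := by
  classical
  have h2F : (2 : F) = 0 := by
    by_contra h
    have := FiniteField.odd_card_of_char_ne_two (F := F) (fun e => h (by
      rw [← ringChar.Nat.cast_ringChar (R := F), e]; simp))
    omega
  have h4F : (4 : F) = 0 := by linear_combination (2 : F) * h2F
  have hsq : ∀ {t : F}, t ≠ 0 → t ^ 2 ≠ 4 := fun {t} h e => h ((pow_eq_zero_iff two_ne_zero).1 (e.trans h4F))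
  ext n
  simp only [Set.mem_range, Set.mem_insert_iff, Set.mem_singleton_iff]
  constructor
  · rintro ⟨x, rfl⟩
    obtain ⟨g, rfl⟩ := CfsgLib.SL2Trace.proj_surjective x
    show CfsgLib.SL2Classes.idx g = 1 ∨ CfsgLib.SL2Classes.idx g = _ ∨ CfsgLib.SL2Classes.idx g = _ ∨ CfsgLib.SL2Classes.idx g = _
    by_cases h1 : CfsgLib.SL2Trace.proj g = 1
    · exact Or.inl (CfsgLib.SL2Classes.idx_one h1)
    have hg := CfsgLib.SL2Trace.nonScalar_of_proj_ne_one h1
    by_cases h0 : CfsgLib.SL2Tori.tr g = 0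
    · exact Or.inr (Or.inr (Or.inl (CfsgLib.SL2Classes.idx_unipotent_even h2F hg h0)))
    by_cases hs : ∃ l : F, l ^ 2 + CfsgLib.SL2Tori.tr g * l + 1 = 0
    · obtain ⟨l, hl⟩ := hs
      exact Or.inr (Or.inr (Or.inr (CfsgLib.SL2Classes.idx_split (hsq h0) (Or.inl h0) hl)))
    · push Not at hs
      exact Or.inr (Or.inl (CfsgLib.SL2Classes.idx_nonsplit (hsq h0) (Or.inl h0) hs))
  · rintro (rfl | rfl | rfl | rfl)
    · exact ⟨CfsgLib.SL2Trace.proj 1, CfsgLib.SL2Classes.idx_one ((CfsgLib.SL2Trace.proj_eq_one_iff 1).2 (Or.inl rfl))⟩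
    · obtain ⟨g, ht, hno⟩ := CfsgLib.SL2Tori.exists_nonsplit (F := F)
      exact ⟨CfsgLib.SL2Trace.proj g, CfsgLib.SL2Classes.idx_nonsplit ht (Or.inr h2F) hno⟩
    · exact ⟨CfsgLib.SL2Trace.proj (CfsgLib.SL2Trace.companion 0), CfsgLib.SL2Classes.idx_unipotent_even h2F
        (CfsgLib.SL2Classes.nonScalar_companion 0) (CfsgLib.SL2Classes.tr_companion 0)⟩
    · obtain ⟨g, ht, l, hl⟩ := CfsgLib.SL2Tori.exists_split (F := F) h4
      exact ⟨CfsgLib.SL2Trace.proj g, CfsgLib.SL2Classes.idx_split ht (Or.inr h2F) hl⟩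

end Cfsg.Agent.S2507
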