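import Cfsg.Statements.S2508
import Cfsg.Agent.SL2Classes.Cases

set_option autoImplicit false
open Cfsg

namespace Cfsg.Agent.S2508

/-- Let F be a finite field with q elements, q odd and q ≥ 7. If q ≡ 1 (mod 4) the conjugacy class sizes of PSL(2,F) are exactly 1, (q² − 1)/2, q(q + 1)/2, q(q − 1) and q(q + 1); if q ≡ 3 (mod 4) they are exactly 1, (q² − 1)/2, q(q − 1)/2, q(q + 1) and q(q − 1). -/
theorem result {F : Type*} [Field F] [Fintype F]
    (hodd : ¬ 2 ∣ Fintype.card F) (h7 : 7 ≤ Fintype.card F) :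
    (Fintype.card F % 4 = 1 →
      Set.range (fun g : (Matrix.ProjectiveSpecialLinearGroup (Fin 2) F) => (Subgroup.centralizer ({g} : Set (Matrix.ProjectiveSpecialLinearGroup (Fin 2) F))).index) =
        {1, (Fintype.card F ^ 2 - 1) / 2, Fintype.card F * (Fintype.card F + 1) / 2,
          Fintype.card F * (Fintype.card F - 1), Fintype.card F * (Fintype.card F + 1)}) ∧
    (Fintype.card F % 4 = 3 →
      Set.range (fun g : (Matrix.ProjectiveSpecialLinearGroup (Fin 2) F) => (Subgroup.centralizer ({g} : Set (Matrix.ProjectiveSpecialLinearGroup (Fin 2) F))).index) =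
        {1, (Fintype.card F ^ 2 - 1) / 2, Fintype.card F * (Fintype.card F - 1) / 2,
          Fintype.card F * (Fintype.card F + 1), Fintype.card F * (Fintype.card F - 1)}) := by
  classical
  have h2F : (2 : F) ≠ 0 := CfsgLib.SL2Tori.two_ne_zero_of_odd (Nat.odd_iff.2 (by omega))
  have hsqodd : 2 ∣ Fintype.card F ^ 2 - 1 := by
    rw [CfsgLib.SL2Classes.sq_sub_one]
    exact dvd_mul_of_dvd_right (by omega) _
  -- the indices occurring
  have hall : ∀ g, CfsgLib.SL2Classes.idx (F := F) g = 1 ∨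
      CfsgLib.SL2Classes.idx g = (Fintype.card F ^ 2 - 1) / 2 ∨
      (CfsgLib.SL2Tori.tr g = 0 ∧ CfsgLib.SL2Trace.proj g ≠ 1) ∨
      CfsgLib.SL2Classes.idx g = Fintype.card F * (Fintype.card F + 1) ∨
      CfsgLib.SL2Classes.idx g = Fintype.card F * (Fintype.card F - 1) := fun g => by
    by_cases h1 : CfsgLib.SL2Trace.proj g = 1
    · exact Or.inl (CfsgLib.SL2Classes.idx_one h1)
    have hg := CfsgLib.SL2Trace.nonScalar_of_proj_ne_one h1
    by_cases h4 : CfsgLib.SL2Tori.tr g ^ 2 = 4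
    · have := CfsgLib.SL2Classes.idx_unipotent_odd h2F hg h4
      exact Or.inr (Or.inl (by omega))
    by_cases h0 : CfsgLib.SL2Tori.tr g = 0
    · exact Or.inr (Or.inr (Or.inl ⟨h0, h1⟩))
    by_cases hs : ∃ l : F, l ^ 2 + CfsgLib.SL2Tori.tr g * l + 1 = 0
    · obtain ⟨l, hl⟩ := hs
      exact Or.inr (Or.inr (Or.inr (Or.inl (CfsgLib.SL2Classes.idx_split h4 (Or.inl h0) hl))))
    · push Not at hs
      exact Or.inr (Or.inr (Or.inr (Or.inr (CfsgLib.SL2Classes.idx_nonsplit h4 (Or.inl h0) hs))))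
  have hone : CfsgLib.SL2Classes.idx (1 : Matrix.SpecialLinearGroup (Fin 2) F) = 1 :=
    CfsgLib.SL2Classes.idx_one ((CfsgLib.SL2Trace.proj_eq_one_iff 1).2 (Or.inl rfl))
  have hunip := CfsgLib.SL2Classes.idx_unipotent_odd (g := CfsgLib.SL2Trace.companion (2 : F)) h2F
    (CfsgLib.SL2Classes.nonScalar_companion 2) (by rw [CfsgLib.SL2Classes.tr_companion]; norm_num)
  obtain ⟨ts, hts4, hts0, l, hl⟩ := CfsgLib.SL2Classes.exists_split_ne_zero h7
  have hsplit := CfsgLib.SL2Classes.idx_split (g := CfsgLib.SL2Trace.companion ts)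
    (by rw [CfsgLib.SL2Classes.tr_companion]; exact hts4)
    (Or.inl (by rw [CfsgLib.SL2Classes.tr_companion]; exact hts0))
    (l := l) (by rw [CfsgLib.SL2Classes.tr_companion]; exact hl)
  obtain ⟨tn, htn0, htn⟩ := CfsgLib.SL2Classes.exists_nonsplit_ne_zero (F := F) (by omega)
  have hnon := CfsgLib.SL2Classes.idx_nonsplit (g := CfsgLib.SL2Trace.companion tn)
    (by rw [CfsgLib.SL2Classes.tr_companion]; exact CfsgLib.SL2Tori.sq_ne_four_of_no_root htn)
    (Or.inl (by rw [CfsgLib.SL2Classes.tr_companion]; exact htn0))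
    (by rw [CfsgLib.SL2Classes.tr_companion]; exact htn)
  constructor <;> intro h4 <;> ext n <;> simp only [Set.mem_range, Set.mem_insert_iff, Set.mem_singleton_iff] <;>
    constructor
  · rintro ⟨x, rfl⟩
    obtain ⟨g, rfl⟩ := CfsgLib.SL2Trace.proj_surjective x
    change CfsgLib.SL2Classes.idx g = 1 ∨ CfsgLib.SL2Classes.idx g = _ ∨ CfsgLib.SL2Classes.idx g = _ ∨
      CfsgLib.SL2Classes.idx g = _ ∨ CfsgLib.SL2Classes.idx g = _
    rcases hall g with h | h | ⟨h, -⟩ | h | h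
    · exact Or.inl h
    · exact Or.inr (Or.inl h)
    · have := CfsgLib.SL2Classes.idx_zero_split h2F h h4
      exact Or.inr (Or.inr (Or.inl (by omega)))
    · exact Or.inr (Or.inr (Or.inr (Or.inr h)))
    · exact Or.inr (Or.inr (Or.inr (Or.inl h)))
  · rintro (rfl | rfl | rfl | rfl | rfl)
    · exact ⟨CfsgLib.SL2Trace.proj 1, hone⟩
    · refine ⟨CfsgLib.SL2Trace.proj (CfsgLib.SL2Trace.companion 2), ?_⟩
      change CfsgLib.SL2Classes.idx (CfsgLib.SL2Trace.companion (2 : F)) = _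
      omega
    · refine ⟨CfsgLib.SL2Trace.proj (CfsgLib.SL2Trace.companion 0), ?_⟩
      have := CfsgLib.SL2Classes.idx_zero_split (g := CfsgLib.SL2Trace.companion (0 : F)) h2F
        (CfsgLib.SL2Classes.tr_companion 0) h4
      change CfsgLib.SL2Classes.idx (CfsgLib.SL2Trace.companion (0 : F)) = _
      omega
    · exact ⟨CfsgLib.SL2Trace.proj (CfsgLib.SL2Trace.companion tn), hnon⟩
    · exact ⟨CfsgLib.SL2Trace.proj (CfsgLib.SL2Trace.companion ts), hsplit⟩
  · rintro ⟨x, rfl⟩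
    obtain ⟨g, rfl⟩ := CfsgLib.SL2Trace.proj_surjective x
    change CfsgLib.SL2Classes.idx g = 1 ∨ CfsgLib.SL2Classes.idx g = _ ∨ CfsgLib.SL2Classes.idx g = _ ∨
      CfsgLib.SL2Classes.idx g = _ ∨ CfsgLib.SL2Classes.idx g = _
    rcases hall g with h | h | ⟨h, -⟩ | h | h
    · exact Or.inl h
    · exact Or.inr (Or.inl h)
    · have := CfsgLib.SL2Classes.idx_zero_nonsplit h2F h h4
      exact Or.inr (Or.inr (Or.inl (by omega)))
    · exact Or.inr (Or.inr (Or.inr (Or.inl h)))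
    · exact Or.inr (Or.inr (Or.inr (Or.inr h)))
  · rintro (rfl | rfl | rfl | rfl | rfl)
    · exact ⟨CfsgLib.SL2Trace.proj 1, hone⟩
    · refine ⟨CfsgLib.SL2Trace.proj (CfsgLib.SL2Trace.companion 2), ?_⟩
      change CfsgLib.SL2Classes.idx (CfsgLib.SL2Trace.companion (2 : F)) = _
      omega
    · refine ⟨CfsgLib.SL2Trace.proj (CfsgLib.SL2Trace.companion 0), ?_⟩
      have := CfsgLib.SL2Classes.idx_zero_nonsplit (g := CfsgLib.SL2Trace.companion (0 : F)) h2F
        (CfsgLib.SL2Classes.tr_companion 0) h4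
      change CfsgLib.SL2Classes.idx (CfsgLib.SL2Trace.companion (0 : F)) = _
      omega
    · exact ⟨CfsgLib.SL2Trace.proj (CfsgLib.SL2Trace.companion ts), hsplit⟩
    · exact ⟨CfsgLib.SL2Trace.proj (CfsgLib.SL2Trace.companion tn), hnon⟩

end Cfsg.Agent.S2508
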