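import Cfsg.Statements.S0738
import Cfsg.Agent.CharactersDeep.ZassenhausElementary

set_option autoImplicit false
open Cfsg

namespace Cfsg.Agent.S0738

/-- Let a finite Zassenhaus group of degree `n + 1` have two-point stabilisers of order `d` with `2d ≥ n - 1`. Then a normal subgroup of a point stabiliser acting regularly on the remaining points is elementary abelian, and the degree is a prime power plus one. -/
theorem result {G Ω : Type*} [Group G] [Finite G] [MulAction G Ω] [Fintype Ω] (hZ : Cfsg.IsZassenhausGroup G Ω) {a b : Ω} (hab : a ≠ b) (hd : Fintype.card Ω - 2 ≤ 2 * Nat.card ↥(MulAction.stabilizer G a ⊓ MulAction.stabilizer G b)) (F : Subgroup G) (hFle : F ≤ MulAction.stabilizer G a) (hFn : (F.subgroupOf (MulAction.stabilizer G a)).Normal) (hreg : ∀ y z : Ω, y ≠ a → z ≠ a → ∃! u : F, (u : G) • y = z) : IsMulCommutative F ∧ ∃ p f : ℕ, p.Prime ∧ (∀ u ∈ F, u ^ p = 1) ∧ Fintype.card Ω = p ^ f + 1 := by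
  classical
  have hfix : ∀ x ∈ F, x ≠ 1 → ∀ c : Ω, x • c = c → c = a := by
    intro x hx hx1 c hc
    by_contra hca
    obtain ⟨u, -, hu⟩ := hreg c c hca hca
    have h1 := hu ⟨x, hx⟩ hc
    have h2 := hu 1 (one_smul G c)
    exact hx1 (congrArg Subtype.val (h1.trans h2.symm))
  have hn : ∀ h ∈ MulAction.stabilizer G a, ∀ x ∈ F, h * x * h⁻¹ ∈ F := fun h hh x hx =>
    Subgroup.mem_subgroupOf.1 (hFn.conj_mem ⟨x, hFle hx⟩ (Subgroup.mem_subgroupOf.2 hx) ⟨h, hh⟩)
  have hcard : Nat.card F + 1 = Fintype.card Ω := by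
    have hb : b ≠ a := hab.symm
    have hbij : Function.Bijective (fun u : F => (⟨(u : G) • b, fun h =>
        hb ((smul_left_cancel_iff (u : G)).1 (h.trans (hFle u.2).symm))⟩ : {c : Ω // c ≠ a})) := by
      refine ⟨fun u v h => (hreg b _ hb ?_).unique (congrArg Subtype.val h) rfl, fun c => ?_⟩
      · exact fun h => hb ((smul_left_cancel_iff (v : G)).1 (h.trans (hFle v.2).symm))
      · obtain ⟨u, hu, -⟩ := hreg b c hb c.2
        exact ⟨u, Subtype.ext hu⟩
    rw [Nat.card_eq_of_bijective _ hbij, Nat.card_eq_fintype_card, Fintype.card_subtype_compl,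
      Fintype.card_subtype_eq]
    have : 0 < Fintype.card Ω := Fintype.card_pos_iff.2 ⟨a⟩
    omega
  obtain ⟨hcomm, p, f, hp, hexp, hpf⟩ :=
    CfsgLib.CharactersDeep.ZassenhausElementary.kernel_elementary hZ hab hFle hn hfix hcard hd
  exact ⟨⟨⟨fun u v => Subtype.ext (hcomm u u.2 v v.2)⟩⟩, p, f, hp, hexp, by omega⟩

end Cfsg.Agent.S0738
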