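import Cfsg.Statements.S2401
import Cfsg.Agent.SteinbergSLn.Injective
import Cfsg.Agent.Linear.Perfect

set_option autoImplicit false
open Cfsg

namespace Cfsg.Agent.S2401

/-- The Steinberg presentation of `SL_n` over a finite field for `n ≥ 3`: the group generated by symbols `x_ij(t)` (`i ≠ j`, `t` in the field) subject to `x_ij(t) x_ij(u) = x_ij(t + u)` and, for `i ≠ l`, `x_ij(t) x_kl(u) x_ij(t)⁻¹ x_kl(u)⁻¹ = x_il(tu)` if `j = k` and `= 1` if `j ≠ k`, is isomorphic to `SL_n` by an isomorphism sending `x_ij(t)` to the elementary matrix `1 + t E_ij`. -/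
theorem result {K : Type*} [Field K] [Finite K] (n : ℕ) (hn : 3 ≤ n) :
    ∃ e : PresentedGroup
        ({g : FreeGroup ({ij : Fin n × Fin n // ij.1 ≠ ij.2} × K) | ∃ (a : {ij : Fin n × Fin n // ij.1 ≠ ij.2}) (t u : K),
            g = FreeGroup.of (a, t) * FreeGroup.of (a, u) * (FreeGroup.of (a, t + u))⁻¹} ∪
          {g | ∃ (a b : {ij : Fin n × Fin n // ij.1 ≠ ij.2}) (t u : K), a.1.1 ≠ b.1.2 ∧ a.1.2 ≠ b.1.1 ∧
            g = FreeGroup.of (a, t) * FreeGroup.of (b, u) * (FreeGroup.of (a, t))⁻¹ * (FreeGroup.of (b, u))⁻¹} ∪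
          {g | ∃ (a b : {ij : Fin n × Fin n // ij.1 ≠ ij.2}) (h : a.1.1 ≠ b.1.2) (t u : K), a.1.2 = b.1.1 ∧
            g = FreeGroup.of (a, t) * FreeGroup.of (b, u) * (FreeGroup.of (a, t))⁻¹ * (FreeGroup.of (b, u))⁻¹ *
              (FreeGroup.of (⟨(a.1.1, b.1.2), h⟩, t * u))⁻¹}) ≃* Matrix.SpecialLinearGroup (Fin n) K,
      ∀ (a : {ij : Fin n × Fin n // ij.1 ≠ ij.2}) (t : K), ((e (PresentedGroup.of (a, t)) : Matrix (Fin n) (Fin n) K)) = Matrix.transvection a.1.1 a.1.2 t := by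
  classical
  set rels := ({g : FreeGroup ({ij : Fin n × Fin n // ij.1 ≠ ij.2} × K) | ∃ (a : {ij : Fin n × Fin n // ij.1 ≠ ij.2}) (t u : K),
            g = FreeGroup.of (a, t) * FreeGroup.of (a, u) * (FreeGroup.of (a, t + u))⁻¹} ∪
          {g | ∃ (a b : {ij : Fin n × Fin n // ij.1 ≠ ij.2}) (t u : K), a.1.1 ≠ b.1.2 ∧ a.1.2 ≠ b.1.1 ∧
            g = FreeGroup.of (a, t) * FreeGroup.of (b, u) * (FreeGroup.of (a, t))⁻¹ * (FreeGroup.of (b, u))⁻¹} ∪
          {g | ∃ (a b : {ij : Fin n × Fin n // ij.1 ≠ ij.2}) (h : a.1.1 ≠ b.1.2) (t u : K), a.1.2 = b.1.1 ∧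
            g = FreeGroup.of (a, t) * FreeGroup.of (b, u) * (FreeGroup.of (a, t))⁻¹ * (FreeGroup.of (b, u))⁻¹ *
              (FreeGroup.of (⟨(a.1.1, b.1.2), h⟩, t * u))⁻¹}) with hrels
  let f : {ij : Fin n × Fin n // ij.1 ≠ ij.2} × K → Matrix.SpecialLinearGroup (Fin n) K := fun p =>
    Matrix.SpecialLinearGroup.transvection p.1.2 p.2
  have hfv : ∀ a t, (f (a, t)).1 = Matrix.transvection a.1.1 a.1.2 t := fun a t => rfl
  have hf : ∀ r ∈ rels, FreeGroup.lift f r = 1 := by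
    rintro r ((⟨a, t, u, rfl⟩ | ⟨a, b, t, u, h1, h2, rfl⟩) | ⟨a, b, h, t, u, h1, rfl⟩)
    · simp only [map_mul, map_inv, FreeGroup.lift_apply_of, mul_inv_eq_one]
      apply Subtype.ext
      rw [Matrix.SpecialLinearGroup.coe_mul, hfv, hfv, hfv, Matrix.transvection_mul_transvection_same _ _ a.2]
    · simp only [map_mul, map_inv, FreeGroup.lift_apply_of, mul_inv_eq_one]
      rw [mul_inv_eq_iff_eq_mul]
      apply Subtype.ext
      rw [Matrix.SpecialLinearGroup.coe_mul, Matrix.SpecialLinearGroup.coe_mul, hfv, hfv]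
      simp [Matrix.transvection, Matrix.mul_add, Matrix.add_mul, h2, Ne.symm h1]
      abel
    · simp only [map_mul, map_inv, FreeGroup.lift_apply_of, mul_inv_eq_one]
      rw [mul_inv_eq_iff_eq_mul, mul_inv_eq_iff_eq_mul]
      apply Subtype.ext
      simp only [Matrix.SpecialLinearGroup.coe_mul, hfv]
      have h2 : b.1.2 ≠ a.1.1 := Ne.symm h
      have h3 : a.1.2 ≠ a.1.1 := Ne.symm a.2
      have h4 : b.1.1 ≠ b.1.2 := b.2
      simp [Matrix.transvection, Matrix.mul_add, Matrix.add_mul, h1, h2, h3, h4, Ne.symm h4]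
      abel
  let φ := PresentedGroup.toGroup hf
  let x : Fin n → Fin n → K → PresentedGroup rels := fun i j t =>
    if h : i ≠ j then PresentedGroup.of (⟨(i, j), h⟩, t) else 1
  have hx : ∀ i j (h : i ≠ j) t, x i j t = PresentedGroup.of (⟨(i, j), h⟩, t) := fun i j h t => dif_pos h
  have hof : ∀ p, φ (PresentedGroup.of p) = f p := fun p => PresentedGroup.toGroup.of hf
  have one_rel : ∀ r ∈ rels, PresentedGroup.mk rels r = 1 := fun r hr => PresentedGroup.one_of_mem hr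
  let ψ : PresentedGroup rels →* Matrix (Fin n) (Fin n) K :=
    { toFun := fun g => (φ g).1
      map_one' := by rw [map_one]; rfl
      map_mul' := fun g h => by rw [map_mul, Matrix.SpecialLinearGroup.coe_mul] }
  have S : CfsgLib.SteinbergSLn.StRel x ψ := by
    refine ⟨fun i j => ?_, fun i j h t u => ?_, fun i j k l h1 h2 h3 h4 t u => ?_,
      fun i j l h1 h2 h3 t u => ?_, fun i j h t => ?_⟩
    · obtain ⟨k, -, hk⟩ := Finset.exists_mem_notMem_of_card_lt_card (s := {i, j}) (t := (Finset.univ : Finset (Fin n)))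
        (lt_of_le_of_lt Finset.card_le_two (by simp; omega))
      exact ⟨k, by simpa using hk⟩
    · rw [hx _ _ h, hx _ _ h, hx _ _ h]
      have e := one_rel _ (Or.inl (Or.inl ⟨⟨(i, j), h⟩, t, u, rfl⟩))
      rw [map_mul, map_mul, map_inv, mul_inv_eq_one] at e
      exact e.symm
    · rw [hx _ _ h1, hx _ _ h2]
      have e := one_rel _ (Or.inl (Or.inr ⟨⟨(i, j), h1⟩, ⟨(k, l), h2⟩, t, u, h3, h4, rfl⟩))
      rw [map_mul, map_mul, map_mul, map_inv, map_inv, mul_inv_eq_one, mul_inv_eq_iff_eq_mul] at e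
      exact e
    · rw [hx _ _ h1, hx _ _ h2, hx _ _ h3]
      have e := one_rel _ (Or.inr ⟨⟨(i, j), h1⟩, ⟨(j, l), h2⟩, h3, t, u, rfl, rfl⟩)
      simp only [map_mul, map_inv, mul_inv_eq_one] at e
      exact e
    · show (φ (x i j t)).1 = _
      rw [hx _ _ h, hof, hfv]
  have hgen : ∀ g, g ∈ CfsgLib.SteinbergSLn.X x Finset.univ Finset.univ := by
    intro g
    have hg : g ∈ Subgroup.closure (Set.range (PresentedGroup.of (rels := rels))) := by
      rw [PresentedGroup.closure_range_of]; trivial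
    refine (Subgroup.closure_le _).2 ?_ hg
    rintro _ ⟨⟨⟨⟨i, j⟩, h⟩, t⟩, rfl⟩
    rw [← hx i j h t]
    exact CfsgLib.SteinbergSLn.mem_X (Finset.mem_univ _) (Finset.mem_univ _) h t
  have hinj : Function.Injective φ := by
    rw [injective_iff_map_eq_one]
    intro g hg
    refine CfsgLib.SteinbergSLn.injective_on S n (by omega) Finset.univ (by simp) g (hgen g) ?_
    show (φ g).1 = 1
    rw [hg, Matrix.SpecialLinearGroup.coe_one]
  have hsurj : Function.Surjective φ := by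
    rw [← MonoidHom.range_eq_top]
    exact CfsgLib.Linear.sl_eq_top_of_transvections fun i j h c =>
      ⟨PresentedGroup.of (⟨(i, j), h⟩, c), hof _⟩
  exact ⟨MulEquiv.ofBijective φ ⟨hinj, hsurj⟩, fun a t => (congrArg Subtype.val (hof (a, t))).trans (hfv a t)⟩

end Cfsg.Agent.S2401
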