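import Cfsg.Statements.S0671
import Mathlib
import Cfsg.Agent.Perm.Module
-- import your own Cfsg.Agent.* helpers here

set_option autoImplicit false
open Cfsg

namespace Cfsg.Agent.S0671

/-- If the heart of the permutation module in characteristic `p` of a transitive action of degree `p ^ f` has no trivial composition factor, the action is doubly transitive. The hypothesis is phrased without composition series: no invariant subspaces `W < W'` between the constants and the sum-zero functions with trivial action on the quotient. -/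
theorem result {G : Type*} [Group G] [Finite G] {K : Type*} [Field K] {p f : ℕ} [Fact p.Prime] [CharP K p] {Ω : Type*} [Fintype Ω] [MulAction G Ω] [MulAction.IsPretransitive G Ω] (hf : 1 ≤ f) (hcard : Fintype.card Ω = p ^ f) (h : ∀ W W' : Subrepresentation (Cfsg.permRep K G Ω), (Cfsg.permConstants K G Ω).toSubmodule ≤ W.toSubmodule → W.toSubmodule < W'.toSubmodule → W'.toSubmodule ≤ (Cfsg.permSumZero K G Ω).toSubmodule → ∃ g : G, ∃ v ∈ W'.toSubmodule, Cfsg.permRep K G Ω g v - v ∉ W.toSubmodule) : MulAction.IsMultiplyPretransitive G Ω 2 := by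
  classical
  by_contra hn2
  obtain ⟨a, b, c, hab, hac, hne⟩ : ∃ a b c : Ω, a ≠ b ∧ a ≠ c ∧
      ∀ g : G, g • a = a → g • b ≠ c := by
    by_contra hcon
    simp only [not_exists, not_and, not_forall, not_not] at hcon
    apply hn2
    rw [MulAction.is_two_pretransitive_iff]
    intro a b c d hab hcd
    obtain ⟨g, hg⟩ := MulAction.exists_smul_eq G a c
    obtain ⟨k, hk1, hk2⟩ := hcon c (g • b) d
      (fun h => hab (MulAction.injective g (hg.trans h))) hcd
    exact ⟨k * g, by rw [mul_smul, hg, hk1], by rw [mul_smul, hk2]⟩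
  let R : Ω → Ω → Prop := fun x y => ∃ g : G, g • a = x ∧ g • b = y
  have hR : ∀ (g : G) (x y : Ω), R (g • x) (g • y) ↔ R x y := by
    intro g x y
    constructor
    · rintro ⟨k, h1, h2⟩
      exact ⟨g⁻¹ * k, by rw [mul_smul, h1, inv_smul_smul], by rw [mul_smul, h2, inv_smul_smul]⟩
    · rintro ⟨k, h1, h2⟩
      exact ⟨g * k, by rw [mul_smul, h1], by rw [mul_smul, h2]⟩
  let d : K := ∑ y, if R a y then (1 : K) else 0
  have hd : ∀ x, (∑ y, if R x y then (1 : K) else 0) = d := by
    intro x
    obtain ⟨g, rfl⟩ := MulAction.exists_smul_eq G a x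
    refine Fintype.sum_equiv (MulAction.toPerm g⁻¹) _ _ (fun y => ?_)
    show _ = if R a (g⁻¹ • y) then (1 : K) else 0
    rw [← hR g a (g⁻¹ • y), smul_inv_smul]
  let B : (Ω → K) →ₗ[K] (Ω → K) :=
    { toFun := fun v x => (∑ y, if R x y then v y else 0) - d * v x
      map_add' := fun u v => funext fun x => by
        have e : ∀ y, (if R x y then u y + v y else 0) =
            (if R x y then u y else 0) + (if R x y then v y else 0) := fun y => by
          split_ifs <;> simp
        simp only [Pi.add_apply, e, Finset.sum_add_distrib]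
        ring
      map_smul' := fun k v => funext fun x => by
        simp only [Pi.smul_apply, smul_eq_mul, RingHom.id_apply, mul_sub, Finset.mul_sum,
          mul_ite, mul_zero, mul_left_comm k d] }
  have hB : ∀ (g : G) (v : Ω → K), B (Cfsg.permRep K G Ω g v) = Cfsg.permRep K G Ω g (B v) := by
    intro g v
    funext x
    show (∑ y, if R x y then v (g⁻¹ • y) else 0) - d * v (g⁻¹ • x) =
      (∑ y, if R (g⁻¹ • x) y then v y else 0) - d * v (g⁻¹ • x)
    congr 1
    refine Fintype.sum_equiv (MulAction.toPerm g⁻¹) _ _ (fun y => ?_)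
    show _ = if R (g⁻¹ • x) (g⁻¹ • y) then v (g⁻¹ • y) else 0
    simp only [hR]
  have hB1 : B (fun _ => 1) = 0 := funext fun x => by
    show (∑ y, if R x y then (1 : K) else 0) - d * 1 = 0
    rw [hd, mul_one, sub_self]
  have hBe : ∀ z x, x ≠ z → B (Pi.single z 1) x = if R x z then 1 else 0 := by
    intro z x hxz
    show (∑ y, if R x y then (Pi.single z (1 : K) : Ω → K) y else 0) - d * (Pi.single z (1 : K) : Ω → K) x = _
    rw [Pi.single_eq_of_ne hxz, mul_zero, sub_zero, Finset.sum_eq_single z]
    · simp
    · intro y _ hy; simp [hy]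
    · simp
  -- the image is not inside the constants
  have hnconst : ∃ z, B (Pi.single z 1) ∉ (Cfsg.permConstants K G Ω).toSubmodule := by
    obtain ⟨g, hg⟩ := MulAction.exists_smul_eq G b c
    refine ⟨c, fun h => ?_⟩
    obtain ⟨k, hk⟩ := CfsgLib.Perm.Module.mem_permConstants.1 h
    have hga : g • a ≠ c := fun h => hab (MulAction.injective g (h.trans hg.symm))
    have e1 := congrFun hk (g • a)
    have e2 := congrFun hk a
    have hRga : R (g • a) c := ⟨g, rfl, hg⟩
    have hRac : ¬ R a c := fun ⟨k, h1, h2⟩ => hne k h1 h2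
    rw [hBe _ _ hga, if_pos hRga] at e1
    rw [hBe _ _ hac, if_neg hRac, ← e1] at e2
    exact zero_ne_one e2
  obtain ⟨z, hz⟩ := hnconst
  have hcardN : Nat.card Ω = p ^ f := by rw [Nat.card_eq_fintype_card, hcard]
  -- subrepresentations
  let W' : Subrepresentation (Cfsg.permRep K G Ω) :=
    { toSubmodule := LinearMap.range B
      apply_mem_toSubmodule := by
        rintro g _ ⟨v, rfl⟩
        exact ⟨_, hB g v⟩ }
  let W : Subrepresentation (Cfsg.permRep K G Ω) :=
    { toSubmodule := (Cfsg.permSumZero K G Ω).toSubmodule.map B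
      apply_mem_toSubmodule := by
        rintro g _ ⟨v, hv, rfl⟩
        exact ⟨_, (Cfsg.permSumZero K G Ω).apply_mem_toSubmodule g hv, hB g v⟩ }
  let Kr : Subrepresentation (Cfsg.permRep K G Ω) :=
    { toSubmodule := LinearMap.ker B
      apply_mem_toSubmodule := by
        intro g v hv
        rw [LinearMap.mem_ker] at hv ⊢
        rw [hB, hv, map_zero] }
  have hW'top : W'.toSubmodule ≠ ⊤ := by
    intro h
    have hinj : Function.Injective B :=
      LinearMap.injective_iff_surjective.2 (LinearMap.range_eq_top.1 h)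
    have h01 : (fun _ : Ω => (1 : K)) = 0 := hinj (hB1.trans (map_zero B).symm)
    exact one_ne_zero (congrFun h01 a)
  have hW'S := CfsgLib.Perm.Module.le_permSumZero hcard W' hW'top
  have hdiff : ∀ (g : G) (u : Ω → K),
      Cfsg.permRep K G Ω g u - u ∈ (Cfsg.permSumZero K G Ω).toSubmodule := by
    intro g u
    rw [CfsgLib.Perm.Module.mem_permSumZero]
    simp only [Pi.sub_apply, Finset.sum_sub_distrib, CfsgLib.Perm.Module.sum_permRep, sub_self]
  have hW0 : W.toSubmodule ≠ ⊥ := by
    intro h0
    apply hz
    apply CfsgLib.Perm.Module.mem_permConstants_of_forall_eq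
    intro x y
    obtain ⟨g, hg⟩ := MulAction.exists_smul_eq G y x
    have hm : B (Cfsg.permRep K G Ω g (Pi.single z 1) - Pi.single z 1) ∈ W.toSubmodule :=
      Submodule.mem_map_of_mem (hdiff g _)
    rw [h0, Submodule.mem_bot, map_sub, sub_eq_zero, hB] at hm
    have := congrFun hm x
    rw [CfsgLib.Perm.Module.permRep_apply, ← hg, inv_smul_smul] at this
    rw [← hg]
    exact this.symm
  have hCW := CfsgLib.Perm.Module.permConstants_le hcard W hW0
  have hlt : W.toSubmodule < W'.toSubmodule := by
    refine lt_of_le_of_ne (LinearMap.map_le_range) ?_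
    intro he
    have hm : B (Pi.single z 1) ∈ W.toSubmodule := he ▸ LinearMap.mem_range_self B _
    obtain ⟨s, hs, hse⟩ := hm
    have hKr : Kr.toSubmodule ≠ ⊤ := by
      intro h
      apply hz
      have : Pi.single z 1 ∈ Kr.toSubmodule := by rw [h]; trivial
      rw [LinearMap.mem_ker.1 this]
      exact Submodule.zero_mem _
    have hmem : Pi.single z 1 - s ∈ Kr.toSubmodule := by
      rw [LinearMap.mem_ker, map_sub, hse, sub_self]
    have := CfsgLib.Perm.Module.le_permSumZero hcard Kr hKr hmem
    rw [CfsgLib.Perm.Module.mem_permSumZero] at this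
    have hs0 : ∑ x, s x = 0 := hs
    simp [Finset.sum_sub_distrib, hs0] at this
  obtain ⟨g, v, hv, hgv⟩ := h W W' hCW hlt hW'S
  obtain ⟨u, rfl⟩ := hv
  apply hgv
  rw [← hB, ← map_sub]
  exact Submodule.mem_map_of_mem (hdiff g u)

end Cfsg.Agent.S0671
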