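import Cfsg.Statements.S1141
import Cfsg.Agent.UThreeSylow.Structure

set_option autoImplicit false
open Cfsg

namespace Cfsg.Agent.S1141

open CfsgLib.UThreeSylow

theorem suzuki_congr {A B : Type*} [Group A] [Group B] (e : A ≃* B) (hA : Cfsg.IsSuzukiTwoGroup A) :
    Cfsg.IsSuzukiTwoGroup B := by
  obtain ⟨hfin, hp, ⟨x, y, hxy⟩, ⟨a, b, hab, ha1, haa, hb1, hbb⟩, K, hK, hreg⟩ := hA
  refine ⟨Finite.of_equiv A e.toEquiv, hp.of_equiv e, ⟨e x, e y, fun h => hxy (e.injective (by simpa using h))⟩,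
    ⟨e a, e b, fun h => hab (e.injective h), fun h => ha1 (e.injective (h.trans e.map_one.symm)),
      by rw [← map_mul, haa, map_one], fun h => hb1 (e.injective (h.trans e.map_one.symm)),
      by rw [← map_mul, hbb, map_one]⟩, K.map (MulAut.congr e).toMonoidHom, ?_, ?_⟩
  · exact isCyclic_of_surjective (K.equivMapOfInjective _ (MulAut.congr e).injective).toMonoidHom
      (MulEquiv.surjective _)
  · intro u w hu1 huu hw1 hww
    have h1 : e.symm u ≠ 1 := fun h => hu1 (e.symm.injective (h.trans e.symm.map_one.symm))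
    have h2 : e.symm w ≠ 1 := fun h => hw1 (e.symm.injective (h.trans e.symm.map_one.symm))
    obtain ⟨k, hk, huniq⟩ := hreg (e.symm u) (e.symm w) h1 (by rw [← map_mul, huu, map_one]) h2
      (by rw [← map_mul, hww, map_one])
    refine ⟨⟨_, k.1, k.2, rfl⟩, ?_, ?_⟩
    · show e ((k : MulAut A) (e.symm u)) = w
      rw [hk, e.apply_symm_apply]
    · rintro ⟨_, k', hk', rfl⟩ h
      have h' : e (k' (e.symm u)) = w := h
      have := huniq ⟨k', hk'⟩ (by show k' (e.symm u) = e.symm w; rw [← h', e.symm_apply_apply])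
      exact Subtype.ext (congrArg (MulAut.congr e).toMonoidHom (congrArg Subtype.val this))

/-- Let `q = 2^n ≥ 4` and `|F| = q²`. A Sylow 2-subgroup `S` of `PSU₃(q)` has order `q³`, its centre has order `q`, and `S` is a Suzuki 2-group. -/
theorem result {F : Type*} [Field F] [Fintype F] {n : ℕ} (hn : 2 ≤ n)
    (hF : Fintype.card F = (2 ^ n) ^ 2) (S : Sylow 2 (Cfsg.PSU 3 F (2 ^ n))) :
    Nat.card S = (2 ^ n) ^ 3 ∧ Nat.card (Subgroup.center ↥(S : Subgroup (Cfsg.PSU 3 F (2 ^ n)))) = 2 ^ n ∧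
      Cfsg.IsSuzukiTwoGroup ↥(S : Subgroup (Cfsg.PSU 3 F (2 ^ n))) := by
  have h : Good F n (2 ^ n) := ⟨rfl, by omega, hF⟩
  obtain ⟨e⟩ := nonempty_equiv_sylow_PSU h S
  refine ⟨by rw [← card_uSub h]; exact (Nat.card_congr e.toEquiv).symm, ?_, suzuki_congr e (isSuzukiTwoGroup h hn)⟩
  exact ((Nat.card_congr (Subgroup.centerCongr e).toEquiv).symm).trans (card_center h)

end Cfsg.Agent.S1141
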