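import Cfsg.Statements.S1237
import Cfsg.Agent.TwoGroups.RankTwoFrame
import Cfsg.Agent.S1141
import Cfsg.Agent.S1137

set_option autoImplicit false
open Cfsg

namespace Cfsg.Agent.S1237

/-- Let T be a finite 2-group of 2-rank exactly 2 (it has a Klein four-subgroup but no elementary abelian subgroup of order 8) admitting an automorphism φ such that any two involutions of T are carried to one another by a power of φ. Then T ≅ Z_{2^n} × Z_{2^n} for some n ≥ 1, or T is isomorphic to a Sylow 2-subgroup of PSU(3) over the field with 16 elements. -/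
theorem result {T : Type*} [Group T] [Finite T] (hT : IsPGroup 2 T) (h2 : Cfsg.PRankLE 2 2 T) (h1 : ¬ Cfsg.PRankLE 2 1 T) (φ : MulAut T) (htrans : ∀ s t : T, orderOf s = 2 → orderOf t = 2 → ∃ k : ℕ, (φ ^ k) s = t) {F : Type*} [Field F] [Fintype F] (hF : Fintype.card F = 16) (P : Sylow 2 (Cfsg.PSU 3 F 4)) : (∃ n : ℕ, 1 ≤ n ∧ Nonempty (T ≃* Multiplicative (ZMod (2 ^ n) × ZMod (2 ^ n)))) ∨ Nonempty (T ≃* (P : Subgroup (Cfsg.PSU 3 F 4))) := by
  classical
  haveI : Fact (Nat.Prime 2) := ⟨Nat.prime_two⟩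
  have hord : ∀ x : T, x ≠ 1 → x * x = 1 → orderOf x = 2 := fun x h1 hx =>
    orderOf_eq_prime (by rw [pow_two, hx]) h1
  have htr : ∀ s t : T, s ≠ 1 → s * s = 1 → t ≠ 1 → t * t = 1 → ∃ k : ℕ, (φ ^ k) s = t :=
    fun s t a b c d => htrans s t (hord s a b) (hord t c d)
  have hcen : ∀ x : T, x * x = 1 → x ∈ Subgroup.center T := fun x hx =>
    CfsgLib.SuzukiTwoGroup.involution_mem_center (Subgroup.zpowers φ).subtype (fun s t a b c d => by
      obtain ⟨k, hk⟩ := htr s t a b c d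
      exact ⟨⟨φ ^ k, Subgroup.npow_mem_zpowers φ k⟩, hk⟩) hT hx
  let A : Subgroup T :=
    { carrier := {x | x * x = 1}
      one_mem' := one_mul 1
      mul_mem' := fun {a b} (ha : a * a = 1) (hb : b * b = 1) => by
        show a * b * (a * b) = 1
        rw [mul_assoc a b, ← mul_assoc b a b, Subgroup.mem_center_iff.1 (hcen a ha) b, mul_assoc a b b, hb,
          mul_one, ha]
      inv_mem' := fun {a} (ha : a * a = 1) => by
        show a⁻¹ * a⁻¹ = 1
        rw [← mul_inv_rev, ha, inv_one] }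
  have hAc : IsMulCommutative A :=
    ⟨⟨fun a b => Subtype.ext (Subgroup.mem_center_iff.1 (hcen b b.2) a)⟩⟩
  have hle : Nat.card A ≤ 4 := h2 A hAc fun a ha => by rw [pow_two]; exact ha
  have hgt : 2 < Nat.card A := by
    by_contra hnot
    refine h1 fun B _ hB => le_trans (Nat.card_le_card_of_injective (Subgroup.inclusion
      (fun b hb => ?_ : B ≤ A)) (Subgroup.inclusion_injective _)) (by omega)
    show b * b = 1
    rw [← pow_two]; exact hB b hb
  have h4 : Nat.card {x : T // x * x = 1} = 4 := by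
    show Nat.card A = 4
    obtain ⟨j, hj⟩ := (hT.to_subgroup A).exists_card_eq
    rw [hj] at hle hgt ⊢
    have h3 : j < 3 := (Nat.pow_lt_pow_iff_right (by norm_num : 1 < 2)).1 (by omega : 2 ^ j < 2 ^ 3)
    interval_cases j <;> simp_all
  obtain ⟨ψ, z, htri⟩ := CfsgLib.TwoGroups.RankTwoTransitive.exists_tri hT φ htr h4
  by_cases hab : ∀ x y : T, x * y = y * x
  · exact Or.inl (htri.homocyclic hab)
  refine Or.inr ?_
  obtain ⟨frT⟩ := CfsgLib.TwoGroups.RankTwoTransitive.nonempty_frame htri hab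
  obtain ⟨-, hPc, hSuz⟩ := Cfsg.Agent.S1141.result (n := 2) le_rfl (by rw [hF]; norm_num) P
  obtain ⟨hinv, hcsq⟩ := Cfsg.Agent.S1137.result hSuz
  obtain ⟨hfin, hP2, hna, -, K, hKc, hreg⟩ := hSuz
  haveI := hfin
  obtain ⟨κ, hκ⟩ := hKc.exists_generator
  have htrP : ∀ s t : (P : Subgroup (Cfsg.PSU 3 F 4)), s ≠ 1 → s * s = 1 → t ≠ 1 → t * t = 1 →
      ∃ k : ℕ, ((κ : MulAut (P : Subgroup (Cfsg.PSU 3 F 4))) ^ k) s = t := by
    intro s t a b c d
    obtain ⟨l, hl, -⟩ := hreg s t a b c d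
    obtain ⟨j, hj⟩ := (mem_powers_iff_mem_zpowers).2 (hκ l)
    exact ⟨j, by rw [← hl, ← hj, Subgroup.coe_pow]⟩
  have h4P : Nat.card {x : (P : Subgroup (Cfsg.PSU 3 F 4)) // x * x = 1} = 4 := by
    refine (Nat.card_congr (Equiv.subtypeEquivRight fun x => ⟨fun hx => ?_, hcsq x⟩)).trans hPc
    by_cases hx1 : x = 1
    · rw [hx1]; exact one_mem _
    · exact ((hinv x).1 ⟨hx1, hx⟩).1
  obtain ⟨ψP, zP, htriP⟩ := CfsgLib.TwoGroups.RankTwoTransitive.exists_tri hP2 _ htrP h4P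
  obtain ⟨frP⟩ := CfsgLib.TwoGroups.RankTwoTransitive.nonempty_frame htriP fun h => by
    obtain ⟨x, y, hxy⟩ := hna
    exact hxy (h x y)
  exact frT.nonempty_equiv frP

end Cfsg.Agent.S1237
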