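import Cfsg.Statements.S5214
import Cfsg.Agent.Fusion.NormalSubgroup
import Cfsg.Agent.Fusion.Alperin
import Cfsg.Agent.SuzukiTwoGroup.ClassTwo

set_option autoImplicit false
open Cfsg

namespace Cfsg.Agent.S5214

/-- Let S be a Suzuki 2-group (a finite nonabelian 2-group with more than one involution admitting a cyclic group of automorphisms permuting its involutions regularly). Then S is normal in every saturated fusion system over S (such a group is resistant). -/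
theorem result {Ω : Type*} [Group Ω] {S : Subgroup Ω} [Finite S] (hS : IsPGroup 2 S) (F : Cfsg.FusionSystem S) (hF : F.IsSaturated 2) (hsz : Cfsg.IsSuzukiTwoGroup ↥S) : F.IsNormal S := by
  haveI : Fact (Nat.Prime 2) := ⟨Nat.prime_two⟩
  obtain ⟨K, hK⟩ := CfsgLib.SuzukiTwoGroup.exists_setting hsz
  refine CfsgLib.Fusion.isNormal_of_stronglyClosed hS hF
    ⟨le_rfl, fun R _ φ hφ x => CfsgLib.Fusion.apply_mem hφ x⟩ fun E hE => ?_
  have hc := hE.1
  have hr := CfsgLib.Fusion.isRadical_of_essential hS hE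
  haveI := CfsgLib.Fusion.finite_of_le hc.1
  have hsq : ∀ x : E, (⟨x, hc.1 x.2⟩ : S) ∈ Subgroup.center S ↔ x * x = 1 := fun x => by
    refine ⟨fun h => Subtype.ext (congrArg Subtype.val (hK.center_sq _ h) :), fun h => ?_⟩
    exact hK.mem_center (Subtype.ext (congrArg (fun e : E => (e : Ω)) h))
  let L : ℕ → Subgroup E := fun i =>
    if i = 0 then ⊥ else (Subgroup.center S).comap (Subgroup.inclusion hc.1)
  have hinv : ∀ α ∈ F.autGroup E, ∀ (i : ℕ) (x : E), x ∈ L i → α x ∈ L i := by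
    intro α _ i x hx
    simp only [L] at hx ⊢
    split_ifs at hx ⊢
    · rw [Subgroup.mem_bot] at hx ⊢
      rw [hx, map_one]
    · refine (hsq (α x)).2 ?_
      rw [← map_mul, (hsq x).1 hx, map_one]
  let D := CfsgLib.Fusion.chainStabilizer (F.autGroup E) 1 L
    (fun i => by by_cases h : i = 0 <;> simp [L, h]) hinv
  refine CfsgLib.Fusion.le_of_forall_Inn hS hc le_rfl Subgroup.le_normalizer fun s hs hsN => ?_
  have hA : E.normalizerMonoidHom ⟨s, hsN⟩ ∈ F.autGroup E :=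
    CfsgLib.Fusion.autInducedBy_le_autGroup hc.1
      (CfsgLib.Fusion.mem_autInducedBy_iff.2 ⟨s, hs, hsN, fun _ => rfl⟩)
  refine CfsgLib.Fusion.mem_Inn_of_normal_pGroup hr (D := D)
    (CfsgLib.Fusion.chainStabilizer_normal _ _ _ _ _)
    (CfsgLib.Fusion.isPGroup_chainStabilizer (hS.to_le hc.1) _ _ _ (by simp [L]) _ _)
    (α := ⟨_, hA⟩) ⟨fun x => ?_, ?_⟩
  · show (⟨_, hc.1 (x⁻¹ * E.normalizerMonoidHom ⟨s, hsN⟩ x).2⟩ : S) ∈ Subgroup.center S
    have h1 := hK.commutator_mem_center (⟨x, hc.1 x.2⟩⁻¹ : S) ⟨s, hs⟩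
    convert h1 using 1
    apply Subtype.ext
    show (x : Ω)⁻¹ * (s * x * s⁻¹) = (x : Ω)⁻¹ * s * (x : Ω)⁻¹⁻¹ * s⁻¹
    simp [mul_assoc]
  · intro i hi x hx
    obtain rfl : i = 0 := by omega
    have hx' : (⟨x, hc.1 x.2⟩ : S) ∈ Subgroup.center S := hx
    have h1 : s * (x : Ω) = x * s :=
      congrArg Subtype.val (Subgroup.mem_center_iff.1 hx' ⟨s, hs⟩)
    show x⁻¹ * E.normalizerMonoidHom ⟨s, hsN⟩ x ∈ (⊥ : Subgroup E)
    rw [Subgroup.mem_bot, inv_mul_eq_one]
    exact Subtype.ext (eq_mul_inv_iff_mul_eq.2 h1.symm)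

end Cfsg.Agent.S5214
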