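import Cfsg.Statements.S4172
import Cfsg.Agent.S0081
import Cfsg.Agent.Balance.Core
import Cfsg.Agent.Components.FStar
import Cfsg.Agent.Solvable.Frattini
import Cfsg.Agent.Solvable.Gaschutz
import Cfsg.Agent.MinNormal.Factors
import Cfsg.Agent.Transfer.Residual
import Mathlib.GroupTheory.Transfer

set_option autoImplicit false
open Cfsg

namespace Cfsg.Agent.S4172

open Subgroup
open CfsgLib
open scoped commutatorElement

variable {G : Type*} [Group G]

/-- An isomorphism carries the Frattini subgroup into the Frattini subgroup. -/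
theorem frattini_map {A B : Type*} [Group A] [Finite A] [Group B] [Finite B] (e : A ≃* B) {x : A}
    (hx : x ∈ frattini A) : e x ∈ frattini B := by
  rw [Solvable.mem_frattini_iff] at hx ⊢
  intro M hM
  have hco : IsCoatom ((MulEquiv.mapSubgroup e).symm M) :=
    (MulEquiv.mapSubgroup e).symm.isCoatom_iff M |>.mpr hM
  have := hx _ hco
  obtain ⟨z, hz, hze⟩ := (by simpa using this : ∃ z ∈ M, e.symm z = x)
  rwa [← hze, MulEquiv.apply_symm_apply]

/-- The normal subgroup generated by a second element. -/
theorem exists_gen {R : Type*} [Group R] [Finite R] {p : ℕ} [hp : Fact p.Prime]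
    (hΦ : (frattini R).index = p ^ 2) {S : Subgroup R} (hS : ¬ S ≤ frattini R) :
    ∃ y : R, S ⊔ zpowers y = ⊤ := by
  by_cases htop : S ⊔ frattini R = ⊤
  · exact ⟨1, by rw [Solvable.eq_top_of_sup_frattini htop, top_sup_eq]⟩
  obtain ⟨y, hy⟩ : ∃ y : R, y ∉ S ⊔ frattini R := by
    by_contra h; push Not at h; exact htop ((eq_top_iff' _).mpr h)
  refine ⟨y, Solvable.eq_top_of_sup_frattini ?_⟩
  set H := S ⊔ frattini R
  set H' := S ⊔ zpowers y ⊔ frattini R
  have hle : H ≤ H' := sup_le (le_sup_left.trans le_sup_left) le_sup_right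
  have hd1 : H.index ∣ p ^ 2 := hΦ ▸ index_dvd_of_le le_sup_right
  obtain ⟨i, hi, hi'⟩ := (Nat.dvd_prime_pow hp.out).mp hd1
  have hi1 : i ≤ 1 := by
    by_contra h
    have h2 : i = 2 := by omega
    apply hS
    have e : (frattini R).relIndex H = 1 := by
      have := relIndex_mul_index (le_sup_right : frattini R ≤ H)
      rw [hΦ, hi', h2] at this
      exact Nat.eq_of_mul_eq_mul_right (pow_pos hp.out.pos 2) (by rw [one_mul]; exact this)
    exact le_sup_left.trans (relIndex_eq_one.mp e)
  have hne : H.relIndex H' ≠ 1 := fun e => hy (relIndex_eq_one.mp e (mem_sup_left (mem_sup_right (mem_zpowers y))))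
  have hm := relIndex_mul_index hle
  rw [← index_eq_one]
  have hd : H.relIndex H' ∣ p := by
    refine (Dvd.intro _ hm).trans ?_
    rw [hi']
    exact (pow_dvd_pow p hi1).trans (pow_one p).dvd
  rcases (Nat.dvd_prime hp.out).mp hd with e | e
  · exact absurd e hne
  · rw [e, hi'] at hm
    have h1 : p * H'.index ∣ p * 1 := by rw [hm, mul_one]; exact (pow_dvd_pow p hi1).trans (pow_one p).dvd
    exact Nat.dvd_one.mp ((Nat.mul_dvd_mul_iff_left hp.out.pos).mp h1)

variable [Finite G] {p : ℕ} [Fact p.Prime] (P : Sylow p G)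

/-- The Frattini subgroup of the Sylow subgroup, inside `G`. -/
def phi : Subgroup G := (frattini ↥(P : Subgroup G)).map (P : Subgroup G).subtype

variable (hgen : (frattini ↥(P : Subgroup G)).index = p ^ 2)

include hgen in
theorem exists_gen_inf {X : Subgroup G} (hX : ¬ X ⊓ (P : Subgroup G) ≤ phi P) :
    ∃ y ∈ (P : Subgroup G), (P : Subgroup G) ≤ (X ⊓ (P : Subgroup G)) ⊔ zpowers y := by
  obtain ⟨y, hy⟩ := exists_gen hgen (S := X.subgroupOf (P : Subgroup G)) (fun h => hX fun x hx =>
    ⟨⟨x, hx.2⟩, h (mem_subgroupOf.mpr hx.1), rfl⟩)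
  refine ⟨y, y.2, ?_⟩
  have := congrArg (Subgroup.map (P : Subgroup G).subtype) hy
  rw [Subgroup.map_sup, subgroupOf_map_subtype, MonoidHom.map_zpowers, ← MonoidHom.range_eq_map,
    range_subtype] at this
  exact this.ge

include hgen in
theorem commutator_mem_of_not_le {X : Subgroup G} (hXn : (P : Subgroup G) ≤ normalizer (X : Set G))
    (hX : ¬ X ⊓ (P : Subgroup G) ≤ phi P) :
    ∀ a ∈ (P : Subgroup G), ∀ b ∈ (P : Subgroup G), ⁅a, b⁆ ∈ X := by
  haveI : (X.subgroupOf (P : Subgroup G)).Normal := normal_subgroupOf_of_le_normalizer hXn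
  obtain ⟨y, hy⟩ := exists_gen hgen (S := X.subgroupOf (P : Subgroup G)) (fun h => hX fun x hx =>
    ⟨⟨x, hx.2⟩, h (mem_subgroupOf.mpr hx.1), rfl⟩)
  set f := QuotientGroup.mk' (X.subgroupOf (P : Subgroup G))
  have hall : ∀ q, f q ∈ zpowers (f y) := by
    intro q
    have h1 : q ∈ X.subgroupOf (P : Subgroup G) ⊔ zpowers y := hy ▸ mem_top q
    have h2 := mem_map_of_mem f h1
    rwa [Subgroup.map_sup, MonoidHom.map_zpowers,
      show (X.subgroupOf (P : Subgroup G)).map f = ⊥ from QuotientGroup.map_mk'_self _, bot_sup_eq] at h2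
  intro a ha b hb
  obtain ⟨i, hi⟩ := mem_zpowers_iff.mp (hall ⟨a, ha⟩)
  obtain ⟨j, hj⟩ := mem_zpowers_iff.mp (hall ⟨b, hb⟩)
  have : f ⁅(⟨a, ha⟩ : (P : Subgroup G)), ⟨b, hb⟩⁆ = 1 := by
    rw [map_commutatorElement, ← hi, ← hj, commutatorElement_eq_one_iff_mul_comm]
    exact (zpow_mul_comm _ _ _)
  exact mem_subgroupOf.mp ((QuotientGroup.eq_one_iff _).mp this)

variable (hcore : Cfsg.pPrimeCore p G = ⊥) (hfrat : (phi P).normalCore = ⊥)

include hcore hfrat in
/-- A non-trivial normal subgroup meets `P` outside its Frattini subgroup. -/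
theorem not_le_phi {N : Subgroup G} [N.Normal] (hN : N ≠ ⊥) : ¬ N ⊓ (P : Subgroup G) ≤ phi P := by
  intro h
  have hnpc := Cfsg.Agent.S0081.result P N h
  have hres : Cfsg.pResidual p N = ⊥ := by
    rw [← Subgroup.map_eq_bot_iff_of_injective _ N.subtype_injective, eq_bot_iff, ← hcore]
    haveI : (Cfsg.pResidual p N).Characteristic := inferInstance
    refine PLocal.le_pPrimeCore ?_
    rw [Subgroup.card_map_of_injective N.subtype_injective]
    exact PLocal.not_dvd_iff_coprime.mpr (Transfer.hasNormalPComplement_iff.mp hnpc)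
  have hNp : IsPGroup p N := by
    have h1 := Transfer.isPGroup_quotient_pResidual (p := p) (G := N)
    exact h1.of_equiv ((QuotientGroup.quotientMulEquivOfEq hres).trans QuotientGroup.quotientBot)
  have hNP : N ≤ (P : Subgroup G) := hNp.le_sylow_of_normal P
  exact hN (eq_bot_iff.mpr (hfrat ▸ normal_le_normalCore.mpr ((le_inf le_rfl hNP).trans h)))

include hgen hcore hfrat in
theorem eq_bot_or_eq_bot (hna : ¬ IsMulCommutative (P : Subgroup G)) {K L : Subgroup G}
    [K.Normal] [L.Normal] (h : K ⊓ L = ⊥) : K = ⊥ ∨ L = ⊥ := by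
  by_contra hne
  rw [not_or] at hne
  refine hna ⟨⟨fun a b => Subtype.ext ?_⟩⟩
  have h1 := commutator_mem_of_not_le P hgen le_normalizer_of_normal
    (not_le_phi P hcore hfrat hne.1) a a.2 b b.2
  have h2 := commutator_mem_of_not_le P hgen le_normalizer_of_normal
    (not_le_phi P hcore hfrat hne.2) a a.2 b b.2
  have h3 : ⁅(a : G), (b : G)⁆ ∈ K ⊓ L := ⟨h1, h2⟩
  rw [h, Subgroup.mem_bot, commutatorElement_eq_one_iff_mul_comm] at h3
  exact h3

/-- A central element of `E` lying in `E'` and in `P` lies in the derived subgroup of `P`. -/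
theorem central_derived_mem {E : Subgroup G} [E.Normal] {z : G} (hzP : z ∈ (P : Subgroup G))
    (hzE : z ∈ ⁅E, E⁆) (hzC : z ∈ centralizer (E : Set G)) :
    z ∈ ⁅(P : Subgroup G), (P : Subgroup G)⁆ := by
  have hzE' : z ∈ E := commutator_le_self E hzE
  set H := (P : Subgroup G).subgroupOf E with hH
  have hidx : ¬ p ∣ H.index := Transfer.not_dvd_relIndex_of_normal P E
  let ze : E := ⟨z, hzE'⟩
  have hcen : ∀ g : E, g⁻¹ * ze * g = ze := fun g => Subtype.ext (by
    have := mem_centralizer_iff.mp hzC g g.2
    show (g : G)⁻¹ * z * g = z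
    rw [mul_assoc, ← this, inv_mul_cancel_left])
  have key : ∀ (k : ℕ) (g₀ : E), g₀⁻¹ * ze ^ k * g₀ ∈ H → g₀⁻¹ * ze ^ k * g₀ = ze ^ k := by
    intro k g₀ _
    have := (conj_pow (i := k) (a := g₀⁻¹) (b := ze)).symm
    rw [inv_inv, hcen] at this
    exact this
  have htr := MonoidHom.transfer_eq_pow (Abelianization.of (G := H)) ze key
  have h1 : MonoidHom.transfer (Abelianization.of (G := H)) ze = 1 := by
    have hc : ze ∈ commutator E := by
      rw [← map_subtype_commutator] at hzE
      obtain ⟨w, hw, hwe⟩ := hzE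
      exact (Subtype.ext hwe : w = ze) ▸ hw
    exact Abelianization.commutator_subset_ker _ hc
  rw [h1] at htr
  have hm : (⟨ze ^ H.index, MonoidHom.transfer_eq_pow_aux ze key⟩ : H) ∈ commutator H :=
    (QuotientGroup.eq_one_iff _).mp htr.symm
  have hzH : ze ∈ H := mem_subgroupOf.mpr hzP
  let zH : H := ⟨ze, hzH⟩
  have hzm : zH ^ H.index ∈ commutator H := by
    rwa [show zH ^ H.index = (⟨ze ^ H.index, MonoidHom.transfer_eq_pow_aux ze key⟩ : H) from rfl]
  have hzc : zH ∈ commutator H := by
    obtain ⟨k, hk⟩ := IsPGroup.iff_orderOf.mp P.isPGroup' ⟨z, hzP⟩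
    rw [Subgroup.orderOf_mk] at hk
    have hord : orderOf zH = p ^ k := by
      rw [Subgroup.orderOf_mk, Subgroup.orderOf_mk, hk]
    obtain ⟨m, hm'⟩ := exists_pow_eq_self_of_coprime (x := zH) (n := H.index)
      (by rw [hord]; exact (Nat.Coprime.pow_right k ((Fact.out : p.Prime).coprime_iff_not_dvd.mpr hidx).symm))
    rw [← hm']
    exact pow_mem hzm m
  have := mem_map_of_mem (E.subtype.comp H.subtype) hzc
  rw [_root_.commutator_def, map_commutator] at this
  refine commutator_mono ?_ ?_ this <;>
    · rintro _ ⟨w, -, rfl⟩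
      exact mem_subgroupOf.mp w.2

/-- A perfect subgroup normalised by `P` and by a normal subgroup containing it, meeting `P` in
the Frattini subgroup, has order prime to `p`. -/
theorem not_dvd_card_of_perfect {E X : Subgroup G} [E.Normal] (hXE : X ≤ E)
    (hEX : E ≤ normalizer (X : Set G)) (hPX : (P : Subgroup G) ≤ normalizer (X : Set G))
    (hperf : ⁅X, X⁆ = X) (h : X ⊓ (P : Subgroup G) ≤ phi P) : ¬ p ∣ Nat.card X := by
  set L := (P : Subgroup G) ⊔ E with hL
  have hPL : (P : Subgroup G) ≤ L := le_sup_left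
  have hXL : X ≤ L := hXE.trans le_sup_right
  haveI : (X.subgroupOf L).Normal := normal_subgroupOf_of_le_normalizer (sup_le hPX hEX)
  have hnpc := Cfsg.Agent.S0081.result (P.subtype hPL) (X.subgroupOf L) (by
    intro x hx
    obtain ⟨hxX, hxP⟩ := hx
    simp only [Sylow.coe_subtype] at hxP
    obtain ⟨w, hw, hwe⟩ := h ⟨mem_subgroupOf.mp hxX, mem_subgroupOf.mp hxP⟩
    refine ⟨(subgroupOfEquivOfLe hPL).symm w, frattini_map _ hw, ?_⟩
    exact Subtype.ext hwe)
  have hnd := Transfer.hasNormalPComplement_iff.mp hnpc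
  have hperf' : ⁅X.subgroupOf L, X.subgroupOf L⁆ = X.subgroupOf L := by
    apply Subgroup.map_injective L.subtype_injective
    rw [map_commutator, map_subgroupOf_eq_of_le hXL, hperf]
  have htop : Cfsg.pResidual p (X.subgroupOf L) = ⊤ := by
    rw [eq_top_iff]
    intro x _
    have h1 := Balance.perfect_le_closure_coprime (p := p) hperf' x.2
    have h2 : (x : L) ∈ (Cfsg.pResidual p (X.subgroupOf L)).map (X.subgroupOf L).subtype := by
      refine (closure_le _).mpr ?_ h1
      rintro y ⟨hy, hyo⟩
      refine ⟨⟨y, hy⟩, subset_closure ?_, rfl⟩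
      rw [Set.mem_setOf_eq, Subgroup.orderOf_mk]
      exact hyo
    obtain ⟨x', hx', e⟩ := h2
    rwa [← Subtype.ext e]
  rw [htop, card_top, Nat.card_congr (subgroupOfEquivOfLe hXL).toEquiv] at hnd
  exact hnd

omit [Fact p.Prime] in
theorem sSup_perfect {S : Set (Subgroup G)} (hS : ∀ K ∈ S, Cfsg.IsComponent K) :
    ⁅sSup S, sSup S⁆ = sSup S := by
  refine le_antisymm (commutator_le_self _) (sSup_le fun K hK => ?_)
  conv_lhs => rw [← Components.IsComponent.commutator_eq_self (hS K hK)]
  exact commutator_mono (le_sSup hK) (le_sSup hK)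

include hcore in
theorem dvd_card_component {K : Subgroup G} (hK : Cfsg.IsComponent K) : p ∣ Nat.card K := by
  by_contra h
  apply Components.IsComponent.ne_bot hK
  have htop : Cfsg.pPrimeCore p K = ⊤ := top_le_iff.mp
    (PLocal.le_pPrimeCore (by rw [card_top]; exact PLocal.not_dvd_iff_coprime.mpr h))
  have := Components.map_subtype_pPrimeCore_eq (p := p) hK.1
  rwa [htop, hcore, inf_bot_eq, ← MonoidHom.range_eq_map, range_subtype] at this

/-- Let p be a prime and G a finite group with a non-commutative Sylow p-subgroup P whose Frattini subgroup has index p² in P (P is generated by two elements). Suppose G has no nontrivial normal subgroup of order prime to p and the Frattini subgroup of P contains no nontrivial normal subgroup of G. Then the generalized Fitting subgroup F*(G) is the unique minimal normal subgroup of G, the image of P in G/F*(G) is cyclic, and if F*(G) is not commutative then P permutes the components of G transitively by conjugation. -/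
theorem result {G : Type*} [Group G] [Finite G] (p : ℕ) [Fact p.Prime] (P : Sylow p G) (hna : ¬ IsMulCommutative (P : Subgroup G)) (hgen : (frattini ↥(P : Subgroup G)).index = p ^ 2) (hcore : Cfsg.pPrimeCore p G = ⊥) (hfrat : ((frattini ↥(P : Subgroup G)).map (P : Subgroup G).subtype).normalCore = ⊥) [hFn : (Cfsg.generalizedFittingSubgroup G).Normal] :
    (Cfsg.generalizedFittingSubgroup G ≠ ⊥ ∧ ∀ K : Subgroup G, K.Normal → K ≠ ⊥ → Cfsg.generalizedFittingSubgroup G ≤ K) ∧
      IsCyclic ↥((P : Subgroup G).map (QuotientGroup.mk' (Cfsg.generalizedFittingSubgroup G))) ∧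
      (¬ IsMulCommutative (Cfsg.generalizedFittingSubgroup G) → ∀ K L : Subgroup G, Cfsg.IsComponent K → Cfsg.IsComponent L → ∃ x ∈ (P : Subgroup G), L = K.map (MulAut.conj x).toMonoidHom) := by
  classical
  have hfrat' : (phi P).normalCore = ⊥ := hfrat
  haveI hGnt : Nontrivial G := by
    rw [← not_subsingleton_iff_nontrivial]
    intro hs
    exact hna ⟨⟨fun a b => Subsingleton.elim _ _⟩⟩
  obtain ⟨N, hN, -⟩ := MinNormal.exists_isMinNormal_le (⊤ : Subgroup G) top_ne_bot
  haveI := hN.normal
  have huniq : ∀ K : Subgroup G, K.Normal → K ≠ ⊥ → N ≤ K := by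
    intro K hK hK1
    rcases hN.minimal (N ⊓ K) inferInstance inf_le_left with h | h
    · rcases eq_bot_or_eq_bot P hgen hcore hfrat' hna h with h' | h'
      · exact absurd h' hN.ne_bot
      · exact absurd h' hK1
    · exact inf_eq_left.mp h
  set F := Cfsg.fittingSubgroup G with hFdef
  set E := Cfsg.layer G with hEdef
  haveI hFnorm : F.Normal := Components.fittingSubgroup_normal
  have hFS : Cfsg.generalizedFittingSubgroup G = N := by
    show E ⊔ F = N
    by_cases hc : IsMulCommutative N
    · -- abelian case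
      haveI := hc
      have hNnil : Group.IsNilpotent N := by open scoped IsMulCommutative in infer_instance
      have hNF : N ≤ F := Components.le_fittingSubgroup hNnil
      have hFR : F = Cfsg.pCore p G := Balance.fittingSubgroup_eq_pCore hcore
      set R := Cfsg.pCore p G with hR
      have hRP : R ≤ (P : Subgroup G) := PLocal.pCore_le_sylow P
      haveI : R.Normal := hFR ▸ hFnorm
      have hRΦ : frattini R = ⊥ := by
        rw [← Subgroup.map_eq_bot_iff_of_injective _ R.subtype_injective, eq_bot_iff, ← hfrat']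
        refine normal_le_normalCore.mpr ?_
        have hle : frattini R ≤ (phi P).subgroupOf R := by
          refine Solvable.frattini_le_of_elementary (p := p) ?_ ?_
          · rw [_root_.commutator_def, Subgroup.commutator_le]
            intro a _ b _
            exact ⟨⁅(⟨a, hRP a.2⟩ : (P : Subgroup G)), ⟨b, hRP b.2⟩⁆,
              Solvable.commutator_le_frattini P.isPGroup' (commutator_mem_commutator (mem_top _) (mem_top _)), rfl⟩
          · intro a
            exact ⟨(⟨a, hRP a.2⟩ : (P : Subgroup G)) ^ p, Solvable.pow_mem_frattini P.isPGroup' _, rfl⟩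
        rintro _ ⟨a, ha, rfl⟩
        exact hle ha
      have hRp : IsPGroup p R := PLocal.isPGroup_pCore p G
      have hRcomm : ∀ a ∈ R, ∀ b ∈ R, a * b = b * a := by
        intro a ha b hb
        have h1 := Solvable.commutator_le_frattini hRp
          (commutator_mem_commutator (mem_top ⟨a, ha⟩) (mem_top (⟨b, hb⟩ : R)))
        rw [hRΦ, Subgroup.mem_bot, commutatorElement_eq_one_iff_mul_comm] at h1
        exact congrArg Subtype.val h1
      have hRexp : ∀ a ∈ R, a ^ p = 1 := by
        intro a ha
        have h1 := Solvable.pow_mem_frattini hRp (⟨a, ha⟩ : R)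
        rw [hRΦ, Subgroup.mem_bot] at h1
        exact congrArg Subtype.val h1
      -- no components
      have hE : E = ⊥ := by
        by_contra hE
        have hNE : N ≤ E := huniq E inferInstance hE
        refine not_le_phi P hcore hfrat' hN.ne_bot fun z hz => ?_
        have h1 : z ∈ ⁅(P : Subgroup G), (P : Subgroup G)⁆ := by
          refine central_derived_mem P (E := E) hz.2 ?_ ?_
          · rw [hEdef, Components.layer_commutator_self]; exact hNE hz.1
          · rw [mem_centralizer_iff]
            intro g hg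
            exact ((mem_centralizer_iff.mp (Components.layer_le_centralizer_fittingSubgroup hg)) z
              (hNF hz.1)).symm
        rw [← map_subtype_commutator] at h1
        exact map_mono (Solvable.commutator_le_frattini P.isPGroup') h1
      rw [hE, bot_sup_eq, hFR]
      have hNR : N ≤ R := hFR ▸ hNF
      refine le_antisymm ?_ hNR
      obtain ⟨y, hyP, hy⟩ := exists_gen_inf P hgen (not_le_phi P hcore hfrat' hN.ne_bot)
      rw [inf_eq_left.mpr (hNR.trans hRP)] at hy
      set A := zpowers y
      -- elements of `R` in `A` are few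
      have hRA : R ≤ N ⊔ (R ⊓ A) := by
        intro r hr
        have h1 : r ∈ ((N ⊔ A : Subgroup G) : Set G) := hy (hRP hr)
        rw [Subgroup.normal_mul] at h1
        obtain ⟨n, hn, a, ha, rfl⟩ := h1
        refine mul_mem_sup hn ⟨?_, ha⟩
        have := R.mul_mem (R.inv_mem (hNR hn)) hr
        rwa [inv_mul_cancel_left] at this
      by_cases hAN : A ⊓ N = ⊥
      · have hPsup : N ⊔ A = (P : Subgroup G) :=
          le_antisymm (sup_le (hNR.trans hRP) (zpowers_le.mpr hyP)) hy
        have hcopN : (Nat.card N).Coprime (P : Subgroup G).index := by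
          obtain ⟨j, hj⟩ := IsPGroup.iff_card.mp (hRp.to_le hNR)
          rw [hj]
          exact ((Fact.out : p.Prime).coprime_iff_not_dvd.mpr P.not_dvd_index).pow_left j
        obtain ⟨H, hH⟩ := Solvable.exists_complement_of_gaschutz (K := N) (hNR.trans hRP) hcopN hAN hPsup
        have hRH : (R ⊓ H).Normal := by
          refine ⟨fun x hx g => ?_⟩
          obtain ⟨⟨⟨n, hn⟩, ⟨h, hh⟩⟩, rfl⟩ := hH.2 g
          have hx' : h * x * h⁻¹ ∈ R ⊓ H :=
            ⟨‹R.Normal›.conj_mem x hx.1 h, H.mul_mem (H.mul_mem hh hx.2) (H.inv_mem hh)⟩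
          show n * h * x * (n * h)⁻¹ ∈ R ⊓ H
          rw [show n * h * x * (n * h)⁻¹ = n * (h * x * h⁻¹) * n⁻¹ by group,
            hRcomm n (hNR hn) _ hx'.1, mul_inv_cancel_right]
          exact hx'
        have hRH1 : R ⊓ H = ⊥ := by
          by_contra hne
          apply hN.ne_bot
          rw [eq_bot_iff, ← hH.disjoint.eq_bot]
          exact le_inf le_rfl ((huniq _ hRH hne).trans inf_le_right)
        intro r hr
        obtain ⟨⟨⟨n, hn⟩, ⟨h, hh⟩⟩, rfl⟩ := hH.2 r
        have hhR : h ∈ R ⊓ H := ⟨by
          have := R.mul_mem (R.inv_mem (hNR hn)) hr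
          rwa [inv_mul_cancel_left] at this, hh⟩
        rw [hRH1, Subgroup.mem_bot] at hhR
        show n * h ∈ N
        rw [hhR, mul_one]; exact hn
      · refine hRA.trans (sup_le le_rfl ?_)
        -- `R ⊓ A` has order at most `p`
        have hcyc : IsCyclic ↥(R ⊓ A) := isCyclic_of_injective (Subgroup.inclusion (inf_le_right : R ⊓ A ≤ A))
          (inclusion_injective _)
        have hcard : Nat.card ↥(R ⊓ A) ∣ p := by
          obtain ⟨g, hg⟩ := hcyc.exists_generator
          rw [← orderOf_eq_card_of_forall_mem_zpowers hg]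
          exact orderOf_dvd_of_pow_eq_one (Subtype.ext (hRexp _ g.2.1))
        have hle : A ⊓ N ≤ R ⊓ A := le_inf (inf_le_right.trans hNR) inf_le_left
        have hge : p ≤ Nat.card ↥(A ⊓ N) := by
          rcases ((hRp.to_le (hle.trans inf_le_left)).card_eq_or_dvd) with h | h
          · exact absurd (Subgroup.card_eq_one.mp h) hAN
          · exact Nat.le_of_dvd Nat.card_pos h
        rw [← eq_of_le_of_card_ge hle ((Nat.le_of_dvd (Fact.out : p.Prime).pos hcard).trans hge)]
        exact inf_le_right
    · -- non-abelian case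
      have hCN : centralizer (N : Set G) = ⊥ := by
        by_contra hne
        have := huniq _ normal_centralizer hne
        exact hc ⟨⟨fun a b => Subtype.ext ((mem_centralizer_iff.mp (this b.2)) a a.2)⟩⟩
      have hF : F = ⊥ := by
        by_contra hne
        have hNF := huniq F hFnorm hne
        haveI : Group.IsNilpotent F := Solvable.fittingSubgroup_isNilpotent
        -- the derived subgroup of `N` is trivial
        rcases hN.minimal ⁅N, N⁆ inferInstance (commutator_le_self N) with h | h
        · exact hc ⟨⟨fun a b => Subtype.ext (commutatorElement_eq_one_iff_mul_comm.mp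
            (Subgroup.mem_bot.mp (h ▸ commutator_mem_commutator a.2 b.2)))⟩⟩
        · apply hN.ne_bot
          have h0 : N.subgroupOf F = ⊥ := by
            refine Transfer.eq_bot_of_le_commutator_top ?_
            rw [← map_subtype_le_map_subtype, map_commutator, map_subgroupOf_eq_of_le hNF,
              ← MonoidHom.range_eq_map, range_subtype]
            exact h.ge.trans (commutator_mono le_rfl hNF)
          rw [← map_subgroupOf_eq_of_le hNF, h0, Subgroup.map_bot]
      rw [hF, sup_bot_eq]
      refine le_antisymm (sSup_le fun K hK => ?_) (huniq E inferInstance fun hE => ?_)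
      · refine (Components.IsComponent.le_or_commutator_eq_bot_of_normal hK N).resolve_right fun h => ?_
        rw [commutator_eq_bot_iff_le_centralizer, hCN, le_bot_iff] at h
        exact Components.IsComponent.ne_bot hK h
      · have h1 := Components.centralizer_generalizedFitting_le (G := G)
        have h2 : Cfsg.generalizedFittingSubgroup G = ⊥ := by
          show E ⊔ F = ⊥
          rw [hE, hF, bot_sup_eq]
        rw [h2, show Cfsg.fittingSubgroup G = ⊥ from hF] at h1
        exact top_ne_bot (le_bot_iff.mp (le_trans (fun x _ => by rw [mem_centralizer_iff]; simp) h1))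
  refine ⟨⟨hFS ▸ hN.ne_bot, fun K hK hK1 => hFS ▸ huniq K hK hK1⟩, ?_, ?_⟩
  · obtain ⟨y, hyP, hy⟩ := exists_gen_inf P hgen (not_le_phi P hcore hfrat' hN.ne_bot)
    set f := QuotientGroup.mk' (Cfsg.generalizedFittingSubgroup G) with hf
    have : (P : Subgroup G).map f = zpowers (f y) := by
      refine le_antisymm ((map_mono hy).trans ?_) (by rw [← MonoidHom.map_zpowers]; exact map_mono (zpowers_le.mpr hyP))
      rw [Subgroup.map_sup, MonoidHom.map_zpowers]
      refine sup_le ?_ le_rfl
      refine le_of_eq_of_le ?_ bot_le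
      rw [Subgroup.map_eq_bot_iff, hf, QuotientGroup.ker_mk', hFS]
      exact inf_le_left
    rw [this]
    infer_instance
  · intro hnc K L hK hL
    rw [hFS] at hnc
    have hEN : E ≤ N := hFS ▸ le_sup_left
    have hNE : N ≤ E := huniq E inferInstance fun hE =>
      Components.IsComponent.ne_bot hK (Components.layer_eq_bot_iff.mp hE K hK).elim
    have hCN : centralizer (N : Set G) = ⊥ := by
      by_contra hne
      have := huniq _ normal_centralizer hne
      exact hnc ⟨⟨fun a b => Subtype.ext ((mem_centralizer_iff.mp (this b.2)) a a.2)⟩⟩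
    set S : Set (Subgroup G) :=
      {K' | ∃ x ∈ (P : Subgroup G), K' = K.map (MulAut.conj x).toMonoidHom} with hSdef
    by_contra hLS
    set T : Set (Subgroup G) := {K' | Cfsg.IsComponent K' ∧ K' ∉ S} with hTdef
    have hSc : ∀ K' ∈ S, Cfsg.IsComponent K' := by
      rintro _ ⟨x, -, rfl⟩
      exact Components.IsComponent.conj hK x
    have hTc : ∀ K' ∈ T, Cfsg.IsComponent K' := fun K' h => h.1
    have hKS : K ∈ S := ⟨1, one_mem _, by ext; simp⟩
    have hLT : L ∈ T := ⟨hL, fun ⟨x, hx, e⟩ => hLS ⟨x, hx, e⟩⟩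
    have hconj : ∀ x ∈ (P : Subgroup G), ∀ K' ∈ S, K'.map (MulAut.conj x).toMonoidHom ∈ S := by
      rintro x hx _ ⟨w, hw, rfl⟩
      refine ⟨x * w, mul_mem hx hw, ?_⟩
      rw [Subgroup.map_map]
      congr 1
      ext g
      simp [mul_assoc]
    have hPnorm : ∀ U : Set (Subgroup G), (∀ x ∈ (P : Subgroup G), ∀ K' ∈ U, K'.map (MulAut.conj x).toMonoidHom ∈ U) →
        (P : Subgroup G) ≤ normalizer ((sSup U : Subgroup G) : Set G) := by
      intro U hU x hx
      have hstep : ∀ w ∈ (P : Subgroup G), ∀ g ∈ sSup U, w * g * w⁻¹ ∈ sSup U := by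
        intro w hw g hg
        have : sSup U ≤ (sSup U).comap (MulAut.conj w).toMonoidHom :=
          sSup_le fun K' hK' => map_le_iff_le_comap.mp (le_sSup (hU w hw K' hK'))
        simpa using this hg
      rw [mem_normalizer_iff]
      refine fun g => ⟨hstep x hx g, fun hg => ?_⟩
      have := hstep x⁻¹ (inv_mem hx) _ hg
      rwa [show x⁻¹ * (x * g * x⁻¹) * x⁻¹⁻¹ = g by group] at this
    have hTconj : ∀ x ∈ (P : Subgroup G), ∀ K' ∈ T, K'.map (MulAut.conj x).toMonoidHom ∈ T := by
      rintro x hx K' ⟨hc', hn⟩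
      refine ⟨Components.IsComponent.conj hc' x, fun h => hn ?_⟩
      have h2 := hconj x⁻¹ (inv_mem hx) _ h
      rwa [Subgroup.map_map, show (MulAut.conj x⁻¹).toMonoidHom.comp (MulAut.conj x).toMonoidHom = MonoidHom.id G by
        ext g; simp [mul_assoc], Subgroup.map_id] at h2
    have hSn := hPnorm S hconj
    have hTn := hPnorm T hTconj
    have hsmall : ∀ U : Set (Subgroup G), (∀ K' ∈ U, Cfsg.IsComponent K') → U.Nonempty →
        (P : Subgroup G) ≤ normalizer ((sSup U : Subgroup G) : Set G) →
        ¬ sSup U ⊓ (P : Subgroup G) ≤ phi P := by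
      rintro U hU ⟨K', hK'⟩ hUn h
      exact not_dvd_card_of_perfect P (E := E) (sSup_le fun A hA => Components.IsComponent.le_layer (hU A hA))
        (Components.layer_le_normalizer_sSup hU) hUn (sSup_perfect hU) h
        ((dvd_card_component hcore (hU K' hK')).trans (card_dvd_of_le (le_sSup hK')))
    refine hna ⟨⟨fun a b => Subtype.ext ?_⟩⟩
    have h1 := commutator_mem_of_not_le P hgen hSn (hsmall S hSc ⟨K, hKS⟩ hSn) a a.2 b b.2
    have h2 := commutator_mem_of_not_le P hgen hTn (hsmall T hTc ⟨L, hLT⟩ hTn) a a.2 b b.2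
    set z := ⁅(a : G), (b : G)⁆
    have hz : z ∈ centralizer (N : Set G) := by
      have hEz : E ≤ centralizer ({z} : Set G) := by
        refine sSup_le fun K' hK' => ?_
        intro g hg
        rw [mem_centralizer_singleton_iff]
        by_cases hKS' : K' ∈ S
        · have hnT : K' ∉ T := fun h => h.2 hKS'
          exact mem_centralizer_iff.mp (Components.sSup_le_centralizer_of_notMem hTc hK' hnT h2) g hg
        · exact mem_centralizer_iff.mp (Components.sSup_le_centralizer_of_notMem hSc hK' hKS' h1) g hg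
      rw [mem_centralizer_iff]
      intro g hg
      exact mem_centralizer_singleton_iff.mp (hEz (hNE hg))
    rw [hCN, Subgroup.mem_bot] at hz
    exact commutatorElement_eq_one_iff_mul_comm.mp hz

end Cfsg.Agent.S4172
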