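import Cfsg.Statements.S2038
import Cfsg.Agent.Schur.MathieuMult
import Cfsg.Agent.Schur.M24Data
import Cfsg.Agent.Schur.M24Check.Tables
-- import your own Cfsg.Agent.* helpers here

set_option autoImplicit false
open Cfsg

namespace Cfsg.Agent.S2038

open CfsgLib.Schur CfsgLib.Schur.Pc CfsgLib.Schur.M24Data CfsgLib.Mathieu in
/-- The Schur multiplier of the Mathieu group M₂₄ (the automorphism group of the length-24 binary code) is trivial; here the Schur multiplier is described through stem extensions, as in the definitions: surjective homomorphisms onto the group from a finite group, whose kernel is central in that finite group and contained in that finite group's commutator subgroup. -/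
theorem result : Cfsg.HasCyclicSchurMultiplier ↥Cfsg.M24 1 := by
  refine hasCyclicSchurMultiplier_one _ fun p hp hd Γ _ _ σ hσ hexp => ?_
  have hmem : p ∈ [2, 2, 2, 2, 2, 2, 2, 2, 2, 2, 3, 3, 3, 5, 7, 11, 23] := by
    refine mem_of_prime_dvd_prod hp (by decide) ?_
    rw [card_M24] at hd
    exact hd
  have hmem' := (by decide : ∀ q ∈ [2, 2, 2, 2, 2, 2, 2, 2, 2, 2, 3, 3, 3, 5, 7, 11, 23], q ∈ [2, 3, 5, 7, 11, 23]) p hmem
  simp only [List.mem_cons, List.not_mem_nil, or_false] at hmem'
  rcases hmem' with rfl | rfl | rfl | rfl | rfl | rfl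
  · exact ker_eq_bot_of_tables cert2 cert2Xs cert2Gs cert2Base (forall_inGroup inGroup_of_inM24 (by decide +kernel)) (forall_inGroup inGroup_of_inM24 (by decide +kernel)) CfsgLib.Schur.M24Check.cert2_tables hp (N := 239085) (by rw [card_M24]; rfl) (by decide +kernel) σ hσ hexp
  · exact ker_eq_bot_of_tables cert3 cert3Xs cert3Gs cert3Base (forall_inGroup inGroup_of_inM24 (by decide +kernel)) (forall_inGroup inGroup_of_inM24 (by decide +kernel)) (by decide +kernel) hp (N := 9067520) (by rw [card_M24]; rfl) (by decide +kernel) σ hσ hexp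
  · exact ker_eq_bot_of_table hp (cycXs.getD 0 0) (inGroup_of_inM24 (by decide +kernel)) (by decide +kernel) (N := 48964608) (by rw [card_M24]) (by decide +kernel) σ hσ hexp
  · exact ker_eq_bot_of_table hp (cycXs.getD 1 0) (inGroup_of_inM24 (by decide +kernel)) (by decide +kernel) (N := 34974720) (by rw [card_M24]) (by decide +kernel) σ hσ hexp
  · exact ker_eq_bot_of_table hp (cycXs.getD 2 0) (inGroup_of_inM24 (by decide +kernel)) (by decide +kernel) (N := 22256640) (by rw [card_M24]) (by decide +kernel) σ hσ hexp
  · exact ker_eq_bot_of_table hp (cycXs.getD 3 0) (inGroup_of_inM24 (by decide +kernel)) (by decide +kernel) (N := 10644480) (by rw [card_M24]) (by decide +kernel) σ hσ hexp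

end Cfsg.Agent.S2038
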