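import Cfsg.Statements.S1250
import Cfsg.Agent.TwoGroups.Closed

-- import your own Cfsg.Agent.* helpers here

set_option autoImplicit false
open Cfsg

namespace Cfsg.Agent.S1250

/-- Let S be a Sylow p-subgroup of the finite group G, A ≤ S strongly closed in S, and N a normal subgroup. Then the image of A in G ⧸ N is strongly closed in the image of S (which is a Sylow p-subgroup of G ⧸ N). -/
theorem result {G : Type*} [Group G] [Finite G] {p : ℕ} [Fact p.Prime] (S : Sylow p G) (A : Subgroup G) (hA : Cfsg.IsStronglyClosed A (S : Subgroup G)) (N : Subgroup G) [N.Normal] : Cfsg.IsStronglyClosed (A.map (QuotientGroup.mk' N)) ((S : Subgroup G).map (QuotientGroup.mk' N)) := by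
  refine ⟨Subgroup.map_mono hA.1, ?_⟩
  rintro _ ⟨x, hx, rfl⟩ q hq
  obtain ⟨g, rfl⟩ := QuotientGroup.mk'_surjective N q
  rw [← map_inv, ← map_mul, ← map_mul] at hq ⊢
  set y := g * x * g⁻¹
  set K := (S : Subgroup G) ⊔ N
  have hyK : y ∈ K := by
    have : y ∈ ((S : Subgroup G).map (QuotientGroup.mk' N)).comap (QuotientGroup.mk' N) := hq
    rwa [Subgroup.comap_map_eq, QuotientGroup.ker_mk'] at this
  have hyp : IsPGroup p (Subgroup.zpowers (⟨y, hyK⟩ : K)) := by
    obtain ⟨k, hk⟩ := IsPGroup.iff_orderOf.1 S.isPGroup' ⟨x, hA.1 hx⟩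
    rw [Subgroup.orderOf_mk] at hk
    refine IsPGroup.of_card (n := k) ?_
    rw [Nat.card_zpowers, Subgroup.orderOf_mk, ← hk]
    exact orderOf_injective (MulAut.conj g).toMonoidHom (MulAut.conj g).injective x
  obtain ⟨T, hT⟩ := hyp.exists_le_sylow
  obtain ⟨⟨k, hk⟩, hkT⟩ := MulAction.exists_smul_eq K T (S.subtype le_sup_left)
  have hkS : k * y * k⁻¹ ∈ (S : Subgroup G) := by
    have h1 : (⟨k, hk⟩ : K) * ⟨y, hyK⟩ * (⟨k, hk⟩ : K)⁻¹ ∈ ((⟨k, hk⟩ : K) • T : Sylow p K) :=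
      Subgroup.smul_mem_pointwise_smul _ _ _ (hT (Subgroup.mem_zpowers _))
    rw [hkT] at h1
    exact h1
  have hkA : k * y * k⁻¹ ∈ A := by
    have := hA.2 x hx (k * g)
    rw [show k * g * x * (k * g)⁻¹ = k * y * k⁻¹ by simp [y]; group] at this
    exact this hkS
  rw [← SetLike.mem_coe, Subgroup.mul_normal] at hk
  obtain ⟨s, hs, n, hn, rfl⟩ := hk
  refine ⟨s⁻¹ * (s * n * y * (s * n)⁻¹) * s, ?_, ?_⟩
  · simpa using CfsgLib.Closed.conj_mem_of_mem hA hkA (inv_mem hs)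
  · have hn1 : (QuotientGroup.mk' N) n = 1 := (QuotientGroup.eq_one_iff n).2 hn
    simp [map_mul, map_inv, hn1, mul_assoc]

end Cfsg.Agent.S1250
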