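import Cfsg.Statements.S4037
import Cfsg.Agent.PrimePowerClass.Main
import Cfsg.Agent.GroupBasics.Conjugates

set_option autoImplicit false
open Cfsg
open scoped commutatorElement

namespace Cfsg.Agent.S4037

/-- If an element x of a finite group G has a conjugacy class of prime-power size, then the normal closure of x in G (the subgroup generated by the conjugacy class of x) is solvable. -/
theorem result {G : Type*} [Group G] [Finite G]
    (x : G) {p : ℕ} (hp : p.Prime) (k : ℕ) (hx : (ConjClasses.mk x).carrier.ncard = p ^ k) :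
    Group.IsSolvable ↥(Subgroup.normalClosure ({x} : Set G)) := by
  have := Fact.mk hp
  set P := Cfsg.pCore p G
  have hPn : P.Normal := CfsgLib.Solvable.pCore_normal p
  have ha : ∃ a, (Subgroup.centralizer ({x} : Set G)).index = p ^ a := by
    refine ⟨k, ?_⟩
    rw [← hx, ← CfsgLib.GroupBasics.card_carrier_eq_index_centralizer]
  have hcomm : ∀ a ∈ Group.conjugatesOfSet ({x} : Set G), ∀ b ∈ Group.conjugatesOfSet ({x} : Set G),
      Commute (QuotientGroup.mk' P a) (QuotientGroup.mk' P b) := by
    intro a haa b hbb
    obtain ⟨y, hy, hya⟩ := Group.mem_conjugatesOfSet_iff.1 haa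
    obtain ⟨z, hz, hzb⟩ := Group.mem_conjugatesOfSet_iff.1 hbb
    obtain ⟨g, rfl⟩ := isConj_iff.1 hya
    obtain ⟨h, rfl⟩ := isConj_iff.1 hzb
    rw [Set.mem_singleton_iff] at hy hz
    rw [hy, hz]
    have h1 := (QuotientGroup.eq_one_iff (N := P) _).2
      (CfsgLib.PrimePowerClass.commutator_mem_pCore ha g h)
    have h2 : ⁅QuotientGroup.mk' P (g * x * g⁻¹), QuotientGroup.mk' P (h * x * h⁻¹)⁆ = 1 := by
      rw [← map_commutatorElement, commutatorElement_def]
      exact h1
    exact commutatorElement_eq_one_iff_mul_comm.1 h2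
  set K := Subgroup.normalClosure ({x} : Set G)
  let f : ↥K →* G ⧸ P := (QuotientGroup.mk' P).comp K.subtype
  have hr : f.range = Subgroup.closure (QuotientGroup.mk' P '' Group.conjugatesOfSet {x}) := by
    rw [MonoidHom.range_eq_map, ← Subgroup.map_map, ← MonoidHom.range_eq_map, Subgroup.range_subtype]
    exact MonoidHom.map_closure _ _
  have : Group.IsSolvable f.range := by
    rw [hr]
    have : IsMulCommutative ↥(Subgroup.closure (QuotientGroup.mk' P '' Group.conjugatesOfSet {x})) :=
      Subgroup.isMulCommutative_closure (by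
        rintro _ ⟨a, ha', rfl⟩ _ ⟨b, hb', rfl⟩
        exact hcomm a ha' b hb')
    exact Group.isSolvable_of_comm fun a b => mul_comm' a b
  have : Group.IsSolvable ↥(f.ker) := by
    have hp' : IsPGroup p f.ker := (CfsgLib.Solvable.isPGroup_pCore (G := G) p).comap_of_injective K.subtype
      K.subtype_injective |>.to_le (by rw [← MonoidHom.comap_ker, QuotientGroup.ker_mk'])
    have := hp'.isNilpotent
    infer_instance
  exact Group.isSolvable_of_ker_le_range f.ker.subtype f.rangeRestrict (by
    rw [MonoidHom.ker_rangeRestrict, Subgroup.range_subtype])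

end Cfsg.Agent.S4037
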