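import Cfsg.Statements.S4160
import Cfsg.Agent.Transfer.NormalPComplement
import Mathlib.GroupTheory.Transfer

set_option autoImplicit false
open Cfsg

namespace Cfsg.Agent.S4160

open Subgroup
open scoped Pointwise

variable {G : Type*} [Group G] [Finite G]

theorem exists_sylow_le_of_not_dvd {p : ℕ} [Fact p.Prime] {H : Subgroup G} (h : ¬ p ∣ H.index) :
    ∃ P : Sylow p G, (P : Subgroup G) ≤ H := by
  obtain ⟨S⟩ := (inferInstance : Nonempty (Sylow p H))
  have hne : ¬ p ∣ ((S : Subgroup H).map H.subtype).index := by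
    rw [index_map_subtype, (Fact.out : p.Prime).dvd_mul, not_or]
    exact ⟨S.not_dvd_index, h⟩
  refine ⟨(S.isPGroup'.map H.subtype).toSylow hne, ?_⟩
  rw [IsPGroup.toSylow_coe]
  exact map_subtype_le _

/-- Points covered by the centralisers of the Sylow subgroups: a normalised form. -/
theorem exists_code {p : ℕ} [Fact p.Prime] (P : Sylow p G) :
    ∃ g : Sylow p G → G, ∀ (P' : Sylow p G) (x : G), x ∈ centralizer ((P' : Subgroup G) : Set G) →
      (g P')⁻¹ * x * g P' ∈ centralizer ((P : Subgroup G) : Set G) := by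
  choose g hg using fun P' => MulAction.exists_smul_eq G P P'
  refine ⟨g, fun P' x hx => mem_centralizer_iff.mpr fun y hy => ?_⟩
  have hy' : g P' * y * (g P')⁻¹ ∈ ((g P' • P : Sylow p G) : Subgroup G) := by
    rw [Sylow.coe_subgroup_smul, mem_pointwise_smul_iff_inv_smul_mem]
    simp only [MulAut.smul_def, MulAut.inv_def, MulAut.conj_symm_apply]; rw [show (g P')⁻¹ * (g P' * y * (g P')⁻¹) * g P' = y by group]; exact hy
  rw [hg P'] at hy'
  have := mem_centralizer_iff.mp hx _ hy'
  calc y * ((g P')⁻¹ * x * g P') = (g P')⁻¹ * (g P' * y * (g P')⁻¹ * x) * g P' := by group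
    _ = (g P')⁻¹ * (x * (g P' * y * (g P')⁻¹)) * g P' := by rw [this]
    _ = (g P')⁻¹ * x * g P' * y := by group

theorem eq_one_of_conj {g x : G} (h : g⁻¹ * x * g = 1) : x = 1 := by
  calc x = g * (g⁻¹ * x * g) * g⁻¹ := by group
    _ = 1 := by rw [h]; group

theorem two_mul_le {p : ℕ} [Fact p.Prime] (P : Sylow p G)
    (h : ¬ normalizer ((P : Subgroup G) : Set G) ≤ centralizer ((P : Subgroup G) : Set G)) :
    2 * (Nat.card (Sylow p G) * Nat.card (centralizer ((P : Subgroup G) : Set G))) ≤ Nat.card G := by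
  have hle := centralizer_le_normalizer ((P : Subgroup G) : Set G)
  have h2 : 2 ≤ (centralizer ((P : Subgroup G) : Set G)).relIndex (normalizer ((P : Subgroup G) : Set G)) := by
    have h0 : (centralizer ((P : Subgroup G) : Set G)).relIndex (normalizer ((P : Subgroup G) : Set G)) ≠ 0 :=
      index_ne_zero_of_finite
    have h1 : (centralizer ((P : Subgroup G) : Set G)).relIndex (normalizer ((P : Subgroup G) : Set G)) ≠ 1 :=
      fun e => h (relIndex_eq_one.mp e)
    omega
  rw [← (centralizer ((P : Subgroup G) : Set G)).card_mul_index, ← relIndex_mul_index hle,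
    P.card_eq_index_normalizer]
  calc 2 * ((normalizer ((P : Subgroup G) : Set G)).index * Nat.card (centralizer ((P : Subgroup G) : Set G)))
      = Nat.card (centralizer ((P : Subgroup G) : Set G)) * (2 * (normalizer ((P : Subgroup G) : Set G)).index) := by ring
    _ ≤ _ := Nat.mul_le_mul_left _ (Nat.mul_le_mul_right _ h2)

theorem hasNormalPComplement_of_central {p : ℕ} [Fact p.Prime] (P : Sylow p G)
    (h : normalizer ((P : Subgroup G) : Set G) ≤ centralizer ((P : Subgroup G) : Set G)) :
    Cfsg.HasNormalPComplement p G :=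
  ⟨P, _, inferInstance, MonoidHom.ker_transferSylow_isComplement' P h⟩

/-- Let G be a finite group and p ≠ q primes each dividing the size of some conjugacy class of G, such that no conjugacy class size is divisible by pq. Then G has a normal p-complement or a normal q-complement. -/
theorem result {G : Type*} [Group G] [Finite G] (p q : ℕ) (hp : p.Prime) (hq : q.Prime) (hpq : p ≠ q)
    (hp' : ∃ x : G, p ∣ (Subgroup.centralizer ({x} : Set G)).index) (hq' : ∃ x : G, q ∣ (Subgroup.centralizer ({x} : Set G)).index) (h : ∀ x : G, ¬ p * q ∣ (Subgroup.centralizer ({x} : Set G)).index) :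
    Cfsg.HasNormalPComplement p G ∨ Cfsg.HasNormalPComplement q G := by
  haveI := Fact.mk hp
  haveI := Fact.mk hq
  obtain ⟨P⟩ := (inferInstance : Nonempty (Sylow p G))
  obtain ⟨Q⟩ := (inferInstance : Nonempty (Sylow q G))
  by_contra hcon
  rw [not_or] at hcon
  have h1 := two_mul_le P fun e => hcon.1 (hasNormalPComplement_of_central P e)
  have h2 := two_mul_le Q fun e => hcon.2 (hasNormalPComplement_of_central Q e)
  obtain ⟨g, hg⟩ := exists_code P
  obtain ⟨g', hg'⟩ := exists_code Q
  set C := centralizer ((P : Subgroup G) : Set G)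
  set D := centralizer ((Q : Subgroup G) : Set G)
  classical
  -- every element centralises some Sylow subgroup
  have hcov : ∀ x : G, (∃ P' : Sylow p G, x ∈ centralizer ((P' : Subgroup G) : Set G)) ∨
      (∃ Q' : Sylow q G, x ∈ centralizer ((Q' : Subgroup G) : Set G)) := by
    intro x
    have hflip : ∀ {r : ℕ} [Fact r.Prime] (R : Sylow r G), (R : Subgroup G) ≤ centralizer ({x} : Set G) →
        x ∈ centralizer ((R : Subgroup G) : Set G) := fun R hR =>
      mem_centralizer_iff.mpr fun y hy => mem_centralizer_singleton_iff.mp (hR hy)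
    by_cases hpd : p ∣ (centralizer ({x} : Set G)).index
    · have hqd : ¬ q ∣ (centralizer ({x} : Set G)).index := fun hqd =>
        h x (((Nat.coprime_primes hp hq).mpr hpq).mul_dvd_of_dvd_of_dvd hpd hqd)
      obtain ⟨R, hR⟩ := exists_sylow_le_of_not_dvd hqd
      exact Or.inr ⟨R, hflip R hR⟩
    · obtain ⟨R, hR⟩ := exists_sylow_le_of_not_dvd hpd
      exact Or.inl ⟨R, hflip R hR⟩
  let φ : {x : G // x ≠ 1} → (Sylow p G × {c : C // c ≠ 1}) ⊕ (Sylow q G × {d : D // d ≠ 1}) := fun x =>
    if hx : ∃ P' : Sylow p G, (x : G) ∈ centralizer ((P' : Subgroup G) : Set G) then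
      Sum.inl (hx.choose, ⟨⟨_, hg _ _ hx.choose_spec⟩, fun e => x.2 (eq_one_of_conj (congrArg Subtype.val e :))⟩)
    else
      Sum.inr (((hcov x).resolve_left hx).choose, ⟨⟨_, hg' _ _ ((hcov x).resolve_left hx).choose_spec⟩, fun e => x.2 (eq_one_of_conj (congrArg Subtype.val e :))⟩)
  have hφ : Function.Injective φ := by
    intro x y e
    simp only [φ] at e
    split_ifs at e with hx hy hy
    · simp only [Sum.inl.injEq, Prod.mk.injEq, Subtype.mk.injEq] at e
      obtain ⟨e1, e2⟩ := e
      rw [e1] at e2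
      exact Subtype.ext (mul_left_cancel (mul_right_cancel e2))
    · simp only [Sum.inr.injEq, Prod.mk.injEq, Subtype.mk.injEq] at e
      obtain ⟨e1, e2⟩ := e
      rw [e1] at e2
      exact Subtype.ext (mul_left_cancel (mul_right_cancel e2))
  have hcard : ∀ (H : Type _) [Group H] [Finite H], Nat.card {c : H // c ≠ 1} + 1 = Nat.card H := by
    intro H _ _
    haveI := Fintype.ofFinite H
    rw [Nat.card_eq_fintype_card, Nat.card_eq_fintype_card, Fintype.card_subtype_compl,
      Fintype.card_subtype_eq, Nat.sub_add_cancel Fintype.card_pos]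
  have h3 := Nat.card_le_card_of_injective φ hφ
  rw [Nat.card_sum, Nat.card_prod, Nat.card_prod] at h3
  have hG := hcard G
  have hC := hcard C
  have hD := hcard D
  rw [← hC] at h1
  rw [← hD] at h2
  have hnp : 0 < Nat.card (Sylow p G) := Nat.card_pos
  have hnq : 0 < Nat.card (Sylow q G) := Nat.card_pos
  rw [Nat.mul_add, Nat.mul_add] at h1 h2
  omega

end Cfsg.Agent.S4160
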