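import Cfsg.Statements.S4135
import Cfsg.Agent.TwoSizes69.Count

set_option autoImplicit false
open Cfsg

namespace Cfsg.Agent.S4135

open Subgroup
open CfsgLib CfsgLib.TwoSizes69

/-- Let G be a finite group, r a prime and R a Sylow r-subgroup of G that is not central, N a normal subgroup of G containing R, and m a natural number such that every element of N has a conjugacy class in G of size 1 or m. Then N is nilpotent. -/
theorem result {G : Type*} [Group G] [Finite G] (r : ℕ) [Fact r.Prime]
    (R : Sylow r G) (hR : ¬ (R : Subgroup G) ≤ Subgroup.center G) (N : Subgroup G) [hN : N.Normal] (hRN : (R : Subgroup G) ≤ N)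
    (m : ℕ) (h : ∀ x ∈ N, (Subgroup.centralizer ({x} : Set G)).index = 1 ∨ (Subgroup.centralizer ({x} : Set G)).index = m) : Group.IsNilpotent N := by
  have hr : r.Prime := Fact.out
  have hsizes : ∀ x ∈ N, x ∉ center G → (centralizer ({x} : Set G)).index = m := by
    intro x hx hx'
    refine (h x hx).resolve_left fun e => hx' (mem_center_iff.mpr fun g => ?_)
    exact mem_Cx.mp ((index_eq_one.mp e).symm ▸ mem_top g)
  have hSN : ∀ S : Sylow r G, (S : Subgroup G) ≤ N := by
    intro S v hv
    obtain ⟨b, hb⟩ := MulAction.exists_smul_eq G R S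
    rw [← hb, mem_smul_sylow] at hv
    have := hN.conj_mem _ (hRN hv) b
    rwa [show b * (b⁻¹ * v * b) * b⁻¹ = v by group] at this
  have hnc : ∀ S : Sylow r G, ¬ (S : Subgroup G) ≤ center G := by
    intro S hS
    apply hR
    intro v hv
    obtain ⟨b, hb⟩ := MulAction.exists_smul_eq G R S
    have h1 := hS (hb ▸ TwoSizes69.smul_mem hv b)
    have := (inferInstance : (center G).Normal).conj_mem _ h1 b⁻¹
    rwa [show b⁻¹ * (b * v * b⁻¹) * b⁻¹⁻¹ = v by group] at this
  by_cases hK : ∀ y ∈ N, ¬ r ∣ orderOf y → y ∈ center G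
  · -- all `r'`-elements of `N` are central
    refine Group.of_quotient_center_nilpotent (IsPGroup.isNilpotent (p := r) ?_)
    intro q
    obtain ⟨g, rfl⟩ := QuotientGroup.mk_surjective q
    obtain ⟨a, b, hab, ha, hb, ⟨k, hk⟩, hbr⟩ := exists_parts' (r := r) (g : G)
    refine ⟨k, ?_⟩
    rw [← QuotientGroup.mk_pow, QuotientGroup.eq_one_iff, mem_center_iff]
    intro y
    apply Subtype.ext
    show (y : G) * (g : G) ^ r ^ k = (g : G) ^ r ^ k * (y : G)
    have hbc : b ∈ center G := hK b (zpowers_le.mpr g.2 hb) hbr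
    rw [hab, (show Commute a b from mem_center_iff.mp hbc a).mul_pow, hk, one_mul]
    exact mem_center_iff.mp (pow_mem hbc _) y
  push Not at hK
  obtain ⟨y0, hy0, hy0r, hy0'⟩ := hK
  by_cases hdvd : r ∣ m
  · exfalso
    have hyp : Hyp r N m := ⟨hN, hSN, hsizes, hdvd, hnc⟩
    obtain ⟨x, hxr, hx, hCx⟩ := hyp.exists_rep hy0 hy0'
    exact (Hyp'.mk hyp ⟨x, hxr, hx, y0, hy0, hy0', hy0r, hCx ▸ mem_Cx.mpr rfl⟩).contradiction
  -- `r` does not divide the class sizes: `R` is central in `N`
  have hcov : ∀ g : N, ∃ b : N, b * g * b⁻¹ ∈ (centralizer ((R : Subgroup G) : Set G)).subgroupOf N := by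
    intro g
    by_cases hg : (g : G) ∈ center G
    · exact ⟨1, mem_subgroupOf.mpr (mem_centralizer_iff.mpr fun y _ => by
        simpa using (mem_center_iff.mp hg y))⟩
    obtain ⟨P⟩ := (inferInstance : Nonempty (Sylow r (centralizer ({(g : G)} : Set G))))
    have hidx : ¬ r ∣ ((P : Subgroup _).map (centralizer ({(g : G)} : Set G)).subtype).index := by
      rw [index_map_subtype, hr.dvd_mul, not_or, hsizes g g.2 hg]
      exact ⟨P.not_dvd_index, hdvd⟩
    set S := (P.isPGroup'.map (centralizer ({(g : G)} : Set G)).subtype).toSylow hidx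
    obtain ⟨b, hb, hbS⟩ := conj_into (S := R) hRN S.isPGroup' (hSN S)
    refine ⟨⟨b, hb⟩, mem_subgroupOf.mpr (mem_centralizer_iff.mpr fun y hy => ?_)⟩
    have hbe : b • S = R := smul_eq_of_conj hbS
    have hy' : b⁻¹ * y * b ∈ (S : Subgroup G) := by
      rw [← mem_smul_sylow, hbe]; exact hy
    have h1 := mem_Cx.mp (map_subtype_le _ hy')
    show y * (b * (g : G) * b⁻¹) = b * (g : G) * b⁻¹ * y
    calc y * (b * (g : G) * b⁻¹) = b * (b⁻¹ * y * b * (g : G)) * b⁻¹ := by group
      _ = b * ((g : G) * (b⁻¹ * y * b)) * b⁻¹ := by rw [h1]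
      _ = b * (g : G) * b⁻¹ * y := by group
  have hRZ : ∀ v ∈ (R : Subgroup G), ∀ g ∈ N, v * g = g * v := fun v hv g hg =>
    mem_centralizer_iff.mp (subgroupOf_eq_top.mp (GroupBasics.eq_top_of_forall_conj_mem hcov) hg) v hv
  obtain ⟨x0, hx0R, hx0⟩ : ∃ x ∈ (R : Subgroup G), x ∉ center G := by
    by_contra hc; push Not at hc; exact hR hc
  have hxr : RElem r x0 := RElem.of_mem R.isPGroup' hx0R
  have heq : ∀ (x y : G), x ∈ N → x ∉ center G → y ∈ N → y ∉ center G →
      centralizer ({x} : Set G) ≤ centralizer ({y} : Set G) →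
      centralizer ({x} : Set G) = centralizer ({y} : Set G) := by
    intro x y hx hx' hy hy' hle
    refine le_antisymm hle (relIndex_eq_one.mp ?_)
    have h1 := relIndex_mul_index hle
    rw [hsizes x hx hx', hsizes y hy hy'] at h1
    have hm : 0 < m := by rw [← hsizes x hx hx']; exact Nat.pos_of_ne_zero index_ne_zero_of_finite
    exact Nat.eq_of_mul_eq_mul_right hm (by rw [h1, one_mul])
  have hcommute : ∀ a b : G, a ∈ N → a ∉ center G → RElem r a → b ∈ N → b ∉ center G → ¬ r ∣ orderOf b →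
      Commute a b → centralizer ({a} : Set G) = centralizer ({b} : Set G) := by
    intro a b haN ha' har hbN hb' hbr hc
    have hcop := har.coprime hbr
    have ham : a ∈ zpowers (a * b) := by
      refine PTools69.mem_of_pow_mem (n := orderOf b) hcop.symm ⟨orderOf b, ?_⟩
      simp only [zpow_natCast]
      rw [hc.mul_pow, pow_orderOf_eq_one, mul_one]
    have hbm : b ∈ zpowers (a * b) := by
      refine PTools69.mem_of_pow_mem (n := orderOf a) hcop ⟨orderOf a, ?_⟩
      simp only [zpow_natCast]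
      rw [hc.mul_pow, pow_orderOf_eq_one, one_mul]
    have hne : a * b ∉ center G := fun hh => ha' (zpowers_le.mpr hh ham)
    rw [← heq _ _ (N.mul_mem haN hbN) hne haN ha' (centralizer_le_of_mem_zpowers ham),
      ← heq _ _ (N.mul_mem haN hbN) hne hbN hb' (centralizer_le_of_mem_zpowers hbm)]
  have hRelem : ∀ a ∈ N, RElem r a → ∀ g ∈ N, a * g = g * a := by
    intro a haN har g hg
    obtain ⟨b, hb, hbV⟩ := conj_into (S := R) hRN (isPGroup_zpowers har) (zpowers_le.mpr haN)
    have h1 := hRZ _ (hbV a (mem_zpowers a)) (b * g * b⁻¹) (hN.conj_mem g hg b)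
    calc a * g = b⁻¹ * (b * a * b⁻¹ * (b * g * b⁻¹)) * b := by group
      _ = b⁻¹ * (b * g * b⁻¹ * (b * a * b⁻¹)) * b := by rw [h1]
      _ = g * a := by group
  set C := centralizer ({x0} : Set G)
  have hy0C : centralizer ({y0} : Set G) = C :=
    (hcommute x0 y0 (hRN hx0R) hx0 hxr hy0 hy0' hy0r (hRZ x0 hx0R y0 hy0)).symm
  have hle : ∀ g ∈ N, C ≤ centralizer ({g} : Set G) := by
    intro g hg
    obtain ⟨a, b, hab, ha, hb, har, hbr⟩ := exists_parts' (r := r) g
    have haN : a ∈ N := zpowers_le.mpr hg ha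
    have hbN : b ∈ N := zpowers_le.mpr hg hb
    intro u hu
    rw [hab]
    refine mem_Cx.mpr (Commute.mul_right ?_ ?_).eq
    · by_cases ha' : a ∈ center G
      · exact mem_center_iff.mp ha' u
      · rw [← hy0C, ← hcommute a y0 haN ha' har hy0 hy0' hy0r (hRelem a haN har y0 hy0)] at hu
        exact mem_Cx.mp hu
    · by_cases hb' : b ∈ center G
      · exact mem_center_iff.mp hb' u
      · have e : centralizer ({b} : Set G) = C :=
          (hcommute x0 b (hRN hx0R) hx0 hxr hbN hb' hbr (hRZ x0 hx0R b hbN)).symm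
        rw [← e] at hu
        exact mem_Cx.mp hu
  letI : CommGroup N := { (inferInstance : Group N) with
    mul_comm := fun a b => Subtype.ext (mem_Cx.mp (hle b b.2 (mem_Cx.mpr (hRZ x0 hx0R a a.2).symm))) }
  exact CommGroup.isNilpotent

end Cfsg.Agent.S4135
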