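import Cfsg.Statements.S4134
import Cfsg.Agent.S4135

set_option autoImplicit false
open Cfsg

namespace Cfsg.Agent.S4134

open Subgroup
open CfsgLib CfsgLib.TwoSizes69
open scoped commutatorElement

variable {G : Type*} [Group G]

theorem pow_mul_central {y z : G} (h : ⁅z, y⁆ ∈ center G) : ∀ j : ℕ,
    ∃ c ∈ center G, (y * z) ^ j = c * (y ^ j * z ^ j)
  | 0 => ⟨1, one_mem _, by simp⟩
  | j + 1 => by
    obtain ⟨c, hc, e⟩ := pow_mul_central h j
    have hzy : ⁅z ^ j, y⁆ ∈ center G := by rw [comm_pow_left h]; exact pow_mem h j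
    refine ⟨c * ⁅z ^ j, y⁆, mul_mem hc hzy, ?_⟩
    rw [pow_succ, e]
    calc c * (y ^ j * z ^ j) * (y * z) = c * (y ^ j * ⁅z ^ j, y⁆) * y * z ^ j * z := by
          simp only [commutatorElement_def]; group
      _ = c * (⁅z ^ j, y⁆ * y ^ j) * y * z ^ j * z := by rw [mem_center_iff.mp hzy (y ^ j)]
      _ = c * ⁅z ^ j, y⁆ * (y ^ (j + 1) * z ^ (j + 1)) := by rw [pow_succ, pow_succ]; group

/-- Let G be a finite group whose conjugacy classes have exactly two sizes, 1 and n > 1. Then n is a power of a prime p and G is the direct product of a p-group and an abelian group of order prime to p: its Sylow p-subgroup P is normal with an abelian normal complement centralizing it; moreover P has an abelian normal subgroup A with P/A of exponent dividing p. -/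
theorem result {G : Type*} [Group G] [Finite G] (n : ℕ) (hn : 1 < n)
    (h : ∀ x : G, (Subgroup.centralizer ({x} : Set G)).index = 1 ∨ (Subgroup.centralizer ({x} : Set G)).index = n) (hex : ∃ x : G, (Subgroup.centralizer ({x} : Set G)).index = n) :
    ∃ (p : ℕ) (_ : Fact p.Prime) (a : ℕ), n = p ^ a ∧ ∀ P : Sylow p G, (P : Subgroup G).Normal ∧
      (∃ N : Subgroup G, N.Normal ∧ N.IsComplement' (P : Subgroup G) ∧ IsMulCommutative N ∧
        ∀ x ∈ N, ∀ y ∈ (P : Subgroup G), x * y = y * x) ∧
      ∃ A : Subgroup (P : Subgroup G), A.Normal ∧ IsMulCommutative A ∧ ∀ y : (P : Subgroup G), y ^ p ∈ A := by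
  have hcen : ∀ x : G, x ∈ center G → (centralizer ({x} : Set G)).index = 1 := fun x hx =>
    index_eq_one.mpr ((eq_top_iff' _).mpr fun g => mem_Cx.mpr (mem_center_iff.mp hx g))
  have hsizes : ∀ x : G, x ∉ center G → (centralizer ({x} : Set G)).index = n := fun x hx =>
    (h x).resolve_left fun e => hx (mem_center_iff.mpr fun g => mem_Cx.mp ((index_eq_one.mp e).symm ▸ mem_top g))
  have heq : ∀ x y : G, x ∉ center G → y ∉ center G →
      centralizer ({x} : Set G) ≤ centralizer ({y} : Set G) →
      centralizer ({x} : Set G) = centralizer ({y} : Set G) := by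
    intro x y hx hy hle
    refine le_antisymm hle (relIndex_eq_one.mp ?_)
    have h1 := relIndex_mul_index hle
    rw [hsizes x hx, hsizes y hy] at h1
    exact Nat.eq_of_mul_eq_mul_right (by omega : 0 < n) (by rw [h1, one_mul])
  obtain ⟨x0, hx0⟩ := hex
  have hx0c : x0 ∉ center G := fun hc => by rw [hcen x0 hc] at hx0; omega
  have hZ : (center G).index ≠ 1 := fun e => hx0c (index_eq_one.mp e ▸ mem_top x0)
  obtain ⟨p, hp, hpd⟩ := Nat.exists_prime_and_dvd hZ
  haveI := Fact.mk hp
  have hncen : ∀ (q : ℕ) [Fact q.Prime] (Q : Sylow q G), q ∣ (center G).index →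
      ¬ (Q : Subgroup G) ≤ center G :=
    fun q _ Q hq hle => Q.not_dvd_index (hq.trans (index_dvd_of_le hle))
  haveI hnil : Group.IsNilpotent G := by
    obtain ⟨R⟩ := (inferInstance : Nonempty (Sylow p G))
    exact Group.isNilpotent_top.mp (S4135.result p R (hncen p R hpd) ⊤ le_top n fun x _ => h x)
  have hnormal : ∀ (q : ℕ) [Fact q.Prime] (Q : Sylow q G), (Q : Subgroup G).Normal :=
    fun q _ Q => Q.normal_of_normalizerCondition normalizerCondition_of_isNilpotent
  -- `p` is the only prime dividing `[G : Z]`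
  have honly : ∀ q : ℕ, q.Prime → q ∣ (center G).index → q = p := by
    intro q hq hqd
    by_contra hne
    haveI := Fact.mk hq
    obtain ⟨P⟩ := (inferInstance : Nonempty (Sylow p G))
    obtain ⟨Q⟩ := (inferInstance : Nonempty (Sylow q G))
    obtain ⟨x, hxP, hx⟩ := SetLike.not_le_iff_exists.mp (hncen p P hpd)
    obtain ⟨y, hyQ, hy⟩ := SetLike.not_le_iff_exists.mp (hncen q Q hqd)
    have hcomm : ∀ (s t : ℕ) [Fact s.Prime] [Fact t.Prime], s ≠ t → ∀ (S : Sylow s G) (T : Sylow t G),
        ∀ u ∈ (S : Subgroup G), ∀ v ∈ (T : Subgroup G), Commute u v := by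
      intro s t _ _ hst S T u hu v hv
      exact Subgroup.commute_of_normal_of_disjoint _ _ (hnormal s S) (hnormal t T)
        (IsPGroup.disjoint_of_ne _ _ hst _ _ S.isPGroup' T.isPGroup') u v hu hv
    have hxy : Commute x y := hcomm p q (Ne.symm hne) P Q x hxP y hyQ
    have hxr : RElem p x := RElem.of_mem P.isPGroup' hxP
    have hyp : ¬ p ∣ orderOf y := by
      obtain ⟨k, hk⟩ := RElem.of_mem Q.isPGroup' hyQ
      intro hd
      exact hne ((Nat.prime_dvd_prime_iff_eq hp hq).mp (hp.dvd_of_dvd_pow (hd.trans (orderOf_dvd_of_pow_eq_one hk)))).symm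
    have hcop := hxr.coprime hyp
    have hxm : x ∈ zpowers (x * y) := by
      refine PTools69.mem_of_pow_mem (n := orderOf y) hcop.symm ⟨orderOf y, ?_⟩
      simp only [zpow_natCast]
      rw [hxy.mul_pow, pow_orderOf_eq_one, mul_one]
    have hym : y ∈ zpowers (x * y) := by
      refine PTools69.mem_of_pow_mem (n := orderOf x) hcop ⟨orderOf x, ?_⟩
      simp only [zpow_natCast]
      rw [hxy.mul_pow, pow_orderOf_eq_one, one_mul]
    have hxyc : x * y ∉ center G := fun hc => hx (zpowers_le.mpr hc hxm)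
    have e : centralizer ({x} : Set G) = centralizer ({y} : Set G) :=
      (heq _ _ hxyc hx (centralizer_le_of_mem_zpowers hxm)).symm.trans
        (heq _ _ hxyc hy (centralizer_le_of_mem_zpowers hym))
    have hne1 : (centralizer ({x} : Set G)).index ≠ 1 := by rw [hsizes x hx]; omega
    obtain ⟨s, hs, hsd⟩ := Nat.exists_prime_and_dvd hne1
    haveI := Fact.mk hs
    obtain ⟨S⟩ := (inferInstance : Nonempty (Sylow s G))
    refine S.not_dvd_index (hsd.trans (index_dvd_of_le fun u hu => ?_))
    by_cases hsp : s = p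
    · subst hsp
      rw [e]
      exact mem_Cx.mpr (hcomm s q (Ne.symm hne) S Q u hu y hyQ).eq
    · exact mem_Cx.mpr (hcomm s p hsp S P u hu x hxP).eq
  have hidx : (center G).index = p ^ (center G).index.primeFactorsList.length :=
    Nat.eq_prime_pow_of_unique_prime_dvd index_ne_zero_of_finite fun {d} hd hdd => honly d hd hdd
  have hcentral : ∀ b : G, ¬ p ∣ orderOf b → b ∈ center G := by
    intro b hb
    refine PTools69.mem_of_pow_mem (n := (center G).index) ?_ (pow_index_mem _ b)
    rw [hidx]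
    exact (hp.coprime_iff_not_dvd.mpr hb).pow_left _
  obtain ⟨a, -, ha⟩ := (Nat.dvd_prime_pow hp).mp (show n ∣ p ^ (center G).index.primeFactorsList.length by
    rw [← hidx, ← hsizes x0 hx0c]
    exact index_dvd_of_le (center_le_centralizer _))
  refine ⟨p, inferInstance, a, ha, fun P => ⟨hnormal p P, ?_, ?_⟩⟩
  · let K : Subgroup G :=
      { carrier := {g | ¬ p ∣ orderOf g}
        one_mem' := by simp [hp.ne_one]
        mul_mem' := fun {u v} hu hv hd => by
          have := hd.trans (Commute.orderOf_mul_dvd_mul_orderOf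
            (show Commute u v from mem_center_iff.mp (hcentral v hv) u))
          exact (hp.dvd_mul.mp this).elim hu hv
        inv_mem' := fun {u} hu => by
          show ¬ p ∣ orderOf u⁻¹
          rwa [orderOf_inv] }
    have hKc : K ≤ center G := fun g hg => hcentral g hg
    refine ⟨K, ⟨fun u hu g => ?_⟩, ?_, ⟨⟨fun u v => Subtype.ext (mem_center_iff.mp (hKc v.2) u)⟩⟩,
      fun u hu v _ => (mem_center_iff.mp (hKc hu) v).symm⟩
    · rw [mem_center_iff.mp (hKc hu) g, mul_inv_cancel_right]; exact hu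
    haveI := hnormal p P
    refine isComplement'_of_disjoint_and_mul_eq_univ ?_ (Set.eq_univ_of_forall fun g => ?_)
    · rw [Subgroup.disjoint_def]
      exact fun {u} hu hu' => (RElem.of_mem P.isPGroup' hu').eq_one hu
    · obtain ⟨u, v, huv, -, -, hu, hv⟩ := exists_parts' (r := p) g
      refine ⟨v, hv, u, PTools69.mem_sylow_of_normalizes P ?_ hu, ?_⟩
      · rw [normalizer_eq_top]; trivial
      · rw [huv]; exact (mem_center_iff.mp (hcentral v hv) u).symm
  haveI hPn := hnormal p P
  obtain ⟨z, hzP, hz, hzp, hzc⟩ := exists_cen P (P : Subgroup G) le_rfl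
    (fun u hu v hv => mul_mem (mul_mem hu hv) (inv_mem hu))
    (by
      by_contra hc; push Not at hc; exact hncen p P hpd hc)
  have hzall : ∀ g : G, ⁅g, z⁆ ∈ center G := by
    intro g
    obtain ⟨u, v, huv, -, -, hu, hv⟩ := exists_parts' (r := p) g
    have huP : u ∈ (P : Subgroup G) :=
      PTools69.mem_sylow_of_normalizes P (by rw [normalizer_eq_top]; trivial) hu
    have hv1 : ⁅v, z⁆ = 1 :=
      commutatorElement_eq_one_iff_mul_comm.mpr (mem_center_iff.mp (hcentral v hv) z).symm
    rw [huv, comm_mul_left_central (by rw [hv1]; exact one_mem _), hv1, one_mul]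
    exact hzc u huP
  set W := centralizer ({z} : Set G) ⊓ centralizer (centralizer ({z} : Set G) : Set G) with hW
  have hCn : ∀ g u : G, u ∈ centralizer ({z} : Set G) → g * u * g⁻¹ ∈ centralizer ({z} : Set G) := by
    intro g u hu
    obtain ⟨c, hc, e⟩ := comm_mem_center_iff.mp (hzall g)
    have h1 := conj_mem_centralizer (g := g) hu
    rw [e, mem_Cx] at h1
    rw [mem_Cx]
    rw [← mul_assoc, mem_center_iff.mp hc, mul_assoc c z, mul_assoc c] at h1
    exact mul_left_cancel h1
  refine ⟨W.subgroupOf (P : Subgroup G), ⟨fun w hw g => ?_⟩, ⟨⟨fun u v => ?_⟩⟩, fun y => ?_⟩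
  · rw [mem_subgroupOf] at hw ⊢
    obtain ⟨hw1, hw2⟩ := mem_inf.mp hw
    refine mem_inf.mpr ⟨hCn g w hw1, mem_centralizer_iff.mpr fun v hv => ?_⟩
    have h1 := mem_centralizer_iff.mp hw2 _ (hCn (g : G)⁻¹ v hv)
    rw [inv_inv] at h1
    show v * ((g : G) * (w : G) * (g : G)⁻¹) = (g : G) * (w : G) * (g : G)⁻¹ * v
    calc v * ((g : G) * (w : G) * (g : G)⁻¹) = (g : G) * ((g : G)⁻¹ * v * g * w) * (g : G)⁻¹ := by group
      _ = (g : G) * ((w : G) * ((g : G)⁻¹ * v * g)) * (g : G)⁻¹ := by rw [h1]
      _ = (g : G) * (w : G) * (g : G)⁻¹ * v := by group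
  · obtain ⟨-, hv2⟩ := mem_inf.mp (mem_subgroupOf.mp v.2)
    exact Subtype.ext (Subtype.ext (mem_centralizer_iff.mp hv2 _ (mem_inf.mp (mem_subgroupOf.mp u.2)).1))
  · rw [mem_subgroupOf, coe_pow]
    by_cases hyp : (y : G) ^ p ∈ center G
    · exact mem_inf.mpr ⟨center_le_Cx z hyp, center_le_centralizer _ hyp⟩
    have hy : (y : G) ∉ center G := fun hc => hyp (pow_mem hc p)
    have hzy : ⁅z, (y : G)⁆ ∈ center G := comm_swap.mp (hzall _)
    obtain ⟨c, hc, e⟩ := pow_mul_central hzy p
    have e1 := heq _ _ hy hyp (centralizer_le_of_mem_zpowers (pow_mem (mem_zpowers _) p))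
    have hwp : ((y : G) * z) ^ p ∉ center G := fun hh => by
      rw [e] at hh
      exact hyp ((mul_mem_cancel_right hzp).mp ((mul_mem_cancel_left hc).mp hh))
    have hw : (y : G) * z ∉ center G := fun hh => hwp (pow_mem hh p)
    have hle : centralizer ({((y : G) * z) ^ p} : Set G) ≤ centralizer ({(y : G) ^ p} : Set G) := by
      intro u hu
      have hu' := mem_Cx.mp hu
      rw [e] at hu'
      have h1 : Commute u ((y : G) ^ p * z ^ p) := by
        have h2 : u * c = c * u := mem_center_iff.mp hc u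
        show u * ((y : G) ^ p * z ^ p) = (y : G) ^ p * z ^ p * u
        rw [← mul_assoc u c, h2, mul_assoc c u, mul_assoc c] at hu'
        exact mul_left_cancel hu'
      have h3 := h1.mul_right (show Commute u (z ^ p)⁻¹ from mem_center_iff.mp (inv_mem hzp) u)
      rw [mul_inv_cancel_right] at h3
      exact mem_Cx.mpr h3.eq
    have e2 : centralizer ({(y : G) * z} : Set G) = centralizer ({(y : G)} : Set G) := by
      rw [heq _ _ hw hwp (centralizer_le_of_mem_zpowers (pow_mem (mem_zpowers _) p)), heq _ _ hwp hyp hle, e1]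
    have e3 : centralizer ({(y : G)} : Set G) = centralizer ({z} : Set G) := by
      refine heq _ _ hy hz fun u hu => ?_
      have h1 : Commute u (y : G) := mem_Cx.mp hu
      have h2 : Commute u ((y : G) * z) := mem_Cx.mp (e2.symm ▸ hu)
      have h3 := h1.inv_right.mul_right h2
      rw [inv_mul_cancel_left] at h3
      exact mem_Cx.mpr h3.eq
    refine pow_mem (mem_inf.mpr ⟨e3 ▸ mem_Cx.mpr rfl, mem_centralizer_iff.mpr fun u hu => ?_⟩) p
    rw [SetLike.mem_coe, ← e3] at hu
    exact mem_Cx.mp hu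

end Cfsg.Agent.S4134
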