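import Cfsg.Statements.S0505
import Cfsg.Agent.PLocal.PSolvable
import Cfsg.Agent.Coprime.PTimesQ

set_option autoImplicit false
open Cfsg CfsgLib
open scoped Pointwise commutatorElement

namespace Cfsg.Agent.S0505

/-- Let G be a finite group of even order in which the centralizer of every involution is solvable and has trivial
core (no nontrivial normal subgroup of odd order). Then G is of characteristic 2 type. -/
theorem result {G : Type*} [Group G] [Finite G]
    (h2 : Even (Nat.card G))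
    (hs : ∀ t : G, orderOf t = 2 → Group.IsSolvable (Subgroup.centralizer ({t} : Set G)))
    (hc : ∀ t : G, orderOf t = 2 → Cfsg.oddCore (Subgroup.centralizer ({t} : Set G)) = ⊥) :
    Cfsg.IsCharacteristicTwoType G := by
  classical
  refine ⟨h2, fun T hT hT1 => ?_⟩
  -- an involution `z` in the centre of `T`
  obtain ⟨z, hz, hzT, hzc⟩ : ∃ z : G, orderOf z = 2 ∧ z ∈ T ∧ ∀ x ∈ T, x * z = z * x := by
    have : Nontrivial T := T.nontrivial_iff_ne_bot.mpr hT1
    have := hT.center_nontrivial
    obtain ⟨k, hk⟩ := IsPGroup.iff_card.1 (hT.to_subgroup (Subgroup.center T))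
    have hd : 2 ∣ Nat.card (Subgroup.center T) := by
      rcases k with _ | k
      · exact absurd hk (by simpa using (Finite.one_lt_card (α := Subgroup.center T)).ne')
      · exact hk ▸ dvd_pow_self 2 (Nat.succ_ne_zero k)
    obtain ⟨w, hw⟩ := exists_prime_orderOf_dvd_card' 2 hd
    refine ⟨((w : T) : G), by rwa [Subgroup.orderOf_coe, Subgroup.orderOf_coe], (w : T).2, fun x hx => ?_⟩
    exact congrArg Subtype.val (Subgroup.mem_center_iff.mp w.2 ⟨x, hx⟩)
  set D := Subgroup.centralizer ({z} : Set G) with hD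
  have hTD : T ≤ D := fun x hx => Subgroup.mem_centralizer_singleton_iff.mpr (hzc x hx)
  have hsD := hs z hz
  have hOD := hc z hz
  set R : Subgroup G := (Cfsg.pCore 2 D).map D.subtype with hR
  have hR2 : IsPGroup 2 R := (PLocal.isPGroup_pCore 2 D).map _
  have hDR : D ≤ Subgroup.normalizer (R : Set G) := by
    refine Subgroup.le_normalizer_iff_commutator_le_left.mpr ?_
    rw [Subgroup.commutator_le]
    rintro _ ⟨r, hr, rfl⟩ d hd
    refine ⟨⁅r, (⟨d, hd⟩ : D)⁆, ?_, by simp [commutatorElement_def]⟩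
    have hn : (Cfsg.pCore 2 D).Normal := inferInstance
    have : (⟨d, hd⟩ : D) * r⁻¹ * (⟨d, hd⟩ : D)⁻¹ ∈ Cfsg.pCore 2 D := hn.conj_mem _ (inv_mem hr) _
    have h' := mul_mem hr this
    simpa [commutatorElement_def, mul_assoc] using h'
  have hself : ∀ x ∈ D, x ∈ Subgroup.centralizer (R : Set G) → x ∈ R := by
    intro x hx hxR
    refine ⟨⟨x, hx⟩, ?_, rfl⟩
    refine PLocal.centralizer_pCore_le (p := 2) (PLocal.isPSolvable_of_isSolvable) hOD ?_
    intro r hr
    exact Subtype.ext (hxR r ⟨r, hr, rfl⟩)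
  -- `X = C(T)` is solvable with trivial core
  set X := Subgroup.centralizer (T : Set G) with hX
  have hXD : X ≤ D := fun x hx => Subgroup.mem_centralizer_singleton_iff.mpr (hx z hzT).symm
  have hXsol : Group.IsSolvable X :=
    Group.isSolvable_of_isSolvable_injective (Subgroup.inclusion_injective hXD)
  have hOX : Cfsg.oddCore X = ⊥ := by
    set W : Subgroup G := (Cfsg.oddCore X).map X.subtype with hW
    have hWX : W ≤ X := Subgroup.map_subtype_le _
    have hWc : (Nat.card W).Coprime 2 := by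
      rw [hW, Subgroup.card_subtype]
      exact PLocal.coprime_card_pPrimeCore 2 X
    have hWR : ∀ r ∈ R ⊓ X, ∀ w ∈ W, r * w * r⁻¹ * w⁻¹ ∈ R ⊓ W := by
      rintro r ⟨hrR, hrX⟩ w hw
      have hwD := hXD (hWX hw)
      refine ⟨?_, ?_⟩
      · rw [mul_assoc r, mul_assoc r]
        exact mul_mem hrR ((Subgroup.mem_normalizer_iff.mp (hDR hwD) r⁻¹).mp (inv_mem hrR))
      · obtain ⟨w₀, hw₀, rfl⟩ := hw
        refine ⟨⟨r, hrX⟩ * w₀ * (⟨r, hrX⟩ : X)⁻¹ * w₀⁻¹, ?_, by simp⟩
        have hn : (Cfsg.oddCore X).Normal := inferInstance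
        exact mul_mem (hn.conj_mem _ hw₀ _) (inv_mem hw₀)
    have hWbot : R ⊓ W = ⊥ := PLocal.disjoint_of_isPGroup_of_coprime hR2 hWc
    have key : W ≤ Subgroup.centralizer (R : Set G) := by
      refine CfsgLib.Coprime.le_centralizer_of_inf_centralizer_le (p := 2) hT hWc hR2
        (fun t ht w hw => (hWX hw t ht).symm) (hTD.trans hDR) ((hWX.trans hXD).trans hDR) ?_
      rintro r ⟨hrR, hrT⟩ w hw
      have := hWR r ⟨hrR, hrT⟩ w hw
      rw [hWbot, Subgroup.mem_bot, mul_inv_eq_one, mul_inv_eq_iff_eq_mul] at this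
      exact this.symm
    have hle : W ≤ R := fun w hw => hself w (hXD (hWX hw)) (key hw)
    have hWe : W = ⊥ := by rwa [inf_eq_right.mpr hle] at hWbot
    exact (Subgroup.map_eq_bot_iff_of_injective _ X.subtype_injective).mp hWe
  -- conclusion in `H = N(T)`
  set H := Subgroup.normalizer (T : Set G) with hH
  have hTH : T ≤ H := Subgroup.le_normalizer
  have hXH : X ≤ H := Subgroup.centralizer_le_normalizer _
  have hTO : T.subgroupOf H ≤ Cfsg.pCore 2 H := by
    have : (T.subgroupOf H).Normal := Subgroup.normal_subgroupOf_of_le_normalizer le_rfl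
    exact PLocal.le_pCore hT.comap_subtype
  have hXnorm : (X.subgroupOf H).Normal := by
    refine ⟨fun x hx h => ?_⟩
    rw [Subgroup.mem_subgroupOf] at hx ⊢
    intro t ht
    have ht' : (h : G)⁻¹ * t * h ∈ T := by
      have := (Subgroup.mem_normalizer_iff.mp (inv_mem h.2) t).mp ht
      simpa using this
    have h' := hx _ ht'
    show t * ((h : G) * x * (h : G)⁻¹) = (h : G) * x * (h : G)⁻¹ * t
    calc t * ((h : G) * x * (h : G)⁻¹) = h * (((h : G)⁻¹ * t * h) * x) * (h : G)⁻¹ := by group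
      _ = (h : G) * x * (h : G)⁻¹ * t := by rw [h']; group
  intro k hk
  have hkX : (k : G) ∈ X := fun t ht =>
    congrArg Subtype.val (hk ⟨t, hTH ht⟩ (hTO ht))
  set Y := X.subgroupOf H with hY
  have e : Y ≃* X := Subgroup.subgroupOfEquivOfLe hXH
  have hYsol : Group.IsSolvable Y :=
    Group.isSolvable_of_isSolvable_injective (f := e.toMonoidHom) e.injective
  have hOY : Cfsg.oddCore Y = ⊥ := by
    have := PLocal.map_pPrimeCore_equiv (p := 2) e
    rw [show Cfsg.pPrimeCore 2 X = ⊥ from hOX] at this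
    exact (Subgroup.map_eq_bot_iff_of_injective _ e.injective).mp this
  have hkY : (⟨k, hkX⟩ : Y) ∈ Cfsg.pCore 2 Y := by
    refine PLocal.centralizer_pCore_le (p := 2) PLocal.isPSolvable_of_isSolvable hOY ?_
    intro y hy
    exact Subtype.ext (hk _ (PLocal.pCore_map_subtype_le Y ⟨y, hy, rfl⟩))
  exact PLocal.pCore_map_subtype_le Y ⟨_, hkY, rfl⟩

end Cfsg.Agent.S0505
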