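import Cfsg.Statements.S0221
import Cfsg.Agent.Small.NormalFour
import Cfsg.Agent.Small.ThompsonTransfer
import Cfsg.Agent.Small.KleinSylow

set_option autoImplicit false
open Cfsg

namespace Cfsg.Agent.S0221

/-- Let G be a finite group with no subgroup of index 2 whose 2-rank is at least 3 (it contains an elementary abelian subgroup of order 8). Then the centralizer of every involution of G also contains an elementary abelian subgroup of order 8. -/
theorem result {G : Type*} [Group G] [Finite G] (hno : ∀ H : Subgroup G, H.index ≠ 2) (hrank : ∃ E : Subgroup G, Nat.card E = 8 ∧ ∀ e ∈ E, e ^ 2 = 1) (x : G) (hx : orderOf x = 2) : ∃ E : Subgroup G, E ≤ Subgroup.centralizer ({x} : Set G) ∧ Nat.card E = 8 ∧ ∀ e ∈ E, e ^ 2 = 1 := by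
  classical
  haveI : Fact (Nat.Prime 2) := ⟨Nat.prime_two⟩
  obtain ⟨E, hE, hE2⟩ := hrank
  obtain ⟨S, hS⟩ := (IsPGroup.of_card (n := 3) (by rw [hE]; rfl) : IsPGroup 2 E).exists_le_sylow
  obtain ⟨U₀, hU₀n, hU₀c, hU₀2⟩ := CfsgLib.Small.exists_normal_four (G := ↥(S : Subgroup G))
    S.isPGroup' (E := E.subgroupOf (S : Subgroup G))
    (by rw [Nat.card_congr (Subgroup.subgroupOfEquivOfLe hS).toEquiv, hE])
    (fun e he => Subtype.ext (hE2 _ he))
  let U : Subgroup G := U₀.map (S : Subgroup G).subtype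
  have hUS : U ≤ (S : Subgroup G) := Subgroup.map_subtype_le _
  have hUc : Nat.card U = 4 := by
    rw [← hU₀c]
    exact Nat.card_congr (U₀.equivMapOfInjective _ (S : Subgroup G).subtype_injective).symm.toEquiv
  have hU2 : ∀ u ∈ U, u * u = 1 := by
    rintro _ ⟨u, hu, rfl⟩
    rw [← sq, ← map_pow, hU₀2 u hu, map_one]
  have hUn : ∀ a ∈ (S : Subgroup G), ∀ u ∈ U, a * u * a⁻¹ ∈ U := by
    rintro a ha _ ⟨u, hu, rfl⟩
    exact ⟨_, hU₀n.conj_mem u hu ⟨a, ha⟩, rfl⟩
  have hUab : ∀ u ∈ U, ∀ v ∈ U, u * v = v * u := by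
    intro u hu v hv
    have h1 : u⁻¹ = u := inv_eq_of_mul_eq_one_right (hU2 u hu)
    have h2 : v⁻¹ = v := inv_eq_of_mul_eq_one_right (hU2 v hv)
    have h3 : (u * v)⁻¹ = u * v := inv_eq_of_mul_eq_one_right (hU2 _ (mul_mem hu hv))
    rw [mul_inv_rev, h1, h2] at h3
    exact h3.symm
  -- `T = C_S(U)` has index at most two in `S`
  let T : Subgroup G := (S : Subgroup G) ⊓ Subgroup.centralizer (U : Set G)
  haveI hU₀ : Nontrivial U₀ := Finite.one_lt_card_iff_nontrivial.1 (by omega)
  obtain ⟨z₀, hz₀, hz₀c, hz₀o⟩ := CfsgLib.Small.exists_central_invol_mem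
    (G := ↥(S : Subgroup G)) S.isPGroup' U₀ ((Subgroup.nontrivial_iff_ne_bot U₀).1 hU₀)
  let z : G := z₀
  have hzU : z ∈ U := ⟨z₀, hz₀, rfl⟩
  have hz1 : z ≠ 1 := fun h => CfsgLib.Small.ne_one_of_orderOf_two hz₀o (Subtype.ext h)
  have hzS : ∀ a ∈ (S : Subgroup G), a * z * a⁻¹ = z := fun a ha => by
    have := congrArg Subtype.val (Subgroup.mem_center_iff.1 hz₀c ⟨a, ha⟩)
    exact mul_inv_eq_iff_eq_mul.2 this
  have hUK : IsKleinFour U :=
    { card_four := hUc
      exponent_two := by
        haveI : Nontrivial U := Finite.one_lt_card_iff_nontrivial.1 (by omega)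
        refine (Monoid.exponent_eq_prime_iff Nat.prime_two).2 fun u hu => ?_
        exact CfsgLib.Small.orderOf_eq_two_iff_sq.2 ⟨hu, Subtype.ext (hU2 _ u.2)⟩ }
  obtain ⟨e, he, he1, hez⟩ : ∃ e ∈ U, e ≠ 1 ∧ e ≠ z := by
    by_contra hcon
    push Not at hcon
    have hle : Nat.card U ≤ 2 := by
      have h2 : Nat.card ({1, z} : Set G) = 2 := by
        rw [Nat.card_coe_set_eq, Set.ncard_pair hz1.symm]
      rw [← h2]
      refine Nat.card_le_card_of_injective (fun u => ⟨u.1, ?_⟩)
        fun a b h => Subtype.ext (congrArg Subtype.val h :)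
      by_cases h : (u : G) = 1
      · exact Or.inl h
      · exact Or.inr (hcon u u.2 h)
    omega
  have hcases : ∀ u ∈ U, u = 1 ∨ u = z ∨ u = e ∨ u = z * e := fun u hu =>
    CfsgLib.Small.kleinFour_cases hUK hzU he hu hz1 he1 (Ne.symm hez)
  have hTiff : ∀ a ∈ (S : Subgroup G), a ∈ T ↔ a * e * a⁻¹ = e := by
    intro a ha
    constructor
    · intro h
      exact mul_inv_eq_iff_eq_mul.2 (Subgroup.mem_centralizer_iff.1 h.2 e he).symm
    · intro h
      refine ⟨ha, Subgroup.mem_centralizer_iff.2 fun u hu => ?_⟩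
      have hz' := hzS a ha
      rcases hcases u hu with rfl | rfl | rfl | rfl
      · simp
      · exact (mul_inv_eq_iff_eq_mul.1 hz').symm
      · exact (mul_inv_eq_iff_eq_mul.1 h).symm
      · refine (mul_inv_eq_iff_eq_mul.1 ?_).symm
        rw [← conj_mul, hz', h]
  have hT2 : T.relIndex (S : Subgroup G) ≤ 2 := by
    show (T.subgroupOf (S : Subgroup G)).index ≤ 2
    rw [Subgroup.index_eq_card]
    have hfib : ∀ a b : ↥(S : Subgroup G), (a : ↥(S : Subgroup G) ⧸ T.subgroupOf (S : Subgroup G)) = b ↔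
        (a : G) * e * (a : G)⁻¹ = b * e * (b : G)⁻¹ := by
      intro a b
      rw [QuotientGroup.eq, Subgroup.mem_subgroupOf, hTiff _ (SetLike.coe_mem (a⁻¹ * b))]
      push_cast
      constructor
      · intro h
        calc (a : G) * e * (a : G)⁻¹ = a * ((a : G)⁻¹ * b * e * ((a : G)⁻¹ * b)⁻¹) * (a : G)⁻¹ := by
              rw [h]
          _ = b * e * (b : G)⁻¹ := by group
      · intro h
        calc (a : G)⁻¹ * b * e * ((a : G)⁻¹ * b)⁻¹ = (a : G)⁻¹ * (b * e * (b : G)⁻¹) * a := by group
          _ = e := by rw [← h]; group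
    have h2 : Nat.card ({e, z * e} : Set G) = 2 := by
      rw [Nat.card_coe_set_eq, Set.ncard_pair (fun h => hz1 (mul_eq_right.1 h.symm))]
    refine le_trans ?_ h2.le
    refine Nat.card_le_card_of_injective (fun q => q.liftOn'
      (fun a => (⟨(a : G) * e * (a : G)⁻¹, ?_⟩ : ({e, z * e} : Set G)))
      (fun a b h => Subtype.ext ((hfib a b).1 (Quotient.sound h)))) ?_
    · rcases hcases _ (hUn a a.2 e he) with h | h | h | h
      · exact absurd (conj_eq_one_iff.1 h) he1
      · exact absurd (mul_left_cancel (mul_right_cancel (h.trans (hzS a a.2).symm))) hez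
      · exact Or.inl h
      · exact Or.inr h
    · intro q q'
      induction q using QuotientGroup.induction_on with
      | _ a =>
        induction q' using QuotientGroup.induction_on with
        | _ b => exact fun h => (hfib a b).2 (congrArg Subtype.val h)
  -- `x` is conjugate into `T`
  obtain ⟨g, hgT⟩ : ∃ g : G, g⁻¹ * x * g ∈ T := by
    by_cases hTS : (S : Subgroup G) ≤ T
    · obtain ⟨g, hg⟩ := CfsgLib.Small.exists_conj_mem_sylow S hx
      exact ⟨g⁻¹, by rw [inv_inv]; exact hTS hg⟩
    · refine CfsgLib.Small.thompson_transfer_sylow hno S T inf_le_left ?_ hx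
      have h0 : T.relIndex (S : Subgroup G) ≠ 0 := Subgroup.index_ne_zero_of_finite
      have h1 : T.relIndex (S : Subgroup G) ≠ 1 := fun h => hTS (Subgroup.relIndex_eq_one.1 h)
      omega
  -- enlarge `U` by an involution centralising it
  have hext : ∀ w : G, w ∉ U → w * w = 1 → (∀ u ∈ U, u * w = w * u) →
      ∃ W : Subgroup G, Nat.card W = 8 ∧ (∀ v ∈ W, v * v = 1) ∧ U ≤ W ∧ w ∈ W ∧
        (∀ v ∈ W, ∀ v' ∈ W, v * v' = v' * v) := by
    intro w hw hw2 hwc
    have hmul : ∀ a b c d : G, b * c = c * b → a * b * (c * d) = a * c * (b * d) := fun a b c d h =>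
      (show Commute b c from h).mul_mul_mul_comm a d
    let W : Subgroup G :=
      { carrier := {v | v ∈ U ∨ v * w ∈ U}
        one_mem' := Or.inl (one_mem U)
        inv_mem' := by
          intro v hv
          rcases hv with hv | hv
          · exact Or.inl (inv_mem hv)
          · right
            have hc := hwc _ hv
            have hvv : v⁻¹ * w = (v * w)⁻¹ := by
              rw [mul_inv_rev, eq_inv_mul_iff_mul_eq]
              have : v * w * w = w * (v * w) := hc
              rw [mul_assoc v w w, hw2, mul_one] at this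
              rw [show w * (v⁻¹ * w) = (w * (v⁻¹ * w)) from rfl]
              calc w * (v⁻¹ * w) = w * v⁻¹ * (w * w) * w := by rw [hw2]; group
                _ = v⁻¹ := by
                  have hvw : w * v⁻¹ = v⁻¹ * w := by
                    rw [eq_inv_mul_iff_mul_eq, ← mul_assoc, mul_inv_eq_iff_eq_mul]
                    calc v * w = v * w := rfl
                      _ = w * v := by
                        conv_rhs => rw [this]
                        rw [← mul_assoc, ← mul_assoc, hw2, one_mul]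
                  rw [hw2, mul_one, hvw, mul_assoc, hw2, mul_one]
            show v⁻¹ * w ∈ U
            rw [hvv]
            exact inv_mem hv
        mul_mem' := by
          intro v v' hv hv'
          rcases hv with hv | hv <;> rcases hv' with hv' | hv'
          · exact Or.inl (mul_mem hv hv')
          · exact Or.inr (show v * v' * w ∈ U by rw [mul_assoc]; exact mul_mem hv hv')
          · right
            show v * v' * w ∈ U
            rw [mul_assoc, hwc v' hv', ← mul_assoc]
            exact mul_mem hv hv'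
          · left
            have h := mul_mem hv hv'
            rw [show v * w * (v' * w) = v * v' from ?_] at h
            · exact h
            · have hc := hwc _ hv'
              calc v * w * (v' * w) = v * (v' * w * w) := by rw [mul_assoc v w, ← hc]
                _ = v * v' := by rw [mul_assoc v' w w, hw2, mul_one] }
    have hUW : U ≤ W := fun u hu => Or.inl hu
    have hwW : w ∈ W := Or.inr (show w * w ∈ U by rw [hw2]; exact one_mem U)
    have hWc : ∀ v ∈ W, ∀ v' ∈ W, v * v' = v' * v := by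
      have h1 : ∀ v ∈ W, ∃ u ∈ U, v = u ∨ v = u * w := fun v hv => by
        rcases hv with hv | hv
        · exact ⟨v, hv, Or.inl rfl⟩
        · exact ⟨_, hv, Or.inr (by rw [mul_assoc, hw2, mul_one])⟩
      intro v hv v' hv'
      obtain ⟨u, hu, hvu⟩ := h1 v hv
      obtain ⟨u', hu', hvu'⟩ := h1 v' hv'
      have c1 : Commute u u' := hUab u hu u' hu'
      have c2 : Commute u w := hwc u hu
      have c3 : Commute u' w := hwc u' hu'
      rcases hvu with rfl | rfl <;> rcases hvu' with rfl | rfl
      · exact c1.eq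
      · exact (c1.mul_right c2).eq
      · exact (c1.mul_left c3.symm).eq
      · exact ((c1.mul_right c2).mul_left (c3.symm.mul_right (Commute.refl w))).eq
    refine ⟨W, ?_, fun v hv => ?_, hUW, hwW, hWc⟩
    · have e1 : Nat.card W = Nat.card ({v : G // v ∈ U} ⊕ {v : G // v * w ∈ U}) :=
        Nat.card_congr (subtypeOrEquiv _ _ (by
          rw [disjoint_iff_inf_le]
          rintro v ⟨h1, h2⟩
          exact hw (by simpa using mul_mem (inv_mem h1) h2)))
      rw [e1, Nat.card_sum, show Nat.card {v : G // v * w ∈ U} = Nat.card {v : G // v ∈ U} from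
        Nat.card_congr ((Equiv.mulRight w).subtypeEquiv fun v => Iff.rfl)]
      have : Nat.card {v : G // v ∈ U} = 4 := hUc
      omega
    · rcases hv with hv | hv
      · exact hU2 v hv
      · have h1 := hU2 _ hv
        rw [hmul v w v w (hWc w hwW v (Or.inr hv)), hw2, mul_one] at h1
        exact h1
  -- an elementary abelian subgroup of order eight containing `U`
  obtain ⟨W, hW8, hW2, hUW, -, hWc⟩ : ∃ W : Subgroup G, Nat.card W = 8 ∧ (∀ v ∈ W, v * v = 1) ∧
      U ≤ W ∧ True ∧ (∀ v ∈ W, ∀ v' ∈ W, v * v' = v' * v) := by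
    by_contra hcon
    have hsub : E ⊓ T ≤ U := fun w hw => by
      by_contra hwU
      obtain ⟨W, h1, h2, h3, -, h5⟩ := hext w hwU (by rw [← sq]; exact hE2 w hw.1)
        (fun u hu => Subgroup.mem_centralizer_iff.1 hw.2.2 u hu)
      exact hcon ⟨W, h1, h2, h3, trivial, h5⟩
    have hidx : T.relIndex E ≤ 2 :=
      le_trans (Subgroup.relIndex_le_of_le_right hS Subgroup.index_ne_zero_of_finite) hT2
    have hmul := Subgroup.card_mul_index ((E ⊓ T).subgroupOf E)
    rw [Nat.card_congr (Subgroup.subgroupOfEquivOfLe inf_le_left).toEquiv] at hmul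
    have hri : ((E ⊓ T).subgroupOf E).index = T.relIndex E := by
      show (E ⊓ T).relIndex E = _
      rw [inf_comm, Subgroup.inf_relIndex_right]
    rw [hri, hE] at hmul
    have h4 : 4 ≤ Nat.card ↥(E ⊓ T) := by nlinarith
    have hUET : E ⊓ T = U := Subgroup.eq_of_le_of_card_ge hsub (by omega)
    have hET : E ≤ T := fun a ha => ⟨hS ha, Subgroup.mem_centralizer_iff.2 fun u hu => by
      have huE : u ∈ E := (hUET.symm ▸ hu : u ∈ E ⊓ T).1
      have h1 : (u * a)⁻¹ = u * a := inv_eq_of_mul_eq_one_right (by rw [← sq]; exact hE2 _ (mul_mem huE ha))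
      rw [mul_inv_rev, inv_eq_of_mul_eq_one_right (show a * a = 1 by rw [← sq]; exact hE2 a ha),
        inv_eq_of_mul_eq_one_right (hU2 u hu)] at h1
      exact h1.symm⟩
    rw [inf_eq_left.2 hET] at hUET
    rw [hUET, hUc] at hE
    omega
  obtain ⟨W', hW'8, hW'2, hxW', hW'c⟩ : ∃ W' : Subgroup G, Nat.card W' = 8 ∧
      (∀ v ∈ W', v * v = 1) ∧ g⁻¹ * x * g ∈ W' ∧ (∀ v ∈ W', ∀ v' ∈ W', v * v' = v' * v) := by
    by_cases hxU : g⁻¹ * x * g ∈ U
    · exact ⟨W, hW8, hW2, hUW hxU, hWc⟩
    · obtain ⟨W', h1, h2, -, h4, h5⟩ := hext _ hxU (by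
        calc g⁻¹ * x * g * (g⁻¹ * x * g) = g⁻¹ * (x * x) * g := by group
          _ = 1 := by rw [CfsgLib.Small.mul_self_of_orderOf_two hx]; group)
        (fun u hu => Subgroup.mem_centralizer_iff.1 hgT.2 u hu)
      exact ⟨W', h1, h2, h4, h5⟩
  refine ⟨W'.map (MulAut.conj g).toMonoidHom, ?_, ?_, ?_⟩
  · rintro _ ⟨v, hv, rfl⟩
    rw [Subgroup.mem_centralizer_singleton_iff]
    show g * v * g⁻¹ * x = x * (g * v * g⁻¹)
    calc g * v * g⁻¹ * x = g * (v * (g⁻¹ * x * g)) * g⁻¹ := by group
      _ = x * (g * v * g⁻¹) := by rw [hW'c v hv _ hxW']; group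
  · rw [← hW'8]
    exact Nat.card_congr (W'.equivMapOfInjective _ (MulAut.conj g).injective).symm.toEquiv
  · rintro _ ⟨v, hv, rfl⟩
    rw [← map_pow, sq, hW'2 v hv, map_one]

end Cfsg.Agent.S0221
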