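import Cfsg.Statements.S2638


set_option autoImplicit false
open Cfsg

namespace Cfsg.Agent.S2638

open Polynomial Matrix

theorem centralizer_primitive {F : Type*} [Field F] [Fintype F] {p q : ℕ} [Fact p.Prime] [CharP F p]
    (hF : Fintype.card F = q) {n r : ℕ} (hn : 1 ≤ n) (hr : r.Prime) (hrp : r ≠ p)
    (hi : orderOf (q : ZMod r) = n) (x : GL (Fin n) F) (hx : orderOf x = r) :
    IsCyclic ↥(Subgroup.centralizer ({x} : Set (GL (Fin n) F))) ∧
      Nat.card ↥(Subgroup.centralizer ({x} : Set (GL (Fin n) F))) = q ^ n - 1 := by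
  classical
  have : Fact r.Prime := ⟨hr⟩
  set M := (x : Matrix (Fin n) (Fin n) F) with hM
  have hxr : M ^ r = 1 := by
    rw [hM, ← Units.val_pow_eq_pow_val, ← hx, pow_orderOf_eq_one, Units.val_one]
  have hM1 : M ≠ 1 := fun h => hr.one_lt.ne' (hx.symm.trans (orderOf_eq_one_iff.2 (Units.ext h)))
  have hr0 : (r : F) ≠ 0 := fun h => hrp (((Nat.prime_dvd_prime_iff_eq Fact.out hr).1
    ((CharP.cast_eq_zero_iff F p r).1 h))).symm
  have hint : IsIntegral F M := Algebra.IsIntegral.isIntegral M
  -- an irreducible factor other than `X - 1`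
  obtain ⟨f, hf, hfμ, hfG⟩ : ∃ f, Irreducible f ∧ f ∣ minpoly F M ∧ f ∣ ∑ i ∈ Finset.range r, (X : F[X]) ^ i := by
    have hnc : ¬ IsCoprime (minpoly F M) (∑ i ∈ Finset.range r, (X : F[X]) ^ i) := by
      intro hco
      refine hM1 (sub_eq_zero.1 ?_)
      have hμdvd : minpoly F M ∣ (∑ i ∈ Finset.range r, (X : F[X]) ^ i) * (X - 1) := by
        rw [geom_sum_mul]; exact minpoly.dvd F M (by simp [hxr])
      obtain ⟨k, hk⟩ := hco.dvd_of_dvd_mul_left hμdvd
      have := congrArg (Polynomial.aeval M) hk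
      rwa [map_mul, minpoly.aeval, zero_mul, map_sub, aeval_X, map_one] at this
    rw [← EuclideanDomain.gcd_isUnit_iff] at hnc
    obtain ⟨f, hf, hfd⟩ := WfDvdMonoid.exists_irreducible_factor hnc
      (by rw [Ne, EuclideanDomain.gcd_eq_zero_iff]; exact fun h => minpoly.ne_zero hint h.1)
    exact ⟨f, hf, hfd.trans (EuclideanDomain.gcd_dvd_left _ _), hfd.trans (EuclideanDomain.gcd_dvd_right _ _)⟩
  have hf1 : ¬ f ∣ X - 1 := by
    intro h
    have hX : Irreducible (X - C (1 : F)) := irreducible_X_sub_C 1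
    rw [map_one] at hX
    have h1 : (X - 1 : F[X]) ∣ ∑ i ∈ Finset.range r, X ^ i := (hf.associated_of_dvd hX h).symm.dvd.trans hfG
    obtain ⟨k, hk⟩ := h1
    have := congrArg (Polynomial.eval (1 : F)) hk
    simp [eval_finset_sum] at this
    exact hr0 this
  have : Fact (Irreducible f) := ⟨hf⟩
  have hfd : f.natDegree ≤ n := by
    have h1 := natDegree_le_of_dvd hfμ (minpoly.ne_zero hint)
    have h2 := natDegree_le_of_dvd (Matrix.minpoly_dvd_charpoly M) (Matrix.charpoly_monic M).ne_zero
    rw [Matrix.charpoly_natDegree_eq_dim, Fintype.card_fin] at h2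
    omega
  let L := AdjoinRoot f
  let pb := AdjoinRoot.powerBasis hf.ne_zero
  have : Module.Finite F L := pb.finite
  have : Finite L := Module.finite_of_finite F
  have : Fintype L := Fintype.ofFinite L
  have hcardL : Nat.card L = q ^ f.natDegree := by
    rw [Module.natCard_eq_pow_finrank (K := F), Nat.card_eq_fintype_card, hF, pb.finrank]
    rfl
  have hq : 2 ≤ q := hF ▸ Fintype.one_lt_card
  set θ : L := AdjoinRoot.root f with hθdef
  have hθr : θ ^ r = 1 := by
    obtain ⟨k, hk⟩ : f ∣ X ^ r - 1 := geom_sum_mul (X : F[X]) r ▸ hfG.mul_right (X - 1)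
    have := congrArg (Polynomial.aeval θ) hk
    rw [map_mul, map_sub, map_pow, aeval_X, map_one] at this
    rw [hθdef, AdjoinRoot.aeval_eq f, AdjoinRoot.mk_self, zero_mul, sub_eq_zero] at this
    exact this
  have hθ1 : θ ≠ 1 := fun h => hf1 (AdjoinRoot.mk_eq_zero.1 (by
    rw [map_sub, AdjoinRoot.mk_X, map_one, ← hθdef, h, sub_self]))
  have hθ0 : θ ≠ 0 := fun h => by rw [h, zero_pow hr.ne_zero] at hθr; exact zero_ne_one hθr
  have hord : orderOf θ = r := orderOf_eq_prime hθr hθ1
  have hdeg : f.natDegree = n := by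
    refine le_antisymm hfd ?_
    have hdvd : r ∣ q ^ f.natDegree - 1 := by
      rw [← hcardL, Nat.card_eq_fintype_card, ← hord, orderOf_dvd_iff_pow_eq_one]
      exact FiniteField.pow_card_sub_one_eq_one θ hθ0
    have hpow : (q : ZMod r) ^ f.natDegree = 1 := by
      have h1 : ((q ^ f.natDegree - 1 : ℕ) : ZMod r) = 0 := (CharP.cast_eq_zero_iff (ZMod r) r _).2 hdvd
      rw [Nat.cast_sub (Nat.one_le_pow _ _ (by omega)), Nat.cast_pow, Nat.cast_one, sub_eq_zero] at h1
      exact h1
    rw [← hi]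
    exact Nat.le_of_dvd hf.natDegree_pos (orderOf_dvd_of_pow_eq_one hpow)
  have hfM : Polynomial.aeval M f = 0 := by
    obtain ⟨k, hk⟩ := hfμ
    have hk0 : k.natDegree = 0 := by
      have h1 := congrArg natDegree hk
      have hne : f ≠ 0 ∧ k ≠ 0 := mul_ne_zero_iff.1 (hk ▸ minpoly.ne_zero hint)
      rw [natDegree_mul hne.1 hne.2] at h1
      have h2 := natDegree_le_of_dvd (Matrix.minpoly_dvd_charpoly M) (Matrix.charpoly_monic M).ne_zero
      rw [Matrix.charpoly_natDegree_eq_dim, Fintype.card_fin] at h2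
      omega
    obtain ⟨c, rfl⟩ := natDegree_eq_zero.1 hk0
    have hc : c ≠ 0 := fun h => minpoly.ne_zero hint (by rw [hk, h, map_zero, mul_zero])
    have := congrArg (Polynomial.aeval M) hk
    rw [minpoly.aeval, map_mul, aeval_C, ← Algebra.commutes, ← Algebra.smul_def] at this
    exact (smul_eq_zero.1 this.symm).resolve_left hc
  have : Nonempty (Fin n) := ⟨⟨0, hn⟩⟩
  have hker : ∀ a ∈ Ideal.span ({f} : Set F[X]), Polynomial.aeval M a = 0 := fun a ha => by
    obtain ⟨k, rfl⟩ := Ideal.mem_span_singleton.1 ha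
    rw [map_mul, hfM, zero_mul]
  let φ : L →ₐ[F] Matrix (Fin n) (Fin n) F :=
    Ideal.Quotient.liftₐ (Ideal.span ({f} : Set F[X])) (Polynomial.aeval M) hker
  have hφroot : φ θ = M := (Ideal.Quotient.lift_mk _ _ _).trans (aeval_X M)
  have hφinj : Function.Injective φ := φ.toRingHom.injective
  have hcomm : ∀ N : Matrix (Fin n) (Fin n) F, N * M = M * N → ∃ a, φ a = N := by
    intro N hN
    set e : Fin n → F := Pi.single ⟨0, hn⟩ 1 with he
    have hNall : ∀ a, N * φ a = φ a * N := fun a => by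
      obtain ⟨g, rfl⟩ := AdjoinRoot.mk_surjective a
      rw [← AdjoinRoot.aeval_eq, ← Polynomial.aeval_algHom_apply, ← hθdef, hφroot]
      exact Polynomial.induction_on g (fun c => by rw [aeval_C]; exact (Algebra.commutes c N).symm)
        (fun u v hu hv => by rw [map_add, mul_add, add_mul, hu, hv])
        (fun k c h => by
          simp only [map_mul, aeval_C, map_pow, aeval_X, pow_succ, ← mul_assoc] at h ⊢
          rw [h, mul_assoc _ N, hN, ← mul_assoc])
    let ev : L →ₗ[F] (Fin n → F) :=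
      { toFun := fun a => φ a *ᵥ e
        map_add' := fun a b => by rw [map_add, Matrix.add_mulVec]
        map_smul' := fun c a => by rw [map_smul, Matrix.smul_mulVec]; rfl }
    have hevinj : Function.Injective ev := by
      refine (injective_iff_map_eq_zero ev).2 fun a ha => ?_
      by_contra hne
      have h1 : φ a⁻¹ *ᵥ (φ a *ᵥ e) = e := by
        rw [Matrix.mulVec_mulVec, ← map_mul, inv_mul_cancel₀ hne, map_one, Matrix.one_mulVec]
      rw [show φ a *ᵥ e = 0 from ha, Matrix.mulVec_zero] at h1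
      exact one_ne_zero (α := F) (by simpa [he] using (congrFun h1 ⟨0, hn⟩).symm)
    have hevsurj : Function.Surjective ev := (LinearMap.injective_iff_surjective_of_finrank_eq_finrank
      (by rw [pb.finrank, Module.finrank_fin_fun]; exact hdeg)).1 hevinj
    obtain ⟨b, hb⟩ := hevsurj (N *ᵥ e)
    refine ⟨b, Matrix.ext_of_mulVec_single fun i => ?_⟩
    obtain ⟨a, ha⟩ := hevsurj (Pi.single i 1)
    rw [← show φ a *ᵥ e = Pi.single i 1 from ha, Matrix.mulVec_mulVec, Matrix.mulVec_mulVec, hNall,
      ← map_mul, mul_comm b a, map_mul, ← Matrix.mulVec_mulVec, ← Matrix.mulVec_mulVec,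
      show φ b *ᵥ e = N *ᵥ e from hb]
  let ψ : Lˣ →* GL (Fin n) F := Units.map φ.toRingHom.toMonoidHom
  have hψinj : Function.Injective ψ := Units.map_injective hφinj
  have hrange : ψ.range = Subgroup.centralizer ({x} : Set (GL (Fin n) F)) := by
    ext g
    rw [Subgroup.mem_centralizer_singleton_iff]
    constructor
    · rintro ⟨a, rfl⟩
      apply Units.ext
      show φ (a : L) * M = M * φ (a : L)
      rw [← hφroot, ← map_mul, ← map_mul, mul_comm]
    · intro hg
      obtain ⟨a, ha⟩ := hcomm (g : Matrix (Fin n) (Fin n) F) (congrArg Units.val hg)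
      have ha0 : a ≠ 0 := fun h => by
        rw [h, map_zero] at ha
        exact g.ne_zero ha.symm
      exact ⟨Units.mk0 a ha0, Units.ext ha⟩
  let eqv : Lˣ ≃* ↥(Subgroup.centralizer ({x} : Set (GL (Fin n) F))) :=
    (MonoidHom.ofInjective hψinj).trans (MulEquiv.subgroupCongr hrange)
  refine ⟨isCyclic_of_surjective eqv.toMonoidHom eqv.surjective, ?_⟩
  rw [← Nat.card_congr eqv.toEquiv, Nat.card_units, hcardL, hdeg]

/-- If an element x of GL_n(q), n ≥ 1, has prime order r and the multiplicative order of q modulo r is n (r is a primitive prime divisor of q^n − 1, so x acts irreducibly), then the centraliser of x in GL_n(q) is cyclic of order q^n − 1 (the multiplicative group of the field with q^n elements, a Singer cycle). -/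
theorem result {F : Type*} [Field F] [Fintype F] {p q : ℕ} [Fact p.Prime] [CharP F p] (hF : Fintype.card F = q) {n r : ℕ} (hn : 1 ≤ n) (hr : r.Prime) (hrp : r ≠ p) (hi : orderOf (q : ZMod r) = n) (x : GL (Fin n) F) (hx : orderOf x = r) : IsCyclic ↥(Subgroup.centralizer ({x} : Set (GL (Fin n) F))) ∧ Nat.card ↥(Subgroup.centralizer ({x} : Set (GL (Fin n) F))) = q ^ n - 1 := by
  exact centralizer_primitive hF hn hr hrp hi x hx

end Cfsg.Agent.S2638
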