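import Cfsg.Statements.S0228
import Mathlib.GroupTheory.Sylow
import Mathlib.GroupTheory.SpecificGroups.Alternating
import Mathlib.Tactic
import Cfsg.Agent.Small.SylowArgs
import Cfsg.Agent.Small.Dihedral

set_option autoImplicit false
open Cfsg

namespace Cfsg.Agent.S0228

/-- A group of order 12 in which no involution is central is isomorphic to the alternating group on four letters. -/
theorem result {G : Type*} [Group G] [Finite G] (hG : Nat.card G = 12) (hz : ∀ z : G, orderOf z = 2 → z ∉ Subgroup.center G) : Nonempty (G ≃* alternatingGroup (Fin 4)) := by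
  classical
  haveI : Fact (Nat.Prime 3) := ⟨Nat.prime_three⟩
  haveI : Fact (Nat.Prime 2) := ⟨Nat.prime_two⟩
  obtain ⟨P⟩ : Nonempty (Sylow 3 G) := inferInstance
  have hN : Nat.card G = 3 ^ 1 * 4 := by rw [hG]; rfl
  have hdvd := CfsgLib.Small.card_sylow_dvd hN (by norm_num)
  have hmod := CfsgLib.Small.card_sylow_mod (G := G) 3
  have hPc : Nat.card P = 3 := by
    simpa using CfsgLib.Small.card_sylow_eq hN (by norm_num) P
  have h4 : Nat.card (Sylow 3 G) = 4 := by
    have hmem : Nat.card (Sylow 3 G) ∈ Nat.divisors 4 := Nat.mem_divisors.2 ⟨hdvd, by norm_num⟩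
    rw [show Nat.divisors 4 = {1, 2, 4} by decide] at hmem
    simp only [Finset.mem_insert, Finset.mem_singleton] at hmem
    rcases hmem with h | h | h
    · -- a normal subgroup of order three would give a central involution
      exfalso
      haveI : Subsingleton (Sylow 3 G) := (Nat.card_eq_one_iff_unique.1 h).1
      have hPn : (P : Subgroup G).Normal := Sylow.normal_of_subsingleton P
      obtain ⟨T⟩ : Nonempty (Sylow 2 G) := inferInstance
      have hTc : Nat.card T = 2 ^ 2 := by
        simpa using CfsgLib.Small.card_sylow_eq (k := 2) (m := 3) (by rw [hG]; rfl) (by norm_num) T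
      haveI : IsMulCommutative ↥(T : Subgroup G) := IsPGroup.isMulCommutative_of_card_eq_prime_sq hTc
      haveI := hPn
      let φ : ↥(T : Subgroup G) →* MulAut ↥(P : Subgroup G) :=
        MulAut.conjNormal.comp (T : Subgroup G).subtype
      haveI : IsCyclic ↥(P : Subgroup G) := isCyclic_of_prime_card hPc
      have hk : φ.ker ≠ ⊥ := by
        intro hb
        have h1 := Subgroup.card_dvd_of_injective φ ((MonoidHom.ker_eq_bot_iff φ).1 hb)
        rw [IsCyclic.card_mulAut, hPc, hTc] at h1
        exact absurd h1 (by decide)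
      obtain ⟨m, hm⟩ := IsPGroup.iff_card.1 (T.isPGroup'.to_subgroup φ.ker)
      have hm0 : m ≠ 0 := fun h0 => hk (Subgroup.eq_bot_of_card_eq _ (by rw [hm, h0, pow_zero]))
      obtain ⟨⟨⟨z, hzT⟩, hzk⟩, hzo⟩ := exists_prime_orderOf_dvd_card' (G := φ.ker) 2
        (hm ▸ dvd_pow_self 2 hm0)
      rw [Subgroup.orderOf_mk, Subgroup.orderOf_mk] at hzo
      refine hz z hzo ?_
      have hCle : (T : Subgroup G) ⊔ (P : Subgroup G) ≤ Subgroup.centralizer ({z} : Set G) := by
        rw [sup_le_iff]
        constructor
        · intro a ha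
          exact Subgroup.mem_centralizer_singleton_iff.2
            (congrArg Subtype.val (mul_comm' (⟨a, ha⟩ : ↥(T : Subgroup G)) ⟨z, hzT⟩))
        · intro a ha
          have h2 := congrArg Subtype.val
            (DFunLike.congr_fun (MonoidHom.mem_ker.1 hzk) (⟨a, ha⟩ : ↥(P : Subgroup G)))
          refine Subgroup.mem_centralizer_singleton_iff.2 ?_
          have h3 : z * a * z⁻¹ = a := by simpa [φ] using h2
          exact (mul_inv_eq_iff_eq_mul.1 h3).symm
      have htop : (T : Subgroup G) ⊔ (P : Subgroup G) = ⊤ := by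
        apply Subgroup.eq_top_of_card_eq
        refine Nat.dvd_antisymm (Subgroup.card_subgroup_dvd_card _) ?_
        rw [hG, show (12 : ℕ) = 4 * 3 by rfl]
        refine Nat.Coprime.mul_dvd_of_dvd_of_dvd (by norm_num) ?_ ?_
        · exact (dvd_of_eq (show (4 : ℕ) = Nat.card ↥(T : Subgroup G) by rw [hTc]; rfl)).trans
            (Subgroup.card_dvd_of_le le_sup_left)
        · exact (dvd_of_eq (show (3 : ℕ) = Nat.card ↥(P : Subgroup G) from hPc.symm)).trans
            (Subgroup.card_dvd_of_le le_sup_right)
      rw [Subgroup.mem_center_iff]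
      intro g
      exact Subgroup.mem_centralizer_singleton_iff.1 (hCle (htop ▸ Subgroup.mem_top g))
    · rw [h] at hmod; norm_num at hmod
    · exact h
  have hNP : ∀ Q : Sylow 3 G, Subgroup.normalizer ((Q : Subgroup G) : Set G) = Q := by
    intro Q
    have hQc : Nat.card Q = 3 := by simpa using CfsgLib.Small.card_sylow_eq hN (by norm_num) Q
    refine (Subgroup.eq_of_le_of_card_ge Subgroup.le_normalizer ?_).symm
    have := CfsgLib.Small.card_sylow_mul_card_normalizer Q
    rw [h4, hG] at this
    show _ ≤ Nat.card Q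
    omega
  haveI := Fintype.ofFinite (Sylow 3 G)
  let f := MulAction.toPermHom G (Sylow 3 G)
  have hf : Function.Injective f := by
    rw [injective_iff_map_eq_one]
    intro g hg
    have hfix : ∀ Q : Sylow 3 G, g ∈ (Q : Subgroup G) := fun Q => by
      rw [← hNP Q]
      exact Sylow.smul_eq_iff_mem_normalizer.1 (Equiv.congr_fun hg Q)
    have hnt : Nontrivial (Sylow 3 G) := Finite.one_lt_card_iff_nontrivial.1 (by omega)
    obtain ⟨Q, R, hQR⟩ := hnt.exists_pair_ne
    by_contra h1
    have hgen : ∀ S : Sylow 3 G, Subgroup.zpowers g = S := by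
      intro S
      refine Subgroup.eq_of_le_of_card_ge (Subgroup.zpowers_le.2 (hfix S)) ?_
      have hSc : Nat.card (S : Subgroup G) = 3 := by
        simpa using CfsgLib.Small.card_sylow_eq hN (by norm_num) S
      have h2 : orderOf g ∣ 3 := hSc ▸ Subgroup.orderOf_dvd_natCard _ (hfix S)
      rw [hSc, Nat.card_zpowers]
      rcases (Nat.dvd_prime Nat.prime_three).1 h2 with h3 | h3
      · exact absurd (orderOf_eq_one_iff.1 h3) h1
      · exact h3.ge
    exact hQR (Sylow.ext ((hgen Q).symm.trans (hgen R)))
  let e : Sylow 3 G ≃ Fin 4 := Finite.equivFinOfCardEq h4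
  let F : G →* Equiv.Perm (Fin 4) := e.permCongrHom.toMonoidHom.comp f
  have hF : Function.Injective F := e.permCongrHom.injective.comp hf
  have hidx : F.range = alternatingGroup (Fin 4) := by
    refine Equiv.Perm.eq_alternatingGroup_of_index_eq_two ?_
    have h1 := Subgroup.card_mul_index F.range
    rw [Nat.card_congr (MonoidHom.ofInjective hF).toEquiv.symm, hG, Nat.card_perm, Nat.card_fin]
      at h1
    simp [Nat.factorial] at h1
    omega
  exact ⟨(MonoidHom.ofInjective hF).trans (MulEquiv.subgroupCongr hidx)⟩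

end Cfsg.Agent.S0228
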