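import Cfsg.Statements.S1337
import Cfsg.Agent.Transfer.RankTwoNormal
import Cfsg.Agent.Small.NormalFour
import Cfsg.Agent.OddOrder.BG5.Basic

set_option autoImplicit false
open Cfsg

namespace Cfsg.Agent.S1337

open Subgroup CfsgLib

variable {P : Type*} [Group P] [Finite P] {p : ℕ} [Fact p.Prime]

theorem exists_three (hrk : ¬ Cfsg.PRankLE p 2 P) :
    ∃ E : Subgroup P, Cfsg.IsElementaryAbelian p E ∧ p ^ 3 ≤ Nat.card E := by
  simp only [Cfsg.PRankLE, not_forall, not_le] at hrk
  obtain ⟨E, hc, he, hlt⟩ := hrk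
  obtain ⟨m, hm⟩ := OddOrder.BG4.card_elementary_eq_pow (A := E) he
  rw [hm] at hlt
  have := (Nat.pow_lt_pow_iff_right (Fact.out : p.Prime).one_lt).mp hlt
  exact ⟨E, ⟨hc, he⟩, hm ▸ Nat.pow_le_pow_right (Fact.out : p.Prime).pos (by omega)⟩

theorem exists_four {E : Subgroup P} (hE : Cfsg.IsElementaryAbelian p E)
    (h3 : p ^ 3 ≤ Nat.card E) :
    ∃ F : Subgroup P, F ≤ E ∧ Nat.card F = p ^ 3 := by
  obtain ⟨m, hm⟩ := OddOrder.BG4.card_elementary_eq_pow (A := E) hE.2
  have h : p ^ 3 ∣ Nat.card E := by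
    rw [hm] at h3 ⊢
    exact pow_dvd_pow p ((Nat.pow_le_pow_iff_right (Fact.out : p.Prime).one_lt).mp h3)
  obtain ⟨F, hF⟩ := Sylow.exists_subgroup_card_pow_prime (G := E) p h
  exact ⟨F.map E.subtype, map_subtype_le F, by
    rw [← hF]; exact (Nat.card_congr (F.equivMapOfInjective _ E.subtype_injective).toEquiv).symm⟩

theorem exists_normal_sq (hP : IsPGroup p P) (hrk : ¬ Cfsg.PRankLE p 2 P) :
    ∃ U : Subgroup P, U.Normal ∧ Cfsg.IsElementaryAbelian p U ∧ Nat.card U = p ^ 2 := by
  obtain ⟨E, hE, h3⟩ := exists_three hrk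
  by_cases hp2 : p = 2
  · subst hp2
    obtain ⟨F, hFE, hF⟩ := exists_four hE h3
    obtain ⟨U, hU, hU4, hU2⟩ := Small.exists_normal_four hP hF (fun e he => hE.2 e (hFE he))
    refine ⟨U, hU, ⟨⟨⟨fun a b => Subtype.ext ?_⟩⟩, hU2⟩, hU4⟩
    have hinv : ∀ u ∈ U, u⁻¹ = u := fun u hu =>
      inv_eq_of_mul_eq_one_right (by rw [← sq]; exact hU2 u hu)
    have h := hinv _ (mul_mem a.2 b.2)
    rw [mul_inv_rev, hinv _ a.2, hinv _ b.2] at h
    exact h.symm
  · refine Transfer.exists_normal_elem_card_sq hp2 hP fun hc => ?_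
    obtain ⟨g, hg⟩ := (inferInstance : IsCyclic E).exists_ofOrder_eq_natCard
    have hle : orderOf g ≤ p := Nat.le_of_dvd (Fact.out : p.Prime).pos
      (orderOf_dvd_of_pow_eq_one (Subtype.ext (by simpa using hE.2 g g.2)))
    rw [hg] at hle
    have : p ^ 1 < p ^ 3 := Nat.pow_lt_pow_right (Fact.out : p.Prime).one_lt (by omega)
    rw [pow_one] at this
    omega

theorem inf_centralizer_card (hP : IsPGroup p P) {U E : Subgroup P} (hUn : U.Normal)
    (hU : Cfsg.IsElementaryAbelian p U) (hU2 : Nat.card U = p ^ 2) (h3 : p ^ 3 ≤ Nat.card E) :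
    p ^ 2 ≤ Nat.card (E ⊓ centralizer (U : Set P) : Subgroup P) := by
  haveI := hUn
  have hidx := OddOrder.BG4.index_centralizer_le hP hU.2 hU2.le
  set C := centralizer (U : Set P)
  have h1 : C.relIndex E ≤ p :=
    ((relIndex_le_of_le_right le_top (by simpa using index_ne_zero_of_finite)).trans_eq
      (relIndex_top_right _)).trans hidx
  have h2 : Nat.card (E ⊓ C : Subgroup P) * C.relIndex E = Nat.card E := by
    rw [← inf_relIndex_left]
    exact relIndex_bot_left (E ⊓ C) ▸ relIndex_bot_left E ▸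
      relIndex_mul_relIndex ⊥ (E ⊓ C) E bot_le inf_le_left
  have h3' : p ^ 3 ≤ Nat.card (E ⊓ C : Subgroup P) * p :=
    h3.trans (h2 ▸ Nat.mul_le_mul_left _ h1)
  rw [pow_succ p 2] at h3'
  exact Nat.le_of_mul_le_mul_right h3' (Fact.out : p.Prime).pos

theorem rank_centralizer_of {X E : Subgroup P} (hE : Cfsg.IsElementaryAbelian p E)
    (hEX : E ≤ centralizer (X : Set P)) (h : p ^ 2 < Nat.card E) :
    ¬ Cfsg.PRankLE p 2 (centralizer (X : Set P)) := by
  intro hle
  have := hle (E.subgroupOf _) ⟨⟨fun a b => Subtype.ext (Subtype.ext (congrArg Subtype.val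
    (hE.1.is_comm.comm (⟨_, a.2⟩ : E) ⟨_, b.2⟩) :))⟩⟩
    (fun a ha => Subtype.ext (by simpa using hE.2 _ ha))
  rw [Nat.card_congr (subgroupOfEquivOfLe hEX).toEquiv] at this
  omega

theorem le_centralizer_of_elab {X : Subgroup P} (hX : Cfsg.IsElementaryAbelian p X) :
    X ≤ centralizer (X : Set P) :=
  le_centralizer_iff_isMulCommutative.mpr hX.1

/-- Let P be a finite p-group of p-rank greater than 2. Then P has a normal elementary abelian subgroup U of order p², and for every elementary abelian X ≤ P with |X| ≥ p²: X is joined to U by a chain of pairwise commuting elementary abelian subgroups of order ≥ p² if and only if C_P(X) has p-rank greater than 2. -/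
theorem result {P : Type*} [Group P] [Finite P] (p : ℕ) [Fact p.Prime] (hP : IsPGroup p P) (hrk : ¬ Cfsg.PRankLE p 2 P) : ∃ U : Subgroup P, U.Normal ∧ Cfsg.IsElementaryAbelian p U ∧ Nat.card ↥U = p ^ 2 ∧ ∀ X : Subgroup P, Cfsg.IsElementaryAbelian p X → p ^ 2 ≤ Nat.card ↥X → (Relation.ReflTransGen (fun A B : Subgroup P => Cfsg.IsElementaryAbelian p A ∧ p ^ 2 ≤ Nat.card ↥A ∧ Cfsg.IsElementaryAbelian p B ∧ p ^ 2 ≤ Nat.card ↥B ∧ ∀ a ∈ A, ∀ b ∈ B, a * b = b * a) X U ↔ ¬ Cfsg.PRankLE p 2 ↥(Subgroup.centralizer (X : Set P))) := by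
  obtain ⟨U, hUn, hU, hU2⟩ := exists_normal_sq hP hrk
  refine ⟨U, hUn, hU, hU2, fun X hX hX2 => ⟨fun hchain => ?_, fun hC => ?_⟩⟩
  · induction hchain using Relation.ReflTransGen.head_induction_on with
    | refl =>
      obtain ⟨E, hE, h3⟩ := exists_three hrk
      have hEC := inf_centralizer_card hP hUn hU hU2 h3
      set D := E ⊓ centralizer (U : Set P)
      by_cases hle : D ≤ U
      · have heq : D = U := eq_of_le_of_card_ge hle (by rw [hU2]; exact hEC)
        refine rank_centralizer_of hE ?_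
          (lt_of_lt_of_le (Nat.pow_lt_pow_right (Fact.out : p.Prime).one_lt (by omega)) h3)
        exact (le_centralizer_of_elab hE).trans (centralizer_le (heq ▸ inf_le_left : U ≤ E))
      · refine rank_centralizer_of (E := U ⊔ D)
          (OddOrder.BG5.isElementaryAbelian_sup hU ⟨⟨⟨fun a b => Subtype.ext (congrArg Subtype.val
            (hE.1.is_comm.comm (⟨_, a.2.1⟩ : E) ⟨_, b.2.1⟩) :)⟩⟩, fun a ha => hE.2 a ha.1⟩ ?_)
          (sup_le (le_centralizer_of_elab hU) inf_le_right) ?_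
        · rw [le_centralizer_iff]; exact inf_le_right
        · rw [← hU2]
          exact OddOrder.BG5.card_lt_of_lt (lt_of_le_of_ne le_sup_left
            fun h => hle (h ▸ le_sup_right))
    | @head Y B hstep hrest ih =>
      obtain ⟨hY, hY2, hB, hB2, hcomm⟩ := hstep
      by_cases hle : Y ⊔ B ≤ Y
      · by_cases hlt : p ^ 2 < Nat.card Y
        · exact rank_centralizer_of hY (le_centralizer_of_elab hY) hlt
        · have hBY : B ≤ Y := le_sup_right.trans hle
          have : B = Y := eq_of_le_of_card_ge hBY (by omega)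
          subst this
          exact ih hB hB2
      · have hcB : Y ≤ centralizer (B : Set P) := fun y hy =>
          mem_centralizer_iff.mpr fun b hb => (hcomm y hy b hb).symm
        refine rank_centralizer_of (E := Y ⊔ B) (OddOrder.BG5.isElementaryAbelian_sup hY hB hcB)
          (sup_le (le_centralizer_of_elab hY) (le_centralizer_iff.mp hcB)) ?_
        exact lt_of_le_of_lt hY2 (OddOrder.BG5.card_lt_of_lt
          (lt_of_le_of_ne le_sup_left fun h => hle h.ge))
  · obtain ⟨E, hE, h3⟩ := exists_three hC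
    set E' := E.map (centralizer (X : Set P)).subtype with hE'
    have hE'ab : Cfsg.IsElementaryAbelian p E' := by
      refine ⟨⟨⟨fun a b => Subtype.ext ?_⟩⟩, ?_⟩
      · obtain ⟨⟨x, hx, hx'⟩, ⟨y, hy, hy'⟩⟩ := a.2, b.2
        show (a : P) * b = b * a
        rw [← hx', ← hy', ← map_mul, ← map_mul]
        exact congrArg _ (congrArg Subtype.val (hE.1.is_comm.comm (⟨x, hx⟩ : E) ⟨y, hy⟩))
      · rintro _ ⟨x, hx, rfl⟩
        rw [← map_pow, hE.2 x hx, map_one]
    have hE'X : E' ≤ centralizer (X : Set P) := map_subtype_le E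
    set F := E' ⊔ X
    have hF : Cfsg.IsElementaryAbelian p F := OddOrder.BG5.isElementaryAbelian_sup hE'ab hX hE'X
    have hF3 : p ^ 3 ≤ Nat.card F := by
      refine h3.trans (le_trans (le_of_eq ?_) (Nat.le_of_dvd Nat.card_pos (card_dvd_of_le le_sup_left)))
      exact Nat.card_congr (E.equivMapOfInjective _ (centralizer (X : Set P)).subtype_injective).toEquiv
    have hF2 : p ^ 2 ≤ Nat.card F :=
      (Nat.pow_le_pow_right (Fact.out : p.Prime).pos (by omega)).trans hF3
    have hD2 := inf_centralizer_card hP hUn hU hU2 hF3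
    set D := F ⊓ centralizer (U : Set P)
    have hD : Cfsg.IsElementaryAbelian p D := ⟨⟨⟨fun a b => Subtype.ext (congrArg Subtype.val
      (hF.1.is_comm.comm (⟨_, a.2.1⟩ : F) ⟨_, b.2.1⟩) :)⟩⟩, fun a ha => hF.2 a ha.1⟩
    refine Relation.ReflTransGen.head ⟨hX, hX2, hF, hF2, fun a ha b hb => ?_⟩
      (Relation.ReflTransGen.head ⟨hF, hF2, hD, hD2, fun a ha b hb => ?_⟩
        (Relation.ReflTransGen.single ⟨hD, hD2, hU, hU2.ge, fun a ha b hb => ?_⟩))
    · exact (mem_centralizer_iff.mp (le_centralizer_of_elab hF hb) a (mem_sup_right ha))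
    · exact mem_centralizer_iff.mp (le_centralizer_of_elab hF hb.1) a ha
    · exact (mem_centralizer_iff.mp ha.2 b hb).symm

end Cfsg.Agent.S1337
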