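import Cfsg.Statements.S0269
import Cfsg.Agent.Forms4.SymplecticSimple

set_option autoImplicit false
open Cfsg

namespace Cfsg.Agent.S0269

/-- Sp_{2m}(q) is perfect except for Sp_2(2), Sp_2(3) and Sp_4(2): stated as m at least 3, or m = 2 and q at least 3, or q at least 4. -/
theorem result {F : Type*} [Field F] [Fintype F] (m : ℕ) (h : 3 ≤ m ∨ (m = 2 ∧ 3 ≤ Fintype.card F) ∨ 4 ≤ Fintype.card F) : commutator (Matrix.symplecticGroup (Fin m) F) = ⊤ := by
  classical
  apply CfsgLib.Forms4.commutator_Sp_eq_top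
  have key : 4 ≤ Fintype.card F → ∃ t : F, t ≠ 0 ∧ t ^ 2 ≠ 1 := by
    intro h4
    obtain ⟨t, ht⟩ := Finset.card_pos.1 (show 0 < ((Finset.univ : Finset F) \ {0, 1, -1}).card by
      have := Finset.card_le_three (a := (0 : F)) (b := 1) (c := -1)
      have := Finset.le_card_sdiff ({0, 1, -1} : Finset F) Finset.univ
      rw [Finset.card_univ] at this
      omega)
    simp only [Finset.mem_sdiff, Finset.mem_univ, true_and, Finset.mem_insert,
      Finset.mem_singleton, not_or] at ht
    exact ⟨t, ht.1, fun h => (sq_eq_one_iff.1 h).elim ht.2.1 ht.2.2⟩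
  rcases h with h | ⟨rfl, h⟩ | h
  · exact Or.inl h
  · rcases eq_or_lt_of_le h with h3 | h4
    · refine Or.inr (Or.inl ⟨le_rfl, fun h2 => ?_⟩)
      have hc := (ringChar.spec F 2).1 (by exact_mod_cast h2)
      have h2' : ringChar F = 2 := ((Nat.dvd_prime Nat.prime_two).1 hc).resolve_left CharP.ringChar_ne_one
      have := FiniteField.even_card_iff_char_two.1 h2'
      omega
    · exact Or.inr (Or.inr (key h4))
  · exact Or.inr (Or.inr (key h))

end Cfsg.Agent.S0269
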