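import Cfsg.Statements.S2092
import Cfsg.Agent.MultPSp.Main
import Cfsg.Agent.MultPSp.GF2

set_option autoImplicit false
open Cfsg

namespace Cfsg.Agent.S2092

/-- Schur multipliers of the symplectic groups: for m ≥ 2 and a field F with q elements (q ≥ 3 when m = 2), with (m, q) ≠ (3, 2), the Schur multiplier of PSp_2m(F) is cyclic of order gcd(2, q − 1); here the Schur multiplier is described through stem extensions, as in the definitions. -/
theorem result {F : Type*} [Field F] [Fintype F] {q : ℕ} (hF : Fintype.card F = q) (m : ℕ) (hm : 2 ≤ m) (h2 : m = 2 → 3 ≤ q) (hexc : ¬ (m = 3 ∧ q = 2)) : Cfsg.HasCyclicSchurMultiplier (Cfsg.PSp m F) (Nat.gcd 2 (q - 1)) := by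
  classical
  obtain rfl | hm3 : m = 2 ∨ 3 ≤ m := by omega
  · have h3 : 3 ≤ Fintype.card F := hF ▸ h2 rfl
    exact CfsgLib.MultPSp.multiplier_of_bound hF (by omega)
      (Cfsg.Agent.S0269.result 2 (Or.inr (Or.inl ⟨rfl, h3⟩)))
      fun Δ _ _ τ hτ => (CfsgLib.MultPSp.card_stem_four_le h3 τ hτ).2
  obtain ⟨k, rfl⟩ : ∃ k, m = k + 3 := ⟨m - 3, by omega⟩
  have hperf := Cfsg.Agent.S0269.result (F := F) (k + 3) (Or.inl hm3)
  refine CfsgLib.MultPSp.multiplier_of_bound hF (by omega) hperf fun Δ _ _ τ hτ =>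
    CfsgLib.MultPSp.card_stem_le ?_ hperf τ hτ
  by_cases h3 : 3 ≤ Fintype.card F
  · exact CfsgLib.MultPSp.closed_big h3 k
  have hq : Fintype.card F = 2 := by
    have := Fintype.one_lt_card (α := F)
    omega
  have hk : 1 ≤ k := by
    by_contra h
    exact hexc ⟨by omega, by omega⟩
  exact CfsgLib.MultPSp.closed_high (fun _ => by omega) fun E _ _ D _ ρ hρ =>
    CfsgLib.MultPSp.exists_glued hq hk D hρ

end Cfsg.Agent.S2092
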