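import Cfsg.Statements.S3755
import Cfsg.Agent.HallHigman.CyclicQuotient
import Cfsg.Agent.HallHigman.MinimalAction
import Cfsg.Agent.Coprime.Abelian
import Cfsg.Agent.PLocal.Cores

set_option autoImplicit false
open Cfsg

namespace Cfsg.Agent.S3755

open scoped commutatorElement

def d3PermFun : DihedralGroup 3 → Equiv.Perm (Fin 3)
  | .r i => finRotate 3 ^ i.val
  | .sr i => Equiv.swap 0 1 * finRotate 3 ^ i.val

noncomputable def d3Perm : DihedralGroup 3 ≃* Equiv.Perm (Fin 3) :=
  MulEquiv.ofBijective (MonoidHom.mk' d3PermFun (by decide)) (by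
    rw [Fintype.bijective_iff_injective_and_card]
    refine ⟨?_, by decide⟩
    show Function.Injective d3PermFun
    decide)

/-- An inverted element of order three gives a section isomorphic to the symmetric group. -/
theorem involves_of_inverted {G : Type*} [Group G] {x a : G} (hx : orderOf x = 3)
    (ha : orderOf a = 2) (hinv : a * x * a⁻¹ = x⁻¹) : Cfsg.Involves (Equiv.Perm (Fin 3)) G := by
  have hx3 : x ^ 3 = 1 := hx ▸ pow_orderOf_eq_one x
  have ha2 : a * a = 1 := by rw [← sq]; exact ha ▸ pow_orderOf_eq_one a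
  have hxa : x * a = a * x ^ 2 := by
    have hai : a⁻¹ = a := inv_eq_of_mul_eq_one_left ha2
    have h2 : x⁻¹ = x ^ 2 := inv_eq_of_mul_eq_one_right (by rw [← pow_succ']; exact hx3)
    rw [hai, h2] at hinv
    calc x * a = a * (a * x * a) := by simp [← mul_assoc, ha2]
      _ = a * x ^ 2 := by rw [hinv]
  have hdx : ∀ k : ℕ, x ^ k * a = a * x ^ (2 * k) := by
    intro k
    induction k with
    | zero => simp
    | succ k ih =>
      rw [pow_succ, mul_assoc, hxa, ← mul_assoc, ih, mul_assoc, ← pow_add]; ring_nf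
  have hval : ∀ (i : ZMod 3) (k : ℕ), k % 3 = i.val → x ^ k = x ^ i.val := fun i k hk => by
    rw [pow_eq_pow_mod k hx3, hk]
  let f : DihedralGroup 3 → G
    | .r i => x ^ i.val
    | .sr i => a * x ^ i.val
  let φ : DihedralGroup 3 →* G := MonoidHom.mk' f (by
    rintro (i | i) (j | j)
    · show x ^ (i + j).val = x ^ i.val * x ^ j.val
      rw [← pow_add]; exact (hval _ _ (by revert i j; decide)).symm
    · show a * x ^ (j - i).val = x ^ i.val * (a * x ^ j.val)
      rw [← mul_assoc, hdx, mul_assoc, ← pow_add]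
      exact congrArg (a * ·) (hval _ _ (by revert i j; decide)).symm
    · show a * x ^ (i + j).val = a * x ^ i.val * x ^ j.val
      rw [mul_assoc, ← pow_add]
      exact congrArg (a * ·) (hval _ _ (by revert i j; decide)).symm
    · show x ^ (j - i).val = a * x ^ i.val * (a * x ^ j.val)
      rw [mul_assoc, ← mul_assoc (x ^ i.val), hdx, mul_assoc a, ← pow_add, ← mul_assoc, ha2, one_mul]
      exact (hval _ _ (by revert i j; decide)).symm)
  have hinj : Function.Injective φ := by
    rw [← MonoidHom.ker_eq_bot_iff, eq_bot_iff]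
    rintro (i | i) hi
    · have h1 : x ^ i.val = 1 := hi
      have h2 : orderOf x ∣ i.val := orderOf_dvd_of_pow_eq_one h1
      rw [hx] at h2
      rw [Subgroup.mem_bot, show i = 0 from (ZMod.val_eq_zero i).mp (Nat.eq_zero_of_dvd_of_lt h2 (ZMod.val_lt i))]
      rfl
    · exfalso
      have h1 : a * x ^ i.val = 1 := hi
      have h2 : orderOf a ∣ 3 := by
        rw [eq_inv_of_mul_eq_one_left h1, orderOf_inv]
        exact (orderOf_pow_dvd _).trans hx.dvd
      rw [ha] at h2
      norm_num at h2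
  refine ⟨φ.range, ⊥, ?_, ?_⟩
  · rw [Subgroup.bot_subgroupOf]; infer_instance
  · exact ⟨((QuotientGroup.quotientMulEquivOfEq (Subgroup.bot_subgroupOf _)).trans
      QuotientGroup.quotientBot).trans ((MonoidHom.ofInjective hinj).symm.trans d3Perm)⟩

/-- The inductive bound. -/
theorem bound {X : Type*} [Group X] [Finite X] (M V : Subgroup X) (hV : Cfsg.IsElementaryAbelian 2 V)
    (hMV : M ≤ Subgroup.normalizer (V : Set X))
    (hfaith : M ⊓ Subgroup.centralizer (V : Set X) = ⊥)
    (hcon : Subgroup.centralizer (Cfsg.pPrimeCore 2 ↥M : Set ↥M) ≤ Cfsg.pPrimeCore 2 ↥M)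
    (hno : ¬ Cfsg.Involves (Equiv.Perm (Fin 3)) ↥M) :
    ∀ n (A : Subgroup X), Nat.card A = n → A ≤ M → Cfsg.IsElementaryAbelian 2 A →
      Nat.card A ^ 2 ≤ (V ⊓ Subgroup.centralizer (A : Set X)).relIndex V := by
  intro n
  induction n using Nat.strong_induction_on with
  | _ n ih =>
  intro A hn hAM hA
  have hVab : IsMulCommutative V := hV.1
  have hVc : ∀ u ∈ V, ∀ v ∈ V, u * v = v * u := fun u hu v hv =>
    congrArg Subtype.val (hVab.is_comm.comm ⟨u, hu⟩ ⟨v, hv⟩)
  have hAc : ∀ u ∈ A, ∀ v ∈ A, u * v = v * u := fun u hu v hv =>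
    congrArg Subtype.val (hA.1.is_comm.comm ⟨u, hu⟩ ⟨v, hv⟩)
  rcases eq_or_ne A ⊥ with rfl | hA1
  · rw [Subgroup.card_bot, one_pow]
    exact Nat.one_le_iff_ne_zero.mpr Subgroup.index_ne_zero_of_finite
  have hA2 : IsPGroup 2 A := fun a => ⟨1, Subtype.ext (by simpa using hA.2 a a.2)⟩
  set K := (Cfsg.pPrimeCore 2 ↥M).map M.subtype with hKdef
  have hKodd : (Nat.card K).Coprime 2 := by
    rw [hKdef, Subgroup.card_map_of_injective M.subtype_injective]
    exact CfsgLib.PLocal.coprime_card_pPrimeCore 2 _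
  obtain ⟨kA, hkA⟩ := IsPGroup.iff_card.mp hA2
  have hcopA : (Nat.card A).Coprime (Nat.card K) := by
    rw [hkA]; exact (hKodd.symm).pow_left kA
  have hMK : M ≤ Subgroup.normalizer (K : Set X) := by
    rw [Subgroup.le_normalizer_iff]
    rintro m hm _ ⟨k, hk, rfl⟩
    exact ⟨⟨m, hm⟩ * k * ⟨m, hm⟩⁻¹, Subgroup.Normal.conj_mem inferInstance k hk _, rfl⟩
  have hKM : K ≤ M := Subgroup.map_subtype_le _
  have hnc : ¬ K ≤ Subgroup.centralizer (A : Set X) := by
    intro hle
    apply hA1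
    rw [eq_bot_iff]
    intro a ha
    have haK : a ∈ K := by
      refine ⟨⟨a, hAM ha⟩, hcon ?_, rfl⟩
      rw [Subgroup.mem_centralizer_iff]
      intro k hk
      exact Subtype.ext (Subgroup.mem_centralizer_iff.mp (hle ⟨k, hk, rfl⟩) a ha).symm
    have h : a ∈ A ⊓ K := ⟨ha, haK⟩
    rwa [CfsgLib.Coprime.inf_eq_bot_of_coprime hcopA] at h
  obtain ⟨B, hBA, ⟨a, ha, haB⟩, hBK⟩ : ∃ B, B ≤ A ∧ (∃ a ∈ A, B ⊔ Subgroup.zpowers a = A) ∧
      ¬ K ⊓ Subgroup.centralizer (B : Set X) ≤ Subgroup.centralizer (A : Set X) := by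
    by_contra! h
    exact hnc (CfsgLib.HallHigman.le_of_forall_cyclic_quotient hA.1 (hAM.trans hMK) hcopA h)
  obtain ⟨y, ⟨hyK, hyB⟩, hyA⟩ := SetLike.not_le_iff_exists.mp hBK
  have haa : a * a = 1 := by rw [← sq]; exact hA.2 a ha
  have hai : a⁻¹ = a := inv_eq_of_mul_eq_one_left haa
  have hya : y * a ≠ a * y := by
    intro h
    apply hyA
    show y ∈ Subgroup.centralizer (A : Set X)
    have : A ≤ Subgroup.centralizer ({y} : Set X) := by
      rw [← haB]
      refine sup_le (fun b hb => ?_) (Subgroup.zpowers_le.mpr ?_)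
      · exact Subgroup.mem_centralizer_singleton_iff.mpr (Subgroup.mem_centralizer_iff.mp hyB b hb)
      · exact Subgroup.mem_centralizer_singleton_iff.mpr h.symm
    rw [Subgroup.mem_centralizer_iff]
    exact fun b hb => Subgroup.mem_centralizer_singleton_iff.mp (this hb)
  set x₀ := y⁻¹ * (a * y * a⁻¹) with hx₀
  have hx₀1 : x₀ ≠ 1 := fun h => hya (by
    rw [hx₀, inv_mul_eq_one, eq_mul_inv_iff_mul_eq] at h; exact h)
  have hx₀K : x₀ ∈ K :=
    K.mul_mem (K.inv_mem hyK) ((Subgroup.mem_normalizer_iff.mp (hMK (hAM ha)) y).mp hyK)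
  have hx₀a : a * x₀ * a⁻¹ = x₀⁻¹ := by
    rw [hx₀, hai, mul_inv_rev, mul_inv_rev, mul_inv_rev, inv_inv, hai]
    simp [mul_assoc, haa]
  have hBc : ∀ b ∈ B, b * x₀ = x₀ * b := by
    intro b hb
    have h1 : Commute b y := Subgroup.mem_centralizer_iff.mp hyB b hb
    have h2 : Commute b a := hAc b (hBA hb) a ha
    exact h1.inv_right.mul_right ((h2.mul_right h1).mul_right h2.inv_right)
  obtain ⟨r, hr, hrd⟩ := Nat.exists_prime_and_dvd (n := orderOf x₀) (by simpa using hx₀1)
  set x := x₀ ^ (orderOf x₀ / r) with hxdef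
  have hox : orderOf x = r := by
    rw [hxdef, orderOf_pow_of_dvd _ (Nat.div_dvd_of_dvd hrd), Nat.div_div_self hrd (orderOf_pos x₀).ne']
    · intro h
      exact hr.ne_zero (by
        have := Nat.div_mul_cancel hrd
        rw [h, zero_mul] at this
        exact absurd this.symm (orderOf_pos x₀).ne')
  have hxK : x ∈ K := K.pow_mem hx₀K _
  have hxM : x ∈ M := hKM hxK
  have hxa : a * x * a⁻¹ = x⁻¹ := by
    rw [hxdef, ← conj_pow, hx₀a, inv_pow]
  have hxB : ∀ b ∈ B, Commute b x := fun b hb => (show Commute b x₀ from hBc b hb).pow_right _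
  have hr2 : r ≠ 2 := by
    rintro rfl
    have : 2 ∣ Nat.card K := by rw [← hox]; exact Subgroup.orderOf_dvd_natCard K hxK
    exact absurd (Nat.dvd_gcd this dvd_rfl) (by rw [hKodd]; norm_num)
  have hr3 : r ≠ 3 := by
    rintro rfl
    refine hno (involves_of_inverted (x := (⟨x, hxM⟩ : ↥M)) (a := ⟨a, hAM ha⟩) ?_ ?_ (Subtype.ext hxa))
    · rw [← Subgroup.orderOf_coe]; exact hox
    · rw [← Subgroup.orderOf_coe]
      refine orderOf_eq_prime (hA.2 a ha) ?_
      show a ≠ 1
      rintro rfl; exact hya (by simp)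
  have hr5 : 5 ≤ r := by
    by_contra h
    have h4 : r ≠ 4 := fun h => by rw [h] at hr; norm_num at hr
    have := hr.two_le; omega
  -- `x` moves some element of `C_V(B)`
  set W := V ⊓ Subgroup.centralizer (B : Set X) with hW
  set S := Subgroup.zpowers x with hS
  have hSV : S ≤ Subgroup.normalizer (V : Set X) := Subgroup.zpowers_le.mpr (hMV hxM)
  have hV2 : IsPGroup 2 V := fun v => ⟨1, Subtype.ext (by simpa using hV.2 v v.2)⟩
  obtain ⟨kV, hkV⟩ := IsPGroup.iff_card.mp hV2
  have hcopS : (Nat.card S).Coprime (Nat.card V) := by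
    rw [hS, Nat.card_zpowers, hox, hkV]
    exact ((Nat.coprime_primes hr Nat.prime_two).mpr hr2).pow_right kV
  obtain ⟨w, hwW, hwx⟩ : ∃ w ∈ W, x * w ≠ w * x := by
    set U := ⁅V, S⁆ with hU
    have hUV : U ≤ V := CfsgLib.Coprime.commutator_le_of_le_normalizer hSV
    have hU1 : U ≠ ⊥ := by
      intro h
      have hx1 : x ∈ M ⊓ Subgroup.centralizer (V : Set X) := by
        refine ⟨hxM, ?_⟩
        rw [hU, Subgroup.commutator_comm, Subgroup.commutator_eq_bot_iff_le_centralizer] at h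
        exact h (Subgroup.mem_zpowers x)
      rw [hfaith, Subgroup.mem_bot] at hx1
      rw [hx1, orderOf_one] at hox
      exact hr.ne_one hox.symm
    have hBS : B ≤ Subgroup.normalizer (S : Set X) := by
      rw [Subgroup.le_normalizer_iff]
      intro b hb s hs
      obtain ⟨i, rfl⟩ := Subgroup.mem_zpowers_iff.mp hs
      rw [((hxB b hb).zpow_right i).eq, mul_inv_cancel_right]
      exact hs
    have hBU : B ≤ Subgroup.normalizer (U : Set X) :=
      CfsgLib.HallHigman.le_normalizer_commutator ((hBA.trans hAM).trans hMV) hBS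
    obtain ⟨w, hwU, hw1, hwB⟩ : ∃ w ∈ U, w ≠ 1 ∧ ∀ b ∈ B, b * w * b⁻¹ = w := by
      have hB2 : IsPGroup 2 B := hA2.to_le hBA
      letI : MulAction ↥B ↥U :=
        { smul := fun b u => ⟨(b : X) * u * (b : X)⁻¹, (Subgroup.mem_normalizer_iff.mp (hBU b.2) u).mp u.2⟩
          one_smul := fun u => Subtype.ext (by show (1 : X) * u * (1 : X)⁻¹ = u; simp)
          mul_smul := fun b c u => Subtype.ext (by
            show ((b : X) * c) * u * ((b : X) * c)⁻¹ = b * (c * u * (c : X)⁻¹) * (b : X)⁻¹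
            group) }
      have hdvd : 2 ∣ Nat.card ↥U := by
        obtain ⟨k, hk⟩ := IsPGroup.iff_card.mp (hV2.to_le hUV)
        rw [hk]
        refine dvd_pow_self 2 fun h0 => hU1 (Subgroup.card_eq_one.mp (by rw [hk, h0, pow_zero]))
      obtain ⟨w, hw, hw1⟩ := hB2.exists_fixed_point_of_prime_dvd_card_of_fixed_point (α := ↥U) hdvd
        (a := 1) (fun b => Subtype.ext (by show (b : X) * (1 : X) * (b : X)⁻¹ = 1; simp))
      exact ⟨w, w.2, fun h => hw1 (Subtype.ext h).symm, fun b hb => congrArg Subtype.val (hw ⟨b, hb⟩)⟩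
    refine ⟨w, ⟨hUV hwU, ?_⟩, fun hcw => hw1 ?_⟩
    · show w ∈ Subgroup.centralizer (B : Set X)
      rw [Subgroup.mem_centralizer_iff]
      exact fun b hb => mul_inv_eq_iff_eq_mul.mp (hwB b hb)
    · have hmem : w ∈ (V ⊓ Subgroup.centralizer (S : Set X)) ⊓ ⁅V, S⁆ := by
        refine ⟨⟨hUV hwU, ?_⟩, hwU⟩
        show w ∈ Subgroup.centralizer (S : Set X)
        rw [hS, Subgroup.mem_centralizer_iff]
        intro s hs
        obtain ⟨i, rfl⟩ := Subgroup.mem_zpowers_iff.mp hs
        exact ((show Commute x w from hcw).zpow_left i).eq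
      rwa [CfsgLib.Coprime.inf_centralizer_inf_commutator_eq_bot hSV hcopS, Subgroup.mem_bot] at hmem
  set W0 := V ⊓ Subgroup.centralizer (A : Set X) with hW0
  have hW0W : W0 ≤ W := inf_le_inf_left _ (Subgroup.centralizer_le hBA)
  have haW : a ∈ Subgroup.normalizer (W : Set X) := by
    refine Subgroup.inf_normalizer_le_normalizer_inf ⟨hMV (hAM ha), Subgroup.le_normalizer ?_⟩
    show a ∈ Subgroup.centralizer (B : Set X)
    exact Subgroup.mem_centralizer_iff.mpr fun b hb => hAc b (hBA hb) a ha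
  have hxW : x ∈ Subgroup.normalizer (W : Set X) := by
    refine Subgroup.inf_normalizer_le_normalizer_inf ⟨hMV hxM, Subgroup.le_normalizer ?_⟩
    show x ∈ Subgroup.centralizer (B : Set X)
    exact Subgroup.mem_centralizer_iff.mpr fun b hb => hxB b hb
  have hfour : 4 ≤ W0.relIndex W := by
    by_contra hlt
    rw [not_le] at hlt
    have hne0 : W0.relIndex W ≠ 0 := Subgroup.index_ne_zero_of_finite
    have h12 : W0.relIndex W ≤ 2 := by
      have hd : W0.relIndex W ∣ 2 ^ kV := by
        rw [← hkV]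
        exact (Subgroup.relIndex_dvd_card W0 W).trans (Subgroup.card_dvd_of_le inf_le_left)
      obtain ⟨j, -, hj⟩ := (Nat.dvd_prime_pow Nat.prime_two).mp hd
      rw [hj] at hlt ⊢
      have : j < 2 := (Nat.pow_lt_pow_iff_right (by norm_num : 1 < 2)).mp (hlt.trans_eq (by norm_num))
      calc 2 ^ j ≤ 2 ^ 1 := Nat.pow_le_pow_right (by norm_num) (by omega)
        _ = 2 := by norm_num
    set c := MulAut.conj x with hc
    have hcW : W.map c.toMonoidHom = W := Subgroup.mem_normalizer_iff_map_conj_eq.mp hxW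
    set W1 := W0.map c.toMonoidHom with hW1
    have hi1 : W1.relIndex W = W0.relIndex W := by
      conv_lhs => rw [← hcW]
      exact Subgroup.relIndex_map_map_of_injective _ _ c.injective
    set I := W0 ⊓ W1 with hI
    have hI4 : I.relIndex W ≤ 4 := by
      refine (Subgroup.relIndex_inf_le).trans ?_
      rw [hi1]
      calc W0.relIndex W * W0.relIndex W ≤ 2 * 2 := Nat.mul_le_mul h12 h12
        _ = 4 := by norm_num
    have hIx : ∀ i ∈ I, x * i = i * x := by
      rintro i ⟨hi0, ⟨j, hj, hji⟩⟩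
      have e1 : a * i = i * a := Subgroup.mem_centralizer_iff.mp (Subgroup.mem_inf.mp hi0).2 a ha
      have e2 : a * j = j * a := Subgroup.mem_centralizer_iff.mp (Subgroup.mem_inf.mp hj).2 a ha
      have e3 : Commute (x * a * x⁻¹) i := by
        rw [← hji]
        show x * a * x⁻¹ * (x * j * x⁻¹) = x * j * x⁻¹ * (x * a * x⁻¹)
        calc x * a * x⁻¹ * (x * j * x⁻¹) = x * (a * j) * x⁻¹ := by group
          _ = x * (j * a) * x⁻¹ := by rw [e2]
          _ = _ := by group
      have e4 : Commute (x * x) i := by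
        have h : x * x = (x * a * x⁻¹) * a := by
          calc x * x = x * x⁻¹⁻¹ := by rw [inv_inv]
            _ = x * (a * x * a⁻¹)⁻¹ := by rw [hxa]
            _ = x * a * x⁻¹ * a := by rw [mul_inv_rev, mul_inv_rev, inv_inv, hai]; group
        rw [h]; exact e3.mul_left e1
      obtain ⟨t, ht⟩ : ∃ t, r = 2 * t + 1 := hr.odd_of_ne_two hr2
      have hx' : (x * x) ^ (t + 1) = x := by
        rw [← sq, ← pow_mul, show 2 * (t + 1) = r + 1 by omega, pow_succ, ← hox, pow_orderOf_eq_one,
          one_mul]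
      exact (hx' ▸ e4.pow_left (t + 1)).eq
    -- conjugates of `w` lie in pairwise different cosets of `I`
    have hxwW : ∀ k : ℕ, x ^ k * w * (x ^ k)⁻¹ ∈ W := fun k =>
      (Subgroup.mem_normalizer_iff.mp (Subgroup.pow_mem _ hxW k) w).mp hwW
    let f : Fin r → W ⧸ I.subgroupOf W := fun k => QuotientGroup.mk ⟨_, hxwW k⟩
    have hfle : ∀ k l : Fin r, (k : ℕ) ≤ l → f k = f l → k = l := by
      intro k l hkl' hkl
      have hmem : (x ^ (k : ℕ) * w * (x ^ (k : ℕ))⁻¹)⁻¹ * (x ^ (l : ℕ) * w * (x ^ (l : ℕ))⁻¹) ∈ I := by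
        simpa [Subgroup.mem_subgroupOf] using QuotientGroup.eq.mp hkl
      have hfix := (show Commute x _ from hIx _ hmem).pow_left
      -- the difference lies in the commutator, hence is trivial
      set z := (x ^ (k : ℕ) * w * (x ^ (k : ℕ))⁻¹)⁻¹ * (x ^ (l : ℕ) * w * (x ^ (l : ℕ))⁻¹) with hz
      have hcom : ∀ m : ℕ, w⁻¹ * (x ^ m * w * (x ^ m)⁻¹) ∈ ⁅V, S⁆ := fun m => by
        have := Subgroup.commutator_mem_commutator (V.inv_mem (Subgroup.mem_inf.mp hwW).1)
          (S.pow_mem (Subgroup.mem_zpowers x) m)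
        simpa [commutatorElement_def, mul_assoc] using this
      have hzU : z ∈ ⁅V, S⁆ := by
        have := mul_mem (inv_mem (hcom k)) (hcom l)
        rw [hz]; simpa [mul_assoc] using this
      have hzV : z ∈ V ⊓ Subgroup.centralizer (S : Set X) := by
        refine ⟨(Subgroup.mem_inf.mp (hW0W hmem.1)).1, ?_⟩
        show z ∈ Subgroup.centralizer (S : Set X)
        rw [hS, Subgroup.mem_centralizer_iff]
        intro s hs
        obtain ⟨i, rfl⟩ := Subgroup.mem_zpowers_iff.mp hs
        exact ((show Commute x z from hIx _ hmem).zpow_left i).eq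
      have hz1 : z ∈ (V ⊓ Subgroup.centralizer (S : Set X)) ⊓ ⁅V, S⁆ := ⟨hzV, hzU⟩
      rw [CfsgLib.Coprime.inf_centralizer_inf_commutator_eq_bot hSV hcopS, Subgroup.mem_bot, hz,
        inv_mul_eq_one] at hz1
      apply Fin.ext
      by_contra hne
      have hd : Commute (x ^ ((l : ℕ) - k)) w := by
        have e : x ^ (l : ℕ) = x ^ (k : ℕ) * x ^ ((l : ℕ) - k) := by rw [← pow_add, Nat.add_sub_cancel' hkl']
        rw [e, mul_inv_rev] at hz1
        have e2 : x ^ ((l : ℕ) - k) * w * (x ^ ((l : ℕ) - k))⁻¹ = w := by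
          calc _ = (x ^ (k : ℕ))⁻¹ * (x ^ (k : ℕ) * x ^ ((l : ℕ) - k) * w *
                ((x ^ ((l : ℕ) - k))⁻¹ * (x ^ (k : ℕ))⁻¹)) * x ^ (k : ℕ) := by group
            _ = w := by rw [← hz1]; group
        exact mul_inv_eq_iff_eq_mul.mp e2
      have hgcd : ((l : ℕ) - k).gcd r = 1 := by
        refine (Nat.coprime_comm.mp ((Nat.Prime.coprime_iff_not_dvd hr).mpr fun hdv => ?_))
        have h1 := l.2
        have := Nat.le_of_dvd (by omega) hdv
        omega
      obtain ⟨m, hm⟩ := Nat.exists_mul_mod_eq_one_of_coprime hgcd hr.one_lt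
      apply hwx
      have hx2 : (x ^ ((l : ℕ) - k)) ^ m = x := by
        rw [← pow_mul, ← pow_mod_orderOf, hox, hm.2, pow_one]
      exact (hx2 ▸ hd.pow_left m).eq
    have hfinj : Function.Injective f := fun k l h =>
      (le_total (k : ℕ) l).elim (fun h' => hfle k l h' h) fun h' => (hfle l k h' h.symm).symm
    have hcardf := Nat.card_le_card_of_injective f hfinj
    rw [Nat.card_fin] at hcardf
    have : Nat.card (W ⧸ I.subgroupOf W) = I.relIndex W := rfl
    omega
  have hBlt : Nat.card B < Nat.card A := by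
    by_contra h
    have heq := Subgroup.eq_of_le_of_card_ge hBA (not_lt.mp h)
    exact hya (Subgroup.mem_centralizer_iff.mp hyB a (heq.ge ha)).symm
  have hBA2 : Nat.card A ≤ 2 * Nat.card B := by
    have han : Subgroup.zpowers a ≤ Subgroup.normalizer (B : Set X) :=
      Subgroup.zpowers_le.mpr (Subgroup.mem_normalizer_iff.mpr fun b => ⟨fun hb => by
        rw [hAc a ha b (hBA hb), mul_inv_cancel_right]; exact hb, fun hb => by
        have hbA : b ∈ A := by
          have := A.mul_mem (A.mul_mem (A.inv_mem ha) (hBA hb)) ha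
          simpa [mul_assoc] using this
        rwa [hAc a ha b hbA, mul_inv_cancel_right] at hb⟩)
    have hidx : B.relIndex A ≤ 2 := by
      rw [← haB]
      refine Nat.le_of_dvd (by norm_num) (Subgroup.relIndex_dvd_two_iff.mpr
        ⟨a, Subgroup.mem_sup_right (Subgroup.mem_zpowers a), fun b hb => ?_⟩)
      obtain ⟨u, hu, s, hs, rfl⟩ := CfsgLib.Coprime.exists_mul_of_mem_sup han hb
      obtain ⟨i, rfl⟩ := Subgroup.mem_zpowers_iff.mp hs
      rcases Int.even_or_odd i with ⟨j, rfl⟩ | ⟨j, rfl⟩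
      · right; rwa [← two_mul, zpow_mul, zpow_two, haa, one_zpow, mul_one]
      · left
        rwa [zpow_add, zpow_mul, zpow_two, haa, one_zpow, one_mul, zpow_one, mul_assoc, haa, mul_one]
    calc Nat.card A = Nat.card B * B.relIndex A := by
          rw [← Subgroup.relIndex_bot_left (H := A), ← Subgroup.relIndex_bot_left (H := B),
            Subgroup.relIndex_mul_relIndex ⊥ B A bot_le hBA]
      _ ≤ Nat.card B * 2 := Nat.mul_le_mul_left _ hidx
      _ = 2 * Nat.card B := mul_comm _ _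
  have hB := ih (Nat.card B) (hn ▸ hBlt) B rfl (hBA.trans hAM)
    ⟨⟨⟨fun u v => Subtype.ext (hAc u (hBA u.2) v (hBA v.2))⟩⟩, fun b hb => hA.2 b (hBA hb)⟩
  calc Nat.card A ^ 2 ≤ (2 * Nat.card B) ^ 2 := Nat.pow_le_pow_left hBA2 2
    _ = 4 * Nat.card B ^ 2 := by ring
    _ ≤ W0.relIndex W * W.relIndex V := Nat.mul_le_mul hfour hB
    _ = W0.relIndex V := Subgroup.relIndex_mul_relIndex W0 W V hW0W inf_le_left

/-- Let M and V be subgroups of a finite group with V an elementary abelian 2-group, M normalizing V and acting faithfully on it (M ∩ C(V) = 1), and C_M(O_{2'}(M)) ≤ O_{2'}(M). If some elementary abelian 2-subgroup A of M satisfies |V : C_V(A)| < |A|², then M has a section isomorphic to the symmetric group of degree 3. -/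
theorem result {X : Type*} [Group X] [Finite X] (M V : Subgroup X) (hV : Cfsg.IsElementaryAbelian 2 V) (hMV : M ≤ Subgroup.normalizer (V : Set X)) (hfaith : M ⊓ Subgroup.centralizer (V : Set X) = ⊥) (hcon : Subgroup.centralizer (Cfsg.pPrimeCore 2 ↥M : Set ↥M) ≤ Cfsg.pPrimeCore 2 ↥M) (A : Subgroup X) (hAM : A ≤ M) (hA : Cfsg.IsElementaryAbelian 2 A) (hsmall : (V ⊓ Subgroup.centralizer (A : Set X)).relIndex V < Nat.card A ^ 2) : Cfsg.Involves (Equiv.Perm (Fin 3)) ↥M := by
  by_contra hno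
  exact absurd (bound M V hV hMV hfaith hcon hno _ A rfl hAM hA) (not_le.mpr hsmall)

end Cfsg.Agent.S3755
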