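import Cfsg.Statements.S3559
import Cfsg.Agent.SchurRing.Basic

set_option autoImplicit false
open Cfsg

namespace Cfsg.Agent.S3559

open MulAction CfsgLib.SchurRing

variable {G C : Type*} [Group G] [CommGroup C] [MulAction G C] [Finite C]

theorem card_pow_eq_one [IsCyclic C] {p : ℕ} (hp : p.Prime) :
    Nat.card {u : C // u ^ p = 1} ≤ p := by
  classical
  cases nonempty_fintype C
  rw [Nat.card_eq_fintype_card, Fintype.card_subtype]
  exact IsCyclic.card_pow_eq_one_le hp.pos

/-- A basic set contains whole cosets of the elements of order dividing `p`, away from them. -/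
theorem coset_subset (hτ : IsTranslating G C) [IsPreprimitive G C] [IsCyclic C] {p : ℕ}
    [Fact p.Prime] (hp : p ∣ Nat.card C) {X : Set C} (hX : IsInvariant G X)
    {x : C} (hx : x ∈ X) (hxp : x ^ p ≠ 1) {u : C} (hu : u ^ p = 1) : u * x ∈ X := by
  set Y : Set C := {z : C | ¬ p ∣ Nat.card {y : C // y ∈ X ∧ y ^ p = z}} with hY
  have hsub : Subgroup.closure Y ≤ (powMonoidHom p : C →* C).range := by
    rw [Subgroup.closure_le]
    intro z hz
    by_contra hno
    have : IsEmpty {y : C // y ∈ X ∧ y ^ p = z} := ⟨fun y => hno ⟨y.1, y.2.2⟩⟩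
    exact hz (by simp)
  have hproper : (powMonoidHom p : C →* C).range ≠ ⊤ := by
    intro h
    obtain ⟨u, hu⟩ := exists_prime_orderOf_dvd_card' p hp
    have hinj : Function.Injective (powMonoidHom p : C →* C) :=
      Finite.injective_iff_surjective.2 (MonoidHom.range_eq_top.1 h)
    have : u = 1 := hinj (by simp [← hu, pow_orderOf_eq_one])
    rw [this, orderOf_one] at hu
    exact (Fact.out : p.Prime).one_lt.ne hu
  have hbot : Subgroup.closure Y = ⊥ :=
    (eq_bot_or_top hτ _ (isInvariant_closure hτ (isInvariant_powPrime hτ hX))).resolve_right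
      fun h => hproper (top_le_iff.1 (h ▸ hsub))
  have hdvd : p ∣ Nat.card {y : C // y ∈ X ∧ y ^ p = x ^ p} := by
    by_contra h
    have h1 : x ^ p ∈ Subgroup.closure Y := Subgroup.subset_closure h
    rw [hbot, Subgroup.mem_bot] at h1
    exact hxp h1
  by_contra hux
  let f : Option {y : C // y ∈ X ∧ y ^ p = x ^ p} → {v : C // v ^ p = 1} := fun o =>
    o.elim ⟨u, hu⟩ fun y => ⟨y.1 * x⁻¹, by rw [mul_pow, y.2.2, inv_pow, mul_inv_cancel]⟩
  have hf : Function.Injective f := by
    rintro (_ | a) (_ | b) h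
    · rfl
    · exact absurd (by rw [show u = b.1 * x⁻¹ from congrArg Subtype.val h, inv_mul_cancel_right]; exact b.2.1) hux
    · exact absurd (by rw [show u = a.1 * x⁻¹ from (congrArg Subtype.val h).symm, inv_mul_cancel_right]; exact a.2.1) hux
    · exact congrArg some (Subtype.ext (mul_right_cancel (congrArg Subtype.val h)))
  have h1 := (Nat.card_le_card_of_injective f hf).trans (card_pow_eq_one (Fact.out : p.Prime))
  have : Nonempty {y : C // y ∈ X ∧ y ^ p = x ^ p} := ⟨⟨x, hx, rfl⟩⟩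
  have h2 := Nat.le_of_dvd Nat.card_pos hdvd
  rw [Finite.card_option] at h1
  omega

/-- Every non-empty invariant set without `1` has an element of order dividing `p`. -/
theorem meets (hτ : IsTranslating G C) [IsPreprimitive G C] [IsCyclic C] {p : ℕ}
    [Fact p.Prime] (hp : p ∣ Nat.card C) {X : Set C} (hX : IsInvariant G X) (h1 : (1 : C) ∉ X)
    (hne : X.Nonempty) : ∃ x ∈ X, x ^ p = 1 := by
  by_contra! h
  obtain ⟨u, hu⟩ := exists_prime_orderOf_dvd_card' p hp
  have humem : u ∈ rightStab X := fun x hx =>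
    coset_subset hτ hp hX hx (h x hx) (by rw [← hu, pow_orderOf_eq_one])
  rcases eq_bot_or_top hτ _ (isInvariant_rightStab hτ hX) with hs | hs
  · rw [hs, Subgroup.mem_bot] at humem
    rw [humem, orderOf_one] at hu
    exact (Fact.out : p.Prime).one_lt.ne hu
  · obtain ⟨x, hx⟩ := hne
    have : x⁻¹ * x ∈ X := (hs ▸ Subgroup.mem_top x⁻¹ : x⁻¹ ∈ rightStab X) x hx
    exact h1 (by rwa [inv_mul_cancel] at this)

/-- Schur: a primitive group on a cyclic group of non-prime-power order is doubly transitive. -/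
theorem stabilizer_transitive (hτ : IsTranslating G C) [IsPreprimitive G C] [IsCyclic C]
    {p q : ℕ} [Fact p.Prime] [Fact q.Prime] (hpq : p ≠ q) (hp : p ∣ Nat.card C)
    (hq : q ∣ Nat.card C) : ∀ x y : C, x ≠ 1 → y ≠ 1 → y ∈ orbit (stabilizer G (1 : C)) x := by
  obtain ⟨w, hw⟩ := exists_prime_orderOf_dvd_card' (G := C) p hp
  suffices key : ∀ x : C, x ≠ 1 → w ∈ orbit (stabilizer G (1 : C)) x by
    intro x y hx hy
    rw [← orbit_eq_iff.2 (key x hx), orbit_eq_iff.2 (key y hy)]
    exact mem_orbit_self y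
  intro x hx
  set X := orbit (stabilizer G (1 : C)) x with hXdef
  have hX : IsInvariant G X := isInvariant_orbit x
  have h1 : (1 : C) ∉ X := fun h => ne_one_of_mem_orbit hx h rfl
  obtain ⟨u, huX, hu⟩ := meets hτ hp hX h1 ⟨x, mem_orbit_self x⟩
  obtain ⟨v, hvX, hv⟩ := meets hτ hq hX h1 ⟨x, mem_orbit_self x⟩
  have hu1 : u ≠ 1 := fun h => h1 (h ▸ huX)
  -- `w` is a power of `u`
  have hou : orderOf u = p := orderOf_eq_prime hu hu1
  obtain ⟨i, hi⟩ : ∃ i : ℕ, u ^ i = w := by
    have hwu : w ∈ Subgroup.zpowers u := by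
      by_contra hno
      classical
      let f : Option (Subgroup.zpowers u) → {t : C // t ^ p = 1} := fun o =>
        o.elim ⟨w, by rw [← hw, pow_orderOf_eq_one]⟩ fun t => ⟨t.1, by
          obtain ⟨k, hk⟩ := t.2
          simp only at hk
          rw [← hk, ← zpow_natCast, ← zpow_mul, mul_comm, zpow_mul, zpow_natCast, hu, one_zpow]⟩
      have hf : Function.Injective f := by
        rintro (_ | a) (_ | b) h
        · rfl
        · exact absurd (by rw [show w = b.1 from congrArg Subtype.val h]; exact b.2) hno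
        · exact absurd (by rw [show w = a.1 from (congrArg Subtype.val h).symm]; exact a.2) hno
        · exact congrArg some (Subtype.ext (congrArg Subtype.val h :))
      have := (Nat.card_le_card_of_injective f hf).trans (card_pow_eq_one (Fact.out : p.Prime))
      rw [Finite.card_option, Nat.card_zpowers, hou] at this
      omega
    rw [← mem_powers_iff_mem_zpowers] at hwu
    exact hwu
  have hip : i.Coprime p := by
    rw [Nat.coprime_comm, (Fact.out : p.Prime).coprime_iff_not_dvd]
    intro hd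
    rw [orderOf_dvd_iff_pow_eq_one.1 (hou ▸ hd), eq_comm] at hi
    rw [hi, orderOf_one] at hw
    exact (Fact.out : p.Prime).one_lt.ne hw
  -- a multiplier equal to `i` modulo `p` and to `1` modulo `q`
  have hcop : p.Coprime q := (Nat.coprime_primes Fact.out Fact.out).2 hpq
  obtain ⟨j, hjp, hjq⟩ := Nat.chineseRemainder hcop i 1
  have hj : j.Coprime (p * q) := by
    refine Nat.Coprime.mul_right ?_ ?_
    · rw [Nat.Coprime, Nat.ModEq.gcd_eq hjp]; exact hip
    · rw [Nat.Coprime, Nat.ModEq.gcd_eq hjq, Nat.gcd_one_left]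
  have hne0 : NeZero (Nat.card C) := ⟨Nat.card_pos.ne'⟩
  obtain ⟨μ, hμ⟩ := ZMod.unitsMap_surjective (hcop.mul_dvd_of_dvd_of_dvd hp hq) (ZMod.unitOfCoprime j hj)
  set m := (μ : ZMod (Nat.card C)).val with hm
  have hmn : m.Coprime (Nat.card C) := ZMod.val_coe_unit_coprime μ
  have hmj : m ≡ j [MOD p * q] := by
    rw [← ZMod.natCast_eq_natCast_iff]
    have h := congrArg (fun t : (ZMod (p * q))ˣ => (t : ZMod (p * q))) hμ
    simp only [ZMod.unitsMap_val, ZMod.coe_unitOfCoprime] at h
    rw [← h, hm]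
    exact ZMod.natCast_val _
  have hmp : u ^ m = w := by
    rw [← hi, pow_eq_pow_iff_modEq, hou]
    exact (hmj.of_dvd (dvd_mul_right p q)).trans hjp
  have hmq : v ^ m = v := by
    conv_rhs => rw [← pow_one v]
    rw [pow_eq_pow_iff_modEq]
    exact ((hmj.of_dvd (dvd_mul_left q p)).trans hjq).of_dvd (orderOf_dvd_of_pow_eq_one hv)
  have hsub : X ⊆ (· ^ m) '' X := by
    intro y hy
    refine orbit_subset (isInvariant_image_pow hτ hX m hmn) (⟨v, hvX, hmq⟩ : v ∈ (· ^ m) '' X) ?_
    rw [orbit_eq_iff.2 hvX]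
    exact hy
  have heq : X = (· ^ m) '' X :=
    Set.eq_of_subset_of_ncard_le hsub (Set.ncard_image_le (Set.toFinite X)) (Set.toFinite _)
  rw [heq]
  exact ⟨u, huX, hmp⟩


/-- Let G act faithfully and transitively on a finite set whose number of points n ≥ 2 is not a prime power, and suppose G has a cyclic subgroup acting regularly (transitively with trivial point stabilizers). Then G is imprimitive or doubly transitive. -/
theorem result {G Ω : Type*} [Group G] [Finite G] [MulAction G Ω] [FaithfulSMul G Ω] [Finite Ω]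
    (htrans : MulAction.IsPretransitive G Ω) (hn : 2 ≤ Nat.card Ω) (hnp : ¬ IsPrimePow (Nat.card Ω))
    (C : Subgroup G) (hcyc : IsCyclic ↥C) (hC : MulAction.IsPretransitive ↥C Ω ∧ ∀ a : Ω, MulAction.stabilizer ↥C a = ⊥) :
    ¬ MulAction.IsPreprimitive G Ω ∨ MulAction.IsMultiplyPretransitive G Ω 2 := by
  by_contra hcon
  push Not at hcon
  obtain ⟨hprim, h2⟩ := hcon
  obtain ⟨hCt, hCs⟩ := hC
  obtain ⟨a⟩ := (Finite.one_lt_card_iff_nontrivial.1 hn).to_nonempty
  obtain ⟨e, he⟩ := exists_transport C a (hCs a)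
  let : CommGroup ↥C := IsCyclic.commGroup
  let : MulAction G ↥C :=
    { smul := fun g c => e.symm (g • e c)
      one_smul := fun c => show e.symm ((1 : G) • e c) = c by rw [one_smul, e.symm_apply_apply]
      mul_smul := fun g h c => show e.symm ((g * h) • e c) = e.symm (g • e (e.symm (h • e c))) by
        rw [e.apply_symm_apply, mul_smul] }
  have hτ : CfsgLib.SchurRing.IsTranslating G ↥C := fun c => ⟨c, fun x => by
    change e.symm ((c : G) • e x) = c * x
    rw [e.symm_apply_eq, he, he, mul_smul]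
    rfl⟩
  have : IsPreprimitive G ↥C := hprim.of_surjective
    (f := (MulActionHom.mk (φ := @id G) e.symm fun g x => by
      change e.symm (g • x) = e.symm (g • e (e.symm x))
      rw [e.apply_symm_apply])) e.symm.surjective
  have hcard : Nat.card ↥C = Nat.card Ω := Nat.card_congr e
  obtain ⟨p, hp, hpd⟩ := Nat.exists_prime_and_dvd (n := Nat.card Ω) (by omega)
  obtain ⟨q, hq, hqd, hqp⟩ : ∃ q : ℕ, q.Prime ∧ q ∣ Nat.card Ω ∧ q ≠ p := by
    by_contra! h
    refine hnp ((isPrimePow_iff_unique_prime_dvd).2 ⟨p, ⟨hp, hpd⟩, fun q hq => h q hq.1 hq.2⟩)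
  have : Fact p.Prime := ⟨hp⟩
  have : Fact q.Prime := ⟨hq⟩
  have key := stabilizer_transitive hτ (p := p) (q := q) hqp.symm (hcard ▸ hpd) (hcard ▸ hqd)
  apply h2
  rw [is_two_pretransitive_iff]
  have hto : ∀ x y : Ω, x ≠ y → ∃ g : G, g • e 1 = x ∧ g • e (e.symm ((e.symm x)⁻¹ • y : Ω)) = y := by
    intro x y hxy
    refine ⟨((e.symm x : ↥C) : G), ?_, ?_⟩
    · conv_rhs => rw [← e.apply_symm_apply x]
      rw [he, he, one_smul]
      rfl
    · rw [e.apply_symm_apply]
      exact smul_inv_smul (e.symm x) y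
  intro x y x' y' hxy hxy'
  obtain ⟨g, hg1, hg2⟩ := hto x y hxy
  obtain ⟨g', hg1', hg2'⟩ := hto x' y' hxy'
  have hne : ∀ u v : Ω, u ≠ v → ∀ k : G, k • e 1 = u → ∀ c : ↥C, k • e c = v → c ≠ 1 := by
    rintro u v huv k hk c hkc rfl
    exact huv (hk.symm.trans hkc)
  obtain ⟨⟨h, hh⟩, hhc⟩ := key _ _ (hne x y hxy g hg1 _ hg2) (hne x' y' hxy' g' hg1' _ hg2')
  have hh1 : h • e 1 = e 1 := by
    have h1 : e.symm (h • e 1) = 1 := hh
    rwa [e.symm_apply_eq] at h1
  have hhc' : h • e (e.symm ((e.symm x)⁻¹ • y)) = e (e.symm ((e.symm x')⁻¹ • y')) := by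
    have h1 : e.symm (h • e (e.symm ((e.symm x)⁻¹ • y))) = e.symm ((e.symm x')⁻¹ • y') := hhc
    rwa [e.symm_apply_eq] at h1
  refine ⟨g' * h * g⁻¹, ?_, ?_⟩
  · rw [← hg1, mul_smul, inv_smul_smul, mul_smul, hh1, hg1']
  · conv_lhs => rw [← hg2, mul_smul, inv_smul_smul, mul_smul, hhc', hg2']

end Cfsg.Agent.S3559
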