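import Cfsg.Statements.S3972

import Cfsg.Agent.S3559
-- import your own Cfsg.Agent.* helpers here

set_option autoImplicit false
open Cfsg

set_option linter.style.haveILetI false

namespace Cfsg.Agent.S3972

open MulAction CfsgLib.SchurRing
open scoped Pointwise

variable {G C : Type*} [Group G] [CommGroup C] [MulAction G C] [Finite C]

/-- A basic set of a primitive group on a cyclic group has, with two elements of order dividing `p`,
their product, unless that is `1`. -/
theorem mul_mem_orbit (hτ : IsTranslating G C) [IsPreprimitive G C] [IsCyclic C] {p m : ℕ}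
    [Fact p.Prime] (hm : 2 ≤ m) (hC : Nat.card C = p ^ m) {s t₁ t₂ : C} (hs : s ≠ 1)
    (h₁ : t₁ ∈ orbit (stabilizer G (1 : C)) s) (h₂ : t₂ ∈ orbit (stabilizer G (1 : C)) s)
    (hp₁ : t₁ ^ p = 1) (hp₂ : t₂ ^ p = 1) (hw1 : t₁ * t₂ ≠ 1) :
    t₁ * t₂ ∈ orbit (stabilizer G (1 : C)) s := by
  classical
  have hp : p.Prime := Fact.out
  have hpd : p ∣ Nat.card C := hC ▸ dvd_pow_self p (by omega)
  set X := orbit (stabilizer G (1 : C)) s with hXdef
  have hX : IsInvariant G X := isInvariant_orbit s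
  by_contra hw
  set w := t₁ * t₂ with hwdef
  have hwp : w ^ p = 1 := by rw [mul_pow, hp₁, hp₂, mul_one]
  let U : Subgroup C := (powMonoidHom p : C →* C).ker
  have hUle : Nat.card U ≤ p := Cfsg.Agent.S3559.card_pow_eq_one (C := C) hp
  have hU : Nat.card U = p := by
    obtain ⟨u, hu⟩ := exists_prime_orderOf_dvd_card' p hpd
    refine le_antisymm hUle ?_
    have hle : Subgroup.zpowers u ≤ U := by
      rw [Subgroup.zpowers_le]
      show u ^ p = 1
      rw [← hu, pow_orderOf_eq_one]
    rw [← hu, ← Nat.card_zpowers]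
    exact Nat.le_of_dvd Nat.card_pos (Subgroup.card_dvd_of_le hle)
  -- an element of the orbit of `w` outside `U`
  obtain ⟨z, hz, hzp⟩ : ∃ z ∈ orbit (stabilizer G (1 : C)) w, z ^ p ≠ 1 := by
    by_contra h
    simp only [not_exists, not_and, not_not] at h
    have hle : Subgroup.closure (orbit (stabilizer G (1 : C)) w) ≤ U :=
      (Subgroup.closure_le _).mpr h
    rcases eq_bot_or_top hτ _ (isInvariant_closure hτ (isInvariant_orbit w)) with hb | hb
    · have := Subgroup.subset_closure (mem_orbit_self (M := stabilizer G (1 : C)) w)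
      rw [hb] at this
      exact hw1 (Subgroup.mem_bot.mp this)
    · rw [hb, top_le_iff] at hle
      rw [hle, Subgroup.card_top, hC] at hU
      have := Nat.pow_lt_pow_right hp.one_lt (show 1 < m by omega)
      rw [pow_one, hU] at this
      exact lt_irrefl _ this
  have hzX : z ∉ X := fun h => hw (by
    rw [hXdef, ← orbit_eq_iff.2 h, orbit_eq_iff.2 hz]
    exact mem_orbit_self w)
  -- whole cosets
  have hcos : ∀ x ∈ X, x ^ p ≠ 1 → ∀ u : C, u ^ p = 1 → u * x ∈ X := fun x hx hxp u hu =>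
    Cfsg.Agent.S3559.coset_subset hτ hpd hX hx hxp hu
  -- the structure constants are invariant
  let N : C → ℕ := fun y => Nat.card {x : C // x ∈ X ∧ x⁻¹ * y ∈ X}
  have hN : ∀ g ∈ stabilizer G (1 : C), ∀ y, N y ≤ N (g • y) := fun g hg y =>
    Nat.card_le_card_of_injective
      (fun x : {x : C // x ∈ X ∧ x⁻¹ * y ∈ X} => (⟨g • x.1, hX g hg _ x.2.1, div_mem hτ hX g x.2.2⟩ :
        {x : C // x ∈ X ∧ x⁻¹ * (g • y) ∈ X}))
      fun a b h => Subtype.ext (MulAction.injective g (congrArg Subtype.val h))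
  have hNeq : N z = N w := by
    obtain ⟨⟨g, hg⟩, rfl⟩ := hz
    refine le_antisymm ?_ (hN g hg w)
    have := hN g⁻¹ ((stabilizer G (1 : C)).inv_mem hg) (g • w)
    rwa [inv_smul_smul] at this
  let A : C → Set C := fun y => {x | (x ∈ X ∧ x ^ p ≠ 1) ∧ (x⁻¹ * y ∈ X ∧ (x⁻¹ * y) ^ p ≠ 1)}
  have hA : ∀ y, p ∣ Nat.card (A y) := by
    intro y
    have hcoset : ∀ u : C, u ∈ U → ∀ x ∈ A y, x * u ∈ A y := by
      intro u hu x hx
      have hu' : u ^ p = 1 := hu
      have hu'' : u⁻¹ ^ p = 1 := by rw [inv_pow, hu', inv_one]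
      refine ⟨⟨?_, ?_⟩, ?_, ?_⟩
      · rw [mul_comm]; exact hcos x hx.1.1 hx.1.2 u hu'
      · rw [mul_pow, hu', mul_one]; exact hx.1.2
      · rw [mul_inv_rev, mul_assoc]; exact hcos _ hx.2.1 hx.2.2 _ hu''
      · rw [mul_inv_rev, mul_assoc, mul_pow, hu'', one_mul]; exact hx.2.2
    have heq : A y = QuotientGroup.mk ⁻¹' (QuotientGroup.mk '' (A y) : Set (C ⧸ U)) := by
      refine Set.Subset.antisymm (Set.subset_preimage_image _ _) ?_
      rintro x ⟨x', hx', he⟩
      have := hcoset _ (QuotientGroup.eq.mp he) x' hx'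
      rwa [mul_inv_cancel_left] at this
    rw [heq, Nat.card_congr (QuotientGroup.preimageMkEquivSubgroupProdSet U _), Nat.card_prod, hU]
    exact dvd_mul_right _ _
  have hNz : N z = Nat.card (A z) := by
    refine Nat.card_congr (Equiv.subtypeEquivRight fun x => ?_)
    refine ⟨fun hx => ⟨⟨hx.1, fun hxp => hzX ?_⟩, hx.2, fun hxp => hzX ?_⟩, fun hx => ⟨hx.1.1, hx.2.1⟩⟩
    · have hq : (x⁻¹ * z) ^ p ≠ 1 := by rwa [mul_pow, inv_pow, hxp, inv_one, one_mul]
      have := hcos _ hx.2 hq x hxp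
      rwa [mul_inv_cancel_left] at this
    · have hq : x ^ p ≠ 1 := by
        rw [mul_pow, inv_pow, inv_mul_eq_one] at hxp
        rwa [hxp]
      have := hcos _ hx.1 hq _ hxp
      rwa [mul_comm (x⁻¹ * z), mul_inv_cancel_left] at this
  let B : Set C := {x | x ^ p = 1 ∧ x ∈ X ∧ x⁻¹ * w ∈ X}
  have hNw : N w = Nat.card (A w) + Nat.card B := by
    have hu : {x : C | x ∈ X ∧ x⁻¹ * w ∈ X} = A w ∪ B := by
      ext x
      refine ⟨fun hx => ?_, ?_⟩
      · rcases em (x ^ p = 1) with h | h
        · exact Or.inr ⟨h, hx.1, hx.2⟩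
        · refine Or.inl ⟨⟨hx.1, h⟩, hx.2, fun h' => h ?_⟩
          rwa [mul_pow, hwp, mul_one, inv_pow, inv_eq_one] at h'
      · rintro (hx | hx)
        · exact ⟨hx.1.1, hx.2.1⟩
        · exact ⟨hx.2.1, hx.2.2⟩
    have hd : Disjoint (A w) B := Set.disjoint_left.mpr fun x hx hx' => hx.1.2 hx'.1
    show Nat.card ({x : C | x ∈ X ∧ x⁻¹ * w ∈ X} : Set C) = _
    rw [hu, Nat.card_coe_set_eq, Nat.card_coe_set_eq, Nat.card_coe_set_eq,
      Set.ncard_union_eq hd]
  have hB1 : 0 < Nat.card B := by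
    haveI : Nonempty B := ⟨⟨t₁, hp₁, h₁, by rwa [hwdef, inv_mul_cancel_left]⟩⟩
    exact Nat.card_pos
  have hB2 : Nat.card B < p := by
    have hsub : B ⊂ (U : Set C) := by
      refine Set.ssubset_iff_subset_ne.mpr ⟨fun x hx => hx.1, fun h => ?_⟩
      have h1 : (1 : C) ∈ B := h.symm ▸ U.one_mem
      exact ne_one_of_mem_orbit hs h1.2.1 rfl
    have := Set.ncard_lt_ncard hsub (Set.toFinite _)
    rw [Nat.card_coe_set_eq]
    rwa [← Nat.card_coe_set_eq (U : Set C), SetLike.coe_sort_coe, hU] at this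
  have hdB : p ∣ Nat.card B := by
    have h : p ∣ Nat.card (A w) + Nat.card B := by rw [← hNw, ← hNeq, hNz]; exact hA z
    exact (Nat.dvd_add_right (hA w)).mp h
  exact Nat.not_dvd_of_pos_of_lt hB1 hB2 hdB

/-- Schur: a primitive group on a cyclic group of order `p ^ m`, `m ≥ 2`, is doubly transitive. -/
theorem stabilizer_transitive (hτ : IsTranslating G C) [IsPreprimitive G C] [IsCyclic C] {p m : ℕ}
    [Fact p.Prime] (hm : 2 ≤ m) (hC : Nat.card C = p ^ m) :
    ∀ x y : C, x ≠ 1 → y ≠ 1 → y ∈ orbit (stabilizer G (1 : C)) x := by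
  classical
  have hp : p.Prime := Fact.out
  have hpd : p ∣ Nat.card C := hC ▸ dvd_pow_self p (by omega)
  have key : ∀ x : C, x ≠ 1 → ∀ u : C, u ^ p = 1 → u ≠ 1 →
      u ∈ orbit (stabilizer G (1 : C)) x := by
    intro x hx u hu hu1
    have h1 : (1 : C) ∉ orbit (stabilizer G (1 : C)) x := fun h => ne_one_of_mem_orbit hx h rfl
    obtain ⟨t, ht, htp⟩ :=
      Cfsg.Agent.S3559.meets hτ hpd (isInvariant_orbit x) h1 ⟨x, mem_orbit_self x⟩
    have ht1 : t ≠ 1 := ne_one_of_mem_orbit hx ht
    have hot : orderOf t = p := orderOf_eq_prime htp ht1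
    have hpow : ∀ k : ℕ, 1 ≤ k → k < p → t ^ k ∈ orbit (stabilizer G (1 : C)) x := by
      intro k hk
      induction k, hk using Nat.le_induction with
      | base => intro _; rwa [pow_one]
      | succ k hk ih =>
        intro hlt
        rw [pow_succ]
        refine mul_mem_orbit hτ hm hC hx (ih (by omega)) ht ?_ htp ?_
        · rw [← pow_mul, mul_comm, pow_mul, htp, one_pow]
        · rw [← pow_succ]
          exact pow_ne_one_of_lt_orderOf (by omega) (hot.symm ▸ hlt)
    obtain ⟨k, hk⟩ : ∃ k, t ^ k = u := by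
      have hle : Subgroup.zpowers t ≤ (powMonoidHom p : C →* C).ker :=
        Subgroup.zpowers_le.mpr htp
      have heq : Subgroup.zpowers t = (powMonoidHom p : C →* C).ker := by
        refine Subgroup.eq_of_le_of_card_ge hle ?_
        rw [Nat.card_zpowers, hot]
        exact Cfsg.Agent.S3559.card_pow_eq_one hp
      have : u ∈ Subgroup.zpowers t := heq ▸ hu
      rw [← mem_powers_iff_mem_zpowers] at this
      exact this
    rw [← hk, ← pow_mod_orderOf t k, hot]
    refine hpow _ ?_ (Nat.mod_lt _ hp.pos)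
    rcases Nat.eq_zero_or_pos (k % p) with h | h
    · rw [← hot] at h
      exact absurd (hk.symm.trans (by rw [← pow_mod_orderOf, h, pow_zero])) hu1
    · exact h
  obtain ⟨v, hv⟩ := exists_prime_orderOf_dvd_card' (G := C) p hpd
  intro x y hx hy
  have hvp : v ^ p = 1 := by rw [← hv, pow_orderOf_eq_one]
  have hv1 : v ≠ 1 := fun h => by rw [h, orderOf_one] at hv; exact hp.one_lt.ne hv
  rw [← orbit_eq_iff.2 (key x hx v hvp hv1), orbit_eq_iff.2 (key y hy v hvp hv1)]
  exact mem_orbit_self y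

/-- In an imprimitive group on a cyclic `p`-group the elements of order dividing `p` of the regular
subgroup generate an intransitive normal subgroup. -/
theorem intransitive_normalClosure (hτ : IsTranslating G C) [IsCyclic C] {p m : ℕ}
    [Fact p.Prime] (hC : Nat.card C = p ^ m) (hnp : ¬ IsPreprimitive G C) (u : G) (c : C)
    (hc : c ^ p = 1) (hu : ∀ x : C, u • x = c * x) :
    ¬ IsPretransitive (Subgroup.normalClosure ({u} : Set G)) C := by
  classical
  have hp : p.Prime := Fact.out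
  haveI := isPretransitive hτ
  obtain ⟨B, hB, h1B, hnt⟩ : ∃ B : Set C, IsBlock G B ∧ (1 : C) ∈ B ∧ ¬ IsTrivialBlock B := by
    by_contra h
    simp only [not_exists, not_and, not_not] at h
    exact hnp (IsPreprimitive.of_isTrivialBlock_base (1 : C) fun {B} h1 hB => h B hB h1)
  have hblock : ∀ (k : G), ((k • B) ∩ B).Nonempty → k • B = B :=
    fun k hk => (isBlock_iff_smul_eq_of_nonempty.mp hB) hk
  have hmul : ∀ a ∈ B, ∀ b ∈ B, a * b ∈ B := by
    intro a ha b hb
    obtain ⟨k, hk⟩ := hτ a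
    have hkB : k • B = B := hblock k ⟨a, ⟨1, h1B, by show k • (1 : C) = a; rw [hk, mul_one]⟩, ha⟩
    rw [← hkB]
    exact ⟨b, hb, hk b⟩
  have hpw : ∀ x ∈ B, ∀ n : ℕ, x ^ n ∈ B := by
    intro x hx n
    induction n with
    | zero => rwa [pow_zero]
    | succ n ih => rw [pow_succ]; exact hmul _ ih x hx
  let K : Subgroup C :=
    { carrier := B
      mul_mem' := fun {a b} ha hb => hmul a ha b hb
      one_mem' := h1B
      inv_mem' := fun {x} hx => by
        have : x⁻¹ = x ^ (orderOf x - 1) := by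
          rw [inv_eq_iff_mul_eq_one, ← pow_succ', Nat.sub_add_cancel (orderOf_pos x),
            pow_orderOf_eq_one]
        rw [this]
        exact hpw x hx _ }
  have hK : ∀ x, x ∈ K ↔ x ∈ B := fun x => Iff.rfl
  have hcB : c ∈ B := by
    obtain ⟨b, hb, hb1⟩ : ∃ b ∈ B, b ≠ 1 := by
      by_contra h
      simp only [not_exists, not_and, not_not] at h
      exact hnt (Or.inl (Set.subsingleton_of_subset_singleton (a := 1) h))
    haveI : Nontrivial K := ⟨⟨⟨b, hb⟩, 1, fun h => hb1 (congrArg Subtype.val h)⟩⟩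
    obtain ⟨i, hi, hKi⟩ := (Nat.dvd_prime_pow hp).mp (hC ▸ K.card_subgroup_dvd_card)
    have hi0 : i ≠ 0 := fun h => by
      rw [h, pow_zero] at hKi
      exact (Finite.one_lt_card (α := K)).ne' hKi
    obtain ⟨w, hw⟩ := exists_prime_orderOf_dvd_card' (G := K) p (hKi ▸ dvd_pow_self p hi0)
    have how : orderOf (w : C) = p := by rw [Subgroup.orderOf_coe, hw]
    have heq : Subgroup.zpowers (w : C) = (powMonoidHom p : C →* C).ker := by
      refine Subgroup.eq_of_le_of_card_ge (Subgroup.zpowers_le.mpr ?_) ?_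
      · show (w : C) ^ p = 1
        rw [← how, pow_orderOf_eq_one]
      · rw [Nat.card_zpowers, how]
        exact Cfsg.Agent.S3559.card_pow_eq_one hp
    exact (hK c).mp ((Subgroup.zpowers_le.mpr w.2) (heq.ge hc))
  have hcore : u ∈ (stabilizer G B).normalCore := by
    intro k
    show k * u * k⁻¹ ∈ stabilizer G B
    rw [mem_stabilizer_iff]
    obtain ⟨l, hl⟩ := hτ (k⁻¹ • (1 : C))
    have hlB : k⁻¹ • B = l • B := by
      have hkl : (l⁻¹ * k⁻¹) • B = B := by
        refine hblock _ ⟨1, ⟨1, h1B, ?_⟩, h1B⟩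
        show (l⁻¹ * k⁻¹) • (1 : C) = 1
        rw [mul_smul, inv_smul_eq_iff, hl, mul_one]
      rwa [mul_smul, inv_smul_eq_iff] at hkl
    have hul : u • l • B = l • B := by
      refine Set.eq_of_subset_of_ncard_le ?_ ?_ (Set.toFinite _)
      · rintro _ ⟨_, ⟨b, hb, rfl⟩, rfl⟩
        refine ⟨c * b, hmul c hcB b hb, ?_⟩
        show l • (c * b) = u • l • b
        rw [hu, hl, hl, mul_left_comm]
      · exact (Set.ncard_image_of_injective _ (MulAction.injective u)).ge
    rw [mul_smul, mul_smul, hlB, hul, ← hlB, smul_inv_smul]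
  intro htr
  refine hnt (Or.inr (Set.eq_univ_of_forall fun x => ?_))
  obtain ⟨⟨k, hk⟩, hkx⟩ := htr.exists_smul_eq (1 : C) x
  have hkB : k • B = B := by
    have := (Subgroup.normalCore_le _) ((Subgroup.normalClosure_le_normal
      (Set.singleton_subset_iff.mpr hcore)) hk)
    exact this
  rw [← hkB, ← hkx]
  exact ⟨1, h1B, rfl⟩


/-- Let `p` be a prime, `m ≥ 2`, and `G` a transitive but not doubly transitive permutation group on `p ^ m` points containing a permutation of order `p ^ m` (necessarily a full cycle). Then `G` is imprimitive, and the normal closure in `G` of the `p ^ (m - 1)`-th power of that permutation is an intransitive normal subgroup. -/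
theorem result {Ω : Type*} [Fintype Ω] [DecidableEq Ω] (p m : ℕ) (hp : p.Prime) (hm : 2 ≤ m) (hΩ : Fintype.card Ω = p ^ m) (G : Subgroup (Equiv.Perm Ω)) (htr : MulAction.IsPretransitive G Ω) (h2 : ¬ MulAction.IsMultiplyPretransitive G Ω 2) (g : G) (hg : orderOf g = p ^ m) : ¬ MulAction.IsPreprimitive G Ω ∧ ¬ MulAction.IsPretransitive (Subgroup.normalClosure ({g ^ (p ^ (m - 1))} : Set G)) Ω := by
  classical
  haveI := Fact.mk hp
  let C : Subgroup G := Subgroup.zpowers g
  have hcardC : Nat.card C = p ^ m := (Nat.card_zpowers g).trans hg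
  set h : G := g ^ (p ^ (m - 1)) with hhdef
  have hh1 : h ≠ 1 := by
    refine pow_ne_one_of_lt_orderOf (pow_ne_zero _ hp.ne_zero) ?_
    rw [hg]
    exact Nat.pow_lt_pow_right hp.one_lt (by omega)
  obtain ⟨a, ha⟩ : ∃ a : Ω, h • a ≠ a := by
    by_contra hno
    simp only [ne_eq, not_exists, not_not] at hno
    exact hh1 (eq_of_smul_eq_smul fun a : Ω => by rw [hno a, one_smul])
  haveI : IsCyclic C := isCyclic_iff_exists_zpowers_eq_top.mpr ⟨⟨g, Subgroup.mem_zpowers g⟩, by
    refine eq_top_iff.mpr fun x _ => ?_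
    obtain ⟨k, hk⟩ := x.2
    exact ⟨k, Subtype.ext hk⟩⟩
  let hC' : C := ⟨h, Subgroup.pow_mem _ (Subgroup.mem_zpowers g) _⟩
  let : CommGroup ↥C := IsCyclic.commGroup
  have hhp : hC' ^ p = 1 := Subtype.ext (by
    show (g ^ (p ^ (m - 1))) ^ p = 1
    rw [← pow_mul, ← pow_succ, show m - 1 + 1 = m by omega, ← hg, pow_orderOf_eq_one])
  have hstab : stabilizer C a = ⊥ := by
    by_contra hne
    haveI : Nontrivial (stabilizer C a) := (Subgroup.nontrivial_iff_ne_bot _).mpr hne
    obtain ⟨i, hi, hKi⟩ := (Nat.dvd_prime_pow hp).mp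
      (hcardC ▸ (stabilizer C a).card_subgroup_dvd_card)
    have hi0 : i ≠ 0 := fun h => by
      rw [h, pow_zero] at hKi
      exact (Finite.one_lt_card (α := stabilizer C a)).ne' hKi
    obtain ⟨w, hw⟩ := exists_prime_orderOf_dvd_card' (G := stabilizer C a) p
      (hKi ▸ dvd_pow_self p hi0)
    have how : orderOf (w : C) = p := by rw [Subgroup.orderOf_coe, hw]
    have heq : Subgroup.zpowers (w : C) = (powMonoidHom p : C →* C).ker := by
      refine Subgroup.eq_of_le_of_card_ge (Subgroup.zpowers_le.mpr ?_) ?_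
      · show (w : C) ^ p = 1
        rw [← how, pow_orderOf_eq_one]
      · rw [Nat.card_zpowers, how]
        exact Cfsg.Agent.S3559.card_pow_eq_one hp
    exact ha ((Subgroup.zpowers_le.mpr w.2) (heq.ge hhp))
  have horb : orbit C a = Set.univ := by
    refine Set.eq_of_subset_of_ncard_le (Set.subset_univ _) ?_ (Set.toFinite _)
    have h1 := MulAction.index_stabilizer C a
    rw [hstab, Subgroup.index_bot, hcardC] at h1
    rw [Set.ncard_univ, Nat.card_eq_fintype_card, hΩ, h1]
  haveI : IsPretransitive C Ω := ⟨fun x y => by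
    obtain ⟨k, hk⟩ : x ∈ orbit C a := horb ▸ Set.mem_univ x
    obtain ⟨l, hl⟩ : y ∈ orbit C a := horb ▸ Set.mem_univ y
    refine ⟨l * k⁻¹, ?_⟩
    rw [← hk, mul_smul, inv_smul_smul]
    exact hl⟩
  obtain ⟨e, he⟩ := CfsgLib.SchurRing.exists_transport C a hstab
  have hE : ∀ d x : C, (d : G) • e x = e (d * x) := fun d x => by
    rw [he, he, mul_smul]
    rfl
  let : MulAction G ↥C :=
    { smul := fun g c => e.symm (g • e c)
      one_smul := fun c => show e.symm ((1 : G) • e c) = c by rw [one_smul, e.symm_apply_apply]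
      mul_smul := fun g h c => show e.symm ((g * h) • e c) = e.symm (g • e (e.symm (h • e c))) by
        rw [e.apply_symm_apply, mul_smul] }
  have hact : ∀ (d x : C), (d : G) • x = d * x := fun d x => by
    change e.symm ((d : G) • e x) = d * x
    rw [e.symm_apply_eq, he, he, mul_smul]
    rfl
  have hτ : CfsgLib.SchurRing.IsTranslating G ↥C := fun c => ⟨c, hact c⟩
  let f : C →ₑ[@id G] Ω := ⟨e, fun g c => by
    change e (e.symm (g • e c)) = g • e c
    rw [e.apply_symm_apply]⟩
  have hfb : Function.Bijective f := e.bijective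
  have hnp : ¬ IsPreprimitive G C := by
    intro hprim
    refine h2 ?_
    have key := stabilizer_transitive hτ hm hcardC
    rw [is_two_pretransitive_iff]
    intro x y x' y' hxy hxy'
    have red : ∀ x y : Ω, x ≠ y → ∃ (k : G) (c : C), c ≠ 1 ∧ k • e 1 = x ∧ k • e c = y := by
      intro x y hxy
      refine ⟨((e.symm x : C) : G), (e.symm x)⁻¹ * e.symm y, ?_, ?_, ?_⟩
      · intro h
        rw [inv_mul_eq_one] at h
        exact hxy (e.symm.injective h)
      · rw [hE, mul_one]
        exact e.apply_symm_apply x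
      · rw [hE, mul_inv_cancel_left]
        exact e.apply_symm_apply y
    obtain ⟨k, c, hc, hk1, hk2⟩ := red x y hxy
    obtain ⟨k', c', hc', hk1', hk2'⟩ := red x' y' hxy'
    obtain ⟨⟨l, hl⟩, hlc⟩ := key c c' hc hc'
    have hl1 : l • e 1 = e 1 := by
      have h1 : e.symm (l • e 1) = 1 := hl
      rwa [e.symm_apply_eq] at h1
    have hlc' : l • e c = e c' := by
      have h1 : e.symm (l • e c) = c' := hlc
      rwa [e.symm_apply_eq] at h1
    refine ⟨k' * l * k⁻¹, ?_, ?_⟩
    · rw [← hk1, mul_smul, inv_smul_smul, mul_smul, hl1, hk1']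
    · rw [← hk2, mul_smul, inv_smul_smul, mul_smul, hlc', hk2']
  refine ⟨fun hprim => hnp ((isPreprimitive_congr Function.surjective_id hfb).mpr hprim), fun htr => ?_⟩
  refine intransitive_normalClosure hτ hcardC hnp h hC' hhp (hact hC') ⟨fun x y => ?_⟩
  obtain ⟨k, hk⟩ := htr.exists_smul_eq (e x) (e y)
  refine ⟨k, e.injective ?_⟩
  show e (e.symm ((k : G) • e x)) = e y
  rw [e.apply_symm_apply]
  exact hk

end Cfsg.Agent.S3972
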