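import Cfsg.Statements.S4481
import Cfsg.Agent.Inv54.DihedralColumns

set_option autoImplicit false
set_option linter.style.haveILetI false
open Cfsg

namespace Cfsg.Agent.S4481

/-- The principal 2-block of a group with dihedral Sylow 2-subgroups. Let G be a finite group whose Sylow 2-subgroup P is dihedral of order 2^n ≥ 8, let σ be an element of P of order 2^(n−1), ζ a primitive 2^(n−1)-th root of unity, and M a maximal ideal of the algebraic integers containing 2. Then the principal 2-block consists of exactly 3 + 2^(n−2) irreducible characters, which can be labelled 1, χ₁, χ₂, χ₃ and χ^(j) for 1 ≤ j ≤ 2^(n−2) − 1 (all distinct), with signs δ₁, δ₂, δ₃ such that for 0 < λ < 2^(n−1): χ₁(σ^λ) = δ₁, χ₂(σ^λ) = δ₂(−1)^(λ+1), χ₃(σ^λ) = δ₃(−1)^(λ+1) and χ^(j)(σ^λ) = δ₁(ζ^(jλ) + ζ^(−jλ)); and for every element ρ of odd order and every j: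 1 + δ₁χ₁(ρ) = −δ₂χ₂(ρ) − δ₃χ₃(ρ) = δ₁χ^(j)(ρ). -/
theorem result {G : Type*} [Group G] [Finite G] (M : Ideal Cfsg.AlgInt) (hM : Cfsg.IsPModular 2 M) (n : ℕ) (hn : 3 ≤ n) (P : Sylow 2 G) (hP : Nonempty ((P : Subgroup G) ≃* DihedralGroup (2 ^ (n - 1)))) (σ : G) (hσ : σ ∈ (P : Subgroup G)) (hσo : orderOf σ = 2 ^ (n - 1)) (ζ : ℂ) (hζ : IsPrimitiveRoot ζ (2 ^ (n - 1))) : Nat.card (Cfsg.principalBlock M G) = 3 + 2 ^ (n - 2) ∧ ∃ (χ₁ χ₂ χ₃ : Cfsg.IrrCharacter G) (χ' : Fin (2 ^ (n - 2) - 1) → Cfsg.IrrCharacter G) (δ₁ δ₂ δ₃ : ℤ), (δ₁ = 1 ∨ δ₁ = -1) ∧ (δ₂ = 1 ∨ δ₂ = -1) ∧ (δ₃ = 1 ∨ δ₃ = -1) ∧ Function.Injective χ' ∧ (χ₁ : G → ℂ) ≠ (fun _ => 1) ∧ (χ₂ : G → ℂ) ≠ (fun _ => 1) ∧ (χ₃ : G → ℂ) ≠ (fun _ => 1) ∧ χ₁ ≠ χ₂ ∧ χ₁ ≠ χ₃ ∧ χ₂ ≠ χ₃ ∧ (∀ j, χ' j ≠ χ₁ ∧ χ' j ≠ χ₂ ∧ χ' j ≠ χ₃ ∧ (χ' j : G → ℂ) ≠ (fun _ => 1)) ∧ Cfsg.principalBlock M G = {χ : Cfsg.IrrCharacter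 G | (χ : G → ℂ) = (fun _ => 1) ∨ χ = χ₁ ∨ χ = χ₂ ∨ χ = χ₃ ∨ ∃ j, χ = χ' j} ∧ (∀ l : ℕ, 0 < l → l < 2 ^ (n - 1) → (χ₁ : G → ℂ) (σ ^ l) = δ₁ ∧ (χ₂ : G → ℂ) (σ ^ l) = δ₂ * (-1) ^ (l + 1) ∧ (χ₃ : G → ℂ) (σ ^ l) = δ₃ * (-1) ^ (l + 1) ∧ ∀ j : Fin (2 ^ (n - 2) - 1), (χ' j : G → ℂ) (σ ^ l) = δ₁ * (ζ ^ (((j : ℕ) + 1) * l) + (ζ ^ (((j : ℕ) + 1) * l))⁻¹)) ∧ ∀ ρ : G, Odd (orderOf ρ) → ∀ j : Fin (2 ^ (n - 2) - 1), 1 + δ₁ * (χ₁ : G → ℂ) ρ = -δ₂ * (χ₂ : G → ℂ) ρ - δ₃ * (χ₃ : G → ℂ) ρ ∧ 1 + δ₁ * (χ₁ : G → ℂ) ρ = δ₁ * (χ' j : G → ℂ) ρ := by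
  letI := Fintype.ofFinite G
  haveI := CfsgLib.Blocks.IsPModular.isPrime hM
  obtain ⟨k, rfl⟩ : ∃ k, n = k + 3 := ⟨n - 3, by omega⟩
  simp only [show k + 3 - 1 = k + 2 by omega, show k + 3 - 2 = k + 1 by omega] at *
  have hpow : 2 ^ (k + 2) = 2 * 2 ^ (k + 1) := by ring
  replace hP : Nonempty ((P : Subgroup G) ≃* DihedralGroup (2 * 2 ^ (k + 1))) := by
    rw [← hpow]; exact hP
  simp only [hpow] at hσo hζ ⊢
  have h2 : 2 ≤ 2 ^ (k + 1) := by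
    calc 2 = 2 ^ 1 := rfl
      _ ≤ 2 ^ (k + 1) := Nat.pow_le_pow_right (by norm_num) (by omega)
  obtain ⟨e⟩ := hP
  obtain ⟨τ, S⟩ := CfsgLib.Inv54.DihedralBlock.setup_of_iso P h2 ⟨k + 1, rfl⟩ e hσ hσo
  set h := 2 ^ (k + 1) with hh
  have hexp : 2 ^ (k + 3 - 2) = h := rfl
  haveI : NeZero (2 * h) := S.ne_zero
  obtain ⟨X, A, B, Y, δ, a, b, hδ, ha, hb, n1, n2, n3, n4, n5, n6, hY, hYinj, hmem, hval, hrel⟩ :=
    S.principal_block hM hζ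
  have hne : ∀ {χ : Cfsg.IrrCharacter G}, CfsgLib.PrincipalBlock.trivChar G ≠ χ →
      (χ : G → ℂ) ≠ (fun _ => 1) := fun hχ e => hχ (Subtype.ext e.symm)
  have hj : ∀ j : Fin (2 ^ (k + 3 - 2) - 1), 1 ≤ (j : ℕ) + 1 ∧ (j : ℕ) + 1 < h := fun j => by
    have := j.isLt
    omega
  let Y' : Fin (2 ^ (k + 3 - 2) - 1) → Cfsg.IrrCharacter G := fun j => Y ((j : ℕ) + 1)
  have hY'inj : Function.Injective Y' := fun i j e => Fin.ext (by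
    have := hYinj _ _ (hj i).1 (hj i).2 (hj j).1 (hj j).2 e
    omega)
  have hset : Cfsg.principalBlock M G = {χ : Cfsg.IrrCharacter G | (χ : G → ℂ) = (fun _ => 1) ∨
      χ = X ∨ χ = A ∨ χ = B ∨ ∃ j, χ = Y' j} := by
    refine Set.ext fun χ => (hmem χ).trans ⟨?_, ?_⟩
    · rintro (rfl | e | e | e | ⟨i, i1, i2, e⟩)
      · exact Or.inl rfl
      · exact Or.inr (Or.inl e)
      · exact Or.inr (Or.inr (Or.inl e))
      · exact Or.inr (Or.inr (Or.inr (Or.inl e)))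
      · exact Or.inr (Or.inr (Or.inr (Or.inr ⟨⟨i - 1, by omega⟩, by
          rw [e]; exact congrArg Y (Nat.succ_pred_eq_of_pos i1).symm⟩)))
    · rintro (e | e | e | e | ⟨j, e⟩)
      · exact Or.inl (Subtype.ext e)
      · exact Or.inr (Or.inl e)
      · exact Or.inr (Or.inr (Or.inl e))
      · exact Or.inr (Or.inr (Or.inr (Or.inl e)))
      · exact Or.inr (Or.inr (Or.inr (Or.inr ⟨_, (hj j).1, (hj j).2, e⟩)))
  refine ⟨?_, X, A, B, Y', δ, a, b, hδ, ha, hb, hY'inj, hne n1, hne n2, hne n3, n4, n5, n6,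
    fun j => ?_, hset, fun l l0 l1 => ?_, fun ρ hρ j => ?_⟩
  · have heq : Cfsg.principalBlock M G =
        ({CfsgLib.PrincipalBlock.trivChar G, X, A, B} : Set (Cfsg.IrrCharacter G)) ∪
          Set.range Y' := by
      rw [hset]
      ext χ
      simp only [Set.mem_setOf_eq, Set.mem_union, Set.mem_insert_iff, Set.mem_singleton_iff,
        Set.mem_range]
      constructor
      · rintro (e | e | e | e | ⟨j, e⟩)
        exacts [Or.inl (Or.inl (Subtype.ext e)), Or.inl (Or.inr (Or.inl e)),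
          Or.inl (Or.inr (Or.inr (Or.inl e))), Or.inl (Or.inr (Or.inr (Or.inr e))),
          Or.inr ⟨j, e.symm⟩]
      · rintro ((rfl | e | e | e) | ⟨j, e⟩)
        exacts [Or.inl rfl, Or.inr (Or.inl e), Or.inr (Or.inr (Or.inl e)),
          Or.inr (Or.inr (Or.inr (Or.inl e))), Or.inr (Or.inr (Or.inr (Or.inr ⟨j, e.symm⟩)))]
    rw [Nat.card_coe_set_eq, heq, Set.ncard_union_eq ?_ (Set.toFinite _) (Set.toFinite _),
      Set.ncard_insert_of_notMem (by simp [n1, n2, n3]),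
      Set.ncard_insert_of_notMem (by simp [n4, n5]), Set.ncard_pair n6,
      Set.ncard_range_of_injective hY'inj, Nat.card_fin]
    · omega
    · rw [Set.disjoint_right]
      rintro _ ⟨j, rfl⟩ hm
      obtain ⟨q1, q2, q3, q4⟩ := hY _ (hj j).1 (hj j).2
      simp only [Set.mem_insert_iff, Set.mem_singleton_iff] at hm
      rcases hm with e | e | e | e
      exacts [q1 e.symm, q2 e.symm, q3 e.symm, q4 e.symm]
  · obtain ⟨q1, q2, q3, q4⟩ := hY _ (hj j).1 (hj j).2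
    exact ⟨q2.symm, q3.symm, q4.symm, hne q1⟩
  · obtain ⟨v1, v2, v3, v4⟩ := hval l (fun e => by
      have := Nat.le_of_dvd l0 (S.pow_eq_one.1 e)
      omega)
    exact ⟨v1, v2, v3, fun j => v4 _ (hj j).1 (hj j).2⟩
  · exact hrel ρ hρ _ (hj j).1 (hj j).2

end Cfsg.Agent.S4481
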