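import Cfsg.Statements.S4718
import Cfsg.Agent.RegularCount.Basic
import Cfsg.Agent.RegularCount.Landau
import Cfsg.Agent.BlocksCharsC.RegularSupport
import Cfsg.Agent.Characters.Classes

set_option autoImplicit false
set_option linter.style.haveILetI false
universe u
open Cfsg

namespace Cfsg.Agent.S4718

/-- Let p be a prime and a a natural number. There is a bound N such that every finite group whose Sylow p-subgroups have order p^a and whose only p-block (relative to a maximal ideal of the algebraic integers containing p) is the principal block has order at most N. -/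
theorem result (p : ℕ) [Fact p.Prime] (a : ℕ) : ∃ N : ℕ, ∀ (G : Type u) [Group G] [Finite G] (M : Ideal Cfsg.AlgInt), Cfsg.IsPModular p M → (Nat.card G).factorization p = a → (∀ B : Set (Cfsg.IrrCharacter G), Cfsg.IsPBlock M B → B = Cfsg.principalBlock M G) → Nat.card G ≤ N := by
  obtain ⟨N, hN⟩ := CfsgLib.RegularCount.exists_bound_card_of_card_conjClasses.{u} (p ^ (2 * a))
  refine ⟨N, fun G _ _ M hM ha hall => hN G ?_⟩
  classical
  letI : Fintype G := Fintype.ofFinite G
  letI : Fintype (ConjClasses G) := Fintype.ofFinite _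
  haveI := CfsgLib.Blocks.IsPModular.isPrime hM
  have hp : p.Prime := Fact.out
  set R : ℕ := (Finset.univ.filter fun g : G => ¬ p ∣ orderOf g).card with hR
  have hpR : ¬ p ∣ R := by
    have := CfsgLib.RegularCount.not_dvd_card_regular (p := p) G
    rwa [Nat.card_eq_fintype_card, Fintype.card_subtype] at this
  set f : G → ℂ := fun g => if p ∣ orderOf g then 0 else (p : ℂ) ^ a with hf
  have hfg : Cfsg.IsGeneralizedCharacter G f := CfsgLib.RegularCount.isGen_regular a ha
  obtain ⟨z, hfz, hz⟩ := CfsgLib.Characters.exists_int_coeff hfg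
  have hpa : (p : ℂ) ^ a ≠ 0 := pow_ne_zero _ (Nat.cast_ne_zero.2 hp.ne_zero)
  have hne : ∀ χ : Cfsg.IrrCharacter G, z χ ≠ 0 := by
    intro χ h0
    have h1 := hz χ
    rw [h0, Int.cast_zero, Cfsg.classInner, mul_eq_zero, inv_eq_zero] at h1
    have h2 := h1.resolve_left CfsgLib.Characters.natCard_ne_zero
    have h3 : ∑ g : G, (if p ∣ orderOf g then 0 else (χ : G → ℂ) g) = 0 := by
      have h4 := congrArg (starRingEnd ℂ) h2
      rw [map_sum, map_zero] at h4
      refine (mul_eq_zero.1 ?_).resolve_left hpa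
      rw [Finset.mul_sum]
      refine Eq.trans (Finset.sum_congr rfl fun g _ => ?_) h4
      simp only [hf]
      split_ifs <;> simp
    have hmem : χ ∈ Cfsg.principalBlock M G :=
      (hall _ ⟨χ, rfl⟩) ▸ CfsgLib.Blocks.mem_blockOf_self (M := M) χ
    rw [CfsgLib.BlocksCharsC.mem_principalBlock_iff] at hmem
    set F : G → ℂ := fun g =>
      if p ∣ orderOf g then 0 else (χ : G → ℂ) g / (χ : G → ℂ) 1 - 1 with hF
    have hFsum : Cfsg.MemLocalIdeal M (∑ g : G, F g) := by
      rw [← Finset.sum_fiberwise Finset.univ ConjClasses.mk F]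
      refine CfsgLib.Blocks.memLocalIdeal_sum _ fun C _ => ?_
      obtain ⟨c, rfl⟩ := ConjClasses.mk_surjective C
      have hconst : ∀ g ∈ Finset.univ.filter (fun g : G => ConjClasses.mk g = ConjClasses.mk c),
          F g = F c := by
        intro g hg
        rw [Finset.mem_filter, ConjClasses.mk_eq_mk_iff_isConj] at hg
        obtain ⟨d, hd⟩ := isConj_iff.1 hg.2
        simp only [hF, ← hd, CfsgLib.Characters.isClassFunction_of_isIrr χ.2 g d]
        rw [show d * g * d⁻¹ = MulAut.conj d g from rfl, MulEquiv.orderOf_eq]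
      rw [Finset.sum_congr rfl hconst, Finset.sum_const, nsmul_eq_mul, ← Fintype.card_subtype,
        ← Nat.card_eq_fintype_card, CfsgLib.Blocks.natCard_class]
      simp only [hF]
      split_ifs with hc
      · rw [mul_zero]; exact CfsgLib.Blocks.memLocalIdeal_zero
      · convert hmem c using 1
        rw [Cfsg.centralChar]; ring
    have hval : ∑ g : G, F g = -(R : ℂ) := by
      have e : ∀ g : G, F g = (if p ∣ orderOf g then 0 else (χ : G → ℂ) g) / (χ : G → ℂ) 1 -
          (if p ∣ orderOf g then 0 else 1) := fun g => by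
        simp only [hF]; split_ifs <;> simp
      rw [Finset.sum_congr rfl fun g _ => e g, Finset.sum_sub_distrib, ← Finset.sum_div, h3,
        zero_div, zero_sub, Finset.sum_ite, Finset.sum_const_zero, zero_add, Finset.sum_const,
        nsmul_eq_mul, mul_one]
    rw [hval] at hFsum
    have h5 := CfsgLib.Blocks.memLocalIdeal_neg hFsum
    rw [neg_neg] at h5
    exact hpR ((CfsgLib.Blocks.memLocalIdeal_natCast_iff hM R).1 h5)
  have hff : Cfsg.classInner f f * (Nat.card G : ℂ) = (p : ℂ) ^ (2 * a) * (R : ℂ) := by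
    rw [Cfsg.classInner, mul_comm _ (Nat.card G : ℂ), ← mul_assoc,
      mul_inv_cancel₀ CfsgLib.Characters.natCard_ne_zero, one_mul]
    have e : ∀ g : G, f g * (starRingEnd ℂ) (f g) =
        if p ∣ orderOf g then 0 else (p : ℂ) ^ (2 * a) := fun g => by
      simp only [hf]; split_ifs
      · simp
      · simp [← pow_add, two_mul]
    rw [Finset.sum_congr rfl fun g _ => e g, Finset.sum_ite, Finset.sum_const_zero, zero_add,
      Finset.sum_const, nsmul_eq_mul, mul_comm]
  rw [CfsgLib.Characters.classInner_self_eq_sum_sq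
    (CfsgLib.Characters.isClassFunction_of_isGen hfg) z hz] at hff
  have hle : (Nat.card (Cfsg.IrrCharacter G) : ℤ) ≤ ∑ χ : Cfsg.IrrCharacter G, z χ ^ 2 := by
    rw [Nat.card_eq_fintype_card, ← Finset.card_univ, Finset.cast_card]
    exact Finset.sum_le_sum fun χ _ => by
      have := hne χ
      exact Int.one_le_abs (pow_ne_zero 2 this) |>.trans (abs_of_nonneg (sq_nonneg _)).le
  have hff' : (∑ χ : Cfsg.IrrCharacter G, z χ ^ 2) * (Nat.card G : ℤ) =
      ((p ^ (2 * a) * R : ℕ) : ℤ) := by
    push_cast
    exact_mod_cast hff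
  have hRG : R ≤ Nat.card G := by
    rw [Nat.card_eq_fintype_card]
    exact Finset.card_le_univ _
  rw [← CfsgLib.Characters.card_irrCharacter]
  have hG : 0 < Nat.card G := Nat.card_pos
  refine Nat.le_of_mul_le_mul_right (le_trans ?_ (Nat.mul_le_mul_left (p ^ (2 * a)) hRG)) hG
  have h6 := mul_le_mul_of_nonneg_right hle (Nat.cast_nonneg (α := ℤ) (Nat.card G))
  rw [hff'] at h6
  exact_mod_cast h6

end Cfsg.Agent.S4718
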