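import Cfsg.Statements.S1279
import Cfsg.Agent.Transitivity.Basic
import Cfsg.Agent.Components.PLocal

set_option autoImplicit false
open Cfsg

namespace Cfsg.Agent.S1279

/-- Let A be a noncyclic elementary abelian p-subgroup of the finite group G such that C_G(a) is solvable for every non-identity a ∈ A. Then a ↦ O_{p'}(C_G(a)) is a solvable A-signalizer functor on G. -/
theorem result {G : Type*} [Group G] [Finite G] (p : ℕ) [Fact p.Prime] (A : Subgroup G) (hA : Cfsg.IsElementaryAbelian p A) (hA2 : p ^ 2 ≤ Nat.card ↥A) (hsolv : ∀ a ∈ A, a ≠ 1 → Group.IsSolvable ↥(Subgroup.centralizer ({a} : Set G))) : Cfsg.IsSolvableSignalizerFunctor p A (fun a => Cfsg.centralizerPPrimeCore p a) := by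
  have hcommA : ∀ a ∈ A, A ≤ Subgroup.centralizer {a} := fun a ha x hx =>
    Subgroup.mem_centralizer_singleton_iff.mpr (congrArg Subtype.val (hA.1.is_comm.comm ⟨x, hx⟩ ⟨a, ha⟩))
  refine ⟨⟨fun a _ _ => Subgroup.map_subtype_le _, fun a _ _ => ?_, fun a ha _ => ?_,
    fun a ha ha1 b hb hb1 => ?_⟩, fun a ha ha1 => ?_⟩
  · dsimp only
    rw [Cfsg.centralizerPPrimeCore, Subgroup.card_map_of_injective (Subgroup.subtype_injective _)]
    exact CfsgLib.PLocal.not_dvd_iff_coprime.mp (CfsgLib.PLocal.coprime_card_pPrimeCore p _)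
  · exact CfsgLib.Transitivity.conj_mem_of_le_normalizer ((hcommA a ha).trans
      (CfsgLib.Components.le_normalizer_map_subtype_of_normal _ _))
  · set X := Subgroup.centralizer ({b} : Set G)
    have hsX : Group.IsSolvable ↥X := hsolv b hb hb1
    have hconstr := CfsgLib.PLocal.centralizer_pCore_le
      (CfsgLib.PLocal.isPSolvable_quotient (CfsgLib.PLocal.isPSolvable_of_isSolvable (p := p) (G := ↥X))
        (Cfsg.pPrimeCore p ↥X)) (CfsgLib.PLocal.pPrimeCore_quotient_pPrimeCore_eq_bot p ↥X)
    set R := Cfsg.centralizerPPrimeCore p a ⊓ X with hR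
    have hle : R.subgroupOf X ≤ Cfsg.pPrimeCore p ↥X := by
      refine CfsgLib.Components.le_pPrimeCore_of_le_centralizer hconstr
        (P := Subgroup.zpowers (⟨a, hcommA b hb ha⟩ : ↥X)) ?_ ?_ ?_ ?_
      · intro x
        refine ⟨1, Subtype.ext (Subtype.ext ?_)⟩
        obtain ⟨k, hk⟩ := Subgroup.mem_zpowers_iff.mp x.2
        simpa [← hk] using hA.2 (a ^ k) (zpow_mem ha k)
      · rw [Nat.card_congr (Subgroup.subgroupOfEquivOfLe (inf_le_right : R ≤ X)).toEquiv]
        refine Nat.Coprime.coprime_dvd_left ((Subgroup.card_dvd_of_le inf_le_left).trans ?_)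
          (CfsgLib.PLocal.coprime_card_pPrimeCore p ↥(Subgroup.centralizer ({a} : Set G)))
        exact Subgroup.card_map_dvd _ _
      · rw [← CfsgLib.Transitivity.centralizer_singleton_eq]
        intro x hx
        rw [Subgroup.mem_centralizer_singleton_iff]
        exact Subtype.ext (Subgroup.mem_centralizer_singleton_iff.mp
          (Subgroup.map_subtype_le _ (Subgroup.mem_inf.mp hx).1))
      · rw [← CfsgLib.Transitivity.centralizer_singleton_eq]
        intro x hx
        have hxa : (x : G) ∈ Subgroup.centralizer ({a} : Set G) :=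
          Subgroup.mem_centralizer_singleton_iff.mpr
            (congrArg Subtype.val (Subgroup.mem_centralizer_singleton_iff.mp hx))
        exact Subgroup.le_normalizer_comap X.subtype (Subgroup.inf_normalizer_le_normalizer_inf
          ⟨CfsgLib.Components.le_normalizer_map_subtype_of_normal _ _ hxa, Subgroup.le_normalizer x.2⟩)
    intro x hx
    exact ⟨⟨x, hx.2⟩, hle (show (⟨x, hx.2⟩ : ↥X) ∈ R.subgroupOf X from hx), rfl⟩
  · exact CfsgLib.Components.isSolvable_mono (hsolv a ha ha1) (Subgroup.map_subtype_le _)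

end Cfsg.Agent.S1279
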