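import Cfsg.Statements.S4713
import Cfsg.Agent.Blocks.Height
import Cfsg.Agent.GaloisAverage.Ito
import Cfsg.Agent.CharactersDeep.PrimePowerDegrees
import Cfsg.Agent.PLocal.PSolvable

/-!
Itô's theorem and its converse for p-solvable groups.
-/

set_option autoImplicit false
set_option linter.style.haveILetI false
set_option linter.unusedSectionVars false
open Cfsg

namespace Cfsg.Agent.S4713

open CfsgLib CfsgLib.OddOrderChar

universe u

variable {p : ℕ} [Fact p.Prime]

/-- The degree and the orbit of a constituent on a normal subgroup divide the degree. -/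
theorem dvd_of_constituent {G : Type u} [Group G] [Fintype G] (N : Subgroup G) [N.Normal]
    [Fintype N] (θ : Cfsg.IrrCharacter N) :
    ∃ χ : Cfsg.IrrCharacter G,
      (CharactersDeep.Clifford.orbit N (θ : N → ℂ)).card * Cfsg.charDegree (θ : N → ℂ) ∣
        Cfsg.charDegree (χ : G → ℂ) := by
  classical
  obtain ⟨χ, hχ, hne⟩ := CharactersDeep.Clifford.exists_over N θ.2
  refine ⟨⟨χ, hχ⟩, ?_⟩
  obtain ⟨e, he⟩ := Characters.classInner_character_irr
    (Characters.isCharacter_restrict N (Characters.isCharacter_of_isIrr hχ)) θ.2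
  have h1 := congrFun (CharactersDeep.Clifford.restrict_eq_orbit_sum N hχ θ.2 hne) 1
  simp only [Pi.smul_apply, Finset.sum_apply, smul_eq_mul, Subgroup.coe_one, he] at h1
  rw [show χ 1 = ((⟨χ, hχ⟩ : Cfsg.IrrCharacter G) : G → ℂ) 1 from rfl,
    Finset.sum_congr rfl (g := fun _ => (θ : N → ℂ) 1) (fun φ hφ => by
    obtain ⟨g, rfl⟩ := (CharactersDeep.Clifford.mem_orbit N).1 hφ
    exact congrArg (θ : N → ℂ) (Subtype.ext (by simp))), Finset.sum_const, nsmul_eq_mul,
    ← Blocks.charDegree_cast ⟨χ, hχ⟩, ← Blocks.charDegree_cast θ, ← Nat.cast_mul, ← Nat.cast_mul,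
    Nat.cast_inj] at h1
  exact ⟨e, by rw [h1]; ring⟩

/-- All degrees are prime to `p`. -/
def AllPrime (p : ℕ) (G : Type u) [Group G] : Prop :=
  ∀ χ : Cfsg.IrrCharacter G, ¬ p ∣ Cfsg.charDegree (χ : G → ℂ)

theorem AllPrime.quotient {G : Type u} [Group G] [Fintype G] (h : AllPrime p G) (N : Subgroup G)
    [N.Normal] : AllPrime p (G ⧸ N) := fun φ =>
  h ⟨fun g => (φ : G ⧸ N → ℂ) (QuotientGroup.mk' N g),
    Characters.isIrr_comp (QuotientGroup.mk' N) (QuotientGroup.mk'_surjective N) φ.2⟩

theorem AllPrime.normal {G : Type u} [Group G] [Fintype G] (h : AllPrime p G) (N : Subgroup G)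
    [N.Normal] : AllPrime p N := fun θ hθ => by
  haveI := Fintype.ofFinite N
  obtain ⟨χ, hχ⟩ := dvd_of_constituent N θ
  exact h χ ((hθ.trans (dvd_mul_left _ _)).trans hχ)

theorem commute_of_pgroup {G : Type u} [Group G] [Fintype G] (h : AllPrime p G)
    (hG : IsPGroup p G) (a b : G) : a * b = b * a := by
  refine CharactersDeep.PrimePowerDegrees.comm_of_linear (fun χ => ?_) a b
  obtain ⟨n, hn⟩ := IsPGroup.iff_card.1 hG
  obtain ⟨k, -, hk⟩ := (Nat.dvd_prime_pow (Fact.out : p.Prime)).1
    (hn ▸ Blocks.charDegree_dvd_card χ)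
  cases k with
  | zero => rw [← Blocks.charDegree_cast χ, hk, pow_zero, Nat.cast_one]
  | succ k => exact absurd (hk ▸ dvd_pow_self p k.succ_ne_zero) (h χ)

/-- A subgroup meeting every conjugacy class is everything. -/
theorem eq_top_of_meets {N : Type u} [Group N] [Finite N] (H : Subgroup N)
    (h : ∀ g : N, ∃ x : N, x⁻¹ * g * x ∈ H) : H = ⊤ := by
  classical
  have := Fintype.ofFinite N
  have := Fintype.ofFinite (N ⧸ H)
  by_contra hne
  have h2 : 2 ≤ H.index := by
    have := Subgroup.index_eq_one.not.2 hne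
    have := Subgroup.index_ne_zero_of_finite (H := H)
    omega
  have hpos : ∀ g : N, 1 ≤ Fintype.card (MulAction.fixedBy (N ⧸ H) g) := by
    intro g
    obtain ⟨x, hx⟩ := h g
    refine Fintype.card_pos_iff.2 ⟨⟨(x : N ⧸ H), ?_⟩⟩
    rw [MulAction.mem_fixedBy]
    change ((g * x : N) : N ⧸ H) = (x : N ⧸ H)
    rw [QuotientGroup.eq]
    have := inv_mem hx
    simpa [mul_assoc] using this
  have hlt : Fintype.card N < ∑ g : N, Fintype.card (MulAction.fixedBy (N ⧸ H) g) := by
    calc Fintype.card N = ∑ _g : N, 1 := by simp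
      _ < _ := by
        refine Finset.sum_lt_sum (fun g _ => hpos g) ⟨1, Finset.mem_univ _, ?_⟩
        have : Fintype.card (MulAction.fixedBy (N ⧸ H) (1 : N)) = H.index := by
          rw [Subgroup.index, Nat.card_eq_fintype_card]
          exact Fintype.card_congr (Equiv.subtypeUnivEquiv fun x => by simp)
        omega
  rw [MulAction.sum_card_fixedBy_eq_card_orbits_mul_card_group N (N ⧸ H)] at hlt
  have h1 : Fintype.card (Quotient (MulAction.orbitRel N (N ⧸ H))) ≤ 1 := by
    rw [Fintype.card_le_one_iff_subsingleton]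
    exact MulAction.pretransitive_iff_subsingleton_quotient N (N ⧸ H) |>.1 inferInstance
  nlinarith

theorem main : ∀ (n : ℕ) (G : Type u) [Group G] [Fintype G], Nat.card G = n →
    Cfsg.IsPSolvable p G → AllPrime p G → ∀ P : Sylow p G,
      (P : Subgroup G).Normal ∧ ∀ a ∈ (P : Subgroup G), ∀ b ∈ (P : Subgroup G), a * b = b * a := by
  intro n
  induction n using Nat.strongRecOn with
  | ind n ih =>
  intro G _ _ hn hsol hall P
  subst hn
  haveI := Fintype.ofFinite (P : Subgroup G)
  rcases subsingleton_or_nontrivial G with hs | hnt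
  · exact ⟨⟨fun a ha g => by rwa [Subsingleton.elim (g * a * g⁻¹) a]⟩,
      fun a _ b _ => Subsingleton.elim _ _⟩
  have hquot : ∀ (N : Subgroup G) [N.Normal], N ≠ ⊥ →
      ((P : Subgroup G).map (QuotientGroup.mk' N)).Normal ∧
      ∀ a ∈ (P : Subgroup G), ∀ b ∈ (P : Subgroup G),
        (a * b : G ⧸ N) = (b * a : G ⧸ N) := by
    intro N _ hN
    haveI := Fintype.ofFinite (G ⧸ N)
    have hlt : Nat.card (G ⧸ N) < Nat.card G := by
      rw [Subgroup.card_eq_card_quotient_mul_card_subgroup N]
      exact lt_mul_of_one_lt_right Nat.card_pos (N.one_lt_card_iff_ne_bot.2 hN)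
    obtain ⟨h1, h2⟩ := ih _ hlt (G ⧸ N) rfl (CfsgLib.PLocal.isPSolvable_quotient hsol N)
      (hall.quotient N) (P.mapSurjective (QuotientGroup.mk'_surjective N))
    rw [Sylow.coe_mapSurjective] at h1 h2
    exact ⟨h1, fun a ha b hb => h2 _ ⟨a, ha, rfl⟩ _ ⟨b, hb, rfl⟩⟩
  rcases CfsgLib.PLocal.pCore_ne_bot_or_of_isPSolvable hsol with hcore | hcore
  · -- a normal p-subgroup
    have hle : Cfsg.pCore p G ≤ P := by
      obtain ⟨Q, hQ⟩ := (CfsgLib.PLocal.isPGroup_pCore p G).exists_le_sylow
      obtain ⟨g, hg⟩ := MulAction.exists_smul_eq G Q P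
      intro x hx
      have h1 : g⁻¹ * x * g ∈ Q := hQ (by
        simpa using (inferInstance : (Cfsg.pCore p G).Normal).conj_mem x hx g⁻¹)
      rw [← hg]
      have h2 := Subgroup.smul_mem_pointwise_smul _ (MulAut.conj g) _ h1
      rw [Sylow.coe_subgroup_smul]
      simpa [mul_assoc] using h2
    obtain ⟨h1, -⟩ := hquot (Cfsg.pCore p G) hcore
    have hPn : (P : Subgroup G).Normal := by
      have h2 := h1.comap (QuotientGroup.mk' (Cfsg.pCore p G))
      rwa [Subgroup.comap_map_eq, QuotientGroup.ker_mk', sup_eq_left.2 hle] at h2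
    refine ⟨hPn, fun a ha b hb => ?_⟩
    exact congrArg Subtype.val
      (commute_of_pgroup (hall.normal (P : Subgroup G)) P.2 ⟨a, ha⟩ ⟨b, hb⟩)
  · set N := Cfsg.pPrimeCore p G with hN
    haveI := Fintype.ofFinite N
    have hco : (Nat.card N).Coprime p := CfsgLib.PLocal.coprime_card_pPrimeCore p G
    obtain ⟨h1, h2⟩ := hquot N hcore
    haveI hMn : ((P : Subgroup G) ⊔ N).Normal := by
      have h3 := h1.comap (QuotientGroup.mk' N)
      rwa [Subgroup.comap_map_eq, QuotientGroup.ker_mk'] at h3
    by_cases htop : (P : Subgroup G) ⊔ N = ⊤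
    · have hdisj : ∀ x ∈ (P : Subgroup G), x ∈ N → x = 1 := by
        intro x hxP hxN
        obtain ⟨k, hk⟩ := IsPGroup.iff_orderOf.1 P.2 ⟨x, hxP⟩
        rw [← Subgroup.orderOf_coe] at hk
        cases k with
        | zero => simpa [orderOf_eq_one_iff] using hk
        | succ k =>
          have : p ∣ Nat.card N := (dvd_pow_self p k.succ_ne_zero).trans
            (hk ▸ Subgroup.orderOf_dvd_natCard N hxN)
          exact absurd (hco.symm.eq_one_of_dvd this) (Fact.out : p.Prime).ne_one
      have hcomm : ∀ a ∈ (P : Subgroup G), ∀ b ∈ (P : Subgroup G), a * b = b * a := by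
        intro a ha b hb
        have h4 : ((a * b * a⁻¹ * b⁻¹ : G) : G ⧸ N) = 1 := by
          simp only [QuotientGroup.mk_mul, QuotientGroup.mk_inv, h2 a ha b hb]
          group
        have h5 := hdisj _ (mul_mem (mul_mem (mul_mem ha hb) (inv_mem ha)) (inv_mem hb))
          ((QuotientGroup.eq_one_iff _).1 h4)
        rw [mul_inv_eq_one, mul_inv_eq_iff_eq_mul] at h5
        exact h5
      -- every character of `N` is invariant
      have hinv : ∀ (θ : Cfsg.IrrCharacter N) (g : G), conjBy N (θ : N → ℂ) g = θ := by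
        intro θ
        obtain ⟨χ, hχ⟩ := dvd_of_constituent N θ
        let T : Subgroup G :=
          { carrier := {g | conjBy N (θ : N → ℂ) g = θ}
            one_mem' := conjBy_one N _
            mul_mem' := fun {a b} ha hb => by
              show conjBy N (θ : N → ℂ) (a * b) = θ
              rw [← conjBy_mul, ha, hb]
            inv_mem' := fun {a} ha => by
              show conjBy N (θ : N → ℂ) a⁻¹ = θ
              conv_lhs => rw [← ha, conjBy_mul, mul_inv_cancel, conjBy_one] }
        have hNT : N ≤ T := by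
          intro x hx
          show conjBy N (θ : N → ℂ) x = θ
          funext m
          exact Characters.isClassFunction_of_isIrr θ.2 m ⟨x, hx⟩
        have horb : (CharactersDeep.Clifford.orbit N (θ : N → ℂ)).card = T.index := by
          have h := CharactersDeep.Clifford.card_orbit_mul N (θ : N → ℂ) T (fun g => Iff.rfl)
          rw [← T.card_mul_index, mul_comm] at h
          exact Nat.eq_of_mul_eq_mul_left Nat.card_pos h
        have hidx : T.index ∣ Nat.card (P : Subgroup G) := by
          refine (Subgroup.index_dvd_of_le hNT).trans ?_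
          rw [← Subgroup.relIndex_top_right, ← htop, Subgroup.relIndex_sup_right]
          exact Subgroup.relIndex_dvd_card _ _
        obtain ⟨m, hm⟩ := IsPGroup.iff_card.1 P.2
        obtain ⟨k, -, hk⟩ := (Nat.dvd_prime_pow (Fact.out : p.Prime)).1 (hm ▸ hidx)
        cases k with
        | zero =>
          rw [pow_zero, Subgroup.index_eq_one] at hk
          exact fun g => (hk ▸ Subgroup.mem_top g : g ∈ T)
        | succ k =>
          exfalso
          refine hall χ (dvd_trans ?_ hχ)
          rw [horb, hk]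
          exact dvd_mul_of_dvd_left (dvd_pow_self p k.succ_ne_zero) _
      -- so `P` fixes a point of every class
      have hcent : ∀ m ∈ N, m ∈ Subgroup.centralizer ((P : Subgroup G) : Set G) := by
        suffices h : (Subgroup.centralizer ((P : Subgroup G) : Set G)).subgroupOf N = ⊤ from
          Subgroup.subgroupOf_eq_top.1 h
        refine eq_top_of_meets _ fun g => ?_
        let S := {m : N // IsConj g m}
        letI : MulAction (P : Subgroup G) S :=
          { smul := fun u m => ⟨⟨(u : G) * (m.1 : G) * (u : G)⁻¹,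
                (inferInstance : N.Normal).conj_mem _ m.1.2 _⟩, by
              refine m.2.trans (Characters.isConj_of_irr_eq fun χ => ?_)
              exact (congrFun (hinv χ (u : G)) m.1).symm⟩
            one_smul := fun m => Subtype.ext (Subtype.ext (by
              show ((1 : (P : Subgroup G)) : G) * (m.1 : G) * ((1 : (P : Subgroup G)) : G)⁻¹ = m.1
              simp))
            mul_smul := fun u v m => Subtype.ext (Subtype.ext (by
              show ((u * v : (P : Subgroup G)) : G) * (m.1 : G) * ((u * v : (P : Subgroup G)) : G)⁻¹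
                = (u : G) * ((v : G) * (m.1 : G) * (v : G)⁻¹) * (u : G)⁻¹
              simp [mul_assoc])) }
        have hcard : ¬ p ∣ Nat.card S := by
          intro hdvd
          have hcl : Nat.card S = (Subgroup.centralizer ({g} : Set N)).index := by
            rw [← Blocks.natCard_class g]
            exact Nat.card_congr (Equiv.subtypeEquivRight fun m => by
              rw [ConjClasses.mk_eq_mk_iff_isConj, isConj_comm])
          exact (Fact.out : p.Prime).ne_one (hco.symm.eq_one_of_dvd
            (hdvd.trans (hcl ▸ Subgroup.index_dvd_card _)))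
        haveI : Finite S := inferInstance
        obtain ⟨⟨m, hm⟩, hfix⟩ := P.2.nonempty_fixed_point_of_prime_not_dvd_card S hcard
        obtain ⟨c, rfl⟩ := isConj_iff.1 hm
        refine ⟨c⁻¹, ?_⟩
        rw [Subgroup.mem_subgroupOf, Subgroup.mem_centralizer_iff, inv_inv]
        intro u hu
        have h := congrArg (fun m : S => ((m.1 : N) : G)) (hfix ⟨u, hu⟩)
        simp only [] at h
        exact mul_inv_eq_iff_eq_mul.1 h
      refine ⟨Subgroup.normalizer_eq_top_iff.1 (top_le_iff.1 (htop ▸ sup_le
        Subgroup.le_normalizer fun m hm => Subgroup.centralizer_le_normalizer _ (hcent m hm))), hcomm⟩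
    · set Mn := (P : Subgroup G) ⊔ N with hMdef
      haveI := Fintype.ofFinite Mn
      have hlt : Nat.card Mn < Nat.card G := lt_of_le_of_ne (Subgroup.card_le_card_group Mn)
        fun h => htop (Subgroup.eq_top_of_card_eq Mn h)
      obtain ⟨h3, h4⟩ := ih _ hlt Mn rfl (CfsgLib.PLocal.isPSolvable_subgroup hsol Mn)
        (hall.normal Mn) (P.subtype le_sup_left)
      rw [Sylow.coe_subtype] at h3 h4
      haveI := h3
      haveI : ((P : Subgroup G).subgroupOf Mn).Characteristic :=
        Sylow.characteristic_of_normal (P.subtype le_sup_left) (by rwa [Sylow.coe_subtype])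
      have h5 := ConjAct.normal_of_characteristic_of_normal (H := Mn)
        (K := (P : Subgroup G).subgroupOf Mn)
      rw [Subgroup.subgroupOf_map_subtype, inf_eq_left.2 le_sup_left] at h5
      refine ⟨h5, fun a ha b hb => ?_⟩
      exact congrArg Subtype.val (h4 ⟨a, Subgroup.mem_sup_left ha⟩
        (Subgroup.mem_subgroupOf.2 ha) ⟨b, Subgroup.mem_sup_left hb⟩ (Subgroup.mem_subgroupOf.2 hb))

/-- Let p be a prime and G a finite p-solvable group. Then G has a normal abelian Sylow p-subgroup if and only if the degree of every irreducible character of G is prime to p. -/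
theorem result {G : Type*} [Group G] [Finite G] (p : ℕ) [Fact p.Prime] (hsolv : Cfsg.IsPSolvable p G) (P : Sylow p G) : ((P : Subgroup G).Normal ∧ IsMulCommutative P) ↔ ∀ χ : Cfsg.IrrCharacter G, ¬ p ∣ Cfsg.charDegree (χ : G → ℂ) := by
  haveI := Fintype.ofFinite G
  constructor
  · rintro ⟨hn, hc⟩ χ hdvd
    haveI := hn
    obtain ⟨d, hd, hdd⟩ := CfsgLib.GaloisAverage.exists_degree_dvd_index χ.2 (P : Subgroup G)
      (fun a ha b hb => congrArg Subtype.val (hc.is_comm.comm ⟨a, ha⟩ ⟨b, hb⟩))
    rw [← CfsgLib.Blocks.charDegree_cast χ, Nat.cast_inj] at hd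
    exact P.not_dvd_index (hdvd.trans (hd ▸ hdd))
  · intro h
    obtain ⟨hn, hc⟩ := main _ G rfl hsolv h P
    exact ⟨hn, ⟨⟨fun a b => Subtype.ext (hc a a.2 b b.2)⟩⟩⟩

end Cfsg.Agent.S4713
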