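import Cfsg.Statements.S0168
import Cfsg.Agent.Characters.Linear
import Cfsg.Agent.Characters.Orthogonality
-- import your own Cfsg.Agent.* helpers here

set_option autoImplicit false
open Cfsg

namespace Cfsg.Agent.S0168

/-- The Burnside–Brauer Theorem. Let χ be the character of a faithful complex representation of a finite group, taking m distinct values. Then every irreducible character has nonzero inner product with χ ^ i for some i < m. -/
theorem result {G : Type*} [Group G] [Fintype G] {V : Type*} [AddCommGroup V] [Module ℂ V] [FiniteDimensional ℂ V] (ρ : Representation ℂ G V) (hfaithful : Function.Injective ρ) (ψ : G → ℂ) (hψ : Cfsg.IsIrrCharacter G ψ) : ∃ i : ℕ, i < Nat.card (Set.range ρ.character) ∧ Cfsg.classInner (fun g => ρ.character g ^ i) ψ ≠ 0 := by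
  classical
  by_contra hcon
  push Not at hcon
  set F : Finset ℂ := Finset.univ.image ρ.character with hF
  have hcard : Nat.card (Set.range ρ.character) = F.card := by
    rw [Nat.card_coe_set_eq, ← Set.ncard_coe_finset, hF, Finset.coe_image, Finset.coe_univ,
      Set.image_univ]
  let e := F.equivFin.symm
  let f : Fin F.card → ℂ := fun j => (e j : ℂ)
  let s : Fin F.card → ℂ := fun j =>
    ∑ g ∈ Finset.univ.filter (fun g => ρ.character g = f j), (starRingEnd ℂ) (ψ g)
  have hsum : ∀ i : Fin F.card, ∑ j, s j * f j ^ (i : ℕ) = 0 := by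
    intro i
    have h0 := hcon i (by rw [hcard]; exact i.2)
    rw [Cfsg.classInner, mul_eq_zero] at h0
    have h1 := h0.resolve_left (inv_ne_zero CfsgLib.Characters.natCard_ne_zero)
    rw [← Finset.sum_fiberwise_of_maps_to (t := F) (g := ρ.character)
      (fun g _ => Finset.mem_image_of_mem _ (Finset.mem_univ g)), ← Finset.sum_coe_sort F,
      ← e.sum_comp] at h1
    rw [← h1]
    refine Finset.sum_congr rfl fun j _ => ?_
    rw [Finset.sum_mul]
    exact Finset.sum_congr rfl fun g hg => by rw [(Finset.mem_filter.1 hg).2]; exact mul_comm _ _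
  have hz := Matrix.eq_zero_of_forall_pow_sum_mul_pow_eq_zero
    (f := f) (v := s) (Subtype.val_injective.comp e.injective) hsum
  obtain ⟨j, hj⟩ := e.surjective ⟨ρ.character 1, Finset.mem_image_of_mem _ (Finset.mem_univ 1)⟩
  have hsingle : Finset.univ.filter (fun g => ρ.character g = f j) = {1} := by
    ext g
    simp only [Finset.mem_filter, Finset.mem_univ, true_and, Finset.mem_singleton, f, hj]
    refine ⟨fun h => hfaithful ?_, fun h => by rw [h]⟩
    rw [map_one, (CfsgLib.Characters.char_eq_finrank_iff ρ g).1 (h.trans (Representation.char_one ρ))]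
    rfl
  have h2 := congrFun hz j
  simp only [s, hsingle, Finset.sum_singleton, Pi.zero_apply, map_eq_zero] at h2
  exact CfsgLib.Characters.irr_one_ne_zero hψ h2

end Cfsg.Agent.S0168
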