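import Cfsg.Statements.S0672
import Mathlib
import Cfsg.Agent.Perm.Module
-- import your own Cfsg.Agent.* helpers here

set_option autoImplicit false
open Cfsg
open scoped Pointwise

namespace Cfsg.Agent.S0672

/-- Let a finite group act faithfully and doubly transitively with point stabilisers of even order, and let `K` have characteristic `p` dividing the degree. If the heart of the permutation module admits no non-zero equivariant map to the permutation module on unordered pairs (phrased: every intertwining map from the sum-zero functions vanishing on the constants is zero), the action is triply transitive. -/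
theorem result {G : Type*} [Group G] [Finite G] {K : Type*} [Field K] {p : ℕ} [Fact p.Prime] [CharP K p] {Ω : Type*} [Fintype Ω] [DecidableEq Ω] [MulAction G Ω] [FaithfulSMul G Ω] (h2 : MulAction.IsMultiplyPretransitive G Ω 2) (hp : p ∣ Fintype.card Ω) (heven : ∀ a : Ω, Even (Nat.card (MulAction.stabilizer G a))) (h : ∀ f : Representation.IntertwiningMap (Cfsg.permSumZero K G Ω).toRepresentation (Cfsg.permRep K G (Set.powersetCard Ω 2)), (∀ v : (Cfsg.permSumZero K G Ω).toSubmodule, (v : Ω → K) ∈ (Cfsg.permConstants K G Ω).toSubmodule → f v = 0) → f = 0) : MulAction.IsMultiplyPretransitive G Ω 3 := by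
  classical
  by_contra h3
  haveI := h2
  haveI : MulAction.IsPretransitive G Ω := MulAction.isPretransitive_of_is_two_pretransitive
  -- a point with at least two orbits on the pairs avoiding it
  obtain ⟨a, P₀, P₁, hP₀, hP₁, hne⟩ : ∃ (a : Ω) (P₀ P₁ : Set.powersetCard Ω 2),
      a ∉ (P₀ : Finset Ω) ∧ a ∉ (P₁ : Finset Ω) ∧ ∀ g : G, g • a = a → g • P₀ ≠ P₁ := by
    by_contra hcon
    simp only [not_exists, not_and, not_forall, not_not] at hcon
    apply h3
    have hswap : ∀ a b c : Ω, a ≠ b → a ≠ c → b ≠ c →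
        ∀ x y : Ω, a ≠ x → a ≠ y → x ≠ y →
          ∃ g : G, g • a = a ∧ ((g • b = x ∧ g • c = y) ∨ (g • b = y ∧ g • c = x)) := by
      intro a b c hab hac hbc x y hax hay hxy
      obtain ⟨g, hga, hg⟩ := hcon a ⟨{b, c}, Finset.card_pair hbc⟩ ⟨{x, y}, Finset.card_pair hxy⟩
        (by simp [hab, hac]) (by simp [hax, hay])
      have hg' : g • ({b, c} : Finset Ω) = {x, y} := congrArg Subtype.val hg
      refine ⟨g, hga, ?_⟩
      have h1 : g • b ∈ ({x, y} : Finset Ω) := hg' ▸ Finset.smul_mem_smul_finset (by simp)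
      have h2 : g • c ∈ ({x, y} : Finset Ω) := hg' ▸ Finset.smul_mem_smul_finset (by simp)
      simp only [Finset.mem_insert, Finset.mem_singleton] at h1 h2
      have hne : g • b ≠ g • c := fun h => hbc (MulAction.injective g h)
      rcases h1 with h1 | h1 <;> rcases h2 with h2 | h2
      · exact absurd (h1.trans h2.symm) hne
      · exact Or.inl ⟨h1, h2⟩
      · exact Or.inr ⟨h1, h2⟩
      · exact absurd (h1.trans h2.symm) hne
    -- ordered pairs
    have hord : ∀ a b c x y : Ω, a ≠ b → a ≠ c → b ≠ c → a ≠ x → a ≠ y → x ≠ y →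
        ∃ g : G, g • a = a ∧ g • b = x ∧ g • c = y := by
      intro a b c x y hab hac hbc hax hay hxy
      haveI := Fact.mk Nat.prime_two
      obtain ⟨t, ht⟩ := exists_prime_orderOf_dvd_card' (G := MulAction.stabilizer G a) 2
        (heven a).two_dvd
      have ht' : ((t : MulAction.stabilizer G a) : G) ≠ 1 := fun h => by
        have : t = 1 := Subtype.ext h
        rw [this, orderOf_one] at ht
        omega
      have ht2 : (t : G) * (t : G) = 1 := by
        have := pow_orderOf_eq_one t
        rw [ht, pow_two] at this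
        exact congrArg Subtype.val this
      obtain ⟨u, hu⟩ : ∃ u : Ω, (t : G) • u ≠ u := by
        by_contra h
        simp only [not_exists, not_not] at h
        exact ht' (eq_of_smul_eq_smul (α := Ω) fun x => by rw [h x, one_smul])
      have hau : a ≠ u := fun h => hu (h ▸ t.2)
      have hat : a ≠ (t : G) • u := fun h => by
        have h' : (t : G) • a = (t : G) • u := t.2.trans h
        exact hau (MulAction.injective _ h')
      obtain ⟨k, hka, hk⟩ := hswap a u ((t : G) • u) hau hat (Ne.symm hu) b c hab hac hbc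
      have hka' : k⁻¹ • a = a := inv_smul_eq_iff.2 hka.symm
      have hsw : (k * (t : G) * k⁻¹) • a = a ∧
          (k * (t : G) * k⁻¹) • b = c ∧ (k * (t : G) * k⁻¹) • c = b := by
        refine ⟨by rw [mul_smul, mul_smul, hka', show (t : G) • a = a from t.2, hka], ?_⟩
        rcases hk with ⟨h1, h2⟩ | ⟨h1, h2⟩
        · rw [← h1, ← h2]
          simp only [mul_smul, inv_smul_smul, smul_smul (t : G) (t : G), ht2, one_smul, and_self]
        · rw [← h1, ← h2]
          simp only [mul_smul, inv_smul_smul, smul_smul (t : G) (t : G), ht2, one_smul, and_self]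
      obtain ⟨g, hga, hg | hg⟩ := hswap a b c hab hac hbc x y hax hay hxy
      · exact ⟨g, hga, hg⟩
      · exact ⟨g * (k * (t : G) * k⁻¹), by rw [mul_smul, hsw.1, hga],
          by rw [mul_smul, hsw.2.1, hg.2], by rw [mul_smul, hsw.2.2, hg.1]⟩
    rw [MulAction.isMultiplyPretransitive_iff]
    intro x y
    obtain ⟨g, hg⟩ := MulAction.exists_smul_eq G (x 0) (y 0)
    have hinj : ∀ i j : Fin 3, i ≠ j → g • x i ≠ g • x j := fun i j hij h =>
      hij (x.injective (MulAction.injective g h))
    obtain ⟨k, hk0, hk1, hk2⟩ := hord (y 0) (g • x 1) (g • x 2) (y 1) (y 2)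
      (hg ▸ hinj 0 1 (by decide)) (hg ▸ hinj 0 2 (by decide)) (hinj 1 2 (by decide))
      (y.injective.ne (by decide)) (y.injective.ne (by decide)) (y.injective.ne (by decide))
    refine ⟨k * g, DFunLike.ext _ _ fun i => ?_⟩
    show (k * g) • x i = y i
    fin_cases i
    · exact (mul_smul k g _).trans ((congrArg (k • ·) hg).trans hk0)
    · exact (mul_smul k g _).trans hk1
    · exact (mul_smul k g _).trans hk2
  -- transitivity on pairs
  have hpairs : ∀ P Q : Set.powersetCard Ω 2, ∃ g : G, g • P = Q := by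
    intro P Q
    obtain ⟨b, c, hbc, hP⟩ := Finset.card_eq_two.1 P.2
    obtain ⟨x, y, hxy, hQ⟩ := Finset.card_eq_two.1 Q.2
    obtain ⟨g, h1, h2⟩ := MulAction.is_two_pretransitive_iff.1 h2 hbc hxy
    refine ⟨g, Subtype.ext ?_⟩
    show g • (P : Finset Ω) = (Q : Finset Ω)
    rw [hP, hQ, Finset.smul_finset_def]
    simp [h1, h2]
  let T₁ : Ω → Set.powersetCard Ω 2 → K := fun x P =>
    if ∃ g : G, g • a = x ∧ g • P₀ = P then 1 else 0
  let T₂ : Ω → Set.powersetCard Ω 2 → K := fun x P => if x ∈ (P : Finset Ω) then 1 else 0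
  have hT₁ : ∀ (g : G) x P, T₁ (g • x) (g • P) = T₁ x P := by
    intro g x P
    apply if_congr _ rfl rfl
    constructor
    · rintro ⟨k, h1, h2⟩
      exact ⟨g⁻¹ * k, by rw [mul_smul, h1, inv_smul_smul], by rw [mul_smul, h2, inv_smul_smul]⟩
    · rintro ⟨k, h1, h2⟩
      exact ⟨g * k, by rw [mul_smul, h1], by rw [mul_smul, h2]⟩
  have hT₂ : ∀ (g : G) x P, T₂ (g • x) (g • P) = T₂ x P := by
    intro g x P
    apply if_congr _ rfl rfl
    show g • x ∈ g • (P : Finset Ω) ↔ _
    exact Finset.smul_mem_smul_finset_iff g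
  let c₁ : K := ∑ x, T₁ x P₀
  let c₂ : K := ∑ x, T₂ x P₀
  have hc : ∀ (T : Ω → Set.powersetCard Ω 2 → K), (∀ (g : G) x P, T (g • x) (g • P) = T x P) →
      ∀ P, ∑ x, T x P = ∑ x, T x P₀ := by
    intro T hT P
    obtain ⟨g, rfl⟩ := hpairs P₀ P
    refine Fintype.sum_equiv (MulAction.toPerm g⁻¹) _ _ (fun x => ?_)
    show _ = T (g⁻¹ • x) P₀
    rw [← hT g (g⁻¹ • x) P₀, smul_inv_smul]
  let T : Ω → Set.powersetCard Ω 2 → K := fun x P =>
    if c₁ = 0 then T₁ x P else c₂ * T₁ x P - c₁ * T₂ x P
  have hT : ∀ (g : G) x P, T (g • x) (g • P) = T x P := by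
    intro g x P; simp only [T, hT₁, hT₂]
  have hT0 : ∀ P, ∑ x, T x P = 0 := by
    intro P
    rw [hc T hT P]
    by_cases h0 : c₁ = 0
    · simp only [T, if_pos h0]; exact h0
    · simp only [T, if_neg h0, Finset.sum_sub_distrib, ← Finset.mul_sum]
      exact sub_eq_zero.2 (mul_comm _ _)
  let F : (Cfsg.permSumZero K G Ω).toSubmodule →ₗ[K] (Set.powersetCard Ω 2 → K) :=
    { toFun := fun v P => ∑ x, T x P * (v : Ω → K) x
      map_add' := fun u v => funext fun P => by
        simp [mul_add, Finset.sum_add_distrib]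
      map_smul' := fun k v => funext fun P => by
        simp [Finset.mul_sum, mul_left_comm] }
  have hF := h ⟨F, fun g => LinearMap.ext fun v => funext fun P => by
      show (∑ x, T x P * (v : Ω → K) (g⁻¹ • x)) = ∑ x, T x (g⁻¹ • P) * (v : Ω → K) x
      refine Fintype.sum_equiv (MulAction.toPerm g⁻¹) _ _ (fun x => ?_)
      show _ = T (g⁻¹ • x) (g⁻¹ • P) * _
      rw [hT]; rfl⟩ (fun v hv => funext fun P => by
      obtain ⟨k, hk⟩ := CfsgLib.Perm.Module.mem_permConstants.1 hv
      show ∑ x, T x P * (v : Ω → K) x = 0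
      rw [hk, ← Finset.sum_mul, hT0, zero_mul])
  -- evaluate on `e_a - e_b`
  have key : ∀ (P : Set.powersetCard Ω 2) (b : Ω), T a P = T b P := by
    intro P b
    have hmem : (Pi.single a 1 - Pi.single b 1 : Ω → K) ∈ (Cfsg.permSumZero K G Ω).toSubmodule := by
      rw [CfsgLib.Perm.Module.mem_permSumZero]
      simp
    have e := congrFun (congrArg (fun φ => φ ⟨_, hmem⟩) hF) P
    have e' : ∑ x, T x P * (Pi.single a 1 - Pi.single b 1 : Ω → K) x = 0 := e
    simp [mul_sub, Finset.sum_sub_distrib, Pi.single_apply] at e'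
    exact sub_eq_zero.1 e'
  have hT₁a : ∀ P, T₁ a P = if ∃ g : G, g • a = a ∧ g • P₀ = P then 1 else 0 := fun P => rfl
  by_cases h0 : c₁ = 0
  · obtain ⟨b, hb⟩ : (P₀ : Finset Ω).Nonempty := Finset.card_pos.1 (by rw [P₀.2]; omega)
    have := key P₀ b
    simp only [T, if_pos h0] at this
    rw [hT₁a, if_pos ⟨1, one_smul _ _, one_smul _ _⟩] at this
    have hb' : T₁ b P₀ = 0 := by
      apply if_neg
      rintro ⟨g, h1, h2⟩
      apply hP₀
      have h3 : b ∈ ((g • P₀ : Set.powersetCard Ω 2) : Finset Ω) := by rw [h2]; exact hb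
      have h4 : g • a ∈ g • (P₀ : Finset Ω) := by rw [h1]; exact h3
      exact (Finset.smul_mem_smul_finset_iff g).1 h4
    rw [hb'] at this
    exact one_ne_zero this
  · obtain ⟨b, hb⟩ : (P₁ : Finset Ω).Nonempty := Finset.card_pos.1 (by rw [P₁.2]; omega)
    have := key P₁ b
    simp only [T, if_neg h0] at this
    have e1 : T₁ a P₁ = 0 := if_neg (fun ⟨g, h1, h2⟩ => hne g h1 h2)
    have e2 : T₂ a P₁ = 0 := if_neg hP₁
    have e3 : T₂ b P₁ = 1 := if_pos hb
    have e4 : T₁ b P₁ = 0 := by
      apply if_neg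
      rintro ⟨g, h1, h2⟩
      apply hP₀
      have h3 : b ∈ ((g • P₀ : Set.powersetCard Ω 2) : Finset Ω) := by rw [h2]; exact hb
      have h4 : g • a ∈ g • (P₀ : Finset Ω) := by rw [h1]; exact h3
      exact (Finset.smul_mem_smul_finset_iff g).1 h4
    rw [e1, e2, e3, e4] at this
    simp at this
    exact h0 this

end Cfsg.Agent.S0672
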