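import Cfsg.Statements.S0676
import Mathlib
import Cfsg.Agent.Perm.BurnsidePrime
import Cfsg.Agent.S0672
-- import your own Cfsg.Agent.* helpers here

set_option autoImplicit false
open Cfsg
open scoped Pointwise

namespace Cfsg.Agent.S0676

/-- A non-solvable transitive permutation group of prime degree `p` whose Sylow `p`-normaliser has even order is triply transitive. -/
theorem result {α : Type*} [Fintype α] [DecidableEq α] {p : ℕ} [Fact p.Prime] (hα : Fintype.card α = p) (G : Subgroup (Equiv.Perm α)) [MulAction.IsPretransitive G α] (hG : ¬ Group.IsSolvable G) (P : Sylow p G) (heven : Even (Nat.card (Subgroup.normalizer ((P : Subgroup G) : Set G)))) : MulAction.IsMultiplyPretransitive G α 3 := by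
  have h2 := (CfsgLib.Perm.PrimeDegree.burnside hα G).resolve_left hG
  have hp3 : 3 < p := not_le.1 fun h => hG (CfsgLib.Perm.PrimeDegree.isSolvable_of_card_le_three hα h G)
  -- a `p`-cycle in `P`
  have hcardα : Nat.card α = p ^ 1 := by rw [Nat.card_eq_fintype_card, hα, pow_one]
  haveI hPt : MulAction.IsPretransitive (P : Subgroup G) α :=
    CfsgLib.Perm.Module.sylow_isPretransitive hcardα P
  haveI : Nonempty α := Fintype.card_pos_iff.1 (by rw [hα]; omega)
  let a₀ : α := Classical.arbitrary α
  have hPp : Nat.card (P : Subgroup G) = p := by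
    obtain ⟨n, hn⟩ := P.2.exists_card_eq
    have hsym : Nat.card (P : Subgroup G) ∣ p.factorial := by
      have h1 := Subgroup.card_dvd_of_injective ((G.subtype).comp (P : Subgroup G).subtype)
        (G.subtype_injective.comp (Subgroup.subtype_injective _))
      rwa [Nat.card_perm, Nat.card_eq_fintype_card (α := α), hα] at h1
    have hge : p ∣ Nat.card (P : Subgroup G) := by
      conv_lhs => rw [← hα, ← Nat.card_eq_fintype_card,
        ← MulAction.index_stabilizer_of_transitive (P : Subgroup G) a₀]
      exact Subgroup.index_dvd_card _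
    rw [hn] at hsym hge ⊢
    have hn1 : n ≤ 1 := by
      by_contra hh
      have h2' : p ^ 2 ∣ p.factorial := (pow_dvd_pow p (by omega)).trans hsym
      rw [← Nat.mul_factorial_pred (by omega : p ≠ 0), pow_two,
        Nat.mul_dvd_mul_iff_left (by omega : 0 < p), Fact.out (p := p.Prime).dvd_factorial] at h2'
      omega
    have hn0 : n ≠ 0 := by
      rintro rfl
      rw [pow_zero, Nat.dvd_one] at hge
      omega
    obtain rfl : n = 1 := by omega
    exact pow_one p
  obtain ⟨γ, hγ⟩ := exists_prime_orderOf_dvd_card' (G := (P : Subgroup G)) p (by rw [hPp])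
  set g : Equiv.Perm α := ((γ : G) : Equiv.Perm α) with hgdef
  have hgo : orderOf g = p := by rw [hgdef, Subgroup.orderOf_coe, Subgroup.orderOf_coe, hγ]
  obtain ⟨e, he⟩ := CfsgLib.Perm.PrimeDegree.exists_coord hα (g := g)
    (fun h => by rw [h, orderOf_one] at hgo; omega) (by rw [← hgo]; exact pow_orderOf_eq_one g)
  have hgz : ∀ x : (P : Subgroup G), x ∈ Subgroup.zpowers γ := by
    intro x
    have : Subgroup.zpowers γ = ⊤ := Subgroup.eq_top_of_card_eq _ (by rw [Nat.card_zpowers, hγ, hPp])
    rw [this]; trivial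
  have hgk : ∀ (k : ℤ) (j : ZMod p), (g ^ k) (e j) = e (j + k) := by
    intro k
    induction k using Int.induction_on with
    | zero => simp
    | succ k ih => intro j; rw [zpow_add, zpow_one, Equiv.Perm.mul_apply, he, ih]; push_cast; ring_nf
    | pred k ih =>
      intro j
      have : (g⁻¹) (e j) = e (j - 1) := by
        rw [Equiv.Perm.inv_def, Equiv.symm_apply_eq, he, sub_add_cancel]
      rw [zpow_sub, zpow_one, Equiv.Perm.mul_apply, this, ih]; push_cast; ring_nf
  -- an involution normalising `P`
  haveI := Fact.mk Nat.prime_two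
  obtain ⟨t, ht⟩ := exists_prime_orderOf_dvd_card'
    (G := Subgroup.normalizer ((P : Subgroup G) : Set G)) 2 heven.two_dvd
  set τ : Equiv.Perm α := ((t : G) : Equiv.Perm α) with hτ
  have hτ2 : τ * τ = 1 := by
    have h1 : orderOf τ = 2 := by rw [hτ, Subgroup.orderOf_coe, Subgroup.orderOf_coe, ht]
    rw [← pow_two, ← h1, pow_orderOf_eq_one]
  obtain ⟨u, hu⟩ := hgz ⟨(t : G) * (γ : G) * (t : G)⁻¹, (Subgroup.mem_normalizer_iff.1 t.2 γ).1 γ.2⟩
  have hconj : ∀ j, τ (g (e j)) = (g ^ u) (τ (e j)) := by
    intro j
    have h1 := congrArg (fun x : (P : Subgroup G) => ((x : G) : Equiv.Perm α)) hu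
    simp only [SubgroupClass.coe_zpow, Subgroup.coe_mul, Subgroup.coe_inv, ← hτ, ← hgdef] at h1
    rw [h1]
    simp
  let s : ZMod p → ZMod p := fun j => e.symm (τ (e j))
  have hs : ∀ j, e (s j) = τ (e j) := fun j => e.apply_symm_apply _
  have hstep : ∀ j, s (j + 1) = s j + u := by
    intro j
    apply e.injective
    rw [hs, ← he, hconj, ← hs, hgk]
  have hlin : ∀ j : ZMod p, s j = (u : ZMod p) * j + s 0 := by
    have h : ∀ n : ℕ, s (n : ZMod p) = (u : ZMod p) * n + s 0 := by
      intro n
      induction n with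
      | zero => simp
      | succ n ih => push_cast; rw [hstep, ih]; ring
    intro j
    have := h j.val
    rwa [ZMod.natCast_zmod_val] at this
  have hinv : ∀ j, s (s j) = j := by
    intro j
    apply e.injective
    rw [hs, hs, ← Equiv.Perm.mul_apply, hτ2]
    rfl
  have h2ne : (2 : ZMod p) ≠ 0 := fun h => by
    have : p ∣ 2 := (ZMod.natCast_eq_zero_iff 2 p).1 (by exact_mod_cast h)
    have := Nat.le_of_dvd two_pos this
    omega
  have hu1 : (u : ZMod p) = -1 := by
    have e0 := hinv 0
    have e1 := hinv 1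
    rw [hlin (s 0)] at e0
    rw [hlin (s 1), hlin 1] at e1
    have hsq : (u : ZMod p) * u = 1 := by linear_combination e1 - e0
    rcases mul_self_eq_one_iff.1 hsq with h | h
    · exfalso
      rw [h, one_mul] at e0
      have hb : s 0 = 0 := by
        rcases mul_eq_zero.1 (show (2 : ZMod p) * s 0 = 0 by linear_combination e0) with h' | h'
        · exact absurd h' h2ne
        · exact h'
      have htau : τ = 1 := Equiv.ext fun x => by
        obtain ⟨j, rfl⟩ := e.surjective x
        rw [← hs, hlin, h, hb, one_mul, add_zero]; rfl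
      have h1 : orderOf τ = 2 := by rw [hτ, Subgroup.orderOf_coe, Subgroup.orderOf_coe, ht]
      rw [htau, orderOf_one] at h1
      omega
    · exact h
  -- the hypothesis of the pair criterion
  refine Cfsg.Agent.S0672.result (K := ZMod p) (p := p) h2 (dvd_of_eq hα.symm) (fun a => ?_) ?_
  · have hidx := MulAction.index_stabilizer_of_transitive G a
    have hmul := Subgroup.index_mul_card (MulAction.stabilizer G a)
    rw [hidx, Nat.card_eq_fintype_card, hα] at hmul
    have hev : Even (Nat.card G) := heven.trans_dvd (Subgroup.card_subgroup_dvd_card _)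
    rw [← hmul, Nat.even_mul] at hev
    refine hev.resolve_left (Nat.not_even_iff_odd.2 ((Fact.out (p := p.Prime)).odd_of_ne_two (by omega)))
  intro f hfC
  let F := f.toLinearMap
  let S := (Cfsg.permSumZero (ZMod p) G α)
  let Kr : Subrepresentation (Cfsg.permRep (ZMod p) G α) :=
    { toSubmodule := (LinearMap.ker F).map S.toSubmodule.subtype
      apply_mem_toSubmodule := by
        rintro σ _ ⟨v, hv, rfl⟩
        refine ⟨S.toRepresentation σ v, ?_, rfl⟩
        show F (S.toRepresentation σ v) = 0
        have := LinearMap.congr_fun (f.isIntertwining' σ) v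
        simp only [LinearMap.comp_apply] at this
        rw [this]
        show Cfsg.permRep (ZMod p) G (Set.powersetCard α 2) σ (F v) = 0
        rw [show F v = 0 from hv, map_zero] }
  let l : α → ZMod p := fun x => e.symm x
  have hl : l ∈ S.toSubmodule := by
    rw [CfsgLib.Perm.Module.mem_permSumZero]
    rw [Fintype.sum_equiv e.symm l (fun j => j) (fun x => rfl)]
    have := FiniteField.sum_pow_lt_card_sub_one (ZMod p) 1 (by rw [ZMod.card]; omega)
    simpa using this
  have hone : (fun _ : α => (1 : ZMod p)) ∈ S.toSubmodule := by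
    rw [CfsgLib.Perm.Module.mem_permSumZero]
    simp [hα]
  have hFone : ∀ c : ZMod p, F ⟨fun _ => c, by
      simpa [Pi.smul_def] using S.toSubmodule.smul_mem c hone⟩ = 0 := fun c =>
    hfC _ (CfsgLib.Perm.Module.mem_permConstants.2 ⟨c, rfl⟩)
  have hFe : ∀ (σ : G) (w : S.toSubmodule) (c : ZMod p),
      (∀ x, (w : α → ZMod p) (σ⁻¹ • x) = (w : α → ZMod p) x + c) →
      Cfsg.permRep (ZMod p) G (Set.powersetCard α 2) σ (F w) = F w := by
    intro σ w c hw
    have := LinearMap.congr_fun (f.isIntertwining' σ) w
    simp only [LinearMap.comp_apply] at this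
    refine this.symm.trans ?_
    have hval : S.toRepresentation σ w = w + ⟨fun _ => c, by
        simpa [Pi.smul_def] using S.toSubmodule.smul_mem c hone⟩ :=
      Subtype.ext (funext fun x => hw x)
    show F (S.toRepresentation σ w) = F w
    rw [hval, map_add, hFone, add_zero]
  have hγfix : ∀ P' : Set.powersetCard α 2, ∀ n : ℕ, F ⟨l, hl⟩ ((γ : G) ^ n • P') = F ⟨l, hl⟩ P' := by
    intro P' n
    have h1 := hFe (γ : G)⁻¹ ⟨l, hl⟩ 1 (fun x => by
      show e.symm ((γ : G)⁻¹⁻¹ • x) = e.symm x + 1
      obtain ⟨j, rfl⟩ := e.surjective x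
      rw [inv_inv]
      show e.symm (g (e j)) = e.symm (e j) + 1
      rw [he]; simp)
    induction n with
    | zero => simp
    | succ n ih =>
      rw [pow_succ', mul_smul, ← ih]
      have h2 := congrFun h1 ((γ : G) ^ n • P')
      rw [CfsgLib.Perm.Module.permRep_apply, inv_inv] at h2
      exact h2
  have hFl : F ⟨l, hl⟩ = 0 := by
    funext P'
    obtain ⟨x, y, hxy, hP⟩ := Finset.card_eq_two.1 P'.2
    obtain ⟨i, rfl⟩ := e.surjective x
    obtain ⟨j, rfl⟩ := e.surjective y
    have hneg : Cfsg.permRep (ZMod p) G (Set.powersetCard α 2) (t : G) (F ⟨-l, S.toSubmodule.neg_mem hl⟩)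
        = F ⟨l, hl⟩ := by
      have := LinearMap.congr_fun (f.isIntertwining' (t : G)) ⟨-l, S.toSubmodule.neg_mem hl⟩
      simp only [LinearMap.comp_apply] at this
      refine this.symm.trans ?_
      have hval : S.toRepresentation (t : G) ⟨-l, S.toSubmodule.neg_mem hl⟩ = ⟨l, hl⟩ +
          ⟨fun _ => -(s 0), by
            convert S.toSubmodule.smul_mem (-(s 0)) hone using 1
            funext x
            simp⟩ := by
        refine Subtype.ext (funext fun x => ?_)
        show -(e.symm ((t : G)⁻¹ • x)) = e.symm x + -(s 0)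
        obtain ⟨k, rfl⟩ := e.surjective x
        have : (t : G)⁻¹ • e k = e (s k) := by
          rw [inv_smul_eq_iff]
          show e k = τ (e (s k))
          rw [← hs, hinv]
        rw [this, Equiv.symm_apply_apply, Equiv.symm_apply_apply, hlin, hu1]
        ring
      show F (S.toRepresentation (t : G) ⟨-l, S.toSubmodule.neg_mem hl⟩) = _
      rw [hval, map_add, hFone, add_zero]
    -- `t⁻¹` moves the pair by a power of the cycle
    have hpair : (t : G)⁻¹ • P' = (γ : G) ^ ((s 0 - i - j : ZMod p).val) • P' := by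
      apply Subtype.ext
      show (t : G)⁻¹ • (P' : Finset α) = (γ : G) ^ ((s 0 - i - j : ZMod p).val) • (P' : Finset α)
      have ht' : ∀ k, (t : G)⁻¹ • e k = e (s k) := by
        intro k
        rw [inv_smul_eq_iff]
        show e k = τ (e (s k))
        rw [← hs, hinv]
      have hg' : ∀ k, ((γ : G) ^ ((s 0 - i - j : ZMod p).val)) • e k = e (k + (s 0 - i - j)) := by
        intro k
        show (((γ : G) ^ ((s 0 - i - j : ZMod p).val) : G) : Equiv.Perm α) (e k) = _
        rw [SubgroupClass.coe_pow, ← hgdef, ← zpow_natCast, hgk]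
        rw [Int.cast_natCast, ZMod.natCast_zmod_val]
      have e1 : i + (s 0 - i - j) = -1 * j + s 0 := by ring
      have e2 : j + (s 0 - i - j) = -1 * i + s 0 := by ring
      rw [hP, Finset.smul_finset_def, Finset.smul_finset_def, Finset.image_insert,
        Finset.image_singleton, Finset.image_insert, Finset.image_singleton, ht', ht', hg', hg',
        e1, e2, hlin i, hlin j, hu1, Finset.pair_comm]
    have h1 := congrFun hneg P'
    rw [CfsgLib.Perm.Module.permRep_apply, hpair] at h1
    have h3 : F ⟨-l, S.toSubmodule.neg_mem hl⟩ = -F ⟨l, hl⟩ := by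
      rw [← map_neg]; rfl
    rw [h3, Pi.neg_apply, hγfix] at h1
    rcases mul_eq_zero.1 (show (2 : ZMod p) * F ⟨l, hl⟩ P' = 0 by linear_combination -h1) with h | h
    · exact absurd h h2ne
    · exact h
  have hC : (Cfsg.permConstants (ZMod p) G α).toSubmodule ≤ Kr.toSubmodule := by
    intro w hw
    obtain ⟨c, rfl⟩ := CfsgLib.Perm.Module.mem_permConstants.1 hw
    exact ⟨_, hFone c, rfl⟩
  rcases CfsgLib.Perm.Heart.between_eq hα G hG Kr hC (by rintro _ ⟨v, _, rfl⟩; exact v.2) with h | h
  · exfalso
    have : l ∈ (Cfsg.permConstants (ZMod p) G α).toSubmodule := h ▸ ⟨⟨l, hl⟩, hFl, rfl⟩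
    obtain ⟨c, hc⟩ := CfsgLib.Perm.Module.mem_permConstants.1 this
    have e0 := congrFun hc (e 0)
    have e1 := congrFun hc (e 1)
    simp only [l, Equiv.symm_apply_apply] at e0 e1
    exact zero_ne_one (e0.trans e1.symm)
  · apply Representation.IntertwiningMap.toLinearMap_injective
    apply LinearMap.ext
    intro v
    have hv : (v : α → ZMod p) ∈ Kr.toSubmodule := by rw [h]; exact v.2
    obtain ⟨w, hw, hwv⟩ := hv
    rw [← Subtype.ext hwv]
    exact hw

end Cfsg.Agent.S0676
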