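import Cfsg.Statements.S1013
import Mathlib.GroupTheory.GroupAction.Blocks
import Mathlib.GroupTheory.GroupAction.Transitive
import Cfsg.Agent.Small.SylowArgs

set_option autoImplicit false
open Cfsg CfsgLib.Small

namespace Cfsg.Agent.S1013

/-- A normal subgroup of order prime to `p` of a faithful transitive group of prime degree `p`
is trivial. -/
theorem eq_bot_of_normal_of_coprime {G α : Type*} [Group G] [MulAction G α] [Finite α]
    [FaithfulSMul G α] [MulAction.IsPretransitive G α] {p : ℕ} (hp : p.Prime)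
    (hcard : Nat.card α = p) (M : Subgroup G) [M.Normal] (h : ¬ p ∣ Nat.card ↥M) : M = ⊥ := by
  refine (Subgroup.eq_bot_iff_forall M).2 fun g hg => eq_of_smul_eq_smul fun a : α => ?_
  have hd : (MulAction.orbit ↥M a).ncard ∣ Nat.card α :=
    (MulAction.IsBlock.orbit_of_normal (G := G) (N := M) a).ncard_dvd_card
      ⟨a, MulAction.mem_orbit_self a⟩
  rcases (Nat.dvd_prime hp).1 (hcard ▸ hd) with h1 | h1
  · obtain ⟨d, hd⟩ := Set.ncard_eq_one.1 h1
    have h2 : (⟨g, hg⟩ : ↥M) • a ∈ MulAction.orbit ↥M a := MulAction.mem_orbit _ _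
    have h3 : a ∈ MulAction.orbit ↥M a := MulAction.mem_orbit_self _
    rw [hd, Set.mem_singleton_iff] at h2 h3
    rw [one_smul]
    exact h2.trans h3.symm
  · refine absurd ?_ h
    rw [← h1, ← MulAction.index_stabilizer]
    exact Subgroup.index_dvd_card _

/-- Let G be a transitive permutation group of prime degree p having more than one Sylow p-subgroup, and suppose a Sylow p-subgroup P has prime index in its normalizer. Then G is simple. -/
theorem result {α : Type*} [Fintype α] [DecidableEq α] {p : ℕ} [Fact p.Prime] (hα : Fintype.card α = p) (G : Subgroup (Equiv.Perm α)) [MulAction.IsPretransitive ↥G α] (P : Sylow p ↥G) (hn : 1 < Nat.card (Sylow p ↥G)) (ht : (((P : Subgroup ↥G).subgroupOf (Subgroup.normalizer ((P : Subgroup ↥G) : Set ↥G))).index).Prime) : IsSimpleGroup ↥G := by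
  classical
  have hp : p.Prime := Fact.out
  have hcard : Nat.card α = p := by rw [Nat.card_eq_fintype_card, hα]
  haveI : Nonempty α := Fintype.card_pos_iff.1 (hα ▸ hp.pos)
  obtain ⟨a₀⟩ := (inferInstance : Nonempty α)
  have hpG : p ∣ Nat.card ↥G := by
    rw [← hcard, ← MulAction.index_stabilizer_of_transitive (G := ↥G) (x := a₀)]
    exact Subgroup.index_dvd_card _
  have hfac : Nat.card ↥G ∣ p.factorial := by
    have h := Subgroup.card_subgroup_dvd_card G
    rwa [Nat.card_perm, hcard] at h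
  have hp2 : ¬ p * p ∣ Nat.card ↥G := by
    intro h
    have h2 := h.trans hfac
    obtain ⟨q, rfl⟩ := Nat.exists_eq_succ_of_ne_zero hp.ne_zero
    rw [Nat.factorial_succ] at h2
    have h3 := Nat.dvd_of_mul_dvd_mul_left hp.pos h2
    have := (Nat.Prime.dvd_factorial hp).1 h3
    omega
  obtain ⟨m, hm⟩ := hpG
  have hpm : ¬ p ∣ m := fun h => hp2 (hm ▸ Nat.mul_dvd_mul_left p h)
  have hP : Nat.card P = p := by
    have := card_sylow_eq (k := 1) (by rw [pow_one]; exact hm) hpm P
    rwa [pow_one] at this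
  haveI : Nontrivial ↥G := Finite.one_lt_card_iff_nontrivial.1
    (lt_of_lt_of_le hp.one_lt (Nat.le_of_dvd Nat.card_pos ⟨m, hm⟩))
  refine { toNontrivial := inferInstance, eq_bot_or_eq_top_of_normal := fun K hK => ?_ }
  by_contra hcon
  push Not at hcon
  obtain ⟨hK1, hK2⟩ := hcon
  haveI := hK
  -- the normal subgroup is transitive
  have hpK : p ∣ Nat.card ↥K := by
    by_contra h
    exact hK1 (eq_bot_of_normal_of_coprime hp hcard K h)
  haveI hKt : MulAction.IsPretransitive ↥K α := by
    rw [MulAction.isPretransitive_iff_orbit_eq_univ a₀]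
    rcases (Nat.dvd_prime hp).1 (hcard ▸ (MulAction.IsBlock.orbit_of_normal (G := ↥G) (N := K)
      a₀).ncard_dvd_card ⟨a₀, MulAction.mem_orbit_self a₀⟩) with h | h
    · refine absurd (Subgroup.eq_bot_iff_forall K |>.2 fun g hg => ?_) hK1
      refine eq_of_smul_eq_smul fun a : α => ?_
      obtain ⟨c, rfl⟩ := MulAction.exists_smul_eq (↥G) a₀ a
      obtain ⟨d, hd⟩ := Set.ncard_eq_one.1 h
      have h1 : (⟨c⁻¹ * g * c, by simpa using hK.conj_mem g hg c⁻¹⟩ : ↥K) • a₀
          ∈ MulAction.orbit ↥K a₀ := MulAction.mem_orbit _ _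
      have h2 : a₀ ∈ MulAction.orbit ↥K a₀ := MulAction.mem_orbit_self _
      rw [hd, Set.mem_singleton_iff] at h1 h2
      rw [← h2] at h1
      change (c⁻¹ * g * c) • a₀ = a₀ at h1
      rw [mul_smul, mul_smul, inv_smul_eq_iff] at h1
      rw [one_smul]
      exact h1
    · exact Set.eq_univ_iff_ncard _ |>.2 (by rw [h, hcard])
  have hPK : (P : Subgroup ↥G) ≤ K := by
    intro g hg
    rw [← QuotientGroup.eq_one_iff g, ← orderOf_eq_one_iff]
    have h1 : orderOf ((g : ↥G ⧸ K)) ∣ p := by
      refine (orderOf_map_dvd (QuotientGroup.mk' K) g).trans ?_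
      exact hP ▸ Subgroup.orderOf_dvd_natCard _ hg
    have h2 : orderOf ((g : ↥G ⧸ K)) ∣ K.index := orderOf_dvd_natCard _
    rcases (Nat.dvd_prime hp).1 h1 with h | h
    · exact h
    · exfalso
      rw [h] at h2
      exact hp2 ((Nat.mul_dvd_mul hpK h2).trans (dvd_of_eq K.card_mul_index))
  set Nm := Subgroup.normalizer ((P : Subgroup ↥G) : Set ↥G) with hNm
  let P' : Sylow p ↥K := P.subtype hPK
  have hNK : Nm.subgroupOf K = Subgroup.normalizer ((P' : Subgroup ↥K) : Set ↥K) :=
    Subgroup.subgroupOf_normalizer_eq hPK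
  -- either the normalizer lies in `K`, or it meets `K` in `P`
  have hrel : (P : Subgroup ↥G).relIndex (Nm ⊓ K) ∣ (P : Subgroup ↥G).relIndex Nm :=
    Dvd.intro _ (Subgroup.relIndex_mul_relIndex _ _ _ (le_inf Subgroup.le_normalizer hPK) inf_le_left)
  rcases (Nat.dvd_prime ht).1 hrel with h | h
  · have hle : Nm ⊓ K ≤ (P : Subgroup ↥G) := Subgroup.relIndex_eq_one.1 h
    have hc : Subgroup.normalizer ((P' : Subgroup ↥K) : Set ↥K)
        ≤ Subgroup.centralizer ((P' : Subgroup ↥K) : Set ↥K) := by
      rw [← hNK]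
      intro x hx
      rw [Subgroup.mem_centralizer_iff]
      intro y hy
      haveI : IsCyclic ↥(P : Subgroup ↥G) := isCyclic_of_prime_card hP
      have hx' : (x : ↥G) ∈ (P : Subgroup ↥G) := hle ⟨hx, x.2⟩
      have := congrArg Subtype.val
        ((IsCyclic.commutative (α := ↥(P : Subgroup ↥G))).is_comm.comm ⟨(y : ↥G), hy⟩ ⟨x, hx'⟩)
      exact Subtype.ext this
    have hcompl := MonoidHom.ker_transferSylow_isComplement' P' hc
    set M := (MonoidHom.transferSylow P' hc).ker with hM
    have hMcard : Nat.card ↥M * p = Nat.card ↥K := by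
      rw [← hcompl.card_mul_card]
      congr 1
      exact hP.symm.trans (Nat.card_congr (Subgroup.subgroupOfEquivOfLe hPK).toEquiv.symm)
    have hMbot : M = ⊥ := by
      refine eq_bot_of_normal_of_coprime (G := ↥K) hp hcard M fun h => hp2 ?_
      exact (Nat.mul_dvd_mul h dvd_rfl).trans ((dvd_of_eq hMcard).trans
        (Subgroup.card_subgroup_dvd_card K))
    rw [hMbot, Subgroup.isComplement'_bot_left] at hcompl
    have hKP : (P : Subgroup ↥G) = K := le_antisymm hPK fun x hx => by
      have : (⟨x, hx⟩ : ↥K) ∈ (P' : Subgroup ↥K) := by rw [hcompl]; exact Subgroup.mem_top _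
      exact this
    haveI : (P : Subgroup ↥G).Normal := hKP ▸ hK
    haveI := Sylow.unique_of_normal P inferInstance
    rw [Nat.card_unique] at hn
    exact lt_irrefl _ hn
  · have h1 : (Nm ⊓ K).relIndex Nm = 1 := by
      have := Subgroup.relIndex_mul_relIndex _ _ _ (le_inf Subgroup.le_normalizer hPK)
        (inf_le_left : Nm ⊓ K ≤ Nm)
      rw [h] at this
      exact Nat.eq_of_mul_eq_mul_left ht.pos (this.trans (mul_one _).symm)
    have hle : Nm ≤ K := (Subgroup.relIndex_eq_one.1 h1).trans inf_le_right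
    exact hK2 (top_unique (P.normalizer_sup_eq_top' hPK ▸ sup_le hle le_rfl))

end Cfsg.Agent.S1013
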