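import Cfsg.Statements.S0250
import Cfsg.Agent.Linear.SmallIsoA

set_option autoImplicit false
open Cfsg

namespace Cfsg.Agent.S0250

/-- SL_2(2) is isomorphic to S_3. -/
theorem result {F : Type*} [Field F] [Fintype F] (hF : Fintype.card F = 2) : Nonempty (Matrix.SpecialLinearGroup (Fin 2) F ≃* Equiv.Perm (Fin 3)) := by
  open CfsgLib.Linear in
  have hK : Fintype.card F = Fintype.card (ZMod 2) := by rw [hF, ZMod.card]
  obtain ⟨e⟩ := psl_equiv_of_check hK (permRep 3) (permRep_injective 3) psl22Gens psl22Cert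
    (nG := 6) (nH := 6) (z := 1) (by rw [card_GL_two, ZMod.card]; rfl) (by rw [ZMod.card]; rfl)
    one_le_two rfl (by rw [Nat.card_perm, Nat.card_fin]; rfl) psl22_check
  have hc : Subgroup.center (Matrix.SpecialLinearGroup (Fin 2) F) = ⊥ := by
    apply Subgroup.eq_bot_of_card_eq
    rw [card_center_SL, Fintype.card_fin, hF]
    rfl
  exact ⟨((QuotientGroup.quotientBot (G := Matrix.SpecialLinearGroup (Fin 2) F)).symm.trans
    (QuotientGroup.quotientMulEquivOfEq hc.symm)).trans e⟩

end Cfsg.Agent.S0250
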