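import Cfsg.Statements.S4702
import Cfsg.Agent.Perm.SharplyThree
import Cfsg.Agent.SEmbed.ProjectiveLine
import Cfsg.Agent.CAGroups.Simple
import Cfsg.Agent.S0250
import Mathlib.GroupTheory.Perm.Cycle.Type

set_option autoImplicit false
open Cfsg

namespace Cfsg.Agent.S4702

/-- Let G be a triply transitive permutation group on a finite set of odd size m ≥ 3 in which only the identity fixes three or more points. Then m = 2^a + 1 for some a ≥ 1 and G is isomorphic to SL(2, 2^a). -/
theorem result {α : Type*} [Fintype α] [DecidableEq α] (hm : 3 ≤ Fintype.card α) (hodd : Odd (Fintype.card α)) (G : Subgroup (Equiv.Perm α)) (h3 : MulAction.IsMultiplyPretransitive G α 3) (hfix : ∀ g : G, 3 ≤ Nat.card (MulAction.fixedBy α g) → g = 1) : ∃ a : ℕ, 1 ≤ a ∧ Fintype.card α = 2 ^ a + 1 ∧ ∃ (F : Type) (_ : Field F) (_ : Fintype F), Fintype.card F = 2 ^ a ∧ Nonempty (G ≃* Matrix.SpecialLinearGroup (Fin 2) F) := by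
  classical
  haveI := h3
  set n := Nat.card α with hn
  have hnc : n = Fintype.card α := Nat.card_eq_fintype_card
  have hs : ∀ (g : G) (a b c : α), a ≠ b → a ≠ c → b ≠ c → g • a = a → g • b = b → g • c = c →
      g = 1 := by
    intro g a b c hab hac hbc ha hb hc
    refine hfix g ?_
    have h := Finset.card_le_card (s := ({a, b, c} : Finset α))
      (t := Finset.univ.filter fun x => g • x = x) (by
        intro x hx
        simp only [Finset.mem_insert, Finset.mem_singleton] at hx
        rcases hx with rfl | rfl | rfl <;> simp [ha, hb, hc])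
    rw [Finset.card_insert_of_notMem (by simp [hab, hac]), Finset.card_pair hbc,
      ← Fintype.card_subtype, ← Nat.card_eq_fintype_card] at h
    exact h
  have hn3 : 3 ≤ Nat.card α := by omega
  obtain ⟨a₀⟩ : Nonempty α := Fintype.card_pos_iff.1 (by omega)
  obtain ⟨hnt, h2, hs2⟩ := CfsgLib.Perm.SharplyThree.stabilizer_sharply_two h3 hs a₀ hn3
  haveI := hnt
  have hsub : ∀ a : α, Nat.card (SubMulAction.ofStabilizer G a) + 1 = Nat.card α := fun a => by
    show Nat.card ↥({a}ᶜ : Set α) + 1 = Nat.card α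
    rw [Nat.card_coe_set_eq, ← Set.ncard_add_ncard_compl {a}ᶜ (Set.toFinite _) (Set.toFinite _)]
    simp only [compl_compl, Set.ncard_singleton]
  obtain ⟨p, j, hp, hj, hq, hexp⟩ := CfsgLib.Perm.SharplyTwo.exists_prime_pow h2 hs2
  have hodd' : Odd (Nat.card α) := by rwa [Nat.card_eq_fintype_card]
  have hp2 : p = 2 := by
    have he : Even (p ^ j) := by
      rw [← hq]
      rcases Nat.even_or_odd (Nat.card (SubMulAction.ofStabilizer G a₀)) with h | h
      · exact h
      · exact absurd hodd' (Nat.not_odd_iff_even.2 (hsub a₀ ▸ h.add_odd odd_one))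
    exact (hp.even_iff).1 ((Nat.even_pow.1 he).1)
  subst hp2
  set K := (CfsgLib.Perm.SharplyTwo.kernel h2 hs2).map (MulAction.stabilizer G a₀).subtype with hK
  have hKcard : Nat.card K = 2 ^ j := by
    rw [hK, Nat.card_congr ((CfsgLib.Perm.SharplyTwo.kernel h2 hs2).equivMapOfInjective _
      (Subgroup.subtype_injective _)).toEquiv.symm, CfsgLib.Perm.SharplyTwo.card_kernel h2 hs2,
      hq]
  have hm : Fintype.card α = 2 ^ j + 1 := by
    rw [← Nat.card_eq_fintype_card, ← hsub a₀, hq]
  haveI : MulAction.IsPretransitive G α := by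
    haveI := MulAction.isMultiplyPretransitive_of_le (G := G) (α := α) (m := 2) (n := 3)
      (by norm_num) hn3
    exact MulAction.isPretransitive_of_is_two_pretransitive
  have hidx : ¬ 2 ∣ K.index := by
    have h1 := Subgroup.relIndex_mul_index (H := K) (K := MulAction.stabilizer G a₀)
      (Subgroup.map_subtype_le _)
    rw [MulAction.index_stabilizer_of_transitive] at h1
    have h2' : K.relIndex (MulAction.stabilizer G a₀) * Nat.card K =
        Nat.card (MulAction.stabilizer G a₀) := by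
      rw [← Subgroup.relIndex_bot_left, ← Subgroup.relIndex_bot_left, mul_comm]
      exact Subgroup.relIndex_mul_relIndex ⊥ K _ bot_le (Subgroup.map_subtype_le _)
    obtain ⟨b, hb⟩ := exists_ne (Classical.arbitrary (SubMulAction.ofStabilizer G a₀))
    rw [CfsgLib.Perm.SharplyTwo.card_group h2 hs2 b, hq, hKcard, mul_comm (2 ^ j)] at h2'
    have h3' : K.relIndex (MulAction.stabilizer G a₀) = 2 ^ j - 1 :=
      Nat.eq_of_mul_eq_mul_right (by positivity) h2'
    rw [← h1, h3', ← even_iff_two_dvd, Nat.not_even_iff_odd, Nat.odd_mul]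
    refine ⟨Nat.Even.sub_odd (Nat.one_le_two_pow) ((Nat.even_pow' (by omega)).2 even_two) odd_one,
      hodd'⟩
  have hKp : IsPGroup 2 K := IsPGroup.of_card hKcard
  set T : Sylow 2 G := hKp.toSylow hidx
  have hTK : (T : Subgroup G) = K := rfl
  rcases Nat.lt_or_ge j 2 with hj2 | hj2
  · -- degree three
    have hj1 : j = 1 := by omega
    subst hj1
    haveI : Fact (Nat.Prime 2) := ⟨Nat.prime_two⟩
    have hα : Fintype.card α = 3 := by rw [hm]; norm_num
    have hG : G = ⊤ := by
      refine eq_top_iff.2 fun σ _ => ?_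
      obtain ⟨a, b, c, hab, hac, hbc, huniv⟩ := Finset.card_eq_three.1
        (show (Finset.univ : Finset α).card = 3 from hα)
      obtain ⟨g, ga, gb, gc⟩ := CfsgLib.Perm.SharplyThree.exists_triple h3 hab hac hbc
        (σ.injective.ne hab) (σ.injective.ne hac) (σ.injective.ne hbc)
      have : (g : Equiv.Perm α) = σ := by
        ext x
        have hx : x ∈ ({a, b, c} : Finset α) := huniv ▸ Finset.mem_univ x
        simp only [Finset.mem_insert, Finset.mem_singleton] at hx
        rcases hx with rfl | rfl | rfl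
        exacts [ga, gb, gc]
      exact this ▸ g.2
    obtain ⟨e⟩ := Cfsg.Agent.S0250.result (F := ZMod 2) (ZMod.card 2)
    refine ⟨1, le_rfl, hm, ZMod 2, inferInstance, inferInstance, ZMod.card 2, ⟨?_⟩⟩
    exact ((MulEquiv.subgroupCongr hG).trans Subgroup.topEquiv).trans
      ((Equiv.permCongrHom (Fintype.equivFinOfCardEq hα)).trans e.symm)
  have hfixed : ∀ t : G, orderOf t = 2 → ∃ a : α, t • a = a ∧ ∀ b : α, t • b = b → b = a := by
    intro t ht
    haveI : Fact (Nat.Prime 2) := ⟨Nat.prime_two⟩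
    have ht2 : (t : Equiv.Perm α) ^ 2 ^ 1 = 1 := by
      rw [pow_one, ← SubmonoidClass.coe_pow, ← ht, pow_orderOf_eq_one]; rfl
    obtain ⟨a, ha⟩ := Equiv.Perm.exists_fixed_point_of_prime (p := 2)
      (fun hd => Nat.not_even_iff_odd.2 hodd (even_iff_two_dvd.2 hd)) ht2
    refine ⟨a, ha, fun b hb => ?_⟩
    by_contra hba
    have hc := CfsgLib.Perm.SharplyThree.card_pair_stabilizer h3 hs hba hn3
    have hd : orderOf t ∣ Nat.card ↥(MulAction.stabilizer G b ⊓ MulAction.stabilizer G a) := by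
      rw [← Subgroup.orderOf_mk (H := MulAction.stabilizer G b ⊓ MulAction.stabilizer G a) t
        ⟨hb, ha⟩]
      exact orderOf_dvd_natCard _
    rw [ht, ← even_iff_two_dvd] at hd
    exact Nat.not_even_iff_odd.2 hodd' (hc ▸ hd.add even_two)
  have hcent : ∀ t : G, orderOf t = 2 → IsMulCommutative (Subgroup.centralizer ({t} : Set G)) ∧
      ∀ c ∈ Subgroup.centralizer ({t} : Set G), c ^ 2 = 1 := by
    intro t ht
    obtain ⟨a, ha, huniq⟩ := hfixed t ht
    obtain ⟨hnt', h2', hs2'⟩ := CfsgLib.Perm.SharplyThree.stabilizer_sharply_two h3 hs a hn3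
    haveI := hnt'
    let t' : MulAction.stabilizer G a := ⟨t, ha⟩
    have htfree : ∀ x : SubMulAction.ofStabilizer G a, t' • x ≠ x := fun x hx =>
      x.2 (huniq x (congrArg Subtype.val hx))
    obtain ⟨q, i, hqp, -, -, hexp'⟩ := CfsgLib.Perm.SharplyTwo.exists_prime_pow h2' hs2'
    have hq2 : q = 2 := by
      have h1 : t' ^ q = 1 := hexp' t' (Or.inr htfree)
      have h4 : orderOf t ∣ q := orderOf_dvd_of_pow_eq_one (congrArg Subtype.val h1)
      rw [ht] at h4
      exact ((Nat.prime_dvd_prime_iff_eq Nat.prime_two hqp).1 h4).symm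
    subst hq2
    have hker : ∀ c ∈ Subgroup.centralizer ({t} : Set G), ∃ hc : c ∈ MulAction.stabilizer G a,
        (⟨c, hc⟩ : MulAction.stabilizer G a) ∈ CfsgLib.Perm.SharplyTwo.kernel h2' hs2' := by
      intro c hc
      rw [Subgroup.mem_centralizer_singleton_iff] at hc
      have hca : c • a = a := huniq _ (by rw [smul_smul, ← hc, mul_smul, ha])
      refine ⟨hca, ?_⟩
      exact CfsgLib.Perm.SharplyTwo.centralizer_subset h2' hs2' htfree (Subtype.ext hc)
    refine ⟨⟨⟨fun c d => ?_⟩⟩, fun c hc => ?_⟩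
    · obtain ⟨hc, hck⟩ := hker c c.2
      obtain ⟨hd, hdk⟩ := hker d d.2
      exact Subtype.ext (congrArg Subtype.val
        (CfsgLib.Perm.SharplyTwo.kernel_comm h2' hs2' hck hdk) :)
    · obtain ⟨hc, hck⟩ := hker c hc
      exact congrArg Subtype.val (hexp' _ hck)
  have hKexp : ∀ x ∈ K, x ^ 2 = 1 := by
    rintro _ ⟨k, hk, rfl⟩
    exact congrArg Subtype.val (hexp k hk)
  have h4 : 4 ≤ Nat.card K := by
    rw [hKcard]
    calc 4 = 2 ^ 2 := by norm_num
      _ ≤ 2 ^ j := Nat.pow_le_pow_right (by norm_num) hj2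
  have hnc' : ¬ IsCyclic (T : Subgroup G) := by
    intro hcy
    obtain ⟨g, hg⟩ := IsCyclic.exists_generator (α := (T : Subgroup G))
    have h1 := orderOf_eq_card_of_forall_mem_zpowers hg
    have h2 : orderOf g ∣ 2 := orderOf_dvd_of_pow_eq_one (Subtype.ext (hKexp g g.2))
    rw [h1] at h2
    have := Nat.le_of_dvd (by norm_num) h2
    rw [hTK] at this
    omega
  have hnn : ¬ (T : Subgroup G).Normal := by
    intro hN
    have hle : K = ⊥ := by
      refine (Subgroup.eq_bot_iff_forall _).2 fun x hx => ?_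
      have hxall : ∀ b : α, x • b = b := by
        intro b
        obtain ⟨g, rfl⟩ := MulAction.exists_smul_eq G a₀ b
        have h1 : g⁻¹ * x * g ∈ K := hTK ▸ hN.conj_mem' x (hTK ▸ hx) g
        obtain ⟨k, -, hk⟩ := h1
        have h2 : (g⁻¹ * x * g) • a₀ = a₀ := by rw [← hk]; exact k.2
        rwa [mul_smul, mul_smul, inv_smul_eq_iff] at h2
      exact Subtype.ext (Equiv.ext hxall)
    rw [hle, Subgroup.card_bot] at h4
    omega
  obtain ⟨F, fF, fFin, hF, ⟨e⟩⟩ := CfsgLib.SEmbed.exists_equiv_PSL2 (T := T) ⟨hnc', hnn, hcent⟩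
  rw [hTK, hKcard] at hF
  haveI : CharP F 2 := by
    obtain ⟨q, hq'⟩ := CharP.exists F
    obtain ⟨k, hqp, hk⟩ := FiniteField.card F q
    have h1 : q ∣ 2 ^ j := hF ▸ hk ▸ dvd_pow_self q k.ne_zero
    rw [← (Nat.prime_dvd_prime_iff_eq hqp Nat.prime_two).1 (hqp.dvd_of_dvd_pow h1)]
    exact hq'
  exact ⟨j, hj, hm, F, fF, fFin, hF, ⟨e.trans CfsgLib.CAGroups.sl2EquivPSL2.symm⟩⟩

end Cfsg.Agent.S4702
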