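import Cfsg.Statements.S4706
import Cfsg.Agent.PrimeDegreeTwoP.Main
import Cfsg.Agent.S4702

set_option autoImplicit false
open Cfsg

namespace Cfsg.Agent.S4706

/-- Let p > 2 be a prime and G a permutation group on p letters whose Sylow p-subgroup P has normalizer of order 2p. Then either P is normal in G, or p − 1 = 2^a for some a and G is isomorphic to SL(2, 2^a). -/
theorem result {α : Type*} [Fintype α] [DecidableEq α] {p : ℕ} [Fact p.Prime] (hp : 2 < p) (hα : Fintype.card α = p) (G : Subgroup (Equiv.Perm α)) (P : Sylow p G) (hN : Nat.card (Subgroup.normalizer ((P : Subgroup G) : Set G)) = 2 * p) : (P : Subgroup G).Normal ∨ ∃ (a : ℕ) (F : Type) (_ : Field F) (_ : Fintype F), p = 2 ^ a + 1 ∧ Fintype.card F = 2 ^ a ∧ Nonempty (G ≃* Matrix.SpecialLinearGroup (Fin 2) F) := by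
  classical
  refine or_iff_not_imp_left.2 fun hnn => ?_
  have hpp : p.Prime := Fact.out
  have hp3 : 3 < p := by
    by_contra h
    have hp' : p = 3 := by omega
    subst hp'
    have hle : Nat.card G ≤ 6 := by
      refine Nat.le_of_dvd (by norm_num) ?_
      have h1 := Subgroup.card_subgroup_dvd_card G
      rwa [Nat.card_perm, Nat.card_eq_fintype_card (α := α), hα] at h1
    have htop : Subgroup.normalizer ((P : Subgroup G) : Set G) = ⊤ :=
      Subgroup.eq_top_of_le_card _ (by rw [hN]; exact hle)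
    exact hnn (Subgroup.normalizer_eq_top_iff.1 htop)
  obtain ⟨h3, hfix⟩ := CfsgLib.PrimeDegreeTwoP.main hp3 hα G P hN hnn
  have hodd : Odd (Fintype.card α) := hα ▸ hpp.odd_of_ne_two (by omega)
  obtain ⟨a, -, ha, F, fF, fFin, hF, hiso⟩ :=
    Cfsg.Agent.S4702.result (by rw [hα]; omega) hodd G h3 hfix
  exact ⟨a, F, fF, fFin, hα ▸ ha, hF, hiso⟩

end Cfsg.Agent.S4706
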