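import Cfsg.Statements.S0106
import Cfsg.Agent.Transfer.Frobenius
import Mathlib.Data.Matrix.Reflection
import Mathlib.Tactic
import Mathlib.GroupTheory.SpecificGroups.Cyclic.Basic

set_option autoImplicit false
open Cfsg

namespace Cfsg.Agent.S0106

open Subgroup QuaternionGroup

abbrev SL23 := Matrix.SpecialLinearGroup (Fin 2) (ZMod 3)

abbrev T3 := Fin 4 × Fin 2 × Fin 3

def si : SL23 := ⟨!![0, 2; 1, 0], by decide +kernel⟩
def sj : SL23 := ⟨!![1, 1; 1, 2], by decide +kernel⟩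
def sx : SL23 := ⟨!![1, 1; 0, 1], by decide +kernel⟩

def W (t : T3) : SL23 := si ^ t.1.val * sj ^ t.2.1.val * sx ^ t.2.2.val

def ri : T3 → T3
  | (u, 0, 0) => (u + 1, 0, 0)
  | (u, 1, 0) => (u + 3, 1, 0)
  | (u, 0, 1) => (u, 1, 1)
  | (u, 1, 1) => (u + 2, 0, 1)
  | (u, 0, 2) => (u + 1, 1, 2)
  | (u, 1, 2) => (u + 1, 0, 2)

def rj : T3 → T3
  | (u, 0, 0) => (u, 1, 0)
  | (u, 1, 0) => (u + 2, 0, 0)
  | (u, 0, 1) => (u + 1, 1, 1)
  | (u, 1, 1) => (u + 1, 0, 1)
  | (u, 0, 2) => (u + 1, 0, 2)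
  | (u, 1, 2) => (u + 3, 1, 2)

def rx : T3 → T3
  | (u, b, c) => (u, b, c + 1)

theorem W_ri : ∀ t, W t * si = W (ri t) := by decide +kernel
theorem W_rj : ∀ t, W t * sj = W (rj t) := by decide +kernel
theorem W_rx : ∀ t, W t * sx = W (rx t) := by decide +kernel

theorem W_bijective : Function.Bijective W := by
  refine ⟨fun s t => (by decide +kernel : ∀ s t, W s = W t → s = t) s t, fun M => ?_⟩
  have h : ∀ a b c d : ZMod 3, a * d - b * c = 1 → ∃ t : T3, (W t).1 0 0 = a ∧ (W t).1 0 1 = b ∧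
      (W t).1 1 0 = c ∧ (W t).1 1 1 = d := by decide +kernel
  obtain ⟨t, h1, h2, h3, h4⟩ := h _ _ _ _ ((Matrix.det_fin_two M.1).symm.trans M.2)
  refine ⟨t, Subtype.ext ?_⟩
  ext r s
  fin_cases r <;> fin_cases s <;> assumption

section Model

variable {H : Type*} [Group H] (I J X : H)

def F (t : T3) : H := I ^ t.1.val * J ^ t.2.1.val * X ^ t.2.2.val

structure Rel : Prop where
  hI : I ^ 4 = 1
  hJ : J * J = I ^ 2
  hJI : J * I = I ^ 3 * J
  hXI : X * I = J * X
  hXJ : X * J = I * J * X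
  hX : X ^ 3 = 1

variable {I J X} (h : Rel I J X)
include h

theorem F_eq (a a' : Fin 4) (b : Fin 2) (c : Fin 3) (k : ℕ) (hk : a'.val = (a.val + k) % 4)
    (w : H) (hw : w = I ^ k * J ^ b.val * X ^ c.val) :
    I ^ a.val * w = F I J X (a', b, c) := by
  subst hw
  simp only [F, ← mul_assoc, ← pow_add]
  congr 2
  refine pow_eq_pow_iff_modEq.2 (Nat.ModEq.of_dvd (orderOf_dvd_of_pow_eq_one h.hI) ?_)
  simp [Nat.ModEq, hk]

theorem F_ri (t : T3) : F I J X t * I = F I J X (ri t) := by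
  obtain ⟨a, b, c⟩ := t
  have e : ∀ w, I ^ a.val * w * I = I ^ a.val * (w * I) := fun w => mul_assoc _ _ _
  show I ^ a.val * J ^ b.val * X ^ c.val * I = _
  rw [mul_assoc (I ^ a.val), e]
  fin_cases b <;> fin_cases c <;> simp only [ri, rj]
  · refine F_eq h _ _ _ _ 1 (by simp [Fin.val_add] <;> omega) _ ?_; simp
  · refine F_eq h _ _ _ _ 0 (by simp [Fin.val_add] <;> omega) _ ?_; simp [h.hXI]
  · refine F_eq h _ _ _ _ 1 (by simp [Fin.val_add] <;> omega) _ ?_
    simp only [Fin.val_zero, Fin.val_one, Fin.val_two, pow_zero, pow_one, pow_two, one_mul]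
    calc X * X * I = X * (J * X) := by rw [mul_assoc, h.hXI]
      _ = I * J * (X * X) := by rw [← mul_assoc, h.hXJ, mul_assoc]
      _ = _ := by group
  · refine F_eq h _ _ _ _ 3 (by simp [Fin.val_add] <;> omega) _ ?_; simp [h.hJI]
  · refine F_eq h _ _ _ _ 2 (by simp [Fin.val_add] <;> omega) _ ?_
    simp only [Fin.val_zero, Fin.val_one, pow_zero, pow_one, mul_one]
    rw [mul_assoc, h.hXI, ← mul_assoc, h.hJ]
  · refine F_eq h _ _ _ _ 1 (by simp [Fin.val_add] <;> omega) _ ?_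
    simp only [Fin.val_zero, Fin.val_one, Fin.val_two, pow_zero, pow_one, mul_one]
    have h5 : I ^ 3 * I ^ 2 = I := by rw [← pow_add, pow_succ, h.hI, one_mul]
    calc J * X ^ 2 * I = J * (X * (X * I)) := by rw [pow_two]; group
      _ = J * (X * J) * X := by rw [h.hXI]; group
      _ = (J * I) * J * (X * X) := by rw [h.hXJ]; group
      _ = I ^ 3 * (J * J) * (X * X) := by rw [h.hJI]; group
      _ = I * X ^ 2 := by rw [h.hJ, h5, pow_two]

theorem F_rj (t : T3) : F I J X t * J = F I J X (rj t) := by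
  obtain ⟨a, b, c⟩ := t
  have e : ∀ w, I ^ a.val * w * J = I ^ a.val * (w * J) := fun w => mul_assoc _ _ _
  have h5 : I ^ 3 * I ^ 2 = I := by rw [← pow_add, pow_succ, h.hI, one_mul]
  have hXXJ : X * X * J = I * (X * X) := by
    calc X * X * J = (X * I) * J * X := by rw [mul_assoc, h.hXJ]; group
      _ = J * (X * J) * X := by rw [h.hXI]; group
      _ = (J * I) * J * (X * X) := by rw [h.hXJ]; group
      _ = I ^ 3 * (J * J) * (X * X) := by rw [h.hJI]; group
      _ = I * (X * X) := by rw [h.hJ, h5]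
  show I ^ a.val * J ^ b.val * X ^ c.val * J = _
  rw [mul_assoc (I ^ a.val), e]
  fin_cases b <;> fin_cases c <;> simp only [ri, rj]
  · refine F_eq h _ _ _ _ 0 (by simp [Fin.val_add] <;> omega) _ ?_; simp
  · refine F_eq h _ _ _ _ 1 (by simp [Fin.val_add] <;> omega) _ ?_; simp [h.hXJ]
  · refine F_eq h _ _ _ _ 1 (by simp [Fin.val_add] <;> omega) _ ?_; simp [pow_two, hXXJ]
  · refine F_eq h _ _ _ _ 2 (by simp [Fin.val_add] <;> omega) _ ?_; simp [h.hJ]
  · refine F_eq h _ _ _ _ 1 (by simp [Fin.val_add] <;> omega) _ ?_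
    simp only [Fin.val_zero, Fin.val_one, pow_zero, pow_one, mul_one]
    calc J * X * J = (J * I) * J * X := by rw [mul_assoc, h.hXJ]; group
      _ = I ^ 3 * (J * J) * X := by rw [h.hJI]; group
      _ = I * X := by rw [h.hJ, h5]
  · refine F_eq h _ _ _ _ 3 (by simp [Fin.val_add] <;> omega) _ ?_
    simp only [Fin.val_one, Fin.val_two, pow_one]
    calc J * X ^ 2 * J = J * (X * X * J) := by rw [pow_two]; group
      _ = (J * I) * (X * X) := by rw [hXXJ]; group
      _ = I ^ 3 * J * X ^ 2 := by rw [h.hJI, pow_two]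

theorem F_rx (t : T3) : F I J X t * X = F I J X (rx t) := by
  obtain ⟨a, b, c⟩ := t
  show I ^ a.val * J ^ b.val * X ^ c.val * X = I ^ a.val * J ^ b.val * X ^ (c + 1).val
  rw [mul_assoc (I ^ a.val * J ^ b.val), ← pow_succ]
  congr 1
  refine pow_eq_pow_iff_modEq.2 (Nat.ModEq.of_dvd (orderOf_dvd_of_pow_eq_one h.hX) ?_)
  simp [Nat.ModEq, Fin.val_add]

theorem exists_hom : ∃ M : SL23 →* H, ∀ t, M (W t) = F I J X t := by
  let e := Equiv.ofBijective W W_bijective
  let M : SL23 → H := fun s => F I J X (e.symm s)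
  have hM : ∀ t, M (W t) = F I J X t := fun t => by
    show F I J X (e.symm (e t)) = _
    rw [Equiv.symm_apply_apply]
  have gen : ∀ (g : SL23) (y : H), (∀ t, ∃ t', W t * g = W t' ∧ F I J X t * y = F I J X t') →
      ∀ (k : ℕ) (s : SL23), M (s * g ^ k) = M s * y ^ k := by
    intro g y hg k
    induction k with
    | zero => simp
    | succ k ih =>
      intro s
      obtain ⟨t, ht⟩ := W_bijective.2 (s * g ^ k)
      obtain ⟨t', h1, h2⟩ := hg t
      rw [pow_succ, ← mul_assoc, ← ht, h1, hM, pow_succ, ← mul_assoc, ← ih, ← ht, hM, h2]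
  refine ⟨MonoidHom.mk' M fun s u => ?_, hM⟩
  obtain ⟨t, rfl⟩ := W_bijective.2 u
  rw [hM t, W, ← mul_assoc, ← mul_assoc,
    gen sx X (fun t => ⟨rx t, W_rx t, F_rx h t⟩),
    gen sj J (fun t => ⟨rj t, W_rj t, F_rj h t⟩),
    gen si I (fun t => ⟨ri t, W_ri t, F_ri h t⟩), F]
  group

end Model

section Local

variable {G : Type*} [Group G] [Finite G]

theorem conj_pow_iter {g q : G} {k : ℤ} (h : g * q * g⁻¹ = q ^ k) (r : ℕ) :
    g ^ r * q * (g ^ r)⁻¹ = q ^ (k ^ r) := by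
  induction r with
  | zero => simp
  | succ r ih =>
    calc g ^ (r + 1) * q * (g ^ (r + 1))⁻¹ = g * (g ^ r * q * (g ^ r)⁻¹) * g⁻¹ := by
          rw [pow_succ']; group
      _ = q ^ (k ^ (r + 1)) := by rw [ih, ← conj_zpow, h, ← zpow_mul, pow_succ']

theorem cyclic_fix {q g : G} {s : ℕ} (hq : orderOf q = 2 ^ s) (hg : Nat.Coprime (orderOf g) 2)
    (h : g * q * g⁻¹ ∈ zpowers q) : Commute g q := by
  obtain ⟨k, hk⟩ := mem_zpowers_iff.1 h
  have h1 := conj_pow_iter hk.symm (orderOf g)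
  rw [pow_orderOf_eq_one, one_mul, inv_one, mul_one] at h1
  have h2 : ((k : ZMod (2 ^ s))) ^ orderOf g = 1 := by
    have h3 : (orderOf q : ℤ) ∣ k ^ orderOf g - 1 := by
      rw [orderOf_dvd_iff_zpow_eq_one, zpow_sub, zpow_one, ← h1, mul_inv_cancel]
    rw [hq] at h3
    have h4 := (ZMod.intCast_zmod_eq_zero_iff_dvd _ (2 ^ s)).2 h3
    push_cast at h4
    exact sub_eq_zero.1 h4
  have hr : orderOf g ≠ 0 := (orderOf_pos g).ne'
  set u := Units.ofPowEqOne (k : ZMod (2 ^ s)) _ h2 hr with hu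
  have hu1 : orderOf u ∣ orderOf g := orderOf_dvd_of_pow_eq_one (Units.pow_ofPowEqOne h2 hr)
  have hcard : Nat.card (ZMod (2 ^ s))ˣ ∣ 2 ^ s := by
    rw [Nat.card_eq_fintype_card, ZMod.card_units_eq_totient]
    rcases Nat.eq_zero_or_pos s with rfl | hs
    · simp
    · rw [Nat.totient_prime_pow Nat.prime_two hs]
      simp [Nat.pow_dvd_pow]
  have hu0 : u = 1 := orderOf_eq_one_iff.1 (Nat.eq_one_of_dvd_coprimes
    (Nat.Coprime.pow_right s hg) hu1 ((orderOf_dvd_natCard u).trans hcard))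
  have hk1 : (k : ZMod (2 ^ s)) = 1 := by
    have := congrArg Units.val hu0
    simpa [hu] using this
  have : q ^ k = q := by
    have h3 : ((2 ^ s : ℕ) : ℤ) ∣ k - 1 := (ZMod.intCast_zmod_eq_zero_iff_dvd _ _).1 (by
      push_cast; rw [hk1, sub_self])
    rw [← hq, orderOf_dvd_iff_zpow_eq_one, zpow_sub, zpow_one, mul_inv_eq_one] at h3
    exact h3
  rw [this] at hk
  exact eq_mul_inv_iff_mul_eq.1 hk |>.symm

theorem shift_fix {c q g : G} {s : ℕ} {m : ℤ} (hc : orderOf c = 2 ^ s)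
    (hg : Nat.Coprime (orderOf g) 2) (hgc : Commute g c) (h : g * q * g⁻¹ = q * c ^ m) :
    Commute g q := by
  have h1 : ∀ r : ℕ, g ^ r * q * (g ^ r)⁻¹ = q * c ^ (m * r) := by
    intro r
    induction r with
    | zero => simp
    | succ r ih =>
      calc g ^ (r + 1) * q * (g ^ (r + 1))⁻¹ = g * (g ^ r * q * (g ^ r)⁻¹) * g⁻¹ := by
            rw [pow_succ']; group
        _ = (g * q * g⁻¹) * (g * c ^ (m * r) * g⁻¹) := by rw [ih]; group
        _ = q * c ^ (m * (r + 1 : ℕ)) := by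
            rw [h, (hgc.zpow_right _).eq, mul_inv_cancel_right, mul_assoc, ← zpow_add]
            push_cast
            ring_nf
  have h2 := h1 (orderOf g)
  rw [pow_orderOf_eq_one, one_mul, inv_one, mul_one, left_eq_mul, ← orderOf_dvd_iff_zpow_eq_one,
    hc] at h2
  have h3 : ((2 ^ s : ℕ) : ℤ) ∣ m :=
    (Nat.Coprime.pow_right s hg).symm.cast.dvd_of_dvd_mul_right h2
  rw [← hc, orderOf_dvd_iff_zpow_eq_one] at h3
  rw [h3, mul_one] at h
  exact mul_inv_eq_iff_eq_mul.1 h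

theorem commute_of_sq {q g : G} (hg : Nat.Coprime (orderOf g) 2) (h : Commute (g ^ 2) q) :
    Commute g q := by
  obtain ⟨k, hk⟩ := (Nat.coprime_two_right.1 hg)
  have hg' : g = (g ^ 2) ^ (k + 1) := by
    rw [← pow_mul, show 2 * (k + 1) = orderOf g + 1 by omega, pow_succ, pow_orderOf_eq_one,
      one_mul]
  rw [hg']
  exact h.pow_left _

theorem a_involution {m : ℕ} [NeZero m] {u : ZMod (2 * m)}
    (h : orderOf (a u : QuaternionGroup m) = 2) : a u = (a m : QuaternionGroup m) := by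
  rw [orderOf_a] at h
  congr 1
  have hlt := ZMod.val_lt u
  have hne : u.val ≠ 0 := by
    intro h0
    rw [h0, Nat.gcd_zero_right] at h
    have := Nat.div_self (show 0 < 2 * m from Nat.pos_of_ne_zero (by
      simp [NeZero.ne m]))
    omega
  have hd : m ∣ u.val := by
    have hg := Nat.gcd_dvd_left (2 * m) u.val
    obtain ⟨v, hv⟩ := hg
    have hpos : 0 < Nat.gcd (2 * m) u.val :=
      Nat.gcd_pos_of_pos_right _ (Nat.pos_of_ne_zero hne)
    rw [show 2 * m / Nat.gcd (2 * m) u.val = v by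
      conv_lhs => arg 1; rw [hv]
      exact Nat.mul_div_cancel_left v hpos] at h
    subst h
    have : Nat.gcd (2 * m) u.val = m := by omega
    have h9 := Nat.gcd_dvd_right (2 * m) u.val
    rwa [this] at h9
  obtain ⟨v, hv⟩ := hd
  have hv1 : v = 1 := by
    have h1 : m * v < m * 2 := by omega
    have h2 := Nat.lt_of_mul_lt_mul_left h1
    rcases Nat.eq_zero_or_pos v with rfl | h3 <;> omega
  rw [← ZMod.natCast_zmod_val u, hv, hv1, mul_one]

theorem generators (Q : Subgroup G) {m : ℕ} [NeZero m] (ψ : Q →* QuaternionGroup m)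
    (hψ : Function.Injective ψ) (hQ : IsPGroup 2 Q) {g : G} (hgN : g ∈ normalizer (Q : Set G))
    (hg : Nat.Coprime (orderOf g) 2) (hgC : g ∉ centralizer (Q : Set G)) :
    ∃ i j : G, i ∈ Q ∧ j ∈ Q ∧ orderOf i = 4 ∧ j * j = i ^ 2 ∧ j * i = i ^ 3 * j ∧
      g * i * g⁻¹ = j ∧ g * j * g⁻¹ = i * j ∧ j ∉ zpowers i ∧
      (∀ q ∈ Q, q ∈ closure {i, j}) := by
  haveI : Fact (Nat.Prime 2) := ⟨Nat.prime_two⟩
  have hconj : ∀ q ∈ Q, g * q * g⁻¹ ∈ Q := fun q hq => (mem_normalizer_iff.1 hgN q).1 hq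
  set C := zpowers (a 1 : QuaternionGroup m) with hC
  have haC : ∀ u, (a u : QuaternionGroup m) ∈ C := fun u =>
    ⟨(u.val : ℤ), by show (a 1 : QuaternionGroup m) ^ _ = _
                     rw [zpow_natCast, a_one_pow, ZMod.natCast_zmod_val]⟩
  haveI : IsCyclic (C.comap ψ) := isCyclic_of_injective
    ((ψ.comp (C.comap ψ).subtype).codRestrict C (fun x => x.2)) (fun x y h =>
      Subtype.ext (hψ (congrArg Subtype.val h)))
  obtain ⟨c₀, hc₀⟩ := IsCyclic.exists_generator (α := C.comap ψ)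
  set c : G := ((c₀ : Q) : G) with hc
  have hcQ : c ∈ Q := (c₀ : Q).2
  have hAc : ∀ (q : G) (hq : q ∈ Q) (u : ZMod (2 * m)), ψ ⟨q, hq⟩ = a u → q ∈ zpowers c := by
    intro q hq u hu
    obtain ⟨k, hk⟩ := mem_zpowers_iff.1
      (hc₀ ⟨⟨q, hq⟩, show ψ ⟨q, hq⟩ ∈ C by rw [hu]; exact haC u⟩)
    exact ⟨k, by simpa [hc] using congrArg (fun z : C.comap ψ => ((z : Q) : G)) hk⟩
  have hxord : ∀ (q : G) (hq : q ∈ Q) (u : ZMod (2 * m)), ψ ⟨q, hq⟩ = xa u → orderOf q = 4 := by
    intro q hq u hu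
    rw [← Subgroup.orderOf_mk q hq, ← orderOf_injective ψ hψ, hu, orderOf_xa]
  obtain ⟨uc, huc⟩ : ∃ u, ψ ⟨c, hcQ⟩ = a u := by
    obtain ⟨k, hk⟩ := mem_zpowers_iff.1 (show ψ ⟨c, hcQ⟩ ∈ C from c₀.2)
    rcases hh : ψ ⟨c, hcQ⟩ with u | u
    · exact ⟨u, rfl⟩
    · exfalso
      have hmod : ∀ j : ℕ, (a 1 : QuaternionGroup m) ^ j ≠ xa u := fun j => by
        rw [a_one_pow]; simp
      obtain ⟨j, hj⟩ := (isOfFinOrder_of_finite (a 1 : QuaternionGroup m)).mem_powers_iff_mem_zpowers.2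
        ⟨k, hk⟩
      exact hmod j (hj.trans hh)
  obtain ⟨s, hs⟩ := IsPGroup.iff_orderOf.1 hQ ⟨c, hcQ⟩
  rw [Subgroup.orderOf_mk] at hs
  -- some element outside the cyclic part
  obtain ⟨q₀, hq₀, v, hv⟩ : ∃ q, ∃ hq : q ∈ Q, ∃ v, ψ ⟨q, hq⟩ = xa v := by
    by_contra hno
    push Not at hno
    have hall : ∀ q ∈ Q, q ∈ zpowers c := fun q hq => by
      rcases hh : ψ ⟨q, hq⟩ with u | u
      · exact hAc q hq u hh
      · exact absurd hh (hno q hq u)
    refine hgC fun q hq => ?_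
    obtain ⟨k, rfl⟩ := mem_zpowers_iff.1 (hall q hq)
    exact (((cyclic_fix hs hg (hall _ (hconj c hcQ))).zpow_right k)).eq.symm
  have hq₀c : q₀ ∉ zpowers c := by
    intro h
    obtain ⟨k, hk⟩ := (isOfFinOrder_of_finite c).mem_powers_iff_mem_zpowers.2 h
    have : (⟨q₀, hq₀⟩ : Q) = ⟨c, hcQ⟩ ^ k := Subtype.ext (by simpa using hk.symm)
    rw [this, map_pow, huc] at hv
    have ha : ∀ j : ℕ, ∃ w, (a uc : QuaternionGroup m) ^ j = a w := by
      intro j
      induction j with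
      | zero => exact ⟨0, by simp [a_zero]⟩
      | succ j ih => obtain ⟨w, hw⟩ := ih; exact ⟨w + uc, by rw [pow_succ, hw, a_mul_a]⟩
    obtain ⟨w, hw⟩ := ha k
    rw [hw] at hv
    cases hv
  have hsplit : ∀ q ∈ Q, ∀ x ∈ Q, ∀ w, (∃ hx : x ∈ Q, ψ ⟨x, hx⟩ = xa w) →
      q ∈ zpowers c ∨ ∃ k : ℤ, q = c ^ k * x := by
    rintro q hq x hx w ⟨_, hw⟩
    rcases hh : ψ ⟨q, hq⟩ with u | u
    · exact Or.inl (hAc q hq u hh)
    · obtain ⟨k, hk⟩ := mem_zpowers_iff.1 (hAc (q * x⁻¹) (mul_mem hq (inv_mem hx))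
        ((m : ZMod (2 * m)) + (w + m) - u) (by
          rw [show (⟨q * x⁻¹, mul_mem hq (inv_mem hx)⟩ : Q) = ⟨q, hq⟩ * ⟨x, hx⟩⁻¹ from rfl,
            map_mul, map_inv, hh, hw]
          show xa u * xa ((m : ZMod (2 * m)) + w) = _
          rw [xa_mul_xa]
          congr 1
          ring))
      exact Or.inr ⟨k, by rw [hk]; group⟩
  -- once `c` is fixed, everything is
  have hfin : Commute g c → False := by
    intro hgc
    refine hgC fun q hq => ?_
    have h0 : Commute g q₀ := by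
      rcases hsplit _ (hconj q₀ hq₀) q₀ hq₀ v ⟨hq₀, hv⟩ with h | ⟨k, hk⟩
      · exfalso
        apply hq₀c
        obtain ⟨k, hk⟩ := mem_zpowers_iff.1 h
        refine ⟨k, ?_⟩
        show c ^ k = q₀
        calc c ^ k = g⁻¹ * (g * c ^ k) := by group
          _ = g⁻¹ * (c ^ k * g) := by rw [(hgc.zpow_right k).eq]
          _ = q₀ := by rw [hk]; group
      · have hmem : q₀⁻¹ * c ^ k * q₀ ∈ zpowers c := by
          have hyQ : q₀⁻¹ * c ^ k * q₀ ∈ Q := mul_mem (mul_mem (inv_mem hq₀) (zpow_mem hcQ k)) hq₀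
          rcases hh : ψ ⟨_, hyQ⟩ with u | u
          · exact hAc _ hyQ u hh
          · exfalso
            have hcomp : ψ ⟨_, hyQ⟩ = (xa v)⁻¹ * (a uc : QuaternionGroup m) ^ k * xa v := by
              rw [← huc, ← hv, ← map_zpow, ← map_inv, ← map_mul, ← map_mul]
              rfl
            obtain ⟨j, hj⟩ := (isOfFinOrder_of_finite (a uc : QuaternionGroup m)
              ).mem_powers_iff_mem_zpowers.2 ⟨k, rfl⟩
            have ha : ∀ j : ℕ, ∃ w, (a uc : QuaternionGroup m) ^ j = a w := by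
              intro j
              induction j with
              | zero => exact ⟨0, by simp [a_zero]⟩
              | succ j ih => obtain ⟨w, hw⟩ := ih; exact ⟨w + uc, by rw [pow_succ, hw, a_mul_a]⟩
            obtain ⟨w, hw⟩ := ha j
            have hj' : (a uc : QuaternionGroup m) ^ k = a w := hj.symm.trans hw
            rw [hh, hj', mul_assoc, eq_inv_mul_iff_mul_eq] at hcomp
            simp at hcomp
        obtain ⟨k', hk'⟩ := mem_zpowers_iff.1 hmem
        refine shift_fix hs hg hgc (m := k') ?_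
        rw [hk, hk']; group
    rcases hsplit q hq q₀ hq₀ v ⟨hq₀, hv⟩ with h | ⟨k, rfl⟩
    · obtain ⟨k, rfl⟩ := mem_zpowers_iff.1 h
      exact (hgc.zpow_right k).eq.symm
    · exact ((hgc.zpow_right k).mul_right h0).eq.symm
  -- the image of `c`
  have hj := hconj c hcQ
  obtain ⟨uj, huj⟩ : ∃ u, ψ ⟨g * c * g⁻¹, hj⟩ = xa u := by
    rcases hh : ψ ⟨g * c * g⁻¹, hj⟩ with u | u
    · exact (hfin (cyclic_fix hs hg (hAc _ hj u hh))).elim
    · exact ⟨u, rfl⟩
  set j := g * c * g⁻¹ with hjdef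
  have hci : orderOf c = 4 :=
    (MulEquiv.orderOf_eq (MulAut.conj g) c).symm.trans (hxord j hj uj huj)
  have hsq : ∀ (q : G) (hq : q ∈ Q) (w : ZMod (2 * m)), ψ ⟨q, hq⟩ = xa w → q * q = c ^ 2 := by
    intro q hq w hw
    have h1 : ψ (⟨q, hq⟩ * ⟨q, hq⟩) = ψ (⟨c, hcQ⟩ ^ 2) := by
      have hc2 : orderOf ((⟨c, hcQ⟩ : Q) ^ 2) = 2 := by
        rw [orderOf_pow, Subgroup.orderOf_mk, hci]; rfl
      rw [map_mul, hw, xa_mul_xa, add_sub_cancel_right]
      rw [← orderOf_injective ψ hψ, map_pow, huc, sq, a_mul_a] at hc2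
      rw [map_pow, huc, sq, a_mul_a, a_involution hc2]
    simpa using congrArg Subtype.val (hψ h1)
  have hinv : j * c = c⁻¹ * j := by
    have : ψ (⟨j, hj⟩ * ⟨c, hcQ⟩) = ψ (⟨c, hcQ⟩⁻¹ * ⟨j, hj⟩) := by
      rw [map_mul, map_mul, map_inv, huc, huj, xa_mul_a]
      show _ = a (-uc) * xa uj
      rw [a_mul_xa, sub_neg_eq_add]
    simpa using congrArg Subtype.val (hψ this)
  have hjc : j ∉ zpowers c := fun h => hfin (cyclic_fix hs hg h)
  have hc3 : c⁻¹ = c ^ 3 := inv_eq_of_mul_eq_one_right (by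
    rw [← pow_succ', show 3 + 1 = 4 from rfl, ← hci, pow_orderOf_eq_one])
  have hgen : ∀ q ∈ Q, q ∈ closure {c, j} := by
    intro q hq
    rcases hsplit q hq j hj uj ⟨hj, huj⟩ with h | ⟨k, rfl⟩
    · exact zpowers_le.2 (subset_closure (by simp)) h
    · exact mul_mem (zpow_mem (subset_closure (by simp)) k) (subset_closure (by simp))
  have hj2 : j * j = c ^ 2 := hsq j hj uj huj
  rcases hsplit _ (hconj j hj) j hj uj ⟨hj, huj⟩ with h | ⟨k, hk⟩
  · refine (hfin (commute_of_sq hg (cyclic_fix hs ?_ ?_))).elim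
    · exact Nat.Coprime.coprime_dvd_left (orderOf_pow_dvd 2) hg
    · have : g ^ 2 * c * (g ^ 2)⁻¹ = g * j * g⁻¹ := by rw [hjdef, sq]; group
      rw [this]; exact h
  · have hjj : g * j * g⁻¹ ∈ zpowers j → False := by
      intro h
      have hjo : orderOf j = 2 ^ 2 := hxord j hj uj huj
      have h1 : Commute g j := cyclic_fix hjo hg h
      have h2 : g * j * g⁻¹ = g * c * g⁻¹ := by rw [← hjdef, h1.eq, mul_inv_cancel_right]
      exact hjc ((mul_left_cancel (mul_right_cancel h2)) ▸ mem_zpowers c)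
    have hk4 : c ^ k = c ^ (k % 4) := by
      rw [← zpow_mod_orderOf, hci]; rfl
    have h0 := Int.emod_nonneg k (by norm_num : (4 : ℤ) ≠ 0)
    have h1 := Int.emod_lt_of_pos k (by norm_num : (0 : ℤ) < 4)
    rw [hk4] at hk
    interval_cases hh : k % 4
    · exact (hjj (by rw [hk, zpow_zero, one_mul]; exact mem_zpowers j)).elim
    · refine ⟨c, j, hcQ, hj, hci, hj2, ?_, rfl, by rw [hk, zpow_one], hjc, hgen⟩
      rw [hinv, hc3]
    · refine (hjj ?_).elim
      rw [hk]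
      show c ^ (2 : ℤ) * j ∈ _
      rw [zpow_ofNat, ← hj2, mul_assoc]
      exact mul_mem (mem_zpowers j) (mul_mem (mem_zpowers j) (mem_zpowers j))
    · have hk' : g * j * g⁻¹ = c⁻¹ * j := by
        rw [hk, hc3, zpow_ofNat]
      refine ⟨c⁻¹, j⁻¹, inv_mem hcQ, inv_mem hj, by rw [orderOf_inv, hci], ?_, ?_, ?_, ?_, ?_, ?_⟩
      · rw [← mul_inv_rev, hj2, inv_pow]
      · rw [inv_pow, ← hc3, inv_inv]
        have : c * j = j * c⁻¹ := by
          calc c * j = c * (j * c) * c⁻¹ := by group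
            _ = j * c⁻¹ := by rw [hinv]; group
        calc j⁻¹ * c⁻¹ = (c * j)⁻¹ := by group
          _ = (j * c⁻¹)⁻¹ := by rw [this]
          _ = c * j⁻¹ := by group
      · rw [hjdef]; group
      · calc g * j⁻¹ * g⁻¹ = (g * j * g⁻¹)⁻¹ := by group
          _ = (c⁻¹ * j)⁻¹ := by rw [hk']
          _ = (j * c)⁻¹ := by rw [hinv]
          _ = c⁻¹ * j⁻¹ := by group
      · rw [zpowers_inv]; exact fun h => hjc (by simpa using inv_mem h)
      · intro q hq
        refine (closure_le _).2 ?_ (hgen q hq)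
        rintro z (rfl | rfl)
        · simpa using inv_mem (subset_closure (show c⁻¹ ∈ ({c⁻¹, j⁻¹} : Set G) by simp))
        · simpa using inv_mem (subset_closure (show j⁻¹ ∈ ({c⁻¹, j⁻¹} : Set G) by simp))

theorem main (T : Sylow 2 G) (m : ℕ) [NeZero m]
    (e : (T : Subgroup G) ≃* QuaternionGroup m) (h : ¬ Cfsg.HasNormalPComplement 2 G) :
    ∃ (H K : Subgroup G) (hK : (K.subgroupOf H).Normal),
      Nonempty ((H ⧸ K.subgroupOf H) ≃* SL23) := by
  haveI : Fact (Nat.Prime 2) := ⟨Nat.prime_two⟩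
  obtain ⟨Q, hQT, g, hgN, hgp, hgC⟩ : ∃ Q : Subgroup G, Q ≤ (T : Subgroup G) ∧
      ∃ g ∈ normalizer (Q : Set G), Nat.Coprime (orderOf g) 2 ∧
        g ∉ centralizer (Q : Set G) := by
    by_contra hno
    push Not at hno
    exact h (CfsgLib.Transfer.hasNormalPComplement_of_local T hno)
  have hQ2 : IsPGroup 2 Q := T.isPGroup'.to_le hQT
  obtain ⟨i, j, hiQ, hjQ, hio, hjj, hji, hgi, hgj, hjzi, hgen⟩ :=
    generators Q (e.toMonoidHom.comp (inclusion hQT))
      (e.injective.comp (inclusion_injective hQT)) hQ2 hgN hgp hgC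
  have hg3i : Commute (g ^ 3) i := by
    have h1 : g * (i * j) * g⁻¹ = i := by
      calc g * (i * j) * g⁻¹ = (g * i * g⁻¹) * (g * j * g⁻¹) := by group
        _ = j * (i * j) := by rw [hgi, hgj]
        _ = i ^ 3 * (j * j) := by rw [← mul_assoc, hji, mul_assoc]
        _ = i ^ 4 * i := by rw [hjj]; group
        _ = i := by rw [← hio, pow_orderOf_eq_one, one_mul]
    refine mul_inv_eq_iff_eq_mul.1 ?_
    calc g ^ 3 * i * (g ^ 3)⁻¹ = g * (g * (g * i * g⁻¹) * g⁻¹) * g⁻¹ := by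
            rw [pow_succ, pow_two]; group
      _ = i := by rw [hgi, hgj, h1]
  have hg3j : Commute (g ^ 3) j := by
    rw [← hgi]
    have hg : Commute (g ^ 3) g := (Commute.refl g).pow_left 3
    exact (hg.mul_right hg3i).mul_right hg.inv_right
  set H := Q ⊔ zpowers g with hH
  set K := zpowers (g ^ 3) with hKdef
  have hcent : H ≤ centralizer (K : Set G) := by
    refine sup_le (fun q hq => ?_) (zpowers_le.2 ?_)
    · refine (closure_le _).2 ?_ (hgen q hq)
      rintro z (rfl | rfl) w hw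
      · obtain ⟨l, rfl⟩ := mem_zpowers_iff.1 hw; exact (hg3i.zpow_left l).eq
      · obtain ⟨l, rfl⟩ := mem_zpowers_iff.1 hw; exact (hg3j.zpow_left l).eq
    · intro w hw
      obtain ⟨l, rfl⟩ := mem_zpowers_iff.1 hw
      exact (((Commute.refl g).pow_left 3).zpow_left l).eq
  have hKn : (K.subgroupOf H).Normal := by
    refine ⟨fun x hx y => ?_⟩
    rw [mem_subgroupOf] at hx ⊢
    have := hcent y.2 (x : G) hx
    simp only [Subgroup.coe_mul, Subgroup.coe_inv]
    rwa [← this, mul_inv_cancel_right]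
  refine ⟨H, K, hKn, ?_⟩
  haveI := hKn
  let π := QuotientGroup.mk' (K.subgroupOf H)
  let I : H ⧸ K.subgroupOf H := π ⟨i, mem_sup_left hiQ⟩
  let J : H ⧸ K.subgroupOf H := π ⟨j, mem_sup_left hjQ⟩
  let X : H ⧸ K.subgroupOf H := π ⟨g, mem_sup_right (mem_zpowers g)⟩
  have hR : Rel I J X := by
    refine ⟨?_, ?_, ?_, ?_, ?_, ?_⟩
    · rw [← map_pow, ← map_one π]; congr 1; ext; simp [← hio, pow_orderOf_eq_one]
    · rw [← map_mul, ← map_pow]; congr 1; ext; simpa using hjj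
    · rw [← map_mul, ← map_pow, ← map_mul]; congr 1; ext; simpa using hji
    · rw [← map_mul, ← map_mul]; congr 1; ext; simp only [Subgroup.coe_mul]
      exact mul_inv_eq_iff_eq_mul.1 hgi
    · rw [← map_mul, ← map_mul, ← map_mul]; congr 1; ext; simp only [Subgroup.coe_mul]
      exact mul_inv_eq_iff_eq_mul.1 hgj
    · rw [← map_pow]
      exact (QuotientGroup.eq_one_iff _).2 (by rw [mem_subgroupOf]; exact mem_zpowers _)
  obtain ⟨M, hM⟩ := exists_hom hR
  refine ⟨(MulEquiv.ofBijective M ⟨?_, ?_⟩).symm⟩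
  · rw [← MonoidHom.ker_eq_bot_iff, eq_bot_iff]
    intro s hs
    obtain ⟨⟨a, b, c⟩, rfl⟩ := W_bijective.2 s
    rw [MonoidHom.mem_ker, hM, F, ← map_pow, ← map_pow, ← map_pow, ← map_mul, ← map_mul] at hs
    have hs' : i ^ a.val * j ^ b.val * g ^ c.val ∈ K := by
      simpa [mem_subgroupOf] using (QuotientGroup.eq_one_iff _).1 hs
    have hKg : K ≤ zpowers g := zpowers_le.2 (pow_mem (mem_zpowers g) 3)
    have hmem : i ^ a.val * j ^ b.val ∈ zpowers g := by
      have := mul_mem (hKg hs') (inv_mem (pow_mem (mem_zpowers g) c.val))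
      simpa using this
    have hone : i ^ a.val * j ^ b.val = 1 := by
      have hQmem : i ^ a.val * j ^ b.val ∈ Q := mul_mem (pow_mem hiQ _) (pow_mem hjQ _)
      obtain ⟨l, hl⟩ := IsPGroup.iff_orderOf.1 hQ2 ⟨_, hQmem⟩
      rw [Subgroup.orderOf_mk] at hl
      refine orderOf_eq_one_iff.1 (Nat.eq_one_of_dvd_coprimes (Nat.Coprime.pow_right l hgp) ?_
        hl.dvd)
      exact orderOf_dvd_of_mem_zpowers hmem
    rw [hone, one_mul] at hs'
    have hb : b = 0 := by
      by_contra hb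
      obtain rfl : b = 1 := by omega
      apply hjzi
      rw [Fin.val_one, pow_one] at hone
      rw [eq_inv_of_mul_eq_one_right hone]
      exact inv_mem (pow_mem (mem_zpowers i) _)
    subst hb
    rw [Fin.val_zero, pow_zero, mul_one] at hone
    have ha : a = 0 := by
      have := orderOf_dvd_of_pow_eq_one hone
      rw [hio] at this
      exact Fin.ext (Nat.eq_zero_of_dvd_of_lt this a.isLt)
    subst ha
    have hc : c = 0 := by
      by_contra hc
      have hcv : c.val = 1 ∨ c.val = 2 := by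
        have := c.isLt
        have : c.val ≠ 0 := fun h => hc (Fin.ext h)
        omega
      have hgK : g ∈ K := by
        rcases hcv with h1 | h1 <;> rw [h1] at hs'
        · simpa using hs'
        · have h2 := mul_mem (mem_zpowers (g ^ 3)) (inv_mem hs')
          have h3 : g ^ 3 * (g ^ 2)⁻¹ = g := by group
          rwa [h3] at h2
      obtain ⟨l, hl⟩ := mem_zpowers_iff.1 hgK
      have hcomm : Commute g i := by rw [← hl]; exact hg3i.zpow_left l
      apply hjzi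
      rw [← hgi, hcomm.eq, mul_inv_cancel_right]
      exact mem_zpowers i
    subst hc
    simp [W]
  · have hle : H ≤ (M.range.comap π).map H.subtype := by
      refine sup_le (fun q hq => (closure_le _).2 ?_ (hgen q hq)) (zpowers_le.2 ?_)
      · rintro z (rfl | rfl)
        · exact ⟨⟨z, mem_sup_left hiQ⟩, ⟨W (1, 0, 0), by rw [hM]; simp [F, I]⟩, rfl⟩
        · exact ⟨⟨z, mem_sup_left hjQ⟩, ⟨W (0, 1, 0), by rw [hM]; simp [F, J]⟩, rfl⟩
      · exact ⟨⟨g, mem_sup_right (mem_zpowers g)⟩, ⟨W (0, 0, 1), by rw [hM]; simp [F, X]⟩, rfl⟩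
    intro y
    obtain ⟨y, rfl⟩ := QuotientGroup.mk'_surjective _ y
    obtain ⟨y', hy', hyy⟩ := hle y.2
    obtain rfl : y' = y := Subtype.ext hyy
    exact hy'

end Local

/-- A finite group with generalized quaternion Sylow 2-subgroups either has a normal 2-complement or has a section isomorphic to SL(2,3). -/
theorem result {G : Type*} [Group G] [Finite G] (T : Sylow 2 G) (n : ℕ) (hn : 1 ≤ n) (hT : Nonempty ((T : Subgroup G) ≃* QuaternionGroup (2 ^ n))) : Cfsg.HasNormalPComplement 2 G ∨ ∃ (H K : Subgroup G) (hK : (K.subgroupOf H).Normal), Nonempty ((H ⧸ K.subgroupOf H) ≃* Matrix.SpecialLinearGroup (Fin 2) (ZMod 3)) := by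
  rcases Classical.em (Cfsg.HasNormalPComplement 2 G) with h | h
  · exact Or.inl h
  · obtain ⟨e⟩ := hT
    haveI : NeZero (2 ^ n) := ⟨by positivity⟩
    exact Or.inr (main T (2 ^ n) e h)

end Cfsg.Agent.S0106
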