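import Cfsg.Statements.S3374
-- import your own Cfsg.Agent.* helpers here

set_option autoImplicit false
open Cfsg
open scoped Pointwise

namespace Cfsg.Agent.S3374

/-- Image of the standard element of order 4. -/
def sImg : Matrix (Fin 2) (Fin 2) (ZMod 11) := !![0, 2; 5, 0]

/-- Image of the standard element of order 5. -/
def tImg : Matrix (Fin 2) (Fin 2) (ZMod 11) := !![1, 3; 4, 2]

/-- Powers of the image of the transvection. -/
def tPow (i : ZMod 5) : Matrix (Fin 2) (Fin 2) (ZMod 11) := tImg ^ i.val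

/-- Image of the diagonal element with entries `a, a⁻¹`. -/
def hImg (a : ZMod 5) : Matrix (Fin 2) (Fin 2) (ZMod 11) :=
  if a = 2 then !![10, 5; 4, 1] else if a = 3 then !![1, 6; 7, 10] else if a = 4 then !![10, 0; 0, 10] else 1

/-- The inverse in `ZMod 5`, as a polynomial. -/
def inv5 (a : ZMod 5) : ZMod 5 := a * a * a

/-- The embedding of `SL(2,5)` in `SL(2,11)`, by the Bruhat decomposition. -/
def emb (M : Matrix (Fin 2) (Fin 2) (ZMod 5)) : Matrix (Fin 2) (Fin 2) (ZMod 11) :=
  if M 1 0 = 0 then hImg (M 0 0) * tPow (inv5 (M 0 0) * M 0 1)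
  else tPow (M 0 0 * inv5 (M 1 0)) * sImg * hImg (M 1 0) * tPow (M 1 1 * inv5 (M 1 0))

/-- The standard element of order 4. -/
def sGen : Matrix (Fin 2) (Fin 2) (ZMod 5) := !![0, 4; 1, 0]

/-- The standard transvection. -/
def tGen : Matrix (Fin 2) (Fin 2) (ZMod 5) := !![1, 1; 0, 1]

/-- The diagonal elements as words in the two generators. -/
def hGen (a : ZMod 5) : Matrix (Fin 2) (Fin 2) (ZMod 5) :=
  if a = 2 then sGen * tGen * tGen * sGen * tGen * tGen * tGen * sGen * tGen * tGen
  else if a = 3 then tGen * tGen * sGen * tGen * tGen * tGen * sGen * tGen * tGen * sGen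
  else if a = 4 then sGen * sGen else 1

lemma emb_step : ∀ a b c d : ZMod 5, a * d - b * c = 1 →
    emb (sGen * !![a, b; c, d]) = emb sGen * emb !![a, b; c, d] ∧
      emb (tGen * !![a, b; c, d]) = emb tGen * emb !![a, b; c, d] := by
  decide +kernel

lemma emb_det : ∀ a b c d : ZMod 5, a * d - b * c = 1 → Matrix.det (emb !![a, b; c, d]) = 1 := by
  simp only [Matrix.det_fin_two]
  decide +kernel

lemma emb_fpf : ∀ a b c d : ZMod 5, a * d - b * c = 1 → ¬(a = 1 ∧ b = 0 ∧ c = 0 ∧ d = 1) →
    Matrix.det (emb !![a, b; c, d] - 1) ≠ 0 := by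
  simp only [Matrix.det_fin_two]
  decide +kernel

lemma decomp : ∀ a b c d : ZMod 5, a * d - b * c = 1 → !![a, b; c, d] =
    if c = 0 then hGen a * tGen ^ (inv5 a * b).val
    else tGen ^ (a * inv5 c).val * sGen * hGen c * tGen ^ (d * inv5 c).val := by
  decide +kernel

/-- A shorthand for the group. -/
abbrev SL5 := Matrix.SpecialLinearGroup (Fin 2) (ZMod 5)

lemma coe_eq (g : SL5) : (g : Matrix (Fin 2) (Fin 2) (ZMod 5)) = !![g.1 0 0, g.1 0 1; g.1 1 0, g.1 1 1] :=
  Matrix.eta_fin_two g.1

lemma det_eq (g : SL5) : g.1 0 0 * g.1 1 1 - g.1 0 1 * g.1 1 0 = 1 := by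
  rw [← Matrix.det_fin_two]; exact g.2

/-- The matrices acting multiplicatively under the embedding. -/
def good : Submonoid (Matrix (Fin 2) (Fin 2) (ZMod 5)) where
  carrier := {M | M.det = 1 ∧ ∀ g : SL5, emb (M * g.1) = emb M * emb g.1}
  one_mem' := ⟨Matrix.det_one, fun g => by rw [one_mul, show emb 1 = 1 by decide +kernel, one_mul]⟩
  mul_mem' := by
    rintro A B ⟨hA, hA'⟩ ⟨hB, hB'⟩
    refine ⟨by rw [Matrix.det_mul, hA, hB, one_mul], fun g => ?_⟩
    have h1 := hA' ⟨B * g.1, by rw [Matrix.det_mul, hB, g.2, one_mul]⟩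
    have h2 := hA' ⟨B, hB⟩
    simp only at h1 h2
    rw [mul_assoc, h1, hB', h2, mul_assoc]

lemma sGen_good : sGen ∈ good := ⟨by decide +kernel, fun g => by
  rw [coe_eq g]; exact (emb_step _ _ _ _ (det_eq g)).1⟩

lemma tGen_good : tGen ∈ good := ⟨by decide +kernel, fun g => by
  rw [coe_eq g]; exact (emb_step _ _ _ _ (det_eq g)).2⟩

lemma hGen_good (a : ZMod 5) : hGen a ∈ good := by
  unfold hGen
  split_ifs
  · exact (mul_mem (mul_mem (mul_mem (mul_mem (mul_mem (mul_mem (mul_mem (mul_mem (mul_mem sGen_good tGen_good) tGen_good) sGen_good) tGen_good) tGen_good) tGen_good) sGen_good) tGen_good) tGen_good)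
  · exact (mul_mem (mul_mem (mul_mem (mul_mem (mul_mem (mul_mem (mul_mem (mul_mem (mul_mem tGen_good tGen_good) sGen_good) tGen_good) tGen_good) tGen_good) sGen_good) tGen_good) tGen_good) sGen_good)
  · exact (mul_mem sGen_good sGen_good)
  · exact one_mem _

lemma all_good (g : SL5) : g.1 ∈ good := by
  rw [coe_eq g, decomp _ _ _ _ (det_eq g)]
  split
  · exact mul_mem (hGen_good _) (pow_mem tGen_good _)
  · exact mul_mem (mul_mem (mul_mem (pow_mem tGen_good _) sGen_good) (hGen_good _)) (pow_mem tGen_good _)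

/-- The plane over the field of 11 elements. -/
abbrev Plane := Multiplicative (Fin 2 → ZMod 11)

/-- The homomorphism into `SL(2,11)`. -/
def embHom : SL5 →* Matrix.SpecialLinearGroup (Fin 2) (ZMod 11) where
  toFun g := ⟨emb g.1, by rw [coe_eq g]; exact emb_det _ _ _ _ (det_eq g)⟩
  map_one' := Subtype.ext (show emb 1 = 1 by decide +kernel)
  map_mul' g h := Subtype.ext ((all_good g).2 h)

/-- The action of `SL(2,5)` on the plane. -/
def planeAut : SL5 →* MulAut Plane where
  toFun g := AddEquiv.toMultiplicative (Matrix.SpecialLinearGroup.toLin' (embHom g)).toAddEquiv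
  map_one' := by
    refine MulEquiv.ext fun v => ?_
    change Multiplicative.ofAdd ((Matrix.SpecialLinearGroup.toLin' (embHom 1)) (Multiplicative.toAdd v)) = v
    rw [map_one, map_one]
    rfl
  map_mul' g h := by
    refine MulEquiv.ext fun v => ?_
    change Multiplicative.ofAdd ((Matrix.SpecialLinearGroup.toLin' (embHom (g * h))) (Multiplicative.toAdd v)) = _
    rw [map_mul, map_mul]
    rfl

instance fact_prime_eleven : Fact (Nat.Prime 11) := ⟨by norm_num⟩

lemma planeAut_fpf (g : SL5) (v : Plane) (h : planeAut g v = v) : g = 1 ∨ v = 1 := by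
  by_cases hg : g = 1
  · exact Or.inl hg
  right
  have hd : Matrix.det (emb g.1 - 1) ≠ 0 := by
    rw [coe_eq g]
    refine emb_fpf _ _ _ _ (det_eq g) fun ⟨ha, hb, hc, hd⟩ => hg (Subtype.ext ?_)
    rw [coe_eq g, ha, hb, hc, hd]
    decide +kernel
  have h' : (emb g.1 - 1).mulVec (Multiplicative.toAdd v) = 0 := by
    rw [Matrix.sub_mulVec, Matrix.one_mulVec, sub_eq_zero]
    exact congrArg Multiplicative.toAdd h
  exact Multiplicative.toAdd.injective (Matrix.eq_zero_of_mulVec_eq_zero hd h')


/-- SL(2,5) occurs as a Frobenius complement: there is a finite group L with a subgroup H isomorphic to SL(2,5) which is a non-trivial proper subgroup meeting each conjugate gHg⁻¹ with g outside H trivially. -/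
theorem result :
    ∃ (L : Type) (_ : Group L) (_ : Finite L) (H : Subgroup L),
      Cfsg.IsFrobeniusComplement H ∧ Nonempty (H ≃* Matrix.SpecialLinearGroup (Fin 2) (ZMod 5)) := by
  let L := Plane ⋊[planeAut] SL5
  let H : Subgroup L := (SemidirectProduct.inr : SL5 →* L).range
  haveI : Finite L := Finite.of_equiv (Plane × SL5)
    { toFun := fun p => ⟨p.1, p.2⟩
      invFun := fun x => (x.left, x.right)
      left_inv := fun _ => rfl
      right_inv := fun _ => rfl }
  refine ⟨L, inferInstance, inferInstance, H, ⟨?_, ?_, ?_⟩,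
    ⟨(MonoidHom.ofInjective SemidirectProduct.inr_injective).symm⟩⟩
  · intro h
    have hS : (SemidirectProduct.inr ⟨sGen, by decide +kernel⟩ : L) ∈ H := ⟨_, rfl⟩
    rw [h, Subgroup.mem_bot] at hS
    have := congrArg (fun g : SL5 => g.1 0 0)
      ((SemidirectProduct.inr_injective (φ := planeAut)) (hS.trans (map_one _).symm))
    exact absurd this (by decide +kernel)
  · intro h
    have hv : (SemidirectProduct.inl (Multiplicative.ofAdd ![1, 0]) : L) ∈ H := h ▸ Subgroup.mem_top _
    obtain ⟨a, ha⟩ := hv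
    have := congrArg (fun x : L => Multiplicative.toAdd x.left 0) ha
    simp at this
  · intro g hg
    rw [Subgroup.eq_bot_iff_forall]
    rintro x ⟨⟨a, rfl⟩, hx⟩
    change (SemidirectProduct.inr a : L) ∈ MulAut.conj g • H at hx
    rw [Subgroup.mem_pointwise_smul_iff_inv_smul_mem, ← map_inv, MulAut.smul_def, MulAut.conj_apply] at hx
    obtain ⟨b, hb⟩ := hx
    have e : (SemidirectProduct.inr a : L) * g = g * SemidirectProduct.inr b := by rw [hb]; group
    have e1 : planeAut a g.left = g.left := by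
      have := congrArg SemidirectProduct.left e
      rw [SemidirectProduct.mul_left, SemidirectProduct.mul_left] at this
      simpa only [SemidirectProduct.left_inr, SemidirectProduct.right_inr, map_one, one_mul, mul_one] using this
    rcases planeAut_fpf a g.left e1 with h1 | h1
    · rw [h1, map_one]
    · exact absurd ⟨g.right, SemidirectProduct.ext (by simp [h1]) (by simp)⟩ hg

end Cfsg.Agent.S3374
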