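import Cfsg.Statements.S3378
import Cfsg.Agent.TwoThreeFive.Basic
import Cfsg.Agent.Characters.Burnside
import Cfsg.Agent.S3374
-- import your own Cfsg.Agent.* helpers here

set_option autoImplicit false
open Cfsg

namespace Cfsg.Agent.S3378

open CfsgLib.TwoThreeFive in
/-- Bound for a group generated by `x, y` with a central `z`, `x³ = y⁵ = z² = 1`, `(xy)² = z`. -/
lemma card_le_120 {G : Type*} [Group G] (x y z : G) (hx : x ^ 3 = 1) (hy : y ^ 5 = 1) (hz : z ^ 2 = 1)
    (hxz : x * z = z * x) (hyz : y * z = z * y) (hxy : (x * y) ^ 2 = z)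
    (hgen : Subgroup.closure {x, y} = ⊤) : Finite G ∧ Nat.card G ≤ 120 := by
  set Z := Subgroup.zpowers z with hZ
  have hzc : z ∈ Subgroup.center G := by
    rw [Subgroup.mem_center_iff]
    intro g
    have hle : Subgroup.closure {x, y} ≤ Subgroup.centralizer {z} := by
      rw [Subgroup.closure_le]
      rintro g (rfl | rfl) <;>
        simp only [SetLike.mem_coe, Subgroup.mem_centralizer_singleton_iff]
      · exact hxz
      · exact hyz
    exact Subgroup.mem_centralizer_singleton_iff.mp (hle (hgen ▸ Subgroup.mem_top g))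
  haveI hn : Z.Normal := by
    refine ⟨fun a ha g => ?_⟩
    obtain ⟨k, rfl⟩ := Subgroup.mem_zpowers_iff.mp ha
    have := Subgroup.mem_center_iff.mp (zpow_mem hzc k) g
    rw [this, mul_inv_cancel_right]
    exact Subgroup.zpow_mem _ (Subgroup.mem_zpowers z) k
  have h := finite_card_le (QuotientGroup.mk' Z x) (QuotientGroup.mk' Z y)
    (by rw [← map_pow, hx, map_one]) (by rw [← map_pow, hy, map_one])
    (by
      rw [← map_mul, ← map_pow, hxy]
      exact (QuotientGroup.eq_one_iff z).mpr (Subgroup.mem_zpowers z))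
    (by
      rw [← Set.image_pair, ← MonoidHom.map_closure, hgen]
      exact Subgroup.map_top_of_surjective _ (QuotientGroup.mk'_surjective Z))
  haveI := h.1
  have hzo : orderOf z ∣ 2 := orderOf_dvd_of_pow_eq_one hz
  have hZc : Nat.card Z = orderOf z := Nat.card_zpowers z
  have hpos : 0 < Nat.card Z := hZc ▸ Nat.pos_of_dvd_of_pos hzo (by norm_num)
  haveI : Finite Z := Nat.finite_of_card_ne_zero hpos.ne'
  refine ⟨Finite.of_equiv _ (Subgroup.groupEquivQuotientProdSubgroup (s := Z)).symm, ?_⟩
  rw [Subgroup.card_eq_card_quotient_mul_card_subgroup Z]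
  calc Nat.card (G ⧸ Z) * Nat.card Z ≤ 60 * 2 := Nat.mul_le_mul h.2 (hZc ▸ Nat.le_of_dvd (by norm_num) hzo)
    _ = 120 := rfl

/-- The relations of the presentation. -/
def rels : Set (FreeGroup (Fin 3)) :=
  {FreeGroup.of (0 : Fin 3) ^ 3, FreeGroup.of (1 : Fin 3) ^ 5, FreeGroup.of (2 : Fin 3) ^ 2,
    (FreeGroup.of (2 : Fin 3))⁻¹ * FreeGroup.of 0 * FreeGroup.of 2 * (FreeGroup.of (0 : Fin 3))⁻¹,
    (FreeGroup.of (2 : Fin 3))⁻¹ * FreeGroup.of 1 * FreeGroup.of 2 * (FreeGroup.of (1 : Fin 3))⁻¹,
    (FreeGroup.of (0 : Fin 3) * FreeGroup.of 1) ^ 2 * (FreeGroup.of (2 : Fin 3))⁻¹}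

lemma presented_bound : Finite (PresentedGroup rels) ∧ Nat.card (PresentedGroup rels) ≤ 120 := by
  let g : Fin 3 → PresentedGroup rels := PresentedGroup.of
  have r : ∀ w ∈ rels, PresentedGroup.mk rels w = 1 := fun w hw => PresentedGroup.one_of_mem hw
  have h0 : g 0 ^ 3 = 1 := r _ (Or.inl rfl)
  have h1 : g 1 ^ 5 = 1 := r _ (Or.inr (Or.inl rfl))
  have h2 : g 2 ^ 2 = 1 := r _ (Or.inr (Or.inr (Or.inl rfl)))
  have h3 : (g 2)⁻¹ * g 0 * g 2 * (g 0)⁻¹ = 1 := r _ (Or.inr (Or.inr (Or.inr (Or.inl rfl))))
  have h4 : (g 2)⁻¹ * g 1 * g 2 * (g 1)⁻¹ = 1 := r _ (Or.inr (Or.inr (Or.inr (Or.inr (Or.inl rfl)))))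
  have h5 : (g 0 * g 1) ^ 2 * (g 2)⁻¹ = 1 := r _ (Or.inr (Or.inr (Or.inr (Or.inr (Or.inr rfl)))))
  have hz : (g 0 * g 1) ^ 2 = g 2 := mul_inv_eq_one.mp h5
  refine card_le_120 (g 0) (g 1) (g 2) h0 h1 h2 ?_ ?_ hz ?_
  · rw [← inv_mul_eq_iff_eq_mul, ← mul_assoc]; exact mul_inv_eq_one.mp h3
  · rw [← inv_mul_eq_iff_eq_mul, ← mul_assoc]; exact mul_inv_eq_one.mp h4
  · rw [eq_top_iff, ← PresentedGroup.closure_range_of rels, Subgroup.closure_le]
    rintro _ ⟨i, rfl⟩
    change g i ∈ Subgroup.closure {g 0, g 1}
    fin_cases i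
    · exact Subgroup.subset_closure (Or.inl rfl)
    · exact Subgroup.subset_closure (Or.inr rfl)
    · change g 2 ∈ _
      rw [← hz]
      have ha : g 0 ∈ Subgroup.closure {g 0, g 1} := Subgroup.subset_closure (Or.inl rfl)
      have hb : g 1 ∈ Subgroup.closure {g 0, g 1} := Subgroup.subset_closure (Or.inr rfl)
      exact pow_mem (mul_mem ha hb) 2

/-- A shorthand. -/
abbrev SL5 := Matrix.SpecialLinearGroup (Fin 2) (ZMod 5)

/-- The image of `x`. -/
def xImg : SL5 := ⟨!![0, 4; 1, 4], by decide +kernel⟩

/-- The image of `y`. -/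
def yImg : SL5 := ⟨!![1, 1; 0, 1], by decide +kernel⟩

lemma card_SL5 : Nat.card SL5 = 120 := by
  rw [Nat.card_eq_fintype_card]
  decide +kernel

lemma closure_img : Subgroup.closure {xImg, yImg} = ⊤ := by
  rw [eq_top_iff]
  intro g _
  have hx : xImg ∈ Subgroup.closure {xImg, yImg} := Subgroup.subset_closure (Or.inl rfl)
  have hy : yImg ∈ Subgroup.closure {xImg, yImg} := Subgroup.subset_closure (Or.inr rfl)
  let N : Submonoid (Matrix (Fin 2) (Fin 2) (ZMod 5)) :=
    { carrier := {M | ∃ h ∈ Subgroup.closure {xImg, yImg}, (h : SL5).1 = M}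
      one_mem' := ⟨1, one_mem _, rfl⟩
      mul_mem' := by
        rintro _ _ ⟨a, ha, rfl⟩ ⟨b, hb, rfl⟩
        exact ⟨a * b, mul_mem ha hb, rfl⟩ }
  have hS : Cfsg.Agent.S3374.sGen ∈ N := ⟨xImg * yImg, mul_mem hx hy, by decide +kernel⟩
  have hT : Cfsg.Agent.S3374.tGen ∈ N := ⟨yImg, hy, rfl⟩
  have hh : ∀ a, Cfsg.Agent.S3374.hGen a ∈ N := by
    intro a
    have hw : ∀ l : List (Matrix (Fin 2) (Fin 2) (ZMod 5)),
        (∀ M ∈ l, M = Cfsg.Agent.S3374.sGen ∨ M = Cfsg.Agent.S3374.tGen) → l.prod ∈ N := fun l hl =>
      Submonoid.list_prod_mem N fun M hM => (hl M hM).elim (fun h => h ▸ hS) (fun h => h ▸ hT)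
    have hc : ∀ a : ZMod 5, ∃ w : List Bool, w ∈ ([[], [true, true],
        [true, false, false, true, false, false, false, true, false, false],
        [false, false, true, false, false, false, true, false, false, true]] : List (List Bool)) ∧
        Cfsg.Agent.S3374.hGen a = (w.map fun b => if b then Cfsg.Agent.S3374.sGen else Cfsg.Agent.S3374.tGen).prod := by
      decide +kernel
    obtain ⟨w, -, hw'⟩ := hc a
    rw [hw']
    refine hw _ fun M hM => ?_
    obtain ⟨b, -, rfl⟩ := List.mem_map.mp hM
    cases b <;> simp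
  obtain ⟨h, hh', he⟩ : g.1 ∈ N := by
    rw [Cfsg.Agent.S3374.coe_eq g, Cfsg.Agent.S3374.decomp _ _ _ _ (Cfsg.Agent.S3374.det_eq g)]
    split
    · exact mul_mem (hh _) (pow_mem hT _)
    · exact mul_mem (mul_mem (mul_mem (pow_mem hT _) hS) (hh _)) (pow_mem hT _)
  exact Subtype.ext he ▸ hh'

lemma img_rels : ∀ r ∈ rels, FreeGroup.lift ![xImg, yImg, (xImg * yImg) ^ 2] r = 1 := by
  intro r hr
  simp only [rels, Set.mem_insert_iff, Set.mem_singleton_iff] at hr
  rcases hr with rfl | rfl | rfl | rfl | rfl | rfl <;>
    simp only [map_pow, map_mul, map_inv, FreeGroup.lift_apply_of] <;>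
    decide +kernel

theorem presented_iso : Nonempty (PresentedGroup rels ≃* SL5) := by
  haveI := presented_bound.1
  let φ := PresentedGroup.toGroup img_rels
  have hsurj : Function.Surjective φ := by
    rw [← MonoidHom.range_eq_top, eq_top_iff, ← closure_img, Subgroup.closure_le]
    rintro g (rfl | rfl)
    · exact ⟨.of 0, PresentedGroup.toGroup.of img_rels⟩
    · exact ⟨.of 1, PresentedGroup.toGroup.of img_rels⟩
  exact ⟨MulEquiv.ofBijective φ ((Nat.bijective_iff_surjective_and_card φ).mpr
    ⟨hsurj, le_antisymm (card_SL5 ▸ presented_bound.2) (Nat.card_le_card_of_surjective φ hsurj)⟩)⟩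

lemma solvable_of_dvd {H : Type*} [Group H] [Finite H] (a b : ℕ) (h : Nat.card H ∣ 2 ^ a * 3 ^ b) :
    Group.IsSolvable H :=
  CfsgLib.Characters.isSolvable_of_card_eq_primePow_mul 2 3 a b (by norm_num) (by norm_num) h

lemma solvable_of_proper_dvd_sixty {H : Type*} [Group H] [Finite H] (h : Nat.card H ∣ 60)
    (hne : Nat.card H ≠ 60) : Group.IsSolvable H := by
  obtain ⟨d, hd⟩ := h
  have hle : Nat.card H ≤ 60 := Nat.le_of_dvd (by norm_num) ⟨d, hd⟩
  have hcases : Nat.card H ∣ 2 ^ 2 * 3 ∨ Nat.card H ∣ 2 ^ 2 * 5 ∨ Nat.card H = 15 ∨ Nat.card H = 30 := by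
    revert hd hne hle
    generalize Nat.card H = c
    intro hne hd hle
    have hc : c ∣ 60 := ⟨d, hd⟩
    interval_cases c <;> first | (norm_num at hne; done) | (norm_num at hc; done) | norm_num
  have hsq : Squarefree (Nat.card H) → Group.IsSolvable H := fun h => by
    haveI := IsZGroup.of_squarefree h
    infer_instance
  rcases hcases with h | h | h | h
  · exact solvable_of_dvd 2 1 (by simpa using h)
  · exact CfsgLib.Characters.isSolvable_of_card_eq_primePow_mul 2 5 2 1 (by norm_num) (by norm_num) (by simpa using h)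
  · exact hsq (by rw [h]; decide +kernel)
  · exact hsq (by rw [h]; decide +kernel)

lemma solvable_of_extension {H : Type*} [Group H] (N : Subgroup H) [N.Normal]
    (h1 : Group.IsSolvable N) (h2 : Group.IsSolvable (H ⧸ N)) : Group.IsSolvable H :=
  Group.isSolvable_of_ker_le_range N.subtype (QuotientGroup.mk' N)
    (by rw [QuotientGroup.ker_mk', Subgroup.range_subtype])

theorem alt5_of_card_sixty {H : Type*} [Group H] [Finite H] (hH : Nat.card H = 60)
    (hns : ¬ Group.IsSolvable H) : Nonempty (H ≃* alternatingGroup (Fin 5)) := by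
  classical
  have hsimple : ∀ N : Subgroup H, N.Normal → N = ⊥ ∨ N = ⊤ := by
    intro N hN
    by_contra hne
    push Not at hne
    have hm := N.card_mul_index
    rw [hH] at hm
    refine hns (solvable_of_extension N (solvable_of_proper_dvd_sixty (Dvd.intro _ hm) ?_)
      (solvable_of_proper_dvd_sixty ?_ ?_))
    · intro h
      exact hne.2 (Subgroup.eq_top_of_card_eq N (h.trans hH.symm))
    · rw [← Subgroup.index_eq_card]; exact Dvd.intro_left _ hm
    · rw [← Subgroup.index_eq_card]
      intro h
      rw [h] at hm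
      exact hne.1 (Subgroup.card_eq_one.mp (by omega))
  -- a homomorphism to a symmetric group of degree at most 4 is trivial
  have hsmall : ∀ A : Subgroup H, A ≠ ⊤ → 5 ≤ A.index := by
    intro A hA
    by_contra hlt
    have hpos : A.index ≠ 0 := Subgroup.index_ne_zero_of_finite
    let f := MulAction.toPermHom H (H ⧸ A)
    rcases hsimple f.ker inferInstance with h | h
    · have hinj : Function.Injective f := (MonoidHom.ker_eq_bot_iff f).mp h
      have := Nat.card_le_card_of_injective f hinj
      rw [hH, Nat.card_perm, ← Subgroup.index_eq_card] at this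
      have := this.trans (Nat.factorial_le (show A.index ≤ 4 by omega))
      simp [Nat.factorial] at this
    · apply hA
      rw [eq_top_iff]
      intro g _
      have hg : f g = 1 := by rw [← MonoidHom.mem_ker, h]; trivial
      have := congrArg (fun σ : Equiv.Perm (H ⧸ A) => σ ((1 : H) : H ⧸ A)) hg
      change ((g * 1 : H) : H ⧸ A) = ((1 : H) : H ⧸ A) at this
      rw [QuotientGroup.eq] at this
      simpa using this
  -- a subgroup of index five
  obtain ⟨A, hA⟩ : ∃ A : Subgroup H, A.index = 5 := by
    haveI : Fact (Nat.Prime 2) := ⟨Nat.prime_two⟩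
    obtain ⟨T⟩ := (inferInstance : Nonempty (Sylow 2 H))
    have hT : Nat.card T = 4 := by
      rw [T.card_eq_multiplicity, hH, show (60 : ℕ) = 2 ^ 2 * 15 from rfl,
        Nat.factorization_mul (by norm_num) (by norm_num), Finsupp.add_apply, Nat.Prime.factorization_pow Nat.prime_two,
        Nat.factorization_eq_zero_of_not_dvd (show ¬ 2 ∣ 15 by norm_num)]
      simp
    have hn := T.card_eq_index_normalizer
    set N := Subgroup.normalizer ((T : Subgroup H) : Set H)
    have hTN : (T : Subgroup H) ≤ N := Subgroup.le_normalizer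
    have hd : 4 ∣ Nat.card N := hT ▸ Subgroup.card_dvd_of_le hTN
    have hNm := N.card_mul_index
    rw [hH] at hNm
    by_cases hN5 : N.index = 5
    · exact ⟨N, hN5⟩
    by_contra hno
    push Not at hno
    have hNtop : N ≠ ⊤ := by
      intro h
      have hnorm : (T : Subgroup H).Normal := Subgroup.normalizer_eq_top_iff.mp h
      rcases hsimple _ hnorm with h' | h'
      · have h4 : Nat.card (T : Subgroup H) = 4 := hT
        rw [h', Subgroup.card_bot] at h4
        omega
      · have h4 : Nat.card (T : Subgroup H) = 4 := hT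
        rw [h', Subgroup.card_top, hH] at h4
        omega
    have h5 := hsmall N hNtop
    have hi15 : N.index = 15 := by
      obtain ⟨c, hc⟩ := hd
      rw [hc, mul_assoc] at hNm
      have hm15 : c * N.index = 15 := by omega
      have hle : N.index ≤ 15 := Nat.le_of_dvd (by norm_num) (Dvd.intro_left _ hm15)
      interval_cases hh : N.index <;> omega
    -- two Sylow 2-subgroups share an involution, else there are too many elements
    by_cases hshare : ∃ t : H, t ≠ 1 ∧ ∃ T₁ T₂ : Sylow 2 H, T₁ ≠ T₂ ∧ t ∈ (T₁ : Subgroup H) ∧ t ∈ (T₂ : Subgroup H)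
    · obtain ⟨t, ht, T₁, T₂, hne, h1, h2⟩ := hshare
      set C := Subgroup.centralizer ({t} : Set H) with hC
      have hab : ∀ T' : Sylow 2 H, t ∈ (T' : Subgroup H) → (T' : Subgroup H) ≤ C := by
        intro T' ht' a ha
        have h4 : Nat.card (T' : Subgroup H) = 2 ^ 2 := by
          rw [show Nat.card (T' : Subgroup H) = Nat.card (T : Subgroup H) from
            Nat.card_congr (T'.equiv T).toEquiv]
          exact hT
        letI := IsPGroup.commGroupOfCardEqPrimeSq h4
        rw [hC, Subgroup.mem_centralizer_singleton_iff]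
        exact congrArg Subtype.val (mul_comm (⟨a, ha⟩ : (T' : Subgroup H)) ⟨t, ht'⟩)
      have hCtop : C ≠ ⊤ := by
        intro h
        have hmem : t ∈ Subgroup.center H := by
          rw [Subgroup.mem_center_iff]
          intro g
          exact Subgroup.mem_centralizer_singleton_iff.mp (h ▸ Subgroup.mem_top g : g ∈ C)
        rcases hsimple _ (inferInstance : (Subgroup.center H).Normal) with h' | h'
        · rw [h'] at hmem; exact ht (by simpa using hmem)
        · apply hns
          exact Group.isSolvable_of_comm fun a b => (Subgroup.mem_center_iff.mp (h' ▸ Subgroup.mem_top a) b).symm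
      have h4C : 4 ∣ Nat.card C := by
        have := Subgroup.card_dvd_of_le (hab T₁ h1)
        rwa [show Nat.card (T₁ : Subgroup H) = Nat.card (T : Subgroup H) from
          Nat.card_congr (T₁.equiv T).toEquiv, show Nat.card (T : Subgroup H) = 4 from hT] at this
      have hgt : Nat.card C ≠ 4 := by
        intro h
        apply hne
        have e : ∀ T' : Sylow 2 H, t ∈ (T' : Subgroup H) → (T' : Subgroup H) = C := fun T' ht' =>
          Subgroup.eq_of_le_of_card_ge (hab T' ht') (by
            rw [h, show Nat.card (T' : Subgroup H) = Nat.card (T : Subgroup H) from Nat.card_congr (T'.equiv T).toEquiv]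
            exact hT.ge)
        exact Sylow.ext ((e T₁ h1).trans (e T₂ h2).symm)
      have hCm := C.card_mul_index
      rw [hH] at hCm
      have h5' := hsmall C hCtop
      obtain ⟨c, hc⟩ := h4C
      rw [hc, mul_assoc] at hCm
      have hm15 : c * C.index = 15 := by omega
      have hle : C.index ≤ 15 := Nat.le_of_dvd (by norm_num) (Dvd.intro_left _ hm15)
      have hne5 : C.index ≠ 5 := hno C
      interval_cases hh : C.index <;> omega
    · -- fifteen Klein groups meeting trivially
      push Not at hshare
      haveI : Fact (Nat.Prime 5) := ⟨by norm_num⟩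
      haveI := Fintype.ofFinite H
      let f : (Σ T' : Sylow 2 H, {a : (T' : Subgroup H) // a ≠ 1}) → H := fun p => (p.2.1 : H)
      have hf : Function.Injective f := by
        rintro ⟨T₁, ⟨a, ha⟩⟩ ⟨T₂, ⟨b, hb⟩⟩ h
        have h' : (a : H) = b := h
        by_cases hTT : T₁ = T₂
        · subst hTT
          obtain rfl : a = b := Subtype.ext h'
          rfl
        · exact absurd (h' ▸ b.2) (hshare a (fun e => ha (Subtype.ext e)) T₁ T₂ hTT a.2)
      -- the elements of order five are outside
      obtain ⟨T5⟩ := (inferInstance : Nonempty (Sylow 5 H))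
      have hlow : 45 ≤ Nat.card {a : H // a ^ 4 = 1 ∧ a ≠ 1} := by
        let g : (Σ T' : Sylow 2 H, {a : (T' : Subgroup H) // a ≠ 1}) → {a : H // a ^ 4 = 1 ∧ a ≠ 1} := fun p =>
          ⟨f p, by
            have h4 : Nat.card (p.1 : Subgroup H) = 4 := (Nat.card_congr (p.1.equiv T).toEquiv).trans hT
            have h := pow_card_eq_one' (x := p.2.1)
            rw [h4] at h
            exact congrArg Subtype.val h, fun e => p.2.2 (Subtype.ext e)⟩
        have := Nat.card_le_card_of_injective g (fun a b e => hf (congrArg Subtype.val e))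
        rw [Nat.card_sigma, Finset.sum_congr rfl (fun (T' : Sylow _ H) _ => show Nat.card {a : (T' : Subgroup H) // a ≠ 1} = 3 by
          haveI := Fintype.ofFinite (T' : Subgroup H)
          have h4 : Nat.card (T' : Subgroup H) = 4 := (Nat.card_congr (T'.equiv T).toEquiv).trans hT
          rw [Nat.card_eq_fintype_card] at h4
          simp only [Nat.card_eq_fintype_card, ne_eq, Fintype.card_subtype_compl, Fintype.card_subtype_eq, h4]),
          Finset.sum_const, Finset.card_univ, smul_eq_mul, ← Nat.card_eq_fintype_card (α := Sylow 2 H), show Nat.card (Sylow 2 H) = 15 from hn.trans hi15] at this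
        omega
      have h5 : Nat.card {a : H // a ^ 5 = 1 ∧ a ≠ 1} ≥ 21 := by
        have hn5 := T5.card_eq_index_normalizer
        have hP5 : Nat.card T5 = 5 := by
          rw [T5.card_eq_multiplicity, hH, show (60 : ℕ) = 5 ^ 1 * 12 from rfl,
            Nat.factorization_mul (by norm_num) (by norm_num), Finsupp.add_apply,
            Nat.Prime.factorization_pow (by norm_num : Nat.Prime 5),
            Nat.factorization_eq_zero_of_not_dvd (show ¬ 5 ∣ 12 by norm_num)]
          simp
        have hN5 : Subgroup.normalizer ((T5 : Subgroup H) : Set H) ≠ ⊤ := fun h => by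
          have h' : Nat.card (T5 : Subgroup H) = 5 := hP5
          rcases hsimple _ (Subgroup.normalizer_eq_top_iff.mp h) with e | e
          · rw [e, Subgroup.card_bot] at h'; omega
          · rw [e, Subgroup.card_top, hH] at h'; omega
        have hge : 5 ≤ Nat.card (Sylow 5 H) := (hsmall _ hN5).trans_eq hn5.symm
        have hmod := card_sylow_modEq_one 5 H
        rw [Nat.ModEq] at hmod
        let g : (Σ T' : Sylow 5 H, {a : (T' : Subgroup H) // a ≠ 1}) → {a : H // a ^ 5 = 1 ∧ a ≠ 1} := fun p =>
          ⟨(p.2.1 : H), by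
            have h4 : Nat.card (p.1 : Subgroup H) = 5 := (Nat.card_congr (p.1.equiv T5).toEquiv).trans hP5
            have h := pow_card_eq_one' (x := p.2.1)
            rw [h4] at h
            exact congrArg Subtype.val h, fun e => p.2.2 (Subtype.ext e)⟩
        have hgi : Function.Injective g := by
          rintro ⟨T₁, ⟨a, ha⟩⟩ ⟨T₂, ⟨b, hb⟩⟩ h
          have h' : (a : H) = b := congrArg Subtype.val h
          by_cases hTT : T₁ = T₂
          · subst hTT
            obtain rfl : a = b := Subtype.ext h'
            rfl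
          · exfalso
            apply hTT
            have hz : ∀ (T' : Sylow 5 H) (c : (T' : Subgroup H)), c ≠ 1 → (T' : Subgroup H) = Subgroup.zpowers (c : H) := by
              intro T' c hc
              refine (Subgroup.eq_of_le_of_card_ge (Subgroup.zpowers_le.mpr c.2) ?_).symm
              have h4 : Nat.card (T' : Subgroup H) = 5 := (Nat.card_congr (T'.equiv T5).toEquiv).trans hP5
              have := orderOf_dvd_natCard c
              rw [h4] at this
              rw [h4, Nat.card_zpowers, Subgroup.orderOf_coe,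
                ((Nat.dvd_prime (by norm_num)).mp this).resolve_left (fun e => hc (orderOf_eq_one_iff.mp e))]
            exact Sylow.ext (by rw [hz T₁ a ha, hz T₂ b hb, h'])
        have := Nat.card_le_card_of_injective g hgi
        rw [Nat.card_sigma, Finset.sum_congr rfl (fun (T' : Sylow _ H) _ => show Nat.card {a : (T' : Subgroup H) // a ≠ 1} = 4 by
          haveI := Fintype.ofFinite (T' : Subgroup H)
          have h4 : Nat.card (T' : Subgroup H) = 5 := (Nat.card_congr (T'.equiv T5).toEquiv).trans hP5
          rw [Nat.card_eq_fintype_card] at h4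
          simp only [Nat.card_eq_fintype_card, ne_eq, Fintype.card_subtype_compl, Fintype.card_subtype_eq, h4]),
          Finset.sum_const, Finset.card_univ, smul_eq_mul, ← Nat.card_eq_fintype_card (α := Sylow 5 H)] at this
        omega
      let g : {a : H // a ^ 4 = 1 ∧ a ≠ 1} ⊕ {a : H // a ^ 5 = 1 ∧ a ≠ 1} → H := Sum.elim Subtype.val Subtype.val
      have hg : Function.Injective g := by
        rintro (⟨a, ha, ha1⟩ | ⟨a, ha, ha1⟩) (⟨b, hb, hb1⟩ | ⟨b, hb, hb1⟩) h <;>
          simp only [g, Sum.elim_inl, Sum.elim_inr] at h <;> subst h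
        · rfl
        · exact absurd (by rw [pow_succ, ha, one_mul] at hb; exact hb) ha1
        · exact absurd (by rw [pow_succ, hb, one_mul] at ha; exact ha) ha1
        · rfl
      have := Nat.card_le_card_of_injective g hg
      rw [Nat.card_sum, hH] at this
      omega
  -- the action on five cosets
  let e : H ⧸ A ≃ Fin 5 := (Finite.equivFin _).trans (finCongr (hA ▸ (Subgroup.index_eq_card A).symm))
  let f : H →* Equiv.Perm (Fin 5) := (e.permCongrHom.toMonoidHom).comp (MulAction.toPermHom H (H ⧸ A))
  have hinj : Function.Injective f := by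
    rw [← MonoidHom.ker_eq_bot_iff]
    refine (hsimple _ inferInstance).resolve_right fun h => ?_
    have hAtop : A = ⊤ := by
      rw [eq_top_iff]
      intro g _
      have hg : MulAction.toPermHom H (H ⧸ A) g = 1 := by
        apply e.permCongrHom.injective
        rw [map_one]
        exact MonoidHom.mem_ker.mp (h ▸ Subgroup.mem_top g : g ∈ f.ker)
      have := congrArg (fun σ : Equiv.Perm (H ⧸ A) => σ ((1 : H) : H ⧸ A)) hg
      change ((g * 1 : H) : H ⧸ A) = ((1 : H) : H ⧸ A) at this
      rw [QuotientGroup.eq] at this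
      simpa using this
    rw [hAtop, Subgroup.index_top] at hA
    omega
  have hr : f.range.index = 2 := by
    have hm := f.range.card_mul_index
    rw [← Nat.card_congr (MonoidHom.ofInjective hinj).toEquiv, hH, Nat.card_perm, Nat.card_fin] at hm
    simp [Nat.factorial] at hm
    omega
  exact ⟨(MonoidHom.ofInjective hinj).trans (MulEquiv.subgroupCongr (Equiv.Perm.eq_alternatingGroup_of_index_eq_two hr))⟩

lemma quaternion_unique : ∀ a b : QuaternionGroup 2, a ≠ 1 → b ≠ 1 → a * a = 1 → b * b = 1 → a = b := by
  decide +kernel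

theorem first_part (G : Type*) [Group G] [Finite G] (hG : Nat.card G = 120) (hns : ¬ Group.IsSolvable G)
    (hQ : ∀ P : Sylow 2 G, Nonempty ((P : Subgroup G) ≃* QuaternionGroup 2)) :
    Nonempty (G ≃* SL5) := by
  classical
  haveI : Fact (Nat.Prime 5) := ⟨by norm_num⟩
  obtain ⟨T5⟩ := (inferInstance : Nonempty (Sylow 5 G))
  let φ := MulAction.toPermHom G (Sylow 5 G)
  have hP5 : Nat.card (T5 : Subgroup G) = 5 := by
    rw [show Nat.card (T5 : Subgroup G) = 5 ^ (Nat.card G).factorization 5 from T5.card_eq_multiplicity,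
      hG, show (120 : ℕ) = 5 ^ 1 * 24 from rfl,
      Nat.factorization_mul (by norm_num) (by norm_num), Finsupp.add_apply,
      Nat.Prime.factorization_pow (by norm_num : Nat.Prime 5),
      Nat.factorization_eq_zero_of_not_dvd (show ¬ 5 ∣ 24 by norm_num)]
    simp
  have hi5 : (T5 : Subgroup G).index = 24 := by
    have := (T5 : Subgroup G).card_mul_index
    rw [hP5, hG] at this
    omega
  set N := Subgroup.normalizer ((T5 : Subgroup G) : Set G) with hN
  have hn6 : N.index = 6 := by
    have hmod := card_sylow_modEq_one 5 G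
    have hd := T5.card_dvd_index
    rw [hi5] at hd
    rw [T5.card_eq_index_normalizer] at hmod hd
    change N.index % 5 = 1 % 5 at hmod
    change N.index ∣ 24 at hd
    have hle := Nat.le_of_dvd (by norm_num) hd
    by_cases h1 : N.index = 1
    · exfalso
      haveI : (T5 : Subgroup G).Normal := Subgroup.normalizer_eq_top_iff.mp (Subgroup.index_eq_one.mp h1)
      refine hns (solvable_of_extension (T5 : Subgroup G) ?_ (solvable_of_dvd 3 1 ?_))
      · exact solvable_of_proper_dvd_sixty (by rw [hP5]; norm_num) (by rw [hP5]; norm_num)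
      · rw [← Subgroup.index_eq_card, hi5]; norm_num
    interval_cases hh : N.index <;> omega
  have hNc : Nat.card N = 20 := by
    have := N.card_mul_index
    rw [hn6, hG] at this
    omega
  set K := φ.ker with hK
  have hKN : K ≤ N := by
    intro g hg
    have h1 : φ g = 1 := MonoidHom.mem_ker.mp hg
    have h2 : g • T5 = T5 := congrArg (fun σ : Equiv.Perm (Sylow 5 G) => σ T5) h1
    rw [hN]
    exact Sylow.smul_eq_iff_mem_normalizer.mp h2
  have hKd : Nat.card K ∣ 20 := hNc ▸ Subgroup.card_dvd_of_le hKN
  have hKs : Group.IsSolvable K :=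
    CfsgLib.Characters.isSolvable_of_card_eq_primePow_mul 2 5 2 1 (by norm_num) (by norm_num) (by simpa using hKd)
  have hKm := K.card_mul_index
  rw [hG] at hKm
  have hKne : K ≠ ⊥ := by
    intro hbot
    have hinj : Function.Injective φ := (MonoidHom.ker_eq_bot_iff φ).mp hbot
    have h6 : Nat.card (Sylow 5 G) = 6 := T5.card_eq_index_normalizer.trans hn6
    letI : Fintype (Sylow 5 G) := Fintype.ofFinite _
    let ε : G →* ℤˣ := Equiv.Perm.sign.comp φ
    have hεi : ε.ker.index ∣ 2 := by
      rw [Subgroup.index_ker]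
      have := Subgroup.card_subgroup_dvd_card ε.range
      rwa [Nat.card_eq_fintype_card (α := ℤˣ), Fintype.card_units_int] at this
    rcases (Nat.dvd_prime Nat.prime_two).mp hεi with h | h
    · -- G would be a subgroup of index three of a simple group
      have hle : φ.range ≤ alternatingGroup (Sylow 5 G) := by
        rintro _ ⟨g, rfl⟩
        exact Equiv.Perm.mem_alternatingGroup.mpr (MonoidHom.mem_ker.mp (Subgroup.index_eq_one.mp h ▸ Subgroup.mem_top g : g ∈ ε.ker))
      set B := φ.range.subgroupOf (alternatingGroup (Sylow 5 G)) with hB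
      haveI : Nontrivial (Sylow 5 G) := Finite.one_lt_card_iff_nontrivial.mp (by rw [h6]; norm_num)
      have hA6 : Nat.card (alternatingGroup (Sylow 5 G)) = 360 := by
        rw [nat_card_alternatingGroup, h6]; simp [Nat.factorial]
      have hBc : Nat.card B = 120 := by
        rw [hB, Nat.card_congr (Subgroup.subgroupOfEquivOfLe hle).toEquiv,
          ← Nat.card_congr (MonoidHom.ofInjective hinj).toEquiv, hG]
      have hBi : B.index = 3 := by
        have := B.card_mul_index
        rw [hBc, hA6] at this
        omega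
      haveI : IsSimpleGroup (alternatingGroup (Sylow 5 G)) := alternatingGroup.isSimpleGroup (by rw [h6]; norm_num)
      let ψ := MulAction.toPermHom (alternatingGroup (Sylow 5 G)) (alternatingGroup (Sylow 5 G) ⧸ B)
      rcases (inferInstance : ψ.ker.Normal).eq_bot_or_eq_top with hb | ht
      · have := Nat.card_le_card_of_injective ψ ((MonoidHom.ker_eq_bot_iff ψ).mp hb)
        rw [hA6, Nat.card_perm, ← Subgroup.index_eq_card, hBi] at this
        simp [Nat.factorial] at this
      · have hB' : B = ⊤ := by
          rw [eq_top_iff]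
          intro a _
          have := congrArg (fun σ : Equiv.Perm (alternatingGroup (Sylow 5 G) ⧸ B) => σ ((1 : alternatingGroup (Sylow 5 G)) : _ ⧸ B))
            (MonoidHom.mem_ker.mp (ht ▸ Subgroup.mem_top a : a ∈ ψ.ker))
          change ((a * 1 : alternatingGroup (Sylow 5 G)) : _ ⧸ B) = ((1 : alternatingGroup (Sylow 5 G)) : _ ⧸ B) at this
          rw [QuotientGroup.eq] at this
          simpa using this
        rw [hB', Subgroup.index_top] at hBi
        omega
    · -- the kernel of the sign has cyclic Sylow 2-subgroups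
      set M := ε.ker with hM
      have hMc : Nat.card M = 60 := by
        have := M.card_mul_index
        rw [h, hG] at this
        omega
      haveI : IsZGroup M := by
        refine ⟨fun p hp P => ?_⟩
        haveI := Fact.mk hp
        obtain ⟨n, hn⟩ := P.2.exists_card_eq
        have hd := (P : Subgroup M).card_subgroup_dvd_card
        rw [hn, hMc] at hd
        by_cases hp2 : p = 2
        · subst hp2
          obtain ⟨Q, hQle⟩ := (P.2.map M.subtype).exists_le_sylow
          obtain ⟨q⟩ := hQ Q
          let ι : (P : Subgroup M) →* QuaternionGroup 2 :=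
            q.toMonoidHom.comp ((M.subtype.comp (P : Subgroup M).subtype).codRestrict (Q : Subgroup G)
              fun a => hQle ⟨a.1, a.2, rfl⟩)
          have hι : Function.Injective ι := fun a b e => by
            have e' := congrArg Subtype.val (q.injective e)
            exact Subtype.ext (Subtype.ext e')
          have hn4 : n ≤ 2 := by
            by_contra h3
            have := (pow_dvd_pow 2 (by omega : 3 ≤ n)).trans hd
            norm_num at this
          haveI := Fintype.ofFinite (P : Subgroup M)
          by_contra hnc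
          -- otherwise every element squares to one
          have hsq : ∀ a : (P : Subgroup M), a * a = 1 := by
            intro a
            by_contra ha
            apply hnc
            obtain ⟨i, hi, he⟩ := (Nat.dvd_prime_pow Nat.prime_two).mp (hn ▸ orderOf_dvd_natCard a)
            have hi2 : i = n := by
              by_contra hin
              apply ha
              rw [← pow_two]
              exact orderOf_dvd_iff_pow_eq_one.mp (by
                rw [he]; exact (pow_dvd_pow 2 (by omega : i ≤ 1)).trans (by norm_num))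
            exact isCyclic_of_orderOf_eq_card a (by rw [he, hi2, hn])
          have hle2 : Nat.card (P : Subgroup M) ≤ Nat.card Bool := by
            refine Nat.card_le_card_of_injective (fun a : (P : Subgroup M) => decide (a = 1)) ?_
            intro a b hab
            simp only [decide_eq_decide] at hab
            by_cases h1 : a = 1
            · rw [h1, hab.mp h1]
            · apply hι
              refine quaternion_unique _ _ ?_ ?_ ?_ ?_
              · exact fun e => h1 (hι (e.trans (map_one ι).symm))
              · exact fun e => h1 (hab.mpr (hι (e.trans (map_one ι).symm)))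
              · rw [← map_mul, hsq, map_one]
              · rw [← map_mul, hsq, map_one]
          rw [Nat.card_eq_fintype_card (α := Bool), Fintype.card_bool, hn] at hle2
          have hn1 : n ≤ 1 := by
            by_contra h2
            have := Nat.pow_le_pow_right (show 2 > 0 by norm_num) (by omega : 2 ≤ n)
            omega
          apply hnc
          interval_cases n
          · haveI : Subsingleton (P : Subgroup M) := (Nat.card_eq_one_iff_unique.mp (by simpa using hn)).1
            infer_instance
          · exact isCyclic_of_prime_card (p := 2) (by simpa using hn)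
        · have hn1 : n ≤ 1 := by
            by_contra h2
            have h := (pow_dvd_pow p (by omega : 2 ≤ n)).trans hd
            have hle := Nat.le_of_dvd (by norm_num) h
            have : p ≤ 7 := by nlinarith
            interval_cases p <;> first | (norm_num at hp; done) | (norm_num at hp2; done) | (norm_num at h; done)
          interval_cases n
          · haveI : Subsingleton (P : Subgroup M) := (Nat.card_eq_one_iff_unique.mp (by simpa using hn)).1
            infer_instance
          · exact isCyclic_of_prime_card (p := p) (by simpa using hn)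
      refine hns (solvable_of_extension M inferInstance (solvable_of_dvd 1 0 ?_))
      rw [← Subgroup.index_eq_card, h]
      norm_num
  have hindex : K.index = 60 := by
    have h60 : Group.IsSolvable (G ⧸ K) → False := fun h => hns (solvable_of_extension K hKs h)
    have h6 : 6 ∣ K.index := hn6 ▸ Subgroup.index_dvd_of_le hKN
    have h2 : 2 ≤ Nat.card K := (Subgroup.one_lt_card_iff_ne_bot K).mpr hKne
    have hd : Nat.card (G ⧸ K) ∣ 60 → Nat.card (G ⧸ K) = 60 := fun h => by
      by_contra hne; exact h60 (solvable_of_proper_dvd_sixty h hne)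
    have hd' : K.index ∣ 24 → False := fun h => h60 (solvable_of_dvd 3 1 (by rw [← Subgroup.index_eq_card]; simpa using h))
    rw [← Subgroup.index_eq_card] at hd
    obtain ⟨c, hc⟩ := h6
    rw [hc, ← mul_assoc, mul_comm _ 6, mul_assoc] at hKm
    have hKc : Nat.card K * c = 20 := by omega
    have hle : c ≤ 10 := by nlinarith
    interval_cases c
    all_goals first
      | omega
      | (rcases (show K.index ∣ 24 ∨ K.index ∣ 60 by rw [hc]; norm_num) with h | h
         exacts [(hd' h).elim, hd h])
  have hK2 : Nat.card K = 2 := by rw [hindex] at hKm; omega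
  obtain ⟨q⟩ := alt5_of_card_sixty (H := G ⧸ K) (by rw [← Subgroup.index_eq_card, hindex])
    (fun h => hns (solvable_of_extension K hKs h))
  obtain ⟨z₀, hz₀, hz₁⟩ := (Nat.card_eq_two_iff' (1 : K)).mp hK2
  set z : G := (z₀ : G) with hz
  have hzz : z ^ 2 = 1 := by
    have := pow_card_eq_one' (x := z₀)
    rw [hK2] at this
    exact congrArg Subtype.val this
  have hzc : ∀ g : G, g * z = z * g := by
    intro g
    have h1 : g * z * g⁻¹ ∈ K := (inferInstance : K.Normal).conj_mem z z₀.2 g
    have h2 : (⟨g * z * g⁻¹, h1⟩ : K) = z₀ := hz₁ _ (fun e => hz₀ (Subtype.ext (conj_eq_one_iff.mp (congrArg Subtype.val e))))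
    exact mul_inv_eq_iff_eq_mul.mp (congrArg Subtype.val h2)
  have hzne : z ≠ 1 := fun e => hz₀ (Subtype.ext e)
  -- z is the only involution
  have hinv : ∀ t : G, t ≠ 1 → t * t = 1 → t = z := by
    intro t ht htt
    haveI : Fact (Nat.Prime 2) := ⟨Nat.prime_two⟩
    have htp : IsPGroup 2 (Subgroup.zpowers t ⊔ Subgroup.zpowers z : Subgroup G) := by
      have h2 : ∀ a : G, a ^ 2 = 1 → IsPGroup 2 (Subgroup.zpowers a) := fun a ha => by
        obtain ⟨i, -, hi⟩ := (Nat.dvd_prime_pow Nat.prime_two).mp
          (show orderOf a ∣ 2 ^ 1 by rw [pow_one]; exact orderOf_dvd_of_pow_eq_one ha)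
        exact IsPGroup.of_card (n := i) (by rw [Nat.card_zpowers, hi])
      have hzn : (Subgroup.zpowers z).Normal := by
        refine ⟨fun a ha g => ?_⟩
        obtain ⟨i, rfl⟩ := Subgroup.mem_zpowers_iff.mp ha
        have hcm : Commute g z := hzc g
        rw [(hcm.zpow_right i).eq, mul_inv_cancel_right]
        exact Subgroup.zpow_mem _ (Subgroup.mem_zpowers z) i
      haveI := hzn
      exact (h2 t (by rw [pow_two]; exact htt)).to_sup_of_normal_right (h2 z hzz)
    obtain ⟨T, hT⟩ := htp.exists_le_sylow
    obtain ⟨q⟩ := hQ T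
    have ha : t ∈ (T : Subgroup G) := hT (Subgroup.mem_sup_left (Subgroup.mem_zpowers t))
    have hb : z ∈ (T : Subgroup G) := hT (Subgroup.mem_sup_right (Subgroup.mem_zpowers z))
    have := quaternion_unique (q ⟨t, ha⟩) (q ⟨z, hb⟩)
      (fun e => ht (congrArg Subtype.val (q.injective (e.trans (map_one q).symm))))
      (fun e => hzne (congrArg Subtype.val (q.injective (e.trans (map_one q).symm))))
      (by rw [← map_mul]; exact (congrArg q (Subtype.ext htt : (⟨t, ha⟩ * ⟨t, ha⟩ : (T : Subgroup G)) = 1)).trans (map_one q))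
      (by
        rw [← map_mul]
        exact (congrArg q (Subtype.ext (by rw [← pow_two] ; exact hzz) : (⟨z, hb⟩ * ⟨z, hb⟩ : (T : Subgroup G)) = 1)).trans (map_one q))
    exact congrArg Subtype.val (q.injective this)
  -- lifts of the generators
  obtain ⟨x₀, hx₀⟩ := QuotientGroup.mk'_surjective K (q.symm CfsgLib.TwoThreeFive.xAlt)
  obtain ⟨y₀, hy₀⟩ := QuotientGroup.mk'_surjective K (q.symm CfsgLib.TwoThreeFive.yAlt)
  have hmem : ∀ g : G, QuotientGroup.mk' K g = 1 → g = 1 ∨ g = z := by
    intro g hg
    have hg' : g ∈ K := (QuotientGroup.eq_one_iff g).mp hg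
    by_cases h1 : g = 1
    · exact Or.inl h1
    · exact Or.inr (congrArg Subtype.val (hz₁ ⟨g, hg'⟩ (fun e => h1 (congrArg Subtype.val e))))
  have hsq : ∀ g : G, QuotientGroup.mk' K g = 1 → g ^ 2 = 1 := fun g hg => by
    rcases hmem g hg with h | h
    · rw [h, one_pow]
    · rw [h, hzz]
  set x := x₀ ^ 4 with hx
  set y := y₀ ^ 6 with hy
  have hxi : QuotientGroup.mk' K x = q.symm CfsgLib.TwoThreeFive.xAlt := by
    rw [hx, map_pow, hx₀, ← map_pow]
    exact congrArg q.symm (by decide +kernel)
  have hyi : QuotientGroup.mk' K y = q.symm CfsgLib.TwoThreeFive.yAlt := by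
    rw [hy, map_pow, hy₀, ← map_pow]
    exact congrArg q.symm (by decide +kernel)
  have h3 : x ^ 3 = 1 := by
    have h := hsq (x₀ ^ 3) (by rw [map_pow, hx₀, ← map_pow, ← map_one q.symm]; exact congrArg q.symm (by decide +kernel))
    rw [hx, ← pow_mul, show 4 * 3 = 3 * 2 * 2 from rfl, pow_mul, pow_mul, h, one_pow]
  have h5 : y ^ 5 = 1 := by
    have h := hsq (y₀ ^ 5) (by rw [map_pow, hy₀, ← map_pow, ← map_one q.symm]; exact congrArg q.symm (by decide +kernel))
    rw [hy, ← pow_mul, show 6 * 5 = 5 * 2 * 3 from rfl, pow_mul, pow_mul, h, one_pow]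
  have hxy1 : QuotientGroup.mk' K (x * y) ≠ 1 := by
    rw [map_mul, hxi, hyi, ← map_mul]
    intro h
    have : CfsgLib.TwoThreeFive.xAlt * CfsgLib.TwoThreeFive.yAlt = 1 := q.symm.injective (h.trans (map_one _).symm)
    exact absurd this (by decide +kernel)
  have hxy : (x * y) ^ 2 = z := by
    rcases hmem ((x * y) ^ 2) (by
      rw [map_pow, map_mul, hxi, hyi, ← map_mul, ← map_pow, ← map_one q.symm]
      exact congrArg q.symm (by decide +kernel)) with h | h
    · exfalso
      by_cases h1 : x * y = 1
      · exact hxy1 (by rw [h1, map_one])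
      · have h2 := hinv _ h1 (by rw [← pow_two]; exact h)
        exact hxy1 (by rw [h2]; exact (QuotientGroup.eq_one_iff z).mpr z₀.2)
    · exact h
  have hrel : ∀ r ∈ rels, FreeGroup.lift ![x, y, z] r = 1 := by
    intro r hr
    simp only [rels, Set.mem_insert_iff, Set.mem_singleton_iff] at hr
    rcases hr with rfl | rfl | rfl | rfl | rfl | rfl <;>
      simp only [map_pow, map_mul, map_inv, FreeGroup.lift_apply_of, Matrix.cons_val_zero, Matrix.cons_val_one,
        Matrix.cons_val]
    · exact h3
    · exact h5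
    · exact hzz
    · rw [mul_assoc z⁻¹, hzc x, inv_mul_cancel_left, mul_inv_cancel]
    · rw [mul_assoc z⁻¹, hzc y, inv_mul_cancel_left, mul_inv_cancel]
    · rw [hxy, mul_inv_cancel]
  let π := PresentedGroup.toGroup hrel
  have hsurj : Function.Surjective π := by
    have hxr : x ∈ π.range := ⟨.of 0, PresentedGroup.toGroup.of hrel⟩
    have hyr : y ∈ π.range := ⟨.of 1, PresentedGroup.toGroup.of hrel⟩
    have hzr : z ∈ π.range := hxy ▸ pow_mem (mul_mem hxr hyr) 2
    -- the range maps onto the quotient
    have hgen : Subgroup.closure {CfsgLib.TwoThreeFive.xAlt, CfsgLib.TwoThreeFive.yAlt} = ⊤ := by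
      obtain ⟨e'⟩ := CfsgLib.TwoThreeFive.presented_equiv
      set A := Subgroup.closure {CfsgLib.TwoThreeFive.xAlt, CfsgLib.TwoThreeFive.yAlt}
      have h60 : Nat.card (alternatingGroup (Fin 5)) = 60 := by
        rw [nat_card_alternatingGroup]; simp [Nat.factorial]
      have hxA : CfsgLib.TwoThreeFive.xAlt ∈ A := Subgroup.subset_closure (Or.inl rfl)
      have hyA : CfsgLib.TwoThreeFive.yAlt ∈ A := Subgroup.subset_closure (Or.inr rfl)
      haveI : Fact (Nat.Prime 3) := ⟨Nat.prime_three⟩
      haveI : Fact (Nat.Prime 2) := ⟨Nat.prime_two⟩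
      have d3 : 3 ∣ Nat.card A := (dvd_of_eq (orderOf_eq_prime (p := 3) (by decide +kernel) (by decide +kernel)).symm).trans
        (Subgroup.orderOf_dvd_natCard A hxA)
      have d5 : 5 ∣ Nat.card A := (dvd_of_eq (orderOf_eq_prime (p := 5) (by decide +kernel) (by decide +kernel)).symm).trans
        (Subgroup.orderOf_dvd_natCard A hyA)
      have d2 : 2 ∣ Nat.card A := (dvd_of_eq (orderOf_eq_prime (p := 2) (by decide +kernel) (by decide +kernel)).symm).trans
        (Subgroup.orderOf_dvd_natCard A (mul_mem hxA hyA))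
      have hm := A.card_mul_index
      rw [h60] at hm
      obtain ⟨c, hc⟩ : 30 ∣ Nat.card A := by omega
      rw [hc, mul_assoc] at hm
      have hi : A.index ∣ 2 := ⟨c, by rw [mul_comm]; omega⟩
      rcases (Nat.dvd_prime Nat.prime_two).mp hi with h | h
      · exact Subgroup.index_eq_one.mp h
      · rcases (Subgroup.normal_of_index_eq_two h).eq_bot_or_eq_top with hb | ht
        · rw [hb, Subgroup.index_bot, h60] at h; omega
        · exact ht
    have hmap : π.range.map (QuotientGroup.mk' K) = ⊤ := by
      rw [eq_top_iff, ← Subgroup.map_top_of_surjective q.symm.toMonoidHom q.symm.surjective, ← hgen,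
        MonoidHom.map_closure, Subgroup.closure_le, Set.image_pair]
      rintro g (rfl | rfl)
      · exact ⟨x, hxr, hxi⟩
      · exact ⟨y, hyr, hyi⟩
    intro g
    obtain ⟨a, ha, he⟩ := (hmap ▸ Subgroup.mem_top (QuotientGroup.mk' K g) : QuotientGroup.mk' K g ∈ π.range.map (QuotientGroup.mk' K))
    have hg : g ∈ π.range := by
      rcases hmem (a⁻¹ * g) (by rw [map_mul, map_inv, he, inv_mul_cancel]) with h | h
      · rw [← inv_mul_eq_one.mp h]; exact ha
      · rw [inv_mul_eq_iff_eq_mul.mp h]; exact mul_mem ha hzr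
    exact hg
  haveI := presented_bound.1
  have e1 : PresentedGroup rels ≃* G := MulEquiv.ofBijective π ((Nat.bijective_iff_surjective_and_card π).mpr
    ⟨hsurj, le_antisymm (hG ▸ presented_bound.2) (Nat.card_le_card_of_surjective π hsurj)⟩)
  obtain ⟨e2⟩ := presented_iso
  exact ⟨e1.symm.trans e2⟩


/-- Every non-solvable group of order 120 whose Sylow 2-subgroups are quaternion of order 8 is isomorphic to SL(2,5), and SL(2,5) has the presentation ⟨x, y, z | x³ = y⁵ = z² = 1, z⁻¹xz = x, z⁻¹yz = y, (xy)² = z⟩. -/
theorem result :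
    (∀ (G : Type*) [Group G] [Finite G], Nat.card G = 120 → ¬ Group.IsSolvable G →
      (∀ P : Sylow 2 G, Nonempty ((P : Subgroup G) ≃* QuaternionGroup 2)) →
      Nonempty (G ≃* Matrix.SpecialLinearGroup (Fin 2) (ZMod 5))) ∧
    Nonempty (PresentedGroup ({FreeGroup.of (0 : Fin 3) ^ 3, FreeGroup.of (1 : Fin 3) ^ 5, FreeGroup.of (2 : Fin 3) ^ 2,
        (FreeGroup.of (2 : Fin 3))⁻¹ * FreeGroup.of 0 * FreeGroup.of 2 * (FreeGroup.of (0 : Fin 3))⁻¹,
        (FreeGroup.of (2 : Fin 3))⁻¹ * FreeGroup.of 1 * FreeGroup.of 2 * (FreeGroup.of (1 : Fin 3))⁻¹,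
        (FreeGroup.of (0 : Fin 3) * FreeGroup.of 1) ^ 2 * (FreeGroup.of (2 : Fin 3))⁻¹} : Set (FreeGroup (Fin 3)))
      ≃* Matrix.SpecialLinearGroup (Fin 2) (ZMod 5)) := by
  exact ⟨fun G _ _ => first_part G, presented_iso⟩

end Cfsg.Agent.S3378
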