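import Cfsg.Statements.S4020
import Cfsg.Agent.ConjSubgroups.Automizer
import Cfsg.Agent.S0016
import Cfsg.Agent.S0201
import Cfsg.Agent.S0205
import Cfsg.Agent.ExtremelyClosed.Reduction
import Cfsg.Agent.Inv54.Core

set_option autoImplicit false
set_option linter.style.haveILetI false
open Cfsg

namespace Cfsg.Agent.S4020

open Subgroup CfsgLib.ConjSubgroups
open scoped commutatorElement

private theorem conjIn_of {G : Type*} [Group G]
    (hD : ∀ p : ℕ, p.Prime → ∀ H K : Subgroup G, IsPGroup p H → IsPGroup p K → Nat.card H = Nat.card K →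
      ∃ g : G, K = H.map (MulAut.conj g).toMonoidHom) {p : ℕ} [hp : Fact p.Prime] (P : Sylow p G) :
    ConjIn (P : Subgroup G) := fun H K hH hK h =>
  hD p hp.out H K (P.isPGroup'.to_le hH) (P.isPGroup'.to_le hK) h

/-- The theorem, given commutativity in the case of exponent `p ≠ 2`. -/
private theorem structure_of {G : Type*} [Group G] [Finite G]
    (hD : ∀ p : ℕ, p.Prime → ∀ H K : Subgroup G, IsPGroup p H → IsPGroup p K → Nat.card H = Nat.card K →
      ∃ g : G, K = H.map (MulAut.conj g).toMonoidHom) {p : ℕ} [Fact p.Prime] (P : Sylow p G)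
    (habel : p ≠ 2 → (∀ x ∈ (P : Subgroup G), x ^ p = 1) → IsMulCommutative (P : Subgroup G)) :
    IsCyclic P ∨ Cfsg.IsElementaryAbelian p (P : Subgroup G) ∨ Nonempty ((P : Subgroup G) ≃* QuaternionGroup 2) := by
  rcases exponent_or_unique P.isPGroup' (conjIn_of hD P) with hexp | huniq
  · refine Or.inr (Or.inl ⟨?_, hexp⟩)
    rcases eq_or_ne p 2 with rfl | hp2
    · refine ⟨⟨fun x y => Subtype.ext ?_⟩⟩
      have hi : ∀ z ∈ (P : Subgroup G), z⁻¹ = z := fun z hz =>
        inv_eq_of_mul_eq_one_right (by rw [← pow_two, hexp z hz])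
      show (x : G) * y = y * x
      rw [← hi _ (mul_mem x.2 y.2), mul_inv_rev, hi _ x.2, hi _ y.2]
    · exact habel hp2 hexp
  rcases Cfsg.Agent.S0016.result p P.isPGroup' huniq with hc | ⟨rfl, n, ⟨e⟩⟩
  · exact Or.inl hc
  haveI : NeZero (2 ^ n) := ⟨pow_ne_zero _ two_ne_zero⟩
  match n, e with
  | 0, e =>
    refine Or.inl (isCyclic_of_orderOf_eq_card (e.symm (QuaternionGroup.xa 0)) ?_)
    rw [MulEquiv.orderOf_eq, QuaternionGroup.orderOf_xa, Nat.card_congr e.toEquiv,
      Nat.card_eq_fintype_card, QuaternionGroup.card]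
    norm_num
  | 1, e => exact Or.inr (Or.inr ⟨e⟩)
  | n + 2, e =>
    exfalso
    haveI : NeZero (2 ^ (n + 2)) := ⟨pow_ne_zero _ two_ne_zero⟩
    let y : QuaternionGroup (2 ^ (n + 2)) := QuaternionGroup.xa 0
    let r : QuaternionGroup (2 ^ (n + 2)) := QuaternionGroup.a 1 ^ 2 ^ n
    have hr : orderOf r = 2 ^ 3 := by
      rw [orderOf_pow_of_dvd (pow_ne_zero _ two_ne_zero)
        (by rw [QuaternionGroup.orderOf_a_one, ← pow_succ']; exact pow_dvd_pow 2 (by omega)),
        QuaternionGroup.orderOf_a_one, ← pow_succ', Nat.pow_div (by omega) two_pos]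
      congr 1
      omega
    obtain ⟨K, hK, hyK⟩ := Sylow.exists_subgroup_card_pow_prime_le
      (G := QuaternionGroup (2 ^ (n + 2))) 2 (n := 2) (m := 3)
      (by rw [Nat.card_eq_fintype_card, QuaternionGroup.card, show 4 = 2 ^ 2 from rfl, ← pow_add]; exact pow_dvd_pow 2 (by omega))
      (zpowers y) (by rw [Nat.card_zpowers, QuaternionGroup.orderOf_xa]; rfl) (by norm_num)
    let f := (P : Subgroup G).subtype.comp e.symm.toMonoidHom
    have hf : Function.Injective f := (Subgroup.subtype_injective _).comp e.symm.injective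
    haveI := isCyclic_of_conjIn (conjIn_of hD P) (x := f r) (e.symm r).2 (K := K.map f)
      (by rintro _ ⟨k, -, rfl⟩; exact (e.symm k).2)
      (by rw [orderOf_injective f hf, hr, card_map_of_injective hf, hK])
    haveI : IsCyclic K := isCyclic_of_surjective (K.equivMapOfInjective f hf).symm.toMonoidHom
      (MulEquiv.surjective _)
    obtain ⟨w, hw⟩ := IsCyclic.exists_generator (α := K)
    have hwo : orderOf (w : QuaternionGroup (2 ^ (n + 2))) = 8 := by
      rw [Subgroup.orderOf_coe, orderOf_eq_card_of_forall_mem_zpowers hw, hK]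
      rfl
    obtain ⟨j, hj⟩ := mem_zpowers_iff.1 (hw ⟨y, hyK (mem_zpowers y)⟩)
    have hj' : (w : QuaternionGroup (2 ^ (n + 2))) ^ j = y := congrArg Subtype.val hj
    revert hwo hj'
    cases (w : QuaternionGroup (2 ^ (n + 2))) with
    | xa i => rw [QuaternionGroup.orderOf_xa]; omega
    | a i =>
      intro _ hj'
      have : ∀ m : ℕ, ∃ i', (QuaternionGroup.a i) ^ m = QuaternionGroup.a i' := fun m => by
        induction m with
        | zero => exact ⟨0, rfl⟩
        | succ m ih => obtain ⟨i', h⟩ := ih; exact ⟨i' + i, (pow_succ _ m).trans (by rw [h, QuaternionGroup.a_mul_a])⟩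
      obtain ⟨m, hm⟩ := mem_powers_iff_mem_zpowers.2 ⟨j, hj'⟩
      obtain ⟨i', hi'⟩ := this m
      have h := hi'.symm.trans hm
      simp [y] at h

private theorem q8_sq : ∀ x : QuaternionGroup 2, x * x * (x * x) = 1 := by decide

private theorem q8_involution :
    ∀ x : QuaternionGroup 2, x * x = 1 → x ≠ 1 → x = QuaternionGroup.a 2 := by decide

/-- Squares of 2-elements normalising a nonabelian Sylow subgroup of exponent `p` centralise it. -/
private theorem commute_sq {G : Type*} [Group G] [Finite G]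
    (hD : ∀ p : ℕ, p.Prime → ∀ H K : Subgroup G, IsPGroup p H → IsPGroup p K → Nat.card H = Nat.card K →
      ∃ g : G, K = H.map (MulAut.conj g).toMonoidHom) {p : ℕ} [hp : Fact p.Prime] (hp2 : p ≠ 2)
    (P : Sylow p G) (hexp : ∀ x ∈ (P : Subgroup G), x ^ p = 1)
    (hna : ¬ IsMulCommutative (P : Subgroup G)) (t : G) (k : ℕ) (ht : orderOf t = 2 ^ k)
    (htN : t ∈ normalizer ((P : Subgroup G) : Set G)) :
    ∀ x ∈ (P : Subgroup G), Commute (t * t) x := by
  classical
  haveI : Fact (Nat.Prime 2) := ⟨Nat.prime_two⟩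
  let O := Cfsg.oddCore G
  haveI hON : O.Normal := inferInstance
  obtain ⟨a, b, ha, hb, hab⟩ : ∃ a b : G, a ∈ (P : Subgroup G) ∧ b ∈ (P : Subgroup G) ∧ a * b * a⁻¹ * b⁻¹ ≠ 1 := by
    by_contra h
    push Not at h
    exact hna ⟨⟨fun a b => Subtype.ext (commutatorElement_eq_one_iff_mul_comm.1 (h a b a.2 b.2))⟩⟩
  have hord : ∀ x ∈ (P : Subgroup G), x ≠ 1 → orderOf x = p :=
    fun x hx h1 => orderOf_eq_prime (hexp x hx) h1
  -- a normal subgroup with an element of order `p` contains `P`
  have hall : ∀ N : Subgroup G, N.Normal → ∀ o ∈ N, orderOf o = p → (P : Subgroup G) ≤ N := by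
    intro N hN o ho hoo x hx
    rcases eq_or_ne x 1 with rfl | hx1
    · exact one_mem N
    obtain ⟨g, hg⟩ := hD p hp.out (zpowers o) (zpowers x)
      (IsPGroup.of_card (n := 1) (by rw [Nat.card_zpowers, hoo, pow_one]))
      (IsPGroup.of_card (n := 1) (by rw [Nat.card_zpowers, hord x hx hx1, pow_one]))
      (by rw [Nat.card_zpowers, Nat.card_zpowers, hoo, hord x hx hx1])
    obtain ⟨u, hu, rfl⟩ : x ∈ (zpowers o).map (MulAut.conj g).toMonoidHom := hg ▸ mem_zpowers x
    exact hN.conj_mem u (zpowers_le.2 ho hu) g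
  have hpO : ¬ p ∣ Nat.card O := by
    intro hdvd
    obtain ⟨o, ho⟩ := exists_prime_orderOf_dvd_card' (G := O) p hdvd
    have hPO := hall O hON o o.2 (by rw [Subgroup.orderOf_coe, ho])
    have hsol : Group.IsSolvable O := Cfsg.Agent.S0205.result (CfsgLib.Inv54.odd_card_oddCore)
    have hstep : ∀ i, (P : Subgroup G) ≤ (derivedSeries O i).map O.subtype := by
      intro i
      induction i with
      | zero =>
        rw [derivedSeries_zero, ← MonoidHom.range_eq_map, range_subtype]
        exact hPO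
      | succ i ih =>
        obtain ⟨a', ha', hea⟩ := ih ha
        obtain ⟨b', hb', heb⟩ := ih hb
        refine hall _ inferInstance (a * b * a⁻¹ * b⁻¹) ⟨⁅a', b'⁆, ?_, ?_⟩
          (hord _ (mul_mem (mul_mem (mul_mem ha hb) (inv_mem ha)) (inv_mem hb)) hab)
        · rw [derivedSeries_succ]
          exact commutator_mem_commutator ha' hb'
        · rw [map_commutatorElement, hea, heb, commutatorElement_def]
    obtain ⟨i, hi⟩ := (Group.isSolvable_def (G := O)).1 hsol
    refine hab (mem_bot.1 ?_)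
    rw [← map_bot O.subtype, ← hi]
    exact hstep i (mul_mem (mul_mem (mul_mem ha hb) (inv_mem ha)) (inv_mem hb))
  have hPO : ∀ x ∈ (P : Subgroup G), x ∈ O → x = 1 := by
    intro x hx hxO
    by_contra h1
    exact hpO (hord x hx h1 ▸ O.orderOf_dvd_natCard hxO)
  rcases eq_or_ne (t * t) 1 with h1 | h1
  · intro x _; rw [h1]; exact Commute.one_left x
  obtain ⟨T, hT⟩ := (IsPGroup.of_card (p := 2) (G := zpowers t) (n := k)
    (by rw [Nat.card_zpowers, ht])).exists_le_sylow
  have htT : t ∈ (T : Subgroup G) := hT (mem_zpowers t)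
  rcases structure_of hD T (fun h => absurd rfl h) with hc | ⟨-, hel⟩ | ⟨⟨e⟩⟩
  · exfalso
    haveI := hc
    have h2 : 2 ∣ Nat.card G := by
      have : k ≠ 0 := fun h0 => h1 (by
        rw [h0, pow_zero, orderOf_eq_one_iff] at ht; rw [ht, mul_one])
      exact (dvd_pow_self 2 this).trans (ht ▸ orderOf_dvd_natCard t)
    have hmin : (Nat.card G).minFac = 2 := (Nat.minFac_eq_two_iff _).2 h2
    have hcompl := MonoidHom.ker_transferSylow_isComplement' T
      (IsCyclic.normalizer_le_centralizer (P := T) hmin hc)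
    have hcard : Nat.card (MonoidHom.transferSylow T
        (IsCyclic.normalizer_le_centralizer (P := T) hmin hc)).ker = (T : Subgroup G).index :=
      (hcompl.index_eq_card).symm
    have hle := CfsgLib.ExtremelyClosed.le_oddCore_of_odd
      (G := G) (N := (MonoidHom.transferSylow T
        (IsCyclic.normalizer_le_centralizer (P := T) hmin hc)).ker) inferInstance
      (by rw [hcard, Nat.odd_iff, ← Nat.two_dvd_ne_zero]; exact T.not_dvd_index)
    refine hpO (dvd_trans ?_ (card_dvd_of_le hle))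
    rw [hcard]
    have hpG : p ∣ Nat.card G := by
      have hne : (a * b * a⁻¹ * b⁻¹) ∈ (P : Subgroup G) :=
        mul_mem (mul_mem (mul_mem ha hb) (inv_mem ha)) (inv_mem hb)
      exact hord _ hne hab ▸ orderOf_dvd_natCard _
    rw [← (T : Subgroup G).index_mul_card] at hpG
    rcases hp.out.dvd_mul.1 hpG with h | h
    · exact h
    · obtain ⟨m, hm⟩ := IsPGroup.iff_card.1 T.isPGroup'
      rw [hm] at h
      exact absurd ((Nat.prime_dvd_prime_iff_eq hp.out Nat.prime_two).1
        (hp.out.dvd_of_dvd_pow h)) hp2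
  · exact absurd (by rw [← pow_two]; exact hel t htT) h1
  -- the quaternion case
  let π := QuotientGroup.mk' O
  have hπ : Function.Surjective π := QuotientGroup.mk'_surjective O
  have hinj : ∀ y ∈ (T : Subgroup G), π y = 1 → y = 1 := by
    intro y hy h
    have h3 : y ∈ O := (QuotientGroup.eq_one_iff y).1 h
    obtain ⟨m, hm⟩ := IsPGroup.iff_orderOf.1 T.isPGroup' ⟨y, hy⟩
    rw [Subgroup.orderOf_mk] at hm
    have hcop : Nat.Coprime (orderOf y) (Nat.card O) := by
      rw [hm]
      exact (Nat.coprime_two_left.2 CfsgLib.Inv54.odd_card_oddCore).pow_left m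
    exact orderOf_eq_one_iff.1 (hcop.eq_one_of_dvd (O.orderOf_dvd_natCard h3))
  let T' := T.mapSurjective hπ
  have hb' : Function.Bijective ((π.comp (T : Subgroup G).subtype).codRestrict
      (T' : Subgroup (G ⧸ O)) fun y => ⟨y, y.2, rfl⟩) := by
    refine ⟨(injective_iff_map_eq_one _).2 fun y hy =>
      Subtype.ext (hinj y y.2 (congrArg Subtype.val hy)), ?_⟩
    rintro ⟨_, y, hy, rfl⟩
    exact ⟨⟨y, hy⟩, rfl⟩
  have hZ := Cfsg.Agent.S0201.result T' 0 ((MulEquiv.ofBijective _ hb').symm.trans e)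
    fun N hN hodd => le_bot_iff.1 <|
      (CfsgLib.PLocal.pPrimeCore_quotient_pPrimeCore_eq_bot 2 G) ▸
        CfsgLib.ExtremelyClosed.le_oddCore_of_odd hN hodd
  obtain ⟨z, hz⟩ := exists_prime_orderOf_dvd_card' (G := center (G ⧸ O)) 2 (by rw [hZ])
  obtain ⟨s, hs, hsz⟩ : (z : G ⧸ O) ∈ (T' : Subgroup (G ⧸ O)) :=
    (IsPGroup.of_card (n := 1) (by rw [hZ, pow_one])).le_sylow_of_normal T' z.2
  have hz1 : (z : G ⧸ O) ≠ 1 := fun h => by
    rw [← Subgroup.orderOf_coe, h, orderOf_one] at hz; omega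
  have hz2 : (z : G ⧸ O) * (z : G ⧸ O) = 1 := by
    rw [← pow_two, ← hz, ← Subgroup.orderOf_coe, pow_orderOf_eq_one]
  have hs2 : s * s = 1 := hinj _ (mul_mem hs hs) (by rw [map_mul, hsz, hz2])
  have hu2 : ⟨t, htT⟩ * ⟨t, htT⟩ * (⟨t, htT⟩ * ⟨t, htT⟩) = (1 : (T : Subgroup G)) :=
    e.injective (by rw [map_mul, map_mul, q8_sq, map_one])
  have hkey : t * t = s := by
    have := q8_involution (e (⟨t, htT⟩ * ⟨t, htT⟩)) (by rw [← map_mul, hu2, map_one])
      (fun h => h1 (congrArg Subtype.val (e.injective (h.trans (map_one e).symm))))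
    have h' := q8_involution (e ⟨s, hs⟩)
      (by rw [← map_mul, show (⟨s, hs⟩ * ⟨s, hs⟩ : (T : Subgroup G)) = 1 from Subtype.ext hs2, map_one])
      (fun h => hz1 (by
        rw [← hsz, show s = 1 from congrArg Subtype.val (e.injective (h.trans (map_one e).symm)),
          map_one]))
    exact congrArg Subtype.val (e.injective (this.trans h'.symm))
  intro x hx
  refine commutatorElement_eq_one_iff_mul_comm.1 (hPO _ ?_ ?_)
  · rw [commutatorElement_def]
    exact mul_mem ((mem_normalizer_iff.1 (mul_mem htN htN) x).1 hx) (inv_mem hx)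
  · refine (QuotientGroup.eq_one_iff _).1 ?_
    have hc : Commute (π x) (π (t * t)) := by
      rw [hkey, hsz]
      exact mem_center_iff.1 z.2 (π x)
    show π ⁅t * t, x⁆ = 1
    rw [map_commutatorElement]
    exact commutatorElement_eq_one_iff_mul_comm.2 hc.symm.eq

/-- Let G be a finite group in which, for every prime p, any two p-subgroups of the same order are conjugate. Then every Sylow subgroup of G is cyclic, elementary abelian, or a quaternion group of order 8. -/
theorem result {G : Type*} [Group G] [Finite G]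
    (hD : ∀ p : ℕ, p.Prime → ∀ H K : Subgroup G, IsPGroup p H → IsPGroup p K → Nat.card H = Nat.card K →
      ∃ g : G, K = H.map (MulAut.conj g).toMonoidHom) {p : ℕ} [Fact p.Prime] (P : Sylow p G) :
    IsCyclic P ∨ Cfsg.IsElementaryAbelian p (P : Subgroup G) ∨ Nonempty ((P : Subgroup G) ≃* QuaternionGroup 2) := by
  refine structure_of hD P fun hp2 hexp => ?_
  by_contra hna
  exact hna (isMulCommutative_of_exponent hp2 P (conjIn_of hD P) hexp fun t k ht htN =>
    commute_sq hD hp2 P hexp hna t k ht htN)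

end Cfsg.Agent.S4020
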