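import Mathlib
import Cfsg.Statements.S4025
import Cfsg.Agent.FgsSix.SolvableLinear.Main
import Cfsg.Agent.PLocal.Cores
-- import your own Cfsg.Agent.* helpers here

set_option autoImplicit false
open Cfsg

namespace Cfsg.Agent.S4025

open CfsgLib.FgsSix.SolvableLinear
open Module

/-- Automorphisms of an exponent `p` abelian group as linear maps. -/
def autLinear {M : Type*} [CommGroup M] (p : ℕ) [Module (ZMod p) (Additive M)] :
    MulAut M →* Module.End (ZMod p) (Additive M) where
  toFun σ := AddMonoidHom.toZModLinearMap p (MonoidHom.toAdditive (σ : M →* M))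
  map_one' := LinearMap.ext fun _ => rfl
  map_mul' _ _ := LinearMap.ext fun _ => rfl

/-- The same into the invertible linear maps. -/
def autUnits {M : Type*} [CommGroup M] (p : ℕ) [Module (ZMod p) (Additive M)] :
    MulAut M →* (Module.End (ZMod p) (Additive M))ˣ :=
  MonoidHom.toHomUnits (M := Module.End (ZMod p) (Additive M)) (autLinear p)

theorem autLinear_apply {M : Type*} [CommGroup M] (p : ℕ) [Module (ZMod p) (Additive M)]
    (σ : MulAut M) (x : M) : autLinear p σ (Additive.ofMul x) = Additive.ofMul (σ x) := rfl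

/-- For an abelian Sylow subgroup, conjugate subgroups of it are conjugate in its normaliser. -/
theorem exists_normalizer_conj {G : Type*} [Group G] [Finite G] {p : ℕ} [Fact p.Prime] (P : Sylow p G)
    (hab : IsMulCommutative (P : Subgroup G)) {H₁ H₂ : Subgroup G} (h1 : H₁ ≤ P) (h2 : H₂ ≤ P)
    (g : G) (hg : H₂ = H₁.map (MulAut.conj g).toMonoidHom) :
    ∃ m ∈ Subgroup.normalizer ((P : Subgroup G) : Set G), H₂ = H₁.map (MulAut.conj m).toMonoidHom := by
  set C := Subgroup.centralizer (H₂ : Set G) with hC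
  have hcomm : ∀ a ∈ (P : Subgroup G), ∀ b ∈ (P : Subgroup G), a * b = b * a := fun a ha b hb =>
    congrArg Subtype.val (hab.is_comm.comm ⟨a, ha⟩ ⟨b, hb⟩)
  have hPC : (P : Subgroup G) ≤ C := fun a ha => Subgroup.mem_centralizer_iff.2 fun b hb =>
    hcomm b (h2 hb) a ha
  have hgPC : ((g • P : Sylow p G) : Subgroup G) ≤ C := by
    rw [Sylow.coe_subgroup_smul]
    intro x hx
    rw [Subgroup.mem_pointwise_smul_iff_inv_smul_mem, ← map_inv, MulAut.smul_def, MulAut.conj_apply,
      inv_inv] at hx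
    refine Subgroup.mem_centralizer_iff.2 fun b hb => ?_
    rw [hg] at hb
    obtain ⟨a, ha, rfl⟩ := hb
    have h := hcomm a (h1 ha) _ hx
    show g * a * g⁻¹ * x = x * (g * a * g⁻¹)
    calc g * a * g⁻¹ * x = g * (a * (g⁻¹ * x * g)) * g⁻¹ := by group
      _ = g * ((g⁻¹ * x * g) * a) * g⁻¹ := by rw [h]
      _ = x * (g * a * g⁻¹) := by group
  obtain ⟨c, hc⟩ := MulAction.exists_smul_eq C ((g • P).subtype hgPC) (P.subtype hPC)
  refine ⟨(c : G) * g, ?_, ?_⟩
  · refine Subgroup.mem_normalizer_fintype fun x hx => ?_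
    have hmem : g * x * g⁻¹ ∈ ((g • P : Sylow p G) : Subgroup G) := by
      rw [Sylow.coe_subgroup_smul]
      have := Subgroup.smul_mem_pointwise_smul x (MulAut.conj g) _ hx
      simpa using this
    have h3 : c * ⟨g * x * g⁻¹, hgPC hmem⟩ * c⁻¹ ∈ (P.subtype hPC : Subgroup C) := by
      rw [← hc, Sylow.coe_subgroup_smul]
      have hmem' : (⟨g * x * g⁻¹, hgPC hmem⟩ : C) ∈ ((g • P).subtype hgPC : Subgroup C) := hmem
      have := Subgroup.smul_mem_pointwise_smul _ (MulAut.conj c) _ hmem'
      simpa using this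
    have h4 : (c : G) * (g * x * g⁻¹) * (c : G)⁻¹ ∈ (P : Subgroup G) := h3
    show (c : G) * g * x * ((c : G) * g)⁻¹ ∈ (P : Subgroup G)
    rwa [show (c : G) * g * x * ((c : G) * g)⁻¹ = (c : G) * (g * x * g⁻¹) * (c : G)⁻¹ by group]
  · ext x
    constructor
    · intro hx
      have hcx : (c : G)⁻¹ * x * (c : G) = x := by
        have := Subgroup.mem_centralizer_iff.1 c.2 x hx
        rw [mul_assoc, this, inv_mul_cancel_left]
      have hx' := hx
      rw [hg] at hx'
      obtain ⟨a, ha, hax⟩ := hx'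
      refine ⟨a, ha, ?_⟩
      show (c : G) * g * a * ((c : G) * g)⁻¹ = x
      change g * a * g⁻¹ = x at hax
      calc (c : G) * g * a * ((c : G) * g)⁻¹ = (c : G) * (g * a * g⁻¹) * (c : G)⁻¹ := by group
        _ = (c : G) * ((c : G)⁻¹ * x * (c : G)) * (c : G)⁻¹ := by rw [hax, hcx]
        _ = x := by group
    · rintro ⟨a, ha, rfl⟩
      have hb : g * a * g⁻¹ ∈ H₂ := by
        rw [hg]
        exact ⟨a, ha, rfl⟩
      have := Subgroup.mem_centralizer_iff.1 c.2 _ hb
      have hval : (MulAut.conj ((c : G) * g)).toMonoidHom a = g * a * g⁻¹ := by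
        show (c : G) * g * a * ((c : G) * g)⁻¹ = g * a * g⁻¹
        calc (c : G) * g * a * ((c : G) * g)⁻¹ = (c : G) * (g * a * g⁻¹) * (c : G)⁻¹ := by group
          _ = (g * a * g⁻¹) * (c : G) * (c : G)⁻¹ := by rw [this]
          _ = g * a * g⁻¹ := mul_inv_cancel_right _ _
      rw [hval]
      exact hb

theorem orderOf_two_31 : orderOf ((2 : ℕ) : ZMod 31) = 5 :=
  haveI : Fact (Nat.Prime 5) := ⟨by norm_num⟩
  orderOf_eq_prime (by decide) (by decide)

theorem orderOf_two_5 : orderOf ((2 : ℕ) : ZMod 5) = 4 :=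
  haveI : Fact (Nat.Prime 2) := ⟨Nat.prime_two⟩
  orderOf_eq_prime_pow (p := 2) (n := 1) (by decide) (by decide)

theorem orderOf_two_7 : orderOf ((2 : ℕ) : ZMod 7) = 3 :=
  haveI : Fact (Nat.Prime 3) := ⟨Nat.prime_three⟩
  orderOf_eq_prime (by decide) (by decide)

theorem card_semiaffine_le {p : ℕ} [Fact p.Prime] {n : ℕ} (hn : n ≠ 0) :
    Nat.card (Cfsg.semiaffineGroup (GaloisField p n)) ≤ (p ^ n - 1) * p ^ n * n := by
  haveI : Finite (GaloisField p n ≃+* GaloisField p n) :=
    Finite.of_injective (fun φ => (φ : GaloisField p n → GaloisField p n)) DFunLike.coe_injective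
  choose a b φ h using fun σ : Cfsg.semiaffineGroup (GaloisField p n) => σ.2
  have hle := Nat.card_le_card_of_injective (fun σ => (a σ, b σ, φ σ)) fun σ τ hστ => by
    simp only [Prod.mk.injEq] at hστ
    refine Subtype.ext (Equiv.ext fun x => ?_)
    rw [h σ x, h τ x, hστ.1, hστ.2.1, hστ.2.2]
  rw [Nat.card_prod, Nat.card_prod, card_units_galoisField hn, GaloisField.card p n hn] at hle
  rw [mul_assoc]
  exact hle.trans (Nat.mul_le_mul_left _ (Nat.mul_le_mul_left _ (card_ringEquiv_le hn)))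

theorem card_affine_le {p : ℕ} [Fact p.Prime] {n : ℕ} (hn : n ≠ 0) :
    Nat.card (Cfsg.affineGroup (GaloisField p n)) ≤ (p ^ n - 1) * p ^ n := by
  choose a b h using fun σ : Cfsg.affineGroup (GaloisField p n) => σ.2
  have hle := Nat.card_le_card_of_injective (fun σ => (a σ, b σ)) fun σ τ hστ => by
    simp only [Prod.mk.injEq] at hστ
    refine Subtype.ext (Equiv.ext fun x => ?_)
    rw [h σ x, h τ x, hστ.1, hστ.2]
  rwa [Nat.card_prod, card_units_galoisField hn, GaloisField.card p n hn] at hle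

/-- A semilinear map of order dividing `7` over the field with `8` elements is linear. -/
theorem linear_of_pow_seven [Fact (Nat.Prime 2)] (f : GaloisField 2 3 → GaloisField 2 3)
    (c : GaloisField 2 3) (φ : GaloisField 2 3 ≃+* GaloisField 2 3)
    (hf : ∀ y, f y = c * φ y) (hf7 : f^[7] = id) : ∀ y, φ y = y := by
  have hiter : ∀ k, ∃ d, ∀ y, f^[k] y = d * (⇑φ)^[k] y := by
    intro k
    induction k with
    | zero => exact ⟨1, fun y => by simp⟩
    | succ k ih =>
      obtain ⟨d, hd⟩ := ih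
      exact ⟨c * φ d, fun y => by
        rw [Function.iterate_succ_apply', Function.iterate_succ_apply', hd, hf, map_mul, mul_assoc]⟩
  obtain ⟨d, hd⟩ := hiter 7
  have hd1 : d = 1 := by
    have := hd 1
    rw [hf7] at this
    have hone : ∀ k, (⇑φ)^[k] (1 : GaloisField 2 3) = 1 := fun k => Function.iterate_fixed (map_one φ) k
    rw [hone, mul_one] at this
    exact this.symm
  obtain ⟨i, hi⟩ := ringEquiv_eq_pow (p := 2) (by norm_num : (3 : ℕ) ≠ 0) φ
  have h3 : ∀ y, (⇑φ)^[3] y = y := by
    intro y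
    have hy : y ^ 2 ^ 3 = y := by
      haveI := Fintype.ofFinite (GaloisField 2 3)
      have hc : Fintype.card (GaloisField 2 3) = 2 ^ 3 := by
        rw [← Nat.card_eq_fintype_card, GaloisField.card 2 3 (by norm_num)]
      rw [← hc, FiniteField.pow_card]
    simp only [Function.iterate_succ_apply', Function.iterate_zero_apply, hi, ← pow_mul]
    rcases i with ⟨j, hj⟩
    interval_cases j
    · simp
    · simpa using hy
    · calc y ^ (2 ^ 2 * 2 ^ 2 * 2 ^ 2) = (y ^ 2 ^ 3) ^ 2 ^ 3 := by rw [← pow_mul]; norm_num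
        _ = y := by rw [hy, hy]
  intro y
  have h7 := hd y
  rw [hf7, hd1, one_mul, id, show 7 = 3 + (3 + 1) from rfl, Function.iterate_add_apply, h3,
    Function.iterate_add_apply, h3, Function.iterate_one] at h7
  exact h7.symm

/-- Let p be a prime and G a finite group in which any two p-subgroups of the same order are conjugate, and suppose a Sylow p-subgroup P of G is elementary abelian of order pⁿ with n ≥ 3. Let N be the normalizer of P and K the largest normal subgroup of N of order prime to p, and assume N/K is solvable. Then either n = 3 and N/K embeds in the one-dimensional semi-affine group over the field with p³ elements (and for p = 2 it is isomorphic to the affine or the semi-affine group over the field with 8 elements), or n = 5, p = 2 and N/K is isomorphic to the one-dimensional semi-affine group over the field with 32 elements. -/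
theorem result {G : Type*} [Group G] [Finite G]
    {p : ℕ} [Fact p.Prime] (hC : ∀ H K : Subgroup G, IsPGroup p H → IsPGroup p K → Nat.card H = Nat.card K →
      ∃ g : G, K = H.map (MulAut.conj g).toMonoidHom) (P : Sylow p G) (n : ℕ) (hn : 3 ≤ n)
    (hel : Cfsg.IsElementaryAbelian p (P : Subgroup G)) (hcard : Nat.card P = p ^ n)
    (N : Subgroup G) (hN : N = Subgroup.normalizer ((P : Subgroup G) : Set G))
    (hsolv : Group.IsSolvable (↥N ⧸ Cfsg.pPrimeCore p ↥N)) :
    (n = 3 ∧ (∃ f : ↥N ⧸ Cfsg.pPrimeCore p ↥N →* ↥(Cfsg.semiaffineGroup (GaloisField p 3)), Function.Injective f) ∧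
      (p = 2 → Nonempty (↥N ⧸ Cfsg.pPrimeCore p ↥N ≃* Cfsg.semiaffineGroup (GaloisField 2 3)) ∨
               Nonempty (↥N ⧸ Cfsg.pPrimeCore p ↥N ≃* Cfsg.affineGroup (GaloisField 2 3)))) ∨
    (n = 5 ∧ p = 2 ∧ Nonempty (↥N ⧸ Cfsg.pPrimeCore p ↥N ≃* Cfsg.semiaffineGroup (GaloisField 2 5))) := by
  classical
  subst hN
  set N := Subgroup.normalizer ((P : Subgroup G) : Set G) with hNdef
  have hp := (Fact.out : p.Prime)
  have hPN : (P : Subgroup G) ≤ N := Subgroup.le_normalizer
  set P' : Subgroup N := (P : Subgroup G).subgroupOf N with hP'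
  haveI hP'n : P'.Normal := Subgroup.normal_in_normalizer
  have hP'card : Nat.card P' = p ^ n := by
    rw [← hcard]; exact Nat.card_congr (Subgroup.subgroupOfEquivOfLe hPN).toEquiv
  have hPcomm : ∀ a ∈ (P : Subgroup G), ∀ b ∈ (P : Subgroup G), a * b = b * a := fun a ha b hb =>
    congrArg Subtype.val (hel.1.is_comm.comm ⟨a, ha⟩ ⟨b, hb⟩)
  have hP'comm : ∀ a ∈ P', ∀ b ∈ P', a * b = b * a := fun a ha b hb =>
    Subtype.ext (hPcomm _ ha _ hb)
  have hP'idx : ¬ p ∣ P'.index := (P.subtype hPN).not_dvd_index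
  obtain ⟨H, hH⟩ := Subgroup.exists_right_complement'_of_coprime (N := P') (by
    rw [hP'card]
    exact Nat.Coprime.pow_left _ (hp.coprime_iff_not_dvd.2 hP'idx))
  have hdec : ∀ m : N, ∃ a ∈ P', ∃ h ∈ H, m = a * h := fun m => by
    obtain ⟨⟨⟨a, ha⟩, ⟨h, hh⟩⟩, he⟩ := hH.2 m
    exact ⟨a, ha, h, hh, he.symm⟩
  have hHcop : (Nat.card H).Coprime p := by
    rw [← hH.symm.index_eq_card]
    exact (hp.coprime_iff_not_dvd.2 hP'idx).symm
  set K := Cfsg.pPrimeCore p N with hK
  have hKcop : (Nat.card K).Coprime p := CfsgLib.PLocal.coprime_card_pPrimeCore p N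
  have hKP : ∀ k ∈ K, ∀ a ∈ P', k * a = a * k := fun k hk a ha =>
    Subgroup.commute_of_normal_of_disjoint K P' inferInstance hP'n
      (Subgroup.disjoint_of_coprime_natCard (by rw [hP'card]; exact hKcop.pow_right n)) k a hk ha
  -- the p'-core lies in the complement
  have hKH : K ≤ H := by
    intro k hk
    obtain ⟨a, ha, h, hh, rfl⟩ := hdec k
    have hah : Commute a h := by
      have h1 := hKP _ hk a ha
      rw [mul_assoc] at h1
      exact (mul_left_cancel h1).symm
    have h2 : (a * h) ^ (Nat.card H * Nat.card K) = 1 := by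
      rw [mul_comm, pow_mul, show (a * h) ^ Nat.card K = 1 from congrArg Subtype.val
        (pow_card_eq_one' (x := (⟨a * h, hk⟩ : K))), one_pow]
    rw [hah.mul_pow, show h ^ (Nat.card H * Nat.card K) = 1 by
      rw [pow_mul, show h ^ Nat.card H = 1 from congrArg Subtype.val
        (pow_card_eq_one' (x := (⟨h, hh⟩ : H))), one_pow], mul_one] at h2
    have h3 : orderOf a ∣ Nat.gcd (p ^ n) (Nat.card H * Nat.card K) :=
      Nat.dvd_gcd (hP'card ▸ Subgroup.orderOf_dvd_natCard P' ha) (orderOf_dvd_of_pow_eq_one h2)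
    rw [((hHcop.mul_left hKcop).symm.pow_left n).gcd_eq_one, Nat.dvd_one, orderOf_eq_one_iff] at h3
    rwa [h3, one_mul]
  letI : CommGroup P' :=
    { (inferInstance : Group P') with mul_comm := fun a b => Subtype.ext (hP'comm _ a.2 _ b.2) }
  have hexp : ∀ x : Additive P', p • x = 0 := fun x => Additive.toMul.injective
    (Subtype.ext (Subtype.ext (hel.2 _ x.toMul.2)))
  obtain ⟨inst⟩ : Nonempty (Module (ZMod p) (Additive P')) := ⟨AddCommGroup.zmodModule hexp⟩
  let ρ : N →* (Module.End (ZMod p) (Additive P'))ˣ := (autUnits p).comp MulAut.conjNormal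
  have hρ : ∀ (m : N) (x : P'), ((ρ m : (Module.End (ZMod p) (Additive P'))ˣ) :
      Module.End (ZMod p) (Additive P')) (Additive.ofMul x) =
      Additive.ofMul (MulAut.conjNormal m x) := fun m x => autLinear_apply p _ x
  have hρker : ∀ m : N, (∀ x : P', m * x * m⁻¹ = x) → ρ m = 1 := fun m hm =>
    Units.ext (LinearMap.ext fun x => by
      show _ = x
      refine (hρ m x.toMul).trans (congrArg Additive.ofMul (Subtype.ext ?_))
      rw [MulAut.conjNormal_apply]
      exact hm x.toMul)
  have hρP : ∀ a ∈ P', ρ a = 1 := fun a ha => hρker a fun x =>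
    mul_inv_eq_iff_eq_mul.2 (hP'comm a ha x x.2)
  have hρK : ∀ k ∈ K, ρ k = 1 := fun k hk => hρker k fun x =>
    mul_inv_eq_iff_eq_mul.2 (hKP k hk x x.2)
  have hρH : ∀ m : N, ∃ h ∈ H, ρ h = ρ m := fun m => by
    obtain ⟨a, ha, h, hh, rfl⟩ := hdec m
    exact ⟨h, hh, by rw [map_mul, hρP a ha, one_mul]⟩
  haveI := finite_end (p := p) (V := Additive P')
  set X := ρ.range with hXdef
  -- the order of the linear group
  have hKker : (ρ.comp H.subtype).ker = K.subgroupOf H := by
    refine le_antisymm ?_ fun (k : H) hk => hρK (k : N) hk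
    set D := (ρ.comp H.subtype).ker.map H.subtype with hD
    have hDle : D ≤ H := Subgroup.map_subtype_le _
    haveI : D.Normal := ⟨by
      rintro _ ⟨d, hd, rfl⟩ m
      obtain ⟨a, ha, h, hh, rfl⟩ := hdec m
      have hd' : ρ (d : N) = 1 := hd
      set d' : H := ⟨h, hh⟩ * d * ⟨h, hh⟩⁻¹ with hd'def
      have hρd' : ρ (d' : N) = 1 := by
        show ρ (h * d * h⁻¹) = 1
        rw [map_mul, map_mul, hd', mul_one, ← map_mul, mul_inv_cancel, map_one]
      refine ⟨d', hρd', ?_⟩
      -- an element of the kernel commutes with `a`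
      have hfix : (d' : N) * a * (d' : N)⁻¹ = a := by
        have h0 := hρ (d' : N) ⟨a, ha⟩
        rw [hρd'] at h0
        have h1 := congrArg Subtype.val (Additive.ofMul.injective
          (show Additive.ofMul (⟨a, ha⟩ : P') = Additive.ofMul (MulAut.conjNormal (d' : N) ⟨a, ha⟩) from h0))
        rw [MulAut.conjNormal_apply] at h1
        exact h1.symm
      show (d' : N) = a * h * d * (a * h)⁻¹
      calc (d' : N) = (d' : N) * a * (d' : N)⁻¹ * (d' : N) * a⁻¹ := by group
        _ = a * (d' : N) * a⁻¹ := by rw [hfix]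
        _ = a * (h * d * h⁻¹) * a⁻¹ := rfl
        _ = a * h * d * (a * h)⁻¹ := by group⟩
    have hDK : D ≤ K := CfsgLib.PLocal.le_pPrimeCore (hHcop.coprime_dvd_left (Subgroup.card_dvd_of_le hDle))
    exact fun d hd => hDK ⟨d, hd, rfl⟩
  have hXH : Nat.card X * Nat.card K = Nat.card H := by
    have hr : (ρ.comp H.subtype).range = X := le_antisymm (by rintro _ ⟨h, rfl⟩; exact ⟨_, rfl⟩) (by
      rintro _ ⟨m, rfl⟩
      obtain ⟨h, hh, he⟩ := hρH m
      exact ⟨⟨h, hh⟩, he⟩)
    rw [Subgroup.card_eq_card_quotient_mul_card_subgroup (ρ.comp H.subtype).ker,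
      Nat.card_congr (QuotientGroup.quotientKerEquivRange (ρ.comp H.subtype)).toEquiv, hr, hKker,
      Nat.card_congr (Subgroup.subgroupOfEquivOfLe hKH).toEquiv]
  have hNK : Nat.card (↥N ⧸ K) = p ^ n * Nat.card X := by
    have h1 := Subgroup.card_eq_card_quotient_mul_card_subgroup K
    rw [← hH.card_mul, hP'card, ← hXH, ← mul_assoc] at h1
    exact (Nat.eq_of_mul_eq_mul_right Nat.card_pos h1).symm
  have hXcop : (Nat.card X).Coprime p := hHcop.coprime_dvd_left ⟨_, hXH.symm⟩
  have hXsolv : Group.IsSolvable X := by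
    haveI := hsolv
    refine solvable_of_surjective
      (f := QuotientGroup.lift K ρ.rangeRestrict fun k hk => Subtype.ext (hρK k hk)) ?_
    rintro ⟨_, m, rfl⟩
    exact ⟨QuotientGroup.mk m, rfl⟩
  have hfin : finrank (ZMod p) (Additive P') = n := by
    refine Nat.pow_right_injective hp.two_le ?_
    show p ^ finrank (ZMod p) (Additive P') = p ^ n
    rw [← natCard_space (p := p)]
    exact hP'card
  -- transitivity
  have htrans : SubTransitive X := by
    intro W W' hWW' _
    let S : Submodule (ZMod p) (Additive P') → Subgroup G := fun U =>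
      ((AddSubgroup.toSubgroup' U.toAddSubgroup).map P'.subtype).map N.subtype
    have hS : ∀ U, S U ≤ P := by
      rintro U _ ⟨_, ⟨a, -, rfl⟩, rfl⟩
      exact a.2
    have hScard : ∀ U, Nat.card (S U) = p ^ finrank (ZMod p) U := fun U => by
      rw [← natCard_space (p := p), Subgroup.card_map_of_injective N.subtype_injective,
        Subgroup.card_map_of_injective P'.subtype_injective]
      exact Nat.card_congr ⟨fun a => ⟨Additive.ofMul a.1, a.2⟩, fun a => ⟨a.1.toMul, a.2⟩,
        fun _ => rfl, fun _ => rfl⟩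
    obtain ⟨g, hg⟩ := hC (S W) (S W') (P.2.to_le (hS W)) (P.2.to_le (hS W'))
      (by rw [hScard, hScard, hWW'])
    obtain ⟨m, hm, hmap⟩ := exists_normalizer_conj P hel.1 (hS W) (hS W') g hg
    refine ⟨ρ ⟨m, hm⟩, ⟨_, rfl⟩, ?_⟩
    refine Submodule.eq_of_le_of_finrank_eq ?_ ((finrank_map_unit _ W).trans hWW')
    rintro _ ⟨u, hu, rfl⟩
    have h1 : m * (((u.toMul : P') : N) : G) * m⁻¹ ∈ S W' := by
      rw [hmap]
      exact ⟨_, ⟨_, ⟨u.toMul, hu, rfl⟩, rfl⟩, rfl⟩
    obtain ⟨_, ⟨w, hw, rfl⟩, hwe⟩ := h1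
    have h2 : MulAut.conjNormal (⟨m, hm⟩ : N) u.toMul = w := by
      refine Subtype.ext (Subtype.ext ?_)
      rw [MulAut.conjNormal_apply]
      exact hwe.symm
    show ((ρ ⟨m, hm⟩ : (Module.End (ZMod p) (Additive P'))ˣ) :
      Module.End (ZMod p) (Additive P')) u ∈ W'
    rw [show u = Additive.ofMul u.toMul from rfl, hρ, h2]
    exact hw
  obtain ⟨hn35, e, he⟩ := main hfin hn X hXsolv hXcop htrans
  -- the permutation representation
  have hβ : Function.Bijective (fun a : P' => ((a : N) : N ⧸ H)) := by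
    constructor
    · intro a b hab
      have h1 : (a : N)⁻¹ * (b : N) ∈ P' ⊓ H := ⟨(a⁻¹ * b).2, QuotientGroup.eq.1 hab⟩
      rw [hH.disjoint.eq_bot, Subgroup.mem_bot, inv_mul_eq_one] at h1
      exact Subtype.ext h1
    · intro q
      obtain ⟨m, rfl⟩ := QuotientGroup.mk_surjective q
      obtain ⟨a, ha, h, hh, rfl⟩ := hdec m
      exact ⟨⟨a, ha⟩, QuotientGroup.eq.2 (by simpa using hh)⟩
  let E : GaloisField p n ≃ N ⧸ H :=
    e.symm.toEquiv.trans (Additive.toMul.trans (Equiv.ofBijective _ hβ))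
  let F : N →* Equiv.Perm (GaloisField p n) :=
    (E.symm.permCongrHom.toMonoidHom).comp (MulAction.toPermHom N (N ⧸ H))
  have hFker : K ≤ F.ker := by
    intro k hk
    have h1 : K ≤ H.normalCore := Subgroup.normal_le_normalCore.2 hKH
    rw [Subgroup.normalCore_eq_ker] at h1
    show E.symm.permCongrHom (MulAction.toPermHom N (N ⧸ H) k) = 1
    rw [MonoidHom.mem_ker.1 (h1 hk), map_one]
  let f : ↥N ⧸ K →* Equiv.Perm (GaloisField p n) := QuotientGroup.lift K F hFker
  have hfinj : Function.Injective f := by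
    rw [injective_iff_map_eq_one]
    intro q hq
    obtain ⟨m, rfl⟩ := QuotientGroup.mk_surjective q
    have h1 : MulAction.toPermHom N (N ⧸ H) m = 1 := E.symm.permCongrHom.injective (hq.trans (map_one _).symm)
    rw [← MonoidHom.mem_ker, ← Subgroup.normalCore_eq_ker] at h1
    rw [QuotientGroup.eq_one_iff]
    exact CfsgLib.PLocal.le_pPrimeCore
      (hHcop.coprime_dvd_left (Subgroup.card_dvd_of_le (Subgroup.normalCore_le H))) h1
  have hsemi : ∀ m : N, ∃ c b : GaloisField p n, ∃ φ : GaloisField p n ≃+* GaloisField p n, c ≠ 0 ∧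
      (∀ v, e (((ρ m : (Module.End (ZMod p) (Additive P'))ˣ) : Module.End (ZMod p) (Additive P')) v) =
        c * φ (e v)) ∧ ∀ y, F m y = c * φ y + b := by
    intro m
    obtain ⟨c, φ, hc, heq⟩ := he _ (⟨m, rfl⟩ : ρ m ∈ X)
    obtain ⟨a, ha, h, hh, rfl⟩ := hdec m
    refine ⟨c, e (Additive.ofMul (⟨a, ha⟩ : P')), φ, hc, heq, fun y => ?_⟩
    obtain ⟨x, rfl⟩ : ∃ x : P', e (Additive.ofMul x) = y := ⟨(e.symm y).toMul, e.apply_symm_apply y⟩
    rw [← heq, map_mul ρ, hρP a ha, one_mul, hρ, ← map_add, ← ofMul_mul]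
    show E.symm ((a * h) • E (e (Additive.ofMul x))) = _
    rw [Equiv.symm_apply_eq]
    have hE : ∀ x : P', E (e (Additive.ofMul x)) = ((x : N) : N ⧸ H) := fun x => by
      show ((((e.symm (e (Additive.ofMul x))).toMul : P') : N) : N ⧸ H) = _
      rw [AddEquiv.symm_apply_apply]
      rfl
    rw [hE, hE, MulAction.Quotient.smul_coe, smul_eq_mul, QuotientGroup.eq, Subgroup.coe_mul,
      MulAut.conjNormal_apply]
    have hcx : (a * h * (x : N))⁻¹ * (h * x * h⁻¹ * a) = (a * h * x)⁻¹ * (a * (h * x * h⁻¹)) := by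
      rw [hP'comm _ (hP'n.conj_mem _ x.2 h) a ha]
    rw [hcx, show (a * h * (x : N))⁻¹ * (a * (h * x * h⁻¹)) = h⁻¹ by group]
    exact inv_mem hh
  have hrange : ∀ q, f q ∈ Cfsg.semiaffineGroup (GaloisField p n) := fun q => by
    obtain ⟨m, rfl⟩ := QuotientGroup.mk_surjective q
    obtain ⟨c, b, φ, hc, -, hF⟩ := hsemi m
    exact ⟨Units.mk0 c hc, b, φ, hF⟩
  let f' := f.codRestrict _ hrange
  have hf'inj : Function.Injective f' := fun q q' h => hfinj (congrArg Subtype.val h)
  rcases hn35 with rfl | ⟨rfl, rfl⟩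
  · refine Or.inl ⟨rfl, ⟨f', hf'inj⟩, ?_⟩
    rintro rfl
    have h7 : 7 ∣ Nat.card X := ppd_dvd_card X htrans hfin (by norm_num) ⟨by norm_num, orderOf_two_7⟩
    have hle : Nat.card X ≤ (2 ^ 3 - 1) * 3 :=
      card_le_of_semilinear (by norm_num) e (fun g : X => g.1) Subtype.val_injective fun g => he g.1 g.2
    have hodd : Nat.card X % 2 = 1 := Nat.odd_iff.1 (Nat.coprime_two_right.1 hXcop)
    rcases (show Nat.card X = 7 ∨ Nat.card X = 21 by omega) with hX | hX
    · right
      have hrange' : ∀ q, f q ∈ Cfsg.affineGroup (GaloisField 2 3) := fun q => by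
        obtain ⟨m, rfl⟩ := QuotientGroup.mk_surjective q
        obtain ⟨c, b, φ, hc, heq, hF⟩ := hsemi m
        have hφ : ∀ y, φ y = y := by
          refine linear_of_pow_seven (fun y => c * φ y) c φ (fun _ => rfl) (funext fun y => ?_)
          obtain ⟨v, rfl⟩ := e.surjective y
          have hk : ∀ k, (fun y => c * φ y)^[k] (e v) =
              e ((⇑((ρ m : (Module.End (ZMod 2) (Additive P'))ˣ) : Module.End (ZMod 2) (Additive P')))^[k] v) := by
            intro k
            induction k with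
            | zero => rfl
            | succ k ih => rw [Function.iterate_succ_apply', Function.iterate_succ_apply', ih, heq]
          rw [hk, units_iterate, show (ρ m) ^ 7 = 1 from
            congrArg Subtype.val (hX ▸ pow_card_eq_one' (x := (⟨ρ m, m, rfl⟩ : X)))]
          rfl
        exact ⟨Units.mk0 c hc, b, fun y => (hF y).trans (by rw [hφ y]; rfl)⟩
      refine ⟨MulEquiv.ofBijective (f.codRestrict _ hrange') (Function.Injective.bijective_of_nat_card_le
        (fun q q' h => hfinj (congrArg Subtype.val h)) ?_)⟩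
      rw [hNK, hX]
      exact card_affine_le (by norm_num)
    · left
      refine ⟨MulEquiv.ofBijective f' (hf'inj.bijective_of_nat_card_le ?_)⟩
      rw [hNK, hX]
      exact card_semiaffine_le (by norm_num)
  · refine Or.inr ⟨rfl, rfl, ⟨MulEquiv.ofBijective f' (hf'inj.bijective_of_nat_card_le ?_)⟩⟩
    have h31 : 31 ∣ Nat.card X := ppd_dvd_card X htrans hfin (by norm_num) ⟨by norm_num, orderOf_two_31⟩
    have h5 : 5 ∣ Nat.card X := ppd_pred_dvd_card X htrans hfin (by norm_num) ⟨by norm_num, orderOf_two_5⟩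
    have h155 : 155 ≤ Nat.card X := Nat.le_of_dvd Nat.card_pos (Nat.Coprime.mul_dvd_of_dvd_of_dvd (by norm_num) h31 h5)
    rw [hNK]
    refine (card_semiaffine_le (by norm_num)).trans ?_
    omega


end Cfsg.Agent.S4025
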