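import Cfsg.Statements.S2238
import Cfsg.Agent.SuzukiLocal.Basic
import Cfsg.Agent.Suzuki.Tori

set_option autoImplicit false
open Cfsg

namespace Cfsg.Agent.S2238

open CfsgLib.Suzuki CfsgLib.SuzukiLocal

variable {F : Type*} [Field F] [Fintype F] {m : ℕ}

theorem sizes (hS : SzField F m) : ∃ q r : ℕ, q = 2 ^ (2 * m + 1) ∧ r = 2 ^ (m + 1) ∧
    Fintype.card F = q ∧ 8 ≤ q ∧ r * r = 2 * q ∧ r < q ∧ 4 ≤ r ∧ 2 ∣ r ∧ 2 ∣ q := by
  refine ⟨_, _, rfl, rfl, hS.card_eq, ?_, ?_, ?_, ?_, dvd_pow_self 2 (by omega),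
    dvd_pow_self 2 (by omega)⟩
  · have := hS.eight_le
    rwa [hS.card_eq] at this
  · rw [← pow_add, ← pow_succ']
    congr 1
    omega
  · exact Nat.pow_lt_pow_right (by norm_num) (by have := hS.one_le; omega)
  · calc 4 = 2 ^ 2 := by norm_num
      _ ≤ _ := Nat.pow_le_pow_right (by norm_num) (by have := hS.one_le; omega)

/-- The three orders are odd, larger than `1`, and pairwise coprime. -/
theorem orders_coprime {q r a b : ℕ} (h8 : 8 ≤ q) (hrr : r * r = 2 * q) (hrq : r < q) (h4 : 4 ≤ r)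
    (hr2 : 2 ∣ r) (hq2 : 2 ∣ q) (ha : a ∈ ({q - 1, q + r + 1, q - r + 1} : Set ℕ))
    (hb : b ∈ ({q - 1, q + r + 1, q - r + 1} : Set ℕ)) :
    (1 < a ∧ ¬ 2 ∣ a) ∧ (a ∣ b → a = b) := by
  simp only [Set.mem_insert_iff, Set.mem_singleton_iff] at ha hb
  refine ⟨?_, fun hab => ?_⟩
  · rcases ha with rfl | rfl | rfl <;> omega
  have hprod : (q + r + 1) * (q - r + 1) = q * q + 1 := by
    zify [hrq.le]
    have : (r : ℤ) * r = 2 * q := by exact_mod_cast hrr
    linear_combination -this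
  -- `k ∣ q - 1` and `k ∣ q² + 1` force `k ∣ 2`
  have h1 : ∀ k, k ∣ q - 1 → k ∣ q * q + 1 → k ∣ 2 := by
    intro k hk hk'
    have e : q * q + 1 = (q + 1) * (q - 1) + 2 := by
      obtain ⟨t, rfl⟩ : ∃ t, q = t + 1 := ⟨q - 1, by omega⟩
      simp only [Nat.add_sub_cancel]
      ring
    rw [e] at hk'
    exact (Nat.dvd_add_right (hk.mul_left _)).1 hk'
  have h2 : ∀ k, k ∣ 2 → k ∣ 1 ∨ 2 ∣ k := by
    intro k hk
    rcases (Nat.dvd_prime Nat.prime_two).1 hk with rfl | rfl <;> simp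
  have hdiff : ∀ k, k ∣ q + r + 1 → k ∣ q - r + 1 → k ∣ 2 * r := by
    intro k hk hk'
    have := Nat.dvd_sub hk hk'
    rwa [show q + r + 1 - (q - r + 1) = 2 * r by omega] at this
  have hpm : ∀ k, ¬ 2 ∣ k → k ∣ q + r + 1 → k ∣ q - r + 1 → k ∣ 1 := by
    intro k hodd hk hk'
    have hcop : Nat.Coprime k 2 := ((Nat.prime_two.coprime_iff_not_dvd).2 hodd).symm
    have h3 : k ∣ r := hcop.dvd_of_dvd_mul_left (hdiff k hk hk')
    have h4' : k ∣ 2 * q := hrr ▸ h3.mul_right r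
    have h5 : k ∣ q := hcop.dvd_of_dvd_mul_left h4'
    have h6 : k ∣ q * q + 1 := hprod ▸ hk.mul_right _
    exact (Nat.dvd_add_right (h5.mul_right q)).1 h6
  rcases ha with rfl | rfl | rfl <;> rcases hb with rfl | rfl | rfl
  all_goals first
    | rfl
    | (exfalso
       first
        | (have := h2 _ (h1 _ dvd_rfl (hprod ▸ hab.mul_right _))
           rcases this with h | h
           · have := Nat.le_of_dvd one_pos h; omega
           · omega)
        | (have := h2 _ (h1 _ dvd_rfl (hprod ▸ hab.mul_left _))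
           rcases this with h | h
           · have := Nat.le_of_dvd one_pos h; omega
           · omega)
        | (have := h2 _ (h1 _ hab (hprod ▸ Dvd.intro _ rfl))
           rcases this with h | h
           · have := Nat.le_of_dvd one_pos h; omega
           · omega)
        | (have := h2 _ (h1 _ hab (hprod ▸ Dvd.intro_left _ rfl))
           rcases this with h | h
           · have := Nat.le_of_dvd one_pos h; omega
           · omega)
        | (have := Nat.le_of_dvd one_pos (hpm _ (by omega) dvd_rfl hab); omega)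
        | (have := Nat.le_of_dvd one_pos (hpm _ (by omega) hab dvd_rfl); omega))

/-- Members of the partition. -/
abbrev Member (U : Subgroup ↥(Cfsg.Sz F m)) : Prop :=
  (∃ P : Sylow 2 ↥(Cfsg.Sz F m), U = (P : Subgroup ↥(Cfsg.Sz F m))) ∨
    (IsCyclic ↥U ∧ Nat.card ↥U ∈ ({2 ^ (2 * m + 1) - 1, 2 ^ (2 * m + 1) + 2 ^ (m + 1) + 1,
      2 ^ (2 * m + 1) - 2 ^ (m + 1) + 1} : Set ℕ))

theorem orders_member (hS : SzField F m) {a b : ℕ}
    (ha : a ∈ ({2 ^ (2 * m + 1) - 1, 2 ^ (2 * m + 1) + 2 ^ (m + 1) + 1,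
      2 ^ (2 * m + 1) - 2 ^ (m + 1) + 1} : Set ℕ))
    (hb : b ∈ ({2 ^ (2 * m + 1) - 1, 2 ^ (2 * m + 1) + 2 ^ (m + 1) + 1,
      2 ^ (2 * m + 1) - 2 ^ (m + 1) + 1} : Set ℕ)) :
    (1 < a ∧ ¬ 2 ∣ a) ∧ (a ∣ b → a = b) := by
  obtain ⟨q, r, rfl, rfl, -, h8, hrr, hrq, h4, hr2, hq2⟩ := sizes hS
  exact orders_coprime h8 hrr hrq h4 hr2 hq2 ha hb

/-- The order of an anisotropic torus. -/
theorem card_cT_mem (hS : SzField F m) {z : ↥(Cfsg.Sz F m)} (hz : IsAnisElt z) :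
    Nat.card (cT z) ∈ ({2 ^ (2 * m + 1) - 1, 2 ^ (2 * m + 1) + 2 ^ (m + 1) + 1,
      2 ^ (2 * m + 1) - 2 ^ (m + 1) + 1} : Set ℕ) := by
  obtain ⟨q, r, hq, hr, hqF, h8, hrr, hrq, -⟩ := sizes hS
  have h5 := hz.five_le hS
  obtain ⟨s, hs, hsd⟩ := Nat.exists_prime_and_dvd (show Nat.card (cT z) ≠ 1 by omega)
  have hd := hsd.trans (hz.card_dvd hS)
  have hprod : (q + r + 1) * (q - r + 1) = Fintype.card F ^ 2 + 1 := by
    rw [hqF]
    zify [hrq.le]
    have : (r : ℤ) * r = 2 * q := by exact_mod_cast hrr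
    linear_combination -this
  rw [← hprod] at hd
  rw [← hq, ← hr]
  rcases hs.dvd_mul.1 hd with h | h
  · obtain ⟨z', hz', hc', -⟩ := exists_torus hS (k := q + r + 1) (Or.inl (by rw [hqF, hr]))
    rw [hz.card_eq_of_dvd hS hz' hs hsd (hc' ▸ h), hc']
    simp
  · obtain ⟨z', hz', hc', -⟩ := exists_torus hS (k := q - r + 1) (Or.inr (by rw [hqF, hr]))
    rw [hz.card_eq_of_dvd hS hz' hs hsd (hc' ▸ h), hc']
    simp

theorem card_range_torSz (hS : SzField F m) :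
    Nat.card (torSz (F := F) hS).range = 2 ^ (2 * m + 1) - 1 := by
  rw [Nat.card_congr (MonoidHom.ofInjective (torSz_injective hS)).toEquiv.symm, Nat.card_units,
    Nat.card_eq_fintype_card, hS.card_eq]

/-- A member other than a Sylow subgroup containing `g ≠ 1` has odd order prime to `2`. -/
theorem not_two_group_of_cyclic (hS : SzField F m) {U : Subgroup ↥(Cfsg.Sz F m)}
    (hU : Nat.card ↥U ∈ ({2 ^ (2 * m + 1) - 1, 2 ^ (2 * m + 1) + 2 ^ (m + 1) + 1,
      2 ^ (2 * m + 1) - 2 ^ (m + 1) + 1} : Set ℕ)) {g : ↥(Cfsg.Sz F m)} (hg : g ∈ U) {k : ℕ}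
    (h : orderOf g = 2 ^ k) : g = 1 := by
  have hd : orderOf g ∣ Nat.card U := Subgroup.orderOf_dvd_natCard U hg
  rw [← orderOf_eq_one_iff, h]
  rcases Nat.eq_zero_or_pos k with rfl | hk
  · rfl
  · exact absurd ((dvd_pow_self 2 hk.ne').trans (h ▸ hd)) (orders_member hS hU hU).1.2

/-- The partition of the Suzuki group: with q = 2^(2m+1), m ≥ 1, r = 2^m and the Suzuki group realised as the stabiliser in SL₄ of the Suzuki–Tits ovoid, every non-identity element lies in exactly one subgroup that is either a Sylow 2-subgroup or a cyclic subgroup of order q − 1, q + 2r + 1 or q − 2r + 1. -/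
theorem result {F : Type*} [Field F] [Fintype F] {m : ℕ} (hm : 1 ≤ m) (hF : Fintype.card F = 2 ^ (2 * m + 1)) (g : ↥(Cfsg.Sz F m)) (hg : g ≠ 1) :
    ∃! U : Subgroup ↥(Cfsg.Sz F m), ((∃ P : Sylow 2 ↥(Cfsg.Sz F m), U = (P : Subgroup ↥(Cfsg.Sz F m))) ∨
      (IsCyclic ↥U ∧ Nat.card ↥U ∈ ({2 ^ (2 * m + 1) - 1, 2 ^ (2 * m + 1) + 2 ^ (m + 1) + 1, 2 ^ (2 * m + 1) - 2 ^ (m + 1) + 1} : Set ℕ))) ∧ g ∈ U := by
  classical
  have hS : SzField F m := ⟨hm, hF⟩
  have : Fact (Nat.Prime 2) := ⟨Nat.prime_two⟩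
  by_cases hfix : FixesPoint g
  · obtain ⟨k, hk⟩ := fixesPoint_cases hS hg hfix
    rcases hk with ⟨a, b, e⟩ | ⟨μ, hμ, e⟩
    · -- a 2-element
      have hne : uniEl hS a b ≠ 1 := fun h => hg (by
        rw [← e, mul_inv_eq_one, mul_eq_left] at h; exact h)
      set P : Sylow 2 ↥(Cfsg.Sz F m) := k⁻¹ • uniSylow hS with hP
      have hgP : g ∈ (P : Subgroup ↥(Cfsg.Sz F m)) := by
        rw [hP, Sylow.coe_subgroup_smul, uniSylow_coe hS]
        refine ⟨uniEl hS a b, uniEl_mem hS a b, ?_⟩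
        show k⁻¹ * uniEl hS a b * k⁻¹⁻¹ = g
        rw [← e]; group
      obtain ⟨j, hj⟩ := P.isPGroup' ⟨g, hgP⟩
      obtain ⟨i, -, hi⟩ := (Nat.dvd_prime_pow Nat.prime_two).1 (orderOf_dvd_of_pow_eq_one
        (congrArg Subtype.val hj : g ^ 2 ^ j = 1))
      refine ⟨P, ⟨Or.inl ⟨P, rfl⟩, hgP⟩, ?_⟩
      rintro U ⟨(⟨P', rfl⟩ | ⟨-, hU⟩), hgU⟩
      · obtain ⟨l, hl⟩ := exists_conj_sylow hS P'
        rw [hl] at hgU ⊢
        obtain ⟨_, ⟨c, d, rfl⟩, hu⟩ := hgU
        simp only [MulEquiv.coe_toMonoidHom, MulAut.conj_apply] at hu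
        have hmem : (l⁻¹ * k⁻¹) * uniEl hS a b * (l⁻¹ * k⁻¹)⁻¹ ∈ uniSub hS := by
          rw [← e, ← hu, show l⁻¹ * k⁻¹ * (k * (l * uniEl hS c d * l⁻¹) * k⁻¹) * (l⁻¹ * k⁻¹)⁻¹ =
            uniEl hS c d by group]
          exact uniEl_mem hS c d
        have h2 := map_conj_uniSub hS (fix_infinity_of_conj_mem hS hne hmem)
        rw [hP, Sylow.coe_subgroup_smul, uniSylow_coe hS]
        conv_lhs => rw [← h2, Subgroup.map_map]
        refine congrArg (fun f => Subgroup.map f (uniSub hS)) (MonoidHom.ext fun x => ?_)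
        show l * (l⁻¹ * k⁻¹ * x * (l⁻¹ * k⁻¹)⁻¹) * l⁻¹ = k⁻¹ * x * k⁻¹⁻¹
        group
      · exact absurd (not_two_group_of_cyclic hS hU hgU hi) hg
    · -- a split torus element
      set τ := (torSz (F := F) hS).range with hτ
      set V := τ.map (MulAut.conj k⁻¹).toMonoidHom with hV
      have hVcard : Nat.card V = 2 ^ (2 * m + 1) - 1 := by
        rw [hV, ← Nat.card_congr (τ.equivMapOfInjective _ (MulAut.conj k⁻¹).injective).toEquiv, hτ,
          card_range_torSz hS]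
      have hgV : g ∈ V := ⟨torSz hS μ, ⟨μ, rfl⟩, by
        show k⁻¹ * torSz hS μ * k⁻¹⁻¹ = g
        rw [← e]; group⟩
      have hVcyc : IsCyclic V :=
        have : IsCyclic τ := isCyclic_of_surjective _ (MonoidHom.rangeRestrict_surjective _)
        isCyclic_of_surjective _ (τ.equivMapOfInjective _ (MulAut.conj k⁻¹).injective).surjective
      refine ⟨V, ⟨Or.inr ⟨hVcyc, by rw [hVcard]; simp⟩, hgV⟩, ?_⟩
      rintro U ⟨(⟨P, rfl⟩ | ⟨hUc, hU⟩), hgU⟩
      · obtain ⟨j, hj⟩ := P.isPGroup' ⟨g, hgU⟩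
        obtain ⟨i, -, hi⟩ := (Nat.dvd_prime_pow Nat.prime_two).1 (orderOf_dvd_of_pow_eq_one
          (congrArg Subtype.val hj : g ^ 2 ^ j = 1))
        exact absurd (not_two_group_of_cyclic hS (by rw [hVcard]; simp) hgV hi) hg
      · have hle : U ≤ V := by
          intro x hx
          have hcomm : x * g = g * x := by
            let := IsCyclic.commGroup (α := U)
            exact congrArg Subtype.val (mul_comm (⟨x, hx⟩ : U) ⟨g, hgU⟩)
          have hx' : k * x * k⁻¹ ∈ Subgroup.centralizer ({torSz hS μ} : Set ↥(Cfsg.Sz F m)) := by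
            rw [Subgroup.mem_centralizer_singleton_iff, ← e]
            calc k * x * k⁻¹ * (k * g * k⁻¹) = k * (x * g) * k⁻¹ := by group
              _ = k * (g * x) * k⁻¹ := by rw [hcomm]
              _ = _ := by group
          rw [centralizer_torSz hS hμ] at hx'
          exact ⟨k * x * k⁻¹, hx', by show k⁻¹ * (k * x * k⁻¹) * k⁻¹⁻¹ = x; group⟩
        refine Subgroup.eq_of_le_of_card_ge hle (le_of_eq ?_)
        exact ((orders_member hS hU (by rw [hVcard]; simp)).2 (Subgroup.card_dvd_of_le hle)).symm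
  · -- an anisotropic element
    obtain ⟨p, z, hp, hzo, hle⟩ := exists_anis_of_not_fixesPoint hS hg hfix
    have hz : IsAnisElt z := by rw [IsAnisElt, hzo]; exact hp
    have hgT : g ∈ cT z := hle (Subgroup.mem_centralizer_singleton_iff.2 rfl)
    refine ⟨cT z, ⟨Or.inr ⟨hz.cyclic hS, card_cT_mem hS hz⟩, hgT⟩, ?_⟩
    rintro U ⟨(⟨P, rfl⟩ | ⟨hUc, hU⟩), hgU⟩
    · obtain ⟨j, hj⟩ := P.isPGroup' ⟨g, hgU⟩
      obtain ⟨i, -, hi⟩ := (Nat.dvd_prime_pow Nat.prime_two).1 (orderOf_dvd_of_pow_eq_one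
        (congrArg Subtype.val hj : g ^ 2 ^ j = 1))
      exact absurd (not_two_group_of_cyclic hS (card_cT_mem hS hz) hgT hi) hg
    · have hle' : U ≤ cT z := fun x hx => hle (by
        rw [Subgroup.mem_centralizer_singleton_iff]
        let := IsCyclic.commGroup (α := U)
        exact congrArg Subtype.val (mul_comm (⟨x, hx⟩ : U) ⟨g, hgU⟩))
      exact Subgroup.eq_of_le_of_card_ge hle'
        ((orders_member hS hU (card_cT_mem hS hz)).2 (Subgroup.card_dvd_of_le hle')).ge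

end Cfsg.Agent.S2238
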