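import Cfsg.Statements.S4964
import Cfsg.Agent.BlocksCharsC.RegularSupport
import Cfsg.Agent.BlocksLocal.NormalAverage
import Cfsg.Agent.Blocks.Defect
import Cfsg.Agent.CentralDefect.Basic
import Cfsg.Agent.Coprime.Action
import Cfsg.Agent.Solvable.Frattini

set_option autoImplicit false
set_option linter.style.haveILetI false
set_option linter.unusedSectionVars false
open Cfsg

namespace Cfsg.Agent.S4964

open CfsgLib CfsgLib.Blocks

/-- Two characters lie in one block when their central characters agree on the `p`-regular elements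
centralizing a normal `p`-subgroup. -/
theorem sameBlock_of_regular_centralizing {G : Type*} [Group G] [Fintype G] {M : Ideal Cfsg.AlgInt}
    [M.IsPrime] {p : ℕ} [Fact p.Prime] (hM : Cfsg.IsPModular p M) (Q : Subgroup G) [Q.Normal]
    (hQ : IsPGroup p Q) {χ ψ : Cfsg.IrrCharacter G}
    (h : ∀ g : G, ¬ p ∣ orderOf g → g ∈ Subgroup.centralizer (Q : Set G) →
      Cfsg.MemLocalIdeal M (Cfsg.centralChar (χ : G → ℂ) g - Cfsg.centralChar (ψ : G → ℂ) g)) :
    Cfsg.SameBlock M (χ : G → ℂ) (ψ : G → ℂ) := by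
  classical
  haveI := Fintype.ofFinite (ConjClasses G)
  have hB := isBlockUnion_of_isPBlock (isPBlock_blockOf (M := M) χ)
  set B := Cfsg.blockOf M (χ : G → ℂ)
  have key : omegaBar M χ (idemBar M B hB) = omegaBar M ψ (idemBar M B hB) := by
    rw [eq_sum_classSum (idemBar M B hB), map_sum, map_sum]
    refine Finset.sum_congr rfl fun C _ => ?_
    obtain ⟨g, rfl⟩ := ConjClasses.mk_surjective C
    rw [map_mul, map_mul, omegaBar_scalar, omegaBar_scalar, classCoeff_mk]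
    by_cases hgQ : g ∈ Subgroup.centralizer (Q : Set G)
    · by_cases hg : p ∣ orderOf g
      · rw [coeff_idemBar]
        have h0 : (⟨Cfsg.blockCoeff B g, memLocalRing_blockCoeff hB g⟩ : localRing M) = 0 :=
          Subtype.ext (BlocksCharsC.blockCoeff_eq_zero hM hB hg)
        rw [h0, map_zero, zero_mul, zero_mul]
      · rw [omegaBar_classSum, omegaBar_classSum]
        exact congrArg _ (red_eq_red_iff.2 (h g hg hgQ))
    · rw [coeff_idemBar_eq_zero_of_notMem_centralizer hM hB Q hQ hgQ, zero_mul, zero_mul]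
  rw [omegaBar_idemBar, omegaBar_idemBar, if_pos (mem_blockOf_self χ)] at key
  by_contra hne
  rw [if_neg (show ψ ∉ B from hne)] at key
  exact one_ne_zero key

variable {G : Type*} [Group G] [Finite G] {p : ℕ} [hp : Fact p.Prime]

/-- A `p`-regular element of a quotient lifts to a `p`-regular element. -/
theorem exists_regular_lift (N : Subgroup G) [N.Normal] {y : G ⧸ N} (hy : ¬ p ∣ orderOf y) :
    ∃ g : G, ¬ p ∣ orderOf g ∧ (g : G ⧸ N) = y := by
  obtain ⟨g₀, rfl⟩ := QuotientGroup.mk_surjective y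
  obtain ⟨a, b, hb, hab⟩ :=
    Nat.exists_eq_pow_mul_and_not_dvd (orderOf_pos g₀).ne' p hp.out.ne_one
  have hcop : Nat.Coprime (p ^ a) b :=
    Nat.Coprime.pow_left a (hp.out.coprime_iff_not_dvd.2 hb)
  obtain ⟨m, hm0, hm1⟩ := Nat.chineseRemainder hcop 0 1
  refine ⟨g₀ ^ m, fun hd => hb (hd.trans (orderOf_dvd_of_pow_eq_one ?_)), ?_⟩
  · obtain ⟨c, hc⟩ := Nat.modEq_zero_iff_dvd.1 hm0
    rw [← pow_mul, ← orderOf_dvd_iff_pow_eq_one, hab, hc, mul_assoc]
    exact Nat.mul_dvd_mul_left _ (dvd_mul_left b c)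
  · have hnb : orderOf (g₀ : G ⧸ N) ∣ b := by
      have h1 : orderOf (g₀ : G ⧸ N) ∣ orderOf g₀ := orderOf_map_dvd (QuotientGroup.mk' N) g₀
      rw [hab] at h1
      exact ((Nat.Coprime.pow_left a (hp.out.coprime_iff_not_dvd.2 hy)).symm).dvd_of_dvd_mul_left h1
    have h2 := (pow_eq_pow_iff_modEq (x := (g₀ : G ⧸ N))).2 (hm1.of_dvd hnb)
    rwa [pow_one, ← QuotientGroup.mk_pow] at h2

variable (D : Subgroup G) [D.Normal]

theorem commute_of_mem_centralizer_quotient (hD : IsPGroup p D) {g : G} (hg : ¬ p ∣ orderOf g)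
    (hgc : (g : G ⧸ ⁅D, D⁆) ∈ Subgroup.centralizer
      ((D.map (QuotientGroup.mk' ⁅D, D⁆) : Subgroup (G ⧸ ⁅D, D⁆)) : Set (G ⧸ ⁅D, D⁆))) :
    g ∈ Subgroup.centralizer (D : Set G) := by
  have hA : Subgroup.zpowers g ≤ Subgroup.normalizer (D : Set G) := by
    rw [Subgroup.normalizer_eq_top]
    exact le_top
  obtain ⟨n, hn⟩ := IsPGroup.iff_card.1 (hD.to_subgroup (frattini D))
  have hcop : (Nat.card (Subgroup.zpowers g)).Coprime (Nat.card (frattini D)) := by
    rw [Nat.card_zpowers, hn]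
    exact ((hp.out.coprime_iff_not_dvd.2 hg).pow_left n).symm
  have hle : ⁅D, Subgroup.zpowers g⁆ ≤ (frattini D).map D.subtype := by
    refine le_trans ?_ (Subgroup.map_mono (CfsgLib.Solvable.commutator_le_frattini hD))
    rw [Subgroup.map_subtype_commutator, Subgroup.commutator_le]
    intro d hd a ha
    obtain ⟨i, rfl⟩ := Subgroup.mem_zpowers_iff.1 ha
    rw [← QuotientGroup.eq_one_iff]
    have hc := Subgroup.mem_centralizer_iff.1 ((Subgroup.zpow_mem _ hgc i))
      (d : G ⧸ ⁅D, D⁆) (Subgroup.mem_map_of_mem (QuotientGroup.mk' ⁅D, D⁆) hd)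
    change QuotientGroup.mk' ⁅D, D⁆ (d * g ^ i * d⁻¹ * (g ^ i)⁻¹) = 1
    simp only [map_mul, map_inv, map_zpow, QuotientGroup.mk'_apply]
    rw [hc, mul_inv_cancel_right, mul_inv_cancel]
  exact CfsgLib.Coprime.le_centralizer_of_commutator_le_frattini hA hcop hle
    (Subgroup.mem_zpowers g)

theorem index_centralizer_eq (hD : IsPGroup p D) {g : G} (hg : ¬ p ∣ orderOf g)
    (hgc : g ∈ Subgroup.centralizer (D : Set G)) :
    (Subgroup.centralizer ({(g : G ⧸ ⁅D, D⁆)} : Set (G ⧸ ⁅D, D⁆))).index =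
      (Subgroup.centralizer ({g} : Set G)).index := by
  rw [← Subgroup.index_comap_of_surjective _ (QuotientGroup.mk'_surjective ⁅D, D⁆)]
  congr 1
  ext x
  simp only [Subgroup.mem_comap, Subgroup.mem_centralizer_singleton_iff, QuotientGroup.mk'_apply,
    ← QuotientGroup.mk_mul]
  refine ⟨fun h => ?_, fun h => by rw [h]⟩
  set n := g⁻¹ * (x * g * x⁻¹) with hn
  have hnN : n ∈ ⁅D, D⁆ := by
    rw [← QuotientGroup.eq_one_iff, hn, ← mul_assoc]
    simp only [QuotientGroup.mk_mul, QuotientGroup.mk_inv]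
    rw [show (x : G ⧸ ⁅D, D⁆) * g = ((x * g : G) : G ⧸ ⁅D, D⁆) from rfl, h, QuotientGroup.mk_mul]
    simp
  have hnD : n ∈ D := Subgroup.commutator_le_right D D hnN
  have hcomm : Commute g n := ((Subgroup.mem_centralizer_iff.1 hgc) n hnD).symm
  have hpow : n ^ orderOf g = 1 := by
    have h1 : (g * n) ^ orderOf g = 1 := by
      rw [hn, mul_inv_cancel_left, conj_pow, pow_orderOf_eq_one, mul_one, mul_inv_cancel]
    rwa [hcomm.mul_pow, pow_orderOf_eq_one, one_mul] at h1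
  have h1 : n = 1 := by
    obtain ⟨k, hk⟩ := hD ⟨n, hnD⟩
    have hk' : n ^ p ^ k = 1 := congrArg Subtype.val hk
    rw [← orderOf_eq_one_iff]
    exact Nat.eq_one_of_dvd_coprimes ((hp.out.coprime_iff_not_dvd.2 hg).pow_left k)
      (orderOf_dvd_of_pow_eq_one hk') (orderOf_dvd_of_pow_eq_one hpow)
  rw [hn, inv_mul_eq_one, eq_comm, mul_inv_eq_iff_eq_mul] at h1
  exact h1


/-- Let D be a normal p-subgroup of the finite group G, let D′ be its commutator subgroup (normal in G), and fix a maximal ideal M of the algebraic integers containing p. Then (i) two irreducible characters of G ⧸ D′ lie in the same p-block if and only if their inflations to G do, and (ii) every p-block of G contains the inflation of some irreducible character of G ⧸ D′; so inflation induces a bijection between the p-blocks of G ⧸ D′ and the p-blocks of G. -/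
theorem result {G : Type*} [Group G] [Finite G] (p : ℕ) [Fact p.Prime] (M : Ideal Cfsg.AlgInt) (hM : Cfsg.IsPModular p M) (D : Subgroup G) [D.Normal] (hD : IsPGroup p D) : (∀ χ ψ : Cfsg.IrrCharacter (G ⧸ ⁅D, D⁆), Cfsg.SameBlock M (χ : G ⧸ ⁅D, D⁆ → ℂ) (ψ : G ⧸ ⁅D, D⁆ → ℂ) ↔ Cfsg.SameBlock M ((χ : G ⧸ ⁅D, D⁆ → ℂ) ∘ QuotientGroup.mk) ((ψ : G ⧸ ⁅D, D⁆ → ℂ) ∘ QuotientGroup.mk)) ∧ ∀ B : Set (Cfsg.IrrCharacter G), Cfsg.IsPBlock M B → ∃ χ : Cfsg.IrrCharacter (G ⧸ ⁅D, D⁆), ∃ θ ∈ B, (θ : G → ℂ) = (χ : G ⧸ ⁅D, D⁆ → ℂ) ∘ QuotientGroup.mk := by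
  classical
  haveI := Fintype.ofFinite G
  haveI := Fintype.ofFinite (G ⧸ ⁅D, D⁆)
  haveI : M.IsPrime := hM.2.1.isPrime
  refine ⟨fun χ ψ => ⟨fun h => CfsgLib.BlocksLocal.sameBlock_infl ⁅D, D⁆ h, fun h => ?_⟩, fun B hB => ?_⟩
  · haveI : (D.map (QuotientGroup.mk' ⁅D, D⁆)).Normal :=
      Subgroup.Normal.map ‹D.Normal› _ (QuotientGroup.mk'_surjective _)
    refine sameBlock_of_regular_centralizing hM (D.map (QuotientGroup.mk' ⁅D, D⁆)) (hD.map _)
      fun y hy hyc => ?_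
    obtain ⟨g, hg, rfl⟩ := exists_regular_lift ⁅D, D⁆ hy
    have hgc := commute_of_mem_centralizer_quotient D hD hg hyc
    have e : ∀ φ : Cfsg.IrrCharacter (G ⧸ ⁅D, D⁆),
        Cfsg.centralChar ((φ : G ⧸ ⁅D, D⁆ → ℂ) ∘ QuotientGroup.mk) g =
          Cfsg.centralChar (φ : G ⧸ ⁅D, D⁆ → ℂ) (g : G ⧸ ⁅D, D⁆) := fun φ => by
      simp [Cfsg.centralChar, index_centralizer_eq D hD hg hgc]
    rw [← e, ← e]
    exact h g
  · haveI : (⁅D, D⁆ : Subgroup G).Normal := inferInstance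
    obtain ⟨θ, hθ, hker⟩ := CfsgLib.CentralDefect.exists_kerContains hM hB ⁅D, D⁆
      (hD.to_le (Subgroup.commutator_le_right D D))
    obtain ⟨χ, hχ, hval⟩ := CfsgLib.Characters.exists_irr_quotient ⁅D, D⁆ θ.2 hker
    exact ⟨⟨χ, hχ⟩, θ, hθ, funext hval⟩

end Cfsg.Agent.S4964
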