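import Cfsg.Statements.S5887

set_option autoImplicit false
open Cfsg

namespace Cfsg.Agent.S5887

open scoped MatrixGroups Matrix

variable {F : Type*} [Field F] [Fintype F] {n : ℕ}

local notation "Mat" => Matrix (Fin n) (Fin n) F

/-- for fields `A ⊊ B` of matrices, a determinant-one element centralises `A` and does not normalise `B` -/
lemma exists_centralizing_not_normalizing (A B : Subalgebra F Mat)
    (hAcomm : ∀ x ∈ A, ∀ y ∈ A, x * y = y * x)
    (hAinv : ∀ x ∈ A, x ≠ 0 → ∃ y ∈ A, x * y = 1)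
    (hBinv : ∀ x ∈ B, x ≠ 0 → ∃ y ∈ B, x * y = 1)
    (hBcomm : ∀ x ∈ B, ∀ y ∈ B, x * y = y * x)
    (hAB : A ≤ B) (k : Mat) (hk : k ∈ B) (hkA : k ∉ A) (hdim : Module.finrank F B < n) :
    ∃ g : GL (Fin n) F, (∀ a ∈ A, (g : Mat) * a = a * (g : Mat)) ∧
      g ∈ Cfsg.Geo.specialLinear (Fin n) F ∧ g ∉ Cfsg.Geo.subalgebraNormalizer B := by
  classical
  have hn : 0 < n := by omega
  haveI : Nonempty (Fin n) := ⟨⟨0, hn⟩⟩
  let hfld : IsField A :=
    { exists_pair_ne := ⟨0, 1, fun h => zero_ne_one (congrArg Subtype.val h)⟩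
      mul_comm := fun x y => Subtype.ext (hAcomm x.1 x.2 y.1 y.2)
      mul_inv_cancel := fun {x} hx => by
        obtain ⟨y, hy, h⟩ := hAinv x.1 x.2 (fun h => hx (Subtype.ext h))
        exact ⟨⟨y, hy⟩, Subtype.ext h⟩ }
  letI : Field A := hfld.toField
  letI : Module A (Fin n → F) :=
    { smul := fun a v => (a : Mat) *ᵥ v
      one_smul := fun v => Matrix.one_mulVec v
      mul_smul := fun a b v => (Matrix.mulVec_mulVec v (a : Mat) (b : Mat)).symm
      smul_zero := fun a => Matrix.mulVec_zero (a : Mat)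
      smul_add := fun a v w => Matrix.mulVec_add (a : Mat) v w
      add_smul := fun a b v => Matrix.add_mulVec (a : Mat) (b : Mat) v
      zero_smul := fun v => Matrix.zero_mulVec v }
  have hsmul : ∀ (a : A) (v : Fin n → F), a • v = (a : Mat) *ᵥ v := fun _ _ => rfl
  let x : Fin n → F := Pi.single ⟨0, hn⟩ 1
  have hx : x ≠ 0 := fun h => by
    have h2 := congrFun h ⟨0, hn⟩
    simp only [x, Pi.single_eq_same] at h2
    exact one_ne_zero (h2.trans rfl)
  let ev : B →ₗ[F] (Fin n → F) :=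
    { toFun := fun b => (b : Mat) *ᵥ x
      map_add' := fun a b => Matrix.add_mulVec (a : Mat) (b : Mat) x
      map_smul' := fun c b => Matrix.smul_mulVec c (b : Mat) x }
  obtain ⟨y, hy⟩ : ∃ y, y ∉ LinearMap.range ev := by
    by_contra h
    push Not at h
    have h1 : LinearMap.range ev = ⊤ := Submodule.eq_top_iff'.2 h
    have h2 := LinearMap.finrank_range_le ev
    rw [h1, finrank_top] at h2
    simp at h2
    omega
  have hB0 : ∀ b ∈ B, b *ᵥ x = 0 → b = 0 := by
    intro b hb hbx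
    by_contra h0
    obtain ⟨c, hc, hbc⟩ := hBinv b hb h0
    apply hx
    have hcb : c * b = 1 := by rw [← hBcomm b hb c hc, hbc]
    rw [← Matrix.one_mulVec x, ← hcb, ← Matrix.mulVec_mulVec, hbx, Matrix.mulVec_zero]
  let S : Submodule A (Fin n → F) := Submodule.span A {k *ᵥ x, y}
  have hxS : x ∉ S := by
    intro h
    obtain ⟨a, b, hab⟩ := Submodule.mem_span_pair.1 h
    rw [hsmul, hsmul, Matrix.mulVec_mulVec] at hab
    by_cases hb : (b : Mat) = 0
    · rw [hb, Matrix.zero_mulVec, add_zero] at hab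
      have h1 : ((a : Mat) * k - 1) *ᵥ x = 0 := by
        rw [Matrix.sub_mulVec, Matrix.one_mulVec, hab, sub_self]
      have h2 := hB0 _ (B.sub_mem (B.mul_mem (hAB a.2) hk) B.one_mem) h1
      rw [sub_eq_zero] at h2
      have ha0 : (a : Mat) ≠ 0 := by
        intro ha; rw [ha, zero_mul] at h2; exact zero_ne_one h2
      obtain ⟨c, hc, hac⟩ := hAinv _ a.2 ha0
      apply hkA
      have hca : c * (a : Mat) = 1 := by rw [← hAcomm _ a.2 c hc, hac]
      have : k = c := by rw [← one_mul k, ← hca, mul_assoc, h2, mul_one]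
      rw [this]; exact hc
    · obtain ⟨c, hc, hbc⟩ := hAinv _ b.2 hb
      apply hy
      refine ⟨⟨c * (1 - (a : Mat) * k), B.mul_mem (hAB hc)
        (B.sub_mem B.one_mem (B.mul_mem (hAB a.2) hk))⟩, ?_⟩
      show (c * (1 - (a : Mat) * k)) *ᵥ x = y
      rw [← Matrix.mulVec_mulVec, Matrix.sub_mulVec, Matrix.one_mulVec]
      conv_lhs => arg 2; arg 1; rw [← hab]
      rw [add_sub_cancel_left, Matrix.mulVec_mulVec, ← hAcomm _ b.2 c hc, hbc, Matrix.one_mulVec]
  obtain ⟨φ, hφS, hφx⟩ : ∃ φ : (Fin n → F) →ₗ[A] A, (∀ v ∈ S, φ v = 0) ∧ φ x = 1 := by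
    obtain ⟨f, hf, hfS⟩ := Submodule.exists_dual_map_eq_bot_of_notMem hxS inferInstance
    refine ⟨(f x)⁻¹ • f, fun v hv => ?_, ?_⟩
    · have h0 : f v = 0 := by
        have : f v ∈ S.map f := Submodule.mem_map_of_mem hv
        rw [hfS] at this
        simpa using this
      simp [h0]
    · simp [inv_mul_cancel₀ hf]
  let N' : (Fin n → F) →ₗ[F] (Fin n → F) :=
    { toFun := fun v => φ v • y
      map_add' := fun u v => by rw [map_add, add_smul]
      map_smul' := fun c v => by
        have hca : ∀ w : Fin n → F, c • w = (algebraMap F A c) • w := fun w => by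
          rw [hsmul]
          show c • w = (algebraMap F Mat c) *ᵥ w
          rw [Algebra.algebraMap_eq_smul_one, Matrix.smul_mulVec, Matrix.one_mulVec]
        rw [RingHom.id_apply, hca v, map_smul, smul_eq_mul, mul_smul, ← hca] }
  let N : Mat := LinearMap.toMatrix' N'
  have hN : ∀ v, N *ᵥ v = φ v • y := fun v => by
    rw [LinearMap.toMatrix'_mulVec]; rfl
  have hNN : N * N = 0 := by
    apply Matrix.ext_of_mulVec_single
    intro i
    rw [← Matrix.mulVec_mulVec, hN, hN, map_smul, hφS y (Submodule.subset_span (by simp)),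
      smul_zero, zero_smul, Matrix.zero_mulVec]
  have hpow : ∀ m : ℕ, (1 + N) ^ m = 1 + m • N := by
    intro m
    induction m with
    | zero => simp
    | succ m ih =>
      rw [pow_succ, ih, mul_add, mul_one, add_mul, one_mul, smul_mul_assoc, hNN, smul_zero,
        add_zero, succ_nsmul]
      abel
  obtain ⟨p, hp⟩ := CharP.exists F
  haveI : Fact p.Prime := ⟨CharP.char_is_prime F p⟩
  have hpN : p • N = 0 := by
    ext i j
    rw [Matrix.smul_apply, nsmul_eq_mul, CharP.cast_eq_zero, zero_mul, Matrix.zero_apply]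
  have hdet : (1 + N).det = 1 := by
    have h1 : ((1 + N) ^ p).det = 1 := by rw [hpow, hpN, add_zero, Matrix.det_one]
    rw [Matrix.det_pow] at h1
    exact frobenius_inj F p (by simpa [frobenius_def] using h1)
  let g : GL (Fin n) F := Matrix.GeneralLinearGroup.mkOfDetNeZero (1 + N) (by rw [hdet]; exact one_ne_zero)
  have hg : (g : Mat) = 1 + N := rfl
  refine ⟨g, fun a ha => ?_, ?_, fun hnorm => ?_⟩
  · rw [hg, add_mul, mul_add, one_mul, mul_one]
    congr 1
    apply Matrix.ext_of_mulVec_single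
    intro i
    rw [← Matrix.mulVec_mulVec, ← Matrix.mulVec_mulVec, hN, hN, ← hsmul ⟨a, ha⟩,
      ← hsmul ⟨a, ha⟩, map_smul, smul_eq_mul, mul_smul]
  · show Matrix.GeneralLinearGroup.det g = 1
    apply Units.ext
    simpa [hg] using hdet
  · have hk' := (hnorm k).1 hk
    set k' := (g : Mat) * k * ((g⁻¹ : GL (Fin n) F) : Mat) with hk'def
    have e : k' * (g : Mat) = (g : Mat) * k := by
      rw [hk'def, mul_assoc, ← Units.val_mul, inv_mul_cancel, Units.val_one, mul_one]
    have h1 := congrArg (· *ᵥ x) e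
    simp only [← Matrix.mulVec_mulVec, hg, Matrix.add_mulVec, Matrix.one_mulVec, hN, hφx,
      one_smul, hφS (k *ᵥ x) (Submodule.subset_span (by simp)), zero_smul, add_zero,
      Matrix.mulVec_add] at h1
    by_cases h0 : k' = 0
    · rw [h0, Matrix.zero_mulVec, Matrix.zero_mulVec, add_zero] at h1
      apply hkA
      rw [hB0 k hk h1.symm]
      exact A.zero_mem
    · obtain ⟨c, hc, hcc⟩ := hBinv k' hk' h0
      apply hy
      refine ⟨⟨c * (k - k'), B.mul_mem hc (B.sub_mem hk hk')⟩, ?_⟩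
      show (c * (k - k')) *ᵥ x = y
      rw [← Matrix.mulVec_mulVec, Matrix.sub_mulVec, ← h1, add_sub_cancel_left,
        Matrix.mulVec_mulVec, ← hBcomm k' hk' c hc, hcc, Matrix.one_mulVec]

theorem result {F : Type*} [Field F]
    [Fintype F] (n r : ℕ) (hr1 : 1 < r) (hrp : ¬ r.Prime) (hrn : r ∣ n) (hlt : r < n)
    (K : Subalgebra F (Matrix (Fin n) (Fin n) F)) (hK : Cfsg.Geo.IsFieldSubalgebra r K) :
    ¬ IsCoatom (Cfsg.Geo.subalgebraNormalizer K) ∧
      ¬ Cfsg.Geo.IsMaximalIn (Cfsg.Geo.specialLinear (Fin n) F)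
        (Cfsg.Geo.subalgebraNormalizer K ⊓ Cfsg.Geo.specialLinear (Fin n) F) := by
  classical
  set q := Fintype.card F with hq
  have hq1 : 1 < q := Fintype.one_lt_card
  obtain ⟨s, hs, hsr⟩ := Nat.exists_prime_and_dvd (by omega : r ≠ 1)
  have hslt : s < r := lt_of_le_of_ne (Nat.le_of_dvd (by omega) hsr) fun h => hrp (h ▸ hs)
  obtain ⟨p, hp⟩ := CharP.exists F
  haveI : Fact p.Prime := ⟨CharP.char_is_prime F p⟩
  haveI : Nonempty (Fin n) := ⟨⟨0, by omega⟩⟩
  haveI : CharP (Matrix (Fin n) (Fin n) F) p := charP_of_injective_algebraMap (algebraMap F (Matrix (Fin n) (Fin n) F)).injective p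
  haveI : ExpChar (Matrix (Fin n) (Fin n) F) p := ExpChar.prime (Fact.out : p.Prime)
  obtain ⟨⟨f, hf0⟩, -, hf⟩ := FiniteField.card F p
  let K' : Subalgebra F (Matrix (Fin n) (Fin n) F) :=
    { carrier := {x | x ∈ K ∧ x ^ (q ^ s) = x}
      mul_mem' := fun {a b} ha hb => ⟨K.mul_mem ha.1 hb.1, by
        rw [(show Commute a b from hK.comm a ha.1 b hb.1).mul_pow, ha.2, hb.2]⟩
      one_mem' := ⟨K.one_mem, one_pow _⟩
      add_mem' := fun {a b} ha hb => ⟨K.add_mem ha.1 hb.1, by
        rw [hq, hf, ← pow_mul, add_pow_expChar_pow_of_commute p _ (show Commute a b from hK.comm a ha.1 b hb.1)]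
        rw [pow_mul, ← hf, ← hq, ha.2, hb.2]⟩
      zero_mem' := ⟨K.zero_mem, zero_pow (by positivity)⟩
      algebraMap_mem' := fun c => ⟨K.algebraMap_mem c, by
        rw [← map_pow, hq, FiniteField.pow_card_pow]⟩ }
  have hKK : K' ≤ K := fun x hx => hx.1
  have hK'inv : ∀ x ∈ K', x ≠ 0 → ∃ y ∈ K', x * y = 1 := by
    rintro x ⟨hx, hx'⟩ h0
    obtain ⟨y, hy, hxy⟩ := hK.inv x hx h0
    refine ⟨y, ⟨hy, ?_⟩, hxy⟩
    have h1 : x * y ^ (q ^ s) = 1 := by
      conv_lhs => arg 1; rw [← hx']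
      rw [← (show Commute x y from hK.comm x hx y hy).mul_pow, hxy, one_pow]
    calc y ^ (q ^ s) = y * x * y ^ (q ^ s) := by rw [← hK.comm x hx y hy, hxy, one_mul]
      _ = y := by rw [mul_assoc, h1, mul_one]
  haveI : Nontrivial K := ⟨⟨0, 1, fun h => zero_ne_one (congrArg Subtype.val h)⟩⟩
  let hfld : IsField K :=
    { exists_pair_ne := exists_pair_ne K
      mul_comm := fun x y => Subtype.ext (hK.comm x.1 x.2 y.1 y.2)
      mul_inv_cancel := fun {x} hx => by
        obtain ⟨y, hy, h⟩ := hK.inv x.1 x.2 (fun h => hx (Subtype.ext h))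
        exact ⟨⟨y, hy⟩, Subtype.ext h⟩ }
  letI : Field K := hfld.toField
  have hcardK : Nat.card K = q ^ r := by
    rw [Module.natCard_eq_pow_finrank (K := F), hK.finrank_eq, Nat.card_eq_fintype_card]
  haveI : Fintype K := Fintype.ofFinite K
  obtain ⟨u, hu⟩ := IsCyclic.exists_generator (α := Kˣ)
  have hou : orderOf u = q ^ r - 1 := by
    rw [orderOf_eq_card_of_forall_mem_zpowers hu, Nat.card_units, hcardK]
  have hpow_iff : ∀ i m : ℕ, 1 ≤ m → (((u ^ i : Kˣ) : K) ^ m = ((u ^ i : Kˣ) : K) ↔ q ^ r - 1 ∣ i * (m - 1)) := by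
    intro i m hm
    rw [← hou, orderOf_dvd_iff_pow_eq_one, pow_mul]
    constructor
    · intro h
      apply mul_left_cancel (a := u ^ i)
      rw [← pow_succ', Nat.sub_add_cancel hm, mul_one]
      exact Units.ext (by rw [Units.val_pow_eq_pow_val]; exact h)
    · intro h
      have : (u ^ i) ^ m = u ^ i := by
        rw [show m = m - 1 + 1 by omega, pow_succ', h, mul_one]
      rw [← Units.val_pow_eq_pow_val, this]
  have hd : q ^ s - 1 ∣ q ^ r - 1 := Nat.pow_sub_one_dvd_pow_sub_one q hsr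
  have hqs : q < q ^ s := by
    conv_lhs => rw [← pow_one q]
    exact Nat.pow_lt_pow_right hq1 hs.one_lt
  have hqr : q ^ s < q ^ r := Nat.pow_lt_pow_right hq1 hslt
  obtain ⟨i, hi⟩ := hd
  have hi0 : 0 < i := by
    rcases Nat.eq_zero_or_pos i with h | h
    · rw [h, Nat.mul_zero] at hi; omega
    · exact h
  set z : (Matrix (Fin n) (Fin n) F) := (((u ^ i : Kˣ) : K) : (Matrix (Fin n) (Fin n) F)) with hz
  have hzK' : z ∈ K' := by
    refine ⟨((u ^ i : Kˣ) : K).2, ?_⟩
    have h := (hpow_iff i (q ^ s) (by omega)).2 (by rw [hi, mul_comm])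
    have := congrArg (fun w : K => (w : (Matrix (Fin n) (Fin n) F))) h
    simpa only [SubmonoidClass.coe_pow] using this
  have hzF : z ∉ (⊥ : Subalgebra F (Matrix (Fin n) (Fin n) F)) := by
    intro h
    obtain ⟨c, hc⟩ := Algebra.mem_bot.1 h
    have hzq : z ^ q = z := by rw [← hc, ← map_pow, FiniteField.pow_card]
    have h2 := (hpow_iff i q (by omega)).1 (Subtype.ext (by simpa only [SubmonoidClass.coe_pow] using hzq))
    rw [hi, mul_comm _ i] at h2
    have := Nat.le_of_dvd (by omega) (Nat.dvd_of_mul_dvd_mul_left hi0 h2)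
    omega
  have hmK : (((u : Kˣ) : K) : (Matrix (Fin n) (Fin n) F)) ∉ K' := by
    intro h
    have h2 := (hpow_iff 1 (q ^ s) (by omega)).1 (by
      rw [pow_one]; exact Subtype.ext (by simpa only [SubmonoidClass.coe_pow] using h.2))
    have := Nat.le_of_dvd (by omega) h2
    omega
  have hle : Cfsg.Geo.subalgebraNormalizer K ≤ Cfsg.Geo.subalgebraNormalizer K' := by
    intro g hg x
    set C : (Matrix (Fin n) (Fin n) F) →* (Matrix (Fin n) (Fin n) F) :=
      { toFun := fun x => (g : (Matrix (Fin n) (Fin n) F)) * x * ((g⁻¹ : GL (Fin n) F) : (Matrix (Fin n) (Fin n) F))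
        map_one' := by simp
        map_mul' := fun x y => by simp [mul_assoc] } with hC
    have hCi : Function.Injective C := fun a b h => by
      have := congrArg (fun w => ((g⁻¹ : GL (Fin n) F) : (Matrix (Fin n) (Fin n) F)) * w * (g : (Matrix (Fin n) (Fin n) F))) h
      simpa [hC, mul_assoc] using this
    show x ∈ K ∧ x ^ (q ^ s) = x ↔ C x ∈ K ∧ C x ^ (q ^ s) = C x
    rw [← map_pow, hCi.eq_iff]
    exact and_congr_left' (hg x)
  have hKn : Module.finrank F K < n := by rw [hK.finrank_eq]; exact hlt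
  have hK'n : Module.finrank F K' < n :=
    lt_of_le_of_lt (Submodule.finrank_mono (show Subalgebra.toSubmodule K' ≤ Subalgebra.toSubmodule K from hKK)) hKn
  obtain ⟨g, hgc, hgSL, hgN⟩ := exists_centralizing_not_normalizing K' K
    (fun a ha b hb => hK.comm a ha.1 b hb.1) hK'inv hK.inv hK.comm hKK _ (u : K).2 hmK hKn
  have hgN' : g ∈ Cfsg.Geo.subalgebraNormalizer K' := by
    intro x
    constructor
    · intro hx
      rw [hgc x hx, mul_assoc, ← Units.val_mul, mul_inv_cancel, Units.val_one, mul_one]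
      exact hx
    · intro hx
      have h1 := hgc _ hx
      rw [mul_assoc ((g : (Matrix (Fin n) (Fin n) F)) * x), ← Units.val_mul, inv_mul_cancel, Units.val_one, mul_one,
        g.mul_right_inj] at h1
      rw [h1] at hx
      exact hx
  obtain ⟨h, -, hhSL, hhN⟩ := exists_centralizing_not_normalizing ⊥ K'
    (fun a ha b _ => by obtain ⟨c, rfl⟩ := Algebra.mem_bot.1 ha; exact Algebra.commutes c b)
    (fun a ha h0 => by
      obtain ⟨c, rfl⟩ := Algebra.mem_bot.1 ha
      have hc : c ≠ 0 := fun hc => h0 (by rw [hc, map_zero])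
      exact ⟨algebraMap F (Matrix (Fin n) (Fin n) F) c⁻¹, Algebra.mem_bot.2 ⟨_, rfl⟩, by
        rw [← map_mul, mul_inv_cancel₀ hc, map_one]⟩)
    hK'inv (fun a ha b hb => hK.comm a ha.1 b hb.1) bot_le z hzK' hzF hK'n
  constructor
  · intro hco
    have := hco.2 _ (SetLike.lt_iff_le_and_exists.2 ⟨hle, g, hgN', hgN⟩)
    exact hhN (this ▸ Subgroup.mem_top h)
  · intro hmax
    rcases hmax.2 (Cfsg.Geo.subalgebraNormalizer K' ⊓ Cfsg.Geo.specialLinear (Fin n) F)
      (inf_le_inf_right _ hle) inf_le_right with h1 | h1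
    · exact hgN (h1.le ⟨hgN', hgSL⟩).1
    · exact hhN (h1.ge hhSL).1

end Cfsg.Agent.S5887
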