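import Cfsg.Statements.S3300
import Cfsg.Agent.Inv54.ExtraspecialTransfer
-- import your own Cfsg.Agent.* helpers here

set_option autoImplicit false
open Cfsg

namespace Cfsg.Agent.S3300

open CfsgLib.Inv54

theorem exists_hom {G : Type*} [Group G] {H K : Subgroup G}
    (hKn : ∀ h ∈ H, K.map (MulAut.conj h).toMonoidHom = K) (hKi : K.relIndex H = 2) :
    ∃ φ : H →* Multiplicative (ZMod 2), ∀ h : H, φ h = 1 ↔ (h : G) ∈ K := by
  classical
  have hidx : (K.subgroupOf H).index = 2 := hKi
  refine ⟨MonoidHom.mk' (fun h => if (h : G) ∈ K then 1 else Multiplicative.ofAdd 1) ?_,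
    fun h => ?_⟩
  · intro a b
    have h1 := Subgroup.mul_mem_iff_of_index_two (a := a) (b := b) hidx
    simp only [Subgroup.mem_subgroupOf] at h1
    rw [Subgroup.coe_mul] at h1
    by_cases ha : (a : G) ∈ K <;> by_cases hb : (b : G) ∈ K <;>
      simp only [Subgroup.coe_mul, h1, ha, hb, iff_self, iff_false, iff_true, not_true,
        not_false_eq_true, if_true, if_false, one_mul, mul_one] <;> decide
  · show (if (h : G) ∈ K then 1 else Multiplicative.ofAdd (1 : ZMod 2)) = 1 ↔ (h : G) ∈ K
    by_cases hh : (h : G) ∈ K <;> simp [hh]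

theorem exp_two (a : Multiplicative (ZMod 2)) : a * a = 1 := by revert a; decide

/-- An involution centralised by an index 2 subgroup of `E` lies in `E`. -/
theorem mem_of_orbit_two {G : Type*} [Group G] [Finite G] {z : G} {E : Subgroup G}
    (hs : LargeSetup z E) [Fintype (G ⧸ Subgroup.centralizer ({z} : Set G))]
    {q : G ⧸ Subgroup.centralizer ({z} : Set G)} (h : (orb E q).card = 2)
    (h32 : 32 ≤ Nat.card E) : q.out * z * q.out⁻¹ ∈ E := by
  classical
  set g := q.out with hg
  set u := g * z * g⁻¹ with hu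
  have hiff : ∀ d : G, d • q = q ↔ u * d = d * u := by
    intro d
    constructor
    · intro hd
      have h2 := Subgroup.mem_centralizer_singleton_iff.mp (out_conj_mem_of_fix hd)
      calc g * z * g⁻¹ * d = g * (z * (g⁻¹ * d * g)) * g⁻¹ := by group
        _ = g * ((g⁻¹ * d * g) * z) * g⁻¹ := by rw [h2]
        _ = d * (g * z * g⁻¹) := by group
    · intro hd
      rw [← QuotientGroup.out_eq' q, MulAction.Quotient.smul_mk, QuotientGroup.eq,
        Subgroup.mem_centralizer_singleton_iff, smul_eq_mul]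
      have hd' : u * d⁻¹ = d⁻¹ * u := ((Commute.inv_right (hd : Commute u d))).eq
      calc (d * g)⁻¹ * g * z = g⁻¹ * (d⁻¹ * u) * g := by rw [hu]; group
        _ = g⁻¹ * (u * d⁻¹) * g := by rw [hd']
        _ = z * ((d * g)⁻¹ * g) := by rw [hu]; group
  obtain ⟨a, ha, b, hb, haq, hbq, hab⟩ := hs.exists_not_commute (q := q) (by rw [h]; omega)
  have hzq := (hs.smul_and_cocycle (A := Multiplicative (ZMod 2)) ha hb haq hbq hab).1
  have huH : u ∈ Subgroup.centralizer ({z} : Set G) :=
    Subgroup.mem_centralizer_singleton_iff.mpr ((hiff z).mp hzq)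
  have huu : u * u = 1 := by
    rw [hu, show g * z * g⁻¹ * (g * z * g⁻¹) = g * (z * z) * g⁻¹ by group, hs.mul_self]; group
  clear_value u
  have hui : u⁻¹ = u := inv_eq_of_mul_eq_one_right huu
  have hconj : ∀ x y : G, u * x * u * (u * y * u) = u * (x * y) * u := fun x y => by
    rw [show u * x * u * (u * y * u) = u * x * (u * u) * y * u by group, huu]; group
  have hinv : ∀ x : G, (u * x * u)⁻¹ = u * x⁻¹ * u := fun x => by
    rw [mul_inv_rev, mul_inv_rev, hui]; group
  have huE : ∀ e ∈ E, u * e * u ∈ E := fun e he => by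
    have := (Subgroup.mem_normalizer_iff.mp (hs.normal u huH) e).mp he
    rwa [hui] at this
  have hfix : ∀ d : G, d • q = q → u * d * u = d := fun d hd => by
    rw [(hiff d).mp hd, mul_assoc, huu, mul_one]
  -- the orbit has two points
  have hone : ∀ e₁ ∈ E, ∀ e₂ ∈ E, e₁ • q ≠ q → e₂ • q ≠ q → e₁ • q = e₂ • q := by
    intro e₁ h₁ e₂ h₂ hn₁ hn₂
    by_contra hne
    have h3 : ({e₁ • q, e₂ • q, q} : Finset _).card = 3 := Finset.card_eq_three.mpr
      ⟨_, _, _, hne, hn₁, hn₂, rfl⟩
    have h4 : ({e₁ • q, e₂ • q, q} : Finset _) ⊆ orb E q := by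
      intro p hp
      simp only [Finset.mem_insert, Finset.mem_singleton] at hp
      rcases hp with rfl | rfl | rfl
      · exact mem_orb.mpr ⟨e₁, h₁, rfl⟩
      · exact mem_orb.mpr ⟨e₂, h₂, rfl⟩
      · exact self_mem_orb E _
    have := Finset.card_le_card h4
    omega
  have hmoved : ∀ e : G, e • q ≠ q → e⁻¹ • q ≠ q := fun e he h' =>
    he (by conv_lhs => rw [← h', smul_inv_smul])
  refine hs.mem_of_centralizes_quotient huH fun t ht => ?_
  rw [hui]
  by_cases htq : t • q = q
  · left
    rw [hfix t htq, inv_mul_cancel]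
  set t' := u * t * u with ht'
  have ht'E : t' ∈ E := huE t ht
  have ht'q : t' • q ≠ q := by
    intro h'
    apply htq
    rw [hiff] at h' ⊢
    rw [ht', ← mul_assoc, ← mul_assoc, huu, one_mul, mul_assoc, huu, mul_one] at h'
    exact h'.symm
  set w := t' * t⁻¹ with hw
  have hwE : w ∈ E := E.mul_mem ht'E (E.inv_mem ht)
  have hwq : w • q = q := by
    rw [hw, mul_smul, hone _ (E.inv_mem ht) _ (E.inv_mem ht'E) (hmoved t htq) (hmoved t' ht'q),
      smul_inv_smul]
  have hww : w * w = 1 := by
    have h1 := hfix w hwq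
    rw [hw, ← hconj, ← hinv, ht', show u * (u * t * u) * u = (u * u) * t * (u * u) by group, huu,
      one_mul, mul_one] at h1
    have h2 : w⁻¹ = w := by rw [hw, mul_inv_rev, inv_inv]; exact h1
    nth_rewrite 1 [← h2]
    exact inv_mul_cancel w
  have hwt : w * t = t * w := by
    have h1 : t' * t' = t * t := by
      rw [ht', hconj]
      rcases hs.sq t ht with h2 | h2 <;> rw [h2]
      · rw [mul_one, huu]
      · exact hfix z hzq
    have h2 : w * t * w = t := by
      refine mul_right_cancel (b := t) ?_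
      calc w * t * w * t = t' * t' := by rw [hw]; group
        _ = t * t := h1
    calc w * t = w * t * (w * w) := by rw [hww, mul_one]
      _ = (w * t * w) * w := by simp only [mul_assoc]
      _ = t * w := by rw [h2]
  have hwd : ∀ d ∈ E, d • q = q → w * d = d * w := by
    intro d hd hdq
    have h1 : (t⁻¹ * d * t) • q = q := by
      have h2 : (d * t) • q ≠ q := fun h' => htq (by
        rw [mul_smul] at h'
        exact MulAction.injective d (h'.trans hdq.symm))
      have h3 := hone _ (E.mul_mem hd ht) _ ht h2 htq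
      rw [mul_assoc, mul_smul, h3, inv_smul_smul]
    have h4 := hfix _ h1
    rw [← hconj, ← hconj, ← hinv, hfix d hdq] at h4
    calc w * d = t' * (t⁻¹ * d * t) * t⁻¹ := by rw [hw]; group
      _ = t' * ((u * t * u)⁻¹ * d * (u * t * u)) * t⁻¹ := by rw [h4]
      _ = d * w := by rw [hw, ← ht']; group
  have hwall : ∀ e ∈ E, w * e = e * w := by
    intro e he
    by_cases heq : e • q = q
    · exact hwd e he heq
    · have h1 : (t⁻¹ * e) • q = q := by
        rw [mul_smul, hone e he t ht heq htq, inv_smul_smul]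
      have h2 := hwd _ (E.mul_mem (E.inv_mem ht) he) h1
      calc w * e = (w * t) * (t⁻¹ * e) := by group
        _ = t * (w * (t⁻¹ * e)) := by rw [hwt, mul_assoc]
        _ = t * ((t⁻¹ * e) * w) := by rw [h2]
        _ = e * w := by group
  have h3 : t⁻¹ * t' = w := by
    calc t⁻¹ * t' = t⁻¹ * (w * t) := by rw [hw]; group
      _ = w := by rw [hwt, inv_mul_cancel_left]
  rw [h3]
  exact hs.center w hwall

/-- Let G be a finite group with no nontrivial 2-group quotient (O^2(G) = G), z an involution of G with H = C_G(z), and suppose E = O_2(H) is extraspecial with C_G(E) ≤ E and of order 2^(2n+1) with n ≥ 3. If H has a normal subgroup of index 2, then z is conjugate in G to an element of E other than z. -/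
theorem result {G : Type*} [Group G] [Finite G] (hres : Cfsg.pResidual 2 G = ⊤) (z : G) (hz : orderOf z = 2)
    (E : Subgroup G) (hE : E = (Cfsg.pCore 2 ↥(Subgroup.centralizer ({z} : Set G))).map (Subgroup.centralizer ({z} : Set G)).subtype)
    (hext : Cfsg.IsExtraspecial 2 ↥E) (hcent : Subgroup.centralizer (E : Set G) ≤ E) (n : ℕ) (hn : 3 ≤ n) (hcard : Nat.card ↥E = 2 ^ (2 * n + 1))
    (K : Subgroup G) (hKH : K ≤ Subgroup.centralizer ({z} : Set G))
    (hKn : ∀ h ∈ Subgroup.centralizer ({z} : Set G), K.map (MulAut.conj h).toMonoidHom = K)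
    (hKi : K.relIndex (Subgroup.centralizer ({z} : Set G)) = 2) :
    ∃ g : G, g * z * g⁻¹ ∈ E ∧ g * z * g⁻¹ ≠ z := by
  classical
  haveI := Fintype.ofFinite (G ⧸ Subgroup.centralizer ({z} : Set G))
  have hs := LargeSetup.of_pCore hz hE hext hcent
  by_contra! hno
  obtain ⟨φ, hφ⟩ := exists_hom hKn hKi
  have h128 : 128 ≤ Nat.card E := by
    rw [hcard]; exact le_trans (by norm_num) (Nat.pow_le_pow_right (by norm_num) (by omega : 7 ≤ 2 * n + 1))
  have hall : ∀ x : Subgroup.centralizer ({z} : Set G), IsPGroup 2 (Subgroup.zpowers (x : G)) → φ x = 1 := by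
    intro x hx
    refine hs.apply_eq_one hres φ exp_two x hx (fun q _ hc => ?_) fun q hne h2 => ?_
    · by_contra! hlt
      obtain ⟨a, ha, b, hb, haq, hbq, hab⟩ := hs.exists_not_commute (q := q) (by
        have : (orb E q).card * (orb E q).card ≤ 7 * 7 := Nat.mul_le_mul (by omega) (by omega)
        omega)
      exact hc ((hs.smul_and_cocycle ha hb haq hbq hab).2 _ (isCocycle_transferCocycle φ))
    · exfalso
      apply hne
      have h3 := hno _ (mem_of_orbit_two hs h2 (by omega))
      rw [← QuotientGroup.out_eq' q, QuotientGroup.eq, mul_one, inv_mem_iff,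
        Subgroup.mem_centralizer_singleton_iff]
      exact mul_inv_eq_iff_eq_mul.mp h3
  obtain ⟨h, hhH, hhK⟩ : ∃ h ∈ Subgroup.centralizer ({z} : Set G), h ∉ K := by
    by_contra! hall'
    rw [Subgroup.relIndex_eq_one.mpr hall'] at hKi
    omega
  set c : Subgroup.centralizer ({z} : Set G) := ⟨h, hhH⟩
  -- the 2-part of `h`
  obtain ⟨k, m, hm, hkm⟩ := Nat.exists_eq_two_pow_mul_odd (orderOf_pos h).ne'
  have hp : IsPGroup 2 (Subgroup.zpowers ((c ^ m : Subgroup.centralizer ({z} : Set G)) : G)) := by
    refine IsPGroup.of_card (n := k) ?_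
    rw [Nat.card_zpowers, SubgroupClass.coe_pow, show (c : G) = h from rfl,
      orderOf_pow_of_dvd (fun h0 => by simp [h0] at hm) ⟨2 ^ k, by rw [hkm, mul_comm]⟩, hkm,
      Nat.mul_div_cancel _ hm.pos]
  have h1 := hall _ hp
  rw [map_pow] at h1
  obtain ⟨j, rfl⟩ := hm
  rw [pow_succ, pow_mul, sq, exp_two, one_pow, one_mul] at h1
  exact hhK ((hφ c).mp h1)

end Cfsg.Agent.S3300
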