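import Cfsg.Statements.S0035
import Cfsg.Agent.Characters.FrobeniusKernel
import Cfsg.Agent.Solvable.FrobeniusBasic

set_option autoImplicit false
open Cfsg

namespace Cfsg.Agent.S0035

/-- Frobenius' Theorem: if H is a Frobenius complement in a finite group, the identity together with the elements lying in no conjugate of H form a normal subgroup, which is a complement to H. -/
theorem result {G : Type*} [Group G] [Finite G] (H : Subgroup G) (hH : Cfsg.IsFrobeniusComplement H) :
    ∃ N : Subgroup G, (N : Set G) = Cfsg.frobeniusKernel H ∧ N.Normal ∧ Subgroup.IsComplement' N H := by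
  obtain ⟨N, hN, hc, -⟩ := CfsgLib.Characters.exists_frobenius_kernel H (fun g hg x hx hgx => by
    by_contra hx1
    refine hg (inv_inv g ▸ H.inv_mem ?_)
    exact CfsgLib.FrobComp.mem_of_conj_mem hH hx hx1 (by rw [inv_inv]; exact hgx))
  exact ⟨N, CfsgLib.Solvable.kernel_eq_of_normal_complement hc hH, hN, hc⟩

end Cfsg.Agent.S0035
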