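import Cfsg.Statements.S3754
import Cfsg.Agent.HallHigman.CyclicQuotient
import Cfsg.Agent.HallHigman.MinimalAction
import Cfsg.Agent.PLocal.PSolvable
import Cfsg.Agent.Transfer.Residual

set_option autoImplicit false
open Cfsg

namespace Cfsg.Agent.S3754

open scoped commutatorElement
open Subgroup in
/-- The mirror image of Hall–Higman 1.2.3. -/
theorem centralizer_pPrimeCore_le {G : Type*} [Group G] [Finite G] {p : ℕ} [Fact p.Prime]
    (hG : Cfsg.IsPSolvable p G) (hO : Cfsg.pCore p G = ⊥) :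
    centralizer (Cfsg.pPrimeCore p G : Set G) ≤ Cfsg.pPrimeCore p G := by
  set K := Cfsg.pPrimeCore p G with hK
  set C := centralizer (K : Set G) with hC
  set Z := C ⊓ K with hZdef
  by_contra hcon
  let π := QuotientGroup.mk' Z
  let C' : Subgroup (G ⧸ Z) := C.map π
  have hC'n : C'.Normal := Subgroup.Normal.map inferInstance π (QuotientGroup.mk'_surjective Z)
  have : Nontrivial C' := by
    rw [nontrivial_iff_ne_bot]
    intro hbot
    rw [eq_bot_iff, map_le_iff_le_comap, MonoidHom.comap_bot, QuotientGroup.ker_mk'] at hbot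
    exact hcon (hbot.trans inf_le_right)
  have hC' : Cfsg.IsPSolvable p C' :=
    CfsgLib.PLocal.isPSolvable_subgroup (CfsgLib.PLocal.isPSolvable_quotient hG Z) C'
  suffices key : ∀ D' : Subgroup (G ⧸ Z), D'.Normal → D' ≤ C' →
      (IsPGroup p D' ∨ (Nat.card D').Coprime p) → D' = ⊥ by
    rcases CfsgLib.PLocal.pCore_ne_bot_or_of_isPSolvable hC' with h | h
    · exact h ((map_eq_bot_iff_of_injective _ C'.subtype_injective).mp
        (key _ (CfsgLib.PLocal.normal_map_subtype C' _) (map_subtype_le _)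
          (Or.inl ((CfsgLib.PLocal.isPGroup_pCore p C').map _))))
    · exact h ((map_eq_bot_iff_of_injective _ C'.subtype_injective).mp
        (key _ (CfsgLib.PLocal.normal_map_subtype C' _) (map_subtype_le _) (Or.inr
          (Nat.Coprime.coprime_dvd_left (card_map_dvd _ _) (CfsgLib.PLocal.coprime_card_pPrimeCore p C')))))
  intro D' hD'n hD'C hD'
  let D : Subgroup G := D'.comap π
  have hDC : D ≤ C := by
    refine (comap_mono hD'C).trans ?_
    rw [comap_map_eq, QuotientGroup.ker_mk']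
    exact sup_le le_rfl inf_le_left
  have hDn : D.Normal := hD'n.comap π
  have hZ : (⊥ : Subgroup (G ⧸ Z)).comap π = Z := by
    rw [MonoidHom.comap_bot, QuotientGroup.ker_mk']
  have hZD : Z ≤ D := hZ.symm.le.trans (comap_mono bot_le)
  have hZp : (Nat.card Z).Coprime p :=
    CfsgLib.PLocal.coprime_card_of_le inf_le_right (CfsgLib.PLocal.coprime_card_pPrimeCore p G)
  have hrel : Z.relIndex D = Nat.card D' := by
    conv_lhs => rw [← hZ]
    rw [relIndex_comap, map_comap_eq_self_of_surjective (QuotientGroup.mk'_surjective _),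
      relIndex_bot_left]
  have hcardD : Nat.card D = Nat.card Z * Nat.card D' := by
    rw [← hrel, ← relIndex_bot_left (H := Z), ← relIndex_bot_left (H := D),
      relIndex_mul_relIndex ⊥ Z D bot_le hZD]
  suffices hDZ : D ≤ Z by
    rw [eq_bot_iff, ← map_comap_eq_self_of_surjective (QuotientGroup.mk'_surjective Z) D',
      map_le_iff_le_comap, MonoidHom.comap_bot, QuotientGroup.ker_mk']
    exact hDZ
  rcases hD' with hp' | hp'
  swap
  · exact le_inf hDC (CfsgLib.PLocal.le_pPrimeCore (hcardD ▸ hZp.mul_left hp'))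
  · let Z' : Subgroup D := Z.subgroupOf D
    obtain ⟨m, hm⟩ := IsPGroup.iff_card.mp hp'
    have hidx : Z'.index = p ^ m := hrel.trans hm
    have hZ'c : Nat.card Z' = Nat.card Z := Nat.card_congr (subgroupOfEquivOfLe hZD).toEquiv
    obtain ⟨L, hL⟩ := exists_left_complement'_of_coprime (N := Z')
      (by rw [hZ'c, hidx]; exact hZp.pow_right m)
    have hcomm : ∀ z ∈ Z', ∀ x : D, z * x = x * z := by
      intro z hz x
      have h1 : (z : G) ∈ K := hz.2
      have h2 : (x : G) ∈ C := hDC x.2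
      exact Subtype.ext (mem_centralizer_iff.mp h2 _ h1)
    have hLn : L.Normal := by
      constructor
      intro k hk g
      have hg : g ∈ L ⊔ Z' := hL.sup_eq_top ▸ mem_top g
      obtain ⟨a, ha, z, hz, rfl⟩ := mem_sup_of_normal_right.mp hg
      have : a * z * k * (a * z)⁻¹ = a * k * a⁻¹ := by
        rw [mul_inv_rev, mul_assoc a z k, hcomm z hz k]
        group
      rw [this]
      exact mul_mem (mul_mem ha hk) (inv_mem ha)
    have hLp : IsPGroup p L := IsPGroup.of_card (n := m) (by rw [← hL.index_eq_card, hidx])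
    have hLbot : L = ⊥ := by
      have h1 : (Cfsg.pCore p D).map D.subtype = ⊥ :=
        le_bot_iff.mp (hO ▸ CfsgLib.PLocal.pCore_map_subtype_le D)
      rw [map_eq_bot_iff_of_injective _ D.subtype_injective] at h1
      exact le_bot_iff.mp (h1 ▸ CfsgLib.PLocal.le_pCore hLp)
    intro x hx
    have : (⟨x, hx⟩ : D) ∈ L ⊔ Z' := hL.sup_eq_top ▸ mem_top _
    rw [hLbot, bot_sup_eq] at this
    exact this

/-- A `p'`-element of `D A`, with `A` a `p`-group normalising `D`, lies in `D`. -/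
theorem mem_of_coprime_of_mem_sup {G : Type*} [Group G] [Finite G] {p : ℕ} [Fact p.Prime]
    {D A : Subgroup G} (hA : IsPGroup p A) (hAD : A ≤ Subgroup.normalizer (D : Set G)) {g : G}
    (hg : g ∈ D ⊔ A) (hcop : (orderOf g).Coprime p) : g ∈ D := by
  obtain ⟨d, hd, a, ha, rfl⟩ := CfsgLib.Coprime.exists_mul_of_mem_sup hAD hg
  set n := orderOf (d * a) with hn
  have key : ∀ k : ℕ, (d * a) ^ k * (a ^ k)⁻¹ ∈ D := by
    intro k
    induction k with
    | zero => simp
    | succ k ih =>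
      have h1 := (Subgroup.mem_normalizer_iff.mp (hAD (A.pow_mem ha k)) d).mp hd
      have h2 := mul_mem ih h1
      have e : (d * a) ^ (k + 1) * (a ^ (k + 1))⁻¹ =
          (d * a) ^ k * (a ^ k)⁻¹ * (a ^ k * d * (a ^ k)⁻¹) := by
        rw [pow_succ, pow_succ]; group
      rw [e]; exact h2
  have han : a ^ n ∈ D := by
    have := key n
    rw [hn, pow_orderOf_eq_one, one_mul] at this
    simpa using D.inv_mem this
  obtain ⟨e, he⟩ := hA ⟨a, ha⟩
  have he' : a ^ p ^ e = 1 := congrArg Subtype.val he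
  obtain ⟨u, hu⟩ : ∃ u : ℕ, n * u % (p ^ e) = 1 % (p ^ e) := by
    rcases Nat.eq_zero_or_pos e with rfl | hpos
    · exact ⟨0, by simp⟩
    · have h1 : 1 < p ^ e := Nat.one_lt_pow hpos.ne' (Fact.out : p.Prime).one_lt
      obtain ⟨u, -, hu⟩ := Nat.exists_mul_mod_eq_one_of_coprime (hcop.pow_right e) h1
      exact ⟨u, by rw [hu, Nat.one_mod_eq_one.mpr h1.ne']⟩
  have : a ∈ D := by
    have h3 : (a ^ n) ^ u = a := by
      rw [← pow_mul, pow_eq_pow_mod _ he', hu, ← pow_eq_pow_mod _ he', pow_one]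
    exact h3 ▸ D.pow_mem han u
  exact mul_mem hd this

/-- Let M be a finite p-soluble group and A a p-subgroup of M with Φ(A) ≤ O_p(M) but A ≰ O_p(M). Then there is x ∈ O_{p,p'}(M) such that L = ⟨A, xAx⁻¹⟩ satisfies: x ∈ O^p(L) and O^p(L) ≤ O_{p,p'}(M); [O^p(L), A] = O^p(L); A ∩ O_p(L) has index p in A; and [A ∩ O_p(L), L] ≤ O_p(M). Here O^p(L) is the subgroup generated by the p'-elements of L and O_{p,p'}(M) the preimage of O_{p'}(M/O_p(M)). -/
theorem result {M : Type*} [Group M] [Finite M] {p : ℕ} [Fact p.Prime] (hM : Cfsg.IsPSolvable p M) (A : Subgroup M) (hA : IsPGroup p A) (hΦ : (frattini ↥A).map A.subtype ≤ Cfsg.pCore p M) (hnot : ¬ A ≤ Cfsg.pCore p M) : ∃ x ∈ (Cfsg.pPrimeCore p (M ⧸ Cfsg.pCore p M)).comap (QuotientGroup.mk' (Cfsg.pCore p M)), x ∈ (Cfsg.pResidual p ↥(A ⊔ A.map (MulAut.conj x).toMonoidHom)).map (A ⊔ A.map (MulAut.conj x).toMonoidHom).subtype ∧ (Cfsg.pResidual p ↥(A ⊔ A.map (MulAut.conj x).toMonoidHom)).map (A ⊔ A.map (MulAut.conj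 x).toMonoidHom).subtype ≤ (Cfsg.pPrimeCore p (M ⧸ Cfsg.pCore p M)).comap (QuotientGroup.mk' (Cfsg.pCore p M)) ∧ ⁅(Cfsg.pResidual p ↥(A ⊔ A.map (MulAut.conj x).toMonoidHom)).map (A ⊔ A.map (MulAut.conj x).toMonoidHom).subtype, A⁆ = (Cfsg.pResidual p ↥(A ⊔ A.map (MulAut.conj x).toMonoidHom)).map (A ⊔ A.map (MulAut.conj x).toMonoidHom).subtype ∧ (A ⊓ (Cfsg.pCore p ↥(A ⊔ A.map (MulAut.conj x).toMonoidHom)).map (A ⊔ A.map (MulAut.conj x).toMonoidHom).subtype).relIndex A = p ∧ ⁅A ⊓ (Cfsg.pCore p ↥(A ⊔ A.map (MulAut.conj x).toMonoidHom)).map (A ⊔ A.map (MulAut.conj x).toMonoidHom).subtype, A ⊔ A.map (MulAut.conj x).toMonoidHom⁆ ≤ Cfsg.pCore p M := by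
  classical
  set O := Cfsg.pCore p M with hOdef
  set f := QuotientGroup.mk' O with hf
  have hfs : Function.Surjective f := QuotientGroup.mk'_surjective O
  set N := Cfsg.pPrimeCore p (M ⧸ O) with hNdef
  set A' := A.map f with hA'
  have hA'p : IsPGroup p A' := hA.map f
  have hQO : Cfsg.pCore p (M ⧸ O) = ⊥ := CfsgLib.PLocal.pCore_quotient_pCore_eq_bot p M
  have hCN := centralizer_pPrimeCore_le (CfsgLib.PLocal.isPSolvable_quotient hM O) hQO
  have hA'ne : A' ≠ ⊥ := fun h => hnot (by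
    rw [hA', Subgroup.map_eq_bot_iff, QuotientGroup.ker_mk'] at h; exact h)
  have hAΦ : ∀ z : ↥A, z ∈ frattini ↥A → f (z : M) = 1 := fun z hz => by
    have h1 : (z : M) ∈ f.ker := by rw [QuotientGroup.ker_mk']; exact hΦ ⟨z, hz, rfl⟩
    exact h1
  have hA'pow : ∀ a ∈ A', a ^ p = 1 := by
    rintro _ ⟨a, ha, rfl⟩
    rw [← map_pow]
    exact hAΦ _ (CfsgLib.Solvable.pow_mem_frattini hA ⟨a, ha⟩)
  have hA'c : ∀ a ∈ A', ∀ b ∈ A', a * b = b * a := by
    rintro _ ⟨a, ha, rfl⟩ _ ⟨b, hb, rfl⟩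
    rw [← commutatorElement_eq_one_iff_mul_comm, ← map_commutatorElement]
    exact hAΦ ⁅(⟨a, ha⟩ : ↥A), ⟨b, hb⟩⁆ (CfsgLib.Solvable.commutator_le_frattini hA
      (Subgroup.commutator_mem_commutator (Subgroup.mem_top _) (Subgroup.mem_top _)))
  have hA'ab : IsMulCommutative A' := ⟨⟨fun a b => Subtype.ext (hA'c _ a.2 _ b.2)⟩⟩
  have hA'N : A' ≤ Subgroup.normalizer (N : Set (M ⧸ O)) := Subgroup.le_normalizer_of_normal
  have hNp : (Nat.card N).Coprime p := CfsgLib.PLocal.coprime_card_pPrimeCore p _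
  obtain ⟨kA, hkA⟩ := IsPGroup.iff_card.mp hA'p
  have hcop : (Nat.card A').Coprime (Nat.card N) := by
    rw [hkA]; exact hNp.symm.pow_left kA
  have hnc : ¬ N ≤ Subgroup.centralizer (A' : Set (M ⧸ O)) := by
    intro h
    apply hA'ne
    rw [eq_bot_iff]
    intro a ha
    have h1 : a ∈ A' ⊓ N := ⟨ha, hCN (Subgroup.le_centralizer_iff.mp h ha)⟩
    rwa [CfsgLib.Coprime.inf_eq_bot_of_coprime hcop] at h1
  obtain ⟨B, hBA, ⟨a₀, ha₀, haB⟩, hBN⟩ : ∃ B, B ≤ A' ∧ (∃ a ∈ A', B ⊔ Subgroup.zpowers a = A') ∧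
      ¬ N ⊓ Subgroup.centralizer (B : Set (M ⧸ O)) ≤ Subgroup.centralizer (A' : Set (M ⧸ O)) := by
    by_contra! h
    exact hnc (CfsgLib.HallHigman.le_of_forall_cyclic_quotient hA'ab hA'N hcop h)
  set C := N ⊓ Subgroup.centralizer (B : Set (M ⧸ O)) with hC
  have hA'C : A' ≤ Subgroup.normalizer (C : Set (M ⧸ O)) := by
    refine (le_inf hA'N ?_).trans Subgroup.inf_normalizer_le_normalizer_inf
    refine le_trans ?_ Subgroup.le_normalizer
    exact fun a ha => Subgroup.mem_centralizer_iff.mpr fun b hb => hA'c b (hBA hb) a ha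
  have hCnt : ⁅C, A'⁆ ≠ ⊥ := fun h =>
    hBN (Subgroup.commutator_eq_bot_iff_le_centralizer.mp h)
  obtain ⟨X, hXC, hA'X, hXnt, hXmin⟩ := CfsgLib.HallHigman.exists_minimal_action hA'C hCnt
  obtain ⟨x₁, hx₁X, hx₁A⟩ : ∃ x ∈ X, x ∉ Subgroup.centralizer (A' : Set (M ⧸ O)) := by
    by_contra! h
    exact hXnt (Subgroup.commutator_eq_bot_iff_le_centralizer.mpr h)
  obtain ⟨α, hα, hαx⟩ : ∃ a ∈ A', a * x₁ ≠ x₁ * a := by
    by_contra! h
    exact hx₁A (Subgroup.mem_centralizer_iff.mpr h)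
  have hXN : X ≤ N := hXC.trans inf_le_left
  have hXp : (Nat.card X).Coprime p := CfsgLib.PLocal.coprime_card_of_le hXN hNp
  -- the image of `⟨A, A ^ x⟩`
  set L₁ := A' ⊔ A'.map (MulAut.conj x₁).toMonoidHom with hL₁
  have hL₁le : L₁ ≤ X ⊔ A' := by
    refine sup_le le_sup_right ?_
    rintro _ ⟨a, ha, rfl⟩
    exact mul_mem (mul_mem (Subgroup.mem_sup_left hx₁X) (Subgroup.mem_sup_right ha))
      (inv_mem (Subgroup.mem_sup_left hx₁X))
  have hXL₁ : X ≤ L₁ := by
    by_contra hle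
    have hlt : X ⊓ L₁ < X := lt_of_le_of_ne inf_le_left fun h => hle (inf_eq_left.mp h)
    have hK := hXmin _ hlt ((le_inf hA'X ((le_sup_left : A' ≤ L₁).trans Subgroup.le_normalizer)).trans
      Subgroup.inf_normalizer_le_normalizer_inf)
    set c := x₁ * α * x₁⁻¹ * α⁻¹ with hc
    have hcX : c ∈ X := by
      have h1 := (Subgroup.mem_normalizer_iff.mp (hA'X hα) x₁⁻¹).mp (X.inv_mem hx₁X)
      have := X.mul_mem hx₁X h1
      simpa [hc, mul_assoc] using this
    have hcL : c ∈ L₁ := mul_mem (Subgroup.mem_sup_right ⟨α, hα, rfl⟩)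
      (inv_mem (Subgroup.mem_sup_left hα))
    have hcom : Commute c α :=
      (Subgroup.mem_centralizer_iff.mp
        (Subgroup.commutator_eq_bot_iff_le_centralizer.mp hK (show c ∈ X ⊓ L₁ from ⟨hcX, hcL⟩)) α hα).symm
    have hco : (orderOf c).Coprime p :=
      Nat.Coprime.coprime_dvd_left (Subgroup.orderOf_dvd_natCard X hcX) hXp
    have hcp : c ^ p = 1 := by
      have h1 : (x₁ * α * x₁⁻¹) ^ p = 1 := by rw [conj_pow, hA'pow α hα]; simp
      have h2 : x₁ * α * x₁⁻¹ = c * α := by rw [hc]; simp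
      rwa [h2, hcom.mul_pow, hA'pow α hα, mul_one] at h1
    have hc1 : c = 1 := by
      rw [← orderOf_eq_one_iff, ← Nat.dvd_one, ← hco]
      exact Nat.dvd_gcd dvd_rfl (orderOf_dvd_of_pow_eq_one hcp)
    rw [hc, mul_inv_eq_one, mul_inv_eq_iff_eq_mul] at hc1
    exact hαx hc1.symm
  have hfL : ∀ y : M, f y = x₁ → (A ⊔ A.map (MulAut.conj y).toMonoidHom).map f = L₁ := by
    intro y hy
    rw [Subgroup.map_sup, hL₁, hA', Subgroup.map_map, Subgroup.map_map]
    congr 2
    ext z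
    simp [← hy]
  -- a lift of `x₁` with `⟨A, A ^ x⟩` as small as possible
  obtain ⟨x', hx'⟩ := hfs x₁
  have hmin : ∃ n, ∃ y : M, f y = x₁ ∧ Nat.card ↥(A ⊔ A.map (MulAut.conj y).toMonoidHom) = n :=
    ⟨_, x', hx', rfl⟩
  obtain ⟨y₀, hy₀, hy₀n⟩ := Nat.find_spec hmin
  obtain ⟨x, hxmem, hxcop, hxf⟩ : ∃ x ∈ A ⊔ A.map (MulAut.conj y₀).toMonoidHom,
      (orderOf x).Coprime p ∧ f x = x₁ := by
    obtain ⟨y, hy, hyf⟩ : x₁ ∈ (A ⊔ A.map (MulAut.conj y₀).toMonoidHom).map f :=
      (hfL y₀ hy₀).symm ▸ hXL₁ hx₁X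
    obtain ⟨i, m, hm, hym⟩ := Nat.exists_eq_pow_mul_and_not_dvd (orderOf_pos y).ne' p
      (Fact.out : p.Prime).ne_one
    have hmp : m.Coprime p := ((Fact.out : p.Prime).coprime_iff_not_dvd.mpr hm).symm
    have hx₁o : orderOf x₁ ∣ m := by
      have h1 : orderOf x₁ ∣ p ^ i * m := hym ▸ hyf ▸ orderOf_map_dvd f y
      have h2 : (orderOf x₁).Coprime (p ^ i) :=
        (Nat.Coprime.coprime_dvd_left (Subgroup.orderOf_dvd_natCard X hx₁X) hXp).pow_right i
      exact h2.dvd_of_dvd_mul_left h1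
    rcases eq_or_ne m 1 with rfl | hm1
    · exact absurd (orderOf_eq_one_iff.mp (Nat.dvd_one.mp hx₁o)) (by rintro rfl; simp at hαx)
    have hm1' : 1 < m := lt_of_le_of_ne (Nat.one_le_iff_ne_zero.mpr (by rintro rfl; simp at hm))
      (Ne.symm hm1)
    obtain ⟨t, -, ht⟩ := Nat.exists_mul_mod_eq_one_of_coprime (hmp.symm.pow_left i) hm1'
    refine ⟨y ^ (p ^ i * t), Subgroup.pow_mem _ hy _, ?_, ?_⟩
    · refine Nat.Coprime.coprime_dvd_left (orderOf_dvd_of_pow_eq_one ?_) hmp
      rw [← pow_mul, mul_right_comm, ← hym, pow_mul, pow_orderOf_eq_one, one_pow]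
    · rw [map_pow, hyf, pow_eq_pow_mod (p ^ i * t) (orderOf_dvd_iff_pow_eq_one.mp hx₁o), ht, pow_one]
  set L := A ⊔ A.map (MulAut.conj x).toMonoidHom with hL
  have hAL : A ≤ L := le_sup_left
  have hxL : x ∈ L := by
    have hle : L ≤ A ⊔ A.map (MulAut.conj y₀).toMonoidHom := by
      refine sup_le le_sup_left ?_
      rintro _ ⟨a, ha, rfl⟩
      exact mul_mem (mul_mem hxmem (Subgroup.mem_sup_left ha)) (inv_mem hxmem)
    have heq : L = A ⊔ A.map (MulAut.conj y₀).toMonoidHom :=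
      Subgroup.eq_of_le_of_card_ge hle (hy₀n ▸ Nat.find_min' hmin ⟨x, hxf, rfl⟩)
    exact heq ▸ hxmem
  set R := (Cfsg.pResidual p ↥L).map L.subtype with hR
  have hxR : x ∈ R := ⟨⟨x, hxL⟩, CfsgLib.Transfer.mem_pResidual_of_coprime
    (by rw [← Subgroup.orderOf_coe]; exact hxcop), rfl⟩
  have hRle : ∀ T : Subgroup M, (∀ g ∈ L, (orderOf g).Coprime p → g ∈ T) → R ≤ T := by
    intro T hT
    rw [hR, Subgroup.map_le_iff_le_comap, Cfsg.pResidual, Subgroup.closure_le]
    intro g hg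
    exact hT g g.2 (by rw [Subgroup.orderOf_coe]; exact hg)
  have hLR : L ≤ Subgroup.normalizer (R : Set M) := by
    haveI hch : (Cfsg.pResidual p ↥L).Characteristic := by
      rw [Subgroup.characteristic_iff_map_eq]
      exact fun e => CfsgLib.Transfer.map_pResidual_equiv e
    exact CfsgLib.HallHigman.le_normalizer_map_char Subgroup.le_normalizer _
  have hfLeq : L.map f = L₁ := hfL x hxf
  have hRX : R ≤ X.comap f := hRle _ fun g hg hgc => by
    show f g ∈ X
    refine mem_of_coprime_of_mem_sup hA'p hA'X ?_ (hgc.coprime_dvd_left (orderOf_map_dvd f g))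
    exact hL₁le (hfLeq.le ⟨g, hg, rfl⟩)
  have hxN : x ∈ N.comap f := by show f x ∈ N; rw [hxf]; exact hXN hx₁X
  refine ⟨x, hxN, hxR, hRX.trans (Subgroup.comap_mono hXN), ?_, ?_, ?_⟩
  · -- `[R, A] = R`
    refine le_antisymm (Subgroup.le_normalizer_iff_commutator_le_left.mp (hAL.trans hLR)) ?_
    set D := ⁅R, A⁆ with hD
    have hAD : A ≤ Subgroup.normalizer (D : Set M) := Subgroup.normalizer_commutator_ge_right R A
    have hLD : L ≤ D ⊔ A := by
      refine sup_le le_sup_right ?_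
      rintro _ ⟨a, ha, rfl⟩
      have h1 : ⁅x, a⁆ ∈ D := Subgroup.commutator_mem_commutator hxR ha
      have h2 : (MulAut.conj x).toMonoidHom a = ⁅x, a⁆ * a := by
        simp [commutatorElement_def]
      rw [h2]
      exact Subgroup.mul_mem_sup h1 ha
    exact hRle _ fun g hg hgc => mem_of_coprime_of_mem_sup hA hAD (hLD hg) hgc
  all_goals
    have hBc : ∀ b ∈ B, ∀ g ∈ L, b * f g = f g * b := by
      intro b hb g hg
      obtain ⟨u, hu, v, hv, huv⟩ :=
        CfsgLib.Coprime.exists_mul_of_mem_sup hA'X (hL₁le (hfLeq.le ⟨g, hg, rfl⟩))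
      rw [← huv]
      exact ((show Commute b u from Subgroup.mem_centralizer_iff.mp (Subgroup.mem_inf.mp (hXC hu)).2 b hb).mul_right
        (hA'c b (hBA hb) v hv)).eq
    set P₀ := L ⊓ B.comap f with hP₀
    have hP₀p : IsPGroup p P₀ := ((hA'p.to_le hBA).comap_of_ker_isPGroup f (by
      rw [QuotientGroup.ker_mk']; exact CfsgLib.PLocal.isPGroup_pCore p M)).to_inf_right
    have hP₀n : (P₀.subgroupOf L).Normal := by
      constructor
      rintro ⟨u, huL⟩ hu ⟨g, hg⟩
      refine ⟨L.mul_mem (L.mul_mem hg huL) (L.inv_mem hg), ?_⟩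
      show f (g * u * g⁻¹) ∈ B
      rw [map_mul, map_mul, map_inv, ← hBc (f u) hu.2 g hg, mul_inv_cancel_right]
      exact hu.2
    have hBne : ¬ A' ≤ B := fun h => by
      apply hXnt
      rw [Subgroup.commutator_eq_bot_iff_le_centralizer]
      exact hXC.trans (inf_le_right.trans (Subgroup.centralizer_le h))
    have hBa : Subgroup.zpowers a₀ ≤ Subgroup.normalizer (B : Set (M ⧸ O)) :=
      Subgroup.zpowers_le.mpr (Subgroup.mem_normalizer_iff.mpr fun b => ⟨fun hb => by
        rw [hA'c a₀ ha₀ b (hBA hb), mul_inv_cancel_right]; exact hb, fun hb => by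
        have hbA : b ∈ A' := by
          have := A'.mul_mem (A'.mul_mem (A'.inv_mem ha₀) (hBA hb)) ha₀
          simpa [mul_assoc] using this
        rwa [hA'c a₀ ha₀ b hbA, mul_inv_cancel_right] at hb⟩)
    have ha₀p : orderOf a₀ = p := orderOf_eq_prime (hA'pow a₀ ha₀) (by
      rintro rfl; apply hBne; rw [← haB, Subgroup.zpowers_one_eq_bot, sup_bot_eq])
    have hdisj : B ⊓ Subgroup.zpowers a₀ = ⊥ := by
      rw [← Subgroup.card_eq_one]
      rcases (Nat.dvd_prime (Fact.out : p.Prime)).mp (ha₀p ▸ Nat.card_zpowers a₀ ▸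
        Subgroup.card_dvd_of_le (inf_le_right : B ⊓ Subgroup.zpowers a₀ ≤ _)) with h | h
      · exact h
      · exfalso
        apply hBne
        rw [← haB, ← Subgroup.eq_of_le_of_card_ge (inf_le_right : B ⊓ Subgroup.zpowers a₀ ≤ _)
          (by rw [Nat.card_zpowers, ha₀p, h])]
        exact sup_le le_rfl inf_le_left
    have hidx : (B.comap f).relIndex A = p := by
      rw [Subgroup.relIndex_comap, ← hA']
      have h1 := Subgroup.relIndex_mul_relIndex ⊥ B A' bot_le hBA
      rw [Subgroup.relIndex_bot_left, Subgroup.relIndex_bot_left] at h1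
      have h2 := CfsgLib.Coprime.card_sup_eq hBa hdisj
      rw [haB, Nat.card_zpowers, ha₀p] at h2
      exact Nat.eq_of_mul_eq_mul_left Nat.card_pos (h1.trans h2)
    have hA0 : A ⊓ (Cfsg.pCore p ↥L).map L.subtype = A ⊓ B.comap f := by
      apply le_antisymm
      · rintro u ⟨huA, huP⟩
        refine ⟨huA, ?_⟩
        show f u ∈ B
        by_contra huB
        set T := ((Cfsg.pCore p ↥L).map L.subtype).map f with hT
        have hTp : IsPGroup p T := ((CfsgLib.PLocal.isPGroup_pCore p ↥L).map _).map f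
        have hXT : X ≤ Subgroup.normalizer (T : Set (M ⧸ O)) := by
          refine (hXL₁.trans hfLeq.ge).trans ?_
          refine le_trans (Subgroup.map_mono ?_) (Subgroup.le_normalizer_map f)
          exact CfsgLib.HallHigman.le_normalizer_map_char Subgroup.le_normalizer _
        have hTX : T ≤ Subgroup.normalizer (X : Set (M ⧸ O)) := by
          refine le_trans ?_ (sup_le Subgroup.le_normalizer hA'X : X ⊔ A' ≤ _)
          exact ((Subgroup.map_mono (Subgroup.map_subtype_le _)).trans hfLeq.le).trans hL₁le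
        have hfu : ∀ w ∈ X, Commute w (f u) := by
          intro w hw
          have h1 : ⁅w, f u⁆ ∈ X ⊓ T := ⟨Subgroup.le_normalizer_iff_commutator_le_left.mp hTX
              (Subgroup.commutator_mem_commutator hw ⟨u, huP, rfl⟩),
            Subgroup.le_normalizer_iff_commutator_le_right.mp hXT
              (Subgroup.commutator_mem_commutator hw ⟨u, huP, rfl⟩)⟩
          obtain ⟨j, hj⟩ := IsPGroup.iff_card.mp hTp
          rw [CfsgLib.Coprime.inf_eq_bot_of_coprime (by rw [hj]; exact hXp.pow_right j),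
            Subgroup.mem_bot] at h1
          exact commutatorElement_eq_one_iff_commute.mp h1
        set E := A' ⊓ Subgroup.centralizer (X : Set (M ⧸ O)) with hE
        have hBE : B ≤ E := le_inf hBA
          (Subgroup.le_centralizer_iff.mp (hXC.trans inf_le_right))
        have huE : f u ∈ E := ⟨⟨u, huA, rfl⟩, Subgroup.mem_centralizer_iff.mpr fun w hw => hfu w hw⟩
        have hBidx : B.relIndex A' = p := by rw [hA', ← Subgroup.relIndex_comap]; exact hidx
        have h1 := Subgroup.relIndex_mul_relIndex B E A' hBE inf_le_left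
        rw [hBidx] at h1
        rcases (Nat.dvd_prime (Fact.out : p.Prime)).mp (Dvd.intro _ h1) with h | h
        · exact huB (Subgroup.relIndex_eq_one.mp h huE)
        · rw [h] at h1
          have h2 : E.relIndex A' = 1 :=
            Nat.eq_of_mul_eq_mul_left (Fact.out : p.Prime).pos (h1.trans (mul_one p).symm)
          exact hXnt (Subgroup.commutator_eq_bot_iff_le_centralizer.mpr (Subgroup.le_centralizer_iff.mp
            ((Subgroup.relIndex_eq_one.mp h2).trans inf_le_right)))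
      · rintro u ⟨huA, huB⟩
        refine ⟨huA, ⟨u, hAL huA⟩, ?_, rfl⟩
        exact CfsgLib.PLocal.le_pCore (N := P₀.subgroupOf L)
          (hP₀p.of_equiv (Subgroup.subgroupOfEquivOfLe inf_le_left).symm) (show u ∈ P₀ from ⟨hAL huA, huB⟩)
    rw [hA0]
  · rw [Subgroup.inf_relIndex_left, hidx]
  · rw [Subgroup.commutator_le]
    rintro u ⟨huA, huB⟩ g hg
    rw [← QuotientGroup.eq_one_iff]
    show f ⁅u, g⁆ = 1
    rw [map_commutatorElement, commutatorElement_eq_one_iff_mul_comm]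
    exact hBc (f u) huB g hg

end Cfsg.Agent.S3754
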