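import Cfsg.Statements.S4400
-- import your own Cfsg.Agent.* helpers here

set_option autoImplicit false
set_option linter.style.haveILetI false
set_option linter.unusedSimpArgs false
open Cfsg

namespace Cfsg.Agent.S4400

theorem exists_central_mem {P : Type*} [Group P] [Finite P] {p : ℕ} [Fact p.Prime]
    (hP : IsPGroup p P) (N : Subgroup P) [hNn : N.Normal] (hN : N ≠ ⊥) :
    ∃ z ∈ N, z ≠ 1 ∧ z ∈ Subgroup.center P := by
  letI : MulAction P ↥N :=
    MulAction.compHom ↥N (MulAut.conjNormal (H := N))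
  have hd : p ∣ Nat.card N := by
    obtain ⟨k, hk⟩ := IsPGroup.iff_card.1 (hP.to_subgroup N)
    rcases Nat.eq_zero_or_pos k with h0 | h0
    · exact absurd (N.card_eq_one.1 (by rw [hk, h0, pow_zero])) hN
    · exact hk ▸ dvd_pow_self _ h0.ne'
  have h1 : (1 : N) ∈ MulAction.fixedPoints P N := fun g => by
    show MulAut.conjNormal g (1 : N) = 1
    simp
  obtain ⟨z, hz, hz1⟩ := hP.exists_fixed_point_of_prime_dvd_card_of_fixed_point N hd h1
  refine ⟨z, z.2, fun h => hz1 (Subtype.ext h.symm), Subgroup.mem_center_iff.2 fun g => ?_⟩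
  have h2 := congrArg Subtype.val (hz g)
  change ((MulAut.conjNormal g z : N) : P) = z at h2
  rw [MulAut.conjNormal_apply, mul_inv_eq_iff_eq_mul] at h2
  exact h2

theorem relIndex_mul_natCard {S : Type*} [Group S] {H K : Subgroup S} (h : H ≤ K) :
    H.relIndex K * Nat.card H = Nat.card K := by
  rw [← Subgroup.relIndex_bot_left, ← Subgroup.relIndex_bot_left (H := K), mul_comm]
  exact Subgroup.relIndex_mul_relIndex _ _ _ bot_le h

/-- The subgroup generated by the squares of the elements of `K`. -/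
def squaresOf {S : Type*} [Group S] (K : Subgroup S) : Subgroup S :=
  Subgroup.closure {y : S | ∃ x ∈ K, x ^ 2 = y}

theorem sq_mem_squaresOf {S : Type*} [Group S] {K : Subgroup S} {x : S} (hx : x ∈ K) :
    x ^ 2 ∈ squaresOf K := Subgroup.subset_closure ⟨x, hx, rfl⟩

theorem squaresOf_le {S : Type*} [Group S] (K : Subgroup S) : squaresOf K ≤ K := by
  rw [squaresOf, Subgroup.closure_le]
  rintro y ⟨x, hx, rfl⟩
  exact K.pow_mem hx 2

theorem squaresOf_normal {S : Type*} [Group S] (K : Subgroup S) [K.Normal] :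
    (squaresOf K).Normal :=
  ⟨fun y hy g => by
    have : (squaresOf K).map (MulAut.conj g).toMonoidHom ≤ squaresOf K := by
      rw [squaresOf, MonoidHom.map_closure, Subgroup.closure_le]
      rintro _ ⟨_, ⟨x, hx, rfl⟩, rfl⟩
      refine Subgroup.subset_closure ⟨g * x * g⁻¹, ‹K.Normal›.conj_mem x hx g, ?_⟩
      simp [conj_pow]
    exact this ⟨y, hy, rfl⟩⟩

theorem exists_sq_ne_one {S : Type*} [Group S] {P : Subgroup S} (hP : ¬ IsMulCommutative ↥P) :
    ∃ x ∈ P, x ^ 2 ≠ 1 := by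
  by_contra h
  push Not at h
  apply hP
  refine ⟨⟨fun a b => ?_⟩⟩
  have hinv : ∀ c : P, c⁻¹ = c := fun c =>
    inv_eq_of_mul_eq_one_left (Subtype.ext (by simpa [sq] using h c c.2))
  have h1 := hinv (a * b)
  rw [mul_inv_rev, hinv, hinv] at h1
  exact h1.symm

theorem center_map_le_squaresOf {S : Type*} [Group S] [Finite S] (h2 : IsPGroup 2 S)
    (P : Subgroup S) [P.Normal] (hP : ¬ IsMulCommutative ↥P)
    (hZP : Nat.card ↥(Subgroup.center ↥P) = 2) :
    (Subgroup.center ↥P).map P.subtype ≤ squaresOf P := by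
  haveI : Fact (Nat.Prime 2) := ⟨Nat.prime_two⟩
  haveI := squaresOf_normal P
  have hne : (squaresOf P).subgroupOf P ≠ ⊥ := by
    obtain ⟨x, hx, hx2⟩ := exists_sq_ne_one hP
    intro hb
    have : (⟨x ^ 2, P.pow_mem hx 2⟩ : P) ∈ (squaresOf P).subgroupOf P := sq_mem_squaresOf hx
    rw [hb, Subgroup.mem_bot] at this
    exact hx2 (congrArg Subtype.val this)
  obtain ⟨z, hz, hz1, hzc⟩ := exists_central_mem (h2.to_subgroup P) _ hne
  rintro _ ⟨y, hy, rfl⟩
  obtain ⟨a, b, -, hab⟩ := Nat.card_eq_two_iff.1 hZP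
  have hy' : (⟨y, hy⟩ : Subgroup.center P) = 1 ∨ (⟨y, hy⟩ : Subgroup.center P) = ⟨z, hzc⟩ := by
    have m : ∀ c : Subgroup.center P, c = a ∨ c = b := fun c => by
      have hc : c ∈ ({a, b} : Set (Subgroup.center P)) := hab ▸ Set.mem_univ c
      simpa using hc
    have hne' : (1 : Subgroup.center P) ≠ ⟨z, hzc⟩ := fun h =>
      hz1 (congrArg Subtype.val h).symm
    rcases m ⟨y, hy⟩ with h | h <;> rcases m 1 with h' | h' <;>
      rcases m ⟨z, hzc⟩ with h'' | h'' <;> grind
  rcases hy' with h | h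
  · have hy1 : y = 1 := congrArg Subtype.val h
    simp [hy1]
  · have hy1 : y = z := congrArg Subtype.val h
    subst hy1
    exact hz

/-- Bound for elementary abelian subgroups of homomorphic images of subgroups. -/
theorem card_le_of_hom {S : Type*} [Group S] {p k : ℕ} (hr : Cfsg.SectionalPRankLE p k S)
    (H : Subgroup S) {X : Type*} [Group X] (f : ↥H →* X) (A : Subgroup X) (hA : A ≤ f.range)
    (hAc : ∀ a ∈ A, ∀ b ∈ A, a * b = b * a) (hAp : ∀ a ∈ A, a ^ p = 1) :
    Nat.card A ≤ p ^ k := by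
  let e := QuotientGroup.quotientKerEquivRange f
  let j : A →* ↥H ⧸ f.ker := e.symm.toMonoidHom.comp (Subgroup.inclusion hA)
  have hj : Function.Injective j := e.symm.injective.comp (Subgroup.inclusion_injective hA)
  have hr' := hr H f.ker j.range ⟨⟨?_⟩⟩ ?_
  · exact le_trans (Nat.card_congr (MonoidHom.ofInjective hj).toEquiv).le hr'
  · rintro ⟨_, a, rfl⟩ ⟨_, b, rfl⟩
    exact Subtype.ext (by
      show j a * j b = j b * j a
      rw [← map_mul, ← map_mul]
      exact congrArg j (Subtype.ext (hAc _ a.2 _ b.2)))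
  · rintro _ ⟨a, rfl⟩
    rw [← map_pow, ← map_one j]
    exact congrArg j (Subtype.ext (by simpa using hAp _ a.2))

theorem four_le_relIndex_squaresOf {S : Type*} [Group S] [Finite S] (h2 : IsPGroup 2 S)
    (P : Subgroup S) [P.Normal] (hP : ¬ IsMulCommutative ↥P) :
    4 ≤ (squaresOf P).relIndex P := by
  haveI : Fact (Nat.Prime 2) := ⟨Nat.prime_two⟩
  haveI := squaresOf_normal P
  have hidx : ∀ M : Subgroup P, IsCoatom M → M.index = 2 := by
    intro M hM
    haveI hn : Group.IsNilpotent P := (h2.to_subgroup P).isNilpotent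
    haveI : M.Normal := Subgroup.NormalizerCondition.normal_of_coatom M Group.normalizerCondition_of_isNilpotent hM
    obtain ⟨k, hk⟩ := (h2.to_subgroup P).index M
    rcases k with _ | _ | k
    · exact absurd (Subgroup.index_eq_one.1 (by simpa using hk)) hM.1
    · simpa using hk
    · exfalso
      have hd : 2 ∣ Nat.card (P ⧸ M) := by
        rw [← Subgroup.index_eq_card, hk]
        exact dvd_pow_self _ (by omega)
      obtain ⟨c, hc⟩ := exists_prime_orderOf_dvd_card' 2 hd
      have hK := hM.2 ((Subgroup.zpowers c).comap (QuotientGroup.mk' M)) ?_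
      · have h1 := congrArg Subgroup.index hK
        rw [Subgroup.index_comap_of_surjective _ (QuotientGroup.mk'_surjective M),
          Subgroup.index_top, Subgroup.index_eq_one] at h1
        have h3 : Nat.card (P ⧸ M) = 2 := by rw [← hc, ← Nat.card_zpowers, h1, Subgroup.card_top]
        rw [← Subgroup.index_eq_card, hk] at h3
        have : 2 ^ 2 ≤ 2 ^ (k + 1 + 1) := Nat.pow_le_pow_right (by omega) (by omega)
        omega
      · refine lt_of_le_of_ne (fun m hm => ?_) (fun h => ?_)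
        · show (QuotientGroup.mk' M) m ∈ Subgroup.zpowers c
          rw [show QuotientGroup.mk' M m = 1 from (QuotientGroup.eq_one_iff m).2 hm]
          exact one_mem _
        · obtain ⟨x, rfl⟩ := QuotientGroup.mk'_surjective M c
          have hx : x ∈ M := by
            rw [h]
            exact Subgroup.mem_zpowers _
          rw [show QuotientGroup.mk' M x = 1 from (QuotientGroup.eq_one_iff x).2 hx, orderOf_one] at hc
          omega
  have hle : (squaresOf P).subgroupOf P ≤ frattini P := by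
    intro x hx
    simp only [frattini, Order.radical, Subgroup.mem_iInf]
    intro M hM
    have : squaresOf P ≤ M.map P.subtype := by
      rw [squaresOf, Subgroup.closure_le]
      rintro y ⟨u, hu, rfl⟩
      exact ⟨_, Subgroup.sq_mem_of_index_two (hidx M hM) (⟨u, hu⟩ : P), rfl⟩
    obtain ⟨m, hm, hmx⟩ := this hx
    exact (Subtype.ext hmx : m = x) ▸ hm
  obtain ⟨k, hk⟩ := (h2.to_subgroup P).index ((squaresOf P).subgroupOf P)
  change 4 ≤ ((squaresOf P).subgroupOf P).index
  by_contra hlt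
  rw [hk] at hlt
  have hk2 : k ≤ 1 := by
    by_contra h
    exact hlt (le_trans (by norm_num) (Nat.pow_le_pow_right (show 0 < 2 by norm_num) (show 2 ≤ k by omega)))
  have hcyc : IsCyclic (↥P ⧸ (squaresOf P).subgroupOf P) := by
    rcases Nat.le_one_iff_eq_zero_or_eq_one.1 hk2 with rfl | rfl
    · rw [pow_zero, Subgroup.index_eq_card] at hk
      haveI := (Nat.card_eq_one_iff_unique.1 hk).1
      infer_instance
    · rw [pow_one, Subgroup.index_eq_card] at hk
      exact isCyclic_of_prime_card hk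
  obtain ⟨g, hg⟩ := hcyc.exists_generator
  obtain ⟨x, rfl⟩ := QuotientGroup.mk_surjective g
  have htop : Subgroup.zpowers x ⊔ frattini P = ⊤ := by
    rw [eq_top_iff]
    intro y _
    obtain ⟨i, hi⟩ := Subgroup.mem_zpowers_iff.1 (hg (y : ↥P ⧸ _))
    rw [← QuotientGroup.mk_zpow, QuotientGroup.eq] at hi
    have : y = x ^ i * ((x ^ i)⁻¹ * y) := by group
    rw [this]
    exact mul_mem (Subgroup.mem_sup_left (zpow_mem (Subgroup.mem_zpowers x) i))
      (Subgroup.mem_sup_right (hle hi))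
  have hz := frattini_nongenerating htop
  apply hP
  refine ⟨⟨fun a b => ?_⟩⟩
  obtain ⟨i, rfl⟩ := Subgroup.mem_zpowers_iff.1 (hz.symm ▸ Subgroup.mem_top a : a ∈ Subgroup.zpowers x)
  obtain ⟨j, rfl⟩ := Subgroup.mem_zpowers_iff.1 (hz.symm ▸ Subgroup.mem_top b : b ∈ Subgroup.zpowers x)
  rw [← zpow_add, ← zpow_add, add_comm]

theorem inf_eq_bot_of_centers_ne {S : Type*} [Group S] [Finite S] (h2 : IsPGroup 2 S)
    (P Q : Subgroup S) [P.Normal] [Q.Normal]
    (hZP : Nat.card ↥(Subgroup.center ↥P) = 2) (hZQ : Nat.card ↥(Subgroup.center ↥Q) = 2)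
    (hne : (Subgroup.center ↥P).map P.subtype ≠ (Subgroup.center ↥Q).map Q.subtype) :
    P ⊓ Q = ⊥ := by
  haveI : Fact (Nat.Prime 2) := ⟨Nat.prime_two⟩
  by_contra hb
  obtain ⟨z, hz, hz1, hzc⟩ := exists_central_mem h2 (P ⊓ Q) hb
  apply hne
  have key : ∀ (R : Subgroup S), Nat.card ↥(Subgroup.center ↥R) = 2 → z ∈ R →
      (Subgroup.center ↥R).map R.subtype = Subgroup.zpowers z := by
    intro R hR hzR
    have hle : Subgroup.zpowers z ≤ (Subgroup.center ↥R).map R.subtype := by
      rw [Subgroup.zpowers_le]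
      exact ⟨⟨z, hzR⟩, Subgroup.mem_center_iff.2 fun g =>
        Subtype.ext (Subgroup.mem_center_iff.1 hzc g), rfl⟩
    refine (Subgroup.eq_of_le_of_card_ge hle ?_).symm
    rw [Subgroup.card_map_of_injective R.subtype_injective, hR, Nat.card_zpowers]
    have h0 : orderOf z ≠ 0 := (orderOf_pos z).ne'
    have h1 : orderOf z ≠ 1 := mt orderOf_eq_one_iff.1 hz1
    omega
  rw [key P hZP hz.1, key Q hZQ hz.2]

theorem card_sup_of_disjoint {S : Type*} [Group S] [Finite S] (P Q : Subgroup S) [P.Normal] [Q.Normal]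
    (hd : P ⊓ Q = ⊥) : Nat.card ↥(P ⊔ Q) = Nat.card P * Nat.card Q := by
  rw [← Nat.card_prod]
  refine (Nat.card_congr (Equiv.ofBijective
    (fun x : P × Q => (⟨(x.1 : S) * x.2, Subgroup.mul_mem_sup x.1.2 x.2.2⟩ : ↥(P ⊔ Q))) ⟨?_, ?_⟩)).symm
  · intro x y h
    have h' : (x.1 : S) * x.2 = y.1 * y.2 := congrArg Subtype.val h
    exact Subgroup.mul_injective_of_disjoint (disjoint_iff.2 hd) h'
  · rintro ⟨y, hy⟩
    obtain ⟨a, ha, b, hb, rfl⟩ := Subgroup.mem_sup_of_normal_right.1 hy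
    exact ⟨(⟨a, ha⟩, ⟨b, hb⟩), rfl⟩

theorem commute_of_inf_eq_bot {S : Type*} [Group S] (P Q : Subgroup S) [P.Normal] [Q.Normal]
    (hd : P ⊓ Q = ⊥) {x y : S} (hx : x ∈ P) (hy : y ∈ Q) : x * y = y * x :=
  Subgroup.commute_of_normal_of_disjoint P Q ‹_› ‹_› (disjoint_iff.2 hd) x y hx hy

theorem sup_contains_centralizer {S : Type*} [Group S] [Finite S] (h2 : IsPGroup 2 S)
    (hr : Cfsg.SectionalPRankLE 2 4 S)
    (P Q : Subgroup S) [P.Normal] [Q.Normal] (hP : ¬ IsMulCommutative ↥P) (hQ : ¬ IsMulCommutative ↥Q)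
    (hZP : Nat.card ↥(Subgroup.center ↥P) = 2) (hZQ : Nat.card ↥(Subgroup.center ↥Q) = 2)
    (hd : P ⊓ Q = ⊥) :
    Subgroup.centralizer ((P ⊔ Q : Subgroup S) : Set S) ≤ P ⊔ Q := by
  by_contra hle
  haveI : Fact (Nat.Prime 2) := ⟨Nat.prime_two⟩
  haveI := squaresOf_normal P
  haveI := squaresOf_normal Q
  obtain ⟨c₀, hc₀, hc₀'⟩ := SetLike.not_le_iff_exists.1 hle
  obtain ⟨c, hc, hcK, hc2⟩ : ∃ c, c ∈ Subgroup.centralizer ((P ⊔ Q : Subgroup S) : Set S) ∧
      c ∉ P ⊔ Q ∧ c ^ 2 ∈ P ⊔ Q := by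
    have hex : ∃ n, c₀ ^ (2 ^ n) ∈ P ⊔ Q := by
      obtain ⟨n, hn⟩ := h2 c₀
      exact ⟨n, hn ▸ one_mem _⟩
    classical
    have hn := Nat.find_spec hex
    rcases h : Nat.find hex with _ | m
    · rw [h, pow_zero, pow_one] at hn
      exact absurd hn hc₀'
    · rw [h] at hn
      refine ⟨c₀ ^ 2 ^ m, Subgroup.pow_mem _ hc₀ _, Nat.find_min hex (by omega), ?_⟩
      rw [← pow_mul, ← pow_succ]
      exact hn
  let N := squaresOf P ⊔ squaresOf Q
  haveI hN : N.Normal := Subgroup.sup_normal _ _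
  let π := QuotientGroup.mk' N
  have hNK : N ≤ P ⊔ Q := sup_le_sup (squaresOf_le P) (squaresOf_le Q)
  have hsqK : ∀ x ∈ P ⊔ Q, x ^ 2 ∈ N := by
    intro x hx
    obtain ⟨a, ha, b, hb, rfl⟩ := Subgroup.mem_sup_of_normal_right.1 hx
    rw [(show Commute a b from commute_of_inf_eq_bot P Q hd ha hb).mul_pow]
    exact Subgroup.mul_mem_sup (sq_mem_squaresOf ha) (sq_mem_squaresOf hb)
  have hc2N : c ^ 2 ∈ N := by
    obtain ⟨a, ha, b, hb, hab⟩ := Subgroup.mem_sup_of_normal_right.1 hc2
    have hcent := Subgroup.mem_centralizer_iff.1 (Subgroup.pow_mem _ hc 2)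
    rw [← hab] at hcent ⊢
    refine Subgroup.mul_mem_sup ?_ ?_
    · refine center_map_le_squaresOf h2 P hP hZP ⟨⟨a, ha⟩, Subgroup.mem_center_iff.2 fun g => Subtype.ext ?_, rfl⟩
      have h1 : (g : S) * (a * b) = (a * b) * g := hcent g (Subgroup.mem_sup_left g.2)
      rw [mul_assoc a b, ← commute_of_inf_eq_bot P Q hd g.2 hb, ← mul_assoc, ← mul_assoc] at h1
      exact mul_right_cancel h1
    · refine center_map_le_squaresOf h2 Q hQ hZQ ⟨⟨b, hb⟩, Subgroup.mem_center_iff.2 fun g => Subtype.ext ?_, rfl⟩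
      have h1 : (g : S) * (a * b) = (a * b) * g := hcent g (Subgroup.mem_sup_right g.2)
      rw [← mul_assoc, ← commute_of_inf_eq_bot P Q hd ha g.2, mul_assoc, mul_assoc] at h1
      exact mul_left_cancel h1
  let K' := (P ⊔ Q).map π
  have hcK' : π c ∉ K' := by
    rintro ⟨x, hx, hxe⟩
    have h1 : x⁻¹ * c ∈ N := QuotientGroup.eq.1 hxe
    exact hcK (by simpa using mul_mem hx (hNK h1))
  let A := K' ⊔ Subgroup.zpowers (π c)
  have hsub : A ≤ (π.comp (⊤ : Subgroup S).subtype).range := fun a _ => by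
    obtain ⟨x, rfl⟩ := QuotientGroup.mk'_surjective N a
    exact ⟨⟨x, trivial⟩, rfl⟩
  have hcomm : ∀ u ∈ P ⊔ Q, π c * π u = π u * π c := fun u hu => by
    rw [← map_mul, ← map_mul, Subgroup.mem_centralizer_iff.1 hc u hu]
  have hKe : ∀ a ∈ K', a ^ 2 = 1 := by
    rintro _ ⟨x, hx, rfl⟩
    rw [← map_pow]
    exact (QuotientGroup.eq_one_iff _).2 (hsqK x hx)
  have hc1 : π c ^ 2 = 1 := by
    rw [← map_pow]
    exact (QuotientGroup.eq_one_iff _).2 hc2N
  have hKcomm : ∀ a ∈ K', ∀ b ∈ K', a * b = b * a := by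
    intro a ha b hb
    have hinv : ∀ d ∈ K', d⁻¹ = d := fun d hd' =>
      inv_eq_of_mul_eq_one_left (by rw [← sq]; exact hKe d hd')
    have h1 := hinv _ (mul_mem ha hb)
    rw [mul_inv_rev, hinv a ha, hinv b hb] at h1
    exact h1.symm
  have hAc : IsMulCommutative ↥A := by
    have : A = Subgroup.closure ((K' : Set (S ⧸ N)) ∪ {π c}) := by
      rw [Subgroup.closure_union, Subgroup.closure_eq, ← Subgroup.zpowers_eq_closure]
    rw [this]
    refine Subgroup.isMulCommutative_closure ?_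
    rintro a (ha | ha) b (hb | hb)
    · exact hKcomm a ha b hb
    · obtain rfl : b = π c := hb
      obtain ⟨u, hu, rfl⟩ := ha
      exact (hcomm u hu).symm
    · obtain rfl : a = π c := ha
      obtain ⟨u, hu, rfl⟩ := hb
      exact hcomm u hu
    · obtain rfl : a = π c := ha
      obtain rfl : b = π c := hb
      rfl
  have hAe : ∀ a ∈ A, a ^ 2 = 1 := by
    intro a ha
    have hAker : A ≤ {carrier := {x | x ∈ A ∧ x ^ 2 = 1}
                      one_mem' := ⟨one_mem _, one_pow _⟩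
                      mul_mem' := fun {x y} hx hy => ⟨mul_mem hx.1 hy.1, by
                        have : Commute x y :=
                          congrArg Subtype.val (hAc.is_comm.comm (⟨x, hx.1⟩ : A) ⟨y, hy.1⟩)
                        rw [this.mul_pow, hx.2, hy.2, one_mul]⟩
                      inv_mem' := fun {x} hx => ⟨inv_mem hx.1, by rw [inv_pow, hx.2, inv_one]⟩ } :=
      sup_le (fun x hx => ⟨Subgroup.mem_sup_left hx, hKe x hx⟩)
        (Subgroup.zpowers_le.2 ⟨Subgroup.mem_sup_right (Subgroup.mem_zpowers _), hc1⟩)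
    exact (hAker ha).2
  have hle16 := card_le_of_hom hr ⊤ _ A hsub
    (fun a ha b hb => congrArg Subtype.val (hAc.is_comm.comm (⟨a, ha⟩ : A) ⟨b, hb⟩)) hAe
  have hlt : 2 * Nat.card K' ≤ Nat.card A := by
    have h1 := relIndex_mul_natCard (le_sup_left : K' ≤ A)
    have h0 : K'.relIndex A ≠ 0 := Subgroup.index_ne_zero_of_finite
    have h3 : K'.relIndex A ≠ 1 := fun h =>
      hcK' (Subgroup.relIndex_eq_one.1 h (Subgroup.mem_sup_right (Subgroup.mem_zpowers _)))
    calc 2 * Nat.card K' ≤ K'.relIndex A * Nat.card K' :=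
          Nat.mul_le_mul_right _ (show 2 ≤ K'.relIndex A by omega)
      _ = Nat.card A := h1
  have hK' : 16 ≤ Nat.card K' := by
    have hcard : Nat.card K' = N.relIndex (P ⊔ Q) := by
      rw [← Subgroup.relIndex_bot_left, show (⊥ : Subgroup (S ⧸ N)) = N.map π from
        (QuotientGroup.map_mk'_self N).symm]
      rw [Subgroup.relIndex_map_map, QuotientGroup.ker_mk', sup_idem, sup_eq_left.2 hNK]
    rw [hcard]
    have e := relIndex_mul_natCard hNK
    have e1 := relIndex_mul_natCard (squaresOf_le P)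
    have e2 := relIndex_mul_natCard (squaresOf_le Q)
    have hd' : squaresOf P ⊓ squaresOf Q = ⊥ :=
      eq_bot_iff.2 ((inf_le_inf (squaresOf_le P) (squaresOf_le Q)).trans hd.le)
    rw [card_sup_of_disjoint P Q hd, card_sup_of_disjoint _ _ hd', ← e1, ← e2] at e
    have f1 : 0 < Nat.card (squaresOf P) * Nat.card (squaresOf Q) :=
      Nat.mul_pos Nat.card_pos Nat.card_pos
    have e' : N.relIndex (P ⊔ Q) * (Nat.card (squaresOf P) * Nat.card (squaresOf Q)) =
        ((squaresOf P).relIndex P * (squaresOf Q).relIndex Q) *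
          (Nat.card (squaresOf P) * Nat.card (squaresOf Q)) := e.trans (by ring)
    rw [Nat.eq_of_mul_eq_mul_right f1 e']
    exact Nat.mul_le_mul (four_le_relIndex_squaresOf h2 P hP) (four_le_relIndex_squaresOf h2 Q hQ)
  omega

/-- Let S be a finite 2-group of sectional 2-rank at most 4, and let P and Q be normal non-abelian subgroups of S whose centres have order 2 and are different. Then P and Q commute elementwise and intersect trivially, and PQ contains its own centralizer in S. -/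
theorem result {S : Type*} [Group S] [Finite S] (h2 : IsPGroup 2 S) (hr : Cfsg.SectionalPRankLE 2 4 S)
    (P Q : Subgroup S) [P.Normal] [Q.Normal] (hP : ¬ IsMulCommutative ↥P) (hQ : ¬ IsMulCommutative ↥Q)
    (hZP : Nat.card ↥(Subgroup.center ↥P) = 2) (hZQ : Nat.card ↥(Subgroup.center ↥Q) = 2)
    (hne : (Subgroup.center ↥P).map P.subtype ≠ (Subgroup.center ↥Q).map Q.subtype) :
    ⁅P, Q⁆ = ⊥ ∧ P ⊓ Q = ⊥ ∧ Subgroup.centralizer ((P ⊔ Q : Subgroup S) : Set S) ≤ P ⊔ Q := by
  have hd := inf_eq_bot_of_centers_ne h2 P Q hZP hZQ hne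
  exact ⟨eq_bot_iff.2 ((Subgroup.commutator_le_inf P Q).trans hd.le), hd,
    sup_contains_centralizer h2 hr P Q hP hQ hZP hZQ hd⟩

end Cfsg.Agent.S4400
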