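import Cfsg.Statements.S4401
import Cfsg.Agent.S4400
-- import your own Cfsg.Agent.* helpers here

set_option autoImplicit false
set_option linter.style.haveILetI false
open Cfsg

namespace Cfsg.Agent.S4401

open Cfsg.Agent.S4400

theorem center_map_eq {S : Type*} [Group S] [Finite S] (P : Subgroup S)
    (hZP : Nat.card ↥(Subgroup.center ↥P) = 2) :
    ∃ z : S, z ≠ 1 ∧ z ∈ P ∧ (∀ x ∈ P, x * z = z * x) ∧
      (∀ y, y ∈ P → (∀ x ∈ P, x * y = y * x) → y = 1 ∨ y = z) ∧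
      (Subgroup.center ↥P).map P.subtype = Subgroup.zpowers z := by
  obtain ⟨a, b, hne, hab⟩ := Nat.card_eq_two_iff.1 hZP
  have m : ∀ c : Subgroup.center P, c = a ∨ c = b := fun c => by
    have hc : c ∈ ({a, b} : Set (Subgroup.center P)) := hab ▸ Set.mem_univ c
    simpa using hc
  obtain ⟨w, hw1, hw⟩ : ∃ w : Subgroup.center P, w ≠ 1 ∧ ∀ c, c = 1 ∨ c = w := by
    rcases m 1 with h | h
    · exact ⟨b, fun hb => hne (h.symm.trans hb.symm), fun c => h ▸ m c⟩
    · exact ⟨a, fun ha => hne (ha.trans h), fun c => h ▸ (m c).symm⟩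
  refine ⟨((w : P) : S), fun h => hw1 (Subtype.ext (Subtype.ext h)), w.1.2,
    fun x hx => congrArg Subtype.val (Subgroup.mem_center_iff.1 w.2 ⟨x, hx⟩), fun y hy hyc => ?_, ?_⟩
  · rcases hw ⟨⟨y, hy⟩, Subgroup.mem_center_iff.2 fun x => Subtype.ext (hyc x x.2)⟩ with h | h
    · exact Or.inl (congrArg (fun c : Subgroup.center P => ((c : P) : S)) h)
    · exact Or.inr (congrArg (fun c : Subgroup.center P => ((c : P) : S)) h)
  · apply le_antisymm
    · rintro _ ⟨c, hc, rfl⟩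
      rcases hw ⟨c, hc⟩ with h | h
      · rw [show c = 1 from congrArg Subtype.val h, map_one]
        exact one_mem _
      · rw [show c = w from congrArg Subtype.val h]
        exact Subgroup.mem_zpowers _
    · rw [Subgroup.zpowers_le]
      exact ⟨w, w.2, rfl⟩

/-- A nonabelian subgroup `R` of `C`, normalized by `C`, with centre `{1, u}`. -/
structure CentredSub {S : Type*} [Group S] (C R : Subgroup S) (u : S) : Prop where
  le : R ≤ C
  norm : ∀ s ∈ C, ∀ x ∈ R, s * x * s⁻¹ ∈ R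
  nc : ¬ IsMulCommutative ↥R
  mem : u ∈ R
  ne_one : u ≠ 1
  comm : ∀ x ∈ R, x * u = u * x
  uniq : ∀ y ∈ R, (∀ x ∈ R, x * y = y * x) → y = 1 ∨ y = u

theorem CentredSub.card {S : Type*} [Group S] [Finite S] {C R : Subgroup S} {u : S}
    (h : CentredSub C R u) : Nat.card ↥(Subgroup.center ↥R) = 2 := by
  classical
  rw [Nat.card_eq_two_iff]
  refine ⟨⟨1, one_mem _⟩, ⟨⟨u, h.mem⟩, Subgroup.mem_center_iff.2 fun x => Subtype.ext (h.comm x x.2)⟩,
    fun he => h.ne_one (congrArg (fun c : Subgroup.center R => ((c : R) : S)) he).symm, ?_⟩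
  ext c
  simp only [Set.mem_insert_iff, Set.mem_singleton_iff, Set.mem_univ, iff_true]
  rcases h.uniq c.1 c.1.2 (fun x hx => congrArg Subtype.val (Subgroup.mem_center_iff.1 c.2 ⟨x, hx⟩))
    with h1 | h1
  · exact Or.inl (Subtype.ext (Subtype.ext h1))
  · exact Or.inr (Subtype.ext (Subtype.ext h1))

theorem sectional_mono {S : Type*} [Group S] [Finite S] {p k : ℕ}
    (hr : Cfsg.SectionalPRankLE p k S) (C : Subgroup S) : Cfsg.SectionalPRankLE p k ↥C := by
  intro H N hN A hAc hAe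
  refine card_le_of_hom hr (H.map C.subtype)
    ((QuotientGroup.mk' N).comp (Subgroup.equivMapOfInjective H C.subtype C.subtype_injective).symm.toMonoidHom)
    A ?_ (fun a ha b hb => congrArg Subtype.val (hAc.is_comm.comm (⟨a, ha⟩ : A) ⟨b, hb⟩)) hAe
  intro a _
  obtain ⟨x, rfl⟩ := QuotientGroup.mk'_surjective N a
  exact ⟨Subgroup.equivMapOfInjective H C.subtype C.subtype_injective x, by simp⟩

theorem pair_facts {S : Type*} [Group S] [Finite S] (h2 : IsPGroup 2 S)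
    (hr : Cfsg.SectionalPRankLE 2 4 S) {C R T : Subgroup S} {u v : S}
    (hR : CentredSub C R u) (hT : CentredSub C T v) (huv : u ≠ v) :
    R ⊓ T = ⊥ ∧ (∀ a ∈ R, ∀ b ∈ T, a * b = b * a) ∧
      ∀ x ∈ C, (∀ a ∈ R, a * x = x * a) → (∀ b ∈ T, b * x = x * b) →
        ∃ r ∈ R, ∃ t ∈ T, x = r * t := by
  haveI hn1 : (R.subgroupOf C).Normal := ⟨fun n hn g => hR.norm g g.2 n hn⟩
  haveI hn2 : (T.subgroupOf C).Normal := ⟨fun n hn g => hT.norm g g.2 n hn⟩
  have hC : IsPGroup 2 ↥C := h2.to_subgroup C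
  have hcard : ∀ {R' : Subgroup S} {u' : S}, CentredSub C R' u' →
      Nat.card ↥(Subgroup.center ↥(R'.subgroupOf C)) = 2 ∧ ¬ IsMulCommutative ↥(R'.subgroupOf C) := by
    intro R' u' h
    refine ⟨?_, fun hc => h.nc ⟨⟨fun a b => ?_⟩⟩⟩
    · rw [Nat.card_congr (Subgroup.centerCongr (Subgroup.subgroupOfEquivOfLe h.le)).toEquiv]
      exact h.card
    · apply (Subgroup.subgroupOfEquivOfLe h.le).symm.injective
      rw [map_mul, map_mul]
      exact hc.is_comm.comm _ _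
  have hne : (Subgroup.center ↥(R.subgroupOf C)).map (R.subgroupOf C).subtype ≠
      (Subgroup.center ↥(T.subgroupOf C)).map (T.subgroupOf C).subtype := by
    intro he
    have hu : (⟨u, hR.le hR.mem⟩ : C) ∈ (Subgroup.center ↥(R.subgroupOf C)).map (R.subgroupOf C).subtype :=
      ⟨⟨⟨u, hR.le hR.mem⟩, hR.mem⟩,
        Subgroup.mem_center_iff.2 fun x => Subtype.ext (Subtype.ext (hR.comm (x : C) x.2)), rfl⟩
    rw [he] at hu
    obtain ⟨w, hw, hwu⟩ := hu
    have hwu' : ((w : C) : S) = u := congrArg Subtype.val hwu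
    rcases hT.uniq u (hwu' ▸ w.2) (fun x hx => hwu' ▸ congrArg (fun c : T.subgroupOf C => ((c : C) : S))
        (Subgroup.mem_center_iff.1 hw ⟨⟨x, hT.le hx⟩, hx⟩)) with h | h
    · exact hR.ne_one h
    · exact huv h
  have hd := inf_eq_bot_of_centers_ne hC _ _ (hcard hR).1 (hcard hT).1 hne
  refine ⟨?_, fun a ha b hb => ?_, fun x hx h1 h2' => ?_⟩
  · rw [eq_bot_iff]
    intro y hy
    have : (⟨y, hR.le hy.1⟩ : C) ∈ R.subgroupOf C ⊓ T.subgroupOf C := hy
    rw [hd, Subgroup.mem_bot] at this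
    exact Subgroup.mem_bot.2 (congrArg Subtype.val this)
  · exact congrArg Subtype.val (commute_of_inf_eq_bot (R.subgroupOf C) (T.subgroupOf C) hd
      (x := ⟨a, hR.le ha⟩) (y := ⟨b, hT.le hb⟩) ha hb)
  · have hm := sup_contains_centralizer hC (sectional_mono hr C) _ _ (hcard hR).2 (hcard hT).2
      (hcard hR).1 (hcard hT).1 hd (x := ⟨x, hx⟩) ?_
    · obtain ⟨r, hr', t, ht', he⟩ := Subgroup.mem_sup_of_normal_right.1 hm
      exact ⟨r, hr', t, ht', (congrArg Subtype.val he).symm⟩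
    · rw [Subgroup.mem_centralizer_iff]
      intro y hy
      obtain ⟨a, ha, b, hb, rfl⟩ := Subgroup.mem_sup_of_normal_right.1 hy
      refine Subtype.ext ?_
      show (a : S) * b * x = x * ((a : S) * b)
      rw [mul_assoc, h2' (b : S) hb, ← mul_assoc, h1 (a : S) ha, mul_assoc]

theorem CentredSub.map_conj {S : Type*} [Group S] {C R : Subgroup S} {u : S}
    (h : CentredSub C R u) (t : S) :
    CentredSub (C.map (MulAut.conj t).toMonoidHom) (R.map (MulAut.conj t).toMonoidHom) (t * u * t⁻¹) := by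
  refine ⟨Subgroup.map_mono h.le, ?_, ?_, ⟨u, h.mem, by simp⟩, ?_, ?_, ?_⟩
  · rintro _ ⟨s, hs, rfl⟩ _ ⟨x, hx, rfl⟩
    exact ⟨_, h.norm s hs x hx, by simp [mul_assoc]⟩
  · intro hc
    refine h.nc ⟨⟨fun a b => ?_⟩⟩
    apply (R.equivMapOfInjective (MulAut.conj t).toMonoidHom (MulAut.conj t).injective).injective
    rw [map_mul, map_mul]
    exact hc.is_comm.comm _ _
  · simpa using h.ne_one
  · rintro _ ⟨x, hx, rfl⟩
    show MulAut.conj t x * MulAut.conj t u = MulAut.conj t u * MulAut.conj t x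
    rw [← map_mul, ← map_mul, h.comm x hx]
  · rintro _ ⟨y, hy, rfl⟩ hc
    refine (h.uniq y hy fun x hx => ?_).imp (by rintro rfl; simp) (by rintro rfl; simp)
    apply (MulAut.conj t).injective
    rw [map_mul, map_mul]
    exact hc _ ⟨x, hx, rfl⟩

/-- The normalizer `M` of `S₀ = C(z)` is the whole group. -/
theorem normalizer_top {S : Type*} [Group S] [Finite S] (h2 : IsPGroup 2 S)
    (hr : Cfsg.SectionalPRankLE 2 4 S) {S₀ P : Subgroup S} {z s : S}
    (hP0 : CentredSub S₀ P z) (hmem : ∀ x : S, x ∈ S₀ ↔ x * z = z * x)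
    (hs : s ∈ Subgroup.normalizer (S₀ : Set S)) (hs' : s ∉ S₀)
    (htwo : ∀ m ∈ Subgroup.normalizer (S₀ : Set S), m * z * m⁻¹ = z ∨ m * z * m⁻¹ = s * z * s⁻¹)
    (hsq : ∀ a ∈ Subgroup.normalizer (S₀ : Set S), a ^ 2 ∈ S₀)
    (hPm : ∀ m ∈ Subgroup.normalizer (S₀ : Set S),
      CentredSub S₀ (P.map (MulAut.conj m).toMonoidHom) (m * z * m⁻¹)) :
    Subgroup.normalizer (S₀ : Set S) = ⊤ := by
  haveI : Fact (Nat.Prime 2) := ⟨Nat.prime_two⟩
  haveI : Group.IsNilpotent S := h2.isNilpotent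
  have hnc : NormalizerCondition S := Group.normalizerCondition_of_isNilpotent
  set M := Subgroup.normalizer (S₀ : Set S) with hMdef
  by_contra hM
  obtain ⟨-, t, ht, ht'⟩ := SetLike.lt_iff_le_and_exists.1 (hnc M (lt_top_iff_ne_top.2 hM))
  have hS₀M : S₀ ≤ M := Subgroup.le_normalizer
  have hzP := hP0.mem
  have hQ0 := hPm s hs
  set w := s * z * s⁻¹ with hwdef
  have hzw : z ≠ w := fun h => hs' ((hmem s).2 (by
    calc s * z = w * s := by simp [hwdef]
      _ = z * s := by rw [← h]))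
  obtain ⟨hPQ, hPQc, hPQC⟩ := pair_facts h2 hr hP0 hQ0 hzw
  let z' := t * z * t⁻¹
  have hmt : ∀ x : S, x * z' = z' * x ↔ t⁻¹ * x * t ∈ S₀ := by
    intro x
    rw [hmem]
    constructor
    · intro h
      calc t⁻¹ * x * t * z = t⁻¹ * (x * z') * t := by simp [z', mul_assoc]
        _ = t⁻¹ * (z' * x) * t := by rw [h]
        _ = z * (t⁻¹ * x * t) := by simp [z', mul_assoc]
    · intro h
      calc x * z' = t * (t⁻¹ * x * t * z) * t⁻¹ := by simp [z', mul_assoc]
        _ = t * (z * (t⁻¹ * x * t)) * t⁻¹ := by rw [h]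
        _ = z' * x := by simp [z', mul_assoc]
  have hMt : ∀ m ∈ M, t⁻¹ * m * t ∈ M := fun m hm =>
    (Subgroup.mem_normalizer_iff.1 ht _).2 (by simpa [mul_assoc] using hm)
  have hzM : z' ∈ M := (Subgroup.mem_normalizer_iff.1 ht z).1 (hS₀M (hP0.le hzP))
  have hswap : ∀ m ∈ M, m ∉ S₀ → m * z * m⁻¹ = w := fun m hm hm' =>
    (htwo m hm).resolve_left (fun h => hm' ((hmem m).2 (mul_inv_eq_iff_eq_mul.1 h)))
  have hfix : ∀ m ∈ S₀, m * z * m⁻¹ = z := fun m hm => mul_inv_eq_of_eq_mul ((hmem m).1 hm)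
  have hprod : ∀ a ∈ M, a ∉ S₀ → a * s ∈ S₀ := by
    intro a ha ha'
    have h1 := hswap a⁻¹ (Subgroup.inv_mem _ ha) (fun h => ha' (inv_mem_iff.1 h))
    rw [hmem, ← mul_inv_eq_iff_eq_mul]
    calc a * s * z * (a * s)⁻¹ = a * w * a⁻¹ := by simp [hwdef, mul_assoc]
      _ = a * (a⁻¹ * z * a⁻¹⁻¹) * a⁻¹ := by rw [h1]
      _ = z := by group
  have hwconj : ∀ k, k * w * k⁻¹ = (k * s) * z * (k * s)⁻¹ := fun k => by simp [hwdef, mul_assoc]
  have hswap' : ∀ m ∈ M, m ∉ S₀ → m * w * m⁻¹ = z := fun m hm hm' => by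
    rw [hwconj, hfix _ (hprod m hm hm')]
  have hfix' : ∀ m ∈ S₀, m * w * m⁻¹ = w := fun m hm => by
    rw [hwconj]
    exact hswap _ (mul_mem (hS₀M hm) hs) (fun h => hs' ((Subgroup.mul_mem_cancel_left _ hm).1 h))
  have hzS : z' ∈ S₀ := by
    by_contra hz'
    obtain ⟨x, hx, hx2⟩ := exists_sq_ne_one hP0.nc
    have hxM : x ∈ M := hS₀M (hP0.le hx)
    have hc : x ^ 2 * z' = z' * x ^ 2 := by
      rw [hmt]
      have := hsq _ (hMt x hxM)
      simpa [sq, mul_assoc] using this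
    have hR := hPm z' hzM
    have hne : z' * z * z'⁻¹ ≠ z := fun h => hz' ((hmem z').2 (mul_inv_eq_iff_eq_mul.1 h))
    obtain ⟨hb, -, -⟩ := pair_facts h2 hr hP0 hR (Ne.symm hne)
    have : x ^ 2 ∈ P ⊓ P.map (MulAut.conj z').toMonoidHom :=
      ⟨pow_mem hx 2, x ^ 2, pow_mem hx 2, by simp [← hc]⟩
    rw [hb, Subgroup.mem_bot] at this
    exact hx2 this
  let c' := z' * (t * w * t⁻¹)
  have hcz : z * w = w * z := hPQc z hzP w hQ0.mem
  have hc'cent : ∀ m ∈ M, m * c' * m⁻¹ = c' := by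
    intro m hm
    have hk := hMt m hm
    have : (t⁻¹ * m * t) * (z * w) * (t⁻¹ * m * t)⁻¹ = z * w := by
      generalize t⁻¹ * m * t = k at hk
      rw [show k * (z * w) * k⁻¹ = (k * z * k⁻¹) * (k * w * k⁻¹) by group]
      by_cases hk' : k ∈ S₀
      · rw [hfix k hk', hfix' k hk']
      · rw [hswap k hk hk', hswap' k hk hk']
        exact hcz.symm
    calc m * c' * m⁻¹
        = t * ((t⁻¹ * m * t) * (z * w) * (t⁻¹ * m * t)⁻¹) * t⁻¹ := by simp [c', z', mul_assoc]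
      _ = c' := by rw [this]; simp [c', z', mul_assoc]
  have hc'c : ∀ m ∈ M, m * c' = c' * m := fun m hm => mul_inv_eq_iff_eq_mul.1 (hc'cent m hm)
  have hc'1 : c' ≠ 1 := by
    intro h
    have h' : z * w = 1 := by
      have : t * (z * w) * t⁻¹ = 1 := by simpa [c', z', mul_assoc] using h
      simpa [conj_eq_one_iff] using this
    have hzQ : z ∈ P.map (MulAut.conj s).toMonoidHom := by
      rw [eq_inv_of_mul_eq_one_left h']
      exact inv_mem hQ0.mem
    have : z ∈ P ⊓ P.map (MulAut.conj s).toMonoidHom := ⟨hzP, hzQ⟩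
    rw [hPQ, Subgroup.mem_bot] at this
    exact hP0.ne_one this
  have hzz : z * z = 1 := by
    rcases hP0.uniq (z * z) (mul_mem hzP hzP) (fun y hy => by
      rw [← mul_assoc, hP0.comm y hy, mul_assoc, hP0.comm y hy, mul_assoc]) with h1 | h1
    · exact h1
    · exact absurd (mul_eq_left.1 h1) hP0.ne_one
  -- `z'` centralises each of the two conjugates of `P`
  have hcomm' : ∀ (R : Subgroup S) (u : S), CentredSub S₀ R u → (∃ g ∈ M, g * u * g⁻¹ ≠ u) →
      ∀ x ∈ R, x * z' = z' * x := by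
    intro R u hR hg x hx
    have hk := hMt x (hS₀M (hR.le hx))
    have e : x * z' * x⁻¹ = t * ((t⁻¹ * x * t) * z * (t⁻¹ * x * t)⁻¹) * t⁻¹ := by simp [z', mul_assoc]
    rcases htwo _ hk with h | h
    · rw [h] at e
      exact mul_inv_eq_iff_eq_mul.1 e
    · exfalso
      rw [h] at e
      have hinv : z'⁻¹ = z' := by
        refine inv_eq_of_mul_eq_one_left ?_
        calc z' * z' = t * (z * z) * t⁻¹ := by simp [z', mul_assoc]
          _ = 1 := by rw [hzz]; simp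
      have hmem' : z'⁻¹ * (x * z' * x⁻¹) ∈ R := by
        have := mul_mem (hR.norm z'⁻¹ (Subgroup.inv_mem _ hzS) x hx) (inv_mem hx)
        simpa [mul_assoc] using this
      rw [e, hinv] at hmem'
      rcases hR.uniq c' hmem' (fun y hy => hc'c y (hS₀M (hR.le hy))) with h1 | h1
      · exact hc'1 h1
      · obtain ⟨g, hg, hgu⟩ := hg
        exact hgu (h1 ▸ hc'cent g hg)
  have hPz := hcomm' P z hP0 ⟨s, hs, Ne.symm hzw⟩
  have hQz := hcomm' _ w hQ0 ⟨s, hs, by rw [hswap' s hs hs']; exact hzw⟩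
  obtain ⟨r, hr', q, hq', hrq⟩ := hPQC z' hzS hPz hQz
  have hrz : r = 1 ∨ r = z := by
    refine hP0.uniq r hr' fun x hx => ?_
    have h := hPz x hx
    rw [hrq, mul_assoc r q x, ← hPQc x hx q hq', ← mul_assoc, ← mul_assoc] at h
    exact mul_right_cancel h
  have hqw : q = 1 ∨ q = w := by
    refine hQ0.uniq q hq' fun x hx => ?_
    have h := hQz x hx
    rw [hrq, ← mul_assoc, ← hPQc r hr' x hx, mul_assoc, mul_assoc] at h
    exact mul_left_cancel h
  have hz'1 : z' ≠ 1 := by simpa [z'] using hP0.ne_one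
  have hzne : z' ≠ z := fun h => ht' (hS₀M ((hmem t).2 (mul_inv_eq_iff_eq_mul.1 h)))
  have hcs : ∀ x, x * z' = z' * x → x ∈ M → x ∈ S₀ := by
    intro x hx hxM
    by_contra hx'
    have e2 := hswap' x hxM hx'
    have e3 : x * z' * x⁻¹ = z' := mul_inv_eq_of_eq_mul hx
    rcases hrz with hr1 | hr1 <;> rcases hqw with hq1 | hq1 <;> rw [hr1, hq1] at hrq
    · exact hz'1 (by simpa using hrq)
    · rw [one_mul] at hrq
      rw [hrq, e2] at e3
      exact hzw e3
    · rw [mul_one] at hrq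
      exact hzne hrq
    · have hcent : ∀ m ∈ M, m * z' * m⁻¹ = z' := by
        intro m hm
        rw [hrq, show m * (z * w) * m⁻¹ = (m * z * m⁻¹) * (m * w * m⁻¹) by group]
        by_cases hm' : m ∈ S₀
        · rw [hfix m hm', hfix' m hm']
        · rw [hswap m hm hm', hswap' m hm hm']
          exact hcz.symm
      have hts : t * s * t⁻¹ ∈ M := (Subgroup.mem_normalizer_iff.1 ht s).1 hs
      apply hzw
      have h5 : t * w * t⁻¹ = t * z * t⁻¹ := by
        calc t * w * t⁻¹ = (t * s * t⁻¹) * z' * (t * s * t⁻¹)⁻¹ := by simp [z', hwdef, mul_assoc]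
          _ = t * z * t⁻¹ := hcent _ hts
      exact (mul_left_cancel (mul_right_cancel h5)).symm
  apply ht'
  rw [hMdef, Subgroup.mem_normalizer_iff_map_conj_eq]
  refine Subgroup.eq_of_le_of_card_ge ?_
    (Subgroup.card_map_of_injective (f := (MulAut.conj t).toMonoidHom) (MulAut.conj t).injective).ge
  rintro _ ⟨x, hx, rfl⟩
  refine hcs _ ((hmt _).2 ?_) ((Subgroup.mem_normalizer_iff.1 ht x).1 (hS₀M hx))
  simpa [mul_assoc] using hx

/-- `P` has sectional rank at most 2 when it commutes with a disjoint nonabelian conjugate. -/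
theorem sectional_two {S : Type*} [Group S] [Finite S] (h2 : IsPGroup 2 S)
    (hr : Cfsg.SectionalPRankLE 2 4 S) (P Q : Subgroup S) (hQ : ¬ IsMulCommutative ↥Q)
    (hPQ : P ⊓ Q = ⊥) (hPQc : ∀ a ∈ P, ∀ b ∈ Q, a * b = b * a) :
    Cfsg.SectionalPRankLE 2 2 ↥P := by
  intro H N hN A hAc hAe
  let Q2 : Subgroup ↥Q := squaresOf ⊤
  haveI : Q2.Normal := squaresOf_normal ⊤
  let ι : ↥H × ↥Q →* S := MonoidHom.noncommCoprod ((P.subtype).comp H.subtype) Q.subtype
    (fun a b => hPQc _ a.1.2 _ b.2)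
  have hι : Function.Injective ι := by
    rw [injective_iff_map_eq_one]
    rintro ⟨a, b⟩ he
    have he' : ((a : P) : S) * b = 1 := he
    have : ((a : P) : S) ∈ P ⊓ Q :=
      ⟨a.1.2, by rw [eq_inv_of_mul_eq_one_left he']; exact Subgroup.inv_mem _ b.2⟩
    rw [hPQ, Subgroup.mem_bot] at this
    rw [this, one_mul] at he'
    exact Prod.ext (Subtype.ext (Subtype.ext this)) (Subtype.ext he')
  let f : ↥ι.range →* (↥H ⧸ N) × (↥Q ⧸ Q2) :=
    ((QuotientGroup.mk' N).prodMap (QuotientGroup.mk' Q2)).comp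
      (MonoidHom.ofInjective hι).symm.toMonoidHom
  have hsq2 : ∀ y : ↥Q ⧸ Q2, y ^ 2 = 1 := by
    intro y
    obtain ⟨y, rfl⟩ := QuotientGroup.mk_surjective y
    rw [← QuotientGroup.mk_pow, QuotientGroup.eq_one_iff]
    exact sq_mem_squaresOf (Subgroup.mem_top y)
  have hcomm2 : ∀ x y : ↥Q ⧸ Q2, x * y = y * x := by
    intro x y
    have hinv : ∀ d : ↥Q ⧸ Q2, d⁻¹ = d := fun d =>
      inv_eq_of_mul_eq_one_left (by rw [← sq]; exact hsq2 d)
    have h1 := hinv (x * y)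
    rw [mul_inv_rev, hinv, hinv] at h1
    exact h1.symm
  have hb16 := card_le_of_hom hr ι.range f (A.prod ⊤) (fun y _ => by
      obtain ⟨a, ha⟩ := QuotientGroup.mk'_surjective N y.1
      obtain ⟨b, hb⟩ := QuotientGroup.mk'_surjective Q2 y.2
      exact ⟨MonoidHom.ofInjective hι (a, b), Prod.ext (by simp [f, ← ha]) (by simp [f, ← hb])⟩)
    (fun a ha b hb => Prod.ext
      (congrArg Subtype.val (hAc.is_comm.comm (⟨a.1, ha.1⟩ : A) ⟨b.1, hb.1⟩)) (hcomm2 _ _))
    (fun a ha => Prod.ext (hAe _ ha.1) (hsq2 _))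
  have h4 : 4 ≤ Nat.card (↥Q ⧸ Q2) := by
    have htop : ¬ IsMulCommutative ↥(⊤ : Subgroup ↥Q) := fun hc => hQ ⟨⟨fun a b =>
      congrArg Subtype.val (hc.is_comm.comm (⟨a, trivial⟩ : (⊤ : Subgroup ↥Q)) ⟨b, trivial⟩)⟩⟩
    have := four_le_relIndex_squaresOf (h2.to_subgroup Q) ⊤ htop
    rwa [Subgroup.relIndex_top_right, Subgroup.index_eq_card] at this
  rw [Nat.card_congr (Subgroup.prodEquiv A ⊤).toEquiv, Nat.card_prod, Subgroup.card_top] at hb16
  have := Nat.mul_le_mul_left (Nat.card A) h4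
  omega

/-- Let S be a finite 2-group of sectional 2-rank at most 4 and P a proper non-abelian subgroup whose centre has order 2. Let S₀ be the centralizer in S of Z(P) and suppose P is normal in S₀. Then either S₀ = S, or P has sectional 2-rank at most 2 and S₀ has index 2 in S. -/
theorem result {S : Type*} [Group S] [Finite S] (h2 : IsPGroup 2 S) (hr : Cfsg.SectionalPRankLE 2 4 S)
    (P : Subgroup S) (hPlt : P ≠ ⊤) (hP : ¬ IsMulCommutative ↥P) (hZP : Nat.card ↥(Subgroup.center ↥P) = 2)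
    (S₀ : Subgroup S) (hS₀ : S₀ = Subgroup.centralizer (((Subgroup.center ↥P).map P.subtype : Subgroup S) : Set S))
    (hPn : ∀ s ∈ S₀, ∀ x ∈ P, s * x * s⁻¹ ∈ P) :
    S₀ = ⊤ ∨ (Cfsg.SectionalPRankLE 2 2 ↥P ∧ S₀.index = 2) := by
  haveI : Fact (Nat.Prime 2) := ⟨Nat.prime_two⟩
  haveI : Group.IsNilpotent S := h2.isNilpotent
  have hnc : NormalizerCondition S := Group.normalizerCondition_of_isNilpotent
  obtain ⟨z, hz1, hzP, hzc, hzu, hmap⟩ := center_map_eq P hZP
  have hmem : ∀ x : S, x ∈ S₀ ↔ x * z = z * x := by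
    intro x
    rw [hS₀, hmap, Subgroup.mem_centralizer_iff]
    refine ⟨fun h => (h z (Subgroup.mem_zpowers z)).symm, fun h y hy => ?_⟩
    obtain ⟨k, rfl⟩ := Subgroup.mem_zpowers_iff.1 hy
    exact ((Commute.zpow_right (show Commute x z from h) k).eq).symm
  have hP0 : CentredSub S₀ P z :=
    ⟨fun x hx => (hmem x).2 (hzc x hx), hPn, hP, hzP, hz1, hzc, hzu⟩
  rcases eq_or_ne S₀ ⊤ with htop | hne
  · exact Or.inl htop
  right
  obtain ⟨s, hs, hs'⟩ : ∃ s ∈ Subgroup.normalizer (S₀ : Set S), s ∉ S₀ := by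
    obtain ⟨-, s, hs, hs'⟩ := SetLike.lt_iff_le_and_exists.1 (hnc S₀ (lt_top_iff_ne_top.2 hne))
    exact ⟨s, hs, hs'⟩
  have hPm : ∀ m ∈ Subgroup.normalizer (S₀ : Set S),
      CentredSub S₀ (P.map (MulAut.conj m).toMonoidHom) (m * z * m⁻¹) := by
    intro m hm
    have := hP0.map_conj m
    rwa [show S₀.map (MulAut.conj m).toMonoidHom = S₀ from
      Subgroup.mem_normalizer_iff_map_conj_eq.1 hm] at this
  have hQ0 := hPm s hs
  have hzw : z ≠ s * z * s⁻¹ := fun h => hs' ((hmem s).2 (by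
    calc s * z = (s * z * s⁻¹) * s := by simp
      _ = z * s := by rw [← h]))
  obtain ⟨hPQ, hPQc, hPQC⟩ := pair_facts h2 hr hP0 hQ0 hzw
  have htwo : ∀ m ∈ Subgroup.normalizer (S₀ : Set S),
      m * z * m⁻¹ = z ∨ m * z * m⁻¹ = s * z * s⁻¹ := by
    intro m hm
    by_contra hcon
    push Not at hcon
    have hR := hPm m hm
    obtain ⟨-, hc1, -⟩ := pair_facts h2 hr hP0 hR (fun h => hcon.1 h.symm)
    obtain ⟨-, hc2, -⟩ := pair_facts h2 hr hQ0 hR (fun h => hcon.2 h.symm)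
    refine hR.nc ⟨⟨fun a b => Subtype.ext ?_⟩⟩
    obtain ⟨r, hr', t, ht', he⟩ := hPQC b (hR.le b.2) (fun x hx => hc1 x hx b b.2)
      (fun x hx => hc2 x hx b b.2)
    show (a : S) * b = b * a
    rw [he, ← mul_assoc, ← hc1 r hr' a a.2, mul_assoc, ← hc2 t ht' a a.2, mul_assoc]
  have hprod : ∀ a ∈ Subgroup.normalizer (S₀ : Set S), ∀ b ∈ Subgroup.normalizer (S₀ : Set S),
      a ∉ S₀ → b ∉ S₀ → a * b ∈ S₀ := by
    intro a ha b hb ha' hb'
    have hsw : ∀ m ∈ Subgroup.normalizer (S₀ : Set S), m ∉ S₀ → m * z * m⁻¹ = s * z * s⁻¹ :=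
      fun m hm hm' => (htwo m hm).resolve_left (fun h => hm' ((hmem m).2 (mul_inv_eq_iff_eq_mul.1 h)))
    have h1 := hsw a⁻¹ (Subgroup.inv_mem _ ha) (fun h => ha' (inv_mem_iff.1 h))
    have h2' := hsw b hb hb'
    rw [hmem, ← mul_inv_eq_iff_eq_mul]
    calc a * b * z * (a * b)⁻¹ = a * (b * z * b⁻¹) * a⁻¹ := by group
      _ = a * (a⁻¹ * z * a⁻¹⁻¹) * a⁻¹ := by rw [h2', h1]
      _ = z := by group
  have hsq : ∀ a ∈ Subgroup.normalizer (S₀ : Set S), a ^ 2 ∈ S₀ := fun a ha => by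
    by_cases h : a ∈ S₀
    · exact pow_mem h 2
    · rw [sq]; exact hprod a ha a ha h h
  have hMtop := normalizer_top h2 hr hP0 hmem hs hs' htwo hsq hPm
  refine ⟨sectional_two h2 hr P _ hQ0.nc hPQ hPQc, ?_⟩
  rw [Subgroup.index_eq_two_iff]
  refine ⟨s, fun b => ?_⟩
  rw [xor_iff_not_iff]
  intro hiff
  by_cases hb : b ∈ S₀
  · exact hs' ((Subgroup.mul_mem_cancel_left _ hb).1 (hiff.2 hb))
  · exact hb (hiff.1 (hprod b (hMtop ▸ Subgroup.mem_top b) s hs hb hs'))

end Cfsg.Agent.S4401
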