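import Cfsg.Statements.S0606

import Cfsg.Agent.PLocal.Replacement

set_option autoImplicit false
open Cfsg Subgroup CfsgLib.PLocal
open scoped commutatorElement

namespace Cfsg.Agent.S0606

/-- Elementary abelian p-subgroups of maximal order are best offenders on any normal elementary abelian p-subgroup. -/
theorem result {G : Type*} [Group G] [Finite G] {p : ℕ} [Fact p.Prime] (V : Subgroup G) [V.Normal] (hV : Cfsg.IsElementaryAbelian p V) (A : Subgroup G) (hA : A ∈ Cfsg.maxElementaryAbelianSubgroups p G) : Cfsg.IsBestOffenderOn p V A := by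
  refine ⟨fun B hBA => ?_, ?_, fun a ha => ?_⟩
  · set CA := V ⊓ Subgroup.centralizer (A : Set G)
    set CB := V ⊓ Subgroup.centralizer (B : Set G)
    have h1 : CB ≤ Subgroup.centralizer (B : Set G) := inf_le_right
    have hsup : IsElementaryAbelian p (CB ⊔ B) :=
      isElementaryAbelian_sup (isElementaryAbelian_of_le hV inf_le_left)
        (isElementaryAbelian_of_le hA.1 hBA) h1
    have h2 := card_sup_mul_card_inf (h1.trans (centralizer_le_normalizer _))
    have h3 : CB ⊓ B ≤ CA := fun x hx =>
      ⟨hx.1.1, le_centralizer_iff_isMulCommutative.mpr hA.1.1 (hBA hx.2)⟩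
    rw [mul_comm, ← h2]
    exact Nat.mul_le_mul (hA.2 _ hsup) (card_le_of_le h3)
  · rw [commutator_self_eq_bot_iff.mpr hA.1.1]; exact bot_le
  · rw [hA.1.2 a ha]; exact one_mem _

end Cfsg.Agent.S0606
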