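import Cfsg.Statements.S0601

import Cfsg.Agent.PLocal.Quadratic

set_option autoImplicit false
open Cfsg Subgroup CfsgLib.PLocal
open scoped commutatorElement

namespace Cfsg.Agent.S0601

/-- When O_p(G) contains its centralizer, the normal closure of Ω₁(Z(S)) is elementary abelian and G has no nontrivial normal p-subgroup modulo its centralizer. -/
theorem result {G : Type*} [Group G] [Finite G] {p : ℕ} [Fact p.Prime] (hc : Subgroup.centralizer (Cfsg.pCore p G : Set G) ≤ Cfsg.pCore p G) : (⨆ S : Sylow p G, Cfsg.omegaOne p (((S : Subgroup G)) ⊓ Subgroup.centralizer ((S : Subgroup G) : Set G))).Normal ∧ Cfsg.IsElementaryAbelian p (⨆ S : Sylow p G, Cfsg.omegaOne p (((S : Subgroup G)) ⊓ Subgroup.centralizer ((S : Subgroup G) : Set G))) ∧ ∀ D : Subgroup G, D.Normal → Subgroup.centralizer ((⨆ S : Sylow p G, Cfsg.omegaOne p (((S : Subgroup G)) ⊓ Subgroup.centralizer ((S : Subgroup G) : Set G)) : Subgroup G) : Set G) ≤ D → (∃ k : ℕ, (Subgroup.centralizer ((⨆ S : Sylow p G, Cfsg.omegaOne p (((S : Subgroup G)) ⊓ Subgroup.centralizer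 ((S : Subgroup G) : Set G)) : Subgroup G) : Set G)).relIndex D = p ^ k) → D = Subgroup.centralizer ((⨆ S : Sylow p G, Cfsg.omegaOne p (((S : Subgroup G)) ⊓ Subgroup.centralizer ((S : Subgroup G) : Set G)) : Subgroup G) : Set G) := by
  set Z := ⨆ S : Sylow p G, Cfsg.omegaOne p ((S : Subgroup G) ⊓ Subgroup.centralizer ((S : Subgroup G) : Set G)) with hZ
  have hP : ∀ S : Sylow p G,
      (S : Subgroup G) ⊓ Subgroup.centralizer ((S : Subgroup G) : Set G) ≤
        Cfsg.pCore p G ⊓ Subgroup.centralizer (Cfsg.pCore p G : Set G) := fun S => by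
    have h1 : (S : Subgroup G) ⊓ Subgroup.centralizer ((S : Subgroup G) : Set G) ≤
        Subgroup.centralizer (Cfsg.pCore p G : Set G) :=
      inf_le_right.trans (centralizer_le (pCore_le_sylow S))
    exact le_inf (h1.trans hc) h1
  have hn : Z.Normal := by
    constructor
    intro x hx g
    have hmap : Z.map (MulAut.conj g).toMonoidHom ≤ Z := by
      rw [hZ, Subgroup.map_iSup]
      refine iSup_le fun S => ?_
      have hi : Function.Injective (MulAut.conj g).toMonoidHom := (MulAut.conj g).injective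
      rw [map_omegaOne hi, map_inf_centralizer hi]
      exact le_iSup (fun T : Sylow p G => Cfsg.omegaOne p ((T : Subgroup G) ⊓
        Subgroup.centralizer ((T : Subgroup G) : Set G))) (g • S)
    exact hmap ⟨x, hx, rfl⟩
  have hcomm : IsMulCommutative ↥(Cfsg.pCore p G ⊓ Subgroup.centralizer (Cfsg.pCore p G : Set G)) :=
    le_centralizer_iff_isMulCommutative.mp (inf_le_right.trans (centralizer_le inf_le_left))
  refine ⟨hn, isElementaryAbelian_of_le (isElementaryAbelian_omegaOne hcomm)
    (iSup_le fun S => omegaOne_mono (hP S)), fun D hD hCD hk => ?_⟩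
  have := hn
  refine eq_centralizer_of_generated Z ?_ hD hCD hk
  refine iSup_le fun S => le_trans (le_inf ?_ ?_) (le_iSup (fun T : Sylow p G =>
    Z ⊓ Subgroup.centralizer ((T : Subgroup G) : Set G)) S)
  · exact le_iSup (fun T : Sylow p G => Cfsg.omegaOne p ((T : Subgroup G) ⊓
      Subgroup.centralizer ((T : Subgroup G) : Set G))) S
  · exact (omegaOne_le p _).trans inf_le_right

end Cfsg.Agent.S0601
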