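import Cfsg.Statements.S0604

import Cfsg.Agent.PLocal.Thompson

set_option autoImplicit false
open Cfsg Subgroup CfsgLib.PLocal
open scoped commutatorElement

namespace Cfsg.Agent.S0604

/-- The Thompson subgroup of G is the join of the Thompson subgroups of its Sylow p-subgroups. -/
theorem result {G : Type*} [Group G] [Finite G] {p : ℕ} [Fact p.Prime] : Cfsg.thompsonSubgroup p G = ⨆ S : Sylow p G, Cfsg.thompsonSubgroupOf p (S : Subgroup G) := by
  refine le_antisymm (sSup_le fun A hA => ?_) (iSup_le fun S => ?_)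
  · obtain ⟨S, hS⟩ := (isPGroup_of_isElementaryAbelian hA.1).exists_le_sylow
    exact (le_thompsonSubgroupOf (maxEAIn_sylow S ▸ ⟨hA, hS⟩)).trans
      (le_iSup (fun T : Sylow p G => Cfsg.thompsonSubgroupOf p (T : Subgroup G)) S)
  · rw [thompsonSubgroupOf_eq, maxEAIn_sylow]
    exact sSup_le fun A hA => le_sSup hA.1

end Cfsg.Agent.S0604
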