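import Cfsg.Statements.S0608

import Cfsg.Agent.PLocal.Stability
import Cfsg.Agent.S0604

set_option autoImplicit false
open Cfsg Subgroup CfsgLib.PLocal
open scoped commutatorElement

namespace Cfsg.Agent.S0608

/-- With trivial p'-core, Thompson factorizability is equivalent to J(G) centralizing the subgroup generated by all Ω₁(Z(S)), S Sylow. -/
theorem result {G : Type*} [Group G] [Finite G] {p : ℕ} [Fact p.Prime] (hO : Cfsg.pPrimeCore p G = ⊥) : Cfsg.IsThompsonFactorizable p G ↔ Cfsg.thompsonSubgroup p G ≤ Subgroup.centralizer ((⨆ S : Sylow p G, Cfsg.omegaOne p (((S : Subgroup G)) ⊓ Subgroup.centralizer ((S : Subgroup G) : Set G)) : Subgroup G) : Set G) := by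
  set Z := ⨆ S : Sylow p G, Cfsg.omegaOne p ((S : Subgroup G) ⊓ Subgroup.centralizer ((S : Subgroup G) : Set G)) with hZ
  constructor
  · intro h
    rw [Cfsg.Agent.S0604.result, le_centralizer_iff, hZ, iSup_le_iff]
    intro S
    rw [le_centralizer_iff, iSup_le_iff]
    intro T
    obtain ⟨g, rfl⟩ := MulAction.exists_smul_eq G S T
    obtain ⟨x, hx, c, hc, n, hn, rfl⟩ := h S g
    rw [hO, mem_bot] at hx
    subst hx
    have e : ((((1 : G) * c * n) • S : Sylow p G) : Subgroup G) =
        (S : Subgroup G).map (MulAut.conj (1 * c * n)).toMonoidHom := rfl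
    rw [e, ← map_thompsonSubgroupOf (f := (MulAut.conj (1 * c * n)).toMonoidHom)
      (MulAut.conj (1 * c * n)).injective]
    rintro _ ⟨y, hy, rfl⟩
    have hy' : n * y * n⁻¹ ∈ Subgroup.centralizer
        (Cfsg.omegaOne p ((S : Subgroup G) ⊓ Subgroup.centralizer ((S : Subgroup G) : Set G)) : Set G) := by
      have h1 := thompsonSubgroupOf_le p (S : Subgroup G) ((mem_normalizer_iff.mp hn y).mp hy)
      exact (le_centralizer_iff.mp ((omegaOne_le p _).trans inf_le_right)) h1
    have := mul_mem (mul_mem hc hy') (inv_mem hc)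
    simpa [mul_assoc] using this
  · intro h S g
    have hn : Z.Normal := iSup_omegaOne_center_normal p G
    set C := Subgroup.centralizer (Z : Set G) with hC
    have hJ : Cfsg.thompsonSubgroupOf p (S : Subgroup G) ≤ C := by
      refine le_trans ?_ h
      rw [Cfsg.Agent.S0604.result]
      exact le_iSup (fun T : Sylow p G => Cfsg.thompsonSubgroupOf p (T : Subgroup G)) S
    have hJeq := thompsonSubgroupOf_eq_of_le (inf_le_right : C ⊓ (S : Subgroup G) ≤ S)
      (le_inf hJ (thompsonSubgroupOf_le p _))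
    have hg : g ∈ C ⊔ Subgroup.normalizer (Cfsg.thompsonSubgroupOf p (S : Subgroup G) : Set G) := by
      have h1 : g ∈ Subgroup.normalizer ((C ⊓ (S : Subgroup G) : Subgroup G) : Set G) ⊔ C := by
        rw [normalizer_inf_sylow_sup]; exact mem_top g
      rw [sup_comm] at h1
      refine (sup_le_sup_left ?_ C) h1
      rw [← hJeq]
      exact normalizer_le_normalizer_thompsonSubgroupOf p _
    obtain ⟨c, hc, n, hn', rfl⟩ := mem_sup_of_normal_left.mp hg
    refine ⟨1, one_mem _, c, centralizer_le ?_ hc, n, hn', (one_mul c).symm ▸ rfl⟩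
    exact le_iSup (fun T : Sylow p G => Cfsg.omegaOne p ((T : Subgroup G) ⊓ Subgroup.centralizer ((T : Subgroup G) : Set G))) S

end Cfsg.Agent.S0608
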