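import Cfsg.Statements.S0618
import Cfsg.Agent.PLocal.OffenderQuotient
import Cfsg.Agent.S0601
import Cfsg.Agent.S0608

set_option autoImplicit false
open Cfsg

namespace Cfsg.Agent.S0618

/-- A p-separable group with trivial p'-core in which the Thompson factorization fails has p = 2 or 3, and J(G) induces on the normal closure of Ω₁(Z(S)) a group containing a normal SL(2, p). -/
theorem result {G : Type*} [Group G] [Finite G] {p : ℕ} [Fact p.Prime] (hsep : Cfsg.IsPSolvable p G) (hO : Cfsg.pPrimeCore p G = ⊥) (hnf : ¬ Cfsg.IsThompsonFactorizable p G) : (p = 2 ∨ p = 3) ∧ ∃ E : Subgroup G, Subgroup.centralizer ((⨆ S : Sylow p G, Cfsg.omegaOne p ((S : Subgroup G) ⊓ Subgroup.centralizer ((S : Subgroup G) : Set G))) : Set G) ≤ E ∧ E ≤ Cfsg.thompsonSubgroup p G ⊔ Subgroup.centralizer ((⨆ S : Sylow p G, Cfsg.omegaOne p ((S : Subgroup G) ⊓ Subgroup.centralizer ((S : Subgroup G) : Set G))) : Set G) ∧ Cfsg.thompsonSubgroup p G ⊔ Subgroup.centralizer ((⨆ S : Sylow p G,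 Cfsg.omegaOne p ((S : Subgroup G) ⊓ Subgroup.centralizer ((S : Subgroup G) : Set G))) : Set G) ≤ Subgroup.normalizer (E : Set G) ∧ ∃ hn : ((Subgroup.centralizer ((⨆ S : Sylow p G, Cfsg.omegaOne p ((S : Subgroup G) ⊓ Subgroup.centralizer ((S : Subgroup G) : Set G))) : Set G)).subgroupOf E).Normal, Nonempty ((↥E ⧸ (Subgroup.centralizer ((⨆ S : Sylow p G, Cfsg.omegaOne p ((S : Subgroup G) ⊓ Subgroup.centralizer ((S : Subgroup G) : Set G))) : Set G)).subgroupOf E) ≃* Matrix.SpecialLinearGroup (Fin 2) (ZMod p)) := by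
  have hset : Subgroup.centralizer ((⨆ S : Sylow p G, ((Cfsg.omegaOne p ((S : Subgroup G) ⊓
      Subgroup.centralizer ((S : Subgroup G) : Set G)) : Subgroup G) : Set G))) =
      Subgroup.centralizer ((⨆ S : Sylow p G, Cfsg.omegaOne p ((S : Subgroup G) ⊓
      Subgroup.centralizer ((S : Subgroup G) : Set G)) : Subgroup G) : Set G) := by
    rw [← Subgroup.centralizer_closure, Set.iSup_eq_iUnion, Subgroup.closure_iUnion]
    simp only [Subgroup.closure_eq]
  rw [hset]
  obtain ⟨hn, hV, hD⟩ := Cfsg.Agent.S0601.result (p := p) (CfsgLib.PLocal.centralizer_pCore_le hsep hO)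
  set V := ⨆ S : Sylow p G, Cfsg.omegaOne p ((S : Subgroup G) ⊓
    Subgroup.centralizer ((S : Subgroup G) : Set G))
  haveI := hn
  have hO' := (CfsgLib.PLocal.pCore_quotient_eq_bot_iff _).2 hD
  have r := CfsgLib.PLocal.Offender.rep_amb V
  set φ := (SemidirectProduct.inr : _ →* CfsgLib.PLocal.Offender.Amb V).comp
    (QuotientGroup.mk' (Subgroup.centralizer (V : Set G)))
  have hs := r.setup hsep hV hO' (Cfsg.thompsonSubgroup p G)
  have hgen := r.thompson_gen (p := p) hV
  obtain ⟨T, hT⟩ : ∃ T, CfsgLib.PLocal.Offender.IsTV p (SemidirectProduct.inl : V →* _).range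
      ((Cfsg.thompsonSubgroup p G).map φ) T := by
    by_contra h
    refine hnf ((Cfsg.Agent.S0608.result hO).2 ?_)
    intro x hx
    refine r.ker.le (MonoidHom.mem_ker.2 (Subgroup.mem_bot.1 ?_))
    exact (hs.le_of_forall_tv hgen fun S hS _ => absurd ⟨S, hS⟩ h) (Subgroup.mem_map_of_mem φ hx)
  refine ⟨hs.eq_two_or_three hT, (CfsgLib.PLocal.Offender.comp p ((Cfsg.thompsonSubgroup p G).map φ) T).comap φ, ?_, ?_, ?_, ?_⟩
  · exact r.ker.ge.trans (Subgroup.ker_le_comap φ _)
  · refine le_trans ?_ ((Subgroup.comap_map_eq φ _).trans (congrArg _ r.ker)).le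
    exact Subgroup.comap_mono (hs.comp_le_self hT)
  · refine le_trans ?_ (Subgroup.le_normalizer_comap φ)
    refine ((Subgroup.comap_map_eq φ _).trans (congrArg _ r.ker)).ge.trans ?_
    exact Subgroup.comap_mono (hs.le_normalizer_component hgen hT)
  · refine ⟨inferInstance, ?_⟩
    obtain ⟨e⟩ := hs.nonempty_comp_equiv hT
    have hker : (φ.subgroupComap (CfsgLib.PLocal.Offender.comp p ((Cfsg.thompsonSubgroup p G).map φ) T)).ker =
        (Subgroup.centralizer (V : Set G)).subgroupOf _ := by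
      ext x
      rw [MonoidHom.mem_ker, Subgroup.mem_subgroupOf, Subtype.ext_iff]
      exact MonoidHom.mem_ker.symm.trans (SetLike.ext_iff.1 r.ker (x : G))
    refine ⟨(QuotientGroup.quotientMulEquivOfEq hker.symm).trans
      ((QuotientGroup.quotientKerEquivOfSurjective _ ?_).trans e)⟩
    intro y
    obtain ⟨g, -, hg⟩ := hs.comp_le_self hT y.2
    exact ⟨⟨g, Subgroup.mem_comap.2 (hg.symm ▸ y.2)⟩, Subtype.ext hg⟩

end Cfsg.Agent.S0618
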