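import Cfsg.Statements.S0735
import Mathlib
-- import your own Cfsg.Agent.* helpers here

set_option autoImplicit false
open Cfsg
open scoped Pointwise

namespace Cfsg.Agent.S0735

/-- A 2-homogeneous permutation group (transitive on 2-subsets) of even order is doubly transitive; a non-trivial 2-homogeneous group is primitive. -/
theorem result {α : Type*} [Fintype α] [DecidableEq α] (G : Subgroup (Equiv.Perm α)) (h2 : MulAction.IsPretransitive G (Set.powersetCard α 2)) (hα : 3 ≤ Fintype.card α) : (Even (Nat.card G) → MulAction.IsMultiplyPretransitive G α 2) ∧ (G ≠ ⊥ → MulAction.IsPreprimitive G α) := by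
  classical
  have hex : ∀ a b c d : α, a ≠ b → c ≠ d → ∃ g : G, (g • a = c ∧ g • b = d) ∨ (g • a = d ∧ g • b = c) := by
    intro a b c d hab hcd
    obtain ⟨g, hg⟩ := h2.exists_smul_eq
      (⟨({a, b} : Finset α), Finset.card_pair hab⟩ : Set.powersetCard α 2)
      ⟨({c, d} : Finset α), Finset.card_pair hcd⟩
    have hg' : g • ({a, b} : Finset α) = {c, d} := congrArg Subtype.val hg
    refine ⟨g, ?_⟩
    have h1 : g • a ∈ ({c, d} : Finset α) := hg' ▸ Finset.smul_mem_smul_finset (by simp)
    have h3 : g • b ∈ ({c, d} : Finset α) := hg' ▸ Finset.smul_mem_smul_finset (by simp)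
    have hne : g • a ≠ g • b := fun h => hab (MulAction.injective g h)
    simp only [Finset.mem_insert, Finset.mem_singleton] at h1 h3
    rcases h1 with h1 | h1 <;> rcases h3 with h3 | h3
    · exact absurd (h1.trans h3.symm) hne
    · exact Or.inl ⟨h1, h3⟩
    · exact Or.inr ⟨h1, h3⟩
    · exact absurd (h1.trans h3.symm) hne
  constructor
  · intro heven
    haveI := Fact.mk Nat.prime_two
    obtain ⟨t, ht⟩ := exists_prime_orderOf_dvd_card' (G := G) 2 heven.two_dvd
    have ht2 : t * t = 1 := by rw [← pow_two, ← ht, pow_orderOf_eq_one]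
    obtain ⟨u, hu⟩ : ∃ u : α, t • u ≠ u := by
      by_contra h
      simp only [not_exists, not_not] at h
      have : t = 1 := Subtype.ext (Equiv.ext fun x => h x)
      rw [this, orderOf_one] at ht
      omega
    rw [MulAction.is_two_pretransitive_iff]
    intro a b c d hab hcd
    -- conjugate `t` to interchange `a` and `b`
    obtain ⟨k, hk⟩ := hex u (t • u) a b (Ne.symm hu) hab
    have hsw : (k * t * k⁻¹) • a = b ∧ (k * t * k⁻¹) • b = a := by
      rcases hk with ⟨h1, h3⟩ | ⟨h1, h3⟩
      · rw [← h1, ← h3]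
        simp only [mul_smul, inv_smul_smul, smul_smul t t, ht2, one_smul, and_self]
      · rw [← h1, ← h3]
        simp only [mul_smul, inv_smul_smul, smul_smul t t, ht2, one_smul, and_self]
    obtain ⟨g, hg | hg⟩ := hex a b c d hab hcd
    · exact ⟨g, hg⟩
    · exact ⟨g * (k * t * k⁻¹), by rw [mul_smul, hsw.1, hg.2], by rw [mul_smul, hsw.2, hg.1]⟩
  · intro hne
    haveI : MulAction.IsPretransitive G α := by
      obtain ⟨t, htG, ht⟩ := (Subgroup.ne_bot_iff_exists_ne_one.1 hne : ∃ t : G, t ≠ 1) |>.elim
        (fun t ht => (⟨t.1, t.2, fun h => ht (Subtype.ext h)⟩ : ∃ t, t ∈ G ∧ t ≠ 1))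
      obtain ⟨u, hu⟩ : ∃ u : α, t u ≠ u := by
        by_contra h
        simp only [not_exists, not_not] at h
        exact ht (Equiv.ext h)
      refine (MulAction.isPretransitive_iff_base u).2 fun x => ?_
      by_contra hx
      simp only [not_exists] at hx
      have hxu : u ≠ x := fun h => hx 1 (by rw [one_smul, h])
      obtain ⟨g, hg | hg⟩ := hex u (t u) u x (Ne.symm hu) hxu
      · exact hx (g * ⟨t, htG⟩) (by rw [mul_smul]; exact hg.2)
      · exact hx g hg.1
    refine MulAction.IsPreprimitive.mk ?_
    intro B hB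
    rcases B.subsingleton_or_nontrivial with h | ⟨a, ha, b, hb, hab⟩
    · exact Or.inl h
    · right
      apply Set.eq_univ_of_forall
      intro c
      by_cases hac : c = a
      · exact hac ▸ ha
      rw [MulAction.isBlock_iff_smul_eq_of_mem] at hB
      obtain ⟨g, hg | hg⟩ := hex a b a c hab (Ne.symm hac)
      · rw [← hB (g := g) ha (hg.1.symm ▸ ha), ← hg.2]
        exact Set.smul_mem_smul_set hb
      · rw [← hB (g := g) hb (hg.2.symm ▸ ha), ← hg.1]
        exact Set.smul_mem_smul_set ha

end Cfsg.Agent.S0735
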