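import Cfsg.Statements.S0562
import Cfsg.Agent.Factorizations.Basic

set_option autoImplicit false
open Cfsg

namespace Cfsg.Agent.S0562

open scoped Pointwise

/-- Let the finite group G be the product HK of subgroups, A normal in H, B normal in K, and L the normalizer of the subgroup generated by A and B. Then every element of L is a product of an element of L ∩ H and an element of L ∩ K. -/
theorem result {G : Type*} [Group G] [Finite G] (H K A B : Subgroup G) (hHK : ∀ g : G, ∃ h ∈ H, ∃ k ∈ K, g = h * k) (hA : A ≤ H) (hAn : (A.subgroupOf H).Normal) (hB : B ≤ K) (hBn : (B.subgroupOf K).Normal) : ∀ g ∈ Subgroup.normalizer ((A ⊔ B : Subgroup G) : Set G), ∃ h ∈ Subgroup.normalizer ((A ⊔ B : Subgroup G) : Set G) ⊓ H, ∃ k ∈ Subgroup.normalizer ((A ⊔ B : Subgroup G) : Set G) ⊓ K, g = h * k := by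
  intro g hg
  obtain ⟨h, hh, k, hk, rfl⟩ := hHK g
  rw [CfsgLib.Solvable.mem_normalizer_iff_conj_smul, map_mul, mul_smul] at hg
  set J := A ⊔ B with hJ
  have eA : MulAut.conj h • A = A := CfsgLib.Solvable.mem_normalizer_iff_conj_smul.mp
    ((Subgroup.normal_subgroupOf_iff_le_normalizer hA).mp hAn hh)
  have eB : MulAut.conj k • B = B := CfsgLib.Solvable.mem_normalizer_iff_conj_smul.mp
    ((Subgroup.normal_subgroupOf_iff_le_normalizer hB).mp hBn hk)
  have hle : J ≤ MulAut.conj k • J := by
    refine sup_le ?_ ?_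
    · rw [← Subgroup.pointwise_smul_le_pointwise_smul_iff (a := MulAut.conj h), eA, hg]
      exact le_sup_left
    · conv_lhs => rw [← eB]
      exact Subgroup.pointwise_smul_le_pointwise_smul_iff.mpr le_sup_right
  have hk' : MulAut.conj k • J = J :=
    (Subgroup.eq_of_le_of_card_ge hle (CfsgLib.Solvable.card_conj_smul k J).le).symm
  rw [hk'] at hg
  exact ⟨h, ⟨CfsgLib.Solvable.mem_normalizer_iff_conj_smul.mpr hg, hh⟩, k,
    ⟨CfsgLib.Solvable.mem_normalizer_iff_conj_smul.mpr hk', hk⟩, rfl⟩

end Cfsg.Agent.S0562
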