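import Cfsg.Statements.S3742

set_option autoImplicit false
open Cfsg

namespace Cfsg.Agent.S3742

open Equiv in
/-- the two-element subsets of `Fin 4` (by smaller bitmask) attached to the six elements of order four -/
def subsetOf : QuaternionGroup 2 → Finset (Fin 4)
  | .a i => if i = 1 then {0, 1} else if i = 3 then {2, 3} else if i = 0 then ∅ else Finset.univ
  | .xa i => if i = 0 then {0, 2} else if i = 2 then {1, 3} else if i = 3 then {0, 3} else {1, 2}

/-- inverse of `subsetOf` -/
def elemOf (s : Finset (Fin 4)) : QuaternionGroup 2 :=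
  if s = {0, 1} then .a 1 else if s = {2, 3} then .a 3 else if s = ∅ then .a 0
  else if s = Finset.univ then .a 2 else if s = {0, 2} then .xa 0 else if s = {1, 3} then .xa 2
  else if s = {0, 3} then .xa 3 else .xa 1

/-- parity of a permutation by counting inversions -/
def isEven (σ : Equiv.Perm (Fin 4)) : Bool :=
  ((Finset.univ.filter fun ij : Fin 4 × Fin 4 => ij.1 < ij.2 ∧ σ ij.2 < σ ij.1).card % 2 == 0)

/-- the action of a permutation of the four diagonals -/
def act (σ : Equiv.Perm (Fin 4)) (q : QuaternionGroup 2) : QuaternionGroup 2 :=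
  if q = .a 0 then .a 0
  else if q = .a 2 then .a 2
  else if isEven σ then elemOf ((subsetOf q).image σ)
  else elemOf ((subsetOf q).image σ)ᶜ

/-- The automorphism group of the quaternion group of order 8 is isomorphic to the symmetric group of degree 4. -/
theorem result : Nonempty (MulAut (QuaternionGroup 2) ≃* Equiv.Perm (Fin 4)) := by
  have hmul : ∀ σ x y, act σ (x * y) = act σ x * act σ y := by decide +kernel
  have hcomp : ∀ σ τ x, act (σ * τ) x = act σ (act τ x) := by decide +kernel
  have hone : ∀ x, act 1 x = x := by decide +kernel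
  let e : Equiv.Perm (Fin 4) → MulAut (QuaternionGroup 2) := fun σ =>
    { toFun := act σ
      invFun := act σ⁻¹
      left_inv := fun x => by rw [← hcomp, inv_mul_cancel, hone]
      right_inv := fun x => by rw [← hcomp, mul_inv_cancel, hone]
      map_mul' := hmul σ }
  let f : Equiv.Perm (Fin 4) →* MulAut (QuaternionGroup 2) :=
    MonoidHom.mk' e fun σ τ => MulEquiv.ext (hcomp σ τ)
  have hinj : ∀ σ τ : Equiv.Perm (Fin 4),
      act σ (.a 1) = act τ (.a 1) → act σ (.xa 0) = act τ (.xa 0) → σ = τ := by decide +kernel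
  have hsurj : ∀ x y : QuaternionGroup 2, x * x * (x * x) = 1 → x * x ≠ 1 → x * y ≠ y * x →
      ∃ σ, act σ (.a 1) = x ∧ act σ (.xa 0) = y := by decide +kernel
  have hgen : ∀ φ ψ : MulAut (QuaternionGroup 2),
      φ (.a 1) = ψ (.a 1) → φ (.xa 0) = ψ (.xa 0) → φ = ψ := by
    intro φ ψ h1 h2
    have hdec : ∀ q : QuaternionGroup 2, ∃ m n : Fin 4, q = (.a 1 : QuaternionGroup 2) ^ (m : ℕ) *
        (.xa 0 : QuaternionGroup 2) ^ (n : ℕ) := by decide +kernel
    ext q
    obtain ⟨m, n, rfl⟩ := hdec q
    rw [map_mul, map_mul, map_pow, map_pow, map_pow, map_pow, h1, h2]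
  refine ⟨(MulEquiv.ofBijective f ⟨?_, ?_⟩).symm⟩
  · intro σ τ h
    exact hinj σ τ (congrArg (fun φ : MulAut (QuaternionGroup 2) => φ (.a 1)) h)
      (congrArg (fun φ : MulAut (QuaternionGroup 2) => φ (.xa 0)) h)
  · intro φ
    obtain ⟨σ, h1, h2⟩ := hsurj (φ (.a 1)) (φ (.xa 0))
      (by rw [← map_mul, ← map_mul, ← map_one φ]; congr 1)
      (by rw [← map_mul, ← map_one φ, φ.injective.ne_iff]; decide)
      (by rw [← map_mul, ← map_mul, φ.injective.ne_iff]; decide)
    exact ⟨σ, hgen _ _ h1 h2⟩

end Cfsg.Agent.S3742
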