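import Cfsg.Statements.S3799

import Mathlib
import Cfsg.Agent.Solvable.Frattini

set_option autoImplicit false
open Cfsg

namespace Cfsg.Agent.S3799

open scoped commutatorElement

theorem extraspecial_of_exponent {P : Type*} [Group P] [Finite P] {p : ℕ} [hp : Fact p.Prime]
    (hexp : ∀ x : P, x ^ p = 1) (hcen : Nat.card (Subgroup.center P) = p)
    (hcomm : ∀ x y : P, ⁅x, y⁆ ∈ Subgroup.center P) (hna : ∃ x y : P, ¬ Commute x y) :
    Cfsg.IsExtraspecial p P := by
  have hP : IsPGroup p P := fun x => ⟨1, by simpa using hexp x⟩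
  have hle : commutator P ≤ Subgroup.center P := by
    rw [commutator_def, Subgroup.commutator_le]
    exact fun x _ y _ => hcomm x y
  have hc : commutator P = Subgroup.center P := by
    refine Subgroup.eq_of_le_of_card_ge hle ?_
    rw [hcen]
    obtain ⟨x, y, hxy⟩ := hna
    have hne : commutator P ≠ ⊥ := by
      intro h
      have := Subgroup.commutator_mem_commutator (Subgroup.mem_top x) (Subgroup.mem_top y)
      rw [← commutator_def, h, Subgroup.mem_bot, commutatorElement_eq_one_iff_commute] at this
      exact hxy this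
    obtain ⟨k, hk⟩ := (hP.to_subgroup (commutator P)).exists_card_eq
    have h1 := (commutator P).one_lt_card_iff_ne_bot.2 hne
    rw [hk] at h1 ⊢
    exact Nat.le_self_pow (by rintro rfl; simp at h1) p
  refine ⟨⟨hP, ?_, hc⟩, hcen⟩
  rw [← hc]
  exact le_antisymm
    (CfsgLib.Solvable.frattini_le_of_elementary (p := p) le_rfl fun x => by
      rw [hexp x]; exact one_mem _)
    (CfsgLib.Solvable.commutator_le_frattini hP)

variable (F : Type*) [CommRing F] (n : ℕ)

/-- The Heisenberg group. -/
@[ext]
structure Heis where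
  a : Fin n → F
  b : Fin n → F
  c : F

variable {F n}

instance instMulHeis : Mul (Heis F n) :=
  ⟨fun x y => ⟨x.a + y.a, x.b + y.b, x.c + y.c + ∑ i, x.a i * y.b i⟩⟩

instance instOneHeis : One (Heis F n) := ⟨⟨0, 0, 0⟩⟩

instance instInvHeis : Inv (Heis F n) :=
  ⟨fun x => ⟨-x.a, -x.b, -x.c + ∑ i, x.a i * x.b i⟩⟩

theorem mul_def (x y : Heis F n) :
    x * y = ⟨x.a + y.a, x.b + y.b, x.c + y.c + ∑ i, x.a i * y.b i⟩ := rfl

theorem one_def : (1 : Heis F n) = ⟨0, 0, 0⟩ := rfl

theorem inv_def (x : Heis F n) : x⁻¹ = ⟨-x.a, -x.b, -x.c + ∑ i, x.a i * x.b i⟩ := rfl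

instance instGroupHeis : Group (Heis F n) where
  mul_assoc x y z := by
    ext <;> simp [mul_def, Finset.sum_add_distrib, mul_add, add_mul] <;> ring
  one_mul x := by ext <;> simp [mul_def, one_def]
  mul_one x := by ext <;> simp [mul_def, one_def]
  inv_mul_cancel x := by ext <;> simp [mul_def, one_def, inv_def]

/-- The underlying triple. -/
def heisEquiv : Heis F n ≃ (Fin n → F) × (Fin n → F) × F where
  toFun x := (x.a, x.b, x.c)
  invFun x := ⟨x.1, x.2.1, x.2.2⟩

theorem commute_iff (x y : Heis F n) :
    Commute x y ↔ ∑ i, x.a i * y.b i = ∑ i, y.a i * x.b i := by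
  constructor
  · intro h
    have := congrArg Heis.c h.eq
    simp only [mul_def] at this
    linear_combination this
  · intro h
    show x * y = y * x
    ext
    · simp [mul_def, add_comm]
    · simp [mul_def, add_comm]
    · simp only [mul_def]
      linear_combination h

theorem mem_center_iff' (x : Heis F n) : x ∈ Subgroup.center (Heis F n) ↔ x.a = 0 ∧ x.b = 0 := by
  classical
  rw [Subgroup.mem_center_iff]
  constructor
  · intro h
    constructor
    · funext j
      simpa [Pi.single_apply] using ((commute_iff _ _).1 (h ⟨0, Pi.single j 1, 0⟩)).symm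
    · funext j
      simpa [Pi.single_apply] using (commute_iff _ _).1 (h ⟨Pi.single j 1, 0, 0⟩)
  · rintro ⟨ha, hb⟩ y
    exact ((commute_iff y x).2 (by simp [ha, hb])).eq

theorem commutator_center (x y : Heis F n) : ⁅x, y⁆ ∈ Subgroup.center (Heis F n) := by
  rw [mem_center_iff']
  simp [commutatorElement_def, mul_def, inv_def]

theorem pow_formula (x : Heis F n) (k : ℕ) :
    x ^ k = ⟨k • x.a, k • x.b, k * x.c + (k.choose 2 : ℕ) * ∑ i, x.a i * x.b i⟩ := by
  induction k with
  | zero => ext <;> simp [one_def]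
  | succ k ih =>
    rw [pow_succ, ih, mul_def]
    ext
    · simp [add_smul, add_mul]
    · simp [add_smul, add_mul]
    · have h : (k + 1).choose 2 = k.choose 2 + k := by
        rw [Nat.choose_succ_succ', Nat.choose_one_right, add_comm]
      simp [h, add_mul, Finset.mul_sum, Finset.sum_add_distrib, nsmul_eq_mul, mul_assoc]
      ring

/-- The index type for `(n+2) × (n+2)` matrices. -/
abbrev Idx (n : ℕ) := Unit ⊕ (Fin n ⊕ Unit)

/-- The matrix attached to a Heisenberg element. -/
def heisMat (x : Heis F n) : Matrix (Idx n) (Idx n) F :=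
  Matrix.of fun i j => match i, j with
  | .inl _, .inl _ => 1
  | .inl _, .inr (.inl k) => x.a k
  | .inl _, .inr (.inr _) => x.c
  | .inr (.inl _), .inl _ => 0
  | .inr (.inl k), .inr (.inl l) => if k = l then 1 else 0
  | .inr (.inl k), .inr (.inr _) => x.b k
  | .inr (.inr _), .inl _ => 0
  | .inr (.inr _), .inr (.inl _) => 0
  | .inr (.inr _), .inr (.inr _) => 1

/-- The matrix representation. -/
def heisHom : Heis F n →* Matrix (Idx n) (Idx n) F where
  toFun := heisMat
  map_one' := by
    ext i j
    rcases i with _ | k | _ <;> rcases j with _ | l | _ <;>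
      simp [heisMat, one_def, Matrix.one_apply]
  map_mul' x y := by
    ext i j
    rcases i with _ | k | _ <;> rcases j with _ | l | _ <;>
      simp [heisMat, mul_def, Matrix.mul_apply, Fintype.sum_sum_type] <;> ring

theorem heisHom_injective : Function.Injective (heisHom (F := F) (n := n)) := by
  intro x y h
  have h1 : heisMat x = heisMat y := h
  ext
  · next k => simpa [heisMat] using congrFun (congrFun h1 (.inl ())) (.inr (.inl k))
  · next k => simpa [heisMat] using congrFun (congrFun h1 (.inr (.inl k))) (.inr (.inr ()))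
  · simpa [heisMat] using congrFun (congrFun h1 (.inl ())) (.inr (.inr ()))


/-- For every odd prime p and every n ≥ 1 there is an extraspecial p-group of order p^(1+2n) and exponent p; concretely, the general linear group of degree n + 2 over the field with p elements contains such a subgroup. -/
theorem result (p : ℕ) [Fact p.Prime] (hp : p ≠ 2) (n : ℕ) (hn : 1 ≤ n) : ∃ E : Subgroup (Matrix.GeneralLinearGroup (Fin (n + 2)) (ZMod p)), Cfsg.IsExtraspecial p ↥E ∧ Nat.card E = p ^ (1 + 2 * n) ∧ ∀ x ∈ E, x ^ p = 1 := by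
  classical
  have hp' : p.Prime := Fact.out
  have e : Idx n ≃ Fin (n + 2) := Fintype.equivFinOfCardEq (by simp [Idx]; ring)
  let g : Heis (ZMod p) n →* (Matrix (Fin (n + 2)) (Fin (n + 2)) (ZMod p)) :=
    (Matrix.reindexAlgEquiv (ZMod p) (ZMod p) e).toMulEquiv.toMonoidHom.comp heisHom
  have hg : Function.Injective g :=
    (Matrix.reindexAlgEquiv (ZMod p) (ZMod p) e).injective.comp heisHom_injective
  let φ : Heis (ZMod p) n →* Matrix.GeneralLinearGroup (Fin (n + 2)) (ZMod p) := g.toHomUnits
  have hφ : Function.Injective φ := fun x y h => hg (congrArg Units.val h)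
  have : Finite (Heis (ZMod p) n) := Finite.of_equiv _ heisEquiv.symm
  have hcard : Nat.card (Heis (ZMod p) n) = p ^ (1 + 2 * n) := by
    rw [Nat.card_congr heisEquiv]
    simp [Nat.card_prod, Nat.card_fun]
    ring
  have hexp : ∀ x : Heis (ZMod p) n, x ^ p = 1 := by
    intro x
    have h2 : p ∣ p.choose 2 := hp'.dvd_choose_self (by norm_num)
      (lt_of_le_of_ne hp'.two_le (fun h => hp h.symm))
    rw [pow_formula, one_def, (ZMod.natCast_eq_zero_iff _ _).2 h2]
    ext <;> simp
  have hcen : Nat.card (Subgroup.center (Heis (ZMod p) n)) = p := by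
    have e : Subgroup.center (Heis (ZMod p) n) ≃ ZMod p :=
      { toFun := fun x => x.1.c
        invFun := fun c => ⟨⟨0, 0, c⟩, (mem_center_iff' _).2 ⟨rfl, rfl⟩⟩
        left_inv := fun x => Subtype.ext (Heis.ext ((mem_center_iff' _).1 x.2).1.symm
          ((mem_center_iff' _).1 x.2).2.symm rfl)
        right_inv := fun c => rfl }
    rw [Nat.card_congr e, Nat.card_zmod]
  let E := φ.range
  let eE : Heis (ZMod p) n ≃* E := MonoidHom.ofInjective hφ
  refine ⟨E, ?_, ?_, ?_⟩
  · refine extraspecial_of_exponent (fun y => ?_) ?_ (fun y z => ?_) ?_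
    · obtain ⟨x, rfl⟩ := eE.surjective y
      rw [← map_pow, hexp, map_one]
    · have m1 : ∀ y : Subgroup.center E, eE.symm y.1 ∈ Subgroup.center (Heis (ZMod p) n) := by
        intro y
        rw [Subgroup.mem_center_iff]
        intro z
        obtain ⟨w, rfl⟩ := eE.symm.surjective z
        rw [← map_mul, Subgroup.mem_center_iff.1 y.2 w, map_mul]
      have m2 : ∀ x : Subgroup.center (Heis (ZMod p) n), eE x.1 ∈ Subgroup.center E := by
        intro x
        rw [Subgroup.mem_center_iff]
        intro z
        obtain ⟨w, rfl⟩ := eE.surjective z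
        rw [← map_mul, Subgroup.mem_center_iff.1 x.2 w, map_mul]
      exact (Nat.card_congr ⟨fun y => ⟨_, m1 y⟩, fun x => ⟨_, m2 x⟩,
        fun y => Subtype.ext (eE.apply_symm_apply _),
        fun x => Subtype.ext (eE.symm_apply_apply _)⟩).trans hcen
    · obtain ⟨x, rfl⟩ := eE.surjective y
      obtain ⟨w, rfl⟩ := eE.surjective z
      rw [← map_commutatorElement, Subgroup.mem_center_iff]
      intro u
      obtain ⟨v, rfl⟩ := eE.surjective u
      rw [← map_mul, Subgroup.mem_center_iff.1 (commutator_center x w) v, map_mul]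
    · let i₀ : Fin n := ⟨0, hn⟩
      refine ⟨eE ⟨Pi.single i₀ 1, 0, 0⟩, eE ⟨0, Pi.single i₀ 1, 0⟩, fun h => ?_⟩
      have h' : Commute (⟨Pi.single i₀ 1, 0, 0⟩ : Heis (ZMod p) n) ⟨0, Pi.single i₀ 1, 0⟩ :=
        eE.injective (by rw [map_mul, map_mul]; exact h)
      have := (commute_iff _ _).1 h'
      simp [Pi.single_apply] at this
  · rw [← Nat.card_congr eE.toEquiv, hcard]
  · rintro _ ⟨x, rfl⟩
    rw [← map_pow, hexp, map_one]

end Cfsg.Agent.S3799
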