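import Cfsg.Statements.S0817
import Cfsg.Agent.Forms.AutPOmegaStd
import Cfsg.Agent.Forms.TrialityCount

set_option autoImplicit false
open Cfsg

namespace Cfsg.Agent.S0817

/-- |Aut(PΩ⁺_2m(q))| for q = p^f, m ≥ 4: |PΩ⁺_2m(q)| times f, times 3 when m = 4, times 2 if p = 2, and times 8 or 4 if p is odd according as m(q−1)/2 is even or odd. -/
theorem result {F : Type*} [Field F] [Fintype F] (p f : ℕ) [Fact p.Prime] (hf : 1 ≤ f) (hF : Fintype.card F = p ^ f) (m : ℕ) (hm : 4 ≤ m) : Nat.card (MulAut (Cfsg.POmega F (Cfsg.quadFormPlus m F))) = (if m = 4 then 3 else 1) * (if p = 2 then 2 else (if Even (m * (p ^ f - 1) / 2) then 8 else 4)) * f * Nat.card (Cfsg.POmega F (Cfsg.quadFormPlus m F)) := by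
  have hn : 5 ≤ Fintype.card (Fin m ⊕ Fin m) := by simp; omega
  have C := CfsgLib.AutPOmega.ctx_plusQ (F := F) hm
  have P := CfsgLib.Forms4.plusPairs (F := F) m (by omega)
  have hΓ := CfsgLib.AutPOmega.card_gamma_of_surjective C (CfsgLib.AutPOmega.exists_semi_plusQ m)
    (CfsgLib.AutPOmega.exists_hasMult_plusQ m)
  have hA : Nat.card (MulAut (Cfsg.POmega F ⇑(CfsgLib.StdForms.plusQ m F))) =
      (if m = 4 then 3 else 1) *
        Nat.card ↥(Cfsg.gammaPOmega F ⇑(CfsgLib.StdForms.plusQ m F)) := by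
    by_cases h4 : m = 4
    · subst h4
      rw [if_pos rfl]
      exact CfsgLib.AutPOmega.card_mulAut_eight
    · rw [if_neg h4, one_mul, C.gamma_eq_top (CfsgLib.AutPOmega.noTriality_plusQ (by omega)),
        Subgroup.card_top]
  rw [CfsgLib.Forms4.card_isometryGroup_eq, CfsgLib.AutPSL.card_ringEquiv hF hf] at hΓ
  rw [← CfsgLib.StdForms.coe_plusQ, hA, hΓ]
  generalize (if m = 4 then 3 else 1 : ℕ) = t
  by_cases hp : p = 2
  · have hev : Even (Fintype.card F) := by rw [hF, hp, Nat.even_pow]; exact ⟨even_two, by omega⟩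
    have h2 : (2 : F) = 0 := (CfsgLib.Forms4.two_eq_zero_iff_even rfl).2 hev
    have : CharP F 2 := CharTwo.of_one_ne_zero_of_two_eq_zero one_ne_zero h2
    rw [CfsgLib.Forms.index_omega_charTwo C.nondeg (by omega) (Or.inr (by omega)),
      CfsgLib.Forms4.card_center_omega_one C.nondeg hn P (fun _ _ _ => h2), if_pos hp]
    ring
  · have hodd : Odd (p ^ f) := ((Fact.out : p.Prime).eq_two_or_odd'.resolve_left hp).pow
    have h2 : (2 : F) ≠ 0 := fun h => (Nat.not_even_iff_odd.2 hodd)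
      ((CfsgLib.Forms4.two_eq_zero_iff_even hF).1 h)
    rw [CfsgLib.Forms.index_omega_odd h2 C.nondeg (by omega), if_neg hp]
    have hiff := Cfsg.Agent.S0790.result hF hodd m (by omega)
    rw [← CfsgLib.StdForms.coe_plusQ] at hiff
    by_cases h : (p ^ f) ^ m % 4 = 1
    · obtain ⟨g, hg, hgv⟩ := hiff.2 h
      rw [if_pos ((CfsgLib.AutPOmega.even_half_iff hodd).2 h),
        CfsgLib.Forms4.card_center_omega_two C.nondeg hn P h2 hg hgv]
      ring
    · rw [if_neg (fun he => h ((CfsgLib.AutPOmega.even_half_iff hodd).1 he)),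
        CfsgLib.Forms4.card_center_omega_one C.nondeg hn P
          (fun g hg hgv => absurd (hiff.1 ⟨g, hg, hgv⟩) h)]
      ring

end Cfsg.Agent.S0817
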