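import Cfsg.Statements.S0247
import Cfsg.Agent.Linear.SmallIsoSp
import Cfsg.Agent.Forms.SymplecticOrder

set_option autoImplicit false
open Cfsg

namespace Cfsg.Agent.S0247

/-- Sp_4(2) is isomorphic to the symmetric group S_6. -/
theorem result {F : Type*} [Field F] [Fintype F] (hF : Fintype.card F = 2) : Nonempty (Matrix.symplecticGroup (Fin 2) F ≃* Equiv.Perm (Fin 6)) := by
  open CfsgLib.Linear in
  let e := FiniteField.ringEquivOfCardEq (K := F) (K' := ZMod 2) (by rw [hF, ZMod.card])
  let ψ : Matrix.symplecticGroup (Fin 2) F ≃* Matrix.symplecticGroup (Fin 2) (ZMod 2) :=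
    { toFun := fun A => ⟨A.1.map e, SymplecticGroup.map_mem A.2 e⟩
      invFun := fun A => ⟨A.1.map e.symm, SymplecticGroup.map_mem A.2 e.symm⟩
      left_inv := fun A => Subtype.ext (by ext i j; exact e.symm_apply_apply _)
      right_inv := fun A => Subtype.ext (by ext i j; exact e.apply_symm_apply _)
      map_mul' := fun A B => Subtype.ext (by
        simp only [Submonoid.coe_mul]
        exact Matrix.map_mul) }
  have hn : Nat.card (Matrix.symplecticGroup (Fin 2) (ZMod 2)) = 720 := by
    rw [CfsgLib.Forms.card_symplecticGroup, ZMod.card]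
    rfl
  have hs : Nat.card (Equiv.Perm (Fin 6)) = 720 := by
    rw [Nat.card_perm, Nat.card_fin]
    rfl
  obtain ⟨θ, hθ⟩ := CfsgLib.Linear.exists_surjective_of_check CfsgLib.Linear.spRep
    (fun a b h => Subtype.ext ((Matrix.reindexAlgEquiv (ZMod 2) (ZMod 2) finSumFinEquiv).injective h))
    (CfsgLib.Linear.permRep 6) (CfsgLib.Linear.permRep_injective 6) CfsgLib.Linear.sp42Gens
    CfsgLib.Linear.sp42Cert hn hs CfsgLib.Linear.sp42_check
  exact ⟨ψ.trans (MulEquiv.ofBijective θ
    ((Nat.bijective_iff_surjective_and_card θ).2 ⟨hθ, hn.trans hs.symm⟩))⟩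

end Cfsg.Agent.S0247
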