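import Cfsg.Statements.S1615
import Cfsg.Agent.FischerOddCore.Petersen
import Cfsg.Agent.PLocal.Cores
-- import your own Cfsg.Agent.* helpers here

set_option autoImplicit false
open Cfsg

namespace Cfsg.Agent.S1615

open CfsgLib.FischerTransitivity

/-- If O(⟨D_x⟩) is not central in ⟨D_x⟩ for some transposition x, the 3-transposition group is the symmetric group of degree 5. -/
theorem result {G : Type*} [Group G] [Finite G] (hsol : ∀ N : Subgroup G, N.Normal → Group.IsSolvable ↥N → N = ⊥) (hperf : ⁅commutator G, commutator G⁆ = commutator G) {D : Set G} (hD : Cfsg.IsThreeTranspositionClass D) (x : G) (hx : x ∈ D) (h : ¬ Cfsg.oddCore ↥(Subgroup.closure {y : G | y ∈ D ∧ y ≠ x ∧ Commute x y}) ≤ Subgroup.center ↥(Subgroup.closure {y : G | y ∈ D ∧ y ≠ x ∧ Commute x y})) : Nonempty (G ≃* Equiv.Perm (Fin 5)) := by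
  refine CfsgLib.FischerOddCore.Ctx.nonempty_mulEquiv_perm_five ⟨hsol, hperf, hD, ?_⟩
  set H := Subgroup.closure (commSet D x) with hH
  replace h : ¬ Cfsg.oddCore ↥H ≤ Subgroup.center ↥H := h
  obtain ⟨n, hnO, hnc⟩ := SetLike.not_le_iff_exists.1 h
  -- some generator moves `n`
  obtain ⟨d, hd, hdn⟩ : ∃ d : ↥H, (d : G) ∈ commSet D x ∧ ¬ Commute n d := by
    by_contra hcon
    push Not at hcon
    have : Subgroup.closure (commSet D x) ≤ Subgroup.centralizer {(n : G)} := by
      rw [Subgroup.closure_le]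
      intro c hc
      rw [SetLike.mem_coe, Subgroup.mem_centralizer_singleton_iff]
      exact (congrArg Subtype.val (hcon ⟨c, Subgroup.subset_closure hc⟩ hc).eq).symm
    exact hnc (Subgroup.mem_center_iff.2 fun k => Subtype.ext
      (Subgroup.mem_centralizer_singleton_iff.1 (this k.2)))
  set O := Cfsg.oddCore ↥H with hO
  have hcop : (Nat.card O).Coprime 2 := CfsgLib.PLocal.coprime_card_pPrimeCore 2 _
  have hodd : ∀ q : ↥H, q ∈ O → (q : G) ^ 2 = 1 → q = 1 := by
    intro q hq h2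
    have h2' : (⟨q, hq⟩ : O) ^ 2 = 1 := Subtype.ext (Subtype.ext (by simpa using h2))
    have h1 : orderOf (⟨q, hq⟩ : O) ∣ 1 := by
      rw [← Nat.coprime_iff_gcd_eq_one.1 hcop]
      exact Nat.dvd_gcd (orderOf_dvd_natCard _) (orderOf_dvd_of_pow_eq_one h2')
    exact congrArg Subtype.val (orderOf_eq_one_iff.1 (Nat.dvd_one.1 h1))
  set e : ↥H := n * d * n⁻¹ with he'
  have hnx : (n : G) * x * (n : G)⁻¹ = x := by
    have hc : (n : G) * x = x * (n : G) :=
      Subgroup.mem_centralizer_singleton_iff.1 (closure_commSet_le_centralizer x n.2)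
    rw [hc, mul_assoc, mul_inv_cancel, mul_one]
  have hed : (e : G) ∈ commSet D x := by
    have := (conj_commSet hD x (n : G)).subset ⟨(d : G), hd, rfl⟩
    rw [hnx] at this
    simpa [he'] using this
  have hd2 : d * d = 1 := Subtype.ext (by simpa using sq_one hD hd.1)
  have hdinv : d⁻¹ = d := inv_eq_of_mul_eq_one_right hd2
  have hdeO : d * e ∈ O := by
    have : d * e = (d * n * d⁻¹) * n⁻¹ := by rw [he', hdinv]; group
    rw [this]
    exact mul_mem ((inferInstance : O.Normal).conj_mem n hnO d) (inv_mem hnO)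
  have hne : d ≠ e := fun heq => hdn (by
    have : n * d = d * n := by
      calc n * d = (n * d * n⁻¹) * n := by group
        _ = d * n := by rw [← he', ← heq]
    exact this)
  have hncde : ¬ Commute (d : G) e := fun hc => hne (by
    have h2 : ((d * e : ↥H) : G) ^ 2 = 1 := by
      rw [Subgroup.coe_mul, pow_two, hc.symm.mul_mul_mul_comm, sq_one hD hd.1, sq_one hD hed.1,
        one_mul]
    rw [← mul_one d, ← hodd _ hdeO h2, ← mul_assoc, hd2, one_mul])
  refine ⟨x, d, e, hx, hd, hed, hncde, ?_⟩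
  rintro y ⟨hyx, hy⟩
  refine ⟨hy.1, fun heq => hncde (heq ▸ hy.2.2), ?_⟩
  by_contra hc
  obtain ⟨y', rfl⟩ : ∃ y' : ↥H, (y' : G) = y := ⟨⟨y, Subgroup.subset_closure hyx⟩, rfl⟩
  have h3 : ((y' : G) * e) ^ 3 = 1 := (hD.1.2 _ hy.1 _ hed.1).resolve_left fun h2 => hc
    (commute_of_sq (by rw [pow_two, sq_one hD hy.1]) (by rw [pow_two, sq_one hD hed.1]) h2).symm
  have hq : ((y' * e : ↥H) : ↥H ⧸ O) = ((y' * d : ↥H) : ↥H ⧸ O) := by
    rw [QuotientGroup.eq]
    have : (y' * e)⁻¹ * (y' * d) = (d * e)⁻¹ := by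
      rw [show (d * e)⁻¹ = e⁻¹ * d from by rw [mul_inv_rev, hdinv]]; group
    rw [this]
    exact inv_mem hdeO
  have hyd : (y' : G) * d * ((y' : G) * d) = 1 := by
    rw [hy.2.2.mul_mul_mul_comm, sq_one hD hy.1, sq_one hD hd.1, one_mul]
  have hmem : y' * d ∈ O := by
    have h3' : (y' * e) ^ 3 = 1 := Subtype.ext (by simpa using h3)
    have h2' : (y' * d) ^ 2 = 1 := Subtype.ext (by simpa [pow_two] using hyd)
    rw [← QuotientGroup.eq_one_iff]
    calc ((y' * d : ↥H) : ↥H ⧸ O) = ((y' * d : ↥H) : ↥H ⧸ O) ^ 3 := by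
          rw [pow_succ, ← QuotientGroup.mk_pow, h2', QuotientGroup.mk_one, one_mul]
      _ = 1 := by rw [← hq, ← QuotientGroup.mk_pow, h3', QuotientGroup.mk_one]
  have hyd1 := hodd _ hmem (by rw [Subgroup.coe_mul, pow_two, hyd])
  exact hy.2.1 (congrArg Subtype.val
    (show y' = d by rw [← one_mul d, ← hyd1, mul_assoc, hd2, mul_one]))

end Cfsg.Agent.S1615
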