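import Cfsg.Statements.S0599

import Cfsg.Agent.PLocal.Replacement

set_option autoImplicit false
open Cfsg Subgroup CfsgLib.PLocal
open scoped commutatorElement

namespace Cfsg.Agent.S0599

/-- The Timmesfeld replacement Theorem: replacing a best offender A by C_A([U, A]) gives a best offender with fixed points [U, A]C_V(A), still nontrivial on V if A was. -/
theorem result {G : Type*} [Group G] [Finite G] {p : ℕ} [Fact p.Prime] (V A : Subgroup G) (hV : Cfsg.IsElementaryAbelian p V) (hAV : A ≤ Subgroup.normalizer (V : Set G)) (hA : Cfsg.IsBestOffenderOn p V A) (U : Subgroup G) (hU : U ≤ V) : Cfsg.IsBestOffenderOn p V (A ⊓ Subgroup.centralizer ((⁅U, A⁆ : Subgroup G) : Set G)) ∧ V ⊓ Subgroup.centralizer ((A ⊓ Subgroup.centralizer ((⁅U, A⁆ : Subgroup G) : Set G) : Subgroup G) : Set G) = ⁅U, A⁆ ⊔ (V ⊓ Subgroup.centralizer (A : Set G)) ∧ (⁅V, A⁆ ≠ ⊥ → ⁅V, A ⊓ Subgroup.centralizer ((⁅U, A⁆ : Subgroup G) : Set G)⁆ ≠ ⊥) := by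
  set B := A ⊓ Subgroup.centralizer ((⁅U, A⁆ : Subgroup G) : Set G) with hB
  obtain ⟨h1, h2⟩ := replacement hV.1 hAV hA.2.1 hA.1 hU
  refine ⟨⟨fun D hD => (hA.1 D (hD.trans inf_le_left)).trans h1.ge,
    (commutator_mono inf_le_left inf_le_left).trans hA.2.1, fun a ha => hA.2.2 a ha.1⟩, h2, ?_⟩
  intro hne hbot
  refine hne ?_
  have hVC : V ≤ ⁅U, A⁆ ⊔ (V ⊓ Subgroup.centralizer (A : Set G)) := by
    rw [← h2]
    exact le_inf le_rfl ((commutator_eq_bot_iff_le_centralizer.mp hbot))
  have hle : ⁅V, A⁆ ≤ ⁅⁅V, A⁆, A⁆ := by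
    rw [commutator_le]
    intro v hv a ha
    have hCn : V ⊓ Subgroup.centralizer (A : Set G) ≤ Subgroup.normalizer ((⁅U, A⁆ : Subgroup G) : Set G) :=
      inf_le_left.trans ((le_centralizer_iff_isMulCommutative.mpr hV.1).trans
        ((centralizer_le ((commutator_mono hU le_rfl).trans
          (commutator_le_of_le_normalizer hAV))).trans (centralizer_le_normalizer _)))
    obtain ⟨w, hw, c, hc, rfl⟩ := CfsgLib.Coprime.exists_mul_of_mem_sup hCn (hVC hv)
    have hwV : w ∈ V := ((commutator_mono hU le_rfl).trans (commutator_le_of_le_normalizer hAV)) hw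
    rw [commutatorElement_mul_left_of_abelian hV.1 hwV hc.1 (hAV ha),
      commutatorElement_eq_one_iff_mul_comm.mpr (mem_centralizer_iff.mp hc.2 a ha).symm, mul_one]
    exact commutator_mono (commutator_mono hU le_rfl) le_rfl (commutator_mem_commutator hw ha)
  refine eq_bot_of_le_commutator (p := p)
    ((isPGroup_of_isElementaryAbelian hV).to_le (commutator_le_of_le_normalizer hAV)) ?_
    (fun a ha => centralizer_le (commutator_le_of_le_normalizer hAV) (hA.2.2 a ha)) hle
  exact normalizer_commutator_ge_right V A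

end Cfsg.Agent.S0599
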