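import Cfsg.Statements.S5355
import Cfsg.Agent.Transpositions.String
import Cfsg.Agent.Transpositions.Classes

set_option autoImplicit false
open Cfsg CfsgLib.Transpositions

namespace Cfsg.Agent.S5355

/-- Let D be a conjugacy class of 3-transpositions generating the finite group G, with at least two members, and d a member of D. Suppose that every member of D commuting with d commutes with exactly the same members of D as d does, and that exactly one member of D other than d commutes with d. Then G is isomorphic to the symmetric group of degree 4. -/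
theorem result {G : Type*} [Group G] [Finite G] {D : Set G} (hD : Cfsg.IsThreeTranspositionClass D) (hD2 : ∃ a ∈ D, ∃ b ∈ D, a ≠ b) {d : G} (hd : d ∈ D) (hV : {y : G | y ∈ D ∧ Commute d y} = {v : G | v ∈ D ∧ ∀ e ∈ D, Commute v e ↔ Commute d e}) (hm : {y : G | y ∈ D ∧ Commute d y}.ncard = 2) : Nonempty (G ≃* Equiv.Perm (Fin 4)) := by
  have hG := isThreeTranspositionGroup_of_class hD
  have hD' := hD.1
  -- every member has exactly one partner
  have P : ∀ x ∈ D, ∃ p ∈ D, p ≠ x ∧ Commute x p ∧
      (∀ y ∈ D, Commute x y → y = x ∨ y = p) ∧ (∀ e ∈ D, Commute p e ↔ Commute x e) := by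
    intro x hx
    obtain ⟨g, rfl⟩ := exists_conj_of_class hD hd hx
    have hdd : d ∈ {y : G | y ∈ D ∧ Commute d y} := ⟨hd, Commute.refl d⟩
    obtain ⟨a, b, hab, heq⟩ := Set.ncard_eq_two.1 hm
    obtain ⟨p, hp, hpne, hall⟩ : ∃ p ∈ {y : G | y ∈ D ∧ Commute d y}, p ≠ d ∧
        ∀ y ∈ {y : G | y ∈ D ∧ Commute d y}, y = d ∨ y = p := by
      rw [heq] at hdd ⊢
      rcases hdd with h | h
      · exact ⟨b, Or.inr rfl, fun e => hab (h ▸ e.symm), fun y hy => by rw [h]; exact hy⟩
      · exact ⟨a, Or.inl rfl, fun e => hab (h ▸ e), fun y hy => by rw [h]; exact hy.symm⟩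
    have hpV : p ∈ {v : G | v ∈ D ∧ ∀ e ∈ D, Commute v e ↔ Commute d e} := hV ▸ hp
    refine ⟨g * p * g⁻¹, hG.2.1 g p hp.1, fun e => hpne (by simpa using e),
      (commute_conj_iff g d p).2 hp.2, fun y hy hc => ?_, fun e he => ?_⟩
    · have hy' : g⁻¹ * y * g ∈ D := by simpa using hG.2.1 g⁻¹ y hy
      have hy2 : y = g * (g⁻¹ * y * g) * g⁻¹ := by group
      rw [hy2, commute_conj_iff] at hc
      rcases hall _ ⟨hy', hc⟩ with e | e
      · exact Or.inl (by rw [← e]; group)
      · exact Or.inr (by rw [← e]; group)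
    · have he' : g⁻¹ * e * g ∈ D := by simpa using hG.2.1 g⁻¹ e he
      have he2 : e = g * (g⁻¹ * e * g) * g⁻¹ := by group
      rw [he2, commute_conj_iff, commute_conj_iff]
      exact hpV.2 _ he'
  choose! p hpD hpne hpc huniq hpV using P
  have swap_mem : ∀ (φ : Equiv.Perm (Fin 4) →* G), φ (Equiv.swap 0 1) ∈ D →
      ∀ i j : Fin 4, i ≠ j → φ (Equiv.swap i j) ∈ D := by
    intro φ h i j hij
    obtain ⟨k, hk⟩ : ∃ k : Equiv.Perm (Fin 4), k * Equiv.swap 0 1 * k⁻¹ = Equiv.swap i j := by
      clear * - hij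
      revert i j
      decide +kernel
    rw [← hk, map_mul, map_mul, map_inv]
    exact hG.2.1 _ _ h
  -- the products `x * p x` of two noncommuting members
  have key : ∀ a ∈ D, ∀ b ∈ D, ¬ Commute a b →
      Commute (a * p a) (b * p b) ∧ a * p a * (b * p b) = a * b * a * (a * p b * a) := by
    intro a ha b hb hab
    obtain ⟨φ, hinj, h1, h2, h3⟩ := exists_hom_of_string hD' ha hb (hpD a ha) (hpne a ha).symm
      (hpc a ha) hab (fun h => hab ((hpV a ha b hb).1 h.symm))
    have hm03 : φ (Equiv.swap 0 3) ∈ D := swap_mem φ (h1 ▸ ha) 0 3 (by decide)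
    have hpb : p b = φ (Equiv.swap 0 3) := by
      rcases huniq b hb _ hm03 (by rw [← h2]; exact Commute.map (by unfold Commute SemiconjBy; decide +kernel) φ) with e | e
      · rw [← h2] at e
        exact absurd (hinj e) (by decide +kernel)
      · exact e.symm
    rw [← h3, hpb, ← h1, ← h2]
    simp only [← map_mul]
    exact ⟨Commute.map (by unfold Commute SemiconjBy; decide +kernel) φ, congrArg φ (by decide +kernel)⟩
  obtain ⟨e, he, hde⟩ := exists_not_commute_of_class hD hD2 hd
  obtain ⟨φ, hinj, h1, h2, h3⟩ := exists_hom_of_string hD' hd he (hpD d hd) (hpne d hd).symm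
    (hpc d hd) hde (fun h => hde ((hpV d hd e he).1 h.symm))
  have hpe : p e = φ (Equiv.swap 0 3) := by
    have hm03 : φ (Equiv.swap 0 3) ∈ D := swap_mem φ (h1 ▸ hd) 0 3 (by decide)
    rcases huniq e he _ hm03 (by rw [← h2]; exact Commute.map (by unfold Commute SemiconjBy; decide +kernel) φ) with e' | e'
    · rw [← h2] at e'
      exact absurd (hinj e') (by decide +kernel)
    · exact e'.symm
  have hrange : ∀ f ∈ D, f ∈ φ.range := by
    intro f hf
    by_contra hout
    have hg : d * e * d ∈ D := conj_mem_of_mem hD' hG.2.1 hd he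
    have hdr : d ∈ φ.range ∧ e ∈ φ.range ∧ p d ∈ φ.range ∧ p e ∈ φ.range :=
      ⟨⟨_, h1⟩, ⟨_, h2⟩, ⟨_, h3⟩, ⟨_, hpe.symm⟩⟩
    have hfd : ¬ Commute f d := fun h => by
      rcases huniq d hd f hf h.symm with e' | e'
      · exact hout (e' ▸ hdr.1)
      · exact hout (e' ▸ hdr.2.2.1)
    have hfe : ¬ Commute f e := fun h => by
      rcases huniq e he f hf h.symm with e' | e'
      · exact hout (e' ▸ hdr.2.1)
      · exact hout (e' ▸ hdr.2.2.2)
    have hfg : ¬ Commute f (d * e * d) := fun h => by
      rcases huniq _ hg f hf h.symm with e' | e'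
      · exact hout (e' ▸ mul_mem (mul_mem hdr.1 hdr.2.1) hdr.1)
      · have : p (d * e * d) = d * p e * d := by
          rcases huniq _ hg _ (conj_mem_of_mem hD' hG.2.1 hd (hpD e he))
            ((commute_conj_iff_of_mem hD' hd e (p e)).2 (hpc e he)) with e'' | e''
          · exact absurd (mul_left_cancel (mul_right_cancel e'')) (hpne e he)
          · exact e''.symm
        exact hout (by rw [e', this]; exact mul_mem (mul_mem hdr.1 hdr.2.2.2) hdr.1)
    have hpg : p (d * e * d) = d * p e * d := by
      rcases huniq _ hg _ (conj_mem_of_mem hD' hG.2.1 hd (hpD e he))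
        ((commute_conj_iff_of_mem hD' hd e (p e)).2 (hpc e he)) with e'' | e''
      · exact absurd (mul_left_cancel (mul_right_cancel e'')) (hpne e he)
      · exact e''.symm
    have kg := (key d hd e he hde).2
    rw [← hpg] at kg
    obtain ⟨c1, k1⟩ := key f hf d hd hfd
    obtain ⟨-, k2⟩ := key f hf e he hfe
    obtain ⟨-, k3⟩ := key f hf _ hg hfg
    have hconj : ∀ x y : G, f * x * f * (f * y * f) = f * (x * y) * f := fun x y => by
      calc f * x * f * (f * y * f) = f * x * (f * f) * (y * f) := by group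
        _ = f * (x * y) * f := by rw [sq hD' hf, mul_one]; group
    rw [hconj] at k1 k2 k3
    have hnf : (f * p f) * (f * p f) = 1 := by
      rw [← pow_two]
      exact (commute_iff_sq_eq_one hD' hf (hpD f hf)).1 (hpc f hf)
    rw [← kg] at k3
    have h4 : f * p f * (d * p d) * (f * p f * (e * p e)) =
        f * p f * (d * p d * (e * p e)) := by
      rw [k1, k2, k3, hconj]
    rw [← mul_assoc, mul_assoc (f * p f) (d * p d) (f * p f), ← c1.eq, ← mul_assoc (f * p f), hnf,
      one_mul] at h4
    have h5 : f * p f = 1 := by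
      have := h4.symm
      rwa [mul_eq_right] at this
    exact hpne f hf ((mul_eq_one_iff hD' (hpD f hf)).1 h5).symm
  have htop : φ.range = ⊤ := by
    rw [eq_top_iff, ← hD.2.2, Subgroup.closure_le]
    exact hrange
  exact ⟨(MulEquiv.ofBijective φ ⟨hinj, MonoidHom.range_eq_top.1 htop⟩).symm⟩

end Cfsg.Agent.S5355
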