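import Cfsg.Statements.S0780
import Cfsg.Agent.Forms.UnitaryTransvections

set_option autoImplicit false
open Cfsg

namespace Cfsg.Agent.S0780

open CfsgLib.RepBounds.Unit


/-- Generation of SU_n(q), n ≥ 3, (n, q) ≠ (3, 2), by unitary transvections: the subgroup generated by the elements whose matrix is x ↦ x + c h(x, v) v with v isotropic is all of SU_n(q). -/
theorem result {F : Type*} [Field F] [Fintype F] {q : ℕ} (hF : Fintype.card F = q ^ 2) (n : ℕ) (hn : 3 ≤ n) (h32 : ¬ (n = 3 ∧ q = 2)) : Subgroup.closure {A : ↥(Cfsg.SU n F q) | ∃ (v : Fin n → F) (c : F), Cfsg.hermForm n F q v v = 0 ∧ ((A : Matrix.SpecialLinearGroup (Fin n) F) : Matrix (Fin n) (Fin n) F) = Cfsg.unitaryTransvection n q v c} = ⊤ := by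
  obtain ⟨C, rfl⟩ := exists_conjField q hF
  rw [eq_top_iff]
  intro g _
  let E := MulEquiv.subgroupCongr (suG_fin_eq C n)
  have htop := transvs_eq_top C (ι := Fin n) (by rw [Fintype.card_fin]; exact h32)
  have h := Subgroup.mem_map_of_mem E.toMonoidHom (htop ▸ Subgroup.mem_top (E.symm g))
  rw [transvs, MonoidHom.map_closure] at h
  have hE : E.toMonoidHom (E.symm g) = g := E.apply_symm_apply g
  rw [hE] at h
  refine Subgroup.closure_mono ?_ h
  rintro _ ⟨a, ⟨v, c, hv, -, ha⟩, rfl⟩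
  refine ⟨v, c, by rw [hermForm_eq]; exact hv, Matrix.ext_iff_mulVec.2 fun x => ?_⟩
  rw [unitaryTransvection_mulVec]
  exact ha x

end Cfsg.Agent.S0780
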