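import Cfsg.Statements.S4689
import Cfsg.Agent.Star.Nilpotent

set_option autoImplicit false
set_option linter.style.haveILetI false
open Cfsg CfsgLib.BlockPairs

namespace Cfsg.Agent.S4689

/-- Fix a prime p and a maximal ideal M of the algebraic integers containing p, and a nilpotent p-block B of the finite group G. Then B has p-regular rank one (a single irreducible Brauer character), and some χ₀ ∈ B restricts to that Brauer character: every χ ∈ B agrees on the p-regular elements with a natural-number multiple of χ₀. -/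
theorem result {G : Type*} [Group G] [Fintype G] (p : ℕ) [Fact p.Prime] (M : Ideal Cfsg.AlgInt) (hM : Cfsg.IsPModular p M) (B : Set (Cfsg.IrrCharacter G)) (hnil : Cfsg.IsNilpotentBlock p M B) : Cfsg.blockRank p B = 1 ∧ ∃ χ₀ ∈ B, ∀ χ ∈ B, ∃ d : ℕ, ∀ x : G, Cfsg.pRegularPart p (χ : G → ℂ) x = (d : ℂ) * Cfsg.pRegularPart p (χ₀ : G → ℂ) x := by
  classical
  haveI := CfsgLib.Blocks.IsPModular.isPrime hM
  haveI := CfsgLib.Blocks.charP_res hM
  haveI := isAlgClosed_res hM
  have hB := hnil.1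
  obtain ⟨P, e, hmax⟩ := exists_maxPair (p := p) (isBlock_gblk (M := M) hB)
  have hn := (isNilpotentBlock_gblk_iff hB).1 hnil
  obtain ⟨χ₀, hχ₀, hmin, -⟩ := CfsgLib.BlockPairing.exists_minimal (p := p) hB
  have h0 : Cfsg.blockHeight p B (χ₀ : G → ℂ) = 0 := by
    rw [Cfsg.blockHeight, Nat.sub_eq_zero_iff_le]
    refine le_csInf (Set.image_nonempty.2 ⟨χ₀, hχ₀⟩) ?_
    rintro _ ⟨η, hη, rfl⟩
    exact hmin η hη
  obtain ⟨Ψ, -, hB', hreg⟩ := CfsgLib.Star.exists_param hM hB hmax hn hχ₀ h0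
  have hd : ∀ χ ∈ B, ∃ d : ℕ, ∀ x : G,
      Cfsg.pRegularPart p (χ : G → ℂ) x = (d : ℂ) * Cfsg.pRegularPart p (χ₀ : G → ℂ) x := by
    intro χ hχ
    obtain ⟨θ, rfl⟩ := (hB' χ).1 hχ
    obtain ⟨d, -, hd⟩ := CfsgLib.Characters.exists_degree_pos θ.2
    refine ⟨d, fun x => ?_⟩
    simp only [Cfsg.pRegularPart]
    split_ifs with hx
    · rw [hreg θ x hx, hd]
    · rw [mul_zero]
  refine ⟨?_, χ₀, hχ₀, hd⟩
  have hspan : Submodule.span ℂ
      ((fun χ : Cfsg.IrrCharacter G => Cfsg.pRegularPart p (χ : G → ℂ)) '' B) =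
      Submodule.span ℂ {Cfsg.pRegularPart p (χ₀ : G → ℂ)} := by
    refine le_antisymm (Submodule.span_le.2 ?_) (Submodule.span_mono ?_)
    · rintro _ ⟨χ, hχ, rfl⟩
      obtain ⟨d, hd'⟩ := hd χ hχ
      exact Submodule.mem_span_singleton.2 ⟨(d : ℂ), funext fun x => (hd' x).symm⟩
    · exact Set.singleton_subset_iff.2 ⟨χ₀, hχ₀, rfl⟩
  rw [Cfsg.blockRank, hspan, finrank_span_singleton]
  intro h
  have h1 := congrFun h 1
  simp only [Cfsg.pRegularPart, Pi.zero_apply] at h1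
  rw [if_pos (show Cfsg.IsPRegular p (1 : G) by
    rw [Cfsg.IsPRegular, orderOf_one]; exact (Fact.out : p.Prime).not_dvd_one)] at h1
  exact CfsgLib.Characters.irr_one_ne_zero χ₀.2 h1

end Cfsg.Agent.S4689
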