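import Cfsg.Statements.S5200
import Cfsg.Agent.FusionNormal.SmallCentralizer
import Cfsg.Agent.FusionNormal.CentralFocal

set_option autoImplicit false
open Cfsg
open scoped commutatorElement Pointwise

namespace Cfsg.Agent.S5200

/-- Let F be a saturated fusion system over a finite p-group S and E a normal subsystem of F over T whose centralizer in S lies in T: every subgroup Y of C_S(T) such that E is contained in the centralizer fusion system of Y in F satisfies Y ≤ T. Then T·C_S(T)/T is abelian (the commutator subgroup of T·C_S(T) lies in T), and if p is odd then C_S(T) ≤ T. -/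
theorem result {Ω : Type*} [Group Ω] {S : Subgroup Ω} [Finite S] (p : ℕ) [Fact p.Prime] (hS : IsPGroup p S) (F : Cfsg.FusionSystem S) (hF : F.IsSaturated p) {T : Subgroup Ω} (E : Cfsg.FusionSystem T) (hE : E.IsNormalIn F p) (hCE : ∀ Y : Subgroup Ω, Y ≤ Cfsg.FusionSystem.centralizerIn S T → (∀ C : Cfsg.FusionSystem (Cfsg.FusionSystem.centralizerIn S Y), F.IsCentralizerSystem Y C → E.IsSubsystemOf C) → Y ≤ T) : ⁅T ⊔ Cfsg.FusionSystem.centralizerIn S T, T ⊔ Cfsg.FusionSystem.centralizerIn S T⁆ ≤ T ∧ (p ≠ 2 → Cfsg.FusionSystem.centralizerIn S T ≤ T) := by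
  classical
  have hTS : T ≤ S := hE.1.2.2.2.1.1
  set W := Cfsg.FusionSystem.centralizerIn S T with hWdef
  have hsub : ∀ Y : Subgroup Ω, Y ≤ W → (∀ P : Subgroup Ω, E.Hom P ⊆ F.centralizerHom Y P) → Y ≤ T := by
    intro Y hY h
    refine hCE Y hY fun C hC P => ?_
    rw [hC P]
    exact h P
  refine ⟨?_, fun hp c hc => ?_⟩
  · obtain ⟨D, hD⟩ := CfsgLib.Fusion.exists_isCentralizerSystem F hTS
    have hX : D.focalSubgroup ≤ W := (Subgroup.closure_le _).2 fun _ ⟨Q, φ, x, hφ, hy⟩ =>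
      hy ▸ W.mul_mem (W.inv_mem (CfsgLib.Fusion.le_left hφ x.2)) (CfsgLib.Fusion.apply_mem hφ x)
    have hXT := hsub _ hX fun P => CfsgLib.FusionNormal.subset_centralizerHom_focal hS hF hE hD P
    have hWW : ∀ a ∈ W, ∀ b ∈ W, b * a * b⁻¹ * a⁻¹ ∈ T := by
      intro a ha b hb
      refine hXT (Subgroup.subset_closure ⟨W, Cfsg.conjHom W a, ⟨b⁻¹, W.inv_mem hb⟩,
        D.conj_mem le_rfl ha, ?_⟩)
      show b * a * b⁻¹ * a⁻¹ = b⁻¹⁻¹ * (a * b⁻¹ * a⁻¹)
      group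
    have hTn : ∀ w ∈ W, ∀ t ∈ T, w * t = t * w := fun w hw t ht =>
      ((CfsgLib.Fusion.mem_centralizerIn.1 hw).2 t ht).symm
    have hle : W ≤ Subgroup.normalizer (T : Set Ω) :=
      (CfsgLib.Fusion.centralizerIn_le_normalizerIn S T).trans inf_le_right
    have hsplit : ∀ x ∈ T ⊔ W, ∃ t ∈ T, ∃ w ∈ W, x = t * w := by
      intro x hx
      rw [← SetLike.mem_coe, Subgroup.coe_mul_of_right_le_normalizer_left T W hle] at hx
      obtain ⟨t, ht, w, hw, rfl⟩ := hx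
      exact ⟨t, ht, w, hw, rfl⟩
    rw [Subgroup.commutator_le]
    intro x hx y hy
    obtain ⟨t, ht, w, hw, rfl⟩ := hsplit x hx
    obtain ⟨s, hs, v, hv, rfl⟩ := hsplit y hy
    have h1 : ⁅t * w, s * v⁆ = t * s * t⁻¹ * s⁻¹ * (w * v * w⁻¹ * v⁻¹) := by
      have hz : ∀ a ∈ T, ∀ b ∈ W, Commute b a := fun a ha b hb => hTn b hb a ha
      rw [commutatorElement_def, mul_inv_rev, mul_inv_rev]
      calc t * w * (s * v) * (w⁻¹ * t⁻¹) * (v⁻¹ * s⁻¹)
          = t * (w * s) * v * (w⁻¹ * t⁻¹) * (v⁻¹ * s⁻¹) := by group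
        _ = t * s * ((w * v * w⁻¹) * t⁻¹) * (v⁻¹ * s⁻¹) := by rw [(hz s hs w hw).eq]; group
        _ = t * s * t⁻¹ * ((w * v * w⁻¹ * v⁻¹) * s⁻¹) := by
            rw [(hz t⁻¹ (T.inv_mem ht) (w * v * w⁻¹) (W.mul_mem (W.mul_mem hw hv) (W.inv_mem hw))).eq]
            group
        _ = t * s * t⁻¹ * s⁻¹ * (w * v * w⁻¹ * v⁻¹) := by
            rw [(hz s⁻¹ (T.inv_mem hs) (w * v * w⁻¹ * v⁻¹)
              (W.mul_mem (W.mul_mem (W.mul_mem hw hv) (W.inv_mem hw)) (W.inv_mem hv))).eq]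
            group
    rw [h1]
    exact T.mul_mem (T.mul_mem (T.mul_mem (T.mul_mem ht hs) (T.inv_mem ht)) (T.inv_mem hs))
      (hWW v hv w hw)
  · obtain ⟨z, hz, hcz, hE'⟩ := CfsgLib.FusionNormal.exists_fixed_mul hS hF hE hp hc
    have h := hsub _ (Subgroup.zpowers_le.2 hcz) hE' (Subgroup.mem_zpowers (c * z))
    simpa using T.mul_mem h (T.inv_mem hz)

end Cfsg.Agent.S5200
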