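import Cfsg.Statements.S2330
import Cfsg.Agent.LieSmall.GL2Classes

set_option autoImplicit false
open Cfsg

namespace Cfsg.Agent.S2330

open CfsgLib.GL2Classes Matrix

section
variable {F : Type*} [Field F]

noncomputable def scalarGL (c : Fˣ) : GL (Fin 2) F :=
  GeneralLinearGroup.mkOfDetNeZero ((c : F) • (1 : Matrix (Fin 2) (Fin 2) F))
    (by simp [Matrix.det_smul])

noncomputable def compGL (x : F × Fˣ) : GL (Fin 2) F :=
  GeneralLinearGroup.mkOfDetNeZero (companion x.1 (x.2 : F)) (by simp)

noncomputable def classOf : Fˣ ⊕ F × Fˣ → ConjClasses (GL (Fin 2) F)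
  | .inl c => ConjClasses.mk (scalarGL c)
  | .inr x => ConjClasses.mk (compGL x)

theorem invariants {g h : GL (Fin 2) F} (hc : IsConj g h) :
    (g : Matrix (Fin 2) (Fin 2) F).trace = (h : Matrix (Fin 2) (Fin 2) F).trace ∧
    (g : Matrix (Fin 2) (Fin 2) F).det = (h : Matrix (Fin 2) (Fin 2) F).det ∧
    ∀ c : F, (g : Matrix (Fin 2) (Fin 2) F) = c • 1 → (h : Matrix (Fin 2) (Fin 2) F) = c • 1 := by
  obtain ⟨P, rfl⟩ := isConj_iff.mp hc
  refine ⟨?_, ?_, ?_⟩
  · simp only [GeneralLinearGroup.coe_mul]
    rw [Matrix.trace_mul_comm, ← mul_assoc, ← GeneralLinearGroup.coe_mul, inv_mul_cancel]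
    simp
  · simp only [GeneralLinearGroup.coe_mul]
    rw [Matrix.det_mul_comm, ← mul_assoc, ← GeneralLinearGroup.coe_mul, inv_mul_cancel]
    simp
  · intro c hc
    simp only [GeneralLinearGroup.coe_mul, hc]
    rw [Matrix.mul_smul, mul_one, Matrix.smul_mul, ← GeneralLinearGroup.coe_mul, mul_inv_cancel]
    simp

theorem classOf_bijective : Function.Bijective (classOf (F := F)) := by
  constructor
  · rintro (c | x) (c' | x') h <;> simp only [classOf, ConjClasses.mk_eq_mk_iff_isConj] at h
    · obtain ⟨-, -, h3⟩ := invariants h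
      have := h3 (c : F) rfl
      have h00 := congrFun (congrFun this 0) 0
      simp [scalarGL] at h00
      rw [Units.ext h00]
    · obtain ⟨-, -, h3⟩ := invariants h
      exact absurd (h3 (c : F) rfl) (companion_ne_smul_one _ _ _)
    · obtain ⟨-, -, h3⟩ := invariants h.symm
      exact absurd (h3 (c' : F) rfl) (companion_ne_smul_one _ _ _)
    · obtain ⟨h1, h2, -⟩ := invariants h
      simp [compGL] at h1 h2
      exact congrArg _ (Prod.ext h1 (Units.ext h2))
  · intro C
    induction C using Quotient.inductionOn with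
    | h g =>
      by_cases hs : ∃ c : F, (g : Matrix (Fin 2) (Fin 2) F) = c • 1
      · obtain ⟨c, hc⟩ := hs
        have hdet : (g : Matrix (Fin 2) (Fin 2) F).det ≠ 0 := g.det_ne_zero
        have hc0 : c ≠ 0 := by
          rintro rfl
          simp [hc] at hdet
        exact ⟨.inl (Units.mk0 c hc0), congrArg ConjClasses.mk (Units.ext hc.symm)⟩
      · push Not at hs
        refine ⟨.inr ((g : Matrix (Fin 2) (Fin 2) F).trace, Units.mk0 _ g.det_ne_zero), ?_⟩
        refine ConjClasses.mk_eq_mk_iff_isConj.mpr ?_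
        exact isConj_of_trace_det (fun c => companion_ne_smul_one _ _ _) hs
          (by simp [compGL]) (by simp [compGL])

end

/-- Over a finite field with q elements, the general linear group GL₂ has exactly q² − 1 conjugacy classes. -/
theorem result {F : Type*} [Field F] [Fintype F] :
    Nat.card (ConjClasses (Matrix.GeneralLinearGroup (Fin 2) F)) = Fintype.card F ^ 2 - 1 := by
  classical
  rw [← Nat.card_eq_of_bijective _ (classOf_bijective (F := F)), Nat.card_sum, Nat.card_prod,
    Nat.card_units, Nat.card_eq_fintype_card]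
  have h := Fintype.card_pos (α := F)
  obtain ⟨k, hk⟩ : ∃ k, Fintype.card F = k + 1 := ⟨Fintype.card F - 1, by omega⟩
  rw [hk]
  have : (k + 1) ^ 2 = k + (k + 1) * k + 1 := by ring
  simp only [add_tsub_cancel_right]
  omega

end Cfsg.Agent.S2330
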