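import Cfsg.Statements.S3157
import Cfsg.Agent.FpfThree.SixtyFour
import Cfsg.Agent.Small.Dihedral
import Cfsg.Agent.Linear.SmallFields
import Cfsg.Agent.Linear.Basic
import Mathlib

set_option autoImplicit false
open Cfsg

namespace Cfsg.Agent.S3157

open CfsgLib CfsgLib.Linear

/-! ### The unitriangular group over the field of order 4 -/

/-- Upper unitriangular `3 × 3` matrices, as triples. -/
structure Uni where
  a : GF4
  b : GF4
  c : GF4

namespace Uni

@[ext] theorem ext' {x y : Uni} (h1 : x.a = y.a) (h2 : x.b = y.b) (h3 : x.c = y.c) : x = y := by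
  cases x; cases y; simp_all

instance instGroupUni : Group Uni where
  mul x y := ⟨x.a + y.a, x.b + y.b, x.c + y.c + x.a * y.b⟩
  one := ⟨0, 0, 0⟩
  inv x := ⟨-x.a, -x.b, -x.c + x.a * x.b⟩
  mul_assoc x y z := ext' (add_assoc _ _ _) (add_assoc _ _ _) (by
    show x.c + y.c + x.a * y.b + z.c + (x.a + y.a) * z.b =
      x.c + (y.c + z.c + y.a * z.b) + x.a * (y.b + z.b)
    ring)
  one_mul x := ext' (zero_add _) (zero_add _) (by
    show 0 + x.c + 0 * x.b = x.c
    ring)
  mul_one x := ext' (add_zero _) (add_zero _) (by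
    show x.c + 0 + x.a * 0 = x.c
    ring)
  inv_mul_cancel x := ext' (neg_add_cancel _) (neg_add_cancel _) (by
    show -x.c + x.a * x.b + x.c + -x.a * x.b = 0
    ring)

/-- As triples. -/
def equivTriple : Uni ≃ GF4 × GF4 × GF4 where
  toFun x := (x.a, x.b, x.c)
  invFun p := ⟨p.1, p.2.1, p.2.2⟩
  left_inv _ := rfl
  right_inv _ := rfl

theorem card_uni : Nat.card Uni = 64 := by
  rw [Nat.card_congr equivTriple, Nat.card_prod, Nat.card_prod, Nat.card_eq_fintype_card, card_gf4]

/-- As matrices of determinant 1. -/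
noncomputable def toSL : Uni →* Matrix.SpecialLinearGroup (Fin 3) GF4 :=
  MonoidHom.mk' (fun x => ⟨!![1, x.a, x.c; 0, 1, x.b; 0, 0, 1], by simp [Matrix.det_fin_three]⟩)
    fun x y => Subtype.ext (by
      refine Matrix.ext fun i j => ?_
      change (!![1, (x * y).a, (x * y).c; 0, 1, (x * y).b; 0, 0, 1] :
          Matrix (Fin 3) (Fin 3) GF4) i j =
        ((!![1, x.a, x.c; 0, 1, x.b; 0, 0, 1] : Matrix (Fin 3) (Fin 3) GF4) *
          !![1, y.a, y.c; 0, 1, y.b; 0, 0, 1]) i j
      fin_cases i <;> fin_cases j <;>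
        simp [Matrix.mul_apply, Fin.sum_univ_three, show (x * y).a = x.a + y.a from rfl,
          show (x * y).b = x.b + y.b from rfl, show (x * y).c = x.c + y.c + x.a * y.b from rfl] <;>
        ring)

/-- Into `PSL₃(4)`. -/
noncomputable def toPSL : Uni →* Matrix.ProjectiveSpecialLinearGroup (Fin 3) GF4 :=
  (QuotientGroup.mk' (Subgroup.center (Matrix.SpecialLinearGroup (Fin 3) GF4))).comp toSL

theorem toPSL_injective : Function.Injective toPSL := by
  rw [← MonoidHom.ker_eq_bot_iff, eq_bot_iff]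
  intro x hx
  rw [MonoidHom.mem_ker, toPSL, MonoidHom.comp_apply, QuotientGroup.mk'_apply,
    QuotientGroup.eq_one_iff, Matrix.SpecialLinearGroup.mem_center_iff] at hx
  obtain ⟨r, -, hr⟩ := hx
  have h01 := congrFun (congrFun hr 0) 1
  have h12 := congrFun (congrFun hr 1) 2
  have h02 := congrFun (congrFun hr 0) 2
  simp [toSL] at h01 h12 h02
  exact ext' h01.symm h12.symm h02.symm

theorem exists_sylow : ∃ S : Sylow 2 (Matrix.ProjectiveSpecialLinearGroup (Fin 3) GF4),
    Nonempty (Uni ≃* ↥(S : Subgroup (Matrix.ProjectiveSpecialLinearGroup (Fin 3) GF4))) := by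
  have hGL : Nat.card (GL (Fin 3) GF4) = 181440 := by
    rw [Matrix.card_GL_field, card_gf4]
    simp [Fin.prod_univ_three]
  have hSL : Nat.card (Matrix.SpecialLinearGroup (Fin 3) GF4) = 60480 := by
    have h := card_SL_mul (n := Fin 3) (F := GF4)
    rw [hGL, card_gf4] at h
    norm_num at h
    rw [Nat.card_eq_fintype_card]
    omega
  have hPSL : Nat.card (Matrix.ProjectiveSpecialLinearGroup (Fin 3) GF4) = 20160 := by
    have h := card_PSL_mul (n := Fin 3) (F := GF4)
    rw [hSL, card_gf4, Fintype.card_fin] at h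
    norm_num at h
    rw [Nat.card_eq_fintype_card]
    omega
  have hc : Nat.card toPSL.range =
      2 ^ (Nat.card (Matrix.ProjectiveSpecialLinearGroup (Fin 3) GF4)).factorization 2 := by
    rw [← Nat.card_congr (MonoidHom.ofInjective toPSL_injective).toEquiv, card_uni, hPSL,
      show (20160 : ℕ) = 2 ^ 6 * 315 from rfl, Nat.factorization_mul (by norm_num) (by norm_num),
      Finsupp.add_apply, Nat.factorization_pow_self Nat.prime_two,
      Nat.factorization_eq_zero_of_not_dvd (by norm_num : ¬ 2 ∣ 315)]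
    norm_num
  exact ⟨Sylow.ofCard _ hc, ⟨MonoidHom.ofInjective toPSL_injective⟩⟩

end Uni

/-! ### Mapping the model into `T` -/

variable {T : Type*} [Group T]

/-- `a ↦ p ^ a.re * s ^ a.im`. -/
def kl (p s : T) (a : GF4) : T := p ^ a.re.val * s ^ a.im.val

theorem pow_val_add {p : T} (hp : p * p = 1) : ∀ i j : ZMod 2,
    p ^ (i + j).val = p ^ i.val * p ^ j.val := by
  intro i j
  rw [ZMod.val_add, ← pow_add]
  exact (pow_eq_pow_mod _ (show p ^ 2 = 1 by rw [pow_two, hp])).symm

theorem kl_add {p s : T} (hp : p * p = 1) (hs : s * s = 1) (hps : Commute p s) (a a' : GF4) :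
    kl p s (a + a') = kl p s a * kl p s a' := by
  simp only [kl, QuadraticAlgebra.re_add, QuadraticAlgebra.im_add, pow_val_add hp, pow_val_add hs]
  rw [mul_assoc, mul_assoc]
  congr 1
  rw [← mul_assoc, (hps.pow_pow a'.re.val a.im.val).eq, mul_assoc]

theorem zmod_two : ∀ i : ZMod 2, i = 0 ∨ i = 1 := by decide

/-- The commutator. -/
def cm (u v : T) : T := u * v * u⁻¹ * v⁻¹

theorem mul_eq_cm_mul (u v : T) : u * v = cm u v * (v * u) := by unfold cm; group

theorem cm_self (u : T) : cm u u = 1 := by unfold cm; group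

theorem cm_one_left (v : T) : cm 1 v = 1 := by unfold cm; group

theorem cm_one_right (v : T) : cm v 1 = 1 := by unfold cm; group

theorem cm_eq_one_iff (u v : T) : cm u v = 1 ↔ u * v = v * u := by
  unfold cm
  rw [mul_inv_eq_one, mul_inv_eq_iff_eq_mul]

theorem map_cm (f : MulAut T) (u v : T) : f (cm u v) = cm (f u) (f v) := by simp [cm]

/-- The homomorphism of `QuaternionGroup 2` given by generators. -/
theorem exists_quaternionHom {g h : T} (hg : g ^ 4 = 1) (hh : h * h = g * g)
    (hgh : h * g = g⁻¹ * h) (hg2 : g * g ≠ 1) (hne : g * h ≠ h * g) :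
    ∃ φ : QuaternionGroup 2 →* T, Function.Injective φ ∧ φ (.a 1) = g ∧ φ (.xa 0) = h ∧
      ∀ q, φ q ∈ Subgroup.closure ({g, h} : Set T) := by
  let pw : ZMod (2 * 2) → T := fun i => g ^ i.val
  have hadd : ∀ i j, pw (i + j) = pw i * pw j := fun i j => by
    show g ^ (i + j).val = g ^ i.val * g ^ j.val
    rw [ZMod.val_add, ← pow_add]
    exact (pow_eq_pow_mod _ hg).symm
  have hzero : pw 0 = 1 := by simp [pw]
  have hneg : ∀ i, pw (-i) = (pw i)⁻¹ := fun i => by
    rw [eq_inv_iff_mul_eq_one, ← hadd, neg_add_cancel, hzero]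
  have hsub : ∀ i j, pw (j - i) = (pw i)⁻¹ * pw j := fun i j => by
    rw [← hneg, ← hadd, neg_add_eq_sub]
  have hswap : ∀ i, pw i * h = h * (pw i)⁻¹ := fun i => by
    show g ^ i.val * h = h * (g ^ i.val)⁻¹
    rw [← inv_pow]
    refine (SemiconjBy.pow_right (show SemiconjBy h g⁻¹ g from ?_) i.val).symm
    unfold SemiconjBy
    rw [mul_inv_eq_iff_eq_mul, mul_assoc, hgh, mul_inv_cancel_left]
  have hpow : ∀ (i : ℕ), g ^ i = pw i := fun i => by
    show g ^ i = g ^ ((i : ZMod (2 * 2))).val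
    rw [ZMod.val_natCast]
    exact pow_eq_pow_mod _ hg
  let f : QuaternionGroup 2 → T := fun q => match q with
    | .a i => pw i
    | .xa i => h * pw i
  have hmul : ∀ x y, f (x * y) = f x * f y := by
    rintro (i | i) (j | j)
    · exact hadd i j
    · show h * pw (j - i) = pw i * (h * pw j)
      rw [← mul_assoc, hswap, mul_assoc, hsub]
    · show h * pw (i + j) = h * pw i * pw j
      rw [hadd, mul_assoc]
    · show pw ((2 : ℕ) + j - i) = h * pw i * (h * pw j)
      rw [show h * pw i * (h * pw j) = h * (pw i * h) * pw j by simp only [mul_assoc], hswap,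
        ← mul_assoc h h, hh, show g * g = pw ((2 : ℕ) : ZMod (2 * 2)) by rw [← hpow, pow_two],
        mul_assoc, ← hsub, ← hadd]
      congr 1
      abel
  refine ⟨MonoidHom.mk' f hmul, ?_, ?_, ?_, ?_⟩
  · rw [injective_iff_map_eq_one]
    rintro (i | i) hq
    · change g ^ i.val = 1 at hq
      obtain ⟨k, hk, rfl⟩ : ∃ k : ℕ, k < 4 ∧ i = (k : ZMod (2 * 2)) :=
        ⟨i.val, ZMod.val_lt i, (ZMod.natCast_zmod_val i).symm⟩
      rw [ZMod.val_natCast, Nat.mod_eq_of_lt hk] at hq
      interval_cases k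
      · rfl
      · exact absurd (by rw [← pow_one g, hq, one_mul]) hg2
      · exact absurd (by rw [← pow_two, hq]) hg2
      · exact absurd (by
          have h4 := hg
          rw [pow_succ, hq, one_mul] at h4
          rw [h4, one_mul]) hg2
    · refine absurd ?_ hne
      change h * g ^ i.val = 1 at hq
      rw [eq_inv_of_mul_eq_one_left hq]
      exact ((Commute.refl g).pow_right _).inv_right.eq
  · show g ^ (1 : ZMod (2 * 2)).val = g
    exact pow_one g
  · show h * g ^ (0 : ZMod (2 * 2)).val = h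
    rw [ZMod.val_zero, pow_zero, mul_one]
  · rintro (i | i)
    · exact pow_mem (Subgroup.subset_closure (by simp)) _
    · exact mul_mem (Subgroup.subset_closure (by simp)) (pow_mem (Subgroup.subset_closure (by simp)) _)

/-- Let T be a non-abelian group of order 64 admitting automorphisms ρ of order 3 and x of order 2 with x ρ x⁻¹ = ρ⁻¹ (so they generate a symmetric group of degree 3), where ρ fixes only the identity. Then T is isomorphic to a Sylow 2-subgroup of the projective special linear group of dimension 3 over the field with 4 elements, and the subgroup of fixed points of x is dihedral of order 8 or quaternion of order 8. -/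
theorem result {T : Type*} [Group T] [Finite T] (hT : Nat.card T = 64) (hna : ¬ IsMulCommutative T) (ρ x : MulAut T) (hρ : orderOf ρ = 3) (hx : orderOf x = 2)
    (hxr : x * ρ * x⁻¹ = ρ⁻¹) (hfp : ∀ y : T, ρ y = y → y = 1) (C : Subgroup T) (hC : ∀ y : T, y ∈ C ↔ x y = y) :
    (∃ (F : Type) (_ : Field F) (_ : Fintype F), Fintype.card F = 4 ∧
        ∃ S : Sylow 2 (Matrix.ProjectiveSpecialLinearGroup (Fin 3) F), Nonempty (T ≃* ↥(S : Subgroup (Matrix.ProjectiveSpecialLinearGroup (Fin 3) F)))) ∧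
      (Nonempty (↥C ≃* DihedralGroup 4) ∨ Nonempty (↥C ≃* QuaternionGroup 2)) := by
  classical
  have h3 : ∀ t, ρ (ρ (ρ t)) = t := fun t => by
    have h := DFunLike.congr_fun (show ρ ^ 3 = 1 by rw [← hρ]; exact pow_orderOf_eq_one ρ) t
    simpa [pow_succ] using h
  have hxx : ∀ t, x (x t) = t := fun t => by
    have h := DFunLike.congr_fun (show x ^ 2 = 1 by rw [← hx]; exact pow_orderOf_eq_one x) t
    simpa [pow_succ] using h
  have hxρ : ∀ t, x (ρ t) = ρ (ρ (x t)) := fun t => by
    have h := DFunLike.congr_fun hxr (x t)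
    rw [MulAut.mul_apply, MulAut.mul_apply, show x⁻¹ (x t) = t from x.symm_apply_apply t] at h
    rw [h, eq_comm]
    refine ρ.injective ?_
    rw [h3]
    exact (ρ.apply_symm_apply _).symm
  obtain ⟨hsq, hZ2, hZall, hcov, hdist⟩ := FpfThree.structure_sixtyfour hT hna ρ h3 hfp
  set Z := Subgroup.center T with hZdef
  have hnorm := fun t => (FpfThree.norm_eq_one ρ h3 hfp t).1
  have hcomm := fun t => (FpfThree.norm_eq_one ρ h3 hfp t).2
  have hzc : ∀ z ∈ Z, ∀ t : T, z * t = t * z := fun z hz t =>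
    ((Subgroup.mem_center_iff.1 hz) t).symm
  have hρZ : ∀ z ∈ Z, ρ z ∈ Z := fun z hz => by
    rw [hZdef, Subgroup.mem_center_iff] at hz ⊢
    intro g
    have h1 := congrArg ρ (hz (ρ (ρ g)))
    rwa [map_mul, map_mul, h3] at h1
  have hxZ : ∀ z ∈ Z, x z ∈ Z := fun z hz => by
    rw [hZdef, Subgroup.mem_center_iff] at hz ⊢
    intro g
    have h1 := congrArg x (hz (x g))
    rwa [map_mul, map_mul, hxx] at h1
  have hinvZ : ∀ z ∈ Z, z⁻¹ = z := fun z hz => inv_eq_of_mul_eq_one_right (hZ2 z hz)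
  let φ := QuotientGroup.mk' Z
  have hφ : ∀ t, φ t = 1 ↔ t ∈ Z := fun t => QuotientGroup.eq_one_iff t
  have hcmZ : ∀ u v : T, cm u v ∈ Z := by
    intro u v
    have e : cm u v = (u * v) * (u * v) * (v⁻¹ * v⁻¹) * (u⁻¹ * u⁻¹) := by
      have h := hzc _ (hsq u⁻¹) (v⁻¹)
      calc cm u v = u * v * (u * (u⁻¹ * u⁻¹ * v⁻¹)) := by unfold cm; group
        _ = u * v * (u * (v⁻¹ * (u⁻¹ * u⁻¹))) := by rw [h]
        _ = _ := by group
    rw [e]
    exact mul_mem (mul_mem (hsq _) (hsq _)) (hsq _)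
  have hcmr : ∀ u v w : T, cm u (v * w) = cm u v * cm u w := by
    intro u v w
    calc cm u (v * w) = (u * v * u⁻¹) * (cm u w * v⁻¹) := by unfold cm; group
      _ = (u * v * u⁻¹) * (v⁻¹ * cm u w) := by rw [hzc _ (hcmZ u w) v⁻¹]
      _ = _ := by unfold cm; group
  have hcms : ∀ u v : T, cm v u = cm u v := by
    intro u v
    rw [← hinvZ _ (hcmZ u v)]
    unfold cm; group
  have hcml : ∀ u v w : T, cm (u * v) w = cm u w * cm v w := by
    intro u v w
    rw [hcms w (u * v), hcmr, hcms u w, hcms v w]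
  have hcmz : ∀ u, ∀ z ∈ Z, cm u z = 1 := fun u z hz =>
    (cm_eq_one_iff u z).2 (hzc z hz u).symm
  have hcmρ : ∀ u v, cm u (ρ v) = ρ (ρ (cm u v)) := by
    have hself : ∀ u, cm u (ρ u) = 1 := fun u => (cm_eq_one_iff _ _).2 (hcomm u).eq
    have hlin : ∀ u v, cm u (ρ v) = cm (ρ u) v := by
      intro u v
      have h := hself (u * v)
      rw [map_mul, hcml, hcmr, hcmr, hself, hself, one_mul, mul_one] at h
      rw [eq_inv_of_mul_eq_one_left h, hinvZ _ (hcmZ _ _), hcms]
    have h2 : ∀ u v, cm u (ρ (ρ v)) = ρ (cm u v) := fun u v => by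
      rw [hlin, map_cm]
    intro u v
    conv_lhs => rw [← h3 (ρ v)]
    rw [h2, h2]
  have hsqm : ∀ u v : T, (u * v) * (u * v) = (u * u) * (v * v) * cm u v := by
    intro u v
    calc (u * v) * (u * v) = u * ((v * u) * v) := by group
      _ = u * (cm v u * (u * v) * v) := by rw [← mul_eq_cm_mul]
      _ = u * (cm u v * ((u * v) * v)) := by rw [hcms, mul_assoc]
      _ = u * ((u * v) * v * cm u v) := by rw [hzc _ (hcmZ u v)]
      _ = _ := by simp only [mul_assoc]
  have hsqz : ∀ u, ∀ z ∈ Z, (u * z) * (u * z) = u * u := fun u z hz => by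
    rw [hsqm, hZ2 z hz, hcmz u z hz, mul_one, mul_one]
  -- fixed points of `x` modulo the centre
  have hnotZ : ∀ a, a ∉ Z → ρ a ∉ Z := fun a ha h => ha (by
    have := hρZ _ (hρZ _ h); rwa [h3] at this)
  have hφρ : ∀ {u v : T}, φ u = φ v → φ (ρ u) = φ (ρ v) := fun {u v} h => by
    rw [← mul_inv_eq_one, ← map_inv, ← map_mul, hφ] at h ⊢
    rw [← map_inv, ← map_mul]
    exact hρZ _ h
  have hne : ∀ a, a ∉ Z → φ (ρ a) ≠ φ a := fun a ha h => hdist a ha (by
    rwa [← mul_inv_eq_one, ← map_inv, ← map_mul, hφ] at h)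
  have hne2 : ∀ a, a ∉ Z → φ (ρ (ρ a)) ≠ φ a := fun a ha h => hne a ha (by
    have := hφρ h; rw [h3] at this; exact this.symm)
  have hφsq : ∀ a, φ a * φ a = 1 := fun a => by rw [← map_mul, hφ]; exact hsq a
  have hφinv : ∀ a, φ a⁻¹ = φ a := fun a => by
    rw [map_inv]; exact inv_eq_of_mul_eq_one_right (hφsq a)
  have hφc : ∀ a b, φ a * φ b = φ b * φ a := fun a b => by
    rw [← map_mul, ← map_mul, mul_eq_cm_mul, map_mul φ, (hφ _).2 (hcmZ a b), one_mul]
  obtain ⟨e₁, he1, he1x⟩ : ∃ e, e ∉ Z ∧ φ (x e) = φ e := by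
    obtain ⟨t, ht⟩ : ∃ t, t ∉ Z := by
      by_contra h
      push Not at h
      exact hna ⟨⟨fun u v => hzc u (h u) v⟩⟩
    by_cases hu : t * x t ∈ Z
    · refine ⟨t, ht, ?_⟩
      rw [← hφ, map_mul] at hu
      rw [eq_inv_of_mul_eq_one_right hu, ← map_inv, hφinv]
    · exact ⟨t * x t, hu, by rw [map_mul x, hxx, map_mul, map_mul, hφc]⟩
  -- fixed cosets inside a line
  have hline : ∀ e, e ∉ Z → φ (x e) = φ e → ∀ u, φ (x u) = φ u → cm e u = 1 →
      φ u = 1 ∨ φ u = φ e := by
    intro e he hex u hux hcm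
    have hxφ : φ (x (ρ e)) = φ (ρ (ρ e)) := by rw [hxρ]; exact hφρ (hφρ hex)
    obtain ⟨z, hz, h | h | h | h⟩ := hcov e u he ((cm_eq_one_iff _ _).1 hcm)
    · left; rw [h]; exact (hφ z).2 hz
    · right; rw [h, map_mul, (hφ z).2 hz, mul_one]
    · exfalso
      rw [h, map_mul x, map_mul, map_mul, (hφ z).2 hz, (hφ _).2 (hxZ z hz), mul_one, mul_one,
        hxφ] at hux
      exact hne _ (hnotZ e he) hux
    · exfalso
      rw [h, map_mul x, map_mul, map_mul, (hφ z).2 hz, (hφ _).2 (hxZ z hz), mul_one, mul_one] at hux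
      have : φ (x (ρ (ρ e))) = φ (ρ e) := by
        rw [hxρ, hφρ (hφρ hxφ), h3]
      rw [this] at hux
      exact hne _ (hnotZ e he) hux.symm
  obtain ⟨f₁, hf1x, hef1⟩ : ∃ f, φ (x f) = φ f ∧ cm e₁ f ≠ 1 := by
    obtain ⟨t, ht⟩ : ∃ t, cm e₁ t ≠ 1 := by
      by_contra h
      push Not at h
      exact he1 (Subgroup.mem_center_iff.2 fun g => ((cm_eq_one_iff _ _).1 (h g)).symm)
    by_contra hcon
    push Not at hcon
    have hmk : ∀ s, cm e₁ s ≠ 1 → φ (s * x s) = φ e₁ := by
      intro s hs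
      have hfix : φ (x (s * x s)) = φ (s * x s) := by
        rw [map_mul x, hxx, map_mul, map_mul, hφc]
      rcases hline e₁ he1 he1x _ hfix (hcon _ hfix) with h | h
      · refine absurd (hcon s ?_) hs
        rw [map_mul] at h
        rw [eq_inv_of_mul_eq_one_right h, ← map_inv, hφinv]
      · exact h
    have hρt : cm e₁ (ρ t) ≠ 1 := fun h => ht (by
      rw [hcmρ] at h
      exact ρ.injective (ρ.injective (by rw [h, map_one, map_one])))
    have hρρt : ρ (ρ t) = (t * ρ t)⁻¹ := eq_inv_of_mul_eq_one_right (hnorm t)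
    have hρρ : cm e₁ (t * ρ t) ≠ 1 := fun h => ht (by
      rw [cm_eq_one_iff] at h
      have h' : cm e₁ (ρ (ρ t)) = 1 := by
        rw [hρρt, cm_eq_one_iff]; exact (Commute.inv_right h).eq
      rw [hcmρ, hcmρ, h3] at h'
      exact ρ.injective (by rw [h', map_one]))
    refine hρρ (hcon _ ?_)
    have h1 := hmk t ht
    have h2 := hmk (ρ t) hρt
    rw [map_mul] at h1 h2
    have hxt : φ (x t) = φ t * φ e₁ := by
      rw [← h1, ← mul_assoc, hφsq, one_mul]
    have hxρt : φ (x (ρ t)) = φ (ρ t) * φ e₁ := by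
      rw [← h2, ← mul_assoc, hφsq, one_mul]
    rw [map_mul x, map_mul, map_mul, hxt, hxρt, mul_assoc, ← mul_assoc (φ e₁),
      hφc e₁ (ρ t), mul_assoc (φ (ρ t)), hφsq, mul_one]
  -- genuine fixed points
  have hlift : ∀ a, φ (x a) = φ a → ∃ k ∈ Z, x (a * k) = a * k := by
    intro a ha
    set k := a⁻¹ * x a with hk
    have hkZ : k ∈ Z := by rw [← hφ, hk, map_mul, map_inv, ha, inv_mul_cancel]
    have hxk : x k = k := by
      calc x k = k⁻¹ := by rw [hk, map_mul, map_inv, hxx, mul_inv_rev, inv_inv]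
        _ = k := hinvZ k hkZ
    refine ⟨ρ k, hρZ k hkZ, ?_⟩
    rw [map_mul, hxρ, hxk, show x a = a * k by rw [hk]; group, mul_assoc]
    congr 1
    have := hnorm k
    rw [mul_assoc, hzc _ (hρZ k hkZ) _, ← mul_assoc] at this
    rw [eq_inv_of_mul_eq_one_left this, hinvZ _ (hρZ k hkZ)]
  have hfixZ : ∀ k ∈ Z, ∀ k' ∈ Z, k ≠ 1 → x k = k → x k' = k' → k' = 1 ∨ k' = k := by
    intro k hk k' hk' hk1 hxk hxk'
    rcases hZall k hk hk1 k' hk' with h | h | h | h
    · exact Or.inl h
    · exact Or.inr h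
    · exfalso
      rw [h, hxρ, hxk] at hxk'
      exact hk1 (hfp _ (ρ.injective hxk'))
    · exfalso
      rw [h, hxρ, hxρ, hxk, h3] at hxk'
      exact hk1 (hfp _ (ρ.injective hxk'.symm))
  obtain ⟨e, he, f, hf, hef, hsquares⟩ : ∃ e, x e = e ∧ ∃ f, x f = f ∧ cm e f ≠ 1 ∧
      ((e * e = 1 ∧ f * f = 1) ∨ (e * e = cm e f ∧ f * f = cm e f)) := by
    obtain ⟨k, hk, he⟩ := hlift e₁ he1x
    obtain ⟨l, hl, hf⟩ := hlift f₁ hf1x
    have hc0 : cm (e₁ * k) (f₁ * l) ≠ 1 := by
      rw [hcml, hcmr, hcmr, hcmz e₁ l hl, hcmz k l hl, ← hcms k f₁, hcmz f₁ k hk]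
      simpa using hef1
    generalize e₁ * k = e at he hc0
    generalize f₁ * l = f at hf hc0
    have hxc : x (cm e f) = cm e f := by rw [map_cm, he, hf]
    have h1 := hfixZ _ (hcmZ e f) _ (hsq e) hc0 hxc (by rw [map_mul, he])
    have h2 := hfixZ _ (hcmZ e f) _ (hsq f) hc0 hxc (by rw [map_mul, hf])
    have hz2 := hZ2 _ (hcmZ e f)
    rcases h1 with h1 | h1 <;> rcases h2 with h2 | h2
    · exact ⟨e, he, f, hf, hc0, Or.inl ⟨h1, h2⟩⟩
    · refine ⟨e, he, e * f, by rw [map_mul, he, hf], ?_, Or.inl ⟨h1, ?_⟩⟩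
      · rw [hcmr, cm_self, one_mul]; exact hc0
      · rw [hsqm, h1, h2, one_mul, hz2]
    · refine ⟨f, hf, f * e, by rw [map_mul, he, hf], ?_, Or.inl ⟨h2, ?_⟩⟩
      · rw [hcmr, cm_self, one_mul, hcms e f]; exact hc0
      · rw [hsqm, h1, h2, one_mul, hcms e f, hz2]
    · exact ⟨e, he, f, hf, hc0, Or.inr ⟨h1, h2⟩⟩
  set z := cm e f with hz
  have hzZ : z ∈ Z := hcmZ e f
  have hzfix : x z = z := by rw [hz, map_cm, he, hf]
  have heZ : e ∉ Z := fun h => hef (by rw [hz, ← hcms, hcmz f e h])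
  -- the fixed subgroup
  have hCcl : C = Subgroup.closure ({e, f} : Set T) := by
    refine le_antisymm ?_ ((Subgroup.closure_le _).2 ?_)
    · set K := Subgroup.closure ({e, f} : Set T) with hK
      have heK : e ∈ K := Subgroup.subset_closure (by simp)
      have hfK : f ∈ K := Subgroup.subset_closure (by simp)
      have hzK : z ∈ K := by
        rw [hz]
        exact mul_mem (mul_mem (mul_mem heK hfK) (inv_mem heK)) (inv_mem hfK)
      have hZK : ∀ w ∈ Z, x w = w → w ∈ K := fun w hw hxw => by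
        rcases hfixZ z hzZ w hw hef hzfix hxw with rfl | rfl
        exacts [one_mem _, hzK]
      have hlineK : ∀ y, x y = y → cm e y = 1 → y ∈ K := by
        intro y hy hcy
        rcases hline e heZ (by rw [he]) y (by rw [hy]) hcy with h | h
        · exact hZK y ((hφ y).1 h) hy
        · have hm : e⁻¹ * y ∈ Z := by rw [← hφ, map_mul, map_inv, h, inv_mul_cancel]
          have := mul_mem heK (hZK _ hm (by rw [map_mul, map_inv, he, hy]))
          rwa [mul_inv_cancel_left] at this
      intro y hy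
      rw [hC] at hy
      by_cases hcy : cm e y = 1
      · exact hlineK y hy hcy
      · have h1 := (hfixZ z hzZ _ (hcmZ e y) hef hzfix (by rw [map_cm, he, hy])).resolve_left hcy
        have h2 := hlineK (y * f) (by rw [map_mul, hy, hf])
          (by rw [hcmr, h1, ← hz, hZ2 z hzZ])
        have := mul_mem h2 (inv_mem hfK)
        rwa [mul_inv_cancel_right] at this
    · rintro u (rfl | rfl)
      exacts [(hC _).2 he, (hC _).2 hf]
  constructor
  · -- the model
    obtain ⟨p, q, hp, hq, hpq⟩ : ∃ p q : T, p * p = 1 ∧ q * q = 1 ∧ cm p q ≠ 1 := by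
      rcases hsquares with ⟨h1, h2⟩ | ⟨h1, h2⟩
      · exact ⟨e, f, h1, h2, hef⟩
      · have hn := hnorm z
        have hρf : ρ f * ρ f = ρ z := by rw [← map_mul, h2]
        refine ⟨e * ρ f, e * ρ (ρ f), ?_, ?_, ?_⟩
        · rw [hsqm, h1, hρf, hcmρ, ← hz, hn]
        · rw [hsqm, h1, ← map_mul, hρf, hcmρ, hcmρ, h3, ← hz, mul_assoc,
            hzc _ (hρZ _ (hρZ z hzZ)), ← mul_assoc, hn]
        · rw [hcml, hcmr, hcmr, cm_self, one_mul, hcmρ e, hcmρ e, h3, ← hcms (ρ f) e, hcmρ e,
            (cm_eq_one_iff _ _).2 (hcomm (ρ f)).eq, mul_one, ← hz]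
          intro h
          apply hef
          rw [← hn, mul_assoc, h, mul_one]
    set w := cm p q with hw
    have hwZ : w ∈ Z := hcmZ p q
    have hcρ : Commute w (ρ (ρ w)) := hzc w hwZ _
    have hw2 := hZ2 w hwZ
    have hw2' := hZ2 _ (hρZ _ (hρZ w hwZ))
    have hww : ρ w = w * ρ (ρ w) := by
      have := hnorm w
      rw [mul_assoc, hzc _ (hρZ w hwZ) _, ← mul_assoc] at this
      rw [eq_inv_of_mul_eq_one_left this, hinvZ _ (hρZ w hwZ)]
    have hpp : ρ p * ρ p = 1 := by rw [← map_mul, hp, map_one]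
    have hqq : ρ q * ρ q = 1 := by rw [← map_mul, hq, map_one]
    have c1 : cm p (ρ q) = ρ (ρ w) := hcmρ p q
    have c2 : cm (ρ p) q = ρ (ρ w) := by rw [hcms, hcmρ, hcms]
    have c3 : cm (ρ p) (ρ q) = w * ρ (ρ w) := (map_cm ρ p q).symm.trans hww
    have hbil : ∀ a b : GF4, cm (kl p (ρ p) a) (kl q (ρ q) b) = kl w (ρ (ρ w)) (a * b) := by
      rintro ⟨i, j⟩ ⟨k, l⟩
      have e1 : ρ (ρ w) * w = w * ρ (ρ w) := hcρ.eq.symm
      have e2 : w * (w * ρ (ρ w)) = ρ (ρ w) := by rw [← mul_assoc, hw2, one_mul]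
      have e3 : ρ (ρ w) * (w * ρ (ρ w)) = w := by rw [← mul_assoc, e1, mul_assoc, hw2', mul_one]
      have e4 : w * ρ (ρ w) * w = ρ (ρ w) := by rw [mul_assoc, e1, e2]
      have d : (1 : ZMod 2) + 1 = 0 := rfl
      rcases zmod_two i with rfl | rfl <;> rcases zmod_two j with rfl | rfl <;>
        rcases zmod_two k with rfl | rfl <;> rcases zmod_two l with rfl | rfl <;>
        simp [kl, d, ZMod.val_one, hcml, hcmr,
          c1, c2, c3, ← hw, cm_one_left, cm_one_right, e1, e2, e3, e4, hw2, hw2']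
    have hαadd := kl_add hp hpp (hcomm p)
    have hβadd := kl_add hq hqq (hcomm q)
    have hζadd := kl_add hw2 hw2' hcρ
    have hζZ : ∀ c, kl w (ρ (ρ w)) c ∈ Z := fun c =>
      mul_mem (pow_mem hwZ _) (pow_mem (hρZ _ (hρZ w hwZ)) _)
    let F : Uni → T := fun u =>
      kl q (ρ q) u.b * kl p (ρ p) u.a * kl w (ρ (ρ w)) u.c
    have hmul : ∀ u v, F (u * v) = F u * F v := by
      intro u v
      show kl q (ρ q) (u.b + v.b) * kl p (ρ p) (u.a + v.a) *
          kl w (ρ (ρ w)) (u.c + v.c + u.a * v.b) = _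
      rw [hαadd, hβadd, hζadd, hζadd, ← hbil]
      simp only [F]
      have hs := mul_eq_cm_mul (kl p (ρ p) u.a) (kl q (ρ q) v.b)
      have hcu := hzc _ (hζZ u.c)
      have hcc := hzc _ (hcmZ (kl p (ρ p) u.a) (kl q (ρ q) v.b))
      generalize kl q (ρ q) u.b = B
      generalize kl q (ρ q) v.b = B' at hs hcc ⊢
      generalize kl p (ρ p) u.a = A at hs hcc ⊢
      generalize kl p (ρ p) v.a = A'
      generalize kl w (ρ (ρ w)) v.c = Z'
      generalize kl w (ρ (ρ w)) u.c = W at hcu ⊢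
      generalize cm A B' = c at hs hcc ⊢
      calc B * B' * (A * A') * (W * Z' * c) = B * (B' * A) * A' * (W * Z' * c) := by
            simp only [mul_assoc]
        _ = B * (c * (B' * A)) * A' * (W * Z') := by
            rw [← mul_assoc (B * (B' * A) * A'), ← hcc (B * (B' * A) * A' * (W * Z'))]
            simp only [← mul_assoc, hcc B]
        _ = B * (A * B') * A' * (W * Z') := by rw [hs]
        _ = B * A * W * (B' * A' * Z') := by
            rw [← mul_assoc (B * (A * B') * A'), mul_assoc (B * A) W, ← mul_assoc W (B' * A') Z',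
              hcu (B' * A')]
            simp only [mul_assoc]
    have hw1 : ρ (ρ w) ≠ 1 := fun h => hpq (ρ.injective (ρ.injective (by rw [h, map_one, map_one])))
    have hζ1 : ∀ c : GF4, kl w (ρ (ρ w)) c = 1 → c = 0 := by
      rintro ⟨i, j⟩ h
      rcases zmod_two i with rfl | rfl <;> rcases zmod_two j with rfl | rfl <;>
        simp [kl, ZMod.val_one] at h
      · rfl
      all_goals first
        | exact absurd h hw1
        | exact absurd h hpq
        | skip
      · exact absurd h (by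
          rw [← hww]
          exact fun h => hpq (ρ.injective (by rw [h, map_one])))
    have hk1 : ∀ (u : T), kl u (ρ u) (1 : GF4) = u := fun u => by
      simp only [kl]
      rw [show (1 : GF4).re.val = 1 from rfl, show (1 : GF4).im.val = 0 from rfl, pow_one, pow_zero, mul_one]
    have hself : ∀ (u : T) (a : GF4), cm u (kl u (ρ u) a) = 1 := fun u a =>
      (cm_eq_one_iff _ _).2 ((Commute.refl u).pow_right _ |>.mul_right
        ((hcomm u).pow_right _)).eq
    let Fh : Uni →* T := MonoidHom.mk' F hmul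
    have hinj : Function.Injective Fh := by
      rw [injective_iff_map_eq_one]
      intro u hu
      change F u = 1 at hu
      have ha : u.a = 0 := by
        apply hζ1
        have h := congrArg (fun t => cm t q) hu
        simp only [F, hcml, cm_one_left] at h
        rw [← hcms (kl q (ρ q) u.b) q, hself, one_mul,
          ← hcms (kl w (ρ (ρ w)) u.c) q, hcmz q _ (hζZ u.c), mul_one] at h
        rw [← mul_one u.a, ← hbil, hk1]
        exact h
      have hb : u.b = 0 := by
        apply hζ1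
        have h := congrArg (fun t => cm p t) hu
        simp only [F, hcmr, cm_one_right] at h
        rw [hself, mul_one, hcmz p _ (hζZ u.c), mul_one] at h
        rw [← one_mul u.b, ← hbil, hk1]
        exact h
      have hc : u.c = 0 := by
        apply hζ1
        simpa [F, ha, hb, kl] using hu
      exact Uni.ext' ha hb hc
    haveI : Finite Uni := Finite.of_equiv _ Uni.equivTriple.symm
    have hbij : Function.Bijective Fh :=
      (Nat.bijective_iff_injective_and_card _).2 ⟨hinj, by rw [Uni.card_uni, hT]⟩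
    obtain ⟨S, ⟨eS⟩⟩ := Uni.exists_sylow
    exact ⟨GF4, inferInstance, inferInstance, card_gf4, S,
      ⟨(MulEquiv.ofBijective Fh hbij).symm.trans eS⟩⟩
  · rw [hCcl]
    rcases hsquares with ⟨h1, h2⟩ | ⟨h1, h2⟩
    · left
      have he1' : e ≠ 1 := fun h => heZ (h ▸ one_mem Z)
      have hf1' : f ≠ 1 := fun h => hef (by rw [hz, h, cm_one_right])
      have hef' : e ≠ f := fun h => hef (by rw [hz, h, cm_self])
      have oe : orderOf e = 2 := Small.orderOf_eq_two_iff_sq.2 ⟨he1', h1⟩
      have of' : orderOf f = 2 := Small.orderOf_eq_two_iff_sq.2 ⟨hf1', h2⟩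
      have h4 : orderOf (e * f) = 4 := by
        have hs : (e * f) * (e * f) = z := by rw [hsqm, h1, h2, one_mul, one_mul]
        refine orderOf_eq_prime_pow (p := 2) (n := 1) ?_ ?_
        · rw [show (2 : ℕ) ^ 1 = 2 from rfl, pow_two, hs]; exact hef
        · rw [show (2 : ℕ) ^ (1 + 1) = 2 * 2 from rfl, pow_mul, pow_two, pow_two, hs, hZ2 z hzZ]
      exact ⟨(Small.closurePairEquivDihedral oe of' hef').trans (h4 ▸ MulEquiv.refl _)⟩
    · right
      have hz2 := hZ2 z hzZ
      have he4 : e ^ 4 = 1 := by rw [show 4 = 2 * 2 from rfl, pow_mul, pow_two, pow_two, h1, hz2]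
      have hgh : f * e = e⁻¹ * f := by
        rw [mul_eq_cm_mul, hcms, ← hz, ← mul_assoc, show e⁻¹ = z * e by
          apply inv_eq_of_mul_eq_one_left; rw [mul_assoc, h1, hz2]]
      obtain ⟨ψ, hψ, hψe, hψf, hψK⟩ := exists_quaternionHom he4 (h2.trans h1.symm) hgh
        (by rw [h1]; exact hef) (fun h => hef ((cm_eq_one_iff _ _).2 h))
      have hr : ψ.range = Subgroup.closure ({e, f} : Set T) :=
        le_antisymm (by rintro _ ⟨q, rfl⟩; exact hψK q) ((Subgroup.closure_le _).2 (by
          rintro u (rfl | rfl)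
          exacts [⟨_, hψe⟩, ⟨_, hψf⟩]))
      exact ⟨(MulEquiv.subgroupCongr hr.symm).trans (MonoidHom.ofInjective hψ).symm⟩

end Cfsg.Agent.S3157
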