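import Cfsg.Statements.S4337
import Cfsg.Agent.SwapClosure.Basic

set_option autoImplicit false
open Cfsg

namespace Cfsg.Agent.S4337

open CfsgLib.SwapClosure Equiv

/-- The Klein four subgroup of `S₄`. -/
def klein : Subgroup (Perm (Fin 4)) where
  carrier := {σ | σ = 1 ∨ (σ * σ = 1 ∧ ∀ i, σ i ≠ i)}
  mul_mem' := by
    intro a b
    revert a b
    decide +kernel
  one_mem' := Or.inl rfl
  inv_mem' := by
    intro a
    revert a
    decide +kernel

theorem derived_perm_four : derivedSeries (Perm (Fin 4)) 3 = ⊥ := by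
  have h1 : derivedSeries (Perm (Fin 4)) 1 ≤ alternatingGroup (Fin 4) := by
    rw [derivedSeries_succ, derivedSeries_zero, Subgroup.commutator_le]
    intro a _ b _
    rw [Perm.mem_alternatingGroup]
    simp [commutatorElement_def, mul_comm, mul_left_comm]
  have h2 : derivedSeries (Perm (Fin 4)) 2 ≤ klein := by
    rw [derivedSeries_succ]
    refine (Subgroup.commutator_mono h1 h1).trans (Subgroup.commutator_le.mpr ?_)
    have h : ∀ a b : Perm (Fin 4), Perm.sign a = 1 → Perm.sign b = 1 →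
        (a * b * a⁻¹ * b⁻¹ = 1 ∨ ((a * b * a⁻¹ * b⁻¹) * (a * b * a⁻¹ * b⁻¹) = 1 ∧
          ∀ i, (a * b * a⁻¹ * b⁻¹) i ≠ i)) := by decide +kernel
    intro a ha b hb
    exact h a b (Perm.mem_alternatingGroup.mp ha) (Perm.mem_alternatingGroup.mp hb)
  rw [derivedSeries_succ, eq_bot_iff]
  refine (Subgroup.commutator_mono h2 h2).trans (Subgroup.commutator_le.mpr ?_)
  have h : ∀ a b : Perm (Fin 4), (a = 1 ∨ (a * a = 1 ∧ ∀ i, a i ≠ i)) →
      (b = 1 ∨ (b * b = 1 ∧ ∀ i, b i ≠ i)) → a * b * a⁻¹ * b⁻¹ = 1 := by decide +kernel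
  intro a ha b hb
  rw [Subgroup.mem_bot, commutatorElement_def]
  exact h a b ha hb

theorem derived_perm_le_four {β : Type*} [Fintype β] (h : Fintype.card β ≤ 4) :
    derivedSeries (Perm β) 3 = ⊥ := by
  obtain ⟨e⟩ := Function.Embedding.nonempty_of_card_le (α := β) (β := Fin 4) (by rwa [Fintype.card_fin])
  rw [eq_bot_iff, ← Subgroup.map_le_map_iff_of_injective (Perm.viaEmbeddingHom_injective e), Subgroup.map_bot]
  exact (map_derivedSeries_le_derivedSeries _ 3).trans derived_perm_four.le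

/-- In a finite symmetric group, any three transpositions generate a solvable subgroup. -/
theorem result (n : ℕ) (a b c : Equiv.Perm (Fin n))
    (ha : a.IsSwap) (hb : b.IsSwap) (hc : c.IsSwap) :
    Group.IsSolvable (Subgroup.closure ({a, b, c} : Set (Equiv.Perm (Fin n)))) := by
  classical
  obtain ⟨f, hf, hcard⟩ := exists_label [a, b, c] (by simp [ha, hb, hc])
  set H := Subgroup.closure ({a, b, c} : Set (Equiv.Perm (Fin n)))
  have hinv : ∀ σ : H, ∀ x, f ((σ : Perm (Fin n)) x) = f x := fun σ x =>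
    label_closure (f := f) (s := {a, b, c}) (fun t ht => hf t (by simpa using ht)) σ.2 x
  let φ : ∀ v : Fin n, H →* Perm {x // f x = v} := fun v =>
    { toFun := fun σ => (σ : Perm (Fin n)).subtypePerm (fun x => by rw [hinv σ x])
      map_one' := by ext; rfl
      map_mul' := fun σ τ => by ext; rfl }
  refine ⟨3, ?_⟩
  rw [eq_bot_iff]
  intro σ hσ
  rw [Subgroup.mem_bot]
  apply Subtype.ext
  apply Equiv.ext
  intro x
  have h1 : φ (f x) σ ∈ derivedSeries (Perm {y // f y = f x}) 3 :=
    map_derivedSeries_le_derivedSeries _ 3 (Subgroup.mem_map_of_mem _ hσ)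
  rw [derived_perm_le_four (card_fiber_le hcard (f x)), Subgroup.mem_bot] at h1
  exact congrArg Subtype.val (congrArg (fun e : Perm {y // f y = f x} => e ⟨x, rfl⟩) h1)

end Cfsg.Agent.S4337
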