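import Cfsg.Statements.S0803
import Cfsg.Agent.Forms.KleinClasses
import Cfsg.Agent.Forms.PSLTwoEven

set_option autoImplicit false
open Cfsg

namespace Cfsg.Agent.S0803

/-- PSL_2(q) has a subgroup isomorphic to S_4 iff q² ≡ 1 (mod 16). -/
theorem result {F : Type*} [Field F] [Fintype F] {q : ℕ} (hF : Fintype.card F = q) : (∃ H : Subgroup (Matrix.ProjectiveSpecialLinearGroup (Fin 2) F), Nonempty (H ≃* Equiv.Perm (Fin 4))) ↔ q ^ 2 % 16 = 1 := by
  subst hF
  have hpar : Fintype.card F ^ 2 % 16 = 1 ↔ (Fintype.card F % 8 = 1 ∨ Fintype.card F % 8 = 7) := by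
    rw [Nat.pow_mod]
    have h16 : Fintype.card F % 16 < 16 := Nat.mod_lt _ (by norm_num)
    interval_cases hq : Fintype.card F % 16 <;> norm_num <;> omega
  rw [hpar]
  constructor
  · rintro ⟨H, ⟨e⟩⟩
    by_cases hodd : Odd (Fintype.card F)
    · refine (CfsgLib.Forms.KleinPSL.eight_dvd_iff hodd).1 ?_
      refine dvd_trans ?_ (Subgroup.card_subgroup_dvd_card H)
      rw [Nat.card_congr e.toEquiv, Nat.card_perm, Nat.card_fin]
      norm_num [Nat.factorial]
    · exfalso
      have heven : Fintype.card F % 2 = 0 := Nat.even_iff.1 (Nat.not_odd_iff_even.1 hodd)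
      have hchar : ringChar F = 2 := FiniteField.even_card_iff_char_two.2 heven
      haveI : CharP F 2 := ringChar.of_eq hchar
      have h4 : ∃ σ : Equiv.Perm (Fin 4), σ ^ 4 = 1 ∧ σ ^ 2 ≠ 1 := by decide +kernel
      obtain ⟨σ, hσ, hσ2⟩ := h4
      obtain ⟨x, hx⟩ := QuotientGroup.mk'_surjective _ (e.symm σ : Matrix.ProjectiveSpecialLinearGroup (Fin 2) F)
      have hx4 : x ^ 4 = 1 := CfsgLib.Forms.PSLTwoEven.projHom_injective (by
        rw [map_pow, map_one]
        show (QuotientGroup.mk' _ x) ^ 4 = 1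
        rw [hx, ← SubmonoidClass.coe_pow, ← map_pow, hσ, map_one, Subgroup.coe_one])
      have hx2 := congrArg CfsgLib.Forms.KleinPSL.projHom
        (CfsgLib.Forms.PSLTwoEven.sq_eq_one_of_pow_four hx4)
      rw [map_pow, map_one] at hx2
      change (QuotientGroup.mk' _ x) ^ 2 = 1 at hx2
      rw [hx, ← SubmonoidClass.coe_pow, ← map_pow, OneMemClass.coe_eq_one, MulEquiv.map_eq_one_iff] at hx2
      exact hσ2 hx2
  · intro hq
    have hodd : Odd (Fintype.card F) := by rw [Nat.odd_iff]; omega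
    have hpos : 0 < Nat.card (Matrix.ProjectiveSpecialLinearGroup (Fin 2) F) := Nat.card_pos
    have hcount := CfsgLib.Forms.KleinPSL.card_kleinFour (F := F) hodd
    obtain ⟨⟨V, hV⟩⟩ : Nonempty {V : Subgroup (Matrix.ProjectiveSpecialLinearGroup (Fin 2) F) // IsKleinFour V} :=
      (Nat.card_pos_iff.1 (by omega)).1
    obtain ⟨e⟩ := CfsgLib.Forms.KleinPSL.equiv_perm_four hodd hq V hV
    exact ⟨_, ⟨e⟩⟩

end Cfsg.Agent.S0803
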