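import Cfsg.Statements.S5892
import Cfsg.Agent.DicksonPSL2.MaximalExceptional
import Cfsg.Agent.DicksonPSL2.SmallTorus
import Cfsg.Agent.S0803
import Cfsg.Agent.S0804

set_option autoImplicit false
open Cfsg

namespace Cfsg.Agent.S5892

open CfsgLib.DicksonPSL2
open scoped MatrixGroups

/-- For `q ∈ {5, 7, 9, 11}` the excluded dihedral groups are not maximal. -/
theorem not_isCoatom_small {F : Type*} [Field F] [Fintype F] (hodd : Odd (Fintype.card F))
    {x : PSL(2, F)} {k : ℕ}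
    (hk : Nat.card (torus x) = k) (hN : Nat.card (Subgroup.normalizer (torus x : Set PSL(2, F))) = 2 * k)
    (h : (Fintype.card F = 5 ∧ k = 2) ∨ (Fintype.card F = 7 ∧ (k = 3 ∨ k = 4)) ∨
      (Fintype.card F = 9 ∧ (k = 4 ∨ k = 5)) ∨ (Fintype.card F = 11 ∧ k = 5)) :
    ¬ IsCoatom (Subgroup.normalizer (torus x : Set PSL(2, F))) := by
  have hG := two_mul_card_PSL hodd
  have hne : ∀ S : Subgroup PSL(2, F), Nat.card S < Nat.card PSL(2, F) → S ≠ ⊤ :=
    fun S hS e => by rw [e, Subgroup.card_top] at hS; exact lt_irrefl _ hS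
  have := Fact.mk Nat.prime_two
  have := Fact.mk Nat.prime_three
  have : Fact (Nat.Prime 5) := ⟨by norm_num⟩
  have two : ∀ a m : ℕ, Nat.card PSL(2, F) = 2 ^ a * m → ¬ 2 ∣ m →
      (Nat.card PSL(2, F)).factorization 2 = a := by
    intro a m e hm
    have hm0 : m ≠ 0 := fun h0 => hm (h0 ▸ dvd_zero 2)
    rw [e, Nat.factorization_mul (pow_ne_zero _ two_ne_zero) hm0,
      Finsupp.add_apply, Nat.Prime.factorization_pow Nat.prime_two,
      Nat.factorization_eq_zero_of_not_dvd hm, Finsupp.single_eq_same, add_zero]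
  rcases h with ⟨hq, rfl⟩ | ⟨hq, hk'⟩ | ⟨hq, hk'⟩ | ⟨hq, rfl⟩
  · rw [hq] at hG
    obtain ⟨P⟩ := exists_quatPair hodd
    exact not_isCoatom_sylow 2 (S := P.tetra) (hne _ (by rw [P.card_tetra]; omega))
      (by rw [P.card_tetra, hN]; norm_num) (by rw [two 2 15 (by omega) (by norm_num), hN]; norm_num)
      (by rw [P.card_tetra, hN]; norm_num)
  all_goals rw [hq] at hG
  · obtain ⟨S, ⟨e⟩⟩ := (Cfsg.Agent.S0803.result (F := F) hq).2 (by norm_num)
    have hS : Nat.card S = 24 := by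
      rw [Nat.card_congr e.toEquiv, Nat.card_perm, Nat.card_fin]; rfl
    rcases hk' with rfl | rfl
    · refine not_isCoatom_normalizer 3 hk (by rw [show Nat.card PSL(2, F) = 168 by omega]; norm_num)
        (hne S (by omega)) (by omega) (by rw [hS]; norm_num) ?_
      rw [hN, hS]; decide
    · exact not_isCoatom_sylow 2 (hne S (by omega)) (by omega)
        (by rw [two 3 21 (by omega) (by norm_num), hN]; norm_num) (by rw [hS, hN]; norm_num)
  · rcases hk' with rfl | rfl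
    · obtain ⟨S, ⟨e⟩⟩ := (Cfsg.Agent.S0803.result (F := F) hq).2 (by norm_num)
      have hS : Nat.card S = 24 := by
        rw [Nat.card_congr e.toEquiv, Nat.card_perm, Nat.card_fin]; rfl
      exact not_isCoatom_sylow 2 (hne S (by omega)) (by omega)
        (by rw [two 3 45 (by omega) (by norm_num), hN]; norm_num) (by rw [hS, hN]; norm_num)
    · obtain ⟨S, ⟨e⟩⟩ := (Cfsg.Agent.S0804.result (F := F) hq).2 (by norm_num)
      have hS : Nat.card S = 60 := by
        rw [Nat.card_congr e.toEquiv, nat_card_alternatingGroup, Nat.card_fin]; rfl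
      refine not_isCoatom_normalizer 5 hk (by rw [show Nat.card PSL(2, F) = 360 by omega]; norm_num)
        (hne S (by omega)) (by omega) (by rw [hS]; norm_num) ?_
      rw [hN, hS]; decide
  · obtain ⟨S, ⟨e⟩⟩ := (Cfsg.Agent.S0804.result (F := F) hq).2 (by norm_num)
    have hS : Nat.card S = 60 := by
      rw [Nat.card_congr e.toEquiv, nat_card_alternatingGroup, Nat.card_fin]; rfl
    refine not_isCoatom_normalizer 5 hk (by rw [show Nat.card PSL(2, F) = 660 by omega]; norm_num)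
      (hne S (by omega)) (by omega) (by rw [hS]; norm_num) ?_
    rw [hN, hS]; decide

/-- Let F be a finite field of odd order q ≥ 5 and characteristic p, and let M be a maximal subgroup of PSL₂(F). Then one of the following holds: |M| = q(q − 1)/2 (the stabiliser of a point of the projective line); q ≥ 13 and M is dihedral of order q − 1; q ∉ {7, 9} and M is dihedral of order q + 1; q = q₀² and M ≅ PGL₂(F₀) with |F₀| = q₀; q = q₀^r for an odd prime r and M ≅ PSL₂(F₀) with |F₀| = q₀; q ≡ ±1 (mod 10) with q = p or q = p², p ≡ ±3 (mod 10), and M ≅ A₅; q = p ≡ ±3 (mod 8), q ≢ ±1 (mod 10), and M ≅ A₄; or q = p ≡ ±1 (mod 8) and M ≅ S₄. -/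
theorem result {F : Type*} [Field F] [Fintype F] (p : ℕ)
    [Fact p.Prime] [CharP F p] (hodd : Odd (Fintype.card F)) (h5 : 5 ≤ Fintype.card F)
    (M : Subgroup (Matrix.ProjectiveSpecialLinearGroup (Fin 2) F)) (hM : IsCoatom M) :
    2 * Nat.card M = Fintype.card F * (Fintype.card F - 1) ∨
    (13 ≤ Fintype.card F ∧ (∃ k : ℕ, 2 * k = Fintype.card F - 1 ∧ Nonempty (M ≃* DihedralGroup k))) ∨
    (Fintype.card F ≠ 7 ∧ Fintype.card F ≠ 9 ∧ (∃ k : ℕ, 2 * k = Fintype.card F + 1 ∧ Nonempty (M ≃* DihedralGroup k))) ∨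
    (∃ (F₀ : Type) (_ : Field F₀) (_ : Fintype F₀), Fintype.card F = Fintype.card F₀ ^ 2 ∧
        Nonempty (M ≃* Matrix.ProjGenLinGroup (Fin 2) F₀)) ∨
    (∃ (F₀ : Type) (_ : Field F₀) (_ : Fintype F₀) (r : ℕ), r.Prime ∧ Odd r ∧ Fintype.card F = Fintype.card F₀ ^ r ∧
        Nonempty (M ≃* Matrix.ProjectiveSpecialLinearGroup (Fin 2) F₀)) ∨
    ((Fintype.card F % 10 = 1 ∨ Fintype.card F % 10 = 9) ∧
        (Fintype.card F = p ∨ (Fintype.card F = p ^ 2 ∧ (p % 10 = 3 ∨ p % 10 = 7))) ∧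
        Nonempty (M ≃* alternatingGroup (Fin 5))) ∨
    (Fintype.card F = p ∧ (p % 8 = 3 ∨ p % 8 = 5) ∧ ¬ (p % 10 = 1 ∨ p % 10 = 9) ∧
        Nonempty (M ≃* alternatingGroup (Fin 4))) ∨
    (Fintype.card F = p ∧ (p % 8 = 1 ∨ p % 8 = 7) ∧ Nonempty (M ≃* Equiv.Perm (Fin 4))) := by
  have hd : Nat.gcd 2 (Fintype.card F - 1) = 2 := by
    rcases gcd_two_cases F with ⟨-, h, -⟩ | ⟨h, -⟩
    · exact h
    · exact absurd h (Nat.not_even_iff_odd.2 hodd)
  have hq2 : Fintype.card F % 2 = 1 := Nat.odd_iff.1 hodd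
  rcases subgroup_cases_sharp p M with h | h | ⟨hc, ⟨h2, h3⟩, ⟨e⟩⟩ | ⟨hc, ⟨h2, h3⟩, ⟨e⟩⟩ |
    ⟨hc, ⟨h2, h5'⟩, ⟨e⟩⟩ | h
  · left
    simpa [hd] using card_of_isCoatom_inBorel hM h
  · obtain ⟨x, hx, hMx, hMc, ⟨e⟩⟩ := dihedral_of_isCoatom (by omega) hM h
    have hsmall : ¬ ((Fintype.card F = 5 ∧ Nat.card (torus x) = 2) ∨
        (Fintype.card F = 7 ∧ (Nat.card (torus x) = 3 ∨ Nat.card (torus x) = 4)) ∨
        (Fintype.card F = 9 ∧ (Nat.card (torus x) = 4 ∨ Nat.card (torus x) = 5)) ∨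
        (Fintype.card F = 11 ∧ Nat.card (torus x) = 5)) :=
      fun hh => not_isCoatom_small hodd rfl (by rw [← hMx]; exact hMc) hh (hMx ▸ hM)
    rcases card_torus hx with hc | hc <;> rw [hd] at hc
    · exact Or.inr (Or.inl ⟨by omega, _, hc, ⟨e⟩⟩)
    · exact Or.inr (Or.inr (Or.inl ⟨by omega, by omega, _, hc, ⟨e⟩⟩))
  · obtain ⟨hp, h8, h10⟩ := maximal_alt_four p h2 h3 hodd h5 hM hc e
    exact Or.inr (Or.inr (Or.inr (Or.inr (Or.inr (Or.inr (Or.inl ⟨hp, h8, h10, ⟨e⟩⟩))))))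
  · obtain ⟨hp, h8⟩ := maximal_perm_four p h2 h3 hodd h5 hM hc e
    exact Or.inr (Or.inr (Or.inr (Or.inr (Or.inr (Or.inr (Or.inr ⟨hp, h8, ⟨e⟩⟩))))))
  · obtain ⟨h10, hp⟩ := maximal_alt_five p h2 h5' hodd hM hc e
    exact Or.inr (Or.inr (Or.inr (Or.inr (Or.inr (Or.inl ⟨h10, hp, ⟨e⟩⟩)))))
  · obtain ⟨K, iK, iK', ⟨-, hq, e⟩ | ⟨r, hr, hr2, hq, e⟩⟩ := h.of_isCoatom hM
    · exact Or.inr (Or.inr (Or.inr (Or.inl ⟨K, iK, iK', hq, e⟩)))
    · have hp2 : p ≠ 2 := by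
        rintro rfl
        obtain ⟨n, -, hn⟩ := FiniteField.card F 2
        rw [hn, Nat.pow_mod] at hq2
        simp at hq2
      exact Or.inr (Or.inr (Or.inr (Or.inr (Or.inl
        ⟨K, iK, iK', r, hr, hr2.resolve_left hp2, hq, e⟩))))

end Cfsg.Agent.S5892
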