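import Mathlib
import Cfsg.Statements.S4966
-- import your own Cfsg.Agent.* helpers here

set_option autoImplicit false
open Cfsg

namespace Cfsg.Agent.S4966

variable {F : Type*} [Field F] {G : Type*} [Group G] {V : Type*} [AddCommGroup V] [Module F V]

/-- A submodule is invariant under all operators of the representation. -/
def Inv (ρ : Representation F G V) (N : Submodule F V) : Prop := ∀ g, ∀ x ∈ N, ρ g x ∈ N

/-- Two-sided nondegeneracy of the restriction. -/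
def ND (B : LinearMap.BilinForm F V) (N : Submodule F V) : Prop :=
  (∀ x ∈ N, (∀ y ∈ N, B x y = 0) → x = 0) ∧ (∀ y ∈ N, (∀ x ∈ N, B x y = 0) → y = 0)

/-- The property to be proved for nondegenerate invariant submodules. -/
def Dec (p : ℕ) (ρ : Representation F G V) (N : Submodule F V) : Prop :=
  ∃ U W : Submodule F V, U ⊔ W = N ∧ U ⊓ W = ⊥ ∧ Inv ρ U ∧ Inv ρ W ∧
    (∃ A : LinearMap.BilinForm F V, (∀ x : V, A x x = 0) ∧
      (∀ g : G, ∀ x ∈ U, ∀ y ∈ U, A (ρ g x) (ρ g y) = A x y) ∧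
      (∀ x ∈ U, (∀ y ∈ U, A x y = 0) → x = 0)) ∧
    (∃ S : LinearMap.BilinForm F V, (∀ x y : V, S x y = S y x) ∧
      (∀ g : G, ∀ x ∈ W, ∀ y ∈ W, S (ρ g x) (ρ g y) = S x y) ∧
      (∀ x ∈ W, (∀ y ∈ W, S x y = 0) → x = 0)) ∧
    (p = 2 → ∀ g : G, ∀ w ∈ W, ρ g w = w)

theorem dec_bot (p : ℕ) (ρ : Representation F G V) : Dec p ρ ⊥ := by
  refine ⟨⊥, ⊥, by simp, by simp, ?_, ?_, ⟨0, by simp, by simp, ?_⟩, ⟨0, by simp, by simp, ?_⟩, ?_⟩ <;>
    simp [Inv]

/-- An invariant submodule has an invariant complement. -/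
theorem exists_inv_compl [Fintype G] (hG : (Fintype.card G : F) ≠ 0) (ρ : Representation F G V)
    {K M : Submodule F V} (hK : Inv ρ K) (hKM : K ≤ M) (hM : Inv ρ M) :
    ∃ X ≤ M, Inv ρ X ∧ K ⊓ X = ⊥ ∧ K ⊔ X = M := by
  classical
  obtain ⟨q, hq⟩ := K.subtype.exists_leftInverse_of_injective (Submodule.ker_subtype K)
  have hq' : ∀ x (hx : x ∈ K), (q x : V) = x := fun x hx => by
    exact congrArg Subtype.val (LinearMap.congr_fun hq ⟨x, hx⟩)
  let π : V →ₗ[F] V := (Fintype.card G : F)⁻¹ • ∑ g : G, ρ g ∘ₗ (K.subtype ∘ₗ q) ∘ₗ ρ g⁻¹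
  have hπa : ∀ x, π x = (Fintype.card G : F)⁻¹ • ∑ g : G, ρ g (q (ρ g⁻¹ x)) := fun x => by
    simp [π]
  have hπK : ∀ x, π x ∈ K := fun x => by
    rw [hπa]; exact K.smul_mem _ (K.sum_mem fun g _ => hK g _ (q _).2)
  have hπid : ∀ x ∈ K, π x = x := fun x hx => by
    rw [hπa, Finset.sum_congr rfl (fun g _ => by rw [hq' _ (hK g⁻¹ x hx), ρ.self_inv_apply g])]
    rw [Finset.sum_const, Finset.card_univ, ← Nat.cast_smul_eq_nsmul F, smul_smul,
      inv_mul_cancel₀ hG, one_smul]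
  have hπc : ∀ h x, π (ρ h x) = ρ h (π x) := fun h x => by
    rw [hπa, hπa, map_smul, map_sum]
    congr 1
    refine Fintype.sum_equiv (Equiv.mulLeft h⁻¹) _ _ fun g => ?_
    simp only [Equiv.coe_mulLeft, mul_inv_rev, inv_inv]
    have hh : ∀ z, ρ h (ρ (h⁻¹ * g) z) = ρ g z := fun z => by
      rw [map_mul, Module.End.mul_apply, ρ.self_inv_apply]
    rw [hh, show ρ (g⁻¹ * h) x = ρ g⁻¹ (ρ h x) by simp [map_mul]]
  refine ⟨M ⊓ LinearMap.ker π, inf_le_left, ?_, ?_, ?_⟩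
  · rintro g x ⟨hx, hx'⟩
    exact ⟨hM g x hx, by simp [hπc, LinearMap.mem_ker.1 hx']⟩
  · rw [eq_bot_iff]
    rintro x ⟨hx, -, hx'⟩
    simpa [hπid x hx] using hx'
  · refine le_antisymm (sup_le hKM inf_le_left) fun x hx => ?_
    have : x = π x + (x - π x) := by abel
    rw [this]
    refine Submodule.add_mem_sup (hπK x) ⟨M.sub_mem hx (hKM (hπK x)), ?_⟩
    simp [LinearMap.mem_ker, hπid _ (hπK x)]

variable [FiniteDimensional F V]

theorem nd_restrict {B : LinearMap.BilinForm F V} {N : Submodule F V} (h : ND B N) :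
    (B.restrict N).Nondegenerate :=
  ⟨fun x hx => Subtype.ext (h.1 x x.2 fun y hy => hx ⟨y, hy⟩),
    fun y hy => Subtype.ext (h.2 y y.2 fun x hx => hy ⟨x, hx⟩)⟩

/-- The orthogonal projection onto a nondegenerate submodule. -/
theorem exists_proj {B : LinearMap.BilinForm F V} {N : Submodule F V} (h : ND B N) :
    ∃ π : V →ₗ[F] V, (∀ x, π x ∈ N) ∧ (∀ x, ∀ n ∈ N, B (π x) n = B x n) ∧
      (∀ x ∈ N, π x = x) := by
  let e := (B.restrict N).toDual (nd_restrict h)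
  let π : V →ₗ[F] V := N.subtype ∘ₗ e.symm.toLinearMap ∘ₗ N.subtype.dualMap ∘ₗ B
  have hπ : ∀ x, ∀ n ∈ N, B (π x) n = B x n := fun x n hn => by
    have := LinearMap.BilinForm.apply_toDual_symm_apply (hB := nd_restrict h) (N.subtype.dualMap (B x)) ⟨n, hn⟩
    simpa [π, e] using this
  refine ⟨π, fun x => (e.symm _).2, hπ, fun x hx => ?_⟩
  rw [← sub_eq_zero]
  refine h.1 _ (N.sub_mem (e.symm _).2 hx) fun n hn => ?_
  rw [map_sub, LinearMap.sub_apply, hπ x n hn, sub_self]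

theorem proj_comm {B : LinearMap.BilinForm F V} {N : Submodule F V} (h : ND B N)
    (ρ : Representation F G V) (hN : Inv ρ N) (hB : ∀ g x y, B (ρ g x) (ρ g y) = B x y)
    {π : V →ₗ[F] V} (hπN : ∀ x, π x ∈ N) (hπ : ∀ x, ∀ n ∈ N, B (π x) n = B x n) (g : G) (x : V) :
    π (ρ g x) = ρ g (π x) := by
  rw [← sub_eq_zero]
  refine h.1 _ (N.sub_mem (hπN _) (hN g _ (hπN x))) fun n hn => ?_
  rw [map_sub, LinearMap.sub_apply, hπ _ n hn]
  conv_lhs => rw [← ρ.self_inv_apply g n]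
  rw [hB, hB, hπ _ _ (hN _ n hn), sub_self]

/-- Gluing decompositions of a nondegenerate submodule and of its orthogonal. -/
theorem dec_glue (p : ℕ) {B : LinearMap.BilinForm F V} (ρ : Representation F G V)
    (hB : ∀ g x y, B (ρ g x) (ρ g y) = B x y) {N M : Submodule F V} (hNM : N ≤ M) (hN : Inv ρ N)
    (hM : Inv ρ M) (hNn : ND B N) (hMn : ND B M) (hdN : Dec p ρ N)
    (ih : ∀ N' : Submodule F V, Inv ρ N' → ND B N' → N' ≤ M → N' ⊓ N = ⊥ → Dec p ρ N') :
    Dec p ρ M := by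
  obtain ⟨π, hπN, hπ, hπid⟩ := exists_proj hNn
  let N' : Submodule F V := M ⊓ LinearMap.ker π
  have hk : ∀ x, π x = 0 ↔ ∀ n ∈ N, B x n = 0 := fun x =>
    ⟨fun h n hn => by rw [← hπ x n hn, h]; simp,
      fun h => hNn.1 _ (hπN x) fun n hn => by rw [hπ x n hn, h n hn]⟩
  have hdec : ∀ x ∈ M, x - π x ∈ N' := fun x hx =>
    ⟨M.sub_mem hx (hNM (hπN x)), by simp [LinearMap.mem_ker, hπid _ (hπN x)]⟩
  have hinv : Inv ρ N' := fun g x hx =>
    ⟨hM g x hx.1, by simp [proj_comm hNn ρ hN hB hπN hπ, LinearMap.mem_ker.1 hx.2]⟩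
  have hdisj : N' ⊓ N = ⊥ := by
    rw [eq_bot_iff]
    rintro x ⟨⟨-, hx⟩, hx'⟩
    simpa [hπid x hx'] using hx
  have hnd : ND B N' := by
    constructor
    · intro x hx h
      refine hMn.1 x hx.1 fun y hy => ?_
      have : y = π y + (y - π y) := by abel
      rw [this, map_add, h _ (hdec y hy), (hk x).1 hx.2 _ (hπN y), add_zero]
    · intro y hy h
      -- shift `y` by an element of `N`
      let f : Module.Dual F N := (B.flip y).comp N.subtype
      let n := ((B.restrict N).flip.toDual (nd_restrict hNn).flip).symm f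
      have hn : ∀ a ∈ N, B a (n : V) = B a y := fun a ha =>
        LinearMap.BilinForm.apply_toDual_symm_apply (hB := (nd_restrict hNn).flip) f ⟨a, ha⟩
      have h0 : y - (n : V) = 0 := by
        refine hMn.2 _ (M.sub_mem hy.1 (hNM n.2)) fun x hx => ?_
        have hx' : x = π x + (x - π x) := by abel
        rw [hx', LinearMap.map_add₂, map_sub, map_sub, hn _ (hπN x), sub_self, zero_add,
          h _ (hdec x hx), (hk _).1 (hdec x hx).2 _ n.2, sub_zero]
      rw [sub_eq_zero] at h0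
      have := hdisj ▸ Submodule.mem_inf.2 ⟨hy, h0 ▸ n.2⟩
      simpa using this
  obtain ⟨U₁, W₁, hs₁, hi₁, hU₁, hW₁, ⟨A₁, hA₁, hA₁i, hA₁n⟩, ⟨S₁, hS₁, hS₁i, hS₁n⟩, ht₁⟩ := hdN
  obtain ⟨U₂, W₂, hs₂, hi₂, hU₂, hW₂, ⟨A₂, hA₂, hA₂i, hA₂n⟩, ⟨S₂, hS₂, hS₂i, hS₂n⟩, ht₂⟩ :=
    ih N' hinv hnd inf_le_left hdisj
  have hU₁N : U₁ ≤ N := hs₁ ▸ le_sup_left
  have hW₁N : W₁ ≤ N := hs₁ ▸ le_sup_right
  have hU₂N : U₂ ≤ N' := hs₂ ▸ le_sup_left
  have hW₂N : W₂ ≤ N' := hs₂ ▸ le_sup_right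
  have hp1 : ∀ a ∈ N, ∀ b ∈ N', π (a + b) = a := fun a ha b hb => by
    rw [map_add, hπid a ha, LinearMap.mem_ker.1 hb.2, add_zero]
  have hinvsup : ∀ {P Q : Submodule F V}, Inv ρ P → Inv ρ Q → Inv ρ (P ⊔ Q) := by
    intro P Q hP hQ g x hx
    obtain ⟨a, ha, b, hb, rfl⟩ := Submodule.mem_sup.1 hx
    rw [map_add]
    exact Submodule.add_mem_sup (hP g a ha) (hQ g b hb)
  let π' : V →ₗ[F] V := LinearMap.id - π
  have hp2 : ∀ a ∈ N, ∀ b ∈ N', π' (a + b) = b := fun a ha b hb => by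
    simp [π', hp1 a ha b hb]
  refine ⟨U₁ ⊔ U₂, W₁ ⊔ W₂, ?_, ?_, hinvsup hU₁ hU₂, hinvsup hW₁ hW₂, ?_, ?_, ?_⟩
  · rw [sup_sup_sup_comm, hs₁, hs₂]
    refine le_antisymm (sup_le hNM inf_le_left) fun x hx => ?_
    have : x = π x + (x - π x) := by abel
    rw [this]
    exact Submodule.add_mem_sup (hπN x) (hdec x hx)
  · rw [eq_bot_iff]
    rintro x ⟨hx, hx'⟩
    obtain ⟨a, ha, b, hb, rfl⟩ := Submodule.mem_sup.1 hx
    obtain ⟨c, hc, d, hd, he⟩ := Submodule.mem_sup.1 hx'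
    have e1 : c = a := by
      have := congrArg π he
      rwa [hp1 c (hW₁N hc) d (hW₂N hd), hp1 a (hU₁N ha) b (hU₂N hb)] at this
    have e2 : d = b := by
      have := congrArg π' he
      rwa [hp2 c (hW₁N hc) d (hW₂N hd), hp2 a (hU₁N ha) b (hU₂N hb)] at this
    have ha0 : a = 0 := (Submodule.mem_bot F).1 (hi₁ ▸ Submodule.mem_inf.2 ⟨ha, e1 ▸ hc⟩)
    have hb0 : b = 0 := (Submodule.mem_bot F).1 (hi₂ ▸ Submodule.mem_inf.2 ⟨hb, e2 ▸ hd⟩)
    simp [ha0, hb0]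
  · refine ⟨A₁.compl₁₂ π π + A₂.compl₁₂ π' π', by simp [hA₁, hA₂], ?_, ?_⟩
    · intro g x hx y hy
      obtain ⟨a, ha, b, hb, rfl⟩ := Submodule.mem_sup.1 hx
      obtain ⟨c, hc, d, hd, rfl⟩ := Submodule.mem_sup.1 hy
      simp only [LinearMap.add_apply, LinearMap.compl₁₂_apply]
      rw [map_add (ρ g), map_add (ρ g),
        hp1 _ (hN g _ (hU₁N ha)) _ (hinv g _ (hU₂N hb)), hp1 _ (hN g _ (hU₁N hc)) _ (hinv g _ (hU₂N hd)),
        hp2 _ (hN g _ (hU₁N ha)) _ (hinv g _ (hU₂N hb)), hp2 _ (hN g _ (hU₁N hc)) _ (hinv g _ (hU₂N hd)),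
        hp1 _ (hU₁N ha) _ (hU₂N hb), hp1 _ (hU₁N hc) _ (hU₂N hd),
        hp2 _ (hU₁N ha) _ (hU₂N hb), hp2 _ (hU₁N hc) _ (hU₂N hd),
        hA₁i g a ha c hc, hA₂i g b hb d hd]
    · intro x hx h
      obtain ⟨a, ha, b, hb, rfl⟩ := Submodule.mem_sup.1 hx
      simp only [LinearMap.add_apply, LinearMap.compl₁₂_apply,
        hp1 _ (hU₁N ha) _ (hU₂N hb), hp2 _ (hU₁N ha) _ (hU₂N hb)] at h
      have ha0 : a = 0 := hA₁n a ha fun c hc => by
        have := h (c + 0) (Submodule.add_mem_sup hc U₂.zero_mem)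
        rwa [hp1 c (hU₁N hc) 0 N'.zero_mem, hp2 c (hU₁N hc) 0 N'.zero_mem, map_zero, add_zero] at this
      have hb0 : b = 0 := hA₂n b hb fun d hd => by
        have := h (0 + d) (Submodule.add_mem_sup U₁.zero_mem hd)
        rwa [hp1 0 N.zero_mem d (hU₂N hd), hp2 0 N.zero_mem d (hU₂N hd), map_zero, zero_add] at this
      simp [ha0, hb0]
  · refine ⟨S₁.compl₁₂ π π + S₂.compl₁₂ π' π', fun x y => by simp [hS₁ (π x), hS₂ (π' x)], ?_, ?_⟩
    · intro g x hx y hy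
      obtain ⟨a, ha, b, hb, rfl⟩ := Submodule.mem_sup.1 hx
      obtain ⟨c, hc, d, hd, rfl⟩ := Submodule.mem_sup.1 hy
      simp only [LinearMap.add_apply, LinearMap.compl₁₂_apply]
      rw [map_add (ρ g), map_add (ρ g),
        hp1 _ (hN g _ (hW₁N ha)) _ (hinv g _ (hW₂N hb)), hp1 _ (hN g _ (hW₁N hc)) _ (hinv g _ (hW₂N hd)),
        hp2 _ (hN g _ (hW₁N ha)) _ (hinv g _ (hW₂N hb)), hp2 _ (hN g _ (hW₁N hc)) _ (hinv g _ (hW₂N hd)),
        hp1 _ (hW₁N ha) _ (hW₂N hb), hp1 _ (hW₁N hc) _ (hW₂N hd),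
        hp2 _ (hW₁N ha) _ (hW₂N hb), hp2 _ (hW₁N hc) _ (hW₂N hd),
        hS₁i g a ha c hc, hS₂i g b hb d hd]
    · intro x hx h
      obtain ⟨a, ha, b, hb, rfl⟩ := Submodule.mem_sup.1 hx
      simp only [LinearMap.add_apply, LinearMap.compl₁₂_apply,
        hp1 _ (hW₁N ha) _ (hW₂N hb), hp2 _ (hW₁N ha) _ (hW₂N hb)] at h
      have ha0 : a = 0 := hS₁n a ha fun c hc => by
        have := h (c + 0) (Submodule.add_mem_sup hc W₂.zero_mem)
        rwa [hp1 c (hW₁N hc) 0 N'.zero_mem, hp2 c (hW₁N hc) 0 N'.zero_mem, map_zero, add_zero] at this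
      have hb0 : b = 0 := hS₂n b hb fun d hd => by
        have := h (0 + d) (Submodule.add_mem_sup W₁.zero_mem hd)
        rwa [hp1 0 N.zero_mem d (hW₂N hd), hp2 0 N.zero_mem d (hW₂N hd), map_zero, zero_add] at this
      simp [ha0, hb0]
  · intro h g w hw
    obtain ⟨a, ha, b, hb, rfl⟩ := Submodule.mem_sup.1 hw
    rw [map_add, ht₁ h g a ha, ht₂ h g b hb]

/-- An irreducible submodule on which the form is not zero decomposes. -/
theorem dec_irr (p : ℕ) [Fact p.Prime] [CharP F p] {B : LinearMap.BilinForm F V}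
    (ρ : Representation F G V) (hB : ∀ g x y, B (ρ g x) (ρ g y) = B x y) {N : Submodule F V}
    (hN : Inv ρ N) (hirr : ∀ P ≤ N, Inv ρ P → P = ⊥ ∨ P = N)
    (h0 : ∃ x ∈ N, ∃ y ∈ N, B x y ≠ 0) : ND B N ∧ Dec p ρ N := by
  have hsch : ∀ C : LinearMap.BilinForm F V,
      (∀ g, ∀ x ∈ N, ∀ y ∈ N, C (ρ g x) (ρ g y) = C x y) →
      (∃ x ∈ N, ∃ y ∈ N, C x y ≠ 0) → ∀ x ∈ N, (∀ y ∈ N, C x y = 0) → x = 0 := by
    intro C hC ⟨a, ha, b, hb, hab⟩ x hx hx0
    let R : Submodule F V := N ⊓ ⨅ y : N, LinearMap.ker (C.flip y)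
    have hmem : ∀ z, z ∈ R ↔ z ∈ N ∧ ∀ y ∈ N, C z y = 0 := fun z => by simp [R]
    have hR : Inv ρ R := by
      intro g z hz
      obtain ⟨hz1, hz2⟩ := (hmem z).1 hz
      refine (hmem _).2 ⟨hN g z hz1, fun y hy => ?_⟩
      rw [← ρ.self_inv_apply g y, hC g z hz1 _ (hN _ y hy), hz2 _ (hN _ y hy)]
    rcases hirr R inf_le_left hR with h | h
    · simpa [h] using (hmem x).2 ⟨hx, hx0⟩
    · exact absurd (((hmem a).1 (h.symm ▸ ha)).2 b hb) hab
  have hnd : ND B N := ⟨hsch B (fun g x _ y _ => hB g x y) h0,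
    hsch B.flip (fun g x _ y _ => hB g y x) (by obtain ⟨a, ha, b, hb, h⟩ := h0; exact ⟨b, hb, a, ha, h⟩)⟩
  refine ⟨hnd, ?_⟩
  obtain ⟨π, hπN, hπ, hπid⟩ := exists_proj hnd
  have hz : ∀ {P : Submodule F V}, P ⊔ ⊥ = P ∧ P ⊓ ⊥ = ⊥ := ⟨sup_bot_eq _, inf_bot_eq _⟩
  have hbot : Inv ρ (⊥ : Submodule F V) := fun g x hx => by simp_all
  have mkU : ∀ C : LinearMap.BilinForm F V, (∀ x ∈ N, C x x = 0) →
      (∀ g, ∀ x ∈ N, ∀ y ∈ N, C (ρ g x) (ρ g y) = C x y) →
      (∃ x ∈ N, ∃ y ∈ N, C x y ≠ 0) → Dec p ρ N := by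
    intro C hCa hCi hC0
    refine ⟨N, ⊥, sup_bot_eq _, inf_bot_eq _, hN, hbot,
      ⟨C.compl₁₂ π π, fun x => hCa _ (hπN x), ?_, ?_⟩, ⟨0, by simp, by simp, by simp⟩, by simp⟩
    · intro g x hx y hy
      simp only [LinearMap.compl₁₂_apply]
      rw [hπid _ (hN g x hx), hπid _ (hN g y hy), hπid x hx, hπid y hy, hCi g x hx y hy]
    · intro x hx h
      refine hsch C hCi hC0 x hx fun y hy => ?_
      simpa [hπid x hx, hπid y hy] using h y hy
  have mkW : ∀ C : LinearMap.BilinForm F V, (∀ x ∈ N, ∀ y ∈ N, C x y = C y x) →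
      (∀ g, ∀ x ∈ N, ∀ y ∈ N, C (ρ g x) (ρ g y) = C x y) →
      (∃ x ∈ N, ∃ y ∈ N, C x y ≠ 0) → (p = 2 → ∀ g : G, ∀ w ∈ N, ρ g w = w) → Dec p ρ N := by
    intro C hCs hCi hC0 ht
    refine ⟨⊥, N, bot_sup_eq _, bot_inf_eq _, hbot, hN,
      ⟨0, by simp, by simp, by simp⟩,
      ⟨C.compl₁₂ π π, fun x y => hCs _ (hπN x) _ (hπN y), ?_, ?_⟩, ht⟩
    · intro g x hx y hy
      simp only [LinearMap.compl₁₂_apply]
      rw [hπid _ (hN g x hx), hπid _ (hN g y hy), hπid x hx, hπid y hy, hCi g x hx y hy]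
    · intro x hx h
      refine hsch C hCi hC0 x hx fun y hy => ?_
      simpa [hπid x hx, hπid y hy] using h y hy
  have hs : ∀ g, ∀ x ∈ N, ∀ y ∈ N, (B + B.flip) (ρ g x) (ρ g y) = (B + B.flip) x y :=
    fun g x _ y _ => by simp [hB]
  by_cases hs0 : ∃ x ∈ N, ∃ y ∈ N, (B + B.flip) x y ≠ 0
  · by_cases h2 : p = 2
    · subst h2
      exact mkU _ (fun x _ => by simpa using CharTwo.add_self_eq_zero (B x x)) hs hs0
    · exact mkW _ (fun x _ y _ => by simp [add_comm]) hs hs0 (fun h => absurd h h2)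
  · push Not at hs0
    have hanti : ∀ x ∈ N, ∀ y ∈ N, B x y + B y x = 0 := fun x hx y hy => by
      simpa using hs0 x hx y hy
    by_cases hd : ∀ x ∈ N, B x x = 0
    · exact mkU B hd (fun g x _ y _ => hB g x y) h0
    · push Not at hd
      obtain ⟨a, ha, hab⟩ := hd
      have h2 : (2 : F) = 0 := by
        have : (2 : F) * B a a = 0 := by rw [two_mul]; exact hanti a ha a ha
        simpa [hab] using this
      have hsym : ∀ x ∈ N, ∀ y ∈ N, B x y = B y x := fun x hx y hy => by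
        linear_combination hanti x hx y hy - B y x * h2
      refine mkW B hsym (fun g x _ y _ => hB g x y) h0 fun _ g w hw => ?_
      let K : Submodule F V :=
        { carrier := {x | x ∈ N ∧ B x x = 0}
          zero_mem' := ⟨N.zero_mem, by simp⟩
          add_mem' := fun {x y} hx hy => ⟨N.add_mem hx.1 hy.1, by
            simp only [map_add, LinearMap.add_apply]
            linear_combination hx.2 + hy.2 + hanti x hx.1 y hy.1⟩
          smul_mem' := fun c x hx => ⟨N.smul_mem c hx.1, by simp [hx.2]⟩ }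
      have hK : Inv ρ K := fun g x hx => ⟨hN g x hx.1, by rw [hB]; exact hx.2⟩
      rcases hirr K (fun x hx => hx.1) hK with h | h
      · have hm : ρ g w - w ∈ K := ⟨N.sub_mem (hN g w hw) hw, by
          simp only [map_sub, LinearMap.sub_apply]
          linear_combination hB g w w - hanti (ρ g w) (hN g w hw) w hw + B w w * h2⟩
        rw [h] at hm
        simpa [sub_eq_zero] using hm
      · exact absurd ((h.symm ▸ ha : a ∈ K)).2 hab

/-- The pairing case: a totally isotropic irreducible submodule lies in a decomposable one. -/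
theorem dec_hyp [Fintype G] (hG : (Fintype.card G : F) ≠ 0) (p : ℕ) {B : LinearMap.BilinForm F V}
    (ρ : Representation F G V) (hB : ∀ g x y, B (ρ g x) (ρ g y) = B x y) {N M : Submodule F V}
    (hN : Inv ρ N) (hirr : ∀ P ≤ N, Inv ρ P → P = ⊥ ∨ P = N) (hM : Inv ρ M) (hNM : N ≤ M)
    (hMn : ND B M) (h0 : ∀ x ∈ N, ∀ y ∈ N, B x y = 0) :
    ∃ T ≤ M, N ≤ T ∧ Inv ρ T ∧ ND B T ∧ Dec p ρ T := by
  suffices hX : ∃ X ≤ M, Inv ρ X ∧ (∀ x ∈ X, (∀ n ∈ N, B n x = 0) → x = 0) ∧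
      (∀ n ∈ N, (∀ x ∈ X, B x n = 0) → n = 0) ∧ (∀ n ∈ N, (∀ x ∈ X, B n x = 0) → n = 0) ∧
      (∀ x ∈ X, (∀ n ∈ N, B x n = 0) → x = 0) by
    obtain ⟨X, hXM, hX, h1, h2, h3, h4⟩ := hX
    have hd : N ⊓ X = ⊥ := by
      rw [eq_bot_iff]
      rintro x ⟨hx, hx'⟩
      exact h1 x hx' fun n hn => h0 n hn x hx
    have hnd : ND B (N ⊔ X) := by
      constructor
      · intro t ht h
        obtain ⟨n, hn, x, hx, rfl⟩ := Submodule.mem_sup.1 ht
        have hx0 : x = 0 := h4 x hx fun a ha => by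
          simpa [h0 n hn a ha] using h a (Submodule.mem_sup_left ha)
        subst hx0
        simp only [add_zero] at h ⊢
        exact h3 n hn fun a ha => h a (Submodule.mem_sup_right ha)
      · intro t ht h
        obtain ⟨n, hn, x, hx, rfl⟩ := Submodule.mem_sup.1 ht
        have hx0 : x = 0 := h1 x hx fun a ha => by
          simpa [h0 a ha n hn] using h a (Submodule.mem_sup_left ha)
        subst hx0
        simp only [add_zero] at h ⊢
        exact h2 n hn fun a ha => h a (Submodule.mem_sup_right ha)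
    have hinv : Inv ρ (N ⊔ X) := by
      intro g t ht
      obtain ⟨n, hn, x, hx, rfl⟩ := Submodule.mem_sup.1 ht
      rw [map_add]; exact Submodule.add_mem_sup (hN g n hn) (hX g x hx)
    refine ⟨N ⊔ X, sup_le hNM hXM, le_sup_left, hinv, hnd, N ⊔ X, ⊥, sup_bot_eq _, inf_bot_eq _,
      hinv, fun g x hx => (Submodule.mem_bot F).2 (by rw [(Submodule.mem_bot F).1 hx, map_zero]), ?_, ⟨0, by simp, by simp, by simp⟩, by simp⟩
    obtain ⟨Y, hXY, hY⟩ : ∃ Y : Submodule F V, X ≤ Y ∧ IsCompl N Y := by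
      obtain ⟨Z, hZ⟩ := Submodule.exists_isCompl (N ⊔ X)
      refine ⟨X ⊔ Z, le_sup_left, ?_, ?_⟩
      · exact Disjoint.disjoint_sup_right_of_disjoint_sup_left (disjoint_iff.2 hd) hZ.disjoint
      · rw [codisjoint_iff, ← sup_assoc]; exact hZ.sup_eq_top
    let a : V →ₗ[F] V := (N.projection Y hY)
    let b : V →ₗ[F] V := LinearMap.id - a
    have ha1 : ∀ n ∈ N, ∀ x ∈ X, a (n + x) = n := fun n hn x hx => by
      simp [a, Submodule.projection_apply_of_mem_left hY hn,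
        Submodule.projection_apply_of_mem_right hY (hXY hx)]
    have hb1 : ∀ n ∈ N, ∀ x ∈ X, b (n + x) = x := fun n hn x hx => by
      simp [b, ha1 n hn x hx]
    refine ⟨B.compl₁₂ a b - (B.compl₁₂ a b).flip, fun _ => sub_self _, ?_, ?_⟩
    · intro g s hs t ht
      obtain ⟨n, hn, x, hx, rfl⟩ := Submodule.mem_sup.1 hs
      obtain ⟨n', hn', x', hx', rfl⟩ := Submodule.mem_sup.1 ht
      simp only [LinearMap.sub_apply, LinearMap.flip_apply, LinearMap.compl₁₂_apply]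
      rw [map_add (ρ g), map_add (ρ g), ha1 _ (hN g n hn) _ (hX g x hx),
        ha1 _ (hN g n' hn') _ (hX g x' hx'), hb1 _ (hN g n hn) _ (hX g x hx),
        hb1 _ (hN g n' hn') _ (hX g x' hx'), ha1 n hn x hx, ha1 n' hn' x' hx', hb1 n hn x hx,
        hb1 n' hn' x' hx', hB, hB]
    · intro s hs h
      obtain ⟨n, hn, x, hx, rfl⟩ := Submodule.mem_sup.1 hs
      have hn0 : n = 0 := h3 n hn fun x' hx' => by
        have := h (0 + x') (Submodule.add_mem_sup N.zero_mem hx')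
        simp only [LinearMap.sub_apply, LinearMap.flip_apply, LinearMap.compl₁₂_apply,
          ha1 n hn x hx, hb1 0 N.zero_mem x' hx', ha1 0 N.zero_mem x' hx', map_zero,
          LinearMap.zero_apply, sub_zero] at this
        exact this
      have hx0 : x = 0 := h1 x hx fun n' hn' => by
        have := h (n' + 0) (Submodule.add_mem_sup hn' X.zero_mem)
        simp only [LinearMap.sub_apply, LinearMap.flip_apply, LinearMap.compl₁₂_apply,
          hb1 n' hn' 0 X.zero_mem, ha1 n' hn' 0 X.zero_mem, hb1 n hn x hx, map_zero,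
          zero_sub, neg_eq_zero] at this
        exact this
      simp [hn0, hx0]
  -- construction of `X`
  have compl : ∀ C : LinearMap.BilinForm F V, (∀ g x y, C (ρ g x) (ρ g y) = C x y) →
      (∀ x ∈ M, (∀ y ∈ M, C x y = 0) → x = 0) →
      ∃ X ≤ M, Inv ρ X ∧ (∀ x ∈ X, (∀ n ∈ N, C n x = 0) → x = 0) ∧
        (∀ n ∈ N, (∀ x ∈ X, C n x = 0) → n = 0) ∧
        ((∀ x ∈ X, ∀ n ∈ N, C x n = 0) ∨ ∀ n ∈ N, (∀ x ∈ X, C x n = 0) → n = 0) := by
    intro C hC hCM
    let K : Submodule F V := M ⊓ ⨅ n : N, LinearMap.ker (C n)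
    have hmem : ∀ z, z ∈ K ↔ z ∈ M ∧ ∀ n ∈ N, C n z = 0 := fun z => by simp [K]
    have hK : Inv ρ K := fun g z hz => by
      obtain ⟨h1, h2⟩ := (hmem z).1 hz
      refine (hmem _).2 ⟨hM g z h1, fun n hn => ?_⟩
      rw [← ρ.self_inv_apply g n, hC, h2 _ (hN _ n hn)]
    obtain ⟨X, hXM, hX, hKX, hKX'⟩ := exists_inv_compl hG ρ hK inf_le_left hM
    refine ⟨X, hXM, hX, fun x hx h => ?_, fun n hn h => ?_, ?_⟩
    · simpa [hKX] using Submodule.mem_inf.2 ⟨(hmem x).2 ⟨hXM hx, h⟩, hx⟩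
    · refine hCM n (hNM hn) fun y hy => ?_
      obtain ⟨k, hk, x, hx, rfl⟩ := Submodule.mem_sup.1 (hKX'.symm ▸ hy)
      rw [map_add, ((hmem k).1 hk).2 n hn, h x hx, add_zero]
    · let L : Submodule F V := N ⊓ ⨅ x : X, LinearMap.ker (C x)
      have hL : ∀ z, z ∈ L ↔ z ∈ N ∧ ∀ x ∈ X, C x z = 0 := fun z => by simp [L]
      have hLi : Inv ρ L := fun g z hz => by
        obtain ⟨h1, h2⟩ := (hL z).1 hz
        refine (hL _).2 ⟨hN g z h1, fun x hx => ?_⟩
        rw [← ρ.self_inv_apply g x, hC, h2 _ (hX _ x hx)]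
      rcases hirr L inf_le_left hLi with h | h
      · exact Or.inr fun n hn h' => by simpa [h] using (hL n).2 ⟨hn, h'⟩
      · exact Or.inl fun x hx n hn => ((hL n).1 (h.symm ▸ hn)).2 x hx
  -- the missing fourth condition follows from the others by a dimension count
  have four : ∀ C : LinearMap.BilinForm F V, ∀ X : Submodule F V,
      (∀ x ∈ X, (∀ n ∈ N, C n x = 0) → x = 0) → (∀ n ∈ N, (∀ x ∈ X, C x n = 0) → n = 0) →
      ∀ x ∈ X, (∀ n ∈ N, C x n = 0) → x = 0 := by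
    intro C X h1 h2
    let φ : X →ₗ[F] Module.Dual F N := (C.flip.compl₁₂ X.subtype N.subtype)
    let ψ : X →ₗ[F] Module.Dual F N := (C.compl₁₂ X.subtype N.subtype)
    have hφ : Function.Injective φ := by
      rw [injective_iff_map_eq_zero]
      exact fun x hx => Subtype.ext (h1 x x.2 fun n hn => LinearMap.congr_fun hx ⟨n, hn⟩)
    have hψ : Function.Injective ψ.flip := by
      rw [injective_iff_map_eq_zero]
      exact fun n hn => Subtype.ext (h2 n n.2 fun x hx => LinearMap.congr_fun hn ⟨x, hx⟩)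
    have hd : Module.finrank F N = Module.finrank F X := by
      have e1 := LinearMap.finrank_le_finrank_of_injective hφ
      have e2 := LinearMap.finrank_le_finrank_of_injective hψ
      rw [Subspace.dual_finrank_eq] at e1 e2
      omega
    have : Function.Surjective ψ.flip :=
      (LinearMap.injective_iff_surjective_of_finrank_eq_finrank
        (hd.trans Subspace.dual_finrank_eq.symm)).1 hψ
    intro x hx h
    have hz : ∀ f : Module.Dual F X, f ⟨x, hx⟩ = 0 := fun f => by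
      obtain ⟨n, rfl⟩ := this f
      exact h n n.2
    simpa using congrArg Subtype.val ((Module.forall_dual_apply_eq_zero_iff F _).1 hz)
  obtain ⟨X, hXM, hX, h1, h3, hor⟩ := compl B hB hMn.1
  rcases hor with hXN | h2
  rotate_left
  · exact ⟨X, hXM, hX, h1, h2, h3, four B X h1 h2⟩
  obtain ⟨X', hXM', hX', h1', h3', hor'⟩ := compl B.flip (fun g x y => hB g y x) hMn.2
  rcases hor' with hXN' | h2'
  rotate_left
  · exact ⟨X', hXM', hX', four B.flip X' h1' h2', h3', h2', h1'⟩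
  -- both are one-sided: take a graph
  let φ : X →ₗ[F] Module.Dual F N := (B.flip.compl₁₂ X.subtype N.subtype)
  have hφ : Function.Bijective φ := by
    have hi : Function.Injective φ := by
      rw [injective_iff_map_eq_zero]
      exact fun x hx => Subtype.ext (h1 x x.2 fun n hn => LinearMap.congr_fun hx ⟨n, hn⟩)
    refine ⟨hi, ?_⟩
    have hψ : Function.Injective φ.flip := by
      rw [injective_iff_map_eq_zero]
      exact fun n hn => Subtype.ext (h3 n n.2 fun x hx => LinearMap.congr_fun hn ⟨x, hx⟩)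
    have e2 := LinearMap.finrank_le_finrank_of_injective hψ
    have e1 := LinearMap.finrank_le_finrank_of_injective hi
    refine (LinearMap.injective_iff_surjective_of_finrank_eq_finrank ?_).1 hi
    rw [Subspace.dual_finrank_eq] at e1 e2 ⊢
    omega
  let θ : X' →ₗ[F] X :=
    (LinearEquiv.ofBijective φ hφ).symm.toLinearMap ∘ₗ (B.compl₁₂ X'.subtype N.subtype)
  have hθ : ∀ y : X', ∀ n ∈ N, B n (θ y : V) = B (y : V) n := fun y n hn => by
    have := LinearMap.congr_fun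
      ((LinearEquiv.ofBijective φ hφ).apply_symm_apply (B.compl₁₂ X'.subtype N.subtype y)) ⟨n, hn⟩
    rw [LinearEquiv.ofBijective_apply] at this
    exact this
  let j : X' →ₗ[F] V := X.subtype ∘ₗ θ + X'.subtype
  have hθc : ∀ g (y : X'), (θ ⟨ρ g y, hX' g y y.2⟩ : V) = ρ g (θ y) := fun g y => by
    rw [← sub_eq_zero]
    refine h1 _ (X.sub_mem (θ _).2 (hX g _ (θ y).2)) fun n hn => ?_
    rw [map_sub, hθ _ n hn]
    conv_lhs => rw [← ρ.self_inv_apply g n]
    rw [hB, hB, hθ _ _ (hN _ n hn), sub_self]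
  have hl : ∀ y : X', ∀ n ∈ N, B n (j y) = B (y : V) n ∧ B (j y) n = B (y : V) n := fun y n hn => by
    have e1 : B n (y : V) = 0 := hXN' y y.2 n hn
    simp [j, hθ y n hn, hXN _ (θ y).2 n hn, e1]
  refine ⟨LinearMap.range j, ?_, ?_, ?_, ?_, ?_, ?_⟩
  · rintro - ⟨y, rfl⟩
    exact M.add_mem (hXM (θ y).2) (hXM' y.2)
  · rintro g - ⟨y, rfl⟩
    exact ⟨⟨ρ g y, hX' g y y.2⟩, by simp [j, hθc g y]⟩
  · rintro - ⟨y, rfl⟩ h
    have : y = 0 := Subtype.ext (h1' y y.2 fun n hn => (hl y n hn).1.symm.trans (h n hn))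
    simp [this]
  · exact fun n hn h => h3' n hn fun y hy => (hl ⟨y, hy⟩ n hn).2.symm.trans (h _ ⟨_, rfl⟩)
  · exact fun n hn h => h3' n hn fun y hy => (hl ⟨y, hy⟩ n hn).1.symm.trans (h _ ⟨_, rfl⟩)
  · rintro - ⟨y, rfl⟩ h
    have : y = 0 := Subtype.ext (h1' y y.2 fun n hn => (hl y n hn).2.symm.trans (h n hn))
    simp [this]

theorem dec_all [Fintype G] (hG : (Fintype.card G : F) ≠ 0) (p : ℕ) [Fact p.Prime] [CharP F p]
    {B : LinearMap.BilinForm F V} (ρ : Representation F G V)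
    (hB : ∀ g x y, B (ρ g x) (ρ g y) = B x y) (M : Submodule F V) (hM : Inv ρ M) (hMn : ND B M) :
    Dec p ρ M := by
  induction M using WellFoundedLT.induction with
  | _ M ih =>
    rcases eq_or_ne M ⊥ with rfl | hne
    · exact dec_bot p ρ
    have step : ∀ T ≤ M, T ≠ ⊥ → Inv ρ T → ND B T → Dec p ρ T → Dec p ρ M := by
      intro T hTM hT hTi hTn hTd
      refine dec_glue p ρ hB hTM hTi hM hTn hMn hTd fun N' hN' hN'n hle hdj => ?_
      refine ih N' (lt_of_le_of_ne hle fun he => hT ?_) hN' hN'n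
      rw [he] at hdj
      rwa [inf_eq_right.2 hTM] at hdj
    obtain ⟨N, ⟨hN0, hNM, hN⟩, hmin⟩ := wellFounded_lt.has_min
      {N : Submodule F V | N ≠ ⊥ ∧ N ≤ M ∧ Inv ρ N} ⟨M, hne, le_rfl, hM⟩
    have hirr : ∀ P ≤ N, Inv ρ P → P = ⊥ ∨ P = N := fun P hP hPi => by
      by_contra hc
      push Not at hc
      exact hmin P ⟨hc.1, hP.trans hNM, hPi⟩ (lt_of_le_of_ne hP hc.2)
    by_cases h0 : ∃ x ∈ N, ∃ y ∈ N, B x y ≠ 0
    · obtain ⟨hnd, hd⟩ := dec_irr p ρ hB hN hirr h0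
      exact step N hNM hN0 hN hnd hd
    · push Not at h0
      obtain ⟨T, hTM, hNT, hTi, hTn, hTd⟩ := dec_hyp hG p ρ hB hN hirr hM hNM hMn h0
      exact step T hTM (fun h => hN0 (le_bot_iff.1 (h ▸ hNT))) hTi hTn hTd


/-- Let F be a finite field of characteristic p, G a finite group of order prime to p, and V a finite-dimensional representation of G over F carrying a nondegenerate G-invariant bilinear form (equivalently, V is self-dual). Then V is the direct sum of two G-invariant subspaces U and W such that U carries a G-invariant alternating bilinear form that is nondegenerate on U and W carries a G-invariant symmetric bilinear form that is nondegenerate on W; moreover when p = 2 the decomposition can be chosen with G acting trivially on W. -/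
theorem result {F : Type*} [Field F] [Fintype F] (p : ℕ) [Fact p.Prime] [CharP F p] {G : Type*} [Group G] [Finite G] (hcop : ¬ p ∣ Nat.card G) {V : Type*} [AddCommGroup V] [Module F V] [FiniteDimensional F V] (ρ : Representation F G V) (B : LinearMap.BilinForm F V) (hB : B.Nondegenerate) (hBinv : ∀ g : G, ∀ x y : V, B (ρ g x) (ρ g y) = B x y) : ∃ U W : Submodule F V, IsCompl U W ∧ (∀ g : G, ∀ u ∈ U, ρ g u ∈ U) ∧ (∀ g : G, ∀ w ∈ W, ρ g w ∈ W) ∧ (∃ A : LinearMap.BilinForm F V, (∀ x : V, A x x = 0) ∧ (∀ g : G, ∀ x ∈ U, ∀ y ∈ U, A (ρ g x) (ρ g y) = A x y) ∧ (∀ x ∈ U, (∀ y ∈ U, A x y = 0) → x = 0)) ∧ (∃ S : LinearMap.BilinForm F V, (∀ x y : V, S x y = S y x) ∧ (∀ g : G, ∀ x ∈ W, ∀ y ∈ W, S (ρ g x) (ρ g y) = S x y) ∧ (∀ x ∈ W, (∀ y ∈ W, S x y = 0) → x = 0)) ∧ (p = 2 → ∀ g : G, ∀ w ∈ W, ρ g w = w) := by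
  have := Fintype.ofFinite G
  have hG : (Fintype.card G : F) ≠ 0 := by
    rw [Ne, CharP.cast_eq_zero_iff F p, ← Nat.card_eq_fintype_card]; exact hcop
  obtain ⟨U, W, hs, hi, hU, hW, hA, hS, ht⟩ := dec_all hG p ρ hBinv ⊤ (fun _ _ _ => Submodule.mem_top)
    ⟨fun x _ h => hB.1 x fun y => h y Submodule.mem_top,
      fun y _ h => hB.2 y fun x => h x Submodule.mem_top⟩
  exact ⟨U, W, IsCompl.of_eq hi hs, hU, hW, hA, hS, ht⟩

end Cfsg.Agent.S4966
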