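import Cfsg.Statements.S0867
import Cfsg.Agent.CharactersDeep.ExtensionCriteria

set_option autoImplicit false
open Cfsg

namespace Cfsg.Agent.S0867

/-- Let N be a normal subgroup of the finite group G and ϑ an irreducible character of N of degree d, invariant under conjugation by G, such that the index of N is coprime to the product of d and the determinantal order of ϑ. Then there is an irreducible character χ of G restricting to ϑ whose determinantal order equals that of ϑ, and χ is the only irreducible character of G restricting to ϑ whose determinantal order is coprime to the index of N. -/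
theorem result {G : Type*} [Group G] [Finite G] (N : Subgroup G) [hN : N.Normal] (ϑ : N → ℂ) (hϑ : Cfsg.IsIrrCharacter N ϑ) (hinv : ∀ (g : G) (n : N), ϑ ⟨g * n * g⁻¹, hN.conj_mem (n : G) n.2 g⟩ = ϑ n) (d : ℕ) (hd : ϑ 1 = d) (hcop : Nat.Coprime N.index (Cfsg.detOrder ϑ * d)) : ∃ χ : G → ℂ, (Cfsg.IsIrrCharacter G χ ∧ (∀ n : N, χ n = ϑ n) ∧ Cfsg.detOrder χ = Cfsg.detOrder ϑ) ∧ ∀ χ' : G → ℂ, Cfsg.IsIrrCharacter G χ' → (∀ n : N, χ' n = ϑ n) → Nat.Coprime N.index (Cfsg.detOrder χ') → χ' = χ := by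
  classical
  haveI := Fintype.ofFinite G
  haveI := Fintype.ofFinite N
  obtain ⟨n, ρ, hρ, hρθ⟩ := id hϑ
  let f := CfsgLib.CharactersDeep.LinearChar.detHom ρ
  have hdetθ : ∀ m, Cfsg.detChar ϑ m = (f m : ℂ) :=
    fun m => by rw [← hρθ, CfsgLib.CharactersDeep.LinearChar.detChar_eq_hom]
  have ho : Cfsg.detOrder ϑ = orderOf f := by
    rw [← hρθ, CfsgLib.CharactersDeep.LinearChar.detOrder_eq]
  rw [ho] at hcop
  have hcopd : Nat.Coprime N.index d := hcop.coprime_dvd_right (Dvd.intro_left _ rfl)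
  have hcopo : Nat.Coprime N.index (orderOf f) := hcop.coprime_dvd_right (Dvd.intro _ rfl)
  have hinvdet : ∀ (g : G) (m : N), f ⟨g * m * g⁻¹, hN.conj_mem m m.2 g⟩ = f m := fun g m =>
    Units.ext (by rw [← hdetθ, ← hdetθ, CfsgLib.CharactersDeep.ExtensionCriteria.detChar_invariant N hϑ hinv g m])
  haveI : NeZero (orderOf f) := ⟨(orderOf_pos f).ne'⟩
  have hfo : ∀ m, f m ^ orderOf f = 1 := fun m => by
    rw [← MonoidHom.pow_apply, pow_orderOf_eq_one, MonoidHom.one_apply]
  obtain ⟨μ, hμN, hμo⟩ := CfsgLib.CharactersDeep.TransferExtend.exists_extend_same_exponent N f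
    hinvdet hfo hcopo
  have hord : orderOf μ = orderOf f := by
    refine Nat.dvd_antisymm (orderOf_dvd_of_pow_eq_one (MonoidHom.ext hμo)) ?_
    refine orderOf_dvd_of_pow_eq_one (MonoidHom.ext fun m => ?_)
    rw [MonoidHom.pow_apply, ← hμN, ← MonoidHom.pow_apply, pow_orderOf_eq_one,
      MonoidHom.one_apply, MonoidHom.one_apply]
  obtain ⟨η, hη, hηN⟩ := CfsgLib.CharactersDeep.ExtensionCriteria.extends_of_det N hϑ hinv hd hcopd μ (fun m => by rw [hμN, hdetθ])
  have hη1 : η 1 = d := by rw [← hd]; exact hηN 1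
  obtain ⟨n', R, hR, hRη⟩ := id hη
  let δ : G →* ℂˣ := μ / CfsgLib.CharactersDeep.LinearChar.detHom R
  have hdetη : ∀ g, Cfsg.detChar η g = (CfsgLib.CharactersDeep.LinearChar.detHom R g : ℂ) :=
    fun g => by rw [← hRη, CfsgLib.CharactersDeep.LinearChar.detChar_eq_hom]
  have hδN : ∀ m : N, δ m = 1 := fun m => by
    rw [MonoidHom.div_apply, div_eq_one]
    refine Units.ext ?_
    rw [← hdetη, CfsgLib.CharactersDeep.ExtensionCriteria.detChar_restrict N (CfsgLib.Characters.isCharacter_of_isIrr hη) hηN, hdetθ,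
      hμN]
  have hδ : δ ^ N.index = 1 := MonoidHom.ext fun g => by
    rw [MonoidHom.pow_apply, ← map_pow]
    exact hδN ⟨_, N.pow_index_mem g⟩
  obtain ⟨k, hk⟩ := exists_pow_eq_self_of_coprime (x := δ) (n := d)
    (hcopd.symm.coprime_dvd_right (orderOf_dvd_of_pow_eq_one hδ))
  obtain ⟨hχirr, hχdet⟩ := CfsgLib.CharactersDeep.ExtensionCriteria.twist hη hη1 (δ ^ k)
  have hdetχ : Cfsg.detChar (fun g => ((δ ^ k) g : ℂ) * η g) = fun g => (μ g : ℂ) := by
    funext g
    rw [hχdet, ← Units.val_pow_eq_pow_val, ← MonoidHom.pow_apply, ← pow_mul, mul_comm k, pow_mul,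
      hk, hdetη, ← Units.val_mul]
    simp [δ]
  have hχN : ∀ m : N, ((δ ^ k) m : ℂ) * η m = ϑ m := fun m => by simp [hδN, hηN]
  refine ⟨fun g => ((δ ^ k) g : ℂ) * η g, ⟨hχirr, hχN, ?_⟩, ?_⟩
  · rw [Cfsg.detOrder, hdetχ, CfsgLib.CharactersDeep.LinearChar.orderOf_coe_hom, hord, ho]
  · intro χ' hχ' hN' hcop'
    obtain ⟨ν, hνN, rfl⟩ := CfsgLib.CharactersDeep.ExtensionCriteria.exists_twist N hχirr hχ' hϑ hχN hN'
    have hχ1 : ((δ ^ k) 1 : ℂ) * η 1 = d := by rw [← hd]; exact hχN 1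
    obtain ⟨-, hνdet⟩ := CfsgLib.CharactersDeep.ExtensionCriteria.twist hχirr hχ1 ν
    have hdet' : Cfsg.detChar (fun g => (ν g : ℂ) * (((δ ^ k) g : ℂ) * η g)) =
        fun g => ((ν ^ d * μ) g : ℂ) := by
      funext g
      rw [hνdet, hdetχ]
      simp
    rw [Cfsg.detOrder, hdet', CfsgLib.CharactersDeep.LinearChar.orderOf_coe_hom] at hcop'
    have hν : ν ^ N.index = 1 := MonoidHom.ext fun g => by
      rw [MonoidHom.pow_apply, ← map_pow]
      exact hνN ⟨_, N.pow_index_mem g⟩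
    have h1 : ν ^ d = 1 := by
      refine CfsgLib.CharactersDeep.TransferExtend.eq_one_of_coprime N (ν ^ d)
        (fun m => by simp [hνN]) (o := orderOf (ν ^ d * μ) * orderOf f) (fun g => ?_)
        (Nat.Coprime.mul_right hcop' hcopo)
      have h2 : ((ν ^ d * μ) g) ^ (orderOf (ν ^ d * μ) * orderOf f) = 1 := by
        rw [pow_mul, ← MonoidHom.pow_apply, pow_orderOf_eq_one, MonoidHom.one_apply, one_pow]
      rw [MonoidHom.mul_apply, mul_pow, mul_comm _ (orderOf f), pow_mul (μ g), hμo, one_pow, mul_one,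
        mul_comm (orderOf f)] at h2
      exact h2
    have h4 : ν = 1 := CfsgLib.CharactersDeep.TransferExtend.eq_one_of_coprime N ν hνN (o := d)
      (fun g => by rw [← MonoidHom.pow_apply, h1, MonoidHom.one_apply]) hcopd
    funext g
    simp [h4]

end Cfsg.Agent.S0867
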