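import Cfsg.Statements.S1550
-- import your own Cfsg.Agent.* helpers here

import Cfsg.Agent.M24Classes.Configs

set_option autoImplicit false
open scoped Pointwise
open Cfsg

namespace Cfsg.Agent.S1550

/-- Every 4-element set of the 24 points is a tetrad of exactly one sextet, and the sextets number 1771. -/
theorem result : (∀ t : Finset Cfsg.GolayPt, t.card = 4 → ∃! S : Finset (Finset Cfsg.GolayPt), S ∈ Cfsg.sextets ∧ t ∈ S) ∧ Cfsg.sextets.ncard = 1771 := by
  classical
  refine ⟨fun t ht => ?_, ?_⟩
  · have hex : ∃ S ∈ Cfsg.sextets, t ∈ S := by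
      obtain ⟨x, hx⟩ : t.Nonempty := Finset.card_pos.1 (by omega)
      obtain ⟨g, hg⟩ := CfsgLib.Mathieu.M24_isPretransitive.exists_smul_eq x (none : Cfsg.GolayPt)
      have hx' : (none : Cfsg.GolayPt) ∈ (g : Equiv.Perm Cfsg.GolayPt) • t :=
        hg ▸ Finset.smul_mem_smul_finset (a := (g : Equiv.Perm Cfsg.GolayPt)) hx
      obtain ⟨l, hl, hlt⟩ := CfsgLib.M24Classes.sextet_tetrad_cover
        ((Finset.card_smul_finset _ t).trans ht) hx'
      obtain ⟨hF, -, hmem, -, -⟩ := CfsgLib.M24Classes.sextet_entry hl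
      refine ⟨(g : Equiv.Perm Cfsg.GolayPt)⁻¹ • CfsgLib.M24Classes.famSet l,
        CfsgLib.M24Classes.smul_mem_sextets (inv_mem g.2) hF, ?_⟩
      rw [hlt] at hmem
      exact Finset.mem_smul_finset.2 ⟨_, hmem, inv_smul_smul _ t⟩
    obtain ⟨S, hS, htS⟩ := hex
    refine ⟨S, ⟨hS, htS⟩, fun R ⟨hR, htR⟩ => ?_⟩
    refine Finset.eq_of_subset_of_card_le ?_ (by rw [hS.1, hR.1])
    intro u hu
    by_cases hut : u = t
    · exact hut ▸ htS
    obtain ⟨x, hx⟩ : u.Nonempty := Finset.card_pos.1 (by rw [hR.2.1 u hu]; norm_num)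
    have d1 := Finset.disjoint_left.1 (CfsgLib.M24Classes.sextet_disjoint hR hu htR hut)
    have hcov : S.biUnion id = Finset.univ := by
      apply Finset.eq_univ_of_card
      rw [Finset.card_biUnion (t := id) (fun a ha b hb hne =>
        CfsgLib.M24Classes.sextet_disjoint hS ha hb hne)]
      simp only [id_eq]
      rw [Finset.sum_congr rfl hS.2.1, Finset.sum_const, hS.1]
      simp [ZMod.card]
    obtain ⟨v, hv, hxv⟩ := Finset.mem_biUnion.1 (hcov.symm ▸ Finset.mem_univ x)
    have hxv : x ∈ v := hxv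
    have hvt : v ≠ t := fun e => d1 hx (e ▸ hxv)
    have d2 := Finset.disjoint_left.1 (CfsgLib.M24Classes.sextet_disjoint hS hv htS hvt)
    have heq := CfsgLib.Mathieu.octads_eq_of_five_le (hR.2.2 t htR u hu (Ne.symm hut))
      (hS.2.2 t htS v hv (Ne.symm hvt))
      (le_trans (b := (insert x t).card) (by rw [Finset.card_insert_of_notMem (d1 hx), ht])
        (Finset.card_le_card (by
          intro y hy
          simp only [Finset.mem_insert] at hy
          simp only [Finset.mem_inter, Finset.mem_union]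
          rcases hy with rfl | hy
          · exact ⟨Or.inr hx, Or.inr hxv⟩
          · exact ⟨Or.inl hy, Or.inl hy⟩)))
    have : u = v := by
      ext y
      have e := Finset.ext_iff.1 heq y
      simp only [Finset.mem_union] at e
      have := @d1 y; have := @d2 y
      tauto
    exact this ▸ hv
  · rw [CfsgLib.M24Classes.sextets_eq_image,
      Set.ncard_image_of_injOn CfsgLib.M24Classes.sextetData_injOn,
      show {l | l ∈ CfsgLib.M24Classes.sextetData} =
          (CfsgLib.M24Classes.sextetData.toFinset : Set (List ℕ)) from List.coe_toFinset _ |>.symm,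
      Set.ncard_coe_finset, List.toFinset_card_of_nodup CfsgLib.M24Classes.sextetData_nodup,
      CfsgLib.M24Classes.sextetData_keys.2]

end Cfsg.Agent.S1550
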