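import Cfsg.Statements.S1557
-- import your own Cfsg.Agent.* helpers here

import Cfsg.Agent.M24Classes.Configs

set_option autoImplicit false
open scoped Pointwise
open Cfsg

namespace Cfsg.Agent.S1557

/-- The complement of the union of two disjoint octads is an octad, and the code has exactly 3795 trios of pairwise disjoint octads. -/
theorem result : (∀ o o' : Finset Cfsg.GolayPt, o ∈ Cfsg.octads → o' ∈ Cfsg.octads → Disjoint o o' → (o ∪ o')ᶜ ∈ Cfsg.octads) ∧ Cfsg.trios.ncard = 3795 := by
  refine ⟨fun o o' ho ho' hd => ⟨?_, ?_⟩, ?_⟩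
  · have h := CfsgLib.Mathieu.supports_symmDiff ho.1 ho'.1
    rw [show symmDiff o o' = o ∪ o' from hd.symmDiff_eq_sup] at h
    exact CfsgLib.Mathieu.supports_compl h
  · rw [Finset.card_compl, Finset.card_union_of_disjoint hd, ho.2, ho'.2]
    simp [ZMod.card]
  · rw [CfsgLib.M24Classes.trios_eq_image, Set.ncard_image_of_injOn CfsgLib.M24Classes.trioList_injOn,
      show {l | l ∈ CfsgLib.M24Classes.trioList} = (CfsgLib.M24Classes.trioList.toFinset : Set (List ℕ)) from
        List.coe_toFinset _ |>.symm,
      Set.ncard_coe_finset, List.toFinset_card_of_nodup CfsgLib.M24Classes.trioList_nodup]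
    decide +kernel

end Cfsg.Agent.S1557
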