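import Cfsg.Statements.S0043
import Cfsg.Agent.Solvable.Basic
-- Template for statement S0043 (row 43; see /opt/grader/pristine/manifest.json for weights).
-- Copy to Cfsg/Agent/S0043.lean and replace the sorry. The statement below is byte-identical to the frozen
-- statement Cfsg.CfsgFrozen.S0043 (Cfsg/Statements/S0043.lean; the theorem Cfsg.minimal_normal_of_solvable_elementary_abelian);
-- the grader kernel-checks Cfsg.Agent.S0043.result against that frozen type. Keep the theorem IN THIS FILE
-- (a `result` declared elsewhere and merely imported here is not credited); helpers may live anywhere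
-- under Cfsg/Agent/.

set_option autoImplicit false
open Cfsg

namespace Cfsg.Agent.S0043

/-- A minimal normal subgroup of a finite solvable group is abelian, and for some prime p all of its elements have order dividing p. -/
theorem result {G : Type*} [Group G] [Finite G] [Group.IsSolvable G]
    (N : Subgroup G) [N.Normal] (hN : N ≠ ⊥) (hmin : ∀ M : Subgroup G, M.Normal → M ≤ N → M = ⊥ ∨ M = N) :
    IsMulCommutative N ∧ ∃ p : ℕ, p.Prime ∧ ∀ x ∈ N, x ^ p = 1 := by
  exact ⟨CfsgLib.Solvable.isMulCommutative_of_minimal_normal hN hmin,
    CfsgLib.Solvable.exists_prime_pow_eq_one_of_minimal_normal hN hmin⟩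

end Cfsg.Agent.S0043
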