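import Cfsg.Statements.S0664
import Cfsg.Agent.LocalEven.QdSection
import Cfsg.Agent.OddOrder.ZJ.Main
-- import your own Cfsg.Agent.* helpers here

set_option autoImplicit false
open Cfsg

namespace Cfsg.Agent.S0664

open Subgroup

/-- Glauberman's ZJ-Theorem in its section-free form: for odd p, a finite group with no section isomorphic to Qd(p) whose largest normal p-subgroup contains its centralizer has Z(J(S)) normal, J(S) the abelian-version Thompson subgroup of a Sylow p-subgroup S. -/
theorem result {G : Type*} [Group G] [Finite G] {p : ℕ} [Fact p.Prime] (hp : p ≠ 2) (hfree : ¬ ∃ (K R : Subgroup G) (hR : (R.subgroupOf K).Normal), Nonempty ((K ⧸ R.subgroupOf K) ≃* ↥(Cfsg.qd p))) (hc : Subgroup.centralizer (Cfsg.pCore p G : Set G) ≤ Cfsg.pCore p G) (S : Sylow p G) : (Cfsg.centerThompsonAOf ((S : Subgroup G))).Normal := by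
  have hst : CfsgLib.OddOrder.ZJ.QuadraticStable p G := by
    refine CfsgLib.OddOrder.ZJ.quadraticStable_of_isPStableOn fun P hPn hP a ha => ?_
    have hnst := CfsgLib.LocalEven.isNormalizerPStable_of_qdFree hp hfree P hP a
      (le_top.trans (normalizer_eq_top P).ge (mem_top a)) ha
    let f : ↥(normalizer (P : Set G)) →* G ⧸ centralizer (P : Set G) :=
      (QuotientGroup.mk' _).comp (normalizer (P : Set G)).subtype
    have hfs : Function.Surjective f := by
      intro y
      obtain ⟨z, rfl⟩ := QuotientGroup.mk'_surjective _ y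
      exact ⟨⟨z, le_top.trans (normalizer_eq_top P).ge (mem_top z)⟩, rfl⟩
    have hker : (centralizer (P : Set G)).subgroupOf (normalizer (P : Set G)) ≤ f.ker := fun c hc' => by
      rw [MonoidHom.mem_ker]
      exact (QuotientGroup.eq_one_iff _).mpr hc'
    have hls : Function.Surjective (QuotientGroup.lift _ f hker) :=
      fun y => let ⟨x, hx⟩ := hfs y; ⟨QuotientGroup.mk x, hx⟩
    exact CfsgLib.PLocal.map_pCore_le_of_surjective hls (Subgroup.mem_map_of_mem _ hnst)
  exact CfsgLib.OddOrder.ZJ.centerThompsonAOf_normal hp hst hc S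

end Cfsg.Agent.S0664
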