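import Cfsg.Statements.S1314
import Mathlib.GroupTheory.Commutator.Basic
import Mathlib.Tactic.Group

open scoped commutatorElement

set_option autoImplicit false
open Cfsg

namespace Cfsg.Agent.S1314

/-- Let x be an involution of a group G and L a perfect subgroup with ⁅L, x L x⁻¹⁆ = 1. Then l ↦ l (x l x⁻¹) is a group homomorphism π from L to G whose kernel is central in L and whose image lies in C_G(x); and the commutator subgroup of C_{L ⊔ xLx⁻¹}(x) equals the image of π. -/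
theorem result {G : Type*} [Group G] [Finite G] (x : G) (hx : orderOf x = 2) (L : Subgroup G) (hperf : ⁅L, L⁆ = L) (hcomm : ⁅L, L.map (MulAut.conj x).toMonoidHom⁆ = ⊥) : ∃ π : ↥L →* G, (∀ l : ↥L, π l = (l : G) * (x * (l : G) * x⁻¹)) ∧ π.ker ≤ Subgroup.center ↥L ∧ π.range ≤ Subgroup.centralizer ({x} : Set G) ∧ ⁅(L ⊔ L.map (MulAut.conj x).toMonoidHom) ⊓ Subgroup.centralizer ({x} : Set G), (L ⊔ L.map (MulAut.conj x).toMonoidHom) ⊓ Subgroup.centralizer ({x} : Set G)⁆ = π.range := by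
  set M := L.map (MulAut.conj x).toMonoidHom with hM
  have hx2 : x * x = 1 := by rw [← pow_two, ← hx]; exact pow_orderOf_eq_one x
  have hxinv : x⁻¹ = x := inv_eq_of_mul_eq_one_right hx2
  have hMmem : ∀ l ∈ L, x * l * x⁻¹ ∈ M := fun l hl => ⟨l, hl, by simp⟩
  have hLM : ∀ a ∈ L, ∀ b ∈ M, a * b = b * a := by
    intro a ha b hb
    have : ⁅a, b⁆ ∈ ⁅L, M⁆ := Subgroup.commutator_mem_commutator ha hb
    rw [hcomm, Subgroup.mem_bot] at this
    exact commutatorElement_eq_one_iff_mul_comm.1 this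
  let π : ↥L →* G :=
    { toFun := fun l => (l : G) * (x * (l : G) * x⁻¹)
      map_one' := by simp
      map_mul' := fun a b => by
        simp only [Subgroup.coe_mul]
        calc (a : G) * b * (x * (a * b) * x⁻¹)
            = a * (b * (x * a * x⁻¹)) * (x * b * x⁻¹) := by group
          _ = a * ((x * a * x⁻¹) * b) * (x * b * x⁻¹) := by rw [hLM b b.2 _ (hMmem a a.2)]
          _ = a * (x * a * x⁻¹) * (b * (x * b * x⁻¹)) := by group }
  have hπ : ∀ l : ↥L, π l = (l : G) * (x * (l : G) * x⁻¹) := fun _ => rfl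
  have hker : π.ker ≤ Subgroup.center ↥L := by
    intro l hl
    rw [MonoidHom.mem_ker, hπ] at hl
    have hlM : (l : G) ∈ M := by
      rw [eq_inv_of_mul_eq_one_left hl]
      exact inv_mem (hMmem l l.2)
    exact Subgroup.mem_center_iff.2 fun g => Subtype.ext (hLM g g.2 l hlM)
  have hfix : ∀ l : ↥L, x * π l * x⁻¹ = π l := by
    intro l
    rw [hπ]
    calc x * ((l : G) * (x * l * x⁻¹)) * x⁻¹
        = (x * l * x⁻¹) * ((x * x) * l * (x * x)⁻¹) := by group
      _ = (x * l * x⁻¹) * l := by rw [hx2]; simp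
      _ = l * (x * l * x⁻¹) := (hLM l l.2 _ (hMmem l l.2)).symm
  have hran : π.range ≤ Subgroup.centralizer ({x} : Set G) := by
    rintro _ ⟨l, rfl⟩
    rw [Subgroup.mem_centralizer_singleton_iff]
    exact (mul_inv_eq_iff_eq_mul.1 (hfix l)).symm
  refine ⟨π, hπ, hker, hran, ?_⟩
  have hRle : π.range ≤ (L ⊔ M) ⊓ Subgroup.centralizer ({x} : Set G) := by
    refine le_inf ?_ hran
    rintro _ ⟨l, rfl⟩
    exact mul_mem (le_sup_left (a := L) l.2) (le_sup_right (b := M) (hMmem l l.2))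
  have hRperf : ⁅π.range, π.range⁆ = π.range := by
    have htop : ⁅(⊤ : Subgroup ↥L), (⊤ : Subgroup ↥L)⁆ = ⊤ := by
      apply Subgroup.map_injective L.subtype_injective
      rw [Subgroup.map_commutator, ← MonoidHom.range_eq_map, Subgroup.range_subtype, hperf]
    calc ⁅π.range, π.range⁆ = (⁅(⊤ : Subgroup ↥L), (⊤ : Subgroup ↥L)⁆ : Subgroup ↥L).map π := by
          rw [Subgroup.map_commutator, MonoidHom.range_eq_map]
      _ = π.range := by rw [htop, MonoidHom.range_eq_map]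
  refine le_antisymm ?_ (hRperf.ge.trans (Subgroup.commutator_mono hRle hRle))
  have hsup : ∀ y ∈ L ⊔ M, ∃ a : ↥L, ∃ b : ↥L, y = (a : G) * (x * (b : G) * x⁻¹) := by
    intro y hy
    rw [Subgroup.sup_eq_closure] at hy
    induction hy using Subgroup.closure_induction with
    | mem z hz =>
      rcases hz with hz | hz
      · exact ⟨⟨z, hz⟩, 1, by simp⟩
      · obtain ⟨l, hl, rfl⟩ := hz
        exact ⟨1, ⟨l, hl⟩, by simp⟩
    | one => exact ⟨1, 1, by simp⟩
    | mul z w _ _ h1 h2 =>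
      obtain ⟨a, b, rfl⟩ := h1
      obtain ⟨c, d, rfl⟩ := h2
      refine ⟨a * c, b * d, ?_⟩
      simp only [Subgroup.coe_mul]
      calc (a : G) * (x * b * x⁻¹) * (c * (x * d * x⁻¹))
          = a * ((x * b * x⁻¹) * c) * (x * d * x⁻¹) := by group
        _ = a * (c * (x * b * x⁻¹)) * (x * d * x⁻¹) := by rw [hLM c c.2 _ (hMmem b b.2)]
        _ = a * c * (x * (b * d) * x⁻¹) := by group
    | inv z _ h1 =>
      obtain ⟨a, b, rfl⟩ := h1
      refine ⟨a⁻¹, b⁻¹, ?_⟩
      simp only [Subgroup.coe_inv]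
      calc ((a : G) * (x * b * x⁻¹))⁻¹ = ((x * b * x⁻¹) * a)⁻¹ := by rw [hLM a a.2 _ (hMmem b b.2)]
        _ = (a : G)⁻¹ * (x * (b : G)⁻¹ * x⁻¹) := by group
  have hdecomp : ∀ y ∈ (L ⊔ M) ⊓ Subgroup.centralizer ({x} : Set G),
      ∃ b : ↥L, ∀ u ∈ L ⊔ M, (y * (π b)⁻¹) * u = u * (y * (π b)⁻¹) := by
    rintro y ⟨hy, hyc⟩
    obtain ⟨a, b, rfl⟩ := hsup y hy
    refine ⟨b, ?_⟩
    replace hyc := Subgroup.mem_centralizer_singleton_iff.1 hyc
    have key : (a : G) * (b : G)⁻¹ = x * ((a : G) * (b : G)⁻¹) * x⁻¹ := by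
      have h1 : x * ((a : G) * (x * b * x⁻¹)) * x⁻¹ = (a : G) * (x * b * x⁻¹) := by
        rw [← hyc]; group
      have h2 : x * ((a : G) * (x * b * x⁻¹)) * x⁻¹ = (b : G) * (x * a * x⁻¹) := by
        calc x * ((a : G) * (x * b * x⁻¹)) * x⁻¹
            = (x * a * x⁻¹) * ((x * x) * b * (x * x)⁻¹) := by group
          _ = (x * a * x⁻¹) * b := by rw [hx2]; simp
          _ = b * (x * a * x⁻¹) := (hLM b b.2 _ (hMmem a a.2)).symm
      have h3 := h1.symm.trans h2
      calc (a : G) * (b : G)⁻¹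
          = ((a : G) * (x * b * x⁻¹)) * ((x * b * x⁻¹)⁻¹ * (b : G)⁻¹) := by group
        _ = (b : G) * (x * a * x⁻¹) * ((x * b * x⁻¹)⁻¹ * (b : G)⁻¹) := by rw [h3]
        _ = (b : G) * (x * ((a : G) * (b : G)⁻¹) * x⁻¹) * (b : G)⁻¹ := by group
        _ = _ := by rw [hLM b b.2 _ (hMmem _ (mul_mem a.2 (inv_mem b.2)))]; group
    have hcM : (a : G) * (b : G)⁻¹ ∈ M := by
      rw [key]; exact hMmem _ (mul_mem a.2 (inv_mem b.2))
    have hy' : (a : G) * (x * b * x⁻¹) * (π b)⁻¹ = (a : G) * (b : G)⁻¹ := by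
      rw [hπ]; group
    intro u hu
    rw [hy']
    rw [Subgroup.sup_eq_closure] at hu
    induction hu using Subgroup.closure_induction with
    | mem z hz =>
      rcases hz with hz | hz
      · exact (hLM z hz _ hcM).symm
      · exact hLM _ (mul_mem a.2 (inv_mem b.2)) z hz
    | one => simp
    | mul z w _ _ h1 h2 => exact Commute.mul_right h1 h2
    | inv z _ h1 => exact Commute.inv_right h1
  rw [Subgroup.commutator_le]
  intro y hy z hz
  obtain ⟨b, hb⟩ := hdecomp y hy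
  obtain ⟨d, hd⟩ := hdecomp z hz
  have hP : ∀ l : ↥L, π l ∈ L ⊔ M := fun l => (hRle ⟨l, rfl⟩).1
  have e : ⁅y, z⁆ = π ⁅b, d⁆ := by
    rw [map_commutatorElement]
    set u := y * (π b)⁻¹ with hu
    set v := z * (π d)⁻¹ with hv
    have hy' : y = u * π b := by simp [hu]
    have hz' : z = v * π d := by simp [hv]
    have hum : u ∈ L ⊔ M := mul_mem hy.1 (inv_mem (hP b))
    have huv : Commute u v := hb v (mul_mem hz.1 (inv_mem (hP d)))
    have hu1 : Commute u (π d) := hb _ (hP d)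
    have hv1 : Commute v (π b) := hd _ (hP b)
    have hvd : Commute v (π d) := hd _ (hP d)
    have hub : Commute u (π b) := hb _ (hP b)
    have hW : Commute (u * v) (π b * π d * (π b)⁻¹ * (π d)⁻¹) :=
      (((hub.mul_right hu1).mul_right hub.inv_right).mul_right hu1.inv_right).mul_left
        (((hv1.mul_right hvd).mul_right hv1.inv_right).mul_right hvd.inv_right)
    rw [hy', hz', commutatorElement_def, commutatorElement_def]
    calc u * π b * (v * π d) * (u * π b)⁻¹ * (v * π d)⁻¹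
        = u * (π b * v) * π d * (π b)⁻¹ * u⁻¹ * (π d)⁻¹ * v⁻¹ := by group
      _ = u * (v * π b) * π d * (π b)⁻¹ * ((π d)⁻¹ * u⁻¹) * v⁻¹ := by
          rw [hv1.eq.symm, mul_assoc _ u⁻¹ (π d)⁻¹, (hu1.inv_inv).eq]
      _ = (u * v) * (π b * π d * (π b)⁻¹ * (π d)⁻¹) * (v * u)⁻¹ := by group
      _ = (π b * π d * (π b)⁻¹ * (π d)⁻¹) * (u * v) * (v * u)⁻¹ := by rw [hW.eq]
      _ = _ := by rw [huv.eq]; group
  rw [e]
  exact ⟨_, rfl⟩

end Cfsg.Agent.S1314
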