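import Cfsg.Statements.S0636
import Cfsg.Agent.Transfer.RankTwoNormal
-- import your own Cfsg.Agent.* helpers here

set_option autoImplicit false
open Cfsg

namespace Cfsg.Agent.S0636

open Subgroup
open scoped commutatorElement

theorem le_upper_two {S : Type*} [Group S] [Finite S] {p : ℕ} [hp : Fact p.Prime] (hS : IsPGroup p S)
    (A : Subgroup S) [A.Normal] (hA : Nat.card A = p ^ 2) : A ≤ Subgroup.upperCentralSeries S 2 := by
  obtain ⟨M, hMn, hMA, hM⟩ := CfsgLib.OddOrder.BG4.exists_normal_card_le hS A 1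
    (by rw [hA]; exact Nat.pow_le_pow_right hp.out.pos (by norm_num))
  haveI := hMn
  rw [pow_one] at hM
  have hMc : M ≤ center S := CfsgLib.OddOrder.BG4.le_center_of_normal_card_prime hS hM
  haveI : (A.map (QuotientGroup.mk' M)).Normal := (inferInstance : A.Normal).map _ (QuotientGroup.mk'_surjective M)
  have hcard : Nat.card ↥(A.map (QuotientGroup.mk' M)) = p := by
    have h1 := Subgroup.relIndex_mul_relIndex ⊥ M A bot_le hMA
    rw [Subgroup.relIndex_bot_left, Subgroup.relIndex_bot_left, hM, hA, sq] at h1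
    have h2 : M.relIndex A = p := Nat.eq_of_mul_eq_mul_left hp.out.pos h1
    rw [← h2, ← Subgroup.relIndex_bot_left (A.map (QuotientGroup.mk' M)),
      show (⊥ : Subgroup (S ⧸ M)) = M.map (QuotientGroup.mk' M) by rw [QuotientGroup.map_mk'_self],
      Subgroup.relIndex_map_map, QuotientGroup.ker_mk', sup_idem, sup_eq_left.2 hMA]
  have hc := CfsgLib.OddOrder.BG4.le_center_of_normal_card_prime (hS.to_quotient M) hcard
  intro a ha
  rw [show (2 : ℕ) = 1 + 1 from rfl, Subgroup.mem_upperCentralSeries_succ_iff]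
  intro y
  rw [Subgroup.upperCentralSeries_one]
  apply hMc
  rw [← QuotientGroup.eq_one_iff]
  show QuotientGroup.mk' M ⁅a, y⁆ = 1
  rw [map_commutatorElement, commutatorElement_eq_one_iff_mul_comm]
  exact (Subgroup.mem_center_iff.1 (hc (mem_map_of_mem _ ha)) (QuotientGroup.mk' M y)).symm

/-- For odd p, every non-cyclic normal subgroup of a p-group contains a normal elementary abelian subgroup of the whole group of order p². -/
theorem result {R : Type*} [Group R] [Finite R] {p : ℕ} [Fact p.Prime] (hp : p ≠ 2) (hR : IsPGroup p R) (S : Subgroup R) [S.Normal] (hS : ¬ IsCyclic S) : ∃ A : Subgroup R, A ≤ S ∧ A.Normal ∧ Cfsg.IsElementaryAbelian p A ∧ Nat.card A = p ^ 2 := by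
  haveI : (Subgroup.upperCentralSeries ↥S 2).Characteristic := inferInstance
  let Z := (Subgroup.upperCentralSeries ↥S 2).map S.subtype
  haveI : Z.Normal := ConjAct.normal_of_characteristic_of_normal
  let Ω : Subgroup R :=
    { carrier := {x | x ∈ Z ∧ x ^ p = 1}
      one_mem' := ⟨one_mem _, one_pow _⟩
      inv_mem' := fun {x} hx => ⟨inv_mem hx.1, by rw [inv_pow, hx.2, inv_one]⟩
      mul_mem' := fun {x y} hx hy => ⟨mul_mem hx.1 hy.1, by
        obtain ⟨x', hx', rfl⟩ := hx.1
        obtain ⟨y', hy', rfl⟩ := hy.1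
        have h := CfsgLib.OddOrder.BG4.mul_pow_eq_one (x := x') (y := y') hp ?_
          (Subtype.ext hx.2) (Subtype.ext hy.2)
        · exact congrArg (Subtype.val) h
        · intro z
          have h2 : y' * x' * y'⁻¹ * x'⁻¹ ∈ Subgroup.upperCentralSeries ↥S 1 :=
            (Subgroup.mem_upperCentralSeries_succ_iff (n := 1)).1 hy' x'
          rw [Subgroup.upperCentralSeries_one] at h2
          exact (Subgroup.mem_center_iff.1 h2 z).symm⟩ }
  haveI : Ω.Normal := ⟨fun x hx g => ⟨Subgroup.Normal.conj_mem inferInstance x hx.1 g, by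
    rw [conj_pow, hx.2, mul_one, mul_inv_cancel]⟩⟩
  obtain ⟨A, hAn, hA, hAc⟩ := CfsgLib.Transfer.exists_normal_elem_card_sq hp (hR.to_subgroup S) hS
  have hAΩ : A.map S.subtype ≤ Ω := by
    rintro _ ⟨a, ha, rfl⟩
    exact ⟨mem_map_of_mem _ (le_upper_two (hR.to_subgroup S) A hAc ha), congrArg Subtype.val (hA.2 a ha)⟩
  obtain ⟨M, hMn, hMΩ, hM⟩ := CfsgLib.OddOrder.BG4.exists_normal_card_le hR Ω 2 (by
    rw [← hAc, ← Subgroup.card_map_of_injective (f := S.subtype) S.subtype_injective (K := A)]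
    exact Subgroup.card_le_of_le hAΩ)
  haveI : IsMulCommutative ↥M := ⟨⟨IsPGroup.commutative_of_card_eq_prime_sq hM⟩⟩
  exact ⟨M, fun x hx => map_subtype_le _ (hMΩ hx).1, hMn, ⟨inferInstance, fun x hx => (hMΩ hx).2⟩, hM⟩

end Cfsg.Agent.S0636
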