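import Cfsg.Statements.S3333
import Cfsg.Agent.SylowThreeNine.Dihedral.Structure
import Cfsg.Agent.SylowThreeNine.Exponent

set_option autoImplicit false
open Cfsg

namespace Cfsg.Agent.S3333

/-- Let G be a finite group with a Sylow 3-subgroup S of order 9 that is its own centralizer, with N_G(S)/S dihedral of order 8, and such that C_G(x) ≤ N_G(S) for every non-identity x in S. Then S is normal in G or G is isomorphic to the symmetric group of degree 6. -/
theorem result {G : Type*} [Group G] [Finite G]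
    (P : Sylow 3 G) (S : Subgroup G) (hSP : S = P) (hcard : Nat.card S = 9)
    (hC : Subgroup.centralizer (S : Set G) = S)
    (eN : Subgroup.normalizer (S : Set G) ⧸ S.subgroupOf (Subgroup.normalizer (S : Set G)) ≃* DihedralGroup 4)
    (hcent : ∀ x ∈ S, x ≠ 1 → Subgroup.centralizer ({x} : Set G) ≤ Subgroup.normalizer (S : Set G)) :
    S.Normal ∨ Nonempty (G ≃* Equiv.Perm (Fin 6)) := by
  classical
  haveI : Fact (Nat.Prime 3) := ⟨Nat.prime_three⟩
  haveI : Fact (Nat.Prime 2) := ⟨Nat.prime_two⟩
  set N := Subgroup.normalizer (S : Set G) with hN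
  haveI : (S.subgroupOf N).Normal := Subgroup.normal_in_normalizer
  have hcomm : ∀ a ∈ S, ∀ b ∈ S, a * b = b * a := fun a ha b hb => by
    have hb' : b ∈ Subgroup.centralizer (S : Set G) := by rw [hC]; exact hb
    exact Subgroup.mem_centralizer_iff.1 hb' a ha
  have hnd : ¬ 27 ∣ Nat.card G := fun h => by
    have hP := P.pow_dvd_card_of_pow_dvd_card (n := 3) (show 3 ^ 3 ∣ Nat.card G from h)
    rw [← hSP, hcard] at hP
    norm_num at hP
  -- the Sylow subgroup has exponent three
  have hexp : ∀ a ∈ S, a * a * a = 1 :=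
    CfsgLib.SylowThreeNine.exp_three_of_dihedral hcard hC eN
  let c : CfsgLib.SylowThreeNine.Setup G :=
    { S := S, card_eq := hcard, exp := hexp, comm := hcomm, not_dvd := hnd, cent := hcent }
  have hcentS : ∀ g : G, (∀ a ∈ c.S, g * a = a * g) → g ∈ c.S := fun g hg => by
    show g ∈ S
    rw [← hC]
    exact Subgroup.mem_centralizer_iff.2 fun a ha => (hg a ha).symm
  have h8 : Nat.card (N ⧸ S.subgroupOf N) = 8 := by
    rw [Nat.card_congr eN.toEquiv, DihedralGroup.nat_card]
  have h72 : Nat.card N = 2 ^ 3 * 9 := by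
    rw [Subgroup.card_eq_card_quotient_mul_card_subgroup (S.subgroupOf N), h8,
      Nat.card_congr (Subgroup.subgroupOfEquivOfLe Subgroup.le_normalizer).toEquiv, hcard]
    norm_num
  obtain ⟨Q⟩ : Nonempty (Sylow 2 N) := inferInstance
  have hQ : Nat.card (Q : Subgroup N) = 8 := by
    rw [CfsgLib.Small.card_sylow_eq h72 (by norm_num)]; norm_num
  let π : (Q : Subgroup N) →* N ⧸ S.subgroupOf N :=
    (QuotientGroup.mk' (S.subgroupOf N)).comp (Q : Subgroup N).subtype
  have hπ : Function.Injective π := by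
    rw [injective_iff_map_eq_one]
    intro a ha
    have hS : ((a : N) : G) ∈ S := (QuotientGroup.eq_one_iff (a : N)).1 ha
    have h8' : ((a : N) : G) ^ 8 = 1 := by
      have h := pow_card_eq_one' (x := a)
      rw [hQ] at h
      exact congrArg (fun z : (Q : Subgroup N) => ((z : N) : G)) h
    have h3 : ((a : N) : G) ^ 3 = 1 := by rw [pow_succ, pow_two]; exact hexp _ hS
    refine Subtype.ext (Subtype.ext ?_)
    have := pow_gcd_eq_one.2 ⟨h8', h3⟩
    simpa using this
  obtain ⟨F⟩ := CfsgLib.SylowThreeNine.Dihedral.exists_frame c hcentS Q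
    ((MulEquiv.ofBijective π ((Nat.bijective_iff_injective_and_card π).2 ⟨hπ, by rw [hQ, h8]⟩)).trans eN)
  rcases F.normal_or_symSix with h | h
  · exact Or.inl (Subgroup.normalizer_eq_top_iff.1 h)
  · exact Or.inr h

end Cfsg.Agent.S3333
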