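import Cfsg.Statements.S3805
import Cfsg.Agent.SylowThreeNine.Klein.Main

set_option autoImplicit false
open Cfsg

namespace Cfsg.Agent.S3805

/-- Let G be a finite group whose Sylow 3-subgroup T is elementary abelian of order 9 and self-centralizing, with N_G(T)/T a Klein four-group, and suppose that the centralizer of every nonidentity element of T lies in N_G(T). Then T is normal in G. -/
theorem result {G : Type*} [Group G] [Finite G]
    (T : Sylow 3 G) (hT : Cfsg.IsElementaryAbelian 3 (T : Subgroup G)) (hcard : Nat.card T = 9)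
    (hC : Subgroup.centralizer ((T : Subgroup G) : Set G) = T)
    [hn : ((T : Subgroup G).subgroupOf (Subgroup.normalizer ((T : Subgroup G) : Set G))).Normal]
    (hK : IsKleinFour (↥(Subgroup.normalizer ((T : Subgroup G) : Set G)) ⧸
      (T : Subgroup G).subgroupOf (Subgroup.normalizer ((T : Subgroup G) : Set G))))
    (hloc : ∀ t ∈ (T : Subgroup G), t ≠ 1 →
      Subgroup.centralizer ({t} : Set G) ≤ Subgroup.normalizer ((T : Subgroup G) : Set G)) :
    Subgroup.normalizer ((T : Subgroup G) : Set G) = ⊤ := by
  classical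
  haveI : Fact (Nat.Prime 3) := ⟨Nat.prime_three⟩
  obtain ⟨-, hexp⟩ := hT
  have hcub : ∀ a ∈ (T : Subgroup G), a ^ 3 = 1 := fun a ha => by
    simpa using hexp a ha
  let c : CfsgLib.SylowThreeNine.Setup G :=
    { S := T
      card_eq := hcard
      exp := fun a ha => by rw [← pow_two, ← pow_succ]; exact hcub a ha
      comm := fun a ha b hb => by
        have hb' : b ∈ Subgroup.centralizer ((T : Subgroup G) : Set G) := by rw [hC]; exact hb
        exact Subgroup.mem_centralizer_iff.1 hb' a ha
      not_dvd := fun h => by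
        have hP := T.pow_dvd_card_of_pow_dvd_card (n := 3) (show 3 ^ 3 ∣ Nat.card G from h)
        rw [hcard] at hP
        norm_num at hP
      cent := hloc }
  have hcent : ∀ g : G, (∀ a ∈ c.S, g * a = a * g) → g ∈ c.S := fun g hg => by
    show g ∈ (T : Subgroup G)
    rw [← hC]
    exact Subgroup.mem_centralizer_iff.2 fun a ha => (hg a ha).symm
  set N := Subgroup.normalizer ((T : Subgroup G) : Set G) with hN
  have hN36 : Nat.card N = 36 := by
    rw [Subgroup.card_eq_card_quotient_mul_card_subgroup ((T : Subgroup G).subgroupOf N), hK.card_four,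
      Nat.card_congr (Subgroup.subgroupOfEquivOfLe Subgroup.le_normalizer).toEquiv, hcard]
  have hsq : ∀ n ∈ N, n * n ∈ c.S := fun n hn => by
    have h := Monoid.pow_exponent_eq_one (QuotientGroup.mk (⟨n, hn⟩ : N) : N ⧸ (T : Subgroup G).subgroupOf N)
    rw [hK.exponent_two, pow_two, ← QuotientGroup.mk_mul, QuotientGroup.eq_one_iff] at h
    exact h
  obtain ⟨A⟩ := CfsgLib.SylowThreeNine.Klein.exists_axes c hcent hN36 hsq
  exact A.normalizer_eq_top

end Cfsg.Agent.S3805
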