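import Cfsg.Statements.S3341
import Cfsg.Agent.SylowThreeNine.AltSix
import Cfsg.Agent.S0497

set_option autoImplicit false
open Cfsg

namespace Cfsg.Agent.S3341

/-- Let G be a finite simple group whose Sylow 3-subgroup S is elementary abelian of order 9, such that G has more than one conjugacy class of elements of order 3 and C_G(s) = S for every non-identity s in S. Then G is isomorphic to the alternating group of degree 6. -/
theorem result {G : Type*} [Group G] [Finite G] [IsSimpleGroup G]
    (P : Sylow 3 G) (S : Subgroup G) (hSP : S = P) (hcomm : IsMulCommutative S) (hexp : ∀ a ∈ S, a ^ 3 = 1)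
    (hcard : Nat.card S = 9)
    (hclasses : ∃ a b : G, orderOf a = 3 ∧ orderOf b = 3 ∧ ∀ g : G, g * a * g⁻¹ ≠ b)
    (hcent : ∀ s ∈ S, s ≠ 1 → Subgroup.centralizer ({s} : Set G) = S) :
    Nonempty (G ≃* alternatingGroup (Fin 6)) := by
  classical
  haveI := Fintype.ofFinite G
  haveI : Fact (Nat.Prime 3) := ⟨Nat.prime_three⟩
  obtain ⟨a, b, ha, hb, hab⟩ := hclasses
  have hG : ¬ IsMulCommutative G := by
    intro hG
    obtain ⟨s, hs, hs1⟩ := (Subgroup.bot_or_exists_ne_one S).resolve_left fun e => by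
      rw [e, Subgroup.card_bot] at hcard
      omega
    have htop : S = ⊤ := by
      rw [← hcent s hs hs1, eq_top_iff]
      exact fun g _ => Subgroup.mem_centralizer_singleton_iff.2 (hG.is_comm.comm g s)
    rcases (inferInstance : IsSimpleGroup G).eq_bot_or_eq_top_of_normal (Subgroup.zpowers s)
      ⟨fun n hn g => by rw [hG.is_comm.comm g n, mul_inv_cancel_right]; exact hn⟩ with e | e
    · exact hs1 (Subgroup.zpowers_eq_bot.1 e)
    · have h9 := congrArg (fun H : Subgroup G => Nat.card H) e
      simp only [Nat.card_zpowers] at h9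
      rw [← htop, hcard] at h9
      have := orderOf_dvd_of_pow_eq_one (hexp s hs)
      rw [h9] at this
      norm_num at this
  let c : CfsgLib.SylowThreeNine.Setup G :=
    { S := S
      card_eq := hcard
      exp := fun x hx => by rw [← pow_two, ← pow_succ]; exact hexp x hx
      comm := fun x hx y hy => congrArg Subtype.val (hcomm.is_comm.comm ⟨x, hx⟩ ⟨y, hy⟩)
      not_dvd := fun h => by
        have hP := P.pow_dvd_card_of_pow_dvd_card (n := 3) (show 3 ^ 3 ∣ Nat.card G from h)
        rw [← hSP, hcard] at hP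
        norm_num at hP
      cent := fun s hs hs1 => (hcent s hs hs1).le.trans Subgroup.le_normalizer }
  have hmove : ∀ y : G, orderOf y = 3 → ∃ z ∈ S, z ≠ 1 ∧ IsConj y z := by
    intro y hy
    obtain ⟨Q, hQ⟩ := (IsPGroup.of_card (n := 1) (by rw [Nat.card_zpowers, hy, pow_one]) :
      IsPGroup 3 (Subgroup.zpowers y)).exists_le_sylow
    obtain ⟨g, hg⟩ := MulAction.exists_smul_eq G Q P
    refine ⟨g * y * g⁻¹, ?_, fun e => ?_, isConj_iff.2 ⟨g, rfl⟩⟩
    · rw [hSP, ← hg, Sylow.coe_subgroup_smul]
      exact ⟨y, hQ (Subgroup.mem_zpowers y), rfl⟩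
    · rw [conj_eq_one_iff.1 e, orderOf_one] at hy
      norm_num at hy
  obtain ⟨x, hx, hx1, hax⟩ := hmove a ha
  obtain ⟨y, hy, hy1, hby⟩ := hmove b hb
  have hxy : ¬ IsConj x y := fun h => by
    obtain ⟨g, hg⟩ := isConj_iff.1 ((hax.trans h).trans hby.symm)
    exact hab g hg
  exact Cfsg.Agent.S0497.result (c.card_eq_360 hcent hG hx hx1 hy hy1 hxy)

end Cfsg.Agent.S3341
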