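import Cfsg.Statements.S4637
import Cfsg.Agent.InertialQuotient.KleinFour

set_option autoImplicit false
open Cfsg CfsgLib.BlockPairs CfsgLib.InertialQuotient

namespace Cfsg.Agent.S4637

/-- Let B be a block of the finite group G relative to a maximal ideal M of the algebraic integers containing 2, with a Klein four defect group P. Let c be a block of C_G(P) inducing B, T the stabilizer of c in N_G(P) and e the index of C_G(P) in T (the inertial index). Then e is 1 or 3, B contains exactly four irreducible characters, and the 2-regular rank of B (its number of irreducible Brauer characters) equals e. -/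
theorem result {G : Type*} [Group G] [Finite G] (M : Ideal Cfsg.AlgInt) (hM : Cfsg.IsPModular 2 M) (B : Set (Cfsg.IrrCharacter G)) (hB : Cfsg.IsPBlock M B) (P : Subgroup G) (hPD : Cfsg.IsDefectGroup 2 M B P) (hV : IsKleinFour P) (c : Set (Cfsg.IrrCharacter (Subgroup.centralizer (P : Set G)))) (hc : Cfsg.IsInducedBlock M (Subgroup.centralizer (P : Set G)) c B) (T : Subgroup G) (hT : ∀ g : G, g ∈ T ↔ (g ∈ Subgroup.normalizer (P : Set G) ∧ Cfsg.StabilizesBlock (Subgroup.centralizer (P : Set G)) c g)) (e : ℕ) (he : (Subgroup.centralizer (P : Set G)).relIndex T = e) : (e = 1 ∨ e = 3) ∧ Nat.card B = 4 ∧ Cfsg.blockRank 2 B = e := by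
  haveI := CfsgLib.Blocks.IsPModular.isPrime hM
  haveI := CfsgLib.Blocks.charP_res hM
  haveI := CfsgLib.BlockPairs.isAlgClosed_res hM
  haveI : Fact (Nat.Prime 2) := ⟨Nat.prime_two⟩
  haveI := Fintype.ofFinite G
  haveI := hV
  have hab : P ≤ Subgroup.centralizer (P : Set G) := klein_le_centralizer
  obtain ⟨hgb, hmax⟩ := maxPair_of_induced hM hPD hab hc
  obtain rfl := stab_eq hc.1 hT
  set E := sblk M (Subgroup.centralizer (P : Set G)) c
  obtain ⟨u, hu, hu1, -⟩ := exists_ne_klein (P := P) 1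
  let H := (Subgroup.centralizer (P : Set G)).subgroupOf (stab ⊤ P E)
  have hidx : H.index = e := he
  let φ : stab ⊤ P E ⧸ H → {y : P // (y : G) ≠ 1} := Quotient.lift
    (fun g => ⟨⟨g.1 * u * g.1⁻¹, (Subgroup.mem_normalizer_iff.1 g.2.1.2 u).1 hu⟩,
      fun h => hu1 (conj_eq_one_iff.1 h)⟩) (fun a b hab' => by
      have h : (a⁻¹ * b).1 ∈ Subgroup.centralizer (P : Set G) :=
        Subgroup.mem_subgroupOf.1 ((QuotientGroup.leftRel_apply (s := H)).1 hab')
      have hcu := Subgroup.mem_centralizer_iff.1 h u hu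
      push_cast at hcu
      refine Subtype.ext (Subtype.ext ?_)
      show (a : G) * u * (a : G)⁻¹ = (b : G) * u * (b : G)⁻¹
      calc (a : G) * u * (a : G)⁻¹ = (a : G) * (u * ((a : G)⁻¹ * b)) * (b : G)⁻¹ := by group
        _ = (b : G) * u * (b : G)⁻¹ := by rw [hcu]; group)
  have hφ : Function.Injective φ := fun q r => Quotient.inductionOn₂ q r fun a b h => by
    have h' : (a : G) * u * (a : G)⁻¹ = (b : G) * u * (b : G)⁻¹ :=
      congrArg (fun z : {y : P // (y : G) ≠ 1} => ((z.1 : P) : G)) h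
    refine Quotient.sound (QuotientGroup.leftRel_apply.2 (Subgroup.mem_subgroupOf.2 ?_))
    refine klein_free hc.2.1 hmax (a⁻¹ * b).2 hu hu1 ?_
    push_cast
    calc (a : G)⁻¹ * b * u * ((a : G)⁻¹ * b)⁻¹
        = (a : G)⁻¹ * ((b : G) * u * (b : G)⁻¹) * a := by group
      _ = u := by rw [← h']; group
  have h3 : Nat.card {y : P // (y : G) ≠ 1} = 3 := by
    classical
    haveI := Fintype.ofFinite P
    have h4 : Fintype.card P = 4 := by
      rw [← Nat.card_eq_fintype_card]; exact IsKleinFour.card_four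
    rw [Nat.card_eq_fintype_card, Fintype.card_subtype_compl, h4,
      (Fintype.card_eq_one_iff.2 ⟨⟨1, rfl⟩, fun z => Subtype.ext (Subtype.ext z.2)⟩ :
        Fintype.card {y : P // (y : G) = 1} = 1)]
  have hq : Nat.card (stab ⊤ P E ⧸ H) = e := hidx
  have hle3 : e ≤ 3 := by rw [← hq, ← h3]; exact Nat.card_le_card_of_injective φ hφ
  have hne0 : e ≠ 0 := hidx ▸ H.index_ne_zero_of_finite
  have hne2 : e ≠ 2 := fun h2 => by
    have hi : H.index = 2 := hidx.trans h2
    have htop : H = ⊤ := eq_top_iff.2 fun g _ => Subgroup.mem_subgroupOf.2 <|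
      mem_centralizer_of_pow hgb hmax hab g.2 1
        (by rw [pow_one, sq]; exact Subgroup.mem_subgroupOf.1 (Subgroup.mul_self_mem_of_index_two hi g))
    rw [htop, Subgroup.index_top] at hi
    omega
  have hk := card_klein hM hc.2.1 hPD hmax
  refine ⟨by omega, hk, ?_⟩
  rcases (by omega : e = 1 ∨ e = 3) with h1 | h1
  · subst h1
    have hn := nilp_of_stab_le hc.2.1 hab hmax fun g hg => Subgroup.mem_subgroupOf.1
      (show (⟨g, hg⟩ : stab ⊤ P E) ∈ H by rw [Subgroup.index_eq_one.1 hidx]; trivial)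
    have hge := card_ge_of_nilp hM hc.2.1 hPD hab hn
    have hl := CfsgLib.BlockPairing.one_le_blockRank (p := 2)
      (CfsgLib.Blocks.isPBlock_nonempty hc.2.1)
    rw [hk, IsKleinFour.card_four] at hge
    omega
  · have hsurj := ((Nat.bijective_iff_injective_and_card φ).2
      ⟨hφ, by rw [hq, h3, h1]⟩).2
    have htr : ∀ y ∈ P, y ≠ 1 → ∃ t ∈ stab ⊤ P E, t * y * t⁻¹ = u := fun y hy hy1 => by
      obtain ⟨q, hqy⟩ := hsurj ⟨⟨y, hy⟩, hy1⟩
      induction q using Quotient.inductionOn with
      | h a =>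
        have h' : (a : G) * u * (a : G)⁻¹ = y :=
          congrArg (fun z : {y : P // (y : G) ≠ 1} => ((z.1 : P) : G)) hqy
        exact ⟨(a : G)⁻¹, inv_mem a.2, by rw [← h']; group⟩
    have := card_eq_rank_add_one hM hc.2.1 hmax hu hu1 htr
    omega

end Cfsg.Agent.S4637
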