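import Cfsg.Statements.S4648
import Cfsg.Agent.SmallBlock.Counting
import Cfsg.Agent.SmallBlock.Inertial

set_option autoImplicit false
open Cfsg

namespace Cfsg.Agent.S4648

/-- Let B be a block of the finite group G relative to a maximal ideal M of the algebraic integers containing the prime p, with a nontrivial defect group D. If B has p-regular rank 1 and at most four irreducible characters, then B is nilpotent, D has exactly as many elements as B has irreducible characters, and p is 2 or 3. -/
theorem result {G : Type*} [Group G] [Finite G] (p : ℕ) [Fact p.Prime] (M : Ideal Cfsg.AlgInt) (hM : Cfsg.IsPModular p M) (B : Set (Cfsg.IrrCharacter G)) (hB : Cfsg.IsPBlock M B) (D : Subgroup G) (hD : Cfsg.IsDefectGroup p M B D) (hD1 : D ≠ ⊥) (hl : Cfsg.blockRank p B = 1) (hk : Nat.card B ≤ 4) : Cfsg.IsNilpotentBlock p M B ∧ Nat.card D = Nat.card B ∧ (p = 2 ∨ p = 3) := by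
  classical
  haveI := Fintype.ofFinite G
  haveI := CfsgLib.Blocks.IsPModular.isPrime hM
  have hp : p.Prime := Fact.out
  have hDc := CfsgLib.Blocks.card_defectGroup hM hB hD
  have hkD : Nat.card B = Nat.card D :=
    (CfsgLib.SmallBlock.card_eq_pow_defect hM hB hl hk).trans hDc.symm
  refine ⟨CfsgLib.SmallBlock.isNilpotentBlock_of_small hM hB hD hkD hl (hkD ▸ hk), hkD.symm, ?_⟩
  have hd : Cfsg.blockDefect p B ≠ 0 := fun h => hD1 (by
    rw [h, pow_zero] at hDc
    exact Subgroup.card_eq_one.1 hDc)
  have hle : p ≤ 4 := by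
    rw [hkD, hDc] at hk
    exact (Nat.le_self_pow hd p).trans hk
  have h2 := hp.two_le
  rcases (by omega : p = 2 ∨ p = 3 ∨ p = 4) with h | h | h
  · exact Or.inl h
  · exact Or.inr h
  · subst h; norm_num at hp

end Cfsg.Agent.S4648
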