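import Cfsg.Statements.S4607
import Cfsg.Agent.S4733
import Cfsg.Agent.BlockPairing.DefectOne
import Cfsg.Agent.BlockPairs.RegularSpan
import Cfsg.Agent.BlocksLocal.TwoCharacters

set_option autoImplicit false
set_option linter.style.haveILetI false
open Cfsg CfsgLib.Blocks
open scoped ComplexConjugate

namespace Cfsg.Agent.S4607

/-- Two positive odd squares, coprime, with sum a power of two, sum to two. -/
private theorem exp_eq_one {c c' m : ℤ} {d : ℕ} (hd : d ≠ 0) (hc : 0 ≤ c) (hc' : 0 ≤ c')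
    (h2 : ¬ (2 : ℤ) ∣ c) (hsum : c + c' = 2 ^ d) (hsq : c * c' = m ^ 2) : d = 1 := by
  obtain ⟨d, rfl⟩ : ∃ k, d = k + 1 := ⟨d - 1, by omega⟩
  have hcop : IsCoprime c c' := by
    have h1 : IsCoprime c ((2 : ℤ) ^ (d + 1)) :=
      ((Int.prime_two.coprime_iff_not_dvd).2 h2).symm.pow_right
    rw [← hsum] at h1
    simpa using (h1.add_mul_left_right (-1))
  have hsquare : ∀ {x y : ℤ}, IsCoprime x y → x * y = m ^ 2 → 0 ≤ x → ∃ a, x = a ^ 2 := by
    intro x y hxy he hx
    obtain ⟨a, ha | ha⟩ := Int.sq_of_isCoprime hxy he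
    · exact ⟨a, ha⟩
    · exact ⟨0, by nlinarith [sq_nonneg a]⟩
  obtain ⟨a, rfl⟩ := hsquare hcop hsq hc
  obtain ⟨b, rfl⟩ := hsquare hcop.symm (by rw [mul_comm, hsq]) hc'
  have ha : ¬ (2 : ℤ) ∣ a := fun h => h2 (h.pow two_ne_zero)
  have hb : ¬ (2 : ℤ) ∣ b := fun h => h2 (by
    have : a ^ 2 = 2 ^ (d + 1) - b ^ 2 := by linarith
    rw [this]
    exact dvd_sub (dvd_pow_self 2 (Nat.succ_ne_zero d)) (h.pow two_ne_zero))
  obtain ⟨x, rfl⟩ : Odd a := Int.not_even_iff_odd.1 fun h => ha (even_iff_two_dvd.1 h)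
  obtain ⟨y, rfl⟩ : Odd b := Int.not_even_iff_odd.1 fun h => hb (even_iff_two_dvd.1 h)
  by_contra hne
  obtain ⟨e, rfl⟩ : ∃ e, d = e + 1 := ⟨d - 1, by omega⟩
  have h4 : (4 : ℤ) * (x * x + x + (y * y + y)) + 2 = 4 * 2 ^ e := by
    rw [pow_succ (2 : ℤ) (e + 1), pow_succ (2 : ℤ) e] at hsum
    linear_combination hsum
  omega

/-- Let G be a finite group, p a prime, M a maximal ideal of the algebraic integers containing p, and B a p-block of G with defect group D. Then B contains exactly two irreducible characters if and only if D has order 2. -/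
theorem result {G : Type*} [Group G] [Finite G] (p : ℕ) [Fact p.Prime] (M : Ideal Cfsg.AlgInt) (hM : Cfsg.IsPModular p M) (B : Set (Cfsg.IrrCharacter G)) (hB : Cfsg.IsPBlock M B) (D : Subgroup G) (hD : Cfsg.IsDefectGroup p M B D) : Nat.card B = 2 ↔ Nat.card D = 2 := by
  classical
  letI : Fintype G := Fintype.ofFinite G
  haveI := IsPModular.isPrime hM
  have hp : p.Prime := Fact.out
  have hDc := card_defectGroup hM hB hD
  constructor
  · intro hk
    obtain ⟨hle, h01, h0k⟩ := Cfsg.Agent.S4733.result p M hM B hB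
    have hd0 : Cfsg.blockDefect p B ≠ 0 := fun h => by
      have := (h01.1 h).1
      omega
    have hl : Cfsg.blockRank p B = 1 := by
      have h1 : 1 ≤ Cfsg.blockRank p B :=
        CfsgLib.BlockPairing.one_le_blockRank (isPBlock_nonempty hB)
      have h2 : Nat.card B ≠ Cfsg.blockRank p B := fun h => hd0 (h0k.2 h)
      omega
    obtain ⟨χ, hχ, hmin, -⟩ := CfsgLib.BlockPairing.exists_minimal (p := p) hB
    have hχ0 : Cfsg.blockHeight p B (χ : G → ℂ) = 0 := by
      have hle := le_csInf (Set.image_nonempty.2 ⟨χ, hχ⟩)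
        (s := (fun φ : IrrCharacter G => (Cfsg.charDegree (φ : G → ℂ)).factorization p) '' B)
        (by rintro _ ⟨η, hη, rfl⟩; exact hmin η hη)
      rw [Cfsg.blockHeight]
      omega
    obtain ⟨ψ, hψ, hψχ⟩ : ∃ ψ ∈ B, ψ ≠ χ := by
      by_contra hcon
      push Not at hcon
      have : Nat.card B ≤ 1 := by
        rw [show B = {χ} from Set.eq_singleton_iff_unique_mem.2 ⟨hχ, hcon⟩]; simp
      omega
    have hBset : B = {χ, ψ} := by
      refine (Set.eq_of_subset_of_ncard_le ?_ ?_).symm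
      · rintro x (rfl | rfl) <;> assumption
      · rw [← Nat.card_coe_set_eq, hk, Set.ncard_pair (Ne.symm hψχ)]
    have hfin : B.toFinset = {χ, ψ} := by ext x; simp [hBset]
    have hfin' : B.toFinite.toFinset = {χ, ψ} := by ext x; simp [hBset]
    set f := fun φ : IrrCharacter G => Cfsg.pRegularPart p (φ : G → ℂ)
    have hf1 : ∀ φ : IrrCharacter G, f φ 1 = (Cfsg.charDegree (φ : G → ℂ) : ℂ) := fun φ => by
      simp [f, Cfsg.pRegularPart, Cfsg.IsPRegular, hp.ne_one, charDegree_cast]
    obtain ⟨lam, hlam⟩ : ∃ lam : ℂ, lam • f χ = f ψ := by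
      have hne : f χ ≠ 0 := fun h => charDegree_ne_zero χ (by
        have := congrFun h 1
        rw [hf1] at this
        simpa using this)
      have heq : Submodule.span ℂ {f χ} = Submodule.span ℂ (f '' B) := by
        refine Submodule.eq_of_le_of_finrank_eq
          ((Submodule.span_singleton_le_iff_mem _ _).2 (Submodule.subset_span ⟨χ, hχ, rfl⟩)) ?_
        rw [finrank_span_singleton hne]
        exact hl.symm
      exact Submodule.mem_span_singleton.1
        (heq ▸ Submodule.subset_span ⟨ψ, hψ, rfl⟩ : f ψ ∈ Submodule.span ℂ {f χ})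
    have hdeg : lam * (Cfsg.charDegree (χ : G → ℂ) : ℂ) = (Cfsg.charDegree (ψ : G → ℂ) : ℂ) := by
      rw [← hf1, ← hf1, ← hlam, Pi.smul_apply, smul_eq_mul]
    have hreg : ∀ η : IrrCharacter G, CfsgLib.BlockPairing.regInner p (ψ : G → ℂ) η =
        lam * CfsgLib.BlockPairing.regInner p (χ : G → ℂ) η := by
      intro η
      rw [← CfsgLib.Contributions.classInner_pRegularPart,
        ← CfsgLib.Contributions.classInner_pRegularPart, show Cfsg.pRegularPart p (ψ : G → ℂ) =
          lam • Cfsg.pRegularPart p (χ : G → ℂ) from hlam.symm]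
      simp only [Cfsg.classInner, Pi.smul_apply, smul_eq_mul, Finset.mul_sum]
      exact Finset.sum_congr rfl fun g _ => by ring
    set c11 := CfsgLib.Contributions.contrib p B χ χ with h11
    set c12 := CfsgLib.Contributions.contrib p B χ ψ with h12
    set c22 := CfsgLib.Contributions.contrib p B ψ ψ with h22
    set d := Cfsg.blockDefect p B with hd
    have e11 : (c11 : ℂ) = _ := CfsgLib.Contributions.cast_contrib hχ χ
    have e12 : (c12 : ℂ) = _ := CfsgLib.Contributions.cast_contrib hχ ψ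
    have e22 : (c22 : ℂ) = _ := CfsgLib.Contributions.cast_contrib hψ ψ
    have hsumq : c11 + c22 = (p : ℤ) ^ d := by
      refine Int.cast_injective (α := ℂ) ?_
      have h := CfsgLib.Contributions.blockRank_eq_sum hM hB
      rw [hl, hfin, Finset.sum_pair (Ne.symm hψχ)] at h
      rw [Int.cast_add, e11, e22, ← mul_add, ← h]
      push_cast
      ring
    have hsq1 : c11 ^ 2 + c12 ^ 2 = (p : ℤ) ^ d * c11 := by
      have h := CfsgLib.Contributions.sum_sq hM hB hχ
      rwa [hfin, Finset.sum_pair (Ne.symm hψχ)] at h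
    have hsq2 : c12 ^ 2 + c22 ^ 2 = (p : ℤ) ^ d * c22 := by
      have h := CfsgLib.Contributions.sum_sq hM hB hψ
      rw [hfin, Finset.sum_pair (Ne.symm hψχ), CfsgLib.Contributions.contrib_symm hψ hχ] at h
      exact h
    have hq : (0 : ℤ) < (p : ℤ) ^ d := pow_pos (Int.natCast_pos.2 hp.pos) d
    have hc11 : 0 ≤ c11 := by nlinarith [sq_nonneg c11, sq_nonneg c12]
    have hc22 : 0 ≤ c22 := by nlinarith [sq_nonneg c22, sq_nonneg c12]
    have hp11 : ¬ (p : ℤ) ∣ c11 := by
      have h := CfsgLib.Contributions.not_dvd_of_height_zero hM hB hχ hχ hχ0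
      rwa [hχ0, zero_add, pow_one] at h
    have hprod : c11 * c22 = c12 ^ 2 := by linear_combination (-c11) * hsumq.symm - hsq1
    rcases hp.eq_two_or_odd' with h2 | hodd
    · subst h2
      have h1 : d = 1 := exp_eq_one hd0 hc11 hc22 (by simpa using hp11)
        (by simpa using hsumq) hprod
      rw [hDc, h1, pow_one]
    exfalso
    let W : ConjClasses G → ℂ :=
      CfsgLib.BlocksLocal.classVec χ + lam • CfsgLib.BlocksLocal.classVec ψ
    obtain ⟨n, hn⟩ := CfsgLib.BlocksLocal.exists_sum_sq_eq_two_mul_sq hM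
      (isBlockUnion_of_isPBlock hB) hk W (by
        intro y hy
        have hy' : (ψ : G → ℂ) y = lam * (χ : G → ℂ) y := by
          have := congrFun hlam y
          simpa [f, Cfsg.pRegularPart, Cfsg.IsPRegular, hy, eq_comm] using this
        rw [hfin', Finset.sum_pair (Ne.symm hψχ), hy', Submodule.mem_span_singleton]
        exact ⟨(χ : G → ℂ) y, by simp [W, smul_add, smul_smul, mul_comm]⟩)
    set d1 := Cfsg.charDegree (χ : G → ℂ) with hd1
    set d2 := Cfsg.charDegree (ψ : G → ℂ) with hd2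
    have hN : d1 ^ 2 + d2 ^ 2 = 2 * n ^ 2 := by
      rw [← hn]
      conv_rhs => rw [hBset]
      rw [finsum_mem_pair (Ne.symm hψχ)]
    have hkey : (d2 : ℤ) ^ 2 * c11 = (d1 : ℤ) ^ 2 * c22 := by
      refine Int.cast_injective (α := ℂ) ?_
      push_cast
      rw [e11, e22, hreg ψ, CfsgLib.BlockPairing.regInner_symm p χ ψ, hreg χ, ← hdeg]
      ring
    obtain ⟨a, ha⟩ : ∃ a, c11 = a ^ 2 := by
      have hcop : IsCoprime c11 c22 := by
        have h1 : IsCoprime c11 ((p : ℤ) ^ d) :=
          (((Nat.prime_iff_prime_int.1 hp).coprime_iff_not_dvd).2 hp11).symm.pow_right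
        rw [← hsumq] at h1
        simpa using (h1.add_mul_left_right (-1))
      obtain ⟨a, ha | ha⟩ := Int.sq_of_isCoprime hcop hprod
      · exact ⟨a, ha⟩
      · exact ⟨0, by nlinarith [sq_nonneg a]⟩
    have hmain : (2 * n ^ 2 * a.natAbs ^ 2 : ℕ) = d1 ^ 2 * p ^ d := by
      refine Nat.cast_injective (R := ℤ) ?_
      push_cast
      rw [sq_abs, ← ha, ← hsumq]
      have : ((d1 : ℤ) ^ 2 + (d2 : ℤ) ^ 2) = 2 * (n : ℤ) ^ 2 := by exact_mod_cast hN
      linear_combination -(c11 : ℤ) * this + hkey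
    have hd10 : d1 ≠ 0 := charDegree_ne_zero χ
    have hn0 : n ≠ 0 := fun h => by
      have := pow_pos (Nat.pos_of_ne_zero hd10) 2
      subst h
      omega
    have ha0 : a.natAbs ≠ 0 := fun h => hp11 (by
      rw [ha, Int.natAbs_eq_zero.1 h]; simp)
    have h := congrArg (fun x : ℕ => x.factorization 2) hmain
    simp only [Nat.factorization_mul (mul_ne_zero two_ne_zero (pow_ne_zero 2 hn0))
        (pow_ne_zero 2 ha0), Nat.factorization_mul two_ne_zero (pow_ne_zero 2 hn0),
      Nat.factorization_mul (pow_ne_zero 2 hd10) (pow_ne_zero d hp.ne_zero),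
      Nat.factorization_pow, Finsupp.add_apply, Finsupp.smul_apply, smul_eq_mul,
      Nat.prime_two.factorization_self,
      Nat.factorization_eq_zero_of_not_dvd (show ¬ 2 ∣ p from
        fun h => (Nat.not_even_iff_odd.2 hodd) (even_iff_two_dvd.2 h))] at h
    omega
  · intro h2
    have hd1 : p = 2 ∧ Cfsg.blockDefect p B = 1 := by
      rw [hDc] at h2
      have hd : Cfsg.blockDefect p B ≠ 0 := fun h => by rw [h, pow_zero] at h2; omega
      have hp2 : p = 2 := (Nat.prime_dvd_prime_iff_eq hp Nat.prime_two).1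
        (h2 ▸ dvd_pow_self p hd)
      refine ⟨hp2, ?_⟩
      subst hp2
      exact Nat.pow_right_injective le_rfl (show 2 ^ _ = 2 ^ 1 by rw [h2, pow_one])
    obtain ⟨rfl, hd1⟩ := hd1
    exact (CfsgLib.BlockPairing.two_block_of_defect_one hM hB hd1).1

end Cfsg.Agent.S4607
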