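import Cfsg.Statements.S4221
import Cfsg.Agent.FourTransitive.Even
import Cfsg.Agent.FourTransitive.Odd
import Cfsg.Agent.Mathieu.Sharp
import Cfsg.Agent.Miller.Small
-- import your own Cfsg.Agent.* helpers here

set_option autoImplicit false
open Cfsg

namespace Cfsg.Agent.S4221

open CfsgLib.FourTransitive in
/-- The stabiliser of four points, as a subgroup of `Perm α`, has the order of the stabiliser. -/
theorem card_R_eq_stabilizer {α : Type*} (G : Subgroup (Equiv.Perm α)) (x : Fin 4 ↪ α) :
    Nat.card (R G x) = Nat.card (MulAction.stabilizer G x) := by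
  refine Nat.card_congr ⟨fun r => ⟨⟨r.1, r.2.1⟩, ?_⟩, fun s => ⟨s.1.1, s.1.2, fun i => ?_⟩,
    fun r => rfl, fun s => rfl⟩
  · rw [MulAction.mem_stabilizer_iff]
    exact Function.Embedding.ext fun i => r.2.2 i
  · exact DFunLike.congr_fun s.2 i

open CfsgLib.FourTransitive in
/-- The order of the four-point stabiliser. -/
theorem card_stab {α : Type*} [Fintype α] [DecidableEq α] {G : Subgroup (Equiv.Perm α)}
    (H : Hyp G) (x : Fin 4 ↪ α) :
    Nat.card (R G x) = 1 ∨ (Fintype.card α = 7 ∧ Nat.card (R G x) = 3) := by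
  have h4 : 4 ≤ Fintype.card α := by simpa using Fintype.card_le_of_embedding x
  rcases Nat.even_or_odd (Fintype.card α) with hn | hn
  · exact Or.inl (card_R_even H hn x)
  by_cases h7 : 7 ≤ Fintype.card α
  · exact card_R_odd H hn h7 x
  left
  have h5 : Fintype.card α = 5 := by
    obtain ⟨k, hk⟩ := hn
    omega
  rw [Subgroup.card_eq_one, eq_bot_iff]
  intro r hr
  rw [Subgroup.mem_bot]
  by_contra hr1
  have hs : r.support.card ≤ 1 := by
    have hsub : r.support ⊆ (Finset.univ.map x)ᶜ := fun z hz => by
      rw [Finset.mem_compl, Finset.mem_map]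
      rintro ⟨i, -, rfl⟩
      exact Equiv.Perm.mem_support.1 hz (hr.2 i)
    refine (Finset.card_le_card hsub).trans ?_
    rw [Finset.card_compl, Finset.card_map, Finset.card_univ, Fintype.card_fin, h5]
  exact Equiv.Perm.card_support_ne_one r
    (le_antisymm hs (Finset.card_pos.2 (Finset.nonempty_iff_ne_empty.2 fun h => hr1 (Equiv.Perm.support_eq_empty_iff.1 h))))

/-- Let `G` be a `4`-fold transitive permutation group on a finite set of `n` points in which the pointwise stabilizer of some four distinct points has odd order. Then `n = 4` or `n = 5` with `G` the full symmetric group, or `n = 6` or `n = 7` with `G` the alternating group, or `n = 11` and `G` has order `7920`. -/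
theorem result {α : Type*} [Fintype α] [DecidableEq α] (G : Subgroup (Equiv.Perm α)) (hG : MulAction.IsMultiplyPretransitive G α 4) (x : Fin 4 ↪ α) (hodd : Odd (Nat.card (MulAction.stabilizer G x))) : ((Fintype.card α = 4 ∨ Fintype.card α = 5) ∧ G = ⊤) ∨ ((Fintype.card α = 6 ∨ Fintype.card α = 7) ∧ G = alternatingGroup α) ∨ (Fintype.card α = 11 ∧ Nat.card G = 7920) := by
  have H0 : CfsgLib.FourTransitive.Hyp G := ⟨hG, fun y => by
    have hx := hodd
    rw [← card_R_eq_stabilizer] at hx
    obtain ⟨⟨g, hg⟩, h⟩ := hG.exists_smul_eq x y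
    rwa [← show x.trans g.toEmbedding = y from Function.Embedding.ext fun i => DFunLike.congr_fun h i,
      ← CfsgLib.FourTransitive.map_conj_R hg x,
      Subgroup.card_map_of_injective (MulAut.conj g).injective]⟩
  have h4 : 4 ≤ Fintype.card α := by simpa using Fintype.card_le_of_embedding x
  have hcard := CfsgLib.Miller.card_eq_mul_stabilizer hG x
  rw [← card_R_eq_stabilizer] at hcard
  have hfac : Nat.card (Equiv.Perm α) = (Fintype.card α).factorial := by
    rw [Nat.card_perm, Nat.card_eq_fintype_card]
  have halt : Fintype.card α ≥ 2 → Nat.card G * 2 = (Fintype.card α).factorial →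
      G = alternatingGroup α := fun h2 h => by
    have : Nontrivial α := Fintype.one_lt_card_iff_nontrivial.1 (by omega)
    refine Equiv.Perm.eq_alternatingGroup_of_index_eq_two ?_
    have h' := G.card_mul_index
    rw [hfac, ← h] at h'
    exact Nat.eq_of_mul_eq_mul_left Nat.card_pos h'
  rcases card_stab H0 x with h1 | ⟨h7, h3⟩
  · rw [h1, mul_one] at hcard
    have hsharp : ∀ y : Fin 4 ↪ α, MulAction.stabilizer G y = ⊥ := fun y => by
      rw [← Subgroup.card_eq_one, ← card_R_eq_stabilizer, H0.card_R_eq y x, h1]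
    have hd := CfsgLib.Mathieu.Sharp.degree_four (CfsgLib.Mathieu.Sharp.isSharpOn_univ hG hsharp)
      (by rw [Finset.card_univ]; exact h4)
    rw [Finset.card_univ] at hd
    have htop : Nat.card G = (Fintype.card α).factorial → G = ⊤ := fun h =>
      Subgroup.eq_top_of_card_eq _ (h.trans hfac.symm)
    rcases hd with e | e | e | e
    · exact Or.inl ⟨Or.inl e, htop (by rw [hcard, e]; rfl)⟩
    · exact Or.inl ⟨Or.inr e, htop (by rw [hcard, e]; rfl)⟩
    · exact Or.inr (Or.inl ⟨Or.inl e, halt (by omega) (by rw [hcard, e]; rfl)⟩)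
    · exact Or.inr (Or.inr ⟨e, by rw [hcard, e]; rfl⟩)
  · rw [h3, h7] at hcard
    exact Or.inr (Or.inl ⟨Or.inr h7, halt (by omega) (by rw [hcard, h7]; rfl)⟩)

end Cfsg.Agent.S4221
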