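import Cfsg.Statements.S0743
import Mathlib
import Cfsg.Agent.Perm.Transitivity
-- import your own Cfsg.Agent.* helpers here

set_option autoImplicit false
open Cfsg

namespace Cfsg.Agent.S0743

/-- Gleason's Lemma: let `p` be a prime and `1 ≤ k < n`; if every `k`-subset of the `n` points is exactly the fixed-point set of some `p`-subgroup of `G`, then `G` is `k`-transitive. -/
theorem result {α : Type*} [Fintype α] [DecidableEq α] (G : Subgroup (Equiv.Perm α)) {p k : ℕ} (hp : p.Prime) (hk : 1 ≤ k) (hkn : k < Fintype.card α) (h : ∀ s : Finset α, s.card = k → ∃ P : Subgroup G, IsPGroup p P ∧ MulAction.fixedPoints P α = (s : Set α)) : MulAction.IsMultiplyPretransitive G α k := by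
  classical
  refine CfsgLib.Perm.isMultiplyPretransitive_of_orbits_dvd hp.one_lt hkn (fun s hs => ?_)
  haveI := Fact.mk hp
  obtain ⟨P, hP, hfix⟩ := h s hs
  refine ⟨P, fun g hg x hx => ?_, fun x hx => ?_⟩
  · have : x ∈ MulAction.fixedPoints P α := by rw [hfix]; exact hx
    exact this ⟨g, hg⟩
  · obtain ⟨n, hn⟩ := hP.card_orbit x
    rw [hn]
    rcases Nat.eq_zero_or_pos n with h0 | h0
    · exfalso
      apply hx
      rw [← Finset.mem_coe, ← hfix]
      have h1 : Nat.card (MulAction.orbit P x) = 1 := by rw [hn, h0, pow_zero]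
      have hsub : Subsingleton (MulAction.orbit P x) := (Nat.card_eq_one_iff_unique.1 h1).1
      intro g
      exact congrArg Subtype.val (Subsingleton.elim (⟨g • x, MulAction.mem_orbit x g⟩ :
        MulAction.orbit P x) ⟨x, MulAction.mem_orbit_self x⟩)
    · exact dvd_pow_self p h0.ne'

end Cfsg.Agent.S0743
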