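import Cfsg.Statements.S0183
import Cfsg.Agent.Characters.CNTheorem
import Cfsg.Agent.S1479
-- import your own Cfsg.Agent.* helpers here

set_option autoImplicit false
open Cfsg

namespace Cfsg.Agent.S0183

/-- The CN-Theorem for odd order: a finite group of odd order in which every non-identity element has a nilpotent centralizer (a CN-group) is solvable. -/
theorem result {G : Type*} [Group G] [Finite G] (hodd : Odd (Nat.card G)) (hCN : Cfsg.IsCNGroup G) : Group.IsSolvable G := by
  refine CfsgLib.Characters.CN.isSolvable_of_minSimple (fun H _ _ hH hHCN => ?_) (Nat.card G) G rfl hodd hCN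
  obtain ⟨hHodd, hsimp, hnab, -⟩ := id hH
  haveI := hsimp
  haveI : Fintype H := Fintype.ofFinite H
  have hstr := (Cfsg.Agent.S1479.result hH hHCN).1
  refine CfsgLib.Characters.CN.false_of_structure hHodd (fun h => hnab ⟨⟨h⟩⟩) hHCN
    (fun K hK => (hstr K hK.1 hK.2).2.1) (fun K hK _ => ?_)
  obtain ⟨-, -, -, E, hc, hE, -⟩ := hstr K hK.1 hK.2
  obtain ⟨e, he, he1⟩ := E.bot_or_exists_ne_one.resolve_left hE
  exact ⟨e, hc.2.1 he, fun heK => he1 (Subgroup.mem_bot.1 (hc.2.2.1 ▸ ⟨heK, he⟩))⟩

end Cfsg.Agent.S0183
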