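import Cfsg.Statements.S4416
import Cfsg.Agent.ExtraspecialIso.Classification
-- import your own Cfsg.Agent.* helpers here

set_option autoImplicit false
open Cfsg

namespace Cfsg.Agent.S4416

open Subgroup CfsgLib.ExtraspecialIso
open scoped Pointwise

section

variable {P : Type*} [Group P] [Finite P]

/-- Number of elements of `D` squaring to one. -/
private noncomputable def cnt (D : Subgroup P) : ℕ := Nat.card {d : D // (d : P) ^ 2 = 1}

private theorem cnt_le (D : Subgroup P) : cnt D ≤ Nat.card D :=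
  Nat.card_le_card_of_injective _ Subtype.val_injective

variable {z : P} (hg : Gen 2 z)
include hg

private theorem z_ne_one : z ≠ 1 := fun h => by
  have := hg.order
  rw [h, orderOf_one] at this
  omega

private theorem cnt_coset_one {K : Subgroup P} (hK : Nondeg K) {w : P}
    (hw : ∀ k ∈ K, Commute w k) (h2 : w ^ 2 = 1) :
    Nat.card {k : K // (w * (k : P)) ^ 2 = 1} = cnt K := by
  refine Nat.card_congr (Equiv.subtypeEquivRight fun k => ?_)
  rw [(hw k k.2).mul_pow, h2, one_mul]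

private theorem cnt_coset_z {K : Subgroup P} (hK : Nondeg K) {w : P}
    (hw : ∀ k ∈ K, Commute w k) (h2 : w ^ 2 = z) :
    Nat.card {k : K // (w * (k : P)) ^ 2 = 1} + cnt K = Nat.card K := by
  classical
  have h : ∀ k : K, (w * (k : P)) ^ 2 = 1 ↔ ¬ (k : P) ^ 2 = 1 := by
    intro k
    rw [(hw k k.2).mul_pow, h2]
    rcases hg.sq_cases (k : P) with h | h <;> rw [h]
    · simp [z_ne_one hg]
    · simp [hg.z_sq, z_ne_one hg]
  rw [Nat.card_congr (Equiv.subtypeEquivRight h), cnt, add_comm, ← Nat.card_sum]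
  exact Nat.card_congr (Equiv.sumCompl _)

private theorem cnt_split {D K : Subgroup P} (hK : Nondeg K) {n : ℕ}
    (hDc : Nat.card D = 2 ^ (2 * (n + 1) + 1)) (hKc : Nat.card K = 2 ^ (2 * n + 1))
    {x y : P} (h : Pair 2 x y z) (hcom : ∀ a ∈ closure {x, y, z}, ∀ k ∈ K, Commute a k)
    (hsup : closure {x, y, z} ⊔ K = D) :
    (x ^ 2 = z ^ (0 : ℤ) ∧ y ^ 2 = z ^ (0 : ℤ) → cnt D = Nat.card K + 2 * cnt K) ∧
    (x ^ 2 = z ^ (1 : ℤ) ∧ y ^ 2 = z ^ (1 : ℤ) → cnt D + 2 * cnt K = 3 * Nat.card K) := by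
  classical
  let w : Fin 4 → P := ![1, x, y, y * x]
  have hxm : x ∈ closure {x, y, z} := subset_closure (by simp)
  have hym : y ∈ closure {x, y, z} := subset_closure (by simp)
  have hwm : ∀ i, w i ∈ closure {x, y, z} := by
    intro i
    fin_cases i
    exacts [one_mem _, hxm, hym, mul_mem hym hxm]
  have hzK : z ∈ K := hK.center_le hg.mem
  let φ : Fin 4 × K → D := fun t =>
    ⟨w t.1 * t.2, hsup ▸ mul_mem (mem_sup_left (hwm t.1)) (mem_sup_right t.2.2)⟩
  have hsq : ∀ v : P, v ^ 2 ∈ K := fun v => by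
    rcases hg.sq_cases v with h' | h' <;> rw [h']
    exacts [one_mem _, hzK]
  have hpar : ∀ (v : P) (a : ℤ), ∃ c ∈ K, v ^ a = c ∨ v ^ a = v * c := by
    intro v a
    rcases Int.even_or_odd a with ⟨b, rfl⟩ | ⟨b, rfl⟩
    · exact ⟨(v ^ 2) ^ b, zpow_mem (hsq v) b, Or.inl (by
        rw [← zpow_natCast, ← zpow_mul]; congr 1; push_cast; ring)⟩
    · exact ⟨(v ^ 2) ^ b, zpow_mem (hsq v) b, Or.inr (by
        rw [← zpow_natCast, ← zpow_mul, ← zpow_one_add]; congr 1; push_cast; ring)⟩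
  have hsurj : Function.Surjective φ := by
    intro ⟨d, hd⟩
    have hnorm : closure {x, y, z} ≤ normalizer (K : Set P) :=
      le_trans (fun a ha => mem_centralizer_iff.2 fun k hk => (hcom a ha k hk).symm.eq)
        (centralizer_le_normalizer _)
    have hd' : d ∈ ((closure {x, y, z} : Subgroup P) : Set P) * (K : Set P) := by
      rw [← coe_mul_of_left_le_normalizer_right _ _ hnorm, hsup]; exact hd
    obtain ⟨a, ha, k, hk, rfl⟩ := hd'
    rw [SetLike.mem_coe, ← h.range_hom] at ha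
    obtain ⟨u, rfl⟩ := ha
    obtain ⟨c, hc, hc'⟩ := hpar x u.a
    obtain ⟨e, he, he'⟩ := hpar y u.b
    have hcy : Commute y c := hcom y hym c hc
    have hval : h.hom u = x ^ u.a * y ^ u.b * z ^ u.c := rfl
    have hxy : x * y = y * x * z := by rw [h.comm, mul_assoc, hg.z_sq, mul_one]
    rcases hc' with hc' | hc' <;> rcases he' with he' | he'
    · refine ⟨(0, ⟨c * e * z ^ u.c * k, mul_mem (mul_mem (mul_mem hc he) (zpow_mem hzK _)) hk⟩),
        Subtype.ext ?_⟩
      show w 0 * (c * e * z ^ u.c * k) = h.hom u * k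
      rw [hval, hc', he']; simp [w, mul_assoc]
    · refine ⟨(2, ⟨c * e * z ^ u.c * k, mul_mem (mul_mem (mul_mem hc he) (zpow_mem hzK _)) hk⟩),
        Subtype.ext ?_⟩
      show w 2 * (c * e * z ^ u.c * k) = h.hom u * k
      rw [hval, hc', he']
      show y * (c * e * z ^ u.c * k) = c * (y * e) * z ^ u.c * k
      rw [← mul_assoc c y, ← hcy.eq]; group
    · refine ⟨(1, ⟨c * e * z ^ u.c * k, mul_mem (mul_mem (mul_mem hc he) (zpow_mem hzK _)) hk⟩),
        Subtype.ext ?_⟩
      show w 1 * (c * e * z ^ u.c * k) = h.hom u * k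
      rw [hval, hc', he']
      show x * (c * e * z ^ u.c * k) = x * c * e * z ^ u.c * k
      group
    · refine ⟨(3, ⟨z * c * e * z ^ u.c * k,
        mul_mem (mul_mem (mul_mem (mul_mem hzK hc) he) (zpow_mem hzK _)) hk⟩), Subtype.ext ?_⟩
      show w 3 * (z * c * e * z ^ u.c * k) = h.hom u * k
      rw [hval, hc', he']
      show y * x * (z * c * e * z ^ u.c * k) = x * c * (y * e) * z ^ u.c * k
      rw [show x * c * (y * e) = x * (c * y) * e by group, ← hcy.eq, ← mul_assoc x y c, hxy]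
      group
  have hbij : Function.Bijective φ := by
    refine (Nat.bijective_iff_surjective_and_card φ).2 ⟨hsurj, ?_⟩
    rw [Nat.card_prod, Nat.card_fin, hDc, hKc]; ring
  have hcount : cnt D = ∑ i, Nat.card {k : K // (w i * (k : P)) ^ 2 = 1} := by
    rw [← Nat.card_sigma, cnt]
    exact Nat.card_congr
      ((((Equiv.ofBijective φ hbij).subtypeEquiv (p := fun t => (w t.1 * (t.2 : P)) ^ 2 = 1)
        (fun _ => Iff.rfl)).symm).trans
      { toFun := fun t => ⟨t.1.1, t.1.2, t.2⟩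
        invFun := fun s => ⟨(s.1, s.2.1), s.2.2⟩
        left_inv := fun _ => rfl
        right_inv := fun _ => rfl })
  have hwK : ∀ i, ∀ k ∈ K, Commute (w i) k := fun i k hk => hcom _ (hwm i) k hk
  have hyx : (y * x) ^ 2 = y ^ 2 * x ^ 2 * z := hg.mul_sq h
  have hle := cnt_le K
  rw [Fin.sum_univ_four] at hcount
  constructor
  · rintro ⟨hx, hy⟩
    rw [zpow_zero] at hx hy
    have h0 := cnt_coset_one hg hK (hwK 0) (one_pow 2)
    have h1 := cnt_coset_one hg hK (hwK 1) hx
    have h2 := cnt_coset_one hg hK (hwK 2) hy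
    have h3 := cnt_coset_z hg hK (hwK 3) (by
      show (y * x) ^ 2 = z
      rw [hyx, hx, hy, one_mul, one_mul])
    omega
  · rintro ⟨hx, hy⟩
    rw [zpow_one] at hx hy
    have h0 := cnt_coset_one hg hK (hwK 0) (one_pow 2)
    have h1 := cnt_coset_z hg hK (hwK 1) hx
    have h2 := cnt_coset_z hg hK (hwK 2) hy
    have h3 := cnt_coset_z hg hK (hwK 3) (by
      show (y * x) ^ 2 = z
      rw [hyx, hx, hy, hg.z_sq, one_mul])
    omega

private theorem cnt_base {D : Subgroup P} (hD : Nondeg D) (hc : Nat.card D = 2) : cnt D = 2 := by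
  have := hg.eq_of_card hD hc
  rw [cnt]
  refine (Nat.card_congr (Equiv.subtypeUnivEquiv fun d => ?_)).trans hc
  obtain ⟨i, hi⟩ := mem_zpowers_iff.1 (this ▸ d.2 : (d : P) ∈ zpowers z)
  rw [← hi, ← zpow_natCast, ← zpow_mul, mul_comm, zpow_mul, zpow_natCast, ← hg.order,
    pow_orderOf_eq_one, one_zpow]

private theorem step {D : Subgroup P} (hD : Nondeg D) {n : ℕ}
    (hc : Nat.card D = 2 ^ (2 * (n + 1) + 1)) :
    ∃ e : ℤ, (e = 0 ∨ e = 1 ∧ n = 0) ∧ ∃ x y : P, ∃ K : Subgroup P, Pair 2 x y z ∧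
      x ^ 2 = z ^ e ∧ y ^ 2 = z ^ e ∧ Nondeg K ∧ Nat.card K = 2 ^ (2 * n + 1) ∧
      (∀ a ∈ closure {x, y, z}, ∀ k ∈ K, Commute a k) ∧
      closure {x, y, z} ⊓ K ≤ zpowers z ∧ closure {x, y, z} ⊔ K = D := by
  rcases Nat.eq_zero_or_pos n with rfl | hn
  · obtain ⟨e, he, x, hx, y, hy, hP, hx2, hy2⟩ := hg.exists_pair_eight hD hc
    obtain ⟨K, hK, hKc, h3⟩ := hg.split hD hc hx hy hP
    exact ⟨e, he.imp id (fun h => ⟨h, rfl⟩), x, y, K, hP, hx2, hy2, hK, hKc, h3⟩
  · obtain ⟨m, rfl⟩ : ∃ m, n = m + 1 := ⟨n - 1, by omega⟩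
    obtain ⟨x, hx, hxc, hx2⟩ := hg.exists_involution hD hc
    obtain ⟨y, hy, hP, hy2⟩ := hg.exists_involution_pair hD hx hxc hx2
    obtain ⟨K, hK, hKc, h3⟩ := hg.split hD hc hx hy hP
    exact ⟨0, Or.inl rfl, x, y, K, hP, by rw [hx2, zpow_zero], by rw [hy2, zpow_zero], hK, hKc, h3⟩

private theorem cnt_values : ∀ (n : ℕ) (D : Subgroup P), Nondeg D →
    Nat.card D = 2 ^ (2 * n + 1) →
    cnt D = 2 ^ (2 * n) + 2 ^ n ∨ cnt D + 2 ^ n = 2 ^ (2 * n) := by
  intro n
  induction n with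
  | zero => exact fun D hD hc => Or.inl (by rw [cnt_base hg hD (by simpa using hc)]; rfl)
  | succ n ih =>
    intro D hD hc
    obtain ⟨e, he, x, y, K, hP, hx2, hy2, hK, hKc, hcom, -, hsup⟩ := step hg hD hc
    have hs := cnt_split hg hK hc hKc hP hcom hsup
    have e1 : 2 ^ (2 * (n + 1)) = 4 * 2 ^ (2 * n) := by ring
    have e2 : 2 ^ (n + 1) = 2 * 2 ^ n := by ring
    have e3 : 2 ^ (2 * n + 1) = 2 * 2 ^ (2 * n) := by ring
    rcases he with rfl | ⟨rfl, rfl⟩
    · have := hs.1 ⟨hx2, hy2⟩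
      rw [hKc] at this
      rcases ih K hK hKc with h | h
      · exact Or.inl (by omega)
      · exact Or.inr (by omega)
    · have := hs.2 ⟨hx2, hy2⟩
      rw [hKc, cnt_base hg hK (by simpa using hKc)] at this
      exact Or.inr (by omega)

end

private theorem iso_of_cnt {P P' : Type*} [Group P] [Group P'] [Finite P] [Finite P']
    {z : P} {z' : P'} (hg : Gen 2 z) (hg' : Gen 2 z') :
    ∀ (n : ℕ) (D : Subgroup P) (D' : Subgroup P'), Nondeg D → Nondeg D' →
      Nat.card D = 2 ^ (2 * n + 1) → Nat.card D' = 2 ^ (2 * n + 1) → cnt D = cnt D' →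
      Iso D D' z z' := by
  intro n
  induction n with
  | zero =>
    intro D D' hD hD' hc hc' _
    exact (iso_zpowers hg.order hg'.order).of_eq
      (hg.eq_of_card hD (by simpa using hc)).symm (hg'.eq_of_card hD' (by simpa using hc')).symm
  | succ n ih =>
    intro D D' hD hD' hc hc' hcnt
    obtain ⟨e, he, x, y, K, hP, hx2, hy2, hK, hKc, hcom, hinf, hsup⟩ := step hg hD hc
    obtain ⟨e', he', x', y', K', hP', hx2', hy2', hK', hKc', hcom', hinf', hsup'⟩ := step hg' hD' hc'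
    have hs := cnt_split hg hK hc hKc hP hcom hsup
    have hs' := cnt_split hg' hK' hc' hKc' hP' hcom' hsup'
    have key : e = e' ∧ cnt K = cnt K' := by
      rcases he with rfl | ⟨rfl, hn⟩ <;> rcases he' with rfl | ⟨rfl, hn'⟩
      · have h1 := hs.1 ⟨hx2, hy2⟩
        have h2 := hs'.1 ⟨hx2', hy2'⟩
        rw [hKc] at h1
        rw [hKc'] at h2
        exact ⟨rfl, by omega⟩
      · subst hn'
        have h1 := hs.1 ⟨hx2, hy2⟩
        have h2 := hs'.2 ⟨hx2', hy2'⟩
        rw [hKc, cnt_base hg hK (by simpa using hKc)] at h1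
        rw [hKc', cnt_base hg' hK' (by simpa using hKc')] at h2
        omega
      · subst hn
        have h1 := hs.2 ⟨hx2, hy2⟩
        have h2 := hs'.1 ⟨hx2', hy2'⟩
        rw [hKc, cnt_base hg hK (by simpa using hKc)] at h1
        rw [hKc', cnt_base hg' hK' (by simpa using hKc')] at h2
        omega
      · subst hn
        exact ⟨rfl, by rw [cnt_base hg hK (by simpa using hKc), cnt_base hg' hK' (by simpa using hKc')]⟩
    obtain ⟨rfl, hcK⟩ := key
    exact (iso_sup hcom hcom' hinf hinf' (hP.iso hP' hx2 hy2 hx2' hy2')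
      (ih K K' hK hK' hKc hKc' hcK)).of_eq hsup hsup'

private theorem cnt_top {P : Type*} [Group P] :
    cnt (⊤ : Subgroup P) = Nat.card {x : P // x ^ 2 = 1} :=
  Nat.card_congr ((Equiv.Set.univ P).subtypeEquiv fun _ => Iff.rfl)

/-- Classification of extraspecial 2-groups in intrinsic form. An extraspecial 2-group has order 2^(2m+1) for some m ≥ 1, and the number of its elements squaring to the identity is either 2^(2m) + 2^m or 2^(2m) − 2^m; two extraspecial 2-groups of the same order with the same number of such elements are isomorphic. (The two cases are the central products of m dihedral groups of order 8, and of m − 1 dihedral groups with one quaternion group.) -/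
theorem result (E : Type*) [Group E] [Finite E] (hE : Cfsg.IsExtraspecial 2 E) :
    (∃ m : ℕ, 1 ≤ m ∧ Nat.card E = 2 ^ (2 * m + 1) ∧
      (Nat.card {x : E // x ^ 2 = 1} = 2 ^ (2 * m) + 2 ^ m ∨ Nat.card {x : E // x ^ 2 = 1} = 2 ^ (2 * m) - 2 ^ m)) ∧
    ∀ (E' : Type*) [Group E'] [Finite E'], Cfsg.IsExtraspecial 2 E' → Nat.card E' = Nat.card E →
      Nat.card {x : E' // x ^ 2 = 1} = Nat.card {x : E // x ^ 2 = 1} → Nonempty (E ≃* E') := by
  have : Fact (Nat.Prime 2) := ⟨Nat.prime_two⟩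
  obtain ⟨m, hm, hcard⟩ := CfsgLib.ExtraspecialBasic.exists_card_eq hE
  obtain ⟨z, hg⟩ := exists_gen hE
  have hcT : Nat.card (⊤ : Subgroup E) = 2 ^ (2 * m + 1) := by rw [Subgroup.card_top, hcard]
  refine ⟨⟨m, hm, hcard, ?_⟩, ?_⟩
  · have h := cnt_values hg m ⊤ nondeg_top hcT
    rw [cnt_top] at h
    omega
  · intro E' _ _ hE' hc hcnt
    obtain ⟨z', hg'⟩ := exists_gen hE'
    have hcT' : Nat.card (⊤ : Subgroup E') = 2 ^ (2 * m + 1) := by rw [Subgroup.card_top, hc, hcard]
    exact iso_top (iso_of_cnt hg hg' m ⊤ ⊤ nondeg_top nondeg_top hcT hcT'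
      (by rw [cnt_top, cnt_top, hcnt]))

end Cfsg.Agent.S4416
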