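import Cfsg.Statements.S3444
-- import your own Cfsg.Agent.* helpers here
import Cfsg.Agent.Spectrum.Semidirect

set_option autoImplicit false
open Cfsg

namespace Cfsg.Agent.S3444

/-- A finite group with a non-trivial solvable normal subgroup is not determined by its set of element orders, not even up to finitely many possibilities: for every bound N there is a finite group of order greater than N with exactly the same set of element orders. -/
theorem result {G : Type*} [Group G] [Finite G] (K : Subgroup G) [K.Normal] (hK : K ≠ ⊥)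
    (hs : Group.IsSolvable K) (N : ℕ) :
    ∃ (H : Type) (_ : Group H) (_ : Fintype H), N < Fintype.card H ∧ Set.range (orderOf : H → ℕ) = Set.range (orderOf : G → ℕ) := by
  classical
  -- a minimal nontrivial normal subgroup inside `K`
  obtain ⟨M, hM⟩ := (Set.toFinite {M : Subgroup G | M.Normal ∧ M ≠ ⊥ ∧ M ≤ K}).exists_minimal
    ⟨K, inferInstance, hK, le_rfl⟩
  haveI : M.Normal := hM.prop.1
  have hMab : ⁅M, M⁆ = ⊥ := by
    by_contra hne
    have hle : ⁅M, M⁆ ≤ M := Subgroup.commutator_le_self M
    have heq : M ≤ ⁅M, M⁆ :=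
      hM.le_of_le ⟨inferInstance, hne, hle.trans hM.prop.2.2⟩ hle
    have hser : ∀ i, M ≤ (derivedSeries K i).map K.subtype := by
      intro i
      induction i with
      | zero => rw [derivedSeries_zero, ← MonoidHom.range_eq_map, Subgroup.range_subtype]
                exact hM.prop.2.2
      | succ i ih =>
        rw [derivedSeries_succ, Subgroup.map_commutator]
        exact heq.trans (Subgroup.commutator_mono ih ih)
    obtain ⟨n, hn⟩ := hs
    have := hser n
    rw [hn, Subgroup.map_bot, le_bot_iff] at this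
    exact hM.prop.2.1 this
  have hcomm : ∀ x ∈ M, ∀ y ∈ M, x * y = y * x := fun x hx y hy =>
    commutatorElement_eq_one_iff_mul_comm.mp
      (Subgroup.mem_bot.mp (hMab ▸ Subgroup.commutator_mem_commutator hx hy))
  obtain ⟨p, hp, hdvd⟩ := Nat.exists_prime_and_dvd (n := Nat.card M)
    (fun h => hM.prop.2.1 (Subgroup.card_eq_one.mp h))
  haveI := Fact.mk hp
  obtain ⟨x, hx⟩ := exists_prime_orderOf_dvd_card' p hdvd
  let E : Subgroup G :=
    { carrier := {g | g ∈ M ∧ g ^ p = 1}
      one_mem' := ⟨M.one_mem, one_pow p⟩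
      mul_mem' := fun {a b} ha hb => ⟨M.mul_mem ha.1 hb.1, by
        rw [(show Commute a b from hcomm a ha.1 b hb.1).mul_pow, ha.2, hb.2, one_mul]⟩
      inv_mem' := fun {a} ha => ⟨M.inv_mem ha.1, by rw [inv_pow, ha.2, inv_one]⟩ }
  have hEn : E.Normal := ⟨fun g hg c => ⟨Subgroup.Normal.conj_mem inferInstance g hg.1 c, by
    rw [conj_pow, hg.2, mul_one, mul_inv_cancel]⟩⟩
  have hE : E ≠ ⊥ := by
    intro h
    have hmem : (x : G) ∈ E := ⟨x.2, by
      rw [← SubgroupClass.coe_pow, ← hx, pow_orderOf_eq_one, Subgroup.coe_one]⟩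
    rw [h, Subgroup.mem_bot] at hmem
    have : x = 1 := Subtype.ext hmem
    rw [this, orderOf_one] at hx
    exact hp.one_lt.ne hx
  -- iterate
  suffices h : ∀ N : ℕ, ∃ (H : Type) (_ : Group H) (_ : Fintype H), N < Fintype.card H ∧
      Set.range (orderOf : H → ℕ) = Set.range (orderOf : G → ℕ) ∧
      ∃ W : Subgroup H, W.Normal ∧ W ≠ ⊥ ∧ (∀ a : W, a ^ p = 1) by
    obtain ⟨H, i₁, i₂, h₁, h₂, -⟩ := h N
    exact ⟨H, i₁, i₂, h₁, h₂⟩
  intro N
  induction N with
  | zero =>
    letI : Fintype (Shrink.{0} G) := Fintype.ofFinite _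
    let e : Shrink.{0} G ≃* G := Shrink.mulEquiv
    refine ⟨Shrink.{0} G, inferInstance, inferInstance, Fintype.card_pos, ?_,
      E.comap e.toMonoidHom, Subgroup.Normal.comap hEn _, ?_, ?_⟩
    · apply Set.eq_of_subset_of_subset
      · rintro _ ⟨g, rfl⟩
        exact ⟨e g, e.orderOf_eq g⟩
      · rintro _ ⟨g, rfl⟩
        exact ⟨e.symm g, e.symm.orderOf_eq g⟩
    · intro h
      have h' : E.comap e.toMonoidHom = (⊥ : Subgroup G).comap e.toMonoidHom := by
        rw [h, MonoidHom.comap_bot, (MonoidHom.ker_eq_bot_iff _).mpr e.injective]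
      exact hE (Subgroup.comap_injective (f := e.toMonoidHom) e.surjective h')
    · intro a
      have h1 : (e (a : Shrink.{0} G)) ^ p = 1 := a.2.2
      rw [← map_pow, e.map_eq_one_iff] at h1
      exact Subtype.ext h1
  | succ N ih =>
    obtain ⟨H, i₁, i₂, h₁, h₂, W, hW, hW', hWp⟩ := ih
    letI : Fintype (W ⋊[MulAut.conjNormal] H) := Fintype.ofEquiv _ SemidirectProduct.equivProd.symm
    refine ⟨W ⋊[MulAut.conjNormal] H, inferInstance, inferInstance, ?_, ?_,
      (SemidirectProduct.rightHom : W ⋊[MulAut.conjNormal] H →* H).ker, inferInstance, ?_, ?_⟩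
    · have hcard : Fintype.card (W ⋊[MulAut.conjNormal] H) = Fintype.card W * Fintype.card H := by
        rw [← Fintype.card_prod]; exact Fintype.card_congr SemidirectProduct.equivProd
      have : 1 < Fintype.card W := by
        rw [← Nat.card_eq_fintype_card]
        exact (Subgroup.one_lt_card_iff_ne_bot W).mpr hW'
      rw [hcard]; nlinarith
    · rw [CfsgLib.Spectrum.range_orderOf_semidirect W hp hWp, h₂]
    · rw [← SemidirectProduct.range_inl_eq_ker_rightHom]
      obtain ⟨a, ha, ha1⟩ := W.bot_or_exists_ne_one.resolve_left hW'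
      intro h
      have : (SemidirectProduct.inl ⟨a, ha⟩ : W ⋊[MulAut.conjNormal] H) ∈ (⊥ : Subgroup _) :=
        h ▸ ⟨_, rfl⟩
      rw [Subgroup.mem_bot, ← map_one (SemidirectProduct.inl (φ := MulAut.conjNormal))] at this
      exact ha1 (congrArg Subtype.val (SemidirectProduct.inl_injective this))
    · rintro ⟨a, ha⟩
      rw [← SemidirectProduct.range_inl_eq_ker_rightHom] at ha
      obtain ⟨w, rfl⟩ := ha
      exact Subtype.ext (by
        show (SemidirectProduct.inl w) ^ p = 1
        rw [← map_pow, hWp, map_one])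

end Cfsg.Agent.S3444
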