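import Cfsg.Statements.S2947
import Cfsg.Agent.PLocal.Cores
import Mathlib.GroupTheory.Nilpotent

namespace Cfsg.Agent.S2947

theorem conj_map_mem {G : Type*} [Group G] {H : Subgroup G} {g y : G} :
    y ∈ H.map (MulAut.conj g).toMonoidHom ↔ g⁻¹ * y * g ∈ H := by
  simp only [Subgroup.mem_map, MulEquiv.coe_toMonoidHom, MulAut.conj_apply]
  constructor
  · rintro ⟨a, ha, rfl⟩; simpa [mul_assoc] using ha
  · intro h; exact ⟨_, h, by group⟩

theorem result {G : Type*} [Group G] [Finite G] (hL : Cfsg.IsCharacteristicTwoType G) (hN : ∀ N : Subgroup G, Cfsg.IsTwoLocal N → Group.IsSolvable ↥N)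
    (hZ : ∀ S : Sylow 2 G, Subgroup.centralizer (Cfsg.omegaCenterOf (S : Subgroup G) : Set G) ≤ Subgroup.normalizer ((S : Subgroup G) : Set G)) (hO : Cfsg.pCore 2 G = ⊥) (S : Sylow 2 G) (M : Subgroup G) (hM : Cfsg.IsTwoLocal M)
    (hMJ : Subgroup.normalizer (Cfsg.thompsonSubgroupOf 2 (S : Subgroup G) : Set G) ≤ M) :
    Cfsg.IsStronglyEmbedded M ↔ Cfsg.straddlingTwoSubgroups M = ∅ := by
  have : Fact (Nat.Prime 2) := ⟨Nat.prime_two⟩
  obtain ⟨Q0, hQ0, hQ01, hMQ⟩ := hM
  have hQ0M : Q0 ≤ M := by rw [hMQ]; exact Subgroup.le_normalizer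
  -- 2-subgroups of even-order intersections
  have heven : ∀ (T K : Subgroup G), IsPGroup 2 T → T ≠ ⊥ → T ≤ K → ¬ Odd (Nat.card K) := by
    intro T K hT hT1 hTK hodd
    obtain ⟨k, hk⟩ := hT.exists_card_eq
    rcases k with _ | k
    · exact hT1 (Subgroup.card_eq_one.1 (by simpa using hk))
    · have : 2 ∣ Nat.card K := dvd_trans (by rw [hk]; exact dvd_pow_self 2 (by omega)) (Subgroup.card_dvd_of_le hTK)
      exact Nat.not_odd_iff_even.2 (even_iff_two_dvd.2 this) hodd
  -- growth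
  have grow : (∀ T : Subgroup G, IsPGroup 2 T → T ≠ ⊥ → T ≤ M → Subgroup.normalizer (T : Set G) ≤ M) →
      ∀ P : Subgroup G, IsPGroup 2 P → P ⊓ M ≠ ⊥ → P ≤ M := by
    intro hclosed P hP hne
    have := hP.isNilpotent
    by_contra hle
    have hlt : (P ⊓ M).subgroupOf P < ⊤ := lt_top_iff_ne_top.2 fun h =>
      hle ((Subgroup.subgroupOf_eq_top.1 h).trans inf_le_right)
    obtain ⟨y, hy, hyD⟩ := Set.exists_of_ssubset (Group.normalizerCondition_of_isNilpotent _ hlt)
    apply hyD
    refine ⟨y.2, hclosed _ (hP.to_le inf_le_left) hne inf_le_right ?_⟩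
    rw [Subgroup.mem_normalizer_iff]
    intro z
    constructor
    · intro hz
      exact (Subgroup.mem_normalizer_iff.1 hy ⟨z, hz.1⟩).1 hz
    · intro hz
      have hzP : z ∈ P := by
        have := P.mul_mem (P.mul_mem (P.inv_mem y.2) hz.1) y.2
        simpa [mul_assoc] using this
      exact (Subgroup.mem_normalizer_iff.1 hy ⟨z, hzP⟩).2 hz
  constructor
  · intro hse
    have hclosed : ∀ T : Subgroup G, IsPGroup 2 T → T ≠ ⊥ → T ≤ M →
        Subgroup.normalizer (T : Set G) ≤ M := by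
      intro T hT hT1 hTM n hn
      by_contra hnM
      refine heven T _ hT hT1 ?_ (hse.2.2 n hnM)
      refine le_inf hTM fun t ht => conj_map_mem.2 ?_
      have := (Subgroup.mem_normalizer_iff.1 (Subgroup.inv_mem _ hn) t).1 ht
      rw [inv_inv] at this
      exact hTM this
    rw [Set.eq_empty_iff_forall_notMem]
    rintro T ⟨hT, hT1, hTM, L, ⟨Q, hQ, hQ1, hLQ⟩, hTL, hLM⟩
    subst hLQ
    have hTQ : IsPGroup 2 ↥(T ⊔ Q) := hT.to_sup_of_normal_right' hQ hTL
    have hle := grow hclosed _ hTQ fun h => hT1 (le_bot_iff.1 (h ▸ le_inf le_sup_left hTM))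
    exact hLM (hclosed Q hQ hQ1 (le_sup_right.trans hle))
  · intro hempty
    have hclosed : ∀ T : Subgroup G, IsPGroup 2 T → T ≠ ⊥ → T ≤ M →
        Subgroup.normalizer (T : Set G) ≤ M := by
      intro T hT hT1 hTM
      by_contra h
      exact Set.eq_empty_iff_forall_notMem.1 hempty T
        ⟨hT, hT1, hTM, _, ⟨T, hT, hT1, rfl⟩, Subgroup.le_normalizer, h⟩
    refine ⟨?_, ?_, fun g hg => ?_⟩
    · intro htop
      have hn : Q0.Normal := by
        rw [← Subgroup.normalizer_eq_top_iff, ← hMQ, htop]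
      exact hQ01 (le_bot_iff.1 (hO ▸ CfsgLib.PLocal.le_pCore hQ0))
    · exact Nat.not_odd_iff_even.1 (heven Q0 M hQ0 hQ01 hQ0M)
    · rw [← Nat.not_even_iff_odd, even_iff_two_dvd]
      intro h2
      set K := M ⊓ M.map (MulAut.conj g).toMonoidHom
      obtain ⟨t, ht⟩ := exists_prime_orderOf_dvd_card' 2 h2
      have htM : (t : G) ∈ M := t.2.1
      have htM' : g⁻¹ * (t : G) * g ∈ M := conj_map_mem.1 t.2.2
      have hp : IsPGroup 2 (Subgroup.zpowers (t : G)) :=
        IsPGroup.of_card (n := 1) (by rw [Nat.card_zpowers, Subgroup.orderOf_coe, ht, pow_one])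
      have ht1 : Subgroup.zpowers (t : G) ≠ ⊥ := by
        rw [Ne, Subgroup.zpowers_eq_bot]
        intro h
        rw [show t = 1 from Subtype.ext h, orderOf_one] at ht
        norm_num at ht
      -- a Sylow subgroup of `G` containing `g⁻¹ t g`, inside `M`
      obtain ⟨A, hA⟩ := (hp.map (MulAut.conj g⁻¹).toMonoidHom).exists_le_sylow
      have hA' : g⁻¹ * (t : G) * g ∈ (A : Subgroup G) :=
        hA ⟨(t : G), Subgroup.mem_zpowers _, by simp⟩
      have hAM : (A : Subgroup G) ≤ M := by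
        refine grow hclosed _ A.2 fun h => ?_
        have h3 : g⁻¹ * (t : G) * g = 1 := by
          rw [← Subgroup.mem_bot, ← h]; exact ⟨hA', htM'⟩
        refine ht1 (Subgroup.zpowers_eq_bot.2 ?_)
        calc (t : G) = g * (g⁻¹ * (t : G) * g) * g⁻¹ := by group
          _ = 1 := by rw [h3]; group
      have hA'M : ((g • A : Sylow 2 G) : Subgroup G) ≤ M := by
        refine grow hclosed _ (g • A).2 fun h => ?_
        refine ht1 (Subgroup.zpowers_eq_bot.2 ?_)
        rw [← Subgroup.mem_bot, ← h]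
        refine ⟨?_, htM⟩
        show (t : G) ∈ ((g • A : Sylow 2 G) : Subgroup G)
        rw [Sylow.coe_subgroup_smul]
        exact Subgroup.mem_map.2 ⟨_, hA', by simp [mul_assoc]⟩
      obtain ⟨m, hm⟩ := MulAction.exists_smul_eq M ((g • A : Sylow 2 G).subtype hA'M) (A.subtype hAM)
      have hm2 : ((m : G) * g) • A = A := by
        rw [Sylow.smul_subtype] at hm
        rw [mul_smul]
        exact Sylow.subtype_injective hm
      apply hg
      have h4 : (m : G) * g ∈ M := by
        refine hclosed _ A.2 ?_ hAM (Sylow.smul_eq_iff_mem_normalizer.1 hm2)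
        intro h
        refine ht1 (Subgroup.zpowers_eq_bot.2 ?_)
        have h3 : g⁻¹ * (t : G) * g = 1 := by rw [← Subgroup.mem_bot, ← h]; exact hA'
        calc (t : G) = g * (g⁻¹ * (t : G) * g) * g⁻¹ := by group
          _ = 1 := by rw [h3]; group
      simpa using M.mul_mem (M.inv_mem m.2) h4

end Cfsg.Agent.S2947
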