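import Cfsg.Statements.S2062
import Cfsg.Agent.SporadicOut.MathieuGlue
import Cfsg.Agent.SporadicOut.M22Data
-- import your own Cfsg.Agent.* helpers here

set_option autoImplicit false
open Cfsg

namespace Cfsg.Agent.S2062

open CfsgLib.Mathieu CfsgLib.Schur.Pc CfsgLib.SporadicOut CfsgLib.SporadicOut.M22Data in
/-- The outer automorphism group of the Mathieu group M₂₂ (the permutations in the automorphism group of the length-24 binary code that fix each of two given points) has order 2. -/
theorem result : Nat.card (Cfsg.Out ↥Cfsg.Spor.M22) = 2 := by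
  obtain ⟨σa, ha, ra⟩ := (inGroup_of_inM22 (show _ = true from (by decide +kernel : inM22 rigid.a = true)))
  obtain ⟨σb, hb, rb⟩ := (inGroup_of_inM22 (show _ = true from (by decide +kernel : inM22 rigid.b = true)))
  obtain ⟨σc, hc, rc⟩ := (inGroup_of_inM22 (show _ = true from (by decide +kernel : inM22 rigid.c = true)))
  obtain ⟨σa2, ha2, ra2⟩ := (inGroup_of_inM22 (show _ = true from (by decide +kernel : inM22 rigid.a2 = true)))
  obtain ⟨σb2, hb2, rb2⟩ := (inGroup_of_inM22 (show _ = true from (by decide +kernel : inM22 rigid.b2 = true)))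
  obtain ⟨σc2, hc2, rc2⟩ := (inGroup_of_inM22 (show _ = true from (by decide +kernel : inM22 rigid.c2 = true)))
  have hgen := trip_generates (H := Spor.M22) (G := M24) SporM22_le ⟨σa, ha⟩ ⟨σb, hb⟩ ⟨σc, hc⟩ ra rb rc steps strong (by decide +kernel) (m24Levels.drop 2) [pt 23, pt 0] (le_of_eq SporM22_eq) (H' := m24Gen) m24Levels_tail2 (le_of_eq SporM22_eq.symm) trees (by decide +kernel)
  obtain ⟨π, hπ, rπ⟩ := exists_outer_M22 (t := outer) (by decide +kernel)
  exact out_eq_two_of_check rigid fixes (by decide +kernel) SporM22_le fixM22 (N := 40320) (by rw [card_SporM22]; rfl) (by decide +kernel)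
    (forall_inGroup inGroup_of_inM22 (by decide +kernel)) (by decide +kernel) _ _ _ ⟨σa2, ha2⟩ ⟨σb2, hb2⟩ ⟨σc2, hc2⟩ ra rb rc ra2 rb2 rc2
    π outer rπ hπ (by decide +kernel) outerExp outerList (by decide +kernel) hgen (by decide +kernel)

end Cfsg.Agent.S2062
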