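import Cfsg.Statements.S2064
import Cfsg.Agent.SporadicOut.MathieuGlue
import Cfsg.Agent.SporadicOut.M24Data
-- import your own Cfsg.Agent.* helpers here

set_option autoImplicit false
open Cfsg

namespace Cfsg.Agent.S2064

open CfsgLib.Mathieu CfsgLib.Schur.Pc CfsgLib.SporadicOut CfsgLib.SporadicOut.M24Data in
/-- The outer automorphism group of the Mathieu group M₂₄ (the automorphism group of the length-24 binary code) is trivial: every automorphism is inner. -/
theorem result : Nat.card (Cfsg.Out ↥Cfsg.M24) = 1 := by
  obtain ⟨σa, ha, ra⟩ := (inGroup_of_inM24 (show _ = true from (by decide +kernel : inM24 rigid.a = true)))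
  obtain ⟨σb, hb, rb⟩ := (inGroup_of_inM24 (show _ = true from (by decide +kernel : inM24 rigid.b = true)))
  obtain ⟨σc, hc, rc⟩ := (inGroup_of_inM24 (show _ = true from (by decide +kernel : inM24 rigid.c = true)))
  have hgen := trip_generates (H := M24) (G := M24) (le_refl _) ⟨σa, ha⟩ ⟨σb, hb⟩ ⟨σc, hc⟩ ra rb rc steps strong (by decide +kernel) (m24Levels) [] (le_of_eq (fixList_nil _).symm) (H' := m24Gen) m24_chain (le_of_eq (fixList_nil _)) trees (by decide +kernel)
  exact out_eq_one_of_check rigid fixes (by decide +kernel) (le_refl _) (fun g _ W hW => by simp [fixes] at hW) (N := 10644480) (by rw [card_M24]; rfl) (by decide +kernel)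
    (forall_inGroup inGroup_of_inM24 (by decide +kernel)) (by decide +kernel) _ _ _ ra rb rc ⟨rfl, rfl, rfl⟩ hgen (by decide +kernel)

end Cfsg.Agent.S2064
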