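import Cfsg.Statements.S3743

set_option autoImplicit false
open Cfsg

namespace Cfsg.Agent.S3743

/-- all prime divisors of the order lie in `π` -/
def IsPi {G : Type*} [Group G] (π : Set ℕ) (A : Subgroup G) : Prop :=
  ∀ p : ℕ, p.Prime → p ∣ Nat.card A → p ∈ π

theorem isPi_sup {G : Type*} [Group G] [Finite G] (π : Set ℕ) (A B : Subgroup G) [B.Normal]
    (hA : IsPi π A) (hB : IsPi π B) : IsPi π (A ⊔ B) := by
  intro q hq hd
  have h1 : Nat.card ↥(A ⊔ B) = Nat.card B * B.relIndex A := by
    rw [← Subgroup.relIndex_sup_right A B, ← Subgroup.relIndex_bot_left (H := A ⊔ B),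
      ← Subgroup.relIndex_mul_relIndex ⊥ B (A ⊔ B) bot_le le_sup_right,
      Subgroup.relIndex_bot_left]
  rcases hq.dvd_mul.mp (h1 ▸ hd) with h | h
  · exact hB q hq h
  · exact hA q hq (h.trans (Subgroup.relIndex_dvd_card B A))

theorem isPi_piCore {G : Type*} [Group G] [Finite G] (π : Set ℕ) : IsPi π (Cfsg.piCore π G) := by
  suffices h : (Cfsg.piCore π G).Normal ∧ IsPi π (Cfsg.piCore π G) from h.2
  refine ⟨inferInstance, ?_⟩
  have hfin : Set.Finite {N : Subgroup G | N.Normal ∧ IsPi π N} := Set.toFinite _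
  suffices key : ∀ T : Set (Subgroup G), T.Finite → T ⊆ {N : Subgroup G | N.Normal ∧ IsPi π N} →
      (sSup T).Normal ∧ IsPi π (sSup T) from (key _ hfin (subset_refl _)).2
  intro T hT
  induction T, hT using Set.Finite.induction_on with
  | empty =>
    intro _
    rw [sSup_empty]
    refine ⟨inferInstance, fun q hq hd => ?_⟩
    rw [Subgroup.card_bot] at hd
    exact absurd (Nat.dvd_one.mp hd) hq.ne_one
  | @insert a T _ _ ih =>
    intro hsub
    obtain ⟨hn, hp⟩ := ih ((Set.subset_insert _ _).trans hsub)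
    obtain ⟨han, hap⟩ := hsub (Set.mem_insert _ _)
    rw [sSup_insert]
    exact ⟨inferInstance, isPi_sup π _ _ hap hp⟩

theorem piCore_map_equiv {G : Type*} [Group G] (π : Set ℕ) :
    (Cfsg.piCore π G).Characteristic := by
  rw [Subgroup.characteristic_iff_map_le]
  intro φ
  rw [Cfsg.piCore, sSup_eq_iSup', Subgroup.map_iSup, iSup_le_iff]
  rintro ⟨N, hN, hp⟩
  refine le_iSup_of_le ⟨N.map φ.toMonoidHom, hN.map _ φ.surjective, ?_⟩ le_rfl
  intro q hq hd
  rw [Subgroup.card_map_of_injective φ.injective] at hd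
  exact hp q hq hd

theorem le_piCore {G : Type*} [Group G] [Finite G] (π : Set ℕ) {A : Subgroup G}
    (hA : A.IsSubnormal) (hπ : IsPi π A) : A ≤ Cfsg.piCore π G := by
  suffices key : ∀ L : Subgroup G, L ≤ A → (L.subgroupOf A).Normal → IsPi π L →
      L ≤ Cfsg.piCore π G from key A le_rfl (by rw [Subgroup.subgroupOf_self]; infer_instance) hπ
  clear hπ
  induction hA with
  | top =>
    intro L _ hn hp
    refine le_sSup ⟨?_, hp⟩
    rw [← Subgroup.normalizer_eq_top_iff]
    exact top_le_iff.mp ((Subgroup.normal_subgroupOf_iff_le_normalizer le_top).mp hn)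
  | step H K hle _ hHK ih =>
    intro L hLH hn hp
    have h1 : L.subgroupOf H ≤ Cfsg.piCore π ↥H := by
      refine le_sSup ⟨hn, fun q hq hd => hp q hq ?_⟩
      rwa [Nat.card_congr (Subgroup.subgroupOfEquivOfLe hLH).toEquiv] at hd
    set W := (Cfsg.piCore π ↥H).map H.subtype with hW
    have hLW : L ≤ W := by
      rw [← Subgroup.map_subgroupOf_eq_of_le hLH]; exact Subgroup.map_mono h1
    have hWH : W ≤ H := Subgroup.map_subtype_le _
    refine hLW.trans (ih W (hWH.trans hle) ?_ ?_)
    · have := piCore_map_equiv π (G := ↥H)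
      rw [Subgroup.normal_subgroupOf_iff_le_normalizer (hWH.trans hle)]
      intro k hk
      rw [Subgroup.mem_normalizer_iff_map_conj_eq]
      have hkH : H.map (MulAut.conj k : G ≃* G).toMonoidHom = H :=
        Subgroup.mem_normalizer_iff_map_conj_eq.mp
          ((Subgroup.normal_subgroupOf_iff_le_normalizer hle).mp hHK hk)
      have hconj : ∀ x : ↥H, k * x.1 * k⁻¹ ∈ H := fun x => by
        conv => arg 1; rw [← hkH]
        exact ⟨x, x.2, by simp [MulAut.conj_apply]⟩
      let f : ↥H →* ↥H :=
        { toFun := fun x => ⟨k * x.1 * k⁻¹, hconj x⟩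
          map_one' := by ext; simp
          map_mul' := fun x y => by ext; simp [mul_assoc] }
      have hinj : Function.Injective f := fun x y h => by
        have := congrArg Subtype.val h
        simp [f] at this
        exact this
      let e : ↥H ≃* ↥H := MulEquiv.ofBijective f ⟨hinj, Finite.surjective_of_injective hinj⟩
      have he := Subgroup.characteristic_iff_map_eq.mp this e
      rw [hW, Subgroup.map_map]
      conv_rhs => rw [← he, Subgroup.map_map]
      rfl
    · intro q hq hd
      rw [hW, Subgroup.card_map_of_injective H.subtype_injective] at hd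
      exact isPi_piCore π q hq hd

theorem le_fitting {G : Type*} [Group G] [Finite G] {A : Subgroup G}
    (hA : A.IsSubnormal) (hnil : Group.IsNilpotent A) : A ≤ Cfsg.fittingSubgroup G := by
  have hnormal : ∀ (q : ℕ) [Fact q.Prime] (P : Sylow q ↥A), (P : Subgroup ↥A).Normal :=
    (Group.isNilpotent_of_finite_tfae (G := ↥A)).out 0 3 |>.mp hnil
  suffices htop : ∀ x : ↥A, (x : G) ∈ Cfsg.fittingSubgroup G from fun x hx => htop ⟨x, hx⟩
  set F := (Cfsg.fittingSubgroup G).subgroupOf A with hF
  suffices F = ⊤ by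
    intro x
    have hx : x ∈ F := this ▸ Subgroup.mem_top x
    exact hx
  rw [← Subgroup.index_eq_one]
  by_contra hne
  obtain ⟨q, hq, hd⟩ := Nat.exists_prime_and_dvd hne
  haveI := Fact.mk hq
  obtain ⟨P⟩ : Nonempty (Sylow q ↥A) := inferInstance
  have hPF : (P : Subgroup ↥A) ≤ F := by
    have hsub : ((P : Subgroup ↥A).map A.subtype).IsSubnormal :=
      Subgroup.IsSubnormal.trans' ((hnormal q P).isSubnormal) hA
    have hpg : IsPGroup q ↥((P : Subgroup ↥A).map A.subtype) := P.2.map _
    have hpi : IsPi {q} ((P : Subgroup ↥A).map A.subtype) := by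
      intro r hr hrd
      obtain ⟨m, hm⟩ := IsPGroup.iff_card.mp hpg
      exact (Nat.prime_dvd_prime_iff_eq hr hq).mp (hr.dvd_of_dvd_pow (hm ▸ hrd))
    have h2 := le_piCore {q} hsub hpi
    have h3 : Cfsg.piCore {q} G ≤ Cfsg.fittingSubgroup G := by
      refine le_sSup ⟨inferInstance, IsPGroup.isNilpotent (p := q) ?_⟩
      by_cases h0 : Nat.card ↥(Cfsg.piCore {q} G) = 1
      · exact IsPGroup.of_card (n := 0) (by simpa using h0)
      · exact IsPGroup.iff_card.mpr ⟨_, Nat.eq_prime_pow_of_unique_prime_dvd Nat.card_pos.ne'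
          fun hr hrd => isPi_piCore {q} _ hr hrd⟩
    intro x hx
    exact h3 (h2 ⟨x, hx, rfl⟩)
  exact P.not_dvd_index (hd.trans (Subgroup.index_dvd_of_le hPF))

/-- In a finite group G, every subnormal nilpotent subgroup lies in the Fitting subgroup F(G), and, for a set of primes π, every subnormal subgroup all of whose prime divisors lie in π lies in O_π(G). -/
theorem result {G : Type*} [Group G] [Finite G] (A : Subgroup G) (hA : A.IsSubnormal) : (Group.IsNilpotent A → A ≤ Cfsg.fittingSubgroup G) ∧ ∀ π : Set ℕ, (∀ p : ℕ, p.Prime → p ∣ Nat.card A → p ∈ π) → A ≤ Cfsg.piCore π G := by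
  exact ⟨fun h => le_fitting hA h, fun π hπ => le_piCore π hA hπ⟩

end Cfsg.Agent.S3743
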