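import Cfsg.Statements.S3747
import Cfsg.Agent.Components.FStar
import Cfsg.Agent.S3743

set_option autoImplicit false
open Cfsg

namespace Cfsg.Agent.S3747

open CfsgLib in
theorem closure_eq_sSup {G : Type*} [Group G] (K : Subgroup G) :
    Subgroup.normalClosure (K : Set G) =
      sSup {L : Subgroup G | ∃ g : G, L = K.map (MulAut.conj g).toMonoidHom} := by
  apply le_antisymm
  · rw [Subgroup.normalClosure, Subgroup.closure_le]
    intro x hx
    obtain ⟨a, ha, hax⟩ := Group.mem_conjugatesOfSet_iff.mp hx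
    obtain ⟨c, rfl⟩ := isConj_iff.mp hax
    have hm : K.map (MulAut.conj c).toMonoidHom ≤
        sSup {L : Subgroup G | ∃ g : G, L = K.map (MulAut.conj g).toMonoidHom} := le_sSup ⟨c, rfl⟩
    exact hm ⟨a, ha, rfl⟩
  · refine sSup_le ?_
    rintro L ⟨g, rfl⟩ _ ⟨a, ha, rfl⟩
    exact (Subgroup.normalClosure_normal (s := (K : Set G))).conj_mem a (Subgroup.le_normalClosure ha) g

open CfsgLib in
theorem minimal_normal {G : Type*} [Group G] [Finite G] (K : Subgroup G) (hK : Cfsg.IsComponent K)
    (hZ : Subgroup.center ↥K = ⊥) :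
    Subgroup.normalClosure (K : Set G) ≠ ⊥ ∧ ∀ N : Subgroup G, N.Normal →
      N ≤ Subgroup.normalClosure (K : Set G) → N = ⊥ ∨ N = Subgroup.normalClosure (K : Set G) := by
  refine ⟨fun h => Components.IsComponent.ne_bot hK (le_bot_iff.mp (h ▸ Subgroup.le_normalClosure)), ?_⟩
  intro N hN hle
  by_cases hKN : K ≤ N
  · exact Or.inr (le_antisymm hle (Subgroup.normalClosure_le_normal hKN))
  left
  set S := {L : Subgroup G | ∃ g : G, L = K.map (MulAut.conj g).toMonoidHom} with hS
  have hSc : ∀ L ∈ S, Cfsg.IsComponent L := by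
    rintro L ⟨g, rfl⟩; exact Components.IsComponent.conj hK g
  have hKN0 := (Components.IsComponent.le_or_commutator_eq_bot_of_normal hK N).resolve_left hKN
  have hSN : sSup S ≤ Subgroup.centralizer (N : Set G) := by
    refine sSup_le ?_
    rintro L ⟨g, rfl⟩
    rw [← Subgroup.commutator_eq_bot_iff_le_centralizer]
    have : ⁅K.map (MulAut.conj g).toMonoidHom, N.map (MulAut.conj g).toMonoidHom⁆ = ⊥ := by
      rw [← Subgroup.map_commutator, hKN0, Subgroup.map_bot]
    rwa [show N.map (MulAut.conj g).toMonoidHom = N from Subgroup.mem_normalizer_iff_map_conj_eq.mp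
      (Subgroup.le_normalizer_of_normal (K := ⊤) (Subgroup.mem_top g))] at this
  have hNS : N ≤ sSup S := hle.trans (closure_eq_sSup K).le
  have hN2 : N ≤ sSup S ⊓ Subgroup.centralizer ((sSup S : Subgroup G) : Set G) :=
    le_inf hNS (Subgroup.le_centralizer_iff.mp hSN)
  rw [Components.sSup_inf_centralizer (Set.toFinite S) hSc] at hN2
  refine le_bot_iff.mp (hN2.trans (iSup₂_le ?_))
  rintro L ⟨g, rfl⟩ x ⟨hx, hxc⟩
  obtain ⟨a, ha, rfl⟩ := hx
  have hac : (⟨a, ha⟩ : K) ∈ Subgroup.center ↥K := by
    rw [Subgroup.mem_center_iff]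
    intro b
    apply Subtype.ext
    apply (MulAut.conj g).injective
    rw [Subgroup.coe_mul, Subgroup.coe_mul, map_mul, map_mul]
    exact Subgroup.mem_centralizer_iff.mp hxc (MulAut.conj g (b : G)) ⟨b, b.2, rfl⟩
  rw [hZ, Subgroup.mem_bot] at hac
  rw [show a = 1 from congrArg Subtype.val hac]
  simp

/-- Let G be a finite group. (a) If K is a component of G with trivial centre, then the normal closure of K in G is a minimal normal subgroup of G. (b) If the Fitting subgroup of G is trivial, then the layer E(G) is generated by the minimal normal subgroups of G. -/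
theorem result {G : Type*} [Group G] [Finite G] : (∀ K : Subgroup G, Cfsg.IsComponent K → Subgroup.center ↥K = ⊥ → (Subgroup.normalClosure (K : Set G) ≠ ⊥ ∧ ∀ N : Subgroup G, N.Normal → N ≤ Subgroup.normalClosure (K : Set G) → N = ⊥ ∨ N = Subgroup.normalClosure (K : Set G))) ∧ (Cfsg.fittingSubgroup G = ⊥ → sSup {N : Subgroup G | N ≠ ⊥ ∧ N.Normal ∧ ∀ N' : Subgroup G, N'.Normal → N' ≤ N → N' = ⊥ ∨ N' = N} = Cfsg.layer G) := by
  refine ⟨minimal_normal, fun hF => ?_⟩
  have hcenter : ∀ L : Subgroup G, Cfsg.IsComponent L → Subgroup.center ↥L = ⊥ := by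
    intro L hL
    have hsn : ((Subgroup.center ↥L).map L.subtype).IsSubnormal :=
      Subgroup.IsSubnormal.trans' (Subgroup.Normal.isSubnormal inferInstance) hL.1
    have hnil : Group.IsNilpotent ↥((Subgroup.center ↥L).map L.subtype) :=
      haveI : Group.IsNilpotent ↥(Subgroup.center ↥L) := ⟨1, Subgroup.upperCentralSeries_one_eq_top_iff.mpr ⟨⟨fun a b => Subtype.ext ((Subgroup.mem_center_iff.mp b.2) a.1)⟩⟩⟩
      Group.nilpotent_of_mulEquiv ((Subgroup.center ↥L).equivMapOfInjective _ L.subtype_injective)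
    have h := Cfsg.Agent.S3743.le_fitting hsn hnil
    rw [hF, le_bot_iff, Subgroup.map_eq_bot_iff_of_injective _ L.subtype_injective] at h
    exact h
  apply le_antisymm
  · refine sSup_le ?_
    rintro N ⟨hN1, hN, hmin⟩
    obtain ⟨L, hL, hLN⟩ : ∃ L, Cfsg.IsComponent L ∧ L ≤ N := by
      by_contra! hno
      apply hN1
      rw [← le_bot_iff, ← hF]
      refine le_trans ?_ CfsgLib.Components.centralizer_generalizedFitting_le
      rw [Cfsg.generalizedFittingSubgroup, hF, sup_bot_eq, Subgroup.le_centralizer_iff]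
      refine sSup_le fun L hL => ?_
      haveI := hN
      exact Subgroup.commutator_eq_bot_iff_le_centralizer.mp
        ((CfsgLib.Components.IsComponent.le_or_commutator_eq_bot_of_normal hL N).resolve_left (hno L hL))
    haveI := hN
    rcases hmin _ Subgroup.normalClosure_normal (Subgroup.normalClosure_le_normal hLN) with h | h
    · exact absurd h (minimal_normal L hL (hcenter L hL)).1
    · rw [← h]
      haveI : (Cfsg.layer G).Normal := CfsgLib.Components.layer_normal
      exact Subgroup.normalClosure_le_normal (CfsgLib.Components.IsComponent.le_layer hL)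
  · refine sSup_le fun L hL => Subgroup.le_normalClosure.trans (le_sSup ?_)
    obtain ⟨h1, h2⟩ := minimal_normal L hL (hcenter L hL)
    exact ⟨h1, Subgroup.normalClosure_normal, h2⟩

end Cfsg.Agent.S3747
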