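import Cfsg.Statements.S0763

set_option autoImplicit false
open Cfsg

namespace Cfsg.Agent.S0763

/-- Binary quadratic forms in characteristic two over a finite field: if Q is a quadratic form on a 2-dimensional space whose polar form is non-degenerate, then either there are vectors v, w with Q v = Q w = 0 and polar value 1 (Q is xy in these coordinates), or there are v, w and μ with Q v = 1, Q w = μ, polar value 1 and x² + x + μ without roots in F (Q is x² + xy + μy²). -/
theorem result {F V : Type*} [Field F] [Finite F] [CharP F 2] [AddCommGroup V] [Module F V] (Q : QuadraticForm F V) (h2 : Module.finrank F V = 2) (hQ : (QuadraticMap.polarBilin Q).Nondegenerate) : (∃ v w : V, LinearIndependent F ![v, w] ∧ Q v = 0 ∧ Q w = 0 ∧ QuadraticMap.polar Q v w = 1) ∨ (∃ (v w : V) (μ : F), LinearIndependent F ![v, w] ∧ (∀ x : F, x ^ 2 + x + μ ≠ 0) ∧ Q v = 1 ∧ Q w = μ ∧ QuadraticMap.polar Q v w = 1) := by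
  have hself : ∀ v, QuadraticMap.polar Q v v = 0 := fun v => by
    rw [QuadraticMap.polar_self, two_smul, CharTwo.add_self_eq_zero]
  have hLI : ∀ v w : V, QuadraticMap.polar Q v w = 1 → LinearIndependent F ![v, w] := by
    intro v w h
    rw [LinearIndependent.pair_iff]
    intro s t hst
    have h1 := congrArg (QuadraticMap.polarBilin Q v) hst
    simp [hself, h] at h1
    subst h1
    have h2 := congrArg (fun z => QuadraticMap.polarBilin Q z w) hst
    simp [h] at h2
    exact ⟨h2, rfl⟩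
  obtain ⟨v₀, hv₀⟩ : ∃ v, Q v ≠ 0 := by
    by_contra h
    haveI : Subsingleton V := subsingleton_of_forall_eq 0 fun x => hQ.1 x fun y => by
      simp [QuadraticMap.polar, fun z => not_not.1 fun hz : Q z ≠ 0 => h ⟨z, hz⟩]
    have := Module.finrank_zero_of_subsingleton (R := F) (M := V)
    omega
  obtain ⟨r, hr⟩ := FiniteField.isSquare_of_char_two (ringChar.eq F 2) (Q v₀)⁻¹
  obtain ⟨v, hv⟩ : ∃ v, Q v = 1 :=
    ⟨r • v₀, by rw [QuadraticMap.map_smul, ← hr, smul_eq_mul, inv_mul_cancel₀ hv₀]⟩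
  obtain ⟨w₀, hw₀⟩ : ∃ w, QuadraticMap.polar Q v w ≠ 0 := by
    by_contra h
    have hv0 : v = 0 := hQ.1 v fun y => not_not.1 fun hy => h ⟨y, hy⟩
    simp [hv0] at hv
  obtain ⟨w, hw⟩ : ∃ w, QuadraticMap.polar Q v w = 1 :=
    ⟨(QuadraticMap.polar Q v w₀)⁻¹ • w₀, by
      rw [QuadraticMap.polar_smul_right, smul_eq_mul, inv_mul_cancel₀ hw₀]⟩
  by_cases hroot : ∀ x : F, x ^ 2 + x + Q w ≠ 0
  · exact Or.inr ⟨v, w, Q w, hLI v w hw, hroot, hv, rfl, hw⟩
  obtain ⟨x, hx⟩ : ∃ x : F, x ^ 2 + x + Q w = 0 := by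
    by_contra h; exact hroot fun x hx => h ⟨x, hx⟩
  have hval : ∀ y : F, Q (y • v + w) = y ^ 2 + y + Q w := fun y => by
    rw [QuadraticMap.map_add Q, QuadraticMap.map_smul, QuadraticMap.polar_smul_left, hw, hv]
    simp only [smul_eq_mul]
    ring
  have h2 : (2 : F) = 0 := CharTwo.two_eq_zero
  have hp : QuadraticMap.polar Q (x • v + w) ((x + 1) • v + w) = 1 := by
    simp only [QuadraticMap.polar_add_left, QuadraticMap.polar_add_right,
      QuadraticMap.polar_smul_left, QuadraticMap.polar_smul_right, hself, hw,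
      QuadraticMap.polar_comm Q w v, smul_eq_mul]
    linear_combination x * h2
  exact Or.inl ⟨_, _, hLI _ _ hp, by rw [hval, hx],
    by rw [hval]; linear_combination hx + (x + 1) * h2, hp⟩

end Cfsg.Agent.S0763
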