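import Cfsg.Statements.S2759
import Cfsg.Agent.LocalEven.Involves
import Cfsg.Agent.LocalStructure.Averaging
import Cfsg.Agent.LocalStructure.Reduced
import Cfsg.Agent.Solvable.Frattini

set_option autoImplicit false
open scoped commutatorElement Pointwise
open Cfsg

namespace Cfsg.Agent.S2759

open Subgroup

variable {G : Type*} [Group G] [Finite G]

lemma mem_normalizer_of_conj_mem {H : Subgroup G} {g : G} (h : ∀ t ∈ H, g * t * g⁻¹ ∈ H) :
    g ∈ Subgroup.normalizer (H : Set G) := by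
  have hle : H.map (MulAut.conj g).toMonoidHom ≤ H := by rintro _ ⟨t, ht, rfl⟩; exact h t ht
  have heq := Subgroup.eq_of_le_of_card_ge hle
    (Subgroup.card_map_of_injective (MulAut.conj g).injective).ge
  refine mem_normalizer_iff.mpr fun t => ⟨h t, fun ht => ?_⟩
  obtain ⟨s, hs, e⟩ := (heq.symm ▸ ht : g * t * g⁻¹ ∈ H.map (MulAut.conj g).toMonoidHom)
  exact (MulAut.conj g).injective e ▸ hs

/-- Partner of `0` in the image of the double transposition pairing `0` with `i + 1`. -/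
def partner (σ : Equiv.Perm (Fin 4)) (i : Fin 3) : Fin 3 :=
  ⟨(if σ 0 = 0 then (σ i.succ).val - 1 else if σ i.succ = 0 then (σ 0).val - 1
    else 5 - (σ 0).val - (σ i.succ).val) % 3, Nat.mod_lt _ (by decide)⟩

/-- The action of `S₄` on the three double transpositions. -/
def toS3 : Equiv.Perm (Fin 4) →* Equiv.Perm (Fin 3) :=
  MonoidHom.mk' (fun σ => ⟨partner σ, partner σ⁻¹,
      fun i => by revert σ i; decide +kernel, fun i => by revert σ i; decide +kernel⟩)
    (fun σ τ => Equiv.ext fun i => by revert σ τ i; decide +kernel)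

lemma toS3_surjective : ∀ τ, ∃ σ, toS3 σ = τ := by decide +kernel

lemma toS3_eq_one_of_commute :
    ∀ σ, (∀ τ, toS3 τ = 1 → σ * τ = τ * σ) → toS3 σ = 1 := by decide +kernel

lemma card_ker_toS3 : Nat.card toS3.ker = 4 := by
  rw [Nat.card_eq_fintype_card]; decide +kernel

lemma necessity (K : Subgroup G) (f : ↥K →* Equiv.Perm (Fin 4)) (hf : Function.Surjective f) :
    ∃ T : Subgroup G, IsPGroup 2 ↥T ∧ Cfsg.Involves (Equiv.Perm (Fin 3))
      (↥(Subgroup.normalizer (T : Set G)) ⧸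
        (Subgroup.centralizer (T : Set G)).subgroupOf (Subgroup.normalizer (T : Set G))) := by
  set L := toS3.ker.comap f with hL
  let P : Sylow 2 ↥L := default
  set P' := (P : Subgroup ↥L).map L.subtype with hP'
  set g : ↥L →* ↥toS3.ker := f.subgroupComap toS3.ker with hg
  have hgs : Function.Surjective g := MonoidHom.subgroupComap_surjective_of_surjective f _ hf
  have hPg : (P : Subgroup ↥L).map g = ⊤ := by
    have h1 := Subgroup.index_map_dvd (P : Subgroup ↥L) hgs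
    have h2 : ((P : Subgroup ↥L).map g).index ∣ Nat.card ↥toS3.ker := Subgroup.index_dvd_card _
    rw [card_ker_toS3] at h2
    rw [← Subgroup.index_eq_one]
    have h3 : ¬ 2 ∣ ((P : Subgroup ↥L).map g).index := fun h => P.not_dvd_index (h.trans h1)
    have h4 := Nat.le_of_dvd (by decide) h2
    interval_cases ((P : Subgroup ↥L).map g).index <;> omega
  set T := P'.map K.subtype with hT
  refine ⟨T, (P.isPGroup'.map _).map _, ?_⟩
  set K₁ := Subgroup.normalizer (P' : Set ↥K) with hK₁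
  let ι : ↥K₁ →* ↥(Subgroup.normalizer (T : Set G)) :=
    (K.subtype.comp K₁.subtype).codRestrict _ fun x => le_normalizer_map K.subtype ⟨x, x.2, rfl⟩
  haveI : ((Subgroup.centralizer (T : Set G)).subgroupOf
      (Subgroup.normalizer (T : Set G))).Normal :=
    ⟨fun n hn x => mem_subgroupOf.mpr ((mem_normalizer_iff.mp
      (CfsgLib.LocalStructure.normalizer_le_normalizer_centralizer T x.2) _).mp hn)⟩
  let ψ := (QuotientGroup.mk' ((Subgroup.centralizer (T : Set G)).subgroupOf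
    (Subgroup.normalizer (T : Set G)))).comp ι
  let h : ↥K₁ →* Equiv.Perm (Fin 3) := toS3.comp (f.comp K₁.subtype)
  have hh : Function.Surjective h := by
    intro τ
    obtain ⟨σ, rfl⟩ := toS3_surjective τ
    obtain ⟨k, rfl⟩ := hf σ
    have htop := Sylow.normalizer_sup_eq_top P
    rw [← hP', ← hK₁] at htop
    have hk : k ∈ K₁ ⊔ L := htop ▸ mem_top k
    rw [mem_sup_of_normal_right] at hk
    obtain ⟨n, hn, l, hl, rfl⟩ := hk
    refine ⟨⟨n, hn⟩, ?_⟩
    show toS3 (f n) = toS3 (f (n * l))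
    rw [map_mul, map_mul, (MonoidHom.mem_ker.mp hl : toS3 (f l) = 1), mul_one]
  have hker : ψ.rangeRestrict.ker ≤ h.ker := by
    intro x hx
    rw [MonoidHom.ker_rangeRestrict, MonoidHom.mem_ker] at hx
    have hxc : ((x : ↥K) : G) ∈ Subgroup.centralizer (T : Set G) :=
      mem_subgroupOf.mp ((QuotientGroup.eq_one_iff (ι x)).mp hx)
    rw [MonoidHom.mem_ker]
    refine toS3_eq_one_of_commute _ fun τ hτ => ?_
    obtain ⟨l, hl, hlτ⟩ : (⟨τ, hτ⟩ : ↥toS3.ker) ∈ (P : Subgroup ↥L).map g := hPg ▸ mem_top _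
    have hτl : f l = τ := congrArg Subtype.val hlτ
    have hcomm : ((l : ↥K) : G) * (x : ↥K) = (x : ↥K) * (l : ↥K) :=
      mem_centralizer_iff.mp hxc _ ⟨l, ⟨l, hl, rfl⟩, rfl⟩
    show f x * τ = τ * f x
    rw [← hτl, ← map_mul, ← map_mul]
    exact congrArg f (Subtype.ext hcomm.symm)
  refine CfsgLib.LocalEven.involves_of_surjective ψ.range
    (ψ.rangeRestrict.liftOfSurjective ψ.rangeRestrict_surjective ⟨h, hker⟩) fun τ => ?_
  obtain ⟨x, rfl⟩ := hh τ
  exact ⟨ψ.rangeRestrict x, MonoidHom.liftOfRightInverse_comp_apply _ _ _ ⟨h, hker⟩ x⟩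

/-- A four-group inside a normal elementary abelian `2`-group extended by an inverted pair gives
an `S₄` section. -/
lemma involves_s4 (V : Subgroup G) [V.Normal] (hV : Cfsg.IsElementaryAbelian 2 V) {y z : G}
    (hz : ∃ k, orderOf z = 2 ^ k) (hy : ∃ k, orderOf y = 3 ^ k) (hinv : z * y * z⁻¹ = y⁻¹)
    (hy3 : y ^ 3 ∈ Subgroup.centralizer (V : Set G))
    (hyV : y ∉ Subgroup.centralizer (V : Set G)) : Cfsg.Involves (Equiv.Perm (Fin 4)) G := by
  classical
  obtain ⟨v, hv, hvy⟩ : ∃ v ∈ V, y * v * y⁻¹ ≠ v := by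
    by_contra hall
    push Not at hall
    exact hyV (mem_centralizer_iff.mpr fun v hv => (mul_inv_eq_iff_eq_mul.mp (hall v hv)).symm)
  let c : G → G := fun w => y * w * y⁻¹
  have hcV : ∀ w ∈ V, c w ∈ V := fun w hw => (inferInstance : V.Normal).conj_mem w hw y
  have hsq : ∀ w ∈ V, w * w = 1 := fun w hw => by rw [← sq]; exact hV.2 w hw
  have hinvol : ∀ w ∈ V, w⁻¹ = w := fun w hw => inv_eq_of_mul_eq_one_right (hsq w hw)
  have hcm : ∀ a ∈ V, ∀ b ∈ V, a * b = b * a := fun a ha b hb => by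
    haveI := hV.1
    exact congrArg Subtype.val (mul_comm' (⟨a, ha⟩ : ↥V) ⟨b, hb⟩)
  have hc3 : ∀ w ∈ V, c (c (c w)) = w := fun w hw => by
    calc c (c (c w)) = y ^ 3 * w * (y ^ 3)⁻¹ := by
          simp only [c, show y ^ 3 = y * y * y by simp [pow_succ]]; group
      _ = w := by rw [← mem_centralizer_iff.mp hy3 w hw, mul_inv_cancel_right]
  have hmul : ∀ a b, c (a * b) = c a * c b := fun a b => by simp only [c]; group
  -- an element of norm one
  set W : Subgroup G :=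
    { carrier := {w | w ∈ V ∧ w * c w * c (c w) = 1}
      one_mem' := ⟨one_mem V, by simp [c]⟩
      mul_mem' := fun {a b} ⟨ha, ha'⟩ ⟨hb, hb'⟩ => ⟨mul_mem ha hb, by
        calc a * b * c (a * b) * c (c (a * b))
            = a * (b * (c a * c b)) * (c (c a) * c (c b)) := by rw [hmul, hmul, mul_assoc a b]
          _ = a * (c a * (b * c b)) * (c (c a) * c (c b)) := by
              rw [← mul_assoc b, hcm b hb (c a) (hcV a ha), mul_assoc (c a)]
          _ = a * c a * ((b * c b) * c (c a)) * c (c b) := by group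
          _ = a * c a * (c (c a) * (b * c b)) * c (c b) := by
              rw [hcm (b * c b) (mul_mem hb (hcV b hb)) _ (hcV _ (hcV a ha))]
          _ = (a * c a * c (c a)) * (b * c b * c (c b)) := by group
          _ = 1 := by rw [ha', hb', one_mul]⟩
      inv_mem' := fun {a} ⟨ha, ha'⟩ => by rw [hinvol a ha]; exact ⟨ha, ha'⟩ } with hW
  have hwW : v * c v ∈ W := by
    refine ⟨mul_mem hv (hcV v hv), ?_⟩
    calc v * c v * c (v * c v) * c (c (v * c v))
        = v * (c v * c v) * (c (c v) * c (c v)) * c (c (c v)) := by simp only [hmul]; group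
      _ = 1 := by rw [hsq _ (hcV v hv), hsq _ (hcV _ (hcV v hv)), hc3 v hv, mul_one, mul_one, hsq v hv]
  have hWV : W ≤ V := fun w hw => hw.1
  have hWne : W ≠ ⊥ := fun h => hvy (by
    have h1 : v * c v = 1 := mem_bot.mp (h ▸ hwW)
    have h2 := inv_eq_of_mul_eq_one_right h1
    rw [hinvol v hv] at h2
    exact h2.symm)
  have hzV : ∀ w ∈ V, z * w * z⁻¹ ∈ V := fun w hw => (inferInstance : V.Normal).conj_mem w hw z
  have hWn : zpowers z ≤ Subgroup.normalizer (W : Set G) := by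
    rw [zpowers_le]
    refine mem_normalizer_of_conj_mem fun w hw => ?_
    obtain ⟨hwV, hw'⟩ := hw
    refine ⟨hzV w hwV, ?_⟩
    have hyz : y * z = z * y⁻¹ := by
      calc y * z = (z * y * z⁻¹)⁻¹ * z := by rw [hinv, inv_inv]
        _ = z * y⁻¹ := by group
    have e1 : c (z * w * z⁻¹) = z * c (c w) * z⁻¹ := by
      calc c (z * w * z⁻¹) = (y * z) * w * (y * z)⁻¹ := by simp only [c]; group
        _ = z * (y⁻¹ * w * y⁻¹⁻¹) * z⁻¹ := by rw [hyz]; group
        _ = z * (y⁻¹ * c (c (c w)) * y⁻¹⁻¹) * z⁻¹ := by rw [hc3 w hwV]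
        _ = _ := by simp only [c]; group
    have e2 : c (c (z * w * z⁻¹)) = z * c w * z⁻¹ := by
      rw [e1]
      calc c (z * c (c w) * z⁻¹) = (y * z) * c (c w) * (y * z)⁻¹ := by simp only [c]; group
        _ = z * (y⁻¹ * c (c w) * y⁻¹⁻¹) * z⁻¹ := by rw [hyz]; group
        _ = _ := by simp only [c]; group
    rw [e2, e1]
    calc z * w * z⁻¹ * (z * c (c w) * z⁻¹) * (z * c w * z⁻¹)
        = z * (w * (c (c w) * c w)) * z⁻¹ := by group
      _ = z * (w * c w * c (c w)) * z⁻¹ := by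
          rw [hcm _ (hcV _ (hcV w hwV)) _ (hcV w hwV)]
          group
      _ = 1 := by rw [hw']; group
  obtain ⟨k, hk⟩ := hz
  obtain ⟨u, huW, hu1, huz⟩ := CfsgLib.LocalStructure.exists_fixed_of_isPGroup (p := 2)
    (IsPGroup.of_card (by rw [Nat.card_zpowers, hk]) : IsPGroup 2 ↥(zpowers z))
    ((show IsPGroup 2 ↥V from fun x => ⟨1, Subtype.ext (by simpa using hV.2 x x.2)⟩).to_le hWV) hWne hWn
  obtain ⟨huV, hu3⟩ := huW
  have hzu : z * u * z⁻¹ = u := by
    rw [mem_centralizer_iff.mp huz z (mem_zpowers z), mul_inv_cancel_right]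
  set u₂ := c u with hu₂
  set u₃ := c (c u) with hu₃def
  have hu₂V : u₂ ∈ V := hcV u huV
  have hu₃ : u * u₂ = u₃ := by
    have := eq_inv_of_mul_eq_one_left hu3
    rwa [hinvol _ (hcV _ hu₂V)] at this
  have hne : u₂ ≠ u := fun h => hu1 (by
    rw [h, hsq u huV] at hu₃
    rw [hu₃def, ← hu₂, h, ← hu₂, h] at hu₃
    exact hu₃.symm)
  have hzu₂ : z * u₂ * z⁻¹ = u₃ := by
    calc z * u₂ * z⁻¹ = (z * y * z⁻¹) * (z * u * z⁻¹) * (z * y * z⁻¹)⁻¹ := by
          simp only [hu₂, c]; group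
      _ = y⁻¹ * c (c (c u)) * y⁻¹⁻¹ := by rw [hinv, hzu, hc3 u huV]
      _ = u₃ := by simp only [hu₃def, c]; group
  set D := closure ({y, z} : Set G) with hD
  have hyD : y ∈ D := subset_closure (Set.mem_insert _ _)
  have hzD : z ∈ D := subset_closure (Set.mem_insert_of_mem _ rfl)
  -- no involution of the four-group lies in `D`
  have hDy : D ≤ Subgroup.normalizer (zpowers y : Set G) := by
    rw [hD, closure_le]
    rintro w (rfl | rfl)
    · exact le_normalizer (mem_zpowers w)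
    · refine mem_normalizer_of_conj_mem fun t ht => ?_
      obtain ⟨i, rfl⟩ := mem_zpowers_iff.mp ht
      rw [← conj_zpow, hinv]
      exact zpow_mem (inv_mem (mem_zpowers y)) i
  have hDu : u ∉ D := by
    intro hu
    have hmem : u₃ ∈ zpowers y := by
      rw [← hu₃, show u * u₂ = (u * y * u⁻¹) * y⁻¹ by
        simp only [hu₂, c]
        conv_rhs => rw [hinvol u huV]
        group]
      exact mul_mem ((mem_normalizer_iff.mp (hDy hu) y).mp (mem_zpowers y)) (inv_mem (mem_zpowers y))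
    obtain ⟨a, ha⟩ := hy
    obtain ⟨b, hb⟩ := CfsgLib.LocalEven.exists_orderOf_eq_pow_of_mem_zpowers hmem (q := 3) ha
    have h2 : orderOf u₃ ∣ 2 := orderOf_dvd_of_pow_eq_one (by rw [sq]; exact hsq _ (hcV _ hu₂V))
    rw [hb] at h2
    rcases b with _ | b
    · rw [pow_zero, orderOf_eq_one_iff] at hb
      rw [hb, mul_eq_one_iff_inv_eq, hinvol u huV] at hu₃
      exact hne hu₃.symm
    · exact absurd ((dvd_pow_self 3 b.succ_ne_zero).trans h2) (by decide)
  have hDu₂ : u₂ ∉ D := fun h => hDu (by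
    have := mul_mem (mul_mem (inv_mem hyD) h) hyD
    simpa [hu₂, c, mul_assoc] using this)
  have hDu₃ : u₃ ∉ D := fun h => hDu₂ (by
    have := mul_mem (mul_mem (inv_mem hyD) h) hyD
    simpa [hu₃def, hu₂, c, mul_assoc] using this)
  set U : Subgroup G :=
    { carrier := {1, u, u₂, u₃}
      one_mem' := by simp
      mul_mem' := by
        have a1 : u₂ * u = u₃ := by rw [← hcm u huV u₂ hu₂V, hu₃]
        have a2 : u * u₃ = u₂ := by rw [← hu₃, ← mul_assoc, hsq u huV, one_mul]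
        have a3 : u₃ * u = u₂ := by rw [← hcm u huV u₃ (hcV _ hu₂V), a2]
        have a4 : u₂ * u₃ = u := by
          rw [← hu₃, ← mul_assoc, ← hcm u huV u₂ hu₂V, mul_assoc, hsq _ hu₂V, mul_one]
        have a5 : u₃ * u₂ = u := by rw [← hcm u₂ hu₂V u₃ (hcV _ hu₂V), a4]
        rintro a b (h | h | h | h) (h' | h' | h' | h') <;> rw [h, h'] <;>
          simp [hsq u huV, hsq u₂ hu₂V, hsq u₃ (hcV _ hu₂V), hu₃, a1, a2, a3, a4, a5]
      inv_mem' := by
        rintro a (h | h | h | h) <;> rw [h] <;>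
          simp [hinvol u huV, hinvol u₂ hu₂V, hinvol u₃ (hcV _ hu₂V)] } with hU
  have hmemU : ∀ w, w ∈ U ↔ w = 1 ∨ w = u ∨ w = u₂ ∨ w = u₃ := fun w => Iff.rfl
  have hDU : D ≤ Subgroup.normalizer (U : Set G) := by
    rw [hD, closure_le]
    rintro w (rfl | rfl) <;> refine mem_normalizer_of_conj_mem fun t ht => (hmemU _).mpr ?_ <;>
      rcases (hmemU t).mp ht with rfl | rfl | rfl | rfl
    · simp
    · exact Or.inr (Or.inr (Or.inl rfl))
    · exact Or.inr (Or.inr (Or.inr rfl))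
    · exact Or.inr (Or.inl (hc3 _ huV))
    · simp
    · exact Or.inr (Or.inl hzu)
    · exact Or.inr (Or.inr (Or.inr hzu₂))
    · refine Or.inr (Or.inr (Or.inl ?_))
      rw [← hu₃, show w * (u * u₂) * w⁻¹ = (w * u * w⁻¹) * (w * u₂ * w⁻¹) by group, hzu, hzu₂,
        ← hu₃, ← mul_assoc, hsq u huV, one_mul]
  set K := U ⊔ D with hK
  set H := D.subgroupOf K with hH
  have hUK : U ≤ K := le_sup_left
  have hdecomp : ∀ k : ↥K, ∃ w ∈ U, ∃ d ∈ D, (k : G) = w * d := by
    intro k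
    have : (k : G) ∈ ((U : Set G) * (D : Set G)) := by
      rw [← Subgroup.coe_mul_of_right_le_normalizer_left U D hDU]; exact k.2
    obtain ⟨w, hw, d, hd, e⟩ := this
    exact ⟨w, hw, d, hd, e.symm⟩
  let j : Fin 4 → ↥U := ![1, ⟨u, Or.inr (Or.inl rfl)⟩, ⟨u₂, Or.inr (Or.inr (Or.inl rfl))⟩,
    ⟨u₃, Or.inr (Or.inr (Or.inr rfl))⟩]
  let q : ↥U → ↥K ⧸ H := fun w => ((⟨w, hUK w.2⟩ : ↥K) : ↥K ⧸ H)
  have hqinj : Function.Injective q := by
    intro a b hab
    have h1 : (a : G)⁻¹ * b ∈ D := by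
      have := mem_subgroupOf.mp (QuotientGroup.eq.mp hab)
      simpa using this
    have h2 : (a : G)⁻¹ * b ∈ U := mul_mem (inv_mem a.2) b.2
    rcases (hmemU _).mp h2 with h | h | h | h
    · exact Subtype.ext (inv_mul_eq_one.mp h)
    · exact absurd (h ▸ h1) hDu
    · exact absurd (h ▸ h1) hDu₂
    · exact absurd (h ▸ h1) hDu₃
  have hqsurj : Function.Surjective q := by
    intro x
    induction x using QuotientGroup.induction_on with
    | _ k =>
      obtain ⟨w, hw, d, hd, e⟩ := hdecomp k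
      refine ⟨⟨w, hw⟩, QuotientGroup.eq.mpr (mem_subgroupOf.mpr ?_)⟩
      simpa [e] using hd
  have hju : Function.Bijective j := by
    have e23 : u₂ ≠ u₃ := fun h => hu1 (by
      have := congrArg (· * u₂) hu₃
      simp only [mul_assoc, hsq _ hu₂V, mul_one] at this
      rw [this, ← h, hsq _ hu₂V])
    have e13 : u ≠ u₃ := fun h => hDu₂ (by
      rw [← h] at hu₃
      rw [mul_eq_left] at hu₃
      rw [hu₃]; exact one_mem D)
    have e2 : u₂ ≠ 1 := fun h => hDu₂ (h ▸ one_mem D)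
    have e3 : u₃ ≠ 1 := fun h => hDu₃ (h ▸ one_mem D)
    constructor
    · intro a b hab
      have := congrArg Subtype.val hab
      fin_cases a <;> fin_cases b <;>
        simp [j, hu1, hu1.symm, e2, e2.symm, e3, e3.symm, hne, hne.symm, e13, e13.symm, e23,
          e23.symm] at this ⊢
    · rintro ⟨w, rfl | rfl | rfl | rfl⟩
      exacts [⟨0, rfl⟩, ⟨1, rfl⟩, ⟨2, rfl⟩, ⟨3, rfl⟩]
  let e : Fin 4 ≃ ↥K ⧸ H :=
    (Equiv.ofBijective j hju).trans (Equiv.ofBijective q ⟨hqinj, hqsurj⟩)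
  let F : ↥K →* Equiv.Perm (Fin 4) :=
    (e.symm.permCongrHom.toMonoidHom).comp (MulAction.toPermHom ↥K (↥K ⧸ H))
  have hF : ∀ k i, F k i = e.symm (k • e i) := fun k i => rfl
  have he : ∀ i, e i = q (j i) := fun i => rfl
  set A := F.range with hA
  let Y : ↥A := ⟨F ⟨y, mem_sup_right hyD⟩, ⟨_, rfl⟩⟩
  let Z : ↥A := ⟨F ⟨z, mem_sup_right hzD⟩, ⟨_, rfl⟩⟩
  have hact : ∀ (d : G) (hd : d ∈ D) (a b : ↥U), d * a * d⁻¹ = b →
      (⟨d, mem_sup_right hd⟩ : ↥K) • q a = q b := by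
    intro d hd a b hab
    refine QuotientGroup.eq.mpr (mem_subgroupOf.mpr ?_)
    simp only [smul_eq_mul, Subgroup.coe_mul, Subgroup.coe_inv]
    rw [← hab, show ((d * a : G))⁻¹ * (d * a * d⁻¹) = d⁻¹ by group]
    exact inv_mem hd
  have hfix : ∀ (d : G) (hd : d ∈ D), F ⟨d, mem_sup_right hd⟩ 0 = 0 := by
    intro d hd
    rw [hF, he, hact d hd (j 0) (j 0) (by simp [j]), ← he, Equiv.symm_apply_apply]
  have hY : (Y : Equiv.Perm (Fin 4)) ≠ 1 := fun h => by
    have h1 : F ⟨y, mem_sup_right hyD⟩ 1 = 1 := by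
      change (Y : Equiv.Perm (Fin 4)) 1 = 1; rw [h]; rfl
    rw [hF, he, hact y hyD (j 1) (j 2) rfl, ← he, Equiv.symm_apply_apply] at h1
    exact absurd h1 (by decide)
  have hZ : (Z : Equiv.Perm (Fin 4)) ≠ 1 := fun h => by
    have h1 : F ⟨z, mem_sup_right hzD⟩ 2 = 2 := by
      change (Z : Equiv.Perm (Fin 4)) 2 = 2; rw [h]; rfl
    rw [hF, he, hact z hzD (j 2) (j 3) hzu₂, ← he, Equiv.symm_apply_apply] at h1
    exact absurd h1 (by decide)
  have hstab : ∀ B : ↥A, (B : Equiv.Perm (Fin 4)) 0 = 0 →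
      B ∈ MulAction.stabilizer ↥A (0 : Fin 4) := fun B h => h
  have hdvd : ∀ (q' : ℕ) [Fact q'.Prime] (w : G) (hw : w ∈ D) (a : ℕ), orderOf w = q' ^ a →
      F ⟨w, mem_sup_right hw⟩ ≠ 1 → q' ∣ Nat.card (MulAction.stabilizer ↥A (0 : Fin 4)) := by
    intro q' _ w hw a ha hne1
    have h1 : orderOf (F ⟨w, mem_sup_right hw⟩) ∣ q' ^ a :=
      (orderOf_map_dvd F _).trans (dvd_of_eq ((orderOf_mk w _).trans ha))
    obtain ⟨b, -, hb⟩ := (Nat.dvd_prime_pow Fact.out).mp h1
    rcases b with _ | b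
    · exact absurd (orderOf_eq_one_iff.mp (hb.trans (pow_zero q'))) hne1
    · refine (dvd_pow_self q' b.succ_ne_zero).trans ?_
      rw [← hb]
      have h2 := (MulAction.stabilizer ↥A (0 : Fin 4)).orderOf_dvd_natCard
        (hstab ⟨F ⟨w, mem_sup_right hw⟩, ⟨_, rfl⟩⟩ (hfix w hw))
      rwa [← orderOf_coe] at h2
  obtain ⟨ay, hay⟩ := hy
  haveI : Fact (Nat.Prime 3) := ⟨Nat.prime_three⟩
  have h6 : 6 ∣ Nat.card (MulAction.stabilizer ↥A (0 : Fin 4)) :=
    (show Nat.Coprime 2 3 by decide).mul_dvd_of_dvd_of_dvd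
      (hdvd 2 z hzD k hk hZ) (hdvd 3 y hyD ay hay hY)
  have horb : MulAction.orbit ↥A (0 : Fin 4) = Set.univ := by
    rw [Set.eq_univ_iff_forall]
    intro i
    refine ⟨⟨F ⟨(j i : G), hUK (j i).2⟩, ⟨_, rfl⟩⟩, ?_⟩
    show F ⟨(j i : G), hUK (j i).2⟩ 0 = i
    rw [hF, Equiv.symm_apply_eq, he, he]
    refine QuotientGroup.eq.mpr (mem_subgroupOf.mpr ?_)
    simp [j]
  have hindex : (MulAction.stabilizer ↥A (0 : Fin 4)).index = 4 := by
    rw [MulAction.index_stabilizer, horb, Set.ncard_univ, Nat.card_fin]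
  have hcard := (MulAction.stabilizer ↥A (0 : Fin 4)).card_mul_index
  have hA24 : Nat.card ↥A ∣ 24 := by
    refine (Subgroup.card_subgroup_dvd_card A).trans (dvd_of_eq ?_)
    rw [Nat.card_eq_fintype_card, Fintype.card_perm, Fintype.card_fin]; rfl
  have hAtop : A = ⊤ := by
    refine Subgroup.eq_top_of_card_eq A (Nat.dvd_antisymm ?_ ?_)
    · exact Subgroup.card_subgroup_dvd_card A
    · rw [show Nat.card (Equiv.Perm (Fin 4)) = 6 * 4 by
        rw [Nat.card_eq_fintype_card, Fintype.card_perm, Fintype.card_fin]; rfl, ← hcard, hindex]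
      exact Nat.mul_dvd_mul_right h6 4
  exact CfsgLib.LocalEven.involves_of_surjective K F (MonoidHom.range_eq_top.mp hAtop)

lemma sufficiency (T : Subgroup G) (hT : IsPGroup 2 ↥T)
    (h : Cfsg.Involves (Equiv.Perm (Fin 3)) (↥(Subgroup.normalizer (T : Set G)) ⧸
      (Subgroup.centralizer (T : Set G)).subgroupOf (Subgroup.normalizer (T : Set G)))) :
    Cfsg.Involves (Equiv.Perm (Fin 4)) G := by
  haveI : Fact (Nat.Prime 3) := ⟨Nat.prime_three⟩
  set N := Subgroup.normalizer (T : Set G) with hN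
  set C := (Subgroup.centralizer (T : Set G)).subgroupOf N with hC
  haveI : C.Normal := ⟨fun n hn x => mem_subgroupOf.mpr ((mem_normalizer_iff.mp
      (CfsgLib.LocalStructure.normalizer_le_normalizer_centralizer T x.2) _).mp hn)⟩
  obtain ⟨K, f, hf⟩ := CfsgLib.LocalEven.exists_surjective_of_involves' h
  set K' := K.comap (QuotientGroup.mk' C) with hK'
  let f' : ↥K' →* Equiv.Perm (Fin 3) := f.comp ((QuotientGroup.mk' C).subgroupComap K)
  have hf' : Function.Surjective f' := hf.comp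
    (MonoidHom.subgroupComap_surjective_of_surjective _ K (QuotientGroup.mk'_surjective C))
  obtain ⟨x, P, ⟨k, hk⟩, hP, hxP, w, hw, hfw⟩ :=
    CfsgLib.LocalEven.exists_twisted_of_surjective (p := 3) (by decide) hf'
      (r := finRotate 3) (s := Equiv.swap 0 1)
      (orderOf_eq_prime (by decide) (by decide)) (by decide) (by decide) (fun σ => by
        have h' : ∀ σ : Equiv.Perm (Fin 3),
            σ * finRotate 3 * σ⁻¹ = finRotate 3 ∨ σ * finRotate 3 * σ⁻¹ = (finRotate 3)⁻¹ := by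
          decide
        rcases h' σ with e | e <;> rw [e]
        exacts [mem_zpowers _, inv_mem (mem_zpowers _)])
  have hCK : ∀ c : ↥K', (c : ↥N) ∈ C → f' c = 1 := fun c hc => by
    show f _ = 1
    rw [show ((QuotientGroup.mk' C).subgroupComap K) c = 1 from
      Subtype.ext ((QuotientGroup.eq_one_iff _).mpr hc), map_one]
  obtain ⟨z, hz, y, hy, hyM, hinv⟩ := CfsgLib.LocalEven.exists_inverted_not_mem (p := 3) (by decide)
    (M := C.subgroupOf K') hP ⟨k, hk⟩ hxP
    (by rw [normalizer_eq_top_iff.mpr inferInstance]; exact mem_top x)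
    ⟨w, hw, fun hm => hfw (hCK _ (mem_subgroupOf.mp hm))⟩
  obtain ⟨j, hj⟩ : ∃ j, orderOf y = 3 ^ j := by
    obtain ⟨a, ha⟩ := hP ⟨y, hy⟩
    obtain ⟨i, -, hi⟩ := (Nat.dvd_prime_pow Fact.out).mp
      (orderOf_dvd_of_pow_eq_one (congrArg Subtype.val ha : y ^ 3 ^ a = 1))
    exact ⟨i, hi⟩
  obtain ⟨i, hi1, hi2⟩ := CfsgLib.LocalEven.exists_pow_step hj hyM
  set y₁ : ↥N := ((y ^ 3 ^ i : ↥K') : ↥N) with hy₁
  set z₁ : ↥N := (z : ↥N) with hz₁
  have hinv₁ : z₁ * y₁ * z₁⁻¹ = y₁⁻¹ := by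
    have : z * y ^ 3 ^ i * z⁻¹ = (y ^ 3 ^ i)⁻¹ := by rw [← conj_pow, hinv, inv_pow]
    exact congrArg Subtype.val this
  have hy₁o : ∃ a, orderOf y₁ = 3 ^ a := by
    rw [hy₁, orderOf_coe]
    exact CfsgLib.LocalEven.exists_orderOf_eq_pow_of_mem_zpowers
      (pow_mem (mem_zpowers y) _) hj
  obtain ⟨kz, hkz⟩ : ∃ a, orderOf z₁ = 2 ^ a := by
    rw [hz₁, orderOf_coe]
    exact CfsgLib.LocalEven.exists_orderOf_eq_pow_of_mem_zpowers hz hk
  -- pass to the Frattini quotient of `T`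
  set Φ := ((frattini ↥T).map T.subtype).subgroupOf N with hΦ
  have hΦT : (frattini ↥T).map T.subtype ≤ T := map_subtype_le _
  haveI : Φ.Normal := by
    refine ⟨fun n hn g => ?_⟩
    rw [hΦ, mem_subgroupOf] at hn ⊢
    obtain ⟨t, ht, htn⟩ := hn
    let a : ↥T ≃* ↥T :=
      { toFun := fun s => ⟨(g : G) * s * (g : G)⁻¹, (mem_normalizer_iff.mp g.2 s).mp s.2⟩
        invFun := fun s => ⟨(g : G)⁻¹ * s * (g : G), (mem_normalizer_iff''.mp g.2 s).mp s.2⟩
        left_inv := fun s => Subtype.ext (by simp [mul_assoc])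
        right_inv := fun s => Subtype.ext (by simp [mul_assoc])
        map_mul' := fun s s' => Subtype.ext (by simp [mul_assoc]) }
    refine ⟨a t, ?_, ?_⟩
    · have := Subgroup.characteristic_iff_le_comap.mp
        (inferInstance : (frattini ↥T).Characteristic) a ht
      exact this
    · simp [a, ← htn]
  set q := QuotientGroup.mk' Φ with hq
  set V := (T.subgroupOf N).map q with hV
  haveI : V.Normal := (⟨fun n hn g => mem_subgroupOf.mpr
    ((mem_normalizer_iff.mp g.2 _).mp hn)⟩ : (T.subgroupOf N).Normal).map q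
    (QuotientGroup.mk'_surjective Φ)
  have hfr : ∀ a b : ↥T, a * b * a⁻¹ * b⁻¹ ∈ frattini ↥T ∧ a ^ 2 ∈ frattini ↥T := fun a b =>
    ⟨(CfsgLib.Solvable.commutator_le_frattini hT) (commutator_mem_commutator (mem_top a) (mem_top b)),
      CfsgLib.Solvable.pow_mem_frattini hT a⟩
  have hVe : Cfsg.IsElementaryAbelian 2 V := by
    constructor
    · refine ⟨⟨?_⟩⟩
      rintro ⟨_, a, ha, rfl⟩ ⟨_, b, hb, rfl⟩
      apply Subtype.ext
      show q a * q b = q b * q a
      rw [← map_mul, ← map_mul]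
      refine QuotientGroup.eq.mpr (mem_subgroupOf.mpr
        ⟨(⟨(b : G), hb⟩⁻¹ * ⟨(a : G), ha⟩⁻¹ * ⟨(b : G), hb⟩ * ⟨(a : G), ha⟩ : ↥T), ?_, ?_⟩)
      · simpa using (hfr (⟨(b : G), hb⟩⁻¹) (⟨(a : G), ha⟩⁻¹)).1
      · simp [mul_assoc]
    · rintro _ ⟨a, ha, rfl⟩
      rw [← map_pow]
      exact (QuotientGroup.eq_one_iff _).mpr
        (mem_subgroupOf.mpr ⟨⟨(a : G), ha⟩ ^ 2, (hfr _ 1).2, rfl⟩)
  have hyC : y₁ ∉ C := fun hc => hi1 (mem_subgroupOf.mpr hc)
  have hy3C : y₁ ^ 3 ∈ C := mem_subgroupOf.mp hi2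
  refine CfsgLib.LocalEven.involves_of_hom N q (QuotientGroup.mk'_surjective Φ)
    (involves_s4 V hVe (y := q y₁) (z := q z₁) ?_ ?_ ?_ ?_ ?_)
  · obtain ⟨a, -, ha⟩ := (Nat.dvd_prime_pow Nat.prime_two).mp
      ((orderOf_map_dvd q z₁).trans (dvd_of_eq hkz))
    exact ⟨a, ha⟩
  · obtain ⟨b, hb⟩ := hy₁o
    obtain ⟨a, -, ha⟩ := (Nat.dvd_prime_pow Nat.prime_three).mp
      ((orderOf_map_dvd q y₁).trans (dvd_of_eq hb))
    exact ⟨a, ha⟩
  · rw [← map_inv, ← map_mul, ← map_mul, hinv₁, map_inv]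
  · rw [← map_pow]
    refine mem_centralizer_iff.mpr ?_
    rintro _ ⟨t, ht, rfl⟩
    rw [← map_mul, ← map_mul]
    exact congrArg q (Subtype.ext (mem_centralizer_iff.mp (mem_subgroupOf.mp hy3C) (t : G) ht))
  · intro hc
    refine hyC (mem_subgroupOf.mpr ?_)
    refine (CfsgLib.Coprime.le_centralizer_of_commutator_le_frattini (G := T)
      (A := zpowers (y₁ : G)) (zpowers_le.mpr y₁.2) ?_ ?_) (mem_zpowers _)
    · obtain ⟨a, ha⟩ := IsPGroup.iff_card.mp
        (hT.to_subgroup (frattini ↥T))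
      obtain ⟨b, hb⟩ := hy₁o
      rw [ha, Nat.card_zpowers, orderOf_coe, hb]
      exact Nat.Coprime.pow _ _ (by decide)
    · rw [commutator_le]
      intro t ht a ha
      obtain ⟨n, rfl⟩ := mem_zpowers_iff.mp ha
      have h1 : Commute (q ⟨t, le_normalizer ht⟩) (q y₁) :=
        mem_centralizer_iff.mp hc _ ⟨⟨t, le_normalizer ht⟩, ht, rfl⟩
      have h2 := h1.zpow_right n
      rw [← map_zpow] at h2
      have h3 : q (⁅(⟨t, le_normalizer ht⟩ : ↥N), y₁ ^ n⁆) = 1 := by
        rw [map_commutatorElement, commutatorElement_eq_one_iff_commute]; exact h2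
      have h4 := mem_subgroupOf.mp ((QuotientGroup.eq_one_iff _).mp h3)
      simpa [commutatorElement_def] using h4

/-- For a finite group G, the symmetric group of degree 4 is involved in G if and only if there is a 2-subgroup T of G such that the symmetric group of degree 3 is involved in N(T)/C(T). -/
theorem result {G : Type*} [Group G] [Finite G] : Cfsg.Involves (Equiv.Perm (Fin 4)) G ↔ ∃ T : Subgroup G, IsPGroup 2 ↥T ∧ Cfsg.Involves (Equiv.Perm (Fin 3)) (↥(Subgroup.normalizer (T : Set G)) ⧸ (Subgroup.centralizer (T : Set G)).subgroupOf (Subgroup.normalizer (T : Set G))) := by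
  constructor
  · intro h
    obtain ⟨K, f, hf⟩ := CfsgLib.LocalEven.exists_surjective_of_involves' h
    exact necessity K f hf
  · rintro ⟨T, hT, h⟩
    exact sufficiency T hT h

end Cfsg.Agent.S2759
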