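import Cfsg.Statements.S3007
import Cfsg.Agent.LocalEven50.MinimalCentrallyLarge

set_option autoImplicit false
open Cfsg

namespace Cfsg.Agent.S3007

open CfsgLib.LocalEven50 Subgroup
open scoped Pointwise


/-- Let P be a finite p-group and Q, R minimal centrally large subgroups of P (centrally large: |Q|·|Z(Q)| maximal among subgroups of P; minimal among such under inclusion). Then Q = (Q ∩ R)·Z(Q), the derived subgroups [Q, Q] and [R, R] coincide, |Q| = |R| and |Z(Q)| = |Z(R)|; and if Q is abelian then the minimal centrally large subgroups of P are exactly the abelian subgroups of P of largest order. -/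
theorem result {p : ℕ} [Fact p.Prime] (P : Type*) [Group P] [Finite P] (hP : IsPGroup p P) (Q R : Subgroup P) (hQ : Cfsg.IsMinimalCentrallyLarge Q) (hR : Cfsg.IsMinimalCentrallyLarge R) : (Q ⊓ R) ⊔ (Q ⊓ Subgroup.centralizer (Q : Set P)) = Q ∧ ⁅Q, Q⁆ = ⁅R, R⁆ ∧ Nat.card ↥Q = Nat.card ↥R ∧ Nat.card ↥(Q ⊓ Subgroup.centralizer (Q : Set P)) = Nat.card ↥(R ⊓ Subgroup.centralizer (R : Set P)) ∧ (IsMulCommutative ↥Q → ∀ X : Subgroup P, Cfsg.IsMinimalCentrallyLarge X ↔ X ∈ Cfsg.maxAbelianSubgroups P) := by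
  obtain ⟨hQ1, hQ2⟩ := isCentrallyLarge_iff.mp hQ.1
  obtain ⟨hR1, hR2⟩ := isCentrallyLarge_iff.mp hR.1
  rw [inf_eq_right.mpr hQ2, inf_eq_right.mpr hR2]
  obtain ⟨-, -, hc, hcard⟩ := minimalCentrallyLarge_uniform hQ hR
  refine ⟨(inf_centralizer_le_centralizer hQ hR.1).1,
    commutator_eq_of_minimalCentrallyLarge hQ hR, hcard, hc, fun hab X => ?_⟩
  have hQC : centralizer (Q : Set P) = Q :=
    le_antisymm hQ2 (le_centralizer_iff_isMulCommutative.mpr hab)
  have hQM : _ = maxCentralizerProduct P := hQ1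
  rw [hQC] at hQM
  constructor
  · intro hX
    obtain ⟨hX1, hX2⟩ := isCentrallyLarge_iff.mp hX.1
    obtain ⟨-, -, hc', hcard'⟩ := minimalCentrallyLarge_uniform hQ hX
    rw [hQC] at hc'
    have hXC : centralizer (X : Set P) = X :=
      eq_of_le_of_card_ge hX2 (hcard'.symm.trans hc').le
    refine ⟨le_centralizer_iff_isMulCommutative.mp hXC.ge, fun B hB => ?_⟩
    rw [← hcard']
    have h1 : Nat.card B * Nat.card B ≤ Nat.card Q * Nat.card Q :=
      ((Nat.mul_le_mul_left _ (card_le_of_le (le_centralizer_iff_isMulCommutative.mpr hB))).trans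
        (le_maxCentralizerProduct B)).trans hQM.ge
    exact Nat.mul_self_le_mul_self_iff.mp h1
  · intro hX
    have h1 : Nat.card Q ≤ Nat.card X := hX.2 Q hab
    have h2 : Nat.card X * Nat.card X ≤ Nat.card Q * Nat.card Q := by
      have := le_maxCentralizerProduct X
      rw [centralizer_maxAbelian hX] at this
      exact this.trans hQM.ge
    refine minimalCentrallyLarge_of_card_le hQ (isCentrallyLarge_iff.mpr ⟨?_, ?_⟩)
      (Nat.mul_self_le_mul_self_iff.mp h2)
    · refine isCentralizerLarge_of_ge (hQM.ge.trans ?_)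
      rw [centralizer_maxAbelian hX]
      exact Nat.mul_le_mul h1 h1
    · exact (centralizer_maxAbelian hX).le

end Cfsg.Agent.S3007
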