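import Cfsg.Statements.S2990
import Cfsg.Agent.LocalEven50.PushingUp
import Cfsg.Agent.S3007
-- import your own Cfsg.Agent.* helpers here

set_option autoImplicit false
open Cfsg

namespace Cfsg.Agent.S2990

open Subgroup CfsgLib.LocalEven50

/-- Let G be a finite group and S a Sylow p-subgroup of G in the basic pushing-up situation (G ≠ 1, C_G(O_p(G)) ≤ O_p(G), S lies in a unique maximal subgroup of G, and some quotient of G is isomorphic to PSL₂ over a field of order a power of p), and suppose that S centralizes Z(J(S)), where J(S) is generated by the abelian subgroups of S of largest order (that is, J̃(S) = C_S(Z(J(S))) = S). Call a subgroup R of S centrally large if |R|·|Z(R)| is as large as possible among subgroups of S, let Q be a minimal centrally large subgroup of S and let S_MCL be the subgroup generated by all minimal centrally large subgroups of S. Then the derived subgroup [Q, Q] is characteristic in S; Z(S) ∩ [Q, Q] or S_MCL is normal in G; and if [Q, Q] = 1, the minimal centrally large subgroups of S are exactly the abelian subgroups of S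 of largest order. -/
theorem result {G : Type*} [Group G] [Finite G] {p : ℕ} [Fact p.Prime] (S : Subgroup G) (hE : Cfsg.IsPushingUpSituation p S) (hJ : S ≤ Subgroup.centralizer (Cfsg.centerThompsonAOf S : Set G)) (Q : Subgroup ↥S) (hQ : Cfsg.IsMinimalCentrallyLarge Q) : (⁅Q, Q⁆).Characteristic ∧ (((S ⊓ Subgroup.centralizer (S : Set G)) ⊓ (⁅Q, Q⁆).map S.subtype).Normal ∨ ((Cfsg.minimalCentrallyLargeJoin ↥S).map S.subtype).Normal) ∧ (⁅Q, Q⁆ = ⊥ → ∀ R : Subgroup ↥S, Cfsg.IsMinimalCentrallyLarge R ↔ R ∈ Cfsg.maxAbelianSubgroups ↥S) := by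
  obtain ⟨M, q, g, h⟩ := pushUpData hE
  refine ⟨characteristic_iff_map_eq.mpr fun φ => ?_, ?_, fun hab R => ?_⟩
  · have hc : IsCentrallyLarge (Q.map φ.toMonoidHom) := by
      have e := Q.equivMapOfInjective φ.toMonoidHom φ.injective
      show _ = _
      rw [← hQ.1, ← Nat.card_congr e.toEquiv,
        ← Nat.card_congr (Subgroup.centerCongr e).toEquiv]
    rw [map_commutator]
    exact (commutator_eq_of_minimalCentrallyLarge hQ (minimalCentrallyLarge_of_card_le hQ hc
      (card_map_of_injective φ.injective).le)).symm
  · have hcentral : ∀ Y : Subgroup G, Y ≤ centralizer ((⊤ : Subgroup G) : Set G) → Y.Normal :=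
      fun Y hY => ⟨fun y hy x => by
        rwa [mem_centralizer_iff.mp (hY hy) x (mem_top x), mul_inv_cancel_right]⟩
    rcases center_central_or_core_centrallyLarge hE hJ with hZ | hR
    · exact Or.inl (hcentral _ (inf_le_left.trans hZ))
    haveI := pCore_normal p G
    set D := (⁅Q, Q⁆).map S.subtype with hD
    obtain ⟨Q₀, hQ₀R, hQ₀⟩ := exists_minimalCentrallyLarge_le hR
    -- conjugates inside `S`
    have hconj : ∀ X : Subgroup ↥S, IsMinimalCentrallyLarge X → X ≤ (pCore p G).subgroupOf S →
        ∀ x : G, ∃ Y : Subgroup ↥S, IsMinimalCentrallyLarge Y ∧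
          (X.map S.subtype).map (MulAut.conj x).toMonoidHom = Y.map S.subtype := by
      intro X hX hXR x
      have h0 : (X.map S.subtype).map (MulAut.conj x).toMonoidHom ≤ S := by
        rw [map_map, map_le_iff_le_comap]
        intro y hy
        exact h.core_le (Normal.conj_mem inferInstance (y : G) (hXR hy) x)
      refine ⟨((X.map S.subtype).map (MulAut.conj x).toMonoidHom).subgroupOf S, ?_,
        (map_subgroupOf_eq_of_le h0).symm⟩
      refine minimalCentrallyLarge_conj (map_subtype_le X) ?_ x h0
      rwa [subgroupOf, comap_map_eq_self_of_injective S.subtype_injective]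
    have hDn : D.Normal := by
      refine ⟨fun d hd x => ?_⟩
      obtain ⟨Y, hY, hYe⟩ := hconj Q₀ hQ₀ hQ₀R x
      have e : D.map (MulAut.conj x).toMonoidHom = D := by
        have e1 : D = ⁅Q₀.map S.subtype, Q₀.map S.subtype⁆ := by
          rw [hD, commutator_eq_of_minimalCentrallyLarge hQ hQ₀, map_commutator]
        have e2 : D = ⁅Y.map S.subtype, Y.map S.subtype⁆ := by
          rw [hD, commutator_eq_of_minimalCentrallyLarge hQ hY, map_commutator]
        conv_lhs => rw [e1, map_commutator, hYe, ← e2]
      exact e ▸ mem_map_of_mem (MulAut.conj x).toMonoidHom hd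
    by_cases hall : ∀ X : Subgroup ↥S, IsMinimalCentrallyLarge X → X ≤ (pCore p G).subgroupOf S
    · refine Or.inr ⟨fun w hw x => ?_⟩
      suffices hle : ((minimalCentrallyLargeJoin ↥S).map S.subtype).map
          (MulAut.conj x).toMonoidHom ≤ (minimalCentrallyLargeJoin ↥S).map S.subtype from
        hle (mem_map_of_mem (MulAut.conj x).toMonoidHom hw)
      rw [map_map, map_le_iff_le_comap]
      refine sSup_le fun X hX => ?_
      rw [← map_le_iff_le_comap, ← map_map]
      obtain ⟨Y, hY, hYe⟩ := hconj X hX (hall X hX) x
      rw [hYe]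
      exact map_mono (le_sSup hY)
    · push Not at hall
      obtain ⟨Q₁, hQ₁, hQ₁R⟩ := hall
      obtain ⟨c, hc, hcR⟩ : ∃ c ∈ centralizer (Q₁ : Set ↥S), c ∉ (pCore p G).subgroupOf S := by
        by_contra hne
        push Not at hne
        refine hQ₁R ?_
        rw [← (inf_centralizer_le_centralizer hQ₁ hQ₀.1).1]
        exact sup_le (inf_le_right.trans hQ₀R) hne
      haveI := hDn
      set N := centralizer (D : Set G) with hN
      have hcN : (c : G) ∈ N := by
        refine mem_centralizer_iff.mpr ?_
        rintro _ ⟨y, hy, rfl⟩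
        have hyQ : y ∈ Q₁ := commutator_le_self Q₁
          ((commutator_eq_of_minimalCentrallyLarge hQ hQ₁).le hy)
        exact congrArg Subtype.val (mem_centralizer_iff.mp hc y hyQ)
      have hNM : ¬ N ≤ M := fun hle =>
        hcR (h.normal_inf N inferInstance hle ⟨hcN, c.2⟩)
      have htop : N ⊔ S = ⊤ := by
        by_contra hne
        exact hNM (le_sup_left.trans (h.unique _ hne le_sup_right))
      refine Or.inl (hcentral _ ?_)
      rw [← htop]
      refine le_centralizer_iff.mp (sup_le ?_ ?_)
      · exact centralizer_le (inf_le_right (a := S ⊓ centralizer (S : Set G)))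
      · exact le_centralizer_iff.mp (inf_le_left.trans inf_le_right)
  · exact (S3007.result (p := p) ↥S h.isPGroup Q Q hQ hQ).2.2.2.2
      (le_centralizer_iff_isMulCommutative.mp (commutator_eq_bot_iff_le_centralizer.mp hab)) R

end Cfsg.Agent.S2990
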