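import Cfsg.Statements.S2824
import Cfsg.Agent.LocalStructure.Largest

set_option autoImplicit false
open Cfsg

namespace Cfsg.Agent.S2824

open Subgroup CfsgLib.LocalStructure
open scoped commutatorElement

/-- Let H be a finite group, p a prime, T a Sylow p-subgroup, L and M subgroups of characteristic p containing T, Y_L the largest p-reduced normal subgroup of L and T₀ = C_T(Y_L). If M·C_H(Y_L) = L·C_H(Y_L), then L* := N_M(T₀) has Y_{L*} = Y_L and L·C_H(Y_L) = L*·C_H(Y_L). -/
theorem result {H : Type*} [Group H] [Finite H] {p : ℕ} [Fact p.Prime] (T : Sylow p H) (L M : Subgroup H) (hTL : (T : Subgroup H) ≤ L) (hTM : (T : Subgroup H) ≤ M) (hL : Subgroup.centralizer (Cfsg.pCore p ↥L : Set ↥L) ≤ Cfsg.pCore p ↥L) (hM : Subgroup.centralizer (Cfsg.pCore p ↥M : Set ↥M) ≤ Cfsg.pCore p ↥M) (T₀ : Subgroup H) (hT₀ : T₀ = (T : Subgroup H) ⊓ Subgroup.centralizer (((Cfsg.largestPReducedOf p L) : Subgroup H) : Set H)) (hfac : M ⊔ Subgroup.centralizer (((Cfsg.largestPReducedOf p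 L) : Subgroup H) : Set H) = L ⊔ Subgroup.centralizer (((Cfsg.largestPReducedOf p L) : Subgroup H) : Set H)) (Ls : Subgroup H) (hLs : Ls = M ⊓ Subgroup.normalizer ((T₀ : Subgroup H) : Set H)) : (Cfsg.largestPReducedOf p Ls) = (Cfsg.largestPReducedOf p L) ∧ L ⊔ Subgroup.centralizer (((Cfsg.largestPReducedOf p L) : Subgroup H) : Set H) = Ls ⊔ Subgroup.centralizer (((Cfsg.largestPReducedOf p L) : Subgroup H) : Set H) := by
  subst hT₀ hLs
  have hY := isReducedIn_largest (p := p) L
  set C := centralizer ((largestPReducedOf p L : Subgroup H) : Set H)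
  set T₀ := (T : Subgroup H) ⊓ C
  set Ls := M ⊓ normalizer (T₀ : Set H)
  have hNY : M ≤ normalizer (largestPReducedOf p L : Set H) :=
    le_sup_left.trans (hfac.le.trans (sup_le hY.le_normalizer (centralizer_le_normalizer _)))
  have hMC : M ≤ normalizer (C : Set H) := hNY.trans (normalizer_le_normalizer_centralizer _)
  have hTC : (T : Subgroup H) ≤ normalizer (C : Set H) := hTM.trans hMC
  have hTLs : (T : Subgroup H) ≤ Ls :=
    le_inf hTM (le_normalizer_inf' Subgroup.le_normalizer hTC)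
  have hMdec : M ≤ Ls ⊔ C := by
    intro m hm
    obtain ⟨P, hP⟩ := sylow_inf T (X := M ⊓ C)
      (le_normalizer_inf' (hTM.trans Subgroup.le_normalizer) hTC)
    obtain ⟨a, ha, c, hc, rfl⟩ := frattini_argument (inf_le_left : M ⊓ C ≤ M)
      (le_normalizer_inf' Subgroup.le_normalizer hMC) P hm
    rw [hP, map_subgroupOf_eq_of_le inf_le_right, ← inf_assoc, inf_eq_left.2 hTM] at ha
    exact mul_mem (mem_sup_left ha) (mem_sup_right hc.2)
  have hsup : L ⊔ C = Ls ⊔ C :=
    le_antisymm (sup_le ((le_sup_left.trans hfac.ge).trans (sup_le hMdec le_sup_right)) le_sup_right)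
      (sup_le ((inf_le_left.trans le_sup_left).trans hfac.le) le_sup_right)
  refine ⟨le_antisymm ?_ ?_, hsup⟩
  · have hW := isReducedIn_largest (p := p) Ls
    conv_rhs => rw [largestPReducedOf_eq_omegaZ T hTL hL]
    intro w hw
    have hT₀Q : T₀ ≤ pCoreOf p Ls := le_pCoreOf (inf_le_left.trans hTLs) inf_le_right T.2.to_inf_left
    have hwC : w ∈ C := by
      refine centralizer_le (fun y hy => ?_) (le_centralizer_iff.1 hW.pCoreOf_le_centralizer hw)
      exact hT₀Q ⟨(hY.le_pCoreOf.trans (pCoreOf_le_sylow T hTL)) hy,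
        le_centralizer_of_isElementaryAbelian hY.elab' hy⟩
    refine mem_omegaZ.2 ⟨⟨(hW.le_pCoreOf.trans (pCoreOf_le_sylow T hTLs)) hw, hwC⟩, ?_,
      hW.elab'.2 w hw⟩
    exact centralizer_le (fun y hy => hT₀Q hy) (le_centralizer_iff.1 hW.pCoreOf_le_centralizer hw)
  · exact (hY.of_le_sup ((hY.le_pCoreOf.trans (pCoreOf_le_sylow T hTL)).trans hTLs)
      (le_sup_left.trans hsup.ge) (le_sup_left.trans hsup.le)).le_largest

end Cfsg.Agent.S2824
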