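import Cfsg.Agent.LyG2.Main
import Mathlib.GroupTheory.Perm.Cycle.Type
import Mathlib.GroupTheory.SpecificGroups.Cyclic

/-!
# Simplicity of the presented Lyons group from its suborbits

`H = ⟨a, b, c, d⟩ ≅ G₂(5)` has index 8835156 and suborbits of lengths 1, 19530, 968750, 2034375
and 5812500.  A normal subgroup `N` containing `H` contains `z`, because `z² = a²` and `(a4 z)³`
is in `H`.  Otherwise `N ∩ H = 1`, the orbit of the base coset under `N` is a union of suborbits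
of size dividing the index, so `N` is regular; the elements of order 67 in `N` then form a union
of suborbits, of total size divisible by 66, and no such union exists.
-/

set_option autoImplicit false
set_option linter.style.haveILetI false

namespace CfsgLib.LySimple

open Cfsg Cfsg.Spor

open CfsgLib.LyG2 (toLy)

universe u

section General

variable {G : Type u} [Group G] [Finite G] {H : Subgroup G} {ι : Type*} [Fintype ι]
  {p : ι → G ⧸ H} {sz : ι → ℕ}

/-- A set of cosets invariant under `H` and avoiding the base is a union of suborbits. -/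
theorem exists_ncard_eq_sum (hsz : ∀ i, Nat.card (MulAction.orbit H (p i)) = sz i)
    (hinj : Function.Injective sz)
    (hrep : ∀ x : G ⧸ H, x ≠ ((1 : G) : G ⧸ H) → ∃ i, x ∈ MulAction.orbit H (p i))
    (S : Set (G ⧸ H)) (hS : ∀ (h : H), ∀ x ∈ S, h • x ∈ S) (hbase : ((1 : G) : G ⧸ H) ∉ S) :
    ∃ s : Finset ι, S.ncard = ∑ i ∈ s, sz i := by
  classical
  haveI : Fintype (G ⧸ H) := Fintype.ofFinite _
  let s : Finset ι := Finset.univ.filter fun i => p i ∈ S
  have horb : ∀ i, p i ∈ S → MulAction.orbit H (p i) ⊆ S := by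
    rintro i hi _ ⟨h, rfl⟩
    exact hS h _ hi
  have hSeq : S = ⋃ i ∈ s, MulAction.orbit H (p i) := by
    ext x
    simp only [Set.mem_iUnion, s, Finset.mem_filter, Finset.mem_univ, true_and, exists_prop]
    refine ⟨fun hx => ?_, fun ⟨i, hi, hx⟩ => horb i hi hx⟩
    obtain ⟨i, hi⟩ := hrep x fun e => hbase (e ▸ hx)
    obtain ⟨h, hh⟩ := MulAction.mem_orbit_symm.1 hi
    exact ⟨i, hh ▸ hS h x hx, hi⟩
  refine ⟨s, ?_⟩
  have hd : Set.PairwiseDisjoint (s : Set ι) fun i => MulAction.orbit H (p i) := by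
    intro i _ j _ hij
    refine Set.disjoint_left.2 fun x hxi hxj => hij (hinj ?_)
    rw [← hsz i, ← hsz j, MulAction.orbit_eq_iff.2 hxi |>.symm, MulAction.orbit_eq_iff.2 hxj]
  rw [hSeq]
  rw [show (⋃ i ∈ s, MulAction.orbit H (p i)) = ↑(s.biUnion fun i => (MulAction.orbit H (p i)).toFinset)
    from by simp, Set.ncard_coe_finset, Finset.card_biUnion]
  · exact Finset.sum_congr rfl fun i _ => by rw [← hsz i, Set.toFinset_card, Nat.card_eq_fintype_card]
  · intro i hi j hj hij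
    exact Set.disjoint_toFinset.2 (hd hi hj hij)

/-- The totient of a prime divides the number of elements of that order. -/
theorem totient_dvd_card_orderOf (p₀ : ℕ) [Fact p₀.Prime] :
    p₀ - 1 ∣ Nat.card {x : G // orderOf x = p₀} := by
  classical
  haveI := Fintype.ofFinite G
  rw [Nat.card_eq_fintype_card, Fintype.card_subtype,
    Finset.card_eq_sum_card_image (fun x => Subgroup.zpowers x)]
  refine Finset.dvd_sum fun K hK => ?_
  obtain ⟨y, hy, rfl⟩ := Finset.mem_image.1 hK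
  rw [Finset.mem_filter] at hy
  have hcard : Fintype.card (Subgroup.zpowers y) = p₀ := by
    rw [Fintype.card_zpowers, hy.2]
  have h1 : (Finset.univ.filter fun z : Subgroup.zpowers y => orderOf z = p₀).card = p₀ - 1 := by
    rw [IsCyclic.card_orderOf_eq_totient (hcard ▸ dvd_refl _), Nat.totient_prime Fact.out]
  rw [← h1]
  refine dvd_of_eq ?_
  refine Finset.card_bij (fun z _ => (z : G)) (fun z hz => ?_) (fun _ _ _ _ h => Subtype.ext h)
    (fun x hx => ?_)
  · rw [Finset.mem_filter] at hz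
    simp only [Finset.mem_filter, Finset.mem_univ, true_and]
    have ho : orderOf (z : G) = p₀ := by rw [Subgroup.orderOf_coe, hz.2]
    refine ⟨ho, Subgroup.eq_of_le_of_card_ge (Subgroup.zpowers_le.2 z.2) ?_⟩
    rw [Nat.card_zpowers, Nat.card_zpowers, ho, hy.2]
  · simp only [Finset.mem_filter, Finset.mem_univ, true_and] at hx
    exact ⟨⟨x, hx.2 ▸ Subgroup.mem_zpowers x⟩,
      Finset.mem_filter.2 ⟨Finset.mem_univ _, by rw [← Subgroup.orderOf_coe]; exact hx.1⟩, rfl⟩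

variable {N : Subgroup G} [N.Normal]

theorem coe_injective (hNH : H ⊓ N = ⊥) :
    Function.Injective fun n : N => ((n : G) : G ⧸ H) := by
  intro n m h
  have hm : (n : G)⁻¹ * m ∈ H ⊓ N := ⟨QuotientGroup.eq.1 h, N.mul_mem (N.inv_mem n.2) m.2⟩
  rw [hNH, Subgroup.mem_bot, inv_mul_eq_one] at hm
  exact Subtype.ext hm

theorem smul_coe (h : H) (n : G) :
    h • ((n : G) : G ⧸ H) = (((h : G) * n * (h : G)⁻¹ : G) : G ⧸ H) := by
  show (((h : G) * n : G) : G ⧸ H) = _
  rw [QuotientGroup.eq]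
  simp [mul_assoc]

/-- A normal subgroup meeting a point stabiliser trivially has order one more than a sum of
suborbit lengths, and so has the set of its elements of a given prime order without the one. -/
theorem exists_sums (hsz : ∀ i, Nat.card (MulAction.orbit H (p i)) = sz i)
    (hinj : Function.Injective sz)
    (hrep : ∀ x : G ⧸ H, x ≠ ((1 : G) : G ⧸ H) → ∃ i, x ∈ MulAction.orbit H (p i))
    (hNH : H ⊓ N = ⊥) :
    (∃ s : Finset ι, Nat.card N = 1 + ∑ i ∈ s, sz i) ∧ Nat.card N ∣ H.index ∧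
      ∀ q : ℕ, q.Prime → ∃ s : Finset ι, Nat.card {x : N // orderOf x = q} = ∑ i ∈ s, sz i := by
  classical
  have hinjN := coe_injective (H := H) (N := N) hNH
  refine ⟨?_, ?_, fun q hq => ?_⟩
  · let S : Set (G ⧸ H) := (fun n : N => ((n : G) : G ⧸ H)) '' {n | n ≠ 1}
    obtain ⟨s, hs⟩ := exists_ncard_eq_sum hsz hinj hrep S (by
        rintro h _ ⟨n, hn, rfl⟩
        refine ⟨⟨(h : G) * n * (h : G)⁻¹, ‹N.Normal›.conj_mem _ n.2 _⟩, fun e => hn ?_,
          (smul_coe h _).symm⟩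
        have := congrArg Subtype.val e
        simpa using this)
      (by rintro ⟨n, hn, e⟩; exact hn (hinjN (e.trans (by simp))))
    refine ⟨s, ?_⟩
    rw [← hs, Set.ncard_image_of_injective _ hinjN]
    have h1 := Set.ncard_add_ncard_compl ({1} : Set N)
    rw [Set.ncard_singleton, show ({1} : Set N)ᶜ = {n | n ≠ 1} from rfl] at h1
    omega
  · have h1 : H.relIndex N = Nat.card N := by
      rw [← Subgroup.inf_relIndex_right, hNH, Subgroup.relIndex_bot_left]
    rw [← h1, show H.relIndex N = H.relIndex (H ⊔ N) from ?_]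
    · exact Subgroup.relIndex_dvd_index_of_le le_sup_left
    have e1 := Subgroup.relIndex_mul_relIndex ⊥ N (H ⊔ N) bot_le le_sup_right
    have e2 := Subgroup.relIndex_mul_relIndex ⊥ H (H ⊔ N) bot_le le_sup_left
    have e3 : N.relIndex H = Nat.card H := by
      rw [← Subgroup.inf_relIndex_right, inf_comm, hNH, Subgroup.relIndex_bot_left]
    rw [Subgroup.relIndex_bot_left, Subgroup.relIndex_bot_left] at e1 e2
    rw [Subgroup.relIndex_sup_right, e3, mul_comm] at e1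
    rw [h1]
    exact (Nat.eq_of_mul_eq_mul_left Nat.card_pos (e2.trans e1.symm)).symm
  · let S : Set (G ⧸ H) := (fun n : N => ((n : G) : G ⧸ H)) '' {n | orderOf n = q}
    obtain ⟨s, hs⟩ := exists_ncard_eq_sum hsz hinj hrep S (by
        rintro h _ ⟨n, hn, rfl⟩
        refine ⟨⟨(h : G) * n * (h : G)⁻¹, ‹N.Normal›.conj_mem _ n.2 _⟩, ?_, (smul_coe h _).symm⟩
        show orderOf _ = q
        rw [← Subgroup.orderOf_coe, ← hn, ← Subgroup.orderOf_coe n]
        exact (MulAut.conj (h : G)).orderOf_eq (n : G))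
      (by
        rintro ⟨n, hn, e⟩
        have : n = 1 := hinjN (e.trans (by simp))
        rw [Set.mem_setOf_eq, this, orderOf_one] at hn
        exact hq.ne_one hn.symm)
    exact ⟨s, hs ▸ (Set.ncard_image_of_injective _ hinjN).symm ▸ rfl⟩

end General

/-- The four suborbit lengths. -/
def sizes : Fin 4 → ℕ := ![19530, 968750, 2034375, 5812500]

theorem sizes_injective : Function.Injective sizes := by
  intro i j h
  revert h
  revert i j
  decide +kernel

theorem sums_dvd : ∀ s : Finset (Fin 4), 1 + ∑ i ∈ s, sizes i ∣ 8835156 → s = ∅ ∨ s = Finset.univ := by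
  decide +kernel

theorem sums_eleven : ∀ s : Finset (Fin 4), 11 ∣ ∑ i ∈ s, sizes i → s = ∅ := by
  decide +kernel

/-- `⟨a, b, c, d⟩` inside the presented group. -/
abbrev sub : Subgroup Cfsg.Spor.Ly := (Subgroup.closure CfsgLib.LyG2.abcd).map CfsgLib.LyG2.toLy

theorem a_mem : toLy Ly.a ∈ sub := Subgroup.mem_map_of_mem _ (Subgroup.subset_closure (by simp))
theorem b_mem : toLy Ly.b ∈ sub := Subgroup.mem_map_of_mem _ (Subgroup.subset_closure (by simp))
theorem c_mem : toLy Ly.c ∈ sub := Subgroup.mem_map_of_mem _ (Subgroup.subset_closure (by simp))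
theorem d_mem : toLy Ly.d ∈ sub := Subgroup.mem_map_of_mem _ (Subgroup.subset_closure (by simp))

open Cfsg.Spor.Ly in
/-- The last presented relators that are needed, read in a quotient killing `a, b, c, d`. -/
theorem eq_top_of_le (N : Subgroup Cfsg.Spor.Ly) [N.Normal] (hN : sub ≤ N) : N = ⊤ := by
  let f : FreeGroup Ly.Gen →* Cfsg.Spor.Ly ⧸ N := (QuotientGroup.mk' N).comp toLy
  have hrel : ∀ r ∈ Ly.extra, f r = 1 := fun r hr => by
    show QuotientGroup.mk' N (toLy r) = 1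
    rw [CfsgLib.LyG2.extra_one hr, map_one]
  have hz : ∀ g, toLy g ∈ sub → f g = 1 := fun g hg => (QuotientGroup.eq_one_iff _).2 (hN hg)
  have ha := hz _ a_mem
  have hb := hz _ b_mem
  have hc := hz _ c_mem
  have hd := hz _ d_mem
  have R : ∀ k, (hk : k < Ly.extra.length) → f Ly.extra[k] = 1 := fun k hk =>
    hrel _ (List.getElem_mem hk)
  have key : ∀ g : Ly.Gen, f (FreeGroup.of g) = 1 := by
    have h_c1 : f Ly.c1 = 1 := by
      have h : f (c1 * (c⁻¹)) = 1 := R 5 (by decide)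
      simpa [ha, hb, hc, hd] using h
    have h_c2 : f Ly.c2 = 1 := by
      have h : f (c2 * ((a⁻¹ * c * a)⁻¹)) = 1 := R 6 (by decide)
      simpa [ha, hb, hc, hd] using h
    have h_c3 : f Ly.c3 = 1 := by
      have h : f (c3 * ((b⁻¹ * c * b)⁻¹)) = 1 := R 7 (by decide)
      simpa [ha, hb, hc, hd] using h
    have h_c4 : f Ly.c4 = 1 := by
      have h : f (c4 * (((b⁻¹)⁻¹ * c * (b⁻¹))⁻¹)) = 1 := R 8 (by decide)
      simpa [ha, hb, hc, hd] using h
    have h_c5 : f Ly.c5 = 1 := by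
      have h : f (c5 * ((c1⁻¹ * c2⁻¹ * c1 * c2)⁻¹)) = 1 := R 9 (by decide)
      simpa [ha, hb, hc, hd, h_c1, h_c2] using h
    have h_e : f Ly.e = 1 := by
      have h : f (e * ((((b ^ 2)⁻¹) * (a⁻¹ * c1⁻¹ * a * c1) * (a⁻¹) * c1 * a * d * c1 * b * a * (b⁻¹) * d * c1 * d)⁻¹)) = 1 := R 28 (by decide)
      simpa [ha, hb, hc, hd, h_c1] using h
    have h_a1 : f Ly.a1 = 1 := by
      have h : f (a1 * (a⁻¹)) = 1 := R 44 (by decide)
      simpa [ha, hb, hc, hd] using h
    have h_a2 : f Ly.a2 = 1 := by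
      have h : f (a2 * (((b⁻¹)⁻¹ * a * (b⁻¹))⁻¹)) = 1 := R 45 (by decide)
      simpa [ha, hb, hc, hd] using h
    have h_a3 : f Ly.a3 = 1 := by
      have h : f (a3 * ((((b ^ 2)⁻¹)⁻¹ * a * ((b ^ 2)⁻¹))⁻¹)) = 1 := R 46 (by decide)
      simpa [ha, hb, hc, hd] using h
    have h_a4 : f Ly.a4 = 1 := by
      have h : f (a4 * (((b ^ 2)⁻¹ * a * (b ^ 2))⁻¹)) = 1 := R 47 (by decide)
      simpa [ha, hb, hc, hd] using h
    have h_u : f Ly.u = 1 := by
      have h : f (u * ((a ^ 2)⁻¹)) = 1 := R 48 (by decide)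
      simpa [ha, hb, hc, hd] using h
    have h_x23 : f Ly.x23 = 1 := by
      have h : f (x23 * (d⁻¹)) = 1 := R 49 (by decide)
      simpa [ha, hb, hc, hd] using h
    have h_x24 : f Ly.x24 = 1 := by
      have h : f (x24 * ((d⁻¹)⁻¹)) = 1 := R 50 (by decide)
      simpa [ha, hb, hc, hd] using h
    have h_x25 : f Ly.x25 = 1 := by
      have h : f (x25 * (((b ^ 2) * (a⁻¹) * (b⁻¹) * (a⁻¹) * (b ^ 2) * (c⁻¹) * a * c * (a⁻¹) * (c⁻¹) * d * (c⁻¹) * (b ^ 2) * (a⁻¹) * c * b)⁻¹)) = 1 := R 51 (by decide)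
      simpa [ha, hb, hc, hd] using h
    have h_x29 : f Ly.x29 = 1 := by
      have h : f (x29 * ((a * b * (a⁻¹) * (b ^ 2) * (a⁻¹) * (b ^ 2) * (c⁻¹) * a * c * b * c * (b⁻¹) * d * c * ((b ^ 2)⁻¹) * d * c * b * c)⁻¹)) = 1 := R 52 (by decide)
      simpa [ha, hb, hc, hd] using h
    have h_x47 : f Ly.x47 = 1 := by
      have h : f (x47 * (((c⁻¹) * (d⁻¹) * (a⁻¹) * (c⁻¹) * (a⁻¹) * b * (c⁻¹) * (d⁻¹))⁻¹)) = 1 := R 53 (by decide)
      simpa [ha, hb, hc, hd] using h
    have h_x96 : f Ly.x96 = 1 := by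
      have h : f (x96 * ((b * d)⁻¹)) = 1 := R 54 (by decide)
      simpa [ha, hb, hc, hd] using h
    have h_x129 : f Ly.x129 = 1 := by
      have h : f (x129 * (((d⁻¹) * (b⁻¹))⁻¹)) = 1 := R 55 (by decide)
      simpa [ha, hb, hc, hd] using h
    have h_x162 : f Ly.x162 = 1 := by
      have h : f (x162 * (((a⁻¹) * (b⁻¹) * (a⁻¹) * b * (c⁻¹) * (b⁻¹) * a * (c⁻¹) * b * a)⁻¹)) = 1 := R 56 (by decide)
      simpa [ha, hb, hc, hd] using h
    have h_x163 : f Ly.x163 = 1 := by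
      have h : f (x163 * ((((b ^ 2)⁻¹) * a * c * (a⁻¹) * b * c * b)⁻¹)) = 1 := R 57 (by decide)
      simpa [ha, hb, hc, hd] using h
    have h_x164 : f Ly.x164 = 1 := by
      have h : f (x164 * (((a⁻¹) * (b⁻¹) * (a⁻¹) * c * a * b * a)⁻¹)) = 1 := R 58 (by decide)
      simpa [ha, hb, hc, hd] using h
    have h_x165 : f Ly.x165 = 1 := by
      have h : f (x165 * (((b⁻¹) * (a⁻¹) * b * c * (b⁻¹) * a * b)⁻¹)) = 1 := R 59 (by decide)
      simpa [ha, hb, hc, hd] using h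
    have h_x166 : f Ly.x166 = 1 := by
      have h : f (x166 * (((b ^ 2) * (a⁻¹) * (b⁻¹) * c * b * a * c * ((b ^ 2)⁻¹) * (c⁻¹))⁻¹)) = 1 := R 60 (by decide)
      simpa [ha, hb, hc, hd] using h
    have h_x167 : f Ly.x167 = 1 := by
      have h : f (x167 * (((a ^ 3)⁻¹)⁻¹)) = 1 := R 61 (by decide)
      simpa [ha, hb, hc, hd] using h
    have h_x168 : f Ly.x168 = 1 := by
      have h : f (x168 * ((b * (a⁻¹) * (b⁻¹) * ((a ^ 2)⁻¹))⁻¹)) = 1 := R 62 (by decide)
      simpa [ha, hb, hc, hd] using h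
    have h_x169 : f Ly.x169 = 1 := by
      have h : f (x169 * ((a * (b ^ 2) * a * ((b ^ 2)⁻¹) * (a⁻¹))⁻¹)) = 1 := R 63 (by decide)
      simpa [ha, hb, hc, hd] using h
    have h_x364 : f Ly.x364 = 1 := by
      have h : f (x364 * (((a⁻¹) * d * (b⁻¹) * (c⁻¹) * (a⁻¹) * b * (c⁻¹) * (d⁻¹) * b * (c⁻¹) * (b⁻¹) * (a⁻¹) * (c⁻¹) * a * (b⁻¹) * a * b * a * (b⁻¹))⁻¹)) = 1 := R 64 (by decide)
      simpa [ha, hb, hc, hd] using h
    have h_x365 : f Ly.x365 = 1 := by
      have h : f (x365 * ((a * ((b ^ 2)⁻¹) * (a⁻¹) * c * b * (c⁻¹) * b * (a⁻¹) * ((c ^ 2)⁻¹) * d * c * a * c * (a⁻¹) * c * (b⁻¹) * (d⁻¹))⁻¹)) = 1 := R 65 (by decide)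
      simpa [ha, hb, hc, hd] using h
    have h_x366 : f Ly.x366 = 1 := by
      have h : f (x366 * ((b * a * (b⁻¹) * (a⁻¹) * ((b ^ 2)⁻¹) * (a⁻¹) * (b⁻¹) * c * (b ^ 2) * c * b * d * c * ((b ^ 2)⁻¹) * d * c * b * c)⁻¹)) = 1 := R 66 (by decide)
      simpa [ha, hb, hc, hd] using h
    have h_x367 : f Ly.x367 = 1 := by
      have h : f (x367 * (((c⁻¹) * (b⁻¹) * (c⁻¹) * (d⁻¹) * (b ^ 2) * (c⁻¹) * (d⁻¹) * (b⁻¹) * (c⁻¹) * ((b ^ 2)⁻¹) * (c⁻¹) * b * a * (b ^ 2) * a * b * (a⁻¹) * (b⁻¹))⁻¹)) = 1 := R 67 (by decide)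
      simpa [ha, hb, hc, hd] using h
    have h_x368 : f Ly.x368 = 1 := by
      have h : f (x368 * (((a⁻¹) * (c⁻¹) * (d⁻¹) * a * (c⁻¹) * (b⁻¹) * a * (c⁻¹) * (d⁻¹) * (a⁻¹) * (c⁻¹) * a * c * ((b ^ 2)⁻¹) * (c⁻¹) * (b⁻¹) * (a⁻¹) * ((b ^ 2)⁻¹))⁻¹)) = 1 := R 68 (by decide)
      simpa [ha, hb, hc, hd] using h
    have h_x369 : f Ly.x369 = 1 := by
      have h : f (x369 * (((a⁻¹) * (c⁻¹) * (d⁻¹) * b * (a⁻¹) * (b⁻¹) * (c⁻¹) * (d⁻¹) * b * (a⁻¹) * (b⁻¹) * (c⁻¹) * (b⁻¹) * a * ((b ^ 2)⁻¹) * a * (b⁻¹))⁻¹)) = 1 := R 69 (by decide)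
      simpa [ha, hb, hc, hd] using h
    have h_x370 : f Ly.x370 = 1 := by
      have h : f (x370 * (((d⁻¹) * a * c * b * c * (a⁻¹) * (c⁻¹) * (d⁻¹) * a * (b⁻¹) * (a⁻¹) * c * (a⁻¹) * ((b ^ 2)⁻¹) * (a⁻¹) * b * (a⁻¹))⁻¹)) = 1 := R 70 (by decide)
      simpa [ha, hb, hc, hd] using h
    have h_x371 : f Ly.x371 = 1 := by
      have h : f (x371 * (((c⁻¹) * (a⁻¹) * c * b * (c⁻¹) * (d⁻¹) * c * (a⁻¹) * c * a * c * (b⁻¹) * (a⁻¹) * (b⁻¹) * (a⁻¹) * b)⁻¹)) = 1 := R 71 (by decide)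
      simpa [ha, hb, hc, hd] using h
    have hz2 : f Ly.z ^ 2 = 1 := by
      have h : f ((z ^ 2) * (u⁻¹)) = 1 := R 80 (by decide)
      simpa [h_u] using h
    have hz3 : f Ly.z ^ 3 = 1 := by
      have h : f (((a4 * z) ^ 3) * u) = 1 := R 81 (by decide)
      simpa [h_u, h_a4] using h
    have h_z : f Ly.z = 1 := by rwa [pow_succ, hz2, one_mul] at hz3
    intro g
    cases g <;> first | exact ha | exact hb | exact hc | exact hd | exact h_z | exact h_c1 | exact h_c2 | exact h_c3 | exact h_c4 | exact h_c5 | exact h_e | exact h_a1 | exact h_a2 | exact h_a3 | exact h_a4 | exact h_u | exact h_x23 | exact h_x24 | exact h_x25 | exact h_x29 | exact h_x47 | exact h_x96 | exact h_x129 | exact h_x162 | exact h_x163 | exact h_x164 | exact h_x165 | exact h_x166 | exact h_x167 | exact h_x168 | exact h_x169 | exact h_x364 | exact h_x365 | exact h_x366 | exact h_x367 | exact h_x368 | exact h_x369 | exact h_x370 | exact h_x371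
  refine eq_top_iff.2 fun x _ => ?_
  obtain ⟨w, rfl⟩ := PresentedGroup.mk_surjective _ x
  have : f = 1 := FreeGroup.ext_hom _ _ fun g => by simpa using key g
  exact (QuotientGroup.eq_one_iff _).1 (DFunLike.congr_fun this w)

theorem isSimple_sub : IsSimpleGroup sub := by
  obtain ⟨e⟩ := CfsgLib.LyG2.nonempty_equiv_sub
  haveI : IsSimpleGroup CfsgLib.LyG2.G14.G25 := CfsgLib.LyG2.G14.isSimple
  exact e.isSimpleGroup

/-- **The presented Lyons group is simple**, given the suborbits of `⟨a, b, c, d⟩`. -/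
theorem isSimple [Finite Cfsg.Spor.Ly]
    (hidx : ((Subgroup.closure CfsgLib.LyG2.abcd).map CfsgLib.LyG2.toLy).index = 8835156)
    (p : Fin 4 → Cfsg.Spor.Ly ⧸ ((Subgroup.closure CfsgLib.LyG2.abcd).map CfsgLib.LyG2.toLy))
    (hsz : ∀ i, Nat.card (MulAction.orbit ((Subgroup.closure CfsgLib.LyG2.abcd).map CfsgLib.LyG2.toLy)
      (p i)) = ![19530, 968750, 2034375, 5812500] i)
    (hrep : ∀ x : Cfsg.Spor.Ly ⧸ ((Subgroup.closure CfsgLib.LyG2.abcd).map CfsgLib.LyG2.toLy),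
      x ≠ QuotientGroup.mk 1 →
        ∃ i, x ∈ MulAction.orbit ((Subgroup.closure CfsgLib.LyG2.abcd).map CfsgLib.LyG2.toLy) (p i)) :
    IsSimpleGroup Cfsg.Spor.Ly := by
  classical
  haveI : Nontrivial Cfsg.Spor.Ly := by
    refine not_subsingleton_iff_nontrivial.1 fun h => ?_
    have := Subgroup.index_dvd_card sub
    rw [show Nat.card Cfsg.Spor.Ly = 1 from Nat.card_eq_one_iff_unique.2 ⟨h, ⟨1⟩⟩, hidx] at this
    norm_num at this
  refine ⟨fun N hN => ?_⟩
  by_contra hcon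
  push Not at hcon
  haveI := isSimple_sub
  rcases IsSimpleGroup.eq_bot_or_eq_top_of_normal (N.subgroupOf sub) inferInstance with h | h
  · have hNH : sub ⊓ N = ⊥ := by
      rw [inf_comm, ← Subgroup.subgroupOf_map_subtype, h, Subgroup.map_bot]
    obtain ⟨⟨s, hs⟩, hdvd, hq⟩ :=
      exists_sums (p := p) (sz := sizes) hsz sizes_injective hrep hNH
    rw [hidx, hs] at hdvd
    rcases sums_dvd s hdvd with rfl | rfl
    · exact hcon.1 (Subgroup.card_eq_one.1 (by rw [hs, Finset.sum_empty, add_zero]))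
    · haveI : Fact (Nat.Prime 67) := ⟨by norm_num⟩
      obtain ⟨t, ht⟩ := hq 67 (by norm_num)
      have h66 := totient_dvd_card_orderOf (G := N) 67
      rw [ht] at h66
      have ht0 : Nat.card {x : N // orderOf x = 67} = 0 := by
        rw [ht, sums_eleven t ((show 11 ∣ 67 - 1 by norm_num).trans h66), Finset.sum_empty]
      have h67 : 67 ∣ Nat.card N := by
        rw [hs, show 1 + ∑ i, sizes i = 67 * 131868 by decide +kernel]
        exact dvd_mul_right _ _
      obtain ⟨x, hx⟩ := exists_prime_orderOf_dvd_card' (G := N) 67 h67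
      exact (Nat.card_ne_zero.2 ⟨⟨⟨x, hx⟩⟩, inferInstance⟩) ht0
  · exact hcon.2 (eq_top_of_le N (Subgroup.subgroupOf_eq_top.1 h))

end CfsgLib.LySimple
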