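import Cfsg.Statements.S2100
import Cfsg.Agent.ChevMult.Main
import Cfsg.Agent.SteinbergPres.CenterData

set_option autoImplicit false
open Cfsg

namespace Cfsg.Agent.S2100

/-- Schur multipliers of the Chevalley groups of type G₂: over a field with q ≥ 5 elements the Schur multiplier of G₂(q) is trivial (here the Schur multiplier is described through stem extensions, as in the definitions); the cases q = 3 and q = 4 are exceptional and q = 2 gives a non-simple group. -/
theorem result {F : Type*} [Field F] [Fintype F] (hF : 5 ≤ Fintype.card F) : Cfsg.HasCyclicSchurMultiplier ↥(Cfsg.Lie.chevG2.group F) 1 := by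
  have hc := CfsgLib.SteinbergPres.center_trivial (K := F) Cfsg.Lie.chevG2 (by simp)
  refine CfsgLib.ChevMult.hasCyclicSchurMultiplier (show Cfsg.Lie.chevG2 ∈ [Cfsg.Lie.chevG2, Cfsg.Lie.chevB2, Cfsg.Lie.chevD4, Cfsg.Lie.chevF4, Cfsg.Lie.chevE6, Cfsg.Lie.chevE7, Cfsg.Lie.chevE8] by simp)
    (Or.inr (Or.inr (Or.inr ⟨by rw [Nat.card_eq_fintype_card]; exact hF, rfl⟩))) ?_ ?_
  · rw [hc, Subgroup.card_bot]
  · rw [hc]
    infer_instance

end Cfsg.Agent.S2100
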