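import Cfsg.Statements.S4217
import Mathlib

set_option autoImplicit false
open Cfsg

/-!
Gaschütz: an abelian normal subgroup is complemented iff it is complemented over a Sylow
subgroup of the quotient for each prime.  The integers `n` for which some crossed homomorphism
`G → A` restricts to `a ↦ a ^ n` on `A` form a subgroup of `ℤ`.
-/

namespace Cfsg.Agent.S4217

variable {G : Type*} [Group G] [Finite G] {A : Subgroup G} [A.Normal]

/-- conjugation of `G` on `A` -/
def act (g : G) (a : A) : A := MulAut.conjNormal g a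

theorem act_coe (g : G) (a : A) : ((act g a : A) : G) = g * a * g⁻¹ := rfl

theorem act_mul (g h : G) (a : A) : act (g * h) a = act g (act h a) := by
  ext; simp only [act_coe]; group

theorem act_map_mul (g : G) (a b : A) : act g (a * b) = act g a * act g b := map_mul _ _ _

theorem act_of_mem (hA : IsMulCommutative A) {g : G} (hg : g ∈ A) (a : A) : act g a = a := by
  ext
  rw [act_coe]
  have h : (⟨g, hg⟩ : A) * a = a * ⟨g, hg⟩ := hA.is_comm.comm _ _
  have h' : g * (a : G) = a * g := congrArg Subtype.val h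
  rw [h']; group

/-- `θ` is a crossed homomorphism whose restriction to `A` is the `n`-th power. -/
def Good (A : Subgroup G) [A.Normal] (n : ℤ) : Prop :=
  ∃ θ : G → A, (∀ g h, θ (g * h) = θ g * act g (θ h)) ∧ ∀ a : A, θ a = a ^ n

theorem good_index (hA : IsMulCommutative A) (U K : Subgroup G) (hKA : K ⊓ A = ⊥)
    (hU : K ⊔ A = U) : Good A (U.index : ℤ) := by
  classical
  letI : CommGroup A := { (inferInstance : Group A) with mul_comm := fun a b => hA.is_comm.comm a b }
  have := Fintype.ofFinite (G ⧸ U)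
  have hdec : ∀ u ∈ U, ∃ a : A, (a : G)⁻¹ * u ∈ K := by
    intro u hu
    rw [← hU, Subgroup.mem_sup_of_normal_right] at hu
    obtain ⟨k, hk, a, ha, rfl⟩ := hu
    refine ⟨⟨k * a * k⁻¹, (inferInstance : A.Normal).conj_mem a ha k⟩, ?_⟩
    have : (k * a * k⁻¹)⁻¹ * (k * a) = k := by group
    rw [this]; exact hk
  have huniq : ∀ (u : G) (a b : A), (a : G)⁻¹ * u ∈ K → (b : G)⁻¹ * u ∈ K → a = b := by
    intro u a b ha hb
    have h1 : (a : G)⁻¹ * b ∈ K ⊓ A := by
      refine ⟨?_, A.mul_mem (A.inv_mem a.2) b.2⟩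
      have := mul_mem ha (inv_mem hb)
      simpa [mul_assoc] using this
    rw [hKA, Subgroup.mem_bot, inv_mul_eq_one] at h1
    exact Subtype.ext h1
  choose π hπ using hdec
  have hπmul : ∀ u v (hu : u ∈ U) (hv : v ∈ U),
      π (u * v) (mul_mem hu hv) = π u hu * act u (π v hv) := by
    intro u v hu hv
    refine huniq (u * v) _ _ (hπ _ _) ?_
    have h1 : ((π u hu * act u (π v hv) : A) : G)⁻¹ * (u * v)
        = (u * (π v hv : G)⁻¹ * u⁻¹) * ((π u hu : G)⁻¹ * u) * v := by
      rw [Subgroup.coe_mul, act_coe]; group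
    set k := (π u hu : G)⁻¹ * u with hk
    have hu' : u = (π u hu : G) * k := by rw [hk]; group
    have hconj : act u (π v hv) = act k (π v hv) := by
      conv_lhs => rw [hu']
      rw [act_mul, act_of_mem hA (π u hu).2]
    have h2 : ((π u hu * act u (π v hv) : A) : G)⁻¹ * (u * v) = k * ((π v hv : G)⁻¹ * v) := by
      rw [hconj, Subgroup.coe_mul, act_coe, hk]
      group
    rw [h2]
    exact mul_mem (hπ u hu) (hπ v hv)
  have hmem : ∀ (g : G) (q : G ⧸ U), (g • q).out⁻¹ * g * q.out ∈ U := by
    intro g q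
    rw [mul_assoc]
    refine QuotientGroup.eq.1 ?_
    rw [QuotientGroup.out_eq']
    conv_lhs => rw [← QuotientGroup.out_eq' q]
    rfl
  refine ⟨fun g => ∏ q : G ⧸ U, act (g • q).out (π _ (hmem g q)), ?_, ?_⟩
  · intro g h
    have hmap : act g (∏ q : G ⧸ U, act (h • q).out (π _ (hmem h q)))
        = ∏ q : G ⧸ U, act g (act (h • q).out (π _ (hmem h q))) :=
      map_prod (MulAut.conjNormal (H := A) g).toMonoidHom _ _
    dsimp only
    rw [hmap, ← Fintype.prod_equiv (MulAction.toPerm h)
      (fun q => act (g • h • q).out (π _ (hmem g (h • q))))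
      (fun q => act (g • q).out (π _ (hmem g q))) (fun q => rfl), ← Finset.prod_mul_distrib]
    refine Finset.prod_congr rfl fun q _ => ?_
    have key : ∀ (r : G ⧸ U) (w : G) (hw : w ∈ U), r = g • h • q →
        w = ((g • h • q).out⁻¹ * g * (h • q).out) * ((h • q).out⁻¹ * h * q.out) →
        act r.out (π w hw) = act (g • h • q).out (π _ (hmem g (h • q))) *
          act g (act (h • q).out (π _ (hmem h q))) := by
      rintro r w hw rfl rfl
      rw [hπmul _ _ (hmem g (h • q)) (hmem h q), act_map_mul, ← act_mul, ← act_mul]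
      congr 2
      group
    refine key _ _ _ (mul_smul g h q) ?_
    rw [mul_smul]; group
  · intro a
    rw [zpow_natCast, Subgroup.index, Nat.card_eq_fintype_card, ← Finset.card_univ, ← Finset.prod_const]
    refine Finset.prod_congr rfl fun q _ => ?_
    have haq : (a : G) • q = q := by
      have hA_U : A ≤ U := hU ▸ le_sup_right
      conv_lhs => rw [← QuotientGroup.out_eq' q]
      conv_rhs => rw [← QuotientGroup.out_eq' q]
      change (((a : G) * q.out : G) : G ⧸ U) = (q.out : G ⧸ U)
      rw [QuotientGroup.eq]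
      have h1 := (inferInstance : A.Normal).conj_mem _ (inv_mem a.2) q.out⁻¹
      rw [inv_inv] at h1
      simpa [mul_assoc] using hA_U h1
    have key : ∀ (r : G ⧸ U) (w : G) (hw : w ∈ U), r = q → w = q.out⁻¹ * (a : G) * q.out →
        act r.out (π w hw) = a := by
      rintro r w hw rfl rfl
      have hwA : r.out⁻¹ * (a : G) * r.out ∈ A := by
        have h1 := (inferInstance : A.Normal).conj_mem _ a.2 r.out⁻¹
        rwa [inv_inv] at h1
      have hπw : π _ hw = ⟨_, hwA⟩ := huniq _ _ _ (hπ _ hw) (by simp [mul_assoc, K.one_mem])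
      rw [hπw]
      ext
      rw [act_coe]
      group
    exact key _ _ _ haq (by rw [haq])

/-- Gaschütz's complement criterion. -/
theorem result {G : Type*} [Group G] [Finite G] (A : Subgroup G) [A.Normal] (hA : IsMulCommutative A) : (∃ K : Subgroup G, K.IsComplement' A) ↔ ∀ p : ℕ, p.Prime → p ∣ A.index → ∃ (S : Sylow p (G ⧸ A)) (K : Subgroup G), K ⊓ A = ⊥ ∧ K ⊔ A = (S : Subgroup (G ⧸ A)).comap (QuotientGroup.mk' A) := by
  constructor
  · rintro ⟨K, hK⟩ p hp -
    have := Fact.mk hp
    obtain ⟨S⟩ : Nonempty (Sylow p (G ⧸ A)) := inferInstance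
    set U := (S : Subgroup (G ⧸ A)).comap (QuotientGroup.mk' A) with hU
    have hAU : A ≤ U := fun a ha => by
      rw [hU, Subgroup.mem_comap, QuotientGroup.mk'_apply, (QuotientGroup.eq_one_iff a).2 ha]
      exact one_mem _
    refine ⟨S, K ⊓ U, le_bot_iff.1 fun x hx => ?_, le_antisymm (sup_le inf_le_right hAU) fun x hx => ?_⟩
    · exact disjoint_iff_inf_le.1 hK.disjoint ⟨hx.1.1, hx.2⟩
    · obtain ⟨⟨k, a⟩, hka⟩ := hK.2 x
      have hka' : (k : G) * (a : G) = x := hka
      rw [← hka'] at hx ⊢
      refine mul_mem (Subgroup.mem_sup_left ⟨k.2, ?_⟩) (Subgroup.mem_sup_right a.2)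
      simpa using U.mul_mem hx (U.inv_mem (hAU a.2))
  · intro h
    classical
    letI : CommGroup A := { (inferInstance : Group A) with mul_comm := fun a b => hA.is_comm.comm a b }
    let D : AddSubgroup ℤ :=
      { carrier := {n | Good A n}
        zero_mem' := ⟨fun _ => 1, fun g h => by rw [one_mul]; exact (map_one (MulAut.conjNormal (H := A) g)).symm,
          fun a => by simp⟩
        add_mem' := by
          rintro m n ⟨θ, hθ, hθA⟩ ⟨η, hη, hηA⟩
          refine ⟨fun g => θ g * η g, fun g h => ?_, fun a => by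
            simp only [hθA, hηA, zpow_add]⟩
          simp only [hθ, hη, act_map_mul]
          exact mul_mul_mul_comm _ _ _ _
        neg_mem' := by
          rintro n ⟨θ, hθ, hθA⟩
          refine ⟨fun g => (θ g)⁻¹, fun g h => ?_, fun a => by simp only [hθA, zpow_neg]⟩
          simp only [hθ, mul_inv]
          congr 1
          exact (map_inv (MulAut.conjNormal (H := A) g) (θ h)).symm }
    have hidx : (A.index : ℤ) ∈ D := good_index hA A ⊥ (by simp) (by simp)
    obtain ⟨d, hd⟩ := Int.subgroup_cyclic D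
    rw [← AddSubgroup.zmultiples_eq_closure] at hd
    have hdd : ∀ n : ℤ, n ∈ D → d ∣ n := fun n hn => by
      rw [hd, AddSubgroup.mem_zmultiples_iff] at hn
      obtain ⟨k, hk⟩ := hn
      exact ⟨k, by rw [← hk, smul_eq_mul, mul_comm]⟩
    have hd1 : d.natAbs = 1 := by
      by_contra hne
      obtain ⟨p, hp, hpd⟩ := Nat.exists_prime_and_dvd hne
      have := Fact.mk hp
      have hpA : p ∣ A.index := hpd.trans (Int.natAbs_dvd_natAbs.2 (hdd _ hidx))
      obtain ⟨S, K, hK1, hK2⟩ := h p hp hpA
      have hm := good_index hA _ K hK1 hK2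
      rw [Subgroup.index_comap_of_surjective _ (QuotientGroup.mk'_surjective A)] at hm
      exact S.not_dvd_index (hpd.trans (Int.natAbs_dvd_natAbs.2 (hdd _ hm)))
    have h1 : (1 : ℤ) ∈ D := by
      rw [hd, AddSubgroup.mem_zmultiples_iff]
      rcases Int.natAbs_eq d with e | e
      · exact ⟨1, by rw [e, hd1]; rfl⟩
      · exact ⟨-1, by rw [e, hd1]; rfl⟩
    obtain ⟨θ, hθ, hθA⟩ := h1
    have hone : θ 1 = 1 := by simpa using hθA 1
    have hid : ∀ g, θ (g⁻¹) = act g⁻¹ (θ g)⁻¹ := by
      intro g
      have := hθ g⁻¹ g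
      rw [inv_mul_cancel, hone] at this
      rw [eq_inv_of_mul_eq_one_left this.symm]
      exact (map_inv (MulAut.conjNormal (H := A) g⁻¹) (θ g)).symm
    refine ⟨⟨⟨⟨{g | θ g = 1}, fun {g k} hg hk => ?_⟩, hone⟩, fun {g} hg => ?_⟩, ?_⟩
    · change θ (g * k) = 1
      rw [hθ, show θ g = 1 from hg, show θ k = 1 from hk, one_mul]
      exact map_one (MulAut.conjNormal (H := A) g)
    · change θ g⁻¹ = 1
      rw [hid, show θ g = 1 from hg, inv_one]
      exact map_one (MulAut.conjNormal (H := A) g⁻¹)
    · refine Subgroup.isComplement'_of_disjoint_and_mul_eq_univ ?_ ?_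
      · rw [disjoint_iff_inf_le]
        rintro x ⟨hx1, hx2⟩
        have h2 := hθA ⟨x, hx2⟩
        rw [show θ x = 1 from hx1, zpow_one] at h2
        exact Subgroup.mem_bot.2 (congrArg Subtype.val h2).symm
      · rw [Set.eq_univ_iff_forall]
        intro g
        set a : A := θ g⁻¹ with ha
        refine ⟨g * (a : G), ?_, (a : G)⁻¹, inv_mem a.2, by group⟩
        change θ (g * (a : G)) = 1
        rw [hθ, hθA a, zpow_one, ha, hid, ← act_mul, mul_inv_cancel, act_of_mem hA A.one_mem, mul_inv_cancel]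

end Cfsg.Agent.S4217
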