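import Cfsg.Statements.S3171
import Cfsg.Agent.Inv53.M24Checks
import Cfsg.Agent.FusionSimple.Mathieu.Large
import Cfsg.Agent.LocalEven48.M24Sylow
-- import your own Cfsg.Agent.* helpers here

set_option autoImplicit false
set_option maxRecDepth 20000
open Cfsg

namespace Cfsg.Agent.S3171

open CfsgLib.Inv53.M24Data CfsgLib.Schur.Pc CfsgLib.Mathieu

set_option linter.style.haveILetI false

theorem mem_wordN {n a : ℕ} (ha : a ∈ wordN n) : a < 10 :=
  List.mem_range.1 (List.mem_filter.1 ha).1

theorem rmul_lt (g n : ℕ) : rmul g n < 1024 := Nat.mod_lt _ (by norm_num)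

theorem foldl_rmul_lt : ∀ (w : List ℕ) (a : ℕ), a < 1024 →
    w.foldl (fun acc g => rmul g acc) a < 1024
  | [], _, h => h
  | g :: w, a, _ => foldl_rmul_lt w _ (rmul_lt g a)

theorem testBit_pattern : ∀ (b : Fin 4 → Bool) (i : Fin 4),
    (∑ j : Fin 4, bif b j then 0 else 2 ^ (j : ℕ)).testBit i = !b i := by
  decide +kernel

theorem pattern_lt : ∀ b : Fin 4 → Bool, (∑ j : Fin 4, bif b j then 0 else 2 ^ (j : ℕ)) < 16 := by
  decide +kernel

theorem wordN_zero : wordN 0 = [] := by decide +kernel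

theorem wordN_pow : ∀ g < 10, wordN (2 ^ g) = [g] := by decide +kernel

theorem wordN_add512 : ∀ n < 512, wordN (n + 512) = wordN n ++ [9] := by decide +kernel

theorem wordN_512 : wordN 512 = [9] := by decide +kernel

theorem wordN_split : ∀ n < 512, wordN n = wordN (n % 8) ++ wordN (n - n % 8) := by decide +kernel

/-- The model maps onto a Sylow 2-subgroup. -/
theorem exists_model : ∃ (H : Sylow 2 ↥Cfsg.M24) (F : ℕ → ↥(H : Subgroup ↥Cfsg.M24)),
    (∀ a b, a < 1024 → b < 1024 → (F a = F b ↔ a = b)) ∧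
    (∀ s, ∃ n < 1024, F n = s) ∧ F 0 = 1 ∧
    (∀ a b, a < 1024 → b < 1024 → F a * F b = F (mulN a b)) ∧
    (∀ n, F n = ev (fun g => F (2 ^ g)) (wordN n)) := by
  haveI : Fact (Nat.Prime 2) := ⟨Nat.prime_two⟩
  have hin : ∀ t ∈ xs, InGroup enc Cfsg.M24 t := fun t ht =>
    CfsgLib.FusionSimple.MathieuTab.inGroup_of_inM24 (List.all_eq_true.1 inM24_ok t ht)
  obtain ⟨x, hx⟩ := exists_word_elems hin
  have heq : ∀ u v, wordEq xs u v = true → ev x u = ev x v := by
    intro u v h
    refine Subtype.ext (Equiv.ext fun p => enc.injective (Fin.ext ?_))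
    simp only [wordEq, allBelow_iff, beq_iff_eq] at h
    rw [hx, hx, h _ (enc p).isLt]
  have hr : ∀ l ∈ rules, ev x l.1 = ev x l.2 := fun l hl =>
    heq _ _ (List.all_eq_true.1 rules_ok l hl)
  let key : ↥Cfsg.M24 → ℕ := fun g => base.foldl (fun acc b => acc * 32 + (enc (g.1 (pt b))).val) 0
  have hkey : ∀ w, key (ev x w) = wordKey xs base w := by
    intro w
    have hb : ∀ b ∈ base, (enc ((ev x w : ↥Cfsg.M24).1 (pt b))).val = tImg xs w b := by
      intro b hb
      rw [hx]
      change tImg xs w (idx (pt b)) = _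
      rw [idx_pt (by simpa using List.all_eq_true.1 base_ok b hb)]
    have aux : ∀ (L : List ℕ), (∀ b ∈ L, (enc ((ev x w : ↥Cfsg.M24).1 (pt b))).val = tImg xs w b) →
        ∀ acc, L.foldl (fun acc b => acc * 32 + (enc ((ev x w : ↥Cfsg.M24).1 (pt b))).val) acc =
          L.foldl (fun acc b => acc * 32 + tImg xs w b) acc := by
      intro L
      induction L with
      | nil => intro _ acc; rfl
      | cons b L ih =>
        intro hL acc
        rw [List.foldl_cons, List.foldl_cons, hL b List.mem_cons_self,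
          ih (fun c hc => hL c (List.mem_cons_of_mem _ hc))]
    exact aux base hb 0
  let T := tailSubgroup x 10 0
  have hmem : ∀ w : List ℕ, (∀ a ∈ w, a < 10) → ev x w ∈ T := fun w hw =>
    ev_mem x fun a ha => gen_mem_tailSubgroup x (Nat.zero_le a) (hw a ha)
  let Φ : Fin 1024 → T := fun n => ⟨ev x (wordN n), hmem _ fun _ ha => mem_wordN ha⟩
  have hinj : Function.Injective Φ := by
    intro a b h
    have h1 := congrArg (fun s : T => key (s : ↥Cfsg.M24)) h
    simp only [Φ, hkey] at h1
    have := List.inj_on_of_nodup_map keys_ok (List.mem_range.2 a.isLt) (List.mem_range.2 b.isLt) h1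
    exact Fin.ext this
  have hT : Nat.card T = 1024 := by
    refine le_antisymm ?_ ?_
    · exact card_tailSubgroup_le x shaped_ok hr 10 0 rfl
    · simpa [Nat.card_fin] using Nat.card_le_card_of_injective Φ hinj
  have hsurj : Function.Surjective Φ :=
    (Nat.bijective_iff_injective_and_card Φ).2 ⟨hinj, by rw [Nat.card_fin, hT]⟩ |>.2
  have hkinj : ∀ s s' : T, key s = key s' → s = s' := by
    intro s s' h
    obtain ⟨a, rfl⟩ := hsurj s
    obtain ⟨b, rfl⟩ := hsurj s'
    simp only [Φ, hkey] at h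
    rw [Fin.ext (List.inj_on_of_nodup_map keys_ok (List.mem_range.2 a.isLt) (List.mem_range.2 b.isLt) h)]
  have hcard2 : Nat.card T = 2 ^ (Nat.card ↥Cfsg.M24).factorization 2 := by
    obtain ⟨S⟩ : Nonempty (Sylow 2 ↥Cfsg.M24) := inferInstance
    rw [← S.card_eq_multiplicity, CfsgLib.LocalEven48.card_sylow_M24 S, hT]
    norm_num
  let H : Sylow 2 ↥Cfsg.M24 := Sylow.ofCard T hcard2
  let F : ℕ → ↥(H : Subgroup ↥Cfsg.M24) := fun n => ⟨ev x (wordN n), hmem _ fun _ ha => mem_wordN ha⟩
  have hFg : ∀ g < 10, (F (2 ^ g) : ↥Cfsg.M24) = x g := by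
    intro g hg
    change ev x (wordN (2 ^ g)) = x g
    rw [wordN_pow g hg, ev_cons, ev_nil, mul_one]
  have hstep : ∀ n < 1024, ∀ g < 10, F n * F (2 ^ g) = F (rmul g n) := by
    intro n hn g hg
    apply hkinj
    rw [Subgroup.coe_mul, hFg g hg]
    change key (ev x (wordN n) * x g) = key (ev x (wordN (rmul g n)))
    rw [show x g = ev x [g] by rw [ev_cons, ev_nil, mul_one], ← ev_append, hkey, hkey]
    simpa using List.all_eq_true.1 (List.all_eq_true.1 rmul_ok n (List.mem_range.2 hn)) g
      (List.mem_range.2 hg)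
  have hev : ∀ n, F n = ev (fun g => F (2 ^ g)) (wordN n) := by
    intro n
    apply Subtype.ext
    change _ = ((H : Subgroup ↥Cfsg.M24).subtype) (ev (fun g => F (2 ^ g)) (wordN n))
    rw [map_ev]
    change ev x (wordN n) = _
    unfold ev
    congr 1
    exact List.map_congr_left fun g hg => (hFg g (mem_wordN hg)).symm
  refine ⟨H, F, ?_, ?_, ?_, ?_, hev⟩
  · intro a b ha hb
    exact ⟨fun h => congrArg Fin.val (hinj (a₁ := ⟨a, ha⟩) (a₂ := ⟨b, hb⟩) h), fun h => h ▸ rfl⟩
  · intro s
    obtain ⟨n, hn⟩ := hsurj s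
    exact ⟨n, n.isLt, hn⟩
  · apply Subtype.ext
    change ev x (wordN 0) = 1
    rw [wordN_zero, ev_nil]
  · intro a b ha _
    rw [hev b, mulN]
    have aux : ∀ (w : List ℕ), (∀ g ∈ w, g < 10) → ∀ a < 1024,
        F a * ev (fun g => F (2 ^ g)) w = F (w.foldl (fun acc g => rmul g acc) a) := by
      intro w
      induction w with
      | nil => intro _ a _; rw [ev_nil, mul_one]; rfl
      | cons g w ih =>
        intro hw a ha
        rw [ev_cons, ← mul_assoc, hstep a ha g (hw g List.mem_cons_self), List.foldl_cons,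
          ih (fun c hc => hw c (List.mem_cons_of_mem _ hc)) _ (rmul_lt g a)]
    exact aux _ (fun _ hg => mem_wordN hg) a ha

/-- A model of the quotient by the centre. -/
theorem exists_quotient_model (P : Sylow 2 ↥Cfsg.M24) :
    ∃ F : ℕ → ↥(P : Subgroup ↥Cfsg.M24) ⧸ Subgroup.center ↥(P : Subgroup ↥Cfsg.M24),
      (∀ a b, a < 512 → b < 512 → F a = F b → a = b) ∧
      (∀ s, ∃ n < 512, F n = s) ∧ F 0 = 1 ∧
      (∀ a b, a < 512 → b < 512 → F a * F b = F (mulN a b % 512)) ∧
      (∀ n < 512, F n = F (n % 8) * F (n - n % 8)) ∧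
      (∀ w : List ℕ, (∀ g ∈ w, g < 9) → ev (fun g => F (2 ^ g)) w = F (evN w)) := by
  haveI : Fact (Nat.Prime 2) := ⟨Nat.prime_two⟩
  obtain ⟨H, G, hGi, hGs, hG0, hGm, hGe⟩ := exists_model
  let e : ↥(H : Subgroup ↥Cfsg.M24) ≃* ↥(P : Subgroup ↥Cfsg.M24) := H.equiv P
  let π : ↥(H : Subgroup ↥Cfsg.M24) →* ↥(P : Subgroup ↥Cfsg.M24) ⧸ Subgroup.center ↥(P : Subgroup ↥Cfsg.M24) :=
    (QuotientGroup.mk' _).comp e.toMonoidHom
  have hcomm : ∀ n < 1024, G n ∈ Subgroup.center ↥(H : Subgroup ↥Cfsg.M24) → n = 0 ∨ n = 512 := by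
    intro n hn hc
    have h := List.all_eq_true.1 center_ok n (List.mem_range.2 hn)
    simp only [Bool.or_eq_true, beq_iff_eq, Bool.not_eq_true'] at h
    rcases h with h | h
    · exact h
    exfalso
    rw [← Bool.not_eq_true] at h
    apply h
    rw [List.all_eq_true]
    intro g hg
    rw [List.mem_range] at hg
    have hg2 : (2 : ℕ) ^ g < 1024 := by
      calc (2 : ℕ) ^ g < 2 ^ 10 := Nat.pow_lt_pow_right (by norm_num) hg
        _ = 1024 := by norm_num
    rw [beq_iff_eq]
    apply (hGi _ _ (rmul_lt g n) (show mulN (2 ^ g) n < 1024 from foldl_rmul_lt _ _ hg2)).1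
    rw [← hGm _ _ hg2 hn, Subgroup.mem_center_iff.1 hc (G (2 ^ g)), hGm _ _ hn hg2]
    simp [mulN, wordN_pow g hg]
  have hz : G 512 ∈ Subgroup.center ↥(H : Subgroup ↥Cfsg.M24) := by
    rw [Subgroup.mem_center_iff]
    intro s
    have hgen : ∀ g < 10, Commute (G 512) (G (2 ^ g)) := by
      intro g hg
      have hg2 : (2 : ℕ) ^ g < 1024 := by
        calc (2 : ℕ) ^ g < 2 ^ 10 := Nat.pow_lt_pow_right (by norm_num) hg
          _ = 1024 := by norm_num
      change G 512 * G (2 ^ g) = G (2 ^ g) * G 512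
      rw [hGm _ _ (by norm_num) hg2, hGm _ _ hg2 (by norm_num)]
      congr 1
      have := List.all_eq_true.1 z_central_ok g (List.mem_range.2 hg)
      rw [beq_iff_eq] at this
      rw [← this]
      simp [mulN, wordN_pow g hg]
    obtain ⟨n, hn, rfl⟩ := hGs s
    rw [hGe n]
    exact (Commute.list_prod_right _ _ fun y hy => by
      obtain ⟨g, hg, rfl⟩ := List.mem_map.1 hy
      exact hgen g (mem_wordN hg)).symm.eq
  have hec : ∀ h, h ∈ Subgroup.center ↥(H : Subgroup ↥Cfsg.M24) ↔ e h ∈ Subgroup.center ↥(P : Subgroup ↥Cfsg.M24) := by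
    intro h
    simp only [Subgroup.mem_center_iff]
    constructor
    · intro hh q
      obtain ⟨q', rfl⟩ := e.surjective q
      rw [← map_mul, hh, map_mul]
    · intro hh q
      apply e.injective
      rw [map_mul, map_mul, hh]
  have hπk : ∀ h, π h = 1 ↔ h ∈ Subgroup.center ↥(H : Subgroup ↥Cfsg.M24) := fun h => by
    rw [hec]
    exact QuotientGroup.eq_one_iff _
  have hπz : π (G 512) = 1 := (hπk _).2 hz
  have hmod : ∀ n < 1024, π (G n) = π (G (n % 512)) := by
    intro n hn
    by_cases h : n < 512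
    · rw [Nat.mod_eq_of_lt h]
    · have hn' : n - 512 < 512 := by omega
      rw [show n % 512 = n - 512 by omega]
      have : G n = G (n - 512) * G 512 := by
        conv_lhs => rw [show n = n - 512 + 512 by omega, hGe, wordN_add512 _ hn', ev_append, ← hGe]
        rw [hGe 512, wordN_512]
      rw [this, map_mul, hπz, mul_one]
  refine ⟨fun n => π (G n), ?_, ?_, ?_, ?_, ?_, ?_⟩
  · intro a b ha hb h
    obtain ⟨k, hk, hk'⟩ := hGs ((G a)⁻¹ * G b)
    have hc : π (G k) = 1 := by rw [hk', map_mul, map_inv]; exact inv_mul_eq_one.2 h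
    have hb' : G b = G a * G k := by rw [hk', mul_inv_cancel_left]
    rcases hcomm k hk ((hπk _).1 hc) with rfl | rfl
    · rw [hG0, mul_one] at hb'
      exact ((hGi _ _ (by omega) (by omega)).1 hb').symm
    · have : G (a + 512) = G a * G 512 := by
        rw [hGe (a + 512), wordN_add512 a ha, ev_append, ← hGe, hGe 512, wordN_512]
      rw [← this] at hb'
      have := (hGi _ _ (by omega) (by omega)).1 hb'
      omega
  · intro s
    obtain ⟨q, rfl⟩ := QuotientGroup.mk_surjective s
    obtain ⟨h, rfl⟩ := e.surjective q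
    obtain ⟨n, hn, rfl⟩ := hGs h
    exact ⟨n % 512, Nat.mod_lt _ (by norm_num), (hmod n hn).symm⟩
  · change π (G 0) = 1
    rw [hG0, map_one]
  · intro a b ha hb
    change π (G a) * π (G b) = π (G (mulN a b % 512))
    rw [← map_mul, hGm _ _ (by omega) (by omega), hmod (mulN a b) (foldl_rmul_lt _ _ (by omega))]
  · intro n hn
    change π (G n) = π (G (n % 8)) * π (G (n - n % 8))
    rw [← map_mul]
    congr 1
    rw [hGe n, wordN_split n hn, ev_append, ← hGe, ← hGe]
  · intro w hw
    change ev (fun g => π (G (2 ^ g))) w = π (G (evN w))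
    rw [← map_ev, evN]
    have aux : ∀ (w : List ℕ), (∀ g ∈ w, g < 9) → ∀ a < 1024,
        π (G a) * π (ev (fun g => G (2 ^ g)) w) = π (G (w.foldl (fun acc g => rmul g acc) a % 512)) := by
      intro w
      induction w with
      | nil => intro _ a ha; rw [ev_nil, map_one, mul_one]; exact hmod a ha
      | cons g w ih =>
        intro hw a ha
        have hg : g < 9 := hw g List.mem_cons_self
        have hg2 : (2 : ℕ) ^ g < 1024 := by
          calc (2 : ℕ) ^ g < 2 ^ 10 := Nat.pow_lt_pow_right (by norm_num) (by omega)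
            _ = 1024 := by norm_num
        rw [ev_cons, map_mul, ← mul_assoc, ← map_mul, hGm _ _ ha hg2, List.foldl_cons,
          ← ih (fun c hc => hw c (List.mem_cons_of_mem _ hc)) _ (rmul_lt g a)]
        simp [mulN, wordN_pow g (by omega)]
    have := aux w hw 0 (by norm_num)
    rwa [hG0, map_one, one_mul] at this

/-- The three properties, from the model. -/
theorem properties {S : Type*} [Group S] [Finite S] (hS : IsPGroup 2 S) (F : ℕ → S)
    (hinj : ∀ a b, a < 512 → b < 512 → F a = F b → a = b) (hsurj : ∀ s, ∃ n < 512, F n = s)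
    (h0 : F 0 = 1) (hmul : ∀ a b, a < 512 → b < 512 → F a * F b = F (mulN a b % 512))
    (hsplit : ∀ n < 512, F n = F (n % 8) * F (n - n % 8))
    (hword : ∀ w : List ℕ, (∀ g ∈ w, g < 9) → ev (fun g => F (2 ^ g)) w = F (evN w)) :
    (∀ M : Subgroup S, IsCoatom M → Nat.card ↥(Subgroup.center ↥M) ≤ 8) ∧
      (∃ A : Subgroup S, Cfsg.IsElementaryAbelian 2 A ∧ Nat.card ↥A = 64) ∧
      ∀ A B : Subgroup S, IsMulCommutative ↥A → Nat.card ↥A = 64 → IsMulCommutative ↥B →
        Nat.card ↥B = 64 → A = B := by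
  classical
  haveI : Fact (Nat.Prime 2) := ⟨Nat.prime_two⟩
  have hcom : ∀ a b, a < 512 → b < 512 → (Commute (F a) (F b) ↔ comN a b = true) := by
    intro a b ha hb
    rw [comN, beq_iff_eq]
    constructor
    · intro h
      have h' : F a * F b = F b * F a := h
      rw [hmul a b ha hb, hmul b a hb ha] at h'
      exact hinj _ _ (Nat.mod_lt _ (by norm_num)) (Nat.mod_lt _ (by norm_num)) h'
    · intro h
      change F a * F b = F b * F a
      rw [hmul a b ha hb, hmul b a hb ha, h]
  -- the subgroup of order 64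
  let Aset : Set S := {s | ∃ i < 64, F (8 * i) = s}
  have hAmul : ∀ i < 64, ∀ j < 64, F (8 * i) * F (8 * j) ∈ Aset ∧ Commute (F (8 * i)) (F (8 * j)) := by
    intro i hi j hj
    have h := List.all_eq_true.1 (List.all_eq_true.1 abel_ok i (List.mem_range.2 hi)) j (List.mem_range.2 hj)
    simp only [Bool.and_eq_true, beq_iff_eq] at h
    refine ⟨⟨mulN (8 * i) (8 * j) % 512 / 8, by omega, ?_⟩, (hcom _ _ (by omega) (by omega)).2 h.2⟩
    rw [hmul _ _ (by omega) (by omega)]
    congr 1
    omega
  have hAsq : ∀ i < 64, F (8 * i) * F (8 * i) = 1 := by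
    intro i hi
    have h := List.all_eq_true.1 square_ok i (List.mem_range.2 hi)
    rw [beq_iff_eq] at h
    rw [hmul _ _ (by omega) (by omega), h, h0]
  let A : Subgroup S :=
    { carrier := Aset
      mul_mem' := by rintro _ _ ⟨i, hi, rfl⟩ ⟨j, hj, rfl⟩; exact (hAmul i hi j hj).1
      one_mem' := ⟨0, by norm_num, by rw [mul_zero, h0]⟩
      inv_mem' := by
        rintro _ ⟨i, hi, rfl⟩
        exact ⟨i, hi, (inv_eq_of_mul_eq_one_right (hAsq i hi)).symm⟩ }
  have hA64 : Nat.card A = 64 := by
    rw [← Nat.card_fin 64]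
    refine (Nat.card_congr (Equiv.ofBijective (fun i : Fin 64 => (⟨F (8 * i), i, i.isLt, rfl⟩ : A)) ⟨?_, ?_⟩)).symm
    · intro a b h
      have := hinj _ _ (by omega) (by omega) (congrArg Subtype.val h)
      exact Fin.ext (by omega)
    · rintro ⟨s, i, hi, rfl⟩
      exact ⟨⟨i, hi⟩, rfl⟩
  have hAel : Cfsg.IsElementaryAbelian 2 A := by
    refine ⟨⟨⟨?_⟩⟩, ?_⟩
    · rintro ⟨_, i, hi, rfl⟩ ⟨_, j, hj, rfl⟩
      exact Subtype.ext (hAmul i hi j hj).2
    · rintro _ ⟨i, hi, rfl⟩
      rw [pow_two]; exact hAsq i hi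
  -- uniqueness
  have huniq : ∀ B : Subgroup S, IsMulCommutative ↥B → Nat.card ↥B = 64 → B = A := by
    intro B hBc hB
    have hBcomm : ∀ a b, F a ∈ B → F b ∈ B → Commute (F a) (F b) := fun a b ha hb =>
      congrArg Subtype.val (hBc.is_comm.comm ⟨_, ha⟩ ⟨_, hb⟩)
    let I : Finset ℕ := (Finset.range 512).filter fun n => F n ∈ B
    have hI : I.card = 64 := by
      rw [← hB, ← Nat.card_eq_finsetCard]
      refine Nat.card_congr (Equiv.ofBijective (fun n => (⟨F n.1, (Finset.mem_filter.1 n.2).2⟩ : B)) ⟨?_, ?_⟩)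
      · intro a b h
        exact Subtype.ext (hinj _ _ (Finset.mem_range.1 (Finset.mem_filter.1 a.2).1)
          (Finset.mem_range.1 (Finset.mem_filter.1 b.2).1) (congrArg Subtype.val h))
      · rintro ⟨s, hs⟩
        obtain ⟨n, hn, rfl⟩ := hsurj s
        exact ⟨⟨n, Finset.mem_filter.2 ⟨Finset.mem_range.2 hn, hs⟩⟩, rfl⟩
    let fib : ℕ → Finset ℕ := fun q => I.filter fun n => n % 8 = q
    have hfib : ∀ q, (fib q).card ≤ (fib 0).card := by
      intro q
      rcases (fib q).eq_empty_or_nonempty with h | ⟨b, hb⟩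
      · rw [h]; exact Nat.zero_le _
      simp only [fib, I, Finset.mem_filter, Finset.mem_range] at hb
      have hex : ∀ n, ∃ m, n ∈ fib q → m ∈ fib 0 ∧ F m = (F b)⁻¹ * F n := by
        intro n
        by_cases hn : n ∈ fib q
        · have hn' := hn
          simp only [fib, I, Finset.mem_filter, Finset.mem_range] at hn'
          have hAn : ∀ m < 512, F (m - m % 8) ∈ A := fun m hm =>
            ⟨m / 8, by omega, by congr 1; omega⟩
          have hmem : (F b)⁻¹ * F n ∈ A := by
            rw [hsplit b hb.1.1, hsplit n hn'.1.1, hb.2, hn'.2, mul_inv_rev, mul_assoc, inv_mul_cancel_left]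
            exact mul_mem (inv_mem (hb.2 ▸ hAn b hb.1.1)) (hn'.2 ▸ hAn n hn'.1.1)
          obtain ⟨i, hi, hie⟩ := hmem
          refine ⟨8 * i, fun _ => ⟨?_, hie⟩⟩
          simp only [fib, I, Finset.mem_filter, Finset.mem_range]
          refine ⟨⟨by omega, ?_⟩, by omega⟩
          rw [hie]
          exact mul_mem (inv_mem hb.1.2) hn'.1.2
        · exact ⟨0, fun h => absurd h hn⟩
      choose f hf using hex
      refine Finset.card_le_card_of_injOn f (fun n hn => (hf n hn).1) ?_
      intro a ha c hc hac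
      have := (hf a ha).2
      rw [hac, (hf c hc).2] at this
      have h' := mul_left_cancel this
      simp only [Finset.mem_coe, fib, I, Finset.mem_filter, Finset.mem_range] at ha hc
      exact (hinj _ _ hc.1.1 ha.1.1 h').symm
    let occ : Finset ℕ := (Finset.range 8).filter fun q => q ≠ 0 ∧ (fib q).Nonempty
    have hsum : I.card ≤ (fib 0).card + occ.card * (fib 0).card := by
      have hsub : I ⊆ fib 0 ∪ occ.biUnion fib := by
        intro n hn
        rw [Finset.mem_union]
        by_cases h : n % 8 = 0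
        · exact Or.inl (Finset.mem_filter.2 ⟨hn, h⟩)
        · refine Or.inr (Finset.mem_biUnion.2 ⟨n % 8, ?_, Finset.mem_filter.2 ⟨hn, rfl⟩⟩)
          exact Finset.mem_filter.2 ⟨Finset.mem_range.2 (Nat.mod_lt _ (by norm_num)), h, n,
            Finset.mem_filter.2 ⟨hn, rfl⟩⟩
      refine (Finset.card_le_card hsub).trans ((Finset.card_union_le _ _).trans ?_)
      exact Nat.add_le_add_left (Finset.card_biUnion_le_card_mul _ _ _ fun q _ => hfib q) _
    have hcent : ∀ q ∈ occ, fib 0 ⊆ (centA q).toFinset := by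
      intro q hq d hd
      obtain ⟨hq8, -, b, hb⟩ := Finset.mem_filter.1 hq
      simp only [fib, I, Finset.mem_filter, Finset.mem_range] at hb hd
      rw [List.mem_toFinset, centA, List.mem_filter]
      refine ⟨List.mem_map.2 ⟨d / 8, List.mem_range.2 (by omega), by omega⟩, ?_⟩
      rw [← hcom q d (by rw [Finset.mem_range] at hq8; omega) hd.1.1]
      have h1 : Commute (F b) (F d) := hBcomm b d hb.1.2 hd.1.2
      have h2 : Commute (F (b - b % 8)) (F d) := by
        have := (hAmul ((b - b % 8) / 8) (by omega) (d / 8) (by omega)).2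
        rwa [show 8 * ((b - b % 8) / 8) = b - b % 8 by omega, show 8 * (d / 8) = d by omega] at this
      have h3 : F q = F b * (F (b - b % 8))⁻¹ := by
        rw [eq_mul_inv_iff_mul_eq, ← hb.2]; exact (hsplit b hb.1.1).symm
      rw [h3]
      exact h1.mul_left h2.inv_left
    have hchk : ∀ q ∈ occ, (fib 0).card ≤ 16 ∧ (q = 3 → (fib 0).card ≤ 4) ∧
        ∀ r ∈ occ, r ≠ q → (fib 0).card ≤ 8 := by
      intro q hq
      have h := List.all_eq_true.1 centA_ok q (List.mem_range.2 (Finset.mem_range.1 (Finset.mem_filter.1 hq).1))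
      have hq0 : q ≠ 0 := (Finset.mem_filter.1 hq).2.1
      simp only [Bool.or_eq_true, Bool.and_eq_true, beq_iff_eq, decide_eq_true_eq, List.all_eq_true,
        List.mem_range, bne_iff_ne, hq0, false_or] at h
      obtain ⟨⟨h16, h3⟩, hpair⟩ := h
      have hle := (Finset.card_le_card (hcent q hq)).trans (List.toFinset_card_le _)
      refine ⟨hle.trans h16, fun e => hle.trans (h3.resolve_left fun hne => hne e), fun r hr hrq => ?_⟩
      have h8 := hpair r (Finset.mem_range.1 (Finset.mem_filter.1 hr).1)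
      rcases h8 with (h' | h') | h'
      · exact absurd h' (Finset.mem_filter.1 hr).2.1
      · exact absurd h' hrq
      · refine le_trans ?_ h'
        refine (Finset.card_le_card (fun d hd => ?_)).trans (List.toFinset_card_le _)
        rw [List.mem_toFinset, List.mem_filter]
        exact ⟨List.mem_toFinset.1 (hcent q hq hd), by simpa using List.mem_toFinset.1 (hcent r hr hd)⟩
    rcases occ.eq_empty_or_nonempty with hocc | ⟨q, hq⟩
    · have hle : B ≤ A := by
        intro s hs
        obtain ⟨n, hn, rfl⟩ := hsurj s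
        refine ⟨n / 8, by omega, ?_⟩
        congr 1
        by_contra hne
        have : n % 8 ∈ occ := Finset.mem_filter.2 ⟨Finset.mem_range.2 (Nat.mod_lt _ (by norm_num)),
          by omega, n, Finset.mem_filter.2 ⟨Finset.mem_filter.2 ⟨Finset.mem_range.2 hn, hs⟩, rfl⟩⟩
        rw [hocc] at this
        exact Finset.notMem_empty _ this
      exact Subgroup.eq_of_le_of_card_ge hle (by rw [hA64, hB])
    · exfalso
      rw [hI] at hsum
      obtain ⟨h16, -, hpair⟩ := hchk q hq
      have hocc7 : occ.card ≤ 7 := by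
        have : occ ⊆ (Finset.range 8).erase 0 := fun r hr => by
          simp only [occ, Finset.mem_filter] at hr
          exact Finset.mem_erase.2 ⟨hr.2.1, hr.1⟩
        simpa using Finset.card_le_card this
      by_cases hone : occ.card ≤ 1
      · have := Nat.mul_le_mul_right (fib 0).card hone
        omega
      · obtain ⟨r, hr, hrq⟩ := Finset.exists_mem_ne (s := occ) (by omega) q
        have h8 := hpair r hr hrq
        by_cases h3 : 3 ∈ occ
        · have h4 := (hchk 3 h3).2.1 rfl
          have := Nat.mul_le_mul hocc7 h4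
          omega
        · have hocc6 : occ.card ≤ 6 := by
            have : occ ⊆ ((Finset.range 8).erase 0).erase 3 := fun r hr => by
              have hr' := Finset.mem_filter.1 hr
              exact Finset.mem_erase.2 ⟨fun e => h3 (e ▸ hr), Finset.mem_erase.2 ⟨hr'.2.1, hr'.1⟩⟩
            simpa using Finset.card_le_card this
          have := Nat.mul_le_mul hocc6 h8
          omega
  refine ⟨?_, ⟨A, hAel, hA64⟩, fun A' B' h1 h2 h3 h4 => (huniq A' h1 h2).trans (huniq B' h3 h4).symm⟩
  -- maximal subgroups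
  intro M hM
  haveI := hS.isNilpotent
  haveI : M.Normal := Subgroup.NormalizerCondition.normal_of_coatom M
    Group.normalizerCondition_of_isNilpotent hM
  have hidx : M.index = 2 := by
    obtain ⟨k, hk⟩ := hS.index M
    rcases k with _ | k
    · rw [pow_zero, Subgroup.index_eq_one] at hk
      exact absurd hk hM.1
    · have hdvd : 2 ∣ Nat.card (S ⧸ M) := by
        change 2 ∣ M.index
        rw [hk]; exact dvd_pow_self 2 (Nat.succ_ne_zero k)
      obtain ⟨c, hc⟩ := exists_prime_orderOf_dvd_card' 2 hdvd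
      have hle : M ≤ (Subgroup.zpowers c).comap (QuotientGroup.mk' M) := fun m hm => by
        rw [Subgroup.mem_comap, QuotientGroup.mk'_apply, (QuotientGroup.eq_one_iff m).2 hm]
        exact Subgroup.one_mem _
      have hne : M ≠ (Subgroup.zpowers c).comap (QuotientGroup.mk' M) := fun h => by
        obtain ⟨s, rfl⟩ := QuotientGroup.mk_surjective c
        have hs : s ∈ M := by
          rw [h, Subgroup.mem_comap]
          exact Subgroup.mem_zpowers _
        rw [(QuotientGroup.eq_one_iff s).2 hs, orderOf_one] at hc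
        omega
      have htop := hM.2 _ (lt_of_le_of_ne hle hne)
      have hz : Subgroup.zpowers c = ⊤ := by
        rw [eq_top_iff]
        intro q _
        obtain ⟨s, rfl⟩ := QuotientGroup.mk_surjective q
        have : s ∈ (Subgroup.zpowers c).comap (QuotientGroup.mk' M) := htop ▸ Subgroup.mem_top s
        exact this
      change Nat.card (S ⧸ M) = 2
      rw [← Subgroup.card_top, ← hz, Nat.card_zpowers, hc]
  let h4 : Fin 4 → ℕ := ![0, 1, 3, 6]
  let v : ℕ := ∑ i : Fin 4, if F (2 ^ h4 i) ∈ M then 0 else 2 ^ (i : ℕ)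
  let bf : Fin 4 → Bool := fun i => decide (F (2 ^ h4 i) ∈ M)
  have hveq : v = ∑ j : Fin 4, bif bf j then 0 else 2 ^ (j : ℕ) := by
    refine Finset.sum_congr rfl fun j _ => ?_
    by_cases h : F (2 ^ h4 j) ∈ M
    · rw [if_pos h]; simp [bf, h]
    · rw [if_neg h]; simp [bf, h]
  have hv : ∀ i : Fin 4, v.testBit i = true ↔ F (2 ^ h4 i) ∉ M := by
    intro i
    rw [hveq, testBit_pattern bf i]
    simp [bf]
  have hv16 : v < 16 := hveq ▸ pattern_lt bf
  have hv0 : v ≠ 0 := by
    intro h
    apply hM.1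
    rw [eq_top_iff]
    intro s _
    have hin : ∀ a ∈ [0, 1, 3, 6], F (2 ^ a) ∈ M := by
      intro a ha
      have : ∀ i : Fin 4, F (2 ^ h4 i) ∈ M := fun i => by
        by_contra hne
        have := (hv i).2 hne
        rw [h, Nat.zero_testBit] at this
        exact Bool.noConfusion this
      simp only [List.mem_cons, List.not_mem_nil, or_false] at ha
      rcases ha with rfl | rfl | rfl | rfl
      exacts [this 0, this 1, this 2, this 3]
    have hgen : ∀ i < 9, F (2 ^ i) ∈ M := by
      intro i hi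
      have h := List.all_eq_true.1 hw_ok i (List.mem_range.2 hi)
      simp only [Bool.and_eq_true, beq_iff_eq, List.all_eq_true, List.contains_iff_mem] at h
      rw [← h.1, ← hword _ (fun g hg => by
        have := h.2 g hg
        simp only [List.mem_cons, List.not_mem_nil, or_false] at this
        omega)]
      exact ev_mem _ fun a ha => hin a (h.2 a ha)
    obtain ⟨n, hn, rfl⟩ := hsurj s
    have hw : evN (wordN n) = n ∧ ∀ g ∈ wordN n, g < 9 :=
      (by decide +kernel : ∀ n < 512, evN (wordN n) = n ∧ ∀ g ∈ wordN n, g < 9) n hn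
    rw [← hw.1, ← hword _ hw.2]
    exact ev_mem _ fun a ha => hgen a (hw.2 a ha)
  -- the listed elements lie in `M`
  have hmul2 : ∀ a b : S, a * b ∈ M ↔ (a ∈ M ↔ b ∈ M) := fun a b => Subgroup.mul_mem_iff_of_index_two hidx
  have hgens : ∀ w ∈ maxGens v, (∀ g ∈ w, g < 9) ∧ ev (fun g => F (2 ^ g)) w ∈ M := by
    intro w hw
    unfold maxGens at hw
    simp only at hw
    split at hw
    · exact absurd hw (by simp)
    rename_i k hk
    have hk4 : k < 4 := List.mem_range.1 (List.mem_of_find?_eq_some hk)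
    have hkv : v.testBit k = true := by simpa using List.find?_some hk
    have hget : ∀ i : Fin 4, [0, 1, 3, 6].getD (i : ℕ) 0 = h4 i := by decide +kernel
    have hlt : ∀ i : Fin 4, h4 i < 9 := by decide +kernel
    have hkM : F (2 ^ h4 ⟨k, hk4⟩) ∉ M := (hv ⟨k, hk4⟩).1 hkv
    simp only [List.cons_append, List.nil_append, List.mem_cons, List.mem_flatMap,
      List.mem_filter, List.mem_range] at hw
    rcases hw with rfl | ⟨i, ⟨hi4, -⟩, hw⟩
    · rw [hget ⟨k, hk4⟩]
      refine ⟨by simp [hlt], ?_⟩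
      simp only [ev_cons, ev_nil, mul_one, hmul2]
    · rw [hget ⟨k, hk4⟩, hget ⟨i, hi4⟩] at hw
      split_ifs at hw with hiv
      · have hiM : F (2 ^ h4 ⟨i, hi4⟩) ∉ M := (hv ⟨i, hi4⟩).1 hiv
        simp only [List.mem_cons, List.not_mem_nil, or_false] at hw
        rcases hw with rfl | rfl <;> refine ⟨by simp [hlt], ?_⟩ <;>
          simp [ev_cons, hmul2, hiM, hkM]
      · have hiM : F (2 ^ h4 ⟨i, hi4⟩) ∈ M := by
          by_contra hne
          exact hiv ((hv ⟨i, hi4⟩).2 hne)
        simp only [List.mem_cons, List.not_mem_nil, or_false] at hw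
        rcases hw with rfl | rfl <;> refine ⟨by simp [hlt], ?_⟩ <;>
          simp [ev_cons, hmul2, hiM, hkM]
  have hlen : (maxCent v).length ≤ 8 := by
    have h := List.all_eq_true.1 maxCent_ok v (List.mem_range.2 hv16)
    simpa [hv0] using h
  refine le_trans ?_ hlen
  refine le_trans ?_ (List.toFinset_card_le _)
  rw [← Nat.card_eq_finsetCard]
  have hidxOf : ∀ c : Subgroup.center ↥M, ∃ n, n ∈ (maxCent v).toFinset ∧ F n = ((c : M) : S) := by
    intro c
    obtain ⟨n, hn, hne⟩ := hsurj ((c : M) : S)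
    refine ⟨n, ?_, hne⟩
    rw [List.mem_toFinset, maxCent, List.mem_filter, List.mem_range, List.all_eq_true]
    refine ⟨hn, fun x hx => ?_⟩
    obtain ⟨w, hw, rfl⟩ := List.mem_map.1 hx
    have hg := hgens w hw
    apply (hcom n (evN w) hn (Nat.mod_lt _ (by norm_num))).1
    rw [← hword w hg.1, hne]
    exact (congrArg Subtype.val (Subgroup.mem_center_iff.1 c.2 ⟨_, hg.2⟩)).symm
  choose f hf using hidxOf
  refine Nat.card_le_card_of_injective (fun c => ⟨f c, (hf c).1⟩) fun a b h => ?_
  have : f a = f b := congrArg Subtype.val h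
  exact Subtype.ext (Subtype.ext (by rw [← (hf a).2, ← (hf b).2, this]))

/-- Let P be a Sylow 2-subgroup of the Mathieu group of degree 24 and S the quotient of P by its centre. Then the centre of every maximal subgroup of S has order at most 8; S has an elementary abelian subgroup of order 64; and S has only one abelian subgroup of order 64. -/
theorem result (P : Sylow 2 ↥Cfsg.M24) :
    (∀ M : Subgroup (↥(P : Subgroup ↥Cfsg.M24) ⧸ Subgroup.center ↥(P : Subgroup ↥Cfsg.M24)), IsCoatom M →
        Nat.card ↥(Subgroup.center ↥M) ≤ 8) ∧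
      (∃ A : Subgroup (↥(P : Subgroup ↥Cfsg.M24) ⧸ Subgroup.center ↥(P : Subgroup ↥Cfsg.M24)),
        Cfsg.IsElementaryAbelian 2 A ∧ Nat.card ↥A = 64) ∧
      ∀ A B : Subgroup (↥(P : Subgroup ↥Cfsg.M24) ⧸ Subgroup.center ↥(P : Subgroup ↥Cfsg.M24)),
        IsMulCommutative ↥A → Nat.card ↥A = 64 → IsMulCommutative ↥B → Nat.card ↥B = 64 → A = B := by
  obtain ⟨F, h1, h2, h3, h4, h5, h6⟩ := exists_quotient_model P
  exact properties (P.isPGroup'.to_quotient _) F h1 h2 h3 h4 h5 h6

end Cfsg.Agent.S3171
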