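import Cfsg.Statements.S2060
import Cfsg.Agent.SporadicOut.MathieuGlue
import Cfsg.Agent.SporadicOut.M11Data
-- import your own Cfsg.Agent.* helpers here

set_option autoImplicit false
open Cfsg

namespace Cfsg.Agent.S2060

open CfsgLib.Mathieu CfsgLib.Schur.Pc CfsgLib.SporadicOut CfsgLib.SporadicOut.M11Data in
/-- The outer automorphism group of the Mathieu group M₁₁ (the stabiliser of a dodecad and one of its points in the automorphism group of the length-24 binary code) is trivial: every automorphism is inner. -/
theorem result : Nat.card (Cfsg.Out ↥Cfsg.Spor.M11) = 1 := by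
  obtain ⟨σa, ha, ra⟩ := (inGroup_of_inM11 (show _ = true from (by decide +kernel : inM11 rigid.a = true)))
  obtain ⟨σb, hb, rb⟩ := (inGroup_of_inM11 (show _ = true from (by decide +kernel : inM11 rigid.b = true)))
  obtain ⟨σc, hc, rc⟩ := (inGroup_of_inM11 (show _ = true from (by decide +kernel : inM11 rigid.c = true)))
  have hgen := trip_generates (H := Spor.M11) (G := Spor.M12) (fun _ h => h.1) ⟨σa, ha⟩ ⟨σb, hb⟩ ⟨σc, hc⟩ ra rb rc steps strong (by decide +kernel) (m12Levels.drop 1) [pt 0] (le_of_eq SporM11_eq) (H' := Spor.M12) m12Levels_tail1 (le_of_eq SporM11_eq.symm) trees (by decide +kernel)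
  exact out_eq_one_of_check rigid fixes (by decide +kernel) SporM11_le fixM11 (N := 720) (by rw [card_SporM11]; rfl) (by decide +kernel)
    (forall_inGroup inGroup_of_inM11 (by decide +kernel)) (by decide +kernel) _ _ _ ra rb rc ⟨rfl, rfl, rfl⟩ hgen (by decide +kernel)

end Cfsg.Agent.S2060
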