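import Cfsg.Statements.S4226
import Cfsg.Agent.SolvCrit.HallWielandt

set_option autoImplicit false
set_option linter.style.haveILetI false
open Cfsg

namespace Cfsg.Agent.S4226

open scoped commutatorElement
open Subgroup CfsgLib.Transfer CfsgLib.SolvCrit.HallWielandt

/-- Let `P` be a Sylow `p`-subgroup of the finite group `G` with nilpotency class less than `p` (the term of index `p - 1` of the lower central series of `P`, indexed from `0`, is trivial), and let `N` be its normalizer. Then `O^p(N) = O^p(G) ∩ N`, where `O^p` denotes the subgroup generated by the elements of order prime to `p`; so the largest `p`-factor groups of `G` and of `N` are isomorphic. -/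
theorem result {G : Type*} [Group G] [Finite G] {p : ℕ} [Fact p.Prime] (P : Sylow p G) (hcl : (P : Subgroup G).lowerCentralSeries (p - 1) = ⊥) : Cfsg.pResidualOf p (Subgroup.normalizer ((P : Subgroup G) : Set G)) = Cfsg.pResidual p G ⊓ Subgroup.normalizer ((P : Subgroup G) : Set G) := by
  rw [inf_comm]
  refine (tate_of_elemResidual P le_normalizer ?_).symm
  rintro x ⟨hxP, hxE⟩
  refine ⟨⟨x, le_normalizer hxP⟩, ?_, rfl⟩
  set R := elemResidual p (normalizer ((P : Subgroup G) : Set G)) with hR
  have hcm : commutator (normalizer ((P : Subgroup G) : Set G)) ≤ R := le_sup_left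
  have hRn : R.Normal := Normal.of_commutator_le _ hcm
  letI : CommGroup (↥(normalizer ((P : Subgroup G) : Set G)) ⧸ R) :=
    { (inferInstance : Group (↥(normalizer ((P : Subgroup G) : Set G)) ⧸ R)) with
      mul_comm := fun a b => by
        induction a using QuotientGroup.induction_on with
        | _ a =>
        induction b using QuotientGroup.induction_on with
        | _ b =>
        rw [← QuotientGroup.mk_mul, ← QuotientGroup.mk_mul, QuotientGroup.eq]
        have h1 : (a * b)⁻¹ * (b * a) = ⁅b⁻¹, a⁻¹⁆ := by rw [commutatorElement_def]; group
        rw [h1]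
        exact hcm (commutator_mem_commutator (mem_top _) (mem_top _)) }
  have hA : ∀ a : ↥(normalizer ((P : Subgroup G) : Set G)) ⧸ R, a ^ p = 1 := fun a => by
    induction a using QuotientGroup.induction_on with
    | _ a =>
      rw [← QuotientGroup.mk_pow, QuotientGroup.eq_one_iff]
      exact mem_sup_right (subset_closure ⟨a, rfl⟩)
  have hEn : (elemResidual p G).Normal := Normal.of_commutator_le _ le_sup_left
  set φ := QuotientGroup.mk' R with hφ
  have hker : elemResidual p G ≤ (MonoidHom.transfer φ).ker :=
    elemResidual_le_ker _ mul_comm hA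
  exact (QuotientGroup.eq_one_iff _).1
    (apply_eq_one_of_class_lt P hcl hA φ (elemResidual p G) hker ⟨x, le_normalizer hxP⟩ hxE hxP)

end Cfsg.Agent.S4226
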