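import Cfsg.Statements.S4112
import Cfsg.Agent.FGS.PrimePart
import Mathlib.GroupTheory.SchurZassenhaus
-- import your own Cfsg.Agent.* helpers here

set_option autoImplicit false
open Cfsg

namespace Cfsg.Agent.S4112

open scoped Pointwise

/-- A minimal supplement to a normal subgroup has order supported on the index. -/
theorem exists_supplement {G : Type*} [Group G] [Finite G] (N : Subgroup G) [N.Normal] :
    ∃ H : Subgroup G, H ⊔ N = ⊤ ∧ ∀ p : ℕ, p.Prime → p ∣ Nat.card H → p ∣ N.index := by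
  obtain ⟨H, hH, hmin⟩ := Set.Finite.exists_minimalFor (fun K : Subgroup G => Nat.card K)
    {K : Subgroup G | K ⊔ N = ⊤} (Set.toFinite _) ⟨⊤, top_sup_eq N⟩
  refine ⟨H, hH, fun p hp hpH => ?_⟩
  by_contra hpi
  haveI := Fact.mk hp
  have small : ∀ K : Subgroup G, K ≤ H → K ⊔ N = ⊤ → K = H := fun K hK hKN =>
    Subgroup.eq_of_le_of_card_ge hK (hmin hKN (Subgroup.card_le_of_le hK))
  -- an element of `p`-power order lies in `N`
  have hpN : ∀ R : Subgroup G, IsPGroup p R → R ≤ N := by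
    intro R hR x hx
    by_contra hxN
    obtain ⟨k, hk⟩ := (IsPGroup.iff_orderOf.1 hR) ⟨x, hx⟩
    rw [Subgroup.orderOf_mk] at hk
    exact hpi (CfsgLib.FGS.dvd_index_of_not_mem hp hxN hk)
  obtain ⟨Q⟩ : Nonempty (Sylow p H) := inferInstance
  have hQN : (Q : Subgroup H) ≤ N.subgroupOf H := fun q hq =>
    hpN ((Q : Subgroup H).map H.subtype) (Q.isPGroup'.map _) ⟨q, hq, rfl⟩
  have hsup : ∀ K : Subgroup H, N.subgroupOf H ⊔ K = ⊤ → K = ⊤ := by
    intro K hK
    have h1 : K.map H.subtype ⊔ N = ⊤ := by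
      rw [eq_top_iff, ← hH]
      refine sup_le (fun x hx => ?_) le_sup_right
      obtain ⟨n, hn, k, hk, he⟩ := Subgroup.mem_sup_of_normal_left.1
        (hK ▸ Subgroup.mem_top (⟨x, hx⟩ : H))
      have h2 : (n : G) * (k : G) = x := congrArg Subtype.val he
      rw [← h2]
      exact Subgroup.mul_mem _ (Subgroup.mem_sup_right hn) (Subgroup.mem_sup_left ⟨k, hk, rfl⟩)
    rw [eq_top_iff]
    intro x _
    obtain ⟨k, hk, hkx⟩ := (small _ (Subgroup.map_subtype_le K) h1).ge x.2
    rwa [← Subtype.ext (a1 := k) (a2 := x) hkx]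
  haveI : (Q : Subgroup H).Normal := by
    obtain ⟨R, hR⟩ : ∃ R : Sylow p ↥(N.subgroupOf H), (R : Subgroup ↥(N.subgroupOf H)).map (N.subgroupOf H).subtype = Q :=
      ⟨Q.subtype hQN, by rw [Sylow.coe_subtype, Subgroup.subgroupOf_map_subtype, inf_eq_left.2 hQN]⟩
    have h1 := Sylow.normalizer_sup_eq_top R
    rw [hR, sup_comm] at h1
    exact Subgroup.normalizer_eq_top_iff.1 (hsup _ h1)
  obtain ⟨K, hK⟩ := Subgroup.exists_right_complement'_of_coprime (N := (Q : Subgroup H))
    Q.card_coprime_index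
  have hKtop : K = ⊤ := hsup K (top_unique (hK.sup_eq_top ▸ sup_le_sup hQN le_rfl))
  subst hKtop
  have hQbot : (Q : Subgroup H) = ⊥ := by
    have := hK.disjoint
    rwa [disjoint_top] at this
  exact absurd hQbot (Q.ne_bot_of_dvd_card hpH)

/-- Let G be a finite group and M ≤ N non-trivial proper normal subgroups such that for every g outside N the conjugacy class of g is a union of cosets of M (equivalently gm is conjugate to g for every m ∈ M). Then (1) and (2) below are equivalent, and they imply (3): (1) every g outside N acts fixed-point-freely on M, that is C_G(x) ≤ N for every x ∈ M, x ≠ 1; (2) the index of N in G is coprime to the order of M; (3) there is a subgroup H of G with HN = G and H ∩ M = 1. -/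
theorem result {G : Type*} [Group G] [Finite G] (N M : Subgroup G) [N.Normal] [M.Normal] (hMN : M ≤ N) (hM1 : M ≠ ⊥) (hN2 : N ≠ ⊤)
    (hcam : ∀ g : G, g ∉ N → ∀ m ∈ M, ∃ x : G, x * g * x⁻¹ = g * m) :
    ((∀ x ∈ M, x ≠ 1 → Subgroup.centralizer ({x} : Set G) ≤ N) ↔ N.index.Coprime (Nat.card M)) ∧
    ((∀ x ∈ M, x ≠ 1 → Subgroup.centralizer ({x} : Set G) ≤ N) → ∃ H : Subgroup G, H ⊔ N = ⊤ ∧ H ⊓ M = ⊥) := by
  have key : (∀ x ∈ M, x ≠ 1 → Subgroup.centralizer ({x} : Set G) ≤ N) ↔ N.index.Coprime (Nat.card M) := by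
    constructor
    · intro h
      refine Nat.coprime_of_dvd fun p hp hp1 hp2 => ?_
      haveI := Fact.mk hp
      obtain ⟨P⟩ : Nonempty (Sylow p G) := inferInstance
      obtain ⟨z, hzM, hz1, hz⟩ := CfsgLib.FGS.exists_mem_ne_one_commute P.isPGroup' hp2
      exact CfsgLib.FGS.sylow_not_le P hp1 fun y hy =>
        h z hzM hz1 (Subgroup.mem_centralizer_singleton_iff.2 (hz y hy))
    · intro h x hx hx1 c hc
      by_contra hcN
      obtain ⟨k, p, m, hp, -, hk, ho⟩ := CfsgLib.FGS.exists_pow_primePow_not_mem hcN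
      have hpi := CfsgLib.FGS.dvd_index_of_not_mem hp hk ho
      have hcx : Commute (c ^ k) x := (Commute.pow_left (Subgroup.mem_centralizer_singleton_iff.1 hc) k)
      obtain ⟨y, hy⟩ := hcam _ hk x hx
      refine CfsgLib.FGS.orderOf_mul_ne hcx ?_ hx1 ?_
      · rw [ho]
        exact ((h.coprime_dvd_left hpi).coprime_dvd_right (M.orderOf_dvd_natCard hx)).pow_left m
      · rw [← hy, show y * c ^ k * y⁻¹ = MulAut.conj y (c ^ k) from rfl, MulEquiv.orderOf_eq]
  refine ⟨key, fun h => ?_⟩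
  obtain ⟨H, hH, hprime⟩ := exists_supplement N
  refine ⟨H, hH, ?_⟩
  rw [← Subgroup.card_eq_one]
  by_contra h1
  obtain ⟨p, hp, hpd⟩ := Nat.exists_prime_and_dvd h1
  exact Nat.not_coprime_of_dvd_of_dvd hp.one_lt (hprime p hp (hpd.trans (Subgroup.card_dvd_of_le inf_le_left)))
    (hpd.trans (Subgroup.card_dvd_of_le inf_le_right)) (key.1 h)

end Cfsg.Agent.S4112
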