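import Cfsg.Statements.S0782
import Cfsg.Agent.Forms.UnitaryOrder

set_option autoImplicit false
open Cfsg

namespace Cfsg.Agent.S0782

/-- Maximal parabolics of SU_n(q): if W is a k-dimensional subspace of F^n (n ≥ 1, |F| = q²) on which the Hermitian form vanishes, then (q + 1) times the order of its stabiliser in SU_n(q) equals q^(k(2n−3k)) · |GL_k(q²)| · |GU_(n−2k)(q)|, where |GU_m(q)| = q^(m(m−1)/2) Π_(i=1..m) (q^i − (−1)^i). -/
theorem result {F : Type*} [Field F] [Fintype F] {q : ℕ} (hF : Fintype.card F = q ^ 2) (n k : ℕ) (hn : 1 ≤ n) (hk : 2 * k ≤ n) (W : Submodule F (Fin n → F)) (hWk : Module.finrank F W = k) (hW : ∀ u ∈ W, ∀ v ∈ W, Cfsg.hermForm n F q u v = 0) : (q + 1) * Nat.card ↥((Cfsg.stabilizing (Cfsg.slToMat n F) (W : Set (Fin n → F))).subgroupOf (Cfsg.SU n F q)) = q ^ (k * (2 * n - 3 * k)) * (∏ i : Fin k, ((q ^ 2) ^ k - (q ^ 2) ^ (i : ℕ))) * (q ^ ((n - 2 * k) * ((n - 2 * k) - 1) / 2) * ∏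 i ∈ Finset.range (n - 2 * k), (if Even i then q ^ (i + 1) + 1 else q ^ (i + 1) - 1)) := by
  obtain ⟨d, rfl⟩ : ∃ d, n = d + 2 * k := ⟨n - 2 * k, by omega⟩
  obtain ⟨σ, hσ, hσ2⟩ := CfsgLib.FieldEmb.exists_conj hF
  have hq := CfsgLib.Forms.two_le_q hF
  have hW' : ∀ a ∈ W, ∀ b ∈ W, CfsgLib.Forms.hermSesq σ (d + 2 * k) a b = 0 := fun a ha b hb => by
    rw [← CfsgLib.Forms.hermForm_eq_hermSesq hσ]; exact hW b hb a ha
  rw [CfsgLib.Forms.card_stab_SU_mul hF hσ hσ2 hn W hW']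
  have hS := CfsgLib.Forms.hermSesq_isSymm hσ2 (d + 2 * k) (F := F)
  have hB := CfsgLib.Forms.hermSesq_sep (σ := σ) (d + 2 * k) (F := F)
  have h := CfsgLib.Forms.card_stab_mul_card_frames (CfsgLib.Forms.hermSesq σ (d + 2 * k))
    (CfsgLib.Forms.witt_hermitian (CfsgLib.Forms.conj_ne_id hF hσ) hσ2 _ hS
      ⟨hB, fun x hx => hB x fun y => CfsgLib.Forms.herm_refl hS _ _ (hx y)⟩) W hWk hW'
  have hfr := CfsgLib.Forms.card_frames_herm hF hσ hσ2 _ hS hB k d (Module.finrank_fin_fun F)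
  rw [CfsgLib.Forms.card_isoGroup_herm hF hσ hσ2 _ hS hB (Module.finrank_fin_fun F), hF] at h
  rw [Nat.add_sub_cancel, CfsgLib.Forms.sum_range_half,
    show 2 * (d + 2 * k) - 3 * k = 2 * d + k by omega,
    Finset.prod_congr rfl (fun i (_ : i ∈ Finset.range d) => (CfsgLib.Forms.u_succ (q := q) i).symm)]
  have hpos : 0 < Nat.card (CfsgLib.Forms.frames (CfsgLib.Forms.hermSesq σ (d + 2 * k)) k) := by
    refine Nat.pos_of_ne_zero fun h0 => ?_
    rw [h0, zero_mul] at hfr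
    exact absurd hfr.symm (ne_of_gt (Nat.mul_pos (Nat.pow_pos (Nat.pow_pos (by omega)))
      (Finset.prod_pos fun i _ => CfsgLib.Forms.u_pos hq i)))
  refine Nat.eq_of_mul_eq_mul_right hpos (h.trans ?_)
  have hexp : (∑ i ∈ Finset.range (d + 2 * k), i) =
      k * (2 * d + k) + (∑ i ∈ Finset.range d, i) + 2 * ∑ i ∈ Finset.range k, i := by
    have h1 := CfsgLib.Forms.sum_range_two (d + 2 * k)
    have h2 := CfsgLib.Forms.sum_range_two d
    have h3 := CfsgLib.Forms.sum_range_two k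
    nlinarith
  symm
  calc _ = q ^ (k * (2 * d + k)) * q ^ (∑ i ∈ Finset.range d, i) *
        (∏ i : Fin k, ((q ^ 2) ^ k - (q ^ 2) ^ (i : ℕ))) *
        (Nat.card (CfsgLib.Forms.frames (CfsgLib.Forms.hermSesq σ (d + 2 * k)) k) *
          ∏ i ∈ Finset.range d, CfsgLib.Forms.u q (i + 1)) := by ring
    _ = _ := by
      rw [hfr, hexp, pow_add, pow_add, ← pow_mul]
      ring

end Cfsg.Agent.S0782
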