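import Cfsg.Statements.S0046
import Cfsg.Agent.Solvable.FrobeniusBasic
import Mathlib.GroupTheory.Nilpotent

set_option autoImplicit false
open Cfsg

namespace Cfsg.Agent.S0046

open scoped Pointwise

/-- Schmidt's Theorem on minimal non-nilpotent groups: a finite group in which every maximal subgroup is nilpotent is solvable. -/
theorem result {G : Type*} [Group G] [Finite G]
    (h : ∀ M : Subgroup G, IsCoatom M → Group.IsNilpotent M) : Group.IsSolvable G := by
  classical
  suffices key : ∀ (n : ℕ) (H : Type _) [Group H] [Finite H], Nat.card H < n →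
      (∀ M : Subgroup H, M ≠ ⊤ → Group.IsNilpotent M) → Group.IsSolvable H by
    refine key (Nat.card G + 1) G (Nat.lt_succ_self _) fun X hX => ?_
    obtain ⟨M, hM, hXM⟩ := (eq_top_or_exists_le_coatom X).resolve_left hX
    haveI := h M hM
    exact Group.nilpotent_of_mulEquiv (Subgroup.subgroupOfEquivOfLe hXM)
  intro n
  induction n with
  | zero => intro H _ _ hlt; exact absurd hlt (Nat.not_lt_zero _)
  | succ n ih =>
  intro H _ _ hlt hnil
  by_cases hsimple : ∃ N : Subgroup H, N.Normal ∧ N ≠ ⊥ ∧ N ≠ ⊤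
  · obtain ⟨N, hNn, hNb, hNt⟩ := hsimple
    have hNsolv : Group.IsSolvable N := by haveI := hnil N hNt; infer_instance
    have hQ : Group.IsSolvable (H ⧸ N) := by
      refine ih (H ⧸ N) ?_ fun M hM => ?_
      · refine lt_of_lt_of_le ?_ (Nat.lt_succ_iff.mp hlt)
        rw [← Subgroup.index_eq_card, ← N.index_mul_card]
        exact lt_mul_of_one_lt_right (Nat.pos_of_ne_zero Subgroup.index_ne_zero_of_finite)
          (N.one_lt_card_iff_ne_bot.mpr hNb)
      · have hC : M.comap (QuotientGroup.mk' N) ≠ ⊤ := by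
          intro e
          apply hM
          rw [← Subgroup.map_comap_eq_self_of_surjective (QuotientGroup.mk'_surjective N) M, e,
            Subgroup.map_top_of_surjective _ (QuotientGroup.mk'_surjective N)]
        haveI := hnil _ hC
        rw [← Subgroup.map_comap_eq_self_of_surjective (QuotientGroup.mk'_surjective N) M]
        exact Group.nilpotent_of_surjective _
          (MonoidHom.subgroupMap_surjective (QuotientGroup.mk' N) (M.comap (QuotientGroup.mk' N)))
    exact (Group.isSolvable_iff_subgroup_quotient N).mpr ⟨hNsolv, hQ⟩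
  -- no proper nontrivial normal subgroup
  by_contra hns
  push Not at hsimple
  have hnormalizer : ∀ X : Subgroup H, X ≠ ⊥ → X ≠ ⊤ → Subgroup.normalizer (X : Set H) ≠ ⊤ :=
    fun X hX hX' h => hX' (hsimple X (Subgroup.normalizer_eq_top_iff.mp h) hX)
  -- maximal subgroups meet trivially
  have hTI : ∀ (m : ℕ) (M₁ M₂ : Subgroup H), IsCoatom M₁ → IsCoatom M₂ → M₁ ≠ M₂ →
      (M₁ ⊓ M₂).index ≤ m → M₁ ⊓ M₂ = ⊥ := by
    intro m
    induction m using Nat.strong_induction_on with
    | _ m ihm =>
    intro M₁ M₂ h1 h2 hne hm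
    by_contra hD
    set D := M₁ ⊓ M₂ with hDdef
    have hDtop : D ≠ ⊤ := fun e => h1.1 (top_le_iff.mp (e.ge.trans inf_le_left))
    obtain ⟨M₃, hM₃, hle⟩ := (eq_top_or_exists_le_coatom _).resolve_left (hnormalizer D hD hDtop)
    have grow : ∀ M : Subgroup H, IsCoatom M → D ≤ M → D ≠ M → M = M₃ := by
      intro M hM hDM hDne
      by_contra hMM
      have : Group.IsNilpotent M := hnil M hM.1
      have hlt' : D.subgroupOf M < ⊤ := by
        rw [lt_top_iff_ne_top, Ne, Subgroup.subgroupOf_eq_top]
        exact fun hMD => hDne (le_antisymm hDM hMD)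
      obtain ⟨x, hx, hxD⟩ := SetLike.exists_of_lt
        (Group.normalizerCondition_of_isNilpotent (G := M) _ hlt')
      have hxN : (x : H) ∈ Subgroup.normalizer (D : Set H) := by
        rw [Subgroup.mem_normalizer_iff]
        intro y
        constructor
        · intro hy
          exact (Subgroup.mem_normalizer_iff.mp hx ⟨y, hDM hy⟩).mp hy
        · intro hy
          have hyM : y ∈ M := by
            have := M.mul_mem (M.mul_mem (M.inv_mem x.2) (hDM hy)) x.2
            simpa [mul_assoc] using this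
          exact (Subgroup.mem_normalizer_iff.mp hx ⟨y, hyM⟩).mpr hy
      have hlt2 : D < M ⊓ M₃ := lt_of_le_of_ne (le_inf hDM (Subgroup.le_normalizer.trans hle))
        (fun e => hxD (Subgroup.mem_subgroupOf.mpr (e.ge ⟨x.2, hle hxN⟩)))
      have hidx : (M ⊓ M₃).index < D.index := Subgroup.index_strictAnti hlt2
      exact ne_bot_of_le_ne_bot hD hlt2.le (ihm _ (lt_of_lt_of_le hidx hm) M M₃ hM hM₃ hMM le_rfl)
    have e1 := grow M₁ h1 inf_le_left (fun e => hne (by
      have h12 : M₁ ≤ M₂ := e.ge.trans inf_le_right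
      rcases eq_or_lt_of_le h12 with e' | e'
      · exact e'
      · exact absurd (h1.2 _ e') h2.1))
    have e2 := grow M₂ h2 inf_le_right (fun e => hne (by
      have h12 : M₂ ≤ M₁ := e.ge.trans inf_le_left
      rcases eq_or_lt_of_le h12 with e' | e'
      · exact e'.symm
      · exact absurd (h2.2 _ e') h1.1))
    exact hne (e1.trans e2.symm)
  have := Fintype.ofFinite H
  have hnt : Nontrivial H := by
    by_contra hc
    rw [not_nontrivial_iff_subsingleton] at hc
    exact hns (Group.isSolvable_of_comm fun a b => Subsingleton.elim _ _)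
  have hcyc : ∀ a : H, Subgroup.zpowers a ≠ ⊤ := by
    intro a e
    apply hns
    have : IsCyclic H := ⟨a, fun x => Subgroup.mem_zpowers_iff.mp (e ▸ Subgroup.mem_top x)⟩
    exact Group.isSolvable_of_comm fun a b => mul_comm' a b
  have hMbot : ∀ M : Subgroup H, IsCoatom M → M ≠ ⊥ := by
    rintro M hM rfl
    obtain ⟨a, ha⟩ := exists_ne (1 : H)
    exact hcyc a (hM.2 _ (bot_lt_iff_ne_bot.mpr (fun e => ha (Subgroup.zpowers_eq_bot.mp e))))
  -- every maximal subgroup is a Frobenius complement
  have hmap : ∀ (g : H) (M : Subgroup H), IsCoatom M → IsCoatom (MulAut.conj g • M) := fun g M hM =>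
    ((MulAut.conj g).mapSubgroup.isCoatom_iff M).mpr hM
  have hF : ∀ M : Subgroup H, IsCoatom M → Cfsg.IsFrobeniusComplement M := by
    intro M hM
    refine ⟨hMbot M hM, hM.1, fun g hg => ?_⟩
    have hN : Subgroup.normalizer (M : Set H) = M := by
      rcases eq_or_lt_of_le (Subgroup.le_normalizer (H := M)) with e | e
      · exact e.symm
      · exact absurd (hM.2 _ e) (hnormalizer M (hMbot M hM) hM.1)
    refine hTI _ M _ hM (hmap g M hM) ?_ le_rfl
    intro e
    exact hg (hN.le (CfsgLib.Solvable.mem_normalizer_iff_conj_smul.mpr e.symm))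
  obtain ⟨a, ha⟩ := exists_ne (1 : H)
  obtain ⟨M, hM, -⟩ := (eq_top_or_exists_le_coatom _).resolve_left (hcyc a)
  obtain ⟨x, hxK, hx1⟩ : ∃ x ∈ Cfsg.frobeniusKernel M, x ≠ 1 := by
    by_contra! hall
    have h1 : (Cfsg.frobeniusKernel M).ncard ≤ 1 :=
      (Set.ncard_le_one (Set.toFinite _)).mpr fun u hu v hv => (hall u hu).trans (hall v hv).symm
    rw [CfsgLib.Solvable.ncard_kernel_eq (hF M hM)] at h1
    exact absurd (Subgroup.one_lt_index_of_ne_top hM.1) (not_lt.mpr h1)
  obtain ⟨M', hM', hxM'⟩ := (eq_top_or_exists_le_coatom _).resolve_left (hcyc x)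
  obtain ⟨g, hg⟩ := CfsgLib.Solvable.exists_conj_inf_ne_bot (hF M hM) (hF M' hM')
  have e : M' = MulAut.conj g • M := by
    by_contra hne
    exact hg (hTI _ M' _ hM' (hmap g M hM) hne le_rfl)
  rcases hxK with h1 | h1
  · exact hx1 h1
  · exact h1 g (e ▸ hxM' (Subgroup.mem_zpowers x))

end Cfsg.Agent.S0046
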