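import Cfsg.Statements.S5393
import Cfsg.Agent.GolayModule.Basic

set_option autoImplicit false
open Cfsg

namespace Cfsg.Agent.S5393

open CfsgLib.Mathieu CfsgLib.GolayModule

theorem wordOf_full : wordOf 16777215 = fun _ => (1 : ZMod 2) := by
  funext p
  have h : ∀ i < 24, Nat.testBit 16777215 i = true := by decide +kernel
  simp [wordOf, h _ (idx_lt p)]

theorem codeMask_heavy : allBelow 4096 (fun m =>
    (wt (codeMask m) != 16 || wt (codeMask m ^^^ 16777215) == 8) &&
      (wt (codeMask m) != 24 || codeMask m == 16777215)) = true := by decide +kernel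

theorem exists_two_dodecads :
    (List.range 4096).any (fun m => wt (codeMask m) == 12 &&
      wt (dodecadRep ^^^ codeMask m) == 8) = true := by decide +kernel

/-- The length-24 code built from the squares modulo 23 contains the all-ones word, and the code modulo the all-ones word is an irreducible module over the field with two elements for the code's automorphism group: a subspace of the code that contains the all-ones word and is invariant under every coordinate permutation preserving the code is either the span of the all-ones word or the whole code. -/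
theorem result : (fun _ : Cfsg.GolayPt => (1 : ZMod 2)) ∈ Cfsg.golayCode ∧ ∀ W : Submodule (ZMod 2) (Cfsg.GolayPt → ZMod 2), (fun _ => (1 : ZMod 2)) ∈ W → W ≤ Cfsg.golayCode → (∀ σ ∈ Cfsg.M24, ∀ w ∈ W, (fun p => w (σ.symm p)) ∈ W) → W = Submodule.span (ZMod 2) {fun _ => (1 : ZMod 2)} ∨ W = Cfsg.golayCode := by
  have hfull : isCode 16777215 = true := by decide +kernel
  have hones : (fun _ : GolayPt => (1 : ZMod 2)) ∈ golayCode := by
    rw [← wordOf_full]; exact wordOf_mem_of_isCode hfull
  refine ⟨hones, fun W h1 hle hinv => ?_⟩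
  by_cases hspan : W = Submodule.span (ZMod 2) {fun _ => (1 : ZMod 2)}
  · exact Or.inl hspan
  refine Or.inr (le_antisymm hle ?_)
  obtain ⟨w, hw, hw'⟩ : ∃ w ∈ W, w ∉ Submodule.span (ZMod 2) {fun _ : GolayPt => (1 : ZMod 2)} := by
    by_contra h
    push Not at h
    exact hspan (le_antisymm h (Submodule.span_le.2 (by simpa using h1)))
  have hact : ∀ σ ∈ M24, ∀ v ∈ W, act σ v ∈ W := hinv
  have hf : wordOf 16777215 ∈ W := wordOf_full ▸ h1
  have hflip : ∀ M, wordOf (M ^^^ 16777215) ∈ W → wordOf M ∈ W := fun M h => by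
    have := W.add_mem h hf
    rwa [← wordOf_xor, Nat.xor_assoc, Nat.xor_self, Nat.xor_zero] at this
  have heavy : ∀ M, isCode M = true → (wt M = 16 → wt (M ^^^ 16777215) = 8) ∧
      (wt M = 24 → M = 16777215) := fun M hM => by
    obtain ⟨m, hm, rfl⟩ := exists_codeMask hM
    have h := allBelow_iff.1 codeMask_heavy m hm
    simp only [Bool.and_eq_true, Bool.or_eq_true, bne_iff_ne, ne_eq, beq_iff_eq] at h
    exact ⟨fun e => h.1.resolve_left (by simp [e]), fun e => h.2.resolve_left (by simp [e])⟩
  -- `W` contains an octad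
  obtain ⟨O, hO, hO8, hOW⟩ : ∃ O, isCode O = true ∧ wt O = 8 ∧ wordOf O ∈ W := by
    obtain ⟨M, hM, rfl⟩ := exists_isCode_of_mem (hle hw)
    rcases weight_cases hM with e | e | e | e | e
    · rw [wt_eq_zero hM e, wordOf_zero] at hw'
      exact absurd (Submodule.zero_mem _) hw'
    · exact ⟨M, hM, e, hw⟩
    · obtain ⟨σ, hσ, hσM⟩ := dodecad_transitive hM e
      have hrep : wordOf dodecadRep ∈ W := by
        have := hact σ⁻¹ (inv_mem hσ) _ hw
        rwa [← hσM, act_inv_act] at this
      obtain ⟨m, -, hm⟩ := List.any_eq_true.1 exists_two_dodecads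
      simp only [Bool.and_eq_true, beq_iff_eq] at hm
      have hcm : isCode (codeMask m) = true := isCode_codeMask m
      obtain ⟨τ, hτ, hτm⟩ := dodecad_transitive hcm hm.1
      refine ⟨dodecadRep ^^^ codeMask m, isCode_xor (by decide +kernel) hcm, hm.2, ?_⟩
      rw [wordOf_xor]
      exact W.add_mem hrep (hτm ▸ hact τ hτ _ hrep)
    · refine ⟨_, isCode_xor hM hfull, (heavy M hM).1 e, ?_⟩
      rw [wordOf_xor]
      exact W.add_mem hw hf
    · exact absurd (by rw [(heavy M hM).2 e, wordOf_full]; exact Submodule.mem_span_singleton_self _) hw'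
  have hoct : ∀ M, isCode M = true → wt M = 8 → wordOf M ∈ W := fun M hM h => by
    obtain ⟨σ, hσ, hσO⟩ := octad_move hO hO8
    obtain ⟨τ, hτ, hτM⟩ := octad_move hM h
    have := hact σ⁻¹ (inv_mem hσ) _ hOW
    rw [← hσO, act_inv_act] at this
    exact hτM ▸ hact τ hτ _ this
  intro v hv
  refine code_induction (· ∈ W) W.zero_mem (fun a b => W.add_mem) (fun r hr => ?_) hv
  have hc : isCode r = true := (by decide +kernel : ∀ r ∈ codeRows, isCode r = true) r hr
  rcases weight_cases hc with e | e | e | e | e
  · rw [wt_eq_zero hc e, wordOf_zero]; exact W.zero_mem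
  · exact hoct r hc e
  · obtain ⟨A, B, hA, hB, hA8, hB8, -, rfl⟩ := dodecad_eq_sum hc e
    rw [wordOf_xor]
    exact W.add_mem (hoct A hA hA8) (hoct B hB hB8)
  · exact hflip r (hoct _ (isCode_xor hc hfull) ((heavy r hc).1 e))
  · rw [(heavy r hc).2 e]; exact hf

end Cfsg.Agent.S5393
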