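import Cfsg.Statements.S0904
import Cfsg.Agent.Blocks.PrincipalSimple

set_option autoImplicit false
set_option linter.style.haveILetI false
open Cfsg

namespace Cfsg.Agent.S0904

/-- Let G be a finite simple group of order p ^ a * q ^ b * r with p, q, r distinct primes. Then every Sylow r-subgroup S of G satisfies C_G(S) = S. -/
theorem result {G : Type*} [Group G] [Finite G] [IsSimpleGroup G] (p q r a b : ℕ) (hp : p.Prime) (hq : q.Prime) [Fact r.Prime] (hpq : p ≠ q) (hpr : p ≠ r) (hqr : q ≠ r) (hcard : Nat.card G = p ^ a * q ^ b * r) (S : Sylow r G) : Subgroup.centralizer (S : Set G) = (S : Subgroup G) := by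
  classical
  haveI := Fintype.ofFinite G
  have hr : r.Prime := Fact.out
  have hS : Nat.card (S : Subgroup G) = r := by
    rw [S.card_eq_multiplicity, hcard, Nat.factorization_mul (Nat.mul_ne_zero (pow_ne_zero _ hp.ne_zero)
      (pow_ne_zero _ hq.ne_zero)) hr.ne_zero, Nat.factorization_mul (pow_ne_zero _ hp.ne_zero)
      (pow_ne_zero _ hq.ne_zero), hp.factorization_pow, hq.factorization_pow, hr.factorization]
    simp [Finsupp.single_eq_of_ne, hpr.symm, hqr.symm]
  haveI : IsCyclic (S : Subgroup G) := isCyclic_of_prime_card hS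
  haveI : IsMulCommutative (S : Subgroup G) := inferInstance
  have hle : (S : Subgroup G) ≤ Subgroup.centralizer (S : Set G) :=
    Subgroup.le_centralizer (S : Subgroup G)
  by_contra hne
  obtain ⟨m, hm⟩ := Subgroup.card_dvd_of_le hle
  have hm1 : m ≠ 1 := fun h => hne (by
    refine (Subgroup.eq_of_le_of_card_ge hle ?_).symm
    rw [hm, h, mul_one])
  obtain ⟨s, hs, hsm⟩ := Nat.exists_prime_and_dvd hm1
  have hdvd : r * m ∣ p ^ a * q ^ b * r := by
    rw [← hS, ← hm, hS, ← hcard]; exact Subgroup.card_subgroup_dvd_card _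
  rw [mul_comm (p ^ a * q ^ b) r] at hdvd
  have hsd : s ∣ p ^ a * q ^ b := hsm.trans (Nat.dvd_of_mul_dvd_mul_left hr.pos hdvd)
  haveI : Fact s.Prime := ⟨hs⟩
  obtain ⟨z, hz⟩ := exists_prime_orderOf_dvd_card' s
    (hsm.trans ⟨Nat.card (S : Subgroup G), by rw [hm, mul_comm]⟩)
  obtain ⟨x, hx⟩ := exists_prime_orderOf_dvd_card' (G := (S : Subgroup G)) r (by rw [hS])
  have hc : Commute (z : G) (x : G) :=
    ((Subgroup.mem_centralizer_iff.1 z.2) (x : G) x.2).symm
  rw [← Subgroup.orderOf_coe] at hz hx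
  rcases hs.dvd_mul.1 hsd with h | h
  · obtain rfl := (Nat.prime_dvd_prime_iff_eq hs hp).1 (hs.dvd_of_dvd_pow h)
    exact CfsgLib.Blocks.no_commuting_prime_element q r a b hq hpr hqr hcard hz hx hc
  · obtain rfl := (Nat.prime_dvd_prime_iff_eq hs hq).1 (hs.dvd_of_dvd_pow h)
    exact CfsgLib.Blocks.no_commuting_prime_element p r b a hp hqr hpr
      (by rw [hcard, mul_comm (p ^ a)]) hz hx hc

end Cfsg.Agent.S0904
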