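import Cfsg.Statements.S4343

set_option autoImplicit false
open Cfsg

namespace Cfsg.Agent.S4343

open Subgroup MulAction

variable {G : Type*} [Group G] [Finite G] {p : ℕ} [Fact p.Prime]

theorem stab_eq (P R : Sylow p G) :
    stabilizer (P : Subgroup G) R = ((P : Subgroup G) ⊓ R).subgroupOf (P : Subgroup G) := by
  have h := P.2.inf_normalizer_sylow R
  ext x
  rw [MulAction.mem_stabilizer_iff, Subgroup.mem_subgroupOf]
  change (x : G) • R = R ↔ _
  rw [Sylow.smul_eq_iff_mem_normalizer, ← h]
  exact ⟨fun hx => ⟨x.2, hx⟩, fun hx => hx.2⟩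

/-- With fewer than `p²` Sylow subgroups, two of them meet in a subgroup of index `p`. -/
theorem relIndex_eq (hn : Nat.card (Sylow p G) < p ^ 2) {P R : Sylow p G} (hne : P ≠ R) :
    ((P : Subgroup G) ⊓ R).relIndex P = p ∧ Nat.card (orbit (P : Subgroup G) R) = p := by
  have hp : p.Prime := Fact.out
  have hi : ((P : Subgroup G) ⊓ R).relIndex P = Nat.card (orbit (P : Subgroup G) R) := by
    change (((P : Subgroup G) ⊓ R).subgroupOf (P : Subgroup G)).index = _
    rw [← stab_eq, MulAction.index_stabilizer, Nat.card_coe_set_eq]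
  obtain ⟨k, hk⟩ := P.2.card_orbit R
  have hle : Nat.card (orbit (P : Subgroup G) R) ≤ Nat.card (Sylow p G) :=
    Nat.card_le_card_of_injective _ Subtype.val_injective
  have hk2 : k < 2 := (Nat.pow_lt_pow_iff_right hp.one_lt).mp (hk ▸ hle.trans_lt hn)
  have hk0 : k ≠ 0 := by
    rintro rfl
    rw [pow_zero] at hk
    rw [hk, Subgroup.relIndex_eq_one] at hi
    exact hne (Sylow.ext (P.3 R.2 (hi.trans inf_le_right)).symm)
  have hk1 : k = 1 := by omega
  subst hk1
  rw [pow_one] at hk
  exact ⟨hi.trans hk, hk⟩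

theorem inf_orbit (hn : Nat.card (Sylow p G) < p ^ 2) {P R S' : Sylow p G} (hne : P ≠ R)
    (hS : S' ∈ orbit (P : Subgroup G) R) :
    P ≠ S' ∧ (P : Subgroup G) ⊓ S' = (P : Subgroup G) ⊓ R := by
  have hp : p.Prime := Fact.out
  obtain ⟨⟨x, hx⟩, rfl⟩ := hS
  have hxP : x • P = P := Sylow.smul_eq_iff_mem_normalizer.mpr (le_normalizer hx)
  constructor
  · intro h
    apply hne
    have h' : x • P = x • R := hxP.trans h
    exact smul_left_cancel x h'
  · have hE : (((P : Subgroup G) ⊓ R).subgroupOf (P : Subgroup G)).Normal := by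
      refine normal_of_index_eq_minFac_card ?_
      obtain ⟨a, ha⟩ := IsPGroup.iff_card.mp P.2
      have hidx : (((P : Subgroup G) ⊓ R).subgroupOf (P : Subgroup G)).index = p := (relIndex_eq hn hne).1
      rw [hidx, ha, Nat.pow_minFac, hp.minFac_eq]
      rintro rfl
      have := Subgroup.index_dvd_card (((P : Subgroup G) ⊓ R).subgroupOf (P : Subgroup G))
      rw [hidx, ha, pow_zero, Nat.dvd_one] at this
      exact hp.one_lt.ne' this
    change (P : Subgroup G) ⊓ ((x • R : Sylow p G) : Subgroup G) = _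
    conv_lhs => rw [← congrArg Sylow.toSubgroup hxP, Sylow.coe_subgroup_smul, Sylow.coe_subgroup_smul,
      ← Subgroup.smul_inf]
    ext y
    rw [Subgroup.mem_pointwise_smul_iff_inv_smul_mem]
    simp only [MulAut.smul_def, ← map_inv, MulAut.conj_apply, inv_inv]
    constructor
    · intro hy
      have h := hE.conj_mem ⟨_, hy.1⟩ (by rw [Subgroup.mem_subgroupOf]; exact hy) ⟨x, hx⟩
      rw [Subgroup.mem_subgroupOf] at h
      simpa [mul_assoc] using h
    · intro hy
      have h := hE.conj_mem ⟨_, hy.1⟩ (by rw [Subgroup.mem_subgroupOf]; exact hy) ⟨x⁻¹, inv_mem hx⟩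
      rw [Subgroup.mem_subgroupOf] at h
      simpa [mul_assoc] using h

/-- Let S be a finite non-abelian simple group and p a prime dividing its order. If S has fewer than p² Sylow p-subgroups, then its Sylow p-subgroups have order p. -/
theorem result {S : Type*} [Group S] [Finite S]
    [IsSimpleGroup S] (hS : ¬ IsMulCommutative S) (p : ℕ) [Fact p.Prime] (hp : p ∣ Nat.card S)
    (hn : Nat.card (Sylow p S) < p ^ 2) (P : Sylow p S) : Nat.card P = p := by
  have hp' : p.Prime := Fact.out
  by_contra hcard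
  obtain ⟨a, ha⟩ := IsPGroup.iff_card.mp P.2
  have hab : (P : Subgroup S) ≠ ⊥ := P.ne_bot_of_dvd_card hp
  have ha2 : 2 ≤ a := by
    rcases a with _ | _ | a
    · exact absurd (Subgroup.card_eq_one.mp (by simpa using ha)) hab
    · exact absurd (by simpa using ha) hcard
    · omega
  have hcardR : ∀ R : Sylow p S, Nat.card (R : Subgroup S) = p ^ a := fun R => by
    rw [← ha]; exact Nat.card_congr (R.equiv P).toEquiv
  have hcardD : ∀ R T : Sylow p S, R ≠ T →
      Nat.card ((R : Subgroup S) ⊓ T : Subgroup S) = p ^ (a - 1) := by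
    intro R T hne
    have := Subgroup.card_mul_index (((R : Subgroup S) ⊓ T).subgroupOf (R : Subgroup S))
    rw [Nat.card_congr (Subgroup.subgroupOfEquivOfLe (inf_le_left)).toEquiv,
      (show (((R : Subgroup S) ⊓ T).subgroupOf (R : Subgroup S)).index = p from (relIndex_eq hn hne).1),
      hcardR R, show p ^ a = p ^ (a - 1) * p by rw [← pow_succ, Nat.sub_add_cancel (by omega)]] at this
    exact Nat.eq_of_mul_eq_mul_right hp'.pos this
  -- a second Sylow subgroup
  obtain ⟨Q, hQ⟩ : ∃ Q : Sylow p S, P ≠ Q := by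
    by_contra hall
    push Not at hall
    have : Subsingleton (Sylow p S) := ⟨fun A B => (hall A).symm.trans (hall B)⟩
    rcases P.normal_of_subsingleton.eq_bot_or_eq_top with hb | ht
    · exact hab hb
    · have hpg : IsPGroup p S := fun g => by
        obtain ⟨k, hk⟩ := P.2 ⟨g, ht ▸ mem_top g⟩
        exact ⟨k, by simpa using congrArg Subtype.val hk⟩
      rcases (inferInstance : (center S).Normal).eq_bot_or_eq_top with hb | ht'
      · exact absurd hb (bot_lt_iff_ne_bot.mp hpg.bot_lt_center)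
      · exact hS ⟨⟨fun a b => (Subgroup.mem_center_iff.mp (ht' ▸ mem_top a) b).symm⟩⟩
  set D : Subgroup S := (P : Subgroup S) ⊓ Q with hD
  have hDne : D ≠ ⊥ := fun h => by
    have := hcardD P Q hQ
    rw [← hD, h, Subgroup.card_bot] at this
    exact absurd this.symm (Nat.one_lt_pow (by omega) hp'.one_lt).ne'
  -- not all Sylow subgroups contain `D`
  obtain ⟨R₀, hR₀⟩ : ∃ R₀ : Sylow p S, ¬ D ≤ R₀ := by
    by_contra hall
    push Not at hall
    set K : Subgroup S := ⨅ R : Sylow p S, (R : Subgroup S) with hK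
    have hKn : K.Normal := ⟨fun x hx g => by
      rw [hK, Subgroup.mem_iInf] at hx ⊢
      intro R
      have h := hx (g⁻¹ • R)
      rw [Sylow.coe_subgroup_smul, Subgroup.mem_pointwise_smul_iff_inv_smul_mem] at h
      simpa [MulAut.smul_def] using h⟩
    rcases hKn.eq_bot_or_eq_top with hb | ht
    · exact hDne (le_bot_iff.mp (hb ▸ (le_iInf hall : D ≤ K)))
    · have hKle : K ≤ (P : Subgroup S) ⊓ Q := le_inf (iInf_le _ P) (iInf_le _ Q)
      rw [ht, top_le_iff, inf_eq_top_iff] at hKle
      exact hQ (Sylow.ext (hKle.1.trans hKle.2.symm))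
  let L := {R : Sylow p S // D ≤ (R : Subgroup S)}
  have hLinf : ∀ R T : L, R ≠ T → (R.1 : Subgroup S) ⊓ T.1 = D := fun R T hne =>
    (Subgroup.eq_of_le_of_card_ge (le_inf R.2 T.2)
      (by rw [hcardD _ _ fun h => hne (Subtype.ext h), hD, hcardD P Q hQ])).symm
  have hLne : ∀ R : L, R₀ ≠ R.1 := fun R h => hR₀ (h ▸ R.2)
  -- size of the line
  have hLcard : p + 1 ≤ Nat.card L := by
    have hPnot : P ∉ orbit (P : Subgroup S) Q := fun h => (inf_orbit hn hQ h).1 rfl
    have hsub : ∀ T ∈ insert P (orbit (P : Subgroup S) Q), D ≤ (T : Subgroup S) := by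
      rintro T (rfl | hT)
      · exact inf_le_left
      · exact (inf_orbit hn hQ hT).2.symm.trans_le inf_le_right
    have := Nat.card_le_card_of_injective
      (fun T : (insert P (orbit (P : Subgroup S) Q) : Set (Sylow p S)) => (⟨T.1, hsub T.1 T.2⟩ : L))
      (fun A B h => Subtype.ext (congrArg Subtype.val h :))
    rw [Nat.card_coe_set_eq, Set.ncard_insert_of_notMem hPnot, ← Nat.card_coe_set_eq,
      (relIndex_eq hn hQ).2] at this
    exact this
  let f : (Σ R : L, orbit (R₀ : Subgroup S) R.1) → Sylow p S := fun s => s.2.1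
  have hf : Function.Injective f := by
    rintro ⟨R, A, hA⟩ ⟨T, B, hB⟩ (h : A = B)
    subst h
    have hRT : R = T := by
      by_contra hne
      have e : (R₀ : Subgroup S) ⊓ R.1 = (R₀ : Subgroup S) ⊓ T.1 := by
        rw [← (inf_orbit hn (hLne R) hA).2, ← (inf_orbit hn (hLne T) hB).2]
      have hle : (R₀ : Subgroup S) ⊓ R.1 ≤ (R.1 : Subgroup S) ⊓ T.1 :=
        le_inf inf_le_right (e ▸ inf_le_right)
      rw [hLinf R T hne] at hle
      have hD' := Subgroup.eq_of_le_of_card_ge hle (by rw [hcardD _ _ (hLne R), hD, hcardD P Q hQ])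
      exact hR₀ (hD' ▸ inf_le_left)
    subst hRT
    rfl
  have hle := Nat.card_le_card_of_injective f hf
  have : Fintype L := Fintype.ofFinite L
  rw [Nat.card_sigma, Finset.sum_congr rfl fun R _ => (relIndex_eq hn (hLne R)).2,
    Finset.sum_const, smul_eq_mul, Finset.card_univ, ← Nat.card_eq_fintype_card] at hle
  have := Nat.mul_le_mul_right p hLcard
  nlinarith

end Cfsg.Agent.S4343
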