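import Cfsg.Statements.S1001
import Cfsg.Agent.S0904
import Cfsg.Agent.Characters.Burnside
import Cfsg.Agent.Small.SylowArgs

set_option autoImplicit false
open Cfsg

namespace Cfsg.Agent.S1001

/-- In a finite simple group whose order has the form p * 3^a * 2^b with p prime, the centralizer of any element of order p is the cyclic group it generates. -/
theorem result {G : Type*} [Group G] [Finite G] [IsSimpleGroup G] (p a b : ℕ) (hp : p.Prime) (hG : Nat.card G = p * 3 ^ a * 2 ^ b) (x : G) (hx : orderOf x = p) : Subgroup.centralizer ({x} : Set G) = Subgroup.zpowers x := by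
  classical
  by_cases hna : IsMulCommutative G
  · haveI := hna
    letI : CommGroup G := { (inferInstance : Group G) with mul_comm := hna.1.comm }
    haveI := IsSimpleGroup.isCyclic (α := G)
    have hprime : (Nat.card G).Prime := IsSimpleGroup.prime_card
    have hd : p ∣ Nat.card G := hx ▸ orderOf_dvd_natCard x
    have hz : Subgroup.zpowers x = ⊤ := Subgroup.eq_top_of_card_eq _ (by
      rw [Nat.card_zpowers, hx, (Nat.prime_dvd_prime_iff_eq hp hprime).1 hd])
    rw [hz]
    exact eq_top_iff.2 fun y _ =>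
      Subgroup.mem_centralizer_singleton_iff.2 (mul_comm y x)
  have hsolv : ¬ IsSolvable G := fun h => hna ⟨⟨fun u v => IsSimpleGroup.comm_iff_isSolvable.2 h u v⟩⟩
  have hp2 : p ≠ 2 := by
    rintro rfl
    exact hsolv (CfsgLib.Characters.isSolvable_of_card_eq_primePow_mul 2 3 (b + 1) a Nat.prime_two
      Nat.prime_three (dvd_of_eq (by rw [hG]; ring)))
  have hp3 : p ≠ 3 := by
    rintro rfl
    exact hsolv (CfsgLib.Characters.isSolvable_of_card_eq_primePow_mul 2 3 b (a + 1) Nat.prime_two
      Nat.prime_three (dvd_of_eq (by rw [hG]; ring)))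
  haveI : Fact p.Prime := ⟨hp⟩
  haveI := Fintype.ofFinite G
  obtain ⟨S, hS⟩ := (IsPGroup.of_card (n := 1) (by rw [Nat.card_zpowers, hx, pow_one] :
    Nat.card (Subgroup.zpowers x) = p ^ 1)).exists_le_sylow
  have hSc : Nat.card (S : Subgroup G) = p := by
    rw [S.card_eq_multiplicity, hG]
    have h1 : ¬ p ∣ 3 ^ a * 2 ^ b := fun h => by
      rcases hp.dvd_mul.1 h with h' | h'
      · exact hp3 ((Nat.prime_dvd_prime_iff_eq hp Nat.prime_three).1 (hp.dvd_of_dvd_pow h'))
      · exact hp2 ((Nat.prime_dvd_prime_iff_eq hp Nat.prime_two).1 (hp.dvd_of_dvd_pow h'))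
    rw [mul_assoc, Nat.factorization_mul hp.ne_zero (by positivity), Finsupp.add_apply,
      Nat.factorization_eq_zero_of_not_dvd h1, hp.factorization_self, add_zero, pow_one]
  have hSx : (S : Subgroup G) = Subgroup.zpowers x :=
    (Subgroup.eq_of_le_of_card_ge hS (by rw [hSc, Nat.card_zpowers, hx])).symm
  have h := Cfsg.Agent.S0904.result 2 3 p b a Nat.prime_two Nat.prime_three (by norm_num)
    (Ne.symm hp2) (Ne.symm hp3) (by rw [hG]; ring) S
  change Subgroup.centralizer ((S : Subgroup G) : Set G) = _ at h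
  rw [hSx] at h
  rw [← h]
  refine le_antisymm (fun g hg => Subgroup.mem_centralizer_iff.2 fun w hw => ?_)
    (Subgroup.centralizer_le (Set.singleton_subset_iff.2 (Subgroup.mem_zpowers x)))
  obtain ⟨i, rfl⟩ := hw
  have h' : Commute g x := Subgroup.mem_centralizer_singleton_iff.1 hg
  exact (h'.zpow_right i).eq.symm

end Cfsg.Agent.S1001
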