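import Cfsg.Statements.S3331
import Cfsg.Agent.SelfCentralThree.Main
import Cfsg.Agent.S0494
import Cfsg.Agent.S0495
import Cfsg.Agent.FgsSix.SmallOrders

set_option autoImplicit false
open Cfsg

namespace Cfsg.Agent.S3331

/-- Let G be a finite group containing a subgroup X of order 3 with C_G(X) = X. Then one of the following holds: G has a nilpotent normal subgroup N of order prime to 3 with G/N of order 3 or isomorphic to Sym(3); or G has an elementary abelian normal 2-subgroup N with G/N isomorphic to the alternating group of degree 5; or G is isomorphic to PSL(2,7). -/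
theorem result {G : Type*} [Group G] [Finite G]
    (X : Subgroup G) (hX : Nat.card X = 3) (hC : Subgroup.centralizer (X : Set G) = X) :
    (∃ (N : Subgroup G) (hN : N.Normal), Group.IsNilpotent N ∧ (Nat.card N).Coprime 3 ∧
        (Nat.card (G ⧸ N) = 3 ∨ Nonempty (G ⧸ N ≃* Equiv.Perm (Fin 3)))) ∨
    (∃ (N : Subgroup G) (hN : N.Normal), IsMulCommutative N ∧ (∀ n ∈ N, n ^ 2 = 1) ∧
        Nonempty (G ⧸ N ≃* alternatingGroup (Fin 5))) ∨
    Nonempty (G ≃* Matrix.ProjectiveSpecialLinearGroup (Fin 2) (ZMod 7)) := by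
  obtain ⟨x, hxX, hx1⟩ := (Subgroup.bot_or_exists_ne_one X).resolve_left fun e => by
    rw [e, Subgroup.card_bot] at hX
    omega
  haveI : Fact (Nat.Prime 3) := ⟨Nat.prime_three⟩
  have hord : orderOf x = 3 := by
    rw [← Subgroup.orderOf_mk x hxX]
    rcases (Nat.dvd_prime Nat.prime_three).1 (hX ▸ orderOf_dvd_natCard (⟨x, hxX⟩ : X)) with e | e
    · exact absurd (congrArg Subtype.val (orderOf_eq_one_iff.1 e)) hx1
    · exact e
  have hXeq : Subgroup.zpowers x = X := Subgroup.eq_of_le_of_card_ge (Subgroup.zpowers_le.2 hxX)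
    (by rw [hX, Nat.card_zpowers, hord])
  have h : CfsgLib.SelfCentralizing.Hyp G 3 x := by
    refine ⟨Nat.prime_three, hord, le_antisymm (fun g hg => ?_) (Subgroup.zpowers_le.2
      (Subgroup.mem_centralizer_singleton_iff.2 rfl))⟩
    rw [hXeq, ← hC, Subgroup.mem_centralizer_iff]
    intro y hy
    rw [← hXeq] at hy
    obtain ⟨i, rfl⟩ := Subgroup.mem_zpowers_iff.1 hy
    exact (Commute.zpow_left (Subgroup.mem_centralizer_singleton_iff.1 hg).symm i)
  rcases CfsgLib.SelfCentralThree.shape h with ⟨N, hN, hnil, hcop, hidx⟩ |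
    ⟨N, hN, hcomm, hexp, hidx, hsimp⟩ | ⟨hc, hsimp⟩
  · refine Or.inl ⟨N, hN, hnil, hcop, ?_⟩
    rcases hidx with e | e
    · exact Or.inl (by rw [← Subgroup.index_eq_card, e])
    refine Or.inr ?_
    have hQ := CfsgLib.SelfCentralThree.hyp_quotient h N
      ((Nat.prime_three.coprime_iff_not_dvd).1 hcop.symm)
    have hcard : Nat.card (G ⧸ N) = 6 := by rw [← Subgroup.index_eq_card, e]
    by_cases he : (Subgroup.zpowers (QuotientGroup.mk x : G ⧸ N)).relIndex hQ.norm = 1
    · exfalso
      obtain ⟨K, hKn, hKi, hK3⟩ := hQ.exists_complement he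
      have hK2 : Nat.card K = 2 := by
        have := K.card_mul_index
        rw [hKi, hcard] at this
        omega
      obtain ⟨u, hu, huniq⟩ := (Nat.card_eq_two_iff' (1 : K)).1 hK2
      have hu2 := huniq ⟨_, hKn.conj_mem _ u.2 (QuotientGroup.mk x)⟩ fun e1 =>
        hu (Subtype.ext (conj_eq_one_iff.1 (congrArg Subtype.val e1)))
      have hcx := mul_inv_eq_iff_eq_mul.1 (congrArg Subtype.val hu2)
      have h1 := Subgroup.orderOf_dvd_natCard _ (hQ.mem_zpowers_of_commute hcx.symm)
      have h2 := Subgroup.orderOf_dvd_natCard K u.2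
      rw [hQ.card_zpowers] at h1
      rw [hK2] at h2
      exact hu (Subtype.ext (orderOf_eq_one_iff.1 (Nat.dvd_one.1 (Nat.dvd_gcd h1 h2))))
    · obtain ⟨F, hF⟩ := CfsgLib.SelfCentralThree.exists_frame_of_ne hQ he
      exact CfsgLib.FgsSix.nonempty_mulEquiv_perm_three hcard F.hyp.order F.t_order F.t_x
  · refine Or.inr (Or.inl ⟨N, hN, hcomm, hexp, ?_⟩)
    exact Cfsg.Agent.S0494.result (by rw [← Subgroup.index_eq_card, hidx])
  · refine Or.inr (Or.inr ?_)
    haveI : Fact (Nat.Prime 7) := ⟨by norm_num⟩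
    exact Cfsg.Agent.S0495.result hc (F := ZMod 7) (ZMod.card 7)

end Cfsg.Agent.S3331
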