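import Cfsg.Statements.S0942
import Cfsg.Agent.BlocksLocal.PrincipalSection
import Cfsg.Agent.PLocal.Cores

set_option autoImplicit false
open Cfsg CfsgLib.Blocks CfsgLib.BlocksLocal CfsgLib.PrincipalBlock

namespace Cfsg.Agent.S0942

/-- Let u be a p-element of the finite group G, let v lie in the largest normal subgroup of C_G(u) of order prime to p, and let χ belong to the principal block (relative to a maximal ideal M of the algebraic integers containing p). Then χ (u * v) = χ u. -/
theorem result {G : Type*} [Group G] [Finite G] (p : ℕ) [Fact p.Prime] (M : Ideal Cfsg.AlgInt) (hM : Cfsg.IsPModular p M) (u : G) (hu : ∃ k : ℕ, orderOf u = p ^ k) (v : G) (hv : v ∈ Cfsg.centralizerPPrimeCore p u) (χ : Cfsg.IrrCharacter G) (hχ : χ ∈ Cfsg.principalBlock M G) : (χ : G → ℂ) (u * v) = (χ : G → ℂ) u := by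
  classical
  haveI := Fintype.ofFinite G
  haveI : M.IsPrime := CfsgLib.Blocks.IsPModular.isPrime hM
  haveI := Fintype.ofFinite (Subgroup.centralizer ({u} : Set G))
  have hp : p.Prime := Fact.out
  obtain ⟨w, hw, rfl⟩ := hv
  have hcop := CfsgLib.PLocal.coprime_card_pPrimeCore p (Subgroup.centralizer ({u} : Set G))
  have hN : ¬ p ∣ Nat.card (Cfsg.pPrimeCore p (Subgroup.centralizer ({u} : Set G))) :=
    CfsgLib.PLocal.not_dvd_iff_coprime.1 hcop
  have hwreg : ¬ p ∣ orderOf w := fun h => hN (h.trans (Subgroup.orderOf_dvd_natCard _ hw))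
  have h1 : ¬ p ∣ orderOf (1 : Subgroup.centralizer ({u} : Set G)) := by
    rw [orderOf_one]; exact hp.not_dvd_one
  have e1 := blockPart_principal_translate hM hu χ hwreg
  have e2 := blockPart_principal_translate hM hu χ h1
  rw [if_pos hχ] at e1 e2
  rw [Subgroup.subtype_apply, ← e1]
  rw [OneMemClass.coe_one, mul_one] at e2
  conv_rhs => rw [← e2]
  simp only [Cfsg.blockPart, finsum_irr_mem]
  refine Finset.sum_congr rfl fun ξ _ => ?_
  split_ifs with hξ
  · rw [mem_charKer.1 (le_charKer_of_mem hM _ hN hξ hw)]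
  · rfl

end Cfsg.Agent.S0942
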