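import Cfsg.Statements.S4500
import Cfsg.Agent.BlockPairing.Heights
import Cfsg.Agent.PrincipalBlock.Basic
import Cfsg.Agent.Characters.Burnside

set_option autoImplicit false
open Cfsg

namespace Cfsg.Agent.S4500

open CfsgLib.Blocks CfsgLib.PrincipalBlock CfsgLib.Characters in
theorem aux {G : Type*} [Group G] [Finite G] [Nontrivial G] (p q r a b c : ℕ) (hp : p.Prime)
    (hq : q.Prime) (hr : r.Prime) (hpq : p ≠ q) (hpr : p ≠ r) (ha : a ≤ 2)
    (hG : Nat.card G = p ^ a * q ^ b * r ^ c) :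
    ∃ χ : Cfsg.IrrCharacter G, (χ : G → ℂ) ≠ (fun _ => 1) ∧
      ∃ k : ℕ, Cfsg.charDegree (χ : G → ℂ) = q ^ k := by
  classical
  cases nonempty_fintype G
  rcases Nat.eq_zero_or_pos a with rfl | ha0
  · haveI := CfsgLib.Characters.isSolvable_of_card_eq_primePow_mul (G := G) q r b c hq hr
      (by rw [hG, pow_zero, one_mul])
    have hlt := Group.IsSolvable.commutator_lt_top_of_nontrivial G
    have h2 : 1 < Nat.card {χ : Cfsg.IrrCharacter G // (χ : G → ℂ) 1 = 1} := by
      rw [card_linear_char]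
      exact Subgroup.one_lt_index_of_ne_top hlt.ne
    haveI : Finite {χ : Cfsg.IrrCharacter G // (χ : G → ℂ) 1 = 1} :=
      Nat.finite_of_card_ne_zero (by omega)
    haveI := (Finite.one_lt_card_iff_nontrivial).1 h2
    obtain ⟨⟨χ, h1⟩, hne⟩ := exists_ne
      (⟨trivChar G, rfl⟩ : {χ : Cfsg.IrrCharacter G // (χ : G → ℂ) 1 = 1})
    refine ⟨χ, fun h => hne (Subtype.ext (Subtype.ext h)), 0, ?_⟩
    rw [pow_zero, Cfsg.charDegree, h1]
    simp
  haveI := Fact.mk hp
  obtain ⟨M, hM⟩ := exists_isPModular p hp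
  haveI := IsPModular.isPrime hM
  have hv : (Nat.card G).factorization p = a := by
    have hb : q ^ b ≠ 0 := pow_ne_zero _ hq.ne_zero
    have hc : r ^ c ≠ 0 := pow_ne_zero _ hr.ne_zero
    rw [hG, Nat.factorization_mul (mul_ne_zero (pow_ne_zero _ hp.ne_zero) hb) hc,
      Nat.factorization_mul (pow_ne_zero _ hp.ne_zero) hb, Finsupp.add_apply, Finsupp.add_apply,
      hp.factorization_pow, hq.factorization_pow, hr.factorization_pow, Finsupp.single_eq_same,
      Finsupp.single_eq_of_ne hpq, Finsupp.single_eq_of_ne hpr, add_zero, add_zero]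
  obtain ⟨x, hx⟩ := exists_prime_orderOf_dvd_card' (G := G) p
    (hG ▸ ((dvd_pow_self p ha0.ne').mul_right _).mul_right _)
  have hB := isPBlock_principalBlock (M := M) (G := G)
  have hnd : ∀ χ ∈ Cfsg.principalBlock M G, ¬ p ∣ Cfsg.charDegree (χ : G → ℂ) := by
    intro χ hχ h
    have h1 := hp.factorization_pos_of_dvd (charDegree_ne_zero χ) h
    have h2 := CfsgLib.BlockPairing.defect_le_of_defect_le_one hM hB hχ (by omega)
      (trivChar G) trivChar_mem
    rw [show Cfsg.charDegree ((trivChar G : IrrCharacter G) : G → ℂ) = 1 by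
      simp [Cfsg.charDegree, trivChar], Nat.factorization_one] at h2
    simp only [Finsupp.coe_zero, Pi.zero_apply] at h2
    omega
  by_contra hcon
  push Not at hcon
  have hall : ∀ χ ∈ Cfsg.principalBlock M G, χ ≠ trivChar G →
      r ∣ Cfsg.charDegree (χ : G → ℂ) := by
    intro χ hχ hne
    by_contra hrd
    have hd := charDegree_dvd_card χ
    rw [hG] at hd
    have h1 := (Nat.Coprime.pow_right c ((hr.coprime_iff_not_dvd.2 hrd).symm)).dvd_of_dvd_mul_right hd
    have h2 := (Nat.Coprime.pow_right a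
      ((hp.coprime_iff_not_dvd.2 (hnd χ hχ)).symm)).dvd_of_dvd_mul_left h1
    obtain ⟨k, -, hk⟩ := (Nat.dvd_prime_pow hq).1 h2
    exact hcon χ (fun h => hne (Subtype.ext h)) k hk
  have h0 := sum_union_mul_conj_eq_zero hM (isBlockUnion_of_isPBlock hB) (x := (1 : G)) (y := x)
    (by rw [orderOf_one]; exact hp.not_dvd_one) (hx ▸ dvd_rfl)
  rw [← Finset.add_sum_erase _ _ (Finset.mem_univ (trivChar G)), if_pos trivChar_mem] at h0
  refine hr.not_dvd_one (dvd_of_isIntegral_div hr.ne_zero ?_)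
  set f : IrrCharacter G → ℂ := fun χ =>
    if χ ∈ Cfsg.principalBlock M G then (χ : G → ℂ) 1 * (starRingEnd ℂ) ((χ : G → ℂ) x) else 0
  have e : ((1 : ℕ) : ℂ) / (r : ℂ) = - ∑ χ ∈ Finset.univ.erase (trivChar G), f χ / (r : ℂ) := by
    rw [← Finset.sum_div, ← neg_div]
    congr 1
    simp only [f]
    rw [eq_neg_iff_add_eq_zero]
    convert h0 using 2
    simp [trivChar]
  rw [e]
  refine IsIntegral.neg (IsIntegral.sum _ fun χ hχ => ?_)
  simp only [f]
  split_ifs with hm
  · obtain ⟨d, hd⟩ := hall χ hm (Finset.ne_of_mem_erase hχ)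
    rw [← charDegree_cast χ, hd, Nat.cast_mul,
      show (r : ℂ) * d * (starRingEnd ℂ) ((χ : G → ℂ) x) / r =
        (d : ℂ) * (starRingEnd ℂ) ((χ : G → ℂ) x) by
      have : (r : ℂ) ≠ 0 := Nat.cast_ne_zero.2 hr.ne_zero
      field_simp,
      ← character_inv (isCharacter_of_isIrr χ.2)]
    exact (show IsIntegral ℤ (d : ℂ) by simpa using isIntegral_algebraMap (R := ℤ) (A := ℂ) (x := (d : ℤ))).mul
      (character_isIntegral (isCharacter_of_isIrr χ.2) _)
  · rw [zero_div]; exact isIntegral_zero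

/-- Let G be a non-trivial finite group of order p^a · q^b · r^c with p, q, r distinct primes and a ≤ 2. Then G has a non-principal irreducible character whose degree is a power of q, and a non-principal irreducible character whose degree is a power of r; the power may be the zeroth, so a non-principal linear character serves for both. -/
theorem result {G : Type*} [Group G] [Finite G] [Nontrivial G] (p q r a b c : ℕ) (hp : p.Prime) (hq : q.Prime) (hr : r.Prime) (hpq : p ≠ q) (hpr : p ≠ r) (hqr : q ≠ r) (ha : a ≤ 2) (hG : Nat.card G = p ^ a * q ^ b * r ^ c) : (∃ χ : Cfsg.IrrCharacter G, (χ : G → ℂ) ≠ (fun _ => 1) ∧ ∃ k : ℕ, Cfsg.charDegree (χ : G → ℂ) = q ^ k) ∧ ∃ χ : Cfsg.IrrCharacter G, (χ : G → ℂ) ≠ (fun _ => 1) ∧ ∃ k : ℕ, Cfsg.charDegree (χ : G → ℂ) = r ^ k := by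
  exact ⟨aux p q r a b c hp hq hr hpq hpr ha hG,
    aux p r q a c b hp hr hq hpr hpq ha (by rw [hG]; ring)⟩

end Cfsg.Agent.S4500
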