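import Cfsg.Statements.S0076
import Cfsg.Agent.Transfer.Fusion

set_option autoImplicit false
open Cfsg

namespace Cfsg.Agent.S0076

/-- Two P-invariant subsets of a Sylow p-subgroup P that are conjugate in G are conjugate under the normalizer of P. -/
theorem result {G : Type*} [Group G] [Finite G] {p : ℕ} [Fact p.Prime] (P : Sylow p G) (X Y : Set G) (hXP : X ⊆ P) (hYP : Y ⊆ P) (hX : ∀ x ∈ P, (fun y => x * y * x⁻¹) '' X = X) (hY : ∀ x ∈ P, (fun y => x * y * x⁻¹) '' Y = Y) (g : G) (hg : (fun y => g * y * g⁻¹) '' X = Y) : ∃ n ∈ Subgroup.normalizer (P : Set G), (fun y => n * y * n⁻¹) '' X = Y := by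
  have hnX : (P : Subgroup G) ≤ Subgroup.normalizer X := fun x hx =>
    Subgroup.mem_normalizer_iff_conj_image_eq.2 (hX x hx)
  -- transport the Sylow subgroup inside the normalizer of `Y`
  set N := Subgroup.normalizer Y with hN
  have hP1 : (P : Subgroup G) ≤ N := fun x hx =>
    Subgroup.mem_normalizer_iff_conj_image_eq.2 (hY x hx)
  have hP2 : ((g • P : Sylow p G) : Subgroup G) ≤ N := by
    intro x hx
    obtain ⟨z, hz, rfl⟩ := (Sylow.coe_subgroup_smul (g := g) (P := P)) ▸ hx
    refine Subgroup.mem_normalizer_iff_conj_image_eq.2 ?_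
    conv_lhs => rw [← hg, Set.image_image]
    conv_rhs => rw [← hg, ← hX z hz, Set.image_image]
    exact Set.image_congr fun y _ => by simp [mul_assoc]
  obtain ⟨c, hc⟩ := MulAction.exists_smul_eq N ((g • P).subtype hP2) (P.subtype hP1)
  rw [Sylow.smul_subtype] at hc
  have hc' : ((c : G) * g) • P = P := by
    rw [mul_smul]; exact Sylow.subtype_injective hc
  refine ⟨(c : G) * g, Sylow.smul_eq_iff_mem_normalizer.1 hc', ?_⟩
  have h2 := Subgroup.mem_normalizer_iff_conj_image_eq.1 c.2
  conv_rhs => rw [← h2, ← hg, Set.image_image]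
  exact Set.image_congr fun y _ => by simp [mul_assoc]

end Cfsg.Agent.S0076
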