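import Cfsg.Statements.S1446
import Cfsg.Agent.OddOrder.BG3.Prop310

set_option autoImplicit false
open Cfsg

namespace Cfsg.Agent.S1446

/-- Let X be a finite group with subgroups K, R, M such that: K and R are nontrivial, K ∩ R = 1, R normalizes K, no non-identity element of R centralizes a non-identity element of K, K ⊔ R is solvable of odd order; M is nilpotent and nontrivial, normalized by K and by R, with order coprime to that of K ⊔ R, M ∩ C(K) = 1, and M ∩ C(x) = M ∩ C(R) for all non-identity x ∈ R. Then R has prime order p, #M = #(M ∩ C(R)) ^ p, and if M ∩ C(R) is cyclic then [K, K] centralizes M. -/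
theorem result {X : Type*} [Group X] [Finite X] (K R M : Subgroup X) (hK1 : K ≠ ⊥) (hR1 : R ≠ ⊥) (hKR : K ⊓ R = ⊥)
    (hRK : R ≤ Subgroup.normalizer (K : Set X)) (hfrob : ∀ r ∈ R, r ≠ 1 → K ⊓ Subgroup.centralizer ({r} : Set X) = ⊥)
    (hsolv : Group.IsSolvable ↥(K ⊔ R)) (hodd : Odd (Nat.card ↥(K ⊔ R)))
    (hM1 : M ≠ ⊥) (hMn : Group.IsNilpotent M) (hKM : K ≤ Subgroup.normalizer (M : Set X)) (hRM : R ≤ Subgroup.normalizer (M : Set X))
    (hcop : (Nat.card ↥(K ⊔ R)).Coprime (Nat.card M)) (hCK : M ⊓ Subgroup.centralizer (K : Set X) = ⊥)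
    (hpr : ∀ x ∈ R, x ≠ 1 → M ⊓ Subgroup.centralizer ({x} : Set X) = M ⊓ Subgroup.centralizer (R : Set X)) :
    (Nat.card R).Prime ∧ Nat.card M = Nat.card ↥(M ⊓ Subgroup.centralizer (R : Set X)) ^ Nat.card R ∧
      (IsCyclic ↥(M ⊓ Subgroup.centralizer (R : Set X)) → ⁅K, K⁆ ≤ Subgroup.centralizer (M : Set X)) := by
  obtain ⟨hp, hcard⟩ := CfsgLib.OddOrder.prime_card_of_frobenius_action hR1 hKR hRK hfrob hM1 hMn
    hKM hRM hcop hCK hpr
  refine ⟨hp, hcard, fun hcyc => ?_⟩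
  have hKd : Nat.card K ∣ Nat.card ↥(K ⊔ R) := Subgroup.card_dvd_of_le le_sup_left
  have hRd : Nat.card R ∣ Nat.card ↥(K ⊔ R) := Subgroup.card_dvd_of_le le_sup_right
  haveI := hsolv
  refine CfsgLib.OddOrder.commutator_le_centralizer_nilpotent_of_isCyclic_fixed hMn
    (Group.isSolvable_of_isSolvable_injective
      (Subgroup.inclusion_injective (le_sup_left : K ≤ K ⊔ R))) hRK hKM hRM hp
    (hcop.coprime_dvd_left hKd) (hcop.coprime_dvd_left hRd) ?_ hcyc
  obtain ⟨r, hr, hr1⟩ := (Subgroup.bot_or_exists_ne_one R).resolve_left hR1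
  rw [eq_bot_iff, ← hfrob r hr hr1]
  exact inf_le_inf_left _ (Subgroup.centralizer_le (by simpa using hr))

end Cfsg.Agent.S1446
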