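import Cfsg.Statements.S1378
import Cfsg.Agent.OddOrder.BG14.SigmaDisjoint
import Cfsg.Agent.OddOrder.BG14.Assemble
-- import your own Cfsg.Agent.* helpers here

set_option autoImplicit false
open Cfsg

namespace Cfsg.Agent.S1378

open CfsgLib.OddOrder in

/-- Let G be a minimal simple group of odd order. Then every prime dividing the order of G belongs to σ(M) for some maximal subgroup M, and if σ(M) and σ(N) have a prime in common for maximal subgroups M, N then N is conjugate to M; so the sets σ(M_i) over representatives of the conjugacy classes of maximal subgroups partition the prime divisors of #G. -/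
theorem result {G : Type*} [Group G] [Finite G] (hG : Cfsg.IsMinSimpleOddOrder G) :
    (∀ p : ℕ, p.Prime → p ∣ Nat.card G → ∃ M : Subgroup G, IsCoatom M ∧ p ∈ Cfsg.sigma M) ∧
      ∀ M N : Subgroup G, IsCoatom M → IsCoatom N → (Cfsg.sigma M ∩ Cfsg.sigma N).Nonempty → ∃ g : G, N = M.map (MulAut.conj g).toMonoidHom := by
  refine ⟨fun p hp hd => ?_, fun M N hM hN ⟨p, hpM, hpN⟩ =>
    BG14.exists_conj_of_sigma (BG14.bg13Facts hG) hG hM hN hpM hpN⟩
  haveI := Fact.mk hp
  obtain ⟨S, hS⟩ := BG11.exists_isSylowIn (p := p) (⊤ : Subgroup G)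
  have hS1 : S ≠ ⊥ := BG11.sylowIn_ne_bot hS (by rwa [Subgroup.card_top])
  obtain ⟨M, hM, hNM⟩ := minSimple_exists_coatom hG (minSimple_normalizer_ne_top hG hS1
    (minSimple_ne_top_of_isPGroup hG hS.isPGroup))
  exact ⟨M, hM, BG11.sigma_of_sylow_top (BG14.bg13Facts hG).bg12.bg10 hS (Subgroup.le_normalizer.trans hNM) hS1 hNM⟩

end Cfsg.Agent.S1378
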