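import Cfsg.Statements.S1457
import Cfsg.Agent.OddOrder.AppA.AbelianGenerated

set_option autoImplicit false
open Cfsg

namespace Cfsg.Agent.S1457

/-- Let G be a solvable group of odd order, p a prime, S a Sylow p-subgroup of G and A an abelian subgroup of S normal in S. Then A ≤ O_{p',p}(G). -/
theorem result {G : Type*} [Group G] [Finite G] [Group.IsSolvable G] (hodd : Odd (Nat.card G)) (p : ℕ) [Fact p.Prime] (S : Sylow p G) (A : Subgroup G) (hA : A ≤ (S : Subgroup G)) (hAc : IsMulCommutative A)
    (hAn : (S : Subgroup G) ≤ Subgroup.normalizer (A : Set G)) :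
    A ≤ Cfsg.pPrimePCore p G := by
  by_cases hp : p = 2
  · subst hp
    have hS : (S : Subgroup G) = ⊥ := by
      obtain ⟨k, hk⟩ := IsPGroup.iff_card.1 S.isPGroup'
      rw [← Subgroup.card_eq_one, hk]
      rcases Nat.eq_zero_or_pos k with rfl | hk0
      · rfl
      · exact absurd (hodd.of_dvd_nat (Subgroup.card_subgroup_dvd_card (S : Subgroup G)))
          (Nat.not_odd_iff_even.2 (hk ▸ Even.pow_of_ne_zero even_two hk0.ne'))
    rw [hS, le_bot_iff] at hA
    rw [hA]; exact bot_le
  set π := QuotientGroup.mk' (Cfsg.pPrimeCore p G) with hπ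
  have hsurj : Function.Surjective π := QuotientGroup.mk'_surjective _
  haveI : Group.IsSolvable (G ⧸ Cfsg.pPrimeCore p G) := inferInstance
  refine Subgroup.map_le_iff_le_comap.1 ?_
  refine CfsgLib.OddOrder.Quad.le_pCore_of_abelian_normal_sylow hp
    (hodd.of_dvd_nat (Subgroup.card_quotient_dvd_card _))
    (CfsgLib.PLocal.pPrimeCore_quotient_pPrimeCore_eq_bot p G) (S.mapSurjective hsurj)
    inferInstance ?_
  rw [Sylow.coe_mapSurjective]
  exact (Subgroup.map_mono hAn).trans (Subgroup.le_normalizer_map _)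

end Cfsg.Agent.S1457
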