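import Cfsg.Statements.S1458
import Cfsg.Agent.OddOrder.ZJ.Main

set_option autoImplicit false
open Cfsg

namespace Cfsg.Agent.S1458

/-- Let G be a solvable group of odd order, p a prime and S a Sylow p-subgroup of G. Then the subgroup generated by the centre of the Thompson subgroup of S and O_{p'}(G) is normal in G. -/
theorem result {G : Type*} [Group G] [Finite G] [Group.IsSolvable G] (hodd : Odd (Nat.card G)) (p : ℕ) [Fact p.Prime] (S : Sylow p G) :
    (Cfsg.centerThompsonOf p (S : Subgroup G) ⊔ Cfsg.pPrimeCore p G).Normal := by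
  by_cases hp : p = 2
  · subst hp
    have hS : (S : Subgroup G) = ⊥ := by
      obtain ⟨k, hk⟩ := IsPGroup.iff_card.1 S.isPGroup'
      rw [← Subgroup.card_eq_one, hk]
      rcases Nat.eq_zero_or_pos k with rfl | hk0
      · rfl
      · exact absurd (hodd.of_dvd_nat (Subgroup.card_subgroup_dvd_card (S : Subgroup G)))
          (Nat.not_odd_iff_even.2 (hk ▸ Even.pow_of_ne_zero even_two hk0.ne'))
    have hZ : Cfsg.centerThompsonOf 2 (S : Subgroup G) = ⊥ := eq_bot_iff.2
      ((inf_le_left.trans (CfsgLib.PLocal.thompsonSubgroupOf_le 2 _)).trans hS.le)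
    rw [hZ, bot_sup_eq]
    infer_instance
  set N := Cfsg.pPrimeCore p G with hN
  set π := QuotientGroup.mk' N with hπ
  have hsurj : Function.Surjective π := QuotientGroup.mk'_surjective _
  have hinj : Set.InjOn π (S : Subgroup G) := by
    intro a ha b hb h
    have h1 : a⁻¹ * b ∈ (S : Subgroup G) ⊓ N :=
      Subgroup.mem_inf.2 ⟨mul_mem (inv_mem ha) hb, (QuotientGroup.eq).1 h⟩
    have h2 : (S : Subgroup G) ⊓ N = ⊥ := CfsgLib.PLocal.disjoint_of_isPGroup_of_coprime S.isPGroup'
      (CfsgLib.PLocal.coprime_card_pPrimeCore p G)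
    rw [h2, Subgroup.mem_bot] at h1
    exact inv_mul_eq_one.1 h1
  have hodd' : Odd (Nat.card (G ⧸ N)) := hodd.of_dvd_nat (Subgroup.card_quotient_dvd_card _)
  have hn : (Cfsg.centerThompsonOf p (S.mapSurjective hsurj : Subgroup (G ⧸ N))).Normal :=
    CfsgLib.OddOrder.ZJ.centerThompsonOf_normal hp
      (CfsgLib.OddOrder.ZJ.quadraticStable_of_odd hp hodd')
      (CfsgLib.PLocal.centralizer_pCore_le CfsgLib.PLocal.isPSolvable_of_isSolvable
        (CfsgLib.PLocal.pPrimeCore_quotient_pPrimeCore_eq_bot p G)) (S.mapSurjective hsurj)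
  rw [Sylow.coe_mapSurjective, ← CfsgLib.OddOrder.ZJ.map_centerThompsonOf hinj] at hn
  have h := hn.comap π
  rwa [Subgroup.comap_map_eq, QuotientGroup.ker_mk'] at h

end Cfsg.Agent.S1458
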