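import Cfsg.Statements.S1536
import Cfsg.Agent.OddOrderChar.CoprimeCoset
import Cfsg.Agent.OddOrderChar.Clifford
import Cfsg.Agent.Characters.FixedPoints

set_option autoImplicit false
open Cfsg

namespace Cfsg.Agent.S1536

/-- Let H be a normal subgroup of the finite group M whose order is coprime to its index. For x ∈ M: some non-principal irreducible character of H is unchanged under h ↦ θ(x h x⁻¹) if and only if some non-identity element of H commutes with x. -/
theorem result {M : Type*} [Group M] [Finite M] (H : Subgroup M) [hN : H.Normal] (hHall : Nat.Coprime (Nat.card H) H.index) (x : M) : (∃ θ : H → ℂ, Cfsg.IsIrrCharacter H θ ∧ θ ≠ (fun _ => 1) ∧ (fun h : H => θ ⟨x * h * x⁻¹, hN.conj_mem h h.2 x⟩) = θ) ↔ ∃ h ∈ H, h ≠ 1 ∧ x * h = h * x := by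
  classical
  haveI : Fintype H := Fintype.ofFinite H
  have hcard := CfsgLib.Characters.card_fixed_irr_mulEquiv (MulAut.conjNormal (H := H) x : H ≃* H)
  have hval : ∀ k : H, (((MulAut.conjNormal (H := H) x : H ≃* H) k : H) : M) = x * k * x⁻¹ :=
    fun k => MulAut.conjNormal_apply x k
  have hfix : ∀ θ : H → ℂ, (fun h : H => θ ⟨x * h * x⁻¹, hN.conj_mem h h.2 x⟩) =
      θ ∘ (MulAut.conjNormal (H := H) x : H ≃* H) :=
    fun θ => funext fun h => congrArg θ (Subtype.ext (hval h).symm)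
  simp only [hfix]
  constructor
  · rintro ⟨θ, hθ, hne, hθx⟩
    have h2 : 1 < Nat.card {χ : IrrCharacter H //
        (χ : H → ℂ) ∘ (MulAut.conjNormal (H := H) x : H ≃* H) = (χ : H → ℂ)} := by
      rw [Finite.one_lt_card_iff_nontrivial]
      refine ⟨⟨⟨θ, hθ⟩, hθx⟩, ⟨⟨fun _ => 1, CfsgLib.Characters.isIrr_one⟩, rfl⟩, fun h => hne ?_⟩
      exact congrArg (fun χ => (χ.1 : H → ℂ)) h
    rw [← hcard, Finite.one_lt_card_iff_nontrivial] at h2
    obtain ⟨⟨C, hC⟩, hC1⟩ := exists_ne (⟨ConjClasses.mk 1, by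
      change ConjClasses.mk (MulAut.conjNormal (H := H) x (1 : H)) = _
      rw [map_one]⟩ : {C : ConjClasses H //
        ConjClasses.map (MulAut.conjNormal (H := H) x : H ≃* H).toMonoidHom C = C})
    obtain ⟨a, rfl⟩ := ConjClasses.mk_surjective C
    have ha1 : (a : M) ≠ 1 := fun h => hC1 (Subtype.ext (congrArg ConjClasses.mk (show a = 1 from Subtype.ext (by simpa using h))))
    change ConjClasses.mk (MulAut.conjNormal (H := H) x a) = ConjClasses.mk a at hC
    obtain ⟨y, hy⟩ := isConj_iff.mp (ConjClasses.mk_eq_mk_iff_isConj.mp hC)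
    have hy' : (y : M) * (x * a * x⁻¹) * (y : M)⁻¹ = a := by
      have := congrArg Subtype.val hy
      simpa [hval] using this
    by_cases hpow : x ^ H.index = 1
    swap
    · exact ⟨x ^ H.index, H.pow_index_mem x, hpow, (Commute.self_pow x _).eq⟩
    have hcop : Nat.Coprime (orderOf x) (Nat.card H) :=
      Nat.Coprime.coprime_dvd_left (orderOf_dvd_of_pow_eq_one hpow) hHall.symm
    obtain ⟨z, hz, c, hc, hcx, hze⟩ := CfsgLib.OddOrderChar.exists_conj_coset_fixed H x
      (Subgroup.mem_normalizer_iff.mpr fun n => ⟨fun hn => hN.conj_mem n hn x,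
        fun hn => by simpa [mul_assoc] using hN.conj_mem _ hn x⁻¹⟩) hcop y y.2
    by_cases hc1 : c = 1
    swap
    · exact ⟨c, hc, hc1, hcx.symm⟩
    rw [hc1, one_mul] at hze
    refine ⟨z * a * z⁻¹, hN.conj_mem _ a.2 z, fun h => ha1 (conj_eq_one_iff.mp h), ?_⟩
    calc x * (z * a * z⁻¹) = z * ((y : M) * x) * z⁻¹ * (z * a * z⁻¹) := by rw [hze]
      _ = z * ((y : M) * (x * a * x⁻¹) * (y : M)⁻¹ * ((y : M) * x)) * z⁻¹ := by group
      _ = z * (a * ((y : M) * x)) * z⁻¹ := by rw [hy']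
      _ = z * a * z⁻¹ * (z * ((y : M) * x) * z⁻¹) := by group
      _ = z * a * z⁻¹ * x := by rw [hze]
  · rintro ⟨h, hh, hh1, hxh⟩
    have h2 : 1 < Nat.card {C : ConjClasses H //
        ConjClasses.map (MulAut.conjNormal (H := H) x : H ≃* H).toMonoidHom C = C} := by
      rw [Finite.one_lt_card_iff_nontrivial]
      refine ⟨⟨ConjClasses.mk ⟨h, hh⟩, ?_⟩, ⟨ConjClasses.mk 1, ?_⟩, fun he => hh1 ?_⟩
      · change ConjClasses.mk (MulAut.conjNormal (H := H) x ⟨h, hh⟩) = _
        congr 1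
        exact Subtype.ext ((hval _).trans (by rw [hxh, mul_inv_cancel_right]))
      · change ConjClasses.mk (MulAut.conjNormal (H := H) x (1 : H)) = _
        rw [map_one]
      · have := ConjClasses.mk_eq_mk_iff_isConj.mp (congrArg Subtype.val he)
        exact congrArg Subtype.val (isConj_one_left.mp this)
    rw [hcard, Finite.one_lt_card_iff_nontrivial] at h2
    obtain ⟨⟨⟨θ, hθ⟩, hθx⟩, hne⟩ := exists_ne (⟨⟨fun _ => 1, CfsgLib.Characters.isIrr_one⟩, rfl⟩ :
      {χ : IrrCharacter H // (χ : H → ℂ) ∘ (MulAut.conjNormal (H := H) x : H ≃* H) = (χ : H → ℂ)})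
    exact ⟨θ, hθ, fun he => hne (Subtype.ext (Subtype.ext he)), hθx⟩

end Cfsg.Agent.S1536
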