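import Cfsg.Statements.S4216
import Mathlib

set_option autoImplicit false
open Cfsg
open scoped commutatorElement

/-!
Grün's first theorem, by computing the transfer into `P / Q` orbit by orbit.
-/

namespace Cfsg.Agent.S4216

variable {G : Type*} [Group G] [Finite G] {p : ℕ} [Fact p.Prime]

/-- the right-hand side of Grün's theorem -/
def rhs (P : Sylow p G) : Subgroup G :=
  ((P : Subgroup G) ⊓ ⁅Subgroup.normalizer ((P : Subgroup G) : Set G), Subgroup.normalizer ((P : Subgroup G) : Set G)⁆) ⊔ ⨆ z : G, (P : Subgroup G) ⊓ (⁅(P : Subgroup G), (P : Subgroup G)⁆).map (MulAut.conj z).toMonoidHom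

theorem rhs_le (P : Sylow p G) : rhs P ≤ (P : Subgroup G) :=
  sup_le inf_le_left (iSup_le fun _ => inf_le_left)

theorem commutator_mem_rhs {P : Sylow p G} {a b : G} (ha : a ∈ (P : Subgroup G))
    (hb : b ∈ (P : Subgroup G)) : ⁅a, b⁆ ∈ rhs P := by
  refine Subgroup.mem_sup_right (Subgroup.mem_iSup_of_mem 1 ⟨?_, ⁅a, b⁆,
    Subgroup.commutator_mem_commutator ha hb, by simp⟩)
  exact Subgroup.commutator_le_self _ (Subgroup.commutator_mem_commutator ha hb)

theorem le_rhs (P : Sylow p G) : (P : Subgroup G) ⊓ commutator G ≤ rhs P := by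
  classical
  intro x
  induction hn : orderOf x using Nat.strong_induction_on generalizing x with
  | _ n ih =>
  subst hn
  rintro ⟨hxP, hxG⟩
  by_cases hx1 : x = 1
  · subst hx1; exact one_mem _
  have hp : p.Prime := Fact.out
  set R := rhs P with hR
  -- the abelian quotient `P / Q`
  let S : Subgroup (P : Subgroup G) := R.subgroupOf (P : Subgroup G)
  have hSn : S.Normal := ⟨fun s hs g => by
    change ((g * s * g⁻¹ : (P : Subgroup G)) : G) ∈ R
    have e : ((g * s * g⁻¹ : (P : Subgroup G)) : G) = ⁅(g : G), (s : G)⁆ * (s : G) := by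
      rw [commutatorElement_def]; push_cast; group
    rw [e]
    exact mul_mem (commutator_mem_rhs g.2 s.2) hs⟩
  let Q := (P : Subgroup G) ⧸ S
  letI : CommGroup Q :=
    { (inferInstance : Group Q) with
      mul_comm := fun a b => by
        induction a using QuotientGroup.induction_on with | H a => ?_
        induction b using QuotientGroup.induction_on with | H b => ?_
        rw [← QuotientGroup.mk_mul, ← QuotientGroup.mk_mul, QuotientGroup.eq]
        change (((a * b)⁻¹ * (b * a) : (P : Subgroup G)) : G) ∈ R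
        have e : (((a * b)⁻¹ * (b * a) : (P : Subgroup G)) : G) = ⁅(b : G)⁻¹, (a : G)⁻¹⁆ := by
          rw [commutatorElement_def]; push_cast; group
        rw [e]
        exact commutator_mem_rhs (inv_mem b.2) (inv_mem a.2) }
  let φ : (P : Subgroup G) →* Q := QuotientGroup.mk' S
  have hφ1 : ∀ (y : G) (hy : y ∈ (P : Subgroup G)), φ ⟨y, hy⟩ = 1 ↔ y ∈ R := fun y hy =>
    QuotientGroup.eq_one_iff _
  -- conjugates of lower order die
  have hsmall : ∀ (t : G) (k : ℕ) (hy : t⁻¹ * x ^ k * t ∈ (P : Subgroup G)), p ∣ k →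
      φ ⟨_, hy⟩ = 1 := by
    intro t k hy hpk
    rw [hφ1]
    refine ih (orderOf (t⁻¹ * x ^ k * t)) ?_ rfl ⟨hy, ?_⟩
    · have h1 : orderOf (t⁻¹ * x ^ k * t) = orderOf (x ^ k) := by
        have := MulEquiv.orderOf_eq (MulAut.conj t⁻¹) (x ^ k)
        simpa [MulAut.conj_apply] using this
      rw [h1, orderOf_pow]
      obtain ⟨i, hi⟩ := IsPGroup.iff_orderOf.1 P.2 ⟨x, hxP⟩
      rw [← Subgroup.orderOf_coe] at hi
      have hi0 : i ≠ 0 := by rintro rfl; exact hx1 (orderOf_eq_one_iff.1 (by simpa using hi))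
      have hpg : p ∣ (orderOf x).gcd k := Nat.dvd_gcd (hi ▸ dvd_pow_self p hi0) hpk
      exact Nat.div_lt_self (orderOf_pos x) (lt_of_lt_of_le hp.one_lt
        (Nat.le_of_dvd (Nat.gcd_pos_of_pos_left _ (orderOf_pos x)) hpg))
    · have hc := (inferInstance : (commutator G).Normal).conj_mem (x ^ k) (pow_mem hxG k) t⁻¹
      simpa using hc
  let X := G ⧸ (P : Subgroup G)
  have := Fintype.ofFinite X
  have := Fintype.ofFinite (Quotient (MulAction.orbitRel (Subgroup.zpowers x) X))
  have := Fintype.ofFinite (Quotient (MulAction.orbitRel (P : Subgroup G) X))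
  have hmem : ∀ c : X, x • c = c → c.out⁻¹ * x * c.out ∈ (P : Subgroup G) := by
    intro c hc
    have h1 : ((x * c.out : G) : X) = (c.out : X) := by
      have h := hc
      rw [← QuotientGroup.out_eq' c] at h
      exact h
    rw [QuotientGroup.eq] at h1
    simpa [mul_assoc] using inv_mem h1
  let V : X → Q := fun c => if h : x • c = c then φ ⟨_, hmem c h⟩ else 1
  let F : Finset X := Finset.univ.filter fun c => x • c = c
  -- only the fixed cosets contribute
  have htr : ∏ c ∈ F, V c = 1 := by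
    have h1 : MonoidHom.transfer φ x = 1 :=
      (MonoidHom.transfer φ).mem_ker.1 (Abelianization.commutator_subset_ker _ hxG)
    rw [MonoidHom.transfer_eq_prod_quotient_orbitRel_zpowers_quot] at h1
    let orb : X → Quotient (MulAction.orbitRel (Subgroup.zpowers x) X) := Quotient.mk''
    have hper : ∀ c : X, x • c = c ↔ Function.minimalPeriod (x • ·) c = 1 := fun c =>
      (Function.minimalPeriod_eq_one_iff_isFixedPt (f := (x • ·)) (x := c)).symm
    have hout : ∀ c, x • c = c → (orb c).out = c := by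
      intro c hc
      have h2 : (orb c).out ∈ MulAction.orbit (Subgroup.zpowers x) c :=
        MulAction.orbitRel_apply.1 (Quotient.exact' (Quotient.out_eq' (orb c)))
      obtain ⟨⟨g, hg⟩, hg'⟩ := h2
      rw [← hg']
      obtain ⟨i, rfl⟩ := Subgroup.mem_zpowers_iff.1 hg
      exact smul_eq_self_of_mem_zpowers
        (show x ^ i ∈ Subgroup.zpowers x from ⟨i, rfl⟩) hc
    rw [← h1, ← Finset.prod_filter_of_ne (p := fun q : Quotient (MulAction.orbitRel (Subgroup.zpowers x) X) =>
      Function.minimalPeriod (x • ·) q.out = 1)]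
    · refine Finset.prod_bij' (fun c _ => orb c) (fun q _ => q.out) ?_ ?_ ?_ ?_ ?_
      · intro c hc
        simp only [F, Finset.mem_filter, Finset.mem_univ, true_and] at hc ⊢
        rw [hout c hc]
        exact (hper c).1 hc
      · intro q hq
        simp only [F, Finset.mem_filter, Finset.mem_univ, true_and] at hq ⊢
        exact (hper _).2 hq
      · intro c hc
        exact hout c (Finset.mem_filter.1 hc).2
      · intro q _
        exact Quotient.out_eq' q
      · intro c hc
        have hc' := (Finset.mem_filter.1 hc).2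
        simp only [V, dif_pos hc']
        have key : ∀ (d : X) (k : ℕ), d = c → k = 1 → ∀ h : d.out⁻¹ * x ^ k * d.out ∈ (P : Subgroup G),
            φ ⟨_, hmem c hc'⟩ = φ ⟨_, h⟩ := by
          rintro d k rfl rfl h
          congr 1
          exact Subtype.ext (show d.out⁻¹ * x * d.out = d.out⁻¹ * x ^ 1 * d.out by rw [pow_one])
        exact key _ _ (hout c hc') (by rw [hout c hc']; exact (hper c).1 hc') _
    · intro q _ hq
      by_contra hne
      apply hq
      refine hsmall _ _ _ ?_
      have hd : Function.minimalPeriod (x • ·) q.out ∣ orderOf x := by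
        refine Function.IsPeriodicPt.minimalPeriod_dvd ?_
        change (fun y : X => x • y)^[orderOf x] q.out = q.out
        rw [smul_iterate]
        change x ^ orderOf x • q.out = q.out
        rw [pow_orderOf_eq_one, one_smul]
      obtain ⟨i, hi⟩ := IsPGroup.iff_orderOf.1 P.2 ⟨x, hxP⟩
      rw [← Subgroup.orderOf_coe] at hi
      rw [hi, Nat.dvd_prime_pow hp] at hd
      obtain ⟨j, -, hj⟩ := hd
      rw [hj] at hne ⊢
      exact dvd_pow_self p (fun e => hne (by rw [e, pow_zero]))
  -- within a `P`-orbit of size above one the contributions cancel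
  let orbP : X → Quotient (MulAction.orbitRel (P : Subgroup G) X) := Quotient.mk''
  let FP : Finset X := Finset.univ.filter fun c => ∀ u : (P : Subgroup G), u • c = c
  have hFP : FP ⊆ F := by
    intro c hc
    simp only [FP, F, Finset.mem_filter, Finset.mem_univ, true_and] at hc ⊢
    exact hc ⟨x, hxP⟩
  have hFPV : ∀ c ∈ FP, V c = φ ⟨x, hxP⟩ := by
    intro c hc
    have hcx : x • c = c := (Finset.mem_filter.1 (hFP hc)).2
    simp only [FP, Finset.mem_filter, Finset.mem_univ, true_and] at hc
    simp only [V, dif_pos hcx]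
    set t := c.out with ht
    have hN : t ∈ Subgroup.normalizer ((P : Subgroup G) : Set G) := by
      have hle : (P : Subgroup G).map (MulAut.conj t⁻¹).toMonoidHom ≤ (P : Subgroup G) := by
        rintro _ ⟨u, hu, rfl⟩
        have h1 : ((u * t : G) : X) = (t : X) := by
          have := hc ⟨u, hu⟩
          rw [← QuotientGroup.out_eq' c] at this
          exact this
        rw [QuotientGroup.eq] at h1
        simpa [MulAut.conj_apply, mul_assoc] using inv_mem h1
      have heq := Subgroup.eq_of_le_of_card_ge hle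
        (Subgroup.card_map_of_injective (MulAut.conj t⁻¹).injective).ge
      exact inv_inv t ▸ inv_mem ((Subgroup.mem_normalizer_iff_map_conj_eq).2 heq)
    change φ _ = φ _
    refine QuotientGroup.eq.2 ?_
    change ((⟨t⁻¹ * x * t, _⟩⁻¹ * ⟨x, hxP⟩ : (P : Subgroup G)) : G) ∈ R
    have e : (t⁻¹ * x * t)⁻¹ * x = ⁅t⁻¹, x⁻¹⁆ := by rw [commutatorElement_def]; group
    refine Subgroup.mem_sup_left ⟨?_, ?_⟩
    · exact Subgroup.mul_mem _ (Subgroup.inv_mem _ (hmem c hcx)) hxP
    · push_cast
      rw [e]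
      exact Subgroup.commutator_mem_commutator (inv_mem hN) (inv_mem (Subgroup.le_normalizer hxP))
  have hpX : ¬ p ∣ Nat.card X := P.not_dvd_index
  have hcount : ¬ p ∣ FP.card := by
    intro hd
    apply hpX
    have hmod := IsPGroup.card_modEq_card_fixedPoints (α := X) P.2
    have hcard : Nat.card (MulAction.fixedPoints (P : Subgroup G) X) = FP.card := by
      rw [← Nat.card_eq_finsetCard]
      exact Nat.card_congr (Equiv.subtypeEquivRight fun c => by
        simp [FP, MulAction.mem_fixedPoints])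
    rw [hcard] at hmod
    exact (Nat.ModEq.dvd_iff hmod dvd_rfl).2 hd
  have hrest : ∏ c ∈ F \ FP, V c = 1 := by
    rw [← Finset.prod_fiberwise_of_maps_to (g := orbP) (t := Finset.univ) (fun c _ => Finset.mem_univ _)]
    refine Finset.prod_eq_one fun O _ => ?_
    set W := (F \ FP).filter fun c => orbP c = O with hW
    rcases W.eq_empty_or_nonempty with he | ⟨c₀, hc₀⟩
    · rw [he, Finset.prod_empty]
    obtain ⟨hc₀', hO⟩ := Finset.mem_filter.1 hc₀
    obtain ⟨hc₀F, hc₀FP⟩ := Finset.mem_sdiff.1 hc₀'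
    have hc₀x : x • c₀ = c₀ := (Finset.mem_filter.1 hc₀F).2
    -- the fixed cosets in the orbit: all of them, and all with the same contribution
    have hWmem : ∀ c, c ∈ W ↔ c ∈ MulAction.orbit (P : Subgroup G) c₀ ∧ x • c = c := by
      intro c
      simp only [hW, Finset.mem_filter, Finset.mem_sdiff, F, FP, Finset.mem_univ, true_and]
      constructor
      · rintro ⟨⟨h1, -⟩, h2⟩
        exact ⟨MulAction.orbitRel_apply.1 (Quotient.exact' (h2.trans hO.symm)), h1⟩
      · rintro ⟨h1, h2⟩
        refine ⟨⟨h2, fun hall => hc₀FP ?_⟩,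
          (Quotient.sound' (MulAction.orbitRel_apply.2 h1) : orbP c = orbP c₀).trans hO⟩
        obtain ⟨u, hu⟩ := h1
        have hcc : c₀ = c := by
          have := hall u⁻¹
          rw [← hu] at this
          rw [inv_smul_smul] at this
          exact this.trans hu
        simp only [FP, Finset.mem_filter, Finset.mem_univ, true_and]
        exact hcc ▸ hall
    have hconst : ∀ c ∈ W, V c = V c₀ := by
      intro c hc
      obtain ⟨h1, hcx⟩ := (hWmem c).1 hc
      obtain ⟨⟨u, hu⟩, hu'⟩ := h1
      simp only [V, dif_pos hcx, dif_pos hc₀x]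
      change φ _ = φ _
      refine QuotientGroup.eq.2 ?_
      change ((⟨c.out⁻¹ * x * c.out, _⟩⁻¹ * ⟨c₀.out⁻¹ * x * c₀.out, _⟩ : (P : Subgroup G)) : G) ∈ R
      push_cast
      set t := c₀.out with ht
      set t' := c.out with ht'
      have h2 : ((u * t : G) : X) = (t' : X) := by
        rw [ht', QuotientGroup.out_eq', ← hu']
        conv_rhs => rw [← QuotientGroup.out_eq' c₀]
        rfl
      rw [QuotientGroup.eq] at h2
      set v := (u * t)⁻¹ * t' with hv
      have ht'' : t' = u * t * v := by rw [hv]; group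
      have hy : t⁻¹ * x * t ∈ (P : Subgroup G) := hmem c₀ hc₀x
      have hz : t⁻¹ * u⁻¹ * x * u * t ∈ (P : Subgroup G) := by
        have h3 := hmem c hcx
        rw [← ht', ht''] at h3
        have h4 := mul_mem (mul_mem h2 h3) (inv_mem h2)
        simpa [mul_assoc] using h4
      have e : (t'⁻¹ * x * t')⁻¹ * (t⁻¹ * x * t)
          = ⁅v⁻¹, (t⁻¹ * u⁻¹ * x * u * t)⁻¹⁆ * (t⁻¹ * ⁅u⁻¹, x⁻¹⁆ * t⁻¹⁻¹) := by
        rw [ht'']; simp only [commutatorElement_def]; group
      rw [e]
      refine mul_mem (commutator_mem_rhs (inv_mem h2) (inv_mem hz)) ?_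
      refine Subgroup.mem_sup_right (Subgroup.mem_iSup_of_mem t⁻¹ ⟨?_, ⁅u⁻¹, x⁻¹⁆,
        Subgroup.commutator_mem_commutator (inv_mem hu) (inv_mem hxP), rfl⟩)
      have h5 := mul_mem (inv_mem hz) hy
      have e2 : t⁻¹ * ⁅u⁻¹, x⁻¹⁆ * t⁻¹⁻¹ = (t⁻¹ * u⁻¹ * x * u * t)⁻¹ * (t⁻¹ * x * t) := by
        rw [commutatorElement_def]; group
      rw [e2]; exact h5
    rw [Finset.prod_congr rfl hconst, Finset.prod_const]
    -- `p` divides the number of them
    have hpW : p ∣ W.card := by
      let Z : Subgroup (P : Subgroup G) := Subgroup.zpowers ⟨x, hxP⟩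
      let Or := MulAction.orbit (P : Subgroup G) c₀
      have hZ : IsPGroup p Z := P.2.to_subgroup Z
      have hmod := hZ.card_modEq_card_fixedPoints (α := Or)
      have hfix : Nat.card (MulAction.fixedPoints Z Or) = W.card := by
        rw [← Nat.card_eq_finsetCard]
        refine Nat.card_congr
          { toFun := fun o => ⟨o.1.1, (hWmem _).2 ⟨o.1.2, ?_⟩⟩
            invFun := fun c => ⟨⟨c.1, ((hWmem _).1 c.2).1⟩, ?_⟩
            left_inv := fun o => rfl
            right_inv := fun c => rfl }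
        · exact congrArg Subtype.val (o.2 ⟨⟨x, hxP⟩, Subgroup.mem_zpowers _⟩)
        · rintro ⟨g, hg⟩
          obtain ⟨i, rfl⟩ := Subgroup.mem_zpowers_iff.1 hg
          refine Subtype.ext ?_
          exact smul_eq_self_of_mem_zpowers (α := X)
            (show x ^ i ∈ Subgroup.zpowers x from ⟨i, rfl⟩) ((hWmem _).1 c.2).2
      obtain ⟨i, hi⟩ := IsPGroup.card_orbit P.2 c₀
      have hi0 : i ≠ 0 := by
        rintro rfl
        apply hc₀FP
        simp only [FP, Finset.mem_filter, Finset.mem_univ, true_and]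
        intro u
        have hsub : Subsingleton Or := (Nat.card_eq_one_iff_unique.1 (by simpa using hi)).1
        exact congrArg Subtype.val (Subsingleton.elim
          (⟨u • c₀, MulAction.mem_orbit c₀ u⟩ : Or) ⟨c₀, MulAction.mem_orbit_self c₀⟩)
      rw [hfix] at hmod
      exact (Nat.ModEq.dvd_iff hmod dvd_rfl).1 (hi ▸ dvd_pow_self p hi0)
    obtain ⟨k, hk⟩ := hpW
    rw [hk]
    simp only [V, dif_pos hc₀x]
    rw [← map_pow]
    have hpow : (c₀.out⁻¹ * x * c₀.out) ^ (p * k) = c₀.out⁻¹ * x ^ (p * k) * c₀.out := by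
      have := conj_pow (i := p * k) (a := c₀.out⁻¹) (b := x)
      rwa [inv_inv] at this
    have hmem' : c₀.out⁻¹ * x ^ (p * k) * c₀.out ∈ (P : Subgroup G) :=
      hpow ▸ pow_mem (hmem c₀ hc₀x) _
    have hsub : (⟨_, hmem c₀ hc₀x⟩ : (P : Subgroup G)) ^ (p * k) = ⟨_, hmem'⟩ :=
      Subtype.ext hpow
    rw [hsub]
    exact hsmall _ _ hmem' (dvd_mul_right p k)
  rw [← Finset.prod_sdiff hFP, hrest, one_mul, Finset.prod_congr rfl hFPV, Finset.prod_const] at htr
  -- an invertible exponent
  obtain ⟨i, hi⟩ := IsPGroup.iff_orderOf.1 P.2 ⟨x, hxP⟩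
  have ho1 : orderOf (φ ⟨x, hxP⟩) ∣ p ^ i := hi ▸ orderOf_map_dvd φ _
  have ho2 : orderOf (φ ⟨x, hxP⟩) ∣ FP.card := orderOf_dvd_iff_pow_eq_one.2 htr
  have ho : orderOf (φ ⟨x, hxP⟩) = 1 :=
    Nat.eq_one_of_dvd_coprimes (Nat.Coprime.pow_left i (hp.coprime_iff_not_dvd.2 hcount)) ho1 ho2
  exact (hφ1 x hxP).1 (orderOf_eq_one_iff.1 ho)

/-- Grün's first theorem. -/
theorem result {G : Type*} [Group G] [Finite G] {p : ℕ} [Fact p.Prime] (P : Sylow p G) : (P : Subgroup G) ⊓ commutator G = ((P : Subgroup G) ⊓ ⁅Subgroup.normalizer ((P : Subgroup G) : Set G), Subgroup.normalizer ((P : Subgroup G) : Set G)⁆) ⊔ ⨆ z : G, (P : Subgroup G) ⊓ (⁅(P : Subgroup G), (P : Subgroup G)⁆).map (MulAut.conj z).toMonoidHom := by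
  refine le_antisymm (le_rhs P) (sup_le (inf_le_inf_left _ ?_) (iSup_le fun z => inf_le_inf_left _ ?_))
  · exact Subgroup.commutator_mono le_top le_top
  · rw [Subgroup.map_commutator]
    exact Subgroup.commutator_mono le_top le_top

end Cfsg.Agent.S4216
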