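import Mathlib
import Cfsg.Statements.S3994
import Cfsg.Agent.FgsSix.Frobenius

set_option autoImplicit false
open Cfsg

namespace Cfsg.Agent.S3994

/-- Let G be a finite group and n a positive integer. The number of elements of G whose order is divisible by n is either 0 or divisible by the largest divisor of the order of G that is coprime to n. -/
theorem result {G : Type*} [Group G] [Finite G] (n : ℕ) (hn : 0 < n) :
    Nat.card {g : G // n ∣ orderOf g} = 0 ∨
      (Nat.card G / Nat.gcd (Nat.card G) (n ^ Nat.card G)) ∣ Nat.card {g : G // n ∣ orderOf g} := by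
  classical
  haveI := Fintype.ofFinite G
  refine Or.inr ?_
  set N := Nat.gcd (Nat.card G) (n ^ Nat.card G) with hN
  set M := Nat.card G / N with hM
  have hG0 : Nat.card G ≠ 0 := Nat.card_pos.ne'
  have hNd : N ∣ Nat.card G := Nat.gcd_dvd_left _ _
  have hNM : N * M = Nat.card G := Nat.mul_div_cancel' hNd
  have hpart : ∀ q : ℕ, q.Prime → q ∣ n → N.factorization q = (Nat.card G).factorization q := by
    intro q hq hqn
    rw [hN, Nat.factorization_gcd hG0 (pow_ne_zero _ (by omega)), Finsupp.inf_apply,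
      Nat.factorization_pow, Finsupp.smul_apply, smul_eq_mul, min_eq_left]
    have h1 : 1 ≤ n.factorization q := hq.factorization_pos_of_dvd (by omega) hqn
    exact le_trans (Nat.factorization_lt q hG0).le (Nat.le_mul_of_pos_right _ h1)
  have hMn : ∀ q : ℕ, q.Prime → q ∣ n → ¬ q ∣ M := by
    intro q hq hqn hqM
    have hN0 : N ≠ 0 := fun h0 => hG0 (by rw [← hNM, h0, zero_mul])
    have hM0 : M ≠ 0 := fun h0 => hG0 (by rw [← hNM, h0, mul_zero])
    have h3 := hq.factorization_pos_of_dvd hM0 hqM
    have h4 := congrArg (fun f => f q) (Nat.factorization_mul hN0 hM0)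
    simp only [hNM, Finsupp.add_apply, hpart q hq hqn] at h4
    omega
  have hcop : Nat.Coprime N M := by
    refine Nat.coprime_of_dvd fun q hq hqN hqM => hMn q hq ?_ hqM
    exact hq.dvd_of_dvd_pow (hqN.trans (Nat.gcd_dvd_right _ _))
  have hnM : Nat.Coprime n M := Nat.coprime_of_dvd fun q hq hqn hqM => hMn q hq hqn hqM
  have heq : Nat.card {g : G // n ∣ orderOf g} = Nat.card {g : G // g ^ (N * M) = 1 ∧ n ∣ orderOf g} :=
    Nat.card_congr (Equiv.subtypeEquivRight fun g => by
      rw [hNM, and_iff_right_of_imp]; intro _; exact pow_card_eq_one')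
  rw [heq, CfsgLib.FgsSix.card_split hcop (fun g => n ∣ orderOf g) (fun u => n ∣ orderOf u)]
  · refine CfsgLib.FgsSix.dvd_sum_of_conj_invariant _ _ _ ?_
      (fun u g => CfsgLib.FgsSix.card_commute_pow_conj M u g) ?_
    · intro u hu g
      simp only [Finset.mem_filter, Finset.mem_univ, true_and, conj_pow, conj_eq_one_iff] at hu ⊢
      rwa [← MulAut.conj_apply, MulEquiv.orderOf_eq]
    · intro u hu
      set C : Subgroup G := Subgroup.centralizer ({u} : Set G) with hC
      have hcount : Nat.card {v : G // Commute u v ∧ v ^ M = 1} = Nat.card {v : ↥C // v ^ M = 1} := by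
        refine Nat.card_congr
          ⟨fun v => ⟨⟨v.1, Subgroup.mem_centralizer_singleton_iff.2 v.2.1.eq.symm⟩, Subtype.ext v.2.2⟩,
            fun v => ⟨v.1.1, (Subgroup.mem_centralizer_singleton_iff.1 v.1.2).symm,
              congrArg Subtype.val v.2⟩, fun v => rfl, fun v => rfl⟩
      rw [hcount]
      refine dvd_trans ?_ (Nat.mul_dvd_mul_left _ (CfsgLib.FgsSix.gcd_dvd_card_pow_eq_one M))
      rw [← Nat.gcd_mul_left, mul_comm C.index (Nat.card ↥C), Subgroup.card_mul_index]
      exact Nat.dvd_gcd (Dvd.intro_left _ rfl) (Dvd.intro_left _ hNM)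
  · intro u v huv hu hv
    have hvM : orderOf v ∣ M := orderOf_dvd_iff_pow_eq_one.2 hv
    have huN : orderOf u ∣ N := orderOf_dvd_iff_pow_eq_one.2 hu
    rw [huv.orderOf_mul_eq_mul_orderOf_of_coprime
      ((hcop.coprime_dvd_left huN).coprime_dvd_right hvM)]
    exact ⟨fun h => (hnM.coprime_dvd_right hvM).dvd_of_dvd_mul_right h, fun h => dvd_mul_of_dvd_left h _⟩

end Cfsg.Agent.S3994
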