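import Cfsg.Statements.S5094
import Cfsg.Agent.Fusion.ZStarElements
import Cfsg.Agent.Fusion.Realized
import Cfsg.Agent.Fusion.NormalSubgroup

set_option autoImplicit false
open Cfsg

namespace Cfsg.Agent.S5094

/-- Glauberman's Z*-Theorem in fusion language: for a finite group G with Sylow 2-subgroup S, the centre of the fusion system of G on S is the set of elements of S whose image in G/O(G) is central, O(G) being the largest normal subgroup of odd order. -/
theorem result {G : Type*} [Group G] [Finite G] (S : Sylow 2 G) : (Cfsg.groupFusionSystem (S : Subgroup G)).center = (S : Subgroup G) ⊓ (Subgroup.center (G ⧸ Cfsg.oddCore G)).comap (QuotientGroup.mk' (Cfsg.oddCore G)) := by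
  have hF := CfsgLib.Fusion.isSaturated_groupFusion (p := 2) S
  refine le_antisymm (sSup_le fun Q hQ => ?_) fun x hx => ?_
  · intro x hxQ
    refine Subgroup.mem_inf.2 ⟨hQ.1 hxQ, Subgroup.mem_comap.2 (Subgroup.mem_center_iff.2 fun b => ?_)⟩
    obtain ⟨g, rfl⟩ := QuotientGroup.mk'_surjective (Cfsg.oddCore G) b
    have hiso : ∀ h : G, h * x * h⁻¹ ∈ S → h * x * h⁻¹ = x := by
      intro h hh
      have hle : Subgroup.zpowers x ≤ (S : Subgroup G) := Subgroup.zpowers_le.2 (hQ.1 hxQ)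
      have hφ : Cfsg.conjHom (Subgroup.zpowers x) h ∈
          (Cfsg.groupFusionSystem (S : Subgroup G)).Hom (Subgroup.zpowers x) := by
        refine ⟨hle, fun y => ?_, h, fun y => rfl⟩
        obtain ⟨i, hi⟩ := Subgroup.mem_zpowers_iff.1 y.2
        show h * (y : G) * h⁻¹ ∈ S
        rw [← hi, ← conj_zpow]
        exact zpow_mem hh i
      obtain ⟨ψ, -, h1, h2⟩ := hQ.2 _ _ hφ
      exact ((h1 ⟨x, Subgroup.mem_zpowers x⟩).symm.trans (h2 ⟨x, hxQ⟩) : h * x * h⁻¹ = x)
    have h := CfsgLib.Fusion.conj_eq_mod_oddCore _ S x (hQ.1 hxQ) le_rfl hiso g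
    rwa [map_mul, map_mul, map_inv, mul_inv_eq_iff_eq_mul] at h
  · obtain ⟨hxS, hxc⟩ := Subgroup.mem_inf.1 hx
    have hQ : (Cfsg.groupFusionSystem (S : Subgroup G)).IsCentral (Subgroup.zpowers x) := by
      refine CfsgLib.Fusion.isCentral_of_forall S.2 hF (Subgroup.zpowers_le.2 hxS) ?_
      rintro y hy _ ⟨φ, ⟨hle, hφS, g, hg⟩, rfl⟩
      have hyS : y ∈ (S : Subgroup G) := hle (Subgroup.mem_zpowers y)
      have hyc : QuotientGroup.mk' (Cfsg.oddCore G) y ∈ Subgroup.center (G ⧸ Cfsg.oddCore G) :=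
        Subgroup.mem_comap.1 (Subgroup.zpowers_le.2 hxc hy)
      set z := φ ⟨y, Subgroup.mem_zpowers y⟩ with hz
      have hzy : QuotientGroup.mk' (Cfsg.oddCore G) (y⁻¹ * z) = 1 := by
        rw [map_mul, map_inv, hz, hg, map_mul, map_mul, map_inv,
          Subgroup.mem_center_iff.1 hyc, mul_inv_cancel_right, inv_mul_cancel]
      have hO : y⁻¹ * z ∈ Cfsg.oddCore G := (QuotientGroup.eq_one_iff _).1 hzy
      have hS : y⁻¹ * z ∈ (S : Subgroup G) := mul_mem (inv_mem hyS) (hφS _)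
      have hbot : (S : Subgroup G) ⊓ Cfsg.oddCore G = ⊥ :=
        (CfsgLib.PLocal.disjoint_of_isPGroup_of_coprime S.2
          (CfsgLib.PLocal.coprime_card_pPrimeCore 2 G))
      exact (inv_mul_eq_one.1 (Subgroup.mem_bot.1 (hbot ▸ Subgroup.mem_inf.2 ⟨hS, hO⟩))).symm
    exact (le_sSup (s := {Q : Subgroup G | (Cfsg.groupFusionSystem (S : Subgroup G)).IsCentral Q}) hQ : Subgroup.zpowers x ≤ _) (Subgroup.mem_zpowers x)

end Cfsg.Agent.S5094
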