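import Cfsg.Statements.S0516
import Cfsg.Agent.Classification.RankTwoFusion.OfGroup
import Cfsg.Agent.S5094
import Cfsg.Agent.S0205
import Cfsg.Agent.S0949
-- import your own Cfsg.Agent.* helpers here

set_option autoImplicit false
open Cfsg

namespace Cfsg.Agent.S0516

/-- In a non-abelian finite simple group of 2-rank at most 2, a Sylow 2-subgroup is dihedral (of order at least 4),
quasi-dihedral, wreathed, or isomorphic to a Sylow 2-subgroup of the projective special unitary group of dimension 3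
over the field with 16 elements. -/
theorem result {G : Type*} [Group G] [Finite G] [IsSimpleGroup G]
    (hG : ¬ IsMulCommutative G) (h2 : Cfsg.PRankLE 2 2 G) (S : Sylow 2 G) {F : Type*} [Field F] [Fintype F]
    (hF : Fintype.card F = 16) (P : Sylow 2 (Cfsg.PSU 3 F 4)) :
    (∃ n : ℕ, 2 ≤ n ∧ Nonempty ((S : Subgroup G) ≃* DihedralGroup n)) ∨ Cfsg.IsQuasiDihedral (S : Subgroup G) ∨
      Cfsg.IsWreathed (S : Subgroup G) ∨ Nonempty ((S : Subgroup G) ≃* (P : Subgroup (Cfsg.PSU 3 F 4))) := by
  classical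
  haveI : Fact (Nat.Prime 2) := ⟨Nat.prime_two⟩
  have heven : ¬ Odd (Nat.card G) := fun hodd => by
    haveI := Cfsg.Agent.S0205.result hodd
    exact hG ⟨⟨fun a b => IsSimpleGroup.comm_iff_isSolvable.2 ‹_› a b⟩⟩
  have hO : Cfsg.oddCore G = ⊥ := (IsSimpleGroup.eq_bot_or_eq_top_of_normal _ inferInstance).resolve_right fun h => by
    have hco : (Nat.card (Cfsg.oddCore G)).Coprime 2 := CfsgLib.PLocal.coprime_card_pPrimeCore 2 G
    rw [h, Subgroup.card_top] at hco
    exact heven (Nat.coprime_two_right.1 hco)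
  have hZG : Subgroup.center G = ⊥ := (IsSimpleGroup.eq_bot_or_eq_top_of_normal _ inferInstance).resolve_right
    fun h => hG ⟨⟨fun a b => Subgroup.mem_center_iff.1 (h ▸ Subgroup.mem_top b) a⟩⟩
  have hZ : (Cfsg.groupFusionSystem (S : Subgroup G)).center = ⊥ := by
    refine eq_bot_iff.2 fun x hx => ?_
    rw [Cfsg.Agent.S5094.result S] at hx
    obtain ⟨-, hxc⟩ := Subgroup.mem_inf.1 hx
    rw [← hZG, Subgroup.mem_center_iff]
    intro g
    have h1 := Subgroup.mem_center_iff.1 (Subgroup.mem_comap.1 hxc) (QuotientGroup.mk' _ g)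
    rw [← map_mul, ← map_mul, QuotientGroup.mk'_eq_mk'] at h1
    obtain ⟨c, hc, hc'⟩ := h1
    rw [hO, Subgroup.mem_bot] at hc
    rw [hc, mul_one] at hc'
    exact hc'
  have hF' := CfsgLib.Fusion.isSaturated_groupFusion (p := 2) S
  have hr1 : ¬ Cfsg.PRankLE 2 1 (S : Subgroup G) := by
    intro hle
    have hdvd : 2 ∣ Nat.card G := by
      rw [← even_iff_two_dvd]; exact Nat.not_odd_iff_even.1 heven
    have hne : (S : Subgroup G) ≠ ⊥ := S.ne_bot_of_dvd_card hdvd
    haveI : Nontrivial (S : Subgroup G) := (Subgroup.nontrivial_iff_ne_bot _).2 hne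
    obtain ⟨z, -, hzc, hz, hz1⟩ :=
      CfsgLib.Classification.RankTwoFusion.exists_involution_center S.2 ⊤ (fun h => top_ne_bot h)
    have huniq : ∀ x : (S : Subgroup G), x * x = 1 → x = 1 ∨ x = z := by
      intro x hx
      by_contra hno
      push Not at hno
      have hzx : z * x = x * z := (Subgroup.mem_center_iff.1 hzc x).symm
      have hc := CfsgLib.Classification.RankTwoFusion.card_four hz hx hzx hz1 hno.1 (Ne.symm hno.2)
      have hle' := hle (CfsgLib.Classification.RankTwoFusion.four hz hx hzx) ⟨⟨fun a b => by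
        refine Subtype.ext ?_
        have key : ∀ p q : (S : Subgroup G), p * p = 1 → q * q = 1 → p * q * (p * q) = 1 → p * q = q * p :=
          fun p q hp hq h => by
            calc p * q = (p * q)⁻¹ := (inv_eq_of_mul_eq_one_right h).symm
              _ = q * p := by rw [mul_inv_rev, inv_eq_of_mul_eq_one_right hp, inv_eq_of_mul_eq_one_right hq]
        exact key _ _ (CfsgLib.Classification.RankTwoFusion.sq_of_mem_four a.2)
          (CfsgLib.Classification.RankTwoFusion.sq_of_mem_four b.2)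
          (CfsgLib.Classification.RankTwoFusion.sq_of_mem_four (mul_mem a.2 b.2))⟩⟩
        fun a ha => by rw [pow_two]; exact CfsgLib.Classification.RankTwoFusion.sq_of_mem_four ha
      omega
    obtain ⟨Q, α, hQc, hα, hzQ, hαz⟩ := CfsgLib.Classification.RankTwoFusion.exists_moving S.2 hF' hZ
      (z := (z : G)) z.2 (fun g hg => congrArg Subtype.val (Subgroup.mem_center_iff.1 hzc ⟨g, hg⟩))
      (fun h => hz1 (Subtype.ext h))
    have h2z : α ⟨(z : G), hzQ⟩ * α ⟨(z : G), hzQ⟩ = 1 := by
      rw [← map_mul, show (⟨(z : G), hzQ⟩ : Q) * ⟨(z : G), hzQ⟩ = 1 from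
        Subtype.ext (congrArg Subtype.val hz :), map_one]
    rcases huniq ⟨(α ⟨(z : G), hzQ⟩ : G), hQc.1 (α _).2⟩ (Subtype.ext (congrArg Subtype.val h2z :)) with e | e
    · exact hz1 (Subtype.ext (congrArg Subtype.val (α.map_eq_one_iff.1
        (show α ⟨(z : G), hzQ⟩ = 1 from Subtype.ext (congrArg Subtype.val e :))) :))
    · exact hαz (Subtype.ext (congrArg Subtype.val e :))
  rcases CfsgLib.Classification.RankTwoFusion.classify S.2 hF'
    (CfsgLib.Classification.RankTwoFusion.prankLE_sylow S h2) hr1 hZ hF P with h | h | h | ⟨n, hn, ⟨e⟩⟩ | h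
  · exact Or.inl h
  · exact Or.inr (Or.inl h)
  · exact Or.inr (Or.inr (Or.inl h))
  · exfalso
    obtain ⟨hN, -, -⟩ := Cfsg.Agent.S0949.result S n hn e fun N hN hodd =>
      (IsSimpleGroup.eq_bot_or_eq_top_of_normal N hN).resolve_right fun h => heven (by
        rwa [h, Subgroup.card_top] at hodd)
    rcases IsSimpleGroup.eq_bot_or_eq_top_of_normal _ hN with h | h
    · exact hr1 fun A _ _ => by
        haveI : Subsingleton (S : Subgroup G) := (Subgroup.eq_bot_iff_forall _).1 h |> fun hh =>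
          ⟨fun a b => Subtype.ext ((hh a a.2).trans (hh b b.2).symm)⟩
        exact le_trans (Finite.card_le_one_iff_subsingleton.2 inferInstance) (by norm_num)
    · refine hG ⟨⟨fun a b => ?_⟩⟩
      exact congrArg Subtype.val (e.injective (by rw [map_mul, map_mul, mul_comm]) :
        (⟨a, h ▸ Subgroup.mem_top a⟩ : (S : Subgroup G)) * ⟨b, h ▸ Subgroup.mem_top b⟩ =
          ⟨b, h ▸ Subgroup.mem_top b⟩ * ⟨a, h ▸ Subgroup.mem_top a⟩)
  · exact Or.inr (Or.inr (Or.inr h))

end Cfsg.Agent.S0516
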