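import Cfsg.Statements.S1248
import Cfsg.Agent.UThreeSylow.Structure

set_option autoImplicit false
open Cfsg

namespace Cfsg.Agent.S1248

open CfsgLib.UThreeSylow

/-- Let F be a field with 16 elements and S a Sylow 2-subgroup of PSU(3) over F (the unitary group U₃(4)). Then |S| = 64; the centre Z(S) is a Klein four-group and coincides with the subgroup generated by the involutions of S and with the derived subgroup; and every element of S ⧸ Z(S) squares to the identity, S ⧸ Z(S) having order 16. -/
theorem result {F : Type*} [Field F] [Fintype F] (hF : Fintype.card F = 16) (S : Sylow 2 (Cfsg.PSU 3 F 4)) : Nat.card S = 64 ∧ IsKleinFour (Subgroup.center (S : Subgroup (Cfsg.PSU 3 F 4))) ∧ Subgroup.center (S : Subgroup (Cfsg.PSU 3 F 4)) = Subgroup.closure {x : (S : Subgroup (Cfsg.PSU 3 F 4)) | orderOf x = 2} ∧ Subgroup.center (S : Subgroup (Cfsg.PSU 3 F 4)) = commutator (S : Subgroup (Cfsg.PSU 3 F 4)) ∧ Nat.card ((S : Subgroup (Cfsg.PSU 3 F 4)) ⧸ Subgroup.center (S : Subgroup (Cfsg.PSU 3 F 4))) = 16 ∧ ∀ x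 : (S : Subgroup (Cfsg.PSU 3 F 4)) ⧸ Subgroup.center (S : Subgroup (Cfsg.PSU 3 F 4)), x ^ 2 = 1 := by
  have h : Good F 2 4 := ⟨by norm_num, by norm_num, by rw [hF]; norm_num⟩
  obtain ⟨e⟩ := nonempty_equiv_sylow_PSU h S
  have hcen : (Subgroup.center (uSub h)).map e.toMonoidHom =
      Subgroup.center (S : Subgroup (Cfsg.PSU 3 F 4)) := by
    ext y
    constructor
    · rintro ⟨x, hx, rfl⟩
      refine Subgroup.mem_center_iff.2 fun z => ?_
      rw [← e.apply_symm_apply z]
      show e _ * e x = e x * e _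
      rw [← map_mul, ← map_mul, Subgroup.mem_center_iff.1 hx]
    · intro hy
      refine ⟨e.symm y, Subgroup.mem_center_iff.2 fun z => e.injective ?_, e.apply_symm_apply y⟩
      rw [map_mul, map_mul, e.apply_symm_apply]
      exact Subgroup.mem_center_iff.1 hy (e z)
  have hS : Nat.card S = 64 := by
    refine (Nat.card_congr e.toEquiv).symm.trans ?_
    rw [card_uSub]; norm_num
  have hc4 : Nat.card (Subgroup.center (S : Subgroup (Cfsg.PSU 3 F 4))) = 4 :=
    ((Nat.card_congr (Subgroup.centerCongr e).toEquiv).symm).trans (card_center h)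
  have hsq : ∀ x : uSub h, x * x ∈ Subgroup.center (uSub h) := fun x =>
    mem_center_iff.2 (coords_sq x).1
  refine ⟨hS, ⟨hc4, ?_⟩, ?_, ?_, ?_, ?_⟩
  · haveI : Nontrivial (Subgroup.center (S : Subgroup (Cfsg.PSU 3 F 4))) :=
      Finite.one_lt_card_iff_nontrivial.1 (by omega)
    refine (Monoid.exponent_eq_prime_iff Nat.prime_two).2 ?_
    intro g hg
    obtain ⟨x, hx, hxg⟩ := hcen.ge g.2
    refine orderOf_eq_prime (Subtype.ext ?_) hg
    rw [SubgroupClass.coe_pow, ← hxg, sq]
    show e x * e x = 1
    rw [← map_mul, sq_eq_one_iff.2 (mem_center_iff.1 hx), map_one]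
  · rw [← hcen, center_eq_closure h, MonoidHom.map_closure]
    congr 1
    ext y
    constructor
    · rintro ⟨x, hx, rfl⟩
      exact (e.orderOf_eq x).trans hx
    · intro hy
      exact ⟨e.symm y, (e.symm.orderOf_eq y).trans hy, e.apply_symm_apply y⟩
  · rw [← hcen, center_eq_commutator h, commutator_def, Subgroup.map_commutator,
      Subgroup.map_top_of_surjective _ e.surjective]
    rfl
  · have h1 := Subgroup.card_eq_card_quotient_mul_card_subgroup
      (Subgroup.center (S : Subgroup (Cfsg.PSU 3 F 4)))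
    rw [hS, hc4] at h1
    omega
  · intro x
    induction x using QuotientGroup.induction_on with
    | H x =>
    rw [← QuotientGroup.mk_pow, QuotientGroup.eq_one_iff, ← hcen, sq]
    refine ⟨e.symm x * e.symm x, hsq _, ?_⟩
    show e (e.symm x * e.symm x) = x * x
    rw [map_mul, e.apply_symm_apply]

end Cfsg.Agent.S1248
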