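import Cfsg.Statements.S0219
import Mathlib.GroupTheory.Transfer

set_option autoImplicit false
open Cfsg

namespace Cfsg.Agent.S0219

/-- A group of even order with a cyclic Sylow 2-subgroup has a subgroup of index two. -/
theorem index_two_of_cyclic {G : Type*} [Group G] [Finite G] (heven : Even (Nat.card G))
    (T : Sylow 2 G) (hT : IsCyclic (T : Subgroup G)) : ∃ H : Subgroup G, H.index = 2 := by
  haveI : Fact (Nat.Prime 2) := ⟨Nat.prime_two⟩
  have hmin : (Nat.card G).minFac = 2 :=
    (Nat.minFac_eq_two_iff _).2 (even_iff_two_dvd.1 heven)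
  obtain ⟨φ, hφ⟩ : ∃ φ : G →* ↥(T : Subgroup G), Subgroup.IsComplement' φ.ker T :=
    ⟨_, IsCyclic.isComplement' hmin hT⟩
  have hφs : Function.Surjective φ := by
    intro x
    have hinj : Function.Injective fun y : ↥(T : Subgroup G) => φ y := by
      intro a b hab
      have h1 : (a : G)⁻¹ * b ∈ φ.ker := by
        rw [MonoidHom.mem_ker, map_mul, map_inv]
        exact inv_mul_eq_one.2 hab
      have h2 : (a : G)⁻¹ * b ∈ (T : Subgroup G) := mul_mem (inv_mem a.2) b.2
      exact Subtype.ext (inv_mul_eq_one.1 (Subgroup.disjoint_def.1 hφ.disjoint h1 h2))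
    obtain ⟨y, hy⟩ := (Finite.injective_iff_surjective.1 hinj) x
    exact ⟨y, hy⟩
  have hcard : 2 ∣ Nat.card ↥(T : Subgroup G) :=
    T.dvd_card_of_dvd_card (even_iff_two_dvd.1 heven)
  obtain ⟨g, hg⟩ := hT.exists_generator
  obtain ⟨m, hm⟩ := hcard
  refine ⟨(Subgroup.zpowers (g ^ 2)).comap φ, ?_⟩
  rw [Subgroup.index_comap_of_surjective _ hφs]
  have h1 := Subgroup.card_mul_index (Subgroup.zpowers (g ^ 2))
  rw [Nat.card_zpowers, orderOf_pow' g two_ne_zero, orderOf_eq_card_of_forall_mem_zpowers hg, hm,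
    Nat.gcd_eq_right (dvd_mul_right 2 m), Nat.mul_div_cancel_left _ two_pos, mul_comm 2 m] at h1
  refine Nat.eq_of_mul_eq_mul_left ?_ h1
  have := Nat.card_pos (α := ↥(T : Subgroup G))
  omega

/-- If a finite group has even order and a cyclic Sylow 2-subgroup, then it has a subgroup of index 2 (consider the parity of permutations in the regular representation). -/
theorem result {G : Type*} [Group G] [Finite G] (heven : Even (Nat.card G)) (T : Sylow 2 G) (hT : IsCyclic (T : Subgroup G)) : ∃ H : Subgroup G, H.index = 2 := by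
  exact index_two_of_cyclic heven T hT

end Cfsg.Agent.S0219
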