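import Cfsg.Statements.S0255
import Cfsg.Agent.Linear.SmallIsoC

set_option autoImplicit false
open Cfsg

namespace Cfsg.Agent.S0255

/-- PSL_2(7) is isomorphic to PSL_3(2). -/
theorem result {F K : Type*} [Field F] [Fintype F] [Field K] [Fintype K] (hF : Fintype.card F = 7) (hK : Fintype.card K = 2) : Nonempty (Matrix.ProjectiveSpecialLinearGroup (Fin 2) F ≃* Matrix.ProjectiveSpecialLinearGroup (Fin 3) K) := by
  have hp7 : Fact (Nat.Prime 7) := ⟨by norm_num⟩
  open CfsgLib.Linear in
  obtain ⟨e⟩ := psl_equiv_of_check (K := ZMod 7) (F := F) (by rw [hF]; decide +kernel) (slRep 3 (ZMod 2))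
    Matrix.SpecialLinearGroup.coeMonoidHom_injective psl27Gens psl27Cert
    (nG := 336) (nH := 168) (z := 2) (by rw [card_GL_two]; decide +kernel) (by decide +kernel) le_rfl rfl
    (by
      have h := card_SL_mul (n := Fin 3) (F := ZMod 2)
      rw [Matrix.card_GL_field, ZMod.card] at h
      simpa [Fin.prod_univ_three] using h)
    psl27_check
  have hc : Subgroup.center (Matrix.SpecialLinearGroup (Fin 3) (ZMod 2)) = ⊥ := by
    apply Subgroup.eq_bot_of_card_eq
    rw [card_center_SL, Fintype.card_fin, ZMod.card]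
    rfl
  exact ⟨(e.trans ((QuotientGroup.quotientBot (G := Matrix.SpecialLinearGroup (Fin 3) (ZMod 2))).symm.trans
    (QuotientGroup.quotientMulEquivOfEq hc.symm))).trans (pslFieldCongr (by rw [hK]; rfl))⟩

end Cfsg.Agent.S0255
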