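import Cfsg.Statements.S0605

import Cfsg.Agent.PLocal.Thompson

set_option autoImplicit false
open Cfsg Subgroup CfsgLib.PLocal
open scoped commutatorElement

namespace Cfsg.Agent.S0605

/-- Elements of order p in the centralizer of the Thompson subgroup belong to the Thompson subgroup (so to its centre). -/
theorem result {G : Type*} [Group G] [Finite G] {p : ℕ} [Fact p.Prime] (x : G) (hx : x ∈ Subgroup.centralizer (Cfsg.thompsonSubgroup p G : Set G)) (ho : orderOf x = p) : x ∈ Cfsg.thompsonSubgroup p G := by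
  obtain ⟨A, hA⟩ := maxEAIn_nonempty p (⊤ : Subgroup G)
  rw [← maxEA_eq_maxEAIn_top] at hA
  have hAJ : A ≤ Cfsg.thompsonSubgroup p G := le_sSup hA
  refine hAJ ?_
  have hsup : IsElementaryAbelian p (Subgroup.zpowers x ⊔ A) :=
    isElementaryAbelian_sup (isElementaryAbelian_zpowers (ho ▸ pow_orderOf_eq_one x)) hA.1
      (zpowers_le.mpr (centralizer_le hAJ hx))
  have heq : A = Subgroup.zpowers x ⊔ A := eq_of_le_of_card_ge le_sup_right (hA.2 _ hsup)
  rw [heq]
  exact le_sup_left (b := A) (mem_zpowers x)

end Cfsg.Agent.S0605
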