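import Cfsg.Statements.S0607

import Cfsg.Agent.PLocal.Replacement
import Cfsg.Agent.S0599
import Cfsg.Agent.S0606

set_option autoImplicit false
open Cfsg Subgroup CfsgLib.PLocal
open scoped commutatorElement

namespace Cfsg.Agent.S0607

/-- The replacement Theorem for the Thompson subgroup: from A of maximal order among elementary abelian p-subgroups one obtains A₀ = [V, A] C_A([V, A]) of the same kind, quadratic on V and nontrivial on V when A is. -/
theorem result {G : Type*} [Group G] [Finite G] {p : ℕ} [Fact p.Prime] (V : Subgroup G) [V.Normal] (hV : Cfsg.IsElementaryAbelian p V) (A : Subgroup G) (hA : A ∈ Cfsg.maxElementaryAbelianSubgroups p G) : (⁅V, A⁆ ⊔ (A ⊓ Subgroup.centralizer ((⁅V, A⁆ : Subgroup G) : Set G))) ∈ Cfsg.maxElementaryAbelianSubgroups p G ∧ ⁅⁅V, ⁅V, A⁆ ⊔ (A ⊓ Subgroup.centralizer ((⁅V, A⁆ : Subgroup G) : Set G))⁆, ⁅V, A⁆ ⊔ (A ⊓ Subgroup.centralizer ((⁅V, A⁆ : Subgroup G) : Set G))⁆ = ⊥ ∧ (⁅V, A⁆ ≠ ⊥ → ⁅V, ⁅V, A⁆ ⊔ (A ⊓ Subgroup.centralizer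 ((⁅V, A⁆ : Subgroup G) : Set G))⁆ ≠ ⊥) := by
  have hAV : A ≤ Subgroup.normalizer (V : Set G) := le_top.trans (normalizer_eq_top V).ge
  have hbest := Cfsg.Agent.S0606.result V hV A hA
  obtain ⟨h1, h2, h3⟩ := Cfsg.Agent.S0599.result V A hV hAV hbest V le_rfl
  obtain ⟨hw, -⟩ := replacement hV.1 hAV hbest.2.1 hbest.1 (le_refl V)
  set X := ⁅V, A⁆ with hX
  set B := A ⊓ Subgroup.centralizer (X : Set G) with hB
  have hXV : X ≤ V := commutator_le_of_le_normalizer hAV
  have hXB : X ≤ Subgroup.centralizer (B : Set G) := le_centralizer_iff.mp inf_le_right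
  have hCA : V ⊓ Subgroup.centralizer (A : Set G) = V ⊓ A := by
    refine le_antisymm (le_inf inf_le_left ?_)
      (inf_le_inf_left _ (le_centralizer_iff_isMulCommutative.mpr hA.1.1))
    have hsup : IsElementaryAbelian p ((V ⊓ Subgroup.centralizer (A : Set G)) ⊔ A) :=
      isElementaryAbelian_sup (isElementaryAbelian_of_le hV inf_le_left) hA.1 inf_le_right
    have := eq_of_le_of_card_ge le_sup_right (hA.2 _ hsup)
    exact le_sup_left.trans this.ge
  have hVA : V ⊓ A ≤ B :=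
    le_inf inf_le_right
      ((inf_le_left.trans (le_centralizer_iff_isMulCommutative.mpr hV.1)).trans (centralizer_le hXV))
  have hsupB : V ⊓ Subgroup.centralizer (B : Set G) ⊔ B = X ⊔ B := by
    rw [h2, hCA, sup_assoc, sup_eq_right.mpr hVA]
  have hE : IsElementaryAbelian p (X ⊔ B) :=
    isElementaryAbelian_sup (isElementaryAbelian_of_le hV hXV)
      (isElementaryAbelian_of_le hA.1 inf_le_left) hXB
  have hcard := card_sup_mul_card_inf (A := V ⊓ Subgroup.centralizer (B : Set G)) (B := B)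
    ((inf_le_right).trans (centralizer_le_normalizer _))
  have hle : V ⊓ Subgroup.centralizer (B : Set G) ⊓ B ≤ V ⊓ A := fun x hx => ⟨hx.1.1, hx.2.1⟩
  have hge : Nat.card A ≤ Nat.card ↥(X ⊔ B) := by
    refine Nat.le_of_mul_le_mul_right ?_ (Nat.card_pos (α := ↥(V ⊓ A)))
    have e : Nat.card A * Nat.card ↥(V ⊓ A) = Nat.card B * Nat.card ↥(V ⊓ Subgroup.centralizer (B : Set G)) := by
      rw [← hCA]; exact hw.symm
    rw [e, mul_comm (Nat.card B), ← hcard, hsupB]
    exact Nat.mul_le_mul_left _ (card_le_of_le hle)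
  have hcomm : ⁅V, X ⊔ B⁆ ≤ X := by
    rw [commutator_le]
    intro v hv y hy
    obtain ⟨x, hx, b, hb, rfl⟩ := CfsgLib.Coprime.exists_mul_of_mem_sup
      ((le_centralizer_iff.mp hXB).trans (centralizer_le_normalizer _)) hy
    rw [commutatorElement_mul_right_eq_mul_conj,
      commutatorElement_eq_one_iff_mul_comm.mpr (comm_of_isMulCommutative hV.1 hv (hXV hx)), one_mul]
    exact mul_mem (mul_mem hx (commutator_mem_commutator hv hb.1)) (inv_mem hx)
  refine ⟨⟨hE, fun D hD => (hA.2 D hD).trans hge⟩, ?_, fun hne hbot => ?_⟩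
  · rw [commutator_eq_bot_iff_le_centralizer]
    exact hcomm.trans (le_sup_left.trans (le_centralizer_iff_isMulCommutative.mpr hE.1))
  · exact h3 hne (le_bot_iff.mp (hbot ▸ commutator_mono le_rfl le_sup_right))

end Cfsg.Agent.S0607
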