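import Cfsg.Statements.S1082
import Cfsg.Agent.ChevClassical.DataD4

set_option autoImplicit false
open Cfsg

namespace Cfsg.Agent.S1082

/-- D₄(F) ≅ PΩ₈⁺(F), the commutator subgroup of the orthogonal group of `Σ xᵢ yᵢ` modulo its centre. -/
theorem result {F : Type*} [Field F] : Nonempty (↥(Cfsg.Lie.chevD4.group F) ≃* Cfsg.POmega F (Cfsg.quadFormPlus 4 F)) := by
  have hQ : quadFormPlus 4 F = CfsgLib.ChevClassical.frameD4.Q F := by
    funext v
    simp [quadFormPlus, CfsgLib.ChevClassical.Frame.Q, CfsgLib.ChevClassical.frameD4,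
      Fintype.sum_sum_type]
  rw [hQ]
  exact CfsgLib.ChevClassical.nonempty_equiv_POmega CfsgLib.ChevClassical.modelD4_ok
    (Or.inr (by decide))

end Cfsg.Agent.S1082
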