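import Cfsg.Statements.S1074
import Cfsg.Agent.ReeF4.TitsSimple

set_option autoImplicit false
open Cfsg

namespace Cfsg.Agent.S1074

/-- The facts for any field of two elements. -/
theorem aux {K : Type} [Field K] [Finite K] [CharP K 2] [Fact (Nat.card K = 2)] :
    (commutator ↥(Cfsg.Lie.twistedF4 K 1)).index = 2 ∧
      IsSimpleGroup ↥(commutator ↥(Cfsg.Lie.twistedF4 K 1)) ∧
      ¬ IsMulCommutative ↥(commutator ↥(Cfsg.Lie.twistedF4 K 1)) ∧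
      Nat.card ↥(commutator ↥(Cfsg.Lie.twistedF4 K 1)) = 2 ^ 11 * 3 ^ 3 * 5 ^ 2 * 13 :=
  CfsgLib.ReeF4.tits_facts (K := K)

/-- ²F₄(2)′ has index 2 in ²F₄(2), is simple, and has order `2¹¹ · 3³ · 5² · 13`. -/
theorem result : (commutator ↥(Cfsg.Lie.twistedF4 (ZMod 2) 1)).index = 2 ∧ IsSimpleGroup Cfsg.Lie.TitsGroup ∧ ¬ IsMulCommutative Cfsg.Lie.TitsGroup ∧
    Nat.card Cfsg.Lie.TitsGroup = 2 ^ 11 * 3 ^ 3 * 5 ^ 2 * 13 := by
  haveI : Fact (Nat.card (ZMod 2) = 2) := ⟨Nat.card_zmod 2⟩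
  exact aux (K := ZMod 2)

end Cfsg.Agent.S1074
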