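import Cfsg.Statements.S4488
import Cfsg.Agent.PRational.Basic

set_option autoImplicit false
open Cfsg

namespace Cfsg.Agent.S4488

/-- Let the finite group G have a faithful p-rational character χ of degree n (all values of χ lie in the field generated over ℚ by a root of unity of order prime to p), and let p^a be the order of a Sylow p-subgroup of G. Then a ≤ Σ_{i ≥ 0} ⌊n / ((p − 1)·p^i)⌋ (a finite sum; the terms vanish once (p − 1)p^i > n). -/
theorem result {G : Type*} [Group G] [Finite G] (p : ℕ) (hp : p.Prime) (χ : G → ℂ) (hχ : Cfsg.IsCharacter G χ) (hfaith : ∀ g : G, χ g = χ 1 → g = 1) (hrat : (∃ r : ℕ, 0 < r ∧ ¬ p ∣ r ∧ ∀ g : G, χ g ∈ IntermediateField.adjoin ℚ ({Complex.exp (2 * Real.pi * Complex.I / r)} : Set ℂ))) (n : ℕ) (hn : Cfsg.charDegree χ = n) : (Nat.card G).factorization p ≤ ∑ i ∈ Finset.range (n + 1), n / ((p - 1) * p ^ i) := by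
  obtain ⟨r, hr, hpr, hval⟩ := hrat
  obtain ⟨m₀, hm₀⟩ := CfsgLib.Characters.exists_degree hχ
  have hone : χ 1 = (n : ℂ) := by
    rw [← hn, Cfsg.charDegree, hm₀]
    simp
  haveI : Fact p.Prime := ⟨hp⟩
  obtain ⟨P⟩ := (inferInstance : Nonempty (Sylow p G))
  letI : Fintype (P : Subgroup G) := Fintype.ofFinite _
  set m := n / (p - 1) with hm
  have hp1 : 0 < p - 1 := by have := hp.two_le; omega
  -- Blichfeldt's polynomial
  let Q : Polynomial ℤ := ∏ j ∈ Finset.Icc 1 m, (Polynomial.X - Polynomial.C ((n : ℤ) - p * j))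
  obtain ⟨z, hz⟩ := CfsgLib.PRational.sum_eval_char
    (CfsgLib.Characters.isCharacter_restrict (P : Subgroup G) hχ) Q
  have hQ : ∀ x : ℂ, Polynomial.aeval x Q = ∏ j ∈ Finset.Icc 1 m, (x - ((n : ℂ) - p * j)) := by
    intro x
    simp [Q, map_prod]
  rw [Finset.sum_eq_single (1 : (P : Subgroup G))] at hz
  rotate_left
  · intro u _ hu
    obtain ⟨k, hk⟩ := (IsPGroup.iff_orderOf.1 P.isPGroup') u
    rw [← Subgroup.orderOf_coe] at hk
    have hu' : ((u : (P : Subgroup G)) : G) ≠ 1 := fun e => hu (Subtype.ext e)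
    cases k with
    | zero =>
      rw [pow_zero, orderOf_eq_one_iff] at hk
      exact absurd hk hu'
    | succ k =>
      obtain ⟨j, hj1, hjn, hjv⟩ := CfsgLib.PRational.value_of_prime_power p hp hχ n hone hr hpr hval
        (u : G) k hk (fun e => hu' (hfaith _ e))
      rw [hQ]
      refine Finset.prod_eq_zero (i := j) (Finset.mem_Icc.2 ⟨hj1, ?_⟩) ?_
      · rw [hm, Nat.le_div_iff_mul_le hp1, mul_comm]; exact hjn
      · show χ (u : G) - _ = 0
        rw [hjv]; ring
  · intro h; exact absurd (Finset.mem_univ _) h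
  rw [hQ] at hz
  have hprod : ∀ l : ℕ, ∏ j ∈ Finset.Icc 1 l, ((p : ℂ) * (j : ℂ)) = ((p ^ l * l.factorial : ℕ) : ℂ) := by
    intro l
    induction l with
    | zero => simp
    | succ l ih =>
      rw [Finset.prod_Icc_succ_top (by omega), ih, Nat.factorial_succ]
      push_cast
      ring
  have hleft : ∏ j ∈ Finset.Icc 1 m, (χ ((1 : (P : Subgroup G)) : G) - ((n : ℂ) - p * j)) =
      ∏ j ∈ Finset.Icc 1 m, ((p : ℂ) * (j : ℂ)) := by
    refine Finset.prod_congr rfl fun j _ => ?_
    rw [OneMemClass.coe_one, hone]; ring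
  rw [hleft, hprod] at hz
  have hdiv : (Nat.card (P : Subgroup G) : ℤ) ∣ ((p ^ m * m.factorial : ℕ) : ℤ) :=
    ⟨z, by exact_mod_cast hz⟩
  rw [Int.natCast_dvd_natCast, P.card_eq_multiplicity,
    hp.pow_dvd_iff_le_factorization (Nat.mul_ne_zero (pow_ne_zero _ hp.ne_zero) (Nat.factorial_ne_zero m)),
    Nat.factorization_mul (pow_ne_zero _ hp.ne_zero) (Nat.factorial_ne_zero m),
    hp.factorization_pow] at hdiv
  simp only [Finsupp.add_apply, Finsupp.single_eq_same] at hdiv
  refine hdiv.trans (le_of_eq ?_)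
  rw [Nat.factorization_def _ hp, padicValNat_factorial (p := p) (b := n + 1)
    (Nat.lt_succ_of_le ((Nat.log_le_self p m).trans (Nat.div_le_self _ _))),
    Finset.range_eq_Ico, ← Finset.insert_Ico_add_one_left_eq_Ico (by omega : 0 < n + 1),
    Finset.sum_insert (by simp), pow_zero, mul_one]
  congr 1
  refine Finset.sum_congr rfl fun i _ => ?_
  rw [hm, Nat.div_div_eq_div_mul]

end Cfsg.Agent.S4488
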