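import Cfsg.Statements.S0685
import Mathlib
import Cfsg.Agent.Perm.RegularLinear
-- import your own Cfsg.Agent.* helpers here

set_option autoImplicit false
open Cfsg

namespace Cfsg.Agent.S0685

/-- In a linear group over the prime field that is regular on non-zero vectors and has no irreducible cyclic normal subgroup, a maximal normal abelian subgroup is properly contained in its centraliser, which is non-abelian. -/
theorem result {p : ℕ} [Fact p.Prime] {V : Type*} [AddCommGroup V] [Module (ZMod p) V] [Finite V] (H : Subgroup (V ≃ₗ[ZMod p] V)) (hreg : ∀ v w : V, v ≠ 0 → w ≠ 0 → ∃! h : H, (h : V ≃ₗ[ZMod p] V) v = w) (hI : ∀ A : Subgroup H, A.Normal → IsCyclic A → ∃ W : Submodule (ZMod p) V, W ≠ ⊥ ∧ W ≠ ⊤ ∧ ∀ a ∈ A, ∀ v ∈ W, ((a : H) : V ≃ₗ[ZMod p] V) v ∈ W) (A : Subgroup H) (hAn : A.Normal) (hAc : IsMulCommutative A) (hAmax : ∀ B : Subgroup H, B.Normal → IsMulCommutative B → A ≤ B → B = A) : A < Subgroup.centralizer (A : Set H) ∧ ¬ IsMulCommutative (Subgroup.centralizer (A : Set H)) :=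 by
  classical
  haveI : Nontrivial V := by
    obtain ⟨W, h1, h2, -⟩ := hI ⊥ inferInstance inferInstance
    obtain ⟨v, -, hv⟩ := Submodule.exists_mem_ne_zero_of_ne_bot h1
    exact nontrivial_of_ne v 0 hv
  haveI := hAc
  haveI := CfsgLib.Perm.RegularLinear.finite_group H hreg
  obtain ⟨-, W, -, ⟨hW, -, -⟩, hdvd, hdim, hidx⟩ :=
    CfsgLib.Perm.RegularLinear.setup H hreg hI A hAn
  have hle : A ≤ Subgroup.centralizer (A : Set H) := fun x hx => by
    rw [Subgroup.mem_centralizer_iff]
    exact fun y hy => congrArg Subtype.val (mul_comm' (⟨y, hy⟩ : A) ⟨x, hx⟩)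
  have hne : A ≠ Subgroup.centralizer (A : Set H) := by
    intro he
    have hH := CfsgLib.Perm.RegularLinear.card_add_one H hreg
    rw [Module.natCard_eq_pow_finrank (K := ZMod p) (V := V), Nat.card_zmod] at hH
    rw [← he] at hidx
    have hmul := Subgroup.card_mul_index A
    have hd1 : 1 ≤ Module.finrank (ZMod p) W := Submodule.one_le_finrank_iff.2 hW
    set d := Module.finrank (ZMod p) W
    have hp2 := (Fact.out : p.Prime).two_le
    have hlt : d < p ^ d := Nat.lt_pow_self hp2
    have hA : Nat.card A ≤ p ^ d - 1 := Nat.le_of_dvd (by omega) hdvd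
    have h2d : p ^ (2 * d) ≤ p ^ Module.finrank (ZMod p) V :=
      Nat.pow_le_pow_right (by omega) hdim
    rw [two_mul, pow_add] at h2d
    have : Nat.card H ≤ (p ^ d - 1) * d := hmul ▸ Nat.mul_le_mul hA hidx
    have hh : (p ^ d - 1) * d + 1 < p ^ d * p ^ d := by
      calc (p ^ d - 1) * d + 1 < p ^ d * (d + 1) := by
            obtain ⟨m, hm⟩ : ∃ m, p ^ d = m + 1 := ⟨p ^ d - 1, by omega⟩
            rw [hm, Nat.add_sub_cancel]
            nlinarith
        _ ≤ p ^ d * p ^ d := Nat.mul_le_mul_left _ hlt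
    omega
  refine ⟨lt_of_le_of_ne hle hne, fun hc => hne ?_⟩
  haveI : (Subgroup.centralizer (A : Set H)).Normal := by
    haveI := hAn
    infer_instance
  exact (hAmax _ inferInstance hc hle).symm

end Cfsg.Agent.S0685
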