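import Cfsg.Statements.S0688
import Mathlib
import Cfsg.Agent.Perm.RegularLinearSolvable
import Cfsg.Agent.S0685
-- import your own Cfsg.Agent.* helpers here

set_option autoImplicit false
open Cfsg

namespace Cfsg.Agent.S0688

/-- Degrees of the soluble exceptional sharply doubly transitive groups: if a solvable linear group over the prime field is regular on the non-zero vectors of `V` and has no irreducible cyclic normal subgroup, then `V` has 25, 49, 121 or 529 elements. -/
theorem result {p : ℕ} [Fact p.Prime] {V : Type*} [AddCommGroup V] [Module (ZMod p) V] [Finite V] (H : Subgroup (V ≃ₗ[ZMod p] V)) (hreg : ∀ v w : V, v ≠ 0 → w ≠ 0 → ∃! h : H, (h : V ≃ₗ[ZMod p] V) v = w) (hI : ∀ A : Subgroup H, A.Normal → IsCyclic A → ∃ W : Submodule (ZMod p) V, W ≠ ⊥ ∧ W ≠ ⊤ ∧ ∀ a ∈ A, ∀ v ∈ W, ((a : H) : V ≃ₗ[ZMod p] V) v ∈ W) (hsolv : Group.IsSolvable H) : Nat.card V = 25 ∨ Nat.card V = 49 ∨ Nat.card V = 121 ∨ Nat.card V = 529 := by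
  classical
  haveI : Nontrivial V := by
    obtain ⟨W, h1, h2, -⟩ := hI ⊥ inferInstance inferInstance
    obtain ⟨v, -, hv⟩ := Submodule.exists_mem_ne_zero_of_ne_bot h1
    exact nontrivial_of_ne v 0 hv
  haveI := CfsgLib.Perm.RegularLinear.finite_group H hreg
  haveI := hsolv
  obtain ⟨A, -, hAmax'⟩ := Finite.exists_le_maximal
    (p := fun B : Subgroup H => B.Normal ∧ IsMulCommutative B) (a := ⊥)
    ⟨inferInstance, inferInstance⟩
  obtain ⟨hAn, hAc⟩ := hAmax'.1
  haveI := hAn
  haveI := hAc
  have hAmax : ∀ B : Subgroup H, B.Normal → IsMulCommutative B → A ≤ B → B = A :=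
    fun B h1 h2 h3 => le_antisymm (hAmax'.2 ⟨h1, h2⟩ h3) h3
  have hlt := (Cfsg.Agent.S0685.result H hreg hI A hAn hAc hAmax).1
  obtain ⟨k, hk, h4k, hk24, h2A, hp2, hqA, x, hxC, hx4, hxA⟩ :=
    CfsgLib.Perm.RegularLinear.solvable_bounds hreg hAmax hlt
  obtain ⟨-, W, -, ⟨hW, -, -⟩, hdvd, hdim, hidx⟩ :=
    CfsgLib.Perm.RegularLinear.setup H hreg hI A hAn
  have hCH := Subgroup.card_mul_index (Subgroup.centralizer (A : Set H))
  have hH := CfsgLib.Perm.RegularLinear.card_add_one H hreg
  rw [Module.natCard_eq_pow_finrank (K := ZMod p) (V := V), Nat.card_zmod] at hH ⊢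
  set d := Module.finrank (ZMod p) W with hd
  set n := Module.finrank (ZMod p) V with hn
  have hd1 : 1 ≤ d := Submodule.one_le_finrank_iff.2 hW
  set j := (Subgroup.centralizer (A : Set H)).index with hj
  set a := Nat.card A with ha
  rw [← hk] at hCH
  have hj0 : 0 < j := Nat.pos_of_ne_zero Subgroup.index_ne_zero_of_finite
  clear_value d n j a
  -- a prime at least five and larger than `d` dividing the order divides `|A|`
  have hbad : ∀ q : ℕ, q.Prime → 5 ≤ q → d < q → q ∣ p ^ n - 1 → q ∣ p ^ d - 1 := by
    intro q hq h5 hqd hqn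
    rw [show p ^ n - 1 = Nat.card H by omega, ← hCH] at hqn
    rcases (Nat.Prime.dvd_mul hq).1 hqn with h | h
    · exact (hqA q hq h5 (hk ▸ h)).trans hdvd
    · exact absurd (Nat.le_of_dvd hj0 h) (by omega)
  have hp3 : 3 ≤ p := by
    have := (Fact.out : p.Prime).two_le
    omega
  have hpd1 : 1 < p ^ d := Nat.one_lt_pow (by omega) (by omega)
  have hbound : p ^ n ≤ (p ^ d - 1) * (24 * d) + 1 := by
    rw [← hH, ← hCH, mul_assoc]
    exact Nat.add_le_add_right (Nat.mul_le_mul (Nat.le_of_dvd (by omega) hdvd)
      (Nat.mul_le_mul hk24 hidx)) 1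
  have hpd : p ^ d + 1 ≤ 24 * d := by
    have h2 : p ^ d * p ^ d ≤ p ^ n := by
      rw [← pow_add]; exact Nat.pow_le_pow_right (by omega) (by omega)
    obtain ⟨m, hm⟩ : ∃ m, p ^ d = m + 2 := ⟨p ^ d - 2, by omega⟩
    rw [hm] at h2 hbound ⊢
    rw [show m + 2 - 1 = m + 1 from rfl] at hbound
    nlinarith
  have h3d : ∀ m, 24 * (m + 5) < 3 ^ (m + 5) := by
    intro m
    induction m with
    | zero => norm_num
    | succ m ih => rw [show m + 1 + 5 = (m + 5) + 1 from rfl, pow_succ]; omega
  have hd4 : d ≤ 4 := by
    by_contra h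
    have h1 := h3d (d - 5)
    rw [show d - 5 + 5 = d by omega] at h1
    have h2 : 3 ^ d ≤ p ^ d := Nat.pow_le_pow_left hp3 d
    omega
  have hp23 : p ≤ 24 * d := by
    have : p ≤ p ^ d := Nat.le_self_pow (by omega) p
    omega
  have hpP : p.Prime := Fact.out
  have hnlt : ∀ B, (p ^ d - 1) * (24 * d) + 1 < p ^ B → n < B := by
    intro B hB
    by_contra h
    have : p ^ B ≤ p ^ n := Nat.pow_le_pow_right (by omega) (by omega)
    omega
  interval_cases d
  · -- `d = 1`
    rw [pow_one] at hpd hbound hdvd hbad hnlt
    have hp' : p ≤ 23 := by omega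
    clear hp23
    have hj1 : j = 1 := by omega
    rw [hj1, mul_one] at hCH
    interval_cases p <;> first | (norm_num at hpP; done) | skip
    · -- `p = 3`
      have := hnlt 4 (by norm_num)
      have ha2 : a = 2 := Nat.dvd_antisymm (by simpa using hdvd) h2A
      rw [ha2] at hCH
      interval_cases n
      · exfalso
        norm_num at hH
        have hB : (Subgroup.zpowers x).index = 2 := by
          have := Subgroup.card_mul_index (Subgroup.zpowers x)
          rw [Nat.card_zpowers, hx4] at this
          omega
        haveI := Subgroup.normal_of_index_eq_two hB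
        have hx2 : orderOf (x * x) = 2 := by
          refine orderOf_eq_prime ?_ ?_
          · rw [← pow_two, ← pow_mul]
            have := pow_orderOf_eq_one x
            rwa [hx4] at this
          · intro h
            have := orderOf_dvd_of_pow_eq_one (x := x) (n := 2) (by rw [pow_two]; exact h)
            rw [hx4] at this
            norm_num at this
        have hAe : Subgroup.zpowers (x * x) = A := Subgroup.eq_of_le_of_card_ge
          (Subgroup.zpowers_le.2 hxA) (by rw [Nat.card_zpowers, hx2]; omega)
        have hAB : A ≤ Subgroup.zpowers x := hAe ▸ Subgroup.zpowers_le.2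
          (mul_mem (Subgroup.mem_zpowers x) (Subgroup.mem_zpowers x))
        have := congrArg (fun B : Subgroup H => Nat.card B)
          (hAmax (Subgroup.zpowers x) inferInstance inferInstance hAB)
        simp only [Nat.card_zpowers, hx4] at this
        omega
      · exfalso
        norm_num at hH
        omega
    all_goals
      have := hnlt 3 (by norm_num)
      obtain rfl : n = 2 := by omega
      first
        | norm_num; done
        | skip
    · -- `p = 13`
      exact absurd (hbad 7 (by norm_num) (by norm_num) (by norm_num) (by norm_num)) (by norm_num)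
    · -- `p = 17`
      exfalso
      norm_num at hdvd hH
      have h12 : 12 ≤ a := by nlinarith
      obtain ⟨c, hc⟩ := hdvd
      have : c = 1 := by
        rcases c with _ | _ | c
        · omega
        · rfl
        · nlinarith
      obtain ⟨c', hc'⟩ := h4k
      subst this
      have : a = 16 := by omega
      rw [this] at hCH
      omega
    · -- `p = 19`
      exact absurd (hbad 5 (by norm_num) (by norm_num) (by norm_num) (by norm_num)) (by norm_num)
  · -- `d = 2`
    have hp' : p ≤ 6 := by nlinarith
    clear hp23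
    interval_cases p <;> first | (norm_num at hpP; done) | skip
    · have := hnlt 6 (by norm_num)
      interval_cases n
      · exact absurd (hbad 5 (by norm_num) (by norm_num) (by norm_num) (by norm_num)) (by norm_num)
      · exact absurd (hbad 11 (by norm_num) (by norm_num) (by norm_num) (by norm_num)) (by norm_num)
    · have := hnlt 5 (by norm_num)
      obtain rfl : n = 4 := by omega
      exact absurd (hbad 13 (by norm_num) (by norm_num) (by norm_num) (by norm_num)) (by norm_num)
  · -- `d = 3`
    have hp' : p ≤ 4 := by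
      by_contra h
      have : 5 ^ 3 ≤ p ^ 3 := Nat.pow_le_pow_left (by omega) 3
      omega
    clear hp23
    obtain rfl : p = 3 := by
      interval_cases p <;> first | rfl | (norm_num at hpP; done)
    have := hnlt 7 (by norm_num)
    obtain rfl : n = 6 := by omega
    exact absurd (hbad 7 (by norm_num) (by norm_num) (by norm_num) (by norm_num)) (by norm_num)
  · -- `d = 4`
    have hp' : p ≤ 4 := by
      by_contra h
      have : 5 ^ 4 ≤ p ^ 4 := Nat.pow_le_pow_left (by omega) 4
      omega
    clear hp23
    obtain rfl : p = 3 := by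
      interval_cases p <;> first | rfl | (norm_num at hpP; done)
    have := hnlt 9 (by norm_num)
    obtain rfl : n = 8 := by omega
    exact absurd (hbad 41 (by norm_num) (by norm_num) (by norm_num) (by norm_num)) (by norm_num)

end Cfsg.Agent.S0688
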