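import Cfsg.Statements.S0689
import Mathlib
import Cfsg.Agent.Perm.RegularLinearMinimal
-- import your own Cfsg.Agent.* helpers here

set_option autoImplicit false
open Cfsg

namespace Cfsg.Agent.S0689

/-- The insoluble sharply doubly transitive groups: a non-solvable linear group over the prime field that is regular on the non-zero vectors of `V` occurs only for `|V| = 11², 29², 59²`, and is `SL(2,5) × C_m` with `m = 1, 7, 29` respectively. -/
theorem result {p : ℕ} [Fact p.Prime] {V : Type*} [AddCommGroup V] [Module (ZMod p) V] [Finite V] (H : Subgroup (V ≃ₗ[ZMod p] V)) (hreg : ∀ v w : V, v ≠ 0 → w ≠ 0 → ∃! h : H, (h : V ≃ₗ[ZMod p] V) v = w) (hsolv : ¬ Group.IsSolvable H) : (Nat.card V = 121 ∧ Nonempty (H ≃* Matrix.SpecialLinearGroup (Fin 2) (ZMod 5))) ∨ (Nat.card V = 841 ∧ Nonempty (H ≃* Matrix.SpecialLinearGroup (Fin 2) (ZMod 5) × Multiplicative (ZMod 7))) ∨ (Nat.card V = 3481 ∧ Nonempty (H ≃* Matrix.SpecialLinearGroup (Fin 2) (ZMod 5) × Multiplicative (ZMod 29))) := by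
  classical
  haveI : Nontrivial V := by
    by_contra h
    haveI := not_nontrivial_iff_subsingleton.1 h
    haveI : Subsingleton H := ⟨fun a b => Subtype.ext (LinearEquiv.ext fun v => Subsingleton.elim _ _)⟩
    exact hsolv inferInstance
  haveI := CfsgLib.Perm.RegularLinear.finite_group H hreg
  have hI : ∀ A : Subgroup H, A.Normal → IsCyclic A → ∃ W : Submodule (ZMod p) V,
      W ≠ ⊥ ∧ W ≠ ⊤ ∧ ∀ a ∈ A, ∀ v ∈ W, ((a : H) : V ≃ₗ[ZMod p] V) v ∈ W := by
    intro A hAn hAc
    by_contra h
    refine hsolv (CfsgLib.Perm.RegularLinear.solvable_of_irreducible_cyclic hreg A fun W hW => ?_)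
    by_contra hW'
    rw [not_or] at hW'
    exact h ⟨W, hW'.1, hW'.2, hW⟩
  obtain ⟨A, -, hAmax'⟩ := Finite.exists_le_maximal
    (p := fun B : Subgroup H => B.Normal ∧ IsMulCommutative B) (a := ⊥)
    ⟨inferInstance, inferInstance⟩
  obtain ⟨hAn, hAc⟩ := hAmax'.1
  haveI := hAn
  haveI := hAc
  have hAmax : ∀ B : Subgroup H, B.Normal → IsMulCommutative B → A ≤ B → B = A :=
    fun B h1 h2 h3 => le_antisymm (hAmax'.2 ⟨h1, h2⟩ h3) h3
  set C := Subgroup.centralizer (A : Set H) with hC
  have hCns : ¬ Group.IsSolvable C := by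
    intro hCs
    haveI := hCs
    haveI : IsCyclic A := CfsgLib.Perm.RegularLinear.isCyclic_of_comm H hreg A
    haveI : Group.IsSolvable (MulAut A) := isSolvable_of_comm fun a b => by
      apply (IsCyclic.mulAutMulEquiv A).injective
      rw [map_mul, map_mul, mul_comm]
    refine hsolv (solvable_of_ker_le_range C.subtype (MulAut.conjNormal (H := A))
      fun g hg => ⟨⟨g, ?_⟩, rfl⟩)
    rw [MonoidHom.mem_ker] at hg
    refine Subgroup.mem_centralizer_iff.2 fun a ha => ?_
    have h3 := congrArg (fun φ : MulAut A => ((φ ⟨a, ha⟩ : A) : H)) hg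
    simp only [MulAut.conjNormal_apply, MulAut.one_apply] at h3
    exact (mul_inv_eq_iff_eq_mul.1 h3).symm
  obtain ⟨N, -, hNmin⟩ := Finite.exists_le_minimal
    (p := fun B : Subgroup H => B.Normal ∧ B ≤ C ∧ ¬ Group.IsSolvable B) (a := C)
    ⟨by rw [hC]; infer_instance, le_rfl, hCns⟩
  obtain ⟨hNn, hNC, hNns⟩ := hNmin.1
  haveI := hNn
  have hperf : commutator N = ⊤ := by
    let D := (commutator N).map N.subtype
    haveI hDn : D.Normal := ConjAct.normal_of_characteristic_of_normal
    have hDN : D ≤ N := Subgroup.map_subtype_le _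
    have hDns : ¬ Group.IsSolvable D := by
      intro h
      haveI := h
      haveI : Group.IsSolvable (commutator N) := solvable_of_solvable_injective
        (f := ((commutator N).equivMapOfInjective N.subtype N.subtype_injective).toMonoidHom)
        (MulEquiv.injective _)
      refine hNns (solvable_of_ker_le_range (commutator N).subtype
        (Abelianization.of (G := N)) ?_)
      rw [Subgroup.range_subtype, Abelianization.ker_of]
    apply Subgroup.map_injective N.subtype_injective
    rw [← MonoidHom.range_eq_map, Subgroup.range_subtype]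
    exact le_antisymm hDN (hNmin.2 ⟨hDn, hDN.trans hNC, hDns⟩ hDN)
  obtain ⟨e⟩ := CfsgLib.Perm.RegularLinear.equiv_slFive_of_perfect hreg N
    (fun h => hNns (by subst h; infer_instance)) hperf
  exact CfsgLib.Perm.RegularLinear.slFive_structure hreg hI hAmax hNC e hperf

end Cfsg.Agent.S0689
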