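import Cfsg.Statements.S4571
import Cfsg.Agent.BlocksCharsC.RegularSupport
import Cfsg.Agent.Blocks.RegularSupport
import Cfsg.Agent.Characters.Linear

set_option autoImplicit false
set_option linter.style.haveILetI false
open Cfsg

namespace Cfsg.Agent.S4571

open CfsgLib.Characters CfsgLib.BlocksCharsC
open scoped Pointwise

universe u

variable {G : Type u} [Group G] [Finite G] {p : ℕ} [hp : Fact p.Prime]

omit [Finite G] in
theorem isPRegular_iff {g : G} : IsPRegular p g ↔ ¬ p ∣ orderOf g := Iff.rfl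

/-- Regular elements centralize `Q`. -/
theorem regular_mem_centralizer {Q : Subgroup G} [Q.Normal] (hQ : IsPGroup p Q)
    (hsup : Q ⊔ Subgroup.centralizer (Q : Set G) = ⊤) {x : G} (hx : ¬ p ∣ orderOf x) :
    x ∈ Subgroup.centralizer (Q : Set G) := by
  set C := Subgroup.centralizer (Q : Set G)
  haveI : C.Normal := inferInstance
  have hx' : x ∈ ((Q : Set G) * (C : Set G) : Set G) := by
    rw [← Subgroup.normal_mul, hsup]; trivial
  obtain ⟨q, hq, c, hc, hqc⟩ := hx'
  obtain ⟨j, hj⟩ := hQ ⟨q, hq⟩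
  have h1 : (x : G ⧸ C) ^ p ^ j = 1 := by
    rw [← hqc, QuotientGroup.mk_mul, (QuotientGroup.eq_one_iff c).2 hc, mul_one,
      ← QuotientGroup.mk_pow, show q ^ p ^ j = 1 from congrArg Subtype.val hj, QuotientGroup.mk_one]
  have h2 : (x : G ⧸ C) ^ orderOf x = 1 := by
    rw [← QuotientGroup.mk_pow, pow_orderOf_eq_one, QuotientGroup.mk_one]
  have h3 := pow_gcd_eq_one.mpr ⟨h1, h2⟩
  rw [Nat.Coprime.gcd_eq_one (Nat.Coprime.pow_left _ (hp.out.coprime_iff_not_dvd.2 hx)), pow_one,
    QuotientGroup.eq_one_iff] at h3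
  exact h3

/-- The projection is injective on regular elements. -/
theorem regular_eq_of_mk_eq {Q : Subgroup G} [Q.Normal] (hQ : IsPGroup p Q)
    (hsup : Q ⊔ Subgroup.centralizer (Q : Set G) = ⊤) {x y : G} (hx : ¬ p ∣ orderOf x)
    (hy : ¬ p ∣ orderOf y) (h : (x : G ⧸ Q) = (y : G ⧸ Q)) : x = y := by
  have hq : x⁻¹ * y ∈ Q := QuotientGroup.eq.1 h
  have hcomm : Commute x (x⁻¹ * y) :=
    (Subgroup.mem_centralizer_iff.1 (regular_mem_centralizer hQ hsup hx) _ hq).symm
  obtain ⟨j, hj⟩ := hQ ⟨_, hq⟩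
  have h1 : (x⁻¹ * y) ^ p ^ j = 1 := congrArg Subtype.val hj
  have h2 : (x⁻¹ * y) ^ (orderOf x * orderOf y) = 1 := by
    have hxy : Commute x⁻¹ y := by
      have := (hcomm.inv_left)
      have h' : Commute x⁻¹ (x * (x⁻¹ * y)) := (Commute.refl x).inv_left.mul_right this
      rwa [mul_inv_cancel_left] at h'
    rw [hxy.mul_pow, inv_pow, pow_mul, pow_orderOf_eq_one, one_pow, inv_one, one_mul, mul_comm,
      pow_mul, pow_orderOf_eq_one, one_pow]
  have h3 := pow_gcd_eq_one.mpr ⟨h1, h2⟩
  rw [Nat.Coprime.gcd_eq_one (Nat.Coprime.pow_left _ (hp.out.coprime_iff_not_dvd.2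
    (fun hd => (hp.out.dvd_mul.1 hd).elim hx hy))), pow_one, inv_mul_eq_one] at h3
  exact h3

/-- Every regular element of the quotient has a regular representative. -/
theorem exists_regular_lift {Q : Subgroup G} [Q.Normal] {z : G ⧸ Q} (hz : ¬ p ∣ orderOf z) :
    ∃ g : G, ¬ p ∣ orderOf g ∧ (g : G ⧸ Q) = z := by
  obtain ⟨g, rfl⟩ := QuotientGroup.mk_surjective z
  set a := (orderOf g).factorization p
  obtain ⟨r, hr⟩ := exists_pow_eq_self_of_coprime (x := (g : G ⧸ Q)) (n := p ^ a)
    (Nat.Coprime.pow_left _ (hp.out.coprime_iff_not_dvd.2 hz))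
  refine ⟨(g ^ p ^ a) ^ r, fun hd => ?_, by rw [QuotientGroup.mk_pow, QuotientGroup.mk_pow, hr]⟩
  have h := hd.trans (orderOf_pow_dvd r)
  rw [orderOf_pow, Nat.gcd_eq_right (Nat.ordProj_dvd _ _)] at h
  exact Nat.not_dvd_ordCompl hp.out (orderOf_pos g).ne' h

/-- Let Q be a normal p-subgroup of the finite group G with G = Q·C_G(Q), and M a maximal ideal of the algebraic integers containing p. Then the principal p-blocks of G and of G/Q have the same p-regular rank (the same number of irreducible Brauer characters). -/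
theorem result {G : Type*} [Group G] [Finite G] (p : ℕ) [Fact p.Prime] (M : Ideal Cfsg.AlgInt) (hM : Cfsg.IsPModular p M) (Q : Subgroup G) [Q.Normal] (hQ : IsPGroup p Q) (hsup : Q ⊔ Subgroup.centralizer (Q : Set G) = ⊤) : Cfsg.blockRank p (Cfsg.principalBlock M G) = Cfsg.blockRank p (Cfsg.principalBlock M (G ⧸ Q)) := by
  classical
  haveI := hM.2.1.isPrime
  haveI := Fintype.ofFinite G
  haveI := Fintype.ofFinite (G ⧸ Q)
  have hpi : ∀ g : G, ¬ p ∣ orderOf g → ¬ p ∣ orderOf (g : G ⧸ Q) := fun g hg hd =>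
    hg (hd.trans (orderOf_map_dvd (QuotientGroup.mk' Q) g))
  have hconj : ∀ x c : G, ¬ p ∣ orderOf x → ¬ p ∣ orderOf (c * x * c⁻¹) := fun x c hx => by
    rwa [show c * x * c⁻¹ = MulAut.conj c x from rfl, MulEquiv.orderOf_eq]
  -- centralisers of regular elements
  have hidx : ∀ x : G, ¬ p ∣ orderOf x →
      (Subgroup.centralizer ({(x : G ⧸ Q)} : Set (G ⧸ Q))).index =
        (Subgroup.centralizer ({x} : Set G)).index := by
    intro x hx
    rw [← Subgroup.index_comap_of_surjective (Subgroup.centralizer ({(x : G ⧸ Q)} : Set (G ⧸ Q)))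
      (QuotientGroup.mk'_surjective Q)]
    congr 1
    ext c
    simp only [Subgroup.mem_comap, Subgroup.mem_centralizer_singleton_iff, QuotientGroup.mk'_apply,
      ← QuotientGroup.mk_mul]
    refine ⟨fun h => ?_, fun h => by rw [h]⟩
    rw [← mul_inv_eq_iff_eq_mul]
    refine regular_eq_of_mk_eq hQ hsup (hconj x c hx) hx ?_
    rw [QuotientGroup.mk_mul, h, QuotientGroup.mk_mul, QuotientGroup.mk_inv, mul_inv_cancel_right]
  let infl : IrrCharacter (G ⧸ Q) → IrrCharacter G := fun ψ =>
    ⟨fun g => (ψ : G ⧸ Q → ℂ) (g : G ⧸ Q),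
      isIrr_comp (QuotientGroup.mk' Q) (QuotientGroup.mk'_surjective Q) ψ.2⟩
  have hinfl : ∀ ψ, infl ψ ∈ Cfsg.principalBlock M G ↔ ψ ∈ Cfsg.principalBlock M (G ⧸ Q) := by
    intro ψ
    have hcc : ∀ x : G, ¬ p ∣ orderOf x → Cfsg.centralChar (infl ψ : G → ℂ) x =
        Cfsg.centralChar (ψ : G ⧸ Q → ℂ) (x : G ⧸ Q) := fun x hx => by
      simp only [Cfsg.centralChar, infl, QuotientGroup.mk_one, hidx x hx]
    constructor
    · intro h
      refine mem_principalBlock_of_regular hM fun z hz => ?_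
      obtain ⟨g, hg, rfl⟩ := exists_regular_lift hz
      rw [← hcc g hg, hidx g hg]
      exact mem_principalBlock_iff.1 h g
    · intro h
      refine mem_principalBlock_of_regular hM fun g hg => ?_
      rw [hcc g hg, ← hidx g hg]
      exact mem_principalBlock_iff.1 h (g : G ⧸ Q)
  let Φ : (G ⧸ Q → ℂ) →ₗ[ℂ] (G → ℂ) :=
    { toFun := fun f g => if ¬ p ∣ orderOf g then f (g : G ⧸ Q) else 0
      map_add' := fun a b => funext fun g => by simp only [Pi.add_apply]; split_ifs <;> simp
      map_smul' := fun a b => funext fun g => by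
        simp only [Pi.smul_apply, RingHom.id_apply]; split_ifs <;> simp }
  choose lift hlift1 hlift2 using fun z : {z : G ⧸ Q // ¬ p ∣ orderOf z} =>
    exists_regular_lift z.2
  let Ψ : (G → ℂ) →ₗ[ℂ] (G ⧸ Q → ℂ) :=
    { toFun := fun f z => if h : ¬ p ∣ orderOf z then f (lift ⟨z, h⟩) else 0
      map_add' := fun a b => funext fun g => by simp only [Pi.add_apply]; split_ifs <;> simp
      map_smul' := fun a b => funext fun g => by
        simp only [Pi.smul_apply, RingHom.id_apply]; split_ifs <;> simp }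
  have hΨv : ∀ (f : G → ℂ) (z : G ⧸ Q), Ψ f z = if h : ¬ p ∣ orderOf z then f (lift ⟨z, h⟩) else 0 :=
    fun _ _ => rfl
  set S := Submodule.span ℂ ((fun ψ : IrrCharacter (G ⧸ Q) => pRegularPart p (ψ : G ⧸ Q → ℂ)) ''
    Cfsg.principalBlock M (G ⧸ Q)) with hS
  set T := Submodule.span ℂ ((fun χ : IrrCharacter G => pRegularPart p (χ : G → ℂ)) ''
    Cfsg.principalBlock M G) with hT
  have hΦψ : ∀ ψ : IrrCharacter (G ⧸ Q),
      Φ (pRegularPart p (ψ : G ⧸ Q → ℂ)) = pRegularPart p (infl ψ : G → ℂ) := by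
    intro ψ
    funext g
    show (if ¬ p ∣ orderOf g then _ else 0) = _
    simp only [pRegularPart, isPRegular_iff, infl]
    by_cases hg : p ∣ orderOf g
    · simp [hg]
    · simp [hg, hpi g hg]
  have hΨψ : ∀ ψ : IrrCharacter (G ⧸ Q),
      Ψ (pRegularPart p (infl ψ : G → ℂ)) = pRegularPart p (ψ : G ⧸ Q → ℂ) := by
    intro ψ
    funext z
    show (if h : ¬ p ∣ orderOf z then _ else 0) = _
    by_cases hz : p ∣ orderOf z
    · simp [pRegularPart, isPRegular_iff, hz]
    · simp [pRegularPart, isPRegular_iff, hz, infl, hlift1 ⟨z, hz⟩, hlift2 ⟨z, hz⟩]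
  have hTle : T ≤ S.map Φ := by
    rw [hT, Submodule.span_le]
    rintro _ ⟨χ, hχ, rfl⟩
    set f := Ψ (χ : G → ℂ) with hf
    have hfc : Cfsg.IsClassFunction (G ⧸ Q) f := by
      intro z c
      obtain ⟨c, rfl⟩ := QuotientGroup.mk_surjective c
      have horder : orderOf ((c : G ⧸ Q) * z * (c : G ⧸ Q)⁻¹) = orderOf z :=
        MulEquiv.orderOf_eq (MulAut.conj (c : G ⧸ Q)) z
      simp only [hf, hΨv]
      by_cases hz : p ∣ orderOf z
      · rw [dif_neg (by rw [horder]; exact not_not.2 hz), dif_neg (not_not.2 hz)]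
      · rw [dif_pos (horder ▸ hz), dif_pos hz]
        have e : lift ⟨_, (horder ▸ hz :)⟩ = c * lift ⟨z, hz⟩ * c⁻¹ :=
          regular_eq_of_mk_eq hQ hsup (hlift1 _) (hconj _ c (hlift1 _))
            (by rw [hlift2, QuotientGroup.mk_mul, QuotientGroup.mk_mul, QuotientGroup.mk_inv, hlift2])
        rw [e]
        exact isClassFunction_of_isIrr χ.2 _ _
    set a : IrrCharacter (G ⧸ Q) → ℂ := fun ψ => Cfsg.classInner f (ψ : G ⧸ Q → ℂ)
    have hexp : ∀ x : G, ¬ p ∣ orderOf x →
        (χ : G → ℂ) x = ∑ ψ, a ψ * (infl ψ : G → ℂ) x := by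
      intro x hx
      have h1 := congrFun (classFunction_expansion hfc) (x : G ⧸ Q)
      simp only [Finset.sum_apply, Pi.smul_apply, smul_eq_mul] at h1
      refine Eq.trans ?_ h1
      rw [hf, hΨv, dif_pos (hpi x hx)]
      exact congrArg _ (regular_eq_of_mk_eq hQ hsup hx (hlift1 _) (hlift2 ⟨_, hpi x hx⟩).symm)
    let c : IrrCharacter G → ℂ := fun φ =>
      (if φ = χ then 1 else 0) - ∑ ψ, if φ = infl ψ then a ψ else 0
    have hrel : ∀ (P : IrrCharacter G → Prop) (x : G),
        ∑ φ : IrrCharacter G, (if P φ then c φ * (φ : G → ℂ) x else 0) =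
          (if P χ then (χ : G → ℂ) x else 0) -
            ∑ ψ, if P (infl ψ) then a ψ * (infl ψ : G → ℂ) x else 0 := by
      intro P x
      have h1 : ∀ φ, (if P φ then c φ * (φ : G → ℂ) x else 0) =
          (if φ = χ then (if P χ then (χ : G → ℂ) x else 0) else 0) -
            ∑ ψ, if φ = infl ψ then (if P (infl ψ) then a ψ * (infl ψ : G → ℂ) x else 0) else 0 := by
        intro φ
        by_cases hP : P φ
        · simp only [c, if_pos hP, sub_mul, Finset.sum_mul, ite_mul, one_mul, zero_mul]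
          congr 1
          · split_ifs with e e' <;> simp_all
          · refine Finset.sum_congr rfl fun ψ _ => ?_
            split_ifs with e e' <;> simp_all
        · simp only [if_neg hP]
          rw [show (∑ ψ, if φ = infl ψ then (if P (infl ψ) then a ψ * (infl ψ : G → ℂ) x else 0)
            else 0) = 0 from Finset.sum_eq_zero fun ψ _ => by split_ifs with e e' <;> simp_all]
          split_ifs with e e' <;> simp_all
      simp only [h1, Finset.sum_sub_distrib, Finset.sum_ite_eq', Finset.mem_univ, if_true]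
      rw [Finset.sum_comm]
      simp
    refine ⟨∑ ψ, if ψ ∈ Cfsg.principalBlock M (G ⧸ Q) then
      a ψ • pRegularPart p (ψ : G ⧸ Q → ℂ) else 0, ?_, ?_⟩
    · refine Submodule.sum_mem _ fun ψ _ => ?_
      split_ifs with h
      · exact Submodule.smul_mem _ _ (Submodule.subset_span ⟨ψ, h, rfl⟩)
      · exact zero_mem _
    · rw [map_sum]
      funext x
      rw [Finset.sum_apply]
      show _ = pRegularPart p (χ : G → ℂ) x
      by_cases hx : p ∣ orderOf x
      · rw [pRegularPart, if_neg (show ¬ IsPRegular p x from not_not.2 hx)]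
        refine Finset.sum_eq_zero fun ψ _ => ?_
        split_ifs
        · rw [map_smul, hΦψ]; simp [pRegularPart, isPRegular_iff, hx]
        · simp
      · rw [pRegularPart, if_pos (show IsPRegular p x from hx)]
        have hz := CfsgLib.Blocks.sum_union_eq_zero hM
          (CfsgLib.Blocks.isBlockUnion_of_isPBlock (isPBlock_principalBlock (M := M) (G := G)))
          c (fun z hz => by
            have := hrel (fun _ => True) z
            simp only [if_true] at this
            rw [this, ← hexp z hz, sub_self]) hx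
        rw [hrel (fun φ => φ ∈ Cfsg.principalBlock M G), if_pos hχ, sub_eq_zero] at hz
        rw [hz]
        refine Finset.sum_congr rfl fun ψ _ => ?_
        by_cases h : ψ ∈ Cfsg.principalBlock M (G ⧸ Q)
        · rw [if_pos h, if_pos ((hinfl ψ).2 h), map_smul, hΦψ]
          simp [pRegularPart, isPRegular_iff, hx]
        · rw [if_neg h, if_neg (fun h' => h ((hinfl ψ).1 h'))]
          simp
  have hSle : S ≤ T.map Ψ := by
    rw [hS, Submodule.span_le]
    rintro _ ⟨ψ, hψ, rfl⟩
    exact ⟨_, Submodule.subset_span ⟨infl ψ, (hinfl ψ).2 hψ, rfl⟩, hΨψ ψ⟩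
  exact le_antisymm ((Submodule.finrank_mono hTle).trans (Submodule.finrank_map_le Φ S))
    ((Submodule.finrank_mono hSle).trans (Submodule.finrank_map_le Ψ T))

end Cfsg.Agent.S4571
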