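import Cfsg.Statements.S0802
import Cfsg.Agent.Forms.KleinClasses
import Cfsg.Agent.Forms.PSLTwoEven
import Mathlib.Algebra.CharP.Two

set_option autoImplicit false
open Cfsg

namespace Cfsg.Agent.S0802

/-- PSL_2(p^n) has a subgroup isomorphic to A_4 if and only if it is not the case that p = 2 and n is odd. -/
theorem result {F : Type*} [Field F] [Fintype F] (p n : ℕ) [Fact p.Prime] [CharP F p] (hF : Fintype.card F = p ^ n) : (∃ H : Subgroup (Matrix.ProjectiveSpecialLinearGroup (Fin 2) F), Nonempty (H ≃* alternatingGroup (Fin 4))) ↔ ¬ (p = 2 ∧ Odd n) := by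
  have hp : p.Prime := Fact.out
  constructor
  · rintro ⟨H, ⟨e⟩⟩ ⟨rfl, hn⟩
    have h3 : ¬ 3 ∣ Fintype.card F - 1 := by
      rw [hF]
      obtain ⟨k, rfl⟩ := hn
      rw [pow_succ, pow_mul]
      have h1 : 4 ^ k % 3 = 1 := by rw [Nat.pow_mod]; simp
      have h2 : 1 ≤ 4 ^ k := Nat.one_le_pow _ _ (by norm_num)
      norm_num
      omega
    obtain ⟨s, t, h, hs1, hs, ht1, ht, hst, hh, hh1, hst'⟩ :
        ∃ s t h : alternatingGroup (Fin 4), s ≠ 1 ∧ s * s = 1 ∧ t ≠ 1 ∧ t * t = 1 ∧ s * t = t * s ∧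
          h ^ 3 = 1 ∧ h ≠ 1 ∧ h * s = t * h := by decide +kernel
    let ι := (MulEquiv.ofBijective (CfsgLib.Forms.KleinPSL.projHom (F := F))
      ⟨CfsgLib.Forms.PSLTwoEven.projHom_injective, QuotientGroup.mk'_surjective _⟩).symm
    let g : alternatingGroup (Fin 4) →* Matrix.SpecialLinearGroup (Fin 2) F :=
      ι.toMonoidHom.comp (H.subtype.comp e.symm.toMonoidHom)
    have hg : Function.Injective g :=
      fun a b hab => e.symm.injective (Subtype.ext (ι.injective hab))
    have key : ∀ a, a ≠ 1 → g a ≠ 1 := fun a ha hga => ha (hg (hga.trans (map_one g).symm))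
    exact CfsgLib.Forms.PSLTwoEven.no_triple h3 (key s hs1) (by rw [← map_mul, hs, map_one])
      (key t ht1) (by rw [← map_mul, ht, map_one]) (by rw [← map_mul, hst, map_mul])
      (by rw [← map_pow, hh, map_one]) (key h hh1) (by rw [← map_mul, hst', map_mul])
  · intro h
    by_cases hp2 : p = 2
    · subst hp2
      obtain ⟨k, hk⟩ : Even n := Nat.not_odd_iff_even.1 fun hn => h ⟨rfl, hn⟩
      refine CfsgLib.Forms.PSLTwoEven.exists_alternating_four ?_
      rw [hF, hk, ← two_mul, pow_mul]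
      have h1 : 4 ^ k % 3 = 1 := by rw [Nat.pow_mod]; simp
      norm_num
      omega
    · refine CfsgLib.Forms.KleinPSL.exists_alternating_four ?_
      rw [hF]
      exact (hp.odd_of_ne_two hp2).pow

end Cfsg.Agent.S0802
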