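import Cfsg.Statements.S0581
import Cfsg.Agent.S0046
import Cfsg.Agent.Transfer.HallComplement
import Cfsg.Agent.Solvable.Basic

set_option autoImplicit false
open Pointwise
open Cfsg

namespace Cfsg.Agent.S0581

open scoped Pointwise

/-- Wielandt's induction. -/
private theorem aux {G : Type*} [Group G] [Finite G] (H : Subgroup G) (hH : Group.IsNilpotent H)
    (hHall : (Nat.card H).Coprime H.index) :
    ∀ (n : ℕ) (K : Subgroup G), Nat.card K < n →
      (∀ p : ℕ, p.Prime → p ∣ Nat.card K → p ∣ Nat.card H) → ∃ x : G, K ≤ MulAut.conj x • H := by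
  intro n
  induction n with
  | zero => intro K h; exact absurd h (Nat.not_lt_zero _)
  | succ n ih =>
    intro K hn hK
    rcases eq_or_ne K ⊥ with rfl | hne
    · exact ⟨1, bot_le⟩
    have hlt : ∀ L : Subgroup G, L < K → ∃ x : G, L ≤ MulAut.conj x • H := fun L hL =>
      ih L (lt_of_lt_of_le (lt_of_le_of_ne (Nat.le_of_dvd Nat.card_pos
        (Subgroup.card_dvd_of_le hL.le)) fun e => hL.ne (Subgroup.eq_of_le_of_card_ge hL.le e.ge))
        (Nat.lt_succ_iff.mp hn)) fun p hp hd => hK p hp (hd.trans (Subgroup.card_dvd_of_le hL.le))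
    have hnil : ∀ M : Subgroup K, M ≠ ⊤ → Group.IsNilpotent M := by
      intro M hM
      have hle : M.map K.subtype < K := lt_of_le_of_ne (Subgroup.map_subtype_le M) fun e => hM
        (Subgroup.map_injective K.subtype_injective
          (e.trans (by rw [← MonoidHom.range_eq_map, Subgroup.range_subtype])))
      obtain ⟨x, hx⟩ := hlt _ hle
      have : Group.IsNilpotent (MulAut.conj x • H : Subgroup G) :=
        Group.nilpotent_of_mulEquiv (Subgroup.equivSMul (MulAut.conj x) H)
      have : Group.IsNilpotent (M.map K.subtype) :=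
        Group.nilpotent_of_mulEquiv (Subgroup.subgroupOfEquivOfLe hx)
      exact Group.nilpotent_of_mulEquiv (M.equivMapOfInjective _ K.subtype_injective).symm
    have hsol : Group.IsSolvable K := Cfsg.Agent.S0046.result fun M hM => hnil M hM.1
    have : Nontrivial K := (Subgroup.nontrivial_iff_ne_bot K).mpr hne
    obtain ⟨M, ⟨hMn, hMtop⟩, hmax⟩ := Set.Finite.exists_maximal
      (s := {M : Subgroup K | M.Normal ∧ M ≠ ⊤}) (Set.toFinite _)
      ⟨⊥, inferInstance, bot_ne_top⟩
    have : Nontrivial (K ⧸ M) := QuotientGroup.nontrivial_iff.mpr hMtop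
    obtain ⟨L, hL, hLne, hLmin⟩ := CfsgLib.Solvable.exists_minimal_normal (G := K ⧸ M)
    obtain ⟨q, hq, hLq⟩ := CfsgLib.Solvable.exists_isPGroup_of_minimal_normal hLne hLmin
    have := Fact.mk hq
    have hLtop : L = ⊤ := by
      by_contra h
      have h1 : M ≤ L.comap (QuotientGroup.mk' M) := by
        have := (QuotientGroup.mk' M).ker_le_comap L
        rwa [QuotientGroup.ker_mk'] at this
      have h2 : L.comap (QuotientGroup.mk' M) ≠ ⊤ := fun e => h (by
        rw [← Subgroup.map_comap_eq_self_of_surjective (QuotientGroup.mk'_surjective M) L, e,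
          Subgroup.map_top_of_surjective _ (QuotientGroup.mk'_surjective M)])
      apply hLne
      rw [← Subgroup.map_comap_eq_self_of_surjective (QuotientGroup.mk'_surjective M) L,
        le_antisymm (hmax ⟨hL.comap _, h2⟩ h1) h1, QuotientGroup.map_mk'_self]
    have hqK : IsPGroup q (K ⧸ M) := by
      rw [hLtop] at hLq
      exact hLq.of_equiv Subgroup.topEquiv
    -- the `q`-residual of `K` lies in `M`
    have hres : Cfsg.pResidual q K ≤ M := CfsgLib.Transfer.pResidual_le_of_isPGroup_quotient M hqK
    have hMnil := hnil M hMtop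
    have hnpc : Cfsg.HasNormalPComplement q K := by
      have := hMnil
      set N := (Cfsg.pResidual q M).map M.subtype with hN
      have hNn : N.Normal := inferInstance
      have hNq : ¬ q ∣ Nat.card N := by
        rw [hN, Subgroup.card_map_of_injective M.subtype_injective]
        exact CfsgLib.Transfer.hasNormalPComplement_iff.1
          CfsgLib.Transfer.hasNormalPComplement_of_isNilpotent
      refine CfsgLib.Transfer.hasNormalPComplement_of_normal N hNq ?_
      obtain ⟨a, ha⟩ := hqK.exists_card_eq
      obtain ⟨b, hb⟩ := (CfsgLib.Transfer.isPGroup_quotient_pResidual (p := q) (G := M)).exists_card_eq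
      refine IsPGroup.of_card (n := b + a) ?_
      rw [← Subgroup.index_eq_card, hN, Subgroup.index_map_subtype, pow_add,
        Subgroup.index_eq_card, hb, Subgroup.index_eq_card, ha]
    obtain ⟨R⟩ : Nonempty (Sylow q K) := inferInstance
    have hsup := CfsgLib.Transfer.sylow_sup_pResidual R
    set K₀ := (Cfsg.pResidual q K).map K.subtype with hK₀
    have hK₀K : K₀ < K := lt_of_le_of_ne (Subgroup.map_subtype_le _) fun e => hMtop (top_le_iff.mp (
      (Subgroup.map_injective K.subtype_injective
        (e.trans (by rw [← MonoidHom.range_eq_map, Subgroup.range_subtype]))).ge.trans hres))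
    obtain ⟨x, hx⟩ := hlt K₀ hK₀K
    by_cases hqH : q ∣ Nat.card H
    swap
    · -- `q` does not divide the order of `K`
      exfalso
      refine hqH (hK q hq ?_)
      refine dvd_trans ?_ (Subgroup.card_quotient_dvd_card M)
      obtain ⟨k, hk⟩ := hqK.exists_card_eq
      rw [hk]
      refine dvd_pow_self q fun h0 => ?_
      rw [h0, pow_zero] at hk
      exact (Finite.one_lt_card (α := K ⧸ M)).ne' hk
    obtain ⟨P, H₀, hPH, hH₀H, hH₀C, hHsup, hcard⟩ :=
      CfsgLib.Transfer.exists_nilpotent_hall_decomposition (p := q) H hH hHall hqH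
    set L₀ := MulAut.conj x⁻¹ • K₀ with hL₀
    have hL₀H : L₀ ≤ H := by
      rw [hL₀, map_inv]
      exact Subgroup.pointwise_smul_subset_iff.mpr (by rwa [inv_inv])
    have hL₀q : ¬ q ∣ Nat.card L₀ := by
      rw [hL₀, CfsgLib.Solvable.card_conj_smul, hK₀,
        Subgroup.card_map_of_injective K.subtype_injective]
      exact CfsgLib.Transfer.hasNormalPComplement_iff.1 hnpc
    have hPH₀ : H ≤ Subgroup.normalizer (H₀ : Set G) := by
      rw [← hHsup]
      exact sup_le ((Subgroup.le_centralizer_iff.mp hH₀C).trans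
        (Subgroup.centralizer_le_normalizer _)) Subgroup.le_normalizer
    have hL₀H₀ : L₀ ≤ H₀ := by
      have hn : (H₀.subgroupOf H).Normal :=
        (Subgroup.normal_subgroupOf_iff_le_normalizer hH₀H).mpr hPH₀
      have h1 : (H₀.subgroupOf H).relIndex (L₀.subgroupOf H) ∣ (H₀.subgroupOf H).index :=
        Subgroup.relIndex_dvd_index_of_normal _ _
      have h2 : (H₀.subgroupOf H).index = Nat.card (P : Subgroup G) := by
        have h3 := (H₀.subgroupOf H).card_mul_index
        rw [Nat.card_congr (Subgroup.subgroupOfEquivOfLe hH₀H).toEquiv, ← hcard] at h3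
        exact Nat.eq_of_mul_eq_mul_left Nat.card_pos h3
      rw [Subgroup.relIndex_subgroupOf hL₀H, h2] at h1
      refine Subgroup.relIndex_eq_one.mp (Nat.eq_one_of_dvd_coprimes ?_ h1
        (Subgroup.relIndex_dvd_card _ _))
      obtain ⟨k, hk⟩ := P.2.exists_card_eq
      rw [hk]
      exact Nat.Coprime.pow_left k (hq.coprime_iff_not_dvd.mpr hL₀q)
    set N := Subgroup.normalizer (L₀ : Set G) with hN
    have hPN : (P : Subgroup G) ≤ N :=
      ((Subgroup.le_centralizer_iff.mp hH₀C).trans (Subgroup.centralizer_le hL₀H₀)).trans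
        (Subgroup.centralizer_le_normalizer _)
    set R' := MulAut.conj x⁻¹ • (R : Subgroup K).map K.subtype with hR'
    have hR'N : R' ≤ N := by
      have h1 : K ≤ Subgroup.normalizer (K₀ : Set G) :=
        (Subgroup.normal_subgroupOf_iff_le_normalizer hK₀K.le).mp (by
          rw [hK₀, Subgroup.subgroupOf,
            Subgroup.comap_map_eq_self_of_injective K.subtype_injective]
          infer_instance)
      intro y hy
      rw [hR', CfsgLib.Solvable.mem_conj_smul, inv_inv] at hy
      have h2 := CfsgLib.Solvable.mem_normalizer_iff_conj_smul.mp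
        (h1 (Subgroup.map_subtype_le _ hy))
      rw [hN, CfsgLib.Solvable.mem_normalizer_iff_conj_smul, hL₀, ← mul_smul, ← map_mul,
        show y * x⁻¹ = x⁻¹ * (x * y * x⁻¹) by group, map_mul, mul_smul, h2]
    have hR'p : IsPGroup q (R'.subgroupOf N) :=
      ((R.2.map K.subtype).of_equiv (Subgroup.equivSMul (MulAut.conj x⁻¹) _)).of_equiv
        (Subgroup.subgroupOfEquivOfLe hR'N).symm
    obtain ⟨S, hS⟩ := hR'p.exists_le_sylow
    obtain ⟨m, hm⟩ := MulAction.exists_smul_eq N (P.subtype hPN) S
    have hR'm : R' ≤ MulAut.conj (m : G) • H := by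
      rw [← Subgroup.map_subgroupOf_eq_of_le hR'N]
      refine (Subgroup.map_mono hS).trans ?_
      rw [← hm, Sylow.coe_subgroup_smul]
      change (MulAut.conj m • ((P.subtype hPN : Sylow q N) : Subgroup N)).map N.subtype ≤ _
      rw [CfsgLib.Solvable.map_subtype_conj_smul, Sylow.coe_subtype,
        Subgroup.map_subgroupOf_eq_of_le hPN]
      exact Subgroup.pointwise_smul_le_pointwise_smul_iff.mpr hPH
    have hL₀m : L₀ ≤ MulAut.conj (m : G) • H := by
      rw [← CfsgLib.Solvable.mem_normalizer_iff_conj_smul.mp m.2]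
      exact Subgroup.pointwise_smul_le_pointwise_smul_iff.mpr hL₀H
    have hKsup : K = K₀ ⊔ (R : Subgroup K).map K.subtype := by
      rw [hK₀, ← Subgroup.map_sup, sup_comm, hsup, ← MonoidHom.range_eq_map, Subgroup.range_subtype]
    refine ⟨x * m, ?_⟩
    rw [hKsup, map_mul, mul_smul]
    refine sup_le ?_ ?_
    · rw [Subgroup.subset_pointwise_smul_iff, ← map_inv]
      exact hL₀m
    · rw [Subgroup.subset_pointwise_smul_iff, ← map_inv]
      exact hR'm

/-- Let H be a nilpotent subgroup of a finite group G whose order is coprime to its index, and K a subgroup every prime divisor of whose order divides the order of H. Then K lies in some conjugate of H. -/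
theorem result {G : Type*} [Group G] [Finite G] (H K : Subgroup G) (hH : Group.IsNilpotent H) (hHall : (Nat.card H).Coprime H.index) (hK : ∀ p : ℕ, p.Prime → p ∣ Nat.card K → p ∣ Nat.card H) : ∃ x : G, K ≤ MulAut.conj x • H := by
  exact aux H hH hHall _ K (Nat.lt_succ_self _) hK

end Cfsg.Agent.S0581
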