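import Cfsg.Statements.S2590
import Cfsg.Agent.InvNorm.Glue
import Cfsg.Agent.Forms.Witt

set_option autoImplicit false
open Cfsg

namespace Cfsg.Agent.S2590

open CfsgLib.InvNorm Matrix


/-- Two semisimple elements of odd order of a finite orthogonal group (isometry group of a quadratic form on F^n with non-degenerate polar form, F finite of characteristic p; the elements have odd order prime to p) are conjugate in the orthogonal group if and only if they are conjugate in GL_n(F). -/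
theorem result {F : Type*} [Field F] [Fintype F] {p : ℕ} [Fact p.Prime] [CharP F p] {n : ℕ} (Q : QuadraticForm F (Fin n → F)) (hQ : (QuadraticMap.polarBilin Q).Nondegenerate) (A B : ↥(Cfsg.isometryGroup F ⇑Q)) (hodd : Odd (orderOf A)) (hA : (orderOf A).Coprime p) : IsConj A B ↔ IsConj ((A : Matrix.GeneralLinearGroup (Fin n) F) : Matrix (Fin n) (Fin n) F) ((B : Matrix.GeneralLinearGroup (Fin n) F) : Matrix (Fin n) (Fin n) F) := by
  classical
  refine ⟨fun h => ((Units.coeHom _).comp (Cfsg.isometryGroup F ⇑Q).subtype).map_isConj h, ?_⟩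
  rintro ⟨g, hg⟩
  set MA : Matrix (Fin n) (Fin n) F := ((A : GL (Fin n) F) : Matrix (Fin n) (Fin n) F)
  set MB : Matrix (Fin n) (Fin n) F := ((B : GL (Fin n) F) : Matrix (Fin n) (Fin n) F)
  set N := orderOf A with hNdef
  set J : Matrix (Fin n) (Fin n) F := LinearMap.BilinForm.toMatrix' (QuadraticMap.polarBilin Q) with hJdef
  have hform : ∀ u v, u ⬝ᵥ J *ᵥ v = QuadraticMap.polar (⇑Q) u v := fun u v => by
    rw [← Matrix.toBilin'_apply', hJdef, Matrix.toBilin'_toMatrix']
    rfl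
  have hJ : IsUnit J.det := by
    rw [isUnit_iff_ne_zero, ← Matrix.nondegenerate_iff_det_ne_zero]
    exact LinearMap.BilinForm.nondegenerate_toMatrix'_iff.2 hQ
  have hT : Jᵀ = (1 : F) • J := by
    rw [one_smul]
    ext i j
    rw [transpose_apply, hJdef, LinearMap.BilinForm.toMatrix'_apply,
      LinearMap.BilinForm.toMatrix'_apply]
    exact QuadraticMap.polar_comm _ _ _
  have hQA : ∀ v, Q (MA *ᵥ v) = Q v := fun v => A.2 v v
  have hQB : ∀ v, Q (MB *ᵥ v) = Q v := fun v => B.2 v v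
  have isoOf : ∀ M : Matrix (Fin n) (Fin n) F, (∀ v, Q (M *ᵥ v) = Q v) → Mᵀ * J * M = J := by
    intro M hM
    apply Matrix.toBilin'.injective
    refine LinearMap.ext fun x => LinearMap.ext fun y => ?_
    rw [Matrix.toBilin'_apply', Matrix.toBilin'_apply', ← mulVec_mulVec, ← mulVec_mulVec,
      dotProduct_mulVec x Mᵀ, vecMul_transpose, hform, hform]
    simp only [QuadraticMap.polar, ← mulVec_add, hM]
  have hN : (N : F) ≠ 0 := by
    intro h0
    rw [CharP.cast_eq_zero_iff F p] at h0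
    exact (Fact.out : p.Prime).one_lt.ne' (Nat.eq_one_of_dvd_coprimes hA h0 (dvd_refl p))
  have hpowA : MA ^ N = 1 := by
    show (Units.val (A : GL (Fin n) F)) ^ N = 1
    rw [← Units.val_pow_eq_pow_val, ← SubmonoidClass.coe_pow, hNdef, pow_orderOf_eq_one]
    rfl
  have hAs : SsIso J N MA := ⟨isoOf MA hQA, hpowA, hN⟩
  have hgA : (g : Matrix (Fin n) (Fin n) F) * MA = MB * g := hg
  have hpowB : MB ^ N = 1 := by
    have : ∀ k, (g : Matrix (Fin n) (Fin n) F) * MA ^ k = MB ^ k * g := fun k => by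
      induction k with
      | zero => simp
      | succ k ih => rw [pow_succ, ← mul_assoc, ih, mul_assoc, hgA, ← mul_assoc, ← pow_succ]
    have h1 := this N
    rw [hpowA, mul_one] at h1
    exact g.isUnit.mul_eq_right.1 h1.symm
  have hBs : SsIso J N MB := ⟨isoOf MB hQB, hpowB, hN⟩
  obtain ⟨U, hU, hUA, hUf⟩ := exists_intertwiner hJ (one_mul (1 : F)) hT hAs.iso hBs.iso g.isUnit hgA
    hN hAs.sq_pow
  set P := proj N MA with hP
  have hPP : P * P = P := proj_mul_proj hN hAs.sq_pow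
  have hAP : Commute MA P := commute_proj (Commute.refl MA)
  have hUP : ∀ x, proj N MB *ᵥ (U *ᵥ x) = U *ᵥ (P *ᵥ x) := by
    have hpow : ∀ k, U * (MA * MA) ^ k = (MB * MB) ^ k * U := fun k => by
      induction k with
      | zero => simp
      | succ k ih =>
        rw [pow_succ, ← mul_assoc, ih, pow_succ, mul_assoc, mul_assoc, ← mul_assoc U MA MA, hUA,
          mul_assoc MB U MA, hUA]
        simp only [mul_assoc]
    intro x
    rw [mulVec_mulVec, mulVec_mulVec]
    congr 1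
    simp only [hP, proj, smul_mul_assoc, mul_smul_comm, Finset.sum_mul, Finset.mul_sum, hpow]
  have hfix : ∀ (M : Matrix (Fin n) (Fin n) F), SsIso J N M → ∀ y, proj N M *ᵥ y = y →
      M *ᵥ y = y := by
    intro M hM y hy
    have h2 : M *ᵥ (M *ᵥ y) = y := by
      rw [mulVec_mulVec]; exact sq_mulVec_of_proj hM.sq_pow hy
    have hpow : ∀ j : ℕ, (M ^ (2 * j)) *ᵥ y = y := by
      intro j
      induction j with
      | zero => simp
      | succ j ih =>
        rw [show 2 * (j + 1) = 2 * j + 1 + 1 by ring, pow_succ, pow_succ, ← mulVec_mulVec,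
          ← mulVec_mulVec, h2, ih]
    obtain ⟨k, hk⟩ := hodd
    have e : (M ^ N) *ᵥ y = M *ᵥ y := by
      rw [hk, pow_succ', ← mulVec_mulVec, hpow]
    rw [hM.pow_eq, one_mulVec] at e
    exact e.symm
  let X : Submodule F (Fin n → F) := LinearMap.ker P.mulVecLin
  have hX : ∀ {x}, x ∈ X ↔ P *ᵥ x = 0 := fun {x} => Iff.rfl
  have hXA : ∀ x ∈ X, MA *ᵥ x ∈ X := fun x hx => by
    rw [hX, mulVec_mulVec, ← hAP.eq, ← mulVec_mulVec, hX.1 hx, mulVec_zero]
  have hpolarU : ∀ a b, b ∈ X → QuadraticMap.polar (⇑Q) (U *ᵥ a) (U *ᵥ b) =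
      QuadraticMap.polar (⇑Q) a b := fun a b hb => by
    rw [← hform, ← hform, hUf a b (hX.1 hb)]
  -- `U` preserves `Q` on `X`
  have hQU : ∀ x ∈ X, Q (U *ᵥ x) = Q x := by
    have hsurj : ∀ x ∈ X, ∃ z ∈ X, MA *ᵥ z = x + z := by
      let T : Module.End F X := (MA.mulVecLin - LinearMap.id).restrict (fun x hx =>
        X.sub_mem (hXA x hx) hx)
      have hT : Function.Injective T := by
        rw [← LinearMap.ker_eq_bot, LinearMap.ker_eq_bot']
        intro z hz
        have h1 : MA *ᵥ (z : Fin n → F) = z := sub_eq_zero.1 (congrArg Subtype.val hz)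
        have h2 : P *ᵥ (z : Fin n → F) = z := proj_mulVec_of_fixed hN (by
          rw [← mulVec_mulVec, h1, h1])
        rw [hX.1 z.2] at h2
        exact Subtype.ext h2.symm
      intro x hx
      obtain ⟨z, hz⟩ := LinearMap.injective_iff_surjective.1 hT ⟨x, hx⟩
      exact ⟨z, z.2, sub_eq_iff_eq_add.1 (congrArg Subtype.val hz : MA *ᵥ (z : Fin n → F) - z = x)⟩
    intro x hx
    obtain ⟨z, hz, hzx⟩ := hsurj x hx
    have e1 : Q (U *ᵥ (x + z)) = Q (U *ᵥ z) := by
      rw [← hzx, mulVec_mulVec, hUA, ← mulVec_mulVec, hQB]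
    have e2 : Q (x + z) = Q z := by rw [← hzx, hQA]
    rw [mulVec_add, QuadraticMap.map_add (⇑Q), hpolarU x z hz] at e1
    rw [QuadraticMap.map_add (⇑Q)] at e2
    linear_combination e1 - e2
  have hUinj : Function.Injective U.mulVecLin := Matrix.mulVec_injective_iff_isUnit.2 hU
  obtain ⟨u, hu, huX⟩ := CfsgLib.Forms.witt_quadratic Q hQ X (X.map U.mulVecLin)
    (Submodule.equivMapOfInjective _ hUinj X) (fun x => by
      rw [Submodule.coe_equivMapOfInjective_apply]; exact hQU x x.2)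
  have huX' : ∀ x ∈ X, u x = U *ᵥ x := fun x hx => by
    rw [huX ⟨x, hx⟩, Submodule.coe_equivMapOfInjective_apply]; rfl
  have hupolar : ∀ a b, QuadraticMap.polar (⇑Q) (u a) (u b) = QuadraticMap.polar (⇑Q) a b :=
    fun a b => by simp only [QuadraticMap.polar, ← map_add, hu]
  have hzero : ∀ x, P *ᵥ ((1 - P) *ᵥ x) = 0 := fun x => by
    rw [mulVec_mulVec, mul_sub, mul_one, hPP, sub_self, zero_mulVec]
  have hW : ∀ w, P *ᵥ w = w → MB *ᵥ u w = u w := by
    intro w hw
    apply hfix MB hBs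
    obtain ⟨z0, hz0⟩ := (LinearMap.injective_iff_surjective.1 hUinj) (u w - proj N MB *ᵥ u w)
    change U *ᵥ z0 = _ at hz0
    have hz0X : z0 ∈ X := by
      apply hX.2
      apply hUinj
      show U *ᵥ (P *ᵥ z0) = U *ᵥ 0
      rw [← hUP, hz0, mulVec_sub, mulVec_mulVec, proj_mul_proj hN hBs.sq_pow, sub_self, mulVec_zero]
    have hperp : ∀ x ∈ X, QuadraticMap.polar (⇑Q) z0 x = 0 := by
      intro x hx
      rw [← hpolarU z0 x hx, hz0, QuadraticMap.polar_sub_left,
        ← hform (proj N MB *ᵥ u w), hBs.form_proj hJ (one_mul (1 : F)) hT, hUP, hX.1 hx,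
        mulVec_zero, mulVec_zero, dotProduct_zero, sub_zero, ← huX' x hx, hupolar, ← hw, ← hform,
        hAs.form_proj hJ (one_mul (1 : F)) hT, ← hP, hX.1 hx, mulVec_zero, dotProduct_zero]
    have hz00 : z0 = 0 := by
      refine hQ.1 z0 fun v => ?_
      show QuadraticMap.polar (⇑Q) z0 v = 0
      have hv : v = (1 - P) *ᵥ v + P *ᵥ v := by rw [← add_mulVec, sub_add_cancel, one_mulVec]
      rw [hv, QuadraticMap.polar_add_right, hperp _ (hX.2 (hzero v)), zero_add, ← hform,
        ← hAs.form_proj hJ (one_mul (1 : F)) hT, ← hP, hX.1 hz0X, zero_dotProduct]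
    rw [hz00, mulVec_zero] at hz0
    exact (sub_eq_zero.1 hz0.symm).symm
  have hinter : ∀ x, u (MA *ᵥ x) = MB *ᵥ u x := by
    intro x
    have hx : x = (1 - P) *ᵥ x + P *ᵥ x := by rw [← add_mulVec, sub_add_cancel, one_mulVec]
    have hPx : P *ᵥ (P *ᵥ x) = P *ᵥ x := by rw [mulVec_mulVec, hPP]
    rw [hx, mulVec_add, map_add, map_add, mulVec_add, hW _ hPx, hfix MA hAs _ hPx,
      huX' _ (hXA _ (hX.2 (hzero x))), huX' _ (hX.2 (hzero x)), mulVec_mulVec _ U MA, hUA,
      ← mulVec_mulVec]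
  let Ku : GL (Fin n) F := ⟨LinearMap.toMatrix' u.toLinearMap, LinearMap.toMatrix' u.symm.toLinearMap,
    by rw [← LinearMap.toMatrix'_comp, LinearEquiv.comp_coe, LinearEquiv.symm_trans_self]
       exact LinearMap.toMatrix'_id,
    by rw [← LinearMap.toMatrix'_comp, LinearEquiv.comp_coe, LinearEquiv.self_trans_symm]
       exact LinearMap.toMatrix'_id⟩
  have hKu : Ku ∈ Cfsg.isometryGroup F ⇑Q := fun v _ => by
    show Q (LinearMap.toMatrix' u.toLinearMap *ᵥ v) = Q v
    rw [LinearMap.toMatrix'_mulVec]; exact hu v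
  refine isConj_iff.2 ⟨⟨Ku, hKu⟩, mul_inv_eq_iff_eq_mul.2 (Subtype.ext (Units.ext ?_))⟩
  refine Matrix.ext_iff_mulVec.2 fun x => ?_
  show (LinearMap.toMatrix' u.toLinearMap * MA) *ᵥ x = (MB * LinearMap.toMatrix' u.toLinearMap) *ᵥ x
  rw [← mulVec_mulVec, ← mulVec_mulVec, LinearMap.toMatrix'_mulVec, LinearMap.toMatrix'_mulVec]
  exact hinter x

end Cfsg.Agent.S2590
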