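import Cfsg.Statements.S5036
import Cfsg.Agent.RootSubgroups.RootLines

set_option autoImplicit false
open Cfsg

namespace Cfsg.Agent.S5036

/-- Let S be a set of abstract root subgroups of G, A, B ∈ S with C = ⁅A, B⁆ ∈ S, and D ∈ S with ⁅D, C⁆ = A. Put X = ⟨B, D⟩ and N = AC. Then B, D form a rank one pair; the conjugates of A under X are the conjugates of C under X, namely the conjugates of A by elements of B together with C, equally the conjugates of C by elements of D together with A, and they partition N; and the centralizer of N in X is central in X. -/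
theorem result {G : Type*} [Group G] {S : Set (Subgroup G)} (hS : Cfsg.IsRootSubgroupSet S)
    {A B D : Subgroup G} (hA : A ∈ S) (hB : B ∈ S) (hC : ⁅A, B⁆ ∈ S) (hD : D ∈ S) (hDC : ⁅D, ⁅A, B⁆⁆ = A) :
    Cfsg.IsRankOnePair B D ∧
    {E | ∃ x ∈ B ⊔ D, E = Cfsg.conjBy A x} = {E | ∃ x ∈ B ⊔ D, E = Cfsg.conjBy ⁅A, B⁆ x} ∧
    {E | ∃ x ∈ B ⊔ D, E = Cfsg.conjBy A x} = (fun b : G => Cfsg.conjBy A b) '' (B : Set G) ∪ {⁅A, B⁆} ∧
    {E | ∃ x ∈ B ⊔ D, E = Cfsg.conjBy A x} = (fun d : G => Cfsg.conjBy ⁅A, B⁆ d) '' (D : Set G) ∪ {A} ∧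
    Cfsg.IsSubgroupPartition (A ⊔ ⁅A, B⁆) {E | ∃ x ∈ B ⊔ D, E = Cfsg.conjBy A x} ∧
    ∀ x ∈ (B ⊔ D) ⊓ Subgroup.centralizer ((A ⊔ ⁅A, B⁆ : Subgroup G) : Set G), ∀ y ∈ B ⊔ D, x * y = y * x := by
  open CfsgLib.RootSubgroups in
  have hc := commCase_of_mem hS hA hB hC
  open CfsgLib.RootSubgroups in
  have hcd : RootCommutatorCase S ⁅A, B⁆ D := commCase_symm (commCase_of_mem hS hD hC (hDC.symm ▸ hA))
  have hCD : ⁅⁅A, B⁆, D⁆ = A := (Subgroup.commutator_comm _ _).trans hDC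
  obtain ⟨a₀, ha₀, ha₀1⟩ := CfsgLib.RootSubgroups.exists_ne_one hS hA
  have hAD : ∀ a ∈ A, ∀ d ∈ D, a * d = d * a := fun a ha d hd =>
    CfsgLib.RootSubgroups.comm_right hcd (by rw [hCD]; exact ha) hd
  have hAC : ∀ a ∈ A, ∀ c ∈ ⁅A, B⁆, a * c = c * a := fun a ha c hc' =>
    (CfsgLib.RootSubgroups.comm_left hc hc' ha).symm
  have hr : IsRankOnePair B D := by
    rcases CfsgLib.RootSubgroups.trichotomy hS hB hD with h1 | h1 | h1
    · exfalso
      obtain ⟨b, hb, hb1⟩ := CfsgLib.RootSubgroups.exists_ne_one hS hB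
      obtain ⟨c, hc', hc1⟩ := CfsgLib.RootSubgroups.exists_ne_one hS hC
      refine hc1 (CfsgLib.RootSubgroups.commCase_centralizes hS hcd hc' fun d hd => ?_)
      obtain ⟨a, ha, rfl⟩ := CfsgLib.RootSubgroups.rcomm_surj_left hc hb hb1 hc'
      have e1 : Commute a d := hAD a ha d hd
      have e2 : Commute b d := h1 b hb d hd
      exact (((e1.inv_left.mul_left e2.inv_left).mul_left e1).mul_left e2).eq
    · exact h1
    · exfalso
      obtain ⟨b, hb, hb1⟩ := CfsgLib.RootSubgroups.exists_ne_one hS hB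
      obtain ⟨d, hd, hd1⟩ := CfsgLib.RootSubgroups.exists_ne_one hS hD
      obtain ⟨c₁, hc₁, ec₁⟩ := CfsgLib.RootSubgroups.rcomm_surj_left hcd (inv_mem hd)
        (inv_ne_one.mpr hd1) (show a₀ ∈ ⁅⁅A, B⁆, D⁆ by rw [hCD]; exact ha₀)
      obtain ⟨a₁, ha₁, ea₁⟩ := CfsgLib.RootSubgroups.rcomm_surj_left hc hb hb1 hc₁
      obtain ⟨c, hc', ec⟩ := CfsgLib.RootSubgroups.rcomm_surj_left hcd hd hd1
        (show a₁ ∈ ⁅⁅A, B⁆, D⁆ by rw [hCD]; exact ha₁)
      refine ha₀1 (CfsgLib.RootSubgroups.commCase_centralizes hS hc ha₀ fun x hx => ?_)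
      have hk : ∀ y ∈ B, Commute (b * d * b⁻¹ * d⁻¹) y := fun y hy =>
        CfsgLib.RootSubgroups.commCase_left_fix h1 hb hd y ((le_sup_left : B ≤ B ⊔ D) hy)
      set k := b * d * b⁻¹ * d⁻¹ with hkdef
      have hcx : ∀ y ∈ B, Commute c y := fun y hy => CfsgLib.RootSubgroups.comm_right hc hc' hy
      have hkc : ∀ y ∈ B, Commute (k * c * k⁻¹) y := fun y hy =>
        ((hk y hy).mul_left (hcx y hy)).mul_left (hk y hy).inv_left
      have e1 : d⁻¹ * c * d = c * a₁ := by rw [CfsgLib.RootSubgroups.conj_eq_mul_rcomm, ec]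
      have e2 : b⁻¹ * a₁ * b = a₁ * c₁ := by rw [CfsgLib.RootSubgroups.conj_eq_mul_rcomm, ea₁]
      have e3 : d * c₁ * d⁻¹ = c₁ * a₀ := by
        have := CfsgLib.RootSubgroups.conj_eq_mul_rcomm c₁ d⁻¹
        rwa [inv_inv, ec₁] at this
      have e4 : d * c * d⁻¹ = c * a₁⁻¹ := by
        have := CfsgLib.RootSubgroups.conj_eq_mul_rcomm c d⁻¹
        rwa [inv_inv, CfsgLib.RootSubgroups.rcomm_inv_right hcd hc' hd, ec] at this
      have e : b⁻¹ * (k * c * k⁻¹) * b = c * c₁ * a₀ := by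
        calc b⁻¹ * (k * c * k⁻¹) * b = d * (b⁻¹ * (d⁻¹ * c * d) * b) * d⁻¹ := by
              rw [hkdef]; group
          _ = d * ((b⁻¹ * c * b) * (b⁻¹ * a₁ * b)) * d⁻¹ := by rw [e1]; group
          _ = d * (c * (a₁ * c₁)) * d⁻¹ := by
              rw [e2, mul_assoc b⁻¹ c b, (hcx b hb).eq, inv_mul_cancel_left]
          _ = (d * c * d⁻¹) * (d * a₁ * d⁻¹) * (d * c₁ * d⁻¹) := by group
          _ = c * a₁⁻¹ * a₁ * (c₁ * a₀) := by
              rw [e3, e4, ← hAD a₁ ha₁ d hd, mul_inv_cancel_right]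
          _ = _ := by group
      have e5 : k * c * k⁻¹ = c * c₁ * a₀ := by
        rw [← e, mul_assoc b⁻¹, (hkc b hb).eq, inv_mul_cancel_left]
      have h6 := hkc x hx
      rw [e5] at h6
      have h7 : Commute (c * c₁) x := (hcx x hx).mul_left
        (CfsgLib.RootSubgroups.comm_right hc hc₁ hx)
      have := h7.inv_left.mul_left h6
      rwa [inv_mul_cancel_left] at this
  have hinj : ∀ a ∈ A, ∀ b ∈ B, a ≠ 1 → CfsgLib.RootSubgroups.rcomm a b = 1 → b = 1 := by
    intro a ha b hb ha1 hab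
    by_contra hb1
    have hab' := CfsgLib.RootSubgroups.rcomm_eq_one.mp hab
    have hne : D ≠ conjBy D b := fun he =>
      hb1 (CfsgLib.RootSubgroups.eq_one_of_fix hr hb he.symm)
    obtain ⟨-, hsup, -⟩ := CfsgLib.RootSubgroups.pair_of_unip hr
      (CfsgLib.RootSubgroups.right_mem hr)
      (CfsgLib.RootSubgroups.unip_conj_mem (CfsgLib.RootSubgroups.right_mem hr)
        ((le_sup_left : B ≤ B ⊔ D) hb)) hne
    have hle : D ⊔ conjBy D b ≤ Subgroup.centralizer ({a} : Set G) := by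
      refine sup_le (fun x hx => ?_) (fun x hx => ?_) <;>
        rw [Subgroup.mem_centralizer_singleton_iff]
      · exact (hAD a ha x hx).symm
      · rw [CfsgLib.RootSubgroups.mem_conjBy] at hx
        have h1 : Commute a (b⁻¹ * x * b) := hAD a ha _ hx
        have h2 : Commute a b := hab'
        have := (h2.mul_right h1).mul_right h2.inv_right
        simp only [mul_assoc, mul_inv_cancel_left, mul_inv_cancel, mul_one] at this
        exact this.symm.eq
    rw [hsup] at hle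
    refine ha1 (CfsgLib.RootSubgroups.commCase_centralizes hS hc ha fun x hx => ?_)
    exact (Subgroup.mem_centralizer_singleton_iff.mp (hle ((le_sup_left : B ≤ B ⊔ D) hx))).symm
  -- invariance of the line under both
  have hNB : ∀ b ∈ B, ∀ x ∈ A ⊔ ⁅A, B⁆, b⁻¹ * x * b ∈ A ⊔ ⁅A, B⁆ := by
    intro b hb x hx
    obtain ⟨a, ha, c, hc', rfl⟩ := (CfsgLib.RootSubgroups.sup_comm_mem hc).mp hx
    rw [show b⁻¹ * (a * c) * b = b⁻¹ * a * b * (b⁻¹ * c * b) by group,
      CfsgLib.RootSubgroups.conj_eq_mul_rcomm, mul_assoc b⁻¹ c b,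
      CfsgLib.RootSubgroups.comm_right hc hc' hb, inv_mul_cancel_left]
    exact (CfsgLib.RootSubgroups.sup_comm_mem hc).mpr ⟨a, ha, _,
      mul_mem (CfsgLib.RootSubgroups.rcomm_mem ha hb) hc', mul_assoc _ _ _⟩
  have hND : ∀ d ∈ D, ∀ x ∈ A ⊔ ⁅A, B⁆, d⁻¹ * x * d ∈ A ⊔ ⁅A, B⁆ := by
    intro d hd x hx
    obtain ⟨a, ha, c, hc', rfl⟩ := (CfsgLib.RootSubgroups.sup_comm_mem hc).mp hx
    rw [show d⁻¹ * (a * c) * d = d⁻¹ * a * d * (d⁻¹ * c * d) by group,
      CfsgLib.RootSubgroups.conj_eq_mul_rcomm c d, mul_assoc d⁻¹ a d,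
      hAD a ha d hd, inv_mul_cancel_left]
    refine mul_mem ((le_sup_left : A ≤ _) ha) (mul_mem ((le_sup_right : ⁅A, B⁆ ≤ _) hc') ?_)
    refine (le_sup_left : A ≤ _) ?_
    have := CfsgLib.RootSubgroups.rcomm_mem hc' hd
    rwa [hCD] at this
  have key : ∀ b ∈ B, ∀ d ∈ D, conjBy D b = conjBy B d → conjBy A b = conjBy ⁅A, B⁆ d := by
    intro b hb d hd he
    ext x
    rw [CfsgLib.RootSubgroups.mem_conjBy, CfsgLib.RootSubgroups.mem_conjBy]
    constructor
    · intro hx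
      have hxN : x ∈ A ⊔ ⁅A, B⁆ := by
        have := hNB b⁻¹ (inv_mem hb) _ ((le_sup_left : A ≤ _) hx)
        simpa [mul_assoc] using this
      obtain ⟨a, ha, c, hc', hac⟩ := (CfsgLib.RootSubgroups.sup_comm_mem hc).mp (hND d hd x hxN)
      suffices ha1 : a = 1 by rw [hac, ha1, one_mul]; exact hc'
      refine CfsgLib.RootSubgroups.commCase_centralizes hS hc ha fun y hy => ?_
      have hy' : d * y * d⁻¹ ∈ conjBy D b := he ▸ CfsgLib.RootSubgroups.conj_mem_conjBy hy d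
      rw [CfsgLib.RootSubgroups.mem_conjBy] at hy'
      have h1 : Commute (b * (b⁻¹ * x * b) * b⁻¹) (b * (b⁻¹ * (d * y * d⁻¹) * b) * b⁻¹) :=
        (Commute.conj_iff b).mpr (hAD _ hx _ hy')
      have h1' : Commute x (d * y * d⁻¹) := by simpa [mul_assoc] using h1
      have h2 : Commute (d⁻¹ * x * d) y := by
        have := (Commute.conj_iff d⁻¹).mpr h1'
        simpa [mul_assoc] using this
      rw [hac] at h2
      have h3 : Commute c y := CfsgLib.RootSubgroups.comm_right hc hc' hy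
      have := h2.mul_left h3.inv_left
      rwa [mul_inv_cancel_right] at this
    · intro hx
      have hxN : x ∈ A ⊔ ⁅A, B⁆ := by
        have := hND d⁻¹ (inv_mem hd) _ ((le_sup_right : ⁅A, B⁆ ≤ _) hx)
        simpa [mul_assoc] using this
      obtain ⟨a, ha, c, hc', hac⟩ := (CfsgLib.RootSubgroups.sup_comm_mem hc).mp (hNB b hb x hxN)
      suffices hc1 : c = 1 by rw [hac, hc1, mul_one]; exact ha
      refine CfsgLib.RootSubgroups.commCase_centralizes hS hcd hc' fun y hy => ?_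
      have hy' : b * y * b⁻¹ ∈ conjBy B d := he.symm ▸ CfsgLib.RootSubgroups.conj_mem_conjBy hy b
      rw [CfsgLib.RootSubgroups.mem_conjBy] at hy'
      have h1 : Commute (d * (d⁻¹ * x * d) * d⁻¹) (d * (d⁻¹ * (b * y * b⁻¹) * d) * d⁻¹) :=
        (Commute.conj_iff d).mpr (CfsgLib.RootSubgroups.comm_right hc hx hy')
      have h1' : Commute x (b * y * b⁻¹) := by simpa [mul_assoc] using h1
      have h2 : Commute (b⁻¹ * x * b) y := by
        have := (Commute.conj_iff b⁻¹).mpr h1'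
        simpa [mul_assoc] using this
      rw [hac] at h2
      have h3 : Commute a y := hAD a ha y hy
      have := h3.inv_left.mul_left h2
      rwa [inv_mul_cancel_left] at this
  have hTT : (fun b : G => Cfsg.conjBy A b) '' (B : Set G) ∪ {⁅A, B⁆} =
      (fun d : G => Cfsg.conjBy ⁅A, B⁆ d) '' (D : Set G) ∪ {A} := by
    ext E
    constructor
    · rintro (⟨b, hb, rfl⟩ | rfl)
      · by_cases hb1 : b = 1
        · right; exact (congrArg (conjBy A) hb1).trans (CfsgLib.RootSubgroups.conjBy_one A)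
        · obtain ⟨d, hd, -, he⟩ := hr.cond_left b⁻¹ (inv_mem hb) (inv_ne_one.mpr hb1)
          rw [inv_inv] at he
          exact Or.inl ⟨d⁻¹, inv_mem hd, (key b hb d⁻¹ (inv_mem hd) he.symm).symm⟩
      · exact Or.inl ⟨1, one_mem _, CfsgLib.RootSubgroups.conjBy_one _⟩
    · rintro (⟨d, hd, rfl⟩ | rfl)
      · by_cases hd1 : d = 1
        · right; exact (congrArg (conjBy ⁅A, B⁆) hd1).trans (CfsgLib.RootSubgroups.conjBy_one _)
        · obtain ⟨b, hb, -, he⟩ := hr.cond_right d⁻¹ (inv_mem hd) (inv_ne_one.mpr hd1)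
          rw [inv_inv] at he
          exact Or.inl ⟨b⁻¹, inv_mem hb, key b⁻¹ (inv_mem hb) d hd he⟩
      · exact Or.inl ⟨1, one_mem _, CfsgLib.RootSubgroups.conjBy_one _⟩
  set T := (fun b : G => Cfsg.conjBy A b) '' (B : Set G) ∪ {⁅A, B⁆} with hT
  have hinvB : ∀ g ∈ B, ∀ E ∈ T, conjBy E g ∈ T := by
    rintro g hg E (⟨b, hb, rfl⟩ | rfl)
    · exact Or.inl ⟨g * b, mul_mem hg hb, (CfsgLib.RootSubgroups.conjBy_conjBy A b g).symm⟩
    · exact Or.inr (CfsgLib.RootSubgroups.conjBy_eq_of_commute fun c hc' =>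
        (CfsgLib.RootSubgroups.comm_right hc hc' hg).symm)
  have hinvD : ∀ g ∈ D, ∀ E ∈ T, conjBy E g ∈ T := by
    rw [hTT]
    rintro g hg E (⟨d, hd, rfl⟩ | rfl)
    · exact Or.inl ⟨g * d, mul_mem hg hd, (CfsgLib.RootSubgroups.conjBy_conjBy _ d g).symm⟩
    · exact Or.inr (CfsgLib.RootSubgroups.conjBy_eq_of_commute fun a ha =>
        (hAD a ha g hg).symm)
  have hinv : ∀ x ∈ B ⊔ D, ∀ E ∈ T, conjBy E x ∈ T := by
    intro x hx
    have hx' : x ∈ Subgroup.closure ((B : Set G) ∪ (D : Set G)) := by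
      rwa [Subgroup.closure_union, Subgroup.closure_eq, Subgroup.closure_eq]
    refine Subgroup.closure_induction_left (p := fun y _ => ∀ E ∈ T, conjBy E y ∈ T) ?_ ?_ ?_ hx'
    · intro E hE; rwa [CfsgLib.RootSubgroups.conjBy_one]
    · intro g hg y _ ih E hE
      rw [← CfsgLib.RootSubgroups.conjBy_conjBy]
      rcases hg with hg | hg
      · exact hinvB g hg _ (ih E hE)
      · exact hinvD g hg _ (ih E hE)
    · intro g hg y _ ih E hE
      rw [← CfsgLib.RootSubgroups.conjBy_conjBy]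
      rcases hg with hg | hg
      · exact hinvB g⁻¹ (inv_mem hg) _ (ih E hE)
      · exact hinvD g⁻¹ (inv_mem hg) _ (ih E hE)
  have hAT : A ∈ T := Or.inl ⟨1, one_mem _, CfsgLib.RootSubgroups.conjBy_one A⟩
  obtain ⟨x₀, hx₀, hCx₀⟩ : ∃ x ∈ B ⊔ D, ⁅A, B⁆ = conjBy A x := by
    obtain ⟨b, hb, hb1⟩ := CfsgLib.RootSubgroups.exists_ne_one hS hB
    obtain ⟨d, hd, -, he⟩ := hr.cond_left b⁻¹ (inv_mem hb) (inv_ne_one.mpr hb1)
    rw [inv_inv] at he
    refine ⟨d * b, mul_mem ((le_sup_right : D ≤ B ⊔ D) hd) ((le_sup_left : B ≤ B ⊔ D) hb), ?_⟩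
    rw [← CfsgLib.RootSubgroups.conjBy_conjBy, key b hb d⁻¹ (inv_mem hd) he.symm,
      CfsgLib.RootSubgroups.conjBy_conjBy_inv]
  have horb : {E | ∃ x ∈ B ⊔ D, E = Cfsg.conjBy A x} = T := by
    ext E
    constructor
    · rintro ⟨x, hx, rfl⟩; exact hinv x hx A hAT
    · rintro (⟨b, hb, rfl⟩ | rfl)
      · exact ⟨b, (le_sup_left : B ≤ B ⊔ D) hb, rfl⟩
      · exact ⟨x₀, hx₀, hCx₀⟩
  refine ⟨hr, ?_, horb, horb.trans hTT, ?_, ?_⟩
  · ext E
    constructor
    · rintro ⟨x, hx, rfl⟩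
      refine ⟨x * x₀⁻¹, mul_mem hx (inv_mem hx₀), ?_⟩
      rw [hCx₀, CfsgLib.RootSubgroups.conjBy_conjBy, inv_mul_cancel_right]
    · rintro ⟨x, hx, rfl⟩
      exact ⟨x * x₀, mul_mem hx hx₀, by rw [hCx₀, CfsgLib.RootSubgroups.conjBy_conjBy]⟩
  · rw [horb]
    exact CfsgLib.RootSubgroups.line_partition hS hA hc hinj
  · set K := (B ⊔ D) ⊓ Subgroup.centralizer ((A ⊔ ⁅A, B⁆ : Subgroup G) : Set G)
    have hKn : ∀ x ∈ B ⊔ D, conjBy K x = K := by
      intro x hx
      refine CfsgLib.RootSubgroups.conjBy_eq_self_iff.mpr ?_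
      have hle : B ⊔ D ≤ Subgroup.normalizer ((A ⊔ ⁅A, B⁆ : Subgroup G) : Set G) := by
        refine sup_le (fun g hg => Subgroup.mem_normalizer_iff.mpr fun z => ⟨fun hz => ?_, fun hz => ?_⟩)
          (fun g hg => Subgroup.mem_normalizer_iff.mpr fun z => ⟨fun hz => ?_, fun hz => ?_⟩)
        · simpa using hNB g⁻¹ (inv_mem hg) z hz
        · simpa [mul_assoc] using hNB g hg _ hz
        · simpa using hND g⁻¹ (inv_mem hg) z hz
        · simpa [mul_assoc] using hND g hg _ hz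
      have h1 : x ∈ Subgroup.normalizer ((B ⊔ D : Subgroup G) : Set G) := Subgroup.le_normalizer hx
      have h2 : x ∈ Subgroup.normalizer
          ((Subgroup.centralizer ((A ⊔ ⁅A, B⁆ : Subgroup G) : Set G) : Subgroup G) : Set G) := by
        rw [Subgroup.mem_normalizer_iff]
        intro z
        have hx' := Subgroup.mem_normalizer_iff.mp (hle hx)
        simp only [SetLike.mem_coe, Subgroup.mem_centralizer_iff]
        constructor
        · intro hz y hy
          have : x⁻¹ * y * x ∈ A ⊔ ⁅A, B⁆ := (hx' _).mpr (by simpa [mul_assoc] using hy)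
          have h3 : Commute (x * (x⁻¹ * y * x) * x⁻¹) (x * z * x⁻¹) :=
            (Commute.conj_iff x).mpr (hz _ this)
          simpa [mul_assoc, Commute, SemiconjBy] using h3
        · intro hz y hy
          exact (Commute.conj_iff x).mp (hz _ ((hx' y).mp hy))
      rw [Subgroup.mem_normalizer_iff] at h1 h2 ⊢
      intro z
      exact and_congr (h1 z) (h2 z)
    rcases CfsgLib.RootSubgroups.normal_dichotomy hr (K := K) inf_le_left hKn with h' | h'
    · exfalso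
      obtain ⟨c, hc', hc1⟩ := CfsgLib.RootSubgroups.exists_ne_one hS hC
      refine hc1 (CfsgLib.RootSubgroups.commCase_centralizes hS hcd hc' fun d hd => ?_)
      have hle : K ⊔ B ≤ Subgroup.centralizer ({c} : Set G) := by
        refine sup_le (fun x hx => ?_) (fun x hx => ?_) <;>
          rw [Subgroup.mem_centralizer_singleton_iff]
        · exact (Subgroup.mem_centralizer_iff.mp hx.2 c
            ((le_sup_right : ⁅A, B⁆ ≤ A ⊔ ⁅A, B⁆) hc')).symm
        · exact (CfsgLib.RootSubgroups.comm_right hc hc' hx).symm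
      exact (Subgroup.mem_centralizer_singleton_iff.mp
        (hle (h'.symm ▸ (le_sup_right : D ≤ B ⊔ D) hd))).symm
    · exact h'

end Cfsg.Agent.S5036
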