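import Cfsg.Statements.S5020
import Cfsg.Agent.RootSubgroups.SpecialStructure
import Cfsg.Agent.Components.Basic

set_option autoImplicit false
open Cfsg

namespace Cfsg.Agent.S5020

/-- Let X be a special rank one group with abelian unipotent subgroups A and B, and H = N(A) ∩ N(B) its diagonal subgroup. Then either A has at most three elements and X is isomorphic to SL₂(2), SL₂(3) or PSL₂(3); or X = X' A with the commutator subgroup X' quasisimple and the commutator subgroup ⁅A, H⁆ having more than three elements. -/
theorem result {X : Type*} [Group X] {A B : Subgroup X} (h : Cfsg.IsRankOneGroup X A B)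
    (hs : Cfsg.IsSpecialRankOnePair A B) (hab : Cfsg.HasAbelianUnipotents A B) :
    (ENat.card A ≤ 3 ∧ (Nonempty (X ≃* Matrix.SpecialLinearGroup (Fin 2) (ZMod 2)) ∨
        Nonempty (X ≃* Matrix.SpecialLinearGroup (Fin 2) (ZMod 3)) ∨
        Nonempty (X ≃* Matrix.ProjectiveSpecialLinearGroup (Fin 2) (ZMod 3)))) ∨
    (commutator X ⊔ A = ⊤ ∧ Cfsg.IsQuasisimple (commutator X) ∧
      3 < ENat.card ↥(⁅A, Cfsg.rankOneDiagonal A B⁆ : Subgroup X)) := by
  open CfsgLib.RootSubgroups in
  have H : SpecialAbelian A B := ⟨hs, hab⟩
  by_cases h3 : ENat.card A ≤ 3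
  · left
    refine ⟨h3, ?_⟩
    haveI hfin : Finite A := by
      by_contra hinf
      rw [not_finite_iff_infinite] at hinf
      rw [ENat.card_eq_top_of_infinite] at h3
      exact absurd h3 (by decide)
    have hcard : Nat.card A ≤ 3 := by
      have h' := h3
      rw [ENat.card_eq_coe_natCard] at h'
      exact_mod_cast h'
    obtain ⟨a, ha, ha1⟩ := CfsgLib.RootSubgroups.exists_ne_one_left h.2
    have hgt : 1 < Nat.card A := by
      haveI : Nontrivial A := ⟨⟨⟨a, ha⟩, 1, fun e => ha1 (congrArg Subtype.val e)⟩⟩
      exact Finite.one_lt_card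
    have hp : (Nat.card A).Prime := by
      interval_cases hh : Nat.card A
      · exact Nat.prime_two
      · exact Nat.prime_three
    haveI := Fact.mk hp
    have hpow : ∀ x ∈ A, x ^ Nat.card A = 1 := fun x hx =>
      congrArg Subtype.val (pow_card_eq_one' (x := (⟨x, hx⟩ : A)))
    obtain ⟨b, q⟩ := CfsgLib.RootSubgroups.exists_isPartner h.2 ha ha1
    have hAle : A ≤ Subgroup.closure ({a, b} : Set X) := by
      intro x hx
      obtain ⟨k, hk⟩ := Subgroup.mem_zpowers_iff.mp
        (mem_zpowers_of_prime_card (g := (⟨a, ha⟩ : A)) (g' := (⟨x, hx⟩ : A)) rfl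
          (fun e => ha1 (congrArg Subtype.val e)))
      have : a ^ k = x := by simpa using congrArg Subtype.val hk
      rw [← this]
      exact zpow_mem (Subgroup.subset_closure (by simp)) k
    have htop : Subgroup.closure ({a, b} : Set X) = ⊤ := by
      have hn : a * b⁻¹ * a ∈ Subgroup.closure ({a, b} : Set X) :=
        mul_mem (mul_mem (hAle ha) (inv_mem (Subgroup.subset_closure (by simp)))) (hAle ha)
      rw [eq_top_iff, ← h.1]
      refine sup_le hAle ?_
      rw [← (H.swap q).1]
      intro z hz
      rw [CfsgLib.RootSubgroups.mem_conjBy] at hz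
      have := mul_mem (mul_mem hn (hAle hz)) (inv_mem hn)
      simpa [mul_assoc] using this
    have e : X ≃* ↥(Subgroup.closure ({a, b} : Set X)) :=
      (Subgroup.topEquiv.symm).trans (MulEquiv.subgroupCongr htop.symm)
    have hiso := H.closure_pair_iso hpow q
    interval_cases hh : Nat.card A
    · left
      rcases hiso with hf | hf
      · exact hf.map e.trans
      · refine hf.map fun f => (e.trans f).trans ((QuotientGroup.quotientMulEquivOfEq ?_).trans
          QuotientGroup.quotientBot)
        rw [Subgroup.eq_bot_iff_forall]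
        intro z hz
        rcases CfsgLib.RootSubgroups.SL2.eq_one_or_of_center hz with h1 | h1
        · exact h1
        · refine Subtype.ext (h1.trans ?_)
          show (-1 : Matrix (Fin 2) (Fin 2) (ZMod 2)) = 1
          ext i j
          fin_cases i <;> fin_cases j <;> simp [show (-1 : ZMod 2) = 1 from rfl]
    · right
      exact hiso.imp (fun hf => hf.map e.trans) (fun hf => hf.map e.trans)
  · right
    push Not at h3
    have hthree : ∀ x y : X, ∃ w ∈ A, w ≠ 1 ∧ w ≠ x ∧ w ≠ y := by
      intro x y
      by_contra hc
      push Not at hc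
      have hsub : (A : Set X) ⊆ {1, x, y} := fun w hw => by
        by_cases h1 : w = 1
        · exact Or.inl h1
        by_cases h2 : w = x
        · exact Or.inr (Or.inl h2)
        · exact Or.inr (Or.inr (hc w hw h1 h2))
      have hle := Set.encard_le_encard hsub
      have : ENat.card A ≤ 3 := by
        rw [← Set.encard_univ, ← Subtype.val_injective.encard_image, Set.image_univ, Subtype.range_coe]
        refine hle.trans ?_
        refine (Set.encard_insert_le _ _).trans ?_
        refine (add_le_add_left (Set.encard_insert_le _ _) 1).trans ?_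
        rw [Set.encard_singleton]; decide
      exact absurd this (not_le.mpr h3)
    have hR : ⁅A, Cfsg.rankOneDiagonal A B⁆ = A := H.commutator_diagonal hthree
    have hA' : A ≤ commutator X := by
      conv_lhs => rw [← hR]
      exact Subgroup.commutator_mono le_top le_top
    have htop : commutator X = ⊤ := by
      obtain ⟨x, -, hx⟩ := CfsgLib.RootSubgroups.right_mem h.2
      rw [eq_top_iff, ← h.1]
      refine sup_le hA' ?_
      rw [hx]
      intro z hz
      rw [CfsgLib.RootSubgroups.mem_conjBy] at hz
      have := Subgroup.Normal.conj_mem inferInstance _ (hA' hz) x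
      simpa [mul_assoc] using this
    refine ⟨by rw [htop, top_sup_eq], ?_, by rw [hR]; exact h3⟩
    exact CfsgLib.Components.isQuasisimple_congr ((Subgroup.topEquiv.symm).trans (MulEquiv.subgroupCongr htop.symm))
      (CfsgLib.RootSubgroups.isQuasisimple_of_perfect h ⟨htop⟩)

end Cfsg.Agent.S5020
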