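import Cfsg.Statements.S0001
import Cfsg.Agent.Solvable.SchurZassenhaus
-- Template for statement S0001 (row 1; see /opt/grader/pristine/manifest.json for weights).
-- Copy to Cfsg/Agent/S0001.lean and replace the sorry. The statement below is byte-identical to the frozen
-- statement Cfsg.CfsgFrozen.S0001 (Cfsg/Statements/S0001.lean; the theorem Cfsg.schur_zassenhaus_conjugacy);
-- the grader kernel-checks Cfsg.Agent.S0001.result against that frozen type. Keep the theorem IN THIS FILE
-- (a `result` declared elsewhere and merely imported here is not credited); helpers may live anywhere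
-- under Cfsg/Agent/.

set_option autoImplicit false
open Pointwise
open Cfsg

namespace Cfsg.Agent.S0001

/-- Conjugacy half of the Schur–Zassenhaus Theorem, under a solvability assumption on the normal Hall subgroup or on its quotient. -/
theorem result {G : Type*} [Group G] [Finite G] (N : Subgroup G) [N.Normal]
    (hN : (Nat.card N).Coprime N.index) (hsolv : Group.IsSolvable N ∨ Group.IsSolvable (G ⧸ N))
    (H K : Subgroup G) (hH : Subgroup.IsComplement' N H) (hK : Subgroup.IsComplement' N K) :
    ∃ g : G, MulAut.conj g • H = K := by
  obtain ⟨n, -, h⟩ := CfsgLib.Solvable.exists_conj_eq_of_isComplement' hN hsolv hH hK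
  exact ⟨n, h⟩

end Cfsg.Agent.S0001
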