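import Cfsg.Statements.S0002
import Cfsg.Agent.Solvable.SchurZassenhaus
-- Template for statement S0002 (row 2; see /opt/grader/pristine/manifest.json for weights).
-- Copy to Cfsg/Agent/S0002.lean and replace the sorry. The statement below is byte-identical to the frozen
-- statement Cfsg.CfsgFrozen.S0002 (Cfsg/Statements/S0002.lean; the theorem Cfsg.schur_conjugacy_abelian);
-- the grader kernel-checks Cfsg.Agent.S0002.result against that frozen type. Keep the theorem IN THIS FILE
-- (a `result` declared elsewhere and merely imported here is not credited); helpers may live anywhere
-- under Cfsg/Agent/.

set_option autoImplicit false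
open Pointwise
open Cfsg

namespace Cfsg.Agent.S0002

/-- Schur's Theorem, conjugacy part, for an abelian normal subgroup of coprime order and index: any two complements are conjugate by an element of the normal subgroup. -/
theorem result {G : Type*} [Group G] [Finite G] (A : Subgroup G) [A.Normal] [IsMulCommutative A]
    (hA : (Nat.card A).Coprime A.index)
    (H K : Subgroup G) (hH : Subgroup.IsComplement' A H) (hK : Subgroup.IsComplement' A K) :
    ∃ a ∈ A, MulAut.conj a • H = K := by
  exact CfsgLib.Solvable.exists_conj_eq_of_abelian hA hH hK

end Cfsg.Agent.S0002
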