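import Cfsg.Statements.S0018
import Cfsg.Agent.PLocal.PSolvable
import Cfsg.Agent.Solvable.Fitting

set_option autoImplicit false
open Cfsg

namespace Cfsg.Agent.S0018

/-- A finite solvable group whose Sylow p-subgroups are abelian has p-length one: a Sylow p-subgroup together with the largest normal subgroup of order prime to p generates a normal subgroup. -/
theorem result {G : Type*} [Group G] [Finite G] [Group.IsSolvable G]
    (p : ℕ) [Fact p.Prime] (P : Sylow p G) (hP : IsMulCommutative P) :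
    ((P : Subgroup G) ⊔ Cfsg.pPrimeCore p G).Normal := by
  let N : Subgroup G := Cfsg.pPrimeCore p G
  have hNn : N.Normal := Subgroup.sSup_normal _ fun _ h => h.1
  let f := QuotientGroup.mk' N
  have hsurj : Function.Surjective f := QuotientGroup.mk'_surjective N
  let P' : Sylow p (G ⧸ N) := P.mapSurjective hsurj
  have hcore : Cfsg.pPrimeCore p (G ⧸ N) = ⊥ := CfsgLib.PLocal.pPrimeCore_quotient_pPrimeCore_eq_bot p G
  have hC := CfsgLib.PLocal.centralizer_pCore_le
    (CfsgLib.PLocal.isPSolvable_of_isSolvable (p := p) (G := G ⧸ N)) hcore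
  have hP'c : (P' : Subgroup (G ⧸ N)) ≤ Subgroup.centralizer (Cfsg.pCore p (G ⧸ N) : Set (G ⧸ N)) := by
    intro x hx
    rw [Subgroup.mem_centralizer_iff]
    intro y hy
    obtain ⟨a, ha, rfl⟩ := (CfsgLib.Solvable.pCore_le_sylow P' hy : y ∈ (P : Subgroup G).map f)
    obtain ⟨b, hb, rfl⟩ := (hx : x ∈ (P : Subgroup G).map f)
    rw [← map_mul, ← map_mul]
    exact congrArg f (congrArg Subtype.val (hP.is_comm.comm (⟨a, ha⟩ : P) ⟨b, hb⟩))
  have hEq : (P : Subgroup G).map f = Cfsg.pCore p (G ⧸ N) :=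
    le_antisymm (hP'c.trans hC) (CfsgLib.Solvable.pCore_le_sylow P')
  have h1 : (P : Subgroup G) ⊔ N = (Cfsg.pCore p (G ⧸ N)).comap f := by
    rw [← hEq, Subgroup.comap_map_eq, QuotientGroup.ker_mk']
  rw [h1]
  exact Subgroup.Normal.comap (CfsgLib.Solvable.pCore_normal p) f

end Cfsg.Agent.S0018
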