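import Cfsg.Statements.S0031
import Mathlib.GroupTheory.Sylow
import Mathlib.Algebra.Group.Subgroup.Pointwise

set_option autoImplicit false
open Cfsg

namespace Cfsg.Agent.S0031

open scoped Pointwise

/-- A fixed-point-free automorphism of a finite group maps some Sylow p-subgroup to itself. -/
theorem result {G : Type*} [Group G] [Finite G] (φ : G ≃* G)
    (hφ : MonoidHom.FixedPointFree (φ : G →* G)) (p : ℕ) [Fact p.Prime] :
    ∃ P : Sylow p G, (P : Subgroup G).map (φ : G →* G) = P := by
  let P : Sylow p G := Classical.arbitrary _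
  obtain ⟨g, hg⟩ := MulAction.exists_smul_eq G P (P.mapSurjective (f := (φ : G →* G)) φ.surjective)
  have hg' : MulAut.conj g • (P : Subgroup G) = (P : Subgroup G).map (φ : G →* G) := by
    rw [← Sylow.coe_subgroup_smul, hg]; rfl
  obtain ⟨x, hx⟩ := hφ.commutatorMap_surjective g⁻¹
  simp only [MonoidHom.commutatorMap_apply, MonoidHom.coe_coe, div_eq_mul_inv] at hx
  refine ⟨x⁻¹ • P, ?_⟩
  rw [Sylow.coe_subgroup_smul]
  have h1 : ((MulAut.conj x⁻¹ • (P : Subgroup G)).map (φ : G →* G)) =
      MulAut.conj (φ x⁻¹) • (P : Subgroup G).map (φ : G →* G) := by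
    change ((P : Subgroup G).map (MulAut.conj x⁻¹).toMonoidHom).map (φ : G →* G) =
      ((P : Subgroup G).map (φ : G →* G)).map (MulAut.conj (φ x⁻¹)).toMonoidHom
    rw [Subgroup.map_map, Subgroup.map_map]
    congr 1
    ext y
    simp
  have hgx : g = φ x * x⁻¹ := by rw [← inv_inv g, ← hx, mul_inv_rev, inv_inv]
  rw [h1, ← hg', ← mul_smul, ← map_mul, hgx, map_inv φ x, inv_mul_cancel_left]

end Cfsg.Agent.S0031
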