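import Cfsg.Statements.S0041
import Cfsg.Agent.Coprime.Generation
import Cfsg.Agent.Solvable.FrobeniusBasic

set_option autoImplicit false
open Cfsg

namespace Cfsg.Agent.S0041

open scoped IsMulCommutative

/-- A group acting on a nontrivial abelian group so that no nonidentity element has a nonidentity fixed point is cyclic, provided it is abelian or its order is a product of two (possibly equal) primes. -/
theorem result {G : Type*} [Group G] [Finite G] (A V : Subgroup G) [IsMulCommutative V]
    (hV : V ≠ ⊥) (hAV : A ≤ Subgroup.normalizer (V : Set G)) (hfpf : ∀ a ∈ A, a ≠ 1 → V ⊓ Subgroup.centralizer {a} = ⊥)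
    (hA : IsMulCommutative A ∨ ∃ p q : ℕ, p.Prime ∧ q.Prime ∧ Nat.card A = p * q) : IsCyclic A := by
  classical
  by_cases hAbot : A = ⊥
  · subst hAbot
    exact isCyclic_of_subsingleton
  let φ : A →* MulAut V :=
    MonoidHom.mk' (fun a =>
      { toFun := fun v => ⟨a * v * a⁻¹, (Subgroup.mem_normalizer_iff.mp (hAV a.2) v).mp v.2⟩
        invFun := fun v => ⟨(a : G)⁻¹ * v * a, by
          have h1 := (Subgroup.mem_normalizer_iff.mp (hAV (A.inv_mem a.2)) v).mp v.2
          simpa using h1⟩
        left_inv := fun v => by ext; simp [mul_assoc]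
        right_inv := fun v => by ext; simp [mul_assoc]
        map_mul' := fun v w => by ext; simp [mul_assoc] })
      (fun a b => by ext v; simp [mul_assoc, MulAut.mul_apply])
  letI : MulAction A V := MulAction.compHom V φ
  have hsmul : ∀ (a : A) (v : V), ((a • v : V) : G) = a * v * (a : G)⁻¹ := fun a v => rfl
  have hfree : ∀ v : V, v ≠ 1 → ∀ a : A, a • v = v → a = 1 := by
    intro v hv a hav
    by_contra ha
    apply hv
    have h1 : (v : G) ∈ V ⊓ Subgroup.centralizer {(a : G)} := ⟨v.2, Subgroup.mem_centralizer_iff.mpr (by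
      rintro x (rfl : x = _)
      have h2 : (a : G) * v * (a : G)⁻¹ = v := by rw [← hsmul, hav]
      exact mul_inv_eq_iff_eq_mul.mp h2)⟩
    rw [hfpf a a.2 (fun e => ha (Subtype.ext e)), Subgroup.mem_bot] at h1
    exact Subtype.ext h1
  have hdvd : Nat.card A ∣ Nat.card V - 1 := CfsgLib.Solvable.card_dvd_card_sub_one (1 : V)
    (fun m => map_one (φ m)) (fun x hx m hm => hfree x hx m hm)
  have hcop : (Nat.card A).Coprime (Nat.card V) := by
    have hV1 : 1 ≤ Nat.card V := Nat.card_pos
    have h1 : Nat.Coprime (Nat.card V - 1) (Nat.card V) := by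
      conv_rhs => rw [← Nat.sub_add_cancel hV1]
      exact Nat.coprime_self_add_right.mpr (Nat.coprime_one_right _)
    exact h1.coprime_dvd_left hdvd
  have habel : IsMulCommutative A → IsCyclic A := by
    intro hcomm
    by_contra hcyc
    apply hV
    rw [← CfsgLib.Coprime.iSup_inf_centralizer_eq hcyc hAV hcop]
    simp only [iSup_eq_bot]
    intro a ha
    exact hfpf a ha.1 ha.2
  rcases hA with hA | ⟨p, q, hp, hq, hpq⟩
  · exact habel hA
  by_cases hcomm : IsMulCommutative A
  · exact habel hcomm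
  exfalso
  rcases eq_or_ne p q with rfl | hne
  · have := Fact.mk hp
    exact hcomm (IsPGroup.isMulCommutative_of_card_eq_prime_sq (p := p) (by rw [hpq, sq]))
  wlog hlt : p < q generalizing p q
  · exact this q p hq hp (by rw [hpq, mul_comm]) hne.symm (by omega)
  have := Fact.mk hp
  have := Fact.mk hq
  -- the subgroup of order `q` is unique
  have huniq : ∀ X Y : Subgroup A, Nat.card X = q → Nat.card Y = q → X = Y := by
    intro X Y hX hY
    by_contra hXY
    have hd : Disjoint X Y := by
      rw [disjoint_iff]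
      have h1 : Nat.card ↥(X ⊓ Y) ∣ q := hX ▸ Subgroup.card_dvd_of_le inf_le_left
      rcases (Nat.dvd_prime hq).mp h1 with h | h
      · exact Subgroup.card_eq_one.mp h
      · exfalso
        have e1 : X ⊓ Y = X := Subgroup.eq_of_le_of_card_ge inf_le_left (by rw [h, hX])
        have e2 : X ⊓ Y = Y := Subgroup.eq_of_le_of_card_ge inf_le_right (by rw [h, hY])
        exact hXY (e1.symm.trans e2)
    have h2 := Nat.card_le_card_of_injective _ (Subgroup.mul_injective_of_disjoint hd)
    rw [Nat.card_prod, hX, hY, hpq] at h2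
    exact absurd h2 (not_le.mpr (Nat.mul_lt_mul_of_pos_right hlt hq.pos))
  have hord : ∀ a : A, a ≠ 1 → orderOf a = p ∨ orderOf a = q := by
    intro a ha
    have h1 : orderOf a ∣ p * q := hpq ▸ orderOf_dvd_natCard a
    have h2 : orderOf a ≠ p * q := fun h => hcomm (by
      have : IsCyclic A := isCyclic_of_orderOf_eq_card a (h.trans hpq.symm)
      infer_instance)
    obtain ⟨u, v, hu, hv, huv⟩ := Nat.dvd_mul.mp h1
    rcases (Nat.dvd_prime hp).mp hu with e1 | e1 <;>
      rcases (Nat.dvd_prime hq).mp hv with e2 | e2 <;> rw [e1, e2] at huv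
    · exact absurd (orderOf_eq_one_iff.mp (huv.symm.trans (mul_one 1))) ha
    · exact Or.inr (huv.symm.trans (one_mul q))
    · exact Or.inl (huv.symm.trans (mul_one p))
    · exact absurd huv.symm h2
  have hprime : ∀ a : A, a ≠ 1 → (Nat.card (Subgroup.zpowers a)).Prime := fun a ha => by
    rw [Nat.card_zpowers]
    rcases hord a ha with h | h <;> rw [h] <;> assumption
  have := Fintype.ofFinite A
  let S : Finset (Subgroup A) := (Finset.univ.filter fun a : A => a ≠ 1).image Subgroup.zpowers
  have hS : ∀ W ∈ S, ∃ a : A, a ≠ 1 ∧ W = Subgroup.zpowers a := by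
    intro W hW
    obtain ⟨a, ha, rfl⟩ := Finset.mem_image.mp hW
    exact ⟨a, (Finset.mem_filter.mp ha).2, rfl⟩
  have hmemS : ∀ a : A, a ≠ 1 → ∀ W ∈ S, a ∈ W → W = Subgroup.zpowers a := by
    intro a ha W hW haW
    obtain ⟨b, hb, rfl⟩ := hS W hW
    refine (Subgroup.eq_of_le_of_card_ge (Subgroup.zpowers_le.mpr haW) ?_).symm
    rcases (hprime b hb).eq_one_or_self_of_dvd _
      (Subgroup.card_dvd_of_le (Subgroup.zpowers_le.mpr haW)) with h | h
    · exact absurd (Subgroup.card_eq_one.mp h) (fun e => ha (Subgroup.zpowers_eq_bot.mp e))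
    · exact h.ge
  have hfib : ∀ W ∈ S, (Finset.univ.filter fun a : A => a ≠ 1 ∧ a ∈ W).card = Nat.card W - 1 := by
    intro W _
    have h1 : (Finset.univ.filter fun a : A => a ≠ 1 ∧ a ∈ W) =
        (Finset.univ.filter fun a : A => a ∈ W).erase 1 := by ext a; simp
    rw [h1, Finset.card_erase_of_mem (by simp), Nat.card_eq_fintype_card, Fintype.card_subtype]
  have hpart : (Finset.univ.filter fun a : A => a ≠ 1) =
      S.biUnion (fun W => Finset.univ.filter fun a : A => a ≠ 1 ∧ a ∈ W) := by
    ext a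
    simp only [Finset.mem_filter, Finset.mem_univ, true_and, Finset.mem_biUnion]
    refine ⟨fun ha => ⟨_, Finset.mem_image.mpr ⟨a, by simp [ha], rfl⟩, ha,
      Subgroup.mem_zpowers a⟩, ?_⟩
    rintro ⟨W, -, ha, -⟩
    exact ha
  have hdisjS : (S : Set (Subgroup A)).PairwiseDisjoint
      (fun W => Finset.univ.filter fun a : A => a ≠ 1 ∧ a ∈ W) := by
    intro W hW W' hW' hne'
    rw [Function.onFun, Finset.disjoint_left]
    intro a ha ha'
    simp only [Finset.mem_filter, Finset.mem_univ, true_and] at ha ha'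
    exact hne' ((hmemS a ha.1 W hW ha.2).trans (hmemS a ha.1 W' hW' ha'.2).symm)
  -- the product argument
  have hfix : ∀ (W : Subgroup A) (v : V), W ≠ ⊥ →
      ∏ a ∈ Finset.univ.filter (fun a : A => a ∈ W), a • v = (1 : V) := by
    intro W v hW
    obtain ⟨⟨b, hbW⟩, hb⟩ := Subgroup.ne_bot_iff_exists_ne_one.mp hW
    by_contra hne1
    refine hb (Subtype.ext (hfree _ hne1 b ?_))
    change φ b _ = _
    rw [map_prod]
    refine Finset.prod_bij' (fun a _ => b * a) (fun a _ => b⁻¹ * a) ?_ ?_ ?_ ?_ ?_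
    · intro a ha
      simp only [Finset.mem_filter, Finset.mem_univ, true_and] at ha ⊢
      exact W.mul_mem hbW ha
    · intro a ha
      simp only [Finset.mem_filter, Finset.mem_univ, true_and] at ha ⊢
      exact W.mul_mem (W.inv_mem hbW) ha
    · intro a _; simp
    · intro a _; simp
    · intro a _
      exact (mul_smul b a v).symm
  obtain ⟨⟨v, hv⟩, hv1⟩ := Subgroup.ne_bot_iff_exists_ne_one.mp hV
  apply hv1
  set w : V := ⟨v, hv⟩
  have hprodW : ∀ W ∈ S, ∏ a ∈ Finset.univ.filter (fun a : A => a ≠ 1 ∧ a ∈ W), a • w = w⁻¹ := by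
    intro W hW
    obtain ⟨b, hb, rfl⟩ := hS W hW
    have h1 := hfix (Subgroup.zpowers b) w (fun e => hb (Subgroup.zpowers_eq_bot.mp e))
    have h2 : (Finset.univ.filter fun a : A => a ≠ 1 ∧ a ∈ Subgroup.zpowers b) =
        (Finset.univ.filter fun a : A => a ∈ Subgroup.zpowers b).erase 1 := by ext a; simp
    rw [← Finset.mul_prod_erase _ _ (show (1 : A) ∈ _ by simp), one_smul, ← h2] at h1
    exact eq_inv_of_mul_eq_one_right h1
  have htot : w * (w⁻¹) ^ S.card = 1 := by
    have h1 := hfix ⊤ w (fun e => hAbot (by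
      rw [← Subgroup.card_eq_one, ← Subgroup.card_top, e, Subgroup.card_bot]))
    have e1 : (Finset.univ.filter fun a : A => a ≠ 1) =
        (Finset.univ.filter fun a : A => a ∈ (⊤ : Subgroup A)).erase 1 := by ext a; simp
    rw [← Finset.mul_prod_erase _ _ (show (1 : A) ∈ _ by simp), one_smul, ← e1, hpart,
      Finset.prod_biUnion hdisjS, Finset.prod_congr rfl hprodW, Finset.prod_const] at h1
    exact h1
  -- counting the subgroups
  have hcnt : ∑ W ∈ S, (Nat.card W - 1) = p * q - 1 := by
    rw [← Finset.sum_congr rfl hfib, ← Finset.card_biUnion (fun W hW W' hW' => hdisjS hW hW'), ← hpart,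
      ← hpq, Nat.card_eq_fintype_card, Finset.filter_ne', Finset.card_erase_of_mem (Finset.mem_univ _),
      Finset.card_univ]
  obtain ⟨z, hz⟩ := exists_prime_orderOf_dvd_card' (G := A) q (hpq ▸ dvd_mul_left q p)
  have hzS : Subgroup.zpowers z ∈ S := Finset.mem_image.mpr ⟨z, by
    simp only [Finset.mem_filter, Finset.mem_univ, true_and]
    exact fun e => hq.ne_one (by rw [← hz, e, orderOf_one]), rfl⟩
  have hrest : ∀ W ∈ S.erase (Subgroup.zpowers z), Nat.card W - 1 = p - 1 := by
    intro W hW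
    obtain ⟨hWne, hW⟩ := Finset.mem_erase.mp hW
    obtain ⟨b, hb, rfl⟩ := hS W hW
    rcases hord b hb with h | h
    · rw [Nat.card_zpowers, h]
    · exact absurd (huniq _ _ (by rw [Nat.card_zpowers, h]) (by rw [Nat.card_zpowers, hz])) hWne
  rw [← Finset.add_sum_erase _ _ hzS, Finset.sum_congr rfl hrest, Finset.sum_const,
    smul_eq_mul, Finset.card_erase_of_mem hzS, Nat.card_zpowers, hz] at hcnt
  have hk : S.card = q + 1 := by
    obtain ⟨k, hk⟩ : ∃ k, S.card = k + 1 := ⟨S.card - 1, by
      have := Finset.card_pos.mpr ⟨_, hzS⟩; omega⟩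
    rw [hk, Nat.add_sub_cancel] at hcnt
    have hq1 := hq.one_lt
    have hp1 := hp.one_lt
    obtain ⟨r, rfl⟩ : ∃ r, p = r + 2 := ⟨p - 2, by omega⟩
    have h3 : k * (r + 2 - 1) = q * (r + 2 - 1) := by
      have e1 : q * (r + 2 - 1) = q * r + q := by rw [show r + 2 - 1 = r + 1 by omega, Nat.mul_succ]
      have e2 : (r + 2) * q = q * r + 2 * q := by rw [add_mul, mul_comm r q]
      omega
    rw [hk, Nat.eq_of_mul_eq_mul_right (by omega) h3]
  rw [hk, pow_succ', ← mul_assoc, mul_inv_cancel, one_mul, inv_pow, inv_eq_one] at htot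
  have h4 : orderOf w ∣ Nat.gcd q (Nat.card V) :=
    Nat.dvd_gcd (orderOf_dvd_of_pow_eq_one htot) (orderOf_dvd_natCard w)
  rw [(hcop.coprime_dvd_left (hpq ▸ dvd_mul_left q p) : Nat.Coprime q _).gcd_eq_one,
    Nat.dvd_one, orderOf_eq_one_iff] at h4
  exact h4

end Cfsg.Agent.S0041
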