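import Cfsg.Statements.S0068
import Cfsg.Agent.Solvable.FrobeniusBasic

set_option autoImplicit false
open Cfsg

namespace Cfsg.Agent.S0068

/-- Frobenius complements of even order: if H complements a nontrivial normal subgroup K, each nonidentity element of H has trivial centraliser in K, and H has even order, then H contains a unique involution s, K is abelian, and s inverts every element of K. -/
theorem result {G : Type*} [Group G] [Finite G] (K H : Subgroup G) [K.Normal]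
    (hc : Subgroup.IsComplement' K H) (hK : K ≠ ⊥) (hfpf : ∀ h ∈ H, h ≠ 1 → K ⊓ Subgroup.centralizer {h} = ⊥)
    (heven : 2 ∣ Nat.card H) :
    (∃ s ∈ H, orderOf s = 2 ∧ (∀ t ∈ H, orderOf t = 2 → t = s) ∧ ∀ k ∈ K, s * k * s⁻¹ = k⁻¹) ∧ IsMulCommutative K := by
  obtain ⟨⟨s, hsH⟩, hs⟩ := exists_prime_orderOf_dvd_card' (G := H) 2 heven
  rw [Subgroup.orderOf_mk] at hs
  have hs1 : s ≠ 1 := fun e => by rw [e, orderOf_one] at hs; omega
  have hs2 : s * s = 1 := by rw [← sq, ← hs, pow_orderOf_eq_one]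
  obtain ⟨hinv, hcomm⟩ := CfsgLib.Solvable.inverts_of_fpf_involution hfpf hsH hs1 hs2
  refine ⟨⟨s, hsH, hs, fun t ht hto => ?_, hinv⟩, hcomm⟩
  have ht1 : t ≠ 1 := fun e => by rw [e, orderOf_one] at hto; omega
  have ht2 : t * t = 1 := by rw [← sq, ← hto, pow_orderOf_eq_one]
  obtain ⟨hinvt, -⟩ := CfsgLib.Solvable.inverts_of_fpf_involution hfpf ht ht1 ht2
  obtain ⟨⟨k, hk⟩, hk1⟩ := Subgroup.ne_bot_iff_exists_ne_one.mp hK
  by_contra hts
  apply hk1
  apply Subtype.ext
  refine CfsgLib.Solvable.eq_one_of_commute_of_fpf hfpf (h := t * s) (H.mul_mem ht hsH) (fun e => hts ?_) hk ?_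
  · rw [mul_eq_one_iff_eq_inv, inv_eq_of_mul_eq_one_right hs2] at e
    exact e
  · have e1 : t * s * k * (t * s)⁻¹ = k := by
      calc t * s * k * (t * s)⁻¹ = t * (s * k * s⁻¹) * t⁻¹ := by group
        _ = t * k⁻¹ * t⁻¹ := by rw [hinv k hk]
        _ = k := by rw [hinvt k⁻¹ (K.inv_mem hk), inv_inv]
    exact mul_inv_eq_iff_eq_mul.mp e1

end Cfsg.Agent.S0068
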