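import Cfsg.Statements.S0069
import Cfsg.Agent.S0040
import Cfsg.Agent.S0041
import Cfsg.Agent.S0056
import Cfsg.Agent.S0068
import Cfsg.Agent.Solvable.FixedPointFree

set_option autoImplicit false
open Cfsg

namespace Cfsg.Agent.S0069

/-- A Frobenius complement has nontrivial centre: if H ≠ 1 complements a nontrivial normal subgroup K and every nonidentity element of H has trivial centraliser in K, then the centre of H is nontrivial. -/
theorem result {G : Type*} [Group G] [Finite G] (K H : Subgroup G) [K.Normal]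
    (hc : Subgroup.IsComplement' K H) (hK : K ≠ ⊥) (hH : H ≠ ⊥) (hfpf : ∀ h ∈ H, h ≠ 1 → K ⊓ Subgroup.centralizer {h} = ⊥) :
    Subgroup.center H ≠ ⊥ := by
  obtain ⟨⟨h₀, hh₀⟩, hne₀⟩ := Subgroup.ne_bot_iff_exists_ne_one.mp hH
  by_cases heven : 2 ∣ Nat.card H
  · obtain ⟨⟨s, hs, hso, huniq, -⟩, -⟩ := Cfsg.Agent.S0068.result K H hc hK hfpf heven
    intro hbot
    have hmem : (⟨s, hs⟩ : H) ∈ Subgroup.center H := by
      rw [Subgroup.mem_center_iff]
      intro g
      apply Subtype.ext
      have h1 : (g : G) * s * (g : G)⁻¹ = s := by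
        refine huniq _ (H.mul_mem (H.mul_mem g.2 hs) (H.inv_mem g.2)) ?_
        exact (orderOf_injective (MulAut.conj (g : G)).toMonoidHom (MulAut.conj (g : G)).injective s).trans hso
      exact mul_inv_eq_iff_eq_mul.mp h1
    rw [hbot, Subgroup.mem_bot] at hmem
    have hs1 : s = 1 := congrArg Subtype.val hmem
    rw [hs1, orderOf_one] at hso
    omega
  have hnt : Nontrivial H := ⟨⟨⟨h₀, hh₀⟩, 1, hne₀⟩⟩
  have hZ : IsZGroup H := by
    rw [isZGroup_iff]
    intro p hp P
    have := Fact.mk hp
    rcases Cfsg.Agent.S0040.result K H hc hK hfpf p P with h | ⟨n, ⟨e⟩⟩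
    · exact h
    · exfalso
      apply heven
      have : NeZero (2 ^ n) := ⟨by positivity⟩
      have h1 : Nat.card P = 4 * 2 ^ n := by
        rw [Nat.card_congr e.toEquiv, Nat.card_eq_fintype_card, QuaternionGroup.card]
      exact (dvd_mul_of_dvd_left (by norm_num : (2 : ℕ) ∣ 4) (2 ^ n)).trans
        (h1 ▸ Subgroup.card_subgroup_dvd_card _)
  let A : Subgroup H := commutator H
  have hAc : IsCyclic A := IsZGroup.isCyclic_commutator H
  have hcop : (Nat.card A).Coprime A.index := IsZGroup.coprime_commutator_index H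
  obtain ⟨B, hB⟩ := Subgroup.exists_right_complement'_of_coprime hcop
  have hBc : IsCyclic B := by
    have : IsCyclic (H ⧸ A) := IsZGroup.isCyclic_abelianization
    exact isCyclic_of_surjective hB.symm.QuotientMulEquiv hB.symm.QuotientMulEquiv.surjective
  have hB1 : B ≠ ⊥ := by
    intro h
    rw [h, Subgroup.isComplement'_bot_right] at hB
    exact (IsZGroup.commutator_lt H).ne hB
  obtain ⟨r, hr, hrd⟩ := Nat.exists_prime_and_dvd (B.one_lt_card_iff_ne_bot.mpr hB1).ne'
  have := Fact.mk hr
  obtain ⟨y, hy⟩ := exists_prime_orderOf_dvd_card' r hrd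
  have hcAB : (Nat.card A).Coprime (Nat.card B) := by
    rwa [← hB.symm.index_eq_card]
  -- `y` commutes with the elements of prime order in `A`
  have hnc : ∀ (U : Subgroup G) (g : G), g ∈ Subgroup.normalizer (U : Set G) →
      g ∈ Subgroup.normalizer (Subgroup.centralizer (U : Set G) : Set G) := by
    intro U g hg
    rw [Subgroup.mem_normalizer_iff]
    intro x
    simp only [Subgroup.mem_centralizer_iff, SetLike.mem_coe]
    constructor
    · intro h u hu
      have := h (g⁻¹ * u * g) (by simpa using (Subgroup.mem_normalizer_iff.1 (inv_mem hg) u).1 hu)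
      calc u * (g * x * g⁻¹) = g * ((g⁻¹ * u * g) * x) * g⁻¹ := by group
        _ = g * (x * (g⁻¹ * u * g)) * g⁻¹ := by rw [this]
        _ = g * x * g⁻¹ * u := by group
    · intro h u hu
      have := h (g * u * g⁻¹) ((Subgroup.mem_normalizer_iff.1 hg u).1 hu)
      calc u * x = g⁻¹ * ((g * u * g⁻¹) * (g * x * g⁻¹)) * g := by group
        _ = g⁻¹ * ((g * x * g⁻¹) * (g * u * g⁻¹)) * g := by rw [this]
        _ = x * u := by group
  have key : ∀ x ∈ A, (orderOf x).Prime → (y : H) * x = x * (y : H) := by
    intro x hx hxp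
    have := Fact.mk hxp
    let Y : Subgroup H := Subgroup.zpowers (y : H)
    let X : Subgroup H := Subgroup.zpowers x
    have hXA : X ≤ A := Subgroup.zpowers_le.mpr hx
    have hXn : X.Normal := by
      have hXc : (X.subgroupOf A).Characteristic := by
        rw [Subgroup.characteristic_iff_map_eq]
        intro φ
        apply CfsgLib.CharactersDeep.QuaternionSylow.eq_of_card_eq
        exact Subgroup.card_map_of_injective φ.injective
      have h2 := ConjAct.normal_of_characteristic_of_normal (H := A) (K := X.subgroupOf A)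
      rwa [Subgroup.map_subgroupOf_eq_of_le hXA] at h2
    have hd : Disjoint Y X := by
      apply Subgroup.disjoint_of_coprime_natCard
      rw [Nat.card_zpowers, Subgroup.orderOf_coe, hy, Nat.card_zpowers]
      refine (Nat.Coprime.coprime_dvd_left ?_ (hcAB.coprime_dvd_right hrd)).symm
      rw [← Subgroup.orderOf_mk x hx]
      exact orderOf_dvd_natCard _
    have hcard : Nat.card (Y ⊔ X : Subgroup H) = r * orderOf x := by
      rw [CfsgLib.Solvable.card_sup_of_disjoint X Y hd, Nat.card_zpowers, Nat.card_zpowers,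
        Subgroup.orderOf_coe, hy]
    let W : Subgroup G := (Y ⊔ X).map H.subtype
    obtain ⟨k, hk⟩ := Subgroup.ne_bot_iff_exists_ne_one.mp hK
    have hW : IsCyclic W := by
      obtain ⟨V, hVn, hVne, hVK, hVmin⟩ : ∃ V : Subgroup G, IsMulCommutative V ∧ V ≠ ⊥ ∧ V ≤ K ∧
          W ≤ Subgroup.normalizer (V : Set G) := by
        have hcopK : (Nat.card W).Coprime (Nat.card K) := (CfsgLib.Solvable.coprime_card_of_fpf hfpf).coprime_dvd_left
          (Subgroup.card_dvd_of_le (Subgroup.map_subtype_le _))
        obtain ⟨q, hq, hqd⟩ := Nat.exists_prime_and_dvd (K.one_lt_card_iff_ne_bot.mpr hK).ne'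
        have := Fact.mk hq
        have hWsolv : Group.IsSolvable W := by
          have : Group.IsSolvable H := inferInstance
          exact Group.isSolvable_of_isSolvable_injective (f := Subgroup.inclusion
            (Subgroup.map_subtype_le _ : W ≤ H)) (Subgroup.inclusion_injective _)
        obtain ⟨Q, hQ⟩ := CfsgLib.Coprime.exists_invariant_sylow
          (Subgroup.le_normalizer_of_normal (H := K)) hcopK (Or.inl hWsolv) q
        let Q' : Subgroup G := (Q : Subgroup K).map K.subtype
        refine ⟨Q' ⊓ Subgroup.centralizer (Q' : Set G), ?_, ?_, inf_le_left.trans (Subgroup.map_subtype_le _), ?_⟩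
        · exact ⟨⟨fun a b => Subtype.ext (Subgroup.mem_centralizer_iff.mp b.2.2 a a.2.1)⟩⟩
        · have : Nontrivial (Q : Subgroup K) := by
            rw [← Finite.one_lt_card_iff_nontrivial]
            exact (Q : Subgroup K).one_lt_card_iff_ne_bot.mpr (Q.ne_bot_of_dvd_card hqd)
          have := Q.isPGroup'.center_nontrivial
          obtain ⟨c, hc'⟩ := exists_ne (1 : Subgroup.center (Q : Subgroup K))
          rw [Subgroup.ne_bot_iff_exists_ne_one]
          refine ⟨⟨((c : (Q : Subgroup K)) : K), ⟨Subgroup.mem_map_of_mem _ (c : (Q : Subgroup K)).2, ?_⟩⟩, fun e => hc' ?_⟩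
          · refine Subgroup.mem_centralizer_iff.mpr ?_
            rintro _ ⟨z, hz, rfl⟩
            exact congrArg (fun t : (Q : Subgroup K) => ((t : K) : G))
              (Subgroup.mem_center_iff.mp c.2 ⟨z, hz⟩)
          · have e' : ((((c : (Q : Subgroup K)) : K)) : G) = 1 := by simpa using congrArg Subtype.val e
            exact Subtype.ext (Subtype.ext (Subtype.ext e'))
        · exact (le_inf hQ (hQ.trans (fun g hg => hnc Q' g hg))).trans
            Subgroup.inf_normalizer_le_normalizer_inf
      refine Cfsg.Agent.S0041.result W V hVne hVmin (fun a ha ha1 => ?_) (Or.inr ⟨r, orderOf x, hr, hxp, ?_⟩)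
      · exact le_bot_iff.mp ((inf_le_inf_right _ hVK).trans
          (hfpf a (Subgroup.map_subtype_le _ ha) ha1).le)
      · rw [Subgroup.card_map_of_injective H.subtype_injective, hcard]
    have h1 : H.subtype y ∈ W := Subgroup.mem_map_of_mem _ (Subgroup.mem_sup_left (Subgroup.mem_zpowers _))
    have h2 : H.subtype x ∈ W := Subgroup.mem_map_of_mem _ (Subgroup.mem_sup_right (Subgroup.mem_zpowers _))
    exact Subtype.ext (congrArg (fun t : W => (t : G)) (mul_comm' (⟨_, h1⟩ : W) ⟨_, h2⟩))
  have hY : Subgroup.zpowers (y : H) ≤ Subgroup.centralizer (A : Set H) := by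
    refine Cfsg.Agent.S0056.result (Subgroup.zpowers (y : H)) A Subgroup.le_normalizer_of_normal ?_ ?_
    · rw [Nat.card_zpowers, Subgroup.orderOf_coe, hy]
      exact (hcAB.coprime_dvd_right hrd).symm
    · intro v hv hvp a ha
      obtain ⟨i, rfl⟩ := Subgroup.mem_zpowers_iff.mp ha
      exact (Commute.zpow_left (show Commute (y : H) v from key v hv hvp) i).eq
  intro hbot
  have hyc : (y : H) ∈ Subgroup.center H := by
    rw [Subgroup.mem_center_iff]
    intro g
    obtain ⟨⟨a, b⟩, rfl⟩ := hB.2 g
    have e1 : Commute (a : H) y :=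
      Subgroup.mem_centralizer_iff.mp (hY (Subgroup.mem_zpowers _)) a a.2
    have e2 : Commute (b : H) y := congrArg Subtype.val (mul_comm' b y)
    exact (e1.mul_left e2).eq
  rw [hbot, Subgroup.mem_bot] at hyc
  rw [show y = 1 from Subtype.ext hyc, orderOf_one] at hy
  exact hr.ne_one hy.symm

end Cfsg.Agent.S0069
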