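import Cfsg.Statements.S0038
import Cfsg.Agent.S0035
import Cfsg.Agent.S0069
import Cfsg.Agent.Solvable.FrobeniusBasic

set_option autoImplicit false
open Pointwise
open Cfsg

namespace Cfsg.Agent.S0038

/-- All Frobenius complements of a finite group are conjugate to one another. -/
theorem result {G : Type*} [Group G] [Finite G] (H H₀ : Subgroup G)
    (hH : Cfsg.IsFrobeniusComplement H) (hH₀ : Cfsg.IsFrobeniusComplement H₀) :
    ∃ g : G, MulAut.conj g • H₀ = H := by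
  -- it is enough to treat `|H₀| ≤ |H|`
  suffices key : ∀ H H₀ : Subgroup G, Cfsg.IsFrobeniusComplement H → Cfsg.IsFrobeniusComplement H₀ →
      Nat.card H₀ ≤ Nat.card H → ∃ g : G, MulAut.conj g • H₀ = H by
    rcases le_total (Nat.card H₀) (Nat.card H) with h | h
    · exact key H H₀ hH hH₀ h
    · obtain ⟨g, hg⟩ := key H₀ H hH₀ hH h
      exact ⟨g⁻¹, by rw [map_inv, ← hg, inv_smul_smul]⟩
  intro H H₀ hH hH₀ hle
  obtain ⟨g, hg⟩ := CfsgLib.Solvable.exists_conj_le_of_card_le hH hH₀ hle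
  refine ⟨g⁻¹, ?_⟩
  have hle' : MulAut.conj g⁻¹ • H₀ ≤ H := by
    rw [map_inv, Subgroup.pointwise_smul_subset_iff, inv_inv]
    exact hg
  have hD : Cfsg.IsFrobeniusComplement (MulAut.conj g⁻¹ • H₀ : Subgroup G) :=
    CfsgLib.Solvable.isFrobeniusComplement_conj hH₀ _
  by_contra hne
  obtain ⟨N, -, hNn, hNc⟩ := Cfsg.Agent.S0035.result H hH
  have hN : N ≠ ⊥ := by
    intro h
    rw [h, Subgroup.isComplement'_bot_left] at hNc
    exact hH.2.1 hNc
  have hz := Cfsg.Agent.S0069.result N H hNc hN hH.1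
    ((CfsgLib.Solvable.isFrobeniusComplement_iff_fpf hNc hN hH.1).mp hH)
  obtain ⟨⟨z, hzc⟩, hz1⟩ := Subgroup.ne_bot_iff_exists_ne_one.mp hz
  have hnle : ¬ H ≤ MulAut.conj g⁻¹ • H₀ := fun h => hne (le_antisymm hle' h)
  have hDH := CfsgLib.Solvable.isFrobeniusComplement_subgroupOf hD (by rw [inf_eq_right.mpr hle']; exact hD.1) hnle
  have hz1' : z ≠ 1 := fun e => hz1 (Subtype.ext e)
  have hcomm := Subgroup.mem_center_iff.mp hzc
  by_cases hzD : z ∈ (MulAut.conj g⁻¹ • H₀).subgroupOf H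
  · apply hDH.2.1
    rw [eq_top_iff]
    intro x _
    refine CfsgLib.FrobComp.mem_of_conj_mem hDH hzD hz1' ?_
    rw [mul_assoc, ← hcomm x, inv_mul_cancel_left]
    exact hzD
  · apply hzD
    obtain ⟨⟨d, hd⟩, hd1⟩ := Subgroup.ne_bot_iff_exists_ne_one.mp hDH.1
    refine CfsgLib.FrobComp.mem_of_conj_mem hDH hd (fun e => hd1 (Subtype.ext e)) ?_
    rw [mul_assoc, hcomm d, inv_mul_cancel_left]
    exact hd

end Cfsg.Agent.S0038
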