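import Cfsg.Statements.S0047
import Mathlib.GroupTheory.Solvable
import Cfsg.Agent.Solvable.Basic

set_option autoImplicit false
open Cfsg

namespace Cfsg.Agent.S0047

open scoped Pointwise

/-- A finite group which is the product AB of two abelian subgroups A and B is solvable. -/
theorem result {G : Type*} [Group G] [Finite G] (A B : Subgroup G)
    [IsMulCommutative A] [IsMulCommutative B] (hAB : ∀ g : G, ∃ a ∈ A, ∃ b ∈ B, g = a * b) :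
    Group.IsSolvable G := by
  have hA : ∀ a ∈ A, ∀ a' ∈ A, a * a' = a' * a := fun a ha a' ha' =>
    congrArg Subtype.val (mul_comm' (⟨a, ha⟩ : A) ⟨a', ha'⟩)
  have hB : ∀ b ∈ B, ∀ b' ∈ B, b * b' = b' * b := fun b hb b' hb' =>
    congrArg Subtype.val (mul_comm' (⟨b, hb⟩ : B) ⟨b', hb'⟩)
  let C : G → G → G := fun a b => a * b * a⁻¹ * b⁻¹
  have hBA : ∀ g : G, ∃ b ∈ B, ∃ a ∈ A, g = b * a := fun g => by
    obtain ⟨a, ha, b, hb, e⟩ := hAB g⁻¹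
    exact ⟨b⁻¹, B.inv_mem hb, a⁻¹, A.inv_mem ha, by rw [← mul_inv_rev, ← e, inv_inv]⟩
  -- conjugation rules
  have rA : ∀ a₁ ∈ A, ∀ b ∈ B, ∃ b₂ ∈ B, ∀ a ∈ A, a₁ * C a b * a₁⁻¹ = C a b₂ := by
    intro a₁ ha₁ b hb
    obtain ⟨b₂, hb₂, a₂, ha₂, e⟩ := hBA (a₁ * b * a₁⁻¹)
    refine ⟨b₂, hb₂, fun a ha => ?_⟩
    calc a₁ * C a b * a₁⁻¹
        = (a₁ * a * a₁⁻¹) * (a₁ * b * a₁⁻¹) * (a₁ * a * a₁⁻¹)⁻¹ * (a₁ * b * a₁⁻¹)⁻¹ := by
          simp only [C]; group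
      _ = a * (b₂ * a₂) * a⁻¹ * (b₂ * a₂)⁻¹ := by rw [e, hA a₁ ha₁ a ha, mul_inv_cancel_right]
      _ = a * b₂ * (a₂ * a⁻¹) * a₂⁻¹ * b₂⁻¹ := by group
      _ = a * b₂ * (a⁻¹ * a₂) * a₂⁻¹ * b₂⁻¹ := by rw [hA a₂ ha₂ a⁻¹ (A.inv_mem ha)]
      _ = C a b₂ := by simp only [C]; group
  have rB : ∀ b₁ ∈ B, ∀ a ∈ A, ∃ a₃ ∈ A, ∀ b ∈ B, b₁ * C a b * b₁⁻¹ = C a₃ b := by
    intro b₁ hb₁ a ha
    obtain ⟨a₃, ha₃, b₃, hb₃, e⟩ := hAB (b₁ * a * b₁⁻¹)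
    refine ⟨a₃, ha₃, fun b hb => ?_⟩
    calc b₁ * C a b * b₁⁻¹
        = (b₁ * a * b₁⁻¹) * (b₁ * b * b₁⁻¹) * (b₁ * a * b₁⁻¹)⁻¹ * (b₁ * b * b₁⁻¹)⁻¹ := by
          simp only [C]; group
      _ = a₃ * b₃ * b * (a₃ * b₃)⁻¹ * b⁻¹ := by rw [e, hB b₁ hb₁ b hb, mul_inv_cancel_right]
      _ = a₃ * (b₃ * b) * b₃⁻¹ * a₃⁻¹ * b⁻¹ := by group
      _ = a₃ * (b * b₃) * b₃⁻¹ * a₃⁻¹ * b⁻¹ := by rw [hB b₃ hb₃ b hb]
      _ = C a₃ b := by simp only [C]; group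
  let S : Set G := {x | ∃ a ∈ A, ∃ b ∈ B, x = C a b}
  let K : Subgroup G := Subgroup.closure S
  have hcommS : ∀ x ∈ S, ∀ y ∈ S, x * y = y * x := by
    rintro _ ⟨a, ha, b, hb, rfl⟩ _ ⟨a', ha', b', hb', rfl⟩
    obtain ⟨b₂, hb₂, h2⟩ := rA a'⁻¹ (A.inv_mem ha') b hb
    obtain ⟨a₃, ha₃, h3⟩ := rB b'⁻¹ (B.inv_mem hb') a ha
    have e : a'⁻¹ * (b'⁻¹ * C a b * b') * a' = b'⁻¹ * (a'⁻¹ * C a b * a') * b' := by
      have e1 := h3 b hb
      have e2 := h2 a ha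
      have e3 := h2 a₃ ha₃
      have e4 := h3 b₂ hb₂
      rw [inv_inv] at e1 e2 e3 e4
      rw [e1, e2, e3, e4]
    have e5 : b' * a' * b'⁻¹ * a'⁻¹ = (C a' b')⁻¹ := by simp only [C]; group
    have e6 : C a b = (C a' b')⁻¹ * C a b * C a' b' :=
      calc C a b = b' * a' * (a'⁻¹ * (b'⁻¹ * C a b * b') * a') * a'⁻¹ * b'⁻¹ := by group
        _ = b' * a' * (b'⁻¹ * (a'⁻¹ * C a b * a') * b') * a'⁻¹ * b'⁻¹ := by rw [e]
        _ = (b' * a' * b'⁻¹ * a'⁻¹) * C a b * (b' * a' * b'⁻¹ * a'⁻¹)⁻¹ := by group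
        _ = _ := by rw [e5, inv_inv]
    calc C a b * C a' b' = C a' b' * ((C a' b')⁻¹ * C a b * C a' b') := by group
      _ = C a' b' * C a b := by rw [← e6]
  have : Group.IsSolvable K := by
    have := Subgroup.isMulCommutative_closure hcommS
    exact Group.isSolvable_of_comm fun a b => mul_comm' a b
  have hKn : K.Normal := by
    rw [← Subgroup.normalizer_eq_top_iff, eq_top_iff]
    intro g _
    have key : ∀ u : G, (∀ x ∈ S, u * x * u⁻¹ ∈ S) → MulAut.conj u • K ≤ K := by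
      intro u hu
      rw [Subgroup.smul_closure, Subgroup.closure_le]
      rintro _ ⟨x, hx, rfl⟩
      exact Subgroup.subset_closure (hu x hx)
    have keq : ∀ u : G, (∀ x ∈ S, u * x * u⁻¹ ∈ S) → (∀ x ∈ S, u⁻¹ * x * u ∈ S) →
        MulAut.conj u • K = K := by
      intro u h1 h2
      refine le_antisymm (key u h1) ?_
      have := key u⁻¹ (fun x hx => by rw [inv_inv]; exact h2 x hx)
      rw [map_inv] at this
      exact Subgroup.subset_pointwise_smul_iff.mpr this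
    obtain ⟨a₁, ha₁, b₁, hb₁, rfl⟩ := hAB g
    rw [CfsgLib.Solvable.mem_normalizer_iff_conj_smul, map_mul, mul_smul]
    have hS1 : ∀ u ∈ A, ∀ x ∈ S, u * x * u⁻¹ ∈ S := by
      rintro u hu _ ⟨a, ha, b, hb, rfl⟩
      obtain ⟨b₂, hb₂, h2⟩ := rA u hu b hb
      exact ⟨a, ha, b₂, hb₂, h2 a ha⟩
    have hS2 : ∀ u ∈ B, ∀ x ∈ S, u * x * u⁻¹ ∈ S := by
      rintro u hu _ ⟨a, ha, b, hb, rfl⟩
      obtain ⟨a₃, ha₃, h3⟩ := rB u hu a ha
      exact ⟨a₃, ha₃, b, hb, h3 b hb⟩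
    rw [keq b₁ (hS2 b₁ hb₁) (fun x hx => by simpa using hS2 _ (B.inv_mem hb₁) x hx),
      keq a₁ (hS1 a₁ ha₁) (fun x hx => by simpa using hS1 _ (A.inv_mem ha₁) x hx)]
  have : Group.IsSolvable (G ⧸ K) := by
    refine Group.isSolvable_of_comm fun x y => ?_
    obtain ⟨x, rfl⟩ := QuotientGroup.mk'_surjective K x
    obtain ⟨y, rfl⟩ := QuotientGroup.mk'_surjective K y
    obtain ⟨a, ha, b, hb, rfl⟩ := hAB x
    obtain ⟨a', ha', b', hb', rfl⟩ := hAB y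
    have cAB : ∀ u ∈ A, ∀ v ∈ B, Commute (QuotientGroup.mk' K u) (QuotientGroup.mk' K v) := by
      intro u hu v hv
      have h1 : QuotientGroup.mk' K (C u v) = 1 :=
        (QuotientGroup.eq_one_iff _).mpr (Subgroup.subset_closure ⟨u, hu, v, hv, rfl⟩)
      simp only [C, map_mul, map_inv, mul_inv_eq_iff_eq_mul, one_mul] at h1
      exact h1
    have cA : Commute (QuotientGroup.mk' K a) (QuotientGroup.mk' K a') := Commute.map (hA a ha a' ha') _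
    have cB : Commute (QuotientGroup.mk' K b) (QuotientGroup.mk' K b') := Commute.map (hB b hb b' hb') _
    rw [map_mul, map_mul]
    exact ((cA.mul_right (cAB a ha b' hb')).mul_left ((cAB a' ha' b hb).symm.mul_right cB)).eq
  exact (Group.isSolvable_iff_subgroup_quotient K).mpr ⟨inferInstance, this⟩

end Cfsg.Agent.S0047
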