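import Cfsg.Statements.S0048
import Cfsg.Agent.Solvable.Basic
import Mathlib.GroupTheory.PGroup

set_option autoImplicit false
open Cfsg

namespace Cfsg.Agent.S0048

/-- In a finite solvable group every maximal subgroup has index a prime power. -/
theorem result {G : Type*} [Group G] [Finite G] [Group.IsSolvable G]
    (M : Subgroup G) (hM : IsCoatom M) : IsPrimePow M.index := by
  let C := M.normalCore
  let f := QuotientGroup.mk' C
  have hsurj : Function.Surjective f := QuotientGroup.mk'_surjective C
  have hker : f.ker ≤ M := by rw [QuotientGroup.ker_mk']; exact M.normalCore_le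
  have : Nontrivial (G ⧸ C) := by
    rw [← Finite.one_lt_card_iff_nontrivial, ← Subgroup.index_eq_card]
    exact Subgroup.one_lt_index_of_ne_top (ne_top_of_le_ne_top hM.1 M.normalCore_le)
  obtain ⟨N, hNn, hNne, hmin⟩ := CfsgLib.Solvable.exists_minimal_normal (G := G ⧸ C)
  obtain ⟨p, hp, hNp⟩ := CfsgLib.Solvable.exists_isPGroup_of_minimal_normal hNne hmin
  have := Fact.mk hp
  have hNM : ¬ N.comap f ≤ M := by
    intro h
    apply hNne
    have h1 : N.comap f ≤ C := Subgroup.normal_le_normalCore.mpr h
    rw [← Subgroup.map_comap_eq_self_of_surjective hsurj N, Subgroup.map_eq_bot_iff,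
      QuotientGroup.ker_mk']
    exact h1
  have htop : M ⊔ N.comap f = ⊤ :=
    hM.2 _ (lt_of_le_of_ne le_sup_left fun h => hNM (le_sup_right.trans h.ge))
  have h1 : M.map f ⊔ N = ⊤ := by
    rw [← Subgroup.map_comap_eq_self_of_surjective hsurj N, ← Subgroup.map_sup, htop,
      Subgroup.map_top_of_surjective f hsurj]
  have h2 : M.index ∣ Nat.card N := by
    rw [← M.index_map_eq hsurj hker, ← Subgroup.relIndex_top_right, ← h1,
      Subgroup.relIndex, Subgroup.index_eq_card]
    have h3 : ((M.map f).subgroupOf (M.map f ⊔ N)).index = (M.map f).relIndex N := by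
      have := Subgroup.relIndex_mul_relIndex ((M.map f) ⊓ N) (M.map f) (M.map f ⊔ N) inf_le_left le_sup_left
      have h4 := Subgroup.relIndex_mul_relIndex ((M.map f) ⊓ N) N (M.map f ⊔ N) inf_le_right le_sup_right
      rw [Subgroup.inf_relIndex_left] at this
      rw [Subgroup.inf_relIndex_right, Subgroup.relIndex_sup_right] at h4
      have h5 : N.relIndex (M.map f) * (M.map f).relIndex (M.map f ⊔ N) =
          (M.map f).relIndex N * N.relIndex (M.map f) := this.trans h4.symm
      rw [mul_comm] at h5
      exact Nat.eq_of_mul_eq_mul_right (Nat.pos_of_ne_zero Subgroup.index_ne_zero_of_finite) h5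
    rw [← Subgroup.index_eq_card, h3]
    exact Subgroup.relIndex_dvd_card _ _
  obtain ⟨n, hn⟩ := IsPGroup.iff_card.mp hNp
  rw [hn] at h2
  obtain ⟨k, -, hk⟩ := (Nat.dvd_prime_pow hp).mp h2
  refine (isPrimePow_nat_iff _).mpr ⟨p, k, hp, ?_, hk.symm⟩
  rcases k.eq_zero_or_pos with h0 | h0
  · rw [h0, pow_zero, Subgroup.index_eq_one] at hk
    exact absurd hk hM.1
  · exact h0

end Cfsg.Agent.S0048
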