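import Cfsg.Statements.S0054
import Cfsg.Agent.Solvable.Basic
import Mathlib.GroupTheory.GroupAction.MultipleTransitivity

set_option autoImplicit false
open Cfsg

namespace Cfsg.Agent.S0054

/-- A regular normal subgroup of a finite 2-transitive group is elementary abelian: it is commutative and all its elements have order dividing one prime. -/
theorem result {G : Type*} [Group G] [Finite G]
    {X : Type*} [Nonempty X] [MulAction G X] (h2 : MulAction.IsMultiplyPretransitive G X 2)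
    (N : Subgroup G) [N.Normal] (htrans : MulAction.IsPretransitive N X) (hreg : ∀ x : X, MulAction.stabilizer N x = ⊥) :
    IsMulCommutative N ∧ ∃ p : ℕ, p.Prime ∧ ∀ n ∈ N, n ^ p = 1 := by
  obtain ⟨x₀⟩ := ‹Nonempty X›
  by_cases hN : N = ⊥
  · subst hN
    exact ⟨⟨⟨fun a b => Subsingleton.elim _ _⟩⟩, 2, Nat.prime_two, fun n hn => by
      rw [Subgroup.mem_bot.mp hn, one_pow]⟩
  have hNone : ∀ n ∈ N, n • x₀ = x₀ → n = 1 := fun n hn h => by
    have : (⟨n, hn⟩ : N) ∈ MulAction.stabilizer N x₀ := h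
    rw [hreg x₀, Subgroup.mem_bot] at this
    exact congrArg Subtype.val this
  -- nonidentity elements of `N` are conjugate in `G`
  have hconj : ∀ a ∈ N, a ≠ 1 → ∀ b ∈ N, b ≠ 1 → ∃ g : G, g * a * g⁻¹ = b := by
    intro a ha ha1 b hb hb1
    have h2' : ∀ {a b c d : X}, a ≠ b → c ≠ d → ∃ g : G, g • a = c ∧ g • b = d :=
      MulAction.is_two_pretransitive_iff.mp h2
    obtain ⟨g, hg0, hga⟩ := h2' (a := x₀) (b := a • x₀) (c := x₀) (d := b • x₀)
      (fun e => ha1 (hNone a ha e.symm)) (fun e => hb1 (hNone b hb e.symm))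
    refine ⟨g, ?_⟩
    have hmem : b⁻¹ * (g * a * g⁻¹) ∈ N :=
      N.mul_mem (N.inv_mem hb) ((inferInstance : N.Normal).conj_mem a ha g)
    have h3 : (g * a * g⁻¹) • x₀ = b • x₀ := by
      rw [mul_smul, mul_smul]
      have : g⁻¹ • x₀ = x₀ := by rw [inv_smul_eq_iff, hg0]
      rw [this, hga]
    have h4 : (b⁻¹ * (g * a * g⁻¹)) • x₀ = x₀ := by rw [mul_smul, h3, inv_smul_smul]
    exact (inv_mul_eq_one.mp (hNone _ hmem h4)).symm
  obtain ⟨p, hp, hdvd⟩ := Nat.exists_prime_and_dvd (N.one_lt_card_iff_ne_bot.mpr hN).ne'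
  have := Fact.mk hp
  obtain ⟨z, hz⟩ := exists_prime_orderOf_dvd_card' p hdvd
  have hz1 : (z : G) ≠ 1 := fun e => hp.ne_one (by
    rw [← hz, ← Subgroup.orderOf_coe, e, orderOf_one])
  have hexp : ∀ n ∈ N, n ^ p = 1 := by
    intro n hn
    by_cases h1 : n = 1
    · rw [h1, one_pow]
    obtain ⟨g, hg⟩ := hconj z z.2 hz1 n hn h1
    rw [← hg, conj_pow, ← SubgroupClass.coe_pow, ← hz, pow_orderOf_eq_one]
    simp
  refine ⟨?_, p, hp, hexp⟩
  have hpg : IsPGroup p N := fun n => ⟨1, by rw [pow_one]; exact Subtype.ext (hexp n n.2)⟩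
  have hNt : Nontrivial N := N.bot_or_nontrivial.resolve_left hN
  have := hpg.center_nontrivial
  obtain ⟨c, hc⟩ := exists_ne (1 : Subgroup.center N)
  have hc1 : ((c : N) : G) ≠ 1 := fun e => hc (Subtype.ext (Subtype.ext e))
  refine ⟨⟨fun a b => ?_⟩⟩
  apply Subtype.ext
  by_cases ha : (a : G) = 1
  · simp [ha]
  obtain ⟨g, hg⟩ := hconj _ (c : N).2 hc1 _ a.2 ha
  have hbg : g⁻¹ * (b : G) * g ∈ N := by
    simpa using (inferInstance : N.Normal).conj_mem _ b.2 g⁻¹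
  have h5 : g⁻¹ * (b : G) * g * c = c * (g⁻¹ * b * g) :=
    congrArg Subtype.val (Subgroup.mem_center_iff.mp c.2 ⟨_, hbg⟩)
  rw [Subgroup.coe_mul, Subgroup.coe_mul, ← hg]
  calc g * (c : N) * g⁻¹ * (b : G) = g * (((c : N) : G) * (g⁻¹ * b * g)) * g⁻¹ := by group
    _ = g * (g⁻¹ * (b : G) * g * c) * g⁻¹ := by rw [h5]
    _ = b * (g * (c : N) * g⁻¹) := by group

end Cfsg.Agent.S0054
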