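import Cfsg.Statements.S0057
import Cfsg.Agent.Coprime.Action
import Cfsg.Agent.Coprime.Abelian

set_option autoImplicit false
open Cfsg

namespace Cfsg.Agent.S0057

open scoped commutatorElement

/-- Under coprime action, if the centraliser of A in K has prime index p in K then the commutator subgroup [K, A] has order exactly p. -/
theorem result {G : Type*} [Group G] [Finite G] (A K : Subgroup G) (hAK : A ≤ Subgroup.normalizer (K : Set G))
    (hcop : (Nat.card A).Coprime (Nat.card K)) (hsolv : Group.IsSolvable A ∨ Group.IsSolvable K)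
    (p : ℕ) (hp : p.Prime) (hidx : (K ⊓ Subgroup.centralizer (A : Set G)).relIndex K = p) :
    Nat.card (⁅K, A⁆ : Subgroup G) = p := by
  have := Fact.mk hp
  obtain ⟨Q, hQA⟩ := CfsgLib.Coprime.exists_invariant_sylow hAK hcop hsolv p
  let P : Subgroup G := (Q : Subgroup K).map K.subtype
  let C : Subgroup G := K ⊓ Subgroup.centralizer (A : Set G)
  have hPK : P ≤ K := Subgroup.map_subtype_le _
  have hPp : IsPGroup p P := Q.isPGroup'.map _
  have hCK : C ≤ K := inf_le_left
  have hPidx : ¬ p ∣ P.relIndex K := by
    have h1 : P.relIndex K = (Q : Subgroup K).index := by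
      rw [Subgroup.relIndex, Subgroup.subgroupOf,
        Subgroup.comap_map_eq_self_of_injective K.subtype_injective]
    rw [h1]
    exact Q.not_dvd_index
  have hPC : ¬ P ≤ C := fun h => hPidx (by
    rw [← Subgroup.relIndex_mul_relIndex P C K h hCK, hidx]
    exact dvd_mul_left p _)
  -- the cosets of `C` in `K` are met by `P`
  let f : P ⧸ C.subgroupOf P → K ⧸ C.subgroupOf K :=
    Quotient.map' (Subgroup.inclusion hPK) (fun a b hab => by
      rw [QuotientGroup.leftRel_apply] at hab ⊢
      exact hab)
  have hf : Function.Injective f := by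
    rintro ⟨a⟩ ⟨b⟩ hab
    refine Quotient.sound ?_
    have h := Quotient.exact hab
    change (QuotientGroup.leftRel (C.subgroupOf K)) (Subgroup.inclusion hPK a)
      (Subgroup.inclusion hPK b) at h
    change (QuotientGroup.leftRel (C.subgroupOf P)) a b
    rw [QuotientGroup.leftRel_apply] at h ⊢
    exact h
  have hCP : C.relIndex P = p := by
    have hle : C.relIndex P ≤ p := by
      rw [← hidx, Subgroup.relIndex, Subgroup.relIndex, Subgroup.index_eq_card,
        Subgroup.index_eq_card]
      exact Nat.card_le_card_of_injective f hf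
    obtain ⟨n, hn⟩ := hPp.index (C.subgroupOf P)
    change C.relIndex P = p ^ n at hn
    rcases n with _ | _ | n
    · rw [pow_zero] at hn
      exact absurd (Subgroup.relIndex_eq_one.mp hn) hPC
    · rw [hn, zero_add, pow_one]
    · exfalso
      rw [hn] at hle
      have h2 : p ^ 1 < p ^ (n + 2) := Nat.pow_lt_pow_right hp.one_lt (by omega)
      rw [pow_one] at h2
      exact absurd hle (not_le.mpr h2)
  have hbij : Function.Bijective f := (Nat.bijective_iff_injective_and_card f).mpr
    ⟨hf, by
      rw [← Subgroup.index_eq_card, ← Subgroup.index_eq_card]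
      exact hCP.trans hidx.symm⟩
  have hKA : ⁅K, A⁆ = ⁅P, A⁆ := by
    refine le_antisymm (Subgroup.commutator_le.mpr fun k hk a ha => ?_)
      (Subgroup.commutator_mono hPK le_rfl)
    obtain ⟨⟨x⟩, hx⟩ := hbij.2 (QuotientGroup.mk ⟨k, hk⟩)
    have hx' := QuotientGroup.eq.mp hx
    have hc : (x : G)⁻¹ * k ∈ C := hx'
    have h1 : ⁅k, a⁆ = ⁅(x : G), a⁆ := by
      have h3 : a * ((x : G)⁻¹ * k) = (x : G)⁻¹ * k * a :=
        Subgroup.mem_centralizer_iff.mp hc.2 a ha
      rw [commutatorElement_def, commutatorElement_def]
      have h4 : k * a = (x : G) * a * ((x : G)⁻¹ * k) := by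
        rw [mul_assoc (x : G), h3, ← mul_assoc, ← mul_assoc, mul_inv_cancel, one_mul]
      rw [h4]
      group
    rw [h1]
    exact Subgroup.commutator_mem_commutator x.2 ha
  rw [hKA]
  -- `D = P ⊓ C` is normal of index `p` in `P`
  let M : Subgroup G := ⁅P, A⁆
  let D : Subgroup G := P ⊓ Subgroup.centralizer (A : Set G)
  have hMP : M ≤ P := CfsgLib.Coprime.commutator_le_of_le_normalizer hQA
  have hcopP : (Nat.card A).Coprime (Nat.card P) :=
    hcop.coprime_dvd_right (Subgroup.card_dvd_of_le hPK)
  have hnilP : Group.IsNilpotent P := hPp.isNilpotent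
  have hsol : Group.IsSolvable A ∨ Group.IsSolvable P := Or.inr inferInstance
  have hsplit : M ⊔ D = P := CfsgLib.Coprime.commutator_sup_centralizer hQA hcopP hsol
  have hDidx : D.relIndex P = p := by
    rw [show D = Subgroup.centralizer (A : Set G) ⊓ P from inf_comm _ _,
      Subgroup.inf_relIndex_right, ← hCP, ← Subgroup.inf_relIndex_right C P]
    rw [show C ⊓ P = Subgroup.centralizer (A : Set G) ⊓ P from le_antisymm
      (inf_le_inf_right _ inf_le_right) (le_inf (le_inf (inf_le_right.trans hPK) inf_le_left) inf_le_right),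
      Subgroup.inf_relIndex_right]
  have hDn : P ≤ Subgroup.normalizer (D : Set G) := by
    have h1 : (D.subgroupOf P).Normal := by
      have h2 : IsCoatom (D.subgroupOf P) := by
        refine ⟨fun h => ?_, fun B hB => ?_⟩
        · rw [Subgroup.subgroupOf_eq_top] at h
          rw [Subgroup.relIndex_eq_one.mpr h] at hDidx
          exact hp.ne_one hDidx.symm
        · by_contra hB'
          have h3 := Subgroup.relIndex_mul_index hB.le
          rw [show (D.subgroupOf P).index = p from hDidx] at h3
          rcases (Nat.prime_mul_iff.mp (h3.symm ▸ hp)) with ⟨-, h4⟩ | ⟨-, h4⟩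
          · exact hB' (Subgroup.index_eq_one.mp h4)
          · exact hB.not_ge (Subgroup.relIndex_eq_one.mp h4)
      exact Subgroup.NormalizerCondition.normal_of_coatom _
        Group.normalizerCondition_of_isNilpotent h2
    exact (Subgroup.normal_subgroupOf_iff_le_normalizer inf_le_left).mp h1
  -- three subgroup lemma: `M` centralises `D`
  have h3s : ⁅⁅A, P⁆, D⁆ = ⊥ := by
    apply Subgroup.commutator_commutator_eq_bot_of_rotate
    · rw [eq_bot_iff]
      refine (Subgroup.commutator_mono (Subgroup.le_normalizer_iff_commutator_le_right.mp hDn)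
        le_rfl).trans ?_
      rw [Subgroup.commutator_eq_bot_iff_le_centralizer.mpr inf_le_right]
    · rw [Subgroup.commutator_eq_bot_iff_le_centralizer.mpr (inf_le_right : D ≤ _),
        Subgroup.commutator_bot_left]
  rw [Subgroup.commutator_comm A P, Subgroup.commutator_eq_bot_iff_le_centralizer] at h3s
  -- `M` is abelian
  have hMA : A ≤ Subgroup.normalizer (M : Set G) := Subgroup.normalizer_commutator_ge_right P A
  have hDM : (D.subgroupOf M).Normal :=
    (Subgroup.normal_subgroupOf_iff_le_normalizer_inf).mpr
      (fun x hx => by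
        have hDle : D ≤ Subgroup.centralizer (M : Set G) := Subgroup.le_centralizer_iff.mp h3s
        rw [Subgroup.mem_normalizer_iff]
        intro y
        have key : ∀ z ∈ D ⊓ M, x * z * x⁻¹ = z := fun z hz => by
          rw [Subgroup.mem_centralizer_iff.mp (hDle hz.1) x hx, mul_inv_cancel_right]
        refine ⟨fun hy => by rw [key y hy]; exact hy, fun hy => ?_⟩
        have h5 := key _ hy
        have h6 : x * y * x⁻¹ = y := by
          have h7 : x * (x * y * x⁻¹) = (x * y * x⁻¹) * x :=
            Subgroup.mem_centralizer_iff.mp (hDle hy.1) x hx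
          rw [inv_mul_cancel_right] at h7
          rw [mul_left_cancel h7]
        rwa [h6] at hy)
  have hidxM : D.relIndex M ∣ p := by
    rw [← hDidx, ← hsplit]
    have h1 := Subgroup.relIndex_mul_relIndex (D ⊓ M) D (M ⊔ D) inf_le_left le_sup_right
    have h2 := Subgroup.relIndex_mul_relIndex (D ⊓ M) M (M ⊔ D) inf_le_right le_sup_left
    rw [Subgroup.inf_relIndex_left] at h1
    rw [Subgroup.inf_relIndex_right] at h2
    exact dvd_of_eq (by
      have hfin : D.relIndex (M ⊔ D) = D.relIndex M := by
        have hnM : (M.subgroupOf (M ⊔ D)).Normal :=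
          (Subgroup.normal_subgroupOf_iff_le_normalizer le_sup_left).mpr
            (hsplit ▸ Subgroup.normalizer_commutator_ge_left P A)
        have hMD : M.relIndex (M ⊔ D) = M.relIndex D := by
          have h8 := Subgroup.relIndex_sup_right (K := M.subgroupOf (M ⊔ D))
            (H := D.subgroupOf (M ⊔ D))
          rw [← Subgroup.subgroupOf_sup le_sup_right le_sup_left, sup_comm D M,
            Subgroup.subgroupOf_self, Subgroup.relIndex_top_right,
            Subgroup.relIndex_subgroupOf le_sup_right] at h8
          exact h8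
        rw [hMD] at h2
        rw [← h2, mul_comm] at h1
        exact Nat.eq_of_mul_eq_mul_right (Nat.pos_of_ne_zero Subgroup.index_ne_zero_of_finite) h1
      exact hfin.symm)
  have hMcomm : IsMulCommutative M := by
    have hcyc : IsCyclic (M ⧸ D.subgroupOf M) := by
      rcases (Nat.dvd_prime hp).mp hidxM with h | h
      · have : Subsingleton (M ⧸ D.subgroupOf M) := (Nat.card_eq_one_iff_unique.mp
          ((Subgroup.index_eq_card _).symm.trans h)).1
        exact isCyclic_of_subsingleton
      · exact isCyclic_of_prime_card ((Subgroup.index_eq_card _).symm.trans h)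
    apply MonoidHom.isMulCommutative_of_isCyclic_of_ker_le_center (QuotientGroup.mk' (D.subgroupOf M))
    rw [QuotientGroup.ker_mk']
    intro x hx
    rw [Subgroup.mem_center_iff]
    intro y
    exact Subtype.ext (Subgroup.mem_centralizer_iff.mp (h3s y.2) x hx).symm
  -- conclude
  have hcopM : (Nat.card A).Coprime (Nat.card M) :=
    hcopP.coprime_dvd_right (Subgroup.card_dvd_of_le hMP)
  have hbot := CfsgLib.Coprime.inf_centralizer_inf_commutator_eq_bot hMA hcopM
  rw [CfsgLib.Coprime.commutator_commutator_eq hQA hcopP] at hbot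
  have hDMbot : D.subgroupOf M = ⊥ := by
    rw [Subgroup.subgroupOf_eq_bot, disjoint_iff, eq_bot_iff, ← hbot]
    exact fun x hx => ⟨⟨hx.2, hx.1.2⟩, hx.2⟩
  have hcardM : Nat.card M = D.relIndex M := by
    rw [Subgroup.relIndex, hDMbot, Subgroup.index_bot]
  rcases (Nat.dvd_prime hp).mp hidxM with h | h
  · exfalso
    rw [h, Subgroup.card_eq_one] at hcardM
    rw [hcardM, bot_sup_eq] at hsplit
    rw [hsplit, Subgroup.relIndex_self] at hDidx
    exact hp.ne_one hDidx.symm
  · exact hcardM.trans h

end Cfsg.Agent.S0057
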