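import Cfsg.Statements.S1009
import Mathlib.GroupTheory.Sylow
import Mathlib.Tactic

set_option autoImplicit false
open Cfsg

namespace Cfsg.Agent.S1009

/-- Brodkey's Theorem: if a finite group has abelian Sylow p-subgroups, then there are two Sylow p-subgroups whose intersection equals the intersection of all Sylow p-subgroups. -/
theorem result {G : Type*} [Group G] [Finite G] (p : ℕ) [Fact p.Prime] (hab : ∀ P : Sylow p G, IsMulCommutative ↥(P : Subgroup G)) : ∃ P Q : Sylow p G, (P : Subgroup G) ⊓ (Q : Subgroup G) = ⨅ R : Sylow p G, (R : Subgroup G) := by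
  classical
  obtain ⟨⟨P, Q⟩, -, hmin⟩ := Set.exists_min_image (Set.univ : Set (Sylow p G × Sylow p G))
    (fun q => Nat.card ↥((q.1 : Subgroup G) ⊓ (q.2 : Subgroup G))) (Set.toFinite _)
    ⟨(default, default), Set.mem_univ _⟩
  refine ⟨P, Q, le_antisymm (le_iInf fun R => ?_) (le_inf (iInf_le _ P) (iInf_le _ Q))⟩
  set D := (P : Subgroup G) ⊓ (Q : Subgroup G) with hD
  set N := Subgroup.normalizer (D : Set G) with hN
  have hle : ∀ A : Sylow p G, D ≤ (A : Subgroup G) → (A : Subgroup G) ≤ N := by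
    intro A hA a ha
    haveI := hab A
    rw [hN, Subgroup.mem_normalizer_iff]
    intro d
    constructor
    · intro hd
      have hc := congrArg Subtype.val (mul_comm' (⟨a, ha⟩ : ↥(A : Subgroup G)) ⟨d, hA hd⟩)
      push_cast at hc
      rwa [hc, mul_inv_cancel_right]
    · intro hd
      have hc := congrArg Subtype.val (mul_comm' (⟨a, ha⟩ : ↥(A : Subgroup G)) ⟨_, hA hd⟩)
      push_cast at hc
      rw [inv_mul_cancel_right] at hc
      have : d = a * d * a⁻¹ := by
        refine mul_left_cancel (a := a) ?_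
        rw [hc]
      exact this ▸ hd
  have hPN := hle P inf_le_left
  have hQN := hle Q inf_le_right
  obtain ⟨S, hS⟩ := (((R.isPGroup'.to_le (inf_le_left (b := N))) :
    IsPGroup p ↥((R : Subgroup G) ⊓ N)).comap_of_injective N.subtype
      Subtype.val_injective).exists_le_sylow
  obtain ⟨n, hn⟩ := MulAction.exists_smul_eq ↥N (P.subtype hPN) S
  rw [Sylow.smul_subtype] at hn
  have h1 : (R : Subgroup G) ⊓ N ≤ (((n : G) • P : Sylow p G) : Subgroup G) := by
    intro r hr
    have hm : (⟨r, hr.2⟩ : ↥N) ∈ S := hS (show r ∈ (R : Subgroup G) ⊓ N from hr)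
    rw [← hn] at hm
    exact hm
  have hnD : ∀ r : G, r ∈ (((n : G) • P : Sylow p G) : Subgroup G) →
      r ∈ (((n : G) • Q : Sylow p G) : Subgroup G) → r ∈ D := by
    rintro r ⟨a, ha, rfl⟩ ⟨b, hb, hab'⟩
    have : b = a := mul_left_cancel (mul_right_cancel (hab' :))
    subst this
    exact (Subgroup.mem_normalizer_iff.1 n.2 b).1 ⟨ha, hb⟩
  have hsub : (R : Subgroup G) ⊓ (((n : G) • Q : Sylow p G) : Subgroup G) ≤ D := by
    rintro r ⟨hr, hr'⟩
    have hrN : r ∈ N := by
      obtain ⟨b, hb, rfl⟩ := hr'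
      exact mul_mem (mul_mem n.2 (hQN hb)) (inv_mem n.2)
    exact hnD r (h1 ⟨hr, hrN⟩) hr'
  rw [← Subgroup.eq_of_le_of_card_ge hsub (hmin (R, (n : G) • Q) (Set.mem_univ _))]
  exact inf_le_left

end Cfsg.Agent.S1009
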