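import Cfsg.Statements.S0060
import Cfsg.Agent.S1009
import Cfsg.Agent.Solvable.Fitting

set_option autoImplicit false
open Pointwise
open Cfsg

namespace Cfsg.Agent.S0060

/-- Brodkey's Theorem: in a finite group with abelian Sylow p-subgroups and no nontrivial normal p-subgroup, some conjugate of a Sylow p-subgroup meets it trivially. -/
theorem result {G : Type*} [Group G] [Finite G] (p : ℕ) [Fact p.Prime]
    (S : Sylow p G) (hS : IsMulCommutative S) (hOp : Cfsg.pCore p G = ⊥) :
    ∃ g : G, (S : Subgroup G) ⊓ MulAut.conj g • (S : Subgroup G) = ⊥ := by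
  have hab : ∀ P : Sylow p G, IsMulCommutative (P : Subgroup G) := by
    intro P
    obtain ⟨g, rfl⟩ := MulAction.exists_smul_eq G S P
    haveI := hS
    refine ⟨⟨fun a b => ?_⟩⟩
    apply ((Subgroup.equivSMul (MulAut.conj g) (S : Subgroup G)).symm).injective
    rw [map_mul, map_mul]
    exact mul_comm' _ _
  obtain ⟨P, Q, hPQ⟩ := Cfsg.Agent.S1009.result p hab
  rw [← CfsgLib.Solvable.pCore_eq_iInf, hOp] at hPQ
  obtain ⟨a, rfl⟩ := MulAction.exists_smul_eq G S P
  obtain ⟨b, rfl⟩ := MulAction.exists_smul_eq G S Q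
  refine ⟨a⁻¹ * b, ?_⟩
  have h1 := congrArg (fun K => MulAut.conj a⁻¹ • K) hPQ
  simp only [Sylow.coe_subgroup_smul, Subgroup.smul_inf, ← mul_smul, ← map_mul, inv_mul_cancel,
    map_one, one_smul, Subgroup.smul_bot] at h1
  exact h1

end Cfsg.Agent.S0060
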