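import Cfsg.Statements.S0066
import Cfsg.Agent.Subnormal.Zipper

set_option autoImplicit false
open Pointwise
open Cfsg

namespace Cfsg.Agent.S0066

universe u

/-- Conjugates inside a subgroup. -/
theorem hyp_subgroupOf {G : Type u} [Group G] (A H : Subgroup G)
    (h : ∀ g : G, (A.subgroupOf (A ⊔ MulAut.conj g • A)).IsSubnormal) (g : H) :
    ((A.subgroupOf H).subgroupOf
      (A.subgroupOf H ⊔ MulAut.conj g • A.subgroupOf H)).IsSubnormal := by
  have hle : (A.subgroupOf H ⊔ MulAut.conj g • A.subgroupOf H).map H.subtype ≤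
      A ⊔ MulAut.conj (g : G) • A := by
    rw [Subgroup.map_sup]
    refine sup_le ((fun y hy => Subgroup.mem_sup_left (by obtain ⟨x, hx, rfl⟩ := hy; exact hx))) ?_
    rintro _ ⟨x, ⟨a, ha, rfl⟩, rfl⟩
    refine Subgroup.mem_sup_right ⟨(a : G), ha, ?_⟩
    rfl
  let f : ↥(A.subgroupOf H ⊔ MulAut.conj g • A.subgroupOf H) →*
      ↥(A ⊔ MulAut.conj (g : G) • A) :=
    (H.subtype.comp (Subgroup.subtype _)).codRestrict _ fun x => hle ⟨x, x.2, rfl⟩
  exact (h (g : G)).comap f

theorem criterion (n : ℕ) : ∀ (G : Type u) [Group G] [Finite G] (A : Subgroup G),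
    Nat.card G = n → (∀ g : G, (A.subgroupOf (A ⊔ MulAut.conj g • A)).IsSubnormal) →
      A.IsSubnormal := by
  induction n using Nat.strong_induction_on with
  | _ n ih =>
    intro G _ _ A hn h
    have hsub : ∀ H : Subgroup G, A ≤ H → H ≠ ⊤ → (A.subgroupOf H).IsSubnormal := fun H _ hH =>
      ih _ (hn ▸ lt_of_le_of_ne (Subgroup.card_le_card_group H)
        (fun he => hH (Subgroup.eq_top_of_card_eq H he))) H _ rfl (hyp_subgroupOf A H h)
    by_contra hnot
    obtain ⟨M, ⟨hM, hAM⟩, huniq⟩ :=
      CfsgLib.SubnormalZipper.existsUnique_maximal hsub hnot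
    -- every conjugate lies in `M`
    have hcl : Subgroup.normalClosure (A : Set G) ≤ M := by
      rw [Subgroup.normalClosure, Subgroup.closure_le]
      intro x hx
      obtain ⟨a, ha, hax⟩ := Group.mem_conjugatesOfSet_iff.1 hx
      obtain ⟨g, rfl⟩ := isConj_iff.1 hax
      have hJ : A ⊔ MulAut.conj g • A ≠ ⊤ := by
        intro htop
        refine hnot ?_
        have h1 := h g
        rw [htop] at h1
        refine h1.trans ?_ ?_
        · exact le_top
        · exact (inferInstance : (⊤ : Subgroup G).Normal).isSubnormal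
      obtain ⟨L, hL, hJL⟩ := (eq_top_or_exists_le_coatom _).resolve_left hJ
      rw [← huniq L ⟨hL, le_sup_left.trans hJL⟩]
      exact hJL (Subgroup.mem_sup_right ⟨a, ha, rfl⟩)
    refine hnot (Subgroup.IsSubnormal.trans (Subgroup.le_normalClosure (H := A)) ?_
      (Subgroup.normalClosure_normal.isSubnormal))
    exact hsub _ Subgroup.le_normalClosure fun ht => hM.1 (top_le_iff.1 (ht ▸ hcl))

/-- Wielandt's subnormality criterion: a subgroup that is subnormal in its join with each of its conjugates is subnormal in the whole finite group. -/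
theorem result {G : Type*} [Group G] [Finite G] (A : Subgroup G)
    (h : ∀ g : G, (A.subgroupOf (A ⊔ MulAut.conj g • A)).IsSubnormal) : A.IsSubnormal := by
  exact criterion _ G A rfl h

end Cfsg.Agent.S0066
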