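import Cfsg.Statements.S0067
import Cfsg.Agent.Small.BaerSuzuki
import Cfsg.Agent.Solvable.Fitting
import Cfsg.Agent.Solvable.Nilpotent

set_option autoImplicit false
open Pointwise
open Cfsg

namespace Cfsg.Agent.S0067

/-- If the join of a subgroup A with each of its conjugates is nilpotent, then A is subnormal in the finite group and contained in the Fitting subgroup. -/
theorem result {G : Type*} [Group G] [Finite G] (A : Subgroup G)
    (h : ∀ g : G, Group.IsNilpotent (A ⊔ MulAut.conj g • A : Subgroup G)) : A.IsSubnormal ∧ A ≤ Cfsg.fittingSubgroup G := by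
  have hA : Group.IsNilpotent A := by
    have h1 := h 1
    rw [map_one, one_smul, sup_idem] at h1
    exact h1
  have hAF : A ≤ Cfsg.fittingSubgroup G := by
    have htop := CfsgLib.Solvable.iSup_sylow_eq_top (G := A) (fun p => Classical.arbitrary (Sylow (p : ℕ) A))
    have h2 := congrArg (Subgroup.map A.subtype) htop
    rw [Subgroup.map_iSup, ← MonoidHom.range_eq_map, Subgroup.range_subtype] at h2
    refine h2.ge.trans (iSup_le fun p => ?_)
    have hp : Fact (p : ℕ).Prime := ⟨Nat.prime_of_mem_primeFactors p.2⟩
    let P : Sylow (p : ℕ) A := Classical.arbitrary _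
    let X : Subgroup G := (P : Subgroup A).map A.subtype
    have hX : IsPGroup p X := P.isPGroup'.map _
    have hpair : ∀ g : G, IsPGroup p ↥(X ⊔ MulAut.conj g • X) := by
      intro g
      let L : Subgroup G := A ⊔ MulAut.conj g • A
      have hL : Group.IsNilpotent L := h g
      let Q : Sylow (p : ℕ) L := Classical.arbitrary _
      have hQn : (Q : Subgroup L).Normal := inferInstance
      have hle : ∀ Y : Subgroup G, Y ≤ L → IsPGroup p Y → Y ≤ (Q : Subgroup L).map L.subtype := by
        intro Y hY hYp y hy
        obtain ⟨R, hR⟩ := (hYp.comap_of_injective L.subtype L.subtype_injective).exists_le_sylow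
        have := Sylow.unique_of_normal Q hQn
        rw [Subsingleton.elim R Q] at hR
        exact ⟨⟨y, hY hy⟩, hR hy, rfl⟩
      have hXA : X ≤ A := Subgroup.map_subtype_le _
      refine (Q.isPGroup'.map L.subtype).to_le (sup_le (hle X (hXA.trans le_sup_left) hX) ?_)
      refine hle _ ((Subgroup.pointwise_smul_le_pointwise_smul_iff.mpr hXA).trans le_sup_right) ?_
      exact hX.of_equiv (Subgroup.equivSMul (MulAut.conj g) X)
    obtain ⟨N, hNn, hNp, hXN⟩ := CfsgLib.Small.baerSuzuki_subgroup X hpair
    exact hXN.trans (CfsgLib.Solvable.le_fittingSubgroup hNp.isNilpotent)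
  have hFn := CfsgLib.Solvable.fittingSubgroup_normal (G := G)
  have hFnil := CfsgLib.Solvable.fittingSubgroup_isNilpotent (G := G)
  exact ⟨Subgroup.IsSubnormal.trans hAF (CfsgLib.Solvable.isNilpotent_iff_forall_isSubnormal.mp hFnil _)
    hFn.isSubnormal, hAF⟩

end Cfsg.Agent.S0067
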