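import Cfsg.Statements.S0073
import Cfsg.Agent.Transfer.SmallSylow

set_option autoImplicit false
open Cfsg

namespace Cfsg.Agent.S0073

theorem not_hasNormalPComplement {G : Type*} [Group G] [Finite G] [IsSimpleGroup G]
    (hG : ∃ x y : G, x * y ≠ y * x) {p : ℕ} [Fact p.Prime] (hp : p ∣ Nat.card G)
    (P : Sylow p G) (hc : IsMulCommutative (P : Subgroup G)) :
    ¬ Cfsg.HasNormalPComplement p G := by
  rintro ⟨R, N, hN, hcomp⟩
  rcases hN.eq_bot_or_eq_top with rfl | rfl
  · rw [Subgroup.isComplement'_bot_left] at hcomp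
    have hPtop : (P : Subgroup G) = ⊤ := by
      apply Subgroup.eq_top_of_card_eq
      rw [P.card_eq_multiplicity, ← R.card_eq_multiplicity, hcomp, Subgroup.card_top]
    obtain ⟨x, y, hxy⟩ := hG
    exact hxy (congrArg Subtype.val (mul_comm' (⟨x, hPtop ▸ Subgroup.mem_top x⟩ : (P : Subgroup G))
      ⟨y, hPtop ▸ Subgroup.mem_top y⟩))
  · rw [Subgroup.isComplement'_top_left] at hcomp
    exact R.ne_bot_of_dvd_card hp hcomp

/-- For a finite non-abelian simple group, either the cube of the least prime divisor of the order divides the order, or 12 does. -/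
theorem result {G : Type*} [Group G] [Finite G] [IsSimpleGroup G] (hG : ∃ x y : G, x * y ≠ y * x) : (Nat.card G).minFac ^ 3 ∣ Nat.card G ∨ 12 ∣ Nat.card G := by
  classical
  set p := (Nat.card G).minFac with hpdef
  have hn1 : Nat.card G ≠ 1 := fun h => by
    obtain ⟨x, y, hxy⟩ := hG
    haveI := (Nat.card_eq_one_iff_unique.1 h).1
    exact hxy (Subsingleton.elim _ _)
  haveI : Fact p.Prime := ⟨Nat.minFac_prime hn1⟩
  have hpn : p ∣ Nat.card G := Nat.minFac_dvd _
  by_cases h3 : p ^ 3 ∣ Nat.card G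
  · exact Or.inl h3
  right
  let P : Sylow p G := default
  obtain ⟨k, hk⟩ := IsPGroup.iff_card.1 P.isPGroup'
  have hk2 : k ≤ 2 := by
    by_contra hk3
    exact h3 ((pow_dvd_pow p (by omega : 3 ≤ k)).trans (hk ▸ Subgroup.card_subgroup_dvd_card _))
  have hk0 : k ≠ 0 := fun h => P.ne_bot_of_dvd_card hpn (Subgroup.card_eq_one.1 (by rw [hk, h, pow_zero]))
  have hc : IsMulCommutative (P : Subgroup G) := by
    rcases (by omega : k = 1 ∨ k = 2) with rfl | rfl
    · rw [pow_one] at hk
      haveI := isCyclic_of_prime_card (α := (P : Subgroup G)) hk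
      infer_instance
    · exact IsPGroup.isMulCommutative_of_card_eq_prime_sq hk
  obtain ⟨q, D, hq, hqp, hqn, hDP, hDlt, hqd⟩ :=
    CfsgLib.Transfer.exists_prime_dvd_sub_of_not_hasNormalPComplement P hc
      (not_hasNormalPComplement hG hpn P hc)
  have hpq : p < q := lt_of_le_of_ne (Nat.minFac_le_of_dvd hq.two_le hqn) hqp.symm
  have hp1 := (Fact.out : p.Prime).one_lt
  rw [hk] at hDP hDlt hqd
  obtain ⟨j, hj, rfl⟩ := (Nat.dvd_prime_pow Fact.out).1 hDP
  have hcases : q ∣ p - 1 ∨ q ∣ p + 1 ∧ k = 2 := by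
    have hjk : j < k := (Nat.pow_lt_pow_iff_right hp1).1 hDlt
    rcases (by omega : k = 1 ∧ j = 0 ∨ k = 2 ∧ j = 0 ∨ k = 2 ∧ j = 1) with
      ⟨rfl, rfl⟩ | ⟨rfl, rfl⟩ | ⟨rfl, rfl⟩
    · simp only [pow_one, pow_zero] at hqd
      exact Or.inl hqd
    · have : p ^ 2 - 1 = (p + 1) * (p - 1) := by simpa using Nat.sq_sub_sq p 1
      rw [pow_zero, this] at hqd
      exact (hq.dvd_mul.1 hqd).symm.imp id fun h => ⟨h, rfl⟩
    · have : p ^ 2 - p ^ 1 = p * (p - 1) := by rw [Nat.mul_sub, mul_one, pow_two, pow_one]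
      rw [this] at hqd
      rcases hq.dvd_mul.1 hqd with h | h
      · exact absurd ((Nat.prime_dvd_prime_iff_eq hq Fact.out).1 h) hqp
      · exact Or.inl h
  rcases hcases with h | ⟨h, rfl⟩
  · have := Nat.le_of_dvd (by omega) h
    omega
  · have hqe : q = p + 1 := by
      have := Nat.le_of_dvd (by omega) h
      omega
    have hp2 : p = 2 := by
      by_contra hp2
      have hodd := (Fact.out : p.Prime).odd_of_ne_two hp2
      have heven : Even q := hqe ▸ hodd.add_one
      have := hq.eq_two_or_odd'.resolve_right (by simpa using heven)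
      omega
    have h4 : 4 ∣ Nat.card G := by
      have := Subgroup.card_subgroup_dvd_card (P : Subgroup G)
      rwa [hk, hp2] at this
    have h3' : 3 ∣ Nat.card G := by rwa [hqe, hp2] at hqn
    exact (show Nat.Coprime 4 3 by norm_num).mul_dvd_of_dvd_of_dvd h4 h3'

end Cfsg.Agent.S0073
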