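import Cfsg.Statements.S0078
import Cfsg.Agent.Transfer.Tate

set_option autoImplicit false
open Cfsg

namespace Cfsg.Agent.S0078

/-- In a p-normal group, a Sylow p-subgroup P meets O^p(G) exactly where it meets O^p(V), for any subgroup V containing the normalizer of the centre of P. -/
theorem result {G : Type*} [Group G] [Finite G] {p : ℕ} [Fact p.Prime] (P : Sylow p G) (hn : ∀ Q : Sylow p G, (P : Subgroup G) ⊓ Subgroup.centralizer (P : Set G) ≤ (Q : Subgroup G) → (Q : Subgroup G) ⊓ Subgroup.centralizer (Q : Set G) = (P : Subgroup G) ⊓ Subgroup.centralizer (P : Set G)) (V : Subgroup G) (hV : Subgroup.normalizer (((P : Subgroup G) ⊓ Subgroup.centralizer (P : Set G) : Subgroup G) : Set G) ≤ V) : (P : Subgroup G) ⊓ Cfsg.pResidual p G = (P : Subgroup G) ⊓ (Cfsg.pResidual p V).map V.subtype := by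
  set Z := (P : Subgroup G) ⊓ Subgroup.centralizer (P : Set G) with hZdef
  have hZC : Z ≤ Subgroup.centralizer (P : Set G) := inf_le_right
  have hW : Cfsg.IsWeaklyClosed Z (P : Subgroup G) := by
    refine ⟨inf_le_left, fun g hg => ?_⟩
    have h1 : Z ≤ ((g⁻¹ • P : Sylow p G) : Subgroup G) := by
      intro z hz
      rw [Sylow.coe_subgroup_smul]
      refine CfsgLib.Transfer.mem_map_conj_iff.2 ?_
      simpa using hg ⟨z, hz, rfl⟩
    have h2 := hn _ h1
    have h3 : ((g⁻¹ • P : Sylow p G) : Subgroup G) ⊓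
        Subgroup.centralizer (((g⁻¹ • P : Sylow p G) : Subgroup G) : Set G) =
        Z.map (MulAut.conj g⁻¹).toMonoidHom := by
      rw [Sylow.coe_subgroup_smul]
      change (P : Subgroup G).map (MulAut.conj g⁻¹).toMonoidHom ⊓ _ = _
      rw [hZdef, Subgroup.map_inf _ _ _ (MulAut.conj g⁻¹).injective]
      refine congrArg₂ _ rfl ?_
      refine le_antisymm (fun x hx => ?_) ?_
      · obtain ⟨y, rfl⟩ := (MulAut.conj g⁻¹).surjective x
        refine ⟨y, fun a ha => (MulAut.conj g⁻¹).injective ?_, rfl⟩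
        rw [map_mul, map_mul]
        exact hx _ ⟨a, ha, rfl⟩
      · rintro _ ⟨y, hy, rfl⟩ _ ⟨a, ha, rfl⟩
        change (MulAut.conj g⁻¹) a * (MulAut.conj g⁻¹) y = (MulAut.conj g⁻¹) y * (MulAut.conj g⁻¹) a
        rw [← map_mul, ← map_mul, hy a ha]
    rw [← Sylow.coe_coe] at h2
    rw [h3] at h2
    conv_lhs => rw [← h2]
    rw [CfsgLib.Transfer.map_conj_map_conj, mul_inv_cancel]
    ext x
    rw [CfsgLib.Transfer.mem_map_conj_iff]
    simp
  have hPN : (P : Subgroup G) ≤ Subgroup.normalizer (Z : Set G) :=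
    (Subgroup.le_centralizer_iff.1 hZC).trans (Subgroup.centralizer_le_normalizer _)
  exact CfsgLib.Transfer.sylow_inf_pResidual_of_controlsFusion P (hPN.trans hV)
    ((CfsgLib.Transfer.controlsFusion_normalizer_of_weaklyClosed P hW hZC).mono hV)

end Cfsg.Agent.S0078
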