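import Cfsg.Statements.S0079
import Cfsg.Agent.Transfer.HallComplement

set_option autoImplicit false
open Cfsg

namespace Cfsg.Agent.S0079

/-- A nilpotent Hall subgroup has a normal complement exactly when elements of it that are conjugate in the whole group are already conjugate inside it. -/
theorem result {G : Type*} [Group G] [Finite G] (H : Subgroup G) (hH : Group.IsNilpotent H) (hHall : Nat.Coprime (Nat.card H) H.index) : (∃ N : Subgroup G, N.Normal ∧ N.IsComplement' H) ↔ ∀ x ∈ H, ∀ y ∈ H, (∃ g : G, g * x * g⁻¹ = y) → ∃ h ∈ H, h * x * h⁻¹ = y := by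
  refine ⟨fun ⟨N, hN, hc⟩ x hx y hy ⟨g, hg⟩ => ?_,
    CfsgLib.Transfer.exists_normal_complement_of_no_fusion H hH hHall⟩
  have hgm : g ∈ H ⊔ N := by rw [sup_comm, hc.sup_eq_top]; exact Subgroup.mem_top g
  rw [← SetLike.mem_coe, Subgroup.mul_normal] at hgm
  obtain ⟨h, hh, n, hn, rfl⟩ := hgm
  have h1 : n * x * n⁻¹ ∈ H := by
    have : n * x * n⁻¹ = h⁻¹ * y * h := by rw [← hg]; group
    rw [this]
    exact H.mul_mem (H.mul_mem (H.inv_mem hh) hy) hh
  have h2 : n * x * n⁻¹ * x⁻¹ ∈ N ⊓ H := by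
    refine ⟨?_, H.mul_mem h1 (H.inv_mem hx)⟩
    rw [mul_assoc, mul_assoc]
    exact N.mul_mem hn (by simpa [mul_assoc] using hN.conj_mem _ (N.inv_mem hn) x)
  rw [disjoint_iff.1 hc.disjoint, Subgroup.mem_bot, mul_inv_eq_one] at h2
  refine ⟨h, hh, ?_⟩
  conv_lhs => rw [← h2]
  rw [← hg]
  group

end Cfsg.Agent.S0079
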