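import Cfsg.Statements.S0080

set_option autoImplicit false
open Cfsg

namespace Cfsg.Agent.S0080

/-- When the index of H is prime to the order of H/H', the focal subgroup of H is G' ∩ H, and H/(G' ∩ H) has a normal complement. -/
theorem result {G : Type*} [Group G] [Finite G] (H : Subgroup G) (h : Nat.Coprime H.index (⁅H, H⁆.relIndex H)) : Subgroup.focalSubgroup H = commutator G ⊓ H ∧ ∃ N : Subgroup G, N.Normal ∧ N ⊓ H = commutator G ⊓ H ∧ N ⊔ H = ⊤ := by
  classical
  open scoped IsMulCommutative in
  have hco : (Nat.card (H ⧸ H.focalSubgroupOf)).Coprime H.index := by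
    refine Nat.Coprime.coprime_dvd_left ?_ h.symm
    rw [Subgroup.relIndex, ← Subgroup.index_eq_card]
    refine Subgroup.index_dvd_of_le fun x hx => ?_
    exact Subgroup.mem_subgroupOf.2 (H.commutator_le_focalSubgroup (Subgroup.mem_subgroupOf.1 hx))
  let V := H.transferFocal
  have hV : ∀ x : H, V x = (powCoprime hco) (QuotientGroup.mk x) := fun x =>
    (H.transferFocal_eq_pow x)
  have hker : V.ker ⊓ H = H.focalSubgroup := by
    refine le_antisymm (fun x hx => ?_) (le_inf ?_ H.focalSubgroup_le)
    · have h1 : V x = 1 := hx.1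
      have h2 := hV ⟨x, hx.2⟩
      rw [show V ((⟨x, hx.2⟩ : H) : G) = 1 from h1] at h2
      have h3 : (QuotientGroup.mk (⟨x, hx.2⟩ : H) : H ⧸ H.focalSubgroupOf) = 1 :=
        (powCoprime hco).injective (by rw [← h2]; simp [powCoprime_apply])
      exact Subgroup.mem_subgroupOf.1 ((QuotientGroup.eq_one_iff (N := H.focalSubgroupOf) _).1 h3)
    · exact H.focalSubgroup_le_commutator.trans (Abelianization.commutator_subset_ker V)
  have h1 : Subgroup.focalSubgroup H = commutator G ⊓ H :=
    le_antisymm (le_inf H.focalSubgroup_le_commutator H.focalSubgroup_le)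
      (hker ▸ inf_le_inf_right _ (Abelianization.commutator_subset_ker V))
  refine ⟨h1, V.ker, inferInstance, hker.trans h1, eq_top_iff.2 fun g _ => ?_⟩
  obtain ⟨a, ha⟩ := (powCoprime hco).surjective (V g)
  obtain ⟨x, rfl⟩ := QuotientGroup.mk_surjective a
  rw [← hV] at ha
  have : g * (x : G)⁻¹ ∈ V.ker := by rw [MonoidHom.mem_ker, map_mul, map_inv, ha, mul_inv_cancel]
  have := Subgroup.mul_mem_sup this x.2
  rwa [inv_mul_cancel_right] at this

end Cfsg.Agent.S0080
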