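import Cfsg.Statements.S0082
import Cfsg.Agent.Transfer.Abelian

set_option autoImplicit false
open Cfsg

namespace Cfsg.Agent.S0082

/-- In the cyclic case `[P, N(P)]` is trivial or everything. -/
theorem cyclic_dichotomy {G : Type*} [Group G] [Finite G] {p : ℕ} [Fact p.Prime] (P : Sylow p G)
    (hP : IsCyclic P) (hc : IsMulCommutative (P : Subgroup G)) :
    ⁅(P : Subgroup G), Subgroup.normalizer (P : Set G)⁆ = ⊥ ∨
      ⁅(P : Subgroup G), Subgroup.normalizer (P : Set G)⁆ = (P : Subgroup G) := by
  set N := Subgroup.normalizer (P : Set G) with hN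
  have hPN : (P : Subgroup G) ≤ N := Subgroup.le_normalizer
  let A : Subgroup N := ((P.subtype hPN : Sylow p N) : Subgroup N)
  haveI : A.Normal := Subgroup.normal_in_normalizer
  have hAc : IsCyclic A := by
    haveI := hP
    exact isCyclic_of_injective (Subgroup.subgroupOfEquivOfLe hPN).toMonoidHom
      (Subgroup.subgroupOfEquivOfLe hPN).injective
  obtain ⟨h1, h2, h3⟩ := CfsgLib.Transfer.abelian_normal_hall A (haveI := hAc; inferInstance)
    (Sylow.card_coprime_index _)
  have hmap : (⁅A, (⊤ : Subgroup N)⁆).map N.subtype = ⁅(P : Subgroup G), N⁆ := by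
    rw [Subgroup.map_commutator, ← MonoidHom.range_eq_map, Subgroup.range_subtype]
    simp only [A, Sylow.coe_subtype, Subgroup.map_subgroupOf_eq_of_le hPN]
  rcases eq_or_ne (commutator N ⊓ A) ⊥ with hC | hC
  · left
    rw [← hmap, h1, hC, Subgroup.map_bot]
  · right
    have hD : Subgroup.center N ⊓ A = ⊥ := by
      by_contra hD
      have key : ∀ K : Subgroup N, K ≤ A → K ≠ ⊥ → ∃ x : A, (x : N) ∈ K ∧ orderOf x = p := by
        intro K hKA hK
        have hKp : IsPGroup p K := ((P.subtype hPN : Sylow p N).isPGroup').to_le hKA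
        obtain ⟨y, hy⟩ := exists_prime_orderOf_dvd_card' (G := K) p
          (hKp.card_eq_or_dvd.resolve_left fun e => hK (Subgroup.card_eq_one.1 e))
        exact ⟨⟨y, hKA y.2⟩, y.2, by rw [Subgroup.orderOf_mk, Subgroup.orderOf_coe, hy]⟩
      obtain ⟨x, hxK, hx⟩ := key _ inf_le_right hC
      obtain ⟨y, hyK, hy⟩ := key _ inf_le_right hD
      haveI := hAc
      have hyx : y ∈ Subgroup.zpowers x := by
        classical
        haveI : Fintype A := Fintype.ofFinite _
        have hsub : (Subgroup.zpowers x : Set A).toFinset ⊆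
            ({a | a ^ p = 1} : Finset A) := by
          intro a ha
          obtain ⟨k, rfl⟩ := Subgroup.mem_zpowers_iff.1 (Set.mem_toFinset.1 ha)
          simp only [Finset.mem_filter, Finset.mem_univ, true_and]
          rw [← zpow_natCast, ← zpow_mul, mul_comm, zpow_mul, zpow_natCast, ← hx,
            pow_orderOf_eq_one, one_zpow]
        have hle : ({a | a ^ p = 1} : Finset A).card ≤ (Subgroup.zpowers x : Set A).toFinset.card := by
          refine (IsCyclic.card_pow_eq_one_le (Fact.out : p.Prime).pos).trans (le_of_eq ?_)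
          rw [Set.toFinset_card, ← Nat.card_eq_fintype_card]
          exact hx.symm.trans (Nat.card_zpowers x).symm
        refine Set.mem_toFinset.1 (Finset.eq_of_subset_of_card_le hsub hle ▸ ?_)
        simp only [Finset.mem_filter, Finset.mem_univ, true_and]
        rw [← hy, pow_orderOf_eq_one]
      obtain ⟨k, hk⟩ := Subgroup.mem_zpowers_iff.1 hyx
      have : (y : N) ∈ (commutator N ⊓ A) ⊓ (Subgroup.center N ⊓ A) :=
        ⟨by rw [← hk]; push_cast; exact zpow_mem hxK k, hyK⟩
      rw [h2, Subgroup.mem_bot] at this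
      have : y = 1 := Subtype.ext this
      rw [this, orderOf_one] at hy
      exact (Fact.out : p.Prime).one_lt.ne hy
    rw [hD, sup_bot_eq] at h3
    rw [← hmap, h1, h3]
    simp only [A, Sylow.coe_subtype, Subgroup.map_subgroupOf_eq_of_le hPN]

/-- With a cyclic Sylow p-subgroup, either there is a normal p-complement or the elements of order prime to p generate the whole group. -/
theorem result {G : Type*} [Group G] [Finite G] {p : ℕ} [Fact p.Prime] (P : Sylow p G) (hP : IsCyclic P) : Cfsg.HasNormalPComplement p G ∨ Cfsg.pResidual p G = ⊤ := by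
  have hc : IsMulCommutative (P : Subgroup G) := haveI := hP; inferInstance
  have hT := CfsgLib.Transfer.inf_pResidual_eq_commutator_normalizer P hc
  rcases cyclic_dichotomy P hP hc with h | h
  · exact Or.inl ((CfsgLib.Transfer.hasNormalPComplement_iff_sylow_inf P).2 (hT.trans h))
  · refine Or.inr (top_le_iff.1 ((CfsgLib.Transfer.sylow_sup_pResidual P).ge.trans
      (sup_le ?_ le_rfl)))
    exact h.ge.trans (hT.ge.trans inf_le_right)

end Cfsg.Agent.S0082
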