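import Cfsg.Statements.S0083
import Cfsg.Agent.Transfer.Abelian

set_option autoImplicit false
open Cfsg

namespace Cfsg.Agent.S0083

/-- For an abelian Sylow p-subgroup P, a normal p-complement exists exactly when the normalizer of P is an internal direct product of P with some subgroup. -/
theorem result {G : Type*} [Group G] [Finite G] {p : ℕ} [Fact p.Prime] (P : Sylow p G) (hP : IsMulCommutative P) : Cfsg.HasNormalPComplement p G ↔ ∃ Q : Subgroup G, Q ≤ Subgroup.centralizer (P : Set G) ∧ Q ⊓ (P : Subgroup G) = ⊥ ∧ Q ⊔ (P : Subgroup G) = Subgroup.normalizer (P : Set G) := by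
  constructor
  · intro h
    let N := Subgroup.normalizer (P : Set G)
    have hPN : (P : Subgroup G) ≤ N := Subgroup.le_normalizer
    obtain ⟨K, hK, hKc⟩ := CfsgLib.Transfer.exists_isComplement'
      (CfsgLib.Transfer.hasNormalPComplement_subgroup h N) (P.subtype hPN)
    refine ⟨K.map N.subtype, ?_, ?_, ?_⟩
    · haveI : ((P.subtype hPN : Sylow p N) : Subgroup N).Normal := Subgroup.normal_in_normalizer
      rintro _ ⟨b, hb, rfl⟩ a ha
      exact congrArg Subtype.val (Subgroup.commute_of_normal_of_disjoint _ _ inferInstance hK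
        hKc.disjoint.symm ⟨a, hPN ha⟩ b (Subgroup.mem_subgroupOf.2 ha) hb).eq
    · conv_lhs => rw [← Subgroup.map_subgroupOf_eq_of_le hPN]
      rw [← Subgroup.map_inf _ _ _ N.subtype_injective]
      exact (congrArg _ (disjoint_iff.1 hKc.disjoint)).trans (Subgroup.map_bot _)
    · conv_lhs => rw [← Subgroup.map_subgroupOf_eq_of_le hPN]
      rw [← Subgroup.map_sup, show (P : Subgroup G).subgroupOf N =
        ((P.subtype hPN : Sylow p N) : Subgroup N) from rfl, hKc.sup_eq_top,
        ← MonoidHom.range_eq_map, Subgroup.range_subtype]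
  · rintro ⟨Q, hQC, -, hQ⟩
    have hN : Subgroup.normalizer (P : Set G) ≤ Subgroup.centralizer (P : Set G) := by
      rw [← hQ]
      exact sup_le hQC fun x hx y hy =>
        congrArg Subtype.val (mul_comm' (⟨y, hy⟩ : (P : Subgroup G)) ⟨x, hx⟩)
    exact ⟨P, _, inferInstance, MonoidHom.ker_transferSylow_isComplement' P hN⟩

end Cfsg.Agent.S0083
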