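import Cfsg.Statements.S0084
import Cfsg.Agent.Transfer.SmallSylow

set_option autoImplicit false
open Cfsg

namespace Cfsg.Agent.S0084

/-- A group whose Sylow 2-subgroups are Klein four-groups and whose order is prime to 3 has a normal 2-complement. -/
theorem result {G : Type*} [Group G] [Finite G] (T : Sylow 2 G) (hT : IsKleinFour T) (h3 : ¬ 3 ∣ Nat.card G) : Cfsg.HasNormalPComplement 2 G := by
  haveI : Fact (Nat.Prime 2) := ⟨Nat.prime_two⟩
  by_contra hnot
  obtain ⟨q, D, hq, hqp, hqn, hD, hDlt, hqd⟩ :=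
    CfsgLib.Transfer.exists_prime_dvd_sub_of_not_hasNormalPComplement T
      (@IsKleinFour.isMulCommutative _ _ hT) hnot
  have h4 : Nat.card (T : Subgroup G) = 4 := hT.card_four
  rw [h4] at hD hDlt hqd
  have hq3 : q ≠ 3 := fun h => h3 (h ▸ hqn)
  have : q ≤ 4 := (Nat.le_of_dvd (by omega) hqd).trans (Nat.sub_le _ _)
  have := hq.two_le
  interval_cases D <;> interval_cases q <;>
    first | omega | exact absurd hq (by decide)

end Cfsg.Agent.S0084
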