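import Cfsg.Statements.S0085
import Cfsg.Agent.Transfer.SmallSylow

set_option autoImplicit false
open Cfsg

namespace Cfsg.Agent.S0085

/-- A group whose Sylow 2-subgroups are elementary abelian of order 8 and whose order is prime to 3 and to 7 has a normal 2-complement. -/
theorem result {G : Type*} [Group G] [Finite G] (T : Sylow 2 G) (h8 : Nat.card T = 8) (he : ∀ x : T, x * x = 1) (h3 : ¬ 3 ∣ Nat.card G) (h7 : ¬ 7 ∣ Nat.card G) : Cfsg.HasNormalPComplement 2 G := by
  haveI : Fact (Nat.Prime 2) := ⟨Nat.prime_two⟩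
  by_contra hnot
  have hc : IsMulCommutative (T : Subgroup G) := by
    refine ⟨⟨fun a b => ?_⟩⟩
    have ha : a⁻¹ = a := inv_eq_of_mul_eq_one_left (he a)
    have hb : b⁻¹ = b := inv_eq_of_mul_eq_one_left (he b)
    have hab : (a * b)⁻¹ = a * b := inv_eq_of_mul_eq_one_left (he (a * b))
    rw [mul_inv_rev, ha, hb] at hab
    exact hab.symm
  obtain ⟨q, D, hq, hqp, hqn, hD, hDlt, hqd⟩ :=
    CfsgLib.Transfer.exists_prime_dvd_sub_of_not_hasNormalPComplement T hc hnot
  rw [show Nat.card (T : Subgroup G) = 8 from h8] at hD hDlt hqd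
  have hq3 : q ≠ 3 := fun h => h3 (h ▸ hqn)
  have hq7 : q ≠ 7 := fun h => h7 (h ▸ hqn)
  have : q ≤ 8 := (Nat.le_of_dvd (by omega) hqd).trans (Nat.sub_le _ _)
  have := hq.two_le
  interval_cases D <;> interval_cases q <;>
    first | omega | exact absurd hq (by decide)

end Cfsg.Agent.S0085
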