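import Cfsg.Statements.S0092
import Cfsg.Agent.Transfer.Abelian
import Cfsg.Agent.Coprime.SchurZassenhaus

set_option autoImplicit false
open Cfsg

namespace Cfsg.Agent.S0092

open CfsgLib.Transfer Subgroup in
/-- Frattini arguments on the Sylow normalizer, then on a `p'`-complement inside it. -/
theorem splits {G : Type*} [Group G] [Finite G] {p : ℕ} [Fact p.Prime]
    (h : ∀ Q : Sylow p (Cfsg.pResidual p G), IsMulCommutative Q) :
    ∃ K : Subgroup G, K.IsComplement' (Cfsg.pResidual p G) := by
  set K := Cfsg.pResidual p G with hKdef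
  let Q : Sylow p K := default
  set Q0 : Subgroup G := (Q : Subgroup K).map K.subtype with hQ0
  set X := normalizer (Q0 : Set G) with hX
  have hXK : X ⊔ K = ⊤ := Sylow.normalizer_sup_eq_top Q
  have hQK : Q0 ≤ K := map_subtype_le _
  have hQX : Q0 ≤ X := le_normalizer
  set M := X ⊓ K with hM
  set A := Q0.subgroupOf M with hA
  have hQM : Q0 ≤ M := le_inf hQX hQK
  haveI : A.Normal := (normal_subgroupOf_iff_le_normalizer hQM).2 inf_le_left
  have hcard : Nat.card A = Nat.card (Q : Subgroup K) := by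
    rw [hA, Nat.card_congr (subgroupOfEquivOfLe hQM).toEquiv, hQ0,
      card_map_of_injective K.subtype_injective]
  have hcA : IsMulCommutative A :=
    ⟨⟨fun a b => by
      obtain ⟨a', ha', ea⟩ := mem_subgroupOf.1 a.2
      obtain ⟨b', hb', eb⟩ := mem_subgroupOf.1 b.2
      have := congrArg (fun t : (Q : Subgroup K) => ((t : K) : G))
        ((h Q).is_comm.comm ⟨a', ha'⟩ ⟨b', hb'⟩)
      simp only [Subgroup.coe_mul] at this
      simp only [Subgroup.coe_subtype] at ea eb
      exact Subtype.ext (Subtype.ext (by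
        simp only [Subgroup.coe_mul]
        rw [← ea, ← eb, this]))⟩⟩
  have hAidx : Nat.Coprime (Nat.card A) A.index := by
    have h1 : A.index ∣ (Q : Subgroup K).index := by
      have e : (Q : Subgroup K).index = Q0.relIndex K := by
        rw [relIndex, subgroupOf, hQ0, comap_map_eq_self_of_injective K.subtype_injective]
      rw [e, ← relIndex_mul_relIndex Q0 M K hQM inf_le_right]
      exact dvd_mul_right _ _
    exact hcard ▸ Nat.Coprime.coprime_dvd_right h1 Q.card_coprime_index
  obtain ⟨S, hS⟩ := exists_right_complement'_of_coprime hAidx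
  -- `Q = [Q, M]`, as `O^p(K) = K`
  have hQcomm : ⁅A, (⊤ : Subgroup M)⁆ = A := by
    have h1 := inf_pResidual_eq_commutator_normalizer Q (h Q)
    rw [pResidual_pResidual, inf_top_eq] at h1
    apply Subgroup.map_injective M.subtype_injective
    rw [map_commutator, ← MonoidHom.range_eq_map, range_subtype, map_subgroupOf_eq_of_le hQM]
    have h2 := congrArg (Subgroup.map K.subtype) h1
    rw [map_commutator] at h2
    refine le_antisymm ?_ ?_
    · rw [commutator_le]
      intro a ha b hb
      have hbQ : b * a⁻¹ * b⁻¹ ∈ Q0 := (mem_normalizer_iff.1 hb.1 _).1 (inv_mem ha)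
      simpa [commutatorElement_def, mul_assoc] using mul_mem ha hbQ
    · refine h2.le.trans (commutator_mono le_rfl ?_)
      rintro _ ⟨b, hb, rfl⟩
      refine mem_inf.2 ⟨?_, b.2⟩
      refine mem_normalizer_iff.2 fun a => ?_
      constructor
      · rintro ⟨a', ha', rfl⟩
        exact ⟨b * a' * b⁻¹, (mem_normalizer_iff.1 hb a').1 ha', rfl⟩
      · rintro ⟨a', ha', e⟩
        refine ⟨b⁻¹ * a' * b, (mem_normalizer_iff''.1 hb a').1 ha', ?_⟩
        simp only [Subgroup.coe_subtype] at e ⊢
        simp [e, mul_assoc]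
  have hfix : ∀ a ∈ A, (∀ s ∈ S, a * s = s * a) → a = 1 := by
    intro a ha hcomm
    obtain ⟨h1, h2, h3⟩ := abelian_normal_hall A hcA hAidx
    have : a ∈ center M := by
      rw [mem_center_iff]
      intro m
      have hm : m ∈ A ⊔ S := hS.sup_eq_top ▸ mem_top m
      rw [← SetLike.mem_coe, normal_mul] at hm
      obtain ⟨u, hu, s, hs, rfl⟩ := hm
      have e := congrArg Subtype.val (hcA.is_comm.comm ⟨u, hu⟩ ⟨a, ha⟩)
      simp only [Subgroup.coe_mul] at e
      calc u * s * a = u * (a * s) := by rw [hcomm s hs]; group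
        _ = a * (u * s) := by rw [← mul_assoc, e, mul_assoc]
    rw [← mem_bot, ← h2, ← h1, hQcomm]
    exact ⟨ha, this, ha⟩
  set S0 : Subgroup G := S.map M.subtype with hS0
  set Y := X ⊓ normalizer (S0 : Set G) with hY
  -- Frattini: `X = Q0 (X ∩ N(S0))`
  have hXY : ∀ x ∈ X, ∃ a ∈ Q0, ∃ y ∈ Y, x = a * y := by
    intro x hx
    have hconj : ∀ m ∈ M, x * m * x⁻¹ ∈ M := fun m hm =>
      mem_inf.2 ⟨mul_mem (mul_mem hx (mem_inf.1 hm).1) (inv_mem hx),
        (inferInstance : K.Normal).conj_mem m hm.2 x⟩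
    set S1 : Subgroup M := (S0.map (MulAut.conj x).toMonoidHom).subgroupOf M with hS1
    have hS1le : S0.map (MulAut.conj x).toMonoidHom ≤ M := by
      rintro _ ⟨s, hs, rfl⟩
      exact hconj s (map_subtype_le _ hs)
    have hScard : Nat.card S1 = Nat.card S := by
      rw [hS1, Nat.card_congr (subgroupOfEquivOfLe hS1le).toEquiv,
        card_map_of_injective (MulAut.conj x).injective, hS0,
        card_map_of_injective M.subtype_injective]
    have hc1 : A.IsComplement' S1 := isComplement'_of_coprime (by rw [hScard]; exact hS.card_mul)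
      (by rw [hScard, ← hS.symm.index_eq_card]; exact hAidx)
    haveI := hcA
    obtain ⟨a, ha, he⟩ :=
      CfsgLib.Coprime.exists_conj_eq_of_isComplement'_of_abelian hAidx hS hc1
    refine ⟨a, mem_subgroupOf.1 ha, (a : G)⁻¹ * x, mem_inf.2 ⟨?_, ?_⟩, by group⟩
    · exact mul_mem (inv_mem (hQX (mem_subgroupOf.1 ha))) hx
    · apply mem_normalizer_of_map_conj_eq
      have h1 : S0.map (MulAut.conj (a : G)).toMonoidHom =
          S0.map (MulAut.conj x).toMonoidHom := by
        have := congrArg (Subgroup.map M.subtype) he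
        rw [hS1, map_subgroupOf_eq_of_le hS1le] at this
        rw [← this, pointwise_smul_def, map_map]
        change _ = map M.subtype (map (MulAut.conj a).toMonoidHom S)
        rw [map_map]
        rfl
      rw [← map_conj_map_conj, ← h1, map_conj_map_conj, inv_mul_cancel]
      ext t
      rw [mem_map_conj_iff]
      simp
  have hYK : Y ⊔ K = ⊤ := by
    rw [eq_top_iff, ← hXK]
    refine sup_le (fun x hx => ?_) le_sup_right
    obtain ⟨a, ha, y, hy, rfl⟩ := hXY x hx
    exact mul_mem (mem_sup_right (hQK ha)) (mem_sup_left hy)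
  have hYinf : Y ⊓ K ≤ S0 := by
    rintro y ⟨⟨hyX, hyS⟩, hyK⟩
    have hm : (⟨y, hyX, hyK⟩ : M) ∈ A ⊔ S := hS.sup_eq_top ▸ mem_top _
    rw [← SetLike.mem_coe, normal_mul] at hm
    obtain ⟨a, ha, s, hs, e⟩ := hm
    have ey : y = (a : G) * s := (congrArg Subtype.val e).symm
    have haN : (a : G) ∈ normalizer (S0 : Set G) := by
      have : (a : G) = y * (s : G)⁻¹ := by rw [ey]; group
      rw [this]
      exact mul_mem hyS (inv_mem (le_normalizer ⟨s, hs, rfl⟩))
    have ha1 : a = 1 := hfix a ha fun t ht => by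
      have h1 : a * t * a⁻¹ * t⁻¹ ∈ A := by
        rw [mul_assoc, mul_assoc]
        exact mul_mem ha (by
          simpa [mul_assoc] using (inferInstance : A.Normal).conj_mem _ (inv_mem ha) t)
      have h2 : a * t * a⁻¹ * t⁻¹ ∈ S := by
        refine mul_mem ?_ (inv_mem ht)
        obtain ⟨t', ht', e'⟩ := (mem_normalizer_iff.1 haN t).1 ⟨t, ht, rfl⟩
        have : a * t * a⁻¹ = t' := Subtype.ext (by simpa using e'.symm)
        rwa [this]
      have h3 : a * t * a⁻¹ * t⁻¹ ∈ A ⊓ S := ⟨h1, h2⟩
      rw [disjoint_iff.1 hS.disjoint, mem_bot] at h3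
      simpa [mul_inv_eq_iff_eq_mul] using h3
    rw [ey, ha1, OneMemClass.coe_one, one_mul]
    exact ⟨s, hs, rfl⟩
  have hS0p : ¬ p ∣ Nat.card S0 := by
    rw [hS0, card_map_of_injective M.subtype_injective, ← hS.symm.index_eq_card]
    intro hd
    have e : (Q : Subgroup K).index = Q0.relIndex K := by
      rw [relIndex, subgroupOf, hQ0, comap_map_eq_self_of_injective K.subtype_injective]
    refine Q.not_dvd_index ?_
    rw [e, ← relIndex_mul_relIndex Q0 M K hQM inf_le_right]
    exact hd.trans (dvd_mul_right _ _)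
  let L : Sylow p Y := default
  refine ⟨(L : Subgroup Y).map Y.subtype, isComplement'_of_disjoint_and_mul_eq_univ ?_ ?_⟩
  · rw [disjoint_iff, eq_bot_iff]
    rintro _ ⟨⟨l, hl, rfl⟩, hlK⟩
    have hmem : (l : G) ∈ S0 ⊓ (L : Subgroup Y).map Y.subtype :=
      ⟨hYinf ⟨l.2, hlK⟩, ⟨l, hl, rfl⟩⟩
    rwa [inf_eq_bot_of_not_dvd_card hS0p (L.isPGroup'.map _)] at hmem
  · rw [← mul_normal, Set.eq_univ_iff_forall]
    intro g
    rw [SetLike.mem_coe]
    have hle : Y ≤ (L : Subgroup Y).map Y.subtype ⊔ K := by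
      intro y hy
      have : (⟨y, hy⟩ : Y) ∈ (L : Subgroup Y) ⊔ Cfsg.pResidual p Y := by
        rw [sylow_sup_pResidual]; exact mem_top _
      have h1 := mem_map_of_mem Y.subtype this
      rw [Subgroup.map_sup] at h1
      exact sup_le_sup_left (map_subtype_pResidual_le Y) _ h1
    exact sup_le hle le_sup_right (hYK ▸ mem_top g)

/-- If the Sylow p-subgroups of O^p(G) are abelian then G splits over O^p(G). -/
theorem result {G : Type*} [Group G] [Finite G] {p : ℕ} [Fact p.Prime] (h : ∀ Q : Sylow p (Cfsg.pResidual p G), IsMulCommutative Q) : ∃ K : Subgroup G, K.IsComplement' (Cfsg.pResidual p G) := by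
  exact splits h

end Cfsg.Agent.S0092
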