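import Cfsg.Statements.S0094
import Cfsg.Agent.Solvable.Frattini

set_option autoImplicit false
open Cfsg

namespace Cfsg.Agent.S0094

open scoped commutatorElement

theorem pow_mem_frattini {P : Type*} [Group P] [Finite P] {p : ℕ} [Fact p.Prime]
    (hP : IsPGroup p P) (a : P) : a ^ p ∈ frattini P :=
  CfsgLib.Solvable.pow_mem_frattini hP a

/-- A central commutator is linear in its first argument. -/
theorem pow_commutator_of_central {P : Type*} [Group P] {a b : P}
    (h : ⁅a, b⁆ ∈ Subgroup.center P) (n : ℕ) : ⁅a ^ n, b⁆ = ⁅a, b⁆ ^ n := by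
  induction n with
  | zero => simp [commutatorElement_def]
  | succ n ih =>
    have h2 := Subgroup.mem_center_iff.1 (pow_mem h n) a
    rw [pow_succ', pow_succ]
    calc ⁅a * a ^ n, b⁆ = a * ⁅a ^ n, b⁆ * a⁻¹ * ⁅a, b⁆ := by
          simp [commutatorElement_def, mul_assoc]
      _ = ⁅a, b⁆ ^ n * ⁅a, b⁆ := by rw [ih, h2, mul_inv_cancel_right]

theorem commutator_eq_one_of_central {P : Type*} [Group P] {a : P}
    (ha : a ∈ Subgroup.center P) (b : P) : ⁅a, b⁆ = 1 :=
  commutatorElement_eq_one_iff_mul_comm.2 (Subgroup.mem_center_iff.1 ha b).symm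

/-- In a special p-group every central element has order dividing p. -/
theorem result {P : Type*} [Group P] [Finite P] {p : ℕ} [Fact p.Prime] (h : Cfsg.IsSpecial p P) (z : P) (hz : z ∈ Subgroup.center P) : z ^ p = 1 := by
  obtain ⟨hP, hfr, hc⟩ := h
  rw [← hc, commutator_eq_closure] at hz
  induction hz using Subgroup.closure_induction with
  | mem z hz =>
    obtain ⟨a, b, rfl⟩ := hz
    have hab : ⁅a, b⁆ ∈ Subgroup.center P := hc ▸ Subgroup.commutator_mem_commutator
      (Subgroup.mem_top a) (Subgroup.mem_top b)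
    have ha : a ^ p ∈ Subgroup.center P := hfr ▸ pow_mem_frattini hP a
    rw [← pow_commutator_of_central hab, commutator_eq_one_of_central ha b]
  | one => exact one_pow p
  | mul a b ha hb iha ihb =>
    have hbc : b ∈ Subgroup.center P := by rw [← hc, commutator_eq_closure]; exact hb
    rw [(Commute.mul_pow (Subgroup.mem_center_iff.1 hbc a) p), iha, ihb, one_mul]
  | inv a _ iha => rw [inv_pow, iha, inv_one]

end Cfsg.Agent.S0094
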