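import Cfsg.Statements.S0097
import Cfsg.Agent.OddOrder.BG4.Basic
import Cfsg.Agent.ExtraspecialBasic.Order

set_option autoImplicit false
open Cfsg

namespace Cfsg.Agent.S0097

open scoped commutatorElement

/-- For odd p and E extraspecial, the subgroup generated by the elements of order dividing p has exponent dividing p and index at most p. -/
theorem result {E : Type*} [Group E] [Finite E] {p : ℕ} [Fact p.Prime] (hp : p ≠ 2) (h : Cfsg.IsExtraspecial p E) : (Subgroup.closure {x : E | x ^ p = 1}).index ≤ p ∧ ∀ g ∈ Subgroup.closure {x : E | x ^ p = 1}, g ^ p = 1 := by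
  have hclass : ∀ a b z : E, Commute ⁅b, a⁆ z := fun a b z =>
    ((Subgroup.mem_center_iff.1 (CfsgLib.ExtraspecialBasic.commutator_mem_center h b a)) z).symm
  refine ⟨?_, fun g hg => ?_⟩
  · let f : E →* Subgroup.center E :=
      MonoidHom.mk' (fun x => ⟨x ^ p, CfsgLib.ExtraspecialBasic.pow_mem_center h x⟩) fun a b =>
        Subtype.ext (show (a * b) ^ p = a ^ p * b ^ p by
          rw [CfsgLib.OddOrder.Stab.mul_pow_of_commutator_central (hclass a b)]
          obtain ⟨k, hk⟩ := (Fact.out : p.Prime).dvd_choose_self (k := 2) (by norm_num)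
            (lt_of_le_of_ne (Fact.out : p.Prime).two_le (Ne.symm hp))
          rw [hk, pow_mul, CfsgLib.ExtraspecialBasic.pow_center_eq_one h
            (CfsgLib.ExtraspecialBasic.commutator_mem_center h b a), one_pow, mul_one])
    have hle : f.ker ≤ Subgroup.closure {x : E | x ^ p = 1} := fun x hx =>
      Subgroup.subset_closure (congrArg Subtype.val hx)
    refine (Nat.le_of_dvd ?_ (Subgroup.index_dvd_of_le hle)).trans ?_
    · exact Nat.pos_of_ne_zero Subgroup.index_ne_zero_of_finite
    · rw [Subgroup.index_ker]
      exact (Nat.card_le_card_of_injective _ f.range.subtype_injective).trans h.2.le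
  · induction hg using Subgroup.closure_induction with
    | mem x hx => exact hx
    | one => exact one_pow p
    | mul a b _ _ iha ihb => exact CfsgLib.OddOrder.BG4.mul_pow_eq_one hp (hclass a b) iha ihb
    | inv a _ iha => rw [inv_pow, iha, inv_one]

end Cfsg.Agent.S0097
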