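import Cfsg.Statements.S0099
import Cfsg.Agent.ExtraspecialIso.Classification

set_option autoImplicit false
open Cfsg

namespace Cfsg.Agent.S0099

/-- Among three extraspecial 2-groups of equal order, some two are isomorphic. -/
theorem result {E₁ : Type*} {E₂ : Type*} {E₃ : Type*} [Group E₁] [Group E₂] [Group E₃] [Finite E₁] [Finite E₂] [Finite E₃] (h₁ : Cfsg.IsExtraspecial 2 E₁) (h₂ : Cfsg.IsExtraspecial 2 E₂) (h₃ : Cfsg.IsExtraspecial 2 E₃) (h12 : Nat.card E₁ = Nat.card E₂) (h23 : Nat.card E₂ = Nat.card E₃) : Nonempty (E₁ ≃* E₂) ∨ Nonempty (E₂ ≃* E₃) ∨ Nonempty (E₁ ≃* E₃) := by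
---
  haveI : Fact (Nat.Prime 2) := ⟨Nat.prime_two⟩
  obtain ⟨z₁, g₁⟩ := CfsgLib.ExtraspecialIso.exists_gen h₁
  obtain ⟨z₂, g₂⟩ := CfsgLib.ExtraspecialIso.exists_gen h₂
  obtain ⟨z₃, g₃⟩ := CfsgLib.ExtraspecialIso.exists_gen h₃
  obtain ⟨n, _, hn⟩ := CfsgLib.ExtraspecialBasic.exists_card_eq h₁
  rcases CfsgLib.ExtraspecialIso.iso_two g₁ g₂ g₃ n ⊤ ⊤ ⊤
    CfsgLib.ExtraspecialIso.nondeg_top CfsgLib.ExtraspecialIso.nondeg_top
    CfsgLib.ExtraspecialIso.nondeg_top (by rw [Subgroup.card_top, hn])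
    (by rw [Subgroup.card_top, ← h12, hn]) (by rw [Subgroup.card_top, ← h23, ← h12, hn])
    with h | h | h
  · exact Or.inl (CfsgLib.ExtraspecialIso.iso_top h)
  · exact Or.inr (Or.inl (CfsgLib.ExtraspecialIso.iso_top h))
  · exact Or.inr (Or.inr (CfsgLib.ExtraspecialIso.iso_top h))

end Cfsg.Agent.S0099
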