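import Cfsg.Agent.OddOrder.BG4.Basic
import Cfsg.Statements.S0100
-- import your own Cfsg.Agent.* helpers here

set_option autoImplicit false
open Cfsg

namespace Cfsg.Agent.S0100

/-- For odd p, a p-group without normal elementary abelian subgroups of order p^3 has p-rank at most 2. -/
theorem result {P : Type*} [Group P] [Finite P] {p : ℕ} [Fact p.Prime] (hp : p ≠ 2) (hP : IsPGroup p P) (h : ∀ A : Subgroup P, A.Normal → IsMulCommutative A → (∀ a ∈ A, a ^ p = 1) → Nat.card A ≠ p ^ 3) (E : Subgroup P) (hE : IsMulCommutative E) (hEe : ∀ e ∈ E, e ^ p = 1) : Nat.card E ≤ p ^ 2 := by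
  refine CfsgLib.OddOrder.BG4.pRankLE_two_of_normal_le hp hP (fun A hAn hA => ?_) E hE hEe
  by_contra hlt
  haveI := hAn
  obtain ⟨n, hn⟩ := IsPGroup.iff_card.mp (hP.to_subgroup A)
  have h3 : p ^ 3 ≤ Nat.card A := by
    have hp1 : 1 < p := (Fact.out : p.Prime).one_lt
    rw [hn] at hlt ⊢
    exact Nat.pow_le_pow_right (by omega)
      ((Nat.pow_lt_pow_iff_right hp1).mp (not_le.mp hlt))
  obtain ⟨M, hM, hMA, hcard⟩ := CfsgLib.OddOrder.BG4.exists_normal_card_le hP A 3 h3
  haveI := hA.1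
  exact h M hM ⟨⟨fun a b => Subtype.ext (setLike_mul_comm (s := A) (hMA a.2) (hMA b.2))⟩⟩
    (fun a ha => hA.2 a (hMA ha)) hcard

end Cfsg.Agent.S0100
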