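import Cfsg.Statements.S0101
import Cfsg.Agent.Solvable.Frattini

set_option autoImplicit false
open Cfsg

namespace Cfsg.Agent.S0101

/-- A transfer argument: in a perfect group a central subgroup meets `P` inside `Φ(P)`. -/
theorem le_frattini_sylow {H : Type*} {G : Type*} [Group H] [Group G] [Finite H] (σ : H →* G)
    (hc : σ.ker ≤ Subgroup.center H) (hH : commutator H = ⊤) {p : ℕ} [Fact p.Prime]
    (P : Sylow p H) {z : H} (hz : z ∈ σ.ker ⊓ (P : Subgroup H)) :
    z ∈ (frattini P).map (P : Subgroup H).subtype := by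
  refine ⟨⟨z, hz.2⟩, CfsgLib.Solvable.mem_frattini_iff.2 fun M hM => ?_, rfl⟩
  haveI := CfsgLib.Solvable.normal_of_coatom P.isPGroup' hM
  have hcard : Nat.card ((P : Subgroup H) ⧸ M) = p := by
    rw [← Subgroup.index_eq_card, CfsgLib.Solvable.index_coatom P.isPGroup' hM]
  haveI : IsCyclic ((P : Subgroup H) ⧸ M) := isCyclic_of_prime_card hcard
  letI : CommGroup ((P : Subgroup H) ⧸ M) := IsCyclic.commGroup
  let r : (P : Subgroup H) →* (P : Subgroup H) ⧸ M := QuotientGroup.mk' M
  have hV : MonoidHom.transfer r z = 1 := by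
    have : z ∈ commutator H := hH ▸ Subgroup.mem_top z
    exact Abelianization.commutator_subset_ker (MonoidHom.transfer r) this
  have key : ∀ (k : ℕ) (g₀ : H), g₀⁻¹ * z ^ k * g₀ ∈ (P : Subgroup H) →
      g₀⁻¹ * z ^ k * g₀ = z ^ k := fun k g₀ _ => by
    rw [mul_assoc, ← Subgroup.mem_center_iff.1 (pow_mem (hc hz.1) k) g₀, inv_mul_cancel_left]
  rw [MonoidHom.transfer_eq_pow r z key] at hV
  have h1 : r ⟨z, hz.2⟩ ^ (P : Subgroup H).index = 1 := by rw [← map_pow]; exact hV
  have h2 : r ⟨z, hz.2⟩ ^ p = 1 := by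
    have := pow_card_eq_one' (x := r ⟨z, hz.2⟩)
    rwa [hcard] at this
  have hd := Nat.dvd_gcd (orderOf_dvd_of_pow_eq_one h1) (orderOf_dvd_of_pow_eq_one h2)
  rw [Nat.gcd_comm, (Nat.Prime.coprime_iff_not_dvd Fact.out).2 P.not_dvd_index] at hd
  exact (QuotientGroup.eq_one_iff _).1 (orderOf_eq_one_iff.1 (Nat.dvd_one.1 hd))

/-- In a perfect central extension, the kernel meets each Sylow p-subgroup P inside the Frattini subgroup of P. -/
theorem result {H : Type*} {G : Type*} [Group H] [Group G] [Finite H] (σ : H →* G) (hσ : Function.Surjective σ) (hc : σ.ker ≤ Subgroup.center H) (hH : commutator H = ⊤) {p : ℕ} [Fact p.Prime] (P : Sylow p H) : σ.ker ⊓ (P : Subgroup H) ≤ (frattini P).map (P : Subgroup H).subtype := by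
  intro z hz
  by_contra hzf
  exact hzf (le_frattini_sylow σ hc hH P hz)

end Cfsg.Agent.S0101
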