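import Cfsg.Statements.S0102
import Cfsg.Agent.Transfer.Abelian

set_option autoImplicit false
open Cfsg

namespace Cfsg.Agent.S0102

/-- A finite perfect group with cyclic Sylow p-subgroups has no perfect central extension whose kernel has order divisible by p. -/
theorem result {G : Type*} {H : Type*} [Group G] [Group H] [Finite G] [Finite H] (hG : commutator G = ⊤) {p : ℕ} [Fact p.Prime] (hcyc : ∀ P : Sylow p G, IsCyclic P) (σ : H →* G) (hσ : Function.Surjective σ) (hz : σ.ker ≤ Subgroup.center H) (hH : commutator H = ⊤) : ¬ p ∣ Nat.card σ.ker := by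
  intro hp
  obtain ⟨z, hz'⟩ := exists_prime_orderOf_dvd_card' (G := σ.ker) p hp
  have hzo : orderOf (z : H) = p := by rw [Subgroup.orderOf_coe, hz']
  let P : Sylow p H := default
  haveI hzn : (Subgroup.zpowers (z : H)).Normal := ⟨fun n hn g => by
    obtain ⟨k, rfl⟩ := Subgroup.mem_zpowers_iff.1 hn
    rw [Subgroup.mem_center_iff.1 (zpow_mem (hz z.2) k) g, mul_inv_cancel_right]
    exact Subgroup.mem_zpowers_iff.2 ⟨k, rfl⟩⟩
  have hzP : (z : H) ∈ (P : Subgroup H) :=
    IsPGroup.le_sylow_of_normal (IsPGroup.of_card (n := 1) (by rw [Nat.card_zpowers, hzo, pow_one]))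
      P (Subgroup.mem_zpowers _)
  have hc : IsMulCommutative (P : Subgroup H) := by
    let f : (P : Subgroup H) →* (P.mapSurjective hσ : Sylow p G) :=
      (σ.comp (P : Subgroup H).subtype).codRestrict _ fun a => by
        change σ a ∈ ((P.mapSurjective hσ : Sylow p G) : Subgroup G)
        rw [Sylow.coe_mapSurjective]
        exact ⟨a, a.2, rfl⟩
    haveI := hcyc (P.mapSurjective hσ)
    refine f.isMulCommutative_of_isCyclic_of_ker_le_center fun a ha => ?_
    have ha' : σ a = 1 := congrArg Subtype.val ha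
    exact Subgroup.mem_center_iff.2 fun b => Subtype.ext (Subgroup.mem_center_iff.1 (hz ha') b)
  have hmem : (z : H) ∈ (P : Subgroup H) ⊓ commutator H ⊓ Subgroup.center H :=
    ⟨⟨hzP, hH ▸ Subgroup.mem_top _⟩, hz z.2⟩
  rw [CfsgLib.Transfer.inf_commutator_inf_center_eq_bot (P : Subgroup H) hc P.card_coprime_index,
    Subgroup.mem_bot] at hmem
  rw [hmem, orderOf_one] at hzo
  exact (Fact.out : p.Prime).one_lt.ne hzo

end Cfsg.Agent.S0102
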