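import Cfsg.Statements.S0104
import Cfsg.Agent.Transfer.Fusion

set_option autoImplicit false
open Cfsg

namespace Cfsg.Agent.S0104

/-- A subgroup Z of a Sylow p-subgroup P that is normalized by N_G(P) is weakly closed in P exactly when it is normal in every Sylow p-subgroup containing it. -/
theorem result {G : Type*} [Group G] [Finite G] {p : ℕ} [Fact p.Prime] (P : Sylow p G) (Z : Subgroup G) (hZP : Z ≤ (P : Subgroup G)) (hZN : Subgroup.normalizer (P : Set G) ≤ Subgroup.normalizer (Z : Set G)) : Cfsg.IsWeaklyClosed Z P ↔ ∀ R : Sylow p G, Z ≤ (R : Subgroup G) → (R : Subgroup G) ≤ Subgroup.normalizer (Z : Set G) := by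
  constructor
  · intro hW R hR
    obtain ⟨h, hh⟩ := MulAction.exists_smul_eq G R P
    have hR' : (R : Subgroup G).map (MulAut.conj h).toMonoidHom = (P : Subgroup G) := by
      rw [← hh, Sylow.coe_subgroup_smul]; rfl
    have hhN := CfsgLib.Transfer.mem_normalizer_of_map_conj_eq
      (hW.2 h (hR' ▸ Subgroup.map_mono hR))
    intro r hr
    have h1 := hZN (Subgroup.le_normalizer (hR' ▸ Subgroup.mem_map_of_mem _ hr :
      (MulAut.conj h).toMonoidHom r ∈ (P : Subgroup G)))
    have := mul_mem (mul_mem (inv_mem hhN) h1) hhN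
    simpa [mul_assoc] using this
  · intro hall
    refine ⟨hZP, fun g hg => ?_⟩
    have hR : Z ≤ ((g⁻¹ • P : Sylow p G) : Subgroup G) := by
      intro z hz
      rw [Sylow.coe_subgroup_smul]
      refine CfsgLib.Transfer.mem_map_conj_iff.2 ?_
      simpa using hg ⟨z, hz, rfl⟩
    have hRN := hall _ hR
    set N := Subgroup.normalizer (Z : Set G) with hN
    have hPN : (P : Subgroup G) ≤ N := Subgroup.le_normalizer.trans hZN
    obtain ⟨c, hc⟩ := MulAction.exists_smul_eq N ((g⁻¹ • P).subtype hRN) (P.subtype hPN)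
    rw [Sylow.smul_subtype] at hc
    have h1 : ((c : G) * g⁻¹) • P = P := by rw [mul_smul]; exact Sylow.subtype_injective hc
    have h2 : g ∈ N := by
      have := mul_mem (inv_mem (hZN (Sylow.smul_eq_iff_mem_normalizer.1 h1))) c.2
      simpa using this
    exact CfsgLib.Transfer.map_conj_eq_of_mem_normalizer h2

end Cfsg.Agent.S0104
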