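import Cfsg.Statements.S0105
import Cfsg.Agent.Transfer.Abelian

set_option autoImplicit false
open Cfsg

namespace Cfsg.Agent.S0105

open CfsgLib.Transfer Subgroup in
/-- The quotient by the kernel of the focal transfer. -/
theorem quotient_central_part {G : Type*} [Group G] [Finite G] {p : ℕ} [Fact p.Prime]
    (P : Sylow p G) (hP : IsMulCommutative P) :
    ∃ (N : Subgroup G) (hN : N.Normal), Nonempty (G ⧸ N ≃* ((P : Subgroup G) ⊓ Subgroup.centralizer (Subgroup.normalizer (P : Set G) : Set G) : Subgroup G)) := by
  set N := normalizer (P : Set G) with hN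
  set D : Subgroup G := (P : Subgroup G) ⊓ centralizer (N : Set G) with hD
  have hPN : (P : Subgroup G) ≤ N := le_normalizer
  let A : Subgroup N := ((P.subtype hPN : Sylow p N) : Subgroup N)
  haveI : A.Normal := normal_in_normalizer
  have hAc : IsMulCommutative A :=
    ⟨⟨fun a b => Subtype.ext (Subtype.ext (congrArg (Subtype.val (p := fun x => x ∈ (P : Subgroup G)))
      (hP.is_comm.comm (⟨_, mem_subgroupOf.1 a.2⟩ : (P : Subgroup G)) ⟨_, mem_subgroupOf.1 b.2⟩)))⟩⟩
  obtain ⟨h1, h2, h3⟩ := abelian_normal_hall A hAc (Sylow.card_coprime_index _)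
  have hmapA : A.map N.subtype = (P : Subgroup G) := map_subgroupOf_eq_of_le hPN
  have hmapC : (center N).map N.subtype = N ⊓ centralizer (N : Set G) := by
    ext z
    constructor
    · rintro ⟨z, hz, rfl⟩
      exact ⟨z.2, fun n hn => congrArg Subtype.val (mem_center_iff.1 hz ⟨n, hn⟩)⟩
    · rintro ⟨hzN, hzC⟩
      exact ⟨⟨z, hzN⟩, mem_center_iff.2 fun n => Subtype.ext (hzC n n.2), rfl⟩
  set F := (P : Subgroup G).focalSubgroup with hFdef
  have hF : F = (commutator N ⊓ A).map N.subtype := by
    rw [map_inf _ _ _ N.subtype_injective, map_subtype_commutator, hmapA, hFdef,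
      ← commutator_inf_eq_focalSubgroup P, commutator_inf_eq_of_controlsFusion P hPN
        (controlsFusion_normalizer_of_isMulCommutative P hP)]
  have hDmap : (center N ⊓ A).map N.subtype = D := by
    rw [map_inf _ _ _ N.subtype_injective, hmapC, hmapA, hD, inf_comm (P : Subgroup G),
      inf_assoc, inf_comm (centralizer _), ← inf_assoc, inf_eq_right.2 hPN]
  have hdisj : F ⊓ D = ⊥ := by
    rw [hF, ← hDmap, ← map_inf _ _ _ N.subtype_injective, h2, Subgroup.map_bot]
  have hsup : F ⊔ D = (P : Subgroup G) := by
    rw [hF, ← hDmap, ← Subgroup.map_sup, h3, hmapA]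
  let j : D →* (P : Subgroup G) ⧸ (P : Subgroup G).focalSubgroupOf :=
    (QuotientGroup.mk' _).comp (inclusion inf_le_left)
  have hj : Function.Bijective j := by
    constructor
    · refine (injective_iff_map_eq_one _).2 fun d hd => ?_
      have : (d : G) ∈ F ⊓ D := ⟨mem_subgroupOf.1 ((QuotientGroup.eq_one_iff
        (N := (P : Subgroup G).focalSubgroupOf) (inclusion inf_le_left d)).1 hd), d.2⟩
      rw [hdisj, mem_bot] at this
      exact Subtype.ext this
    · intro y
      obtain ⟨x, rfl⟩ := QuotientGroup.mk_surjective y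
      have hx : (x : G) ∈ D ⊔ F := by rw [sup_comm, hsup]; exact x.2
      rw [← SetLike.mem_coe, coe_mul_of_left_le_normalizer_right D F (by
        intro d hd
        rw [mem_normalizer_iff]
        intro a
        have hdP : d ∈ (P : Subgroup G) := hd.1
        have key : ∀ b ∈ (P : Subgroup G), d * b * d⁻¹ = b := fun b hb => by
          have e : d * b = b * d :=
            congrArg Subtype.val (hP.is_comm.comm (⟨d, hdP⟩ : (P : Subgroup G)) ⟨b, hb⟩)
          rw [e, mul_inv_cancel_right]
        constructor
        · intro ha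
          rw [key a (hsup ▸ mem_sup_left ha)]; exact ha
        · intro ha
          have hb : d * a * d⁻¹ ∈ (P : Subgroup G) := hsup ▸ mem_sup_left ha
          have : a ∈ (P : Subgroup G) := by
            simpa [mul_assoc] using mul_mem (mul_mem (inv_mem hdP) hb) hdP
          rwa [key a this] at ha)] at hx
      obtain ⟨d, hd, f, hf, e⟩ := hx
      refine ⟨⟨d, hd⟩, (QuotientGroup.eq).2 (mem_subgroupOf.2 ?_)⟩
      change d⁻¹ * (x : G) ∈ F
      rw [← e, inv_mul_cancel_left]; exact hf
  exact ⟨(P : Subgroup G).transferFocal.ker, inferInstance,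
    ⟨(transferFocal.quotientKerMulEquivQuotientFocalSubroupOf P).trans
      (MulEquiv.ofBijective j hj).symm⟩⟩

/-- With an abelian Sylow p-subgroup P, some quotient of G is isomorphic to the part of P central in N_G(P). -/
theorem result {G : Type*} [Group G] [Finite G] {p : ℕ} [Fact p.Prime] (P : Sylow p G) (hP : IsMulCommutative P) : ∃ (N : Subgroup G) (hN : N.Normal), Nonempty (G ⧸ N ≃* ((P : Subgroup G) ⊓ Subgroup.centralizer (Subgroup.normalizer (P : Set G) : Set G) : Subgroup G)) := by
  exact quotient_central_part P hP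

end Cfsg.Agent.S0105
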