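import Cfsg.Statements.S0109
import Cfsg.Agent.Transfer.ThompsonFactor
import Cfsg.Agent.PLocal.PStabilityCor

set_option autoImplicit false
open Cfsg

namespace Cfsg.Agent.S0109

/-- The Thompson factorization Theorem for solvable groups states that, with p odd (and abelian Sylow 2-subgroups when p = 3) and no nontrivial normal subgroup of order prime to p, every element of G is a product of an element normalizing J(P) and an element centralizing the elements of order dividing p in the centre of P. -/
theorem result {G : Type*} [Group G] [Finite G] {p : ℕ} [Fact p.Prime] (hp : p ≠ 2) (hs : Group.IsSolvable G) (h3 : p = 3 → ∀ T : Sylow 2 G, IsMulCommutative T) (hF : ∀ N : Subgroup G, N.Normal → Nat.Coprime (Nat.card N) p → N = ⊥) (P : Sylow p G) (g : G) : ∃ a ∈ Subgroup.normalizer (Cfsg.thompsonSubgroupOf p (P : Subgroup G) : Set G), ∃ c ∈ Subgroup.centralizer {x : G | x ∈ (P : Subgroup G) ∧ (∀ y ∈ (P : Subgroup G), x * y = y * x) ∧ x ^ p = 1}, g = a * c := by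
  haveI := hs
  refine CfsgLib.Transfer.ThompsonFactor.exists_factor hF (fun W _ hW => ?_) P g
  refine CfsgLib.PLocal.isPStableOn_elementary_of_no_section hp ?_ W hW
  rcases eq_or_ne p 3 with h | h
  · exact CfsgLib.PLocal.not_hasSL2Section_of_abelian_sylow_two hp
      (CfsgLib.PLocal.isMulCommutative_sylow_top (h3 h))
  · refine CfsgLib.PLocal.not_hasSL2Section_of_isPSolvable ?_ CfsgLib.PLocal.isPSolvable_of_isSolvable
    have h2 := (Fact.out : p.Prime).two_le
    rcases (by omega : p = 4 ∨ 5 ≤ p) with h4 | h5
    · exact absurd (h4 ▸ (Fact.out : p.Prime)) (by norm_num)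
    · exact h5

end Cfsg.Agent.S0109
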