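import Cfsg.Statements.S0110
import Cfsg.Agent.ExtraspecialBasic.Order

set_option autoImplicit false
open Cfsg

namespace Cfsg.Agent.S0110

open scoped commutatorElement
open Subgroup CfsgLib.ExtraspecialBasic in
open scoped IsMulCommutative in
/-- Every map `E → Z(E)` is a commutator map, by counting. -/
theorem exists_commHom_eq {E : Type*} [Group E] [Finite E] {p : ℕ} [hp : Fact p.Prime]
    (hE : Cfsg.IsExtraspecial p E) (f : E →* center E) : ∃ e : E, commHom hE e = f := by
  classical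
  haveI : Finite (E →* center E) := Finite.of_injective _ DFunLike.coe_injective
  let ψ : E →* (E →* center E) := MonoidHom.mk' (fun e => commHom hE e) fun a b => by
    ext y
    show ⁅a * b, y⁆ = ⁅a, y⁆ * ⁅b, y⁆
    have h1 := mem_center_iff.1 (commutator_mem_center hE b y) a
    have h2 := mem_center_iff.1 (commutator_mem_center hE b y) ⁅a, y⁆
    rw [commutatorElement_mul_left_eq_conj_mul, h1, mul_inv_cancel_right, h2]
  have hker : ψ.ker ≤ center E := fun e he => mem_center_iff.2 fun y => by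
    have : commHom hE e y = 1 := DFunLike.congr_fun (MonoidHom.mem_ker.1 he) y
    exact ((commHom_eq_one hE).1 this).eq.symm
  obtain ⟨n, hn⟩ := hE.1.1.index (frattini E)
  have hidx : p ^ n ≤ Nat.card ψ.range := by
    rw [← hn, hE.1.2.1, ← index_ker]
    exact index_antitone hker
  -- homomorphisms are determined by their values on `n` generators
  haveI : Fintype E := Fintype.ofFinite E
  obtain ⟨T, -, hTc, hT⟩ := (CfsgLib.Solvable.burnside_basis hE.1.1 n hn).1 Finset.univ (by simp)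
  have hub : Nat.card (E →* center E) ≤ p ^ n := by
    have hinj : Function.Injective fun g : E →* center E => fun t : T => g t := fun g g' h =>
      MonoidHom.eq_of_eqOn_dense hT fun t ht => congrFun h ⟨t, ht⟩
    refine (Nat.card_le_card_of_injective _ hinj).trans ?_
    rw [Nat.card_fun, hE.2, Nat.card_eq_fintype_card, Fintype.card_coe, hTc]
  have hsurj : ψ.range = ⊤ := eq_top_of_le_card _ (hub.trans hidx)
  exact (hsurj ▸ mem_top f : f ∈ ψ.range)

open Subgroup CfsgLib.ExtraspecialBasic in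
/-- The correction of `g` by an element of `E` centralises `E`. -/
theorem sup_eq_top {G : Type*} [Group G] [Finite G] {p : ℕ} [Fact p.Prime] (_hG : IsPGroup p G)
    (E : Subgroup G) (hE : Cfsg.IsExtraspecial p E)
    (h : ⁅(⊤ : Subgroup G), E⁆ ≤ E ⊓ centralizer (E : Set G)) :
    E ⊔ centralizer (E : Set G) = ⊤ := by
  rw [eq_top_iff]
  intro g _
  have hm : ∀ e : E, ⁅g, (e : G)⁆ ∈ E ∧ ⁅g, (e : G)⁆ ∈ centralizer (E : Set G) := fun e =>
    mem_inf.1 (h (commutator_mem_commutator (mem_top g) e.2))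
  let φ : E →* center E := MonoidHom.mk'
    (fun e => ⟨⟨⁅g, (e : G)⁆, (hm e).1⟩, mem_center_iff.2 fun y => Subtype.ext ((hm e).2 y y.2)⟩)
    fun a b => Subtype.ext (Subtype.ext (by
      show ⁅g, ((a * b : E) : G)⁆ = ⁅g, (a : G)⁆ * ⁅g, (b : G)⁆
      have := (hm b).2 a a.2
      calc ⁅g, (a : G) * b⁆ = ⁅g, (a : G)⁆ * ((a : G) * ⁅g, (b : G)⁆ * (a : G)⁻¹) := by
            simp only [commutatorElement_def]; group
        _ = ⁅g, (a : G)⁆ * ⁅g, (b : G)⁆ := by rw [this, mul_inv_cancel_right]))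
  obtain ⟨e₀, he₀⟩ := exists_commHom_eq hE φ
  have hc : (e₀ : G)⁻¹ * g ∈ centralizer (E : Set G) := fun y hy => by
    have h1 : ⁅e₀, (⟨y, hy⟩ : E)⁆ = ⟨⁅g, y⁆, (hm ⟨y, hy⟩).1⟩ := by
      rw [← commHom_apply hE e₀ ⟨y, hy⟩, he₀]; rfl
    have h2 : ⁅(e₀ : G), y⁆ = ⁅g, y⁆ := congrArg Subtype.val h1
    simp only [commutatorElement_def] at h2
    calc y * ((e₀ : G)⁻¹ * g) = (e₀ : G)⁻¹ * ((e₀ : G) * y * (e₀ : G)⁻¹ * y⁻¹) * y * g := by group
      _ = (e₀ : G)⁻¹ * g * y := by rw [h2]; group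
  have : g = (e₀ : G) * ((e₀ : G)⁻¹ * g) := by group
  rw [this]
  exact mul_mem_sup e₀.2 hc

/-- In a p-group G, an extraspecial subgroup E with [G, E] ≤ Z(E) satisfies G = E C_G(E). -/
theorem result {G : Type*} [Group G] [Finite G] {p : ℕ} [Fact p.Prime] (hG : IsPGroup p G) (E : Subgroup G) (hE : Cfsg.IsExtraspecial p E) (h : ⁅(⊤ : Subgroup G), E⁆ ≤ E ⊓ Subgroup.centralizer (E : Set G)) : E ⊔ Subgroup.centralizer (E : Set G) = ⊤ := by
  exact sup_eq_top hG E hE h

end Cfsg.Agent.S0110
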