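import Cfsg.Statements.S0119
import Cfsg.Agent.Solvable.Frattini

set_option autoImplicit false
open Cfsg

namespace Cfsg.Agent.S0119

open scoped commutatorElement
open Subgroup in
/-- Fixed points of `A` in `G / G'` are trivial as `[G, A] = G`, and abelian characteristic
subgroups are central. -/
theorem special_of_coprime {G : Type*} [Group G] [Finite G] {p : ℕ} [hp : Fact p.Prime]
    (hG : IsPGroup p G) (A : Subgroup (MulAut G)) (hA : Nat.Coprime (Nat.card A) p)
    (hGA : closure {x : G | ∃ g : G, ∃ a ∈ A, x = g⁻¹ * a g} = ⊤)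
    (hchar : ∀ H : Subgroup G, H.Characteristic → IsMulCommutative H → ∀ a ∈ A, ∀ h ∈ H, a h = h) :
    Cfsg.IsSpecial p G ∧ (∀ g : G, (g ∈ center G ↔ ∀ a ∈ A, a g = g)) := by
  classical
  have hZfix : ∀ a ∈ A, ∀ z ∈ center G, a z = z := hchar (center G) inferInstance inferInstance
  -- a fixed element with all its commutators central is central
  have key : ∀ x : G, (∀ a ∈ A, a x = x) → (∀ g, ⁅x, g⁆ ∈ center G) → x ∈ center G := by
    intro x hx hc
    refine mem_center_iff.2 fun y => ?_
    have hy : y ∈ closure {x : G | ∃ g : G, ∃ a ∈ A, x = g⁻¹ * a g} := hGA ▸ mem_top y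
    induction hy using closure_induction with
    | mem w hw =>
      obtain ⟨g, a, ha, rfl⟩ := hw
      set w := g⁻¹ * a g with hw
      have h1 : ⁅x, a g⁆ = ⁅x, g⁆ := by
        have h0 := hZfix a ha _ (hc g)
        rwa [map_commutatorElement, hx a ha] at h0
      have hag : a g = g * w := by rw [hw, mul_inv_cancel_left]
      have h2 : ⁅x, g * w⁆ = ⁅x, g⁆ * ⁅x, w⁆ := by
        have := mem_center_iff.1 (hc w) g
        calc ⁅x, g * w⁆ = ⁅x, g⁆ * (g * ⁅x, w⁆ * g⁻¹) := by simp only [commutatorElement_def]; group
          _ = _ := by rw [this, mul_inv_cancel_right]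
      rw [hag, h2, mul_eq_left] at h1
      exact (commutatorElement_eq_one_iff_mul_comm.1 h1).symm
    | one => simp
    | mul a b _ _ iha ihb => rw [mul_assoc, ihb, ← mul_assoc, iha, mul_assoc]
    | inv a _ iha => exact (Commute.inv_left (iha : Commute a x)).eq
  -- class two
  haveI := hG.isNilpotent
  have hclass : ∀ i, 1 ≤ i → (⊤ : Subgroup G).lowerCentralSeries (i + 2) = ⊥ →
      (⊤ : Subgroup G).lowerCentralSeries (i + 1) = ⊥ := by
    intro i hi h
    set L := (⊤ : Subgroup G).lowerCentralSeries i with hL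
    have hLc : ∀ x ∈ L, ∀ g : G, ⁅x, g⁆ ∈ center G := by
      intro x hx g
      refine mem_center_iff.2 fun y => ?_
      have h2 : ⁅⁅x, g⁆, y⁆ ∈ (⊤ : Subgroup G).lowerCentralSeries (i + 2) :=
        commutator_mem_commutator (commutator_mem_commutator hx (mem_top g)) (mem_top y)
      rw [h, mem_bot] at h2
      exact (commutatorElement_eq_one_iff_mul_comm.1 h2).symm
    have hab : IsMulCommutative L := by
      refine ⟨⟨fun a b => Subtype.ext (commutatorElement_eq_one_iff_mul_comm.1 ?_)⟩⟩
      -- `[G', L_i] = 1` by the three subgroup lemma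
      have hbot : ⁅commutator G, L⁆ = ⊥ := by
        rw [_root_.commutator_def]
        refine Subgroup.commutator_commutator_eq_bot_of_rotate ?_ ?_
        · rw [Subgroup.commutator_comm (⊤ : Subgroup G) L]; exact h
        · exact h
      have ha : (a : G) ∈ commutator G := by
        have h3 : L ≤ commutator G := by
          rw [← top_lowerCentralSeries_one]
          exact (⊤ : Subgroup G).lowerCentralSeries_antitone hi
        exact h3 a.2
      have h4 := commutator_mem_commutator ha b.2
      rwa [hbot, mem_bot] at h4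
    have hL1 : L ≤ center G := fun x hx =>
      key x (fun a ha => hchar L inferInstance hab a ha x hx) (hLc x hx)
    rw [Subgroup.lowerCentralSeries_succ, eq_bot_iff, commutator_le]
    intro x hx g _
    rw [mem_bot, commutatorElement_eq_one_iff_mul_comm]
    exact (mem_center_iff.1 (hL1 hx) g).symm
  obtain ⟨n, hn⟩ := Subgroup.nilpotent_iff_lowerCentralSeries.1 (inferInstance : Group.IsNilpotent G)
  have hn2 : (⊤ : Subgroup G).lowerCentralSeries 2 = ⊥ := by
    have : ∀ j, (⊤ : Subgroup G).lowerCentralSeries (j + 2) = ⊥ →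
        (⊤ : Subgroup G).lowerCentralSeries 2 = ⊥ := by
      intro j
      induction j with
      | zero => exact id
      | succ j ih => exact fun h => ih (hclass (j + 1) (by omega) h)
    exact this n (eq_bot_iff.2 (hn ▸ (⊤ : Subgroup G).lowerCentralSeries_antitone (by omega)))
  have hcomm : commutator G ≤ center G := by
    intro x hx
    refine mem_center_iff.2 fun y => ?_
    rw [← top_lowerCentralSeries_one] at hx
    have h2 : ⁅x, y⁆ ∈ (⊤ : Subgroup G).lowerCentralSeries 2 :=
      commutator_mem_commutator hx (mem_top y)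
    rw [hn2, mem_bot] at h2
    exact (commutatorElement_eq_one_iff_mul_comm.1 h2).symm
  have hcm : ∀ x g : G, ⁅x, g⁆ ∈ center G := fun x g =>
    hcomm (commutator_mem_commutator (mem_top x) (mem_top g))
  have hfix : ∀ g : G, (g ∈ center G ↔ ∀ a ∈ A, a g = g) := fun g =>
    ⟨fun h a ha => hZfix a ha g h, fun h => key g h (hcm g)⟩
  -- `Z ≤ G'`
  haveI : Finite (MulAut G) := Finite.of_injective (fun f => (f : G → G)) DFunLike.coe_injective
  haveI : Fintype A := Fintype.ofFinite A
  have hZG : center G ≤ commutator G := by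
    let N : G →* Abelianization G := ∏ a : A, Abelianization.of.comp (a : MulAut G).toMonoidHom
    have hN : ∀ (b : A) (g : G), N ((b : MulAut G) g) = N g := fun b g => by
      simp only [N, MonoidHom.finsetProd_apply]
      refine Fintype.prod_equiv (Equiv.mulRight b) _ _ fun a => ?_
      rfl
    have hN1 : N = 1 := by
      refine MonoidHom.eq_of_eqOn_dense hGA ?_
      rintro _ ⟨g, a, ha, rfl⟩
      rw [map_mul, map_inv, hN ⟨a, ha⟩ g, inv_mul_cancel, MonoidHom.one_apply]
    intro z hz
    have h1 : (Abelianization.of z) ^ Nat.card A = 1 := by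
      have h0 := DFunLike.congr_fun hN1 z
      simp only [N, MonoidHom.finsetProd_apply, MonoidHom.one_apply] at h0
      rw [Finset.prod_eq_pow_card (b := Abelianization.of z), Finset.card_univ,
        ← Nat.card_eq_fintype_card] at h0
      · exact h0
      · intro a _
        show Abelianization.of ((a : MulAut G) z) = _
        rw [hZfix a a.2 z hz]
    obtain ⟨k, hk⟩ := IsPGroup.iff_orderOf.1 hG z
    have h2 : orderOf (Abelianization.of z) = 1 := Nat.eq_one_of_dvd_coprimes (hA.pow_right k)
      (orderOf_dvd_of_pow_eq_one h1) (hk ▸ orderOf_map_dvd Abelianization.of z)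
    rw [orderOf_eq_one_iff] at h2
    rwa [← MonoidHom.mem_ker, Abelianization.ker_of] at h2
  -- `G'` has exponent dividing `p`
  have hpow : ∀ (x y : G) (k : ℕ), ⁅x ^ k, y⁆ = ⁅x, y⁆ ^ k := by
    intro x y k
    induction k with
    | zero => simp
    | succ k ih =>
      have := mem_center_iff.1 (pow_mem (hcm x y) k) x
      rw [pow_succ', commutatorElement_mul_left_eq_conj_mul, ih, this, mul_inv_cancel_right,
        ← pow_succ]
  have hpow' : ∀ (x y : G) (k : ℕ), ⁅x, y ^ k⁆ = ⁅x, y⁆ ^ k := fun x y k => by
    rw [← commutatorElement_inv, hpow, ← inv_pow, commutatorElement_inv]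
  have hstep : ∀ e : ℕ, 1 ≤ e → (∀ x y : G, ⁅x, y⁆ ^ p ^ (e + 1) = 1) →
      ∀ x y : G, ⁅x, y⁆ ^ p ^ e = 1 := by
    intro e he h x y
    set H : Subgroup G := closure (Set.range fun g : G => g ^ p ^ e) ⊔ commutator G with hH
    have hgen : ∀ a ∈ H, ∀ b ∈ H, a * b = b * a := by
      have hle : H ≤ centralizer (H : Set G) := by
        refine sup_le ((closure_le _).2 ?_) (hcomm.trans fun z hz a _ => mem_center_iff.1 hz a)
        rintro _ ⟨g, rfl⟩ b hb
        have hle2 : H ≤ centralizer {(g : G) ^ p ^ e} := by
          refine sup_le ((closure_le _).2 ?_) (hcomm.trans fun z hz a _ => mem_center_iff.1 hz a)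
          rintro _ ⟨g', rfl⟩ a ha
          rw [Set.mem_singleton_iff] at ha
          subst ha
          refine commutatorElement_eq_one_iff_mul_comm.1 ?_
          rw [hpow, hpow', ← pow_mul, ← pow_add]
          obtain ⟨c, hc⟩ := pow_dvd_pow p (show e + 1 ≤ e + e by omega)
          rw [hc, pow_mul, h, one_pow]
        exact ((hle2 hb) _ rfl).symm
      exact fun a ha b hb => (hle hb a ha)
    have hHc : H.Characteristic := by
      have h1 : (closure (Set.range fun g : G => g ^ p ^ e)).Characteristic := by
        refine characteristic_iff_map_le.2 fun φ => ?_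
        rw [MonoidHom.map_closure]
        refine closure_mono ?_
        rintro _ ⟨_, ⟨g, rfl⟩, rfl⟩
        exact ⟨φ g, (map_pow φ g _).symm⟩
      refine characteristic_iff_map_le.2 fun φ => ?_
      rw [hH, Subgroup.map_sup]
      exact sup_le_sup (characteristic_iff_map_le.1 h1 φ)
        (characteristic_iff_map_le.1 (inferInstance : (commutator G).Characteristic) φ)
    have hx : x ^ p ^ e ∈ center G := (hfix _).2 fun a ha =>
      hchar H hHc ⟨⟨fun a b => Subtype.ext (hgen a a.2 b b.2)⟩⟩ a ha _
        (mem_sup_left (subset_closure ⟨x, rfl⟩))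
    rw [← hpow, commutatorElement_eq_one_iff_mul_comm]
    exact (mem_center_iff.1 hx y).symm
  have hexp : ∀ x y : G, ⁅x, y⁆ ^ p = 1 := by
    have : ∀ j : ℕ, (∀ x y : G, ⁅x, y⁆ ^ p ^ (j + 1) = 1) → ∀ x y : G, ⁅x, y⁆ ^ p = 1 := by
      intro j
      induction j with
      | zero => intro h x y; simpa using h x y
      | succ j ih => exact fun h => ih (hstep (j + 1) (by omega) h)
    obtain ⟨m, hm⟩ := IsPGroup.iff_card.1 hG
    refine this m fun x y => orderOf_dvd_iff_pow_eq_one.1 ?_
    exact (_root_.orderOf_dvd_natCard _).trans (hm ▸ pow_dvd_pow p (Nat.le_succ m))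
  have hfr : frattini G = center G := by
    refine le_antisymm (CfsgLib.Solvable.frattini_le_of_elementary (p := p) hcomm fun x => ?_)
      (hZG.trans (CfsgLib.Solvable.commutator_le_frattini hG))
    refine mem_center_iff.2 fun y => (commutatorElement_eq_one_iff_mul_comm.1 ?_).symm
    rw [hpow, hexp]
  exact ⟨⟨hG, hfr, le_antisymm hcomm hZG⟩, hfix⟩

/-- If a p'-group A of automorphisms of a p-group G satisfies G = [G, A] and acts trivially on every characteristic abelian subgroup, then G is special with centre equal to the fixed points of A. -/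
theorem result {G : Type*} [Group G] [Finite G] {p : ℕ} [Fact p.Prime] (hG : IsPGroup p G) (A : Subgroup (MulAut G)) (hA : Nat.Coprime (Nat.card A) p) (hGA : Subgroup.closure {x : G | ∃ g : G, ∃ a ∈ A, x = g⁻¹ * a g} = ⊤) (hchar : ∀ H : Subgroup G, H.Characteristic → IsMulCommutative H → ∀ a ∈ A, ∀ h ∈ H, a h = h) : Cfsg.IsSpecial p G ∧ (∀ g : G, (g ∈ Subgroup.center G ↔ ∀ a ∈ A, a g = g)) := by
  exact special_of_coprime hG A hA hGA hchar

end Cfsg.Agent.S0119
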