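import Cfsg.Statements.S0125
import Cfsg.Agent.Transfer.NormalPComplement
import Cfsg.Agent.Transfer.Fusion

set_option autoImplicit false
open Cfsg

namespace Cfsg.Agent.S0125

/-- Burnside's theorem inside `C_G(A)`. -/
theorem split {G : Type*} [Group G] [Finite G] {p : ℕ} [Fact p.Prime] (R : Sylow p G)
    (A : Subgroup G) (hAR : A ≤ (R : Subgroup G))
    (hAn : (R : Subgroup G) ≤ Subgroup.normalizer (A : Set G))
    (hC : (R : Subgroup G) ⊓ Subgroup.centralizer (A : Set G) = A) :
    ∃ H : Subgroup G, H ≤ Subgroup.centralizer (A : Set G) ∧ Nat.Coprime (Nat.card H) p ∧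
      Subgroup.centralizer (A : Set G) ≤ Subgroup.normalizer (H : Set G) ∧ H ⊓ A = ⊥ ∧
      H ⊔ A = Subgroup.centralizer (A : Set G) := by
  set C := Subgroup.centralizer (A : Set G) with hCdef
  set N := Subgroup.normalizer (A : Set G) with hN
  have hCN : C ≤ N := Subgroup.centralizer_le_normalizer _
  have hAC : A ≤ C := hC ▸ inf_le_right
  have hnd : ¬ p ∣ A.relIndex C := by
    have h1 := CfsgLib.Transfer.not_dvd_relIndex_of_normal (R.subtype hAn) (C.subgroupOf N)
    rw [Sylow.coe_subtype, Subgroup.relIndex_subgroupOf hCN] at h1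
    rwa [← hC, Subgroup.inf_relIndex_right]
  have hAp : IsPGroup p (A.subgroupOf C) := (R.isPGroup'.to_le hAR).comap_subtype
  let S : Sylow p C := hAp.toSylow hnd
  have hS : (S : Subgroup C) = A.subgroupOf C := IsPGroup.toSylow_coe _ _
  have hcen : Subgroup.normalizer ((S : Subgroup C) : Set C) ≤
      Subgroup.centralizer ((S : Subgroup C) : Set C) := fun c _ a ha => by
    rw [SetLike.mem_coe, hS] at ha
    exact Subtype.ext (c.2 (a : G) (Subgroup.mem_subgroupOf.1 ha))
  have hc := MonoidHom.ker_transferSylow_isComplement' S hcen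
  set K := (MonoidHom.transferSylow S hcen).ker with hK
  refine ⟨K.map C.subtype, Subgroup.map_subtype_le _, ?_, ?_, ?_, ?_⟩
  · rw [Subgroup.card_map_of_injective C.subtype_injective, CfsgLib.Transfer.coprime_prime_iff]
    exact MonoidHom.not_dvd_card_ker_transferSylow S hcen
  · intro c hcC
    refine CfsgLib.Transfer.mem_normalizer_of_map_conj_eq ?_
    have hcomp : (MulAut.conj c).toMonoidHom.comp C.subtype =
        C.subtype.comp (MulAut.conj (⟨c, hcC⟩ : C)).toMonoidHom := by
      ext; rfl
    rw [Subgroup.map_map, hcomp, ← Subgroup.map_map]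
    exact congrArg _ (Subgroup.Normal.map_conj_eq K _)
  · conv_lhs => rw [← Subgroup.map_subgroupOf_eq_of_le hAC, ← hS]
    rw [← Subgroup.map_inf _ _ _ C.subtype_injective, disjoint_iff.1 hc.disjoint, Subgroup.map_bot]
  · conv_lhs => rw [← Subgroup.map_subgroupOf_eq_of_le hAC, ← hS]
    rw [← Subgroup.map_sup, hc.sup_eq_top, ← MonoidHom.range_eq_map, Subgroup.range_subtype]

/-- The centralizer of a self-centralizing normal subgroup A of a Sylow p-subgroup is the direct product of A with a normal p'-subgroup. -/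
theorem result {G : Type*} [Group G] [Finite G] {p : ℕ} [Fact p.Prime] (R : Sylow p G) (A : Subgroup G) (hAR : A ≤ (R : Subgroup G)) (hAn : (R : Subgroup G) ≤ Subgroup.normalizer (A : Set G)) (hC : (R : Subgroup G) ⊓ Subgroup.centralizer (A : Set G) = A) : ∃ H : Subgroup G, H ≤ Subgroup.centralizer (A : Set G) ∧ Nat.Coprime (Nat.card H) p ∧ Subgroup.centralizer (A : Set G) ≤ Subgroup.normalizer (H : Set G) ∧ H ⊓ A = ⊥ ∧ H ⊔ A = Subgroup.centralizer (A : Set G) := by
  exact split R A hAR hAn hC

end Cfsg.Agent.S0125
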