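import Cfsg.Statements.S0127
import Cfsg.Agent.Transfer.RankTwoNormal
import Cfsg.Agent.Solvable.Frattini

set_option autoImplicit false
open Cfsg

namespace Cfsg.Agent.S0127

open scoped commutatorElement
open Subgroup in
/-- The solutions of `x ^ p = 1` lie in the normal subgroup `E` of type `(p,p)`. -/
theorem mem_of_pow_eq_one {R : Type*} [Group R] [Finite R] {p : ℕ} [hp' : Fact p.Prime]
    (hp : p ≠ 2) (hR : IsPGroup p R) (C : Subgroup R) (hC : IsCyclic C) (hCi : C.index = p)
    (E : Subgroup R) [E.Normal] (hE : Cfsg.IsElementaryAbelian p E) (hEc : Nat.card E = p ^ 2) :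
    {x : R | x ^ p = 1} ⊆ E := by
  classical
  obtain ⟨k, hk⟩ := IsPGroup.iff_card.1 hR
  have hCco : IsCoatom C := by
    refine ⟨fun h => hp'.out.ne_one (hCi.symm.trans (index_eq_one.2 h)), fun K hK => ?_⟩
    have h1 := index_strictAnti hK
    rcases (Nat.dvd_prime hp'.out).1 (hCi ▸ index_dvd_of_le hK.le) with h | h
    · exact index_eq_one.1 h
    · exact absurd (h.trans hCi.symm) h1.ne
  haveI : C.Normal := CfsgLib.Solvable.normal_of_coatom hR hCco
  haveI := hC
  have hsmall : Nat.card (E ⊓ C : Subgroup R) ≤ p := by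
    haveI : Fintype C := Fintype.ofFinite C
    refine le_trans (Nat.card_le_card_of_injective (β := ({a | a ^ p = 1} : Finset C))
      (fun x => ⟨⟨x, x.2.2⟩, by
        simp only [Finset.mem_filter, Finset.mem_univ, true_and]
        exact Subtype.ext (hE.2 _ x.2.1)⟩)
      fun x y h => Subtype.ext (congrArg (fun t : ({a | a ^ p = 1} : Finset C) => ((t : C) : R)) h)) ?_
    rw [Nat.card_eq_finsetCard]
    exact IsCyclic.card_pow_eq_one_le hp'.out.pos
  have hEC : C ⊔ E = ⊤ := hCco.2 _ <| by
    refine lt_of_le_of_ne le_sup_left fun h => ?_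
    have hEle : E ≤ C := sup_eq_left.1 h.symm
    rw [inf_eq_left.2 hEle, hEc] at hsmall
    nlinarith [hp'.out.two_le]
  have hZc : E ⊓ C ≤ center R := by
    rcases (hR.to_subgroup (E ⊓ C)).card_eq_or_dvd with h | h
    · exact (card_eq_one.1 h).le.trans bot_le
    · exact CfsgLib.OddOrder.BG4.le_center_of_normal_card_prime hR
        (le_antisymm hsmall (Nat.le_of_dvd Nat.card_pos h))
  intro y hy
  have hym : y ∈ E ⊔ C := by rw [sup_comm, hEC]; exact mem_top y
  rw [← SetLike.mem_coe, mul_normal] at hym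
  obtain ⟨e, he, c, hc, rfl⟩ := hym
  have hcE : ⁅c, e⁆ ∈ E ⊓ C := by
    refine ⟨?_, ?_⟩
    · rw [commutatorElement_def]
      exact E.mul_mem ((inferInstance : E.Normal).conj_mem e he c) (E.inv_mem he)
    · have := C.mul_mem hc ((inferInstance : C.Normal).conj_mem c⁻¹ (C.inv_mem hc) e)
      simpa [commutatorElement_def, mul_assoc] using this
  have hpw : (e * c) ^ p = c ^ p := by
    rw [CfsgLib.OddOrder.Stab.mul_pow_of_commutator_central
      (fun z => (mem_center_iff.1 (hZc hcE) z).symm), hE.2 e he, one_mul]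
    obtain ⟨j, hj⟩ := hp'.out.dvd_choose_self (k := 2) (by norm_num)
      (lt_of_le_of_ne hp'.out.two_le (Ne.symm hp))
    rw [hj, pow_mul, hE.2 _ hcE.1, one_pow, mul_one]
  have hcp : c ^ p = 1 := hpw.symm.trans hy
  refine mul_mem he ?_
  -- `c` is one of the at most `p` solutions in `C`, all of which lie in `E ⊓ C`
  haveI : Fintype C := Fintype.ofFinite C
  have hne : E ⊓ C ≠ ⊥ := fun h => by
    have hcard : Nat.card E ∣ p := by
      rw [← hCi]
      have h1 := relIndex_mul_relIndex ⊥ (E ⊓ C) E bot_le inf_le_left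
      rw [relIndex_bot_left, relIndex_bot_left, inf_relIndex_left, h, card_bot, one_mul] at h1
      rw [← h1]
      exact relIndex_dvd_index_of_normal (H := C) (K := E)
    rw [hEc] at hcard
    have := Nat.le_of_dvd hp'.out.pos hcard
    nlinarith [hp'.out.two_le]
  let f : (E ⊓ C : Subgroup R) → ({a | a ^ p = 1} : Finset C) :=
    fun x => ⟨⟨x, x.2.2⟩, by
        simp only [Finset.mem_filter, Finset.mem_univ, true_and]
        exact Subtype.ext (hE.2 _ x.2.1)⟩
  have hf : Function.Injective f := fun x y h =>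
    Subtype.ext (congrArg (fun t : ({a | a ^ p = 1} : Finset C) => ((t : C) : R)) h)
  have hcard : Nat.card (E ⊓ C : Subgroup R) = p := le_antisymm hsmall
    (Nat.le_of_dvd Nat.card_pos ((hR.to_subgroup _).card_eq_or_dvd.resolve_left
      fun h => hne (card_eq_one.1 h)))
  have hbij : Function.Bijective f := by
    refine hf.bijective_of_nat_card_le ?_
    rw [hcard, Nat.card_eq_finsetCard]
    exact IsCyclic.card_pow_eq_one_le hp'.out.pos
  obtain ⟨x, hx⟩ := hbij.2 ⟨⟨c, hc⟩, by
        simp only [Finset.mem_filter, Finset.mem_univ, true_and]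
        exact Subtype.ext hcp⟩
  have : (x : R) = c := congrArg (fun t : ({a | a ^ p = 1} : Finset C) => ((t : C) : R)) hx
  exact this ▸ x.2.1

/-- For odd p, in a non-cyclic p-group with a cyclic subgroup of index p, the elements of order dividing p generate an elementary abelian subgroup of order p^2. -/
theorem result {R : Type*} [Group R] [Finite R] {p : ℕ} [Fact p.Prime] (hp : p ≠ 2) (hR : IsPGroup p R) (hnc : ¬ IsCyclic R) (C : Subgroup R) (hC : IsCyclic C) (hCi : C.index = p) : Cfsg.IsElementaryAbelian p (Subgroup.closure {x : R | x ^ p = 1}) ∧ Nat.card (Subgroup.closure {x : R | x ^ p = 1}) = p ^ 2 := by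
  obtain ⟨E, hEn, hE, hEc⟩ := CfsgLib.Transfer.exists_normal_elem_card_sq hp hR hnc
  have hle : Subgroup.closure {x : R | x ^ p = 1} = E := by
    refine le_antisymm ((Subgroup.closure_le _).2 (mem_of_pow_eq_one hp hR C hC hCi E hE hEc))
      fun x hx => Subgroup.subset_closure (hE.2 x hx)
  rw [hle]
  exact ⟨hE, hEc⟩

end Cfsg.Agent.S0127
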