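import Cfsg.Statements.S0129
import Cfsg.Agent.OddOrder.BG4.Basic
import Cfsg.Agent.Solvable.Frattini

set_option autoImplicit false
open Cfsg

namespace Cfsg.Agent.S0129

open Subgroup in
/-- A `p`-group of automorphisms of a group of order `p ^ a` has order at most `p ^ (a.choose 2)`. -/
theorem card_aut_le {p : ℕ} [hp : Fact p.Prime] : ∀ (a : ℕ) (A : Type*) [Group A] [Finite A]
    (K : Subgroup (MulAut A)), Nat.card A = p ^ a → IsPGroup p K →
    Nat.card K ≤ p ^ (a * (a - 1) / 2) := by
  intro a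
  induction a using Nat.strong_induction_on with
  | _ a ih =>
  intro A _ _ K hA hK
  classical
  haveI : Finite (MulAut A) := Finite.of_injective (fun f => (f : A → A)) DFunLike.coe_injective
  rcases Nat.eq_zero_or_pos a with rfl | ha
  · haveI : Subsingleton A := (Nat.card_eq_one_iff_unique.1 (by simpa using hA)).1
    refine le_trans ?_ (Nat.one_le_pow _ _ hp.out.pos)
    haveI : Subsingleton (MulAut A) := ⟨fun f g => MulEquiv.ext fun x => Subsingleton.elim _ _⟩
    exact Finite.card_le_one_iff_subsingleton.2 inferInstance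
  -- a fixed element of order `p` in the centre
  have hAp : IsPGroup p A := IsPGroup.of_card hA
  haveI : Nontrivial A :=
    Finite.one_lt_card_iff_nontrivial.1 (hA ▸ Nat.one_lt_pow ha.ne' hp.out.one_lt)
  let W : Subgroup A :=
    { carrier := {x | x ∈ center A ∧ x ^ p = 1}
      one_mem' := ⟨one_mem _, one_pow p⟩
      mul_mem' := fun {u v} hu hv => ⟨mul_mem hu.1 hv.1, by
        rw [(Commute.mul_pow (mem_center_iff.1 hv.1 u) p), hu.2, hv.2, one_mul]⟩
      inv_mem' := fun {u} hu => ⟨inv_mem hu.1, by rw [inv_pow, hu.2, inv_one]⟩ }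
  have hWinv : ∀ f : MulAut A, ∀ x ∈ W, f x ∈ W := fun f x hx =>
    ⟨characteristic_iff_le_comap.1 centerCharacteristic f hx.1,
      by rw [← map_pow, hx.2, map_one]⟩
  letI : MulAction K W :=
    { smul := fun f x => ⟨(f : MulAut A) x, hWinv f x x.2⟩
      one_smul := fun x => Subtype.ext rfl
      mul_smul := fun f g x => Subtype.ext rfl }
  have hWne : W ≠ ⊥ := by
    intro h
    obtain ⟨z, -, hz, hzo⟩ := CfsgLib.OddOrder.BG4.exists_central_orderOf_prime hAp
      (N := (⊤ : Subgroup A)) top_ne_bot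
    have : z ∈ W := ⟨hz, hzo ▸ pow_orderOf_eq_one z⟩
    rw [h, mem_bot] at this
    rw [this, orderOf_one] at hzo
    exact hp.out.one_lt.ne hzo
  obtain ⟨z, hz, hz1⟩ := hK.exists_fixed_point_of_prime_dvd_card_of_fixed_point W
    ((hAp.to_subgroup W).card_eq_or_dvd.resolve_left fun h => hWne (card_eq_one.1 h))
    (a := (1 : W)) fun f => Subtype.ext (map_one (f : MulAut A))
  set Z := zpowers (z : A) with hZ
  have hZc : Z ≤ center A := zpowers_le.2 z.2.1
  haveI hZn : Z.Normal := ⟨fun x hx g => by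
    rwa [mem_center_iff.1 (hZc hx) g, mul_inv_cancel_right]⟩
  have hzf : ∀ f ∈ K, ∀ x ∈ Z, f x = x := by
    intro f hf x hx
    obtain ⟨i, rfl⟩ := mem_zpowers_iff.1 hx
    rw [map_zpow]
    exact congrArg (fun t : A => t ^ i) (congrArg Subtype.val (hz ⟨f, hf⟩))
  have hcZ : Nat.card Z = p := by
    rw [hZ, Nat.card_zpowers]
    exact orderOf_eq_prime z.2.2 fun h => hz1 (Subtype.ext h.symm)
  have hcq : Nat.card (A ⧸ Z) = p ^ (a - 1) := by
    have := card_eq_card_quotient_mul_card_subgroup Z
    rw [hA, hcZ, ← Nat.sub_add_cancel ha, pow_succ] at this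
    exact (Nat.eq_of_mul_eq_mul_right hp.out.pos this).symm
  -- the action on the quotient
  have hmap : ∀ f : K, Z.map (f : MulAut A).toMonoidHom = Z := by
    intro f
    ext x
    constructor
    · rintro ⟨y, hy, rfl⟩
      show (f : MulAut A) y ∈ Z
      rw [hzf f f.2 y hy]; exact hy
    · exact fun hx => ⟨x, hx, hzf f f.2 x hx⟩
  let ρ : K →* MulAut (A ⧸ Z) := MonoidHom.mk'
    (fun f => QuotientGroup.congr Z Z (f : MulAut A) (hmap f)) fun f g => by
      ext y
      obtain ⟨y, rfl⟩ := QuotientGroup.mk_surjective y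
      rfl
  haveI : Finite (MulAut (A ⧸ Z)) := Finite.of_injective (fun f => (f : (A ⧸ Z) → (A ⧸ Z))) DFunLike.coe_injective
  have hrange : Nat.card ρ.range ≤ p ^ ((a - 1) * (a - 1 - 1) / 2) :=
    ih (a - 1) (by omega) (A ⧸ Z) ρ.range hcq (hK.of_surjective ρ.rangeRestrict ρ.rangeRestrict_surjective)
  -- the kernel is a set of maps into `Z` determined by `a - 1` values
  obtain ⟨n, hn⟩ := (hAp.to_quotient Z).index (frattini (A ⧸ Z))
  haveI : Fintype (A ⧸ Z) := Fintype.ofFinite _
  obtain ⟨T, -, hTc, hT⟩ :=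
    (CfsgLib.Solvable.burnside_basis (hAp.to_quotient Z) n hn).1 Finset.univ (by simp)
  have hn1 : n ≤ a - 1 := by
    refine (Nat.pow_le_pow_iff_right hp.out.one_lt).1 ?_
    rw [← hn, ← hcq]
    exact Nat.le_of_dvd Nat.card_pos (index_dvd_card _)
  have hgen : closure (Z ∪ ((fun t : A ⧸ Z => t.out) '' (T : Set (A ⧸ Z)))) = ⊤ := by
    rw [eq_top_iff]
    intro x _
    set K' := closure ((Z : Set A) ∪ ((fun t : A ⧸ Z => t.out) '' (T : Set (A ⧸ Z)))) with hK'
    have : QuotientGroup.mk' Z x ∈ K'.map (QuotientGroup.mk' Z) := by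
      have h1 : closure (T : Set (A ⧸ Z)) ≤ K'.map (QuotientGroup.mk' Z) := by
        rw [closure_le]
        exact fun t ht => ⟨t.out, subset_closure (Or.inr ⟨t, ht, rfl⟩), t.out_eq⟩
      exact h1 (hT ▸ mem_top _)
    obtain ⟨y, hy, hyx⟩ := this
    have hz' : y⁻¹ * x ∈ Z := QuotientGroup.eq.1 hyx
    have := mul_mem hy (subset_closure (Or.inl hz') : y⁻¹ * x ∈ K')
    rwa [mul_inv_cancel_left] at this
  have hker : Nat.card ρ.ker ≤ p ^ (a - 1) := by
    have hmem : ∀ (f : ρ.ker) (x : A), x⁻¹ * ((f : K) : MulAut A) x ∈ Z := fun f x => by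
      have h1 := DFunLike.congr_fun (MonoidHom.mem_ker.1 f.2) (QuotientGroup.mk x)
      exact QuotientGroup.eq.1 h1.symm
    let d : ρ.ker → (T → Z) := fun f t => ⟨_, hmem f (t : A ⧸ Z).out⟩
    have hd : Function.Injective d := by
      intro f g h
      apply Subtype.ext
      apply Subtype.ext
      refine MulEquiv.toMonoidHom_injective (MonoidHom.eq_of_eqOn_dense hgen ?_)
      rintro x (hx | ⟨t, ht, rfl⟩)
      · show ((f : K) : MulAut A) x = ((g : K) : MulAut A) x
        rw [hzf _ (f : K).2 x hx, hzf _ (g : K).2 x hx]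
      · have h2 := congrArg Subtype.val (congrFun h ⟨t, ht⟩)
        exact mul_left_cancel h2
    refine (Nat.card_le_card_of_injective d hd).trans ?_
    rw [Nat.card_fun, hcZ, Nat.card_eq_fintype_card, Fintype.card_coe, hTc]
    exact Nat.pow_le_pow_right hp.out.pos hn1
  have hsum : (a - 1) + (a - 1) * (a - 1 - 1) / 2 = a * (a - 1) / 2 := by
    obtain ⟨b, rfl⟩ := Nat.exists_eq_add_of_le ha
    rw [show (1 + b) - 1 = b by omega]
    rcases b with _ | c
    · rfl
    rw [show c + 1 - 1 = c by omega,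
      show (1 + (c + 1)) * (c + 1) = (c + 1) * c + (c + 1) * 2 by ring,
      Nat.add_mul_div_right _ _ (by norm_num : 0 < 2)]
    ring
  rw [← hsum, pow_add, ← card_mul_index ρ.ker, index_ker]
  exact Nat.mul_le_mul hker hrange

open Subgroup in
/-- `G / A` embeds into the automorphisms of `A`. -/
theorem card_bound {G : Type*} [Group G] [Finite G] {p : ℕ} [Fact p.Prime] (hG : IsPGroup p G)
    (A : Subgroup G) [A.Normal] (hA : IsMulCommutative A)
    (hmax : ∀ B : Subgroup G, B.Normal → IsMulCommutative B → A ≤ B → B = A) (a : ℕ)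
    (ha : Nat.card A = p ^ a) : Nat.card G ≤ p ^ (a * (a + 1) / 2) := by
  set C := centralizer (A : Set G) with hC
  have hAC : A ≤ C := le_centralizer_iff_isMulCommutative.2 hA
  have hCA : C ≤ A := by
    by_contra hnot
    haveI : (C.map (QuotientGroup.mk' A)).Normal :=
      (inferInstance : C.Normal).map _ (QuotientGroup.mk'_surjective A)
    obtain ⟨w, hwC, hwc, hwo⟩ := CfsgLib.OddOrder.BG4.exists_central_orderOf_prime
      (hG.to_quotient A) (N := C.map (QuotientGroup.mk' A))
      (by rwa [Ne, Subgroup.map_eq_bot_iff, QuotientGroup.ker_mk'])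
    obtain ⟨g, hg, rfl⟩ := hwC
    set B := A ⊔ zpowers g with hB
    have hBn : B.Normal := by
      refine ⟨fun x hx y => ?_⟩
      have h1 : y * x * y⁻¹ * x⁻¹ ∈ A := by
        rw [← QuotientGroup.eq_one_iff, ← QuotientGroup.mk'_apply]
        have hx' : QuotientGroup.mk' A x ∈ center (G ⧸ A) := by
          have : B.map (QuotientGroup.mk' A) ≤ center (G ⧸ A) := by
            rw [hB, Subgroup.map_sup, QuotientGroup.map_mk'_self, bot_sup_eq, MonoidHom.map_zpowers]
            exact zpowers_le.2 hwc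
          exact this ⟨x, hx, rfl⟩
        simp only [map_mul, map_inv]
        rw [mem_center_iff.1 hx' (QuotientGroup.mk' A y)]
        group
      have := mul_mem (mem_sup_left (T := zpowers g) h1) hx
      rwa [inv_mul_cancel_right] at this
    have hBab : IsMulCommutative B := by
      rw [← le_centralizer_iff_isMulCommutative, hB]
      refine sup_le (le_centralizer_iff.1 (sup_le hAC (zpowers_le.2 hg))) ?_
      rw [zpowers_le, mem_centralizer_iff]
      intro y hy
      have h2 : A ⊔ zpowers g ≤ centralizer ({g} : Set G) := by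
        refine sup_le (fun u hu t ht => ?_) (zpowers_le.2 fun t ht => by rw [Set.mem_singleton_iff.1 ht])
        rw [Set.mem_singleton_iff.1 ht]
        exact (hg u hu).symm
      exact (h2 hy g rfl).symm
    have hgA : g ∈ A := hmax B hBn hBab le_sup_left ▸ mem_sup_right (mem_zpowers g)
    rw [QuotientGroup.mk'_apply, (QuotientGroup.eq_one_iff g).2 hgA, orderOf_one] at hwo
    exact (Fact.out : p.Prime).one_lt.ne hwo
  let φ : G →* MulAut A := MulAut.conjNormal
  have hker : φ.ker ≤ A := fun g hg => hCA fun u hu => by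
    have h1 : g * u * g⁻¹ = u := by
      have h0 := congrArg Subtype.val (DFunLike.congr_fun (MonoidHom.mem_ker.1 hg) ⟨u, hu⟩)
      simp only [φ, MulAut.conjNormal_apply] at h0
      exact h0
    exact (mul_inv_eq_iff_eq_mul.1 h1).symm
  haveI : Finite (MulAut A) := Finite.of_injective (fun f => (f : A → A)) DFunLike.coe_injective
  rw [← card_mul_index φ.ker, index_ker]
  refine (Nat.mul_le_mul ((card_le_of_le hker).trans ha.le)
    (card_aut_le a A φ.range ha (hG.of_surjective φ.rangeRestrict φ.rangeRestrict_surjective))).trans ?_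
  rw [← pow_add]
  refine Nat.pow_le_pow_right (Fact.out : p.Prime).pos (le_of_eq ?_)
  rcases a with _ | c
  · rfl
  rw [show c + 1 - 1 = c by omega,
    show (c + 1) * (c + 1 + 1) = (c + 1) * c + (c + 1) * 2 by ring,
    Nat.add_mul_div_right _ _ (by norm_num : 0 < 2)]
  ring

/-- The order of a p-group is bounded by p^(a(a+1)/2) when it has a maximal normal abelian subgroup of order p^a. -/
theorem result {G : Type*} [Group G] [Finite G] {p : ℕ} [Fact p.Prime] (hG : IsPGroup p G) (A : Subgroup G) [A.Normal] (hA : IsMulCommutative A) (hmax : ∀ B : Subgroup G, B.Normal → IsMulCommutative B → A ≤ B → B = A) (a : ℕ) (ha : Nat.card A = p ^ a) : Nat.card G ≤ p ^ (a * (a + 1) / 2) := by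
  exact card_bound hG A hA hmax a ha

end Cfsg.Agent.S0129
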