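import Cfsg.Statements.S0130
import Cfsg.Agent.OddOrder.BG1Stab

set_option autoImplicit false
open Cfsg

namespace Cfsg.Agent.S0130

open Subgroup
open scoped commutatorElement

variable {G : Type*} [Group G] [Finite G] {p : ℕ} [Fact p.Prime]

theorem dvd_choose_pow {p n : ℕ} (hp : p.Prime) (hn : p ^ n ≠ 2) (hn0 : n ≠ 0) :
    p ∣ (p ^ n).choose 2 := by
  rw [Nat.choose_two_right]
  rcases eq_or_ne p 2 with rfl | hp2
  · obtain ⟨m, rfl⟩ : ∃ m, n = m + 2 := ⟨n - 2, by
      rcases n with _ | _ | n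
      · exact absurd rfl hn0
      · exact absurd rfl hn
      · omega⟩
    have : 2 ^ (m + 2) * (2 ^ (m + 2) - 1) / 2 = 2 ^ (m + 1) * (2 ^ (m + 2) - 1) := by
      rw [pow_succ 2 (m + 1), mul_comm (2 ^ (m + 1)) 2, mul_assoc,
        Nat.mul_div_cancel_left _ two_pos]
    rw [this]
    exact Dvd.dvd.mul_right (dvd_pow_self 2 (by omega)) _
  · refine (Nat.Coprime.dvd_mul_left ((Nat.coprime_primes hp Nat.prime_two).2 hp2)).1 ?_
    rw [Nat.mul_div_cancel' (Nat.two_dvd_mul_sub_one _)]
    exact Dvd.dvd.mul_right (dvd_pow_self p hn0) _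

/-- In `C = C_G(A)`, elements `x`, `x * y` of order dividing `p ^ n` with `p`-th power in `A`
and `⁅y, x⁆ ∈ A` give the same for `y`. -/
theorem pow_mem_of_class_two {n : ℕ} (hn : p ^ n ≠ 2) (hn0 : n ≠ 0) (A : Subgroup G)
    {x y : G} (hxC : x ∈ centralizer (A : Set G)) (hyC : y ∈ centralizer (A : Set G))
    (hc : ⁅y, x⁆ ∈ A) (hxp : x ^ p ∈ A) (hyxp : (y * x) ^ p ∈ A)
    (hxn : x ^ p ^ n = 1) (hyxn : (y * x) ^ p ^ n = 1) : y ^ p ∈ A ∧ y ^ p ^ n = 1 := by
  have hp : p.Prime := Fact.out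
  have hc' : ⁅x, y⁆ ∈ A := by
    rw [← commutatorElement_inv y x]
    exact inv_mem hc
  let x' : centralizer (A : Set G) := ⟨x, hxC⟩
  let y' : centralizer (A : Set G) := ⟨y, hyC⟩
  have hcen : ∀ z : centralizer (A : Set G), Commute ⁅x', y'⁆ z := fun z =>
    Subtype.ext (z.2 ⁅x, y⁆ hc')
  have hf : ∀ k : ℕ, (y * x) ^ k = y ^ k * x ^ k * ⁅x, y⁆ ^ k.choose 2 := fun k => by
    have := CfsgLib.OddOrder.Stab.mul_pow_of_commutator_central (x := y') (y := x') hcen k
    simpa [x', y', commutatorElement_def] using congrArg Subtype.val this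
  have hcp : ⁅x, y⁆ ^ p = 1 := by
    have h1 : ⁅x ^ p, y⁆ = ⁅x, y⁆ ^ p :=
      CfsgLib.OddOrder.Stab.commutatorElement_pow_left
        (show Commute x ⁅x, y⁆ from (hxC _ hc').symm) p
    rw [← h1, commutatorElement_eq_one_iff_commute]
    exact hyC _ hxp
  constructor
  · have : y ^ p = (y * x) ^ p * (⁅x, y⁆ ^ p.choose 2)⁻¹ * (x ^ p)⁻¹ := by
      rw [hf]; group
    rw [this]
    exact mul_mem (mul_mem hyxp (inv_mem (pow_mem hc' _))) (inv_mem hxp)
  · obtain ⟨k, hk⟩ := dvd_choose_pow hp hn hn0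
    have := hf (p ^ n)
    rw [hyxn, hxn, hk, pow_mul, hcp, one_pow, mul_one, mul_one] at this
    exact this.symm

theorem key (hG : IsPGroup p G) {n : ℕ} (hn : p ^ n ≠ 2) (hn0 : n ≠ 0) (A : Subgroup G)
    [A.Normal] (hA : IsMulCommutative A) (hAe : ∀ a ∈ A, a ^ p ^ n = 1)
    (hmax : ∀ B : Subgroup G, B.Normal → IsMulCommutative B → (∀ b ∈ B, b ^ p ^ n = 1) →
      A ≤ B → B = A) :
    ∀ x ∈ centralizer (A : Set G), x ^ p ∈ A → x ^ p ^ n = 1 → x ∈ A := by
  haveI := hG.isNilpotent
  let L := fun i => Subgroup.upperCentralSeries G i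
  suffices h : ∀ i, ∀ x ∈ centralizer (A : Set G), x ∈ L i → x ^ p ∈ A → x ^ p ^ n = 1 → x ∈ A by
    intro x hx hp hn
    exact h (Group.nilpotencyClass G) x hx
      (by simp [L, Subgroup.upperCentralSeries_nilpotencyClass]) hp hn
  intro i
  induction i with
  | zero =>
    intro x _ hx _ _
    simp [L] at hx
    exact hx ▸ one_mem A
  | succ i ih =>
    intro x hxC hxi hxp hxn
    have hcomm : ∀ j, ∀ g ∈ L j, ⁅g, x⁆ ∈ A := by
      intro j
      induction j with
      | zero =>
        intro g hg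
        simp [L] at hg
        simp [hg]
      | succ j ihj =>
        intro g hg
        have hyi : ⁅g, x⁆ ∈ L i := by
          rw [← commutatorElement_inv x g]
          exact inv_mem (Subgroup.mem_upperCentralSeries_succ_iff.1 hxi g)
        have hyj : ⁅g, x⁆ ∈ L j := Subgroup.mem_upperCentralSeries_succ_iff.1 hg x
        have hyx : ⁅g, x⁆ * x = g * x * g⁻¹ := by rw [commutatorElement_def]; group
        have hgxC : g * x * g⁻¹ ∈ centralizer (A : Set G) :=
          (inferInstance : (centralizer (A : Set G)).Normal).conj_mem x hxC g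
        have hyC : ⁅g, x⁆ ∈ centralizer (A : Set G) := by
          rw [commutatorElement_def]; exact mul_mem hgxC (inv_mem hxC)
        obtain ⟨h1, h2⟩ := pow_mem_of_class_two hn hn0 A hxC hyC (ihj _ hyj) hxp
          (by rw [hyx, conj_pow]; exact (inferInstance : A.Normal).conj_mem _ hxp g) hxn
          (by rw [hyx, conj_pow, hxn]; group)
        exact ih _ hyC hyi h1 h2
    have hG' : ∀ g : G, ⁅g, x⁆ ∈ A := fun g => hcomm (Group.nilpotencyClass G) g
      (by simp [L, Subgroup.upperCentralSeries_nilpotencyClass])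
    set B := A ⊔ zpowers x with hB
    have hBC : B ≤ centralizer (A : Set G) := sup_le
      (le_centralizer_iff_isMulCommutative.2 hA) (zpowers_le.2 hxC)
    have hBn : B.Normal := by
      refine ⟨fun b hb g => ?_⟩
      have : B.map (MulAut.conj g).toMonoidHom ≤ B := by
        rw [hB, Subgroup.map_sup, MonoidHom.map_zpowers]
        refine sup_le ?_ (zpowers_le.2 ?_)
        · rintro _ ⟨a, ha, rfl⟩
          exact mem_sup_left ((inferInstance : A.Normal).conj_mem a ha g)
        · have : g * x * g⁻¹ = ⁅g, x⁆ * x := by rw [commutatorElement_def]; group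
          show g * x * g⁻¹ ∈ _
          rw [this]
          exact mul_mem (mem_sup_left (hG' g)) (mem_sup_right (mem_zpowers x))
      exact this ⟨b, hb, rfl⟩
    have hBc : IsMulCommutative B := by
      rw [← le_centralizer_iff_isMulCommutative]
      refine sup_le (fun a ha b hb => (hBC hb a ha).symm) (zpowers_le.2 ?_)
      rw [mem_centralizer_iff]
      intro b hb
      obtain ⟨a, ha, z, hz, rfl⟩ := mem_sup_of_normal_left.1 hb
      obtain ⟨k, rfl⟩ := mem_zpowers_iff.1 hz
      exact (Commute.mul_left (show Commute a x from hxC a ha)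
        ((Commute.refl x).zpow_left k)).eq
    have hBe : ∀ b ∈ B, b ^ p ^ n = 1 := by
      intro b hb
      obtain ⟨a, ha, z, hz, rfl⟩ := mem_sup_of_normal_left.1 hb
      obtain ⟨k, rfl⟩ := mem_zpowers_iff.1 hz
      have hax : Commute a x := hxC a ha
      rw [(hax.zpow_right k).mul_pow, hAe a ha, one_mul, ← zpow_natCast, ← zpow_mul,
        mul_comm k, zpow_mul, zpow_natCast, hxn, one_zpow]
    exact (hmax B hBn hBc hBe le_sup_left) ▸ mem_sup_right (mem_zpowers x)

/-- If A is maximal among the normal abelian subgroups of exponent dividing p^n of a p-group (p^n ≠ 2), then A contains every element of order dividing p^n in its centralizer. -/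
theorem result {G : Type*} [Group G] [Finite G] {p : ℕ} [Fact p.Prime] (hG : IsPGroup p G) (n : ℕ) (hn : p ^ n ≠ 2) (A : Subgroup G) [A.Normal] (hA : IsMulCommutative A) (hAe : ∀ a ∈ A, a ^ p ^ n = 1) (hmax : ∀ B : Subgroup G, B.Normal → IsMulCommutative B → (∀ b ∈ B, b ^ p ^ n = 1) → A ≤ B → B = A) (x : G) (hx : x ∈ Subgroup.centralizer (A : Set G)) (hxn : x ^ p ^ n = 1) : x ∈ A := by
  rcases eq_or_ne n 0 with rfl | hn0
  · simp at hxn; exact hxn ▸ one_mem A
  obtain ⟨k, hk⟩ := hG x
  suffices h : ∀ k : ℕ, x ^ p ^ k ∈ A → x ∈ A by exact h k (hk ▸ one_mem A)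
  intro k
  induction k with
  | zero => simp
  | succ k ih =>
    intro hk'
    refine ih (key hG hn hn0 A hA hAe hmax (x ^ p ^ k) (pow_mem hx _)
      (by rwa [← pow_mul, ← pow_succ]) ?_)
    rw [← pow_mul, mul_comm, pow_mul, hxn, one_pow]

end Cfsg.Agent.S0130
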