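import Cfsg.Statements.S0131

set_option autoImplicit false
open Cfsg

namespace Cfsg.Agent.S0131

open scoped commutatorElement

/-- The kernel of the focal transfer. -/
theorem exists_normal {G : Type*} [Group G] [Finite G] {p : ℕ} [Fact p.Prime] (P : Sylow p G) :
    ∃ N : Subgroup G, N.Normal ∧ N ⊓ (P : Subgroup G) = commutator G ⊓ (P : Subgroup G) ∧
      N ⊔ (P : Subgroup G) = ⊤ := by
  refine ⟨(P : Subgroup G).transferFocal.ker, inferInstance,
    (Subgroup.ker_transferFocal_inf_eq_focalSubgroup P).trans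
      (Subgroup.commutator_inf_eq_focalSubgroup P).symm, eq_top_iff.2 fun g _ => ?_⟩
  obtain ⟨y, hy⟩ := Subgroup.focalSubgroupOf.pow_index_surjective P
    ((P : Subgroup G).transferFocal g)
  obtain ⟨x, rfl⟩ := QuotientGroup.mk_surjective y
  have hx : (P : Subgroup G).transferFocal x = (P : Subgroup G).transferFocal g :=
    ((P : Subgroup G).transferFocal_eq_pow x).trans hy
  have := Subgroup.mul_mem_sup (x := g * (x : G)⁻¹) (S := (P : Subgroup G).transferFocal.ker)
    (by rw [MonoidHom.mem_ker, map_mul, map_inv, hx, mul_inv_cancel]) x.2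
  rwa [inv_mul_cancel_right] at this

/-- P/P' has a normal complement in G exactly when the focal subgroup G' ∩ P is as small as possible, namely P'. -/
theorem result {G : Type*} [Group G] [Finite G] {p : ℕ} [Fact p.Prime] (P : Sylow p G) : (∃ N : Subgroup G, N.Normal ∧ N ⊓ (P : Subgroup G) = ⁅(P : Subgroup G), (P : Subgroup G)⁆ ∧ N ⊔ (P : Subgroup G) = ⊤) ↔ commutator G ⊓ (P : Subgroup G) = ⁅(P : Subgroup G), (P : Subgroup G)⁆ := by
  have hle : ⁅(P : Subgroup G), (P : Subgroup G)⁆ ≤ commutator G ⊓ (P : Subgroup G) :=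
    le_inf (Subgroup.commutator_mono le_top le_top) (Subgroup.commutator_le_self _)
  constructor
  · rintro ⟨N, hN, hinf, hsup⟩
    refine le_antisymm ?_ hle
    rw [← hinf]
    refine inf_le_inf_right _ ?_
    refine Subgroup.Normal.quotient_commutative_iff_commutator_le.1 ⟨⟨fun a b => ?_⟩⟩
    obtain ⟨a, rfl⟩ := QuotientGroup.mk'_surjective N a
    obtain ⟨b, rfl⟩ := QuotientGroup.mk'_surjective N b
    obtain ⟨n, hn, x, hx, rfl⟩ := Subgroup.mem_sup_of_normal_left.1 (hsup ▸ Subgroup.mem_top a)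
    obtain ⟨m, hm, y, hy, rfl⟩ := Subgroup.mem_sup_of_normal_left.1 (hsup ▸ Subgroup.mem_top b)
    simp only [map_mul, QuotientGroup.mk'_apply, (QuotientGroup.eq_one_iff n).2 hn,
      (QuotientGroup.eq_one_iff m).2 hm, one_mul]
    rw [← QuotientGroup.mk_mul, ← QuotientGroup.mk_mul, QuotientGroup.eq]
    have : (x * y)⁻¹ * (y * x) = ⁅y⁻¹, x⁻¹⁆ := by simp [commutatorElement_def, mul_assoc]
    rw [this]
    have h2 := Subgroup.commutator_mem_commutator (inv_mem hy) (inv_mem hx)
    rw [← hinf] at h2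
    exact h2.1
  · intro h
    obtain ⟨N, hN, h1, h2⟩ := exists_normal P
    exact ⟨N, hN, h1.trans h, h2⟩

end Cfsg.Agent.S0131
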