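import Cfsg.Statements.S0132
import Cfsg.Agent.Transfer.Frobenius
import Cfsg.Agent.PLocal.Cores
import Mathlib.GroupTheory.SpecificGroups.Cyclic.Basic

set_option autoImplicit false
open Cfsg

namespace Cfsg.Agent.S0132

open Subgroup CfsgLib.Transfer

variable {G : Type*} [Group G] [Finite G] {p : ℕ} [Fact p.Prime]

theorem pnil_of_coprime_le {K : Subgroup G} (hK : HasNormalPComplement p K)
    (hle : ∀ g : G, Nat.Coprime (orderOf g) p → g ∈ K) : HasNormalPComplement p G := by
  refine hasNormalPComplement_of_local default fun Q hQ g hg hgp q hq => ?_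
  have hQp : IsPGroup p Q := (default : Sylow p G).isPGroup'.to_le hQ
  have hord : orderOf (q * g * q⁻¹) = orderOf g := MulEquiv.orderOf_eq (MulAut.conj q) g
  have h1 : q * g * q⁻¹ * g⁻¹ ∈ Q := by
    rw [mul_assoc, mul_assoc]
    exact mul_mem hq (by simpa [mul_assoc] using
      (mem_normalizer_iff.1 hg q⁻¹).1 (inv_mem hq))
  let a : K := ⟨q * g * q⁻¹, hle _ (hord ▸ hgp)⟩
  let b : K := ⟨g, hle g hgp⟩
  have ha : Nat.Coprime (orderOf a) p := by
    rw [← Subgroup.orderOf_coe]
    show Nat.Coprime (orderOf (q * g * q⁻¹)) p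
    rw [hord]; exact hgp
  have hb : Nat.Coprime (orderOf b⁻¹) p := by
    rw [orderOf_inv, ← Subgroup.orderOf_coe]; exact hgp
  have hab := (mem_pResidual_iff hK).1
    (mul_mem (mem_pResidual_of_coprime ha) (mem_pResidual_of_coprime hb))
  rw [← Subgroup.orderOf_coe] at hab
  obtain ⟨k, hk⟩ := hQp ⟨_, h1⟩
  have hdvd : orderOf (q * g * q⁻¹ * g⁻¹) ∣ p ^ k :=
    orderOf_dvd_of_pow_eq_one (congrArg Subtype.val hk)
  have h3 : orderOf (q * g * q⁻¹ * g⁻¹) = 1 :=
    Nat.eq_one_of_dvd_coprimes (Nat.Coprime.pow_right k hab) dvd_rfl hdvd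
  simpa [mul_inv_eq_iff_eq_mul] using orderOf_eq_one_iff.1 h3

theorem sylow_normal (h1 : ¬ HasNormalPComplement p G)
    (h2 : ∀ H : Subgroup G, H ≠ ⊤ → HasNormalPComplement p H) :
    ∀ P : Sylow p G, (P : Subgroup G) = Cfsg.pCore p G := by
  have hQp := CfsgLib.PLocal.isPGroup_pCore p G
  set Q := Cfsg.pCore p G with hQ
  have hne : Q ≠ ⊥ := by
    intro hbot
    refine h1 (hasNormalPComplement_of_normalizers fun R hR hRne => h2 _ fun htop => hRne ?_)
    haveI := normalizer_eq_top_iff.1 htop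
    exact le_bot_iff.1 (hbot ▸ CfsgLib.PLocal.le_pCore hR)
  by_cases hX : HasNormalPComplement p (G ⧸ Q)
  · set K := (pResidual p (G ⧸ Q)).comap (QuotientGroup.mk' Q) with hK
    have hle : ∀ g : G, Nat.Coprime (orderOf g) p → g ∈ K := fun g hg =>
      mem_pResidual_of_coprime (hg.coprime_dvd_left (orderOf_map_dvd _ g))
    have hKtop : K = ⊤ := by
      by_contra h
      exact h1 (pnil_of_coprime_le (h2 K h) hle)
    have hres : pResidual p (G ⧸ Q) = ⊤ := by
      rw [← Subgroup.map_comap_eq_self_of_surjective (QuotientGroup.mk'_surjective Q)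
        (pResidual p (G ⧸ Q)), ← hK, hKtop,
        Subgroup.map_top_of_surjective _ (QuotientGroup.mk'_surjective Q)]
    have hidx : ¬ p ∣ Q.index := by
      have := hasNormalPComplement_iff.1 hX
      rwa [hres, card_top, ← index_eq_card] at this
    intro P
    have hQP : Q ≤ P := CfsgLib.PLocal.pCore_le_sylow P
    refine le_antisymm ?_ hQP
    intro x hx
    obtain ⟨k, hk⟩ := P.isPGroup' ⟨x, hx⟩
    have hx1 : (x : G ⧸ Q) ^ p ^ k = 1 := by
      rw [← QuotientGroup.mk_pow, show x ^ p ^ k = 1 from congrArg Subtype.val hk,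
        QuotientGroup.mk_one]
    rw [← QuotientGroup.eq_one_iff, ← orderOf_eq_one_iff]
    have hcop : Nat.Coprime (Nat.card (G ⧸ Q)) (p ^ k) :=
      Nat.Coprime.pow_right k (Nat.Coprime.symm
        ((Fact.out : p.Prime).coprime_iff_not_dvd.2 (by rwa [← index_eq_card])))
    exact Nat.eq_one_of_dvd_coprimes hcop (orderOf_dvd_natCard _)
      (orderOf_dvd_of_pow_eq_one hx1)
  · exfalso
    refine hX (hasNormalPComplement_of_normalizers fun R hR hRne => ?_)
    have hproper : normalizer (R : Set (G ⧸ Q)) ≠ ⊤ := by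
      intro htop
      haveI := normalizer_eq_top_iff.1 htop
      refine hRne (le_bot_iff.1 fun r hr => ?_)
      obtain ⟨g, rfl⟩ := QuotientGroup.mk'_surjective Q r
      have hc : IsPGroup p (R.comap (QuotientGroup.mk' Q)) :=
        hR.comap_of_ker_isPGroup _ (by rw [QuotientGroup.ker_mk']; exact hQp)
      rw [mem_bot]
      exact (QuotientGroup.eq_one_iff g).2 (CfsgLib.PLocal.le_pCore hc hr)
    set M := (normalizer (R : Set (G ⧸ Q))).comap (QuotientGroup.mk' Q) with hM
    have hMne : M ≠ ⊤ := fun h => hproper (by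
      rw [← Subgroup.map_comap_eq_self_of_surjective (QuotientGroup.mk'_surjective Q)
        (normalizer (R : Set (G ⧸ Q))), ← hM, h,
        Subgroup.map_top_of_surjective _ (QuotientGroup.mk'_surjective Q)])
    exact hasNormalPComplement_of_surjective (h2 M hMne)
      ((QuotientGroup.mk' Q).subgroupComap (normalizer (R : Set (G ⧸ Q))))
      (MonoidHom.subgroupComap_surjective_of_surjective _ _ (QuotientGroup.mk'_surjective Q))

theorem nilpotent (h1 : ¬ HasNormalPComplement p G)
    (h2 : ∀ H : Subgroup G, H ≠ ⊤ → HasNormalPComplement p H) (P : Sylow p G)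
    [(P : Subgroup G).Normal] (M : Subgroup G) (hM : M ≠ ⊤) : Group.IsNilpotent M := by
  classical
  have hex : ∃ g : G, Nat.Coprime (orderOf g) p ∧ g ∉ centralizer ((P : Subgroup G) : Set G) := by
    by_contra h
    push Not at h
    exact h1 (hasNormalPComplement_of_local P fun Q hQ g _ hg =>
      centralizer_le hQ (h g hg))
  obtain ⟨g, hgp, hgC⟩ := hex
  have hsup : (P : Subgroup G) ⊔ zpowers g = ⊤ := by
    by_contra hne
    refine hgC fun x hx => ?_
    have := mem_centralizer_of_hasNormalPComplement (h2 _ hne)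
      (Q := (P : Subgroup G).subgroupOf ((P : Subgroup G) ⊔ zpowers g)) P.isPGroup'.comap_subtype
      (g := ⟨g, mem_sup_right (mem_zpowers g)⟩)
      (mem_normalizer_iff.2 fun a => by
        simp only [mem_subgroupOf, coe_mul, coe_inv, SetLike.mem_coe]
        exact ⟨fun ha => (inferInstance : (P : Subgroup G).Normal).conj_mem _ ha g, fun ha => by
          have := (inferInstance : (P : Subgroup G).Normal).conj_mem _ ha g⁻¹
          simpa [mul_assoc] using this⟩)
      (by rwa [Subgroup.orderOf_mk])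
    exact congrArg Subtype.val (this ⟨x, mem_sup_left hx⟩ (mem_subgroupOf.2 hx))
  haveI : IsCyclic (G ⧸ (P : Subgroup G)) := by
    refine ⟨⟨(g : G ⧸ (P : Subgroup G)), fun y => ?_⟩⟩
    obtain ⟨y, rfl⟩ := QuotientGroup.mk'_surjective (P : Subgroup G) y
    obtain ⟨a, ha, z, hz, rfl⟩ := mem_sup_of_normal_left.1 (hsup.symm ▸ mem_top y)
    obtain ⟨k, rfl⟩ := mem_zpowers_iff.1 hz
    refine ⟨k, ?_⟩
    simp [(QuotientGroup.eq_one_iff a).2 ha]
  letI : CommGroup (G ⧸ (P : Subgroup G)) := IsCyclic.commGroup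
  have hMc := h2 M hM
  haveI : Group.IsNilpotent (M ⧸ pResidual p M) :=
    (isPGroup_quotient_pResidual (p := p) (G := M)).isNilpotent
  refine Subgroup.isNilpotent_of_ker_le_center
    (((QuotientGroup.mk' (P : Subgroup G)).comp M.subtype).prod
      (QuotientGroup.mk' (pResidual p M))) ?_
  intro x hx
  rw [MonoidHom.mem_ker, MonoidHom.prod_apply, Prod.mk_eq_one] at hx
  have hxP : (x : G) ∈ (P : Subgroup G) := (QuotientGroup.eq_one_iff _).1 hx.1
  have hxN : x ∈ pResidual p M := (QuotientGroup.eq_one_iff _).1 hx.2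
  obtain ⟨k, hk⟩ := P.isPGroup' ⟨_, hxP⟩
  have : x = 1 := orderOf_eq_one_iff.1 (Nat.eq_one_of_dvd_coprimes
    (Nat.Coprime.pow_right k ((mem_pResidual_iff hMc).1 hxN)) dvd_rfl
    (orderOf_dvd_of_pow_eq_one (Subtype.ext (by simpa using congrArg Subtype.val hk))))
  exact this ▸ one_mem _

/-- A minimal non-p-nilpotent finite group is a minimal non-nilpotent group with a normal Sylow p-subgroup. -/
theorem result {G : Type*} [Group G] [Finite G] {p : ℕ} [Fact p.Prime] (h1 : ¬ Cfsg.HasNormalPComplement p G) (h2 : ∀ H : Subgroup G, H ≠ ⊤ → Cfsg.HasNormalPComplement p H) : (∀ H : Subgroup G, H ≠ ⊤ → Group.IsNilpotent H) ∧ ¬ Group.IsNilpotent G ∧ ∀ P : Sylow p G, (P : Subgroup G).Normal := by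
  have hs := sylow_normal h1 h2
  have hn : ∀ P : Sylow p G, (P : Subgroup G).Normal := fun P => by
    rw [hs P]; exact inferInstance
  refine ⟨fun H hH => ?_, fun h => h1 ?_, hn⟩
  · haveI := hn default
    exact nilpotent h1 h2 default H hH
  · haveI := h
    exact CfsgLib.Transfer.hasNormalPComplement_of_isNilpotent

end Cfsg.Agent.S0132
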