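import Cfsg.Statements.S0157
import Cfsg.Agent.Characters.Generalized
import Cfsg.Agent.Characters.Induction
-- import your own Cfsg.Agent.* helpers here

set_option autoImplicit false
open Cfsg

namespace Cfsg.Agent.S0157

/-- For a transitive action of a finite group on a finite set with at least two points: the action is 2-transitive if and only if the function sending g to (number of fixed points of g) − 1 is an irreducible character. -/
theorem result {G : Type*} [Group G] [Finite G] (X : Type*) [MulAction G X] [Finite X] [MulAction.IsPretransitive G X] (hX : 2 ≤ Nat.card X) : Cfsg.IsIrrCharacter G (fun g => (Nat.card (MulAction.fixedBy X g) : ℂ) - 1) ↔ MulAction.IsMultiplyPretransitive G X 2 := by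
  classical
  haveI : Fintype G := Fintype.ofFinite G
  haveI : Fintype X := Fintype.ofFinite X
  haveI : Nonempty X := (Nat.card_pos_iff.1 (by omega)).1
  obtain ⟨x⟩ := ‹Nonempty X›
  set π : G → ℂ := fun g => (Nat.card (MulAction.fixedBy X g) : ℂ) with hπ
  have hπchar : Cfsg.IsCharacter G π := by
    rw [show π = Cfsg.indFun (MulAction.stabilizer G x) (fun _ => 1) from
      funext fun g => CfsgLib.Characters.card_fixedBy_eq_indFun X x g]
    exact CfsgLib.Characters.isCharacter_indFun _ CfsgLib.Characters.isCharacter_one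
  have hπ1 : Cfsg.classInner π (fun _ => 1) = 1 := by
    rw [show π = Cfsg.indFun (MulAction.stabilizer G x) (fun _ => 1) from
      funext fun g => CfsgLib.Characters.card_fixedBy_eq_indFun X x g,
      CfsgLib.Characters.classInner_indFun _ _
        (CfsgLib.Characters.isClassFunction_of_isIrr CfsgLib.Characters.isIrr_one)]
    exact CfsgLib.Characters.classInner_isIrr_self (G := MulAction.stabilizer G x)
      CfsgLib.Characters.isIrr_one
  haveI : Fintype (MulAction.orbitRel.Quotient G (X × X)) := Fintype.ofFinite _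
  have hburn := MulAction.sum_card_fixedBy_eq_card_orbits_mul_card_group G (X × X)
  have hππ : Cfsg.classInner π π = (Fintype.card (MulAction.orbitRel.Quotient G (X × X)) : ℂ) := by
    have hterm : ∀ g : G, π g * (starRingEnd ℂ) (π g) =
        (Fintype.card (MulAction.fixedBy (X × X) g) : ℂ) := by
      intro g
      rw [hπ, Complex.conj_natCast, ← Nat.cast_mul, ← Nat.card_prod, ← Nat.card_eq_fintype_card]
      congr 1
      refine Nat.card_congr ⟨fun p => ⟨(p.1.1, p.2.1), ?_⟩, fun p => (⟨p.1.1, ?_⟩, ⟨p.1.2, ?_⟩),
        fun p => rfl, fun p => rfl⟩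
      · exact Prod.ext p.1.2 p.2.2
      · exact congrArg Prod.fst p.2
      · exact congrArg Prod.snd p.2
    rw [Cfsg.classInner, Finset.sum_congr rfl fun g _ => hterm g, ← Nat.cast_sum, hburn,
      Nat.cast_mul, mul_comm (Fintype.card (MulAction.orbitRel.Quotient G (X × X)) : ℂ),
      ← mul_assoc, Nat.card_eq_fintype_card, inv_mul_cancel₀ (by simp), one_mul]
  have hone := CfsgLib.Characters.classInner_isIrr_self (G := G) CfsgLib.Characters.isIrr_one
  have hnorm : Cfsg.classInner (π - fun _ => (1 : ℂ)) (π - fun _ => (1 : ℂ)) =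
      (Fintype.card (MulAction.orbitRel.Quotient G (X × X)) : ℂ) - 1 := by
    rw [CfsgLib.Characters.classInner_sub_left, CfsgLib.Characters.classInner_sub_right,
      CfsgLib.Characters.classInner_sub_right, hππ, hπ1, hone,
      CfsgLib.Characters.classInner_conj_symm π (fun _ => (1 : ℂ)), hπ1, map_one]
    ring
  have hfun : (fun g => (Nat.card (MulAction.fixedBy X g) : ℂ) - 1) = π - fun _ => (1 : ℂ) := rfl
  have horb : Cfsg.IsIrrCharacter G (fun g => (Nat.card (MulAction.fixedBy X g) : ℂ) - 1) ↔
      Fintype.card (MulAction.orbitRel.Quotient G (X × X)) = 2 := by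
    rw [hfun]
    constructor
    · intro h
      have h1 := CfsgLib.Characters.classInner_isIrr_self h
      rw [hnorm, sub_eq_iff_eq_add] at h1
      norm_num at h1
      exact_mod_cast h1
    · intro h
      refine CfsgLib.Characters.isIrr_of_gen_norm_one
        (CfsgLib.Characters.isGen_sub (CfsgLib.Characters.isGen_of_isCharacter hπchar)
          CfsgLib.Characters.isGen_one) ?_ ?_
      · rw [hnorm, h]; norm_num
      · have : Nat.card (MulAction.fixedBy X (1 : G)) = Nat.card X :=
          Nat.card_congr (Equiv.subtypeUnivEquiv fun y => one_smul G y)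
        simp only [hπ, Pi.sub_apply, this, Complex.sub_re, Complex.natCast_re, Complex.one_re]
        have : (2 : ℝ) ≤ Nat.card X := by exact_mod_cast hX
        linarith
  rw [horb, MulAction.is_two_pretransitive_iff]
  let q : X × X → MulAction.orbitRel.Quotient G (X × X) := Quotient.mk _
  have hq : ∀ a b : X × X, q a = q b ↔ ∃ g : G, g • b = a := fun a b =>
    Quotient.eq.trans MulAction.orbitRel_apply
  have hdiag : ∀ a b : X, q (a, b) = q (x, x) ↔ a = b := by
    intro a b
    rw [hq]
    constructor
    · rintro ⟨g, hg⟩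
      exact (congrArg Prod.fst hg).symm.trans (congrArg Prod.snd hg)
    · rintro rfl
      obtain ⟨g, hg⟩ := MulAction.exists_smul_eq G x a
      exact ⟨g, Prod.ext hg hg⟩
  obtain ⟨y, hy⟩ : ∃ y, y ≠ x := by
    haveI : Nontrivial X := Finite.one_lt_card_iff_nontrivial.1 hX
    exact exists_ne x
  constructor
  · intro h a b c d hab hcd
    rw [← Nat.card_eq_fintype_card, Nat.card_eq_two_iff' (q (x, x))] at h
    obtain ⟨w, -, hw⟩ := h
    have h1 : q (c, d) = q (a, b) :=
      (hw (q (c, d)) fun e => hcd ((hdiag c d).1 e)).trans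
        (hw (q (a, b)) fun e => hab ((hdiag a b).1 e)).symm
    obtain ⟨g, hg⟩ := (hq _ _).1 h1
    exact ⟨g, congrArg Prod.fst hg, congrArg Prod.snd hg⟩
  · intro h
    rw [← Nat.card_eq_fintype_card, Nat.card_eq_two_iff' (q (x, x))]
    refine ⟨q (x, y), fun e => hy ((hdiag x y).1 e).symm, fun w hw => ?_⟩
    obtain ⟨⟨a, b⟩, rfl⟩ := Quotient.mk_surjective w
    obtain ⟨g, h1, h2⟩ := h (Ne.symm hy) (fun e => hw ((hdiag a b).2 e) : a ≠ b)
    exact (hq _ _).2 ⟨g, Prod.ext h1 h2⟩

end Cfsg.Agent.S0157
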