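import Cfsg.Statements.S0158
import Cfsg.Agent.SquareRoots.Basic
-- import your own Cfsg.Agent.* helpers here

set_option autoImplicit false
open Cfsg

namespace Cfsg.Agent.S0158

/-- The Frobenius–Schur indicator of an irreducible complex representation of a finite group — the average over s of the character at s * s — is 0, 1 or −1, and it vanishes exactly when some character value is not real. -/
theorem result {G : Type*} [Group G] [Fintype G] {V : Type*} [AddCommGroup V] [Module ℂ V] [FiniteDimensional ℂ V] (ρ : Representation ℂ G V) [ρ.IsIrreducible] : ((Nat.card G : ℂ)⁻¹ * ∑ s : G, ρ.character (s * s) = 0 ∨ (Nat.card G : ℂ)⁻¹ * ∑ s : G, ρ.character (s * s) = 1 ∨ (Nat.card G : ℂ)⁻¹ * ∑ s : G, ρ.character (s * s) = -1) ∧ ((Nat.card G : ℂ)⁻¹ * ∑ s : G, ρ.character (s * s) = 0 ↔ ∃ s : G, (ρ.character s).im ≠ 0) := by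
  have hirr := CfsgLib.Characters.isIrrCharacter_character ρ
  have hind : CfsgLib.SquareRoots.indicator ρ.character =
      (Nat.card G : ℂ)⁻¹ * ∑ s : G, ρ.character (s * s) := by
    rw [CfsgLib.SquareRoots.indicator, finsum_eq_sum_of_fintype]
  rw [← hind]
  refine ⟨CfsgLib.SquareRoots.indicator_cases hirr, fun h0 => ?_, fun ⟨s, hs⟩ => ?_⟩
  · by_contra hne
    push Not at hne
    rcases CfsgLib.SquareRoots.indicator_of_real hirr hne with h | h <;> rw [h] at h0
    · exact one_ne_zero h0
    · exact one_ne_zero (neg_eq_zero.1 h0)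
  · exact CfsgLib.SquareRoots.indicator_eq_zero_of_not_real hirr fun h => hs (h s)

end Cfsg.Agent.S0158
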