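import Cfsg.Statements.S0171
import Cfsg.Agent.Characters.FixedPoints
import Cfsg.Agent.S0193
import Cfsg.Agent.Characters.Generalized
-- import your own Cfsg.Agent.* helpers here

set_option autoImplicit false
open Cfsg

namespace Cfsg.Agent.S0171

/-- Let G = K H with K normal, K ⊓ H trivial, and no non-identity element of H commuting with a non-identity element of K (a Frobenius group with kernel K and complement H). Then every non-principal irreducible character of K induces to an irreducible character of G. -/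
theorem result {G : Type*} [Group G] [Fintype G] (K H : Subgroup G) [K.Normal] (hKH : K ⊓ H = ⊥) (hKH' : K ⊔ H = ⊤) (hfpf : ∀ h ∈ H, h ≠ 1 → ∀ k ∈ K, h * k = k * h → k = 1) (τ : K → ℂ) (hτ : Cfsg.IsIrrCharacter K τ) (hτ1 : τ ≠ fun _ => 1) : Cfsg.IsIrrCharacter G (Cfsg.indFun K τ) := by
  classical
  haveI := Fintype.ofFinite K
  have hstab : ∀ g : G, (∀ k : K, τ ⟨g * k * g⁻¹, (inferInstance : K.Normal).conj_mem k k.2 g⟩ = τ k) →
      g ∈ K := by
    intro g hg
    obtain ⟨k₀, hk₀, h, hh, rfl⟩ : ∃ k ∈ K, ∃ h ∈ H, k * h = g := by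
      have : g ∈ ((K ⊔ H : Subgroup G) : Set G) := by rw [hKH']; trivial
      rw [Subgroup.normal_mul] at this
      exact this
    by_contra hgK
    have hh1 : h ≠ 1 := fun e => hgK (by rw [e, mul_one]; exact hk₀)
    refine hτ1 ?_
    set α : K ≃* K := MulAut.conjNormal (H := K) h with hα
    have hfix : τ ∘ α = τ := by
      funext k
      have h1 := hg k
      have h2 := CfsgLib.Characters.isClassFunction_of_isIrr hτ (α k) ⟨k₀, hk₀⟩
      rw [Function.comp_apply, ← h2, ← h1]
      exact congrArg τ (Subtype.ext (by simp [hα, MulAut.conjNormal_apply]; group))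
    have hmap : Function.Surjective fun k : K => (⟨k * (h * (k : G)⁻¹ * h⁻¹), K.mul_mem k.2
        ((inferInstance : K.Normal).conj_mem _ (K.inv_mem k.2) h)⟩ : K) := by
      refine Finite.injective_iff_surjective.1 fun a b hab => ?_
      have e : (a : G) * (h * (a : G)⁻¹ * h⁻¹) = b * (h * (b : G)⁻¹ * h⁻¹) := congrArg Subtype.val hab
      have e2 : h * ((b : G)⁻¹ * a) = (b : G)⁻¹ * a * h :=
        calc h * ((b : G)⁻¹ * a) = (b : G)⁻¹ * (b * (h * (b : G)⁻¹ * h⁻¹)) * h * a := by group
          _ = (b : G)⁻¹ * a * h := by rw [← e]; group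
      exact (Subtype.ext (eq_of_inv_mul_eq_one
        (hfpf h hh hh1 _ (K.mul_mem (K.inv_mem b.2) a.2) e2))).symm
    have hcls : Subsingleton {C : ConjClasses K // ConjClasses.map α.toMonoidHom C = C} := by
      suffices H1 : ∀ C : {C : ConjClasses K // ConjClasses.map α.toMonoidHom C = C},
          C.1 = ConjClasses.mk 1 from ⟨fun a b => Subtype.ext ((H1 a).trans (H1 b).symm)⟩
      rintro ⟨C, hC⟩
      obtain ⟨x, rfl⟩ := ConjClasses.mk_surjective C
      obtain ⟨c, hc⟩ := isConj_iff.1 (ConjClasses.mk_eq_mk_iff_isConj.1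
        (show ConjClasses.mk (α x) = ConjClasses.mk x from hC))
      have hcx : (c : G) * (h * x * h⁻¹) * (c : G)⁻¹ = x := by
        have := congrArg Subtype.val hc
        simpa [hα, MulAut.conjNormal_apply] using this
      obtain ⟨k, hk⟩ := hmap c
      have hk' : (k : G) * (h * (k : G)⁻¹ * h⁻¹) = c := congrArg Subtype.val hk
      have hcomm : h * ((k : G)⁻¹ * x * k) = (k : G)⁻¹ * x * k * h := by
        rw [← hk'] at hcx
        calc h * ((k : G)⁻¹ * x * k)
            = (k : G)⁻¹ * ((k * (h * (k : G)⁻¹ * h⁻¹)) * (h * x * h⁻¹) *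
              (k * (h * (k : G)⁻¹ * h⁻¹))⁻¹) * k * h := by group
          _ = (k : G)⁻¹ * x * k * h := by rw [hcx]
      have h3 := hfpf h hh hh1 _ (K.mul_mem (K.mul_mem (K.inv_mem k.2) x.2) k.2) hcomm
      have hx : x = 1 := Subtype.ext (by
        rw [show (x : G) = k * ((k : G)⁻¹ * x * k) * (k : G)⁻¹ by group, h3]; group; rfl)
      exact congrArg ConjClasses.mk hx
    have hle : Nat.card {χ : Cfsg.IrrCharacter K // (χ : K → ℂ) ∘ α = (χ : K → ℂ)} ≤ 1 := by
      rw [← CfsgLib.Characters.card_fixed_irr_mulEquiv α]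
      exact Finite.card_le_one_iff_subsingleton.2 hcls
    haveI := Finite.card_le_one_iff_subsingleton.1 hle
    exact congrArg (fun a : {χ : Cfsg.IrrCharacter K // (χ : K → ℂ) ∘ α = (χ : K → ℂ)} =>
      ((a : Cfsg.IrrCharacter K) : K → ℂ))
      (Subsingleton.elim ⟨⟨τ, hτ⟩, hfix⟩ ⟨⟨fun _ => 1, CfsgLib.Characters.isIrr_one⟩, rfl⟩)
  have hset : Nat.card {g : G // ∀ k : K,
      τ ⟨g * k * g⁻¹, (inferInstance : K.Normal).conj_mem k k.2 g⟩ = τ k} = Nat.card K := by
    refine Nat.card_congr (Equiv.subtypeEquivRight fun g => ⟨hstab g, fun hg k => ?_⟩)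
    exact CfsgLib.Characters.isClassFunction_of_isIrr hτ k ⟨g, hg⟩
  have h0 := Cfsg.Agent.S0193.result K τ hτ
  rw [hset] at h0
  refine CfsgLib.Characters.isIrr_of_classInner_self
    (CfsgLib.Characters.isCharacter_indFun K (CfsgLib.Characters.isCharacter_of_isIrr hτ)) ?_
  exact (mul_eq_left₀ (CfsgLib.Characters.subgroup_card_ne_zero K)).1 h0

end Cfsg.Agent.S0171
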