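import Cfsg.Statements.S0172
import Mathlib.GroupTheory.GroupAction.CardCommute
import Mathlib.Algebra.Group.Subgroup.Pointwise
import Mathlib.Tactic.Group
import Mathlib.Tactic.Linarith
import Mathlib.Algebra.BigOperators.Ring.Finset
-- import your own Cfsg.Agent.* helpers here

set_option autoImplicit false
open Cfsg

namespace Cfsg.Agent.S0172

/-- Class number of a Frobenius group: if G = K H with K normal, K ⊓ H trivial and no non-identity element of H commuting with a non-identity element of K, then |H| * k(G) + 1 = |H| * k(H) + k(K), where k denotes the number of conjugacy classes. -/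
theorem result {G : Type*} [Group G] [Finite G] (K H : Subgroup G) [K.Normal] (hKH : K ⊓ H = ⊥) (hKH' : K ⊔ H = ⊤) (hfpf : ∀ h ∈ H, h ≠ 1 → ∀ k ∈ K, h * k = k * h → k = 1) : Nat.card H * Nat.card (ConjClasses G) + 1 = Nat.card H * Nat.card (ConjClasses H) + Nat.card (ConjClasses K) := by
  classical
  haveI : Fintype G := Fintype.ofFinite G
  haveI : Fintype K := Fintype.ofFinite K
  haveI : Fintype H := Fintype.ofFinite H
  have hpairs : ∀ (A : Type _) [Group A] [Fintype A],
      ∑ a : A, Nat.card {b : A // Commute a b} = Nat.card (ConjClasses A) * Nat.card A := by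
    intro A _ _
    rw [← card_comm_eq_card_conjClasses_mul_card, ← Nat.card_sigma]
    exact (Nat.card_congr (Equiv.subtypeProdEquivSigmaSubtype fun a b : A => Commute a b)).symm
  have hKH1 : ∀ x ∈ K, x ∈ H → x = 1 := fun x hx hx' => by
    have : x ∈ K ⊓ H := ⟨hx, hx'⟩
    rwa [hKH, Subgroup.mem_bot] at this
  have hdec : ∀ g : G, ∃ k ∈ K, ∃ h ∈ H, k * h = g := fun g => by
    have : g ∈ ((K ⊔ H : Subgroup G) : Set G) := by rw [hKH']; trivial
    rw [Subgroup.normal_mul] at this
    exact this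
  have hinj : Function.Injective fun p : K × H => (p.1 : G) * p.2 := fun a b hab => by
    have e : (b.1 : G)⁻¹ * a.1 = b.2 * (a.2 : G)⁻¹ :=
      calc (b.1 : G)⁻¹ * a.1 = (b.1 : G)⁻¹ * ((a.1 : G) * a.2) * (a.2 : G)⁻¹ := by group
        _ = b.2 * (a.2 : G)⁻¹ := by
          rw [show (a.1 : G) * a.2 = b.1 * b.2 from hab]; group
    have h1 := hKH1 _ (K.mul_mem (K.inv_mem b.1.2) a.1.2) (e ▸ H.mul_mem b.2.2 (H.inv_mem a.2.2))
    exact Prod.ext (Subtype.ext (eq_of_inv_mul_eq_one h1).symm)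
      (Subtype.ext (eq_of_mul_inv_eq_one (e.symm.trans h1)).symm)
  let E : K × H ≃ G := Equiv.ofBijective (fun p => (p.1 : G) * p.2) ⟨hinj, fun g => by
    obtain ⟨k, hk, h, hh, e⟩ := hdec g
    exact ⟨(⟨k, hk⟩, ⟨h, hh⟩), e⟩⟩
  have hE : ∀ (k : K) (h : H), E (k, h) = (k : G) * h := fun _ _ => rfl
  have hinK : ∀ k : K, k ≠ 1 → Nat.card {b : G // Commute (k : G) b} =
      Nat.card {b : K // Commute k b} := by
    intro k hk
    refine (Nat.card_congr (Equiv.ofBijective
      (fun b : {b : K // Commute k b} => (⟨(b.1 : G), by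
        exact congrArg Subtype.val b.2.eq⟩ : {b : G // Commute (k : G) b}))
      ⟨fun a b hab => Subtype.ext (Subtype.ext (congrArg (fun z => z.1) (hab : _) : ((a.1 : K) : G) = b.1)), ?_⟩)).symm
    rintro ⟨b, hb⟩
    have hbK : b ∈ K := by
      obtain ⟨k₀, hk₀, h, hh, rfl⟩ := hdec b
      rcases eq_or_ne h 1 with rfl | hh1
      · rw [mul_one]; exact hk₀
      exfalso
      have hmap : Function.Surjective fun k : K => (⟨k * (h * (k : G)⁻¹ * h⁻¹), K.mul_mem k.2
          ((inferInstance : K.Normal).conj_mem _ (K.inv_mem k.2) h)⟩ : K) := by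
        refine Finite.injective_iff_surjective.1 fun a b hab => ?_
        have e : (a : G) * (h * (a : G)⁻¹ * h⁻¹) = b * (h * (b : G)⁻¹ * h⁻¹) :=
          congrArg Subtype.val hab
        have e2 : h * ((b : G)⁻¹ * a) = (b : G)⁻¹ * a * h :=
          calc h * ((b : G)⁻¹ * a) = (b : G)⁻¹ * (b * (h * (b : G)⁻¹ * h⁻¹)) * h * a := by group
            _ = (b : G)⁻¹ * a * h := by rw [← e]; group
        exact (Subtype.ext (eq_of_inv_mul_eq_one
          (hfpf h hh hh1 _ (K.mul_mem (K.inv_mem b.2) a.2) e2))).symm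
      obtain ⟨c, hc⟩ := hmap ⟨k₀, hk₀⟩
      have hc' : (c : G) * (h * (c : G)⁻¹ * h⁻¹) = k₀ := congrArg Subtype.val hc
      have hcomm : h * ((c : G)⁻¹ * k * c) = (c : G)⁻¹ * k * c * h :=
        calc h * ((c : G)⁻¹ * k * c)
            = (c : G)⁻¹ * (((c : G) * (h * (c : G)⁻¹ * h⁻¹)) * h * k) * c := by group
          _ = (c : G)⁻¹ * (k * (k₀ * h)) * c := by rw [hc', hb.eq]
          _ = (c : G)⁻¹ * k * c * h := by rw [← hc']; group
      have h3 := hfpf h hh hh1 _ (K.mul_mem (K.mul_mem (K.inv_mem c.2) k.2) c.2) hcomm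
      exact hk (Subtype.ext (by
        rw [show (k : G) = c * ((c : G)⁻¹ * k * c) * (c : G)⁻¹ by group, h3]; group; rfl))
    exact ⟨⟨⟨b, hbK⟩, Subtype.ext hb.eq⟩, rfl⟩
  have hinH : ∀ (k : K) (h : H), h ≠ 1 → Nat.card {b : G // Commute ((k : G) * h) b} =
      Nat.card {b : H // Commute h b} := by
    intro k h hh
    have hh1 : (h : G) ≠ 1 := fun e => hh (Subtype.ext e)
    have hmap : Function.Surjective fun c : K => (⟨c * (h * (c : G)⁻¹ * (h : G)⁻¹), K.mul_mem c.2
        ((inferInstance : K.Normal).conj_mem _ (K.inv_mem c.2) h)⟩ : K) := by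
      refine Finite.injective_iff_surjective.1 fun a b hab => ?_
      have e : (a : G) * (h * (a : G)⁻¹ * (h : G)⁻¹) = b * (h * (b : G)⁻¹ * (h : G)⁻¹) :=
        congrArg Subtype.val hab
      have e2 : (h : G) * ((b : G)⁻¹ * a) = (b : G)⁻¹ * a * h :=
        calc (h : G) * ((b : G)⁻¹ * a)
            = (b : G)⁻¹ * (b * (h * (b : G)⁻¹ * (h : G)⁻¹)) * h * a := by group
          _ = (b : G)⁻¹ * a * h := by rw [← e]; group
      exact (Subtype.ext (eq_of_inv_mul_eq_one
        (hfpf h h.2 hh1 _ (K.mul_mem (K.inv_mem b.2) a.2) e2))).symm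
    obtain ⟨c, hc⟩ := hmap k
    have hc' : (c : G) * (h * (c : G)⁻¹ * (h : G)⁻¹) = k := congrArg Subtype.val hc
    have hg : (k : G) * h = c * h * (c : G)⁻¹ := by rw [← hc']; group
    refine (Nat.card_congr (Equiv.ofBijective
      (fun b : {b : H // Commute h b} => (⟨c * (b.1 : G) * (c : G)⁻¹, by
        have hb : (h : G) * b.1 = b.1 * h := congrArg Subtype.val b.2.eq
        rw [hg]
        calc (c : G) * h * (c : G)⁻¹ * (c * b.1 * (c : G)⁻¹)
            = c * ((h : G) * b.1) * (c : G)⁻¹ := by group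
          _ = c * b.1 * (c : G)⁻¹ * (c * h * (c : G)⁻¹) := by rw [hb]; group⟩ :
          {b : G // Commute ((k : G) * h) b}))
      ⟨fun a b hab => Subtype.ext (Subtype.ext (by
        simpa using congrArg (fun z : {b : G // _} => z.1) hab)), ?_⟩)).symm
    rintro ⟨b, hb⟩
    obtain ⟨k₁, hk₁, h', hh', e⟩ := hdec ((c : G)⁻¹ * b * c)
    have hcm : (h : G) * (k₁ * h') = k₁ * h' * h := by
      have := hb.eq
      rw [hg] at this
      rw [e]
      calc (h : G) * ((c : G)⁻¹ * b * c) = (c : G)⁻¹ * (c * h * (c : G)⁻¹ * b) * c := by group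
        _ = (c : G)⁻¹ * b * c * h := by rw [this]; group
    have e2 : ((h : G) * h')⁻¹ * (h' * h) = ((h : G) * h')⁻¹ * k₁⁻¹ * h * k₁ * (h : G)⁻¹ * (h * h') :=
      calc ((h : G) * h')⁻¹ * (h' * h) = ((h : G) * h')⁻¹ * k₁⁻¹ * (k₁ * h' * h) := by group
        _ = _ := by rw [← hcm]; group
    have hmem : ((h : G) * h')⁻¹ * (h' * h) ∈ K := by
      rw [e2]
      have : ((h : G) * h')⁻¹ * k₁⁻¹ * h * k₁ * (h : G)⁻¹ * (h * h') =
          ((h : G) * h')⁻¹ * (k₁⁻¹ * (h * k₁ * (h : G)⁻¹)) * (((h : G) * h')⁻¹)⁻¹ := by group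
      rw [this]
      exact (inferInstance : K.Normal).conj_mem _
        (K.mul_mem (K.inv_mem hk₁) ((inferInstance : K.Normal).conj_mem _ hk₁ h)) _
    have hcomm : (h : G) * h' = h' * h := eq_of_inv_mul_eq_one
      (hKH1 _ hmem (H.mul_mem (H.inv_mem (H.mul_mem h.2 hh')) (H.mul_mem hh' h.2)))
    have hk1 : k₁ = 1 := hfpf h h.2 hh1 k₁ hk₁ (by
      calc (h : G) * k₁ = (h : G) * (k₁ * h') * h'⁻¹ := by group
        _ = k₁ * (h' * h) * h'⁻¹ := by rw [hcm]; group
        _ = k₁ * h := by rw [← hcomm]; group)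
    refine ⟨⟨⟨h', hh'⟩, Subtype.ext hcomm⟩, Subtype.ext ?_⟩
    show (c : G) * h' * (c : G)⁻¹ = b
    rw [show h' = (c : G)⁻¹ * b * c by rw [← e, hk1, one_mul]]
    group
  have hG := hpairs G
  rw [← E.sum_comp, Fintype.sum_prod_type, Finset.sum_comm] at hG
  have hH := hpairs H
  have hK := hpairs K
  rw [← Finset.add_sum_erase _ _ (Finset.mem_univ (1 : H))] at hG hH
  have honeG : Nat.card {b : G // Commute (1 : G) b} = Nat.card G :=
    Nat.card_congr (Equiv.subtypeUnivEquiv fun b => Commute.one_left b)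
  have honeK : Nat.card {b : K // Commute (1 : K) b} = Nat.card K :=
    Nat.card_congr (Equiv.subtypeUnivEquiv fun b => Commute.one_left b)
  have honeH : Nat.card {b : H // Commute (1 : H) b} = Nat.card H :=
    Nat.card_congr (Equiv.subtypeUnivEquiv fun b => Commute.one_left b)
  have h1 : ∑ k : K, Nat.card {b : G // Commute (E (k, 1)) b} + Nat.card K =
      Nat.card G + Nat.card (ConjClasses K) * Nat.card K := by
    rw [← hK, ← Finset.add_sum_erase _ _ (Finset.mem_univ (1 : K)),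
      ← Finset.add_sum_erase _ _ (Finset.mem_univ (1 : K)),
      Finset.sum_congr rfl (g := fun k : K => Nat.card {b : K // Commute k b}) fun k hk => ?_]
    · simp only [hE, OneMemClass.coe_one, mul_one, honeG, honeK]; omega
    · simp only [hE, OneMemClass.coe_one, mul_one]; exact hinK k (Finset.ne_of_mem_erase hk)
  have h2 : ∑ h ∈ (Finset.univ : Finset H).erase 1, ∑ k : K,
      Nat.card {b : G // Commute (E (k, h)) b} = Nat.card K *
      ∑ h ∈ (Finset.univ : Finset H).erase 1, Nat.card {b : H // Commute h b} := by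
    rw [Finset.mul_sum]
    refine Finset.sum_congr rfl fun h hh => ?_
    simp only [hE]
    rw [Finset.sum_congr rfl fun k _ => hinH k h (Finset.ne_of_mem_erase hh), Finset.sum_const,
      Finset.card_univ, ← Nat.card_eq_fintype_card, smul_eq_mul]
  have hcardG : Nat.card G = Nat.card K * Nat.card H := by
    rw [← Nat.card_prod]; exact (Nat.card_congr E).symm
  rw [h2] at hG
  rw [honeH] at hH
  have hpos : 0 < Nat.card K := Nat.card_pos
  apply Nat.eq_of_mul_eq_mul_left hpos
  rw [hcardG] at hG h1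
  nlinarith [hG, h1, hH]

end Cfsg.Agent.S0172
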