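import Cfsg.Statements.S0175
import Cfsg.Agent.Characters.Monomial
import Cfsg.Agent.Characters.Linear
-- import your own Cfsg.Agent.* helpers here

set_option autoImplicit false
open Cfsg
open scoped commutatorElement

namespace Cfsg.Agent.S0175

/-- Taketa's Theorem on M-groups: if every irreducible complex character of a finite group is induced from a linear character (a homomorphism to ℂˣ) of some subgroup, the group is solvable. -/
theorem result {G : Type*} [Group G] [Fintype G] (hM : ∀ χ : G → ℂ, Cfsg.IsIrrCharacter G χ → ∃ (H : Subgroup G) (lam : H →* ℂˣ), χ = Cfsg.indFun H (fun h => (lam h : ℂ))) : Group.IsSolvable G := by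
  classical
  obtain ⟨n, hn⟩ : ∃ n, derivedSeries G (n + 1) = derivedSeries G n := by
    by_contra hcon
    push Not at hcon
    have hdec : ∀ n, Nat.card (derivedSeries G n) + n ≤ Nat.card G := by
      intro n
      induction n with
      | zero => simpa using Subgroup.card_le_card_group (derivedSeries G 0)
      | succ k ih =>
        have hle : derivedSeries G (k + 1) ≤ derivedSeries G k := derivedSeries_antitone G (Nat.le_succ k)
        have hlt : Nat.card (derivedSeries G (k + 1)) < Nat.card (derivedSeries G k) :=
          lt_of_not_ge fun h => hcon k (Subgroup.eq_of_le_of_card_ge hle h)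
        omega
    have := hdec (Nat.card G + 1)
    omega
  refine ⟨n, ?_⟩
  rw [Subgroup.eq_bot_iff_forall]
  suffices H : ∀ d : ℕ, ∀ χ : G → ℂ, Cfsg.IsIrrCharacter G χ → χ 1 = d →
      ∀ k ∈ derivedSeries G n, χ k = χ 1 by
    intro k hk
    refine isConj_one_left.1 (CfsgLib.Characters.isConj_of_irr_eq fun χ => ?_)
    obtain ⟨d, -, hd⟩ := CfsgLib.Characters.exists_degree_pos χ.2
    exact H d _ χ.2 hd k hk
  intro d
  induction d using Nat.strong_induction_on with
  | _ d ih =>
    intro χ hχ hd k hk
    obtain ⟨H, lam, rfl⟩ := hM χ hχ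
    haveI : Fintype H := Fintype.ofFinite H
    set π : G → ℂ := Cfsg.indFun H (fun _ => 1) with hπdef
    have hπ : Cfsg.IsCharacter G π :=
      CfsgLib.Characters.isCharacter_indFun H CfsgLib.Characters.isCharacter_one
    have hindex : (H.index : ℂ) = d := by
      rw [← hd, CfsgLib.Characters.indFun_one]; simp
    have hπ1 : π 1 = d := by rw [hπdef, CfsgLib.Characters.indFun_one, mul_one, hindex]
    have hone : Cfsg.classInner π (fun _ => 1) = 1 := by
      rw [hπdef, CfsgLib.Characters.classInner_indFun H _
        (CfsgLib.Characters.isClassFunction_of_isIrr CfsgLib.Characters.isIrr_one)]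
      exact CfsgLib.Characters.classInner_isIrr_self (G := H) CfsgLib.Characters.isIrr_one
    obtain ⟨m, hm⟩ := CfsgLib.Characters.exists_nat_coeff hπ
    choose e he0 he using fun ψ : Cfsg.IrrCharacter G => CfsgLib.Characters.exists_degree_pos ψ.2
    let t : Cfsg.IrrCharacter G := ⟨fun _ => 1, CfsgLib.Characters.isIrr_one⟩
    have hmt : m t = 1 := by
      have h2 : Cfsg.classInner π (t : G → ℂ) = (m t : ℂ) := by
        rw [hm, CfsgLib.Characters.classInner_irr_coeff]
      exact_mod_cast h2.symm.trans hone
    have hsum : ∑ ψ, m ψ * e ψ = d := by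
      have h2 := congrFun hm 1
      rw [hπ1] at h2
      simp only [Finset.sum_apply, Pi.smul_apply, smul_eq_mul, he] at h2
      exact_mod_cast h2.symm
    have het : e t = 1 := by
      have h2 : ((e t : ℕ) : ℂ) = 1 := (he t).symm
      exact_mod_cast h2
    have hsmall : ∀ ψ, ψ ≠ t → m ψ ≠ 0 → e ψ < d := by
      intro ψ hψ hm0
      have hle := Finset.sum_le_sum_of_subset_of_nonneg (f := fun ψ => m ψ * e ψ)
        (Finset.subset_univ ({t, ψ} : Finset (Cfsg.IrrCharacter G))) fun _ _ _ => Nat.zero_le _
      rw [Finset.sum_pair hψ.symm, hsum, hmt, het] at hle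
      have : e ψ ≤ m ψ * e ψ := Nat.le_mul_of_pos_left _ (Nat.pos_of_ne_zero hm0)
      omega
    have hperfect : ⁅derivedSeries G n, derivedSeries G n⁆ = derivedSeries G n := hn
    have hπk : ∀ k ∈ derivedSeries G n, π k = π 1 := by
      intro k hk
      rw [hm]
      simp only [Finset.sum_apply, Pi.smul_apply, smul_eq_mul]
      refine Finset.sum_congr rfl fun ψ _ => ?_
      by_cases hψ : ψ = t
      · rw [hψ]
      by_cases hm0 : m ψ = 0
      · simp [hm0]
      · rw [ih (e ψ) (hsmall ψ hψ hm0) _ ψ.2 (he ψ) k hk]
    have hmem : ∀ k ∈ derivedSeries G n, ∀ x : G, x⁻¹ * k * x ∈ H := by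
      intro k hk x
      by_contra hx
      have h1 : ∀ y : G, Cfsg.extendByZero H (fun _ => (1 : ℂ)) y = if y ∈ H then 1 else 0 := by
        intro y
        split_ifs with hy
        · exact CfsgLib.Characters.extendByZero_of_mem H _ hy
        · exact CfsgLib.Characters.extendByZero_of_not_mem H _ hy
      have h2 := hπk k hk
      simp only [hπdef, Cfsg.indFun, h1, Finset.sum_boole, mul_one, inv_mul_cancel, H.one_mem] at h2
      have h3 : (Finset.univ.filter fun x : G => x⁻¹ * k * x ∈ H).card = Fintype.card G := by
        have := mul_left_cancel₀ (inv_ne_zero (CfsgLib.Characters.subgroup_card_ne_zero H)) h2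
        simpa using this
      have h4 := (Finset.card_eq_iff_eq_univ _).1 h3
      have h5 : x ∈ Finset.univ.filter fun x : G => x⁻¹ * k * x ∈ H := by
        rw [h4]; exact Finset.mem_univ x
      exact hx (Finset.mem_filter.1 h5).2
    have hKH : derivedSeries G n ≤ H := fun k hk => by simpa using hmem k hk 1
    have hlam : (derivedSeries G n).subgroupOf H ≤ lam.ker := by
      intro a ha
      have : (a : G) ∈ lam.ker.map H.subtype := by
        refine (?_ : ⁅derivedSeries G n, derivedSeries G n⁆ ≤ lam.ker.map H.subtype) (hperfect.symm ▸ ha)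
        rw [Subgroup.commutator_le]
        intro p hp q hq
        refine ⟨⁅(⟨p, hKH hp⟩ : H), (⟨q, hKH hq⟩ : H)⁆, MonoidHom.mem_ker.2 ?_, rfl⟩
        rw [map_commutatorElement]
        exact commutatorElement_eq_one_iff_mul_comm.2 (mul_comm _ _)
      obtain ⟨b, hb, hba⟩ := this
      rwa [← Subtype.ext hba]
    have hval : ∀ x : G, ∀ k ∈ derivedSeries G n,
        Cfsg.extendByZero H (fun h => (lam h : ℂ)) (x⁻¹ * k * x) = 1 := by
      intro x k hk
      rw [CfsgLib.Characters.extendByZero_of_mem H _ (hmem k hk x)]
      have hk' : x⁻¹ * k * x ∈ derivedSeries G n := by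
        simpa using (derivedSeries_normal G n).conj_mem k hk x⁻¹
      have := hlam (x := (⟨x⁻¹ * k * x, hmem k hk x⟩ : H)) hk'
      rw [MonoidHom.mem_ker] at this
      rw [this, Units.val_one]
    simp only [Cfsg.indFun]
    exact congrArg _ (Finset.sum_congr rfl fun x _ => by
      rw [hval x k hk, hval x 1 (one_mem _)])

end Cfsg.Agent.S0175
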