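import Cfsg.Statements.S0180
import Cfsg.Agent.Characters.Rational
-- import your own Cfsg.Agent.* helpers here

set_option autoImplicit false
open Cfsg

namespace Cfsg.Agent.S0180

/-- Every irreducible complex character of a finite group takes only rational values if and only if g is conjugate to g ^ m for every element g and every m coprime to the group order. -/
theorem result {G : Type*} [Group G] [Finite G] : (∀ χ : Cfsg.IrrCharacter G, ∀ g : G, ∃ q : ℚ, (χ : G → ℂ) g = (q : ℂ)) ↔ ∀ m : ℕ, m.Coprime (Nat.card G) → ∀ g : G, IsConj g (g ^ m) := by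
  classical
  haveI := Fintype.ofFinite G
  constructor
  · intro h m hm g
    refine CfsgLib.Characters.isConj_of_irr_eq fun χ => ?_
    haveI : NeZero (Nat.card G) := ⟨Nat.card_pos.ne'⟩
    obtain ⟨σ, hσ⟩ := CfsgLib.GaloisConj.exists_ringEquiv_pow (Nat.card G) m hm
    obtain ⟨q, hq⟩ := h χ g
    rw [← CfsgLib.GaloisConj.map_character_eq_pow hσ
      (CfsgLib.Characters.isCharacter_of_isIrr χ.2) g, hq, map_ratCast]
  · intro h χ g
    refine CfsgLib.Characters.rat_of_pow_invariant
      (CfsgLib.Characters.isCharacter_of_isIrr χ.2) g fun k hk => ?_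
    exact (CfsgLib.Characters.classFunction_isConj
      (CfsgLib.Characters.isClassFunction_of_isIrr χ.2) (h k hk g)).symm

end Cfsg.Agent.S0180
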