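import Cfsg.Statements.S0181
import Cfsg.Agent.Characters.Linear
import Cfsg.Agent.Characters.Orthogonality
-- import your own Cfsg.Agent.* helpers here

set_option autoImplicit false
open Cfsg

namespace Cfsg.Agent.S0181

/-- Let H be a normal subgroup of a finite group G and ρ an irreducible complex representation whose kernel does not contain H. If g commutes with no non-identity element of H, then the character of ρ vanishes at g. -/
theorem result {G : Type*} [Group G] [Finite G] {V : Type*} [AddCommGroup V] [Module ℂ V] [FiniteDimensional ℂ V] (ρ : Representation ℂ G V) [ρ.IsIrreducible] (H : Subgroup G) [H.Normal] (hker : ∃ h ∈ H, ρ h ≠ LinearMap.id) (g : G) (hg : ∀ h ∈ H, h * g = g * h → h = 1) : ρ.character g = 0 := by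
  classical
  haveI : Fintype G := Fintype.ofFinite G
  haveI : Fintype (G ⧸ H) := Fintype.ofFinite _
  let f : Cfsg.IrrCharacter (G ⧸ H) → Cfsg.IrrCharacter G := fun ψ =>
    ⟨fun x => (ψ : G ⧸ H → ℂ) (QuotientGroup.mk' H x),
      CfsgLib.Characters.isIrr_comp _ (QuotientGroup.mk'_surjective H) ψ.2⟩
  have hf : Function.Injective f := fun a b h => Subtype.ext (funext fun q => by
    obtain ⟨x, rfl⟩ := QuotientGroup.mk'_surjective H q
    exact congrFun (congrArg Subtype.val h) x)
  have hnot : CfsgLib.Characters.irrOf ρ ∉ Finset.univ.map ⟨f, hf⟩ := by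
    intro hmem
    obtain ⟨ψ, -, hψ⟩ := Finset.mem_map.1 hmem
    obtain ⟨h, hh, hρh⟩ := hker
    refine hρh ((CfsgLib.Characters.char_eq_finrank_iff ρ h).1 ?_)
    have h1 : ρ.character = fun x => (ψ : G ⧸ H → ℂ) (QuotientGroup.mk' H x) :=
      (congrArg Subtype.val hψ).symm
    have h2 : QuotientGroup.mk' H h = 1 := (QuotientGroup.eq_one_iff h).2 hh
    rw [← Representation.char_one ρ, h1]
    simp only [h2, map_one]
  have hcard : Nat.card (Subgroup.centralizer ({g} : Set G)) =
      Nat.card (Subgroup.centralizer ({QuotientGroup.mk' H g} : Set (G ⧸ H))) := by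
    have hinjφ : Function.Injective fun h : H =>
        (⟨h * g * (h : G)⁻¹ * g⁻¹, by
          rw [show (h : G) * g * (h : G)⁻¹ * g⁻¹ = h * (g * (h : G)⁻¹ * g⁻¹) by group]
          exact H.mul_mem h.2 (Subgroup.Normal.conj_mem inferInstance _ (H.inv_mem h.2) g)⟩ : H) := by
      intro a b hab
      have e : (a : G) * g * (a : G)⁻¹ = b * g * (b : G)⁻¹ :=
        mul_right_cancel (congrArg Subtype.val hab)
      have : (b : G)⁻¹ * a * g = g * ((b : G)⁻¹ * a) :=
        calc (b : G)⁻¹ * a * g = (b : G)⁻¹ * (a * g * (a : G)⁻¹) * a := by group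
          _ = g * ((b : G)⁻¹ * a) := by rw [e]; group
      exact (Subtype.ext (eq_of_inv_mul_eq_one (hg _ (H.mul_mem (H.inv_mem b.2) a.2) this))).symm
    have hsurjφ := Finite.injective_iff_surjective.1 hinjφ
    refine Nat.card_congr (Equiv.ofBijective (fun x : Subgroup.centralizer ({g} : Set G) =>
      (⟨QuotientGroup.mk' H x, Subgroup.mem_centralizer_singleton_iff.2 (by
        rw [← map_mul, ← map_mul, Subgroup.mem_centralizer_singleton_iff.1 x.2])⟩ :
        Subgroup.centralizer ({QuotientGroup.mk' H g} : Set (G ⧸ H)))) ⟨?_, ?_⟩)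
    · intro a b hab
      have e : (a : G)⁻¹ * b ∈ H := QuotientGroup.eq.1 (congrArg Subtype.val hab)
      exact Subtype.ext (eq_of_inv_mul_eq_one (hg _ e (Subgroup.mem_centralizer_singleton_iff.1
        (mul_mem (inv_mem a.2) b.2))))
    · rintro ⟨q, hq⟩
      obtain ⟨x, rfl⟩ := QuotientGroup.mk'_surjective H q
      have hx : x * g * x⁻¹ * g⁻¹ ∈ H := by
        refine (QuotientGroup.eq_one_iff _).1 (?_ : QuotientGroup.mk' H (x * g * x⁻¹ * g⁻¹) = 1)
        rw [map_mul, map_mul, map_mul, Subgroup.mem_centralizer_singleton_iff.1 hq, map_inv,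
          map_inv]
        group
      obtain ⟨h, hh⟩ := hsurjφ ⟨_, hx⟩
      have e : (h : G) * g * (h : G)⁻¹ = x * g * x⁻¹ := mul_right_cancel (congrArg Subtype.val hh)
      refine ⟨⟨(h : G)⁻¹ * x, Subgroup.mem_centralizer_singleton_iff.2 ?_⟩, Subtype.ext ?_⟩
      · calc (h : G)⁻¹ * x * g = (h : G)⁻¹ * (x * g * x⁻¹) * x := by group
          _ = g * ((h : G)⁻¹ * x) := by rw [← e]; group
      · show QuotientGroup.mk' H ((h : G)⁻¹ * x) = QuotientGroup.mk' H x
        rw [map_mul, map_inv, (QuotientGroup.eq_one_iff (h : G)).2 h.2 |> (fun e =>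
          (e : QuotientGroup.mk' H (h : G) = 1)), inv_one, one_mul]
  have key : ∀ χ : G → ℂ, (χ g).re * (χ g).re + (χ g).im * (χ g).im =
      (χ g * (starRingEnd ℂ) (χ g)).re := fun χ => by simp [Complex.mul_re]
  have e1 := congrArg Complex.re (CfsgLib.Characters.sum_irr_mul_conj_of_isConj (IsConj.refl g))
  have e2 := congrArg Complex.re
    (CfsgLib.Characters.sum_irr_mul_conj_of_isConj (IsConj.refl (QuotientGroup.mk' H g)))
  rw [Complex.re_sum] at e1 e2
  simp only [← key, Complex.natCast_re] at e1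
  rw [← hcard, Complex.natCast_re] at e2
  set F : Cfsg.IrrCharacter G → ℝ := fun χ =>
    ((χ : G → ℂ) g).re * ((χ : G → ℂ) g).re + ((χ : G → ℂ) g).im * ((χ : G → ℂ) g).im with hF
  have hle := Finset.sum_le_sum_of_subset_of_nonneg (f := F)
    (Finset.subset_univ (insert (CfsgLib.Characters.irrOf ρ) (Finset.univ.map ⟨f, hf⟩)))
    fun χ _ _ => add_nonneg (mul_self_nonneg _) (mul_self_nonneg _)
  rw [Finset.sum_insert hnot, Finset.sum_map] at hle
  have e3 : ∑ ψ : Cfsg.IrrCharacter (G ⧸ H), F (f ψ) =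
      (Nat.card (Subgroup.centralizer ({g} : Set G)) : ℝ) := by
    rw [← e2]
    exact Finset.sum_congr rfl fun ψ _ => key (fun x => (ψ : G ⧸ H → ℂ) (QuotientGroup.mk' H x))
  simp only [Function.Embedding.coeFn_mk] at hle
  rw [e3, show ∑ χ, F χ = _ from e1] at hle
  have h0 : (ρ.character g).re * (ρ.character g).re + (ρ.character g).im * (ρ.character g).im ≤ 0 := by
    have : F (CfsgLib.Characters.irrOf ρ) ≤ 0 := by linarith
    exact this
  exact Complex.normSq_eq_zero.1 (le_antisymm (by rw [Complex.normSq_apply]; exact h0)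
    (Complex.normSq_nonneg _))

end Cfsg.Agent.S0181
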