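import Cfsg.Statements.S0184
import Cfsg.Agent.Characters.Linear
import Cfsg.Agent.BlocksCharsC.PGroupCenter
import Cfsg.Agent.Characters.Orthogonality
-- import your own Cfsg.Agent.* helpers here

set_option autoImplicit false
open Cfsg

namespace Cfsg.Agent.S0184

/-- A finite p-group admits a faithful irreducible complex representation if and only if its centre is cyclic. -/
theorem result {G : Type*} [Group G] [Finite G] (p : ℕ) [Fact p.Prime] (hG : IsPGroup p G) : (∃ (n : ℕ) (ρ : Representation ℂ G (Fin n → ℂ)), ρ.IsIrreducible ∧ Function.Injective ρ) ↔ IsCyclic (Subgroup.center G) := by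
  classical
  haveI : Fintype G := Fintype.ofFinite G
  constructor
  · rintro ⟨n, ρ, hρ, hinj⟩
    haveI : Nontrivial (Fin n → ℂ) := CfsgLib.Characters.nontrivial_of_isIrreducible ρ
    choose c hc using fun z : Subgroup.center G => CfsgLib.Characters.central_scalar ρ z.2
    obtain ⟨v, hv⟩ := exists_ne (0 : Fin n → ℂ)
    have hcv : ∀ z : Subgroup.center G, ρ z v = c z • v := fun z => by rw [hc z]; simp
    have hmul : ∀ z w : Subgroup.center G, c (z * w) = c z * c w := fun z w => by
      have h1 : c (z * w) • v = (c z * c w) • v := by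
        rw [← hcv, Subgroup.coe_mul, map_mul, Module.End.mul_apply, hcv w, map_smul, hcv z,
          smul_smul, mul_comm]
      exact smul_left_injective ℂ hv h1
    have hone : c 1 = 1 := by
      have h1 : c 1 • v = (1 : ℂ) • v := by
        rw [← hcv, OneMemClass.coe_one, map_one, Module.End.one_apply, one_smul]
      exact smul_left_injective ℂ hv h1
    let f : Subgroup.center G →* ℂ := ⟨⟨c, hone⟩, hmul⟩
    refine isCyclic_of_injective_ringHom f fun z w h => Subtype.ext (hinj ?_)
    rw [hc z, hc w]
    exact congrArg (· • LinearMap.id) h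
  · intro hcyc
    rcases subsingleton_or_nontrivial G with hS | hS
    · obtain ⟨n, ρ, hρ, -⟩ := CfsgLib.Characters.isIrr_one (G := G)
      exact ⟨n, ρ, hρ, Function.injective_of_subsingleton _⟩
    · haveI : Nontrivial (Subgroup.center G) := hG.center_nontrivial
      have hdvd : p ∣ Nat.card (Subgroup.center G) :=
        (hG.to_subgroup _).card_eq_or_dvd.resolve_left
          (Finite.one_lt_card_iff_nontrivial.2 inferInstance).ne'
      obtain ⟨z, hz⟩ := exists_prime_orderOf_dvd_card' p hdvd
      have hz1 : (z : G) ≠ 1 := fun h => by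
        rw [(Subtype.ext h : z = 1), orderOf_one] at hz
        exact (Fact.out : p.Prime).one_lt.ne hz
      have hnc : ¬ IsConj (z : G) 1 := fun h => hz1 (isConj_one_left.1 h)
      obtain ⟨χ, hχ⟩ : ∃ χ : Cfsg.IrrCharacter G, (χ : G → ℂ) (z : G) ≠ (χ : G → ℂ) 1 := by
        by_contra hcon
        push Not at hcon
        exact hnc (CfsgLib.Characters.isConj_of_irr_eq hcon)
      obtain ⟨n, ρ, hρ, hχρ⟩ := χ.2
      replace hχ : ρ.character (z : G) ≠ ρ.character 1 := hχρ.symm ▸ hχ
      refine ⟨n, ρ, hρ, fun x y hxy => ?_⟩
      let N : Subgroup G := (Representation.asGroupHom ρ).ker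
      have hN : ∀ g, g ∈ N ↔ ρ g = 1 := fun g => by
        simp [N, MonoidHom.mem_ker, Units.ext_iff, Representation.asGroupHom_apply]
      by_contra hne
      have hNbot : N ≠ ⊥ := fun h => hne <| by
        have : y⁻¹ * x ∈ N := by rw [hN, map_mul, hxy, ← map_mul, inv_mul_cancel, map_one]
        rw [h, Subgroup.mem_bot] at this
        exact (eq_of_inv_mul_eq_one this).symm
      haveI : Nontrivial N := (Subgroup.nontrivial_iff_ne_bot N).2 hNbot
      have hI := CfsgLib.BlocksCharsC.inf_center_ne_bot hG N
      set J : Subgroup (Subgroup.center G) := N.subgroupOf (Subgroup.center G) with hJ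
      obtain ⟨w, hw, hw1⟩ := CfsgLib.BlocksCharsC.exists_mem_ne_one hI
      haveI : Nontrivial J := ⟨⟨⟨w, hw.2⟩, hw.1⟩, 1, fun h => hw1 (congrArg
        (fun a : J => ((a : Subgroup.center G) : G)) h)⟩
      have hdJ : p ∣ Nat.card J :=
        ((hG.to_subgroup _).to_subgroup J).card_eq_or_dvd.resolve_left
          (Finite.one_lt_card_iff_nontrivial.2 inferInstance).ne'
      obtain ⟨u, hu⟩ := exists_prime_orderOf_dvd_card' p hdJ
      have hu' : orderOf (u : Subgroup.center G) = p := by rw [Subgroup.orderOf_coe]; exact hu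
      have hp0 : 0 < p := (Fact.out : p.Prime).pos
      have hsub : (Finset.range p).image (fun i => (u : Subgroup.center G) ^ i) ⊆
          Finset.univ.filter fun a : Subgroup.center G => a ^ p = 1 := fun a ha => by
        obtain ⟨i, -, rfl⟩ := Finset.mem_image.1 ha
        refine Finset.mem_filter.2 ⟨Finset.mem_univ _, ?_⟩
        rw [← pow_mul, mul_comm, pow_mul, ← hu', pow_orderOf_eq_one, one_pow]
      have hcard : p ≤ ((Finset.range p).image (fun i => (u : Subgroup.center G) ^ i)).card := by
        rw [Finset.card_image_of_injOn, Finset.card_range]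
        exact fun i hi j hj h => pow_injOn_Iio_orderOf (by simpa [hu'] using hi)
          (by simpa [hu'] using hj) h
      have heq := Finset.eq_of_subset_of_card_le hsub
        ((IsCyclic.card_pow_eq_one_le hp0).trans hcard)
      have hzmem : z ∈ Finset.univ.filter fun a : Subgroup.center G => a ^ p = 1 :=
        Finset.mem_filter.2 ⟨Finset.mem_univ _, by rw [← hz]; exact pow_orderOf_eq_one z⟩
      rw [← heq] at hzmem
      obtain ⟨i, -, rfl⟩ := Finset.mem_image.1 hzmem
      have hzN : (((u : Subgroup.center G) ^ i : Subgroup.center G) : G) ∈ N := by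
        rw [SubmonoidClass.coe_pow]
        exact N.pow_mem u.2 i
      exact hχ (by simp only [Representation.character, (hN _).1 hzN, map_one])

end Cfsg.Agent.S0184
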