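import Cfsg.Statements.S0185
import Cfsg.Agent.Characters.Linear
import Cfsg.Agent.Characters.Integrality
-- import your own Cfsg.Agent.* helpers here

set_option autoImplicit false
open Cfsg

namespace Cfsg.Agent.S0185

/-- If a finite group has a faithful complex representation of degree less than the smallest prime dividing its order, the group is abelian. -/
theorem result {G : Type*} [Group G] [Finite G] {V : Type*} [AddCommGroup V] [Module ℂ V] [FiniteDimensional ℂ V] (ρ : Representation ℂ G V) (hfaithful : Function.Injective ρ) (hdeg : ∀ p : ℕ, p.Prime → p ∣ Nat.card G → Module.finrank ℂ V < p) (a b : G) : a * b = b * a := by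
  classical
  haveI := Fintype.ofFinite G
  obtain ⟨m, hm⟩ := CfsgLib.Characters.exists_nat_coeff
    (CfsgLib.Characters.isCharacter_character ρ)
  choose d hdpos hd using fun χ : Cfsg.IrrCharacter G => CfsgLib.Characters.exists_degree_pos χ.2
  have hsum : Module.finrank ℂ V = ∑ χ, m χ * d χ := by
    apply Nat.cast_injective (R := ℂ)
    rw [← Representation.char_one ρ, hm, Finset.sum_apply]
    push_cast
    exact Finset.sum_congr rfl fun χ _ => by rw [Pi.smul_apply, smul_eq_mul, hd]
  have hlin : ∀ χ, m χ ≠ 0 → d χ = 1 := by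
    intro χ hχ
    by_contra hne
    obtain ⟨p, hp, hpd⟩ := Nat.exists_prime_and_dvd hne
    obtain ⟨n, σ, hσ, hσc⟩ := χ.2
    have hdn : d χ ∣ Nat.card G := by
      have h : (Module.finrank ℂ (Fin n → ℂ) : ℂ) = d χ := by
        rw [← Representation.char_one σ, hσc, hd]
      rw [← Nat.cast_inj.1 h]
      exact CfsgLib.Characters.finrank_dvd_card σ
    have h1 : d χ ≤ Module.finrank ℂ V := by
      rw [hsum]
      exact (Nat.le_mul_of_pos_left _ (Nat.pos_of_ne_zero hχ)).trans
        (Finset.single_le_sum (f := fun χ => m χ * d χ) (fun _ _ => Nat.zero_le _)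
          (Finset.mem_univ χ))
    have h2 := hdeg p hp (hpd.trans hdn)
    have h3 := Nat.le_of_dvd (hdpos χ) hpd
    omega
  have hker : ρ.character (a * b * a⁻¹ * b⁻¹) = (Module.finrank ℂ V : ℂ) := by
    rw [← Representation.char_one ρ, hm]
    simp only [Finset.sum_apply, Pi.smul_apply]
    refine Finset.sum_congr rfl fun χ _ => ?_
    by_cases hχ : m χ = 0
    · simp [hχ]
    obtain ⟨f, hf⟩ := CfsgLib.Characters.exists_hom_of_degree_one
      (CfsgLib.Characters.isCharacter_of_isIrr χ.2)
      (show (χ : G → ℂ) 1 = 1 by rw [hd, hlin χ hχ, Nat.cast_one])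
    have : f (a * b * a⁻¹ * b⁻¹) = 1 := by
      simp [map_mul, map_inv, mul_comm, mul_assoc]
    simp [hf, this]
  have h := (CfsgLib.Characters.char_eq_finrank_iff ρ _).1 hker
  have h' : a * b * a⁻¹ * b⁻¹ = 1 := hfaithful (h.trans (map_one ρ).symm)
  exact mul_inv_eq_iff_eq_mul.1 (mul_inv_eq_one.1 h')

end Cfsg.Agent.S0185
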