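import Cfsg.Statements.S0186
import Cfsg.Agent.Characters.Classes
import Cfsg.Agent.Characters.Linear
import Cfsg.Agent.Characters.Integrality
import Cfsg.Agent.Characters.Induction
-- import your own Cfsg.Agent.* helpers here

set_option autoImplicit false
open Cfsg

namespace Cfsg.Agent.S0186

/-- Let G be a finite simple group of order n and p a prime dividing n. If G has more than n / p^2 conjugacy classes, then every Sylow p-subgroup of G is abelian. -/
theorem result {G : Type*} [Group G] [Finite G] [IsSimpleGroup G] (p : ℕ) [Fact p.Prime] (hp : p ∣ Nat.card G) (hmany : Nat.card G < p ^ 2 * Nat.card (ConjClasses G)) (P : Sylow p G) (a b : G) (ha : a ∈ P) (hb : b ∈ P) : a * b = b * a := by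
  classical
  haveI : Fintype G := Fintype.ofFinite G
  haveI : Fintype P := Fintype.ofFinite P
  by_contra hab
  have hP : IsPGroup p (P : Subgroup G) := P.2
  obtain ⟨e, he⟩ := hP.exists_card_eq
  have he2 : 2 ≤ e := by
    by_contra hlt
    refine hab ?_
    have hc : IsCyclic (P : Subgroup G) := by
      rcases Nat.lt_or_ge e 1 with h | h
      · haveI : Subsingleton (P : Subgroup G) :=
          (Nat.card_eq_one_iff_unique.1 (by rw [he, Nat.lt_one_iff.1 h, pow_zero])).1
        infer_instance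
      · exact isCyclic_of_prime_card (p := p) (by rw [he, show e = 1 by omega, pow_one])
    obtain ⟨g, hg⟩ := hc.exists_generator
    obtain ⟨i, hi⟩ := Subgroup.mem_zpowers_iff.1 (hg ⟨a, ha⟩)
    obtain ⟨j, hj⟩ := Subgroup.mem_zpowers_iff.1 (hg ⟨b, hb⟩)
    have := (Commute.zpow_zpow_self g i j).eq
    rw [hi, hj] at this
    exact congrArg Subtype.val this
  choose d hd0 hd using fun ψ : Cfsg.IrrCharacter (P : Subgroup G) =>
    CfsgLib.Characters.exists_degree_pos ψ.2
  choose D hD0 hD using fun χ : Cfsg.IrrCharacter G => CfsgLib.Characters.exists_degree_pos χ.2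
  choose m hm using fun χ : Cfsg.IrrCharacter G => CfsgLib.Characters.exists_nat_coeff
    (CfsgLib.Characters.isCharacter_restrict (P : Subgroup G)
      (CfsgLib.Characters.isCharacter_of_isIrr χ.2))
  set L : Finset (Cfsg.IrrCharacter (P : Subgroup G)) := Finset.univ.filter fun ψ => d ψ = 1 with hL
  have hdp : ∀ ψ, d ψ = 1 ∨ (p ≤ d ψ ∧ p ^ 2 ∣ d ψ ^ 2) := fun ψ => by
    obtain ⟨n, ρ, hρ, hψ⟩ := ψ.2
    have h1 : d ψ = Module.finrank ℂ (Fin n → ℂ) := by
      have := (hd ψ).symm.trans ((congrFun hψ.symm 1).trans (Representation.char_one ρ))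
      exact_mod_cast this
    have h2 : d ψ ∣ p ^ e := he ▸ h1 ▸ CfsgLib.Characters.finrank_dvd_card ρ
    obtain ⟨i, -, hi⟩ := (Nat.dvd_prime_pow Fact.out).1 h2
    rcases Nat.eq_zero_or_pos i with h0 | h0
    · left; rw [hi, h0, pow_zero]
    · right
      have : p ∣ d ψ := hi ▸ dvd_pow_self p h0.ne'
      exact ⟨Nat.le_of_dvd (hd0 ψ) this, pow_dvd_pow_of_dvd this 2⟩
  have hsq : ∑ ψ, d ψ ^ 2 = p ^ e := by
    have h1 := CfsgLib.Characters.sum_degree_sq (G := (P : Subgroup G))
    rw [he] at h1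
    simp only [hd] at h1
    exact_mod_cast h1
  have hLp : p ^ 2 ∣ L.card := by
    have h1 := Finset.sum_filter_add_sum_filter_not Finset.univ (fun ψ => d ψ = 1)
      (fun ψ => d ψ ^ 2)
    rw [hsq, Finset.sum_congr rfl (fun ψ hψ => by
      rw [(Finset.mem_filter.1 hψ).2, one_pow]), Finset.sum_const, smul_eq_mul, mul_one] at h1
    have h2 : p ^ 2 ∣ ∑ ψ ∈ Finset.univ.filter (fun ψ => ¬ d ψ = 1), d ψ ^ 2 :=
      Finset.dvd_sum fun ψ hψ => ((hdp ψ).resolve_left (Finset.mem_filter.1 hψ).2).2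
    exact (Nat.dvd_add_left h2).1 (h1 ▸ pow_dvd_pow p he2)
  have hL0 : p ^ 2 ≤ L.card := by
    refine Nat.le_of_dvd ?_ hLp
    have h1 : d ⟨fun _ => 1, CfsgLib.Characters.isIrr_one⟩ = 1 := by
      have h2 : ((d ⟨fun _ => 1, CfsgLib.Characters.isIrr_one⟩ : ℕ) : ℂ) = 1 :=
        (hd ⟨fun _ => 1, CfsgLib.Characters.isIrr_one⟩).symm
      exact_mod_cast h2
    exact Finset.card_pos.2 ⟨_, Finset.mem_filter.2 ⟨Finset.mem_univ _, h1⟩⟩
  have hdeg : ∀ χ, D χ = ∑ ψ, m χ ψ * d ψ := fun χ => by
    have h1 := congrFun (hm χ) 1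
    simp only [Finset.sum_apply, Pi.smul_apply, smul_eq_mul, hd, OneMemClass.coe_one, hD] at h1
    exact_mod_cast h1
  set one' : Cfsg.IrrCharacter G := ⟨fun _ => 1, CfsgLib.Characters.isIrr_one⟩
  have hone : D one' = 1 := by
    have h2 : ((D one' : ℕ) : ℂ) = 1 := (hD one').symm
    exact_mod_cast h2
  have hnl : ∀ χ, χ ≠ one' → ∃ ψ, d ψ ≠ 1 ∧ m χ ψ ≠ 0 := by
    intro χ hχ
    by_contra hcon
    push Not at hcon
    obtain ⟨n, ρ, hρ, hχρ⟩ := χ.2
    let A : P := ⟨a, ha⟩
    let B : P := ⟨b, hb⟩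
    set c : P := A * B * A⁻¹ * B⁻¹ with hc
    have h1 : (χ : G → ℂ) (c : G) = (χ : G → ℂ) 1 := by
      have e1 := congrFun (hm χ) c
      have e2 := congrFun (hm χ) 1
      simp only [OneMemClass.coe_one] at e2
      rw [e1, e2]
      simp only [Finset.sum_apply, Pi.smul_apply, smul_eq_mul]
      refine Finset.sum_congr rfl fun ψ _ => ?_
      by_cases h : d ψ = 1
      · obtain ⟨f, hf⟩ := CfsgLib.Characters.exists_hom_of_degree_one
          (CfsgLib.Characters.isCharacter_of_isIrr ψ.2) (by rw [hd, h, Nat.cast_one])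
        rw [hf]
        simp only [hc, map_mul, map_inv, map_one]
        rw [mul_comm (f A) (f B), mul_assoc (f B), mul_inv_cancel, mul_one, mul_inv_cancel]
      · simp [hcon ψ h]
    rw [← hχρ] at h1
    have hker : ρ (c : G) = 1 := by
      have := (CfsgLib.Characters.char_eq_finrank_iff ρ (c : G)).1
        (h1.trans (Representation.char_one ρ))
      exact this
    have hc1 : (c : G) ≠ 1 := fun h => hab (by
      have h' : a * b * a⁻¹ * b⁻¹ = 1 := h
      exact mul_inv_eq_iff_eq_mul.1 (mul_inv_eq_one.1 h'))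
    have hmem : (c : G) ∈ (Representation.asGroupHom ρ).ker := by
      simp [MonoidHom.mem_ker, Units.ext_iff, Representation.asGroupHom_apply, hker]
    rcases IsSimpleGroup.eq_bot_or_eq_top_of_normal _
      (inferInstance : (Representation.asGroupHom ρ).ker.Normal) with h | h
    · rw [h, Subgroup.mem_bot] at hmem; exact hc1 hmem
    · refine hχ (Subtype.ext ?_)
      by_contra hne
      have h2 := CfsgLib.Characters.classInner_isIrr_ne χ.2 CfsgLib.Characters.isIrr_one hne
      have h3 : (χ : G → ℂ) = fun _ => (D χ : ℂ) := funext fun g => by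
        have hg : g ∈ (Representation.asGroupHom ρ).ker := h ▸ Subgroup.mem_top g
        simp [MonoidHom.mem_ker, Units.ext_iff, Representation.asGroupHom_apply] at hg
        rw [← hD, ← hχρ]
        simp only [Representation.character, hg, map_one]
      rw [h3] at h2
      have h4 : (D χ : ℂ) = 0 := by
        rw [show (fun _ : G => (D χ : ℂ)) = (D χ : ℂ) • (fun _ => (1 : ℂ)) from
          funext fun _ => (mul_one _).symm, CfsgLib.Characters.classInner_smul_left,
          CfsgLib.Characters.classInner_isIrr_self CfsgLib.Characters.isIrr_one, mul_one] at h2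
        exact h2
      exact (hD0 χ).ne' (by exact_mod_cast h4)
  have hbound : ∀ χ, χ ≠ one' → p ^ 2 + (∑ ψ ∈ L, m χ ψ) * D χ ≤ D χ ^ 2 := by
    intro χ hχ
    obtain ⟨ψ, hψ, hm0⟩ := hnl χ hχ
    have h1 : p + ∑ ψ ∈ L, m χ ψ ≤ D χ := by
      rw [hdeg, ← Finset.sum_filter_add_sum_filter_not Finset.univ (fun ψ => d ψ = 1),
        add_comm p]
      refine Nat.add_le_add (le_of_eq (Finset.sum_congr rfl fun φ hφ => by
        rw [(Finset.mem_filter.1 hφ).2, mul_one])) ?_
      refine le_trans ?_ (Finset.single_le_sum (fun _ _ => Nat.zero_le _)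
        (Finset.mem_filter.2 ⟨Finset.mem_univ ψ, hψ⟩))
      calc p ≤ d ψ := ((hdp ψ).resolve_left hψ).1
        _ ≤ m χ ψ * d ψ := Nat.le_mul_of_pos_left _ (Nat.pos_of_ne_zero hm0)
    nlinarith [Nat.mul_le_mul_right (D χ) h1, Nat.mul_le_mul_left p (le_trans (Nat.le_add_right p _) h1)]
  have hreg : ∑ χ : Cfsg.IrrCharacter G, (∑ ψ ∈ L, m χ ψ) * D χ * Nat.card (P : Subgroup G) =
      Nat.card G * L.card := by
    have key : ∀ ψ : Cfsg.IrrCharacter (P : Subgroup G), ψ ∈ L →
        ∑ χ : Cfsg.IrrCharacter G, (m χ ψ : ℂ) * D χ * Nat.card (P : Subgroup G) = Nat.card G := by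
      intro ψ hψ
      have hmψ : ∀ χ : Cfsg.IrrCharacter G, (m χ ψ : ℂ) = (Nat.card (P : Subgroup G) : ℂ)⁻¹ *
          ∑ x : (P : Subgroup G), (χ : G → ℂ) x * (starRingEnd ℂ) (ψ.1 x) := by
        intro χ
        have h1 : Cfsg.classInner (fun x : (P : Subgroup G) => (χ : G → ℂ) x)
            ψ.1 = (m χ ψ : ℂ) := by
          rw [hm χ, CfsgLib.Characters.classInner_irr_coeff]
        exact h1.symm
      calc ∑ χ : Cfsg.IrrCharacter G, (m χ ψ : ℂ) * D χ * Nat.card (P : Subgroup G)
          = ∑ χ : Cfsg.IrrCharacter G, ∑ x : (P : Subgroup G), (χ : G → ℂ) 1 * (χ : G → ℂ) x *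
              (starRingEnd ℂ) (ψ.1 x) := by
            refine Finset.sum_congr rfl fun χ _ => ?_
            rw [hmψ χ, mul_comm _ (D χ : ℂ), mul_assoc, mul_comm (_ * _) (Nat.card _ : ℂ),
              ← mul_assoc (Nat.card _ : ℂ), mul_inv_cancel₀ (CfsgLib.Characters.subgroup_card_ne_zero _),
              one_mul, Finset.mul_sum, hD]
            exact Finset.sum_congr rfl fun x _ => (mul_assoc _ _ _).symm
        _ = (Nat.card G : ℂ) := by
            rw [Finset.sum_comm]
            simp only [← Finset.sum_mul, CfsgLib.Characters.sum_degree_mul]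
            rw [Finset.sum_eq_single (1 : (P : Subgroup G)) (fun x _ hx => by
                rw [if_neg (fun h : (x : G) = 1 => hx (Subtype.ext h)), zero_mul])
              (fun h => absurd (Finset.mem_univ _) h), if_pos (OneMemClass.coe_one _), hd,
              (Finset.mem_filter.1 hψ).2, Nat.cast_one, map_one, mul_one]
    have h := Finset.sum_congr rfl key
    rw [Finset.sum_comm, Finset.sum_const, nsmul_eq_mul] at h
    have h' : ((∑ χ : Cfsg.IrrCharacter G, (∑ ψ ∈ L, m χ ψ) * D χ *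
        Nat.card (P : Subgroup G) : ℕ) : ℂ) = ((Nat.card G * L.card : ℕ) : ℂ) := by
      push_cast
      rw [mul_comm (Nat.card G : ℂ), ← h]
      exact Finset.sum_congr rfl fun χ _ => by simp only [Finset.sum_mul]
    exact_mod_cast h'
  rw [← Finset.sum_mul] at hreg
  have hone' : ∑ ψ ∈ L, m one' ψ ≤ 1 := by
    rw [← hone, hdeg]
    exact le_trans (Finset.sum_le_sum fun ψ _ => Nat.le_mul_of_pos_right _ (hd0 ψ))
      (Finset.sum_le_sum_of_subset (Finset.subset_univ L))
  have htot : ∑ χ, D χ ^ 2 = Nat.card G := by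
    have h1 := CfsgLib.Characters.sum_degree_sq (G := G)
    simp only [hD] at h1
    exact_mod_cast h1
  have hS : L.card ≤ ∑ χ : Cfsg.IrrCharacter G, (∑ ψ ∈ L, m χ ψ) * D χ := by
    have h1 := Subgroup.card_le_card_group (P : Subgroup G)
    have h2 : 0 < Nat.card (P : Subgroup G) := Nat.card_pos
    refine Nat.le_of_mul_le_mul_right ?_ h2
    rw [hreg, mul_comm (Nat.card G)]
    exact Nat.mul_le_mul_left _ h1
  rw [← Finset.add_sum_erase _ _ (Finset.mem_univ one'), hone, mul_one] at hS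
  rw [← Finset.add_sum_erase _ _ (Finset.mem_univ one'), hone, one_pow] at htot
  have h3 := Finset.sum_le_sum (s := Finset.univ.erase one') fun χ hχ =>
    hbound χ (Finset.ne_of_mem_erase hχ)
  rw [Finset.sum_add_distrib, Finset.sum_const, Finset.card_erase_of_mem (Finset.mem_univ _),
    smul_eq_mul, Finset.card_univ, ← Nat.card_eq_fintype_card,
    CfsgLib.Characters.card_irrCharacter] at h3
  have hk : 0 < Nat.card (ConjClasses G) := Nat.card_pos
  obtain ⟨k', hk'⟩ : ∃ k', Nat.card (ConjClasses G) = k' + 1 := ⟨_, (Nat.succ_pred_eq_of_pos hk).symm⟩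
  rw [hk', Nat.add_sub_cancel] at h3
  rw [hk'] at hmany
  nlinarith

end Cfsg.Agent.S0186
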