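import Cfsg.Statements.S0187
import Cfsg.Agent.Characters.Linear
-- import your own Cfsg.Agent.* helpers here

set_option autoImplicit false
open Cfsg

namespace Cfsg.Agent.S0187

/-- A finite group is commutative if and only if every irreducible complex character has degree 1. -/
theorem result {G : Type*} [Group G] [Finite G] : (∀ a b : G, a * b = b * a) ↔ ∀ χ : Cfsg.IrrCharacter G, (χ : G → ℂ) 1 = 1 := by
  haveI := Fintype.ofFinite G
  constructor
  · intro hc χ
    obtain ⟨n, ρ, hρ, hχ⟩ := χ.2
    haveI : IsMulCommutative G := ⟨⟨hc⟩⟩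
    have h1 := Representation.IsIrreducible.finrank_eq_one_of_isMulCommutative ρ
    rw [← hχ, Representation.char_one, h1, Nat.cast_one]
  · intro h a b
    suffices hb : (commutator G) = ⊥ by
      have : a * b * a⁻¹ * b⁻¹ ∈ commutator G :=
        Subgroup.commutator_mem_commutator (Subgroup.mem_top a) (Subgroup.mem_top b)
      rw [hb, Subgroup.mem_bot, mul_inv_eq_one, mul_inv_eq_iff_eq_mul] at this
      exact this
    have h1 := CfsgLib.Characters.card_linear_char (G := G)
    rw [Nat.card_congr (Equiv.subtypeUnivEquiv h)] at h1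
    have h2 := CfsgLib.Characters.sum_degree_sq (G := G)
    rw [Finset.sum_congr rfl fun (χ : Cfsg.IrrCharacter G) _ => show (χ : G → ℂ) 1 ^ 2 = 1 by rw [h χ, one_pow],
      Finset.sum_const, Finset.card_univ, nsmul_eq_mul, mul_one, ← Nat.card_eq_fintype_card,
      h1] at h2
    have h3 := Subgroup.index_mul_card (commutator G)
    have h4 : (commutator G).index = Nat.card G := by exact_mod_cast h2
    rw [h4] at h3
    exact Subgroup.eq_bot_of_card_eq _ (mul_eq_left₀ (Nat.card_pos.ne') |>.1 h3)

end Cfsg.Agent.S0187
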