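import Cfsg.Statements.S0191
import Cfsg.Agent.Characters.RepBasic
import Cfsg.Agent.Characters.Orthogonality
import Cfsg.Agent.GaloisAverage.Basic
-- import your own Cfsg.Agent.* helpers here

set_option autoImplicit false
open Cfsg

namespace Cfsg.Agent.S0191

/-- An irreducible complex representation of a finite group of degree greater than 1 has a character that vanishes somewhere. -/
theorem result {G : Type*} [Group G] [Finite G] {V : Type*} [AddCommGroup V] [Module ℂ V] [FiniteDimensional ℂ V] (ρ : Representation ℂ G V) [ρ.IsIrreducible] (hdeg : 1 < Module.finrank ℂ V) : ∃ g : G, ρ.character g = 0 := by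
  classical
  haveI := Fintype.ofFinite G
  by_contra hne
  push Not at hne
  have hχ := CfsgLib.Characters.isIrrCharacter_character ρ
  have h1 := CfsgLib.GaloisAverage.sum_normSq_irr (CfsgLib.Characters.classInner_isIrr_self hχ)
  have h2 := CfsgLib.GaloisAverage.card_le_sum_norm_pow_char
    (CfsgLib.Characters.isCharacter_character ρ) 2 (Finset.univ.erase (1 : G)) (fun g hg k hk => by
      refine Finset.mem_erase.2 ⟨fun he => (Finset.mem_erase.1 hg).1 ?_, Finset.mem_univ _⟩
      refine orderOf_eq_one_iff.1 (Nat.eq_one_of_dvd_coprimes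
        (CfsgLib.GaloisAverage.mem_totatives.1 hk).2 (orderOf_dvd_of_pow_eq_one he)
        (orderOf_dvd_natCard g))) (fun g _ => hne g)
  rw [← Finset.add_sum_erase _ _ (Finset.mem_univ (1 : G)), Representation.char_one,
    Complex.norm_natCast] at h1
  rw [Finset.card_erase_of_mem (Finset.mem_univ _), Finset.card_univ,
    ← Nat.card_eq_fintype_card, Nat.cast_sub Nat.card_pos, Nat.cast_one] at h2
  have h3 : (2 : ℝ) ≤ (Module.finrank ℂ V : ℝ) := by exact_mod_cast hdeg
  nlinarith

end Cfsg.Agent.S0191
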