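import Cfsg.Statements.S0192
import Cfsg.Agent.Characters.Linear
-- import your own Cfsg.Agent.* helpers here

set_option autoImplicit false
open Cfsg

namespace Cfsg.Agent.S0192

/-- Brauer's generation criterion. Let G be a finite simple group, H₁ and H₂ subgroups, and χ a non-principal irreducible character. If the multiplicity of the principal character in χ restricted to H₁ ⊓ H₂ is less than the sum of the corresponding multiplicities for H₁ and H₂, then H₁ and H₂ do not generate G. -/
theorem result {G : Type*} [Group G] [Fintype G] [IsSimpleGroup G] (H₁ H₂ : Subgroup G) [Fintype H₁] [Fintype H₂] [Fintype ↥(H₁ ⊓ H₂)] (χ : G → ℂ) (hχ : Cfsg.IsIrrCharacter G χ) (hχ1 : χ ≠ fun _ => 1) (hlt : (Cfsg.classInner (fun x : ↥(H₁ ⊓ H₂) => χ x) (fun _ => 1)).re < (Cfsg.classInner (fun x : H₁ => χ x) (fun _ => 1)).re + (Cfsg.classInner (fun x : H₂ => χ x) (fun _ => 1)).re) : H₁ ⊔ H₂ ≠ ⊤ := by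
  classical
  obtain ⟨n, ρ, hρ, rfl⟩ := hχ
  intro htop
  have hdim : ∀ (H : Subgroup G) [Fintype H],
      Cfsg.classInner (fun x : H => ρ.character x) (fun _ => 1) =
        (Module.finrank ℂ (Representation.invariants (ρ.comp H.subtype)) : ℂ) := by
    intro H _
    letI := invertibleOfNonzero (CfsgLib.Characters.natCard_ne_zero (G := H))
    rw [← Representation.card_inv_mul_sum_char_eq_finrank, Cfsg.classInner]
    simp only [map_one, mul_one]
    rfl
  rw [hdim, hdim, hdim, Complex.natCast_re, Complex.natCast_re, Complex.natCast_re] at hlt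
  set W₁ := Representation.invariants (ρ.comp H₁.subtype)
  set W₂ := Representation.invariants (ρ.comp H₂.subtype)
  set W := Representation.invariants (ρ.comp (H₁ ⊓ H₂).subtype)
  have hle : W₁ ⊔ W₂ ≤ W := sup_le
    (fun v hv x => hv ⟨x, (Subgroup.mem_inf.1 x.2).1⟩)
    (fun v hv x => hv ⟨x, (Subgroup.mem_inf.1 x.2).2⟩)
  have h1 := Submodule.finrank_sup_add_finrank_inf_eq W₁ W₂
  have h2 := Submodule.finrank_mono hle
  have hlt' : Module.finrank ℂ W < Module.finrank ℂ W₁ + Module.finrank ℂ W₂ := by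
    exact_mod_cast hlt
  have hpos : W₁ ⊓ W₂ ≠ ⊥ := fun h0 => by
    rw [h0, finrank_bot] at h1
    omega
  obtain ⟨v, hv, hv0⟩ := Submodule.exists_mem_ne_zero_of_ne_bot hpos
  let K : Subgroup G :=
    { carrier := {g | ρ g v = v}
      one_mem' := by simp
      mul_mem' := fun {a b} ha hb => by
        simp only [Set.mem_ofPred_eq] at ha hb ⊢
        rw [map_mul, Module.End.mul_apply, hb, ha]
      inv_mem' := fun {a} ha => by
        simp only [Set.mem_ofPred_eq] at ha ⊢
        conv_lhs => rw [← ha]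
        rw [← Module.End.mul_apply, ← map_mul, inv_mul_cancel, map_one, Module.End.one_apply] }
  have hK : ∀ g, ρ g v = v := fun g => by
    have hg : H₁ ⊔ H₂ ≤ K := sup_le (fun x hx => (Submodule.mem_inf.1 hv).1 ⟨x, hx⟩)
      (fun x hx => (Submodule.mem_inf.1 hv).2 ⟨x, hx⟩)
    exact hg (htop ▸ Subgroup.mem_top g)
  let S : Subrepresentation ρ := ⟨ℂ ∙ v, fun g x hx => by
    obtain ⟨c, rfl⟩ := Submodule.mem_span_singleton.1 hx
    rw [map_smul, hK]
    exact Submodule.smul_mem _ _ (Submodule.mem_span_singleton_self v)⟩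
  have hS : (ℂ ∙ v) = ⊤ := by
    rcases eq_bot_or_eq_top S with h | h
    · exact absurd (Submodule.span_singleton_eq_bot.1 (congrArg Subrepresentation.toSubmodule h)) hv0
    · exact congrArg Subrepresentation.toSubmodule h
  have hid : ∀ g, ρ g = LinearMap.id := fun g => by
    refine LinearMap.ext fun x => ?_
    obtain ⟨c, rfl⟩ := Submodule.mem_span_singleton.1 (hS ▸ Submodule.mem_top : x ∈ ℂ ∙ v)
    rw [map_smul, hK, LinearMap.id_apply]
  refine hχ1 (funext fun g => ?_)
  rw [Representation.character, hid, show (LinearMap.id : (Fin n → ℂ) →ₗ[ℂ] (Fin n → ℂ)) = 1 from rfl,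
    LinearMap.trace_one, ← finrank_top ℂ (Fin n → ℂ), ← hS, finrank_span_singleton hv0, Nat.cast_one]

end Cfsg.Agent.S0192
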