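import Cfsg.Statements.S0194
import Cfsg.Agent.Characters.FixedPoints
import Cfsg.Agent.Characters.Induction
import Cfsg.Agent.CharactersDeep.Clifford
-- import your own Cfsg.Agent.* helpers here

set_option autoImplicit false
open scoped ComplexConjugate
open Cfsg

namespace Cfsg.Agent.S0194

/-- Let G have odd order, H be a normal subgroup and θ a non-principal irreducible character of H. Then the function induced from θ is orthogonal to its complex conjugate. -/
theorem result {G : Type*} [Group G] [Fintype G] (hodd : Odd (Nat.card G)) (H : Subgroup G) [H.Normal] (θ : H → ℂ) (hθ : Cfsg.IsIrrCharacter H θ) (hθ1 : θ ≠ fun _ => 1) : Cfsg.classInner (fun g => conj (Cfsg.indFun H θ g)) (Cfsg.indFun H θ) = 0 := by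
  classical
  haveI := Fintype.ofFinite H
  have hθc := CfsgLib.Characters.isIrr_conj hθ
  have hind : (fun g => conj (Cfsg.indFun H θ g)) = Cfsg.indFun H (fun h => conj (θ h)) := by
    funext g
    simp only [Cfsg.indFun, map_mul, map_inv₀, Complex.conj_natCast, map_sum]
    congr 1
    refine Finset.sum_congr rfl fun x _ => ?_
    by_cases hx : x⁻¹ * g * x ∈ H
    · rw [CfsgLib.Characters.extendByZero_of_mem H _ hx,
        CfsgLib.Characters.extendByZero_of_mem H _ hx]
    · rw [CfsgLib.Characters.extendByZero_of_not_mem H _ hx,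
        CfsgLib.Characters.extendByZero_of_not_mem H _ hx, map_zero]
  have hres : (fun h : H => Cfsg.indFun H θ h) =
      (Nat.card H : ℂ)⁻¹ • ∑ g : G, CfsgLib.OddOrderChar.conjBy H θ g := by
    funext h
    rw [CfsgLib.OddOrderChar.indFun_normal_apply, Pi.smul_apply, Finset.sum_apply, smul_eq_mul]
  rw [hind, CfsgLib.Characters.classInner_indFun H _ (CfsgLib.Characters.isClassFunction_indFun H θ),
    hres, CfsgLib.Characters.classInner_smul_right, CfsgLib.Characters.classInner_sum_right,
    Finset.sum_eq_zero, mul_zero]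
  intro g _
  refine CfsgLib.Characters.classInner_isIrr_ne hθc
    (CfsgLib.CharactersDeep.Clifford.isIrr_conjBy H hθ g) fun he => ?_
  -- the square of `g` fixes `θ`, so `g` does
  have hconj : ∀ g' : G, CfsgLib.OddOrderChar.conjBy H (fun h => conj (θ h)) g' =
      fun h => conj (CfsgLib.OddOrderChar.conjBy H θ g' h) := fun g' => rfl
  have h2 : CfsgLib.OddOrderChar.conjBy H θ (g ^ 2) = θ := by
    rw [sq, ← CfsgLib.OddOrderChar.conjBy_mul, ← he, hconj, ← he]
    funext h
    exact Complex.conj_conj _
  have hpow : ∀ m : ℕ, CfsgLib.OddOrderChar.conjBy H θ ((g ^ 2) ^ m) = θ := by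
    intro m
    induction m with
    | zero => rw [pow_zero, CfsgLib.OddOrderChar.conjBy_one]
    | succ m ih => rw [pow_succ, ← CfsgLib.OddOrderChar.conjBy_mul, ih, h2]
  obtain ⟨m, hm⟩ := exists_pow_eq_self_of_coprime
    (Nat.coprime_two_left.2 (hodd.of_dvd_nat (orderOf_dvd_natCard g)) : Nat.Coprime 2 (orderOf g))
  have hfix := hpow m
  rw [hm, ← he] at hfix
  exact hθ1 (CfsgLib.Characters.eq_one_of_real_of_odd (hodd.of_dvd_nat (Subgroup.card_subgroup_dvd_card H))
    hθ fun h => Complex.conj_eq_iff_im.1 (congrFun hfix h))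

end Cfsg.Agent.S0194
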