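import Cfsg.Statements.S0196
import Mathlib.GroupTheory.GroupAction.Quotient
import Mathlib.GroupTheory.Subgroup.Centralizer
import Mathlib.GroupTheory.Index
import Mathlib.Tactic.Group
import Mathlib.Algebra.BigOperators.Ring.Finset
import Mathlib.SetTheory.Cardinal.Finite
-- import your own Cfsg.Agent.* helpers here

set_option autoImplicit false
open Cfsg

namespace Cfsg.Agent.S0196

/-- Let A be a subgroup of a finite group G that equals the centralizer of each of its non-identity elements, and let N be its normalizer. Then the index of A in N divides |A| − 1 (N/A permutes the non-identity elements of A in orbits of full length). -/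
theorem result {G : Type*} [Group G] [Finite G] (A : Subgroup G) (hA : ∀ x ∈ A, x ≠ 1 → Subgroup.centralizer ({x} : Set G) = A) : (A.subgroupOf (Subgroup.normalizer (A : Set G))).index ∣ Nat.card A - 1 := by
  classical
  haveI := Fintype.ofFinite G
  set N := Subgroup.normalizer (A : Set G)
  -- conjugation on the non-identity elements
  let S := {a : G // a ∈ A ∧ a ≠ 1}
  letI act : MulAction N S :=
    { smul := fun n a => ⟨(n : G) * a.1 * (n : G)⁻¹,
        (Subgroup.mem_normalizer_iff.1 n.2 a.1).1 a.2.1,
        fun h => a.2.2 (conj_eq_one_iff.1 h)⟩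
      one_smul := fun a => Subtype.ext (by
        change ((1 : N) : G) * a.1 * ((1 : N) : G)⁻¹ = a.1
        simp)
      mul_smul := fun m n a => Subtype.ext (by
        change ((m * n : N) : G) * a.1 * ((m * n : N) : G)⁻¹ = _
        simp only [Subgroup.coe_mul]
        change _ = (m : G) * ((n : G) * a.1 * (n : G)⁻¹) * (m : G)⁻¹
        group) }
  have hstab : ∀ a : S, MulAction.stabilizer N a = A.subgroupOf N := by
    intro a
    ext n
    rw [MulAction.mem_stabilizer_iff, Subgroup.mem_subgroupOf, ← hA a.1 a.2.1 a.2.2,
      Subgroup.mem_centralizer_singleton_iff, Subtype.ext_iff]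
    exact mul_inv_eq_iff_eq_mul
  have hcard : Nat.card S = Nat.card A - 1 := by
    have e : S ≃ {a : A // a ≠ 1} :=
      ⟨fun a => ⟨⟨a.1, a.2.1⟩, fun h => a.2.2 (congrArg Subtype.val h)⟩,
        fun a => ⟨a.1.1, a.1.2, fun h => a.2 (Subtype.ext h)⟩, fun _ => rfl, fun _ => rfl⟩
    rw [Nat.card_congr e, Nat.card_eq_fintype_card, Nat.card_eq_fintype_card,
      Fintype.card_subtype_compl, Fintype.card_subtype_eq]
  haveI := Fintype.ofFinite (MulAction.orbitRel.Quotient N S)
  refine hcard ▸ ?_
  rw [Nat.card_congr (MulAction.selfEquivSigmaOrbitsQuotientStabilizer N S), Nat.card_sigma]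
  refine Finset.dvd_sum fun ω _ => ?_
  rw [← Subgroup.index_eq_card, hstab]

end Cfsg.Agent.S0196
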