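import Cfsg.Statements.S0212
import Cfsg.Agent.Small.BrauerFowler

set_option autoImplicit false
open Cfsg

namespace Cfsg.Agent.S0212

/-- The Brauer–Fowler bound: if G is a finite simple group and t an involution of G whose centralizer has order n, then |G| ≤ (2n^2)!. -/
theorem result {G : Type*} [Group G] [Finite G] [IsSimpleGroup G] (t : G) (ht : orderOf t = 2) : Nat.card G ≤ Nat.factorial (2 * (Nat.card (Subgroup.centralizer ({t} : Set G))) ^ 2) := by
  classical
  haveI : Fact (Nat.Prime 2) := ⟨Nat.prime_two⟩
  set c := Nat.card (Subgroup.centralizer ({t} : Set G)) with hc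
  have hc0 : 0 < c := Nat.card_pos
  by_cases hG : IsMulCommutative G
  · have hp := CfsgLib.Small.card_prime_of_simple_comm hG
    have h2 : Nat.card G = 2 := ((Nat.prime_dvd_prime_iff_eq Nat.prime_two hp).1
      (ht ▸ orderOf_dvd_natCard t)).symm
    rw [h2]
    exact le_trans (by norm_num) (Nat.factorial_le (show 2 ≤ 2 * c ^ 2 by nlinarith))
  · have heven : Even (Nat.card G) := even_iff_two_dvd.2 (ht ▸ orderOf_dvd_natCard t)
    obtain ⟨H, hH, h⟩ := CfsgLib.Small.index_lt_centralizer_sq heven
      (by rw [CfsgLib.Small.center_eq_bot_of_simple hG, Subgroup.card_bot]; exact odd_one) ht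
    have hle : H.index ≤ 2 * c ^ 2 := by rcases h with h | h <;> nlinarith
    exact le_trans (Nat.le_of_dvd (Nat.factorial_pos _)
      (CfsgLib.Small.card_dvd_factorial_index H hH)) (Nat.factorial_le hle)

end Cfsg.Agent.S0212
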