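import Cfsg.Statements.S0214
import Cfsg.Agent.Small.StronglyEmbedded
import Cfsg.Agent.Small.BaerSuzuki

set_option autoImplicit false
open Cfsg

namespace Cfsg.Agent.S0214

/-- Let H be a proper subgroup of the finite group G and P a nontrivial Sylow 2-subgroup of H. Then H is strongly embedded in G if and only if N_G(X) ≤ H for every nontrivial subgroup X of P. -/
theorem result {G : Type*} [Group G] [Finite G] (H : Subgroup G) (hH : H ≠ ⊤) (P : Sylow 2 ↥H) (hP : (P : Subgroup ↥H) ≠ ⊥) : Cfsg.IsStronglyEmbedded H ↔ (∀ X : Subgroup ↥H, X ≤ (P : Subgroup ↥H) → X ≠ ⊥ → Subgroup.normalizer ((X.map H.subtype : Subgroup G) : Set G) ≤ H) := by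
  classical
  haveI : Fact (Nat.Prime 2) := ⟨Nat.prime_two⟩
  have heven : Even (Nat.card ↥H) := by
    obtain ⟨n, hn⟩ := IsPGroup.iff_card.1 P.isPGroup'
    have hn0 : n ≠ 0 := fun h0 => hP (Subgroup.eq_bot_of_card_eq _ (by rw [hn, h0, pow_zero]))
    exact even_iff_two_dvd.2 (dvd_trans (hn ▸ dvd_pow_self 2 hn0)
      (Subgroup.card_subgroup_dvd_card _))
  rw [CfsgLib.Small.isStronglyEmbedded_iff hH heven]
  constructor
  · intro h X hXP hX g hg
    obtain ⟨n, hn⟩ := IsPGroup.iff_card.1 (P.isPGroup'.to_le hXP)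
    have hn0 : n ≠ 0 := fun h0 => hX (Subgroup.eq_bot_of_card_eq _ (by rw [hn, h0, pow_zero]))
    obtain ⟨x, hx⟩ := exists_prime_orderOf_dvd_card' (G := X) 2 (hn ▸ dvd_pow_self 2 hn0)
    have hxG : orderOf ((x : ↥H) : G) = 2 := by
      rw [Subgroup.orderOf_coe, Subgroup.orderOf_coe, hx]
    have hgi : g⁻¹ * ((x : ↥H) : G) * g ∈ X.map H.subtype := by
      have := (Subgroup.mem_normalizer_iff.1 (inv_mem hg) ((x : ↥H) : G)).1 ⟨x, x.2, rfl⟩
      rwa [inv_inv] at this
    exact h _ (x : ↥H).2 hxG g (Subgroup.map_subtype_le X hgi)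
  · intro h t ht hto g hg
    -- normalisers of nontrivial 2-subgroups of `H` lie in `H`
    have key : ∀ R : Subgroup G, R ≤ H → IsPGroup 2 R → R ≠ ⊥ →
        Subgroup.normalizer (R : Set G) ≤ H := by
      intro R hRH hRp hR n hn
      obtain ⟨Q, hQ⟩ := (hRp.comap_of_injective H.subtype Subtype.val_injective).exists_le_sylow
      obtain ⟨a, ha⟩ := MulAction.exists_smul_eq ↥H Q P
      let X : Subgroup ↥H := (R.subgroupOf H).map (MulAut.conj a).toMonoidHom
      have hXP : X ≤ (P : Subgroup ↥H) := by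
        rintro _ ⟨r, hr, rfl⟩
        have hm : MulAut.conj a r ∈ a • (Q : Sylow 2 ↥H) := ⟨r, hQ hr, rfl⟩
        rw [ha] at hm
        exact hm
      have hX : X ≠ ⊥ := by
        rw [Ne, Subgroup.map_eq_bot_iff_of_injective _ (MulAut.conj a).injective,
          Subgroup.subgroupOf_eq_bot]
        exact fun hd => hR (disjoint_self.1 (hd.mono_right hRH))
      have hmapX : ∀ y : G, y ∈ X.map H.subtype ↔ (a : G)⁻¹ * y * a ∈ R := by
        intro y
        constructor
        · rintro ⟨_, ⟨r, hr, rfl⟩, rfl⟩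
          simpa [mul_assoc] using (Subgroup.mem_subgroupOf.1 hr)
        · intro hy
          exact ⟨_, ⟨⟨_, hRH hy⟩, hy, rfl⟩, by simp [mul_assoc]⟩
      have hcn : (a : G) * n * (a : G)⁻¹ ∈ Subgroup.normalizer ((X.map H.subtype : Subgroup G) : Set G) := by
        rw [Subgroup.mem_normalizer_iff]
        intro y
        rw [hmapX, hmapX, Subgroup.mem_normalizer_iff.1 hn ((a : G)⁻¹ * y * a)]
        simp [mul_assoc]
      simpa [mul_assoc] using mul_mem (mul_mem (inv_mem a.2) (h X hXP hX hcn)) a.2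
    by_contra hgH
    let K := H.map (MulAut.conj g).toMonoidHom
    let D := H ⊓ K
    have htD : t ∈ D := ⟨ht, ⟨g⁻¹ * t * g, hg, by simp [mul_assoc]⟩⟩
    obtain ⟨R₀⟩ : Nonempty (Sylow 2 ↥D) := inferInstance
    let R : Subgroup G := (R₀ : Subgroup ↥D).map D.subtype
    have hRp : IsPGroup 2 R := R₀.isPGroup'.map _
    have hRD : R ≤ D := Subgroup.map_subtype_le _
    have hR : R ≠ ⊥ := by
      rw [Ne, Subgroup.map_eq_bot_iff_of_injective _ D.subtype_injective]
      refine R₀.ne_bot_of_dvd_card ?_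
      exact hto ▸ Subgroup.orderOf_dvd_natCard D htD
    have hRH : R ≤ H := hRD.trans inf_le_left
    have hRK : R ≤ K := hRD.trans inf_le_right
    obtain ⟨S, hS⟩ := (hRp.comap_of_injective K.subtype Subtype.val_injective).exists_le_sylow
    let S' : Subgroup G := (S : Subgroup ↥K).map K.subtype
    have hS'p : IsPGroup 2 S' := S.isPGroup'.map _
    have hRS : R ≤ S' := fun r hr => ⟨⟨r, hRK hr⟩, hS hr, rfl⟩
    -- `R` is maximal among the 2-subgroups of `D`
    have hmaxR : ∀ U : Subgroup G, IsPGroup 2 U → U ≤ D → R ≤ U → U = R := by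
      intro U hU hUD hRU
      have h1 := R₀.is_maximal' (hU.comap_of_injective D.subtype Subtype.val_injective)
        (fun r hr => hRU ⟨r, hr, rfl⟩)
      refine le_antisymm (fun u hu => ?_) hRU
      exact ⟨⟨u, hUD hu⟩, h1 ▸ (show (⟨u, hUD hu⟩ : ↥D) ∈ U.comap D.subtype from hu), rfl⟩
    by_cases hRS' : R = S'
    · -- `g⁻¹ R g` and `R` are both Sylow subgroups of `H`
      have hcard : Nat.card R = Nat.card P := by
        rw [hRS', Nat.card_congr (Subgroup.equivMapOfInjective _ _ K.subtype_injective).symm.toEquiv]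
        show Nat.card S = Nat.card P
        rw [S.card_eq_multiplicity, P.card_eq_multiplicity,
          Nat.card_congr (H.equivMapOfInjective (MulAut.conj g).toMonoidHom
            (MulAut.conj g).injective).symm.toEquiv]
      let R' : Subgroup G := R.map (MulAut.conj g⁻¹).toMonoidHom
      have hR'H : R' ≤ H := by
        rintro _ ⟨r, hr, rfl⟩
        obtain ⟨y, hy, rfl⟩ := hRK hr
        simpa [mul_assoc] using hy
      have hsyl : ∀ U : Subgroup G, U ≤ H → Nat.card U = Nat.card P →
          ∃ Q : Sylow 2 ↥H, (Q : Subgroup ↥H) = U.subgroupOf H := by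
        intro U hU hc
        refine ⟨Sylow.ofCard _ ?_, Sylow.coe_ofCard _ _⟩
        rw [Nat.card_congr (Subgroup.subgroupOfEquivOfLe hU).toEquiv, hc, P.card_eq_multiplicity]
      obtain ⟨Q₁, hQ₁⟩ := hsyl R hRH hcard
      obtain ⟨Q₂, hQ₂⟩ := hsyl R' hR'H (by
        rw [← hcard]; exact Nat.card_congr (R.equivMapOfInjective _ (MulAut.conj g⁻¹).injective).symm.toEquiv)
      obtain ⟨a, ha⟩ := MulAction.exists_smul_eq ↥H Q₁ Q₂
      -- `a R a⁻¹ = g⁻¹ R g`
      have hga : g * a ∈ Subgroup.normalizer (R : Set G) := by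
        rw [Subgroup.mem_normalizer_iff]
        intro y
        have hfwd : ∀ r ∈ R, g * a * r * (g * a)⁻¹ ∈ R := by
          intro r hr
          have hm : MulAut.conj a (⟨r, hRH hr⟩ : ↥H) ∈ a • (Q₁ : Sylow 2 ↥H) :=
            ⟨⟨r, hRH hr⟩, (hQ₁.symm ▸ hr : (⟨r, hRH hr⟩ : ↥H) ∈ (Q₁ : Subgroup ↥H)), rfl⟩
          rw [ha] at hm
          have hm' : (a : G) * r * (a : G)⁻¹ ∈ R' := by
            have h2 : MulAut.conj a (⟨r, hRH hr⟩ : ↥H) ∈ R'.subgroupOf H := hQ₂ ▸ hm
            exact h2
          obtain ⟨y, hy, hye⟩ := hm'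
          have hy' : g * a * r * (g * a)⁻¹ = y := by
            calc g * a * r * (g * a)⁻¹ = g * ((a : G) * r * (a : G)⁻¹) * g⁻¹ := by group
              _ = y := by rw [← hye]; simp [mul_assoc]
          exact hy'.symm ▸ hy
        refine ⟨hfwd y, fun hy => ?_⟩
        -- injective map of the finite set `R` into itself
        let φ : R → R := fun r => ⟨g * a * r * (g * a)⁻¹, hfwd r r.2⟩
        have hφ : Function.Injective φ := fun p q hpq =>
          Subtype.ext (mul_left_cancel (mul_right_cancel (congrArg Subtype.val hpq :)))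
        obtain ⟨⟨r, hr⟩, hre⟩ := Finite.injective_iff_surjective.1 hφ ⟨_, hy⟩
        have : r = y := mul_left_cancel (mul_right_cancel (congrArg Subtype.val hre :))
        exact this ▸ hr
      refine hgH ?_
      have := mul_mem (key R hRH hRp hR hga) (inv_mem a.2)
      simpa [mul_assoc] using this
    · -- otherwise the normaliser in `S'` gives a larger 2-subgroup of `D`
      have hlt : R < S' := lt_of_le_of_ne hRS hRS'
      have hN : R < S' ⊓ Subgroup.normalizer (R : Set G) :=
        CfsgLib.Small.lt_inf_normalizer_of_pGroup hS'p hlt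
      refine hN.ne' (hmaxR _ (hS'p.to_le inf_le_left) ?_ hN.le)
      exact le_inf (inf_le_right.trans (key R hRH hRp hR))
        (inf_le_left.trans (Subgroup.map_subtype_le _))

end Cfsg.Agent.S0214
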