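import Cfsg.Statements.S0218
import Mathlib.GroupTheory.SpecificGroups.Quaternion
import Mathlib.Tactic

set_option autoImplicit false
open Cfsg

namespace Cfsg.Agent.S0218

/-- The generalized quaternion group of order 2^(n+3) contains exactly one element of order 2. -/
theorem result (n : ℕ) : Nat.card {x : QuaternionGroup (2 ^ (n + 1)) // orderOf x = 2} = 1 := by
  rw [Nat.card_eq_one_iff_unique]
  have hN : (2 * 2 ^ (n + 1)) = 2 ^ (n + 2) := by ring
  have key : ∀ x : QuaternionGroup (2 ^ (n + 1)), orderOf x = 2 →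
      x = QuaternionGroup.a ((2 ^ (n + 1) : ℕ) : ZMod (2 * 2 ^ (n + 1))) := by
    rintro (i | i) hx
    · haveI : NeZero (2 * 2 ^ (n + 1)) := ⟨by positivity⟩
      have h2 := pow_orderOf_eq_one (QuaternionGroup.a i)
      rw [hx, sq] at h2
      rw [QuaternionGroup.a_mul_a, QuaternionGroup.one_def, QuaternionGroup.a.injEq] at h2
      have hv := congrArg ZMod.val h2
      rw [ZMod.val_add, ZMod.val_zero] at hv
      have hi : i ≠ 0 := fun h => by rw [h, QuaternionGroup.a_zero, orderOf_one] at hx; omega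
      have hlt := ZMod.val_lt i
      have hpos : 0 < i.val := Nat.pos_of_ne_zero fun h => hi ((ZMod.val_eq_zero i).1 h)
      obtain ⟨c, hc⟩ := Nat.dvd_of_mod_eq_zero hv
      have hc1 : c = 1 := by
        rcases c with _ | _ | c
        · omega
        · rfl
        · nlinarith
      subst hc1
      have : i.val = 2 ^ (n + 1) := by omega
      rw [← ZMod.natCast_zmod_val i, this]
    · rw [QuaternionGroup.orderOf_xa] at hx
      omega
  refine ⟨⟨fun a b => Subtype.ext ((key a.1 a.2).trans (key b.1 b.2).symm)⟩,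
    ⟨⟨QuaternionGroup.a ((2 ^ (n + 1) : ℕ) : ZMod (2 * 2 ^ (n + 1))), ?_⟩⟩⟩
  haveI : NeZero (2 * 2 ^ (n + 1)) := ⟨by positivity⟩
  haveI : NeZero (2 ^ (n + 1)) := ⟨by positivity⟩
  rw [QuaternionGroup.orderOf_a, ZMod.val_natCast,
    Nat.mod_eq_of_lt (show 2 ^ (n + 1) < 2 * 2 ^ (n + 1) from lt_two_mul_self (by positivity)),
    Nat.gcd_eq_right (dvd_mul_left _ 2), Nat.mul_div_cancel _ (by positivity)]

end Cfsg.Agent.S0218
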