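import Cfsg.Statements.S0220
import Cfsg.Agent.S0219
import Cfsg.Agent.Small.Dihedral
import Mathlib.Tactic

set_option autoImplicit false
open Cfsg

namespace Cfsg.Agent.S0220

/-- The statement with the centraliser named. -/
theorem aux {G : Type*} [Group G] [Finite G] (x : G) (hx : orderOf x = 2) (C : Subgroup G)
    (hC : C = Subgroup.centralizer ({x} : Set G)) (S : Sylow 2 ↥C)
    (hS : IsCyclic (S : Subgroup ↥C)) : ∃ H : Subgroup G, H.index = 2 := by
  haveI : Fact (Nat.Prime 2) := ⟨Nat.prime_two⟩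
  have hmem : ∀ a ∈ C, a * x = x * a := fun a ha =>
    Subgroup.mem_centralizer_singleton_iff.1 (hC ▸ ha)
  obtain ⟨T, hT⟩ := (S.isPGroup'.map C.subtype).exists_le_sylow
  have heven : Even (Nat.card G) := even_iff_two_dvd.2 (hx ▸ orderOf_dvd_natCard x)
  have hxC : x ∈ C := hC ▸ Subgroup.mem_centralizer_singleton_iff.2 rfl
  -- `x` lies in `S`, which is normalised by `x`
  have hcomm : ∀ c : ↥C, Commute (⟨x, hxC⟩ : ↥C) c := fun c =>
    Subtype.ext (hmem c.1 c.2).symm
  have hxS : (⟨x, hxC⟩ : ↥C) ∈ (S : Subgroup ↥C) := by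
    have hN : (Subgroup.zpowers (⟨x, hxC⟩ : ↥C)).Normal := ⟨fun a ha g => by
      obtain ⟨k, rfl⟩ := ha
      simp only [← ((hcomm g).zpow_left k).eq, mul_inv_cancel_right]
      exact Subgroup.zpow_mem_zpowers _ k⟩
    refine (IsPGroup.of_card (n := 1) ?_).le_sylow_of_normal S (Subgroup.mem_zpowers _)
    rw [Nat.card_zpowers, Subgroup.orderOf_mk, hx, pow_one]
  have hxT : x ∈ (T : Subgroup G) := hT ⟨_, hxS, rfl⟩
  -- a central involution of `T` must be `x`
  haveI : Nontrivial ↥(T : Subgroup G) :=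
    ⟨⟨⟨x, hxT⟩, 1, fun h => CfsgLib.Small.ne_one_of_orderOf_two hx (congrArg Subtype.val h)⟩⟩
  have hZ : Nontrivial (Subgroup.center ↥(T : Subgroup G)) := T.isPGroup'.center_nontrivial
  obtain ⟨n, hn⟩ := IsPGroup.iff_card.1 (T.isPGroup'.to_subgroup (Subgroup.center _))
  have hn0 : n ≠ 0 := by
    rintro rfl
    rw [pow_zero] at hn
    exact absurd hn (Finite.one_lt_card).ne'
  obtain ⟨z, hz⟩ := exists_prime_orderOf_dvd_card' (G := Subgroup.center ↥(T : Subgroup G)) 2
    (hn ▸ dvd_pow_self 2 hn0)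
  have hz' : orderOf ((z : ↥(T : Subgroup G)) : G) = 2 := by
    rw [Subgroup.orderOf_coe, Subgroup.orderOf_coe]; exact hz
  have hzx : Commute ((z : ↥(T : Subgroup G)) : G) x :=
    congrArg Subtype.val (Subgroup.mem_center_iff.1 z.2 ⟨x, hxT⟩).symm
  -- `z` and `x` lie in one Sylow subgroup of `C`, hence are equal
  have hzC : ((z : ↥(T : Subgroup G)) : G) ∈ C :=
    hC ▸ Subgroup.mem_centralizer_singleton_iff.2 hzx.eq
  set w : ↥C := ⟨_, hzC⟩ with hwdef
  have hwo : orderOf w = 2 := by rw [hwdef, Subgroup.orderOf_mk, hz']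
  obtain ⟨S', hS'⟩ := (show IsPGroup 2 ↥(Subgroup.zpowers w) from
    IsPGroup.of_card (n := 1) (by rw [Nat.card_zpowers, hwo, pow_one])).exists_le_sylow
  obtain ⟨c, hc⟩ := MulAction.exists_smul_eq ↥C S' S
  have hcw : c * w * c⁻¹ ∈ (S : Subgroup ↥C) := by
    have h : MulAut.conj c w ∈ c • (S' : Sylow 2 ↥C) := ⟨w, hS' (Subgroup.mem_zpowers w), rfl⟩
    rw [hc] at h
    exact h
  have huniq : ∀ a b : ↥(S : Subgroup ↥C), orderOf a = 2 → orderOf b = 2 → a = b := by
    intro a b ha hb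
    classical
    haveI := Fintype.ofFinite ↥(S : Subgroup ↥C)
    have hdvd : 2 ∣ Fintype.card ↥(S : Subgroup ↥C) := by
      have h := orderOf_dvd_card (x := a)
      rwa [ha] at h
    have h1 := IsCyclic.card_orderOf_eq_totient (α := ↥(S : Subgroup ↥C)) hdvd
    rw [Nat.totient_two] at h1
    exact Finset.card_le_one.1 h1.le a (by simp [ha]) b (by simp [hb])
  have hsame : c * w * c⁻¹ = (⟨x, hxC⟩ : ↥C) := congrArg Subtype.val
    (huniq ⟨_, hcw⟩ ⟨_, hxS⟩
      (by rw [Subgroup.orderOf_mk, CfsgLib.Small.orderOf_conj_eq, hwo])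
      (by rw [Subgroup.orderOf_mk, Subgroup.orderOf_mk, hx]))
  have hwx : w = ⟨x, hxC⟩ :=
    calc w = c⁻¹ * (c * w * c⁻¹) * c := by group
      _ = c⁻¹ * (c * ⟨x, hxC⟩) := by rw [hsame, mul_assoc, (hcomm c).eq]
      _ = ⟨x, hxC⟩ := inv_mul_cancel_left _ _
  -- so `T` centralises `x`
  have hTC : (T : Subgroup G) ≤ C := by
    intro a ha
    rw [hC]
    refine Subgroup.mem_centralizer_singleton_iff.2 ?_
    have h := congrArg Subtype.val (Subgroup.mem_center_iff.1 z.2 ⟨a, ha⟩)
    have hzx' : ((z : ↥(T : Subgroup G)) : G) = x := congrArg Subtype.val hwx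
    simpa [hzx'] using h
  refine Cfsg.Agent.S0219.index_two_of_cyclic heven T ?_
  have hST : ((T : Subgroup G).subgroupOf C) = S :=
    S.is_maximal' (T.isPGroup'.comap_of_injective C.subtype Subtype.val_injective)
      (fun a ha => hT ⟨a, ha, rfl⟩)
  exact (Subgroup.subgroupOfEquivOfLe hTC).isCyclic.1 (hST.symm ▸ hS)

/-- If x is an involution of a finite group G and a Sylow 2-subgroup of the centralizer of x is cyclic, then G has a subgroup of index 2; in particular G is not simple unless it has order 2. -/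
theorem result {G : Type*} [Group G] [Finite G] (x : G) (hx : orderOf x = 2) (S : Sylow 2 ↥(Subgroup.centralizer ({x} : Set G))) (hS : IsCyclic (S : Subgroup ↥(Subgroup.centralizer ({x} : Set G)))) : ∃ H : Subgroup G, H.index = 2 := by
  exact aux x hx _ rfl S hS

end Cfsg.Agent.S0220
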