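import Cfsg.Statements.S0224
import Cfsg.Agent.Small.StronglyEmbedded

set_option autoImplicit false
open Cfsg

namespace Cfsg.Agent.S0224

/-- Let H be a proper subgroup of even order of the finite group G. Then H is strongly embedded if and only if each involution of H fixes exactly one point (namely the coset H) in the action of G on the cosets of H. -/
theorem result {G : Type*} [Group G] [Finite G] (H : Subgroup G) (hH : H ≠ ⊤) (heven : Even (Nat.card H)) : Cfsg.IsStronglyEmbedded H ↔ ∀ t ∈ H, orderOf t = 2 → Nat.card {c : G ⧸ H // t • c = c} = 1 := by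
  rw [CfsgLib.Small.isStronglyEmbedded_iff hH heven]
  refine forall₃_congr fun t ht ho => ?_
  have hfix : ∀ g : G, t • (g : G ⧸ H) = (g : G ⧸ H) ↔ g⁻¹ * t * g ∈ H := by
    intro g
    show ((t * g : G) : G ⧸ H) = _ ↔ _
    rw [eq_comm, QuotientGroup.eq, ← mul_assoc]
  have h0 : t • ((1 : G) : G ⧸ H) = ((1 : G) : G ⧸ H) := (hfix 1).2 (by simpa using ht)
  constructor
  · intro h
    rw [Nat.card_eq_one_iff_unique]
    refine ⟨⟨fun a b => Subtype.ext ?_⟩, ⟨⟨_, h0⟩⟩⟩
    have key : ∀ a : G ⧸ H, t • a = a → a = ((1 : G) : G ⧸ H) := by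
      intro a ha
      induction a using QuotientGroup.induction_on with
      | _ g => exact (QuotientGroup.eq.2 (by simpa using h g ((hfix g).1 ha))).symm
    exact (key a.1 a.2).trans (key b.1 b.2).symm
  · intro h g hg
    obtain ⟨hs, -⟩ := Nat.card_eq_one_iff_unique.1 h
    have := congrArg Subtype.val
      (hs.elim (⟨_, h0⟩ : {c : G ⧸ H // t • c = c}) ⟨_, (hfix g).2 hg⟩)
    simpa [QuotientGroup.eq] using this

end Cfsg.Agent.S0224
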