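import Cfsg.Statements.S0229
import Cfsg.Agent.Small.DihedralConj

set_option autoImplicit false
open Cfsg

namespace Cfsg.Agent.S0229

/-- Let t be an involution of a Sylow 2-subgroup S of a finite group G, conjugate in G to no other element of S, and let s be an involution of G not conjugate to t. Then the order of st is twice an odd number. -/
theorem result {G : Type*} [Group G] [Finite G] (S : Sylow 2 G) (t : G) (ht : orderOf t = 2) (htS : t ∈ S) (hiso : ∀ g : G, g * t * g⁻¹ ∈ S → g * t * g⁻¹ = t) (s : G) (hs : orderOf s = 2) (hns : ¬ IsConj s t) : orderOf (s * t) % 4 = 2 := by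
  have heven : Even (orderOf (t * s)) := by
    by_contra h
    obtain ⟨k, hk⟩ := CfsgLib.Small.conj_pow_eq_of_odd ht hs (Nat.not_even_iff_odd.1 h)
    exact hns (isConj_iff.2 ⟨_, hk⟩ : IsConj t s).symm
  have hcomm : orderOf (s * t) = orderOf (t * s) := by
    rw [← orderOf_inv, mul_inv_rev, CfsgLib.Small.inv_eq_self_of_orderOf_two ht,
      CfsgLib.Small.inv_eq_self_of_orderOf_two hs]
  obtain ⟨r, hr⟩ := heven
  by_contra h4
  obtain ⟨g, hc, hne⟩ := CfsgLib.Small.exists_commuting_conj ht hs ⟨r, hr⟩
    (Or.inl (by omega))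
  exact hne (CfsgLib.Small.isolated_eq_of_commute S ht htS hiso hc)

end Cfsg.Agent.S0229
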