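import Cfsg.Statements.S0230
import Cfsg.Agent.Small.Counting

set_option autoImplicit false
open Cfsg

namespace Cfsg.Agent.S0230

/-- Let G be a finite group with two non-conjugate involutions, and let t be an involution whose centralizer has maximal order among centralizers of involutions. Then |G| < |C_G(t)|^3. -/
theorem result {G : Type*} [Group G] [Finite G] (s t : G) (hs : orderOf s = 2) (ht : orderOf t = 2) (hnc : ¬ IsConj s t) (hmax : ∀ u : G, orderOf u = 2 → Nat.card (Subgroup.centralizer ({u} : Set G)) ≤ Nat.card (Subgroup.centralizer ({t} : Set G))) : Nat.card G < Nat.card (Subgroup.centralizer ({t} : Set G)) ^ 3 := by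
  classical
  set c := Nat.card (Subgroup.centralizer ({t} : Set G)) with hc
  have hord : ∀ a : G, IsConj s a → orderOf a = 2 := by
    intro a h
    obtain ⟨g, rfl⟩ := isConj_iff.1 h
    rw [CfsgLib.Small.orderOf_conj_eq, hs]
  have heven : ∀ u : G, IsConj s u → Even (orderOf (u * t)) := by
    intro u hu
    by_contra h
    obtain ⟨k, hk⟩ := CfsgLib.Small.conj_pow_eq_of_odd (hord u hu) ht (Nat.not_even_iff_odd.1 h)
    exact hnc (hu.trans (isConj_iff.2 ⟨_, hk⟩))
  have hmid : ∀ u : G, IsConj s u → ∃ z : G, orderOf z = 2 ∧ Commute z t ∧ Commute z u := by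
    intro u hu
    obtain ⟨h1, h2, h3⟩ := CfsgLib.Small.half_pow_spec (hord u hu) ht (heven u hu)
    exact ⟨_, h1, h3, h2⟩
  choose z hz hzt hzu using hmid
  let T := Σ w : {w : G // w ∈ Subgroup.centralizer ({t} : Set G) ∧ orderOf w = 2},
    {v : G // v ∈ Subgroup.centralizer ({w.1} : Set G) ∧ orderOf v = 2}
  let f : {u : G // IsConj s u} → T := fun u =>
    ⟨⟨z u.1 u.2, Subgroup.mem_centralizer_singleton_iff.2 (hzt u.1 u.2).eq, hz u.1 u.2⟩,
      ⟨u.1, Subgroup.mem_centralizer_singleton_iff.2 (hzu u.1 u.2).symm.eq, hord u.1 u.2⟩⟩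
  have hf : Function.Injective f := fun a b h =>
    Subtype.ext (congrArg (fun q : T => (q.2 : G)) h)
  have hlt : ∀ w : G, orderOf w = 2 →
      Nat.card {v : G // v ∈ Subgroup.centralizer ({w} : Set G) ∧ orderOf v = 2} ≤ c - 1 := by
    intro w hw
    have h1 : Nat.card (Option {v : G // v ∈ Subgroup.centralizer ({w} : Set G) ∧ orderOf v = 2})
        ≤ Nat.card (Subgroup.centralizer ({w} : Set G)) := by
      refine Nat.card_le_card_of_injective
        (fun o => o.elim 1 (fun v => ⟨v.1, v.2.1⟩)) ?_
      rintro (_ | a) (_ | b) h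
      · rfl
      · exact absurd (congrArg Subtype.val h).symm (CfsgLib.Small.ne_one_of_orderOf_two b.2.2)
      · exact absurd (congrArg Subtype.val h) (CfsgLib.Small.ne_one_of_orderOf_two a.2.2)
      · exact congrArg some (Subtype.ext (congrArg Subtype.val h :))
    rw [Finite.card_option] at h1
    have := hmax w hw
    omega
  haveI := Fintype.ofFinite {w : G // w ∈ Subgroup.centralizer ({t} : Set G) ∧ orderOf w = 2}
  have hT : Nat.card T ≤ (c - 1) * (c - 1) := by
    rw [Nat.card_sigma]
    refine le_trans (Finset.sum_le_sum fun w _ => hlt w.1 w.2.2) ?_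
    rw [Finset.sum_const, smul_eq_mul, Finset.card_univ, ← Nat.card_eq_fintype_card]
    exact Nat.mul_le_mul_right _ (hlt t ht)
  have hsc := CfsgLib.Small.card_conjugates_mul_card_centralizer (G := G) s
  have hle : Nat.card {u : G // IsConj s u} ≤ (c - 1) * (c - 1) :=
    le_trans (Nat.card_le_card_of_injective f hf) hT
  have hcpos : 0 < c := Nat.card_pos
  calc Nat.card G ≤ (c - 1) * (c - 1) * c := by
        rw [← hsc]; exact Nat.mul_le_mul hle (hmax s hs)
    _ < c * c * c := by
        refine Nat.mul_lt_mul_of_pos_right ?_ hcpos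
        exact Nat.mul_lt_mul_of_le_of_lt (by omega) (by omega) hcpos
    _ = c ^ 3 := by ring

end Cfsg.Agent.S0230
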