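import Cfsg.Statements.S0231
import Cfsg.Agent.Small.Counting
import Mathlib.GroupTheory.Sylow

set_option autoImplicit false
open scoped Pointwise
open Cfsg

namespace Cfsg.Agent.S0231

/-- Let T be a Sylow 2-subgroup of the finite group G which is not normal and which intersects every other Sylow 2-subgroup trivially. Then G has a single conjugacy class of involutions. -/
theorem result {G : Type*} [Group G] [Finite G] (T : Sylow 2 G) (hnn : ¬ (T : Subgroup G).Normal) (hTI : ∀ g : G, MulAut.conj g • (T : Subgroup G) ≠ T → MulAut.conj g • (T : Subgroup G) ⊓ T = ⊥) (s t : G) (hs : orderOf s = 2) (ht : orderOf t = 2) : IsConj s t := by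
  classical
  haveI : Fact (Nat.Prime 2) := ⟨Nat.prime_two⟩
  by_contra hnc
  -- two Sylow subgroups sharing a nontrivial element coincide
  have hTI' : ∀ (A B : Sylow 2 G) (z : G), z ∈ A → z ∈ B → z ≠ 1 → A = B := by
    intro A B z hA hB hz
    by_contra hne
    obtain ⟨a, rfl⟩ := MulAction.exists_smul_eq G T A
    obtain ⟨b, rfl⟩ := MulAction.exists_smul_eq G T B
    have hne' : MulAut.conj (b⁻¹ * a) • (T : Subgroup G) ≠ T := by
      intro h
      apply hne
      apply Sylow.ext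
      rw [Sylow.coe_subgroup_smul, Sylow.coe_subgroup_smul]
      conv_rhs => rw [← h, smul_smul, ← map_mul, mul_inv_cancel_left]
    have hb : b⁻¹ * z * b ∈ MulAut.conj (b⁻¹ * a) • (T : Subgroup G) ⊓ T := by
      constructor
      · obtain ⟨y, hy, rfl⟩ := hA
        exact ⟨y, hy, by simp [MulDistribMulAction.toMonoidEnd_apply, mul_assoc]⟩
      · obtain ⟨y, hy, rfl⟩ := hB
        have he : b⁻¹ * (b * y * b⁻¹) * b = y := by group
        exact he.symm ▸ hy
    rw [hTI _ hne', Subgroup.mem_bot] at hb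
    apply hz
    calc z = b * (b⁻¹ * z * b) * b⁻¹ := by group
      _ = 1 := by rw [hb]; group
  have hsyl : ∀ a : G, orderOf a = 2 → ∀ b : G, orderOf b = 2 → Commute a b →
      ∃ Q : Sylow 2 G, a ∈ Q ∧ b ∈ Q := by
    intro a ha b hb hc
    have hpa : IsPGroup 2 ↥(Subgroup.zpowers a) :=
      IsPGroup.of_card (n := 1) (by rw [Nat.card_zpowers, ha, pow_one])
    have hpb : IsPGroup 2 ↥(Subgroup.zpowers b) :=
      IsPGroup.of_card (n := 1) (by rw [Nat.card_zpowers, hb, pow_one])
    have hle : Subgroup.zpowers a ≤ Subgroup.normalizer (Subgroup.zpowers b : Set G) := by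
      refine le_trans ?_ (Subgroup.centralizer_le_normalizer _)
      rw [Subgroup.zpowers_le, Subgroup.mem_centralizer_iff]
      rintro _ ⟨k, rfl⟩
      exact ((hc.zpow_right k).eq).symm
    obtain ⟨Q, hQ⟩ := (IsPGroup.to_sup_of_normal_right' hpa hpb hle).exists_le_sylow
    exact ⟨Q, hQ (Subgroup.mem_sup_left (Subgroup.mem_zpowers a)),
      hQ (Subgroup.mem_sup_right (Subgroup.mem_zpowers b))⟩
  -- all conjugates of `t` share the Sylow subgroup of `s`
  have key : ∀ t' : G, IsConj t t' → ∃ Q : Sylow 2 G, s ∈ Q ∧ t' ∈ Q := by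
    intro t' ht'
    have hto : orderOf t' = 2 := by
      obtain ⟨g, rfl⟩ := isConj_iff.1 ht'
      rw [CfsgLib.Small.orderOf_conj_eq, ht]
    have heven : Even (orderOf (s * t')) := by
      by_contra h
      obtain ⟨k, hk⟩ := CfsgLib.Small.conj_pow_eq_of_odd hs hto (Nat.not_even_iff_odd.1 h)
      exact hnc ((isConj_iff.2 ⟨_, hk⟩ : IsConj s t').trans ht'.symm)
    obtain ⟨hz, hzs, hzt⟩ := CfsgLib.Small.half_pow_spec hs hto heven
    obtain ⟨Q, hQz, hQs⟩ := hsyl _ hz s hs hzs
    obtain ⟨R, hRz, hRt⟩ := hsyl _ hz t' hto hzt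
    obtain rfl := hTI' Q R _ hQz hRz (CfsgLib.Small.ne_one_of_orderOf_two hz)
    exact ⟨Q, hQs, hRt⟩
  obtain ⟨Q, hQs, hQt⟩ := key t (IsConj.refl t)
  have hall : ∀ g : G, g * t * g⁻¹ ∈ Q := by
    intro g
    obtain ⟨R, hRs, hRt⟩ := key _ (isConj_iff.2 ⟨g, rfl⟩)
    rw [hTI' Q R s hQs hRs (CfsgLib.Small.ne_one_of_orderOf_two hs)]
    exact hRt
  have hfix : ∀ g : G, g • Q = Q := fun g => by
    refine hTI' _ _ (g * t * g⁻¹) ?_ (hall g)
      (by rw [Ne, conj_eq_one_iff]; exact CfsgLib.Small.ne_one_of_orderOf_two ht)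
    exact ⟨t, hQt, rfl⟩
  apply hnn
  obtain ⟨c, rfl⟩ := MulAction.exists_smul_eq G Q T
  rw [hfix c]
  exact Subgroup.normalizer_eq_top_iff.1
    (top_le_iff.1 fun g _ => Sylow.smul_eq_iff_mem_normalizer.1 (hfix g))

end Cfsg.Agent.S0231
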