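import Cfsg.Statements.S0234
import Cfsg.Agent.Small.BrauerFowler
import Cfsg.Agent.Small.SylowArgs

set_option autoImplicit false
open Cfsg CfsgLib.Small

namespace Cfsg.Agent.S0234

/-- In a finite simple group G of even order greater than 2, the number n of involutions satisfies 3n < |G|. -/
theorem result {G : Type*} [Group G] [Finite G] [IsSimpleGroup G] (heven : Even (Nat.card G)) (hgt : 2 < Nat.card G) : 3 * Nat.card {t : G // orderOf t = 2} < Nat.card G := by
  classical
  have hG : ¬ IsMulCommutative G := by
    intro h
    have hp := card_prime_of_simple_comm h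
    rcases hp.eq_two_or_odd' with h2 | h2
    · omega
    · exact absurd heven (Nat.not_even_iff_odd.2 h2)
  have hZ : Odd (Nat.card (Subgroup.center G)) := by
    rw [center_eq_bot_of_simple hG, Subgroup.card_bot]; exact odd_one
  obtain ⟨H, hH, hB⟩ := brauerFowler_index heven hZ
  have hm3 : 2 < H.index := two_lt_index hG H hH
  have hdvd := two_mul_card_dvd_factorial_index hG H hH
  have hidx : H.index ∣ Nat.card G := H.index_dvd_card
  have h4 := four_dvd_card_of_simple hG (even_iff_two_dvd.1 heven)
  replace hB := hB.resolve_left (by omega)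
  set n := Nat.card {t : G // orderOf t = 2} with hn
  by_contra hcon
  push Not at hcon
  have hm : H.index ≤ 5 := by
    by_contra h6
    push Not at h6
    have h1 : 2 * H.index * n ^ 2 < 12 * n ^ 2 :=
      lt_of_lt_of_le hB (le_trans (Nat.mul_le_mul hcon (Nat.add_le_add_right hcon n))
        (le_of_eq (by ring)))
    nlinarith [Nat.mul_le_mul_right (n ^ 2) h6]
  rcases (show H.index = 3 ∨ H.index = 4 ∨ H.index = 5 by omega) with hi | hi | hi
  · rw [hi] at hdvd
    have h3 := Nat.le_of_dvd (by decide) hdvd
    rw [show Nat.factorial 3 = 6 from rfl] at h3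
    omega
  · rw [hi] at hdvd hidx
    rw [show Nat.factorial 4 = 2 * 12 from rfl] at hdvd
    have h12 : Nat.card G ∣ 12 := Nat.dvd_of_mul_dvd_mul_left two_pos hdvd
    have hle := Nat.le_of_dvd (by decide) h12
    rcases (show Nat.card G = 4 ∨ Nat.card G = 8 ∨ Nat.card G = 12 by omega) with h | h | h
    · haveI : Fact (Nat.Prime 2) := ⟨Nat.prime_two⟩
      exact not_isPGroup_of_simple hG 2 (IsPGroup.of_card (n := 2) h)
    · rw [h] at h12
      exact absurd h12 (by decide)
    · haveI : Fact (Nat.Prime 2) := ⟨Nat.prime_two⟩
      have hs := card_sylow_mem hG (p := 2) (k := 2) (m := 3) h two_ne_zero (by decide)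
      rw [show (Nat.divisors 3).filter (fun d => d % 2 = 1 ∧ d ≠ 1) = {3} by decide,
        Finset.mem_singleton] at hs
      have hf := two_mul_card_dvd_factorial_sylow hG (p := 2) (by rw [h]; decide)
      rw [hs, h] at hf
      exact absurd hf (by decide)
  · rw [hi] at hdvd hidx
    rw [show Nat.factorial 5 = 2 * 60 from rfl] at hdvd
    have h60 : Nat.card G ∣ 60 := Nat.dvd_of_mul_dvd_mul_left two_pos hdvd
    have hle := Nat.le_of_dvd (by decide) h60
    rcases (show Nat.card G = 20 ∨ Nat.card G = 40 ∨ Nat.card G = 60 by omega) with h | h | h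
    · haveI : Fact (Nat.Prime 5) := ⟨by decide⟩
      have hs := card_sylow_mem hG (p := 5) (k := 1) (m := 4) h one_ne_zero (by decide)
      rw [show (Nat.divisors 4).filter (fun d => d % 5 = 1 ∧ d ≠ 1) = ∅ by decide] at hs
      exact absurd hs (Finset.notMem_empty _)
    · rw [h] at h60
      exact absurd h60 (by decide)
    · obtain ⟨g, hg⟩ : ∃ g : G →* ↥(alternatingGroup (Fin 5)), Function.Injective g := by
        have h5 := exists_hom_alternatingGroup hG H hH
        rwa [hi] at h5
      have hA : Nat.card ↥(alternatingGroup (Fin 5)) = 60 := by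
        have := two_mul_nat_card_alternatingGroup (α := Fin 5)
        rw [Nat.card_perm, Nat.card_fin] at this
        rw [show Nat.factorial 5 = 2 * 60 from rfl] at this
        omega
      have hbij : Function.Bijective g :=
        (Nat.bijective_iff_injective_and_card g).2 ⟨hg, by rw [hA, h]⟩
      let e := MulEquiv.ofBijective g hbij
      have hcount : Nat.card {t : G // orderOf t = 2}
          = Nat.card {t : ↥(alternatingGroup (Fin 5)) // t ≠ 1 ∧ t * t = 1} :=
        Nat.card_congr (e.toEquiv.subtypeEquiv fun a => by
          rw [← orderOf_eq_two_iff_sq]; exact (by rw [MulEquiv.orderOf_eq] : _ ↔ orderOf (e a) = 2))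
      rw [← hn, Nat.card_eq_fintype_card,
        show Fintype.card {t : ↥(alternatingGroup (Fin 5)) // t ≠ 1 ∧ t * t = 1} = 15 by
          decide +kernel] at hcount
      omega

end Cfsg.Agent.S0234
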