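import Cfsg.Statements.S0236
import Cfsg.Agent.Small.Counting

set_option autoImplicit false
open Cfsg

namespace Cfsg.Agent.S0236

/-- If x is an involution, the number of ordered pairs (u, v) of involutions with uv = x, plus one, equals the number of involutions in the centralizer of x. -/
theorem result {G : Type*} [Group G] [Finite G] (x : G) (hx : orderOf x = 2) : Nat.card {p : G × G // orderOf p.1 = 2 ∧ orderOf p.2 = 2 ∧ p.1 * p.2 = x} + 1 = Nat.card {t : G // orderOf t = 2 ∧ Commute t x} := by
  classical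
  rw [Nat.card_congr (CfsgLib.Small.involPairEquiv x)]
  have hiff : ∀ t : G, t * x * t⁻¹ = x⁻¹ ↔ Commute t x := by
    intro t
    rw [CfsgLib.Small.inv_eq_self_of_orderOf_two hx, mul_inv_eq_iff_eq_mul]; rfl
  have e1 : Nat.card {t : G // orderOf t = 2 ∧ Commute t x}
      = Nat.card ({t : G // orderOf t = 2 ∧ t * x * t⁻¹ = x⁻¹ ∧ t ≠ x} ⊕ {t : G // t = x}) := by
    refine Nat.card_congr ((Equiv.subtypeEquivRight fun t => ?_).trans (subtypeOrEquiv _ _ ?_))
    · constructor
      · rintro ⟨h1, h2⟩
        by_cases he : t = x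
        · exact Or.inr he
        · exact Or.inl ⟨h1, (hiff t).2 h2, he⟩
      · rintro (⟨h1, h2, -⟩ | rfl)
        · exact ⟨h1, (hiff t).1 h2⟩
        · exact ⟨hx, Commute.refl _⟩
    · rw [disjoint_iff_inf_le]
      rintro t ⟨⟨-, -, h⟩, h'⟩
      exact h h'
  rw [e1, Nat.card_sum, Nat.card_unique (α := {t : G // t = x})]

end Cfsg.Agent.S0236
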