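import Cfsg.Statements.S0240
import Cfsg.Agent.Small.Counting

set_option autoImplicit false
open Cfsg

namespace Cfsg.Agent.S0240

/-- Let G be a finite group with n involutions and H a subgroup with |H|·(n+1) > |G|. Then some nontrivial h ∈ H is strongly real in G: an involution t of G satisfies t h t⁻¹ = h⁻¹. -/
theorem result {G : Type*} [Group G] [Finite G] (H : Subgroup G) (hH : Nat.card G < Nat.card H * (Nat.card {t : G // orderOf t = 2} + 1)) : ∃ h : G, h ∈ H ∧ h ≠ 1 ∧ ∃ t : G, orderOf t = 2 ∧ t * h * t⁻¹ = h⁻¹ := by
  classical
  by_contra hcon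
  push Not at hcon
  haveI := Fintype.ofFinite G
  let f : Option {t : G // orderOf t = 2} → G ⧸ H := fun o =>
    ((o.map Subtype.val).getD 1 : G)
  have hf : Function.Injective f := by
    intro a b hab
    have hab' := QuotientGroup.eq.1 hab
    rcases a with _ | ⟨u, hu⟩ <;> rcases b with _ | ⟨v, hv⟩
    · rfl
    · exfalso
      simp only [Option.map_none, Option.map_some, Option.getD_none, Option.getD_some, inv_one,
        one_mul] at hab'
      exact hcon v hab' (CfsgLib.Small.ne_one_of_orderOf_two hv) v hv
        (by rw [mul_inv_cancel_right, CfsgLib.Small.inv_eq_self_of_orderOf_two hv])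
    · exfalso
      simp only [Option.map_none, Option.map_some, Option.getD_none, Option.getD_some,
        mul_one, CfsgLib.Small.inv_eq_self_of_orderOf_two hu] at hab'
      exact hcon u hab' (CfsgLib.Small.ne_one_of_orderOf_two hu) u hu
        (by rw [mul_inv_cancel_right, CfsgLib.Small.inv_eq_self_of_orderOf_two hu])
    · simp only [Option.map_some, Option.getD_some,
        CfsgLib.Small.inv_eq_self_of_orderOf_two hu] at hab'
      by_contra hne
      refine hcon (u * v) hab' (fun h => hne ?_) u hu (CfsgLib.Small.invol_conj_mul hu hv)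
      have : v = u := by
        rw [eq_inv_of_mul_eq_one_right h, CfsgLib.Small.inv_eq_self_of_orderOf_two hu]
      subst this; rfl
  have h1 := Nat.card_le_card_of_injective f hf
  rw [Finite.card_option, ← Subgroup.index_eq_card] at h1
  have h2 := Nat.mul_le_mul_left (Nat.card H) h1
  rw [Subgroup.card_mul_index] at h2
  omega

end Cfsg.Agent.S0240
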