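import Cfsg.Statements.S0256
import Cfsg.Agent.GLFourTwo.Iso

set_option autoImplicit false
open Cfsg

namespace Cfsg.Agent.S0256

/-- PSL_4(2) is isomorphic to A_8. -/
theorem result {F : Type*} [Field F] [Fintype F] (hF : Fintype.card F = 2) : Nonempty (Matrix.ProjectiveSpecialLinearGroup (Fin 4) F ≃* alternatingGroup (Fin 8)) := by
  haveI : Fact (Nat.Prime 2) := ⟨Nat.prime_two⟩
  have hc : Subgroup.center (Matrix.SpecialLinearGroup (Fin 4) F) = ⊥ := by
    rw [← Subgroup.card_eq_one, CfsgLib.Linear.card_center_SL, hF]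
    simp
  let σ : F ≃+* ZMod 2 := (ZMod.ringEquivOfPrime F Nat.prime_two hF).symm
  let e : Matrix.SpecialLinearGroup (Fin 4) F ≃* Matrix.SpecialLinearGroup (Fin 4) (ZMod 2) :=
    { Matrix.SpecialLinearGroup.map σ.toRingHom with
      invFun := Matrix.SpecialLinearGroup.map σ.symm.toRingHom
      left_inv := fun g => Matrix.SpecialLinearGroup.ext _ _ fun i j => by simp
      right_inv := fun g => Matrix.SpecialLinearGroup.ext _ _ fun i j => by simp }
  exact ⟨((QuotientGroup.quotientMulEquivOfEq hc).trans QuotientGroup.quotientBot).trans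
    (e.trans CfsgLib.GLFourTwo.equivAlt)⟩

end Cfsg.Agent.S0256
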