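import Cfsg.Statements.S0257
import Mathlib
import Cfsg.Agent.Linear.SL2Sylow

set_option autoImplicit false
open Cfsg

namespace Cfsg.Agent.S0257

/-- SL_2(3) has a normal subgroup of index 3 isomorphic to the quaternion group of order 8, and its centre has order 2. -/
theorem result {F : Type*} [Field F] [Fintype F] (hF : Fintype.card F = 3) : (∃ Q : Subgroup (Matrix.SpecialLinearGroup (Fin 2) F), Q.Normal ∧ Q.index = 3 ∧ Nonempty (Q ≃* QuaternionGroup 2)) ∧ Nat.card (Subgroup.center (Matrix.SpecialLinearGroup (Fin 2) F)) = 2 := by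
  classical
  obtain ⟨e⟩ : Nonempty (F ≃+* ZMod 3) :=
    ⟨FiniteField.ringEquivOfCardEq (by rw [hF, ZMod.card])⟩
  let E := CfsgLib.Linear.slMapEquiv (n := Fin 2) e
  have h8 : Fintype.card {g : Matrix.SpecialLinearGroup (Fin 2) (ZMod 3) // g ^ 4 = 1} = 8 := by
    decide +kernel
  have hcardF : Nat.card {g : Matrix.SpecialLinearGroup (Fin 2) F // g ^ 4 = 1} = 8 := by
    rw [← h8, ← Nat.card_eq_fintype_card]
    refine Nat.card_congr (E.toEquiv.subtypeEquiv fun g => ?_)
    change g ^ 4 = 1 ↔ (E g) ^ 4 = 1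
    rw [← map_pow, EmbeddingLike.map_eq_one_iff]
  have hodd : Odd (Fintype.card F) := by rw [hF]; decide
  obtain ⟨P⟩ : Nonempty (Sylow 2 (Matrix.SpecialLinearGroup (Fin 2) F)) := inferInstance
  have : Fact (Nat.Prime 2) := ⟨Nat.prime_two⟩
  have hG : Nat.card (Matrix.SpecialLinearGroup (Fin 2) F) = 24 := by
    rw [CfsgLib.Linear.card_SL_two, hF]; norm_num
  have hP : Nat.card (P : Subgroup (Matrix.SpecialLinearGroup (Fin 2) F)) = 2 ^ 3 :=
    CfsgLib.Linear.card_sylow_of_card_eq 2 (k := 3) (r := 3) (by rw [hG]; norm_num) (by norm_num) P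
  obtain ⟨k, hk, ⟨f⟩⟩ := CfsgLib.Linear.sylow_two_quaternion hodd P
  have hk1 : k = 1 := by
    have h := Nat.card_congr f.toEquiv
    rw [hP, Nat.card_eq_fintype_card, QuaternionGroup.card] at h
    have h2 : 2 ^ k = 2 ^ 1 := by omega
    exact Nat.pow_right_injective le_rfl h2
  subst hk1
  have hmem : ∀ g, g ∈ (P : Subgroup (Matrix.SpecialLinearGroup (Fin 2) F)) ↔ g ^ 4 = 1 := by
    have hsub : ∀ g ∈ (P : Subgroup (Matrix.SpecialLinearGroup (Fin 2) F)), g ^ 4 = 1 := by
      intro g hg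
      have : (f ⟨g, hg⟩) ^ 4 = 1 :=
        (by decide : ∀ x : QuaternionGroup 2, x ^ 4 = 1) _
      rw [← map_pow, EmbeddingLike.map_eq_one_iff] at this
      exact congrArg Subtype.val this
    have he := Set.eq_of_subset_of_ncard_le (s := (P : Set (Matrix.SpecialLinearGroup (Fin 2) F)))
      (t := {g | g ^ 4 = 1}) hsub (by
        rw [← Nat.card_coe_set_eq, ← Nat.card_coe_set_eq]
        exact (hcardF.trans hP.symm).le) (Set.toFinite _)
    exact fun g => Set.ext_iff.1 he g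
  refine ⟨⟨P, ⟨fun n hn g => ?_⟩, ?_, ⟨f⟩⟩, ?_⟩
  · rw [hmem] at hn ⊢
    rw [conj_pow, hn, mul_one, mul_inv_cancel]
  · have h := (P : Subgroup (Matrix.SpecialLinearGroup (Fin 2) F)).card_mul_index
    rw [hP, hG] at h
    omega
  · rw [CfsgLib.Linear.card_center_SL, Fintype.card_fin, hF]; rfl

end Cfsg.Agent.S0257
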