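import Cfsg.Statements.S0274
import Cfsg.Agent.PLocal.TwoTransvection

set_option autoImplicit false
open Cfsg

namespace Cfsg.Agent.S0274

/-- Dickson's Theorem for SL_2: if p is odd and H is a subgroup of SL_2(q), q a power of p, with more than one Sylow p-subgroup, then H contains a copy of SL_2(p). -/
theorem result {F : Type*} [Field F] [Fintype F] (p : ℕ) [Fact p.Prime] [CharP F p] (hp : p ≠ 2) (H : Subgroup (Matrix.SpecialLinearGroup (Fin 2) F)) (hH : 1 < Nat.card (Sylow p H)) : ∃ K : Subgroup (Matrix.SpecialLinearGroup (Fin 2) F), K ≤ H ∧ Nonempty (K ≃* Matrix.SpecialLinearGroup (Fin 2) (ZMod p)) := by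
  open CfsgLib.PLocal.SL2 in
  obtain ⟨P₁, P₂, hne⟩ := (Finite.one_lt_card_iff_nontrivial.1 hH).exists_pair_ne
  have key : ∃ u ∈ (P₁ : Subgroup H), ∃ v ∈ (P₂ : Subgroup H), ¬ Commute u v := by
    by_contra h
    push Not at h
    have hle : (P₂ : Subgroup H) ≤ Subgroup.normalizer ((P₁ : Subgroup H) : Set H) := by
      refine le_trans (fun v hv => ?_) (Subgroup.centralizer_le_normalizer ((P₁ : Subgroup H) : Set H))
      exact Subgroup.mem_centralizer_iff.2 fun u hu => h u hu v hv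
    have hp' : IsPGroup p ↥((P₁ : Subgroup H) ⊔ (P₂ : Subgroup H)) :=
      P₁.2.to_sup_of_normal_left' P₂.2 hle
    have h1 := P₁.3 hp' le_sup_left
    have h2 : (P₂ : Subgroup H) ≤ (P₁ : Subgroup H) := le_sup_right.trans h1.le
    exact hne (Sylow.ext (P₂.3 P₁.2 h2))
  obtain ⟨u, hu, v, hv, huv⟩ := key
  have htr : ∀ (P : Sylow p H) (x : H), x ∈ (P : Subgroup H) →
      CfsgLib.PLocal.SL2.tr (x : Matrix.SpecialLinearGroup (Fin 2) F) = 2 := by
    intro P x hx
    obtain ⟨k, hk⟩ := P.2 ⟨x, hx⟩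
    have hk' : ((x : Matrix.SpecialLinearGroup (Fin 2) F) : Matrix (Fin 2) (Fin 2) F) ^ p ^ k = 1 := by
      have := congrArg (fun y : ↥(P : Subgroup H) =>
        (((y : H) : Matrix.SpecialLinearGroup (Fin 2) F) : Matrix (Fin 2) (Fin 2) F)) hk
      simpa using this
    set M := ((x : Matrix.SpecialLinearGroup (Fin 2) F) : Matrix (Fin 2) (Fin 2) F) with hM
    have hnil : IsNilpotent (M - 1) := ⟨p ^ k, by
      rw [sub_pow_char_pow_of_commute p k (Commute.one_right M), hk', one_pow, sub_self]⟩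
    have := (Matrix.isNilpotent_trace_of_isNilpotent hnil).eq_zero
    rw [Matrix.trace_sub, Matrix.trace_one, Fintype.card_fin, sub_eq_zero] at this
    rw [CfsgLib.PLocal.SL2.tr_eq]
    exact_mod_cast this
  obtain ⟨f, hf, hfH⟩ := CfsgLib.PLocal.SL2.exists_sl2_zmod_hom (p := p) hp H u.2 v.2
    (htr P₁ u hu) (htr P₂ v hv) (fun h => huv (Subtype.ext h))
  exact ⟨f.range, hfH, ⟨(MonoidHom.ofInjective hf).symm⟩⟩

end Cfsg.Agent.S0274
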