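import Cfsg.Statements.S0285
import Cfsg.Agent.Forms4.UnitaryCenter

set_option autoImplicit false
open Cfsg

namespace Cfsg.Agent.S0285

/-- The standard Hermitian form on F^n, |F| = q^2, has exactly (q^n - (-1)^n)(q^(n-1) + (-1)^n) non-zero isotropic vectors; counting the zero vector too: -/
theorem result {F : Type*} [Field F] [Fintype F] {q : ℕ} (hF : Fintype.card F = q ^ 2) (n : ℕ) : Nat.card {v : Fin n → F // Cfsg.hermForm n F q v v = 0} = (if Even n then (q ^ n - 1) * (q ^ (n - 1) + 1) else (q ^ n + 1) * (q ^ (n - 1) - 1)) + 1 := by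
  obtain ⟨σ, hσ, hσ2⟩ := CfsgLib.FieldEmb.exists_conj hF
  simp only [CfsgLib.Forms.hermForm_eq_hermSesq hσ]
  rw [CfsgLib.Forms.card_isotropic hF hσ hσ2 _ (CfsgLib.Forms.hermSesq_isSymm hσ2 _)
    (CfsgLib.Forms.hermSesq_sep _) (Module.finrank_fin_fun F)]
  rcases n with _ | n
  · simp [CfsgLib.Forms.u]
  · simp only [CfsgLib.Forms.u, Nat.add_sub_cancel]
    by_cases h : Even n
    · rw [if_pos h, if_neg (fun h' => (Nat.even_add_one.1 h') h),
        if_neg (fun h' => (Nat.even_add_one.1 h') h)]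
    · rw [if_neg h, if_pos (Nat.even_add_one.2 h), if_pos (Nat.even_add_one.2 h)]

end Cfsg.Agent.S0285
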