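import Cfsg.Statements.S0305
import Cfsg.Agent.Forms4.OrthogonalTwo

set_option autoImplicit false
open Cfsg

namespace Cfsg.Agent.S0305

/-- GO^+_2(q) is dihedral of order 2(q-1). -/
theorem result {F : Type*} [Field F] [Fintype F] {q : ℕ} (hF : Fintype.card F = q) : Nonempty (Cfsg.isometryGroup F (Cfsg.quadFormPlus 1 F) ≃* DihedralGroup (q - 1)) := by
  subst hF
  obtain ⟨e⟩ := CfsgLib.Forms4.nonempty_isometryGroup_congr (finSumFinEquiv : Fin 1 ⊕ Fin 1 ≃ Fin 2) (Cfsg.quadFormPlus 1 F)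
  obtain ⟨f⟩ := CfsgLib.Forms4.isometryGroup_hyperbolic_plane (F := F)
  have h : (fun v : Fin 2 → F => Cfsg.quadFormPlus 1 F (v ∘ (finSumFinEquiv : Fin 1 ⊕ Fin 1 ≃ Fin 2))) =
      fun v : Fin 2 → F => v 0 * v 1 := by
    funext v
    simp [Cfsg.quadFormPlus]
    rfl
  rw [h] at e
  exact ⟨e.trans f⟩

end Cfsg.Agent.S0305
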