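import Cfsg.Statements.S0306
import Cfsg.Agent.Forms4.OrthogonalTwo

set_option autoImplicit false
open Cfsg

namespace Cfsg.Agent.S0306

/-- GO^-_2(q) is dihedral of order 2(q+1). -/
theorem result {F : Type*} [Field F] [Fintype F] {q : ℕ} (hF : Fintype.card F = q) (a b : F) (hab : ∀ z₁ z₂ : F, z₁ ^ 2 + a * z₁ * z₂ + b * z₂ ^ 2 = 0 → z₁ = 0 ∧ z₂ = 0) : Nonempty (Cfsg.isometryGroup F (Cfsg.quadFormMinus 0 F a b) ≃* DihedralGroup (q + 1)) := by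
  subst hF
  let s : (Fin 0 ⊕ Fin 0) ⊕ Fin 2 ≃ Fin 2 := Equiv.emptySum _ _
  obtain ⟨e⟩ := CfsgLib.Forms4.nonempty_isometryGroup_congr s (Cfsg.quadFormMinus 0 F a b)
  obtain ⟨f⟩ := CfsgLib.Forms4.isometryGroup_anisotropic_plane a b hab
  have h : (fun v : Fin 2 → F => Cfsg.quadFormMinus 0 F a b (v ∘ s)) =
      fun v : Fin 2 → F => v 0 ^ 2 + a * v 0 * v 1 + b * v 1 ^ 2 := by
    funext v
    simp [Cfsg.quadFormMinus, s]
  rw [h] at e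
  exact ⟨e.trans f⟩

end Cfsg.Agent.S0306
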