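import Cfsg.Statements.S0316
import Cfsg.Agent.BNPairs.Parabolic
-- import your own Cfsg.Agent.* helpers here

set_option autoImplicit false
open Cfsg

namespace Cfsg.Agent.S0316

/-- The map `J ↦ P_J` is a lattice isomorphism from the power set of the set of distinguished generators onto the
subgroups containing `B`. -/
theorem result {G : Type*} [Group G] (P : Cfsg.BNPair G) :
    ∃ e : Set P.S ≃o {M : Subgroup G // P.B ≤ M},
      ∀ J : Set P.S, ((e J : {M : Subgroup G // P.B ≤ M}) : Subgroup G) = P.parabolic (Subtype.val '' J) := by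
  have hsub : ∀ J : Set P.S, Subtype.val '' J ⊆ P.S := fun J => by rintro _ ⟨x, -, rfl⟩; exact x.2
  let f : Set P.S → {M : Subgroup G // P.B ≤ M} := fun J =>
    ⟨P.parabolic (Subtype.val '' J), le_sup_left⟩
  let g : {M : Subgroup G // P.B ≤ M} → Set P.S := fun M => {s | (s : G) ∈ M.1}
  have hgf : ∀ J, g (f J) = J := fun J => by
    ext ⟨s, hs⟩
    constructor
    · intro h
      have h' : s ∈ P.S ∩ (P.parabolic (Subtype.val '' J) : Set G) := ⟨hs, h⟩
      rw [CfsgLib.BNPairs.S_inter_parabolic (hsub J)] at h'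
      obtain ⟨⟨t, ht⟩, htJ, rfl⟩ := h'
      exact htJ
    · intro h
      exact Subgroup.mem_sup_right (Subgroup.subset_closure ⟨_, h, rfl⟩)
  have hfg : ∀ M, f (g M) = M := fun M => by
    refine Subtype.ext ?_
    show P.parabolic (Subtype.val '' g M) = M.1
    conv_rhs => rw [CfsgLib.BNPairs.eq_parabolic M.2]
    congr 1
    ext s
    constructor
    · rintro ⟨⟨t, ht⟩, htM, rfl⟩; exact ⟨ht, htM⟩
    · rintro ⟨hs, hsM⟩; exact ⟨⟨s, hs⟩, hsM, rfl⟩
  refine ⟨{ toFun := f, invFun := g, left_inv := hgf, right_inv := hfg, map_rel_iff' := ?_ }, fun J => rfl⟩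
  intro J K
  constructor
  · intro h
    rw [← hgf J, ← hgf K]
    exact fun s hs => h hs
  · intro h
    exact sup_le_sup_left (Subgroup.closure_mono (Set.image_mono h)) _

end Cfsg.Agent.S0316
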