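import Cfsg.Statements.S0321
import Cfsg.Agent.BNPairs.Parabolic
-- import your own Cfsg.Agent.* helpers here

set_option autoImplicit false
open Cfsg

namespace Cfsg.Agent.S0321

/-- For `n ∈ N` not in `B`, the union `B ∪ B n B` is (the underlying set of) a subgroup exactly when `n` agrees
modulo `B ⊓ N` with one of the distinguished representatives; thus the distinguished involutions are
determined by `B` and `N`. -/
theorem result {G : Type*} [Group G] (P : Cfsg.BNPair G) {n : G}
    (hn : n ∈ P.N) (hnB : n ∉ P.B) :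
    (∃ H : Subgroup G, (H : Set G) = (P.B : Set G) ∪ DoubleCoset.doubleCoset n (P.B : Set G) P.B) ↔ ∃ s ∈ P.S, s⁻¹ * n ∈ P.B := by
  constructor
  · rintro ⟨H, hH⟩
    have hB : P.B ≤ H := fun b hb => by
      rw [← SetLike.mem_coe, hH]; exact Or.inl hb
    have hne : (P.S ∩ (H : Set G)).Nonempty := by
      by_contra he
      rw [Set.not_nonempty_iff_eq_empty] at he
      have h1 := CfsgLib.BNPairs.eq_parabolic hB
      rw [he] at h1
      have hnH : n ∈ H := by
        rw [← SetLike.mem_coe, hH]; exact Or.inr (CfsgLib.BNPairs.self_mem_cell n)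
      rw [h1] at hnH
      simp [Cfsg.BNPair.parabolic] at hnH
      exact hnB hnH
    obtain ⟨s, hs, hsH⟩ := hne
    rw [hH] at hsH
    refine ⟨s, hs, ?_⟩
    rcases hsH with h | h
    · exact absurd h (CfsgLib.BNPairs.not_mem_B_of_mem_S hs)
    · exact CfsgLib.BNPairs.rel_of_mem_cell (P.subset hs) hn (CfsgLib.BNPairs.self_mem_cell s) h
  · rintro ⟨s, hs, hrel⟩
    have hc : CfsgLib.BNPairs.cell P n = CfsgLib.BNPairs.cell P s := CfsgLib.BNPairs.cell_eq_of_rel hrel
    have hinv : ∀ y ∈ CfsgLib.BNPairs.cell P s, y⁻¹ ∈ CfsgLib.BNPairs.cell P s := fun y hy => by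
      have := CfsgLib.BNPairs.inv_mem_cell hy
      rwa [← CfsgLib.BNPairs.cell_eq_of_rel (CfsgLib.BNPairs.rel_inv_self hs)] at this
    have hleft : ∀ x ∈ (P.B : Set G) ∪ CfsgLib.BNPairs.cell P s, ∀ y ∈ CfsgLib.BNPairs.cell P s,
        x * y ∈ (P.B : Set G) ∪ CfsgLib.BNPairs.cell P s := by
      rintro x (hx | hx) y hy
      · exact Or.inr (CfsgLib.BNPairs.mem_cell_left hx hy)
      · obtain ⟨b, hb, b', hb', rfl⟩ := CfsgLib.BNPairs.mem_cell.1 hx
        rw [show b * s * b' * y = b * (s * (b' * y)) by group]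
        rcases CfsgLib.BNPairs.left_mul_cell hs (P.subset hs) (CfsgLib.BNPairs.mem_cell_left hb' hy) with h | h
        · exact Or.inl (mul_mem hb (CfsgLib.BNPairs.mem_B_of_mem_cell (P.sq_mem s hs) h))
        · exact Or.inr (CfsgLib.BNPairs.mem_cell_left hb h)
    refine ⟨{ carrier := (P.B : Set G) ∪ CfsgLib.BNPairs.cell P s
              one_mem' := Or.inl (one_mem _)
              mul_mem' := ?_
              inv_mem' := ?_ }, ?_⟩
    · intro x y hx hy
      rcases hy with hy | hy
      · rcases hx with hx | hx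
        · exact Or.inl (mul_mem hx hy)
        · exact Or.inr (CfsgLib.BNPairs.mem_cell_right hy hx)
      · exact hleft x hx y hy
    · rintro x (hx | hx)
      · exact Or.inl (inv_mem hx)
      · exact Or.inr (hinv x hx)
    · show (P.B : Set G) ∪ CfsgLib.BNPairs.cell P s = (P.B : Set G) ∪ CfsgLib.BNPairs.cell P n
      rw [hc]

end Cfsg.Agent.S0321
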