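import Cfsg.Statements.S0322
import Cfsg.Agent.BNPairs.Parabolic
-- import your own Cfsg.Agent.* helpers here

set_option autoImplicit false
open Cfsg

namespace Cfsg.Agent.S0322

/-- A group with a (B,N)-pair of rank one acts doubly transitively on the left cosets of `B`. -/
theorem result {G : Type*} [Group G] (P : Cfsg.BNPair G) (h : P.rank = 1) : MulAction.IsMultiplyPretransitive G (G ⧸ P.B) 2 := by
  obtain ⟨s, hS⟩ := CfsgLib.BNPairs.exists_singleton_of_rank_one h
  rw [MulAction.is_two_pretransitive_iff]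
  intro a b c d hab hcd
  have key : ∀ a b : G ⧸ P.B, a ≠ b → ∃ g : G, g • (QuotientGroup.mk 1 : G ⧸ P.B) = a ∧
      g • (QuotientGroup.mk s : G ⧸ P.B) = b := by
    intro a b hab
    obtain ⟨x, rfl⟩ := QuotientGroup.mk_surjective a
    obtain ⟨y, rfl⟩ := QuotientGroup.mk_surjective b
    have hnB : x⁻¹ * y ∉ P.B := fun h => hab (QuotientGroup.eq.2 h)
    obtain ⟨u, hu, u', hu', e⟩ := CfsgLib.BNPairs.mem_cell.1 ((CfsgLib.BNPairs.mem_B_or_cell hS (x⁻¹ * y)).resolve_left hnB)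
    refine ⟨x * u, ?_, ?_⟩
    · show (QuotientGroup.mk (x * u * 1) : G ⧸ P.B) = QuotientGroup.mk x
      rw [QuotientGroup.eq, show (x * u * 1)⁻¹ * x = u⁻¹ by group]
      exact inv_mem hu
    · show (QuotientGroup.mk (x * u * s) : G ⧸ P.B) = QuotientGroup.mk y
      rw [QuotientGroup.eq, show (x * u * s)⁻¹ * y = (u * s)⁻¹ * (x⁻¹ * y) by group, e,
        show (u * s)⁻¹ * (u * s * u') = u' by group]
      exact hu'
  obtain ⟨g, hg1, hg2⟩ := key a b hab
  obtain ⟨k, hk1, hk2⟩ := key c d hcd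
  exact ⟨k * g⁻¹, by rw [mul_smul, ← hg1, inv_smul_smul, hk1],
    by rw [mul_smul, ← hg2, inv_smul_smul, hk2]⟩

end Cfsg.Agent.S0322
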