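import Cfsg.Statements.S0323
import Cfsg.Agent.BNPairs.Basic
-- import your own Cfsg.Agent.* helpers here

set_option autoImplicit false
open scoped Pointwise
open Cfsg

namespace Cfsg.Agent.S0323

/-- A doubly transitive action on a set with at least three points yields a (B,N)-pair of rank one:
`B` is the stabiliser of a point `x`, `N` the setwise stabiliser of a pair `{x, y}`. -/
theorem result {G Ω : Type*} [Group G] [MulAction G Ω]
    (h2 : MulAction.IsMultiplyPretransitive G Ω 2) {x y z : Ω} (hxy : x ≠ y) (hyz : y ≠ z) (hxz : x ≠ z) :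
    ∃ P : Cfsg.BNPair G, P.B = MulAction.stabilizer G x ∧
      P.N = MulAction.stabilizer G ({x, y} : Set Ω) ∧ P.rank = 1 := by
  classical
  have h2' : ∀ a b c d : Ω, a ≠ b → c ≠ d → ∃ g : G, g • a = c ∧ g • b = d :=
    fun _ _ _ _ h h' => MulAction.is_two_pretransitive_iff.1 h2 h h'
  obtain ⟨s, hsx, hsy⟩ := h2' x y y x hxy hxy.symm
  set B := MulAction.stabilizer G x with hBdef
  set N := MulAction.stabilizer G ({x, y} : Set Ω) with hNdef
  have hN : ∀ g : G, g ∈ N ↔ (g • x = x ∧ g • y = y) ∨ (g • x = y ∧ g • y = x) := by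
    intro g
    rw [MulAction.mem_stabilizer_iff, Set.smul_set_insert, Set.smul_set_singleton, Set.pair_eq_pair_iff]
  have hBN : ∀ g ∈ B ⊓ N, g • x = x ∧ g • y = y := by
    intro g hg
    obtain ⟨hgB, hgN⟩ := Subgroup.mem_inf.1 hg
    rcases (hN g).1 hgN with h | h
    · exact h
    · exact absurd ((MulAction.mem_stabilizer_iff.1 hgB).symm.trans h.1) hxy
  have hsB : s ∉ B := fun h => hxy ((MulAction.mem_stabilizer_iff.1 h).symm.trans hsx)
  have hsN : s ∈ N := (hN s).2 (Or.inr ⟨hsx, hsy⟩)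
  have hss : s * s ∈ B := by rw [MulAction.mem_stabilizer_iff, mul_smul, hsx, hsy]
  have hdec : ∀ g : G, g ∉ B → g ∈ DoubleCoset.doubleCoset s (B : Set G) B := by
    intro g hg
    have hgx : g • x ≠ x := hg
    obtain ⟨b, hbx, hby⟩ := h2' x y x (g • x) hxy hgx.symm
    rw [DoubleCoset.mem_doubleCoset]
    refine ⟨b, hbx, (b * s)⁻¹ * g, ?_, by group⟩
    show ((b * s)⁻¹ * g) • x = x
    rw [mul_smul, inv_smul_eq_iff, mul_smul, hsx, hby]
  have hNcases : ∀ n ∈ N, n ∈ B ⊓ N ∨ s⁻¹ * n ∈ B ⊓ N := by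
    intro n hn
    rcases (hN n).1 hn with h | h
    · exact Or.inl (Subgroup.mem_inf.2 ⟨h.1, hn⟩)
    · refine Or.inr (Subgroup.mem_inf.2 ⟨?_, mul_mem (inv_mem hsN) hn⟩)
      show (s⁻¹ * n) • x = x
      rw [mul_smul, h.1, inv_smul_eq_iff, hsx]
  refine ⟨{ B := B, N := N, S := {s}
            sup_eq_top := ?_
            conj_mem := ?_
            subset := Set.singleton_subset_iff.2 hsN
            sq_mem := fun t ht => by rw [Set.mem_singleton_iff.1 ht]; exact hss
            inj := fun a ha b hb _ => by rw [Set.mem_singleton_iff.1 ha, Set.mem_singleton_iff.1 hb]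
            closure_sup := ?_
            mul_mem_union := ?_
            conj_ne := ?_ }, rfl, rfl, ?_⟩
  · refine eq_top_iff.2 fun g _ => ?_
    by_cases hg : g ∈ B
    · exact Subgroup.mem_sup_left hg
    · obtain ⟨b, hb, b', hb', rfl⟩ := DoubleCoset.mem_doubleCoset.1 (hdec g hg)
      exact mul_mem (mul_mem (Subgroup.mem_sup_left hb) (Subgroup.mem_sup_right hsN)) (Subgroup.mem_sup_left hb')
  · intro n hn t ht
    obtain ⟨htx, hty⟩ := hBN t ht
    have hnx : n⁻¹ • x = x ∨ n⁻¹ • x = y := by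
      rcases (hN n⁻¹).1 (inv_mem hn) with h | h
      · exact Or.inl h.1
      · exact Or.inr h.1
    show (n * t * n⁻¹) • x = x
    rw [mul_smul, mul_smul]
    rcases hnx with h | h
    · rw [h, htx, ← inv_smul_eq_iff.1 h]
    · rw [h, hty, ← inv_smul_eq_iff.1 h]
  · refine le_antisymm (sup_le ((Subgroup.closure_le _).2 (Set.singleton_subset_iff.2 hsN)) inf_le_right)
      fun n hn => ?_
    rcases hNcases n hn with h | h
    · exact Subgroup.mem_sup_right h
    · rw [show n = s * (s⁻¹ * n) by group]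
      exact Subgroup.mul_mem_sup (Subgroup.subset_closure rfl) h
  · intro t ht n hn b hb
    obtain rfl := Set.mem_singleton_iff.1 ht
    have inB : ∀ c g : G, c ∈ B → g ∈ B → g ∈ DoubleCoset.doubleCoset c (B : Set G) B := fun c g hc hg =>
      DoubleCoset.mem_doubleCoset.2 ⟨g * c⁻¹, mul_mem hg (inv_mem hc), 1, one_mem _, by group⟩
    rcases hNcases n hn with h | h
    · refine Or.inl (DoubleCoset.mem_doubleCoset.2
        ⟨1, one_mem _, n⁻¹ * b * n, mul_mem (mul_mem (inv_mem (Subgroup.mem_inf.1 h).1) hb) (Subgroup.mem_inf.1 h).1, by group⟩)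
    · have hsn : t * n ∈ B := by
        rw [show t * n = (t * t) * (t⁻¹ * n) by group]
        exact mul_mem hss (Subgroup.mem_inf.1 h).1
      by_cases hg : t * b * n ∈ B
      · exact Or.inl (inB _ _ hsn hg)
      · refine Or.inr ?_
        obtain ⟨u, hu, u', hu', e⟩ := DoubleCoset.mem_doubleCoset.1 (hdec _ hg)
        refine DoubleCoset.mem_doubleCoset.2 ⟨u, hu, (t⁻¹ * n)⁻¹ * u', mul_mem (inv_mem (Subgroup.mem_inf.1 h).1) hu', ?_⟩
        rw [e]; group
  · intro t ht heq
    obtain rfl := Set.mem_singleton_iff.1 ht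
    obtain ⟨b, hbx, hby⟩ := h2' x y x z hxy hxz
    have hmem : t * b * t ∈ B := by
      rw [← SetLike.mem_coe, ← heq]; exact ⟨b, hbx, rfl⟩
    rw [MulAction.mem_stabilizer_iff, mul_smul, mul_smul, hsx, hby, ← hsy, smul_left_cancel_iff] at hmem
    exact hyz hmem.symm
  · simp [Cfsg.BNPair.rank]

end Cfsg.Agent.S0323
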