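import Cfsg.Statements.S0330
import Cfsg.Agent.Suzuki.Unipotent
-- import your own Cfsg.Agent.* helpers here

set_option autoImplicit false
open Cfsg

namespace Cfsg.Agent.S0330

/-- A Sylow 2-subgroup `P` of the Suzuki group (field with `q = 2^(2m+1)` elements, `m ≥ 1`) has order `q²` and
exponent `4`; its centre coincides with its commutator subgroup and has order `q`. -/
theorem result {F : Type*} [Field F] [Fintype F] {m : ℕ} (hm : 1 ≤ m)
    (hF : Fintype.card F = 2 ^ (2 * m + 1)) (P : Sylow 2 (Cfsg.Sz F m)) :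
    Nat.card P = (2 ^ (2 * m + 1)) ^ 2 ∧ Monoid.exponent P = 4 ∧
      Subgroup.center P = commutator P ∧ Nat.card (Subgroup.center P) = 2 ^ (2 * m + 1) := by
  have hS : CfsgLib.Suzuki.SzField F m := ⟨hm, hF⟩
  haveI : Fact (Nat.Prime 2) := ⟨Nat.prime_two⟩
  let e : P ≃* CfsgLib.Suzuki.uniSub hS := Sylow.equiv P (CfsgLib.Suzuki.uniSylow hS)
  have hc : (Subgroup.center P).map (e : P →* CfsgLib.Suzuki.uniSub hS) =
      Subgroup.center (CfsgLib.Suzuki.uniSub hS) := by
    ext x
    simp only [Subgroup.mem_map, Subgroup.mem_center_iff]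
    constructor
    · rintro ⟨y, hy, rfl⟩ g
      simpa using congrArg e (hy (e.symm g))
    · intro hx
      exact ⟨e.symm x, fun g => e.injective (by simpa using hx (e g)), by simp⟩
  have hd : (commutator P).map (e : P →* CfsgLib.Suzuki.uniSub hS) =
      commutator (CfsgLib.Suzuki.uniSub hS) := by
    rw [commutator_def, Subgroup.map_commutator, commutator_def,
      Subgroup.map_top_of_surjective _ e.surjective]
  refine ⟨?_, ?_, ?_, ?_⟩
  · rw [Nat.card_congr e.toEquiv, CfsgLib.Suzuki.card_uniSub hS, hF]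
  · rw [Monoid.exponent_eq_of_mulEquiv e, CfsgLib.Suzuki.exponent_uniSub hS]
  · apply Subgroup.map_injective (f := (e : P →* CfsgLib.Suzuki.uniSub hS)) e.injective
    rw [hc, hd, CfsgLib.Suzuki.center_eq_commutator hS]
  · rw [← Subgroup.card_map_of_injective (f := (e : P →* CfsgLib.Suzuki.uniSub hS)) e.injective, hc,
      CfsgLib.Suzuki.card_center_uniSub hS, hF]

end Cfsg.Agent.S0330
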