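import Cfsg.Statements.S0404
import Cfsg.Agent.Leech.MclSimple
import Cfsg.Agent.Leech.StabConj
-- import your own Cfsg.Agent.* helpers here

set_option autoImplicit false
open Cfsg

namespace Cfsg.Agent.S0404

/-- Joint stabiliser of two minimal vectors with coordinate dot product −8 is simple of order 898128000. -/
theorem result (v w : Cfsg.leechLattice) (hv : Cfsg.sqNorm (v : Cfsg.GolayPt → ℤ) = 32) (hw : Cfsg.sqNorm (w : Cfsg.GolayPt → ℤ) = 32) (hvw : Cfsg.dotInt (v : Cfsg.GolayPt → ℤ) (w : Cfsg.GolayPt → ℤ) = -8) : Cfsg.IsMcL ↥(MulAction.stabilizer Cfsg.Co0 v ⊓ MulAction.stabilizer Cfsg.Co0 w) := by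
  have hn : Cfsg.sqNorm ((v + w : Cfsg.leechLattice) : Cfsg.GolayPt → ℤ) = 48 := by
    have e : Cfsg.sqNorm ((v : Cfsg.GolayPt → ℤ) + (w : Cfsg.GolayPt → ℤ)) =
        Cfsg.sqNorm (v : Cfsg.GolayPt → ℤ) + 2 * Cfsg.dotInt (v : Cfsg.GolayPt → ℤ) (w : Cfsg.GolayPt → ℤ) +
          Cfsg.sqNorm (w : Cfsg.GolayPt → ℤ) := by
      simp only [Cfsg.sqNorm, Cfsg.dotInt, Pi.add_apply, Finset.mul_sum, ← Finset.sum_add_distrib]
      exact Finset.sum_congr rfl fun i _ => by ring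
    rw [AddSubgroup.coe_add, e, hv, hw, hvw]; norm_num
  obtain ⟨g, gs, gv⟩ := CfsgLib.Leech.canon552 (v + w) v hn
    ⟨hv, by rw [AddSubgroup.coe_add, add_sub_cancel_left]; exact hw⟩
  have heq : MulAction.stabilizer Cfsg.Co0 v ⊓ MulAction.stabilizer Cfsg.Co0 w =
      MulAction.stabilizer Cfsg.Co0 (v + w) ⊓ MulAction.stabilizer Cfsg.Co0 v := by
    ext x
    simp only [Subgroup.mem_inf, MulAction.mem_stabilizer_iff]
    constructor
    · rintro ⟨h1, h2⟩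
      exact ⟨by rw [CfsgLib.Leech.co0_add, h1, h2], h1⟩
    · rintro ⟨h1, h2⟩
      refine ⟨h2, ?_⟩
      rw [CfsgLib.Leech.co0_add, h2] at h1
      exact add_left_cancel h1
  rw [heq]
  have := CfsgLib.Leech.mcl_simple
  have e := CfsgLib.Leech.stabEquiv₂ gs gv
  exact ⟨e.isSimpleGroup_congr.2 this, (Nat.card_congr e.toEquiv).trans CfsgLib.Leech.card_mcl⟩

end Cfsg.Agent.S0404
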