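import Cfsg.Statements.S0437
import Cfsg.Agent.SporB.ThreeTrans

set_option autoImplicit false
open Cfsg

namespace Cfsg.Agent.S0437

open CfsgLib.SporB

/-- For three distinct, pairwise commuting members a, b, c of a set of 3-transpositions E, a member e of E centralises a * b * c if and only if it centralises each of a, b and c. -/
theorem result {G : Type*} [Group G] {E : Set G} (hE : Cfsg.IsThreeTranspositionSet E) {a b c e : G} (ha : a ∈ E) (hb : b ∈ E) (hc : c ∈ E) (he : e ∈ E) (hab : a ≠ b) (hac : a ≠ c) (hbc : b ≠ c) (h₁ : Commute a b) (h₂ : Commute a c) (h₃ : Commute b c) : Commute e (a * b * c) ↔ (Commute e a ∧ Commute e b ∧ Commute e c) := by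
  refine ⟨fun h => ?_, fun h => (h.1.mul_right h.2.1).mul_right h.2.2⟩
  have hsplit : ∀ p q r : G, p ∈ E → q ∈ E → r ∈ E → p ≠ q → Commute e (p * q * r) →
      Commute e r → Commute e p ∧ Commute e q := fun p q r hp hq hr hpq hpqr her => by
    have := hpqr.mul_right her
    rw [mul_assoc, ttSq hE hr, mul_one] at this
    exact ttPairCentral hE hp hq he hpq this
  have hbca : a * b * c = b * c * a := by rw [mul_assoc, (h₁.mul_right h₂).eq]
  have hacb : a * b * c = a * c * b := by rw [mul_assoc, mul_assoc, h₃.eq]
  by_cases hec : Commute e c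
  · obtain ⟨u, v⟩ := hsplit a b c ha hb hc hab h hec; exact ⟨u, v, hec⟩
  by_cases hea : Commute e a
  · obtain ⟨u, v⟩ := hsplit b c a hb hc ha hbc (hbca ▸ h) hea; exact ⟨hea, u, v⟩
  by_cases heb : Commute e b
  · obtain ⟨u, v⟩ := hsplit a c b ha hc hb hac (hacb ▸ h) heb; exact ⟨u, heb, v⟩
  exfalso
  have ca := ttCancel hE ha
  have cb := ttCancel hE hb
  have cc := ttCancel hE hc
  have ce := ttCancel hE he
  have key : (e * a * e) * (e * b * e) * (e * c * e) = a * b * c := by
    calc (e * a * e) * (e * b * e) * (e * c * e) = (e * (a * b * c)) * e := by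
          simp only [mul_assoc, ce]
      _ = (a * b * c) * e * e := by rw [h.eq]
      _ = a * b * c := by simp only [mul_assoc, ttSq hE he, mul_one]
  rw [ttBraid hE he ha hea, ttBraid hE he hb heb, ttBraid hE he hc hec] at key
  have k1 : e * (a * (b * (e * (b * (c * e))))) = b := by
    have := congrArg (fun x => a * x * c) key
    simpa only [mul_assoc, ca, cc, ttSq hE hc, mul_one] using this
  have comm : a * b = b * a := h₁.eq
  have k2 : a * (e * c) = e := by
    have h4 : a * (b * (e * (b * c))) = e * b * e := by
      have := congrArg (fun x => e * x * e) k1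
      simpa only [mul_assoc, ce, ttSq hE he, mul_one] using this
    rw [ttBraid hE he hb heb] at h4
    have h5 : a * (e * (b * c)) = e * b := by
      have := congrArg (fun x => b * x) h4
      simp only [mul_assoc] at this
      rwa [cb, ← mul_assoc b a, ← comm, mul_assoc a b, cb] at this
    rw [h₃.eq] at h5
    exact mul_right_cancel (b := b) (by simpa only [mul_assoc] using h5)
  have k3 : c = a * e * a := by
    have : c = e * (a * e) := by
      have := congrArg (fun x => e * (a * x)) k2
      simpa only [ca, ce] using this
    rw [this, ← mul_assoc, ttBraid hE he ha hea]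
  have k4 : c = e := by
    calc c = a * (a * c) := (ca c).symm
      _ = a * (c * a) := by rw [h₂.eq]
      _ = e := by rw [k3]; simp only [mul_assoc, ca, ttSq hE ha, mul_one]
  exact hec (by subst k4; exact Commute.refl _)

end Cfsg.Agent.S0437
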