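import Cfsg.Statements.S0439
import Cfsg.Agent.SporB.ThreeTrans

set_option autoImplicit false
open Cfsg

namespace Cfsg.Agent.S0439

/-- In the symmetric group of degree n ≥ 2, the set of transpositions is a conjugacy class of 3-transpositions which generates the group. -/
theorem result (n : ℕ) (hn : 2 ≤ n) : Cfsg.IsThreeTranspositionClass {σ : Equiv.Perm (Fin n) | σ.IsSwap} := by
  refine ⟨⟨fun d hd => Equiv.Perm.IsSwap.orderOf hd, ?_⟩, ?_, Equiv.Perm.closure_isSwap⟩
  · rintro d ⟨a, b, hab, rfl⟩ e ⟨c, f, hcf, rfl⟩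
    have three : ∀ x y z : Fin n, x ≠ y → x ≠ z → y ≠ z →
        (Equiv.swap x y * Equiv.swap x z) ^ 3 = 1 := fun x y z hxy hxz hyz => by
      rw [← (Equiv.Perm.isThreeCycle_swap_mul_swap_same hxy hxz hyz).orderOf]
      exact pow_orderOf_eq_one _
    have same : ∀ x y z : Fin n, x ≠ y → x ≠ z →
        (Equiv.swap x y * Equiv.swap x z) ^ 2 = 1 ∨ (Equiv.swap x y * Equiv.swap x z) ^ 3 = 1 :=
      fun x y z hxy hxz => by
        by_cases hyz : y = z
        · left; subst hyz; rw [Equiv.swap_mul_self, one_pow]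
        · right; exact three x y z hxy hxz hyz
    by_cases h1 : a = c
    · subst h1; exact same a b f hab hcf
    by_cases h2 : a = f
    · subst h2; rw [Equiv.swap_comm c a]; exact same a b c hab hcf.symm
    by_cases h3 : b = c
    · subst h3; rw [Equiv.swap_comm a b]; exact same b a f hab.symm hcf
    by_cases h4 : b = f
    · subst h4; rw [Equiv.swap_comm a b, Equiv.swap_comm c b]; exact same b a c hab.symm hcf.symm
    left
    have hd : Equiv.Perm.Disjoint (Equiv.swap a b) (Equiv.swap c f) := by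
      intro i
      by_cases hi : i = c ∨ i = f
      · left; rcases hi with rfl | rfl
        · exact Equiv.swap_apply_of_ne_of_ne (Ne.symm h1) (Ne.symm h3)
        · exact Equiv.swap_apply_of_ne_of_ne (Ne.symm h2) (Ne.symm h4)
      · right; simp only [not_or] at hi; exact Equiv.swap_apply_of_ne_of_ne hi.1 hi.2
    rw [hd.commute.mul_pow, pow_two, pow_two, Equiv.swap_mul_self, Equiv.swap_mul_self, one_mul]
  · let z : Fin n := ⟨0, by omega⟩
    let o : Fin n := ⟨1, by omega⟩
    have hzo : z ≠ o := by simp [z, o, Fin.ext_iff]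
    refine ⟨Equiv.swap z o, ⟨z, o, hzo, rfl⟩, ?_⟩
    ext σ
    show σ.IsSwap ↔ IsConj (Equiv.swap z o) σ
    rw [Equiv.Perm.isConj_iff_cycleType_eq]
    rw [Equiv.Perm.isSwap_iff_cycleType.mp ⟨z, o, hzo, rfl⟩, Equiv.Perm.isSwap_iff_cycleType]
    exact eq_comm

end Cfsg.Agent.S0439
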