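import Cfsg.Statements.S0440

set_option autoImplicit false
open Cfsg

namespace Cfsg.Agent.S0440

open Matrix

variable {n : ℕ}

abbrev K := ZMod 2
abbrev Idx (n : ℕ) := Fin n ⊕ Fin n
abbrev V (n : ℕ) := Idx n → K
abbrev Sp (n : ℕ) := ↥(Matrix.symplecticGroup (Fin n) K)
abbrev J2 (n : ℕ) : Matrix (Idx n) (Idx n) K := Matrix.J (Fin n) K

/-- The symplectic form. -/
def B (u v : V n) : K := u ⬝ᵥ (J2 n) *ᵥ v

theorem J_eq : J2 n = fromBlocks 0 1 1 0 := by
  rw [J2, Matrix.J]; congr 1; ext i j; exact ZMod.neg_eq_self_mod_two _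

theorem B_apply (u v : V n) :
    B u v = ∑ i, u (Sum.inl i) * v (Sum.inr i) + ∑ i, u (Sum.inr i) * v (Sum.inl i) := by
  simp [B, J_eq, dotProduct, Fintype.sum_sum_type, fromBlocks_mulVec, Function.comp]

theorem B_comm (u v : V n) : B u v = B v u := by
  rw [B_apply, B_apply, add_comm]; congr 1 <;> simp [mul_comm]

theorem B_self (u : V n) : B u u = 0 := by
  rw [B_apply, show (∑ i, u (Sum.inr i) * u (Sum.inl i)) = ∑ i, u (Sum.inl i) * u (Sum.inr i) by
    simp [mul_comm]]
  exact CharTwo.add_self_eq_zero _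

theorem B_add_left (u v w : V n) : B (u + v) w = B u w + B v w := add_dotProduct _ _ _
theorem B_add_right (u v w : V n) : B u (v + w) = B u v + B u w := by
  simp [B, mulVec_add]

theorem two_cases (a : K) : a = 0 ∨ a = 1 := by revert a; decide

theorem exists_B {u : V n} (hu : u ≠ 0) : ∃ w, B u w = 1 := by
  obtain ⟨i, hi⟩ := Function.ne_iff.mp hu
  have hi' := (two_cases (u i)).resolve_left hi
  refine ⟨Pi.single (Sum.swap i) 1, ?_⟩
  rcases i with i | i <;> simp [B_apply, Pi.single_apply, hi']

/-- The transvection matrix of a vector. -/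
def tm (v : V n) : Matrix (Idx n) (Idx n) K := 1 + vecMulVec (J2 n *ᵥ v) v

theorem tm_mul (u v : V n) : tm u * tm v =
    1 + vecMulVec (J2 n *ᵥ u) u + vecMulVec (J2 n *ᵥ v) v + B u v • vecMulVec (J2 n *ᵥ u) v := by
  simp only [tm, mul_add, add_mul, mul_one, one_mul, vecMulVec_mul_vecMulVec, B]
  abel_nf
  simp [vecMulVec_smul]

theorem J_transpose' : (J2 n)ᵀ = J2 n := by
  rw [J_eq, fromBlocks_transpose]; simp

theorem J_sq : J2 n * J2 n = 1 := by
  rw [J_eq, fromBlocks_multiply]; simp [fromBlocks_one]

theorem tm_mem (v : V n) : tm v ∈ Matrix.symplecticGroup (Fin n) K := by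
  rw [SymplecticGroup.mem_iff]
  have h1 : vecMulVec (J2 n *ᵥ v) v * J2 n = vecMulVec (J2 n *ᵥ v) (J2 n *ᵥ v) := by
    rw [vecMulVec_mul, ← mulVec_transpose, J_transpose']
  have h2 : J2 n * vecMulVec v (J2 n *ᵥ v) = vecMulVec (J2 n *ᵥ v) (J2 n *ᵥ v) := mul_vecMulVec _ _ _
  rw [tm, transpose_add, transpose_one, transpose_vecMulVec, add_mul, one_mul, h1, mul_add, mul_one,
    add_mul, h2, vecMulVec_mul_vecMulVec]
  have h3 : (J2 n *ᵥ v) ⬝ᵥ v = 0 := by rw [dotProduct_comm]; exact B_self v
  rw [h3]
  have hd : ∀ m : Matrix (Idx n) (Idx n) K, m + m = 0 := fun m => by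
    ext i j; exact CharTwo.add_self_eq_zero _
  simp [add_assoc, hd]

/-- The transvection as a group element. -/
def t (v : V n) : Sp n := ⟨tm v, tm_mem v⟩

theorem t_sq (v : V n) : t v * t v = 1 := by
  apply Subtype.ext
  show tm v * tm v = 1
  rw [tm_mul, B_self, zero_smul, add_zero, add_assoc]
  have : vecMulVec (J2 n *ᵥ v) v + vecMulVec (J2 n *ᵥ v) v = 0 := by
    ext i j; exact CharTwo.add_self_eq_zero _
  rw [this, add_zero]

theorem t_inv (v : V n) : (t v)⁻¹ = t v := inv_eq_of_mul_eq_one_right (t_sq v)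

/-- The right action on vectors. -/
def act (x : V n) (g : Sp n) : V n := x ᵥ* (g : Matrix (Idx n) (Idx n) K)

theorem act_mul (x : V n) (g h : Sp n) : act x (g * h) = act (act x g) h :=
  (vecMul_vecMul x _ _).symm

theorem act_one (x : V n) : act x 1 = x := vecMul_one x

theorem act_injective (g : Sp n) : Function.Injective fun x => act x g := fun x y h => by
  have := congrArg (fun z => act z g⁻¹) h
  simpa only [← act_mul, mul_inv_cancel, act_one] using this

theorem act_t (x v : V n) : act x (t v) = x + B x v • v := by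
  simp [act, t, tm, vecMul_add, vecMul_vecMulVec, B]

theorem act_add (x y : V n) (g : Sp n) : act (x + y) g = act x g + act y g := add_vecMul _ _ _

theorem B_act (x y : V n) (g : Sp n) : B (act x g) (act y g) = B x y := by
  have h := SymplecticGroup.mem_iff.mp g.2
  rw [B, B, act, act, ← mulVec_transpose (g : Matrix (Idx n) (Idx n) K) y, ← dotProduct_mulVec,
    mulVec_mulVec, mulVec_mulVec, h]

theorem t_conj (v : V n) (g : Sp n) : g⁻¹ * t v * g = t (act v g) := by
  rw [mul_assoc, inv_mul_eq_iff_eq_mul]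
  apply Subtype.ext
  show tm v * (g : Matrix (Idx n) (Idx n) K) = g * tm (act v g)
  have h := SymplecticGroup.mem_iff.mp g.2
  have h2 : J2 n *ᵥ v = (g : Matrix (Idx n) (Idx n) K) *ᵥ (J2 n *ᵥ act v g) := by
    rw [act, ← mulVec_transpose, mulVec_mulVec, mulVec_mulVec, h]
  rw [tm, tm, add_mul, one_mul, mul_add, mul_one, vecMulVec_mul, mul_vecMulVec, ← h2]
  rfl

/-- The set of transvections. -/
abbrev D (n : ℕ) : Set (Sp n) :=
  {g : Sp n | ((g : Matrix (Idx n) (Idx n) K) - 1).rank = 1}

theorem rank_one_iff (g : Sp n) : g ∈ D n ↔ ∃ v : V n, v ≠ 0 ∧ g = t v := by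
  constructor
  · intro hg
    have hg' : ((g : Matrix (Idx n) (Idx n) K) - 1).rank = 1 := hg
    set N := (g : Matrix (Idx n) (Idx n) K) - 1 with hN
    have hr : Module.finrank K (LinearMap.range N.mulVecLin) = 1 := hg'
    obtain ⟨a, ha0, ha⟩ := finrank_eq_one_iff'.mp hr
    have hcol : ∀ j, ∃ c : K, N *ᵥ Pi.single j 1 = c • (a : V n) := fun j => by
      obtain ⟨c, hc⟩ := ha ⟨_, ⟨Pi.single j 1, rfl⟩⟩
      exact ⟨c, (congrArg Subtype.val hc).symm⟩
    choose w hw using hcol
    have hNw : N = vecMulVec (a : V n) w := by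
      ext i j
      have := congrFun (hw j) i
      simp only [mulVec_single, Pi.smul_apply, smul_eq_mul, col_apply] at this
      simpa [vecMulVec_apply, mul_comm] using this
    have ha' : (a : V n) ≠ 0 := fun h => ha0 (Subtype.ext h)
    have hw0 : w ≠ 0 := fun h => by
      rw [hNw, h] at hg'; simp at hg'
    have hgeq : (g : Matrix (Idx n) (Idx n) K) = 1 + vecMulVec (a : V n) w := by rw [← hNw, hN]; abel
    have h := SymplecticGroup.mem_iff.mp g.2
    rw [hgeq, transpose_add, transpose_one, transpose_vecMulVec] at h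
    have h1 : vecMulVec (a : V n) w * J2 n = vecMulVec (a : V n) (J2 n *ᵥ w) := by
      rw [vecMulVec_mul, ← mulVec_transpose, J_transpose']
    rw [add_mul, one_mul, h1, mul_add, mul_one, add_mul, mul_vecMulVec,
      vecMulVec_mul_vecMulVec] at h
    have h3 : (J2 n *ᵥ w) ⬝ᵥ w = 0 := by rw [dotProduct_comm]; exact B_self w
    have hb : J2 n *ᵥ w ≠ 0 := fun hz => hw0 (by
      have := congrArg (fun x => J2 n *ᵥ x) hz
      simpa only [mulVec_mulVec, J_sq, one_mulVec, mulVec_zero] using this)
    have hab : (a : V n) = J2 n *ᵥ w := by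
      rw [h3] at h
      generalize J2 n *ᵥ w = b at h hb
      have key : ∀ i j, (a : V n) i * b j + b i * (a : V n) j = 0 := fun i j => by
        have := congrFun (congrFun h i) j
        simp [vecMulVec_apply, add_assoc] at this
        linear_combination this
      obtain ⟨i, hi⟩ := Function.ne_iff.mp ha'
      have hi' := (two_cases _).resolve_left hi
      have hbi : b i = 1 := (two_cases _).resolve_left (fun h0 => hb (funext fun j => by
        have := key i j; rw [hi', h0] at this; simpa using this))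
      funext j
      have := key i j
      rw [hi', hbi, one_mul, one_mul] at this
      exact (CharTwo.add_eq_zero.mp this).symm
    exact ⟨w, hw0, Subtype.ext (by rw [hgeq, hab]; rfl)⟩
  · rintro ⟨v, hv, rfl⟩
    show (tm v - 1).rank = 1
    rw [tm, add_sub_cancel_left]
    refine le_antisymm (rank_vecMulVec_le _ _) (Nat.one_le_iff_ne_zero.mpr fun h0 => ?_)
    have hz : (vecMulVec (J2 n *ᵥ v) v).mulVecLin = 0 :=
      LinearMap.range_eq_bot.mp (Submodule.finrank_eq_zero.mp h0)
    obtain ⟨w, hw⟩ := exists_B hv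
    obtain ⟨i, hi⟩ := Function.ne_iff.mp hv
    have hJv : J2 n *ᵥ v ≠ 0 := fun h => by
      rw [B_comm, B, h, dotProduct_zero] at hw; exact zero_ne_one hw
    obtain ⟨j, hj⟩ := Function.ne_iff.mp hJv
    have h1 := congrFun (LinearMap.congr_fun hz (Pi.single i 1)) j
    simp [vecMulVec_apply] at h1
    rcases h1 with h1 | h1
    · exact hj h1
    · exact hi h1

theorem trans_vectors {u v : V n} (hu : u ≠ 0) (hv : v ≠ 0) :
    ∃ g : Sp n, act u g = v := by
  have step : ∀ a b : V n, B a b = 1 → act a (t (a + b)) = b := fun a b h => by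
    rw [act_t, B_add_right, B_self, h, zero_add, one_smul, ← add_assoc]
    have : a + a = 0 := funext fun i => CharTwo.add_self_eq_zero _
    rw [this, zero_add]
  obtain ⟨w, h1, h2⟩ : ∃ w, B u w = 1 ∧ B w v = 1 := by
    obtain ⟨w1, h1⟩ := exists_B hu
    obtain ⟨w2, h2⟩ := exists_B hv
    rcases two_cases (B v w1) with h3 | h3
    · rcases two_cases (B u w2) with h4 | h4
      · exact ⟨w1 + w2, by simp [B_add_right, h1, h4], by simp [B_add_left, B_comm w1, h3, B_comm w2, h2]⟩
      · exact ⟨w2, h4, by rw [B_comm, h2]⟩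
    · exact ⟨w1, h1, by rw [B_comm, h3]⟩
  exact ⟨t (u + w) * t (w + v), by rw [act_mul, step _ _ h1, step _ _ h2]⟩

theorem gen (g : Sp n) : g ∈ Subgroup.closure {h : Sp n | ∃ v, v ≠ 0 ∧ h = t v} := by
  classical
  set T := Subgroup.closure {h : Sp n | ∃ v, v ≠ 0 ∧ h = t v}
  have htT : ∀ v, t v ∈ T := fun v => by
    by_cases hv : v = 0
    · subst hv; convert T.one_mem; exact Subtype.ext (by simp [t, tm])
    · exact Subgroup.subset_closure ⟨v, hv, rfl⟩
  let moved : Sp n → Finset (V n) := fun g => Finset.univ.filter fun x => act x g ≠ x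
  suffices ∀ k, ∀ g : Sp n, (moved g).card = k → g ∈ T from this _ g rfl
  intro k
  induction k using Nat.strong_induction_on with
  | _ k ih =>
    intro g hk
    have hxx : ∀ a : V n, a + a = 0 := fun a => funext fun i => CharTwo.add_self_eq_zero _
    have one_step : ∀ h : Sp n, (moved h).card ≤ k → ∀ x, B x (act x h) = 1 → h ∈ T := by
      intro h hh x hx
      let s := t (x + act x h)
      have hmem : h * s ∈ T := by
        apply ih _ ?_ (h * s) rfl
        refine lt_of_lt_of_le (Finset.card_lt_card (Finset.ssubset_iff_of_subset ?_ |>.mpr ⟨x, ?_, ?_⟩)) hh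
        · intro w hw
          simp only [moved, Finset.mem_filter, Finset.mem_univ, true_and] at hw ⊢
          intro hfix
          apply hw
          rw [act_mul, hfix, act_t]
          have : B w (x + act x h) = 0 := by
            have h2 := B_act w x h
            rw [hfix] at h2
            rw [B_add_right, h2]; exact CharTwo.add_self_eq_zero _
          rw [this, zero_smul, add_zero]
        · simp only [moved, Finset.mem_filter, Finset.mem_univ, true_and]
          intro hf; rw [hf, B_self] at hx; exact zero_ne_one hx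
        · simp only [moved, Finset.mem_filter, Finset.mem_univ, true_and, not_not]
          rw [act_mul, act_t, B_add_right, B_self, B_comm, hx, add_zero, one_smul, add_comm x,
            ← add_assoc, hxx, zero_add]
      have := mul_mem hmem (T.inv_mem (htT (x + act x h)))
      rwa [mul_inv_cancel_right] at this
    by_cases hcase : ∃ x, B x (act x g) = 1
    · obtain ⟨x, hx⟩ := hcase; exact one_step g hk.le x hx
    simp only [not_exists] at hcase
    have h0 : ∀ x, B x (act x g) = 0 := fun x => (two_cases _).resolve_right (hcase x)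
    by_cases hg1 : ∀ x, act x g = x
    · convert T.one_mem
      apply Subtype.ext
      ext i j
      have := congrFun (hg1 (Pi.single i 1)) j
      simpa [act, one_apply, Pi.single_apply, eq_comm] using this
    simp only [not_forall] at hg1
    obtain ⟨x, hx⟩ := hg1
    have hsym : ∀ a b, B a (act b g) = B (act a g) b := fun a b => by
      have h := h0 (a + b)
      rw [act_add, B_add_left, B_add_right, B_add_right, h0, h0, zero_add, add_zero, B_comm b] at h
      exact CharTwo.add_eq_zero.mp h
    have hinvol : ∀ a, act (act a g) g = a := fun a => by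
      by_contra hne
      obtain ⟨w, hw⟩ := exists_B (u := act (act a g) g + a) (fun h => hne (funext fun i =>
        CharTwo.add_eq_zero.mp (congrFun h i)))
      rw [B_add_left, ← hsym, B_act, CharTwo.add_self_eq_zero] at hw
      exact zero_ne_one hw
    set y := act x g with hy
    obtain ⟨u, hu⟩ := exists_B (u := x + y) (fun h => hx (funext fun i =>
        (CharTwo.add_eq_zero.mp (congrFun h i)).symm))
    set z := u + act u g
    have hxz : B x z = 1 := by
      rw [B_add_right, hsym, ← hy, ← B_add_left]; exact hu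
    have hyz : B y z = 1 := by
      rw [B_add_right, hsym y u, hy, hinvol, ← hy, ← B_add_left, add_comm]; exact hu
    have hmoved : (moved (g * t z)).card ≤ k := by
      refine hk ▸ Finset.card_le_card fun w hw => ?_
      simp only [moved, Finset.mem_filter, Finset.mem_univ, true_and] at hw ⊢
      intro hfix
      apply hw
      rw [act_mul, hfix, act_t, B_add_right, hsym, hfix, CharTwo.add_self_eq_zero, zero_smul, add_zero]
    have hB : B x (act x (g * t z)) = 1 := by
      rw [act_mul, ← hy, act_t, hyz, one_smul, B_add_right, hy, h0, hxz, zero_add]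
    have := mul_mem (one_step _ hmoved x hB) (T.inv_mem (htT z))
    rwa [mul_inv_cancel_right] at this

/-- In the symplectic group in dimension 2n ≥ 2 over the field with two elements, the elements g for which g - 1 has rank one (the symplectic transvections) form a conjugacy class of 3-transpositions generating the group. -/
theorem result (n : ℕ) (hn : 1 ≤ n) : Cfsg.IsThreeTranspositionClass {g : Matrix.symplecticGroup (Fin n) (ZMod 2) | ((g : Matrix (Fin n ⊕ Fin n) (Fin n ⊕ Fin n) (ZMod 2)) - 1).rank = 1} := by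
  show Cfsg.IsThreeTranspositionClass (D n)
  have hD : D n = {h : Sp n | ∃ v, v ≠ 0 ∧ h = t v} := Set.ext rank_one_iff
  rw [hD]
  let i₀ : Idx n := Sum.inl ⟨0, by omega⟩
  let v₀ : V n := Pi.single i₀ 1
  have hv₀ : v₀ ≠ 0 := fun h => by simpa [v₀] using congrFun h i₀
  refine ⟨⟨?_, ?_⟩, ⟨t v₀, ⟨v₀, hv₀, rfl⟩, ?_⟩, ?_⟩
  · rintro _ ⟨v, hv, rfl⟩
    refine orderOf_eq_prime (by rw [pow_two, t_sq]) fun h => ?_
    obtain ⟨w, hw⟩ := exists_B hv
    have h2 := congrArg (act w) h
    rw [act_t, act_one, B_comm, hw, one_smul] at h2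
    exact hv (add_eq_left.mp h2)
  · rintro _ ⟨u, hu, rfl⟩ _ ⟨v, hv, rfl⟩
    have huv : t v * t u * t v = t (u + B u v • v) := by
      have h := t_conj u (t v); rwa [t_inv, act_t] at h
    have hvu : t u * t v * t u = t (v + B v u • u) := by
      have h := t_conj v (t u); rwa [t_inv, act_t] at h
    rcases two_cases (B u v) with h | h
    · left
      rw [h, zero_smul, add_zero] at huv
      calc (t u * t v) ^ 2 = t u * (t v * t u * t v) := by simp [pow_two, mul_assoc]
        _ = 1 := by rw [huv, t_sq]
    · right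
      rw [h, one_smul] at huv
      rw [B_comm, h, one_smul, add_comm] at hvu
      calc (t u * t v) ^ 3 = (t u * t v * t u) * (t v * t u * t v) := by simp [pow_succ, mul_assoc]
        _ = 1 := by rw [huv, hvu, t_sq]
  · ext g
    rw [show ∀ a b : Sp n, (b ∈ conjugatesOf a) = IsConj a b from fun _ _ => rfl, Set.mem_ofPred_eq]
    constructor
    · rintro ⟨v, hv, rfl⟩
      obtain ⟨h, hh⟩ := trans_vectors hv₀ hv
      exact isConj_iff.mpr ⟨h⁻¹, by rw [inv_inv, t_conj, hh]⟩
    · intro h
      obtain ⟨c, hc⟩ := isConj_iff.mp h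
      refine ⟨act v₀ c⁻¹, fun h0 => hv₀ (act_injective c⁻¹ (by simpa [act] using h0)), ?_⟩
      rw [← hc, ← t_conj, inv_inv]
  · exact eq_top_iff.mpr fun g _ => gen g

end Cfsg.Agent.S0440
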