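import Cfsg.Statements.S0442
import Cfsg.Agent.SporB.ThreeTrans

set_option autoImplicit false
open Cfsg

namespace Cfsg.Agent.S0442

open CfsgLib.SporB

/-- A standard trick for producing elements of an involution centraliser: for an involution a and an element g, let b be the conjugate g⁻¹ * a * g. If a * b has odd order 2m + 1 then g * (a * b) ^ m commutes with a; if a * b has even order 2m then (a * b) ^ m and (a * (g * a * g⁻¹)) ^ m commute with a. -/
theorem result {G : Type*} [Group G] (a g : G) (ha : orderOf a = 2) : (∀ m : ℕ, orderOf (a * (g⁻¹ * a * g)) = 2 * m + 1 → Commute (g * (a * (g⁻¹ * a * g)) ^ m) a) ∧ (∀ m : ℕ, orderOf (a * (g⁻¹ * a * g)) = 2 * m → Commute ((a * (g⁻¹ * a * g)) ^ m) a ∧ Commute ((a * (g * a * g⁻¹)) ^ m) a) := by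
  have haa : a * a = 1 := mul_self_of_orderTwo ha
  have hai : a⁻¹ = a := inv_of_orderTwo ha
  set b := g⁻¹ * a * g with hb
  have hbi : b⁻¹ = b := by rw [hb]; simp [hai, mul_assoc]
  have hinv : ∀ k : ℕ, a * (a * b) ^ k * a = ((a * b) ^ k)⁻¹ := fun k => by
    have h1 : a * (a * b) * a⁻¹ = (a * b)⁻¹ := by
      rw [hai, mul_inv_rev, hbi, hai, ← mul_assoc a a b, haa, one_mul]
    calc a * (a * b) ^ k * a = a * (a * b) ^ k * a⁻¹ := by rw [hai]
      _ = (a * (a * b) * a⁻¹) ^ k := (conj_pow).symm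
      _ = _ := by rw [h1, inv_pow]
  have even_case : ∀ (c : G) (m : ℕ), orderOf c = 2 * m → a * c ^ m * a = (c ^ m)⁻¹ → Commute (c ^ m) a := by
    intro c m hm h
    have h2 : (c ^ m)⁻¹ = c ^ m := by
      apply inv_eq_of_mul_eq_one_right
      rw [← pow_add, ← two_mul, ← hm, pow_orderOf_eq_one]
    rw [h2] at h
    show c ^ m * a = a * c ^ m
    calc c ^ m * a = (a * c ^ m * a) * a := by rw [h]
      _ = a * c ^ m := by rw [mul_assoc, haa, mul_one]
  refine ⟨fun m hm => ?_, fun m hm => ⟨even_case _ m hm (hinv m), ?_⟩⟩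
  · have h1 : (a * b) * (a * b) ^ m = ((a * b) ^ m)⁻¹ := by
      apply eq_inv_of_mul_eq_one_left
      rw [← pow_succ', ← pow_add, show m + 1 + m = orderOf (a * b) by omega, pow_orderOf_eq_one]
    rw [← hinv m] at h1
    have h2 : b * (a * b) ^ m = (a * b) ^ m * a := by
      simp only [mul_assoc] at h1
      simpa only [mul_assoc] using mul_left_cancel h1
    show g * (a * b) ^ m * a = a * (g * (a * b) ^ m)
    rw [mul_assoc g, ← h2, hb]
    group
  · have hord : orderOf (a * (g * a * g⁻¹)) = 2 * m := by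
      rw [← hm, hb]
      have h1 : a * (g * a * g⁻¹) = MulAut.conj g ((a * (g⁻¹ * a * g))⁻¹) := by
        simp [MulAut.conj_apply, hai, mul_assoc]
      rw [h1, MulEquiv.orderOf_eq, orderOf_inv]
    refine even_case _ m hord ?_
    have hgi : (g * a * g⁻¹)⁻¹ = g * a * g⁻¹ := by simp [hai, mul_assoc]
    have h1 : a * (a * (g * a * g⁻¹)) * a⁻¹ = (a * (g * a * g⁻¹))⁻¹ := by
      rw [hai, mul_inv_rev, hgi, hai, ← mul_assoc a a, haa, one_mul]
    calc a * (a * (g * a * g⁻¹)) ^ m * a = a * (a * (g * a * g⁻¹)) ^ m * a⁻¹ := by rw [hai]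
      _ = (a * (a * (g * a * g⁻¹)) * a⁻¹) ^ m := (conj_pow).symm
      _ = _ := by rw [h1, inv_pow]

end Cfsg.Agent.S0442
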