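import Cfsg.Statements.S0444
import Cfsg.Agent.SporB.ThreeTrans

set_option autoImplicit false
open Cfsg

namespace Cfsg.Agent.S0444

/-- The dihedral group of order 6 as permutations of three letters. -/
def toPermFun : DihedralGroup 3 → Equiv.Perm (Fin 3)
  | .r i => finRotate 3 ^ i.val
  | .sr i => Equiv.swap 0 1 * finRotate 3 ^ i.val

noncomputable def toPerm : DihedralGroup 3 ≃* Equiv.Perm (Fin 3) :=
  MulEquiv.ofBijective (MonoidHom.mk' toPermFun (by decide)) (by
    rw [Fintype.bijective_iff_injective_and_card]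
    refine ⟨?_, by decide⟩
    show Function.Injective toPermFun
    decide)

open CfsgLib.SporB


/-- Two members of a set of 3-transpositions which do not commute generate a subgroup isomorphic to the symmetric group on three letters. -/
theorem result {G : Type*} [Group G] {E : Set G} (hE : Cfsg.IsThreeTranspositionSet E) {d e : G} (hd : d ∈ E) (he : e ∈ E) (h : ¬ Commute d e) : Nonempty (Subgroup.closure ({d, e} : Set G) ≃* Equiv.Perm (Fin 3)) := by
  have hd2 := ttSq hE hd
  have hdi := inv_of_orderTwo (hE.1 d hd)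
  have hei := inv_of_orderTwo (hE.1 e he)
  set x := d * e with hx
  have hx3 : x ^ 3 = 1 := by
    have hb := ttBraid hE hd he h
    calc x ^ 3 = (d * e * d) * (e * d * e) := by simp [pow_succ, hx, mul_assoc]
      _ = 1 := by rw [hb, mul_eq_one_iff_eq_inv, mul_inv_rev, mul_inv_rev, hdi, hei, mul_assoc]
  have hdx : ∀ k : ℕ, x ^ k * d = d * x ^ (2 * k) := by
    intro k
    induction k with
    | zero => simp
    | succ k ih =>
      have h1 : x * d = d * x ^ 2 := by
        calc x * d = d * e * d := rfl
          _ = e * d * e := ttBraid hE hd he h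
          _ = d * (d * (e * d * e)) := (ttCancel hE hd _).symm
          _ = _ := by simp [pow_two, hx, mul_assoc]
      rw [pow_succ, mul_assoc, h1, ← mul_assoc, ih, mul_assoc, ← pow_add]; ring_nf
  have hmod : ∀ k : ℕ, x ^ k = x ^ (k % 3) := fun k => pow_eq_pow_mod k hx3
  let f : DihedralGroup 3 → G
    | .r i => x ^ i.val
    | .sr i => d * x ^ i.val
  have hval : ∀ (i : ZMod 3) (k : ℕ), k % 3 = i.val → x ^ k = x ^ i.val := fun i k hk => by rw [hmod k, hk]
  let φ : DihedralGroup 3 →* G := MonoidHom.mk' f (by
    rintro (i | i) (j | j)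
    · show x ^ (i + j).val = x ^ i.val * x ^ j.val
      rw [← pow_add]; exact (hval _ _ (by revert i j; decide)).symm
    · show d * x ^ (j - i).val = x ^ i.val * (d * x ^ j.val)
      rw [← mul_assoc, hdx, mul_assoc, ← pow_add]
      exact congrArg (d * ·) (hval _ _ (by revert i j; decide)).symm
    · show d * x ^ (i + j).val = d * x ^ i.val * x ^ j.val
      rw [mul_assoc, ← pow_add]
      exact congrArg (d * ·) (hval _ _ (by revert i j; decide)).symm
    · show x ^ (j - i).val = d * x ^ i.val * (d * x ^ j.val)
      rw [mul_assoc, ← mul_assoc (x ^ i.val), hdx, mul_assoc d, ← pow_add, ← mul_assoc, hd2, one_mul]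
      exact (hval _ _ (by revert i j; decide)).symm)
  have hxne : x ≠ 1 := fun h1 => h (by
    rw [hx, mul_eq_one_iff_eq_inv, hei] at h1; rw [h1])
  have hox : orderOf x = 3 := by
    haveI : Fact (Nat.Prime 3) := ⟨Nat.prime_three⟩
    exact orderOf_eq_prime hx3 hxne
  have hpow : ∀ a b : ℕ, a < 3 → b < 3 → x ^ a = x ^ b → a = b := fun a b ha hb hab =>
    (pow_inj_mod.mp hab |> fun t => by rw [hox, Nat.mod_eq_of_lt ha, Nat.mod_eq_of_lt hb] at t; exact t)
  have hdn : ∀ k : ℕ, d ≠ x ^ k := fun k hk => h (by
    have h1 : Commute d x := hk ▸ Commute.pow_self x k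
    have h2 := (Commute.refl d).mul_right h1
    rwa [hx, ttCancel hE hd] at h2)
  have hinj : Function.Injective φ := by
    rw [← MonoidHom.ker_eq_bot_iff, eq_bot_iff]
    rintro (i | i) hi
    · have : i.val = 0 := hpow _ _ (ZMod.val_lt i) (by norm_num) (by rw [pow_zero]; exact hi)
      rw [Subgroup.mem_bot, show i = 0 from (ZMod.val_eq_zero i).mp this]; rfl
    · exact absurd (by
        have h1 : d * x ^ i.val = 1 := hi
        rw [mul_eq_one_iff_eq_inv] at h1
        rw [h1, ← hval (-i) (i.val * 2) (by clear h1 hi; revert i; decide)]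
        apply inv_eq_of_mul_eq_one_right
        rw [← pow_add, show i.val + i.val * 2 = 3 * i.val by ring, pow_mul, hx3, one_pow]) (hdn (-i).val)
  have hrange : φ.range = Subgroup.closure {d, e} := by
    apply le_antisymm
    · rintro _ ⟨g, rfl⟩
      have hdm : d ∈ Subgroup.closure ({d, e} : Set G) := Subgroup.subset_closure (by simp)
      have hxm : x ∈ Subgroup.closure ({d, e} : Set G) := mul_mem hdm (Subgroup.subset_closure (by simp))
      cases g with
      | r i => exact pow_mem hxm _
      | sr i => exact mul_mem hdm (pow_mem hxm _)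
    · rw [Subgroup.closure_le]
      rintro y (rfl | rfl)
      · exact ⟨.sr 0, by show y * x ^ (0 : ZMod 3).val = y; simp⟩
      · exact ⟨.sr 1, by show d * x ^ (1 : ZMod 3).val = y; rw [show (1 : ZMod 3).val = 1 from rfl, pow_one, hx, ttCancel hE hd]⟩
  exact ⟨((MulEquiv.subgroupCongr hrange.symm).trans (MonoidHom.ofInjective hinj).symm).trans toPerm⟩

end Cfsg.Agent.S0444
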