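import Cfsg.Statements.S0446

set_option autoImplicit false
open Cfsg

namespace Cfsg.Agent.S0446

/-- Every finite group of even order contains a 2-central involution, i.e. an element of order 2 in the centre of some Sylow 2-subgroup. -/
theorem result {G : Type*} [Group G] [Finite G] (h : Even (Nat.card G)) : ∃ t : G, Cfsg.IsTwoCentralInvolution t := by
  haveI : Fact (Nat.Prime 2) := ⟨Nat.prime_two⟩
  obtain ⟨P⟩ := (inferInstance : Nonempty (Sylow 2 G))
  have h2 : 2 ∣ Nat.card P := P.dvd_card_of_dvd_card h.two_dvd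
  haveI : Nontrivial P := Finite.one_lt_card_iff_nontrivial.mp
    (lt_of_lt_of_le (by norm_num) (Nat.le_of_dvd Nat.card_pos h2))
  have hZ := P.isPGroup'.center_nontrivial
  obtain ⟨k, hk, hk'⟩ := (IsPGroup.iff_card.mp (P.isPGroup'.to_subgroup (Subgroup.center P))).imp
    fun n hn => And.intro (show n ≠ 0 by
      rintro rfl
      have := Finite.one_lt_card_iff_nontrivial.mpr hZ
      omega) hn
  have h2Z : 2 ∣ Nat.card (Subgroup.center P) := hk' ▸ dvd_pow_self 2 hk
  obtain ⟨z, hz⟩ := exists_prime_orderOf_dvd_card' 2 h2Z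
  refine ⟨((z : P) : G), by rw [Subgroup.orderOf_coe, Subgroup.orderOf_coe]; exact hz, P, (z : P).2, fun x hx => ?_⟩
  exact congrArg Subtype.val (Subgroup.mem_center_iff.mp z.2 ⟨x, hx⟩)

end Cfsg.Agent.S0446
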