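import Cfsg.Statements.S0459
import Cfsg.Agent.Ru.Simple
-- import your own Cfsg.Agent.* helpers here

set_option autoImplicit false
open Cfsg

namespace Cfsg.Agent.S0459

/-- The Rudvalis group exists as a transitive permutation group of degree 4060: simple of order 145926144000, with point stabiliser of order 35942400 containing a simple subgroup of order 17971200 (the order of the Tits group). -/
theorem result : ∃ H : Subgroup (Equiv.Perm (Fin 4060)), Cfsg.IsRu H ∧ MulAction.IsPretransitive H (Fin 4060) ∧ Nat.card (MulAction.stabilizer H (0 : Fin 4060)) = 35942400 ∧ ∃ T : Subgroup (MulAction.stabilizer H (0 : Fin 4060)), Cfsg.IsTits T := by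
  refine ⟨CfsgLib.Ru.RL, ⟨CfsgLib.Ru.RL_simple, CfsgLib.Ru.card_RL⟩, inferInstance,
    CfsgLib.Ru.card_stab, CfsgLib.Ru.titsHom.range, ?_⟩
  have e := MonoidHom.ofInjective CfsgLib.Ru.titsHom_injective
  have := CfsgLib.Ru.T1_simple
  exact ⟨e.symm.isSimpleGroup, (Nat.card_congr e.toEquiv).symm.trans CfsgLib.Ru.card_T1⟩

end Cfsg.Agent.S0459
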