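import Cfsg.Statements.S0462
import Cfsg.Agent.CosetEnum.HeSimple.Final
import Cfsg.Agent.CosetEnum.HeSp.Iso

set_option autoImplicit false
set_option maxRecDepth 100000
open Cfsg

namespace Cfsg.Agent.S0462

/-- The Held group exists as a transitive permutation group of degree 2058: simple of order 4030387200, with point stabiliser containing, with index 2, a copy of the 4-dimensional symplectic group over the field with four elements. -/
theorem result : ∃ H : Subgroup (Equiv.Perm (Fin 2058)), Cfsg.IsHe H ∧ MulAction.IsPretransitive H (Fin 2058) ∧ ∃ (F : Type) (_ : Field F) (_ : Fintype F), Fintype.card F = 4 ∧ ∃ N : Subgroup (MulAction.stabilizer H (0 : Fin 2058)), N.index = 2 ∧ Nonempty (N ≃* Matrix.symplecticGroup (Fin 2) F) := by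
  obtain ⟨φ, e, hφ, he, he0, hinj, hG⟩ := CfsgLib.CosetEnum.He.order_and_action
  haveI := CfsgLib.CosetEnum.He.isSimpleGroup_He
  let φ' : Cfsg.Spor.He →* Equiv.Perm (Fin 2058) := φ
  let ρ : Cfsg.Spor.He ≃* φ'.range := MonoidHom.ofInjective (f := φ') hinj
  have heq : ∀ y : CfsgLib.CosetEnum.He.setup.Grp, e (y : CfsgLib.CosetEnum.He.setup.Grp ⧸ CfsgLib.CosetEnum.HeH.enum.H) = φ y 0 := fun y => by
    rw [← he0, ← he y, MulAction.Quotient.smul_coe, smul_eq_mul, mul_one]
  have hstab : ∀ y : CfsgLib.CosetEnum.He.setup.Grp, φ' y 0 = 0 ↔ y ∈ CfsgLib.CosetEnum.HeH.enum.H := by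
    intro y
    constructor
    · intro h
      have h1 : e (y : CfsgLib.CosetEnum.He.setup.Grp ⧸ CfsgLib.CosetEnum.HeH.enum.H) =
          e ((1 : CfsgLib.CosetEnum.He.setup.Grp) : CfsgLib.CosetEnum.He.setup.Grp ⧸ CfsgLib.CosetEnum.HeH.enum.H) := by
        rw [heq, he0]; exact h
      simpa using QuotientGroup.eq.mp (e.injective h1).symm
    · intro h
      have h1 : e (y : CfsgLib.CosetEnum.He.setup.Grp ⧸ CfsgLib.CosetEnum.HeH.enum.H) =
          e ((1 : CfsgLib.CosetEnum.He.setup.Grp) : CfsgLib.CosetEnum.He.setup.Grp ⧸ CfsgLib.CosetEnum.HeH.enum.H) :=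
        congrArg e (QuotientGroup.eq.mpr (by simpa using h))
      rw [heq, he0] at h1
      exact h1
  haveI : Nontrivial φ'.range := ρ.toEquiv.symm.nontrivial
  refine ⟨φ'.range, ⟨IsSimpleGroup.isSimpleGroup_of_surjective ρ.toMonoidHom ρ.surjective, ?_⟩, ?_, ?_⟩
  · rw [← Nat.card_congr ρ.toEquiv]
    exact CfsgLib.CosetEnum.He.card_He
  · have key : ∀ i : Fin 2058, ∃ y, φ' y 0 = i := fun i => by
      obtain ⟨y, hy⟩ := Quotient.exists_rep (e.symm i)
      exact ⟨y, ((heq y).symm.trans (congrArg e (show (y : CfsgLib.CosetEnum.He.setup.Grp ⧸ CfsgLib.CosetEnum.HeH.enum.H) = e.symm i from hy))).trans (e.apply_symm_apply i)⟩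
    refine ⟨fun i j => ?_⟩
    obtain ⟨y, rfl⟩ := key i
    obtain ⟨y', rfl⟩ := key j
    refine ⟨⟨φ' (y' * y⁻¹), _, rfl⟩, ?_⟩
    show φ' (y' * y⁻¹) (φ' y 0) = φ' y' 0
    rw [← Equiv.Perm.mul_apply, ← map_mul, inv_mul_cancel_right]
  · let σ : CfsgLib.CosetEnum.HeH.enum.H →* MulAction.stabilizer φ'.range (0 : Fin 2058) :=
      { toFun := fun y => ⟨⟨φ' y.1, y.1, rfl⟩, (hstab y.1).mpr y.2⟩
        map_one' := Subtype.ext (Subtype.ext (map_one φ'))
        map_mul' := fun y y' => Subtype.ext (Subtype.ext (map_mul φ' y.1 y'.1)) }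
    have hσi : Function.Injective σ := fun y y' h =>
      Subtype.ext (hinj (congrArg (fun u => ((u : φ'.range) : Equiv.Perm (Fin 2058))) (congrArg Subtype.val h)))
    have hσs : Function.Surjective σ := by
      rintro ⟨⟨p, y, rfl⟩, hp⟩
      exact ⟨⟨y, (hstab y).mp hp⟩, rfl⟩
    let τ := MulEquiv.ofBijective σ ⟨hσi, hσs⟩
    obtain ⟨N, -, hidx, ⟨f⟩⟩ := CfsgLib.CosetEnum.HeSp.exists_spFour
    refine ⟨CfsgLib.SporB.FFour, inferInstance, inferInstance, CfsgLib.SporB.FFour.card_eq,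
      N.map τ.toMonoidHom, ?_, ⟨(τ.subgroupMap N).symm.trans f⟩⟩
    exact (Subgroup.index_map_equiv N τ).trans hidx

end Cfsg.Agent.S0462
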