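import Cfsg.Statements.S0473
import Cfsg.Agent.CosetEnum.Fi24He.Main

set_option autoImplicit false
open Cfsg

namespace Cfsg.Agent.S0473

/-- The largest Fischer 3-transposition group: a group of order 2 · 1255205709190661721292800 generated by a conjugacy class of 306936 3-transpositions, in which a transposition centraliser has order 2 · 4089470473293004800 and contains a simple subgroup of order 4089470473293004800; its subgroup of index 2 is simple and contains simple subgroups of orders 4089470473293004800 and 4030387200. -/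
theorem result : ∃ (G : Type) (_ : Group G) (_ : Finite G), Nat.card G = 2 * 1255205709190661721292800 ∧ ∃ D : Set G, Cfsg.IsThreeTranspositionClass D ∧ Nat.card D = 306936 ∧ (∀ d ∈ D, Nat.card (Subgroup.centralizer ({d} : Set G)) = 2 * 4089470473293004800 ∧ ∃ K : Subgroup G, K ≤ Subgroup.centralizer ({d} : Set G) ∧ Cfsg.IsFi23 K) ∧ ∃ H : Subgroup G, H.index = 2 ∧ Cfsg.IsFi24' H ∧ (∃ K : Subgroup H, Cfsg.IsFi23 K) ∧ (∃ K : Subgroup H, Cfsg.IsHe K) := by
  haveI := CfsgLib.CosetEnum.Fi24.finite_grp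
  refine ⟨Cfsg.Spor.Fi24, inferInstance, CfsgLib.CosetEnum.Fi24.finite_grp,
    CfsgLib.CosetEnum.Fi24.card_Fi24, ?_⟩
  obtain ⟨D, hD, hcard, hcent⟩ := CfsgLib.CosetEnum.Fi24.exists_class
  refine ⟨D, hD, hcard, hcent, commutator Cfsg.Spor.Fi24, CfsgLib.CosetEnum.Fi24.index_commutator,
    CfsgLib.CosetEnum.Fi24.isFi24', ?_, CfsgLib.CosetEnum.Fi24He.exists_he⟩
  obtain ⟨e⟩ := CfsgLib.CosetEnum.Fi24.stabilizer_iso
  haveI : IsSimpleGroup Cfsg.Spor.Fi23 := CfsgLib.CosetEnum.Fi23.isSimpleGroup_Fi23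
  exact ⟨_, e.symm.isSimpleGroup, (Nat.card_congr e.toEquiv).symm.trans CfsgLib.CosetEnum.Fi23.card_Fi23⟩

end Cfsg.Agent.S0473
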