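import Cfsg.Statements.S0478
import Cfsg.Agent.JankoTwoThree.J3Unitary

set_option autoImplicit false
open Cfsg

namespace Cfsg.Agent.S0478

/-- A triple cover of Janko's third group inside a unitary group: for a field F with four elements, the special unitary group of dimension 9 (with respect to the form with q = 2) has a subgroup whose centre has order 3 and whose quotient by its centre is simple of order 50232960. -/
theorem result : ∃ (F : Type) (_ : Field F) (_ : Fintype F), Fintype.card F = 4 ∧ ∃ H : Subgroup (Cfsg.SU 9 F 2), Nat.card (Subgroup.center H) = 3 ∧ Cfsg.IsJ3 (H ⧸ Subgroup.center H) := by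
  classical
  letI : Fintype CfsgLib.J23.GF4 := Fintype.ofFinite _
  refine ⟨CfsgLib.J23.GF4, inferInstance, inferInstance, ?_, ?_⟩
  · rw [← Nat.card_eq_fintype_card]
    exact GaloisField.card 2 2 (by norm_num)
  let f := CfsgLib.J23.toSU CfsgLib.J23.w4_spec
  let e := MonoidHom.ofInjective (CfsgLib.J23.toSU_injective CfsgLib.J23.w4_spec)
  refine ⟨f.range, ?_, ?_⟩
  · rw [← Nat.card_congr (Subgroup.centerCongr e).toEquiv]
    exact CfsgLib.J23.card_center_threeJ3 CfsgLib.J23.w4_spec
  · let q := QuotientGroup.congr (Subgroup.center _) (Subgroup.center f.range) e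
      (Subgroup.ext fun y => by
        simp only [Subgroup.mem_map, Subgroup.mem_center_iff]
        constructor
        · rintro ⟨x, hx, rfl⟩ z
          obtain ⟨z, rfl⟩ := e.surjective z
          change e z * e x = e x * e z
          rw [← map_mul, ← map_mul, hx]
        · intro hy
          obtain ⟨x, rfl⟩ := e.surjective y
          exact ⟨x, fun z => e.injective (by rw [map_mul, map_mul]; exact hy (e z)), rfl⟩)
    refine ⟨?_, ?_⟩
    · haveI := CfsgLib.J23.isSimpleGroup_J3 CfsgLib.J23.w4_spec
      exact MulEquiv.isSimpleGroup q.symm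
    · rw [← Nat.card_congr q.toEquiv]
      exact CfsgLib.J23.card_J3_quot CfsgLib.J23.w4_spec

end Cfsg.Agent.S0478
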