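import Cfsg.Statements.S0481
import Cfsg.Agent.SporB.Sylow

set_option autoImplicit false
open Cfsg

namespace Cfsg.Agent.S0481

open CfsgLib.SporB

/-- Large extraspecial subgroups: let z be an involution of a finite group G whose centraliser C contains a normal 2-subgroup Q with centre of order 2 and all squares central, such that every element of G centralising Q lies in Q. Then C contains a Sylow 2-subgroup of G, and any involution of G whose centraliser contains a Sylow 2-subgroup of G is conjugate to z. -/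
theorem result {G : Type*} [Group G] [Finite G] (z : G) (hz : orderOf z = 2) (Q : Subgroup G) (hQC : Q ≤ Subgroup.centralizer ({z} : Set G)) (hQn : ∀ g ∈ Subgroup.centralizer ({z} : Set G), ∀ q ∈ Q, g * q * g⁻¹ ∈ Q) (hQ2 : IsPGroup 2 Q) (hZ : Nat.card (Subgroup.center Q) = 2) (hsq : ∀ x : Q, x ^ 2 ∈ Subgroup.center Q) (hlarge : Subgroup.centralizer (Q : Set G) ≤ Q) : (∃ P : Sylow 2 G, (P : Subgroup G) ≤ Subgroup.centralizer ({z} : Set G)) ∧ ∀ u : G, orderOf u = 2 → (∃ P : Sylow 2 G, (P : Subgroup G) ≤ Subgroup.centralizer ({u} : Set G)) → IsConj z u := by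
  haveI : Fact (Nat.Prime 2) := ⟨Nat.prime_two⟩
  have hzQ : z ∈ Q := hlarge fun q hq => Subgroup.mem_centralizer_singleton_iff.mp (hQC hq)
  have hzc : (⟨z, hzQ⟩ : Q) ∈ Subgroup.center Q := Subgroup.mem_center_iff.mpr fun q =>
    Subtype.ext (Subgroup.mem_centralizer_singleton_iff.mp (hQC q.2))
  have hz1 : z ≠ 1 := by rintro rfl; simp at hz
  have hcentQ : ∀ x : G, (∀ q ∈ Q, q * x = x * q) → x ≠ 1 → x = z := by
    intro x hx hx1
    have hxQ : x ∈ Q := hlarge fun q hq => hx q hq
    have hxc : (⟨x, hxQ⟩ : Q) ∈ Subgroup.center Q := Subgroup.mem_center_iff.mpr fun q =>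
      Subtype.ext (hx q q.2)
    have hf := (Nat.card_eq_two_iff' (1 : Subgroup.center Q)).mp hZ
    have := hf.unique (y₁ := ⟨_, hxc⟩) (y₂ := ⟨_, hzc⟩) (by simp [Subtype.ext_iff, hx1])
      (by simp [Subtype.ext_iff, hz1])
    simpa [Subtype.ext_iff] using this
  set C := Subgroup.centralizer ({z} : Set G)
  obtain ⟨S, hQS⟩ := (hQ2.comap_of_injective C.subtype C.subtype_injective).exists_le_sylow
  let T : Subgroup G := (S : Subgroup C).map C.subtype
  have hQT : Q ≤ T := fun q hq => ⟨⟨q, hQC hq⟩, hQS hq, rfl⟩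
  obtain ⟨P, hP⟩ := sylow_of_centre_le (z := z) (S.isPGroup'.map C.subtype) (Subgroup.map_subtype_le _) (hQT hzQ)
    (fun U hU hUC hTU => by
      have h3 : U.comap C.subtype = (S : Subgroup C) := S.is_maximal'
        (hU.comap_of_injective C.subtype C.subtype_injective) (Subgroup.map_le_iff_le_comap.mp hTU)
      apply le_antisymm ?_ hTU
      intro u hu
      exact ⟨⟨u, hUC hu⟩, h3 ▸ hu, rfl⟩)
    (fun x hx hox hy => hcentQ x (fun q hq => hy q (hQT hq)) (by rintro rfl; simp [hz] at hox))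
  refine ⟨⟨P, hP ▸ Subgroup.map_subtype_le _⟩, fun u hu ⟨P', hP'⟩ => ?_⟩
  obtain ⟨g, hg⟩ := MulAction.exists_smul_eq G P' P
  refine (isConj_iff.mpr ⟨g, ?_⟩).symm
  refine hcentQ _ (fun q hq => ?_) (by simp only [ne_eq, conj_eq_one_iff]; rintro rfl; simp at hu)
  have hqP : q ∈ (P : Subgroup G) := hP ▸ hQT hq
  rw [← hg, Sylow.coe_subgroup_smul, Subgroup.mem_pointwise_smul_iff_inv_smul_mem] at hqP
  have := Subgroup.mem_centralizer_singleton_iff.mp (hP' hqP)
  simp only [MulAut.inv_def, MulAut.smul_def, MulAut.conj_symm_apply] at this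
  calc q * (g * u * g⁻¹) = g * (g⁻¹ * q * g * u) * g⁻¹ := by group
    _ = g * (u * (g⁻¹ * q * g)) * g⁻¹ := by rw [this]
    _ = _ := by group

end Cfsg.Agent.S0481
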