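import Cfsg.Statements.S0518
import Cfsg.Agent.ZCGroup.SymFour

set_option autoImplicit false
open Cfsg

namespace Cfsg.Agent.S0518

open Subgroup in
theorem closure_odd_eq {G : Type*} [Group G] :
    closure {g : G | Odd (orderOf g)} = Cfsg.pResidual 2 G := by
  rw [Cfsg.pResidual]
  congr 1
  ext g
  exact Nat.coprime_two_right.symm

/-- Let G be a finite group of characteristic 2 type with trivial 2-core in which every 2-local subgroup is solvable
and, for every Sylow 2-subgroup S, the centralizer of the set of central involutions of S lies in the normalizer of S.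
Then either G has a strongly embedded subgroup, or the subgroup generated by the elements of odd order has two distinct
maximal 2-local subgroups, each isomorphic to the symmetric group of degree 4, whose intersection has order 8. -/
theorem result {G : Type*} [Group G] [Finite G]
    (hL : Cfsg.IsCharacteristicTwoType G) (hO : Cfsg.pCore 2 G = ⊥)
    (hN : ∀ N : Subgroup G, Cfsg.IsTwoLocal N → Group.IsSolvable N)
    (hZ : ∀ S : Sylow 2 G,
      Subgroup.centralizer {z : G | z ∈ (S : Subgroup G) ∧ z ^ 2 = 1 ∧ ∀ s ∈ (S : Subgroup G), s * z = z * s} ≤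
        Subgroup.normalizer ((S : Subgroup G) : Set G))
    (H : Subgroup G) (hH : H = Subgroup.closure {g : G | Odd (orderOf g)}) :
    (∃ K : Subgroup G, Cfsg.IsStronglyEmbedded K) ∨
      ∃ M₁ M₂ : Subgroup H, M₁ ≠ M₂ ∧ Cfsg.IsMaximalTwoLocal M₁ ∧ Cfsg.IsMaximalTwoLocal M₂ ∧
        Nonempty (M₁ ≃* Equiv.Perm (Fin 4)) ∧ Nonempty (M₂ ≃* Equiv.Perm (Fin 4)) ∧ Nat.card ↥(M₁ ⊓ M₂) = 8 := by
  subst hH
  rw [closure_odd_eq]
  haveI : Fact (Nat.Prime 2) := ⟨Nat.prime_two⟩
  haveI : (Cfsg.pResidual 2 G).Normal := inferInstance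
  have hZ1 : ∀ S : Sylow 2 G, Subgroup.centralizer (CfsgLib.ZCGroup.zc S : Set G) ≤
      Subgroup.normalizer ((S : Subgroup G) : Set G) := fun S =>
    le_trans (Subgroup.centralizer_le fun z hz => CfsgLib.ZCGroup.mem_zc S hz.1 hz.2.2
      (by rw [← sq]; exact hz.2.1)) (hZ S)
  have hZ2 : ∀ S : Sylow 2 G, Subgroup.centralizer (Cfsg.omegaCenterOf (S : Subgroup G) : Set G) ≤
      Subgroup.normalizer ((S : Subgroup G) : Set G) := hZ1
  obtain ⟨S⟩ : Nonempty (Sylow 2 G) := inferInstance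
  set J := Cfsg.thompsonSubgroupOf 2 (S : Subgroup G) with hJ
  have hJS : J ≤ (S : Subgroup G) := CfsgLib.PLocal.thompsonSubgroupOf_le 2 _
  have hSne : (S : Subgroup G) ≠ ⊥ := S.ne_bot_of_dvd_card hL.1.two_dvd
  have hJne : J ≠ ⊥ := by
    obtain ⟨x, hxS, hx, -⟩ := CfsgLib.Inv53.exists_orderOf_eq_central S.isPGroup' hSne
    obtain ⟨A, hA⟩ := CfsgLib.PLocal.maxEAIn_nonempty 2 (S : Subgroup G)
    have h2 := hA.2.2 (Subgroup.zpowers x) (Subgroup.zpowers_le.mpr hxS)
      (CfsgLib.PLocal.isElementaryAbelian_zpowers (by rw [← hx, pow_orderOf_eq_one]))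
    intro e
    have h3 := Subgroup.card_le_of_le (CfsgLib.PLocal.le_thompsonSubgroupOf hA)
    rw [← hJ, e, Subgroup.card_bot] at h3
    rw [Nat.card_zpowers, hx] at h2
    omega
  set M := Subgroup.normalizer (J : Set G) with hM
  have hMl : Cfsg.IsTwoLocal M := ⟨J, S.isPGroup'.to_le hJS, hJne, rfl⟩
  by_cases hstr : Cfsg.straddlingTwoSubgroups M = ∅
  · exact Or.inl ⟨M, (Cfsg.Agent.S2947.result hL hN hZ2 hO S M hMl le_rfl).mpr hstr⟩
  obtain ⟨T, hT⟩ := CfsgLib.JComp.exists_max_straddling (Set.nonempty_iff_ne_empty.mpr hstr)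
  obtain ⟨P₁, P₂, hne, hm₁, hm₂, hT₁, hT₂, hiso⟩ :=
    Cfsg.Agent.S2954.result hL hN hZ2 hO S M hMl le_rfl T hT
  obtain ⟨V₁, V₂, d₁, d₂⟩ := CfsgLib.ZCGroup.exists_traces hZ1 hne hm₁ hm₂ hT₁ hT₂ hiso
  exact Or.inr (CfsgLib.ZCGroup.two_symmetric_four
    (fun a => CfsgLib.ZCGroup.mem_pResidual_of_pow_three) d₁ d₂ hT₁ hT₂ hne)

end Cfsg.Agent.S0518
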