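import Cfsg.Statements.S0520
import Cfsg.Agent.Classification.Four

set_option autoImplicit false
open Cfsg CfsgLib.Classification
open scoped Pointwise

namespace Cfsg.Agent.S0520

/-- Let G be a finite group of 2-rank at least 2 and S a Sylow 2-subgroup whose commuting graph of Klein four-subgroups is
connected. Then the commuting graph of Klein four-subgroups of G is disconnected if and only if the 2-generated core — the
subgroup generated by the normalizers N_G(Q) of the subgroups Q of S that contain a Klein four-group — is a proper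
subgroup of G. -/
theorem result {G : Type*} [Group G] [Finite G] (h2 : ¬ Cfsg.PRankLE 2 1 G)
    (S : Sylow 2 G) (hS : Cfsg.IsFourConnected (S : Subgroup G)) :
    ¬ Cfsg.IsFourConnected G ↔
      (⨆ Q : {Q : Subgroup G // Q ≤ (S : Subgroup G) ∧ ¬ Cfsg.PRankLE 2 1 Q},
          Subgroup.normalizer ((Q : Subgroup G) : Set G)) ≠ ⊤ := by
  classical
  let R := fun A B : Subgroup G => IsKleinFour A ∧ IsKleinFour B ∧ ∀ a ∈ A, ∀ b ∈ B, a * b = b * a
  let K : Subgroup G := ⨆ Q : {Q : Subgroup G // Q ≤ (S : Subgroup G) ∧ ¬ Cfsg.PRankLE 2 1 Q},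
    Subgroup.normalizer ((Q : Subgroup G) : Set G)
  show ¬ Cfsg.IsFourConnected G ↔ K ≠ ⊤
  rw [not_iff_not]
  have hconj : ∀ (g : G) (A B : Subgroup G), Relation.ReflTransGen R A B →
      Relation.ReflTransGen R (A.map (MulAut.conj g).toMonoidHom) (B.map (MulAut.conj g).toMonoidHom) := by
    intro g A B h
    induction h with
    | refl => exact Relation.ReflTransGen.refl
    | @tail C D _ hCD ih => ?_
    refine ih.tail ?_
    obtain ⟨hA, hB, hc⟩ := hCD
    refine ⟨isKleinFour_map _ (MulAut.conj g).injective hA, isKleinFour_map _ (MulAut.conj g).injective hB, ?_⟩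
    rintro _ ⟨a, ha, rfl⟩ _ ⟨b, hb, rfl⟩
    rw [← map_mul, hc a ha b hb, map_mul]
  have hsymm : ∀ {A B : Subgroup G}, Relation.ReflTransGen R A B → Relation.ReflTransGen R B A := by
    intro A B h
    induction h with
    | refl => exact Relation.ReflTransGen.refl
    | tail _ h ih =>
      exact Relation.ReflTransGen.head ⟨h.2.1, h.1, fun b hb a ha => (h.2.2 a ha b hb).symm⟩ ih
  have hcomp : ∀ (g h : G) (A : Subgroup G),
      A.map (MulAut.conj (g * h)).toMonoidHom =
        (A.map (MulAut.conj h).toMonoidHom).map (MulAut.conj g).toMonoidHom := by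
    intro g h A
    rw [Subgroup.map_map]
    congr 1
    ext x
    simp [mul_assoc]
  have hcan : ∀ (g : G) (A : Subgroup G),
      (A.map (MulAut.conj g).toMonoidHom).map (MulAut.conj g⁻¹).toMonoidHom = A := by
    intro g A
    rw [← hcomp, inv_mul_cancel]
    ext x
    simp
  have hsub : ∀ (g : G) (A B : Subgroup G), A ≤ B →
      A.map (MulAut.conj g).toMonoidHom ≤ B.map (MulAut.conj g).toMonoidHom :=
    fun g A B h => Subgroup.map_mono h
  have intoS : ∀ (H : Subgroup G), (S : Subgroup G) ≤ H → ∀ U : Subgroup G, U ≤ H → IsPGroup 2 U →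
      ∃ m ∈ H, U.map (MulAut.conj m).toMonoidHom ≤ (S : Subgroup G) := by
    intro H hSH U hUH hU2
    obtain ⟨P, hP⟩ := (hU2.comap_subtype (K := H)).exists_le_sylow
    obtain ⟨m, hm⟩ := MulAction.exists_smul_eq H P (S.subtype hSH)
    refine ⟨m, m.2, ?_⟩
    rintro _ ⟨u, hu, rfl⟩
    have h1 : m * ⟨u, hUH hu⟩ * m⁻¹ ∈ ((m • P : Sylow 2 H) : Subgroup H) := by
      rw [Sylow.coe_subgroup_smul]
      exact ⟨⟨u, hUH hu⟩, hP hu, rfl⟩
    rw [hm] at h1
    simpa [Subgroup.mem_subgroupOf] using h1
  have klein2 : ∀ U : Subgroup G, IsKleinFour U → IsPGroup 2 U := fun U hU =>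
    IsPGroup.of_card (n := 2) (by rw [hU.card_four]; norm_num)
  have topS : ∀ U : Subgroup G, IsKleinFour U →
      ∃ g : G, U.map (MulAut.conj g).toMonoidHom ≤ (S : Subgroup G) := fun U hU =>
    let ⟨g, _, hg⟩ := intoS ⊤ le_top U le_top (klein2 U hU); ⟨g, hg⟩
  obtain ⟨U₀, hU₀, hU₀S⟩ : ∃ U : Subgroup G, IsKleinFour U ∧ U ≤ (S : Subgroup G) := by
    obtain ⟨U, hU⟩ := exists_isKleinFour_of_not_pRankLE h2
    obtain ⟨g, hg⟩ := topS U hU
    exact ⟨_, isKleinFour_map _ (MulAut.conj g).injective hU, hg⟩
  have hNK : ∀ Q : Subgroup G, Q ≤ (S : Subgroup G) → ∀ U : Subgroup G, IsKleinFour U → U ≤ Q →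
      Subgroup.normalizer (Q : Set G) ≤ K := fun Q hQ U hU hUQ =>
    le_iSup (fun Q : {Q : Subgroup G // Q ≤ (S : Subgroup G) ∧ ¬ Cfsg.PRankLE 2 1 Q} =>
      Subgroup.normalizer ((Q : Subgroup G) : Set G)) ⟨Q, hQ, not_pRankLE_of_isKleinFour hU hUQ⟩
  have hSK : (S : Subgroup G) ≤ K := Subgroup.le_normalizer.trans (hNK _ le_rfl U₀ hU₀ hU₀S)
  have liftS : ∀ A B : Subgroup G, IsKleinFour A → IsKleinFour B → A ≤ (S : Subgroup G) →
      B ≤ (S : Subgroup G) → Relation.ReflTransGen R A B := by
    intro A B hA hB hAS hBS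
    have key : ∀ C : Subgroup G, IsKleinFour C → C ≤ (S : Subgroup G) →
        IsKleinFour (C.subgroupOf (S : Subgroup G)) := fun C hC hCS =>
      ⟨(Nat.card_congr (Subgroup.subgroupOfEquivOfLe hCS).toEquiv).trans hC.card_four,
        (Monoid.exponent_eq_of_mulEquiv (Subgroup.subgroupOfEquivOfLe hCS)).trans hC.exponent_two⟩
    have h := hS _ _ (key A hA hAS) (key B hB hBS)
    have : Relation.ReflTransGen R ((A.subgroupOf (S : Subgroup G)).map (S : Subgroup G).subtype)
        ((B.subgroupOf (S : Subgroup G)).map (S : Subgroup G).subtype) := by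
      revert h
      generalize A.subgroupOf (S : Subgroup G) = A'
      generalize B.subgroupOf (S : Subgroup G) = B'
      intro h
      induction h with
      | refl => exact Relation.ReflTransGen.refl
      | @tail C D _ hCD ih => ?_
      refine ih.tail ?_
      obtain ⟨hA, hB, hc⟩ := hCD
      refine ⟨isKleinFour_map _ (Subgroup.subtype_injective _) hA,
        isKleinFour_map _ (Subgroup.subtype_injective _) hB, ?_⟩
      rintro _ ⟨a, ha, rfl⟩ _ ⟨b, hb, rfl⟩
      rw [← map_mul, hc a ha b hb, map_mul]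
    simpa [Subgroup.subgroupOf_map_subtype, inf_eq_left.mpr hAS, inf_eq_left.mpr hBS] using this
  constructor
  · intro hconn
    rw [eq_top_iff]
    have p1 : ∀ U V : Subgroup G, R U V → U ≤ K → V ≤ K := by
      rintro U V ⟨hU, hV, hc⟩ hUK v hv
      obtain ⟨m, hm, hmU⟩ := intoS K hSK U hUK (klein2 U hU)
      have h1 : m * v * m⁻¹ ∈ Subgroup.normalizer ((U.map (MulAut.conj m).toMonoidHom : Subgroup G) : Set G) := by
        rw [Subgroup.mem_normalizer_iff_map_conj_eq]
        ext x
        constructor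
        · rintro ⟨_, ⟨u, hu, rfl⟩, rfl⟩
          refine ⟨u, hu, ?_⟩
          have := hc u hu v hv
          simp only [MulEquiv.coe_toMonoidHom, MonoidHom.coe_coe, MulAut.conj_apply]
          calc m * u * m⁻¹ = m * (u * v) * (v⁻¹ * m⁻¹) := by group
            _ = m * v * m⁻¹ * (m * u * m⁻¹) * (m * v * m⁻¹)⁻¹ := by rw [this]; group
        · rintro ⟨u, hu, rfl⟩
          refine ⟨_, ⟨u, hu, rfl⟩, ?_⟩
          have := hc u hu v hv
          simp only [MulEquiv.coe_toMonoidHom, MonoidHom.coe_coe, MulAut.conj_apply]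
          calc m * v * m⁻¹ * (m * u * m⁻¹) * (m * v * m⁻¹)⁻¹
              = m * (v * u) * (v⁻¹ * m⁻¹) := by group
            _ = m * u * m⁻¹ := by rw [← this]; group
      have h2' := hNK _ hmU _ (isKleinFour_map _ (MulAut.conj m).injective hU) le_rfl h1
      have := K.mul_mem (K.mul_mem (K.inv_mem hm) h2') hm
      simpa [mul_assoc] using this
    have p2 : ∀ U : Subgroup G, IsKleinFour U → U ≤ K := by
      intro U hU
      have h : Relation.ReflTransGen R U₀ U := hconn U₀ U hU₀ hU
      induction h with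
      | refl => exact hU₀S.trans hSK
      | tail _ hbc ih => exact p1 _ _ hbc (ih hbc.1)
    intro g _
    let P : Subgroup G := (S : Subgroup G).map (MulAut.conj g).toMonoidHom
    have hP2 : IsPGroup 2 P := S.isPGroup'.map _
    let Q := P ⊓ K
    have hUQ : U₀.map (MulAut.conj g).toMonoidHom ≤ Q :=
      le_inf (hsub g _ _ hU₀S) (p2 _ (isKleinFour_map _ (MulAut.conj g).injective hU₀))
    have hPK : P ≤ K := by
      by_contra hPK
      have : Group.IsNilpotent P := hP2.isNilpotent
      have hlt : Q.subgroupOf P < ⊤ := by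
        rw [lt_top_iff_ne_top, Ne, Subgroup.subgroupOf_eq_top]
        exact fun h => hPK (h.trans inf_le_right)
      have := normalizerCondition_of_isNilpotent (G := P) _ hlt
      obtain ⟨x, hx, hxQ⟩ := SetLike.exists_of_lt this
      obtain ⟨m, hm, hmQ⟩ := intoS K hSK Q inf_le_right (hP2.to_le inf_le_left)
      have hxN : (x : G) ∈ Subgroup.normalizer (Q : Set G) := by
        rw [Subgroup.mem_normalizer_iff] at hx ⊢
        intro q
        constructor
        · exact fun hq => (hx ⟨q, hq.1⟩).mp hq
        · intro hq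
          have hqP : q ∈ P := by
            have := P.mul_mem (P.mul_mem (P.inv_mem x.2) hq.1) x.2
            simpa [mul_assoc] using this
          exact (hx ⟨q, hqP⟩).mpr hq
      have h3 : Subgroup.normalizer ((Q.map (MulAut.conj m).toMonoidHom : Subgroup G) : Set G) ≤ K :=
        hNK _ hmQ _ (isKleinFour_map _ (MulAut.conj m).injective
          (isKleinFour_map _ (MulAut.conj g).injective hU₀)) (hsub m _ _ hUQ)
      have h4 : m * x * m⁻¹ ∈ K := h3 (by
        rw [Subgroup.mem_normalizer_iff_map_conj_eq] at hxN ⊢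
        show (Q.map (MulAut.conj m).toMonoidHom).map (MulAut.conj (m * (x : G) * m⁻¹)).toMonoidHom = _
        rw [← hcomp, inv_mul_cancel_right, hcomp]
        exact congrArg (Subgroup.map (MulAut.conj m).toMonoidHom) hxN)
      have h5 : (x : G) ∈ K := by
        have := K.mul_mem (K.mul_mem (K.inv_mem hm) h4) hm
        simpa [mul_assoc] using this
      exact hxQ ⟨x.2, h5⟩
    obtain ⟨m, hm, hmP⟩ := intoS K hSK P hPK hP2
    have hmg : m * g ∈ K := by
      refine hNK _ le_rfl U₀ hU₀ hU₀S ?_
      rw [Subgroup.mem_normalizer_iff_map_conj_eq]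
      show (S : Subgroup G).map (MulAut.conj (m * g)).toMonoidHom = _
      rw [hcomp]
      refine Subgroup.eq_of_le_of_card_ge hmP (le_of_eq ?_)
      rw [Subgroup.card_map_of_injective (f := (MulAut.conj m).toMonoidHom) (MulAut.conj m).injective,
        Subgroup.card_map_of_injective (f := (MulAut.conj g).toMonoidHom) (MulAut.conj g).injective]
    simpa using K.mul_mem (K.inv_mem hm) hmg
  · intro hK
    let M : Subgroup G :=
      { carrier := {g | Relation.ReflTransGen R (U₀.map (MulAut.conj g).toMonoidHom) U₀}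
        one_mem' := by
          show Relation.ReflTransGen R (U₀.map (MulAut.conj (1 : G)).toMonoidHom) U₀
          rw [show U₀.map (MulAut.conj (1 : G)).toMonoidHom = U₀ by ext x; simp]
        mul_mem' := fun {a b} ha hb => by
          show Relation.ReflTransGen R _ U₀
          rw [hcomp]
          exact (hconj a _ _ hb).trans ha
        inv_mem' := fun {a} ha => by
          show Relation.ReflTransGen R _ U₀
          have := hconj a⁻¹ _ _ ha
          rw [hcan] at this
          exact hsymm this }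
    have hKM : K ≤ M := by
      refine iSup_le fun Q => ?_
      intro g hg
      obtain ⟨V, hV⟩ := exists_isKleinFour_of_not_pRankLE Q.2.2
      set W := V.map (Q : Subgroup G).subtype with hW
      have hW4 : IsKleinFour W := isKleinFour_map _ (Subgroup.subtype_injective _) hV
      have hWQ : W ≤ (Q : Subgroup G) := Subgroup.map_subtype_le V
      have hgW : W.map (MulAut.conj g).toMonoidHom ≤ (S : Subgroup G) :=
        (hsub g _ _ hWQ).trans ((le_of_eq (Subgroup.mem_normalizer_iff_map_conj_eq.mp hg)).trans Q.2.1)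
      exact (hconj g _ _ (liftS U₀ W hU₀ hW4 hU₀S (hWQ.trans Q.2.1))).trans
        (liftS _ _ (isKleinFour_map _ (MulAut.conj g).injective hW4) hU₀ hgW hU₀S)
    have all : ∀ W : Subgroup G, IsKleinFour W → Relation.ReflTransGen R W U₀ := by
      intro W hW
      obtain ⟨g, hg⟩ := topS W hW
      have h1 := hconj g⁻¹ _ _ (liftS _ U₀ (isKleinFour_map _ (MulAut.conj g).injective hW) hU₀ hg hU₀S)
      rw [hcan] at h1
      exact h1.trans (hKM (show g⁻¹ ∈ K by rw [hK]; trivial))
    intro U V hU hV
    exact (all U hU).trans (hsymm (all V hV))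

end Cfsg.Agent.S0520
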