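import Cfsg.Statements.S0521
import Cfsg.Agent.OddOrder.AppA.AbelianGenerated
import Cfsg.Agent.PLocal.Stability
import Cfsg.Agent.Classification.SymplecticFour
import Cfsg.Agent.Solvable.Frattini

set_option autoImplicit false
open Cfsg

namespace Cfsg.Agent.S0521

open Subgroup
open scoped commutatorElement

/-- With trivial `p'`-core a Sylow subgroup with cyclic derived group is `O_p`. -/
theorem sylow_eq_pCore {G : Type*} [Group G] [Finite G] [Group.IsSolvable G]
    (hodd : Odd (Nat.card G)) {p : ℕ} [Fact p.Prime] (hp2 : p ≠ 2)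
    (hO : Cfsg.pPrimeCore p G = ⊥) (S : Sylow p G)
    (hS : IsCyclic (⁅(S : Subgroup G), (S : Subgroup G)⁆ : Subgroup G)) :
    (S : Subgroup G) = Cfsg.pCore p G := by
  classical
  refine le_antisymm ?_ (CfsgLib.PLocal.pCore_le_sylow S)
  set D := ⁅(S : Subgroup G), (S : Subgroup G)⁆ with hD
  set P := Cfsg.pCore p G with hP
  have hPp : IsPGroup p P := CfsgLib.PLocal.isPGroup_pCore p G
  have hDS : D ≤ S := Subgroup.commutator_le.mpr fun a ha b hb => by
    rw [commutatorElement_def]
    exact mul_mem (mul_mem (mul_mem ha hb) (inv_mem ha)) (inv_mem hb)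
  have hDP : D ≤ P := CfsgLib.OddOrder.Quad.le_pCore_of_abelian_normal_sylow hp2 hodd hO S
    inferInstance (by
      intro s hs
      rw [Subgroup.mem_normalizer_iff_map_conj_eq, hD, Subgroup.map_commutator]
      have : (S : Subgroup G).map (MulAut.conj s).toMonoidHom = S :=
        Subgroup.mem_normalizer_iff_map_conj_eq.mp (Subgroup.le_normalizer hs)
      exact congrArg (fun K => ⁅K, K⁆) this)
  set Φ := (frattini ↥P).map P.subtype with hΦ
  have hΦn : Φ.Normal := CfsgLib.PLocal.normal_map_subtype P (frattini ↥P)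
  set φ := QuotientGroup.mk' Φ with hφ
  have hsurj : Function.Surjective φ := QuotientGroup.mk'_surjective Φ
  have : (P.map φ).Normal := Subgroup.Normal.map inferInstance φ hsurj
  have hC : IsPGroup p (centralizer ((P.map φ : Subgroup (G ⧸ Φ)) : Set (G ⧸ Φ))) := by
    have h1 := (CfsgLib.PLocal.isPGroup_sectionKernel_frattini (CfsgLib.PLocal.centralizer_pCore_le
      CfsgLib.PLocal.isPSolvable_of_isSolvable hO)).map φ
    unfold Cfsg.sectionKernel at h1
    rwa [Subgroup.map_comap_eq_self_of_surjective hsurj] at h1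
  -- the image of the derived group is central in the image of `S`
  have hcomm : ∀ d ∈ D, ∀ s ∈ (S : Subgroup G), Commute (φ d) (φ s) := by
    set A := (S : Subgroup G).map φ with hA
    set N := (D.map φ).subgroupOf A with hN
    have hpow : ∀ x : N, x ^ p = 1 := by
      rintro ⟨x, hx⟩
      obtain ⟨d, hd, he⟩ := hx
      refine Subtype.ext (Subtype.ext ?_)
      show (x : G ⧸ Φ) ^ p = 1
      have he' : φ d = (x : G ⧸ Φ) := he
      rw [← he', ← map_pow, hφ, QuotientGroup.mk'_apply, QuotientGroup.eq_one_iff]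
      exact ⟨⟨d, hDP hd⟩ ^ p, CfsgLib.Solvable.pow_mem_frattini hPp _, rfl⟩
    have hDA : D.map φ ≤ A := Subgroup.map_mono hDS
    have : IsCyclic (D.map φ) := isCyclic_of_surjective (φ.subgroupMap D) (φ.subgroupMap_surjective D)
    have : IsCyclic N := (Subgroup.subgroupOfEquivOfLe hDA).isCyclic.mpr inferInstance
    have hNn : N.Normal := by
      refine ⟨?_⟩
      rintro ⟨n, hn⟩ hnN ⟨_, s, hs, rfl⟩
      obtain ⟨d, hd, rfl⟩ := hnN
      refine ⟨s * d * s⁻¹, ?_, by simp⟩
      have h1 : ⁅s, d⁆ ∈ D := Subgroup.commutator_mem_commutator hs (hDS hd)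
      have : s * d * s⁻¹ = ⁅s, d⁆ * d := by rw [commutatorElement_def]; group
      rw [this]; exact mul_mem h1 hd
    have hcard : Nat.card N ≤ p := by
      cases nonempty_fintype N
      have h1 := IsCyclic.card_pow_eq_one_le (α := N) (n := p) (Fact.out : p.Prime).pos
      rw [Finset.filter_true_of_mem (fun x _ => hpow x), Finset.card_univ] at h1
      rwa [Nat.card_eq_fintype_card]
    intro d hd s hs
    by_cases hb : N ≤ ⊥
    · have hd1 : (⟨φ d, hDA ⟨d, hd, rfl⟩⟩ : A) = 1 := Subgroup.mem_bot.mp (hb ⟨d, hd, rfl⟩)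
      have : φ d = 1 := congrArg Subtype.val hd1
      rw [this]; exact Commute.one_left _
    · obtain ⟨x, hxN, hx1, hxc⟩ :=
        CfsgLib.Classification.SymplecticFour.exists_central_mod (S.isPGroup'.map φ) N ⊥ hb
      have hxo : orderOf x = p := orderOf_eq_prime
        (by simpa using congrArg Subtype.val (hpow ⟨x, hxN⟩)) (fun e => hx1 (Subgroup.mem_bot.mpr e))
      have hle : Subgroup.zpowers x = N := by
        refine Subgroup.eq_of_le_of_card_ge (Subgroup.zpowers_le.mpr hxN) ?_
        rw [Nat.card_zpowers, hxo]; exact hcard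
      have hdN : (⟨φ d, hDA ⟨d, hd, rfl⟩⟩ : A) ∈ N := ⟨d, hd, rfl⟩
      rw [← hle] at hdN
      obtain ⟨k, hk⟩ := hdN
      have hsx : Commute (⟨φ s, ⟨s, hs, rfl⟩⟩ : A) x :=
        commutatorElement_eq_one_iff_mul_comm.mp (Subgroup.mem_bot.mp (hxc _))
      have h3 := (hsx.zpow_right k).eq
      rw [show x ^ k = _ from hk] at h3
      exact (congrArg Subtype.val h3).symm
  intro s hs
  have h1 := CfsgLib.OddOrder.Quad.quadratic_mem_pCore_of_normal hp2 (hPp.map φ)
    (hodd.of_dvd_nat (Subgroup.card_quotient_dvd_card Φ)) (a := φ s) (fun w hw => by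
      obtain ⟨x, hx, rfl⟩ := hw
      rw [← map_commutatorElement]
      exact hcomm _ (Subgroup.commutator_mem_commutator (CfsgLib.PLocal.pCore_le_sylow S hx) hs) s hs)
  have h2 := CfsgLib.OddOrder.Quad.mem_pCore_of_map_mem hC h1
  rw [hP, ← CfsgLib.PLocal.comap_pCore_quotient Φ ((hPp.to_subgroup (frattini ↥P)).map P.subtype)]
  exact h2

/-- Let X be a finite solvable group of odd order, p a prime and S a Sylow p-subgroup of X whose commutator subgroup is
cyclic. Then the product of the largest normal subgroup of X of order prime to p with S is a normal subgroup of X. -/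
theorem result {X : Type*} [Group X] [Finite X] [Group.IsSolvable X]
    (hX : Odd (Nat.card X)) (p : ℕ) [Fact p.Prime] (S : Sylow p X) (hS : IsCyclic (commutator (S : Subgroup X))) :
    (Cfsg.pPrimeCore p X ⊔ (S : Subgroup X)).Normal := by
  by_cases hp : p = 2
  · subst hp
    have hS1 : (S : Subgroup X) = ⊥ := by
      obtain ⟨k, hk⟩ := IsPGroup.iff_card.1 S.isPGroup'
      rw [← Subgroup.card_eq_one, hk]
      rcases Nat.eq_zero_or_pos k with rfl | hk0
      · rfl
      · exact absurd (hX.of_dvd_nat (Subgroup.card_subgroup_dvd_card (S : Subgroup X)))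
          (Nat.not_odd_iff_even.2 (hk ▸ Even.pow_of_ne_zero even_two hk0.ne'))
    rw [hS1, sup_bot_eq]
    exact Subgroup.sSup_normal _ (fun _ h => h.1)
  have : (Cfsg.pPrimeCore p X).Normal := Subgroup.sSup_normal _ (fun _ h => h.1)
  set π := QuotientGroup.mk' (Cfsg.pPrimeCore p X) with hπ
  have hsurj : Function.Surjective π := QuotientGroup.mk'_surjective _
  set T : Sylow p (X ⧸ Cfsg.pPrimeCore p X) := S.mapSurjective hsurj with hT
  have hcyc : IsCyclic (⁅(T : Subgroup (X ⧸ Cfsg.pPrimeCore p X)),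
      (T : Subgroup (X ⧸ Cfsg.pPrimeCore p X))⁆ : Subgroup (X ⧸ Cfsg.pPrimeCore p X)) := by
    rw [hT, Sylow.coe_mapSurjective, ← Subgroup.map_commutator, ← Subgroup.map_subtype_commutator,
      Subgroup.map_map]
    exact isCyclic_of_surjective _ (MonoidHom.subgroupMap_surjective _ _)
  have h1 := sylow_eq_pCore (hX.of_dvd_nat (Subgroup.card_quotient_dvd_card _)) hp
    (CfsgLib.PLocal.pPrimeCore_quotient_pPrimeCore_eq_bot p X) T hcyc
  rw [hT, Sylow.coe_mapSurjective] at h1
  have h2 := congrArg (Subgroup.comap π) h1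
  rw [Subgroup.comap_map_eq, hπ, QuotientGroup.ker_mk', sup_comm] at h2
  rw [h2]
  infer_instance

end Cfsg.Agent.S0521
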