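import Cfsg.Statements.S0522
import Cfsg.Agent.S1480
import Cfsg.Agent.PLocal.Constraint

set_option autoImplicit false
open Cfsg
open scoped Pointwise

namespace Cfsg.Agent.S0522

/-- Transitivity Theorem (odd-order setting). Let X be a finite group of odd order in which the normalizer of every
nontrivial p-subgroup is solvable, P a Sylow p-subgroup, and B an abelian subgroup of P, normalized by P, with
C_P(B) = B and containing an elementary abelian subgroup of order p^3. Then for every prime q ≠ p, any two q-subgroups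
that are maximal among the q-subgroups normalized by B are conjugate by an element of the centralizer of B. -/
theorem result {X : Type*} [Group X] [Finite X] (hX : Odd (Nat.card X)) (p : ℕ)
    [Fact p.Prime] (hloc : ∀ T : Subgroup X, IsPGroup p T → T ≠ ⊥ → Group.IsSolvable (Subgroup.normalizer (T : Set X)))
    (P : Sylow p X) (B : Subgroup X) (hBP : B ≤ (P : Subgroup X))
    (hBn : ∀ x ∈ (P : Subgroup X), ∀ b ∈ B, x * b * x⁻¹ ∈ B) (hBa : IsMulCommutative B)
    (hBc : (P : Subgroup X) ⊓ Subgroup.centralizer (B : Set X) = B)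
    (hB3 : ∃ E : Subgroup X, E ≤ B ∧ (∀ e ∈ E, e ^ p = 1) ∧ p ^ 3 ≤ Nat.card E)
    (q : ℕ) [Fact q.Prime] (hqp : q ≠ p) (Q₁ Q₂ : Subgroup X)
    (h₁ : IsPGroup q Q₁ ∧ B ≤ Subgroup.normalizer (Q₁ : Set X) ∧
      ∀ R : Subgroup X, IsPGroup q R → B ≤ Subgroup.normalizer (R : Set X) → Q₁ ≤ R → R = Q₁)
    (h₂ : IsPGroup q Q₂ ∧ B ≤ Subgroup.normalizer (Q₂ : Set X) ∧
      ∀ R : Subgroup X, IsPGroup q R → B ≤ Subgroup.normalizer (R : Set X) → Q₂ ≤ R → R = Q₂) :
    ∃ c ∈ Subgroup.centralizer (B : Set X), Q₂ = Q₁.map (MulAut.conj c).toMonoidHom := by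
  classical
  have hpdvd : ∀ K : Subgroup X, IsPGroup q K → ∀ r : ℕ, r.Prime → r ∣ Nat.card K → r ∈ ({q} : Set ℕ) := by
    intro K hK r hr hd
    obtain ⟨k, hk⟩ := IsPGroup.iff_card.1 hK
    exact (Nat.prime_dvd_prime_iff_eq hr Fact.out).mp (hr.dvd_of_dvd_pow (hk ▸ hd))
  have hqgrp : ∀ K : Subgroup X, (∀ r : ℕ, r.Prime → r ∣ Nat.card K → r ∈ ({q} : Set ℕ)) → IsPGroup q K :=
    fun K h => IsPGroup.of_card (n := (Nat.card K).primeFactorsList.length)
      (Nat.eq_prime_pow_of_unique_prime_dvd Nat.card_pos.ne' fun {r} hr hd => h r hr hd)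
  have hmem : ∀ Q : Subgroup X, IsPGroup q Q ∧ B ≤ Subgroup.normalizer (Q : Set X) ∧
      (∀ R : Subgroup X, IsPGroup q R → B ≤ Subgroup.normalizer (R : Set X) → Q ≤ R → R = Q) →
      Q ∈ Cfsg.maxInvSubgroups ⊤ B {q} := by
    rintro Q ⟨hQ, hQB, hmax⟩
    exact ⟨⟨le_top, hpdvd Q hQ, hQB⟩, fun R ⟨_, hR, hRB⟩ hle => hmax R (hqgrp R hR) hRB hle⟩
  obtain ⟨E, hEB, hEe, hEcard⟩ := hB3
  have hBp : IsPGroup p B := P.isPGroup'.to_le hBP
  have hp2 : p ≠ 2 := by
    rintro rfl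
    obtain ⟨k, hk⟩ := IsPGroup.iff_card.1 (hBp.to_le hEB)
    have h8 : 2 ^ 3 ≤ 2 ^ k := hk ▸ hEcard
    have h3 := (Nat.pow_le_pow_iff_right (le_refl 2)).mp h8
    have hd : 2 ∣ Nat.card X := ((dvd_pow_self 2 (by omega : k ≠ 0)).trans hk.symm.dvd).trans
      (Subgroup.card_subgroup_dvd_card E)
    exact (Nat.not_even_iff_odd.mpr hX) (even_iff_two_dvd.mpr hd)
  have hrank : ¬ Cfsg.PRankLE p 2 B := by
    intro h
    have e := Subgroup.subgroupOfEquivOfLe hEB
    have := h (E.subgroupOf B) ⟨⟨fun a b => Subtype.ext (Subtype.ext (congrArg Subtype.val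
      (hBa.is_comm.comm (a : B) (b : B))))⟩⟩ (fun a ha => Subtype.ext (hEe a ha))
    rw [Nat.card_congr e.toEquiv] at this
    have h3 : p ^ 3 ≤ p ^ 2 := hEcard.trans this
    exact absurd ((Nat.pow_le_pow_iff_right (Fact.out : p.Prime).one_lt).mp h3) (by norm_num)
  have hfull : ∀ x ∈ Subgroup.centralizer (B : Set X), IsPGroup p (Subgroup.zpowers x) → x ∈ B := by
    intro x hx hxp
    set N := Subgroup.normalizer (B : Set X) with hN
    have hPN : (P : Subgroup X) ≤ N := by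
      intro y hy
      rw [hN, Subgroup.mem_normalizer_iff]
      refine fun b => ⟨hBn y hy b, fun h => ?_⟩
      have := hBn y⁻¹ (inv_mem hy) _ h
      simpa [mul_assoc] using this
    have hxN : Subgroup.zpowers x ≤ N :=
      Subgroup.zpowers_le.mpr (Subgroup.centralizer_le_normalizer _ hx)
    obtain ⟨R, hR⟩ := (hxp.comap_subtype (K := N)).exists_le_sylow
    obtain ⟨m, hm⟩ := MulAction.exists_smul_eq N R (P.subtype hPN)
    have h1 : m * ⟨x, hxN (Subgroup.mem_zpowers x)⟩ * m⁻¹ ∈ ((m • R : Sylow p N) : Subgroup N) := by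
      rw [Sylow.coe_subgroup_smul]
      exact ⟨⟨x, hxN (Subgroup.mem_zpowers x)⟩, hR (Subgroup.mem_zpowers x), rfl⟩
    rw [hm] at h1
    have h1' : (m : X) * x * (m : X)⁻¹ ∈ (P : Subgroup X) := by
      simpa [Subgroup.mem_subgroupOf] using h1
    have h2 : (m : X) * x * (m : X)⁻¹ ∈ Subgroup.centralizer (B : Set X) := by
      intro b hb
      have hb' : (m : X)⁻¹ * b * m ∈ B := by
        have := (Subgroup.mem_normalizer_iff.mp (inv_mem m.2) b).mp hb
        simpa using this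
      have h' := hx _ hb'
      calc b * ((m : X) * x * (m : X)⁻¹) = m * (((m : X)⁻¹ * b * m) * x) * (m : X)⁻¹ := by group
        _ = (m : X) * x * (m : X)⁻¹ * b := by rw [h']; group
    have h3 : (m : X) * x * (m : X)⁻¹ ∈ B := hBc.le ⟨h1', h2⟩
    exact (Subgroup.mem_normalizer_iff.mp m.2 x).mpr h3
  obtain ⟨k, hk, hQ⟩ := Cfsg.Agent.S1480.result p
    (fun T hT hT1 => by
      have := hloc T hT hT1
      exact CfsgLib.PLocal.isPConstrained_of_isPSolvable CfsgLib.PLocal.isPSolvable_of_isSolvable)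
    (fun h => absurd h hp2) B hBp hBa hrank hfull q hqp Q₁ (hmem Q₁ h₁) Q₂ (hmem Q₂ h₂)
  exact ⟨k, Subgroup.map_subtype_le _ hk, hQ⟩

end Cfsg.Agent.S0522
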