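import Cfsg.Statements.S0526
import Cfsg.Agent.Supersolvable.Basic

set_option autoImplicit false
open Cfsg

namespace Cfsg.Agent.S0526

universe u

open scoped commutatorElement in
open CfsgLib.Supersolvable in
private theorem aux (n : ℕ) : ∀ (G : Type u) [Group G] [Finite G], Nat.card G = n →
    Cfsg.IsSupersolvable G → Group.IsNilpotent (commutator G) := by
  induction n using Nat.strongRecOn with | ind n ih => ?_
  intro G _ _ hn h
  rcases subsingleton_or_nontrivial G with hG | hG
  · infer_instance
  obtain ⟨N, hN, hp⟩ := exists_normal_prime_card h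
  have := Fact.mk hp
  have hlt : Nat.card (G ⧸ N) < n := by
    rw [← hn, ← N.index_eq_card, ← N.card_mul_index]
    exact lt_mul_of_one_lt_left (Nat.pos_of_ne_zero Subgroup.index_ne_zero_of_finite) hp.one_lt
  have := ih _ hlt _ rfl (quotient h N)
  -- the commutator subgroup centralises `N`
  have hcomm : commutator G ≤ (MulAut.conjNormal : G →* MulAut N).ker := by
    have hNc : IsCyclic N := isCyclic_of_prime_card rfl
    rw [commutator_def, Subgroup.commutator_le]
    intro a _ b _
    rw [MonoidHom.mem_ker, map_commutatorElement, commutatorElement_eq_one_iff_mul_comm]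
    ext x
    obtain ⟨i, hi⟩ := MonoidHom.map_cyclic (MulAut.conjNormal a : MulAut N).toMonoidHom
    obtain ⟨j, hj⟩ := MonoidHom.map_cyclic (MulAut.conjNormal b : MulAut N).toMonoidHom
    have hia : ∀ y : N, (MulAut.conjNormal a : MulAut N) y = y ^ i := hi
    have hjb : ∀ y : N, (MulAut.conjNormal b : MulAut N) y = y ^ j := hj
    simp only [MulAut.mul_apply, hia, hjb, ← zpow_mul, mul_comm]
  let f : commutator G →* commutator (G ⧸ N) :=
    ((QuotientGroup.mk' N).comp (commutator G).subtype).codRestrict _ (fun x => by
      have := map_derivedSeries_le_derivedSeries (QuotientGroup.mk' N) 1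
      rw [derivedSeries_one, derivedSeries_one] at this
      exact this ⟨x, x.2, rfl⟩)
  refine Subgroup.isNilpotent_of_ker_le_center f (fun x hx => ?_)
  rw [MonoidHom.mem_ker] at hx
  have hxN : (x : G) ∈ N := by
    rw [← QuotientGroup.eq_one_iff]
    exact congrArg Subtype.val hx
  rw [Subgroup.mem_center_iff]
  intro y
  have h1 := DFunLike.congr_fun (MonoidHom.mem_ker.mp (hcomm y.2)) ⟨x, hxN⟩
  have h2 : (y : G) * x * (y : G)⁻¹ = x := by simpa using congrArg Subtype.val h1
  exact Subtype.ext (mul_inv_eq_iff_eq_mul.mp h2)

/-- In a finite supersolvable group the commutator subgroup is nilpotent. -/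
theorem result {G : Type*} [Group G] [Finite G] (hG : Cfsg.IsSupersolvable G) : Group.IsNilpotent (commutator G) := by
  exact aux _ G rfl hG

end Cfsg.Agent.S0526
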