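import Cfsg.Statements.S0529
import Cfsg.Agent.Supersolvable.Basic

set_option autoImplicit false
open Cfsg

namespace Cfsg.Agent.S0529

universe u

open CfsgLib.Supersolvable in
private theorem aux (m : ℕ) : ∀ (G : Type u) [Group G] [Finite G], Nat.card G = m →
    Cfsg.IsSupersolvable G →
    ∃ (n : ℕ) (H : ℕ → Subgroup G), H 0 = ⊥ ∧ H n = ⊤ ∧ (∀ i, (H i).Normal) ∧
      ∀ i < n, H i ≤ H (i + 1) ∧ ((H i).relIndex (H (i + 1))).Prime ∧
        ∀ j, i ≤ j → j < n → (H j).relIndex (H (j + 1)) ≤ (H i).relIndex (H (i + 1)) := by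
  induction m using Nat.strongRecOn with | ind m ih => ?_
  intro G _ _ hm h
  rcases subsingleton_or_nontrivial G with hG | hG
  · exact ⟨0, fun _ => ⊥, rfl, Subsingleton.elim _ _, fun _ => inferInstance, fun i hi => by omega⟩
  have hne : (Nat.card G).primeFactors.Nonempty := by
    rw [Finset.nonempty_iff_ne_empty, Ne, Nat.primeFactors_eq_empty]
    have := Finite.one_lt_card (α := G)
    omega
  set p := (Nat.card G).primeFactors.max' hne with hpdef
  have hpm : p ∈ (Nat.card G).primeFactors := Finset.max'_mem _ hne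
  have hp : p.Prime := Nat.prime_of_mem_primeFactors hpm
  have hmax : ∀ q : ℕ, q.Prime → q ∣ Nat.card G → q ≤ p := fun q hq hqd =>
    Finset.le_max' _ q (Nat.mem_primeFactors.mpr ⟨hq, hqd, Nat.card_pos.ne'⟩)
  obtain ⟨N, hN, hcN⟩ := exists_normal_card_largest h hp (Nat.dvd_of_mem_primeFactors hpm) hmax
  have hlt : Nat.card (G ⧸ N) < m := by
    rw [← hm, ← N.index_eq_card, ← N.card_mul_index, hcN]
    exact lt_mul_of_one_lt_left (Nat.pos_of_ne_zero Subgroup.index_ne_zero_of_finite) hp.one_lt
  obtain ⟨n, H, h0, hn, hnorm, hstep⟩ := ih _ hlt _ rfl (quotient h N)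
  set f := QuotientGroup.mk' N
  have hsurj : Function.Surjective f := QuotientGroup.mk'_surjective N
  have hker : f.ker = N := QuotientGroup.ker_mk' N
  have hbot : (H 0).comap f = N := by rw [h0, MonoidHom.comap_bot, hker]
  have hrel : ∀ i, ((H i).comap f).relIndex ((H (i + 1)).comap f) =
      (H i).relIndex (H (i + 1)) := fun i => by
    rw [Subgroup.relIndex_comap, Subgroup.map_comap_eq_self_of_surjective hsurj]
  refine ⟨n + 1, fun | 0 => ⊥ | i + 1 => (H i).comap f, rfl, ?_, ?_, ?_⟩
  · show (H n).comap f = ⊤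
    rw [hn, Subgroup.comap_top]
  · rintro (_ | i)
    · exact Subgroup.normal_bot
    · exact (hnorm i).comap f
  · rintro (_ | i) hi
    · refine ⟨bot_le, ?_, ?_⟩
      · show ((⊥ : Subgroup G).relIndex ((H 0).comap f)).Prime
        rw [Subgroup.relIndex_bot_left, hbot, hcN]; exact hp
      · rintro (_ | j) _ hj
        · exact le_rfl
        · show ((H j).comap f).relIndex ((H (j + 1)).comap f) ≤
            (⊥ : Subgroup G).relIndex ((H 0).comap f)
          rw [hrel, Subgroup.relIndex_bot_left, hbot, hcN]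
          refine hmax _ (hstep j (by omega)).2.1
            (((Subgroup.relIndex_dvd_card _ _).trans (Subgroup.card_subgroup_dvd_card _)).trans
              (Subgroup.card_quotient_dvd_card N))
    · obtain ⟨h1, h2, h3⟩ := hstep i (by omega)
      refine ⟨Subgroup.comap_mono h1, ?_, ?_⟩
      · show (((H i).comap f).relIndex ((H (i + 1)).comap f)).Prime
        rwa [hrel]
      · rintro (_ | j) hij hj
        · omega
        · show ((H j).comap f).relIndex _ ≤ ((H i).comap f).relIndex _
          rw [hrel, hrel]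
          exact h3 j (by omega) (by omega)

/-- A finite supersolvable group has a chain of normal subgroups, from the trivial subgroup to the whole group, in which every step has prime index and the primes occurring are non-increasing as one goes up the chain. -/
theorem result {G : Type*} [Group G] [Finite G] (hG : Cfsg.IsSupersolvable G) : ∃ (n : ℕ) (H : Fin (n + 1) → Subgroup G), H 0 = ⊥ ∧ H (Fin.last n) = ⊤ ∧ (∀ i, (H i).Normal) ∧ (∀ i : Fin n, H i.castSucc ≤ H i.succ ∧ ((H i.castSucc).relIndex (H i.succ)).Prime) ∧ ∀ i j : Fin n, i ≤ j → (H j.castSucc).relIndex (H j.succ) ≤ (H i.castSucc).relIndex (H i.succ) := by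
  obtain ⟨n, H, h0, hn, hnorm, hstep⟩ := aux _ G rfl hG
  refine ⟨n, fun i => H i, by simpa using h0, by simpa using hn, fun i => hnorm _,
    fun i => ⟨(hstep i i.2).1, (hstep i i.2).2.1⟩, fun i j hij => ?_⟩
  simpa using (hstep i i.2).2.2 j hij j.2

end Cfsg.Agent.S0529
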