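import Cfsg.Statements.S0530
import Cfsg.Agent.Supersolvable.Basic

set_option autoImplicit false
open Cfsg

namespace Cfsg.Agent.S0530

universe u

open CfsgLib.Supersolvable in
private theorem aux (p : ℕ) (hp : p.Prime) (k : ℕ) : ∀ (G : Type u) [Group G] [Finite G],
    Nat.card G = 2 * p ^ k → Cfsg.IsSupersolvable G := by
  have := Fact.mk hp
  induction k with
  | zero =>
    intro G _ _ hG
    rw [pow_zero, mul_one] at hG
    have : Fact (Nat.Prime 2) := ⟨Nat.prime_two⟩
    have : Group.IsNilpotent G := (IsPGroup.of_card (p := 2) (n := 1) (by rw [hG]; rfl)).isNilpotent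
    exact of_isNilpotent
  | succ k ih =>
    intro G _ _ hG
    rcases eq_or_ne p 2 with rfl | hp2
    · have : Group.IsNilpotent G :=
        (IsPGroup.of_card (p := 2) (n := k + 2) (by rw [hG]; ring)).isNilpotent
      exact of_isNilpotent
    -- a normal subgroup of order `p`, from the centre of the Sylow subgroup
    suffices ∃ z : G, orderOf z = p ∧ (Subgroup.zpowers z).Normal by
      obtain ⟨z, hz, hzn⟩ := this
      refine of_quotient (Subgroup.zpowers z) (ih _ ?_)
      have h1 := (Subgroup.zpowers z).card_mul_index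
      rw [Nat.card_zpowers, hz, hG, Subgroup.index_eq_card] at h1
      exact Nat.eq_of_mul_eq_mul_left hp.pos (h1.trans (by ring))
    let P : Sylow p G := default
    have hcP : Nat.card P = p ^ (k + 1) := by
      rw [P.card_eq_multiplicity, hG, Nat.factorization_mul (by norm_num) (by simp [hp.ne_zero]),
        Finsupp.add_apply, Nat.factorization_eq_zero_of_not_dvd
          (fun h => hp2 ((Nat.prime_dvd_prime_iff_eq hp Nat.prime_two).mp h)), zero_add,
        hp.factorization_pow, Finsupp.single_eq_same]
    have hidx : (P : Subgroup G).index = 2 := by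
      have := (P : Subgroup G).card_mul_index
      rw [hcP, hG, mul_comm 2] at this
      exact Nat.eq_of_mul_eq_mul_left (pow_pos hp.pos _) this
    have : Nontrivial P := by
      rw [← Finite.one_lt_card_iff_nontrivial, hcP]
      exact Nat.one_lt_pow (by omega) hp.one_lt
    have hZ := P.isPGroup'.center_nontrivial
    obtain ⟨z, hz⟩ : ∃ z : Subgroup.center P, orderOf z = p := by
      refine exists_prime_orderOf_dvd_card' p ?_
      obtain ⟨j, hj⟩ := (P.isPGroup'.to_subgroup (Subgroup.center P)).exists_card_eq
      have := Finite.one_lt_card_iff_nontrivial.mpr hZ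
      rcases j with _ | j
      · rw [hj, pow_zero] at this; exact absurd this (lt_irrefl 1)
      · rw [hj]; exact dvd_pow_self p j.succ_ne_zero
    set w : G := ((z : P) : G) with hw
    have hwP : w ∈ (P : Subgroup G) := (z : P).2
    have hwo : orderOf w = p := by rw [hw, Subgroup.orderOf_coe, Subgroup.orderOf_coe, hz]
    have hwc : ∀ a ∈ (P : Subgroup G), a * w = w * a := fun a ha =>
      congrArg Subtype.val (Subgroup.mem_center_iff.mp z.2 ⟨a, ha⟩)
    have hn : (P : Subgroup G).Normal := Subgroup.normal_of_index_eq_two hidx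
    obtain ⟨t, ht⟩ : ∃ t : G, t ∉ (P : Subgroup G) := by
      by_contra hcon
      rw [(Subgroup.eq_top_iff' _).mpr (fun x => not_not.mp (not_exists.mp hcon x)),
        Subgroup.index_top] at hidx
      omega
    have hts : t * t ∈ (P : Subgroup G) := Subgroup.mul_self_mem_of_index_two hidx t
    set v := t * w * t⁻¹ with hv
    have hvP : v ∈ (P : Subgroup G) := hn.conj_mem _ hwP t
    have hvc : ∀ a ∈ (P : Subgroup G), a * v = v * a := fun a ha => by
      have h1 := hwc _ (hn.conj_mem _ ha t⁻¹)
      rw [inv_inv] at h1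
      calc a * v = t * ((t⁻¹ * a * t) * w) * t⁻¹ := by rw [hv]; group
        _ = t * (w * (t⁻¹ * a * t)) * t⁻¹ := by rw [h1]
        _ = v * a := by rw [hv]; group
    have htv : t * v * t⁻¹ = w := by
      calc t * v * t⁻¹ = (t * t) * w * (t * t)⁻¹ := by rw [hv]; group
        _ = w := by rw [hwc _ hts, mul_inv_cancel_right]
    have gen : ∀ g : G, g ∈ (P : Subgroup G) ∨ ∃ a ∈ (P : Subgroup G), g = a * t := by
      intro g
      rcases Classical.em (g ∈ (P : Subgroup G)) with h | h
      · exact Or.inl h
      · refine Or.inr ⟨g * t⁻¹, ?_, by group⟩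
        rw [Subgroup.mul_mem_iff_of_index_two hidx, inv_mem_iff]
        exact iff_of_false h ht
    by_cases hwv : w * v = 1
    · -- `t` inverts `w`
      refine ⟨w, hwo, ⟨?_⟩⟩
      rintro x ⟨i, rfl⟩ g
      have hinv : v = w⁻¹ := eq_inv_of_mul_eq_one_right hwv
      rcases gen g with hg | ⟨a, ha, rfl⟩
      · refine ⟨i, ?_⟩
        show w ^ i = g * w ^ i * g⁻¹
        rw [← conj_zpow, hwc g hg, mul_inv_cancel_right]
      · refine ⟨-i, ?_⟩
        show w ^ (-i) = a * t * w ^ i * (a * t)⁻¹
        rw [← conj_zpow, show a * t * w * (a * t)⁻¹ = a * v * a⁻¹ by rw [hv]; group,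
          hvc a ha, mul_inv_cancel_right, hinv, inv_zpow, zpow_neg]
    · -- `w * v` is central
      have hc : ∀ g : G, g * (w * v) = w * v * g := by
        intro g
        have hP : ∀ a ∈ (P : Subgroup G), a * (w * v) = w * v * a := fun a ha => by
          rw [← mul_assoc, hwc a ha, mul_assoc, hvc a ha]; exact (mul_assoc _ _ _).symm
        have ht' : t * (w * v) = w * v * t := by
          have h1 : t * (w * v) * t⁻¹ = v * w := by
            rw [show t * (w * v) * t⁻¹ = (t * w * t⁻¹) * (t * v * t⁻¹) by group, htv, ← hv]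
          rw [← hvc w hwP] at h1
          exact mul_inv_eq_iff_eq_mul.mp h1
        rcases gen g with hg | ⟨a, ha, rfl⟩
        · exact hP g hg
        · rw [mul_assoc, ht', ← mul_assoc, hP a ha, mul_assoc]
      refine ⟨w * v, ?_, ⟨?_⟩⟩
      · refine orderOf_eq_prime ?_ hwv
        have hcomm : Commute w v := hvc w hwP
        rw [hcomm.mul_pow, hv, conj_pow, ← hwo, pow_orderOf_eq_one]
        simp
      · rintro x ⟨i, rfl⟩ g
        refine ⟨i, ?_⟩
        show (w * v) ^ i = g * (w * v) ^ i * g⁻¹
        rw [← conj_zpow, hc g, mul_inv_cancel_right]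

/-- A finite group whose order is twice a prime power is supersolvable. -/
theorem result {G : Type*} [Group G] [Finite G] (p n : ℕ) (hp : p.Prime) (hG : Nat.card G = 2 * p ^ n) : Cfsg.IsSupersolvable G := by
  exact aux p hp n G hG

end Cfsg.Agent.S0530
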