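import Cfsg.Statements.S0531
import Cfsg.Agent.Supersolvable.Basic
import Mathlib.GroupTheory.SchurZassenhaus

set_option autoImplicit false
open Cfsg

namespace Cfsg.Agent.S0531

universe u

open CfsgLib.Supersolvable in
private theorem aux (n : ℕ) : ∀ (G : Type u) [Group G] [Finite G], Nat.card G = n →
    Cfsg.IsSupersolvable G → Cfsg.HasSubgroupOfEveryOrder G := by
  induction n using Nat.strongRecOn with | ind n ih => ?_
  intro G _ _ hn h d hd
  rcases subsingleton_or_nontrivial G with hG | hG
  · exact ⟨⊥, by rw [Subgroup.card_bot]; rw [Nat.card_unique] at hd; exact (Nat.dvd_one.mp hd).symm⟩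
  obtain ⟨N, hN, hq⟩ := exists_normal_prime_card h
  set q := Nat.card N with hqdef
  have hlt : Nat.card (G ⧸ N) < n := by
    rw [← hn, ← N.index_eq_card, ← N.card_mul_index]
    exact lt_mul_of_one_lt_left (Nat.pos_of_ne_zero Subgroup.index_ne_zero_of_finite) hq.one_lt
  have hsurj := QuotientGroup.mk'_surjective N
  have hlift : ∀ K : Subgroup (G ⧸ N),
      Nat.card (K.comap (QuotientGroup.mk' N)) = q * Nat.card K := by
    intro K
    have h2 := (K.comap (QuotientGroup.mk' N)).card_mul_index
    rw [Subgroup.index_comap_of_surjective _ hsurj, ← N.card_mul_index, N.index_eq_card,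
      ← K.card_mul_index, ← mul_assoc, ← hqdef] at h2
    exact Nat.eq_of_mul_eq_mul_right (Nat.pos_of_ne_zero Subgroup.index_ne_zero_of_finite) h2
  rw [← N.card_mul_index, N.index_eq_card, ← hqdef] at hd
  by_cases hqd : q ∣ d
  · obtain ⟨d', rfl⟩ := hqd
    obtain ⟨K, hK⟩ := ih _ hlt _ rfl (quotient h N) d' (Nat.dvd_of_mul_dvd_mul_left hq.pos hd)
    exact ⟨_, (hlift K).trans (by rw [hK])⟩
  · have hcop : q.Coprime d := hq.coprime_iff_not_dvd.mpr hqd
    obtain ⟨K, hK⟩ := ih _ hlt _ rfl (quotient h N) d (hcop.symm.dvd_of_dvd_mul_left hd)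
    set L := K.comap (QuotientGroup.mk' N)
    have hNL : N ≤ L := by
      have := (QuotientGroup.mk' N).ker_le_comap K
      rwa [QuotientGroup.ker_mk'] at this
    have hcNL : Nat.card (N.subgroupOf L) = q :=
      Nat.card_congr (Subgroup.subgroupOfEquivOfLe hNL).toEquiv
    have hidx : (N.subgroupOf L).index = d := by
      have h2 := (N.subgroupOf L).card_mul_index
      rw [hcNL, hlift K, hK] at h2
      exact Nat.eq_of_mul_eq_mul_left hq.pos h2
    obtain ⟨H, hH⟩ := Subgroup.exists_right_complement'_of_coprime (N := N.subgroupOf L)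
      (by rw [hcNL, hidx]; exact hcop)
    exact ⟨H.map L.subtype, by
      rw [Subgroup.card_map_of_injective L.subtype_injective, ← hH.symm.index_eq_card, hidx]⟩

/-- A finite supersolvable group has a subgroup of each order dividing its order. -/
theorem result {G : Type*} [Group G] [Finite G] (hG : Cfsg.IsSupersolvable G) : Cfsg.HasSubgroupOfEveryOrder G := by
  exact aux _ G rfl hG

end Cfsg.Agent.S0531
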