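import Cfsg.Statements.S0534
import Cfsg.Agent.S0531
import Cfsg.Agent.Solvable.Hall

set_option autoImplicit false
open Cfsg

namespace Cfsg.Agent.S0534

/-- Let G be a finite solvable group and A a finite abelian group such that every prime dividing the order of A divides the order of G and, for each prime p dividing the order of G, the exponent of p in the order of A is one less than its exponent in the order of G. Then G × A has a subgroup of every order dividing its order. -/
theorem result {G A : Type*} [Group G] [CommGroup A] [Finite G] [Finite A] [Group.IsSolvable G] (hA : ∀ p : ℕ, p.Prime → p ∣ Nat.card A → p ∣ Nat.card G) (hexp : ∀ p : ℕ, p.Prime → p ∣ Nat.card G → (Nat.card A).factorization p + 1 = (Nat.card G).factorization p) : Cfsg.HasSubgroupOfEveryOrder (G × A) := by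
  classical
  intro d hd
  rw [Nat.card_prod] at hd
  have hd0 : d ≠ 0 := fun e => by
    rw [e, Nat.zero_dvd] at hd
    exact (Nat.mul_ne_zero Nat.card_pos.ne' Nat.card_pos.ne') hd
  set π : Set ℕ := {p | (Nat.card G).factorization p ≤ d.factorization p}
  obtain ⟨H, hH⟩ := CfsgLib.Solvable.exists_isPiHall π G
  have hGne := (Nat.card_pos (α := G)).ne'
  have hAne := (Nat.card_pos (α := A)).ne'
  have hHne := (Nat.card_pos (α := H)).ne'
  -- the exponents in the order of `H`
  have hv : ∀ p : ℕ, p.Prime → (Nat.card H).factorization p =
      if p ∈ π then (Nat.card G).factorization p else 0 := by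
    intro p hp
    split_ifs with hpπ
    · rw [← H.card_mul_index, Nat.factorization_mul hHne Subgroup.index_ne_zero_of_finite,
        Finsupp.add_apply, Nat.factorization_eq_zero_of_not_dvd (hH.2 p hp hpπ), add_zero]
    · exact Nat.factorization_eq_zero_of_not_dvd fun h => hpπ (hH.1 p hp h)
  have hH1 : Nat.card H ∣ d := by
    rw [← Nat.factorization_prime_le_iff_dvd hHne hd0]
    intro p hp
    rw [hv p hp]
    split_ifs with hpπ
    · exact hpπ
    · exact Nat.zero_le _
  obtain ⟨e, he⟩ := hH1
  have he0 : e ≠ 0 := fun h => hd0 (by rw [he, h, mul_zero])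
  have he1 : e ∣ Nat.card A := by
    rw [← Nat.factorization_prime_le_iff_dvd he0 hAne]
    intro p hp
    have h1 := congrArg (fun n => n.factorization p) he
    simp only [Nat.factorization_mul hHne he0, Finsupp.add_apply] at h1
    have h2 := (Nat.factorization_prime_le_iff_dvd hd0 (mul_ne_zero hGne hAne)).mpr hd p hp
    rw [Nat.factorization_mul hGne hAne, Finsupp.add_apply] at h2
    rw [hv p hp] at h1
    by_cases hpG : p ∣ Nat.card G
    · have h3 := hexp p hp hpG
      split_ifs at h1 with hpπ
      · omega
      · have h4 : ¬ (Nat.card G).factorization p ≤ d.factorization p := hpπ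
        omega
    · have h3 := Nat.factorization_eq_zero_of_not_dvd hpG
      have h4 := Nat.factorization_eq_zero_of_not_dvd (fun h => hpG (hA p hp h))
      split_ifs at h1 with hpπ
      · omega
      · omega
  have hAnil : Group.IsNilpotent A := inferInstance
  obtain ⟨B, hB⟩ := Cfsg.Agent.S0531.result
    (CfsgLib.Supersolvable.of_isNilpotent (G := A)) e he1
  exact ⟨H.prod B, by rw [he, ← hB, Nat.card_congr (Subgroup.prodEquiv H B).toEquiv, Nat.card_prod]⟩

end Cfsg.Agent.S0534
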