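import Cfsg.Statements.S0535
import Cfsg.Agent.Solvable.Factorization
import Cfsg.Agent.Characters.Burnside

set_option autoImplicit false
open Cfsg

namespace Cfsg.Agent.S0535

universe u

/-- The induction. -/
private theorem aux : ∀ (n : ℕ) (G : Type u) [Group G] [Finite G], Nat.card G < n →
    (∀ H : Subgroup G, H ≠ ⊥ → ∀ p : ℕ, p.Prime → p ∣ Nat.card H →
      ∃ K : Subgroup H, K ≠ ⊤ ∧ ∃ k : ℕ, K.index = p ^ k) → Group.IsSolvable G := by
  intro n
  induction n with
  | zero => intro G _ _ h; exact absurd h (Nat.not_lt_zero _)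
  | succ n ih =>
    intro G _ _ hn h
    rcases subsingleton_or_nontrivial G with hs | hs
    · exact Group.isSolvable_of_comm fun a b => Subsingleton.elim _ _
    -- hereditary
    have hlt : ∀ H : Subgroup G, H ≠ ⊤ → Group.IsSolvable H := by
      intro H hH
      refine ih H (lt_of_lt_of_le (lt_of_le_of_ne (Nat.le_of_dvd Nat.card_pos H.card_subgroup_dvd_card)
        fun e => hH (Subgroup.eq_top_of_card_eq H e)) (Nat.lt_succ_iff.mp hn)) fun L hL p hp hd => ?_
      have hL' : L.map H.subtype ≠ ⊥ := fun e => hL (Subgroup.map_injective H.subtype_injective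
        (by rw [e, Subgroup.map_bot]))
      rw [← Subgroup.card_map_of_injective H.subtype_injective] at hd
      obtain ⟨K, hK, k, hk⟩ := h _ hL' p hp hd
      let e := L.equivMapOfInjective _ H.subtype_injective
      refine ⟨K.comap e.toMonoidHom, fun e' => hK ?_, k, ?_⟩
      · rw [← Subgroup.map_comap_eq_self_of_surjective (f := e.toMonoidHom) e.surjective K, e',
          Subgroup.map_top_of_surjective _ e.surjective]
      · rw [Subgroup.index_comap_of_surjective (f := e.toMonoidHom) _ e.surjective, hk]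
    have htop : ∀ p : ℕ, p.Prime → p ∣ Nat.card G →
        ∃ K : Subgroup G, Group.IsSolvable K ∧ ∃ k : ℕ, K.index = p ^ k := by
      intro p hp hd
      obtain ⟨K, hK, k, hk⟩ := h ⊤ (fun e => by
        obtain ⟨a, b, hab⟩ := exists_pair_ne G
        have h1 : ∀ g : G, g = 1 := fun g => Subgroup.mem_bot.mp (e.le (Subgroup.mem_top g))
        exact hab ((h1 a).trans (h1 b).symm)) p hp (by rwa [Subgroup.card_top])
      have hsurj : Function.Surjective (Subgroup.topEquiv (G := G)).symm.toMonoidHom :=
        (Subgroup.topEquiv (G := G)).symm.surjective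
      refine ⟨K.comap (Subgroup.topEquiv (G := G)).symm.toMonoidHom, hlt _ fun e' => hK ?_, k, ?_⟩
      · rw [← Subgroup.map_comap_eq_self_of_surjective hsurj K, e',
          Subgroup.map_top_of_surjective _ hsurj]
      · rw [Subgroup.index_comap_of_surjective _ hsurj, hk]
    obtain ⟨p, hp, hpd⟩ := Nat.exists_prime_and_dvd (Finite.one_lt_card (α := G)).ne'
    by_cases h2 : ∀ q : ℕ, q.Prime → q ∣ Nat.card G → q = p
    · obtain ⟨k, hk⟩ : ∃ k, Nat.card G = p ^ k := ⟨_, Nat.eq_prime_pow_of_unique_prime_dvd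
        Nat.card_pos.ne' fun {d} hd hdd => h2 d hd hdd⟩
      exact CfsgLib.Characters.isSolvable_of_card_eq_primePow_mul p p k k hp hp
        (hk.dvd.trans (dvd_mul_right _ _))
    push Not at h2
    obtain ⟨q, hq, hqd, hqp⟩ := h2
    by_cases h3 : ∀ r : ℕ, r.Prime → r ∣ Nat.card G → r = p ∨ r = q
    · have hne := (Nat.card_pos (α := G)).ne'
      refine CfsgLib.Characters.isSolvable_of_card_eq_primePow_mul p q
        ((Nat.card G).factorization p) ((Nat.card G).factorization q) hp hq ?_
      rw [← Nat.factorization_le_iff_dvd hne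
        (mul_ne_zero (pow_ne_zero _ hp.ne_zero) (pow_ne_zero _ hq.ne_zero))]
      intro r
      rw [Nat.factorization_mul (pow_ne_zero _ hp.ne_zero) (pow_ne_zero _ hq.ne_zero),
        hp.factorization_pow, hq.factorization_pow, Finsupp.add_apply]
      by_cases hr : r.Prime ∧ r ∣ Nat.card G
      · rcases h3 r hr.1 hr.2 with rfl | rfl
        · rw [Finsupp.single_eq_same]; exact Nat.le_add_right _ _
        · rw [Finsupp.single_eq_same]; exact Nat.le_add_left _ _
      · rw [not_and] at hr
        by_cases hrp : r.Prime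
        · rw [Nat.factorization_eq_zero_of_not_dvd (hr hrp)]; exact Nat.zero_le _
        · rw [Nat.factorization_eq_zero_of_not_prime _ hrp]; exact Nat.zero_le _
    push Not at h3
    obtain ⟨r, hr, hrd, hrp, hrq⟩ := h3
    obtain ⟨H₁, s₁, k₁, i₁⟩ := htop p hp hpd
    obtain ⟨H₂, s₂, k₂, i₂⟩ := htop q hq hqd
    obtain ⟨H₃, s₃, k₃, i₃⟩ := htop r hr hrd
    have hcop : ∀ {a b i j : ℕ}, a.Prime → b.Prime → a ≠ b → (a ^ i).Coprime (b ^ j) :=
      fun ha hb hab => Nat.Coprime.pow _ _ ((Nat.coprime_primes ha hb).mpr hab)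
    refine CfsgLib.Solvable.isSolvable_of_three_factors s₁ s₂ s₃
      (Cfsg.Agent.S0007.result _ _ ?_).2 (Cfsg.Agent.S0007.result _ _ ?_).2 ?_
    · rw [i₁, i₂]; exact hcop hp hq hqp.symm
    · rw [i₁, i₃]; exact hcop hp hr hrp.symm
    · rw [i₂, i₃]; exact hcop hq hr hrq.symm

/-- Suppose that for every nontrivial subgroup H of a finite group and every prime p dividing the order of H there is a proper subgroup of H whose index in H is a power of p. Then the group is solvable. -/
theorem result {G : Type*} [Group G] [Finite G] (h : ∀ H : Subgroup G, H ≠ ⊥ → ∀ p : ℕ, p.Prime → p ∣ Nat.card H → ∃ K : Subgroup H, K ≠ ⊤ ∧ ∃ k : ℕ, K.index = p ^ k) : Group.IsSolvable G := by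
  exact aux _ G (Nat.lt_succ_self _) h

end Cfsg.Agent.S0535
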