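import Cfsg.Statements.S0540
import Cfsg.Agent.Subnormal.Join

set_option autoImplicit false
open Pointwise
open Cfsg

namespace Cfsg.Agent.S0540

/-- A uniqueness lemma of zipper type. Let A be a subgroup of a finite group G and U a nonempty family of subgroups. For V in U write S(V) for the set of conjugates of A that lie in V and are subnormal in V. Assume: A belongs to S(V) for every V in U; a member of some S(W) that lies in V belongs to S(V); and for all V, W in U the normalizer of the join of S(V) ∩ S(W) lies in some member of U. Then U has a greatest element. -/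
theorem result {G : Type*} [Group G] [Finite G] (A : Subgroup G) (U : Set (Subgroup G)) (hU : U.Nonempty) (S : Subgroup G → Set (Subgroup G)) (hS : ∀ V B : Subgroup G, B ∈ S V ↔ (∃ g : G, B = MulAut.conj g • A) ∧ B ≤ V ∧ (B.subgroupOf V).IsSubnormal) (h1 : ∀ V ∈ U, A ∈ S V) (h2 : ∀ V ∈ U, ∀ W ∈ U, ∀ B ∈ S W, B ≤ V → B ∈ S V) (h3 : ∀ V ∈ U, ∀ W ∈ U, ∃ X ∈ U, Subgroup.normalizer ((sSup (S V ∩ S W) : Subgroup G) : Set G) ≤ X) : ∃ M ∈ U, ∀ V ∈ U, V ≤ M := by
  classical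
  -- members of `S V` are permuted by conjugation in `V`
  have hcl : ∀ V : Subgroup G, ∀ B ∈ S V, ∀ v ∈ V, MulAut.conj v • B ∈ S V := by
    intro V B hB v hv
    obtain ⟨⟨g, rfl⟩, hle, hsn⟩ := (hS V B).mp hB
    refine (hS V _).mpr ⟨⟨v * g, by rw [map_mul, mul_smul]⟩, Subgroup.conj_smul_le_of_le hle ⟨v, hv⟩, ?_⟩
    have h5 := Subgroup.conj_smul_subgroupOf hle ⟨v, hv⟩
    exact h5 ▸ hsn.smul _
  have hsub : ∀ V : Subgroup G, ∀ B ∈ S V, B ≤ V := fun V B hB => ((hS V B).mp hB).2.1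
  have habove : ∀ V ∈ U, ∃ M ∈ U, V ≤ M ∧ ∀ X ∈ U, M ≤ X → X = M := by
    intro V hV
    obtain ⟨M, hVM, hM⟩ := (Set.toFinite U).exists_le_maximal hV
    exact ⟨M, hM.1, hVM, fun X hX hMX => le_antisymm (hM.2 hX hMX) hMX⟩
  by_contra hcon
  -- two distinct maximal members
  have hpairs : {p : Subgroup G × Subgroup G | p.1 ∈ U ∧ p.2 ∈ U ∧ p.1 ≠ p.2 ∧
      (∀ X ∈ U, p.1 ≤ X → X = p.1) ∧ (∀ X ∈ U, p.2 ≤ X → X = p.2)}.Nonempty := by
    obtain ⟨V₀, hV₀⟩ := hU
    obtain ⟨M, hM, -, hMmax⟩ := habove V₀ hV₀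
    obtain ⟨V, hV, hVM⟩ : ∃ V ∈ U, ¬ V ≤ M := by
      by_contra h
      exact hcon ⟨M, hM, fun V hV => not_not.mp fun hn => h ⟨V, hV, hn⟩⟩
    obtain ⟨M', hM', hVM', hM'max⟩ := habove V hV
    exact ⟨(M, M'), hM, hM', fun h => hVM (by simp only at h; rw [h]; exact hVM'), hMmax, hM'max⟩
  obtain ⟨⟨V, W⟩, ⟨hV, hW, hne, hVmax, hWmax⟩, hmaxcard⟩ :=
    (Set.toFinite {p : Subgroup G × Subgroup G | p.1 ∈ U ∧ p.2 ∈ U ∧ p.1 ≠ p.2 ∧
      (∀ X ∈ U, p.1 ≤ X → X = p.1) ∧ (∀ X ∈ U, p.2 ≤ X → X = p.2)}).exists_maximalFor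
      (fun p => (S p.1 ∩ S p.2).ncard) _ hpairs
  obtain ⟨X₀, hX₀, hNX₀⟩ := h3 V hV W hW
  obtain ⟨X, hX, hX₀X, hXmax⟩ := habove X₀ hX₀
  set D : Subgroup G := sSup (S V ∩ S W)
  have hNX : Subgroup.normalizer (D : Set G) ≤ X := hNX₀.trans hX₀X
  -- the key step: if `S V ⊄ S W` then `X = V`
  have hstep : ∀ V' W' : Subgroup G, V' ∈ U → (∀ Y ∈ U, V' ≤ Y → Y = V') → S V' ∩ S W' = S V ∩ S W →
      S V' ∩ S W' ≠ S V' → (V' = V ∨ V' = W) → X = V' := by
    intro V' W' hV' hV'max hEq hne' hor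
    obtain ⟨Y, hY, hY0, hYN⟩ := CfsgLib.Subnormal.exists_mem_normalizer_sSup_le (V := V')
      (hsub V') (fun B hB => ((hS V' B).mp hB).2.2) (hcl V')
      (Set.inter_subset_left.ssubset_of_ne hne')
    rw [hEq] at hY0 hYN
    by_contra hXV
    have hYX : Y ∈ S X := h2 X hX V' hV' Y hY (hYN.trans hNX)
    have hsubX : S V ∩ S W ⊆ S X := fun B hB =>
      h2 X hX V hV B hB.1 ((le_sSup hB).trans (Subgroup.le_normalizer.trans hNX))
    have hlt : (S V ∩ S W).ncard < (S V' ∩ S X).ncard := by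
      refine Set.ncard_lt_ncard ?_ (Set.toFinite _)
      rw [Set.ssubset_iff_of_subset]
      · exact ⟨Y, ⟨hY, hYX⟩, hY0⟩
      · intro B hB
        refine ⟨?_, hsubX hB⟩
        rw [← hEq] at hB
        exact hB.1
    have := hmaxcard (j := (V', X)) ⟨hV', hX, fun h => hXV h.symm, hV'max, hXmax⟩ hlt.le
    exact absurd this (not_le.mpr hlt)
  have hnormV : ∀ V' : Subgroup G, V' ≤ Subgroup.normalizer ((sSup (S V') : Subgroup G) : Set G) := by
    intro V' v hv
    rw [Subgroup.mem_normalizer_iff_map_conj_eq]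
    show MulAut.conj v • sSup (S V') = sSup (S V')
    have h1 : ∀ z ∈ V', MulAut.conj z • sSup (S V') ≤ sSup (S V') := fun z hz => by
      rw [Subgroup.pointwise_smul_subset_iff]
      refine sSup_le fun B hB => ?_
      rw [← Subgroup.pointwise_smul_subset_iff]
      exact le_sSup (hcl V' B hB z hz)
    refine le_antisymm (h1 v hv) ?_
    have := h1 v⁻¹ (V'.inv_mem hv)
    rw [map_inv] at this
    rw [Subgroup.subset_pointwise_smul_iff]
    exact this
  have hfull : ∀ V' W' : Subgroup G, (∀ Y ∈ U, V' ≤ Y → Y = V') → S V' ∩ S W' = S V ∩ S W →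
      S V' ∩ S W' = S V' → X = V' := by
    intro V' W' hV'max hEq hfullV
    refine hV'max X hX ((hnormV V').trans ?_)
    rw [← hfullV, hEq]
    exact hNX
  have hXV : X = V := by
    by_cases h : S V ∩ S W = S V
    · exact hfull V W hVmax rfl h
    · exact hstep V W hV hVmax rfl h (Or.inl rfl)
  have hXW : X = W := by
    by_cases h : S W ∩ S V = S W
    · exact hfull W V hWmax (Set.inter_comm _ _) h
    · exact hstep W V hW hWmax (Set.inter_comm _ _) h (Or.inr rfl)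
  exact hne (hXV ▸ hXW)

end Cfsg.Agent.S0540
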