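import Cfsg.Statements.S0541
import Cfsg.Agent.Subnormal.Join
import Cfsg.Agent.Solvable.Nilpotent

set_option autoImplicit false
open Pointwise
open Cfsg

namespace Cfsg.Agent.S0541

/-- Let Z and Y be subgroups of a finite group G and p a prime. Suppose that for every g in G the subgroup generated by the conjugates of g Z g⁻¹ under Y is a p-group. Then there is a Sylow p-subgroup P of G such that Y normalizes the subgroup generated by all conjugates of Z contained in P. -/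
theorem result {G : Type*} [Group G] [Finite G] (p : ℕ) [Fact p.Prime] (Z Y : Subgroup G) (h : ∀ g : G, IsPGroup p ↥(⨆ y ∈ Y, MulAut.conj (y * g) • Z)) : ∃ P : Sylow p G, Y ≤ Subgroup.normalizer ((⨆ g ∈ {g : G | MulAut.conj g • Z ≤ (P : Subgroup G)}, MulAut.conj g • Z : Subgroup G) : Set G) := by
  classical
  set C : Set (Subgroup G) := {T | ∃ g : G, T = MulAut.conj g • Z} with hC
  obtain ⟨T, -, ⟨hTC, hTY, hTp⟩, hTmax⟩ :=
    (Set.toFinite {T : Set (Subgroup G) | T ⊆ C ∧ (∀ y ∈ Y, ∀ B ∈ T, MulAut.conj y • B ∈ T) ∧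
      IsPGroup p ↥(sSup T)}).exists_le_maximal (a := (∅ : Set (Subgroup G)))
      ⟨Set.empty_subset _, by simp, by rw [sSup_empty]; exact IsPGroup.of_bot⟩
  set D : Subgroup G := sSup T with hD
  obtain ⟨P, hP⟩ := hTp.exists_le_sylow
  have hnorm : ∀ (H : Subgroup G) (T : Set (Subgroup G)),
      (∀ y ∈ H, ∀ B ∈ T, MulAut.conj y • B ∈ T) → H ≤ Subgroup.normalizer ((sSup T : Subgroup G) : Set G) := by
    intro H T hT y hy
    rw [Subgroup.mem_normalizer_iff_map_conj_eq]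
    show MulAut.conj y • sSup T = sSup T
    have h1 : ∀ z ∈ H, MulAut.conj z • sSup T ≤ sSup T := fun z hz => by
      rw [Subgroup.pointwise_smul_subset_iff]
      refine sSup_le fun B hB => ?_
      rw [← Subgroup.pointwise_smul_subset_iff]
      exact le_sSup (hT z hz B hB)
    refine le_antisymm (h1 y hy) ?_
    have := h1 y⁻¹ (H.inv_mem hy)
    rw [map_inv] at this
    rw [Subgroup.subset_pointwise_smul_iff]
    exact this
  set T' : Set (Subgroup G) := {B | B ∈ C ∧ B ≤ P} with hT'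
  have hTT' : T ⊆ T' := fun B hB => ⟨hTC hB, (le_sSup hB).trans hP⟩
  have hjoinT' : (⨆ g ∈ {g : G | MulAut.conj g • Z ≤ (P : Subgroup G)}, MulAut.conj g • Z) = sSup T' := by
    refine le_antisymm (iSup₂_le fun g hg => le_sSup ⟨⟨g, rfl⟩, hg⟩) (sSup_le ?_)
    rintro _ ⟨⟨g, rfl⟩, hle⟩
    exact le_iSup₂_of_le g hle le_rfl
  refine ⟨P, ?_⟩
  rw [hjoinT']
  rcases hTT'.eq_or_ssubset with heq | hlt
  · rw [← heq]; exact hnorm Y T hTY
  exfalso
  have : Group.IsNilpotent (P : Subgroup G) := P.isPGroup'.isNilpotent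
  obtain ⟨B, hB, hBT, hBN⟩ := CfsgLib.Subnormal.exists_mem_normalizer_sSup_le
    (V := (P : Subgroup G)) (fun B hB => hB.2)
    (fun B _ => CfsgLib.Solvable.isNilpotent_iff_forall_isSubnormal.mp this _)
    (by
      rintro _ ⟨⟨g, rfl⟩, hle⟩ v hv
      exact ⟨⟨v * g, by rw [map_mul, mul_smul]⟩, Subgroup.conj_smul_le_of_le hle ⟨v, hv⟩⟩) hlt
  obtain ⟨⟨g, rfl⟩, -⟩ := hB
  set O : Set (Subgroup G) := {B' | ∃ y ∈ Y, B' = MulAut.conj (y * g) • Z} with hO
  set E : Subgroup G := ⨆ y ∈ Y, MulAut.conj (y * g) • Z with hE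
  have hEN : E ≤ Subgroup.normalizer (D : Set G) := by
    refine iSup₂_le fun y hy => ?_
    rw [map_mul, mul_smul]
    exact Subgroup.conj_smul_le_of_le hBN ⟨y, hnorm Y T hTY hy⟩
  have hsup : sSup (T ∪ O) = D ⊔ E := by
    rw [sSup_union]
    refine congrArg _ (le_antisymm (sSup_le ?_) (iSup₂_le fun y hy => le_sSup ⟨y, hy, rfl⟩))
    rintro _ ⟨y, hy, rfl⟩
    exact le_iSup₂_of_le y hy le_rfl
  have hmem : T ∪ O ∈ {T : Set (Subgroup G) | T ⊆ C ∧ (∀ y ∈ Y, ∀ B ∈ T, MulAut.conj y • B ∈ T) ∧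
      IsPGroup p ↥(sSup T)} := by
    refine ⟨Set.union_subset hTC (by rintro _ ⟨y, _, rfl⟩; exact ⟨_, rfl⟩), ?_, ?_⟩
    · rintro y hy B' (hB' | ⟨z, hz, rfl⟩)
      · exact Or.inl (hTY y hy B' hB')
      · exact Or.inr ⟨y * z, Y.mul_mem hy hz, by rw [← mul_smul, ← map_mul, mul_assoc]⟩
    · rw [hsup]
      exact hTp.to_sup_of_normal_left' (h g) hEN
  exact hBT (hTmax hmem Set.subset_union_left (Or.inr ⟨1, Y.one_mem, by rw [one_mul]⟩))

end Cfsg.Agent.S0541
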