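import Cfsg.Statements.S0547
import Cfsg.Agent.CoreFree.Basic

set_option autoImplicit false
open Cfsg

namespace Cfsg.Agent.S0547

/-- Let a finite solvable group G act faithfully and primitively on a set, and let M be a minimal normal subgroup of G. Then M is transitive with trivial point stabilizers, and the number of points equals the order of M, which is a prime power p ^ d with d ≥ 1. -/
theorem result {G : Type*} [Group G] [Finite G] [Group.IsSolvable G] {Ω : Type*} [Nonempty Ω] [MulAction G Ω] [FaithfulSMul G Ω] (hprim : MulAction.IsPreprimitive G Ω) (M : Subgroup G) [M.Normal] (hM : M ≠ ⊥) (hmin : ∀ K : Subgroup G, K.Normal → K ≤ M → K = ⊥ ∨ K = M) : MulAction.IsPretransitive M Ω ∧ (∀ ω : Ω, MulAction.stabilizer M ω = ⊥) ∧ ∃ p d : ℕ, p.Prime ∧ 0 < d ∧ Nat.card Ω = p ^ d ∧ Nat.card M = p ^ d := by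
  have : Nontrivial G := by
    obtain ⟨x, -, hx⟩ := M.bot_or_exists_ne_one.resolve_left hM
    exact ⟨⟨x, 1, hx⟩⟩
  haveI := CfsgLib.Solvable.isMulCommutative_of_minimal_normal hM hmin
  have hC : ∀ ω : Ω, Subgroup.IsComplement' M (MulAction.stabilizer G ω) := fun ω =>
    CfsgLib.CoreFree.isComplement'_of_abelian
      (CfsgLib.CoreFree.stabilizer_isCoatom_and_corefree hprim ω).1
      (CfsgLib.CoreFree.stabilizer_isCoatom_and_corefree hprim ω).2 hM
  haveI := hprim
  refine ⟨⟨fun x y => ?_⟩, fun ω => ?_, ?_⟩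
  · obtain ⟨g, rfl⟩ := MulAction.exists_smul_eq G x y
    obtain ⟨⟨m, u⟩, hmu, -⟩ := Subgroup.IsComplement.existsUnique (hC x) g
    refine ⟨⟨m, m.2⟩, ?_⟩
    have hu : (u : G) • x = x := u.2
    change (m : G) • x = g • x
    rw [← hmu, mul_smul, hu]
  · rw [eq_bot_iff]
    intro m hm
    have h1 : (m : G) ∈ M ⊓ MulAction.stabilizer G ω := ⟨m.2, hm⟩
    rw [disjoint_iff.mp (hC ω).disjoint, Subgroup.mem_bot] at h1
    exact Subtype.ext h1
  · obtain ⟨p, hp, hpM⟩ := CfsgLib.Solvable.exists_isPGroup_of_minimal_normal hM hmin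
    have := Fact.mk hp
    obtain ⟨d, hd⟩ := hpM.exists_card_eq
    obtain ⟨ω⟩ := ‹Nonempty Ω›
    refine ⟨p, d, hp, Nat.pos_of_ne_zero fun h => hM ?_, ?_, hd⟩
    · exact Subgroup.card_eq_one.mp (by rw [hd, h, pow_zero])
    · rw [← MulAction.index_stabilizer_of_transitive G ω, ← hd]
      exact (hC ω).index_eq_card

end Cfsg.Agent.S0547
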