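import Cfsg.Statements.S0548
import Cfsg.Agent.CoreFree.Basic

set_option autoImplicit false
open Cfsg

namespace Cfsg.Agent.S0548

/-- Let a finite solvable group G act faithfully and primitively on a set, let M be a minimal normal subgroup and H the stabilizer of a point. Then H is a complement to M, no non-identity element of H centralizes M, and the only subgroups of M normalized by H are the trivial subgroup and M. -/
theorem result {G : Type*} [Group G] [Finite G] [Group.IsSolvable G] {Ω : Type*} [MulAction G Ω] [FaithfulSMul G Ω] (hprim : MulAction.IsPreprimitive G Ω) (M : Subgroup G) [M.Normal] (hM : M ≠ ⊥) (hmin : ∀ K : Subgroup G, K.Normal → K ≤ M → K = ⊥ ∨ K = M) (ω : Ω) : Subgroup.IsComplement' M (MulAction.stabilizer G ω) ∧ MulAction.stabilizer G ω ⊓ Subgroup.centralizer (M : Set G) = ⊥ ∧ ∀ K : Subgroup G, K ≤ M → MulAction.stabilizer G ω ≤ Subgroup.normalizer (K : Set G) → K = ⊥ ∨ K = M := by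
  have : Nontrivial G := by
    obtain ⟨x, -, hx⟩ := M.bot_or_exists_ne_one.resolve_left hM
    exact ⟨⟨x, 1, hx⟩⟩
  obtain ⟨hU, hc⟩ := CfsgLib.CoreFree.stabilizer_isCoatom_and_corefree hprim ω
  haveI := CfsgLib.Solvable.isMulCommutative_of_minimal_normal hM hmin
  have hC := CfsgLib.CoreFree.isComplement'_of_abelian hU hc hM
  refine ⟨hC, by rw [inf_comm]; exact CfsgLib.CoreFree.centralizer_inf_eq_bot hU hc hM, fun K hK hn => hmin K ?_ hK⟩
  rw [← Subgroup.normalizer_eq_top_iff, ← top_le_iff, ← hC.sup_eq_top]
  refine sup_le (fun m hm => ?_) hn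
  refine Subgroup.centralizer_le_normalizer _ (Subgroup.mem_centralizer_iff.mpr fun k hk => ?_)
  exact setLike_mul_comm (s := M) (hK hk) hm

end Cfsg.Agent.S0548
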