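import Cfsg.Statements.S0550
import Cfsg.Agent.CoreFree.Basic

set_option autoImplicit false
open Cfsg

namespace Cfsg.Agent.S0550

/-- Let U be a maximal subgroup with trivial normal core in a finite group G, and A ≠ B two minimal normal subgroups. Then A is the centralizer of B and B that of A, U complements each of them, A and B are non-abelian, and A, B and (A ⊔ B) ∩ U are pairwise isomorphic. -/
theorem result {G : Type*} [Group G] [Finite G] (U : Subgroup G) (hU : IsCoatom U) (hcore : U.normalCore = ⊥) (A B : Subgroup G) [A.Normal] [B.Normal] (hA : A ≠ ⊥) (hB : B ≠ ⊥) (hAmin : ∀ K : Subgroup G, K.Normal → K ≤ A → K = ⊥ ∨ K = A) (hBmin : ∀ K : Subgroup G, K.Normal → K ≤ B → K = ⊥ ∨ K = B) (hAB : A ≠ B) : Subgroup.centralizer (B : Set G) = A ∧ Subgroup.centralizer (A : Set G) = B ∧ Subgroup.IsComplement' A U ∧ Subgroup.IsComplement' B U ∧ ¬ IsMulCommutative A ∧ Nonempty (A ≃* B) ∧ Nonempty (A ≃* ↥((A ⊔ B) ⊓ U)) := by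
  have hinf : A ⊓ B = ⊥ := by
    rcases hAmin (A ⊓ B) inferInstance inf_le_left with h | h
    · exact h
    · rcases hBmin A inferInstance (h ▸ inf_le_right) with h' | h'
      · exact absurd h' hA
      · exact absurd h' hAB
  have hcomm : A ≤ Subgroup.centralizer (B : Set G) := by
    rw [← Subgroup.commutator_eq_bot_iff_le_centralizer, eq_bot_iff, ← hinf]
    exact Subgroup.commutator_le_inf A B
  have hcomm' : B ≤ Subgroup.centralizer (A : Set G) := Subgroup.le_centralizer_iff.mp hcomm
  have hCB : Subgroup.centralizer (B : Set G) = A :=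
    ((CfsgLib.CoreFree.centralizer_minimal hU hcore hB inferInstance hcomm).resolve_left hA).symm
  have hCA : Subgroup.centralizer (A : Set G) = B :=
    ((CfsgLib.CoreFree.centralizer_minimal hU hcore hA inferInstance hcomm').resolve_left hB).symm
  have cA := CfsgLib.CoreFree.isComplement'_of_le_centralizer hU hcore hB hA hcomm
  have cB := CfsgLib.CoreFree.isComplement'_of_le_centralizer hU hcore hA hB hcomm'
  have hUA : U ⊔ A = ⊤ := by rw [sup_comm]; exact cA.sup_eq_top
  have hUB : U ⊔ B = ⊤ := by rw [sup_comm]; exact cB.sup_eq_top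
  have hUA' : U ⊓ A = ⊥ := by rw [inf_comm]; exact disjoint_iff.mp cA.disjoint
  have hUB' : U ⊓ B = ⊥ := by rw [inf_comm]; exact disjoint_iff.mp cB.disjoint
  obtain ⟨e₁⟩ := CfsgLib.CoreFree.nonempty_mulEquiv (A := A) hUB hinf hUB'
  obtain ⟨e₂⟩ := CfsgLib.CoreFree.nonempty_mulEquiv (A := B) hUA (by rw [inf_comm]; exact hinf) hUA'
  refine ⟨hCB, hCA, cA, cB, fun hab => ?_, ⟨e₁.trans ((MulEquiv.subgroupCongr (by rw [sup_comm])).trans e₂.symm)⟩, ⟨e₁⟩⟩
  exact hAB ((CfsgLib.CoreFree.centralizer_eq_self hU hcore hA).symm.trans hCA)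

end Cfsg.Agent.S0550
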