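import Cfsg.Statements.S0553
import Cfsg.Agent.Solvable.Hall
import Cfsg.Agent.Solvable.Frattini
import Cfsg.Agent.SystemNormalizer.Carter

set_option autoImplicit false
open Cfsg

namespace Cfsg.Agent.S0553

universe u
open CfsgLib
open scoped Pointwise

private theorem aux : ∀ (n : ℕ) (G : Type u) [Group G] [Finite G] [Group.IsSolvable G] [Nontrivial G],
    Nat.card G < n → (∀ M : Subgroup G, IsCoatom M → (Nat.card M).Coprime M.index) →
    ∃ p : ℕ, p.Prime ∧ p ∣ Nat.card G ∧ ∀ P : Sylow p G, (P : Subgroup G).Normal := by
  intro n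
  induction n with
  | zero => intro G _ _ _ _ h; exact absurd h (Nat.not_lt_zero _)
  | succ n ih =>
    intro G _ _ _ _ hn h
    obtain ⟨N, hN, hne, hmin⟩ := Solvable.exists_minimal_normal (G := G)
    obtain ⟨p, hp, hNp⟩ := Solvable.exists_isPGroup_of_minimal_normal hne hmin
    have := Fact.mk hp
    have := Solvable.isMulCommutative_of_minimal_normal hne hmin
    have hpG : p ∣ Nat.card G := by
      obtain ⟨k, hk⟩ := hNp.exists_card_eq
      refine dvd_trans ?_ N.card_subgroup_dvd_card
      rw [hk]
      exact dvd_pow_self p fun h0 => hne (by rw [← Subgroup.card_eq_one, hk, h0, pow_zero])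
    set f := QuotientGroup.mk' N with hf
    have hfs : Function.Surjective f := QuotientGroup.mk'_surjective N
    -- one normal Sylow subgroup is enough
    have suffices_one : ∀ (q : ℕ) [Fact q.Prime] (P : Sylow q G), (P : Subgroup G).Normal →
        ∀ Q : Sylow q G, (Q : Subgroup G).Normal := by
      intro q _ P hP Q
      haveI := hP
      obtain ⟨g, rfl⟩ := MulAction.exists_smul_eq G P Q
      rw [Sylow.coe_subgroup_smul]
      change (MulAut.conj g • (P : Subgroup G) : Subgroup G).Normal
      rw [Subgroup.Normal.conj_smul_eq_self]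
      exact hP
    by_cases hΦ : N ≤ frattini G
    swap
    · obtain ⟨H, hH⟩ := (Solvable.exists_complement_iff_not_le_frattini N hne hmin).mpr hΦ
      have hHtop : H ≠ ⊤ := fun e => hne (by
        rw [e, Subgroup.isComplement'_top_right] at hH; exact hH)
      obtain ⟨M, hM, hHM⟩ := Solvable.exists_coatom_ge hHtop
      have hMN : M ⊔ N = ⊤ := top_le_iff.mp (hH.sup_eq_top.ge.trans (sup_le le_sup_right (hHM.trans le_sup_left)))
      obtain ⟨hd, -⟩ := SystemNormalizer.complement_of_sup_eq_top hmin hMN hM.1
      have hidx : M.index = Nat.card N := by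
        have h1 := Solvable.card_sup_of_disjoint N M (disjoint_iff.mpr hd)
        rw [hMN, Subgroup.card_top, ← M.card_mul_index] at h1
        exact Nat.eq_of_mul_eq_mul_left Nat.card_pos h1
      have hNi : N.index = Nat.card M := by
        have h1 := N.card_mul_index
        rw [← M.card_mul_index, hidx, mul_comm (Nat.card M)] at h1
        exact Nat.eq_of_mul_eq_mul_left Nat.card_pos h1
      have hpi : ¬ p ∣ N.index := by
        rw [hNi]
        intro hd'
        have h2 : p ∣ M.index := by
          rw [hidx]
          obtain ⟨k, hk⟩ := hNp.exists_card_eq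
          rw [hk]
          exact dvd_pow_self p fun h0 => hne (by rw [← Subgroup.card_eq_one, hk, h0, pow_zero])
        exact hp.not_dvd_one (h M hM ▸ Nat.dvd_gcd hd' h2)
      refine ⟨p, hp, hpG, suffices_one p (hNp.toSylow hpi) ?_⟩
      rw [IsPGroup.toSylow_coe]
      exact hN
    have hNtop : N ≠ ⊤ := fun e => by
      obtain ⟨M, hM, -⟩ := Solvable.exists_coatom_ge (G := G) (H := ⊥) bot_ne_top
      exact hM.1 (top_le_iff.mp fun x _ =>
        (Solvable.mem_frattini_iff.mp (hΦ (e.ge (Subgroup.mem_top x)))) M hM)
    have : Nontrivial (G ⧸ N) := QuotientGroup.nontrivial_iff.mpr hNtop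
    have hq : Nat.card (G ⧸ N) < n := by
      refine lt_of_lt_of_le ?_ (Nat.lt_succ_iff.mp hn)
      rw [N.card_eq_card_quotient_mul_card_subgroup]
      exact (Nat.lt_mul_iff_one_lt_right Nat.card_pos).mpr
        (Subgroup.one_lt_card_iff_ne_bot N |>.mpr hne)
    have hinh : ∀ M : Subgroup (G ⧸ N), IsCoatom M → (Nat.card M).Coprime M.index := by
      intro M hM
      have hco : IsCoatom (M.comap f) := by
        refine ⟨fun e => hM.1 ?_, fun L hL => ?_⟩
        · rw [← Subgroup.map_comap_eq_self_of_surjective hfs M, e,
            Subgroup.map_top_of_surjective f hfs]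
        · have hNL : N ≤ L := by
            refine le_trans ?_ hL.le
            have := f.ker_le_comap M
            rwa [QuotientGroup.ker_mk'] at this
          have h1 : L = (L.map f).comap f := (Solvable.comap_map_mk'_of_le hNL).symm
          have h2 : M < L.map f := by
            refine lt_of_le_of_ne ?_ fun e => hL.ne (by rw [e]; exact h1.symm)
            rw [← Subgroup.map_comap_eq_self_of_surjective hfs M]
            exact Subgroup.map_mono hL.le
          rw [h1, hM.2 _ h2, Subgroup.comap_top]
      have h1 := h _ hco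
      rw [Subgroup.index_comap_of_surjective _ hfs, Solvable.card_comap_mk'] at h1
      exact h1.coprime_dvd_left (dvd_mul_right _ _)
    obtain ⟨q, hqp, hqd, hqn⟩ := ih (G ⧸ N) hq hinh
    have := Fact.mk hqp
    obtain ⟨P⟩ : Nonempty (Sylow q G) := inferInstance
    refine ⟨q, hqp, hqd.trans (Subgroup.card_quotient_dvd_card N), suffices_one q P ?_⟩
    have hPN : ((P : Subgroup G) ⊔ N).Normal := by
      have h1 : ((P : Subgroup G).map f).Normal := by
        rw [← Sylow.coe_mapSurjective hfs P]
        exact hqn _
      have h2 := h1.comap f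
      rwa [Subgroup.comap_map_eq, QuotientGroup.ker_mk'] at h2
    haveI := hPN
    have hfr := Sylow.normalizer_sup_eq_top (N := (P : Subgroup G) ⊔ N)
      (P.subtype le_sup_left)
    rw [Sylow.coe_subtype, Subgroup.map_subgroupOf_eq_of_le le_sup_left] at hfr
    have h5 : Subgroup.normalizer ((P : Subgroup G) : Set G) ⊔ frattini G = ⊤ :=
      top_le_iff.mp (hfr.ge.trans (sup_le le_sup_left
        (sup_le (Subgroup.le_normalizer.trans le_sup_left) (hΦ.trans le_sup_right))))
    exact Subgroup.normalizer_eq_top_iff.mp (Solvable.eq_top_of_sup_frattini h5)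

/-- Let G be a nontrivial finite solvable group in which every maximal subgroup has order coprime to its index. Then for some prime p dividing the order of G the Sylow p-subgroups of G are normal. -/
theorem result {G : Type*} [Group G] [Finite G] [Group.IsSolvable G] [Nontrivial G] (h : ∀ M : Subgroup G, IsCoatom M → (Nat.card M).Coprime M.index) : ∃ p : ℕ, p.Prime ∧ p ∣ Nat.card G ∧ ∀ P : Sylow p G, (P : Subgroup G).Normal := by
  exact aux _ G (Nat.lt_succ_self _) h

end Cfsg.Agent.S0553
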