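import Cfsg.Statements.S0554
import Cfsg.Agent.Solvable.Basic

set_option autoImplicit false
open Cfsg

namespace Cfsg.Agent.S0554

universe u
open CfsgLib

private theorem move {G : Type*} [Group G] (N : Subgroup G) [hN : N.Normal] :
    ∀ (t : ℕ) (s : Fin t → G) (j : Fin t), ∀ n ∈ N, ∃ n' ∈ N,
      (List.ofFn s).prod * n = (List.ofFn (Function.update s j (s j * n'))).prod := by
  intro t
  induction t with
  | zero => intro s j; exact j.elim0
  | succ t ih =>
    intro s j n hn
    cases j using Fin.cases with
    | zero =>
      refine ⟨(List.ofFn fun i : Fin t => s i.succ).prod * n *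
        (List.ofFn fun i : Fin t => s i.succ).prod⁻¹, hN.conj_mem n hn _, ?_⟩
      have e : (fun i : Fin t => Function.update s 0 (s 0 * ((List.ofFn fun i : Fin t => s i.succ).prod
          * n * (List.ofFn fun i : Fin t => s i.succ).prod⁻¹)) i.succ) = fun i => s i.succ :=
        funext fun i => Function.update_of_ne (Fin.succ_ne_zero i) _ _
      rw [List.ofFn_succ (f := Function.update s _ _), List.prod_cons, e, Function.update_self,
        List.ofFn_succ, List.prod_cons]
      group
    | succ i =>
      obtain ⟨n', hn', h⟩ := ih (fun k => s k.succ) i n hn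
      refine ⟨n', hn', ?_⟩
      have e : (fun k : Fin t => Function.update s i.succ (s i.succ * n') k.succ) =
          Function.update (fun k => s k.succ) i (s i.succ * n') :=
        funext fun k => by
          rcases eq_or_ne k i with rfl | hk
          · rw [Function.update_self, Function.update_self]
          · rw [Function.update_of_ne hk, Function.update_of_ne fun h => hk (Fin.succ_injective _ h)]
      rw [List.ofFn_succ (f := Function.update s _ _), List.prod_cons, e,
        Function.update_of_ne (Fin.succ_ne_zero i).symm, List.ofFn_succ, List.prod_cons, mul_assoc, h]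

private theorem aux (t : ℕ) (p : Fin t → ℕ) (hp : ∀ i, (p i).Prime) : ∀ (m : ℕ) (G : Type u)
    [Group G] [Finite G] [Group.IsSolvable G], Nat.card G < m →
    (∀ q : ℕ, q.Prime → q ∣ Nat.card G → ∃ i, p i = q) → ∀ (S : (i : Fin t) → Sylow (p i) G)
    (g : G), ∃ s : (i : Fin t) → G, (∀ i, s i ∈ (S i : Subgroup G)) ∧ g = (List.ofFn s).prod := by
  intro m
  induction m with
  | zero => intro G _ _ _ h; exact absurd h (Nat.not_lt_zero _)
  | succ m ih =>
    intro G _ _ _ hm hall S g
    rcases subsingleton_or_nontrivial G with hs | hs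
    · exact ⟨fun _ => 1, fun i => Subgroup.one_mem _, Subsingleton.elim _ _⟩
    obtain ⟨N, hN, hne, hmin⟩ := Solvable.exists_minimal_normal (G := G)
    obtain ⟨r, hr, hNp⟩ := Solvable.exists_isPGroup_of_minimal_normal hne hmin
    haveI := Fact.mk hr
    haveI : ∀ i, Fact (p i).Prime := fun i => ⟨hp i⟩
    obtain ⟨j, hj⟩ := hall r hr (by
      obtain ⟨k, hk⟩ := hNp.exists_card_eq
      refine dvd_trans ?_ N.card_subgroup_dvd_card
      rw [hk]
      exact dvd_pow_self r fun h0 => hne (by rw [← Subgroup.card_eq_one, hk, h0, pow_zero]))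
    subst hj
    have hq : Nat.card (G ⧸ N) < m := by
      refine lt_of_lt_of_le ?_ (Nat.lt_succ_iff.mp hm)
      rw [N.card_eq_card_quotient_mul_card_subgroup]
      exact (Nat.lt_mul_iff_one_lt_right Nat.card_pos).mpr
        (Subgroup.one_lt_card_iff_ne_bot N |>.mpr hne)
    have hfs := QuotientGroup.mk'_surjective N
    obtain ⟨sb, hsb, hgb⟩ := ih (G ⧸ N) hq
      (fun q hq' hd => hall q hq' (hd.trans (Subgroup.card_quotient_dvd_card N)))
      (fun i => (S i).mapSurjective hfs) (g : G ⧸ N)
    have hex : ∀ i, ∃ s ∈ (S i : Subgroup G), QuotientGroup.mk' N s = sb i := fun i => by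
      have h := hsb i
      rw [Sylow.coe_mapSurjective] at h
      exact h
    choose s hs hs' using hex
    have hn : ((List.ofFn s).prod)⁻¹ * g ∈ N := by
      rw [← QuotientGroup.eq, ← QuotientGroup.mk'_apply, map_list_prod, List.map_ofFn, hgb]
      congr 2
      exact funext hs'
    obtain ⟨n', hn', h⟩ := move N t s j _ hn
    rw [mul_inv_cancel_left] at h
    refine ⟨Function.update s j (s j * n'), fun i => ?_, h⟩
    rcases eq_or_ne i j with rfl | hi
    · rw [Function.update_self]
      exact Subgroup.mul_mem _ (hs i) (hNp.le_sylow_of_normal (S i) hn')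
    · rw [Function.update_of_ne hi]
      exact hs i

/-- Let G be a finite solvable group and let S assign to each of t distinct primes, including every prime divisor of the order of G, a Sylow subgroup of G. Then every element of G is a product s_0 s_1 ⋯ s_(t-1) with s_i in S i, the factors taken in the given order. -/
theorem result {G : Type*} [Group G] [Finite G] [Group.IsSolvable G] (t : ℕ) (p : Fin t → ℕ) (hp : ∀ i, (p i).Prime) (hinj : Function.Injective p) (hall : ∀ q : ℕ, q.Prime → q ∣ Nat.card G → ∃ i, p i = q) (S : (i : Fin t) → Sylow (p i) G) : ∀ g : G, ∃ s : (i : Fin t) → G, (∀ i, s i ∈ (S i : Subgroup G)) ∧ g = (List.ofFn s).prod := by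
  exact fun g => aux t p hp _ G (Nat.lt_succ_self _) hall S g

end Cfsg.Agent.S0554
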