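import Cfsg.Statements.S0555
import Mathlib.GroupTheory.Solvable
import Mathlib.GroupTheory.SpecificGroups.Cyclic
import Mathlib.Tactic.Ring

set_option autoImplicit false
open Cfsg

namespace Cfsg.Agent.S0555

open scoped commutatorElement

/-- Generator of a cyclic factor. -/
private theorem exists_gen {G : Type*} [Group G] {C B : Subgroup G} [hn : (C.subgroupOf B).Normal]
    (h : IsCyclic (↥B ⧸ C.subgroupOf B)) :
    ∃ y ∈ B, ∀ b ∈ B, ∃ k : ℤ, (y ^ k)⁻¹ * b ∈ C := by
  obtain ⟨yq, hyq⟩ := IsCyclic.exists_generator (α := ↥B ⧸ C.subgroupOf B)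
  obtain ⟨y, rfl⟩ := QuotientGroup.mk'_surjective _ yq
  refine ⟨y, y.2, fun b hb => ?_⟩
  obtain ⟨k, hk⟩ := Subgroup.mem_zpowers_iff.mp (hyq (QuotientGroup.mk' _ ⟨b, hb⟩))
  refine ⟨k, ?_⟩
  have h1 : (y ^ k)⁻¹ * ⟨b, hb⟩ ∈ C.subgroupOf B := by
    rw [← QuotientGroup.eq_one_iff, QuotientGroup.mk_mul, QuotientGroup.mk_inv,
      QuotientGroup.mk_zpow]
    change (QuotientGroup.mk' (C.subgroupOf B) y ^ k)⁻¹ * _ = 1
    rw [hk]
    exact inv_mul_cancel _
  simpa using Subgroup.mem_subgroupOf.mp h1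

/-- Automorphisms of a cyclic group commute. -/
private theorem mulAut_comm {K : Type*} [Group K] [IsCyclic K] (α β : MulAut K) :
    α * β = β * α := by
  obtain ⟨g, hg⟩ := IsCyclic.exists_generator (α := K)
  obtain ⟨a, ha⟩ := Subgroup.mem_zpowers_iff.mp (hg (α g))
  obtain ⟨b, hb⟩ := Subgroup.mem_zpowers_iff.mp (hg (β g))
  apply MulEquiv.ext
  intro x
  obtain ⟨k, rfl⟩ := Subgroup.mem_zpowers_iff.mp (hg x)
  simp only [MulAut.mul_apply, map_zpow]
  rw [← hb, map_zpow, ← ha, map_zpow, ← hb]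
  simp only [← zpow_mul]
  ring_nf

/-- Let i ≥ 1. If in the derived series of a group the quotient of the i-th term by the (i+1)-st and the quotient of the (i+1)-st by the (i+2)-nd are both cyclic, then the (i+1)-st and (i+2)-nd terms coincide. -/
theorem result {G : Type*} [Group G] (i : ℕ) (hi : 1 ≤ i) (h₁ : IsCyclic (↥(derivedSeries G i) ⧸ (derivedSeries G (i + 1)).subgroupOf (derivedSeries G i))) (h₂ : IsCyclic (↥(derivedSeries G (i + 1)) ⧸ (derivedSeries G (i + 2)).subgroupOf (derivedSeries G (i + 1)))) : derivedSeries G (i + 1) = derivedSeries G (i + 2) := by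
  set C := derivedSeries G (i + 2) with hC
  set D := derivedSeries G i with hD
  set B := derivedSeries G (i + 1) with hB
  have hCn : C.Normal := derivedSeries_normal G _
  have hBn : B.Normal := derivedSeries_normal G _
  have hDn : D.Normal := derivedSeries_normal G _
  refine le_antisymm ?_ (derivedSeries_antitone G (Nat.le_succ _))
  obtain ⟨x, hx, hxgen⟩ := exists_gen h₁
  obtain ⟨y, hy, hygen⟩ := exists_gen h₂
  set f := QuotientGroup.mk' C with hf
  set Bq := B.map f with hBq
  have hBqn : Bq.Normal := hBn.map f (QuotientGroup.mk'_surjective C)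
  have hzero : ∀ c ∈ C, f c = 1 := fun c hc => (QuotientGroup.eq_one_iff c).mpr hc
  have hBqc : IsCyclic Bq := by
    refine ⟨⟨⟨f y, Subgroup.mem_map_of_mem _ hy⟩, ?_⟩⟩
    rintro ⟨_, b, hb, rfl⟩
    obtain ⟨k, hk⟩ := hygen b hb
    refine ⟨k, Subtype.ext ?_⟩
    have := hzero _ hk
    rw [map_mul, map_inv, map_zpow, inv_mul_eq_one] at this
    simpa using this
  -- `D` centralises `B` modulo `C`
  have hcent : ∀ d ∈ D, ∀ b ∈ B, f d * f b = f b * f d := by
    set ψ : G →* MulAut Bq := (MulAut.conjNormal (H := Bq)).comp f with hψ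
    have hker : commutator G ≤ ψ.ker := by
      rw [commutator_def, Subgroup.commutator_le]
      intro g _ h _
      rw [MonoidHom.mem_ker, map_commutatorElement, commutatorElement_eq_one_iff_mul_comm]
      exact mulAut_comm _ _
    intro d hd b hb
    have hd' : d ∈ commutator G := by
      rw [← derivedSeries_one]
      exact derivedSeries_antitone G hi hd
    have h3 := congrArg Subtype.val (DFunLike.congr_fun (hker hd' : ψ d = 1) ⟨f b, Subgroup.mem_map_of_mem _ hb⟩)
    simp only [hψ, MonoidHom.comp_apply, MulAut.conjNormal_apply, MulAut.one_apply] at h3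
    calc f d * f b = f d * f b * (f d)⁻¹ * f d := by group
      _ = f b * f d := by rw [h3]
  have hcomm : ∀ d ∈ D, ∀ e ∈ D, f d * f e = f e * f d := by
    intro d hd e he
    obtain ⟨k, hk⟩ := hxgen d hd
    obtain ⟨l, hl⟩ := hxgen e he
    have hd' : f d = f x ^ k * f ((x ^ k)⁻¹ * d) := by
      rw [map_mul, map_inv, map_zpow, mul_inv_cancel_left]
    have he' : f e = f x ^ l * f ((x ^ l)⁻¹ * e) := by
      rw [map_mul, map_inv, map_zpow, mul_inv_cancel_left]
    rw [hd', he']
    have c1 : ∀ b ∈ B, ∀ m : ℤ, Commute (f x ^ m) (f b) := fun b hb m =>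
      (show Commute (f x) (f b) from hcent x hx b hb).zpow_left m
    have c2 : Commute (f ((x ^ k)⁻¹ * d)) (f ((x ^ l)⁻¹ * e)) :=
      hcent _ (derivedSeries_antitone G (Nat.le_succ i) hk) _ hl
    exact (((Commute.refl (f x)).zpow_zpow k l).mul_right (c1 _ hl k)).mul_left
      (((c1 _ hk l).symm).mul_right c2) |>.eq
  rw [hB, derivedSeries_succ, Subgroup.commutator_le]
  intro d hd e he
  rw [← QuotientGroup.eq_one_iff]
  change f ⁅d, e⁆ = 1
  rw [map_commutatorElement, commutatorElement_eq_one_iff_mul_comm]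
  exact hcomm d hd e he

end Cfsg.Agent.S0555
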