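import Cfsg.Statements.S0556
import Cfsg.Agent.FrobComp.Complement
import Cfsg.Agent.Solvable.FrobeniusBasic
import Cfsg.Agent.Coprime.Action

set_option autoImplicit false
open Cfsg

namespace Cfsg.Agent.S0556

open scoped Pointwise commutatorElement
open CfsgLib

/-- A Frobenius kernel of an abelian maximal complement is abelian. -/
private theorem kernel_abelian {G : Type*} [Group G] [Finite G] (A : Subgroup G)
    [IsMulCommutative A] (hA : IsCoatom A) (hF : Cfsg.IsFrobeniusComplement A) :
    ∃ K : Subgroup G, K.Normal ∧ Subgroup.IsComplement' K A ∧ IsMulCommutative K := by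
  obtain ⟨K, hK, hc, -⟩ := FrobComp.exists_kernel hF
  refine ⟨K, hK, hc, ?_⟩
  have hcop : (Nat.card A).Coprime (Nat.card K) := by
    rw [← hc.index_eq_card]
    have h1 := Solvable.card_dvd_index_sub_one hF
    refine Nat.coprime_of_dvd fun r hr hrA hrI => hr.not_dvd_one ?_
    have h2 := Nat.dvd_sub hrI (hrA.trans h1)
    rwa [Nat.sub_sub_self (Nat.pos_of_ne_zero Subgroup.index_ne_zero_of_finite)] at h2
  -- there is no proper nontrivial `A`-invariant subgroup
  have hinv : ∀ S : Subgroup G, S ≤ K → A ≤ Subgroup.normalizer (S : Set G) → S = ⊥ ∨ S = K := by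
    intro S hSK hAS
    refine or_iff_not_imp_left.mpr fun hne => le_antisymm hSK fun k hk => ?_
    have hlt : A < A ⊔ S := left_lt_sup.mpr fun hle => hne (le_bot_iff.mp
      ((le_inf hSK hle).trans (disjoint_iff.mp hc.disjoint).le))
    have hk' : k ∈ ((A ⊔ S : Subgroup G) : Set G) := by rw [hA.2 _ hlt]; trivial
    rw [Subgroup.coe_mul_of_left_le_normalizer_right A S hAS] at hk'
    obtain ⟨a, ha, s, hs, rfl⟩ := hk'
    have h1 : a ∈ K ⊓ A := ⟨by simpa using K.mul_mem hk (K.inv_mem (hSK hs)), ha⟩
    rw [disjoint_iff.mp hc.disjoint, Subgroup.mem_bot] at h1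
    simpa [h1] using hs
  rcases eq_or_ne K ⊥ with rfl | hKne
  · infer_instance
  obtain ⟨p, hp, hpK⟩ := Nat.exists_prime_and_dvd (Subgroup.one_lt_card_iff_ne_bot K |>.mpr hKne).ne'
  haveI := Fact.mk hp
  have hAsol : Group.IsSolvable A := by open scoped IsMulCommutative in infer_instance
  obtain ⟨P, hP⟩ := Coprime.exists_invariant_sylow (A := A) (G := K)
    Subgroup.le_normalizer_of_normal hcop (Or.inl hAsol) p
  have hKp : IsPGroup p K := by
    rcases hinv _ (Subgroup.map_subtype_le _) hP with h | h
    · exfalso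
      rw [Subgroup.map_eq_bot_iff, Subgroup.ker_subtype, le_bot_iff] at h
      have h1 := P.card_eq_multiplicity
      rw [h, Subgroup.card_bot] at h1
      exact (Nat.one_lt_pow (hp.factorization_pos_of_dvd Nat.card_pos.ne' hpK).ne' hp.one_lt).ne h1
    · rw [← h]; exact P.2.map _
  haveI : Nontrivial K := (Subgroup.nontrivial_iff_ne_bot K).mpr hKne
  haveI := hKp.center_nontrivial
  rcases hinv ((Subgroup.center K).map K.subtype) (Subgroup.map_subtype_le _)
    Subgroup.le_normalizer_of_normal with h | h
  · exact absurd ((Subgroup.map_eq_bot_iff _).mp h |>.trans K.ker_subtype.le |> le_bot_iff.mp)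
      ((Subgroup.nontrivial_iff_ne_bot (Subgroup.center K)).mp inferInstance)
  · refine ⟨⟨fun x y => ?_⟩⟩
    obtain ⟨z, hz, hzx⟩ := h.ge x.2
    rw [← (Subtype.ext hzx : z = x)]
    exact (Subgroup.mem_center_iff.mp hz y).symm

/-- If a finite group has a maximal subgroup that is abelian, then the third term of its derived series is trivial (so the group is solvable of derived length at most three). -/
theorem result {G : Type*} [Group G] [Finite G] (A : Subgroup G) (hA : IsCoatom A) [IsMulCommutative A] : derivedSeries G 3 = ⊥ := by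
  rw [eq_bot_iff, show (3 : ℕ) = (1 + 1) + 1 from rfl, derivedSeries_succ, derivedSeries_succ,
    derivedSeries_one]
  by_cases hn : A.Normal
  · -- the quotient has prime order
    have hGA : IsSimpleGroup (G ⧸ A) := by
      haveI : Nontrivial (G ⧸ A) := QuotientGroup.nontrivial_iff.mpr hA.1
      refine ⟨fun N hN => ?_⟩
      rcases eq_or_ne N ⊥ with h | h
      · exact Or.inl h
      · right
        have h1 : A < N.comap (QuotientGroup.mk' A) := by
          refine lt_of_le_of_ne (by
            have := (QuotientGroup.mk' A).ker_le_comap N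
            rwa [QuotientGroup.ker_mk'] at this) fun e => h ?_
          rw [← Subgroup.map_comap_eq_self_of_surjective (QuotientGroup.mk'_surjective A) N, ← e,
            QuotientGroup.map_mk'_self]
        rw [← Subgroup.map_comap_eq_self_of_surjective (QuotientGroup.mk'_surjective A) N,
          hA.2 _ h1, Subgroup.map_top_of_surjective _ (QuotientGroup.mk'_surjective A)]
    obtain ⟨x, hx⟩ : ∃ x : G ⧸ A, x ≠ 1 := by
      haveI : Nontrivial (G ⧸ A) := QuotientGroup.nontrivial_iff.mpr hA.1
      exact exists_ne 1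
    have hcyc : Subgroup.zpowers x = ⊤ := by
      obtain ⟨g, rfl⟩ := QuotientGroup.mk'_surjective A x
      have h1 : A < (Subgroup.zpowers (QuotientGroup.mk' A g)).comap (QuotientGroup.mk' A) := by
        refine lt_of_le_of_ne (by
          have := (QuotientGroup.mk' A).ker_le_comap (Subgroup.zpowers (QuotientGroup.mk' A g))
          rwa [QuotientGroup.ker_mk'] at this) fun e => hx ?_
        exact (QuotientGroup.eq_one_iff g).mpr (e.ge (Subgroup.mem_zpowers (QuotientGroup.mk' A g)))
      rw [← Subgroup.map_comap_eq_self_of_surjective (QuotientGroup.mk'_surjective A)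
        (Subgroup.zpowers (QuotientGroup.mk' A g)), hA.2 _ h1,
        Subgroup.map_top_of_surjective _ (QuotientGroup.mk'_surjective A)]
    have hle : commutator G ≤ A := by
      rw [commutator_def, Subgroup.commutator_le]
      intro a _ b _
      obtain ⟨i, hi⟩ := Subgroup.mem_zpowers_iff.mp (hcyc.ge (Subgroup.mem_top (a : G ⧸ A)))
      obtain ⟨j, hj⟩ := Subgroup.mem_zpowers_iff.mp (hcyc.ge (Subgroup.mem_top (b : G ⧸ A)))
      rw [← QuotientGroup.eq_one_iff, ← QuotientGroup.mk'_apply, map_commutatorElement,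
        commutatorElement_eq_one_iff_mul_comm, QuotientGroup.mk'_apply, QuotientGroup.mk'_apply,
        ← hi, ← hj]
      exact ((Commute.refl x).zpow_zpow i j).eq
    have h2 : ⁅commutator G, commutator G⁆ = ⊥ := le_bot_iff.mp
      ((Subgroup.commutator_mono hle hle).trans (Subgroup.commutator_eq_bot_iff_le_centralizer.mpr
        fun a ha => Subgroup.mem_centralizer_iff.mpr fun b hb => setLike_mul_comm (s := A) hb ha).le)
    rw [h2]
    exact (Subgroup.commutator_bot_left _).le
  -- `A` is self-normalizing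
  have hNA : Subgroup.normalizer (A : Set G) = A := by
    rcases (Subgroup.le_normalizer (H := A)).eq_or_lt with h | h
    · exact h.symm
    · exact absurd (Subgroup.normalizer_eq_top_iff.mp (hA.2 _ h)) hn
  set Z := Subgroup.center G with hZ
  have hZA : Z ≤ A := fun z hz => by
    rw [← hNA]
    exact Subgroup.centralizer_le_normalizer _ (Subgroup.mem_centralizer_iff.mpr fun a _ =>
      Subgroup.mem_center_iff.mp hz a)
  have hTI : ∀ g : G, g ∉ A → A ⊓ MulAut.conj g • A ≤ Z := by
    intro g hg
    have hgen : A ⊔ MulAut.conj g • A = ⊤ := hA.2 _ (left_lt_sup.mpr fun hle => hg (by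
      rw [← hNA, CfsgLib.Solvable.mem_normalizer_iff_conj_smul]
      exact Subgroup.eq_of_le_of_card_ge hle (CfsgLib.Solvable.card_conj_smul g A).ge))
    intro x hx
    have h1 : A ⊔ MulAut.conj g • A ≤ Subgroup.centralizer ({x} : Set G) := by
      refine sup_le (fun a ha => ?_) (fun a ha => ?_)
      · exact Subgroup.mem_centralizer_iff.mpr fun y hy => by
          rw [Set.mem_singleton_iff.mp hy]; exact setLike_mul_comm (s := A) hx.1 ha
      · refine Subgroup.mem_centralizer_iff.mpr fun y hy => ?_
        rw [Set.mem_singleton_iff.mp hy]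
        have h2 := setLike_mul_comm (s := A) (CfsgLib.Solvable.mem_conj_smul.mp hx.2)
          (CfsgLib.Solvable.mem_conj_smul.mp ha)
        calc x * a = g * ((g⁻¹ * x * g) * (g⁻¹ * a * g)) * g⁻¹ := by group
          _ = g * ((g⁻¹ * a * g) * (g⁻¹ * x * g)) * g⁻¹ := by rw [h2]
          _ = a * x := by group
    rw [hgen, top_le_iff] at h1
    exact Subgroup.mem_center_iff.mpr fun y =>
      ((Subgroup.mem_centralizer_iff.mp (h1.ge (Subgroup.mem_top y))) x rfl).symm
  set f := QuotientGroup.mk' Z with hf
  have hfs : Function.Surjective f := QuotientGroup.mk'_surjective Z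
  set Ab := A.map f with hAb
  have hcomap : Ab.comap f = A := by
    rw [hAb, Subgroup.comap_map_eq, hf, QuotientGroup.ker_mk', sup_eq_left.mpr hZA]
  have hAbmax : IsCoatom Ab := by
    refine ⟨fun e => hA.1 ?_, fun L hL => ?_⟩
    · rw [← hcomap, e, Subgroup.comap_top]
    · have h1 : A < L.comap f := by
        refine lt_of_le_of_ne (hcomap ▸ Subgroup.comap_mono hL.le) fun e => hL.ne ?_
        rw [hAb, e, Subgroup.map_comap_eq_self_of_surjective hfs]
      rw [← Subgroup.map_comap_eq_self_of_surjective hfs L, hA.2 _ h1,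
        Subgroup.map_top_of_surjective f hfs]
  haveI : IsMulCommutative Ab := by
    refine ⟨⟨fun x y => ?_⟩⟩
    obtain ⟨a, ha, hax⟩ := x.2
    obtain ⟨b, hb, hby⟩ := y.2
    apply Subtype.ext
    change (x : G ⧸ Z) * y = y * x
    rw [← hax, ← hby, ← map_mul, ← map_mul, setLike_mul_comm (s := A) ha hb]
  have hF : Cfsg.IsFrobeniusComplement Ab := by
    refine ⟨fun e => hn ?_, hAbmax.1, fun y hy => ?_⟩
    · have h1 : A ≤ Z := by rwa [hAb, Subgroup.map_eq_bot_iff, hf, QuotientGroup.ker_mk'] at e
      exact ⟨fun a ha g => by rwa [Subgroup.mem_center_iff.mp (h1 ha) g, mul_inv_cancel_right]⟩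
    · obtain ⟨g, rfl⟩ := hfs y
      have hgA : g ∉ A := fun h => hy (Subgroup.mem_map_of_mem f h)
      rw [eq_bot_iff]
      rintro w ⟨hw1, hw2⟩
      obtain ⟨a, ha, rfl⟩ := hw1
      rw [Subgroup.mem_bot]
      refine (QuotientGroup.eq_one_iff a).mpr (hTI g hgA ⟨ha, ?_⟩)
      have hw2' : f a ∈ MulAut.conj (f g) • Ab := hw2
      rw [CfsgLib.Solvable.mem_conj_smul, ← map_inv, ← map_mul, ← map_mul,
        ← Subgroup.mem_comap, hcomap] at hw2'
      exact CfsgLib.Solvable.mem_conj_smul.mpr hw2'
  obtain ⟨K, hK, hc, hKab⟩ := kernel_abelian Ab hAbmax hF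
  have hder : commutator (G ⧸ Z) ≤ K := by
    rw [commutator_def, Subgroup.commutator_le]
    intro a _ b _
    have ha : a ∈ ((K ⊔ Ab : Subgroup (G ⧸ Z)) : Set (G ⧸ Z)) := by rw [hc.sup_eq_top]; trivial
    have hb : b ∈ ((K ⊔ Ab : Subgroup (G ⧸ Z)) : Set (G ⧸ Z)) := by rw [hc.sup_eq_top]; trivial
    rw [Subgroup.normal_mul] at ha hb
    obtain ⟨k, hk, u, hu, rfl⟩ := ha
    obtain ⟨l, hl, v, hv, rfl⟩ := hb
    rw [← QuotientGroup.eq_one_iff, ← QuotientGroup.mk'_apply, map_commutatorElement,
      commutatorElement_eq_one_iff_mul_comm, map_mul, map_mul]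
    have e1 : QuotientGroup.mk' K k = 1 := (QuotientGroup.eq_one_iff k).mpr hk
    have e2 : QuotientGroup.mk' K l = 1 := (QuotientGroup.eq_one_iff l).mpr hl
    rw [e1, e2, one_mul, one_mul, ← map_mul, ← map_mul, setLike_mul_comm (s := Ab) hu hv]
  have h2 : ⁅commutator G, commutator G⁆ ≤ Z := by
    have hmap : (commutator G).map f ≤ K := by
      refine le_trans ?_ hder
      rw [commutator_def, commutator_def, Subgroup.map_commutator]
      exact Subgroup.commutator_mono le_top le_top
    have h3 : (⁅commutator G, commutator G⁆).map f ≤ ⊥ := by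
      rw [Subgroup.map_commutator]
      refine (Subgroup.commutator_mono hmap hmap).trans ?_
      exact (Subgroup.commutator_eq_bot_iff_le_centralizer.mpr fun a ha =>
        Subgroup.mem_centralizer_iff.mpr fun b hb => setLike_mul_comm (s := K) hb ha).le
    rwa [le_bot_iff, Subgroup.map_eq_bot_iff, hf, QuotientGroup.ker_mk'] at h3
  refine (Subgroup.commutator_mono h2 le_top).trans ?_
  rw [hZ, Subgroup.commutator_le]
  intro z hz g _
  rw [Subgroup.mem_bot, commutatorElement_eq_one_iff_mul_comm]
  exact (Subgroup.mem_center_iff.mp hz g).symm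

end Cfsg.Agent.S0556
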