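import Cfsg.Statements.S0561
import Cfsg.Agent.Factorizations.Basic

set_option autoImplicit false
open Pointwise
open Cfsg

namespace Cfsg.Agent.S0561

open scoped Pointwise

/-- Let the finite solvable group G be the product HK of subgroups, and let A be normal in H and B normal in K, where A and B are Hall subgroups of G (order coprime to index). Then for all x, y the product set of xAx⁻¹ and yBy⁻¹ is a subgroup of G. -/
theorem result {G : Type*} [Group G] [Finite G] [Group.IsSolvable G] (H K A B : Subgroup G) (hHK : ∀ g : G, ∃ h ∈ H, ∃ k ∈ K, g = h * k) (hA : A ≤ H) (hAn : (A.subgroupOf H).Normal) (hB : B ≤ K) (hBn : (B.subgroupOf K).Normal) (hAh : (Nat.card A).Coprime A.index) (hBh : (Nat.card B).Coprime B.index) (x y : G) : ∃ S : Subgroup G, (S : Set G) = ((MulAut.conj x • A : Subgroup G) : Set G) * ((MulAut.conj y • B : Subgroup G) : Set G) := by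
  obtain ⟨S, hS⟩ := CfsgLib.Factorizations.exists_eq_mul_of_hall hHK hA hAn hB hBn hAh hBh
  obtain ⟨g, a, b, ha, hb, hga, hgb⟩ := CfsgLib.Factorizations.Factors.exists_conj hHK x y
  have eA : MulAut.conj g • A = MulAut.conj x • A := by
    rw [hga, map_mul, mul_smul, CfsgLib.Solvable.mem_normalizer_iff_conj_smul.mp
      ((Subgroup.normal_subgroupOf_iff_le_normalizer hA).mp hAn ha)]
  have eB : MulAut.conj g • B = MulAut.conj y • B := by
    rw [hgb, map_mul, mul_smul, CfsgLib.Solvable.mem_normalizer_iff_conj_smul.mp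
      ((Subgroup.normal_subgroupOf_iff_le_normalizer hB).mp hBn hb)]
  refine ⟨MulAut.conj g • S, ?_⟩
  rw [← eA, ← eB]
  ext z
  constructor
  · intro hz
    have h1 : g⁻¹ * z * g ∈ (S : Set G) := CfsgLib.Solvable.mem_conj_smul.mp hz
    rw [hS] at h1
    obtain ⟨p, hp, q, hq, e⟩ := h1
    refine ⟨g * p * g⁻¹, CfsgLib.Solvable.conj_mem_conj_smul hp, g * q * g⁻¹,
      CfsgLib.Solvable.conj_mem_conj_smul hq, ?_⟩
    change g * p * g⁻¹ * (g * q * g⁻¹) = z
    have e' : p * q = g⁻¹ * z * g := e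
    calc g * p * g⁻¹ * (g * q * g⁻¹) = g * (p * q) * g⁻¹ := by group
      _ = z := by rw [e']; group
  · rintro ⟨u, hu, v, hv, rfl⟩
    change u * v ∈ MulAut.conj g • S
    rw [CfsgLib.Solvable.mem_conj_smul]
    have h1 := CfsgLib.Solvable.mem_conj_smul.mp hu
    have h2 := CfsgLib.Solvable.mem_conj_smul.mp hv
    rw [show g⁻¹ * (u * v) * g = (g⁻¹ * u * g) * (g⁻¹ * v * g) by group, ← SetLike.mem_coe, hS]
    exact Set.mul_mem_mul h1 h2

end Cfsg.Agent.S0561
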