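import Cfsg.Statements.S0563
import Cfsg.Agent.Factorizations.KegelWielandt

set_option autoImplicit false
open Pointwise
open Cfsg

namespace Cfsg.Agent.S0563

/-- If a finite group G is the product AB of two nilpotent subgroups of coprime orders, then G is solvable, and for every Sylow p-subgroup P of A and Sylow q-subgroup Q of B the product set PQ is a subgroup. -/
theorem result {G : Type*} [Group G] [Finite G] (A B : Subgroup G) (hA : Group.IsNilpotent A) (hB : Group.IsNilpotent B) (hcop : (Nat.card A).Coprime (Nat.card B)) (hAB : ∀ g : G, ∃ a ∈ A, ∃ b ∈ B, g = a * b) : Group.IsSolvable G ∧ ∀ (p q : ℕ) [Fact p.Prime] [Fact q.Prime] (P : Sylow p A) (Q : Sylow q B), ∃ S : Subgroup G, (S : Set G) = (((P : Subgroup A).map A.subtype : Subgroup G) : Set G) * (((Q : Subgroup B).map B.subtype : Subgroup G) : Set G) := by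
  haveI := hA
  haveI := hB
  haveI hsolv := CfsgLib.Factorizations.isSolvable_of_coprime (A := A) (B := B) hAB hcop
  refine ⟨hsolv, fun p q _ _ P Q => ?_⟩
  have hnorm : ∀ {C : Subgroup G} [Group.IsNilpotent C] {r : ℕ} [Fact r.Prime] (R : Sylow r C),
      (((R : Subgroup C).map C.subtype).subgroupOf C).Normal := by
    intro C _ r _ R
    rw [Subgroup.subgroupOf, Subgroup.comap_map_eq_self_of_injective C.subtype_injective]
    infer_instance
  have hhall : ∀ {C D : Subgroup G}, (Nat.card C).Coprime (Nat.card D) →
      CfsgLib.Factorizations.Factors C D → ∀ {r : ℕ} [Fact r.Prime] (R : Sylow r C),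
      (Nat.card ((R : Subgroup C).map C.subtype)).Coprime ((R : Subgroup C).map C.subtype).index := by
    intro C D hcop hf r _ R
    rw [Subgroup.card_map_of_injective C.subtype_injective, Subgroup.index_map_subtype,
      hf.index_of_coprime hcop, R.card_eq_multiplicity]
    by_cases hr : r ∣ Nat.card C
    · refine Nat.Coprime.mul_right ?_ (Nat.Coprime.coprime_dvd_left ?_ hcop)
      · exact ((Nat.Prime.coprime_iff_not_dvd Fact.out).mpr R.not_dvd_index).pow_left _
      · rw [← R.card_eq_multiplicity]
        exact Subgroup.card_subgroup_dvd_card _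
    · rw [Nat.factorization_eq_zero_of_not_dvd hr, pow_zero]
      exact Nat.coprime_one_left _
  exact CfsgLib.Factorizations.exists_eq_mul_of_hall (H := A) (K := B) hAB
    (Subgroup.map_subtype_le _) (hnorm P) (Subgroup.map_subtype_le _) (hnorm Q)
    (hhall hcop hAB P) (hhall hcop.symm
      (CfsgLib.Factorizations.Factors.symm (H := A) (K := B) hAB) Q)

end Cfsg.Agent.S0563
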