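import Cfsg.Statements.S0567
import Mathlib.GroupTheory.IsSubnormal
import Mathlib.Tactic.Group

set_option autoImplicit false
open Pointwise
open scoped commutatorElement
open Cfsg

namespace Cfsg.Agent.S0567

/-- A subgroup H of a group G is subnormal exactly when, for some m, the subgroup obtained from G by taking the commutator with H m times in succession is contained in H. -/
theorem result {G : Type*} [Group G] (H : Subgroup G) : H.IsSubnormal ↔ ∃ m : ℕ, (fun K : Subgroup G => ⁅K, H⁆)^[m] ⊤ ≤ H := by
  constructor
  · intro hH
    induction hH with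
    | top => exact ⟨0, le_rfl⟩
    | step H K hle hK hN ih =>
      obtain ⟨m, hm⟩ := ih
      refine ⟨m + 1, ?_⟩
      have hmono : ∀ i, (fun L : Subgroup G => ⁅L, H⁆)^[i] ⊤ ≤ (fun L : Subgroup G => ⁅L, K⁆)^[i] ⊤ := by
        intro i
        induction i with
        | zero => exact le_rfl
        | succ i ih =>
          simp only [Function.iterate_succ_apply']
          exact Subgroup.commutator_mono ih hle
      rw [Function.iterate_succ_apply']
      refine (Subgroup.commutator_mono ((hmono m).trans hm) le_rfl).trans ?_
      rw [← Subgroup.le_normalizer_iff_commutator_le_right]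
      exact (Subgroup.normal_subgroupOf_iff_le_normalizer hle).mp hN
  · rintro ⟨m, hm⟩
    set K : ℕ → Subgroup G := fun i => (fun L : Subgroup G => ⁅L, H⁆)^[i] ⊤ with hK
    have hsucc : ∀ i, K (i + 1) = ⁅K i, H⁆ := fun i => Function.iterate_succ_apply' _ _ _
    have hanti : ∀ i, K (i + 1) ≤ K i := by
      intro i
      induction i with
      | zero => exact le_top
      | succ i ih =>
        have h1 := Subgroup.commutator_mono ih (le_refl H)
        rwa [← hsucc, ← hsucc] at h1
    have hsn : ∀ i, (H ⊔ K i).IsSubnormal := by
      intro i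
      induction i with
      | zero => rw [show K 0 = ⊤ from rfl, sup_top_eq]; exact Subgroup.IsSubnormal.top
      | succ i ih =>
        refine Subgroup.IsSubnormal.step _ _ (sup_le_sup_left (hanti i) H) ih ?_
        rw [Subgroup.normal_subgroupOf_iff_le_normalizer (sup_le_sup_left (hanti i) H)]
        refine sup_le (le_sup_left.trans Subgroup.le_normalizer) ?_
        intro x hx
        have hcomm : ∀ h ∈ H, ⁅x, h⁆ ∈ H ⊔ K (i + 1) := fun h hh =>
          Subgroup.mem_sup_right (hsucc i ▸ Subgroup.commutator_mem_commutator hx hh)
        have hxK : x ∈ Subgroup.normalizer (K (i + 1) : Set G) :=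
          hsucc i ▸ Subgroup.normalizer_commutator_ge_left _ _ hx
        have h1 : ∀ y : G, y ∈ Subgroup.normalizer (K (i + 1) : Set G) →
            (∀ h ∈ H, y * h * y⁻¹ ∈ H ⊔ K (i + 1)) → MulAut.conj y • (H ⊔ K (i + 1)) ≤ H ⊔ K (i + 1) := by
          intro y hyK hyH
          rw [Subgroup.smul_sup]
          refine sup_le ?_ ?_
          · intro z hz
            rw [Subgroup.mem_pointwise_smul_iff_inv_smul_mem] at hz
            have := hyH _ hz
            simpa [MulAut.smul_def, mul_assoc] using this
          · rw [Subgroup.mem_normalizer_iff_map_conj_eq] at hyK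
            exact le_of_eq_of_le hyK le_sup_right
        have hle : ∀ y ∈ K i, MulAut.conj y • (H ⊔ K (i + 1)) ≤ H ⊔ K (i + 1) := by
          intro y hy
          refine h1 y (hsucc i ▸ Subgroup.normalizer_commutator_ge_left _ _ hy) fun h hh => ?_
          have h2 : y * h * y⁻¹ = ⁅y, h⁆ * h := by rw [commutatorElement_def]; group
          rw [h2]
          exact mul_mem (Subgroup.mem_sup_right (hsucc i ▸ Subgroup.commutator_mem_commutator hy hh))
            (Subgroup.mem_sup_left hh)
        rw [Subgroup.mem_normalizer_iff_map_conj_eq]
        refine le_antisymm (hle x hx) ?_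
        have := hle x⁻¹ ((K i).inv_mem hx)
        rw [map_inv] at this
        exact Subgroup.subset_pointwise_smul_iff.mpr this
    have hKH : K m ≤ H := hm
    simpa [sup_eq_left.mpr hKH] using hsn m

end Cfsg.Agent.S0567
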