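import Cfsg.Statements.S0576
import Cfsg.Agent.Solvable.Frattini

set_option autoImplicit false
open Cfsg

namespace Cfsg.Agent.S0576

/-- Let H be a normal subgroup of a finite group G with H contained in the Frattini subgroup of G. Then the group of inner automorphisms of H is contained in the Frattini subgroup of the automorphism group of H. -/
theorem result {G : Type*} [Group G] [Finite G] (H : Subgroup G) [H.Normal] (hH : H ≤ frattini G) : (MulAut.conj : ↥H →* MulAut ↥H).range ≤ frattini (MulAut ↥H) := by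
  refine fun z hz => CfsgLib.Solvable.mem_frattini_iff.mpr fun M hM => ?_
  obtain ⟨h, rfl⟩ := hz
  set ψ : G →* MulAut H := MulAut.conjNormal with hψ
  have hψH : ∀ x : H, ψ (x : G) = MulAut.conj x := fun x => by
    apply MulEquiv.ext
    intro y
    apply Subtype.ext
    simp [hψ]
  have hn : ((MulAut.conj : H →* MulAut H).range).Normal := by
    refine ⟨?_⟩
    rintro _ ⟨x, rfl⟩ α
    refine ⟨α x, ?_⟩
    apply MulEquiv.ext
    intro y
    simp [MulAut.conj_apply, map_mul]
  by_contra hzM
  have htop : (MulAut.conj : H →* MulAut H).range ⊔ M = ⊤ :=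
    hM.2 _ (right_lt_sup.mpr fun hle => hzM (hle ⟨h, rfl⟩))
  have hK : M.comap ψ ⊔ frattini G = ⊤ := by
    refine eq_top_iff.mpr fun g _ => ?_
    have hg : ψ g ∈ (((MulAut.conj : H →* MulAut H).range ⊔ M : Subgroup (MulAut H)) : Set (MulAut H)) := by
      rw [htop]; trivial
    rw [Subgroup.normal_mul] at hg
    obtain ⟨_, ⟨x, rfl⟩, m, hm, e⟩ := hg
    have h1 : (x : G)⁻¹ * g ∈ M.comap ψ := by
      rw [Subgroup.mem_comap, map_mul, map_inv, hψH, ← e]
      simpa using hm
    rw [← mul_inv_cancel_left (x : G) g]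
    exact mul_mem (Subgroup.mem_sup_right (hH x.2)) (Subgroup.mem_sup_left h1)
  have h2 := CfsgLib.Solvable.eq_top_of_sup_frattini hK
  exact hzM (hψH h ▸ (h2.ge (Subgroup.mem_top (h : G)) : (h : G) ∈ M.comap ψ))

end Cfsg.Agent.S0576
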