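import Cfsg.Statements.S0578
import Cfsg.Agent.Transfer.HallComplement
import Cfsg.Agent.Solvable.Nilpotent
import Cfsg.Agent.Solvable.Basic

set_option autoImplicit false
open Cfsg

namespace Cfsg.Agent.S0578

open scoped Pointwise

/-- The hypothesis passes to subgroups. -/
private theorem inherit {G : Type*} [Group G]
    (h : ∀ A : Subgroup G, IsMulCommutative A → Subgroup.normalizer (A : Set G) = Subgroup.centralizer (A : Set G))
    (S : Subgroup G) (A : Subgroup S) (hA : IsMulCommutative A) :
    Subgroup.normalizer (A : Set S) = Subgroup.centralizer (A : Set S) := by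
  refine le_antisymm (fun x hx => ?_) (Subgroup.centralizer_le_normalizer _)
  have hA' : IsMulCommutative (A.map S.subtype) :=
    ⟨⟨fun a b => by
      obtain ⟨a', ha', ea⟩ := a.2
      obtain ⟨b', hb', eb⟩ := b.2
      apply Subtype.ext
      change (a : G) * b = b * a
      rw [← ea, ← eb, ← map_mul, ← map_mul]
      exact congrArg _ (setLike_mul_comm (s := A) ha' hb')⟩⟩
  have hx' : (x : G) ∈ Subgroup.normalizer ((A.map S.subtype : Subgroup G) : Set G) := by
    rw [CfsgLib.Solvable.mem_normalizer_iff_conj_smul]
    rw [CfsgLib.Solvable.mem_normalizer_iff_conj_smul] at hx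
    rw [← CfsgLib.Solvable.map_subtype_conj_smul, hx]
  rw [h _ hA', Subgroup.mem_centralizer_iff] at hx'
  exact Subgroup.mem_centralizer_iff.mpr fun a ha =>
    Subtype.ext (hx' _ (Subgroup.mem_map_of_mem _ ha))

/-- A nilpotent group with the hypothesis is abelian. -/
private theorem comm_of_nilpotent {P : Type*} [Group P] [Finite P] [Group.IsNilpotent P]
    (h : ∀ A : Subgroup P, IsMulCommutative A → Subgroup.normalizer (A : Set P) = Subgroup.centralizer (A : Set P)) :
    IsMulCommutative P := by
  obtain ⟨A, ⟨hAn, hAc⟩, hmax⟩ := Set.Finite.exists_maximal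
    (s := {A : Subgroup P | A.Normal ∧ IsMulCommutative A}) (Set.toFinite _)
    ⟨⊥, inferInstance, inferInstance⟩
  have : A.Normal := hAn
  have : IsMulCommutative A := hAc
  have hC := CfsgLib.Solvable.centralizer_eq_of_maximal_abelian_normal (N := A)
    fun M hM hMc hAM => le_antisymm (hmax ⟨hM, hMc⟩ hAM) hAM
  have htop : A = ⊤ := by
    rw [← hC, ← h A hAc, Subgroup.normalizer_eq_top]
  exact ⟨⟨fun x y => setLike_mul_comm (s := A) (htop.ge (Subgroup.mem_top x))
    (htop.ge (Subgroup.mem_top y))⟩⟩

/-- If in a finite group the normalizer of each abelian subgroup coincides with its centralizer, then the group is abelian. -/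
theorem result {G : Type*} [Group G] [Finite G] (h : ∀ A : Subgroup G, IsMulCommutative A → Subgroup.normalizer (A : Set G) = Subgroup.centralizer (A : Set G)) : IsMulCommutative G := by
  have key : ∀ (p : ℕ) [Fact p.Prime], Cfsg.HasNormalPComplement p G := by
    intro p _
    obtain ⟨P⟩ : Nonempty (Sylow p G) := inferInstance
    have := P.2.isNilpotent
    have hPc : IsMulCommutative (P : Subgroup G) := comm_of_nilpotent (inherit h _)
    have hP : (Nat.card (P : Subgroup G)).Coprime (P : Subgroup G).index := P.card_coprime_index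
    obtain ⟨N, hN, hc⟩ :=
      CfsgLib.Transfer.exists_normal_complement_of_normalizer_le_centralizer _ hP (h _ hPc).le
    exact ⟨P, N, hN, hc⟩
  have hnil : Group.IsNilpotent G := by
    let Q : (Nat.card G).primeFactors → Type _ := fun p => G ⧸ Cfsg.pResidual (p : ℕ) G
    let f : G →* ∀ p, Q p := Pi.monoidHom fun p => QuotientGroup.mk' _
    have : ∀ p : (Nat.card G).primeFactors, Group.IsNilpotent (Q p) := fun p => by
      haveI := Fact.mk (Nat.prime_of_mem_primeFactors p.2)
      exact (CfsgLib.Transfer.isPGroup_quotient_pResidual (p := (p : ℕ)) (G := G)).isNilpotent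
    refine Subgroup.isNilpotent_of_ker_le_center f fun x hx => ?_
    suffices x = 1 by rw [this]; exact Subgroup.one_mem _
    by_contra hne
    obtain ⟨q, hq, hqd⟩ := Nat.exists_prime_and_dvd (mt orderOf_eq_one_iff.1 hne)
    haveI := Fact.mk hq
    have hmem : q ∈ (Nat.card G).primeFactors :=
      Nat.mem_primeFactors.2 ⟨hq, hqd.trans (orderOf_dvd_natCard x), Nat.card_pos.ne'⟩
    have h1 : x ∈ Cfsg.pResidual q G :=
      (QuotientGroup.eq_one_iff x).mp (congrFun (MonoidHom.mem_ker.mp hx) ⟨q, hmem⟩)
    exact CfsgLib.Transfer.hasNormalPComplement_iff.1 (key q)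
      (hqd.trans ((Cfsg.pResidual q G).orderOf_dvd_natCard h1))
  exact comm_of_nilpotent h

end Cfsg.Agent.S0578
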