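import Cfsg.Statements.S0582
import Cfsg.Agent.Supersolvable.Criteria
import Cfsg.Agent.Solvable.Basic

set_option autoImplicit false
open Pointwise
open Cfsg

namespace Cfsg.Agent.S0582

universe u

open CfsgLib.Supersolvable in
open Pointwise in
private theorem aux (n : ℕ) : ∀ (G : Type u) [Group G] [Finite G] (H K : Subgroup G),
    Nat.card H = n → Cfsg.IsSupersolvable H → Cfsg.IsSupersolvable K → Nat.card H = Nat.card K →
      (Nat.card H).Coprime H.index → ∃ x : G, MulAut.conj x • H = K := by
  induction n using Nat.strongRecOn with | ind n ih => ?_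
  intro G _ _ H K hn hH hK hcard hHall
  rcases eq_or_ne (Nat.card H) 1 with h1 | h1
  · refine ⟨1, ?_⟩
    rw [map_one, one_smul, Subgroup.eq_bot_of_card_eq H h1, Subgroup.eq_bot_of_card_eq K (hcard ▸ h1)]
  obtain ⟨p, hp, hdvd, hmax⟩ := exists_max_prime (G := H) h1
  have := Fact.mk hp
  -- the Sylow subgroups of `H` and `K` are normal and are Sylow subgroups of `G`
  have hfac : (Nat.card G).factorization p = (Nat.card H).factorization p := by
    rw [← H.card_mul_index, Nat.factorization_mul Nat.card_pos.ne' Subgroup.index_ne_zero_of_finite,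
      Finsupp.add_apply, Nat.factorization_eq_zero_of_not_dvd (n := H.index), add_zero]
    exact fun h => Nat.not_coprime_of_dvd_of_dvd hp.one_lt hdvd h hHall
  have key : ∀ L : Subgroup G, Cfsg.IsSupersolvable L → Nat.card L = Nat.card H →
      ∃ S : Sylow p G, (S : Subgroup G) ≤ L ∧ L ≤ Subgroup.normalizer ((S : Subgroup G) : Set G) := by
    intro L hL hcL
    let S₀ : Sylow p L := default
    have hn0 : (S₀ : Subgroup L).Normal := by
      refine normal_sylow_of_prime_index ?_ (by rwa [hcL]) S₀
      exact fun M hM => maximal_prime_index hL M hM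
    have hc : Nat.card ((S₀ : Subgroup L).map L.subtype) = p ^ (Nat.card G).factorization p := by
      rw [Subgroup.card_map_of_injective L.subtype_injective, S₀.card_eq_multiplicity, hfac, hcL]
    refine ⟨Sylow.ofCard _ hc, ?_, ?_⟩
    · rw [Sylow.coe_ofCard]; exact Subgroup.map_subtype_le _
    · rw [Sylow.coe_ofCard]
      have := Subgroup.le_normalizer_map L.subtype (H := (S₀ : Subgroup L))
      rwa [Subgroup.normalizer_eq_top, ← MonoidHom.range_eq_map, L.range_subtype] at this
  obtain ⟨P, hPH, hHN⟩ := key H hH rfl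
  obtain ⟨Q, hQK, hKN⟩ := key K hK hcard.symm
  obtain ⟨g, hg⟩ := MulAction.exists_smul_eq G Q P
  have hgQ : MulAut.conj g • (Q : Subgroup G) = P := by rw [← Sylow.coe_subgroup_smul, hg]
  set K' := MulAut.conj g • K with hK'
  have hPK' : (P : Subgroup G) ≤ K' := by
    rw [← hgQ]; exact Subgroup.pointwise_smul_le_pointwise_smul_iff.mpr hQK
  have hK'N : K' ≤ Subgroup.normalizer ((P : Subgroup G) : Set G) := by
    rw [← hgQ]
    intro x hx
    have hx' : g⁻¹ * x * g ∈ K := by
      rw [hK', Subgroup.mem_pointwise_smul_iff_inv_smul_mem] at hx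
      simpa [MulAut.smul_def] using hx
    have h2 := hKN hx'
    rw [Subgroup.mem_normalizer_iff_map_conj_eq] at h2 ⊢
    show MulAut.conj x • MulAut.conj g • (Q : Subgroup G) = MulAut.conj g • (Q : Subgroup G)
    rw [show MulAut.conj x • MulAut.conj g • (Q : Subgroup G) =
      MulAut.conj g • MulAut.conj (g⁻¹ * x * g) • (Q : Subgroup G) by
        rw [← mul_smul, ← mul_smul, ← map_mul, ← map_mul]; congr 2; group]
    exact congrArg _ h2
  set N := Subgroup.normalizer ((P : Subgroup G) : Set G)
  have hPN : (P : Subgroup G) ≤ N := Subgroup.le_normalizer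
  set f := QuotientGroup.mk' ((P : Subgroup G).subgroupOf N) with hf
  have hker : f.ker = (P : Subgroup G).subgroupOf N := QuotientGroup.ker_mk' _
  have hsurj : Function.Surjective f := QuotientGroup.mk'_surjective _
  have hP1 : 1 < Nat.card (P : Subgroup G) := by
    rw [P.card_eq_multiplicity, hfac]
    exact Nat.one_lt_pow (hp.factorization_pos_of_dvd Nat.card_pos.ne' hdvd).ne' hp.one_lt
  have himg : ∀ L : Subgroup G, L ≤ N → (P : Subgroup G) ≤ L →
      Nat.card ((L.subgroupOf N).map f) * Nat.card (P : Subgroup G) = Nat.card L ∧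
      ((L.subgroupOf N).map f).index = L.relIndex N ∧
      ((L.subgroupOf N).map f).comap f = L.subgroupOf N := by
    intro L hLN hPL
    have hle : f.ker ≤ L.subgroupOf N := hker.le.trans (Subgroup.subgroupOf_mono N hPL)
    have hidx : ((L.subgroupOf N).map f).index = L.relIndex N :=
      Subgroup.index_map_eq _ hsurj hle
    refine ⟨?_, hidx, Subgroup.comap_map_eq_self hle⟩
    refine Nat.eq_of_mul_eq_mul_right (Nat.pos_of_ne_zero
      (Subgroup.index_ne_zero_of_finite (H := L.subgroupOf N))) ?_
    rw [← Nat.card_congr (Subgroup.subgroupOfEquivOfLe hLN).toEquiv, (L.subgroupOf N).card_mul_index,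
      ← Nat.card_congr (Subgroup.subgroupOfEquivOfLe hPN).toEquiv, mul_right_comm]
    have h3 := ((L.subgroupOf N).map f).card_mul_index
    rw [hidx] at h3
    rw [show (L.subgroupOf N).index = L.relIndex N from rfl, h3, ← Subgroup.index_eq_card, mul_comm,
      Subgroup.card_mul_index]
  obtain ⟨hcH, hiH, hcomH⟩ := himg H hHN hPH
  obtain ⟨hcK, -, hcomK⟩ := himg K' hK'N hPK'
  have hcK' : Nat.card K' = Nat.card H := by
    rw [hcard, hK']
    exact (Nat.card_congr (Subgroup.equivSMul (MulAut.conj g) K).toEquiv).symm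
  have hlt : Nat.card ((H.subgroupOf N).map f) < n := by
    rw [← hn, ← hcH]; exact lt_mul_of_one_lt_right Nat.card_pos hP1
  have hsup : ∀ L : Subgroup G, L ≤ N → Cfsg.IsSupersolvable L →
      Cfsg.IsSupersolvable ((L.subgroupOf N).map f) := fun L hLN hL =>
    of_surjective (f.subgroupMap _) (f.subgroupMap_surjective _)
      (of_mulEquiv (Subgroup.subgroupOfEquivOfLe hLN).symm hL)
  obtain ⟨x, hx⟩ := ih _ hlt _ ((H.subgroupOf N).map f) ((K'.subgroupOf N).map f) rfl
    (hsup H hHN hH)
    (hsup K' hK'N (of_mulEquiv (Subgroup.equivSMul (MulAut.conj g) K) hK))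
    (Nat.eq_of_mul_eq_mul_right (lt_trans Nat.one_pos hP1) (by rw [hcH, hcK, hcK']))
    (by
      rw [hiH]
      exact (hHall.coprime_dvd_left (Dvd.intro _ hcH)).coprime_dvd_right
        (Dvd.intro _ (Subgroup.relIndex_mul_index hHN)))
  obtain ⟨y, rfl⟩ := hsurj x
  refine ⟨g⁻¹ * y, ?_⟩
  have hconj : MulAut.conj (y : G) • H = K' := by
    have h4 : (MulAut.conj y • (H.subgroupOf N)) = K'.subgroupOf N := by
      rw [← hcomK, ← hx, ← CfsgLib.Solvable.map_conj_smul, Subgroup.comap_map_eq_self]
      intro z hz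
      rw [Subgroup.mem_pointwise_smul_iff_inv_smul_mem]
      refine (hker.le.trans (Subgroup.subgroupOf_mono N hPH)) ?_
      simpa [MulAut.smul_def] using (MonoidHom.normal_ker f).conj_mem z hz y⁻¹
    rw [Subgroup.conj_smul_subgroupOf hHN, Subgroup.subgroupOf_inj] at h4
    have h5 : MulAut.conj (y : G) • H ≤ N := Subgroup.conj_smul_le_of_le hHN y
    simpa [inf_eq_left.mpr h5, inf_eq_left.mpr hK'N, Subgroup.smul_def] using h4
  rw [map_mul, mul_smul, hconj, hK', map_inv, inv_smul_smul]

/-- Let H and K be supersolvable subgroups of a finite group G of the same order, that order being coprime to their index. Then H and K are conjugate in G. -/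
theorem result {G : Type*} [Group G] [Finite G] (H K : Subgroup G) (hH : Cfsg.IsSupersolvable H) (hK : Cfsg.IsSupersolvable K) (hcard : Nat.card H = Nat.card K) (hHall : (Nat.card H).Coprime H.index) : ∃ x : G, MulAut.conj x • H = K := by
  exact aux _ G H K rfl hH hK hcard hHall

end Cfsg.Agent.S0582
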