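import Cfsg.Statements.S0587
import Cfsg.Agent.CoreFree.Basic
import Cfsg.Agent.FrattiniTheory.Basic

set_option autoImplicit false
open Cfsg

namespace Cfsg.Agent.S0587

open scoped Pointwise

/-- Let G be a finite group whose largest normal p-subgroup L is nontrivial, and M a maximal subgroup of G with trivial normal core. Then L is elementary abelian, M is a complement to L, L is a minimal normal subgroup of G, the centralizer of L is L, and for every prime q such that the largest normal q-subgroup of M is nontrivial, the order of L is congruent to 1 modulo q and q ≠ p. -/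
theorem result {G : Type*} [Group G] [Finite G] (p : ℕ) [Fact p.Prime] (hL : Cfsg.pCore p G ≠ ⊥) (M : Subgroup G) (hM : IsCoatom M) (hcore : M.normalCore = ⊥) : Cfsg.IsElementaryAbelian p (Cfsg.pCore p G) ∧ Subgroup.IsComplement' (Cfsg.pCore p G) M ∧ (∀ K : Subgroup G, K.Normal → K ≤ Cfsg.pCore p G → K = ⊥ ∨ K = Cfsg.pCore p G) ∧ Subgroup.centralizer ((Cfsg.pCore p G : Subgroup G) : Set G) = Cfsg.pCore p G ∧ ∀ (q : ℕ) [Fact q.Prime], Cfsg.pCore q ↥M ≠ ⊥ → Nat.card (Cfsg.pCore p G) % q = 1 % q ∧ q ≠ p := by
  classical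
  have hp : p.Prime := Fact.out
  have hLn : (Cfsg.pCore p G).Normal := CfsgLib.Solvable.pCore_normal p
  have hLp : IsPGroup p (Cfsg.pCore p G) := CfsgLib.Solvable.isPGroup_pCore p
  obtain ⟨N, hNn, hNne, hNle, hNmin⟩ := CfsgLib.Solvable.exists_minimal_normal_le hLn hL
  haveI := hNn
  haveI : Group.IsNilpotent N := (hLp.to_le hNle).isNilpotent
  haveI := CfsgLib.Solvable.isMulCommutative_of_minimal_normal hNne hNmin
  have hC := CfsgLib.CoreFree.centralizer_eq_self (N := N) hM hcore hNne
  have hLN : Cfsg.pCore p G = N := by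
    refine le_antisymm ?_ hNle
    exact ((CfsgLib.Solvable.pCore_le_fittingSubgroup p).trans
      (CfsgLib.FrattiniTheory.fitting_le_centralizer hNmin)).trans hC.le
  rw [hLN] at hLp ⊢
  have hcomp := CfsgLib.CoreFree.isComplement'_of_abelian (N := N) hM hcore hNne
  refine ⟨⟨inferInstance, ?_⟩, hcomp, hNmin, hC, fun q _ hq => ?_⟩
  · obtain ⟨r, hr, hexp⟩ := CfsgLib.Solvable.exists_prime_pow_eq_one_of_minimal_normal hNne hNmin
    obtain ⟨x, hx, hx1⟩ := (Subgroup.bot_or_exists_ne_one N).resolve_left hNne
    have hrp : r = p := by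
      obtain ⟨k, hk⟩ := (IsPGroup.iff_orderOf.mp hLp) ⟨x, hx⟩
      rw [Subgroup.orderOf_mk] at hk
      have h1 := orderOf_dvd_of_pow_eq_one (hexp x hx)
      rcases (Nat.dvd_prime hr).mp h1 with h | h
      · exact absurd (orderOf_eq_one_iff.mp h) hx1
      · rw [h] at hk
        exact (Nat.prime_dvd_prime_iff_eq hr hp).mp (hr.dvd_of_dvd_pow hk.dvd)
    exact hrp ▸ hexp
  · -- `O_q(M)` acts without nontrivial fixed points on `N`
    set Q := (Cfsg.pCore q M).map M.subtype with hQdef
    have hQne : Q ≠ ⊥ := fun e => hq (by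
      rwa [hQdef, Subgroup.map_eq_bot_iff, Subgroup.ker_subtype, le_bot_iff] at e)
    have hQM : Q ≤ M := Subgroup.map_subtype_le _
    have hMQ : M ≤ Subgroup.normalizer (Q : Set G) :=
      (Subgroup.normal_subgroupOf_iff_le_normalizer hQM).mp (by
        rw [hQdef, Subgroup.subgroupOf, Subgroup.comap_map_eq_self_of_injective M.subtype_injective]
        exact CfsgLib.Solvable.pCore_normal q)
    have hNQ := CfsgLib.CoreFree.normalizer_eq_of_le hM hcore hQM hQne hMQ
    have hQp : IsPGroup q Q := (CfsgLib.Solvable.isPGroup_pCore q).map _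
    letI : MulAction Q N := MulAction.compHom N ((MulAut.conjNormal (H := N)).comp Q.subtype)
    have hfix : MulAction.fixedPoints Q N = {1} := by
      ext n
      rw [MulAction.mem_fixedPoints, Set.mem_singleton_iff]
      constructor
      · intro hn
        have h1 : (n : G) ∈ Subgroup.centralizer (Q : Set G) := by
          refine Subgroup.mem_centralizer_iff.mpr fun x hx => ?_
          have h2 : x * (n : G) * x⁻¹ = n := by
            have h4 := congrArg (fun z : N => (z : G)) (hn ⟨x, hx⟩)
            exact h4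
          calc x * (n : G) = x * n * x⁻¹ * x := by group
            _ = n * x := by rw [h2]
        have h2 : (n : G) ∈ N ⊓ M := ⟨n.2, hNQ ▸ Subgroup.centralizer_le_normalizer _ h1⟩
        rw [disjoint_iff.mp hcomp.disjoint, Subgroup.mem_bot] at h2
        exact Subtype.ext h2
      · rintro rfl x
        change MulAut.conjNormal (x : G) (1 : N) = 1
        exact map_one _
    have hcard : Nat.card N ≡ 1 [MOD q] := by
      have := hQp.card_modEq_card_fixedPoints N
      rwa [hfix, Nat.card_coe_set_eq, Set.ncard_singleton] at this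
    refine ⟨hcard, fun hqp => ?_⟩
    subst hqp
    obtain ⟨k, hk⟩ := hLp.exists_card_eq
    have hk0 : k ≠ 0 := fun h0 => hNne (by rw [← Subgroup.card_eq_one, hk, h0, pow_zero])
    rw [hk, Nat.ModEq, Nat.pow_mod, Nat.mod_self, zero_pow hk0, Nat.zero_mod,
      Nat.one_mod_eq_one.mpr hp.ne_one] at hcard
    exact zero_ne_one hcard

end Cfsg.Agent.S0587
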