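import Cfsg.Statements.S0588
import Mathlib.GroupTheory.Sylow
import Mathlib.GroupTheory.PGroup

set_option autoImplicit false
open Cfsg

namespace Cfsg.Agent.S0588

/-- If a subgroup H of a finite group G contains the centralizer of every non-identity element of H, then the order of H is coprime to its index. -/
theorem result {G : Type*} [Group G] [Finite G] (H : Subgroup G) (h : ∀ x ∈ H, x ≠ 1 → Subgroup.centralizer ({x} : Set G) ≤ H) : (Nat.card H).Coprime H.index := by
  refine Nat.coprime_of_dvd fun p hp hd hdi => ?_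
  haveI := Fact.mk hp
  obtain ⟨S⟩ : Nonempty (Sylow p H) := inferInstance
  obtain ⟨R, hR⟩ := (S.2.map H.subtype).exists_le_sylow
  have hSne : (S : Subgroup H).map H.subtype ≠ ⊥ := by
    rw [Ne, Subgroup.map_eq_bot_iff, Subgroup.ker_subtype, le_bot_iff, ← Subgroup.card_eq_one,
      S.card_eq_multiplicity]
    exact (Nat.one_lt_pow (hp.factorization_pos_of_dvd Nat.card_pos.ne' hd).ne' hp.one_lt).ne'
  obtain ⟨x, hx, hx1⟩ := (Subgroup.bot_or_exists_ne_one _).resolve_left hSne
  have hRne : (R : Subgroup G) ≠ ⊥ := fun e => hx1 (by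
    have := hR hx
    rwa [e, Subgroup.mem_bot] at this)
  haveI : Nontrivial (R : Subgroup G) := (Subgroup.nontrivial_iff_ne_bot _).mpr hRne
  haveI := R.2.center_nontrivial
  obtain ⟨z, hz1⟩ := exists_ne (1 : Subgroup.center (R : Subgroup G))
  have hzx : ((z : (R : Subgroup G)) : G) ∈ H := by
    refine h x (Subgroup.map_subtype_le _ hx) hx1 (Subgroup.mem_centralizer_iff.mpr fun a ha => ?_)
    rw [Set.mem_singleton_iff.mp ha]
    exact congrArg Subtype.val (Subgroup.mem_center_iff.mp z.2 ⟨x, hR hx⟩)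
  have hz1' : ((z : (R : Subgroup G)) : G) ≠ 1 := fun e => hz1 (Subtype.ext (Subtype.ext e))
  have hRH : (R : Subgroup G) ≤ H := fun r hr => h _ hzx hz1'
    (Subgroup.mem_centralizer_iff.mpr fun a ha => by
      rw [Set.mem_singleton_iff.mp ha]
      exact (congrArg Subtype.val (Subgroup.mem_center_iff.mp z.2 ⟨r, hr⟩)).symm)
  exact R.not_dvd_index (hdi.trans (Subgroup.index_dvd_of_le hRH))

end Cfsg.Agent.S0588
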