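import Cfsg.Statements.S0589
import Cfsg.Agent.FrobComp.Complement
import Cfsg.Agent.Solvable.FrobeniusBasic

set_option autoImplicit false
open Pointwise
open Cfsg

namespace Cfsg.Agent.S0589

open scoped Pointwise
open CfsgLib

/-- A subgroup covered by the conjugates of a Frobenius complement lies in one of them. -/
private theorem exists_conj_le_of_cover {G : Type*} [Group G] [Finite G] {H : Subgroup G}
    (hH : Cfsg.IsFrobeniusComplement H) (L : Subgroup G)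
    (hcov : ∀ x ∈ L, ∃ g : G, x ∈ MulAut.conj g • H) :
    ∃ g : G, L ≤ MulAut.conj g • H := by
  by_contra! hnot
  obtain ⟨x₀, hx₀, hx₀1⟩ : ∃ x ∈ L, x ≠ (1 : G) := by
    rcases L.bot_or_exists_ne_one with h | h
    · exact absurd (h ▸ bot_le) (hnot 1)
    · exact h
  obtain ⟨g₁, hg₁⟩ := hcov x₀ hx₀
  let H₁ : Subgroup G := MulAut.conj g₁ • H
  have hH₁ : Cfsg.IsFrobeniusComplement H₁ := Solvable.isFrobeniusComplement_conj hH g₁
  have hne₁ : L ⊓ H₁ ≠ ⊥ := fun e => hx₀1 ((Subgroup.eq_bot_iff_forall _).mp e _ ⟨hx₀, hg₁⟩)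
  let D : Subgroup L := H₁.subgroupOf L
  have hD : Cfsg.IsFrobeniusComplement D :=
    Solvable.isFrobeniusComplement_subgroupOf hH₁ hne₁ (hnot g₁)
  obtain ⟨x, hxK, hx1⟩ : ∃ x ∈ Cfsg.frobeniusKernel D, x ≠ 1 := by
    refine Set.exists_ne_of_one_lt_ncard ?_ 1
    rw [Solvable.ncard_kernel_eq hD]
    exact Subgroup.one_lt_index_of_ne_top hD.2.1
  obtain ⟨g₂, hg₂⟩ := hcov x x.2
  obtain ⟨y, hy⟩ : ∃ y : G, (x : G) ∈ MulAut.conj y • H₁ :=
    ⟨g₂ * g₁⁻¹, by rwa [← mul_smul, ← map_mul, inv_mul_cancel_right]⟩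
  have hne : L ⊓ MulAut.conj y • H₁ ≠ ⊥ := by
    intro h'
    exact hx1 (Subtype.ext ((Subgroup.eq_bot_iff_forall _).mp h' _ ⟨x.2, hy⟩))
  have hH₂ := Solvable.isFrobeniusComplement_conj hH₁ y
  have hnle : ¬ L ≤ MulAut.conj y • H₁ := by
    rw [← mul_smul, ← map_mul]
    exact hnot _
  have hD' := Solvable.isFrobeniusComplement_subgroupOf hH₂ hne hnle
  obtain ⟨z, hz⟩ := Solvable.exists_conj_inf_ne_bot hD hD'
  obtain ⟨⟨w, hw2, hw3⟩, hw1⟩ := Subgroup.ne_bot_iff_exists_ne_one.mp hz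
  have hw2' : (w : G) ∈ MulAut.conj y • H₁ := hw2
  have hw3a : z⁻¹ * w * z ∈ D := Solvable.mem_conj_smul.mp hw3
  have hw3' : (w : G) ∈ MulAut.conj (z : G) • H₁ := Solvable.mem_conj_smul.mpr hw3a
  have hyz : y⁻¹ * z ∈ H₁ := by
    refine FrobComp.mem_of_conj_mem hH₁ (h := y⁻¹ * w * y) (Solvable.mem_conj_smul.mp hw2')
      (fun e => hw1 (Subtype.ext (Subtype.ext (by
        calc (w : G) = y * (y⁻¹ * w * y) * y⁻¹ := by group
          _ = 1 := by rw [e]; group)))) ?_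
    have : (y⁻¹ * (z : G))⁻¹ * (y⁻¹ * w * y) * (y⁻¹ * z) = (z : G)⁻¹ * w * z := by group
    rw [this]
    exact Solvable.mem_conj_smul.mp hw3'
  rcases (FrobComp.mem_kernel_iff D x).mp hxK with h1 | h1
  · exact hx1 h1
  · apply h1 z
    change ((z : G))⁻¹ * x * z ∈ H₁
    have h2 : (z : G)⁻¹ * x * z = (y⁻¹ * z)⁻¹ * (y⁻¹ * x * y) * (y⁻¹ * z) := by group
    rw [h2]
    exact H₁.mul_mem (H₁.mul_mem (H₁.inv_mem hyz) (Solvable.mem_conj_smul.mp hy)) hyz

/-- Let H be a Frobenius complement in a finite group G and L a subgroup of G whose order divides the order of H. Then L is contained in some conjugate of H. -/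
theorem result {G : Type*} [Group G] [Finite G] (H : Subgroup G) (hH : Cfsg.IsFrobeniusComplement H) (L : Subgroup G) (hL : Nat.card L ∣ Nat.card H) : ∃ x : G, L ≤ MulAut.conj x • H := by
  refine exists_conj_le_of_cover hH L fun x hx => ?_
  by_cases hk : x ∈ Cfsg.frobeniusKernel H
  · refine ⟨1, ?_⟩
    have hx1 : x = 1 := by
      obtain ⟨N, hN, hc, hNeq⟩ := CfsgLib.FrobComp.exists_kernel hH
      have h1 : orderOf x ∣ Nat.card N := N.orderOf_dvd_natCard (by rwa [← SetLike.mem_coe, hNeq])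
      have h2 : orderOf x ∣ Nat.card H := (L.orderOf_dvd_natCard hx).trans hL
      rw [← hc.index_eq_card] at h1
      obtain ⟨c, hc'⟩ := CfsgLib.Solvable.card_dvd_index_sub_one hH
      have h3 : orderOf x ∣ H.index - 1 := hc' ▸ h2.mul_right c
      have h4 := Nat.dvd_sub h1 h3
      rw [Nat.sub_sub_self (Nat.pos_of_ne_zero Subgroup.index_ne_zero_of_finite), Nat.dvd_one] at h4
      exact orderOf_eq_one_iff.mp h4
    rw [hx1]
    exact Subgroup.one_mem _
  · obtain ⟨-, g, h, hh, -, rfl⟩ := CfsgLib.FrobComp.exists_conj_of_notMem_kernel hk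
    exact ⟨g, CfsgLib.Solvable.conj_mem_conj_smul hh⟩

end Cfsg.Agent.S0589
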