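import Cfsg.Statements.S0591

import Cfsg.Agent.PLocal.Quadratic

set_option autoImplicit false
open Cfsg Subgroup CfsgLib.PLocal
open scoped commutatorElement

namespace Cfsg.Agent.S0591

/-- For a quadratically acting element a on an elementary abelian p-group V, the fixed points C_V(a) have order at least the square root of the order of V. -/
theorem result {G : Type*} [Group G] [Finite G] {p : ℕ} [Fact p.Prime] (V : Subgroup G) (hV : Cfsg.IsElementaryAbelian p V) (a : G) (ha : a ∈ Subgroup.normalizer (V : Set G)) (hq : ⁅⁅V, Subgroup.zpowers a⁆, Subgroup.zpowers a⁆ = ⊥) : Nat.card V ≤ Nat.card ↥(V ⊓ Subgroup.centralizer (Subgroup.zpowers a : Set G)) ^ 2 := by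
  set C := V ⊓ Subgroup.centralizer (Subgroup.zpowers a : Set G)
  have hm : ∀ v : V, ⁅(v : G), a⁆ ∈ C := fun v => by
    refine mem_inf.mpr ⟨commutatorElement_mem v.2 ha, ?_⟩
    intro x hx
    obtain ⟨k, rfl⟩ := mem_zpowers_iff.mp hx
    exact ((((quadratic_iff ha).mp hq v v.2).zpow_right k).eq).symm
  let f : V →* C := MonoidHom.mk' (fun v => ⟨⁅(v : G), a⁆, hm v⟩) fun x y =>
    Subtype.ext (commutatorElement_mul_left_of_abelian hV.1 x.2 y.2 ha)
  have hker : f.ker ≤ C.subgroupOf V := by
    intro v hv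
    rw [MonoidHom.mem_ker] at hv
    have h1 : ⁅(v : G), a⁆ = 1 := congrArg Subtype.val hv
    refine mem_subgroupOf.mpr (mem_inf.mpr ⟨v.2, ?_⟩)
    intro x hx
    obtain ⟨k, rfl⟩ := mem_zpowers_iff.mp hx
    exact (((commutatorElement_eq_one_iff_commute.mp h1).zpow_right k).eq).symm
  have h1 : Nat.card f.ker ≤ Nat.card C :=
    (card_le_of_le hker).trans (Nat.card_congr (subgroupOfEquivOfLe inf_le_left).toEquiv).le
  rw [← f.ker.index_mul_card, index_ker, sq]
  exact Nat.mul_le_mul (card_le_card_group _) h1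

end Cfsg.Agent.S0591
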