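import Cfsg.Statements.S0594
import Cfsg.Agent.PLocal.PStabilityCor
-- import your own Cfsg.Agent.* helpers here

set_option autoImplicit false
open Cfsg

namespace Cfsg.Agent.S0594

/-- For odd p, two quadratic generators of a faithful group that is not a p-group, one of which acts nontrivially on a normal subgroup of order prime to p, force p = 3 and a section isomorphic to SL(2,3). -/
theorem result {G : Type*} [Group G] [Finite G] {p : ℕ} [Fact p.Prime] (hp : p ≠ 2) (V H : Subgroup G) (hV : Cfsg.IsElementaryAbelian p V) (hHV : H ≤ Subgroup.normalizer (V : Set G)) (hf : H ⊓ Subgroup.centralizer (V : Set G) = ⊥) (a b : G) (hab : H = Subgroup.closure {a, b}) (ha : ⁅⁅V, Subgroup.zpowers a⁆, Subgroup.zpowers a⁆ = ⊥) (hb : ⁅⁅V, Subgroup.zpowers b⁆, Subgroup.zpowers b⁆ = ⊥) (hnp : ¬ IsPGroup p H) (Q : Subgroup G) (hQH : Q ≤ H) (hQn : H ≤ Subgroup.normalizer (Q : Set G)) (hQ : (Nat.card Q).Coprime p) (hQa : ⁅Q, Subgroup.zpowers a⁆ ≠ ⊥) : p = 3 ∧ ∃ (K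 L : Subgroup G) (hL : (L.subgroupOf K).Normal), K ≤ H ∧ Nonempty ((K ⧸ L.subgroupOf K) ≃* Matrix.SpecialLinearGroup (Fin 2) (ZMod 3)) := by
  have haH : a ∈ H := hab ▸ Subgroup.subset_closure (Or.inl rfl)
  obtain ⟨H', hle, ha', hsep, hna⟩ := CfsgLib.PLocal.exists_pSolvable_not_mem_pCore hV hHV hf haH
    ha hQH hQn hQ hQa
  have hsec := CfsgLib.PLocal.hasSL2Section_of_not_mem_pCore hp hV (hle.trans hHV)
    (le_bot_iff.mp (hf ▸ inf_le_inf_right _ hle)) ha' ha hna
  have h3 : p = 3 := by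
    by_contra h3
    have h2 := (Fact.out : p.Prime).two_le
    have h4 : p ≠ 4 := fun h => by have := h ▸ (Fact.out : p.Prime); norm_num at this
    exact CfsgLib.PLocal.not_hasSL2Section_of_isPSolvable (by omega) hsep hsec
  refine ⟨h3, ?_⟩
  subst h3
  exact (hsec.mono hle).exists_quotient.imp fun K ⟨L, hn, hK, he⟩ => ⟨L, hn, hK, he⟩

end Cfsg.Agent.S0594
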