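import Cfsg.Statements.S0597
import Cfsg.Agent.Subnormal.Join
import Cfsg.Agent.PLocal.Cores
-- import your own Cfsg.Agent.* helpers here

set_option autoImplicit false
open Cfsg

namespace Cfsg.Agent.S0597

open Subgroup
open scoped commutatorElement

/-- If two subnormal subgroups of a faithful group on an elementary abelian p-group satisfy [V, E₁, E₂] = 1, then their commutator lies in the largest normal p-subgroup. -/
theorem result {G : Type*} [Group G] [Finite G] {p : ℕ} [Fact p.Prime] (V H : Subgroup G) (hV : Cfsg.IsElementaryAbelian p V) (hHV : H ≤ Subgroup.normalizer (V : Set G)) (hf : H ⊓ Subgroup.centralizer (V : Set G) = ⊥) (E₁ E₂ : Subgroup G) (h₁ : E₁ ≤ H) (h₂ : E₂ ≤ H) (hs₁ : (E₁.subgroupOf H).IsSubnormal) (hs₂ : (E₂.subgroupOf H).IsSubnormal) (hc : ⁅⁅V, E₁⁆, E₂⁆ = ⊥) : ⁅E₁, E₂⁆ ≤ (Cfsg.pCore p H).map H.subtype := by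
  set W := ⁅V, E₁⁆ with hWdef
  have hE1V : E₁ ≤ normalizer (V : Set G) := h₁.trans hHV
  have hE2V : E₂ ≤ normalizer (V : Set G) := h₂.trans hHV
  have hnV : ∀ {g}, g ∈ normalizer (V : Set G) → ∀ v ∈ V, g * v * g⁻¹ ∈ V := fun hg v hv =>
    (mem_normalizer_iff.1 hg v).1 hv
  have hWV : W ≤ V := by
    rw [hWdef, commutator_le]
    intro v hv e he
    rw [commutatorElement_def, mul_assoc, mul_assoc, ← mul_assoc e]
    exact V.mul_mem hv (hnV (hE1V he) _ (V.inv_mem hv))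
  -- `W` is normalized by `E₁`
  have hE1W : E₁ ≤ normalizer (W : Set G) := by
    intro e he
    have hstep : ∀ f ∈ E₁, ∀ w ∈ W, f * w * f⁻¹ ∈ W := by
      intro f hf w hw
      have : W ≤ W.comap (MulAut.conj f).toMonoidHom := by
        conv_lhs => rw [hWdef]
        rw [commutator_le]
        intro v hv g hg
        rw [mem_comap]
        show f * ⁅v, g⁆ * f⁻¹ ∈ W
        rw [conjugate_commutatorElement]
        exact commutator_mem_commutator (hnV (hE1V hf) v hv)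
          (E₁.mul_mem (E₁.mul_mem hf hg) (E₁.inv_mem hf))
      exact this hw
    refine mem_normalizer_iff.2 fun w => ⟨hstep e he w, fun h => ?_⟩
    have := hstep e⁻¹ (E₁.inv_mem he) _ h
    simpa [mul_assoc] using this
  have hE2c : ∀ e ∈ E₂, ∀ w ∈ W, e * w * e⁻¹ = w := fun e he w hw => by
    have := commutator_mem_commutator hw he
    rw [hc, mem_bot, commutatorElement_eq_one_iff_mul_comm] at this
    rw [← this, mul_inv_cancel_right]
  have hE2W : E₂ ≤ normalizer (W : Set G) := fun e he => mem_normalizer_iff.2 fun w =>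
    ⟨fun h => by rw [hE2c e he w h]; exact h, fun h => by
      have := hE2c e⁻¹ (E₂.inv_mem he) _ h
      rw [show e⁻¹ * (e * w * e⁻¹) * e⁻¹⁻¹ = w by group] at this
      rw [this]; exact h⟩
  have hEW : E₁ ⊔ E₂ ≤ normalizer (W : Set G) := sup_le hE1W hE2W
  have hEV : E₁ ⊔ E₂ ≤ normalizer (V : Set G) := sup_le hE1V hE2V
  have hnW : ∀ {g}, g ∈ normalizer (W : Set G) → ∀ w ∈ W, g * w * g⁻¹ ∈ W := fun hg w hw =>
    (mem_normalizer_iff.1 hg w).1 hw
  -- the stabilizer of the chain `1 ≤ W ≤ V`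
  let D : Subgroup G :=
    { carrier := {g | g ∈ E₁ ⊔ E₂ ∧ (∀ w ∈ W, g * w * g⁻¹ = w) ∧ ∀ v ∈ V, g * v * g⁻¹ * v⁻¹ ∈ W}
      one_mem' := ⟨one_mem _, fun w _ => by group, fun v _ => by
        rw [show (1 : G) * v * 1⁻¹ * v⁻¹ = 1 by group]; exact one_mem _⟩
      mul_mem' := fun {g h} hg hh => ⟨mul_mem hg.1 hh.1, fun w hw => by
          rw [show g * h * w * (g * h)⁻¹ = g * (h * w * h⁻¹) * g⁻¹ by group, hh.2.1 w hw, hg.2.1 w hw],
        fun v hv => by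
          rw [show g * h * v * (g * h)⁻¹ * v⁻¹ =
            g * (h * v * h⁻¹ * v⁻¹) * g⁻¹ * (g * v * g⁻¹ * v⁻¹) by group]
          exact mul_mem (hnW (hEW hg.1) _ (hh.2.2 v hv)) (hg.2.2 v hv)⟩
      inv_mem' := fun {g} hg => ⟨inv_mem hg.1, fun w hw => by
          conv_lhs => rw [← hg.2.1 w hw]
          group,
        fun v hv => by
          rw [show g⁻¹ * v * g⁻¹⁻¹ * v⁻¹ = g⁻¹ * (g * v * g⁻¹ * v⁻¹)⁻¹ * g⁻¹⁻¹ by group]
          exact hnW (hEW (inv_mem hg.1)) _ (inv_mem (hg.2.2 v hv))⟩ }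
  have hDE : D ≤ E₁ ⊔ E₂ := fun g hg => hg.1
  have hDn : ∀ s ∈ E₁ ⊔ E₂, ∀ d ∈ D, s * d * s⁻¹ ∈ D := by
    intro s hs d hd
    refine ⟨mul_mem (mul_mem hs hd.1) (inv_mem hs), fun w hw => ?_, fun v hv => ?_⟩
    · have hw' := hnW (hEW (inv_mem hs)) w hw
      rw [show s * d * s⁻¹ * w * (s * d * s⁻¹)⁻¹ = s * (d * (s⁻¹ * w * s⁻¹⁻¹) * d⁻¹) * s⁻¹ by group,
        hd.2.1 _ hw']
      group
    · rw [show s * d * s⁻¹ * v * (s * d * s⁻¹)⁻¹ * v⁻¹ =
        s * (d * (s⁻¹ * v * s⁻¹⁻¹) * d⁻¹ * (s⁻¹ * v * s⁻¹⁻¹)⁻¹) * s⁻¹ by group]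
      exact hnW (hEW hs) _ (hd.2.2 _ (hnV (hEV (inv_mem hs)) v hv))
  have hE1q : ∀ e ∈ E₁, ∀ v ∈ V, e * v * e⁻¹ * v⁻¹ ∈ W := fun e he v hv => by
    have := inv_mem (commutator_mem_commutator hv he : ⁅v, e⁆ ∈ W)
    rwa [commutatorElement_inv, commutatorElement_def] at this
  have hcomD : ⁅E₁, E₂⁆ ≤ D := by
    rw [commutator_le]
    intro a ha b hb
    refine ⟨?_, fun w hw => ?_, fun v hv => ?_⟩
    · have ha' : a ∈ E₁ ⊔ E₂ := mem_sup_left ha
      have hb' : b ∈ E₁ ⊔ E₂ := mem_sup_right hb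
      rw [commutatorElement_def]
      exact mul_mem (mul_mem (mul_mem ha' hb') (inv_mem ha')) (inv_mem hb')
    · have h1 := hE2c b⁻¹ (E₂.inv_mem hb) w hw
      have h2 := hE2c b hb _ (hnW (hE1W (E₁.inv_mem ha)) w hw)
      rw [show ⁅a, b⁆ * w * ⁅a, b⁆⁻¹ = a * (b * (a⁻¹ * (b⁻¹ * w * b⁻¹⁻¹) * a⁻¹⁻¹) * b⁻¹) * a⁻¹ by
        simp only [commutatorElement_def]; group, h1, h2]
      group
    · set u := b⁻¹ * v * b⁻¹⁻¹ with hu
      have huV : u ∈ V := hnV (hE2V (E₂.inv_mem hb)) v hv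
      set w1 := a⁻¹ * u * a⁻¹⁻¹ * u⁻¹ with hw1
      have hw1W : w1 ∈ W := hE1q _ (E₁.inv_mem ha) u huV
      rw [show ⁅a, b⁆ * v * ⁅a, b⁆⁻¹ * v⁻¹ =
        a * (b * w1 * b⁻¹) * a⁻¹ * (a * v * a⁻¹ * v⁻¹) by
          rw [hw1, hu]; simp only [commutatorElement_def]; group, hE2c b hb w1 hw1W]
      exact mul_mem (hnW (hE1W ha) _ hw1W) (hE1q a ha v hv)
  -- `D` is a `p`-group
  have hDp : IsPGroup p ↥D := by
    intro d
    refine ⟨1, Subtype.ext ?_⟩
    rw [pow_one, SubmonoidClass.coe_pow, OneMemClass.coe_one, ← mem_bot, ← hf]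
    refine ⟨pow_mem (sup_le h₁ h₂ d.2.1) p, mem_centralizer_iff.2 fun v hv => ?_⟩
    obtain ⟨hdE, hdw, hdv⟩ := d.2
    set g := (d : G)
    set w := g * v * g⁻¹ * v⁻¹ with hw
    have hwW : w ∈ W := hdv v hv
    have hgv : g * v * g⁻¹ = w * v := by rw [hw]; group
    have key : ∀ k : ℕ, g ^ k * v * (g ^ k)⁻¹ = w ^ k * v := by
      intro k
      induction k with
      | zero => simp
      | succ k ih =>
        calc g ^ (k + 1) * v * (g ^ (k + 1))⁻¹ = g * (g ^ k * v * (g ^ k)⁻¹) * g⁻¹ := by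
              rw [pow_succ']; group
          _ = (g * w ^ k * g⁻¹) * (g * v * g⁻¹) := by rw [ih]; group
          _ = w ^ (k + 1) * v := by rw [hdw _ (pow_mem hwW k), hgv, pow_succ]; group
    have h1 := key p
    rw [hV.2 w (hWV hwW), one_mul, mul_inv_eq_iff_eq_mul] at h1
    exact h1.symm
  have hEH : E₁ ⊔ E₂ ≤ H := sup_le h₁ h₂
  have hDH : D ≤ H := hDE.trans hEH
  have hsub : (D.subgroupOf H).IsSubnormal := by
    refine Subgroup.IsSubnormal.trans (K := (E₁ ⊔ E₂).subgroupOf H) (fun x hx => hDE hx) ?_ ?_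
    · refine Subgroup.Normal.isSubnormal ⟨fun x hx y => ?_⟩
      exact hDn _ y.2 _ hx
    · rw [subgroupOf_sup h₁ h₂]
      exact CfsgLib.Subnormal.isSubnormal_sup hs₁ hs₂
  have hle := CfsgLib.PLocal.le_pCore_of_isSubnormal hsub
    (hDp.of_equiv (subgroupOfEquivOfLe hDH).symm)
  refine hcomD.trans ?_
  rw [← map_subgroupOf_eq_of_le hDH]
  exact Subgroup.map_mono hle

end Cfsg.Agent.S0597
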