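import Cfsg.Statements.S0602

import Cfsg.Agent.PLocal.Thompson

set_option autoImplicit false
open Cfsg Subgroup CfsgLib.PLocal
open scoped commutatorElement

namespace Cfsg.Agent.S0602

/-- The Thompson subgroup is characteristic, and nontrivial as soon as p divides the group order. -/
theorem result {G : Type*} [Group G] [Finite G] {p : ℕ} [Fact p.Prime] : (Cfsg.thompsonSubgroup p G).Characteristic ∧ (p ∣ Nat.card G → Cfsg.thompsonSubgroup p G ≠ ⊥) := by
  refine ⟨inferInstance, fun hdvd hbot => ?_⟩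
  obtain ⟨x, hx⟩ := exists_prime_orderOf_dvd_card' p hdvd
  obtain ⟨A, hA⟩ := maxEAIn_nonempty p (⊤ : Subgroup G)
  rw [← maxEA_eq_maxEAIn_top] at hA
  have hA1 : A = ⊥ := le_bot_iff.mp (hbot ▸ le_sSup hA)
  have := hA.2 (Subgroup.zpowers x) (isElementaryAbelian_zpowers (hx ▸ pow_orderOf_eq_one x))
  rw [hA1, card_bot, Nat.card_zpowers, hx] at this
  exact absurd this (Fact.out : p.Prime).one_lt.not_ge

end Cfsg.Agent.S0602
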