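import Cfsg.Statements.S0609

import Cfsg.Agent.PLocal.Stability

set_option autoImplicit false
open Cfsg Subgroup CfsgLib.PLocal
open scoped commutatorElement

namespace Cfsg.Agent.S0609

/-- Thompson factorizability passes to and from the quotient by the largest normal subgroup of order prime to p. -/
theorem result {G : Type*} [Group G] [Finite G] {p : ℕ} [Fact p.Prime] : Cfsg.IsThompsonFactorizable p G ↔ Cfsg.IsThompsonFactorizable p (G ⧸ Cfsg.pPrimeCore p G) := by
  set π := QuotientGroup.mk' (Cfsg.pPrimeCore p G) with hπ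
  have hcop := coprime_card_pPrimeCore p G
  have hinj : ∀ S : Sylow p G, Function.Injective (π.comp (S : Subgroup G).subtype) := fun S =>
    injective_comp_subtype_of_coprime S.isPGroup' (by rwa [QuotientGroup.ker_mk'])
  have hJ : ∀ S : Sylow p G, (Cfsg.thompsonSubgroupOf p (S : Subgroup G)).map π =
      Cfsg.thompsonSubgroupOf p ((S : Subgroup G).map π) := fun S =>
    map_thompsonSubgroupOf_of_injOn (hinj S)
  have hΩ : ∀ S : Sylow p G,
      (Cfsg.omegaOne p ((S : Subgroup G) ⊓ Subgroup.centralizer ((S : Subgroup G) : Set G))).map π =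
        Cfsg.omegaOne p ((S : Subgroup G).map π ⊓
          Subgroup.centralizer (((S : Subgroup G).map π : Subgroup (G ⧸ Cfsg.pPrimeCore p G)) : Set (G ⧸ Cfsg.pPrimeCore p G))) := fun S => by
    rw [map_omegaOne_of_injOn inf_le_left (hinj S),
      map_inf_centralizer_self_of_injOn le_rfl (hinj S)]
  constructor
  · intro h T q
    obtain ⟨g, rfl⟩ := QuotientGroup.mk'_surjective (Cfsg.pPrimeCore p G) q
    obtain ⟨S, rfl⟩ := Sylow.mapSurjective_surjective (QuotientGroup.mk'_surjective (Cfsg.pPrimeCore p G)) p T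
    obtain ⟨x, hx, c, hc, n, hn, rfl⟩ := h S g
    refine ⟨1, one_mem _, π c, ?_, π n, ?_, ?_⟩
    · rw [Sylow.coe_mapSurjective, ← hΩ, coe_map]
      exact map_centralizer_le_centralizer_image _ π (mem_map_of_mem π hc)
    · rw [Sylow.coe_mapSurjective, ← hJ]
      exact le_normalizer_map π (mem_map_of_mem π hn)
    · have hx1 : π x = 1 := (QuotientGroup.eq_one_iff x).mpr hx
      rw [map_mul, map_mul, hx1]
  · intro h S g
    obtain ⟨x, hx, c, hc, n, hn, hg⟩ :=
      h (S.mapSurjective (QuotientGroup.mk'_surjective (Cfsg.pPrimeCore p G))) (π g)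
    rw [pPrimeCore_quotient_pPrimeCore_eq_bot, mem_bot] at hx
    subst hx
    rw [Sylow.coe_mapSurjective, ← hΩ, centralizer_map_mk'_eq _ hcop
      (S.isPGroup'.to_le ((omegaOne_le p _).trans inf_le_left))] at hc
    rw [Sylow.coe_mapSurjective, ← hJ, normalizer_map_mk'_eq _ hcop
      (S.isPGroup'.to_le (thompsonSubgroupOf_le p _))] at hn
    obtain ⟨c₀, hc₀, rfl⟩ := hc
    obtain ⟨n₀, hn₀, rfl⟩ := hn
    refine ⟨g * n₀⁻¹ * c₀⁻¹, ?_, c₀, hc₀, n₀, hn₀, by group⟩
    rw [← QuotientGroup.eq_one_iff]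
    show π (g * n₀⁻¹ * c₀⁻¹) = 1
    rw [map_mul, map_mul, map_inv, map_inv, hg]
    simp [π, mul_assoc]

end Cfsg.Agent.S0609
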