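import Cfsg.Statements.S0613
import Cfsg.Agent.PLocal.OffenderSL2

set_option autoImplicit false
open Cfsg

namespace Cfsg.Agent.S0613

/-- A minimal nontrivially-acting best offender and a conjugate of it under a non-centralizing element of the p'-core generate SL(2, p) acting naturally on a plane, and p is 2 or 3. -/
theorem result {G : Type*} [Group G] [Finite G] {p : ℕ} [Fact p.Prime] (V H : Subgroup G) (hV : Cfsg.IsElementaryAbelian p V) (hHV : H ≤ Subgroup.normalizer (V : Set G)) (hf : H ⊓ Subgroup.centralizer (V : Set G) = ⊥) (hS1 : Subgroup.centralizer (Cfsg.pPrimeCore p ↥H : Set ↥H) ≤ Cfsg.pPrimeCore p ↥H) (hS3 : H = ⨆ A : {A : Subgroup G // A ≤ H ∧ Cfsg.IsBestOffenderOn p V A}, (A : Subgroup G)) (hH1 : H ≠ ⊥) (A : Subgroup G) (hAH : A ≤ H) (hA : Cfsg.IsBestOffenderOn p V A) (hAV : ⁅V, A⁆ ≠ ⊥) (hmin : ∀ B : Subgroup G, B ≤ A → Cfsg.IsBestOffenderOn p V B → ⁅V, B⁆ ≠ ⊥ → B = A)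 (x : G) (hx : x ∈ ((Cfsg.pPrimeCore p ↥H).map H.subtype)) (hxA : x ∉ Subgroup.centralizer (A : Set G)) : (p = 2 ∨ p = 3) ∧ Nat.card ↥(⁅V, A ⊔ A.map (MulAut.conj x).toMonoidHom⁆) = p ^ 2 ∧ (A ⊔ A.map (MulAut.conj x).toMonoidHom) ⊓ Subgroup.centralizer ((⁅V, A ⊔ A.map (MulAut.conj x).toMonoidHom⁆ : Subgroup G) : Set G) = ⊥ ∧ Nonempty (↥(A ⊔ A.map (MulAut.conj x).toMonoidHom) ≃* Matrix.SpecialLinearGroup (Fin 2) (ZMod p)) := by
  have hs := CfsgLib.PLocal.Offender.Setup.mk hV hHV hf hS1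
  have hT := hs.isTV_of_minimal hAH hA hAV hmin
  have hne := CfsgLib.PLocal.Offender.cjg_ne_of_not_mem_centralizer hs hT hx hxA
  have hE : CfsgLib.PLocal.Offender.comp p H A = A ⊔ A.map (MulAut.conj x).toMonoidHom :=
    hs.comp_eq_pair hT hx hne
  obtain ⟨hc, -, -, hVE⟩ := hs.plane hT hx hne
  refine ⟨hs.eq_two_or_three hT, ?_, ?_, ?_⟩
  · show Nat.card ↥(⁅V, A ⊔ CfsgLib.PLocal.Offender.cjg x A⁆) = p ^ 2
    rw [hVE, hc]
  · rw [← hE]
    exact hs.inf_centralizer_plane hT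
  · rw [← hE]
    exact hs.nonempty_comp_equiv hT

end Cfsg.Agent.S0613
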