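import Cfsg.Statements.S0615
import Cfsg.Agent.S0597
import Cfsg.Agent.Subnormal.Join
-- import your own Cfsg.Agent.* helpers here

set_option autoImplicit false
open Cfsg

namespace Cfsg.Agent.S0615

open Subgroup
open scoped commutatorElement

universe u

variable {G : Type u} [Group G] [Finite G] {p : ℕ} [Fact p.Prime]

/-- `F` is a subnormal subgroup of `E` with irreducible commutator subgroup on `V`, of order at least three. -/
def Comp (V E F : Subgroup G) : Prop :=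
  F ≤ E ∧ (F.subgroupOf E).IsSubnormal ∧
    (∀ U : Subgroup G, U ≤ ⁅V, F⁆ → F ≤ normalizer (U : Set G) → U = ⊥ ∨ U = ⁅V, F⁆) ∧ 2 < Nat.card F

theorem conj_mem {U : Subgroup G} {g : G} (hg : g ∈ normalizer (U : Set G)) {v : G} (hv : v ∈ U) :
    g * v * g⁻¹ ∈ U := (mem_normalizer_iff.1 hg v).1 hv

theorem le_normalizer_of_conj {U F : Subgroup G} (h : ∀ g ∈ F, ∀ v ∈ U, g * v * g⁻¹ ∈ U) :
    F ≤ normalizer (U : Set G) := fun g hg => mem_normalizer_iff.2 fun v =>
  ⟨h g hg v, fun hv => by simpa [mul_assoc] using h g⁻¹ (F.inv_mem hg) _ hv⟩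

theorem map_conj_eq {U : Subgroup G} {g : G} (hg : g ∈ normalizer (U : Set G)) :
    U.map (MulAut.conj g).toMonoidHom = U := mem_normalizer_iff_map_conj_eq.mp hg

theorem commutator_le_self' {V F : Subgroup G} (h : F ≤ normalizer (V : Set G)) : ⁅V, F⁆ ≤ V := by
  rw [commutator_le]
  intro v hv e he
  rw [commutatorElement_def, mul_assoc, mul_assoc, ← mul_assoc e]
  exact V.mul_mem hv (conj_mem (h he) (V.inv_mem hv))

theorem commutator_conj {V F : Subgroup G} {g : G} (hg : g ∈ normalizer (V : Set G)) :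
    (⁅V, F⁆).map (MulAut.conj g).toMonoidHom = ⁅V, F.map (MulAut.conj g).toMonoidHom⁆ := by
  rw [map_commutator, map_conj_eq hg]

theorem le_normalizer_commutator {V F : Subgroup G} (h : F ≤ normalizer (V : Set G)) :
    F ≤ normalizer ((⁅V, F⁆ : Subgroup G) : Set G) := fun g hg => by
  rw [mem_normalizer_iff_map_conj_eq]
  exact (commutator_conj (h hg)).trans (by rw [map_conj_eq (le_normalizer hg)])

theorem Comp.map {V E F : Subgroup G} (hEV : E ≤ normalizer (V : Set G)) (h : Comp V E F) {x : G}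
    (hx : x ∈ E) : Comp V E (F.map (MulAut.conj x).toMonoidHom) := by
  obtain ⟨hFE, hsn, hirr, hc⟩ := h
  refine ⟨?_, ?_, ?_, ?_⟩
  · rintro _ ⟨f, hf, rfl⟩
    exact mul_mem (mul_mem hx (hFE hf)) (inv_mem hx)
  · have := Subgroup.IsSubnormal.map (f := (MulAut.conj (⟨x, hx⟩ : E)).toMonoidHom) (MulEquiv.surjective _) hsn
    convert this using 1
    ext y
    constructor
    · intro hy
      obtain ⟨f, hf, hfy⟩ := hy
      exact ⟨⟨f, hFE hf⟩, hf, Subtype.ext hfy⟩
    · rintro ⟨f, hf, rfl⟩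
      exact ⟨f.1, hf, rfl⟩
  · intro U hU hn
    rw [← commutator_conj (hEV hx)] at hU ⊢
    have hinj : Function.Injective (MulAut.conj x).toMonoidHom := (MulAut.conj x).injective
    have hsurj : Function.Surjective (MulAut.conj x).toMonoidHom := (MulAut.conj x).surjective
    rcases hirr (U.comap (MulAut.conj x).toMonoidHom)
      (fun v hv => (Subgroup.mem_map_iff_mem hinj).1 (hU hv))
      (le_normalizer_of_conj fun g hg v hv => by
        rw [mem_comap, _root_.map_mul, _root_.map_mul, _root_.map_inv]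
        exact conj_mem (hn (mem_map_of_mem _ hg)) hv) with h0 | h0
    · left; rw [← map_comap_eq_self_of_surjective hsurj U, h0, Subgroup.map_bot]
    · right; rw [← map_comap_eq_self_of_surjective hsurj U, h0]
  · rwa [card_map_of_injective (MulAut.conj x).injective]

variable {V E : Subgroup G} (hV : Cfsg.IsElementaryAbelian p V) (hEV : E ≤ normalizer (V : Set G))
  (hf : E ⊓ centralizer (V : Set G) = ⊥) (hOp : Cfsg.pCore p ↥E = ⊥)

include hV hEV hf hOp in
/-- An element of a component centralizing its commutator subgroup is trivial. -/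
theorem Comp.faithful {F : Subgroup G} (h : Comp V E F) {g : G} (hg : g ∈ F)
    (hgw : ∀ w ∈ ⁅V, F⁆, g * w * g⁻¹ = w) : g = 1 := by
  obtain ⟨hFE, hsn, -, -⟩ := h
  have hFV := hFE.trans hEV
  let D : Subgroup G := F ⊓ centralizer ((⁅V, F⁆ : Subgroup G) : Set G)
  have hgD : g ∈ D := ⟨hg, mem_centralizer_iff.2 fun w hw => by
    have := hgw w hw; rw [mul_inv_eq_iff_eq_mul] at this; exact this.symm⟩
  have hDp : IsPGroup p ↥D := by
    intro d
    refine ⟨1, Subtype.ext ?_⟩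
    rw [pow_one, SubmonoidClass.coe_pow, OneMemClass.coe_one, ← mem_bot, ← hf]
    refine ⟨pow_mem (hFE d.2.1) p, mem_centralizer_iff.2 fun v hv => ?_⟩
    obtain ⟨hdF, hdc⟩ := d.2
    set e := (d : G)
    set w := e * v * e⁻¹ * v⁻¹ with hw
    have hwW : w ∈ ⁅V, F⁆ := by
      have := inv_mem (commutator_mem_commutator hv hdF : ⁅v, e⁆ ∈ ⁅V, F⁆)
      rwa [commutatorElement_inv, commutatorElement_def] at this
    have hev : e * v * e⁻¹ = w * v := by rw [hw]; group
    have key : ∀ k : ℕ, e ^ k * v * (e ^ k)⁻¹ = w ^ k * v := by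
      intro k
      induction k with
      | zero => simp
      | succ k ih =>
        have hfix : e * w ^ k * e⁻¹ = w ^ k := by
          rw [← mem_centralizer_iff.1 hdc _ (pow_mem hwW k), mul_inv_cancel_right]
        calc e ^ (k + 1) * v * (e ^ (k + 1))⁻¹ = e * (e ^ k * v * (e ^ k)⁻¹) * e⁻¹ := by
              rw [pow_succ']; group
          _ = (e * w ^ k * e⁻¹) * (e * v * e⁻¹) := by rw [ih]; group
          _ = w ^ (k + 1) * v := by rw [hfix, hev, pow_succ]; group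
    have h1 := key p
    rw [hV.2 w (commutator_le_self' hFV hwW), one_mul, mul_inv_eq_iff_eq_mul] at h1
    exact h1.symm
  have hDE : D ≤ E := inf_le_left.trans hFE
  have hsub : (D.subgroupOf E).IsSubnormal := by
    refine Subgroup.IsSubnormal.trans (K := F.subgroupOf E) (fun x hx => hx.1) ?_ hsn
    refine Subgroup.Normal.isSubnormal ⟨?_⟩
    rintro ⟨⟨x, hxE⟩, hxF⟩ hx ⟨⟨y, hyE⟩, hy⟩
    have hy : y ∈ F := hy
    have hx : x ∈ D := hx
    show y * x * y⁻¹ ∈ D
    refine ⟨F.mul_mem (F.mul_mem hy hx.1) (F.inv_mem hy), mem_centralizer_iff.2 fun w hw => ?_⟩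
    have h1 := mem_centralizer_iff.1 hx.2 _ (conj_mem (inv_mem (le_normalizer_commutator hFV hy)) hw)
    calc w * (y * x * y⁻¹) = y * ((y⁻¹ * w * y⁻¹⁻¹) * x) * y⁻¹ := by group
      _ = y * (x * (y⁻¹ * w * y⁻¹⁻¹)) * y⁻¹ := by rw [h1]
      _ = y * x * y⁻¹ * w := by group
  have hle := CfsgLib.PLocal.le_pCore_of_isSubnormal hsub (hDp.of_equiv (subgroupOfEquivOfLe hDE).symm)
  rw [hOp, le_bot_iff, subgroupOf_eq_bot] at hle
  exact mem_bot.1 (hle.eq_bot ▸ (⟨hgD, hDE hgD⟩ : g ∈ D ⊓ E))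

include hV hEV hf hOp in
theorem Comp.fixed {F : Subgroup G} (h : Comp V E F) {w : G} (hw : w ∈ ⁅V, F⁆)
    (hfix : ∀ g ∈ F, g * w * g⁻¹ = w) : w = 1 := by
  let U : Subgroup G := ⁅V, F⁆ ⊓ centralizer (F : Set G)
  have hwU : w ∈ U := ⟨hw, mem_centralizer_iff.2 fun g hg => by
    have := hfix g hg; rwa [mul_inv_eq_iff_eq_mul] at this⟩
  have hUfix : ∀ g ∈ F, ∀ v ∈ U, g * v * g⁻¹ = v := fun g hg v hv => by
    rw [mem_centralizer_iff.1 hv.2 g hg, mul_inv_cancel_right]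
  rcases h.2.2.1 U inf_le_left (le_normalizer_of_conj fun g hg v hv => by rw [hUfix g hg v hv]; exact hv) with h0 | h0
  · exact mem_bot.1 (h0 ▸ hwU)
  · exfalso
    have : F = ⊥ := (Subgroup.eq_bot_iff_forall F).2 fun g hg =>
      h.faithful hV hEV hf hOp hg fun v hv => hUfix g hg v (h0.symm ▸ hv)
    have h2 := h.2.2.2
    rw [this, card_bot] at h2
    omega

theorem card_sup_lt {F E' : Subgroup G} (hF : F ≤ E') (hne : F ≠ E')
    (hsn : (F.subgroupOf E').IsSubnormal) {x : G} (hx : x ∈ E') :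
    Nat.card ↥(F ⊔ F.map (MulAut.conj x).toMonoidHom) < Nat.card E' := by
  rcases hsn.lt_normal with h0 | ⟨K, hKn, hFK, hK⟩
  · exact absurd (le_antisymm hF (subgroupOf_eq_top.1 h0)) hne
  · have hle : F ⊔ F.map (MulAut.conj x).toMonoidHom ≤ K.map E'.subtype := by
      refine sup_le (fun f hf => ⟨⟨f, hF hf⟩, hFK hf, rfl⟩) ?_
      rintro _ ⟨f, hf, rfl⟩
      exact ⟨⟨x, hx⟩ * ⟨f, hF hf⟩ * ⟨x, hx⟩⁻¹, hKn.conj_mem _ (hFK hf) _, rfl⟩
    have h1 := Set.Finite.card_lt_card (Set.toFinite _) (SetLike.coe_ssubset_coe.2 hK)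
    simp only [SetLike.coe_sort_coe] at h1
    rw [Subgroup.card_top] at h1
    calc _ ≤ Nat.card ↥(K.map E'.subtype) := Subgroup.card_le_of_le hle
      _ = Nat.card K := card_map_of_injective E'.subtype_injective
      _ < _ := h1

include hV hEV hf hOp in
theorem main : ∀ n, ∀ F₁ F₂ : Subgroup G, Nat.card ↥(F₁ ⊔ F₂) = n → Comp V E F₁ → Comp V E F₂ →
    ¬ ⁅V, F₁⁆ ≤ ⁅V, F₂⁆ → ¬ ⁅V, F₂⁆ ≤ ⁅V, F₁⁆ →
    ⁅F₁, F₂⁆ = ⊥ ∧ F₁ ⊓ F₂ = ⊥ ∧ ⁅V, F₁⁆ ⊓ ⁅V, F₂⁆ = ⊥ ∧ ⁅⁅V, F₁⁆, F₂⁆ = ⊥ ∧ ⁅⁅V, F₂⁆, F₁⁆ = ⊥ := by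
  intro n
  induction n using Nat.strong_induction_on with
  | _ n ih =>
  intro F₁ F₂ hn c1 c2 h12 h21
  have hF1V := c1.1.trans hEV
  have hF2V := c2.1.trans hEV
  set W₁ := ⁅V, F₁⁆ with hW1
  set W₂ := ⁅V, F₂⁆ with hW2
  have hW1V : W₁ ≤ V := commutator_le_self' hF1V
  have hW2V : W₂ ≤ V := commutator_le_self' hF2V
  have hn1 : F₁ ≤ normalizer (W₁ : Set G) := le_normalizer_commutator hF1V
  have hn2 : F₂ ≤ normalizer (W₂ : Set G) := le_normalizer_commutator hF2V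
  -- the key: `F₂` normalizes `W₁`
  have hkey : F₂ ≤ normalizer (W₁ : Set G) := by
    by_contra hnot
    obtain ⟨x, hx, hxW⟩ := Set.not_subset.1 hnot
    set F' := F₁.map (MulAut.conj x).toMonoidHom with hF'
    set W' := W₁.map (MulAut.conj x).toMonoidHom with hW'
    have hW'eq : ⁅V, F'⁆ = W' := (commutator_conj (hF2V hx)).symm
    have hW'ne : W' ≠ W₁ := fun h => hxW (mem_normalizer_iff_map_conj_eq.2 h)
    have hcard : Nat.card W' = Nat.card W₁ := card_map_of_injective (MulAut.conj x).injective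
    have hnle : ∀ {A B : Subgroup G}, Nat.card A = Nat.card B → A ≠ B → ¬ A ≤ B :=
      fun hc hne hle => hne (eq_of_le_of_card_ge hle hc.ge)
    have hFne : ∀ {A B : Subgroup G}, ¬ ⁅V, B⁆ ≤ ⁅V, A⁆ → A ≠ A ⊔ B := fun h he =>
      h (commutator_mono le_rfl (he.symm ▸ le_sup_right))
    have hsnJ : ∀ {A J : Subgroup G}, Comp V E A → A ≤ J → J ≤ E → (A.subgroupOf J).IsSubnormal :=
      fun {A J} cA hAJ hJE => by
        have := Subgroup.IsSubnormal.comap (Subgroup.inclusion hJE) cA.2.1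
        convert this using 1
        ext y
        rfl
    have hJE : F₁ ⊔ F₂ ≤ E := sup_le c1.1 c2.1
    obtain ⟨-, -, hWW, -, hc'⟩ := ih _ (hn ▸ card_sup_lt le_sup_left (hFne h21) (hsnJ c1 le_sup_left hJE)
        (mem_sup_right hx)) F₁ F' rfl c1 (c1.map hEV (c2.1 hx))
      (by rw [hW'eq]; exact hnle hcard.symm hW'ne.symm) (by rw [hW'eq]; exact hnle hcard hW'ne)
    rw [hW'eq] at hWW hc'
    have hcent : ∀ g ∈ F₁, ∀ w ∈ W', g * w * g⁻¹ = w := fun g hg w hw => by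
      have := commutator_mem_commutator hw hg
      rw [hc', mem_bot, commutatorElement_eq_one_iff_mul_comm] at this
      rw [← this, mul_inv_cancel_right]
    have hW1ne : ∃ w ∈ W₁, w ≠ 1 := by
      by_contra h0
      push Not at h0
      exact h12 fun w hw => by rw [h0 w hw]; exact one_mem _
    -- a mover of `W₂` inverts `W₁`
    have hmove : ∀ g ∈ F₁, g ∉ normalizer (W₂ : Set G) → ∀ w ∈ W₁, g * w * g⁻¹ = w⁻¹ := by
      intro g hg hgW
      set F'' := F₂.map (MulAut.conj g).toMonoidHom with hF''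
      set W'' := W₂.map (MulAut.conj g).toMonoidHom with hW''
      have hW''eq : ⁅V, F''⁆ = W'' := (commutator_conj (hF1V hg)).symm
      have hne'' : W'' ≠ W₂ := fun h => hgW (mem_normalizer_iff_map_conj_eq.2 h)
      have hcard'' : Nat.card W'' = Nat.card W₂ := card_map_of_injective (MulAut.conj g).injective
      have hlt : Nat.card ↥(F₂ ⊔ F'') < n := by
        rw [← hn]
        exact card_sup_lt le_sup_right (sup_comm F₁ F₂ ▸ hFne h12) (hsnJ c2 le_sup_right hJE) (mem_sup_left hg)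
      obtain ⟨-, -, -, -, hc''⟩ := ih _ hlt F₂ F'' rfl c2 (c2.map hEV (c1.1 hg))
        (by rw [hW''eq]; exact hnle hcard''.symm hne''.symm) (by rw [hW''eq]; exact hnle hcard'' hne'')
      rw [hW''eq] at hc''
      intro w hw
      set A := g * w * g⁻¹ with hA
      set B := x * w⁻¹ * x⁻¹ with hB
      have hAW : A ∈ W₁ := conj_mem (hn1 hg) hw
      have hBW : B ∈ W' := mem_map_of_mem _ (W₁.inv_mem hw)
      have hfix : x * (A * B) * x⁻¹ = A * B := by
        have hu : A * B ∈ W'' := by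
          refine ⟨⁅w, x⁆, commutator_mem_commutator (hW1V hw) hx, ?_⟩
          show g * ⁅w, x⁆ * g⁻¹ = A * B
          rw [show g * ⁅w, x⁆ * g⁻¹ = (g * w * g⁻¹) * (g * (x * w⁻¹ * x⁻¹) * g⁻¹) by
            rw [commutatorElement_def]; group, hcent g hg _ hBW]
        have := commutator_mem_commutator hu hx
        rw [hc'', mem_bot, commutatorElement_eq_one_iff_mul_comm] at this
        rw [← this, mul_inv_cancel_right]
      set A' := x * A * x⁻¹ with hA'
      set B' := x * B * x⁻¹ with hB'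
      have hA'W : A' ∈ W' := mem_map_of_mem _ hAW
      have hAB : A' * B' = A * B := by rw [← hfix, hA', hB']; group
      set W3 := W'.map (MulAut.conj x).toMonoidHom with hW3
      have hB'W : B' ∈ W3 := mem_map_of_mem _ hBW
      have hW3eq : W3 = W₁ := by
        by_contra hne3
        -- then `F₁` centralizes `W3`, forcing `W₁ = 1`
        have hx2 : x * x ∈ F₂ := F₂.mul_mem hx hx
        have hW3' : W3 = W₁.map (MulAut.conj (x * x)).toMonoidHom := by
          rw [hW3, hW', Subgroup.map_map]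
          congr 1
          ext z
          show x * (x * z * x⁻¹) * x⁻¹ = (x * x) * z * (x * x)⁻¹
          group
        have hcard3 : Nat.card W3 = Nat.card W₁ := by
          rw [hW3']; exact card_map_of_injective (MulAut.conj (x * x)).injective
        have hF3 : ⁅V, F₁.map (MulAut.conj (x * x)).toMonoidHom⁆ = W3 := by
          rw [hW3']; exact (commutator_conj (hF2V hx2)).symm
        obtain ⟨-, -, -, -, hc3⟩ := ih _ (hn ▸ card_sup_lt le_sup_left (hFne h21)
            (hsnJ c1 le_sup_left hJE) (mem_sup_right hx2)) F₁ (F₁.map (MulAut.conj (x * x)).toMonoidHom) rfl c1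
          (c1.map hEV (c2.1 hx2))
          (by rw [hF3]; exact hnle hcard3.symm (Ne.symm hne3)) (by rw [hF3]; exact hnle hcard3 hne3)
        rw [hF3] at hc3
        obtain ⟨v, hv, hv1⟩ := hW1ne
        apply hv1
        have hvA : g * v * g⁻¹ ∈ W₁ := conj_mem (hn1 hg) hv
        have hvB : x * v⁻¹ * x⁻¹ ∈ W' := mem_map_of_mem _ (W₁.inv_mem hv)
        refine conj_eq_one_iff.1 (c1.fixed hV hEV hf hOp hvA fun h hh => ?_)
        have hu : (g * v * g⁻¹) * (x * v⁻¹ * x⁻¹) ∈ W'' := by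
          refine ⟨⁅v, x⁆, commutator_mem_commutator (hW1V hv) hx, ?_⟩
          show g * ⁅v, x⁆ * g⁻¹ = _
          rw [show g * ⁅v, x⁆ * g⁻¹ = (g * v * g⁻¹) * (g * (x * v⁻¹ * x⁻¹) * g⁻¹) by
            rw [commutatorElement_def]; group, hcent g hg _ hvB]
        have h1 := commutator_mem_commutator hu hx
        rw [hc'', mem_bot, commutatorElement_eq_one_iff_mul_comm] at h1
        set P := g * v * g⁻¹
        set Q := x * v⁻¹ * x⁻¹
        have hPQ : P = (x * P * x⁻¹) * (x * Q * x⁻¹) * Q⁻¹ := by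
          calc P = (P * Q * x) * x⁻¹ * Q⁻¹ := by group
            _ = (x * (P * Q)) * x⁻¹ * Q⁻¹ := by rw [h1]
            _ = _ := by group
        have hQfix : h * (x * Q * x⁻¹) * h⁻¹ = x * Q * x⁻¹ := by
          have hxQ : x * Q * x⁻¹ ∈ W3 := mem_map_of_mem _ hvB
          have := commutator_mem_commutator hxQ hh
          rw [hc3, mem_bot, commutatorElement_eq_one_iff_mul_comm] at this
          rw [← this, mul_inv_cancel_right]
        rw [hPQ, show h * ((x * P * x⁻¹) * (x * Q * x⁻¹) * Q⁻¹) * h⁻¹ =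
            (h * (x * P * x⁻¹) * h⁻¹) * (h * (x * Q * x⁻¹) * h⁻¹) * (h * Q * h⁻¹)⁻¹ by group,
            hcent h hh _ (show x * P * x⁻¹ ∈ W' from mem_map_of_mem _ hvA), hcent h hh _ hvB, hQfix]
      have hB'1 : B' ∈ W₁ := hW3eq ▸ hB'W
      haveI := hV.1
      have hB'V := hW1V hB'1
      have hBV : B ∈ V := conj_mem (hF2V hx) (V.inv_mem (hW1V hw))
      have hA'V : A' ∈ V := conj_mem (hF2V hx) (hW1V hAW)
      have h3 : A⁻¹ * B' = A'⁻¹ * B := by
        have e1 : A'⁻¹ * (A' * B') = A'⁻¹ * (A * B) := by rw [hAB]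
        rw [inv_mul_cancel_left] at e1
        rw [e1]
        have hcomm : A'⁻¹ * A = A * A'⁻¹ := setLike_mul_comm (s := V) (V.inv_mem hA'V) (hW1V hAW)
        calc A⁻¹ * (A'⁻¹ * (A * B)) = A⁻¹ * (A'⁻¹ * A) * B := by group
          _ = A'⁻¹ * B := by rw [hcomm]; group
      have h4 : A⁻¹ * B' ∈ W₁ ⊓ W' :=
        ⟨W₁.mul_mem (W₁.inv_mem hAW) hB'1, h3 ▸ W'.mul_mem (W'.inv_mem hA'W) hBW⟩
      rw [hWW, mem_bot, h3, inv_mul_eq_one, hA', hB] at h4
      exact mul_left_cancel (mul_right_cancel h4)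
    obtain ⟨g₀, hg₀, hg₀W⟩ : ∃ g ∈ F₁, g ∉ normalizer (W₂ : Set G) := by
      by_contra hall
      push Not at hall
      have hI : W₁ ⊓ W₂ = ⊥ := by
        rcases c1.2.2.1 (W₁ ⊓ W₂) inf_le_left (le_normalizer_of_conj fun g hg v hv =>
          ⟨conj_mem (hn1 hg) hv.1, conj_mem (hall g hg) hv.2⟩) with h | h
        · exact h
        · exact absurd (show W₁ ≤ W₂ from inf_eq_left.1 h) h12
      obtain ⟨w, hw, hw1⟩ := hW1ne
      refine hw1 (c1.fixed hV hEV hf hOp hw fun g hg => ?_)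
      have hu : ⁅w, x⁆ ∈ W₂ := commutator_mem_commutator (hW1V hw) hx
      have h1 : g * ⁅w, x⁆ * g⁻¹ * ⁅w, x⁆⁻¹ ∈ W₁ ⊓ W₂ := by
        refine ⟨?_, W₂.mul_mem (conj_mem (hall g hg) hu) (W₂.inv_mem hu)⟩
        have := inv_mem (commutator_mem_commutator (hW2V hu) hg : ⁅⁅w, x⁆, g⁆ ∈ W₁)
        rwa [commutatorElement_inv] at this
      rw [hI, mem_bot, mul_inv_eq_one] at h1
      have h2 : g * ⁅w, x⁆ * g⁻¹ = (g * w * g⁻¹) * (g * (x * w⁻¹ * x⁻¹) * g⁻¹) := by
        rw [commutatorElement_def]; group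
      rw [h2, hcent g hg (x * w⁻¹ * x⁻¹) (mem_map_of_mem _ (W₁.inv_mem hw)), commutatorElement_def,
        show w * x * w⁻¹ * x⁻¹ = w * (x * w⁻¹ * x⁻¹) by group] at h1
      exact mul_right_cancel h1
    have hsign : ∀ g ∈ F₁, g ≠ 1 → ∀ w ∈ W₁, g * w * g⁻¹ = w⁻¹ := by
      intro g hg hg1
      by_cases hgW : g ∈ normalizer (W₂ : Set G)
      · exfalso
        apply hg1
        refine c1.faithful hV hEV hf hOp hg fun w hw => ?_
        have h1 := hmove (g₀ * g) (F₁.mul_mem hg₀ hg) (fun h => hg₀W ((mul_mem_cancel_right hgW).1 h)) w hw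
        have h2 := hmove g₀ hg₀ hg₀W w hw
        rw [← h2, show g₀ * g * w * (g₀ * g)⁻¹ = g₀ * (g * w * g⁻¹) * g₀⁻¹ by group] at h1
        exact mul_left_cancel (mul_right_cancel h1)
      · exact hmove g hg hgW
    classical
    have hinj : Function.Injective (fun g : F₁ => decide (g = 1)) := by
      intro g h hgh
      simp only [decide_eq_decide] at hgh
      by_cases hg1 : g = 1
      · rw [hg1, hgh.1 hg1]
      · have hh1 : h ≠ 1 := fun e => hg1 (hgh.2 e)
        have hg1' : (g : G) ≠ 1 := fun e => hg1 (Subtype.ext e)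
        have hh1' : (h : G) ≠ 1 := fun e => hh1 (Subtype.ext e)
        apply Subtype.ext
        refine (inv_mul_eq_one.1 (c1.faithful hV hEV hf hOp (F₁.mul_mem (F₁.inv_mem g.2) h.2) fun w hw => ?_))
        have hwi := W₁.inv_mem hw
        calc (g : G)⁻¹ * h * w * ((g : G)⁻¹ * h)⁻¹ = (g : G)⁻¹ * ((h : G) * w * (h : G)⁻¹) * g := by group
          _ = (g : G)⁻¹ * ((g : G) * w * (g : G)⁻¹) * g := by rw [hsign _ h.2 hh1' w hw, hsign _ g.2 hg1' w hw]
          _ = w := by group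
    have := Nat.card_le_card_of_injective _ hinj
    rw [Nat.card_eq_fintype_card (α := Bool), Fintype.card_bool] at this
    exact absurd c1.2.2.2 (not_lt.2 this)
  have hI : W₁ ⊓ W₂ = ⊥ := by
    rcases c2.2.2.1 (W₁ ⊓ W₂) inf_le_right (le_normalizer_of_conj fun g hg v hv =>
      ⟨conj_mem (hkey hg) hv.1, conj_mem (hn2 hg) hv.2⟩) with h | h
    · exact h
    · exact absurd (show W₂ ≤ W₁ from inf_eq_right.1 h) h21
  have hc12 : ⁅W₁, F₂⁆ = ⊥ := by
    rw [eq_bot_iff, ← hI]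
    exact le_inf (commutator_le_self' hkey) (commutator_mono hW1V le_rfl)
  have hcom : ⁅F₁, F₂⁆ = ⊥ := by
    have := Cfsg.Agent.S0597.result V E hV hEV hf F₁ F₂ c1.1 c2.1 c1.2.1 c2.2.1 hc12
    rwa [hOp, Subgroup.map_bot, le_bot_iff] at this
  have hn12 : F₁ ≤ normalizer (W₂ : Set G) := fun g hg => by
    rw [mem_normalizer_iff_map_conj_eq]
    refine (commutator_conj (hF1V hg)).trans ?_
    rw [map_conj_eq]
    refine le_normalizer_of_conj (fun a ha b hb => ?_) hg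
    have := commutator_mem_commutator ha hb
    rw [hcom, mem_bot, commutatorElement_eq_one_iff_mul_comm] at this
    rw [this, mul_inv_cancel_right]
    exact hb
  have hc21 : ⁅W₂, F₁⁆ = ⊥ := by
    rw [eq_bot_iff, ← hI]
    exact le_inf (commutator_mono hW2V le_rfl) (commutator_le_self' hn12)
  refine ⟨hcom, (Subgroup.eq_bot_iff_forall _).2 fun g hg => ?_, hI, hc12, hc21⟩
  refine c1.faithful hV hEV hf hOp hg.1 fun w hw => ?_
  have := commutator_mem_commutator hw hg.2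
  rw [hc12, mem_bot, commutatorElement_eq_one_iff_mul_comm] at this
  rw [← this, mul_inv_cancel_right]

/-- Two subnormal subgroups acting irreducibly on their incomparable commutator modules, in a faithful group with trivial largest normal p-subgroup, generate their direct product, and the commutator module splits accordingly. -/
theorem result {G : Type*} [Group G] [Finite G] {p : ℕ} [Fact p.Prime] (V E E₁ E₂ : Subgroup G) (hV : Cfsg.IsElementaryAbelian p V) (hEV : E ≤ Subgroup.normalizer (V : Set G)) (hf : E ⊓ Subgroup.centralizer (V : Set G) = ⊥) (hgen : E = E₁ ⊔ E₂) (hs₁ : (E₁.subgroupOf E).IsSubnormal) (hs₂ : (E₂.subgroupOf E).IsSubnormal) (hOp : Cfsg.pCore p ↥E = ⊥) (hirr₁ : (∀ U : Subgroup G, U ≤ ⁅V, E₁⁆ → E₁ ≤ Subgroup.normalizer (U : Set G) → U = ⊥ ∨ U = ⁅V, E₁⁆)) (hirr₂ : (∀ U : Subgroup G, U ≤ ⁅V, E₂⁆ → E₂ ≤ Subgroup.normalizer (U : Set G) → U = ⊥ ∨ U = ⁅V, E₂⁆)) (h12 : ¬ ⁅V, E₁⁆ ≤ ⁅V, E₂⁆) (h21 : ¬ ⁅V, E₂⁆ ≤ ⁅V,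 E₁⁆) (hc₁ : 2 < Nat.card E₁) (hc₂ : 2 < Nat.card E₂) : ⁅E₁, E₂⁆ = ⊥ ∧ E₁ ⊓ E₂ = ⊥ ∧ ⁅V, E₁⁆ ⊓ ⁅V, E₂⁆ = ⊥ ∧ ⁅V, E⁆ = ⁅V, E₁⁆ ⊔ ⁅V, E₂⁆ := by
  have hE1 : E₁ ≤ E := hgen ▸ le_sup_left
  have hE2 : E₂ ≤ E := hgen ▸ le_sup_right
  obtain ⟨ha, hb, hc, h4, h5⟩ := main hV hEV hf hOp _ E₁ E₂ rfl ⟨hE1, hs₁, hirr₁, hc₁⟩ ⟨hE2, hs₂, hirr₂, hc₂⟩ h12 h21
  refine ⟨ha, hb, hc, le_antisymm ?_ (sup_le (commutator_mono le_rfl hE1) (commutator_mono le_rfl hE2))⟩
  set W := ⁅V, E₁⁆ ⊔ ⁅V, E₂⁆ with hW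
  let T : Subgroup G :=
    { carrier := {g | g ∈ Subgroup.normalizer (W : Set G) ∧ ∀ v ∈ V, ⁅v, g⁆ ∈ W}
      one_mem' := ⟨one_mem _, fun v _ => by rw [commutatorElement_one_right]; exact one_mem _⟩
      mul_mem' := fun {g h} hg hh => ⟨mul_mem hg.1 hh.1, fun v hv => by
        rw [show ⁅v, g * h⁆ = ⁅v, g⁆ * (g * ⁅v, h⁆ * g⁻¹) by simp only [commutatorElement_def]; group]
        exact W.mul_mem (hg.2 v hv) (conj_mem hg.1 (hh.2 v hv))⟩
      inv_mem' := fun {g} hg => ⟨inv_mem hg.1, fun v hv => by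
        rw [show ⁅v, g⁻¹⁆ = g⁻¹ * ⁅v, g⁆⁻¹ * g⁻¹⁻¹ by simp only [commutatorElement_def]; group]
        exact conj_mem (inv_mem hg.1) (W.inv_mem (hg.2 v hv))⟩ }
  have hfix : ∀ {U F : Subgroup G}, ⁅U, F⁆ = ⊥ → F ≤ Subgroup.normalizer (U : Set G) := fun {U F} h =>
    le_normalizer_of_conj fun g hg v hv => by
      have := Subgroup.commutator_mem_commutator hv hg
      rw [h, Subgroup.mem_bot, commutatorElement_eq_one_iff_mul_comm] at this
      rw [← this, mul_inv_cancel_right]; exact hv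
  have hsup : ∀ {F U₁ U₂ : Subgroup G}, F ≤ Subgroup.normalizer (U₁ : Set G) → F ≤ Subgroup.normalizer (U₂ : Set G) →
      F ≤ Subgroup.normalizer ((U₁ ⊔ U₂ : Subgroup G) : Set G) := fun h1 h2 g hg => by
    rw [Subgroup.mem_normalizer_iff_map_conj_eq]
    show (_ ⊔ _ : Subgroup G).map _ = _
    rw [Subgroup.map_sup]
    exact congr_arg₂ (· ⊔ ·) (map_conj_eq (h1 hg)) (map_conj_eq (h2 hg))
  have hET : E ≤ T := by
    rw [hgen]
    refine sup_le (fun g hg => ⟨?_, fun v hv => Subgroup.mem_sup_left (Subgroup.commutator_mem_commutator hv hg)⟩)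
      (fun g hg => ⟨?_, fun v hv => Subgroup.mem_sup_right (Subgroup.commutator_mem_commutator hv hg)⟩)
    · exact hsup (le_normalizer_commutator (hE1.trans hEV)) (hfix h5) hg
    · exact hsup (hfix h4) (le_normalizer_commutator (hE2.trans hEV)) hg
  rw [Subgroup.commutator_le]
  exact fun v hv g hg => (hET hg).2 v hv

end Cfsg.Agent.S0615
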