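import Cfsg.Statements.S0619
import Cfsg.Agent.PLocal.OffenderQuotient

set_option autoImplicit false
open Cfsg

namespace Cfsg.Agent.S0619

/-- For a p-separable group and a normal elementary abelian p-subgroup V with no nontrivial normal p-subgroup modulo its centralizer C, the Thompson subgroup J(G) moves Ω₁(Z(J(C))) only inside V. -/
theorem result {G : Type*} [Group G] [Finite G] {p : ℕ} [Fact p.Prime] (hsep : Cfsg.IsPSolvable p G) (V : Subgroup G) [V.Normal] (hV : Cfsg.IsElementaryAbelian p V) (hO : Cfsg.pCore p (G ⧸ Subgroup.centralizer (V : Set G)) = ⊥) : ⁅Cfsg.omegaOne p (Cfsg.centerThompsonOf p (Subgroup.centralizer (V : Set G))), Cfsg.thompsonSubgroup p G⁆ ≤ V := by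
  have r := CfsgLib.PLocal.Offender.rep_amb V
  set φ := (SemidirectProduct.inr : _ →* CfsgLib.PLocal.Offender.Amb V).comp
    (QuotientGroup.mk' (Subgroup.centralizer (V : Set G)))
  have hs := r.setup hsep hV hO (Cfsg.thompsonSubgroup p G)
  set C := Subgroup.centralizer (V : Set G) with hC
  set W := Cfsg.omegaOne p (Cfsg.centerThompsonOf p C)
  set π := QuotientGroup.mk' V
  suffices h : (Cfsg.thompsonSubgroup p G).map π ≤ Subgroup.centralizer (W.map π : Set (G ⧸ V)) by
    rw [Subgroup.le_centralizer_iff, ← Subgroup.commutator_eq_bot_iff_le_centralizer,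
      ← Subgroup.map_commutator, Subgroup.map_eq_bot_iff, QuotientGroup.ker_mk'] at h
    exact h
  rw [Subgroup.map_le_iff_le_comap]
  refine sSup_le fun A hA => ?_
  rw [← Subgroup.map_le_iff_le_comap, Subgroup.le_centralizer_iff]
  -- the member of maximal order inside the centralizer
  set B := (A ⊓ C) ⊔ V
  have hAV : A ⊓ C ≤ Subgroup.centralizer (V : Set G) := inf_le_right
  have hBel : Cfsg.IsElementaryAbelian p B :=
    CfsgLib.PLocal.isElementaryAbelian_sup (CfsgLib.PLocal.isElementaryAbelian_of_le hA.1 inf_le_left) hV hAV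
  have hmaxmem : ∀ {D : Subgroup G}, D ∈ Cfsg.maxElementaryAbelianSubgroups p G → ∀ x : G,
      x ^ p = 1 → x ∈ Subgroup.centralizer (D : Set G) → x ∈ D := by
    intro D hD x hxp hxc
    have hsup := CfsgLib.PLocal.isElementaryAbelian_sup
      (CfsgLib.PLocal.isElementaryAbelian_zpowers hxp) hD.1 (Subgroup.zpowers_le.2 hxc)
    rw [Subgroup.eq_of_le_of_card_ge (le_sup_right : D ≤ _ ⊔ D) (hD.2 _ hsup)]
    exact Subgroup.mem_sup_left (Subgroup.mem_zpowers x)
  have hB : B ∈ Cfsg.maxElementaryAbelianSubgroups p G := by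
    refine ⟨hBel, fun D hD => (hA.2 D hD).trans ?_⟩
    have hw : Nat.card (A.map φ) * Nat.card ↥(V ⊓ Subgroup.centralizer (A : Set G)) = Nat.card V := by
      have h1 := hs.weight_eq _ rfl (Subgroup.map_mono (le_sSup hA))
        (r.isBestOffenderOn (Cfsg.Agent.S0606.result V hV A hA))
      rw [CfsgLib.PLocal.offenderWeight, r.card_inf_centralizer,
        ← Nat.card_congr (MonoidHom.ofInjective r.inj).toEquiv] at h1
      exact h1
    have hinf : (A ⊓ C) ⊓ V = V ⊓ Subgroup.centralizer (A : Set G) := by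
      refine le_antisymm (le_inf inf_le_right (inf_le_left.trans (inf_le_left.trans
        (Subgroup.le_centralizer_iff_isMulCommutative.2 hA.1.1)))) fun v hv => ⟨⟨?_, ?_⟩, hv.1⟩
      · exact hmaxmem hA v (hV.2 v hv.1) hv.2
      · exact Subgroup.le_centralizer_iff_isMulCommutative.2 hV.1 hv.1
    have h2 := CfsgLib.PLocal.card_sup_mul_card_inf (A := A ⊓ C) (B := V)
      (hAV.trans (Subgroup.centralizer_le_normalizer _))
    rw [hinf, ← hw, ← mul_assoc, mul_comm (Nat.card ↥(A ⊓ C)), r.card_map_mul] at h2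
    exact (Nat.eq_of_mul_eq_mul_right Nat.card_pos h2).ge
  have hBC : B ≤ C := sup_le inf_le_right (Subgroup.le_centralizer_iff_isMulCommutative.2 hV.1)
  have hBJ : B ≤ Cfsg.thompsonSubgroupOf p C :=
    CfsgLib.PLocal.le_thompsonSubgroupOf ⟨hBC, hB.1, fun D _ hD => hB.2 D hD⟩
  have hWB : W ≤ B := (Subgroup.closure_le _).2 fun x hx =>
    hmaxmem hB x hx.2 (Subgroup.centralizer_le hBJ hx.1.2)
  refine (Subgroup.map_mono hWB).trans ?_
  rw [Subgroup.map_sup, (Subgroup.map_eq_bot_iff V).2 (QuotientGroup.ker_mk' V).ge, sup_bot_eq]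
  refine (Subgroup.map_mono inf_le_left).trans ?_
  rw [Subgroup.le_centralizer_iff_isMulCommutative]
  exact CfsgLib.PLocal.isMulCommutative_map hA.1.1 π

end Cfsg.Agent.S0619
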