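import Cfsg.Statements.S0620
import Cfsg.Agent.PLocal.OffenderOperators

set_option autoImplicit false
open Cfsg

namespace Cfsg.Agent.S0620

/-- Under coprime action of an elementary abelian q-group X on a p-separable group K with trivial p'-core, K is generated by the normalizer of J(S), the centralizer of Ω₁(Z(S)) and the fixed points of X. -/
theorem result {G : Type*} [Group G] [Finite G] {p : ℕ} [Fact p.Prime] {q : ℕ} [Fact q.Prime] (K X : Subgroup G) (hXK : X ≤ Subgroup.normalizer (K : Set G)) (hX : Cfsg.IsElementaryAbelian q X) (hq : ¬ q ∣ Nat.card K) (hsep : Cfsg.IsPSolvable p ↥K) (hO : Cfsg.pPrimeCore p ↥K = ⊥) (S : Sylow p ↥K) : (Subgroup.normalizer (Cfsg.thompsonSubgroupOf p (S : Subgroup ↥K) : Set ↥K) ⊔ Subgroup.centralizer (Cfsg.omegaOne p ((S : Subgroup ↥K) ⊓ Subgroup.centralizer ((S : Subgroup ↥K) : Set ↥K)) : Set ↥K) ⊔ (Subgroup.centralizer (X : Set G)).subgroupOf K) = ⊤ := by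
  set ι : K →* Subgroup.normalizer (K : Set G) := Subgroup.inclusion Subgroup.le_normalizer
  have hι : Function.Injective ι := Subgroup.inclusion_injective _
  haveI : ι.range.Normal := by
    rw [show ι.range = K.subgroupOf (Subgroup.normalizer (K : Set G)) from Subgroup.inclusion_range _]
    infer_instance
  set X' := X.subgroupOf (Subgroup.normalizer (K : Set G))
  haveI : IsMulCommutative X := hX.1
  have hcard : Nat.card X' = Nat.card X := Nat.card_congr (Subgroup.subgroupOfEquivOfLe hXK).toEquiv
  have hcop : (Nat.card X').Coprime (Nat.card ↥K) := by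
    obtain ⟨n, hn⟩ := IsPGroup.iff_card.1 (CfsgLib.PLocal.isPGroup_of_isElementaryAbelian hX)
    rw [hcard, hn]
    exact (((Fact.out : q.Prime).coprime_iff_not_dvd.2 hq)).pow_left n
  have hsolv : Group.IsSolvable X' := by
    haveI := (((CfsgLib.PLocal.isPGroup_of_isElementaryAbelian hX).of_equiv
      (Subgroup.subgroupOfEquivOfLe hXK).symm)).isNilpotent
    infer_instance
  refine CfsgLib.PLocal.Offender.eq_top_of_fixed_le hι hsep hO hcop hsolv S ?_ ?_ ?_
  · exact le_sup_left.trans le_sup_left
  · exact le_sup_right.trans le_sup_left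
  · refine le_trans ?_ le_sup_right
    intro k hk x hx
    exact congrArg Subtype.val (hk ⟨x, hXK hx⟩ hx)

end Cfsg.Agent.S0620
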