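import Cfsg.Statements.S0621
import Cfsg.Agent.PLocal.OffenderOperators

set_option autoImplicit false
open Cfsg

namespace Cfsg.Agent.S0621

/-- Let K be p-separable with O_p'(K) = 1, normalized by an elementary abelian q-group X for a prime q not dividing the order of K. If the Thompson factorization fails in K, then p is 2 or 3 and the fixed points of X contain a plane W of order p² and a subgroup inducing SL(2, p) on it. -/
theorem result {G : Type*} [Group G] [Finite G] {p : ℕ} [Fact p.Prime] {q : ℕ} [Fact q.Prime] (K X : Subgroup G) (hXK : X ≤ Subgroup.normalizer (K : Set G)) (hX : Cfsg.IsElementaryAbelian q X) (hq : ¬ q ∣ Nat.card K) (hsep : Cfsg.IsPSolvable p ↥K) (hO : Cfsg.pPrimeCore p ↥K = ⊥) (hnf : ¬ Cfsg.IsThompsonFactorizable p ↥K) : (p = 2 ∨ p = 3) ∧ ∃ W D : Subgroup G, W ≤ K ⊓ Subgroup.centralizer (X : Set G) ∧ D ≤ K ⊓ Subgroup.centralizer (X : Set G) ∧ Cfsg.IsElementaryAbelian p W ∧ Nat.card W = p ^ 2 ∧ D ≤ Subgroup.normalizer (W : Set G) ∧ ∃ hn : ((Subgroup.centralizer (W : Set G)).subgroupOf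 D).Normal, Nonempty ((↥D ⧸ (Subgroup.centralizer (W : Set G)).subgroupOf D) ≃* Matrix.SpecialLinearGroup (Fin 2) (ZMod p)) := by
  set N := Subgroup.normalizer (K : Set G) with hNdef
  set ι : K →* N := Subgroup.inclusion Subgroup.le_normalizer
  have hι : Function.Injective ι := Subgroup.inclusion_injective _
  haveI : ι.range.Normal := by
    rw [show ι.range = K.subgroupOf (Subgroup.normalizer (K : Set G)) from Subgroup.inclusion_range _]
    infer_instance
  set X' := X.subgroupOf (Subgroup.normalizer (K : Set G))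
  have hcard : Nat.card X' = Nat.card X := Nat.card_congr (Subgroup.subgroupOfEquivOfLe hXK).toEquiv
  have hcop : (Nat.card X').Coprime (Nat.card ↥K) := by
    obtain ⟨n, hn⟩ := IsPGroup.iff_card.1 (CfsgLib.PLocal.isPGroup_of_isElementaryAbelian hX)
    rw [hcard, hn]
    exact (((Fact.out : q.Prime).coprime_iff_not_dvd.2 hq)).pow_left n
  have hsolv : Group.IsSolvable X' := by
    haveI := (((CfsgLib.PLocal.isPGroup_of_isElementaryAbelian hX).of_equiv
      (Subgroup.subgroupOfEquivOfLe hXK).symm)).isNilpotent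
    infer_instance
  obtain ⟨hp, W, D, hW, hD, hWel, hWc, hDW, f, hf, hker⟩ :=
    CfsgLib.PLocal.Offender.exists_fixed_sl2 hι hsep hO hcop hsolv hnf
  have hle : ∀ {U : Subgroup N}, U ≤ ι.range ⊓ Subgroup.centralizer (X' : Set N) →
      U.map N.subtype ≤ K ⊓ Subgroup.centralizer (X : Set G) := by
    intro U hU
    rintro _ ⟨u, hu, rfl⟩
    obtain ⟨⟨k, hk⟩, hc⟩ := hU hu
    refine ⟨?_, fun x hx => congrArg Subtype.val (hc ⟨x, hXK hx⟩ (show (⟨x, hXK hx⟩ : N) ∈ X' from hx))⟩
    rw [← hk]
    exact k.2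
  have hDWG : D.map N.subtype ≤ Subgroup.normalizer (W.map N.subtype : Set G) :=
    (Subgroup.map_mono hDW).trans (Subgroup.le_normalizer_map N.subtype)
  set e := D.equivMapOfInjective N.subtype N.subtype_injective
  set g := f.comp e.symm.toMonoidHom
  have hg : g.ker = (Subgroup.centralizer (W.map N.subtype : Set G)).subgroupOf (D.map N.subtype) := by
    ext d
    obtain ⟨d, rfl⟩ := e.surjective d
    rw [MonoidHom.mem_ker, MonoidHom.comp_apply, MulEquiv.coe_toMonoidHom, MulEquiv.symm_apply_apply,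
      ← MonoidHom.mem_ker, hker, Subgroup.mem_subgroupOf, Subgroup.mem_subgroupOf]
    constructor
    · rintro h _ ⟨w, hw, rfl⟩
      exact congrArg Subtype.val (h w hw)
    · exact fun h w hw => Subtype.ext (h _ (Subgroup.mem_map_of_mem N.subtype hw))
  have hn : ((Subgroup.centralizer (W.map N.subtype : Set G)).subgroupOf (D.map N.subtype)).Normal :=
    hg ▸ g.normal_ker
  refine ⟨hp, W.map N.subtype, D.map N.subtype, hle hW, hle hD,
    CfsgLib.PLocal.isElementaryAbelian_map hWel _,
    (Subgroup.card_map_of_injective N.subtype_injective).trans hWc, hDWG, hn, ?_⟩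
  exact ⟨(QuotientGroup.quotientMulEquivOfEq hg.symm).trans
    (QuotientGroup.quotientKerEquivOfSurjective g (hf.comp e.symm.surjective))⟩

end Cfsg.Agent.S0621
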