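import Cfsg.Statements.S0629

import Cfsg.Agent.PLocal.Constraint

set_option autoImplicit false
open Cfsg Subgroup CfsgLib.PLocal
open scoped commutatorElement

namespace Cfsg.Agent.S0629

/-- A group in which the centralizer of a Sylow p-subgroup of O_{p',p}(G) is p-solvable is p-constrained. -/
theorem result {G : Type*} [Group G] [Finite G] {p : ℕ} [Fact p.Prime] (P : Sylow p ↥(Cfsg.pPrimePCore p G)) (hsol : Cfsg.IsPSolvable p ↥(Subgroup.centralizer (((P : Subgroup ↥(Cfsg.pPrimePCore p G)).map (Cfsg.pPrimePCore p G).subtype : Subgroup G) : Set G))) : Cfsg.IsPConstrained p G := by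
  rw [isPConstrained_iff]
  let π := QuotientGroup.mk' (Cfsg.pPrimeCore p G)
  set Pb := (P : Subgroup ↥(Cfsg.pPrimePCore p G)).map (Cfsg.pPrimePCore p G).subtype with hPb
  have hPmap : Pb.map π = Cfsg.pCore p (G ⧸ Cfsg.pPrimeCore p G) := map_sylow_pPrimePCore P
  have hC : (Subgroup.centralizer (Pb : Set G)).map π =
      Subgroup.centralizer (Cfsg.pCore p (G ⧸ Cfsg.pPrimeCore p G) : Set (G ⧸ Cfsg.pPrimeCore p G)) := by
    rw [← hPmap, centralizer_map_mk'_eq _ (coprime_card_pPrimeCore p G) (P.isPGroup'.map _)]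
  refine centralizer_pCore_le_of_isPSolvable ?_ (pPrimeCore_quotient_pPrimeCore_eq_bot p G)
  rw [← hC]
  exact isPSolvable_of_surjective hsol
    (f := π.subgroupMap (Subgroup.centralizer (Pb : Set G))) (π.subgroupMap_surjective _)

end Cfsg.Agent.S0629
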