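import Cfsg.Statements.S0631

import Cfsg.Agent.PLocal.LocalConstraint

set_option autoImplicit false
open Cfsg Subgroup CfsgLib.PLocal
open scoped commutatorElement

namespace Cfsg.Agent.S0631

theorem aux {G : Type*} [Group G] [Finite G] {p : ℕ} [Fact p.Prime] (hG : Cfsg.IsPConstrained p G)
    (P L : Subgroup G) (hP : IsPGroup p P) (L' : Subgroup (G ⧸ Cfsg.pPrimeCore p G))
    (hL' : L.map (QuotientGroup.mk' (Cfsg.pPrimeCore p G)) = L')
    (hLN : L' ≤ Subgroup.normalizer ((P.map (QuotientGroup.mk' (Cfsg.pPrimeCore p G)) :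
      Subgroup (G ⧸ Cfsg.pPrimeCore p G)) : Set (G ⧸ Cfsg.pPrimeCore p G)))
    (hCL : Subgroup.centralizer ((P.map (QuotientGroup.mk' (Cfsg.pPrimeCore p G)) :
      Subgroup (G ⧸ Cfsg.pPrimeCore p G)) : Set (G ⧸ Cfsg.pPrimeCore p G)) ≤ L')
    (hPL : P.map (QuotientGroup.mk' (Cfsg.pPrimeCore p G)) ≤ L' ∨
      L' ≤ Subgroup.centralizer ((P.map (QuotientGroup.mk' (Cfsg.pPrimeCore p G)) :
      Subgroup (G ⧸ Cfsg.pPrimeCore p G)) : Set (G ⧸ Cfsg.pPrimeCore p G))) :
    Cfsg.IsPConstrained p L := by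
  subst hL'
  have h := centralizer_pCore_le_local (isPConstrained_iff.mp hG) (hP.map _) hLN hCL hPL
  refine (isPConstrained_iff_of_surjective ((QuotientGroup.mk' (Cfsg.pPrimeCore p G)).subgroupMap_surjective L)
    ?_).mpr ((isPConstrained_iff_of_pPrimeCore_eq_bot (pPrimeCore_eq_bot_of_centralizer_le h)).mpr h)
  rw [Nat.card_congr (equivMapOfInjective _ _ L.subtype_injective).toEquiv]
  refine coprime_card_of_le ?_ (coprime_card_pPrimeCore p G)
  rintro _ ⟨x, hx, rfl⟩
  exact (QuotientGroup.eq_one_iff (x : G)).mp (congrArg Subtype.val hx)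

/-- In a p-constrained group the normalizer and the centralizer of any p-subgroup are again p-constrained. -/
theorem result {G : Type*} [Group G] [Finite G] {p : ℕ} [Fact p.Prime] (hG : Cfsg.IsPConstrained p G) (P : Subgroup G) (hP : IsPGroup p P) : Cfsg.IsPConstrained p ↥(Subgroup.normalizer (P : Set G)) ∧ Cfsg.IsPConstrained p ↥(Subgroup.centralizer (P : Set G)) := by
  exact ⟨aux hG P _ hP _ (normalizer_map_mk'_eq _ (coprime_card_pPrimeCore p G) hP).symm le_rfl
      (centralizer_le_normalizer _) (Or.inl le_normalizer),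
    aux hG P _ hP _ (centralizer_map_mk'_eq _ (coprime_card_pPrimeCore p G) hP).symm
      (centralizer_le_normalizer _) le_rfl (Or.inr le_rfl)⟩

end Cfsg.Agent.S0631
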