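import Cfsg.Statements.S0632
import Cfsg.Agent.PLocal.ZJTheorem
-- import your own Cfsg.Agent.* helpers here

set_option autoImplicit false
open Cfsg

namespace Cfsg.Agent.S0632

open Subgroup CfsgLib.PLocal
open scoped commutatorElement

variable {G : Type*} [Group G] [Finite G] {p : ℕ} [Fact p.Prime]

/-- The conclusion of `p`-stability for one pair is unchanged modulo a normal `p'`-subgroup. -/
theorem iff_quotient (O : Subgroup G) [O.Normal] (hcop : (Nat.card O).Coprime p) {A P : Subgroup G}
    (hP : IsPGroup p P) (hA : A ≤ normalizer (P : Set G)) :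
    ((A.subgroupOf (normalizer (P : Set G))).map
          (QuotientGroup.mk' ((centralizer (P : Set G)).subgroupOf (normalizer (P : Set G)))) ≤ pCore p _) ↔
    (((A.map (QuotientGroup.mk' O)).subgroupOf (normalizer ((P.map (QuotientGroup.mk' O) : Subgroup (G ⧸ O)) : Set (G ⧸ O)))).map
          (QuotientGroup.mk' ((centralizer ((P.map (QuotientGroup.mk' O) : Subgroup (G ⧸ O)) : Set (G ⧸ O))).subgroupOf
            (normalizer ((P.map (QuotientGroup.mk' O) : Subgroup (G ⧸ O)) : Set (G ⧸ O))))) ≤ pCore p _) := by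
  set π := QuotientGroup.mk' O with hπ
  set Pb := P.map π with hPb
  have hN : normalizer (Pb : Set (G ⧸ O)) = (normalizer (P : Set G)).map π :=
    normalizer_map_mk'_eq O hcop hP
  let g : ↥(normalizer (P : Set G)) →* ↥(normalizer (Pb : Set (G ⧸ O))) :=
    (π.comp (normalizer (P : Set G)).subtype).codRestrict _ fun n => by
      rw [hN]; exact mem_map_of_mem _ n.2
  have hg : Function.Surjective g := by
    rintro ⟨y, hy⟩
    rw [hN] at hy
    obtain ⟨n, hn, rfl⟩ := hy
    exact ⟨⟨n, hn⟩, rfl⟩
  let f := (QuotientGroup.mk' ((centralizer (Pb : Set (G ⧸ O))).subgroupOf (normalizer (Pb : Set (G ⧸ O))))).comp g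
  have hker : (centralizer (P : Set G)).subgroupOf (normalizer (P : Set G)) = f.ker := by
    ext n
    rw [MonoidHom.mem_ker, MonoidHom.comp_apply, QuotientGroup.mk'_apply, QuotientGroup.eq_one_iff,
      mem_subgroupOf, mem_subgroupOf, mem_centralizer_iff, mem_centralizer_iff]
    constructor
    · rintro h _ ⟨x, hx, rfl⟩
      show π x * π (n : G) = π (n : G) * π x
      rw [← map_mul, ← map_mul, h x hx]
    · intro h x hx
      have h1 : π x * π (n : G) = π (n : G) * π x := h (π x) (mem_map_of_mem π hx)
      have h2 : ⁅(n : G), x⁆ ∈ P ⊓ O := by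
        refine ⟨?_, ?_⟩
        · rw [commutatorElement_def]
          exact P.mul_mem ((mem_normalizer_iff.mp n.2 x).mp hx) (P.inv_mem hx)
        · show ⁅(n : G), x⁆ ∈ O
          rw [← QuotientGroup.ker_mk' O, MonoidHom.mem_ker, map_commutatorElement,
            commutatorElement_eq_one_iff_mul_comm]
          exact h1.symm
      rw [disjoint_of_isPGroup_of_coprime hP hcop, mem_bot,
        commutatorElement_eq_one_iff_mul_comm] at h2
      exact h2.symm
  have hf : Function.Surjective f := (QuotientGroup.mk'_surjective _).comp hg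
  let e := (QuotientGroup.quotientMulEquivOfEq hker).trans (QuotientGroup.quotientKerEquivOfSurjective f hf)
  have hc := map_pCore_equiv (p := p) e
  have hAmap : ((A.subgroupOf (normalizer (P : Set G))).map
      (QuotientGroup.mk' ((centralizer (P : Set G)).subgroupOf (normalizer (P : Set G))))).map e.toMonoidHom =
      ((A.map π).subgroupOf (normalizer (Pb : Set (G ⧸ O)))).map
          (QuotientGroup.mk' ((centralizer (Pb : Set (G ⧸ O))).subgroupOf (normalizer (Pb : Set (G ⧸ O))))) := by
    rw [Subgroup.map_map]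
    have he : e.toMonoidHom.comp (QuotientGroup.mk' ((centralizer (P : Set G)).subgroupOf (normalizer (P : Set G)))) = f := rfl
    rw [he, ← Subgroup.map_map]
    congr 1
    ext y
    constructor
    · rintro ⟨a, ha, rfl⟩
      exact ⟨a, ha, rfl⟩
    · rintro ⟨a, ha, h⟩
      exact ⟨⟨a, hA ha⟩, ha, Subtype.ext h⟩
  rw [← hAmap, ← hc]
  exact (Subgroup.map_le_map_iff_of_injective e.injective).symm

/-- For a group with a nontrivial normal p-subgroup, p-stability passes to and from the quotient by the largest normal subgroup of order prime to p. -/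
theorem result {G : Type*} [Group G] [Finite G] {p : ℕ} [Fact p.Prime] (hO : Cfsg.pCore p G ≠ ⊥) : Cfsg.IsPStable p G ↔ Cfsg.IsPStable p (G ⧸ Cfsg.pPrimeCore p G) := by
  set O := Cfsg.pPrimeCore p G with hOdef
  set π := QuotientGroup.mk' O with hπ
  have hcop := coprime_card_pPrimeCore p G
  have hbot : Cfsg.pPrimeCore p (G ⧸ O) = ⊥ := pPrimeCore_quotient_pPrimeCore_eq_bot p G
  have hπs : Function.Surjective π := QuotientGroup.mk'_surjective O
  constructor
  · rintro ⟨hodd, -, h⟩
    refine ⟨hodd, ?_, ?_⟩
    · intro h0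
      apply hO
      have : (Cfsg.pCore p G).map π ≤ ⊥ := h0 ▸ map_pCore_le_of_surjective hπs
      rw [le_bot_iff, Subgroup.map_eq_bot_iff, QuotientGroup.ker_mk'] at this
      exact le_bot_iff.1 ((le_inf le_rfl this).trans (pCore_inf_pPrimeCore p G).le)
    intro Ab Pb hAb hPb hAP hPle hn hc
    rw [hbot, bot_sup_eq] at hn
    haveI := hn
    have hK := (inferInstance : (Pb.comap π).Normal)
    let S : Sylow p G := default
    have hOK : O ≤ Pb.comap π := fun x hx => by
      rw [mem_comap, hπ, QuotientGroup.mk'_apply, (QuotientGroup.eq_one_iff x).mpr hx]; exact one_mem _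
    obtain ⟨k, hk⟩ : ∃ k, O.relIndex (Pb.comap π) = p ^ k := by
      have h := relIndex_ker (K := Pb.comap π) π
      rw [hπ, QuotientGroup.ker_mk', ← hπ, map_comap_eq_self_of_surjective hπs] at h
      obtain ⟨k, hk⟩ := IsPGroup.iff_card.mp hPb
      exact ⟨k, h.trans hk⟩
    have hQp : IsPGroup p ↥(Pb.comap π ⊓ (S : Subgroup G)) := S.isPGroup'.to_le inf_le_right
    have hKQ : O ⊔ (Pb.comap π ⊓ (S : Subgroup G)) = Pb.comap π := le_antisymm (sup_le hOK inf_le_left)
      (sup_comm (Pb.comap π ⊓ (S : Subgroup G)) O ▸ le_inf_sylow_sup S hOK hk)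
    set Q := Pb.comap π ⊓ (S : Subgroup G) with hQ
    have hQV : Q.map π = Pb := by
      have := congrArg (Subgroup.map π) hKQ
      rw [Subgroup.map_sup, hπ, QuotientGroup.map_mk'_self, bot_sup_eq, ← hπ,
        map_comap_eq_self_of_surjective hπs] at this
      exact this
    -- a `p`-subgroup of the normalizer of `Q` covering `Ab`
    let M := Ab.comap (π.comp (normalizer (Q : Set G)).subtype)
    obtain ⟨T⟩ : Nonempty (Sylow p ↥M) := inferInstance
    let A := ((T : Subgroup ↥M).map M.subtype).map (normalizer (Q : Set G)).subtype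
    have hAp : IsPGroup p ↥A := (T.isPGroup'.map _).map _
    have hAN : A ≤ normalizer (Q : Set G) := map_subtype_le _
    have hAmap : A.map π = Ab := by
      let q : ↥M →* ↥Ab := ((π.comp (normalizer (Q : Set G)).subtype).comp M.subtype).codRestrict Ab fun m => m.2
      have hq : Function.Surjective q := by
        rintro ⟨y, hy⟩
        have : y ∈ (normalizer (Q : Set G)).map π := by
          rw [hπ, ← normalizer_map_mk'_eq O hcop hQp, ← hπ, hQV, normalizer_eq_top]; exact mem_top y
        obtain ⟨w, hw, rfl⟩ := this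
        exact ⟨⟨⟨w, hw⟩, hy⟩, rfl⟩
      have hT : ((T : Subgroup ↥M).map q) = ⊤ := by
        have h1 := IsPGroup.iff_card.mp hAb
        have := Sylow.coe_mapSurjective hq T
        rw [← this]
        exact ((Sylow.mapSurjective hq T).is_maximal' (hAb.to_subgroup ⊤) le_top).symm
      have := congrArg (Subgroup.map Ab.subtype) hT
      rw [Subgroup.map_map, ← MonoidHom.range_eq_map, Subgroup.range_subtype] at this
      rw [← this]
      show ((((T : Subgroup ↥M).map M.subtype).map (normalizer (Q : Set G)).subtype).map π) = _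
      rw [Subgroup.map_map, Subgroup.map_map]
      rfl
    have key := h A Q hAp hQp (fun a ha x hx => (mem_normalizer_iff.mp (hAN ha) x).mp hx)
      (inf_le_left.trans (comap_mono (hPle.trans (pPrimePCore_eq_pCore hbot).le)))
      (by rw [← hOdef, hKQ]; exact hK) (by
        rw [eq_bot_iff, ← disjoint_of_isPGroup_of_coprime hQp hcop]
        refine le_inf ?_ ?_
        · exact (commutator_mono (commutator_le_of_le_normalizer hAN) le_rfl).trans
            (commutator_le_of_le_normalizer hAN)
        · rw [← hOdef, ← QuotientGroup.ker_mk' O, ← Subgroup.map_eq_bot_iff, ← hπ, map_commutator,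
            map_commutator, hQV, hAmap, hc])
    have := (iff_quotient O hcop hQp hAN).1 key
    rwa [← hπ, hQV, hAmap] at this
  · rintro ⟨hodd, -, h⟩
    refine ⟨hodd, hO, ?_⟩
    intro A P hA hP hAP hPle hn hc
    have hAN : A ≤ normalizer (P : Set G) := fun a ha => mem_normalizer_iff.mpr fun x =>
      ⟨hAP a ha x, fun hx => by simpa [mul_assoc] using hAP a⁻¹ (inv_mem ha) _ hx⟩
    refine (iff_quotient O hcop hP hAN).2 (h (A.map π) (P.map π) (hA.map π) (hP.map π) ?_ ?_ ?_ ?_)
    · rintro _ ⟨a, ha, rfl⟩ _ ⟨x, hx, rfl⟩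
      rw [← map_inv, ← map_mul, ← map_mul]
      exact mem_map_of_mem π (hAP a ha x hx)
    · rw [pPrimePCore_eq_pCore hbot]
      rintro _ ⟨x, hx, rfl⟩
      exact hPle hx
    · rw [hbot, bot_sup_eq]
      have := hn.map π hπs
      rwa [Subgroup.map_sup, hπ, ← hOdef, QuotientGroup.map_mk'_self, bot_sup_eq] at this
    · rw [← map_commutator, ← map_commutator, hc, Subgroup.map_bot]

end Cfsg.Agent.S0632
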