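import Cfsg.Statements.S0633

import Cfsg.Agent.HallHigman.TheoremBLinear

set_option autoImplicit false
open Cfsg

namespace Cfsg.Agent.S0633


/-- Theorem B of Hall and Higman on the minimal polynomial of a p-element of order p^n in a p-solvable linear group on a nonzero vector space in characteristic p with no nontrivial normal p-subgroup: its degree is p^n, except when some p^n₀ - 1 (n₀ ≤ n) is a power of a prime q for which the Sylow q-subgroups are non-abelian, in which case the degree is at least p^(n-n₀)(p^n₀ - 1). -/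
theorem result {F : Type*} [Field F] {p : ℕ} [Fact p.Prime] [CharP F p] {V : Type*} [AddCommGroup V] [Module F V] [FiniteDimensional F V] [Nontrivial V] (H : Subgroup (V ≃ₗ[F] V)) [Finite H] (hsol : Cfsg.IsPSolvable p H) (hOp : Cfsg.pCore p H = ⊥) (x : V ≃ₗ[F] V) (hx : x ∈ H) (n : ℕ) (hn : orderOf x = p ^ n) (r : ℕ) (hr : minpoly F (x : Module.End F V) = (Polynomial.X - 1) ^ r) : r = p ^ n ∨ ∃ n₀ q m : ℕ, 1 ≤ n₀ ∧ n₀ ≤ n ∧ q.Prime ∧ 1 ≤ m ∧ p ^ n₀ - 1 = q ^ m ∧ (∀ Q : Sylow q H, ¬ IsMulCommutative Q) ∧ p ^ (n - n₀) * (p ^ n₀ - 1) ≤ r := by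
  let ρ : H →* Module.End F V :=
    { toFun := fun h => ((h : V ≃ₗ[F] V) : Module.End F V)
      map_one' := rfl
      map_mul' := fun a b => rfl }
  have hρ : Function.Injective ρ := fun a b h =>
    Subtype.ext (LinearEquiv.toLinearMap_injective h)
  have hordH : orderOf (⟨x, hx⟩ : H) = p ^ n := by rw [← hn, Subgroup.orderOf_mk]
  have hr0 : (ρ ⟨x, hx⟩ - 1) ^ r = 0 := by
    have h := minpoly.aeval F (x : Module.End F V)
    rw [hr] at h
    simp at h
    exact h
  have hrle : r ≤ p ^ n := by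
    haveI : CharP (Module.End F V) p :=
      charP_of_injective_algebraMap (FaithfulSMul.algebraMap_injective F _) p
    have h1 : (ρ ⟨x, hx⟩ - 1) ^ p ^ n = 0 := by
      rw [sub_pow_char_pow_of_commute p n (Commute.one_right _), one_pow, ← map_pow, ← hordH,
        pow_orderOf_eq_one, map_one, sub_self]
    have h2 : minpoly F (x : Module.End F V) ∣ (Polynomial.X - 1) ^ p ^ n := by
      refine minpoly.dvd F _ ?_
      rw [map_pow, map_sub, Polynomial.aeval_X, map_one]
      exact h1
    have h3 := Polynomial.natDegree_le_of_dvd h2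
      (pow_ne_zero _ (by rw [← Polynomial.C_1]; exact Polynomial.X_sub_C_ne_zero (1 : F)))
    have hd : (Polynomial.X - 1 : Polynomial F).natDegree = 1 := by
      rw [← Polynomial.C_1]; exact Polynomial.natDegree_X_sub_C 1
    rwa [hr, Polynomial.natDegree_pow, Polynomial.natDegree_pow, hd, mul_one, mul_one] at h3
  rcases CfsgLib.HallHigman.degree_bound ρ hρ hsol hOp ⟨x, hx⟩ hordH r hr0 with h |
    ⟨n₀, q, e, h1, h2, h3, h4, h5, h6, h7⟩
  · exact Or.inl (le_antisymm hrle h)
  · exact Or.inr ⟨n₀, q, e, h1, h2, h3, h4, h5, fun Q => h6 Q, h7⟩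

end Cfsg.Agent.S0633
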