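import Cfsg.Statements.S0635
import Cfsg.Agent.PLength.Basic
import Cfsg.Agent.PLocal.PSolvable
-- import your own Cfsg.Agent.* helpers here

set_option autoImplicit false
open Cfsg

namespace Cfsg.Agent.S0635

open Subgroup CfsgLib.PLocal

theorem of_class_le {p : ℕ} [hp : Fact p.Prime] : ∀ (c : ℕ) (G : Type*) [Group G] [Finite G],
    Cfsg.IsPSolvable p G → ∀ S : Sylow p G, Group.nilpotencyClass ↥(S : Subgroup G) ≤ c →
      Cfsg.PLengthLE p c G := by
  intro c
  induction c with
  | zero =>
    intro G _ _ _ S hS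
    haveI := S.isPGroup'.isNilpotent
    haveI : Subsingleton ↥(S : Subgroup G) :=
      Group.nilpotencyClass_zero_iff_subsingleton.1 (Nat.le_zero.1 hS)
    rw [CfsgLib.PLength.pLengthLE_zero_iff, Nat.coprime_comm, hp.out.coprime_iff_not_dvd]
    intro hd
    have h1 := S.card_eq_multiplicity
    rw [Nat.card_unique] at h1
    exact absurd (hp.out.factorization_pos_of_dvd Nat.card_pos.ne' hd)
      (by rcases Nat.pow_eq_one.1 h1.symm with h | h
          · exact absurd h hp.out.ne_one
          · omega)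
  | succ c ih =>
    intro G _ _ hG S hS
    have h1 : Cfsg.PLengthLE p 0 ↥(Cfsg.pPrimeCore p G) :=
      CfsgLib.PLength.pLengthLE_zero_iff.2 (coprime_card_pPrimeCore p G)
    rw [show c + 1 = 0 + (c + 1) by omega]
    refine CfsgLib.PLength.pLengthLE_extension (Cfsg.pPrimeCore p G) h1 ?_
    have hGb := isPSolvable_quotient hG (Cfsg.pPrimeCore p G)
    have hbot := pPrimeCore_quotient_pPrimeCore_eq_bot p G
    have hπ := QuotientGroup.mk'_surjective (Cfsg.pPrimeCore p G)
    have hC := centralizer_pCore_le hGb hbot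
    have h2 : Cfsg.PLengthLE p 1 ↥(Cfsg.pCore p (G ⧸ Cfsg.pPrimeCore p G)) :=
      CfsgLib.PLength.pLengthLE_one_of_isPGroup (isPGroup_pCore p _)
    rw [show c + 1 = 1 + c by omega]
    refine CfsgLib.PLength.pLengthLE_extension _ h2 ?_
    have hψ := QuotientGroup.mk'_surjective (Cfsg.pCore p (G ⧸ Cfsg.pPrimeCore p G))
    let T := (S.mapSurjective hπ).mapSurjective hψ
    refine ih _ (isPSolvable_quotient hGb _) T ?_
    set Sb : Subgroup (G ⧸ Cfsg.pPrimeCore p G) := ↑(S.mapSurjective hπ) with hSb
    haveI := S.isPGroup'.isNilpotent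
    haveI := (S.mapSurjective hπ).isPGroup'.isNilpotent
    have hSbc : Group.nilpotencyClass ↥Sb ≤ c + 1 :=
      le_trans (Group.nilpotencyClass_le_of_surjective
        (((QuotientGroup.mk' (Cfsg.pPrimeCore p G)).subgroupMap (S : Subgroup G)))
        ((QuotientGroup.mk' (Cfsg.pPrimeCore p G)).subgroupMap_surjective _)) hS
    let f := (QuotientGroup.mk' (Cfsg.pCore p (G ⧸ Cfsg.pPrimeCore p G))).subgroupMap Sb
    have hker : center ↥Sb ≤ f.ker := by
      intro z hz
      rw [MonoidHom.mem_ker, Subtype.ext_iff]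
      show QuotientGroup.mk' _ (z : G ⧸ Cfsg.pPrimeCore p G) = 1
      rw [QuotientGroup.mk'_apply, QuotientGroup.eq_one_iff]
      refine hC (mem_centralizer_iff.2 fun x hx => ?_)
      exact congrArg Subtype.val (mem_center_iff.1 hz ⟨x, pCore_le_sylow (S.mapSurjective hπ) hx⟩)
    have hls : Function.Surjective (QuotientGroup.lift (center ↥Sb) f hker) := fun y =>
      let ⟨x, hx⟩ := (QuotientGroup.mk' _).subgroupMap_surjective Sb y
      ⟨QuotientGroup.mk x, hx⟩
    refine le_trans (Group.nilpotencyClass_le_of_surjective _ hls) ?_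
    rw [Group.nilpotencyClass_quotient_center]
    omega

/-- The p-length of a p-soluble group is at most the nilpotency class of its Sylow p-subgroups. -/
theorem result {G : Type*} [Group G] [Finite G] {p : ℕ} [Fact p.Prime] (hsol : Cfsg.IsPSolvable p G) (S : Sylow p G) : Cfsg.PLengthLE p (Group.nilpotencyClass ↥(S : Subgroup G)) G := by
  exact of_class_le _ G hsol S le_rfl

end Cfsg.Agent.S0635
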