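import Cfsg.Agent.OddOrder.BG4.Metacyclic
import Cfsg.Statements.S0638
-- import your own Cfsg.Agent.* helpers here

set_option autoImplicit false
open Cfsg

namespace Cfsg.Agent.S0638

/-- For odd p, in a non-cyclic metacyclic p-group the elements of order dividing p generate an elementary abelian subgroup of order p². -/
theorem result {R : Type*} [Group R] [Finite R] {p : ℕ} [Fact p.Prime] (hp : p ≠ 2) (hR : IsPGroup p R) (hm : Cfsg.IsMetacyclic R) (hnc : ¬ IsCyclic R) : Cfsg.IsElementaryAbelian p (Cfsg.omegaOne p (⊤ : Subgroup R)) ∧ Nat.card ↥(Cfsg.omegaOne p (⊤ : Subgroup R)) = p ^ 2 := by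
  obtain ⟨hcl, -, hcard⟩ := CfsgLib.OddOrder.BG4.card_pow_eq_one_of_isMetacyclic hp hR hm
  let W : Subgroup R :=
    { carrier := {x | x ^ p = 1}
      one_mem' := one_pow p
      mul_mem' := fun {a b} ha hb => (hcl a b ha hb).1
      inv_mem' := fun {a} (ha : a ^ p = 1) => show a⁻¹ ^ p = 1 by simp [ha] }
  have hW : Cfsg.omegaOne p (⊤ : Subgroup R) = W :=
    le_antisymm ((Subgroup.closure_le _).mpr fun x hx => hx.2)
      fun x hx => Subgroup.subset_closure ⟨Subgroup.mem_top x, hx⟩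
  rw [hW]
  exact ⟨⟨⟨⟨fun a b => Subtype.ext (hcl a.1 b.1 a.2 b.2).2.eq⟩⟩, fun a ha => ha⟩, hcard hnc⟩

end Cfsg.Agent.S0638
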