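import Cfsg.Statements.S0641
import Mathlib
import Cfsg.Agent.RegularPGroups.Basic

set_option autoImplicit false
open Cfsg
open scoped commutatorElement

namespace Cfsg.Agent.S0641

/-- Regularity of a p-group passes to quotient groups. -/
theorem result {G : Type*} [Group G] {p : ℕ} [Fact p.Prime] (hG : Cfsg.IsRegularPGroup p G) (N : Subgroup G) [N.Normal] : Cfsg.IsRegularPGroup p (G ⧸ N) := by
  refine ⟨hG.1.to_quotient N, fun a b n => ?_⟩
  induction a using QuotientGroup.induction_on with | H a => ?_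
  induction b using QuotientGroup.induction_on with | H b => ?_
  obtain ⟨c, hc, e⟩ := hG.2 a b n
  refine ⟨(c : G ⧸ N), ?_, by
    rw [← QuotientGroup.mk_mul, ← QuotientGroup.mk_pow, e]; simp⟩
  have hD : (⁅Subgroup.closure ({a, b} : Set G), Subgroup.closure ({a, b} : Set G)⁆).map (QuotientGroup.mk' N)
      = ⁅Subgroup.closure ({(a : G ⧸ N), (b : G ⧸ N)} : Set (G ⧸ N)),
          Subgroup.closure ({(a : G ⧸ N), (b : G ⧸ N)} : Set (G ⧸ N))⁆ := by
    rw [Subgroup.map_commutator, MonoidHom.map_closure, Set.image_pair]; rfl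
  rw [← hD]
  have h1 : (Cfsg.powerClosure p n ⁅Subgroup.closure ({a, b} : Set G), Subgroup.closure ({a, b} : Set G)⁆).map
      (QuotientGroup.mk' N) ≤ Cfsg.powerClosure p n
        ((⁅Subgroup.closure ({a, b} : Set G), Subgroup.closure ({a, b} : Set G)⁆).map (QuotientGroup.mk' N)) := by
    rw [Cfsg.powerClosure, MonoidHom.map_closure, Subgroup.closure_le]
    rintro _ ⟨y, ⟨x, hx, rfl⟩, rfl⟩
    exact Subgroup.subset_closure ⟨_, Subgroup.mem_map_of_mem _ hx, map_pow _ _ _⟩
  exact h1 (Subgroup.mem_map_of_mem _ hc)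

end Cfsg.Agent.S0641
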