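import Cfsg.Statements.S0642
import Cfsg.Agent.RegularPGroups.Basic
-- import your own Cfsg.Agent.* helpers here

set_option autoImplicit false
open Cfsg

namespace Cfsg.Agent.S0642

open scoped commutatorElement
open CfsgLib.RegularPGroups (pw der conj_mem_pw left_mem_gen right_mem_gen der_le commutatorElement_mem_der)

/-- Among finite 2-groups the regular ones are exactly the abelian ones. -/
theorem result {G : Type*} [Group G] [Finite G] (hG : IsPGroup 2 G) : Cfsg.IsRegularPGroup 2 G ↔ ∀ a b : G, a * b = b * a := by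
  haveI : Fact (Nat.Prime 2) := ⟨Nat.prime_two⟩
  constructor
  · intro h a b
    have hreg := (CfsgLib.RegularPGroups.isRegularPGroup_iff.1 h).2 1
    obtain ⟨c, hc, he⟩ := hreg a b
    rw [pow_one] at hc he
    have hcom : ⁅b, a⁆ ∈ pw 2 (der a b) := by
      have e : ⁅b, a⁆ = (a * b * b) * c * (a * b * b)⁻¹ := by
        have e1 : a * (b * a * b) = a * (a * b * b * c) := by
          calc a * (b * a * b) = (a * b) ^ 2 := by rw [sq]; group
            _ = a ^ 2 * b ^ 2 * c := he
            _ = a * (a * b * b * c) := by rw [sq, sq]; group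
        have e2 : b * a * b = a * b * b * c := mul_left_cancel e1
        calc ⁅b, a⁆ = (b * a * b) * b⁻¹ * b⁻¹ * a⁻¹ := by rw [commutatorElement_def]; group
          _ = (a * b * b) * c * (a * b * b)⁻¹ := by rw [e2]; group
      rw [e]
      exact conj_mem_pw (mul_mem (mul_mem (left_mem_gen a b) (right_mem_gen a b)) (right_mem_gen a b)) hc
    have hle : der a b ≤ pw 2 (der a b) :=
      der_le (fun g hg k hk => conj_mem_pw hg hk) (by rw [← commutatorElement_inv]; exact inv_mem hcom)
    by_contra hab
    have hne : der a b ≠ ⊥ := by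
      intro h0
      have : ⁅a, b⁆ ∈ der a b := commutatorElement_mem_der (left_mem_gen a b) (right_mem_gen a b)
      rw [h0, Subgroup.mem_bot, commutatorElement_eq_one_iff_mul_comm] at this
      exact hab this
    obtain ⟨m, hm⟩ := IsPGroup.iff_card.1 (hG.to_subgroup (CfsgLib.RegularPGroups.der a b))
    have hm0 : m ≠ 0 := by
      rintro rfl
      rw [pow_zero, Subgroup.card_eq_one] at hm
      exact hne hm
    obtain ⟨K, hK⟩ := Sylow.exists_subgroup_card_pow_prime (G := ↥(CfsgLib.RegularPGroups.der a b)) 2
      (n := m - 1) (by rw [hm]; exact pow_dvd_pow _ (by omega))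
    have hKi : K.index = 2 := by
      have := Subgroup.card_mul_index K
      rw [hK, hm, show 2 ^ m = 2 ^ (m - 1) * 2 by rw [← pow_succ]; congr 1; omega] at this
      exact Nat.eq_of_mul_eq_mul_left (by positivity) this
    have hpw : CfsgLib.RegularPGroups.pw 2 (CfsgLib.RegularPGroups.der a b) ≤ K.map (Subgroup.subtype _) := by
      rw [CfsgLib.RegularPGroups.pw, Subgroup.closure_le]
      rintro y ⟨x, hx, rfl⟩
      exact ⟨⟨x, hx⟩ ^ 2, Subgroup.sq_mem_of_index_two hKi _, rfl⟩
    have h3 := Subgroup.card_le_of_le (hle.trans hpw)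
    rw [Subgroup.card_map_of_injective (Subgroup.subtype_injective _), hK, hm] at h3
    exact absurd h3 (not_le.2 (Nat.pow_lt_pow_right (by norm_num) (by omega)))
  · intro h
    exact ⟨hG, fun a b n => ⟨1, one_mem _, by rw [mul_one, (Commute.mul_pow (h a b) _)]⟩⟩

end Cfsg.Agent.S0642
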