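import Cfsg.Statements.S0644
import Mathlib
import Cfsg.Agent.RegularPGroups.Basic

set_option autoImplicit false
open Cfsg
open scoped commutatorElement

namespace Cfsg.Agent.S0644

/-- In a regular p-group the p^n-th powers of the elements of any subgroup H form a subgroup, whose derived subgroup is contained in the subgroup generated by the p^n-th powers of elements of the derived subgroup of H. -/
theorem result {G : Type*} [Group G] [Finite G] {p : ℕ} [Fact p.Prime] (hG : Cfsg.IsRegularPGroup p G) (H : Subgroup G) (n : ℕ) : {y : G | ∃ x ∈ H, y = x ^ (p ^ n)} = (Cfsg.powerClosure p n H : Set G) ∧ ⁅Cfsg.powerClosure p n H, Cfsg.powerClosure p n H⁆ ≤ Cfsg.powerClosure p n ⁅H, H⁆ := by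
  obtain ⟨hp, hr⟩ := CfsgLib.RegularPGroups.isRegularPGroup_iff.1 hG
  refine ⟨?_, ?_⟩
  · ext y
    exact (CfsgLib.RegularPGroups.mem_pw_iff (H := H) hp (hr n)).symm
  · rw [Subgroup.commutator_le]
    intro x hx y hy
    obtain ⟨u, hu, rfl⟩ := (CfsgLib.RegularPGroups.mem_pw_iff (H := H) hp (hr n)).1 hx
    obtain ⟨v, hv, rfl⟩ := (CfsgLib.RegularPGroups.mem_pw_iff (H := H) hp (hr n)).1 hy
    have h := CfsgLib.RegularPGroups.commutator_pow_mem (a := u) (b := v) (u := u) (y := v ^ p ^ n)
      (hr n) (CfsgLib.RegularPGroups.left_mem_gen u v)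
      (pow_mem (CfsgLib.RegularPGroups.right_mem_gen u v) _)
    rw [← commutatorElement_inv]
    exact inv_mem (CfsgLib.RegularPGroups.pw_mono
      (Subgroup.commutator_mono (CfsgLib.RegularPGroups.gen_le hu hv)
        (CfsgLib.RegularPGroups.gen_le hu hv)) h)

end Cfsg.Agent.S0644
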