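import Cfsg.Statements.S0647
-- import your own Cfsg.Agent.* helpers here

set_option autoImplicit false
open Cfsg

namespace Cfsg.Agent.S0647

/-- For a nonempty family of maximal abelian subgroups of a finite group, the intersection of the family is the centre of the subgroup it generates, which is also the full centralizer of that subgroup. -/
theorem result {S : Type*} [Group S] [Finite S] (𝒜 : Set (Subgroup S)) (hne : 𝒜.Nonempty) (hab : ∀ A ∈ 𝒜, IsMulCommutative A) (hmax : ∀ A ∈ 𝒜, ∀ B : Subgroup S, IsMulCommutative B → A ≤ B → B = A) : sInf 𝒜 = sSup 𝒜 ⊓ Subgroup.centralizer ((sSup 𝒜 : Subgroup S) : Set S) ∧ sInf 𝒜 = Subgroup.centralizer ((sSup 𝒜 : Subgroup S) : Set S) := by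
  have hC : ∀ A ∈ 𝒜, Subgroup.centralizer (A : Set S) ≤ A := by
    intro A hA x hx
    haveI := hab A hA
    have hcomm : IsMulCommutative ↥(Subgroup.closure (insert x (A : Set S))) := by
      refine Subgroup.isMulCommutative_closure ?_
      intro a ha b hb
      rcases Set.mem_insert_iff.1 ha with rfl | ha' <;> rcases Set.mem_insert_iff.1 hb with rfl | hb'
      · rfl
      · exact (Subgroup.mem_centralizer_iff.1 hx b hb').symm
      · exact Subgroup.mem_centralizer_iff.1 hx a ha'
      · exact setLike_mul_comm (s := A) ha' hb'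
    have hle : A ≤ Subgroup.closure (insert x (A : Set S)) := fun a ha => Subgroup.subset_closure (Set.mem_insert_of_mem _ ha)
    rw [← hmax A hA _ hcomm hle]
    exact Subgroup.subset_closure (Set.mem_insert _ _)
  have h2 : sInf 𝒜 = Subgroup.centralizer ((sSup 𝒜 : Subgroup S) : Set S) := by
    refine le_antisymm (fun x hx => ?_) (le_sInf fun A hA =>
      (Subgroup.centralizer_le (SetLike.coe_subset_coe.2 (le_sSup hA))).trans (hC A hA))
    rw [Subgroup.mem_centralizer_iff]
    intro y hy
    have : sSup 𝒜 ≤ Subgroup.centralizer ({x} : Set S) := sSup_le fun A hA a ha => by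
      haveI := hab A hA
      rw [Subgroup.mem_centralizer_singleton_iff]
      exact setLike_mul_comm (s := A) ha (Subgroup.mem_sInf.1 hx A hA)
    exact Subgroup.mem_centralizer_singleton_iff.1 (this hy)
  refine ⟨le_antisymm (le_inf ?_ h2.le) (inf_le_right.trans h2.ge), h2⟩
  obtain ⟨A, hA⟩ := hne
  exact (sInf_le hA).trans (le_sSup hA)

end Cfsg.Agent.S0647
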