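import Cfsg.Statements.S0648
-- import your own Cfsg.Agent.* helpers here

set_option autoImplicit false
open Cfsg

namespace Cfsg.Agent.S0648

open Subgroup
open scoped commutatorElement

/-- If A acts on B centralizing [B, B], then [B, A] has derived subgroup central in B, and for abelian A and b ∈ B with [[b, A], A, A] = 1 the derived subgroup of the subgroup [b, A] generated by the commutators of b with A has exponent dividing 2. -/
theorem result {G : Type*} [Group G] [Finite G] (A B : Subgroup G) (hAB : A ≤ Subgroup.normalizer (B : Set G)) (hc : ⁅⁅B, B⁆, A⁆ = ⊥) : ⁅⁅B, A⁆, ⁅B, A⁆⁆ ≤ B ⊓ Subgroup.centralizer (B : Set G) ∧ (IsMulCommutative A → ∀ b ∈ B, ⁅⁅(Subgroup.closure {g : G | ∃ a ∈ A, g = b⁻¹ * a * b * a⁻¹}), A⁆, A⁆ = ⊥ → ∀ w ∈ ⁅(Subgroup.closure {g : G | ∃ a ∈ A, g = b⁻¹ * a * b * a⁻¹}), (Subgroup.closure {g : G | ∃ a ∈ A, g = b⁻¹ * a * b * a⁻¹})⁆, w ^ 2 = 1) := by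
  have hBA : ⁅B, A⁆ ≤ B := by
    rw [commutator_le]
    intro b hb a ha
    rw [commutatorElement_def, mul_assoc, mul_assoc, ← mul_assoc a]
    exact B.mul_mem hb ((mem_normalizer_iff.1 (hAB ha) _).1 (B.inv_mem hb))
  have hBd : ⁅B, B⁆ ≤ B := commutator_le_self B
  -- `[B, A]` centralises the derived subgroup
  have hXd : ⁅⁅B, A⁆, ⁅B, B⁆⁆ = ⊥ := by
    refine commutator_commutator_eq_bot_of_rotate ?_ ?_
    · rw [commutator_comm A ⁅B, B⁆, hc, commutator_bot_left]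
    · exact le_bot_iff.1 (hc ▸ commutator_mono (commutator_mono hBd le_rfl) le_rfl)
  have hXc : ∀ x ∈ ⁅B, A⁆, ∀ d ∈ ⁅B, B⁆, d * x = x * d := fun x hx d hd => by
    have := commutator_mem_commutator hx hd
    rw [hXd, mem_bot, commutatorElement_eq_one_iff_mul_comm] at this
    exact this.symm
  have hXXB : ⁅⁅⁅B, A⁆, ⁅B, A⁆⁆, B⁆ = ⊥ := by
    have h1 : ⁅⁅⁅B, A⁆, B⁆, ⁅B, A⁆⁆ = ⊥ := by
      rw [commutator_comm _ ⁅B, A⁆]
      exact le_bot_iff.1 ((commutator_mono le_rfl (commutator_mono hBA le_rfl)).trans hXd.le)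
    refine commutator_commutator_eq_bot_of_rotate h1 ?_
    rw [commutator_comm B ⁅B, A⁆]; exact h1
  have hXX : ∀ d ∈ ⁅⁅B, A⁆, ⁅B, A⁆⁆, ∀ s ∈ B, s * d = d * s := fun d hd s hs => by
    have := commutator_mem_commutator hd hs
    rw [hXXB, mem_bot, commutatorElement_eq_one_iff_mul_comm] at this
    exact this.symm
  refine ⟨le_inf ((commutator_mono hBA hBA).trans hBd) fun d hd =>
    mem_centralizer_iff.2 fun s hs => hXX d hd s hs, ?_⟩
  intro hAc b hb hU w hw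
  set U := Subgroup.closure {g : G | ∃ a ∈ A, g = b⁻¹ * a * b * a⁻¹} with hUdef
  have hUX : U ≤ ⁅B, A⁆ := by
    rw [hUdef, Subgroup.closure_le]
    rintro _ ⟨a, ha, rfl⟩
    have := commutator_mem_commutator (B.inv_mem hb) ha
    rwa [commutatorElement_def, inv_inv] at this
  have hgen : ∀ a ∈ A, b⁻¹ * a * b * a⁻¹ ∈ U := fun a ha => subset_closure ⟨a, ha, rfl⟩
  -- `A` fixes the derived subgroup of `B`
  have hfix : ∀ a ∈ A, ∀ d ∈ ⁅B, B⁆, a * d * a⁻¹ = d := fun a ha d hd => by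
    have := commutator_mem_commutator hd ha
    rw [hc, mem_bot, commutatorElement_eq_one_iff_mul_comm] at this
    rw [← this, mul_inv_cancel_right]
  -- `u⁻¹ uᵃ` is fixed by `A`
  have hD : ∀ u ∈ U, ∀ a ∈ A, ∀ c ∈ A,
      c * (u⁻¹ * (a * u * a⁻¹)) * c⁻¹ = u⁻¹ * (a * u * a⁻¹) := fun u hu a ha c hc' => by
    have h1 : u⁻¹ * (a * u * a⁻¹) ∈ ⁅U, A⁆ := by
      have := commutator_mem_commutator (U.inv_mem hu) ha
      rwa [commutatorElement_def, inv_inv, mul_assoc, mul_assoc, ← mul_assoc a] at this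
    have := commutator_mem_commutator h1 hc'
    rw [hU, mem_bot, commutatorElement_eq_one_iff_mul_comm] at this
    rw [← this, mul_inv_cancel_right]
  -- elements fixed by `A` centralise the generators
  have hcent : ∀ t ∈ B, (∀ c ∈ A, c * t * c⁻¹ = t) → ∀ a ∈ A,
      ⁅t, b⁻¹ * a * b * a⁻¹⁆ = 1 := by
    intro t ht htA a ha
    set u := b⁻¹ * a * b * a⁻¹ with hu
    have hu' : a * b * a⁻¹ = b * u := by rw [hu]; group
    have h1 : ⁅t, b⁆ = ⁅t, b * u⁆ := by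
      have h2 := hfix a ha _ (commutator_mem_commutator ht hb)
      conv_lhs => rw [← h2]
      rw [conjugate_commutatorElement, htA a ha, hu']
    have h3 : ⁅t, b * u⁆ = ⁅t, b⁆ * (b * ⁅t, u⁆ * b⁻¹) := by
      simp only [commutatorElement_def]; group
    have h4 : b * ⁅t, u⁆ * b⁻¹ = 1 := (left_eq_mul.1 (h1.trans h3))
    rwa [conj_eq_one_iff] at h4
  have hy : ∀ a ∈ A, ∀ c ∈ A, (b⁻¹ * c * b * c⁻¹)⁻¹ * (a * (b⁻¹ * c * b * c⁻¹) * a⁻¹) ∈ B :=
    fun a ha c hc' => B.mul_mem (B.inv_mem (hBA (hUX (hgen c hc'))))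
      ((mem_normalizer_iff.1 (hAB ha) _).1 (hBA (hUX (hgen c hc'))))
  -- the basic identity
  have key : ∀ a ∈ A, ∀ c ∈ A, ⁅b⁻¹ * a * b * a⁻¹, b⁻¹ * c * b * c⁻¹⁆ *
      ⁅b, (b⁻¹ * c * b * c⁻¹)⁻¹ * (a * (b⁻¹ * c * b * c⁻¹) * a⁻¹)⁆ = 1 := by
    intro a ha c hc'
    set u := b⁻¹ * a * b * a⁻¹ with hu
    set v := b⁻¹ * c * b * c⁻¹ with hv
    set y := v⁻¹ * (a * v * a⁻¹) with hyd
    have hvB : v ∈ B := hBA (hUX (hgen c hc'))
    have huy : ⁅u, y⁆ = 1 := by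
      rw [← commutatorElement_inv, hcent y (hy a ha c hc')
        (fun e he => hD v (hgen c hc') a ha e he) a ha, inv_one]
    have e1 : a * b * a⁻¹ = b * u := by rw [hu]; group
    have e2 : a * v * a⁻¹ = v * y := by rw [hyd]; group
    have h0 := hfix a ha _ (commutator_mem_commutator hb hvB)
    rw [conjugate_commutatorElement, e1, e2] at h0
    have e3 : ⁅b * u, v * y⁆ = b * (⁅u, v⁆ * (v * ⁅u, y⁆ * v⁻¹)) * b⁻¹ *
        (⁅b, v⁆ * (v * ⁅b, y⁆ * v⁻¹)) := by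
      simp only [commutatorElement_def]; group
    have huv : ⁅u, v⁆ ∈ ⁅⁅B, A⁆, ⁅B, A⁆⁆ := commutator_mem_commutator (hUX (hgen a ha)) (hUX (hgen c hc'))
    have hby : v * ⁅b, y⁆ * v⁻¹ = ⁅b, y⁆ := by
      rw [← hXc v (hUX (hgen c hc')) _ (commutator_mem_commutator hb (hy a ha c hc')), mul_inv_cancel_right]
    rw [e3, huy, mul_one, mul_inv_cancel, mul_one, hby, hXX _ huv b hb, mul_inv_cancel_right,
      ← mul_assoc, ← hXX _ huv _ (hBd (commutator_mem_commutator hb hvB)), mul_assoc] at h0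
    exact mul_eq_left.1 h0
  have hsq : ∀ a ∈ A, ∀ c ∈ A, ⁅b⁻¹ * a * b * a⁻¹, b⁻¹ * c * b * c⁻¹⁆ ^ 2 = 1 := by
    intro a ha c hc'
    set u := b⁻¹ * a * b * a⁻¹ with hu
    set v := b⁻¹ * c * b * c⁻¹ with hv
    set x := u⁻¹ * (c * u * c⁻¹) with hxd
    set f := ⁅v⁻¹, u⁻¹⁆ with hf
    have h1 : v⁻¹ * (a * v * a⁻¹) = f * x := by
      have hac : a * c = c * a := setLike_mul_comm (s := A) ha hc'
      have hs : v * (c * u * c⁻¹) = u * (a * v * a⁻¹) := by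
        calc v * (c * u * c⁻¹) = b⁻¹ * (c * a) * b * (c * a)⁻¹ := by rw [hu, hv]; group
          _ = b⁻¹ * (a * c) * b * (a * c)⁻¹ := by rw [hac]
          _ = u * (a * v * a⁻¹) := by rw [hu, hv]; group
      calc v⁻¹ * (a * v * a⁻¹) = v⁻¹ * u⁻¹ * (u * (a * v * a⁻¹)) := by group
        _ = v⁻¹ * u⁻¹ * (v * (c * u * c⁻¹)) := by rw [hs]
        _ = f * x := by rw [hf, hxd, commutatorElement_def]; group
    have hfm : f ∈ ⁅⁅B, A⁆, ⁅B, A⁆⁆ := commutator_mem_commutator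
      (inv_mem (hUX (hgen c hc'))) (inv_mem (hUX (hgen a ha)))
    have h2 : ⁅b, f * x⁆ = ⁅b, x⁆ := by
      have hbx : ⁅b, x⁆ ∈ B := hBd (commutator_mem_commutator hb (hy c hc' a ha))
      rw [show ⁅b, f * x⁆ = ⁅b, f⁆ * (f * ⁅b, x⁆ * f⁻¹) by simp only [commutatorElement_def]; group,
        commutatorElement_eq_one_iff_mul_comm.2 (hXX f hfm b hb), one_mul, ← hXX f hfm _ hbx,
        mul_inv_cancel_right]
    have k1 := key a ha c hc'
    rw [← hu, ← hv, h1, h2] at k1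
    have k2 := key c hc' a ha
    rw [← hu, ← hv, ← hxd, ← commutatorElement_inv u v] at k2
    rw [mul_eq_one_iff_inv_eq] at k1 k2
    rw [inv_inv] at k2
    rw [← k2] at k1
    rw [sq]
    exact mul_eq_one_iff_inv_eq.2 k1
  -- spread to the whole derived subgroup
  let T : Subgroup G :=
    { carrier := {d | d ∈ ⁅⁅B, A⁆, ⁅B, A⁆⁆ ∧ d ^ 2 = 1}
      one_mem' := ⟨one_mem _, one_pow _⟩
      mul_mem' := fun {d e} hd he => ⟨mul_mem hd.1 he.1, by
        rw [Commute.mul_pow (hXX e he.1 d (hBd (commutator_mono hBA hBA hd.1))), hd.2, he.2, one_mul]⟩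
      inv_mem' := fun {d} hd => ⟨inv_mem hd.1, by rw [inv_pow, hd.2, inv_one]⟩ }
  have hconj : ∀ s ∈ U, ∀ d ∈ T, s * d * s⁻¹ = d := fun s hs d hd => by
    rw [hXX d hd.1 s (hBA (hUX hs)), mul_inv_cancel_right]
  have h5 : ∀ s : G, s ∈ U → ∀ a ∈ A, ⁅s, b⁻¹ * a * b * a⁻¹⁆ ∈ T := by
    intro s hs a ha
    refine (?_ : s ∈ U ∧ ⁅s, b⁻¹ * a * b * a⁻¹⁆ ∈ T).2
    rw [hUdef] at hs
    induction hs using Subgroup.closure_induction with
    | mem s hs =>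
      obtain ⟨e, he, rfl⟩ := hs
      exact ⟨hgen e he, commutator_mem_commutator (hUX (hgen e he)) (hUX (hgen a ha)), hsq e he a ha⟩
    | one => exact ⟨one_mem _, by rw [commutatorElement_one_left]; exact one_mem _⟩
    | mul s t _ _ hs ht =>
      refine ⟨mul_mem hs.1 ht.1, ?_⟩
      rw [show ⁅s * t, b⁻¹ * a * b * a⁻¹⁆ = (s * ⁅t, b⁻¹ * a * b * a⁻¹⁆ * s⁻¹) * ⁅s, b⁻¹ * a * b * a⁻¹⁆ by
        simp only [commutatorElement_def]; group, hconj s hs.1 _ ht.2]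
      exact mul_mem ht.2 hs.2
    | inv s _ hs =>
      refine ⟨inv_mem hs.1, ?_⟩
      rw [show ⁅s⁻¹, b⁻¹ * a * b * a⁻¹⁆ = s⁻¹ * ⁅s, b⁻¹ * a * b * a⁻¹⁆⁻¹ * (s⁻¹)⁻¹ by
        simp only [commutatorElement_def]; group, hconj _ (inv_mem hs.1) _ (inv_mem hs.2)]
      exact inv_mem hs.2
  have h6 : ∀ s : G, s ∈ U → ∀ t : G, t ∈ U → ⁅s, t⁆ ∈ T := by
    intro s hs t ht
    refine (?_ : t ∈ U ∧ ⁅s, t⁆ ∈ T).2
    rw [hUdef] at ht
    induction ht using Subgroup.closure_induction with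
    | mem t ht =>
      obtain ⟨e, he, rfl⟩ := ht
      exact ⟨hgen e he, h5 s hs e he⟩
    | one => exact ⟨one_mem _, by rw [commutatorElement_one_right]; exact one_mem _⟩
    | mul t r _ _ ht hr =>
      refine ⟨mul_mem ht.1 hr.1, ?_⟩
      rw [show ⁅s, t * r⁆ = ⁅s, t⁆ * (t * ⁅s, r⁆ * t⁻¹) by
        simp only [commutatorElement_def]; group, hconj t ht.1 _ hr.2]
      exact mul_mem ht.2 hr.2
    | inv t _ ht =>
      refine ⟨inv_mem ht.1, ?_⟩
      rw [show ⁅s, t⁻¹⁆ = t⁻¹ * ⁅s, t⁆⁻¹ * (t⁻¹)⁻¹ by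
        simp only [commutatorElement_def]; group, hconj _ (inv_mem ht.1) _ (inv_mem ht.2)]
      exact inv_mem ht.2
  exact ((commutator_le.2 h6) hw).2

end Cfsg.Agent.S0648
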