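import Cfsg.Statements.S0667
import Cfsg.Agent.PLocal.ZJTheorem
-- import your own Cfsg.Agent.* helpers here

set_option autoImplicit false
open Cfsg

namespace Cfsg.Agent.S0667

/-- Glauberman's Theorem in the p-constrained, p-stable vocabulary: for odd p such a group is the product of its largest normal subgroup of order prime to p with the normalizer of Z(J(P)), and Z(J(P)) is normal when that p'-subgroup is trivial. -/
theorem result {G : Type*} [Group G] [Finite G] {p : ℕ} [Fact p.Prime] (hp : p ≠ 2) (hc : Cfsg.IsPConstrained p G) (hs : Cfsg.IsPStable p G) (P : Sylow p G) : Cfsg.pPrimeCore p G ⊔ Subgroup.normalizer (Cfsg.centerThompsonAOf ((P : Subgroup G)) : Set G) = ⊤ ∧ (Cfsg.pPrimeCore p G = ⊥ → (Cfsg.centerThompsonAOf ((P : Subgroup G))).Normal) := by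
  set O := Cfsg.pPrimeCore p G with hO
  set π := QuotientGroup.mk' O with hπ
  have hcore := CfsgLib.PLocal.isPConstrained_iff.mp hc
  have hZbar := CfsgLib.PLocal.centerThompsonAOf_characteristic hp hcore
    (fun V hV hVp => @CfsgLib.PLocal.isPStableOn_quotient_of_isPStable _ _ p _ _ hs V hV hVp)
    (P.mapSurjective (QuotientGroup.mk'_surjective O))
  set Z := Cfsg.centerThompsonAOf (P : Subgroup G)
  have hinj : Function.Injective (π.comp (P : Subgroup G).subtype) :=
    CfsgLib.PLocal.injective_comp_subtype_of_coprime P.isPGroup'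
      (by rw [hπ, QuotientGroup.ker_mk']; exact CfsgLib.PLocal.coprime_card_pPrimeCore p G)
  have hmap : Z.map π = Cfsg.centerThompsonAOf ((P : Subgroup G).map π) := by
    rw [show Z = Cfsg.thompsonSubgroupAOf (P : Subgroup G) ⊓ Subgroup.centralizer
      (Cfsg.thompsonSubgroupAOf (P : Subgroup G) : Set G) from rfl,
      CfsgLib.PLocal.map_inf_centralizer_self_of_injOn
        (CfsgLib.PLocal.thompsonSubgroupAOf_le _) hinj,
      CfsgLib.PLocal.map_thompsonSubgroupAOf_of_injOn hinj]
    rfl
  have hn : (Z.map π).Normal := by rw [hmap]; exact @Subgroup.normal_of_characteristic _ _ _ hZbar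
  have hsup : O ⊔ Subgroup.normalizer (Z : Set G) = ⊤ := by
    have hZp : IsPGroup p Z := P.isPGroup'.to_le (CfsgLib.PLocal.centerThompsonAOf_le _)
    have h1 := CfsgLib.PLocal.normalizer_map_mk'_eq O (CfsgLib.PLocal.coprime_card_pPrimeCore p G) hZp
    rw [← hπ, Subgroup.normalizer_eq_top_iff.mpr hn] at h1
    have h2 := congrArg (Subgroup.comap π) h1.symm
    rw [Subgroup.comap_top, Subgroup.comap_map_eq, hπ, QuotientGroup.ker_mk'] at h2
    rw [sup_comm]; exact h2
  refine ⟨hsup, fun hbot => ?_⟩
  rw [hbot, bot_sup_eq] at hsup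
  exact Subgroup.normalizer_eq_top_iff.mp hsup

end Cfsg.Agent.S0667
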