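import Cfsg.Statements.S0658
import Cfsg.Agent.S0667
import Cfsg.Agent.PLocal.ZJTheorem
import Cfsg.Agent.Transfer.Alperin
-- import your own Cfsg.Agent.* helpers here

set_option autoImplicit false
open Cfsg

namespace Cfsg.Agent.S0658

open Cfsg CfsgLib.PLocal Subgroup in
theorem aux {G : Type*} [Group G] [Finite G] {p : ℕ} [Fact p.Prime] (hp : p ≠ 2)
    (hloc : ∀ Q : Subgroup G, IsPGroup p Q → Q ≠ ⊥ → pPrimeCore p ↥(normalizer (Q : Set G)) = ⊥ ∧
      IsPConstrained p ↥(normalizer (Q : Set G)) ∧ IsPStable p ↥(normalizer (Q : Set G)))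
    (P : Sylow p G) : ∀ (k : ℕ) (Q : Subgroup G), Q ≤ (P : Subgroup G) → Q ≠ ⊥ →
      Nat.card P - Nat.card ↥((P : Subgroup G) ⊓ normalizer (Q : Set G)) = k →
      normalizer (Q : Set G) ≤ normalizer (centerThompsonAOf (P : Subgroup G) : Set G) := by
  intro k
  induction k using Nat.strong_induction_on with
  | h k ih =>
  intro Q hQP hQ hk
  set M := normalizer (Q : Set G) with hM
  set T := (P : Subgroup G) ⊓ M with hT
  set N := normalizer (centerThompsonAOf (P : Subgroup G) : Set G) with hN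
  have hQp : IsPGroup p Q := P.isPGroup'.to_le hQP
  have hTp : IsPGroup p T := P.isPGroup'.to_le inf_le_left
  have hQT : Q ≤ T := le_inf hQP le_normalizer
  have hcardT : Nat.card T ≤ Nat.card P := Subgroup.card_le_of_le inf_le_left
  -- subgroups with a larger trace of the normalizer in `P` are under control
  have step : ∀ Q' : Subgroup G, Q' ≤ (P : Subgroup G) → Q' ≠ ⊥ →
      Nat.card T < Nat.card ↥((P : Subgroup G) ⊓ normalizer (Q' : Set G)) →
      normalizer (Q' : Set G) ≤ N := by
    intro Q' h1 h2 h3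
    have h4 : Nat.card ↥((P : Subgroup G) ⊓ normalizer (Q' : Set G)) ≤ Nat.card P :=
      Subgroup.card_le_of_le inf_le_left
    exact ih _ (by omega) Q' h1 h2 rfl
  have hPN : (P : Subgroup G) ≤ N :=
    le_normalizer.trans (normalizer_le_normalizer_centerThompsonAOf _)
  -- the normalizer of `T` lies in `N` when `T < P`
  have hT' : T ≠ (P : Subgroup G) → normalizer (centerThompsonAOf T : Set G) ≤ N := by
    intro hne
    refine step _ ((centerThompsonAOf_le T).trans inf_le_left)
      (centerThompsonAOf_ne_bot hTp fun h => hQ (le_bot_iff.mp (h ▸ hQT))) ?_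
    exact (Set.ncard_lt_ncard (SetLike.coe_ssubset_coe.mpr ((CfsgLib.Transfer.lt_inf_normalizer
      P.isPGroup' (lt_of_le_of_ne inf_le_left hne)).trans_le (inf_le_inf_left _
        (normalizer_le_normalizer_centerThompsonAOf T)))) (Set.toFinite _))
  obtain ⟨S, hS⟩ := (hTp.comap_subtype (K := M)).exists_le_sylow
  set S' := (S : Subgroup M).map M.subtype with hS'
  have hTS : T ≤ S' := fun x hx => ⟨⟨x, hx.2⟩, hS hx, rfl⟩
  have hS'p : IsPGroup p S' := S.isPGroup'.map _
  by_cases hTeq : T = S'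
  · obtain ⟨h1, h2, h3⟩ := hloc Q hQp hQ
    have hn := (Cfsg.Agent.S0667.result hp h2 h3 S).2 h1
    have hMT : M ≤ normalizer (centerThompsonAOf T : Set G) := by
      rw [hTeq, hS', ← map_centerThompsonAOf M.subtype_injective]
      intro m hm
      refine mem_normalizer_iff.mpr fun x => ⟨?_, ?_⟩
      · rintro ⟨y, hy, rfl⟩
        exact ⟨⟨m, hm⟩ * y * ⟨m, hm⟩⁻¹, hn.conj_mem _ hy _, rfl⟩
      · rintro ⟨y, hy, hyx⟩
        refine ⟨⟨m, hm⟩⁻¹ * y * ⟨m, hm⟩⁻¹⁻¹, hn.conj_mem _ hy _, ?_⟩
        rw [map_mul, map_mul, map_inv, hyx]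
        simp [mul_assoc]
    by_cases hne : T = (P : Subgroup G)
    · rwa [hne] at hMT
    · exact hMT.trans (hT' hne)
  · have hlt : T < S' := lt_of_le_of_ne hTS hTeq
    have hne : T ≠ (P : Subgroup G) := by
      intro h
      exact hTeq (h.trans (P.is_maximal' hS'p (h ▸ hTS)).symm)
    set R := S' ⊓ normalizer (T : Set G) with hR
    have hRN : R ≤ N := (inf_le_right.trans
      (normalizer_le_normalizer_centerThompsonAOf T)).trans (hT' hne)
    have hTR : T < R := CfsgLib.Transfer.lt_inf_normalizer hS'p hlt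
    have hRM : R ≤ M := inf_le_left.trans (map_subtype_le _)
    obtain ⟨U, hU⟩ := ((hS'p.to_le inf_le_left : IsPGroup p R).comap_subtype (K := N)).exists_le_sylow
    obtain ⟨n, hn⟩ := MulAction.exists_smul_eq N U (P.subtype hPN)
    have hconj : ∀ x ∈ R, (n : G) * x * (n : G)⁻¹ ∈ (P : Subgroup G) := by
      intro x hx
      have h1 : MulAut.conj n ⟨x, hRN hx⟩ ∈ ((n • U : Sylow p N) : Subgroup N) := by
        rw [Sylow.coe_subgroup_smul]
        exact smul_mem_pointwise_smul _ (MulAut.conj n) (U : Subgroup N) (hU hx)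
      rw [hn] at h1
      exact h1
    set Q' := Q.map (MulAut.conj (n : G)).toMonoidHom with hQ'
    have hkey : normalizer (Q' : Set G) ≤ N := by
      refine step Q' ?_ ?_ ?_
      · rintro _ ⟨q, hq, rfl⟩
        exact hconj q (hTR.le (hQT hq))
      · rwa [hQ', Ne, Subgroup.map_eq_bot_iff_of_injective _ (MulAut.conj (n : G)).injective]
      · calc Nat.card T < Nat.card R :=
              Set.ncard_lt_ncard (SetLike.coe_ssubset_coe.mpr hTR) (Set.toFinite _)
          _ = Nat.card (R.map (MulAut.conj (n : G)).toMonoidHom) :=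
              Nat.card_congr (equivMapOfInjective R _ (MulAut.conj (n : G)).injective).toEquiv
          _ ≤ _ := Subgroup.card_le_of_le (le_inf (by rintro _ ⟨r, hr, rfl⟩; exact hconj r hr)
              ((map_mono hRM).trans (le_normalizer_map _)))
    intro m hm
    have h2 := hkey (le_normalizer_map (H := Q) (MulAut.conj (n : G)).toMonoidHom ⟨m, hm, rfl⟩)
    have h3 := mul_mem (mul_mem (inv_mem n.2) h2) n.2
    simpa [mul_assoc] using h3

/-- In a group of characteristic p type all of whose p-locals are p-stable (p odd), the normalizer of Z(J(P)) contains the normalizer of every nontrivial subgroup of the Sylow p-subgroup P. -/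
theorem result {G : Type*} [Group G] [Finite G] {p : ℕ} [Fact p.Prime] (hp : p ≠ 2) (hloc : ∀ Q : Subgroup G, IsPGroup p Q → Q ≠ ⊥ → Cfsg.pPrimeCore p ↥(Subgroup.normalizer (Q : Set G)) = ⊥ ∧ Cfsg.IsPConstrained p ↥(Subgroup.normalizer (Q : Set G)) ∧ Cfsg.IsPStable p ↥(Subgroup.normalizer (Q : Set G))) (P : Sylow p G) (Q : Subgroup G) (hQP : Q ≤ (P : Subgroup G)) (hQ1 : Q ≠ ⊥) : Subgroup.normalizer (Q : Set G) ≤ Subgroup.normalizer (Cfsg.centerThompsonAOf ((P : Subgroup G)) : Set G) := by
  exact aux hp hloc P _ Q hQP hQ1 rfl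

end Cfsg.Agent.S0658
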