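import Cfsg.Statements.S0660
import Mathlib.Algebra.BigOperators.Group.Finset.Basic
import Mathlib.GroupTheory.OrderOfElement
import Mathlib.Data.ZMod.Basic

set_option autoImplicit false
open Cfsg

namespace Cfsg.Agent.S0660

open scoped BigOperators

/-- Under a coprime action on an abelian group, an invariant subgroup that is complemented admits an invariant complement. -/
theorem result {G : Type*} [Group G] [Finite G] (V A U : Subgroup G) (hVab : IsMulCommutative V) (hAV : A ≤ Subgroup.normalizer (V : Set G)) (hcop : (Nat.card A).Coprime (Nat.card V)) (hUV : U ≤ V) (hAU : A ≤ Subgroup.normalizer (U : Set G)) (W : Subgroup G) (hWV : W ≤ V) (hUW : U ⊓ W = ⊥) (hUWV : U ⊔ W = V) : ∃ W' : Subgroup G, W' ≤ V ∧ A ≤ Subgroup.normalizer (W' : Set G) ∧ U ⊓ W' = ⊥ ∧ U ⊔ W' = V := by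
  classical
  cases nonempty_fintype A
  haveI := hVab
  letI : CommGroup V :=
    { (inferInstance : Group V) with mul_comm := fun a b => hVab.is_comm.comm a b }
  have hVU : ∀ v : V, ∃ u : U, ∃ w : W, (v : G) = u * w := by
    intro v
    have hv : (v : G) ∈ U ⊔ W := hUWV.symm ▸ v.2
    have hn : W ≤ Subgroup.normalizer (U : Set G) := fun w hw =>
      Subgroup.centralizer_le_normalizer _ (fun u hu => setLike_mul_comm (s := V) (hUV hu) (hWV hw))
    obtain ⟨u, hu, w, hw, huw⟩ := (Set.ext_iff.1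
      (Subgroup.coe_mul_of_right_le_normalizer_left U W hn) (v : G)).1 hv
    exact ⟨⟨u, hu⟩, ⟨w, hw⟩, huw.symm⟩
  choose π ω hπ using hVU
  have huniq : ∀ (v : V) (u w : G), u ∈ U → w ∈ W → (v : G) = u * w → (π v : G) = u := by
    intro v u w hu hw h
    have h2 : (π v : G) * (ω v : G) = u * w := (hπ v).symm.trans h
    have h3 : u⁻¹ * (π v : G) ∈ U ⊓ W := by
      refine ⟨U.mul_mem (U.inv_mem hu) (π v).2, ?_⟩
      have : u⁻¹ * (π v : G) = w * (ω v : G)⁻¹ := by
        rw [inv_mul_eq_iff_eq_mul, ← mul_assoc, ← h2, mul_inv_cancel_right]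
      exact this ▸ W.mul_mem hw (W.inv_mem (ω v).2)
    rw [hUW, Subgroup.mem_bot, inv_mul_eq_one] at h3
    exact h3.symm
  let f : V →* V := MonoidHom.mk' (fun v => ⟨(π v : G), hUV (π v).2⟩) fun a b => Subtype.ext (by
    refine huniq (a * b) _ ((ω a : G) * ω b) (U.mul_mem (π a).2 (π b).2)
      (W.mul_mem (ω a).2 (ω b).2) ?_
    rw [Subgroup.coe_mul, hπ a, hπ b]
    rw [mul_assoc, ← mul_assoc (ω a : G), ← setLike_mul_comm (s := V) (hUV (π b).2) (hWV (ω a).2)]
    simp only [Subgroup.coe_mul, mul_assoc])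
  have hmem : ∀ (a : A) (v : V), (a : G) * v * (a : G)⁻¹ ∈ V := fun a v =>
    (Subgroup.mem_normalizer_iff.mp (hAV a.2) v).mp v.2
  let σ : A → (V →* V) := fun a =>
    { toFun := fun v => ⟨(a : G) * v * (a : G)⁻¹, hmem a v⟩
      map_one' := Subtype.ext (by simp)
      map_mul' := fun v w => Subtype.ext (by simp [mul_assoc]) }
  have hσmul : ∀ a b v, σ a (σ b v) = σ (a * b) v := fun a b v =>
    Subtype.ext (by simp [σ, mul_assoc])
  let φ : V →* V := ∏ a : A, (σ a).comp (f.comp (σ a⁻¹))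
  have hφ : ∀ v, φ v = ∏ a : A, σ a (f (σ a⁻¹ v)) := fun v => by
    simp only [φ, MonoidHom.finsetProd_apply, MonoidHom.comp_apply]
  let U' : Subgroup V := U.subgroupOf V
  have hφU : ∀ v, φ v ∈ U' := fun v => by
    rw [hφ]
    refine U'.prod_mem fun a _ => Subgroup.mem_subgroupOf.2 ?_
    exact (Subgroup.mem_normalizer_iff.mp (hAU a.2) _).mp (π _).2
  have hfix : ∀ v : V, (v : G) ∈ U → φ v = v ^ Nat.card A := by
    intro v hv
    rw [hφ, Nat.card_eq_fintype_card]
    refine (Finset.prod_eq_pow_card fun a _ => ?_).trans (by rw [Finset.card_univ])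
    have h1 : f (σ a⁻¹ v) = σ a⁻¹ v := Subtype.ext (huniq _ _ 1
      ((Subgroup.mem_normalizer_iff.mp (hAU (a⁻¹).2) _).mp hv) W.one_mem (mul_one _).symm)
    rw [h1, hσmul, mul_inv_cancel]
    exact Subtype.ext (by simp [σ])
  refine ⟨φ.ker.map V.subtype, Subgroup.map_subtype_le _, ?_, ?_, ?_⟩
  · intro b hb
    have key : ∀ b : A, ∀ v ∈ φ.ker, σ b v ∈ φ.ker := by
      intro b v hv
      rw [MonoidHom.mem_ker] at hv ⊢
      have : φ (σ b v) = σ b (φ v) := by
        rw [hφ, hφ, map_prod]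
        refine Fintype.prod_equiv (Equiv.mulLeft b⁻¹) _ _ fun a => ?_
        simp [hσmul, mul_inv_rev]
      rw [this, hv, map_one]
    refine Subgroup.mem_normalizer_iff.2 fun x => ⟨?_, ?_⟩
    · rintro ⟨v, hv, rfl⟩
      exact ⟨_, key ⟨b, hb⟩ v hv, rfl⟩
    · rintro ⟨v, hv, hvx⟩
      refine ⟨_, key ⟨b, hb⟩⁻¹ v hv, ?_⟩
      show b⁻¹ * (v : G) * b⁻¹⁻¹ = x
      rw [show (v : G) = b * x * b⁻¹ from hvx]
      group
  · rw [Subgroup.eq_bot_iff_forall]
    rintro x ⟨hxU, v, hv, rfl⟩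
    rw [SetLike.mem_coe, MonoidHom.mem_ker, hfix v hxU] at hv
    have h2 : orderOf v = 1 := Nat.eq_one_of_dvd_coprimes hcop
      (orderOf_dvd_of_pow_eq_one hv) (orderOf_dvd_natCard v)
    rw [orderOf_eq_one_iff] at h2
    simp [h2]
  · refine le_antisymm (sup_le hUV (Subgroup.map_subtype_le _)) fun x hx => ?_
    obtain ⟨k, hk⟩ := exists_pow_eq_self_of_coprime (x := φ ⟨x, hx⟩)
      (hcop.coprime_dvd_right (orderOf_dvd_natCard (φ ⟨x, hx⟩)))
    set u : V := φ ⟨x, hx⟩ ^ k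
    have hu : (u : G) ∈ U := Subgroup.mem_subgroupOf.1 (U'.pow_mem (hφU _) k)
    have hku : φ (u⁻¹ * ⟨x, hx⟩) = 1 := by
      rw [map_mul, map_inv, hfix u hu, ← pow_mul, mul_comm k, pow_mul, hk, inv_mul_cancel]
    have : x = (u : G) * ((u : G)⁻¹ * x) := by group
    rw [this]
    exact Subgroup.mul_mem_sup hu ⟨_, hku, rfl⟩

end Cfsg.Agent.S0660
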