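import Cfsg.Statements.S0661

import Cfsg.Agent.PLocal.LocalConstraint

set_option autoImplicit false
open Cfsg Subgroup CfsgLib.PLocal
open scoped commutatorElement

namespace Cfsg.Agent.S0661

/-- If, modulo the largest normal subgroup of order prime to p, the largest normal p-subgroup contains its centralizer, then for every p-subgroup P the p'-core of N_G(P) is just O_p'(G) ∩ N_G(P). -/
theorem result {G : Type*} [Group G] [Finite G] {p : ℕ} [Fact p.Prime] (hc : Subgroup.centralizer (Cfsg.pCore p (G ⧸ Cfsg.pPrimeCore p G) : Set (G ⧸ Cfsg.pPrimeCore p G)) ≤ Cfsg.pCore p (G ⧸ Cfsg.pPrimeCore p G)) (P : Subgroup G) (hP : IsPGroup p P) : (Cfsg.pPrimeCore p ↥(Subgroup.normalizer (P : Set G))).map (Subgroup.normalizer (P : Set G)).subtype = Cfsg.pPrimeCore p G ⊓ Subgroup.normalizer (P : Set G) := by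
  set N := Subgroup.normalizer (P : Set G) with hN
  refine le_antisymm (le_inf ?_ (map_subtype_le _)) ?_
  · let π := QuotientGroup.mk' (Cfsg.pPrimeCore p G)
    have hbot := normalizer_map_le_local (Cfsg.pPrimeCore p G) (coprime_card_pPrimeCore p G) hP hc
    have h1 := map_pPrimeCore_le_of_surjective (p := p) (π.subgroupMap_surjective N)
    rw [hbot, le_bot_iff, Subgroup.map_eq_bot_iff] at h1
    rintro _ ⟨x, hx, rfl⟩
    exact (QuotientGroup.eq_one_iff (x : G)).mp (congrArg Subtype.val (h1 hx))
  · intro x hx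
    exact ⟨⟨x, hx.2⟩, pPrimeCore_subgroupOf_le N hx.1, rfl⟩

end Cfsg.Agent.S0661
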