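import Cfsg.Statements.S0662
import Cfsg.Agent.PMaxClass.Basic
import Cfsg.Agent.OddOrder.BG4.Basic
import Cfsg.Agent.RegularPGroups.Basic
import Cfsg.Agent.Transitivity.OrderFormula
-- import your own Cfsg.Agent.* helpers here

set_option autoImplicit false
open Cfsg

namespace Cfsg.Agent.S0662

open Subgroup
open scoped commutatorElement

/-- In a p-group of maximal class of order at least p³ the normal subgroups of index at least p² are exactly the terms of the lower central series, and there are exactly p + 1 normal subgroups of index p. -/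
theorem result {G : Type*} [Group G] [Finite G] {p : ℕ} [Fact p.Prime] (n : ℕ) (hG : Nat.card G = p ^ n) (hcl : Group.nilpotencyClass G = n - 1) (hn : 3 ≤ n) : (∀ (N : Subgroup G) [N.Normal] (r : ℕ), 2 ≤ r → N.index = p ^ r → N = (⊤ : Subgroup G).lowerCentralSeries (r - 1)) ∧ Nat.card {N : Subgroup G // N.Normal ∧ N.index = p} = p + 1 := by
  classical
  have hp : p.Prime := Fact.out
  have hGp : IsPGroup p G := IsPGroup.of_card hG
  haveI := hGp.isNilpotent
  have hM : CfsgLib.PMaxClass.MaxClass G p n := ⟨hp, hG, fun h => by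
    have := Subgroup.upperCentralSeries_eq_top_iff_nilpotencyClass_le.1 h
    omega⟩
  -- sizes of the normal subgroups
  have hcard : ∀ (N : Subgroup G), ∃ j, Nat.card N = p ^ j ∧ j ≤ n := fun N => by
    obtain ⟨j, hj⟩ := IsPGroup.iff_card.mp (hGp.to_subgroup N)
    refine ⟨j, hj, ?_⟩
    have := N.card_subgroup_dvd_card
    rw [hj, hG] at this
    exact (Nat.pow_dvd_pow_iff_le_right hp.one_lt).1 this
  obtain ⟨M, hMn, -, hMc⟩ := CfsgLib.OddOrder.BG4.exists_normal_card_le hGp (⊤ : Subgroup G) (n - 2)
    (by rw [Subgroup.card_top, hG]; exact Nat.pow_le_pow_right hp.pos (by omega))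
  haveI := hMn
  have hL1 : (⊤ : Subgroup G).lowerCentralSeries 1 = commutator G := by
    rw [Subgroup.lowerCentralSeries_succ, Subgroup.lowerCentralSeries_zero, _root_.commutator_def]
  have hderM : commutator G ≤ M := by
    have hQ : Nat.card (G ⧸ M) = p ^ 2 := by
      have := Subgroup.card_mul_index M
      rw [hMc, hG, show p ^ n = p ^ (n - 2) * p ^ 2 by rw [← pow_add]; congr 1; omega] at this
      exact Nat.eq_of_mul_eq_mul_left (pow_pos hp.pos _) this
    rw [_root_.commutator_def, Subgroup.commutator_le]
    intro x _ y _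
    rw [← QuotientGroup.eq_one_iff]
    show QuotientGroup.mk' M ⁅x, y⁆ = 1
    rw [map_commutatorElement, commutatorElement_eq_one_iff_mul_comm]
    exact IsPGroup.commutative_of_card_eq_prime_sq hQ _ _
  -- the lower central series
  have hne : ∀ k, k ≤ n - 2 → (⊤ : Subgroup G).lowerCentralSeries k ≠ ⊥ := fun k hk h => by
    have := Subgroup.lowerCentralSeries_eq_bot_iff_nilpotencyClass_le.1 h
    omega
  have hlt : ∀ k, k ≤ n - 2 →
      (⊤ : Subgroup G).lowerCentralSeries (k + 1) < (⊤ : Subgroup G).lowerCentralSeries k := by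
    intro k hk
    refine lt_of_le_of_ne (Subgroup.lowerCentralSeries_antitone _ k.le_succ) fun e => hne k hk ?_
    have hst : ∀ i, (⊤ : Subgroup G).lowerCentralSeries (k + i) = (⊤ : Subgroup G).lowerCentralSeries k := by
      intro i
      induction i with
      | zero => rfl
      | succ i ih => rw [← add_assoc, Subgroup.lowerCentralSeries_succ, ih, ← Subgroup.lowerCentralSeries_succ, e]
    rw [← hst (Group.nilpotencyClass G), eq_bot_iff]
    exact (Subgroup.lowerCentralSeries_antitone _ (Nat.le_add_left _ k)).trans
      Subgroup.lowerCentralSeries_nilpotencyClass.le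
  have hL : ∀ k, 1 ≤ k → k ≤ n - 1 →
      Nat.card ((⊤ : Subgroup G).lowerCentralSeries k) = p ^ (n - 1 - k) := by
    have hup : ∀ k, 1 ≤ k → k ≤ n - 1 →
        Nat.card ((⊤ : Subgroup G).lowerCentralSeries k) ≤ p ^ (n - 1 - k) := by
      intro k hk
      induction k, hk using Nat.le_induction with
      | base =>
        intro _
        rw [hL1, show n - 1 - 1 = n - 2 by omega, ← hMc]
        exact Subgroup.card_le_of_le hderM
      | succ k hk ih =>
        intro hkn
        have h1 := CfsgLib.PMaxClass.card_mul_le_of_lt hGp (hlt k (by omega))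
        have h2 := h1.trans (ih (by omega))
        rw [show n - 1 - k = (n - 1 - (k + 1)) + 1 by omega, pow_succ] at h2
        exact Nat.le_of_mul_le_mul_right h2 hp.pos
    have hlow : ∀ i k, i + k = n - 1 → p ^ i ≤ Nat.card ((⊤ : Subgroup G).lowerCentralSeries k) := by
      intro i
      induction i with
      | zero => intro k _; rw [pow_zero]; exact Nat.card_pos
      | succ i ih =>
        intro k hk
        have h1 := CfsgLib.PMaxClass.card_mul_le_of_lt hGp (hlt k (by omega))
        rw [pow_succ]
        exact (Nat.mul_le_mul_right p (ih (k + 1) (by omega))).trans h1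
    exact fun k hk hkn => le_antisymm (hup k hk hkn) (hlow _ k (by omega))
  refine ⟨fun N _ r hr hN => ?_, ?_⟩
  · obtain ⟨j, hj, hjn⟩ := hcard N
    have h1 := Subgroup.card_mul_index N
    rw [hj, hN, hG, ← pow_add] at h1
    have h2 := Nat.pow_right_injective hp.two_le h1
    rw [hM.normal_eq_upper (i := j) (by omega) hj]
    refine (hM.normal_eq_upper (i := j) (by omega) ?_).symm
    rw [hL (r - 1) (by omega) (by omega)]
    congr 1
    omega
  · have hderc : Nat.card ↥(commutator G) = p ^ (n - 2) := by
      rw [← hL1, hL 1 le_rfl (by omega)]; rfl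
    have hQ : Nat.card (G ⧸ commutator G) = p ^ 2 := by
      have := Subgroup.card_mul_index (commutator G)
      rw [hderc, hG, show p ^ n = p ^ (n - 2) * p ^ 2 by rw [← pow_add]; congr 1; omega] at this
      exact Nat.eq_of_mul_eq_mul_left (pow_pos hp.pos _) this
    have hexp : ∀ a : G ⧸ commutator G, a ^ p = 1 := by
      intro a
      obtain ⟨i, hi, hai⟩ := (Nat.dvd_prime_pow hp).1 (hQ ▸ orderOf_dvd_natCard a)
      rw [← orderOf_dvd_iff_pow_eq_one, hai]
      rcases (by omega : i ≤ 1 ∨ i = 2) with h | rfl
      · calc p ^ i ∣ p ^ 1 := pow_dvd_pow _ h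
          _ = p := pow_one p
      · exfalso
        obtain ⟨g, rfl⟩ := QuotientGroup.mk_surjective a
        have htop : Subgroup.zpowers g ⊔ ⁅(⊤ : Subgroup G), ⊤⁆ = ⊤ := by
          have h1 : Subgroup.zpowers (g : G ⧸ commutator G) = ⊤ :=
            Subgroup.eq_top_of_card_eq _ (by rw [Nat.card_zpowers, hai, hQ])
          have h2 := congrArg (Subgroup.comap (QuotientGroup.mk' (commutator G))) h1
          rw [← QuotientGroup.mk'_apply, ← MonoidHom.map_zpowers, Subgroup.comap_map_eq,
            QuotientGroup.ker_mk', Subgroup.comap_top, _root_.commutator_def] at h2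
          exact h2
        have hle := CfsgLib.RegularPGroups.le_of_le_sup_commutator hGp (H := ⊤) le_top htop.ge
        have hcl1 : (⊤ : Subgroup G).lowerCentralSeries 1 = ⊥ := by
          rw [hL1, _root_.commutator_def, eq_bot_iff, Subgroup.commutator_le]
          intro x _ y _
          rw [Subgroup.mem_bot, commutatorElement_eq_one_iff_mul_comm]
          exact CfsgLib.RegularPGroups.commute_of_mem_zpowers (hle (Subgroup.mem_top x)) (hle (Subgroup.mem_top y))
        exact hne 1 (by omega) hcl1
    have hder : ∀ N : Subgroup G, N.Normal → N.index = p → commutator G ≤ N := by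
      intro N hNn hNi
      haveI : IsCyclic (G ⧸ N) := isCyclic_of_prime_card hNi
      obtain ⟨gen, hgen⟩ := IsCyclic.exists_generator (α := G ⧸ N)
      rw [_root_.commutator_def, Subgroup.commutator_le]
      intro x _ y _
      rw [← QuotientGroup.eq_one_iff]
      show QuotientGroup.mk' N ⁅x, y⁆ = 1
      rw [map_commutatorElement, commutatorElement_eq_one_iff_mul_comm]
      exact CfsgLib.RegularPGroups.commute_of_mem_zpowers (hgen _) (hgen _)
    haveI : Fintype (G ⧸ commutator G) := Fintype.ofFinite _
    haveI : Fintype (Subgroup (G ⧸ commutator G)) := Fintype.ofFinite _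
    have hπ := QuotientGroup.mk'_surjective (commutator G)
    let e : {N : Subgroup G // N.Normal ∧ N.index = p} ≃ {Z : Subgroup (G ⧸ commutator G) // Nat.card Z = p} :=
      { toFun := fun N => ⟨N.1.map (QuotientGroup.mk' _), by
          have h1 := Subgroup.card_mul_index (N.1.map (QuotientGroup.mk' (commutator G)))
          rw [Subgroup.index_map_eq _ hπ (by rw [QuotientGroup.ker_mk']; exact hder N.1 N.2.1 N.2.2),
            N.2.2, hQ, sq] at h1
          exact Nat.eq_of_mul_eq_mul_right hp.pos h1⟩
        invFun := fun Z => ⟨Z.1.comap (QuotientGroup.mk' _), by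
          refine ⟨Subgroup.Normal.comap ⟨fun z hz w => ?_⟩ _, ?_⟩
          · rw [IsPGroup.commutative_of_card_eq_prime_sq hQ w z, mul_inv_cancel_right]; exact hz
          · rw [Subgroup.index_comap_of_surjective _ hπ]
            have h1 := Subgroup.card_mul_index Z.1
            rw [Z.2, hQ, sq] at h1
            exact Nat.eq_of_mul_eq_mul_left hp.pos h1⟩
        left_inv := fun N => Subtype.ext (by
          show (N.1.map _).comap _ = N.1
          rw [Subgroup.comap_map_eq, QuotientGroup.ker_mk', sup_eq_left.2 (hder N.1 N.2.1 N.2.2)])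
        right_inv := fun Z => Subtype.ext (Subgroup.map_comap_eq_self_of_surjective hπ _) }
    rw [Nat.card_congr e, Nat.card_eq_fintype_card, Fintype.card_subtype]
    exact CfsgLib.Transitivity.card_lines hexp hQ

end Cfsg.Agent.S0662
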