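import Cfsg.Statements.S0663
import Cfsg.Agent.OddOrder.BG4.Basic
import Cfsg.Agent.PLocal.Stability
import Cfsg.Agent.PLocal.CommutatorFacts

set_option autoImplicit false
open Cfsg

namespace Cfsg.Agent.S0663

open scoped commutatorElement
namespace Aux

variable {L : Type*} [Group L] [Finite L] {p : ℕ} [Fact p.Prime] {N G : Subgroup L}

theorem normalizes_commutator {H : Subgroup L} :
    G ≤ Subgroup.normalizer ((⁅H, G⁆ : Subgroup L) : Set L) :=
  le_sup_right.trans (CfsgLib.Coprime.sup_le_normalizer_commutator H G)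

theorem commutator_le_self {H : Subgroup L} (hGH : G ≤ Subgroup.normalizer (H : Set L)) :
    ⁅H, G⁆ ≤ H :=
  CfsgLib.Coprime.commutator_le_of_le_normalizer hGH

theorem isPGroup_sup (hN : IsPGroup p N) (hG : IsPGroup p G)
    (hGN : G ≤ Subgroup.normalizer (N : Set L)) : IsPGroup p ↥(G ⊔ N) :=
  IsPGroup.to_sup_of_normal_right' hG hN hGN

theorem commutator_lt (hN : IsPGroup p N) (hG : IsPGroup p G)
    (hGN : G ≤ Subgroup.normalizer (N : Set L)) {H : Subgroup L} (hHN : H ≤ N)
    (hGH : G ≤ Subgroup.normalizer (H : Set L)) (hne : H ≠ ⊥) : ⁅H, G⁆ < H := by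
  refine lt_of_le_of_ne (commutator_le_self hGH) fun heq => hne ?_
  set P := G ⊔ H
  have hP : IsPGroup p P :=
    (isPGroup_sup hN hG hGN).to_le (sup_le le_sup_left (hHN.trans le_sup_right))
  haveI := hP.isNilpotent
  haveI hHn : (H.subgroupOf P).Normal :=
    Subgroup.normal_subgroupOf_of_le_normalizer (sup_le hGH Subgroup.le_normalizer)
  have h1 : H.subgroupOf P ≤ ⁅H.subgroupOf P, (⊤ : Subgroup P)⁆ := by
    intro x hx
    have hx' : (x : L) ∈ ⁅H.subgroupOf P, (⊤ : Subgroup P)⁆.map P.subtype := by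
      rw [Subgroup.map_commutator, Subgroup.subgroupOf_map_subtype, ← MonoidHom.range_eq_map,
        Subgroup.range_subtype, inf_eq_left.2 (le_sup_right : H ≤ P)]
      exact Subgroup.commutator_mono le_rfl le_sup_left (heq.ge hx)
    obtain ⟨y, hy, hyx⟩ := hx'
    rwa [← Subtype.ext hyx]
  have h2 := CfsgLib.PLocal.eq_bot_of_le_commutator_top h1
  rwa [Subgroup.subgroupOf_eq_bot, disjoint_iff, inf_eq_left.2 (le_sup_right : H ≤ P)] at h2

theorem card_mul_le (hN : IsPGroup p N) {H K : Subgroup L} (hHN : H ≤ N) (h : K < H) :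
    Nat.card K * p ≤ Nat.card H := by
  obtain ⟨a, ha⟩ := IsPGroup.iff_card.1 (hN.to_le (h.le.trans hHN))
  obtain ⟨b, hb⟩ := IsPGroup.iff_card.1 (hN.to_le hHN)
  have h1 : Nat.card K < Nat.card H :=
    Set.ncard_lt_ncard (SetLike.coe_ssubset_coe.mpr h) (Set.toFinite _)
  rw [ha, hb] at h1 ⊢
  rw [← pow_succ]
  exact Nat.pow_le_pow_right (Fact.out : p.Prime).pos
    ((Nat.pow_lt_pow_iff_right (Fact.out : p.Prime).one_lt).1 h1)

theorem iter_le (hGN : G ≤ Subgroup.normalizer (N : Set L)) :
    ∀ i, Cfsg.iterCommutator N G i ≤ N ∧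
      G ≤ Subgroup.normalizer (Cfsg.iterCommutator N G i : Set L) := by
  intro i
  induction i with
  | zero => exact ⟨le_rfl, hGN⟩
  | succ i ih => exact ⟨(commutator_le_self ih.2).trans ih.1, normalizes_commutator⟩

theorem iter_antitone (hGN : G ≤ Subgroup.normalizer (N : Set L)) :
    Antitone (Cfsg.iterCommutator N G) :=
  antitone_nat_of_succ_le fun i => commutator_le_self (iter_le hGN i).2

/-- A long chain has steps of index `p`. -/
theorem card_iter (hN : IsPGroup p N) (hG : IsPGroup p G)
    (hGN : G ≤ Subgroup.normalizer (N : Set L)) {n : ℕ} (hn : Nat.card N = p ^ n)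
    (h : Cfsg.iterCommutator N G (n - 1) ≠ ⊥ ∨ n = 0) :
    ∀ i ≤ n, Nat.card (Cfsg.iterCommutator N G i) = p ^ (n - i) := by
  have hne : ∀ i < n, Cfsg.iterCommutator N G i ≠ ⊥ := fun i hi hbot => by
    rcases h with h | h
    · exact h (le_bot_iff.1 (hbot ▸ iter_antitone hGN (by omega : i ≤ n - 1)))
    · omega
  have hup : ∀ i ≤ n, Nat.card (Cfsg.iterCommutator N G i) ≤ p ^ (n - i) := by
    intro i hi
    induction i with
    | zero => exact hn.le
    | succ i ih =>
      have h1 := (card_mul_le hN (iter_le hGN i).1 (commutator_lt hN hG hGN (iter_le hGN i).1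
        (iter_le hGN i).2 (hne i (by omega)))).trans (ih (by omega))
      rw [show n - i = n - (i + 1) + 1 by omega, pow_succ] at h1
      exact Nat.le_of_mul_le_mul_right h1 (Fact.out : p.Prime).pos
  have hlo : ∀ j ≤ n, p ^ j ≤ Nat.card (Cfsg.iterCommutator N G (n - j)) := by
    intro j hj
    induction j with
    | zero => exact Nat.card_pos
    | succ j ih =>
      have h1 := card_mul_le hN (iter_le hGN (n - (j + 1))).1 (commutator_lt hN hG hGN
        (iter_le hGN (n - (j + 1))).1 (iter_le hGN (n - (j + 1))).2 (hne _ (by omega)))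
      rw [pow_succ]
      refine le_trans (Nat.mul_le_mul_right p (ih (by omega))) ?_
      rw [show n - j = n - (j + 1) + 1 by omega]
      exact h1
  intro i hi
  refine le_antisymm (hup i hi) ?_
  have := hlo (n - i) (by omega)
  rwa [show n - (n - i) = i by omega] at this

/-- In a long chain every term is normalised by `N`. -/
theorem iter_normal (hN : IsPGroup p N) (hG : IsPGroup p G)
    (hGN : G ≤ Subgroup.normalizer (N : Set L)) {n : ℕ} (hn : Nat.card N = p ^ n)
    (h : Cfsg.iterCommutator N G (n - 1) ≠ ⊥ ∨ n = 0) :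
    ∀ i, N ≤ Subgroup.normalizer (Cfsg.iterCommutator N G i : Set L) := by
  have hc := card_iter hN hG hGN hn h
  have hbot : ∀ i, n ≤ i → Cfsg.iterCommutator N G i = ⊥ := fun i hi =>
    le_bot_iff.1 ((iter_antitone hGN hi).trans_eq (Subgroup.card_eq_one.1 (by simpa using hc n le_rfl)))
  intro i
  induction i with
  | zero => exact Subgroup.le_normalizer
  | succ i ih =>
    rcases Nat.lt_or_ge i n with hlt | hge
    · set P := G ⊔ N
      set A := Cfsg.iterCommutator N G i
      have hP : IsPGroup p P := isPGroup_sup hN hG hGN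
      have hAP : A ≤ P := (iter_le hGN i).1.trans le_sup_right
      haveI hAn : (A.subgroupOf P).Normal :=
        Subgroup.normal_subgroupOf_of_le_normalizer (sup_le (iter_le hGN i).2 ih)
      have hA : Nat.card (A.subgroupOf P) = p ^ (n - (i + 1) + 1) := by
        rw [Nat.card_congr (Subgroup.subgroupOfEquivOfLe hAP).toEquiv, hc i hlt.le]
        congr 1
        omega
      obtain ⟨M, hMn, hMA, hM⟩ := CfsgLib.OddOrder.BG4.exists_normal_card_le hP (A.subgroupOf P)
        (n - (i + 1)) (hA ▸ Nat.pow_le_pow_right (Fact.out : p.Prime).pos (Nat.le_succ _))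
      haveI := hMn
      have hle : Cfsg.iterCommutator N G (i + 1) ≤ M.map P.subtype := by
        show ⁅A, G⁆ ≤ _
        rw [Subgroup.commutator_le]
        intro x hx g hg
        have hxP := hAP hx
        have hgP : g ∈ P := (le_sup_left : G ≤ P) hg
        haveI : ((A.subgroupOf P).map (QuotientGroup.mk' M)).Normal :=
          hAn.map _ (QuotientGroup.mk'_surjective M)
        have hcard : Nat.card ((A.subgroupOf P).map (QuotientGroup.mk' M)) = p := by
          have h1 := Subgroup.relIndex_ker (K := A.subgroupOf P) (QuotientGroup.mk' M)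
          rw [QuotientGroup.ker_mk'] at h1
          have h2 := CfsgLib.PLocal.card_mul_relIndex hMA
          rw [hM, hA, pow_succ, h1] at h2
          exact Nat.eq_of_mul_eq_mul_left (pow_pos (Fact.out : p.Prime).pos _) h2
        have hcz := CfsgLib.OddOrder.BG4.le_center_of_normal_card_prime (hP.to_quotient M) hcard
          (Subgroup.mem_map_of_mem (QuotientGroup.mk' M) (show (⟨x, hxP⟩ : P) ∈ A.subgroupOf P from hx))
        refine ⟨⁅(⟨x, hxP⟩ : P), ⟨g, hgP⟩⁆, ?_, rfl⟩
        rw [SetLike.mem_coe, ← QuotientGroup.eq_one_iff, ← QuotientGroup.mk'_apply,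
          map_commutatorElement, commutatorElement_eq_one_iff_mul_comm]
        exact (Subgroup.mem_center_iff.1 hcz _).symm
      have heq : Cfsg.iterCommutator N G (i + 1) = M.map P.subtype := by
        refine Subgroup.eq_of_le_of_card_ge hle ?_
        rw [Nat.card_congr (M.equivMapOfInjective _ P.subtype_injective).symm.toEquiv, hM,
          hc (i + 1) hlt]
      rw [heq]
      have h1 := Subgroup.le_normalizer_map (H := M) P.subtype
      rw [Subgroup.normalizer_eq_top, ← MonoidHom.range_eq_map, Subgroup.range_subtype] at h1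
      exact le_sup_right.trans h1
    · rw [hbot (i + 1) (by omega), Subgroup.normalizer_eq_top]
      exact le_top

/-- In a long chain every invariant subgroup is a term. -/
theorem eq_iter (hN : IsPGroup p N) (hG : IsPGroup p G)
    (hGN : G ≤ Subgroup.normalizer (N : Set L)) {n : ℕ} (hn : Nat.card N = p ^ n)
    (h : Cfsg.iterCommutator N G (n - 1) ≠ ⊥ ∨ n = 0) {H : Subgroup L} (hHN : H ≤ N)
    (hGH : G ≤ Subgroup.normalizer (H : Set L)) : ∃ i ≤ n, H = Cfsg.iterCommutator N G i := by
  classical
  have hc := card_iter hN hG hGN hn h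
  have hbot : Cfsg.iterCommutator N G n = ⊥ := Subgroup.card_eq_one.1 (by simpa using hc n le_rfl)
  set i := Nat.findGreatest (fun i => H ≤ Cfsg.iterCommutator N G i) n with hi
  have hin : i ≤ n := Nat.findGreatest_le n
  have hHi : H ≤ Cfsg.iterCommutator N G i :=
    Nat.findGreatest_spec (P := fun i => H ≤ Cfsg.iterCommutator N G i) (Nat.zero_le n) hHN
  refine ⟨i, hin, le_antisymm hHi ?_⟩
  rcases eq_or_lt_of_le hin with heq | hlt
  · rw [heq, hbot]; exact bot_le
  have hnot : ¬ H ≤ Cfsg.iterCommutator N G (i + 1) :=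
    Nat.findGreatest_is_greatest (P := fun i => H ≤ Cfsg.iterCommutator N G i) (n := n)
      (by omega) (by omega)
  have hstep : Cfsg.iterCommutator N G i ≤ H ⊔ Cfsg.iterCommutator N G (i + 1) := by
    refine (Subgroup.eq_of_le_of_card_ge (sup_le hHi (iter_antitone hGN i.le_succ)) ?_).ge
    have h1 := card_mul_le hN (sup_le hHN (iter_le hGN (i + 1)).1)
      (lt_of_le_of_ne (le_sup_right : Cfsg.iterCommutator N G (i + 1) ≤ H ⊔ _)
        fun h' => hnot (h' ▸ le_sup_left))
    rw [hc _ (by omega), ← pow_succ, show n - (i + 1) + 1 = n - i by omega] at h1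
    rwa [hc i hin]
  have hall : ∀ j, Cfsg.iterCommutator N G i ≤ H ⊔ Cfsg.iterCommutator N G (i + 1 + j) := by
    intro j
    induction j with
    | zero => exact hstep
    | succ j ih =>
      refine hstep.trans (sup_le le_sup_left ?_)
      show ⁅Cfsg.iterCommutator N G i, G⁆ ≤ _
      rw [Subgroup.commutator_le]
      intro x hx g hg
      set B := Cfsg.iterCommutator N G (i + 1 + j)
      obtain ⟨u, hu, v, hv, rfl⟩ := (Set.ext_iff.1 (Subgroup.coe_mul_of_left_le_normalizer_right H B
        (hHN.trans (iter_normal hN hG hGN hn h (i + 1 + j)))) x).1 (ih hx)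
      rw [show ⁅u * v, g⁆ = u * ⁅v, g⁆ * u⁻¹ * ⁅u, g⁆ by simp only [commutatorElement_def]; group]
      refine Subgroup.mul_mem _ ((le_sup_right : Cfsg.iterCommutator N G (i + 1 + (j + 1)) ≤ H ⊔ _)
        ?_) ((le_sup_left : H ≤ H ⊔ _) ?_)
      · exact (Subgroup.mem_normalizer_iff.1
          (iter_normal hN hG hGN hn h (i + 1 + (j + 1)) (hHN hu)) _).1
          (Subgroup.commutator_mem_commutator hv hg)
      · rw [commutatorElement_def, mul_assoc, mul_assoc, ← mul_assoc g]
        exact H.mul_mem hu ((Subgroup.mem_normalizer_iff.1 (hGH hg) _).1 (H.inv_mem hu))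
  have := hall (n - (i + 1))
  rwa [show i + 1 + (n - (i + 1)) = n by omega, hbot, sup_bot_eq] at this

end Aux

/-- A p-group acts uniserially on a p-group N of order p^n exactly when the iterated commutator chain from N has length n; in that case the chain terms are all the invariant subgroups of N and they are normal in N. -/
theorem result {L : Type*} [Group L] [Finite L] {p : ℕ} [Fact p.Prime] (N G : Subgroup L) (hN : IsPGroup p N) (hG : IsPGroup p G) (hGN : G ≤ Subgroup.normalizer (N : Set L)) (n : ℕ) (hn : Nat.card N = p ^ n) : ((∀ H : Subgroup L, H ≤ N → G ≤ Subgroup.normalizer (H : Set L) → H ≠ ⊥ → (⁅H, G⁆).relIndex H = p) ↔ Cfsg.iterCommutator N G (n - 1) ≠ ⊥ ∨ n = 0) ∧ ((∀ H : Subgroup L, H ≤ N → G ≤ Subgroup.normalizer (H : Set L) → H ≠ ⊥ → (⁅H, G⁆).relIndex H = p) → ∀ H : Subgroup L, H ≤ N → G ≤ Subgroup.normalizer (H : Set L) → (∃ i ≤ n, H = Cfsg.iterCommutator N G i) ∧ N ≤ Subgroup.normalizer (H : Set L)) := by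
  have main : (∀ H : Subgroup L, H ≤ N → G ≤ Subgroup.normalizer (H : Set L) → H ≠ ⊥ →
      (⁅H, G⁆).relIndex H = p) → Cfsg.iterCommutator N G (n - 1) ≠ ⊥ ∨ n = 0 := by
    intro hu
    rcases Nat.eq_zero_or_pos n with h0 | hpos
    · exact Or.inr h0
    have hcard : ∀ i ≤ n, Nat.card (Cfsg.iterCommutator N G i) = p ^ (n - i) := by
      intro i hi
      induction i with
      | zero => exact hn
      | succ i ih =>
        obtain ⟨hle, hnz⟩ := Aux.iter_le hGN i
        have hi' := ih (by omega)
        have hne : Cfsg.iterCommutator N G i ≠ ⊥ := fun hb => by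
          rw [hb, Subgroup.card_bot] at hi'
          have h3 : (1 : ℕ) < p ^ (n - i) := Nat.one_lt_pow (by omega) (Fact.out : p.Prime).one_lt
          omega
        have h1 : Nat.card (Cfsg.iterCommutator N G (i + 1)) * p =
            Nat.card (Cfsg.iterCommutator N G i) := by
          rw [← hu _ hle hnz hne]
          exact CfsgLib.PLocal.card_mul_relIndex (Aux.commutator_le_self hnz)
        rw [hi', show n - i = n - (i + 1) + 1 by omega, pow_succ] at h1
        exact Nat.eq_of_mul_eq_mul_right (Fact.out : p.Prime).pos h1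
    refine Or.inl fun hb => ?_
    have h2 := hcard (n - 1) (by omega)
    rw [hb, Subgroup.card_bot, show n - (n - 1) = 1 by omega, pow_one] at h2
    exact (Fact.out : p.Prime).one_lt.ne h2
  refine ⟨⟨main, fun h H hHN hGH hne => ?_⟩, fun hu H hHN hGH => ?_⟩
  · obtain ⟨i, hi, rfl⟩ := Aux.eq_iter hN hG hGN hn h hHN hGH
    have hc := Aux.card_iter hN hG hGN hn h
    have hlt : i < n := lt_of_le_of_ne hi fun heq => hne
      (Subgroup.card_eq_one.1 (by rw [hc i hi, heq, Nat.sub_self, pow_zero]))
    have h1 := CfsgLib.PLocal.card_mul_relIndex (Aux.commutator_le_self hGH)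
    rw [show ⁅Cfsg.iterCommutator N G i, G⁆ = Cfsg.iterCommutator N G (i + 1) from rfl,
      hc i hi, hc (i + 1) hlt, show n - i = n - (i + 1) + 1 by omega, pow_succ] at h1
    exact Nat.eq_of_mul_eq_mul_left (pow_pos (Fact.out : p.Prime).pos _) h1
  · obtain ⟨i, hi, rfl⟩ := Aux.eq_iter hN hG hGN hn (main hu) hHN hGH
    exact ⟨⟨i, hi, rfl⟩, Aux.iter_normal hN hG hGN hn (main hu) i⟩

end Cfsg.Agent.S0663
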