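import Cfsg.Statements.S0666
import Cfsg.Agent.S0035
import Cfsg.Agent.OddOrder.BG3.Frobenius
import Cfsg.Agent.Solvable.FrobeniusBasic

set_option autoImplicit false
open Cfsg

namespace Cfsg.Agent.S0666

/-- A Frobenius group acting on a nontrivial abelian group of order prime to that of its kernel, with the kernel acting without nontrivial fixed points, has a complement with a nontrivial fixed point. -/
theorem result {G : Type*} [Group G] [Finite G] (V F : Subgroup G) (hVab : IsMulCommutative V) (hV1 : V ≠ ⊥) (hFV : F ≤ Subgroup.normalizer (V : Set G)) (H : Subgroup ↥F) (hH : Cfsg.IsFrobeniusComplement H) (hcop : (Nat.card V).Coprime (Nat.card (Cfsg.frobeniusKernel H))) (hCK : V ⊓ Subgroup.centralizer (Subtype.val '' Cfsg.frobeniusKernel H : Set G) = ⊥) : V ⊓ Subgroup.centralizer ((H.map F.subtype : Subgroup G) : Set G) ≠ ⊥ := by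
  obtain ⟨N, hN, hNn, hc⟩ := Cfsg.Agent.S0035.result H hH
  haveI := hNn
  have hN1 : N ≠ ⊥ := by
    rintro rfl
    exact hH.2.1 (Subgroup.isComplement'_bot_left.1 hc)
  have hfpf := (CfsgLib.Solvable.isFrobeniusComplement_iff_fpf hc hN1 hH.1).1 hH
  intro hfix
  have hle : N.map F.subtype ≤ Subgroup.centralizer (V : Set G) := by
    refine CfsgLib.OddOrder.le_centralizer_of_frobenius_action hVab ?_
      ((Subgroup.map_subtype_le N).trans hFV) ((Subgroup.map_subtype_le H).trans hFV) ?_ ?_ hfix
    · have h1 : H.map F.subtype ≤ (Subgroup.normalizer (N : Set F)).map F.subtype := by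
        rw [Subgroup.normalizer_eq_top]; exact Subgroup.map_mono le_top
      exact h1.trans (Subgroup.le_normalizer_map F.subtype)
    · rintro _ ⟨r, hr, rfl⟩ hr1
      rw [Subgroup.eq_bot_iff_forall]
      rintro _ ⟨⟨k, hk, rfl⟩, hkc⟩
      have hkm : k ∈ N ⊓ Subgroup.centralizer {r} := by
        refine ⟨hk, fun y hy => ?_⟩
        rw [Set.mem_singleton_iff.1 hy]
        exact Subtype.ext (hkc _ rfl)
      rw [hfpf r hr (fun h => hr1 (by simp [h])), Subgroup.mem_bot] at hkm
      simp [hkm]
    · rw [Nat.card_congr (N.equivMapOfInjective _ F.subtype_injective).symm.toEquiv, Nat.coprime_comm]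
      rw [← hN] at hcop
      simpa using hcop
  refine hV1 ?_
  rw [← hCK, eq_comm, inf_eq_left]
  intro v hv
  rw [← hN, Subgroup.mem_centralizer_iff]
  rintro _ ⟨n, hn, rfl⟩
  exact (hle ⟨n, hn, rfl⟩ v hv).symm

end Cfsg.Agent.S0666
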