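import Cfsg.Statements.S0668
import Mathlib
-- import your own Cfsg.Agent.* helpers here

set_option autoImplicit false
open Cfsg

namespace Cfsg.Agent.S0668

/-- The equivariant linear maps between the permutation modules of two finite `G`-sets form a space whose dimension is the number of `G`-orbits on the product of the two sets. -/
theorem result {G : Type*} [Group G] {K : Type*} [Field K] {Ω₁ Ω₂ : Type*} [Fintype Ω₁] [Fintype Ω₂] [MulAction G Ω₁] [MulAction G Ω₂] : Module.finrank K ((Cfsg.permRep K G Ω₁).linHom (Cfsg.permRep K G Ω₂)).invariants = Nat.card (MulAction.orbitRel.Quotient G (Ω₁ × Ω₂)) := by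
  classical
  let Q := MulAction.orbitRel.Quotient G (Ω₁ × Ω₂)
  let ρ := (Cfsg.permRep K G Ω₁).linHom (Cfsg.permRep K G Ω₂)
  -- the matrix of a linear map
  let mat : ((Ω₁ → K) →ₗ[K] (Ω₂ → K)) ≃ₗ[K] (Ω₁ × Ω₂ → K) :=
    (LinearMap.toMatrix' : ((Ω₁ → K) →ₗ[K] (Ω₂ → K)) ≃ₗ[K] Matrix Ω₂ Ω₁ K) ≪≫ₗ
      { toFun := fun M p => M p.2 p.1
        map_add' := fun _ _ => rfl
        map_smul' := fun _ _ => rfl
        invFun := fun f => Matrix.of fun j i => f (i, j)
        left_inv := fun _ => rfl
        right_inv := fun _ => rfl }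
  have hmat : ∀ (g : G) (T : (Ω₁ → K) →ₗ[K] (Ω₂ → K)) (p : Ω₁ × Ω₂),
      mat (ρ g T) p = mat T (g⁻¹ • p) := by
    intro g T p
    show (LinearMap.toMatrix' (ρ g T)) p.2 p.1 = (LinearMap.toMatrix' T) (g⁻¹ • p.2) (g⁻¹ • p.1)
    rw [LinearMap.toMatrix'_apply, LinearMap.toMatrix'_apply]
    show T (fun x => (Pi.single p.1 (1:K) : Ω₁ → K) (g⁻¹⁻¹ • x)) (g⁻¹ • p.2) = _
    have : (fun x => (Pi.single p.1 (1:K) : Ω₁ → K) (g⁻¹⁻¹ • x)) = Pi.single (g⁻¹ • p.1) 1 :=
      funext fun x => by simp [Pi.single_apply, eq_inv_smul_iff]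
    rw [this]
  let L : ρ.invariants ≃ₗ[K] (Q → K) :=
    { toFun := fun T => Quotient.lift (mat T.1) (by
        rintro p q ⟨g, rfl⟩
        have := congrFun (congrArg mat (T.2 g⁻¹)) q
        rw [hmat, inv_inv] at this
        exact this)
      map_add' := fun S T => funext fun q => by
        induction q using Quotient.inductionOn with | h p => ?_
        simp
      map_smul' := fun c T => funext fun q => by
        induction q using Quotient.inductionOn with | h p => ?_
        simp
      invFun := fun f => ⟨mat.symm (fun p => f (Quotient.mk _ p)), fun g => by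
        apply mat.injective
        funext p
        rw [hmat, LinearEquiv.apply_symm_apply]
        exact congrArg f (Quotient.sound ⟨g⁻¹, rfl⟩)⟩
      left_inv := fun T => by
        apply Subtype.ext
        exact mat.symm_apply_apply T.1
      right_inv := fun f => funext fun q => by
        induction q using Quotient.inductionOn with | h p => ?_
        simp [mat.apply_symm_apply] }
  have : Fintype Q := Fintype.ofFinite _
  rw [L.finrank_eq, Module.finrank_pi, Fintype.card_eq_nat_card]

end Cfsg.Agent.S0668
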