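import Cfsg.Statements.S0677
import Mathlib
import Cfsg.Agent.Perm.PrimeSylow
import Cfsg.Agent.Perm.Basic
import Cfsg.Agent.Perm.NormalMultiply
import Cfsg.Agent.S0676
import Cfsg.Agent.Coprime.SchurZassenhaus
-- import your own Cfsg.Agent.* helpers here

set_option autoImplicit false
open Cfsg
open scoped Pointwise

namespace Cfsg.Agent.S0677

/-- In a transitive permutation group of prime degree `p` whose Sylow `p`-normaliser has even order, the point stabilisers are the only subgroups of index `p`. -/
theorem result {α : Type*} [Fintype α] [DecidableEq α] {p : ℕ} [Fact p.Prime] (hα : Fintype.card α = p) (G : Subgroup (Equiv.Perm α)) [MulAction.IsPretransitive G α] (P : Sylow p G) (heven : Even (Nat.card (Subgroup.normalizer ((P : Subgroup G) : Set G)))) (H : Subgroup G) (hH : H.index = p) : ∃ a : α, H = MulAction.stabilizer G a := by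
  classical
  have hp : p.Prime := Fact.out
  haveI : Finite G := Finite.of_fintype _
  haveI : Nonempty α := Fintype.card_pos_iff.1 (hα ▸ hp.pos)
  have hcardα : Nat.card α = p := by rw [Nat.card_eq_fintype_card, hα]
  have hHp : ¬ p ∣ Nat.card H := by
    intro hdvd
    apply CfsgLib.Perm.PrimeDegree.not_sq_dvd_card hα G
    rw [← Subgroup.card_mul_index H, hH, pow_two]
    exact Nat.mul_dvd_mul_right hdvd p
  have hstab : ∀ a : α, Nat.card (MulAction.stabilizer G a) = Nat.card H := by
    intro a
    have h1 := Subgroup.card_mul_index (MulAction.stabilizer G a)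
    rw [MulAction.index_stabilizer_of_transitive, hcardα, ← Subgroup.card_mul_index H, hH] at h1
    exact Nat.eq_of_mul_eq_mul_right hp.pos h1
  have hfix : ∀ a : α, (∀ h ∈ H, h • a = a) → ∃ a : α, H = MulAction.stabilizer G a := fun a ha =>
    ⟨a, Subgroup.eq_of_le_of_card_ge (fun h hh => ha h hh) (hstab a).le⟩
  by_cases hG : Group.IsSolvable G
  · -- a minimal normal subgroup is regular of order `p`
    have hnt : (⊤ : Subgroup G) ≠ ⊥ := by
      intro h
      have h1 := CfsgLib.Perm.PrimeDegree.dvd_card hα G
      rw [← Subgroup.card_top (G := G), h, Subgroup.card_bot, Nat.dvd_one] at h1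
      exact hp.ne_one h1
    obtain ⟨A, -, hA⟩ := exists_minimal_le_of_wellFoundedLT
      (fun L : Subgroup G => L.Normal ∧ L ≠ ⊥) ⊤ ⟨inferInstance, hnt⟩
    obtain ⟨hAn, hA0⟩ := hA.prop
    haveI := hAn
    haveI : MulAction.IsPreprimitive G α := MulAction.IsPreprimitive.of_prime_card (by rw [hcardα]; exact hp)
    haveI := CfsgLib.Perm.NormalMultiply.isPretransitive_of_ne_bot (α := α) A hA0
    haveI hAs : Group.IsSolvable A := inferInstance
    have hAab : ∀ x ∈ A, ∀ y ∈ A, x * y = y * x := by
      have hlt : ⁅(⊤ : Subgroup A), (⊤ : Subgroup A)⁆ ≠ (⊤ : Subgroup A) := by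
        haveI : Nontrivial A := (Subgroup.nontrivial_iff_ne_bot A).2 hA0
        exact (Group.IsSolvable.commutator_lt_top_of_nontrivial A).ne
      have hle : ⁅A, A⁆ ≤ A := Subgroup.commutator_le_left A A
      have hne : ⁅A, A⁆ ≠ A := by
        intro h
        apply hlt
        apply Subgroup.map_injective A.subtype_injective
        rw [Subgroup.map_commutator, ← MonoidHom.range_eq_map, Subgroup.range_subtype, h]
      have hbot : ⁅A, A⁆ = ⊥ := by
        by_contra h0
        exact hne (le_antisymm hle (hA.2 ⟨inferInstance, h0⟩ hle))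
      intro x hx y hy
      exact Subgroup.mem_centralizer_iff.1 ((Subgroup.commutator_eq_bot_iff_le_centralizer.1 hbot) hy) x hx
    haveI : IsMulCommutative A := ⟨⟨fun x y => Subtype.ext (hAab x x.2 y y.2)⟩⟩
    let a₀ : α := Classical.arbitrary α
    have hAp : Nat.card A = p := by
      rw [← hcardα, ← MulAction.index_stabilizer_of_transitive A a₀,
        CfsgLib.Perm.stabilizer_eq_bot_of_comm A hAab a₀, Subgroup.index_bot]
    have hidx : A.index = Nat.card H := by
      have h1 := Subgroup.card_mul_index A
      rw [hAp, ← Subgroup.card_mul_index H, hH, mul_comm (Nat.card H)] at h1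
      exact Nat.eq_of_mul_eq_mul_left hp.pos h1
    have hcop : (Nat.card A).Coprime A.index := by
      rw [hAp, hidx]; exact hp.coprime_iff_not_dvd.2 hHp
    have hcompl : ∀ L : Subgroup G, Nat.card L = Nat.card H → Subgroup.IsComplement' A L := by
      intro L hL
      refine Subgroup.isComplement'_of_coprime ?_ ?_
      · rw [hL, ← hidx, Subgroup.card_mul_index]
      · rw [hL, ← hidx]; exact hcop
    obtain ⟨n, -, hn⟩ := CfsgLib.Coprime.exists_conj_eq_of_isComplement'_of_abelian hcop
      (hcompl _ (hstab a₀)) (hcompl H rfl)
    refine hfix (n • a₀) (fun h hh => ?_)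
    rw [← hn, Subgroup.mem_pointwise_smul_iff_inv_smul_mem, ← map_inv, MulAut.smul_def,
      MulAut.conj_apply, inv_inv, MulAction.mem_stabilizer_iff, mul_smul, mul_smul,
      inv_smul_eq_iff] at hh
    exact hh
  · have h3 := Cfsg.Agent.S0676.result hα G hG P heven
    haveI : MulAction.IsMultiplyPretransitive G α 3 := h3
    have h5 : 3 < p := not_le.1 fun h => hG (CfsgLib.Perm.PrimeDegree.isSolvable_of_card_le_three hα h G)
    have h2 : MulAction.IsMultiplyPretransitive G α 2 :=
      MulAction.isMultiplyPretransitive_of_le' (n := 3) (by norm_num)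
        (by rw [ENat.card_eq_coe_fintype_card, hα]; exact_mod_cast h5.le)
    let a₀ : α := Classical.arbitrary α
    let D : Finset α := Finset.univ.filter (fun x => x ∈ MulAction.orbit H a₀)
    set k := D.card with hk
    have hkp : k < p := by
      rcases lt_or_eq_of_le (show k ≤ p from hα ▸ Finset.card_le_univ D) with h | h
      · exact h
      · exfalso
        apply hHp
        have he : (MulAction.orbit H a₀).ncard = k := by
          rw [hk, Set.ncard_eq_toFinset_card']; congr 1; ext; simp [D]
        rw [← h, ← he, ← MulAction.index_stabilizer]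
        exact Subgroup.index_dvd_card _
    have hDinv : ∀ h ∈ H, ∀ x, (h • x ∈ D ↔ x ∈ D) := by
      intro h hh x
      simp only [D, Finset.mem_filter, Finset.mem_univ, true_and]
      constructor
      · intro hx
        have := MulAction.mem_orbit_of_mem_orbit (⟨h, hh⟩⁻¹ : H) hx
        rwa [show (⟨h, hh⟩⁻¹ : H) • h • x = h⁻¹ • h • x from rfl, inv_smul_smul] at this
      · exact fun hx => MulAction.mem_orbit_of_mem_orbit (⟨h, hh⟩ : H) hx
    by_cases hk1 : k = 1
    · refine hfix a₀ (fun h hh => ?_)
      obtain ⟨z, hz⟩ := Finset.card_eq_one.1 (hk.symm.trans hk1)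
      have h0 : a₀ ∈ D := by simp [D, MulAction.mem_orbit_self]
      have h1 := (hDinv h hh a₀).2 h0
      rw [hz, Finset.mem_singleton] at h0 h1
      rw [h1, h0]
    by_cases hkp1 : k = p - 1
    · obtain ⟨z, hz⟩ := Finset.card_eq_one.1 (show (Finset.univ \ D).card = 1 by
        rw [Finset.card_sdiff_of_subset (Finset.subset_univ _), Finset.card_univ, hα, ← hk]; omega)
      refine hfix z (fun h hh => ?_)
      have h1 : h • z ∈ Finset.univ \ D := by
        have h0 : z ∈ Finset.univ \ D := hz ▸ Finset.mem_singleton_self z
        simp only [Finset.mem_sdiff, Finset.mem_univ, true_and] at h0 ⊢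
        rwa [hDinv h hh]
      rwa [hz, Finset.mem_singleton] at h1
    exfalso
    have hk2 : 2 ≤ k := by
      have : 0 < k := Finset.card_pos.2 ⟨a₀, by simp [D, MulAction.mem_orbit_self]⟩
      omega
    -- incidence of points and cosets of `H`
    haveI : Fintype (G ⧸ H) := Fintype.ofFinite _
    let I : α → G ⧸ H → Prop := fun x q => Quotient.liftOn' q (fun g => g⁻¹ • x ∈ D) (by
      intro g g' hgg'
      rw [QuotientGroup.leftRel_apply] at hgg'
      apply propext
      have e : g'⁻¹ • x = (g⁻¹ * g')⁻¹ • g⁻¹ • x := by rw [smul_smul]; group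
      rw [e, hDinv _ (inv_mem hgg')])
    have hI : ∀ (g : G) (x : α) q, I (g • x) (g • q) ↔ I x q := by
      intro g x q
      induction q using QuotientGroup.induction_on with | _ w => ?_
      show (g * w)⁻¹ • g • x ∈ D ↔ w⁻¹ • x ∈ D
      rw [mul_inv_rev, mul_smul, inv_smul_smul]
    let B : Finset α → Finset (G ⧸ H) := fun s => Finset.univ.filter (fun q => ∀ x ∈ s, I x q)
    have hB : ∀ (g : G) (s : Finset α), (B (s.image (g • ·))).card = (B s).card := by
      intro g s
      refine Finset.card_equiv (MulAction.toPerm g⁻¹) (fun q => ?_)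
      simp only [B, Finset.mem_filter, Finset.mem_univ, true_and, Finset.forall_mem_image,
        MulAction.toPerm_apply]
      refine forall_congr' fun x => forall_congr' fun _ => ?_
      rw [← hI g x (g⁻¹ • q), smul_inv_smul]
    have h1 : ∀ a : α, (B {a}).card = k := by
      have hsame : ∀ a : α, (B {a}).card = (B {a₀}).card := by
        intro a
        obtain ⟨g, hg⟩ := MulAction.exists_smul_eq G a₀ a
        rw [← hB g {a₀}, Finset.image_singleton, hg]
      have hdc : ∑ q : G ⧸ H, (Finset.univ.filter (fun x => I x q)).card = ∑ a : α, (B {a}).card := by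
        simp only [Finset.card_filter, B, Finset.mem_singleton, forall_eq]
        exact Finset.sum_comm
      have hblock : ∀ q : G ⧸ H, (Finset.univ.filter (fun x => I x q)).card = k := by
        intro q
        induction q using QuotientGroup.induction_on with | _ w => ?_
        refine Finset.card_equiv (MulAction.toPerm w⁻¹) (fun x => ?_)
        simp only [Finset.mem_filter, Finset.mem_univ, true_and, MulAction.toPerm_apply]
        rfl
      rw [Finset.sum_congr rfl (fun q _ => hblock q), Finset.sum_congr rfl (fun a _ => hsame a),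
        Finset.sum_const, Finset.sum_const, Finset.card_univ, Finset.card_univ, smul_eq_mul,
        smul_eq_mul, ← Nat.card_eq_fintype_card (α := G ⧸ H), ← Subgroup.index_eq_card, hH, hα] at hdc
      intro a
      rw [hsame, Nat.eq_of_mul_eq_mul_left hp.pos hdc]
    haveI : Nontrivial α := Fintype.one_lt_card_iff_nontrivial.1 (by omega)
    obtain ⟨b₀, hb₀⟩ := exists_ne a₀
    obtain ⟨c₀, hc₀⟩ : ∃ c, c ∉ ({a₀, b₀} : Finset α) := by
      by_contra h
      simp only [not_exists, not_not] at h
      have := Finset.card_le_card (fun y (_ : y ∈ (Finset.univ : Finset α)) => h y)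
      rw [Finset.card_univ, hα] at this
      have : ({a₀, b₀} : Finset α).card ≤ 2 := Finset.card_le_two
      omega
    simp only [Finset.mem_insert, Finset.mem_singleton, not_or] at hc₀
    let lam := (B {a₀, b₀}).card
    let mu := (B {a₀, b₀, c₀}).card
    have hlam : ∀ x y : α, x ≠ y → (B {x, y}).card = lam := by
      intro x y hxy
      obtain ⟨g, hgx, hgy⟩ := MulAction.is_two_pretransitive_iff.1 h2 (Ne.symm hb₀) hxy
      have := hB g {a₀, b₀}
      rwa [Finset.image_insert, Finset.image_singleton, hgx, hgy] at this
    have hmu : ∀ x y z : α, x ≠ y → x ≠ z → y ≠ z → (B {x, y, z}).card = mu := by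
      intro x y z hxy hxz hyz
      let e3 : ∀ (r s t : α), r ≠ s → r ≠ t → s ≠ t → (Fin 3 ↪ α) := fun r s t h1 h2 h3 =>
        ⟨![r, s, t], fun i j h => by fin_cases i <;> fin_cases j <;> simp_all⟩
      obtain ⟨g, hg⟩ := h3.exists_smul_eq (e3 a₀ b₀ c₀ hb₀.symm (Ne.symm hc₀.1) (Ne.symm hc₀.2))
        (e3 x y z hxy hxz hyz)
      have := hB g {a₀, b₀, c₀}
      rwa [Finset.image_insert, Finset.image_insert, Finset.image_singleton,
        show g • a₀ = x from DFunLike.congr_fun hg 0, show g • b₀ = y from DFunLike.congr_fun hg 1,
        show g • c₀ = z from DFunLike.congr_fun hg 2] at this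
    have hlt : mu < lam := by
      have hsub : B {a₀, b₀, c₀} ⊆ B {a₀, b₀} := by
        intro q hq
        simp only [B, Finset.mem_filter, Finset.mem_univ, true_and] at hq ⊢
        exact fun x hx => hq x (by
          simp only [Finset.mem_insert, Finset.mem_singleton] at hx ⊢
          tauto)
      refine lt_of_le_of_ne (Finset.card_le_card hsub) fun he => ?_
      -- the block `D` contains two points, hence everything
      obtain ⟨x, hx, y, hy, hxy⟩ := Finset.one_lt_card.1 (show 1 < D.card by omega)
      obtain ⟨z, hz⟩ : ∃ z, z ∉ D := by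
        by_contra h
        simp only [not_exists, not_not] at h
        have := Finset.card_le_card (fun y (_ : y ∈ (Finset.univ : Finset α)) => h y)
        rw [Finset.card_univ, hα] at this
        omega
      have hxz : x ≠ z := fun h => hz (h ▸ hx)
      have hyz : y ≠ z := fun h => hz (h ▸ hy)
      have heq : B {x, y, z} = B {x, y} := by
        refine Finset.eq_of_subset_of_card_le ?_ (by rw [hlam x y hxy, hmu x y z hxy hxz hyz]; exact he.ge)
        intro q hq
        simp only [B, Finset.mem_filter, Finset.mem_univ, true_and] at hq ⊢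
        exact fun w hw => hq w (by
          simp only [Finset.mem_insert, Finset.mem_singleton] at hw ⊢
          tauto)
      have hmem : ((1 : G) : G ⧸ H) ∈ B {x, y} := by
        simp only [B, Finset.mem_filter, Finset.mem_univ, true_and]
        intro w hw
        show (1 : G)⁻¹ • w ∈ D
        simp only [Finset.mem_insert, Finset.mem_singleton] at hw
        rcases hw with rfl | rfl <;> simpa
      rw [← heq] at hmem
      simp only [B, Finset.mem_filter, Finset.mem_univ, true_and] at hmem
      have h' : (1 : G)⁻¹ • z ∈ D := hmem z (by simp)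
      rw [inv_one, one_smul] at h'
      exact hz h'
    -- Fisher's inequality in the derived design at `a₀`
    let R := {c : α // c ≠ a₀}
    let Q := {q : G ⧸ H // q ∈ B {a₀}}
    let L : (R → ℚ) →ₗ[ℚ] (Q → ℚ) :=
      { toFun := fun f q => ∑ c : R, if I c q then f c else 0
        map_add' := fun f g => funext fun q => by
          simp only [Pi.add_apply, ← Finset.sum_add_distrib]
          exact Finset.sum_congr rfl fun c _ => by split_ifs <;> simp
        map_smul' := fun r f => funext fun q => by
          simp [Finset.mul_sum] }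
    have hL : Function.Injective L := by
      rw [injective_iff_map_eq_zero]
      intro f hf
      have hgram : ∀ c d : R, (∑ q : Q, if I c q ∧ I d q then (1 : ℚ) else 0) =
          if c = d then (lam : ℚ) else mu := by
        intro c d
        rw [Finset.sum_boole]
        have e : (Finset.univ.filter (fun q : Q => I c q ∧ I d q)).card = (B {a₀, c.1, d.1}).card := by
          rw [← Finset.card_map (Function.Embedding.subtype _)]
          congr 1
          ext q
          simp only [Finset.mem_map, Finset.mem_filter, Finset.mem_univ, true_and,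
            Function.Embedding.subtype_apply, B, Finset.mem_insert, Finset.mem_singleton,
            forall_eq_or_imp, forall_eq]
          constructor
          · rintro ⟨⟨q', hq'⟩, ⟨h1, h2⟩, rfl⟩
            exact ⟨(Finset.mem_filter.1 hq').2 a₀ (Finset.mem_singleton_self _), h1, h2⟩
          · rintro ⟨h0, h1, h2⟩
            exact ⟨⟨q, by simp [B, h0]⟩, ⟨h1, h2⟩, rfl⟩
        rw [e]
        split_ifs with hcd
        · rw [hcd, Finset.pair_eq_singleton, hlam _ _ (Ne.symm d.2)]
        · rw [hmu _ _ _ (Ne.symm c.2) (Ne.symm d.2) (fun h => hcd (Subtype.ext h))]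
      have h0 : ∑ q : Q, (L f q) * (L f q) = 0 := by simp [hf]
      have hexp : ∑ q : Q, (L f q) * (L f q) =
          ((lam : ℚ) - mu) * ∑ c, f c * f c + mu * (∑ c, f c) * (∑ c, f c) := by
        have e1 : ∀ q, (L f q) * (L f q) =
            ∑ c : R, ∑ d : R, (if I c q ∧ I d q then (1 : ℚ) else 0) * (f c * f d) := by
          intro q
          show (∑ c : R, if I c q then f c else 0) * (∑ d : R, if I d q then f d else 0) = _
          rw [Finset.sum_mul_sum]
          exact Finset.sum_congr rfl fun c _ => Finset.sum_congr rfl fun d _ => by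
            split_ifs <;> simp_all
        rw [Finset.sum_congr rfl (fun q _ => e1 q), Finset.sum_comm]
        have e2 : ∀ c : R, ∑ q : Q, ∑ d : R, (if I c q ∧ I d q then (1 : ℚ) else 0) * (f c * f d) =
            ((lam : ℚ) - mu) * (f c * f c) + mu * f c * ∑ d, f d := by
          intro c
          rw [Finset.sum_comm]
          simp only [← Finset.sum_mul, hgram]
          have e3 : ∀ d : R, (if c = d then (lam : ℚ) else mu) * (f c * f d) =
              (if c = d then ((lam : ℚ) - mu) * (f c * f d) else 0) + mu * f c * f d := by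
            intro d; split_ifs <;> ring
          rw [Finset.sum_congr rfl (fun d _ => e3 d), Finset.sum_add_distrib, Finset.sum_ite_eq,
            if_pos (Finset.mem_univ _), Finset.mul_sum]
        rw [Finset.sum_congr rfl (fun c _ => e2 c), Finset.sum_add_distrib, ← Finset.mul_sum,
          ← Finset.sum_mul, ← Finset.mul_sum]
      rw [hexp] at h0
      have hpos : (0 : ℚ) < (lam : ℚ) - mu := sub_pos.2 (by exact_mod_cast hlt)
      have hA : 0 ≤ ∑ c, f c * f c := Finset.sum_nonneg fun c _ => mul_self_nonneg _
      have hBn : (0:ℚ) ≤ mu * (∑ c, f c) * (∑ c, f c) := by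
        rw [mul_assoc]; exact mul_nonneg (by positivity) (mul_self_nonneg _)
      have hz : ∑ c, f c * f c = 0 := by
        by_contra hne
        have := mul_pos hpos (lt_of_le_of_ne hA (Ne.symm hne))
        linarith
      funext c
      exact mul_self_eq_zero.1 ((Finset.sum_eq_zero_iff_of_nonneg fun c _ => mul_self_nonneg _).1 hz c
        (Finset.mem_univ c))
    have hdim := LinearMap.finrank_le_finrank_of_injective hL
    rw [Module.finrank_pi, Module.finrank_pi] at hdim
    simp only [R, Q, Fintype.card_subtype_compl, Fintype.card_subtype_eq, hα, Fintype.card_coe, h1] at hdim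
    omega

end Cfsg.Agent.S0677
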