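import Cfsg.Statements.S0679
import Cfsg.Agent.DegreeEleven.Simple
import Cfsg.Agent.Mathieu.SharpSteiner
import Cfsg.Agent.S0498
import Cfsg.Agent.S0676

set_option autoImplicit false
open Cfsg MulAction

namespace Cfsg.Agent.S0679

open CfsgLib

/-- A non-solvable transitive permutation group on 11 points that does not contain the alternating group is either sharply 4-transitive (of order 7920) or isomorphic to the projective special linear group of degree 2 over the field with 11 elements. -/
theorem result {α : Type*} [Fintype α] [DecidableEq α] (hα : Fintype.card α = 11) (G : Subgroup (Equiv.Perm α)) [MulAction.IsPretransitive G α] (hG : ¬ Group.IsSolvable G) (hA : ¬ alternatingGroup α ≤ G) : (MulAction.IsMultiplyPretransitive G α 4 ∧ ∀ x : Fin 4 ↪ α, MulAction.stabilizer G x = ⊥) ∨ Nonempty (G ≃* Matrix.ProjectiveSpecialLinearGroup (Fin 2) (ZMod 11)) := by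
  classical
  haveI h11 : Fact (Nat.Prime 11) := ⟨by norm_num⟩
  set K : Subgroup (Equiv.Perm α) := G ⊓ alternatingGroup α with hKdef
  have hKG : K ≤ G := inf_le_left
  have hev : K ≤ alternatingGroup α := inf_le_right
  have hAK : ¬ alternatingGroup α ≤ K := fun h => hA (h.trans hKG)
  let f : G →* ℤˣ := Equiv.Perm.sign.comp G.subtype
  have hker : f.ker = K.subgroupOf G := by
    ext g
    rw [MonoidHom.mem_ker, Subgroup.mem_subgroupOf, hKdef, Subgroup.mem_inf, Equiv.Perm.mem_alternatingGroup]
    exact ⟨fun h => ⟨g.2, h⟩, fun h => h.2⟩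
  let eK : K ≃* K.subgroupOf G := (Subgroup.subgroupOfEquivOfLe hKG).symm
  have hkne : K.subgroupOf G ≠ ⊥ := by
    intro hb
    rw [← hker, MonoidHom.ker_eq_bot_iff] at hb
    exact hG (Group.isSolvable_of_comm fun a b => hb (by rw [map_mul, map_mul, mul_comm]))
  haveI : (K.subgroupOf G).Normal := hker ▸ MonoidHom.normal_ker f
  haveI : IsPretransitive (K.subgroupOf G) α := DegreeEleven.normal_isPretransitive hα hkne
  haveI : IsPretransitive K α := ⟨fun a b => by
    obtain ⟨g, hg⟩ := exists_smul_eq (K.subgroupOf G) a b
    exact ⟨eK.symm g, hg⟩⟩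
  have hKns : ¬ Group.IsSolvable K := by
    intro hs
    haveI : Group.IsSolvable f.ker := Group.isSolvable_of_surjective (f := ((MulEquiv.subgroupCongr hker).trans eK.symm).symm.toMonoidHom)
      (MulEquiv.surjective _)
    exact hG (Group.isSolvable_of_ker_le_range f.ker.subtype f (by rw [Subgroup.range_subtype]))
  obtain ⟨P⟩ : Nonempty (Sylow 11 K) := inferInstance
  have hn1 : Nat.card (Sylow 11 K) ≠ 1 := by
    intro h1
    apply hKns
    haveI : Subsingleton (Sylow 11 K) := (Nat.card_eq_one_iff_unique.1 h1).1
    haveI : (P : Subgroup K).Normal := inferInstance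
    have hN : Nat.card (Subgroup.normalizer ((P : Subgroup K) : Set K)) = Nat.card K := by
      rw [Subgroup.normalizer_eq_top_iff.2 inferInstance]; exact Subgroup.card_top
    have hP := Perm.PrimeDegree.card_sylow hα K P
    have hidx := (P : Subgroup K).index_mul_card
    rw [hP] at hidx
    haveI : IsCyclic (P : Subgroup K) := isCyclic_of_prime_card hP
    haveI : Group.IsSolvable (P : Subgroup K) := Group.isSolvable_of_comm fun a b =>
      (IsCyclic.isMulCommutative).is_comm.comm a b
    haveI : Group.IsSolvable (K ⧸ (P : Subgroup K)) := by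
      have hq : Nat.card (K ⧸ (P : Subgroup K)) = 1 ∨ Nat.card (K ⧸ (P : Subgroup K)) = 5 := by
        rw [← Subgroup.index_eq_card]
        rcases (DegreeEleven.card_Ng_eleven hα hev P).1 with h | h
        · exact Or.inl (by rw [show Nat.card (MElevenUnique.Ng (P : Subgroup K)) = Nat.card K from hN] at h; omega)
        · exact Or.inr (by rw [show Nat.card (MElevenUnique.Ng (P : Subgroup K)) = Nat.card K from hN] at h; omega)
      rcases hq with hq | hq
      · haveI : Subsingleton (K ⧸ (P : Subgroup K)) := (Nat.card_eq_one_iff_unique.1 hq).1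
        exact Group.isSolvable_of_comm fun a b => Subsingleton.elim _ _
      · haveI := Fact.mk Nat.prime_five
        haveI : IsCyclic (K ⧸ (P : Subgroup K)) := isCyclic_of_prime_card hq
        exact Group.isSolvable_of_comm fun a b => (IsCyclic.isMulCommutative).is_comm.comm a b
    exact Group.isSolvable_of_ker_le_range (P : Subgroup K).subtype (QuotientGroup.mk' (P : Subgroup K))
      (by rw [QuotientGroup.ker_mk', Subgroup.range_subtype])
  obtain ⟨hn, hKcard⟩ := (DegreeEleven.orders hα hev hAK P).resolve_left hn1
  haveI hsimple : IsSimpleGroup K := DegreeEleven.isSimpleGroup hα hev hAK hn1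
  by_cases hGK : G = K
  · rcases hn with h | h
    · right
      obtain ⟨e⟩ := Cfsg.Agent.S0498.result (G := K) 11 (Or.inl rfl) (by rw [hKcard, h]; norm_num)
        (F := ZMod 11) (ZMod.card 11)
      exact ⟨(MulEquiv.subgroupCongr hGK).trans e⟩
    · left
      rw [hGK]
      exact DegreeEleven.sharply_four hα hev hAK (by rw [hKcard, h])
  exfalso
  obtain ⟨h0, hh0G, hh0K⟩ := SetLike.exists_of_lt (lt_of_le_of_ne hKG (Ne.symm hGK))
  have hidx : Nat.card G = 2 * Nat.card K := by
    have h1 := f.ker.card_eq_card_quotient_mul_card_subgroup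
    rw [Nat.card_congr (QuotientGroup.quotientKerEquivRange f).toEquiv] at h1
    have h2 : Nat.card f.range = 2 := by
      have hsurj : f.range = ⊤ := eq_top_iff.2 fun u _ => by
        rcases Int.units_eq_one_or u with rfl | rfl
        · exact one_mem _
        · refine ⟨⟨h0, hh0G⟩, ?_⟩
          rcases Int.units_eq_one_or (Equiv.Perm.sign h0) with h | h
          · exact absurd ⟨hh0G, Equiv.Perm.mem_alternatingGroup.2 h⟩ hh0K
          · exact h
      rw [hsurj, Subgroup.card_top, Nat.card_eq_fintype_card, Fintype.card_units_int]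
    rw [h1, h2, hker, Nat.card_congr eK.symm.toEquiv]
  rcases hn with h | h
  · -- order 1320 would be triply transitive
    rw [h] at hKcard
    rw [hKcard] at hidx
    obtain ⟨Q⟩ : Nonempty (Sylow 11 G) := inferInstance
    have hQ := Perm.PrimeDegree.card_sylow hα G Q
    have hcard11 : Nat.card (Sylow 11 K) * 10 ≤ Nat.card (Sylow 11 G) * 10 := by
      rw [← DegreeEleven.card_order_eleven hα, ← DegreeEleven.card_order_eleven hα]
      refine Nat.card_le_card_of_injective (fun g => ⟨Subgroup.inclusion hKG g.1, ?_⟩) ?_
      · rw [orderOf_injective _ (Subgroup.inclusion_injective hKG), g.2]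
      · intro a b e
        exact Subtype.ext (Subgroup.inclusion_injective hKG (congrArg Subtype.val e))
    have hmul := Small.card_sylow_mul_card_normalizer Q
    have hmod := card_sylow_modEq_one 11 G
    rw [hidx] at hmul
    have hd : Nat.card (Sylow 11 G) ∣ 120 := by
      refine Q.card_dvd_index.trans (dvd_of_eq ?_)
      have := (Q : Subgroup G).index_mul_card
      rw [hQ, hidx] at this
      omega
    have key : ∀ d ∈ Nat.divisors 120, d % 11 = 1 → d = 1 ∨ d = 12 := by decide +kernel
    have hQ12 : Nat.card (Sylow 11 G) = 12 := by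
      rcases key _ (Nat.mem_divisors.2 ⟨hd, by norm_num⟩) hmod with e | e <;> omega
    rw [hQ12] at hmul
    have heven : Even (Nat.card (Subgroup.normalizer ((Q : Subgroup G) : Set G))) := ⟨55, by omega⟩
    have h3 := Cfsg.Agent.S0676.result hα G hG Q heven
    obtain ⟨x⟩ : Nonempty (Fin 3 ↪ α) := Function.Embedding.nonempty_of_card_le (by rw [hα]; simp)
    haveI : IsPretransitive G (Fin 3 ↪ α) := h3
    have h990 : Nat.card (Fin 3 ↪ α) ∣ Nat.card G := by
      rw [← @index_stabilizer_of_transitive G (Fin 3 ↪ α) _ _ x h3]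
      exact Subgroup.index_dvd_card _
    rw [Nat.card_eq_fintype_card, Fintype.card_embedding_eq, hα, Fintype.card_fin, hidx] at h990
    norm_num [Nat.descFactorial] at h990
  · -- order 15840 would act on the Steiner system of the subgroup of order 7920
    rw [h] at hKcard
    obtain ⟨h4, hsharp⟩ := DegreeEleven.sharply_four hα hev hAK hKcard
    have hS : (Finset.univ : Finset α).card = 11 := by rw [Finset.card_univ, hα]
    have hsh := Mathieu.Sharp.isSharpOn_univ h4 hsharp
    set C := Mathieu.Sharp.Centre K (Finset.univ : Finset α)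
    set B : Set (Finset α) := {b | ∃ s z, s.card = 4 ∧ C s z ∧ b = insert z s}
    have hB : IsSteinerSystem 4 5 B := Mathieu.Sharp.isSteinerSystem_of_exchange C
      (fun s hs => Mathieu.Sharp.exists_unique_centre hsh hS (Finset.subset_univ _) hs)
      (fun s z hz => hz.2.1)
      (fun s y z hs hy hz => Mathieu.Sharp.centre_exchange hsh hS (Finset.subset_univ _) hs hy hz)
    have hle : G ≤ setSystemAut B := fun g hg => by
      refine Mathieu.mem_setSystemAut_of_image ?_
      rintro _ ⟨s, z, hsc, hz, rfl⟩
      refine ⟨s.image g, g z, by rw [Finset.card_image_of_injective _ g.injective, hsc], ?_,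
        Finset.image_insert _ _ _⟩
      refine Mathieu.Sharp.Centre.map g (fun t ht => Subgroup.mem_inf.2 ⟨mul_mem (mul_mem (inv_mem hg) (hKG ht)) hg, ?_⟩)
        (fun x _ => Finset.mem_univ _) hz
      rw [Equiv.Perm.mem_alternatingGroup, map_mul, map_mul, map_inv,
        Equiv.Perm.mem_alternatingGroup.1 (hev ht), mul_one, inv_mul_cancel]
    have := Subgroup.card_le_of_le hle
    rw [(Mathieu.S11.aut11 hα hB).1.2, hidx, hKcard] at this
    omega

end Cfsg.Agent.S0679
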