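import Cfsg.Statements.S0680
import Mathlib
import Cfsg.Agent.Perm.SharplyTwo
-- import your own Cfsg.Agent.* helpers here

set_option autoImplicit false
open Cfsg

namespace Cfsg.Agent.S0680

/-- A finite sharply doubly transitive permutation group has degree a prime power `p ^ j`; a Sylow `p`-subgroup is normal, elementary abelian and regular, and consists of the identity together with the elements without fixed points. (Frobenius' Theorem is not needed.) -/
theorem result {α : Type*} [Fintype α] [DecidableEq α] (G : Subgroup (Equiv.Perm α)) [MulAction.IsMultiplyPretransitive G α 2] (hsharp : ∀ x : Fin 2 ↪ α, MulAction.stabilizer G x = ⊥) (h2 : 2 ≤ Fintype.card α) : ∃ p j : ℕ, p.Prime ∧ 1 ≤ j ∧ Fintype.card α = p ^ j ∧ ∀ (hp : Fact p.Prime) (P : Sylow p G), (P : Subgroup G).Normal ∧ IsMulCommutative (P : Subgroup G) ∧ (∀ x ∈ (P : Subgroup G), x ^ p = 1) ∧ MulAction.IsPretransitive (P : Subgroup G) α ∧ (∀ a : α, MulAction.stabilizer (P : Subgroup G) a = ⊥) ∧ ∀ g : G, g ∈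 (P : Subgroup G) ↔ g = 1 ∨ ∀ a : α, g • a ≠ a := by
  haveI : Nontrivial α := Fintype.one_lt_card_iff_nontrivial.1 h2
  have hs : ∀ (g : G) (a b : α), a ≠ b → g • a = a → g • b = b → g = 1 :=
    fun g a b hab ha hb => CfsgLib.Perm.SharplyTwo.sharp_of_stabilizer hsharp hab ha hb
  have ht : MulAction.IsMultiplyPretransitive G α 2 := inferInstance
  obtain ⟨p, j, hp, hj, hn, hexp⟩ := CfsgLib.Perm.SharplyTwo.exists_prime_pow ht hs
  set K := CfsgLib.Perm.SharplyTwo.kernel ht hs with hK
  rw [Nat.card_eq_fintype_card] at hn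
  refine ⟨p, j, hp, hj, hn, fun _ P => ?_⟩
  have hKn : K.Normal := CfsgLib.Perm.SharplyTwo.kernel_normal ht hs
  have hKc : Nat.card K = p ^ j := by
    rw [CfsgLib.Perm.SharplyTwo.card_kernel ht hs, Nat.card_eq_fintype_card, hn]
  have hKP : K ≤ (P : Subgroup G) := by
    obtain ⟨Q, hQ⟩ := (IsPGroup.of_card hKc).exists_le_sylow
    intro x hx
    obtain ⟨g, rfl⟩ := MulAction.exists_smul_eq G Q P
    rw [Sylow.coe_subgroup_smul, Subgroup.mem_pointwise_smul_iff_inv_smul_mem]
    apply hQ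
    have := hKn.conj_mem x hx g⁻¹
    simpa [← map_inv, MulAut.smul_def] using this
  have hcop : ¬ p ∣ p ^ j - 1 := by
    intro h
    have h2 : p ∣ p ^ j := dvd_pow_self p (by omega)
    have h3 : 0 < p ^ j := pow_pos hp.pos j
    have h4 : p ∣ 1 := by
      have := Nat.dvd_sub h2 h
      rwa [show p ^ j - (p ^ j - 1) = 1 by omega] at this
    exact hp.one_lt.ne' (Nat.dvd_one.1 h4)
  have hcP : Nat.card (P : Subgroup G) = p ^ j := by
    rw [P.card_eq_multiplicity, CfsgLib.Perm.SharplyTwo.card_group ht hs (Classical.arbitrary α),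
      Nat.card_eq_fintype_card, hn, Nat.factorization_mul (pow_ne_zero _ hp.ne_zero) (by
        intro h; rw [h] at hcop; exact hcop (dvd_zero p)),
      Finsupp.add_apply, Nat.factorization_eq_zero_of_not_dvd hcop, add_zero,
      Nat.Prime.factorization_pow hp, Finsupp.single_eq_same]
  have hPK : (P : Subgroup G) = K := (Subgroup.eq_of_le_of_card_ge hKP (by rw [hcP, hKc])).symm
  rw [hPK]
  refine ⟨hKn, ⟨⟨fun x y => Subtype.ext (CfsgLib.Perm.SharplyTwo.kernel_comm ht hs x.2 y.2)⟩⟩, hexp,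
    CfsgLib.Perm.SharplyTwo.kernel_transitive ht hs, fun a => ?_, fun g => Iff.rfl⟩
  rw [eq_bot_iff]
  intro k hk
  rw [Subgroup.mem_bot]
  exact Subtype.ext (CfsgLib.Perm.SharplyTwo.kernel_free ht hs k.2 hk)

end Cfsg.Agent.S0680
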