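import Cfsg.Statements.S0681
import Mathlib
import Cfsg.Agent.Perm.NearField
-- import your own Cfsg.Agent.* helpers here

set_option autoImplicit false
open Cfsg

namespace Cfsg.Agent.S0681

/-- The affine maps `x ↦ x * a + b`, `a ≠ 0`, of a near-field form a sharply doubly transitive permutation group. -/
theorem result {F : Type*} [Cfsg.NearField F] : ∃ H : Subgroup (Equiv.Perm F), (∀ σ : Equiv.Perm F, σ ∈ H ↔ ∃ a b : F, a ≠ 0 ∧ ∀ x : F, σ x = x * a + b) ∧ MulAction.IsMultiplyPretransitive H F 2 ∧ ∀ x : Fin 2 ↪ F, MulAction.stabilizer H x = ⊥ := by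
  refine ⟨CfsgLib.Perm.NearField.affineSubgroup F, fun σ => Iff.rfl,
    CfsgLib.Perm.NearField.isTwoPretransitive, fun x => ?_⟩
  rw [eq_bot_iff]
  intro g hg
  rw [Subgroup.mem_bot]
  rw [MulAction.mem_stabilizer_iff] at hg
  exact CfsgLib.Perm.NearField.sharp g (x 0) (x 1) (x.injective.ne (by decide))
    (DFunLike.congr_fun hg 0) (DFunLike.congr_fun hg 1)

end Cfsg.Agent.S0681
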