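import Cfsg.Statements.S0682
import Mathlib
import Cfsg.Agent.Perm.NearField
-- import your own Cfsg.Agent.* helpers here

set_option autoImplicit false
open Cfsg

namespace Cfsg.Agent.S0682

/-- A finite near-field has prime-power order; its additive group is commutative of prime exponent. -/
theorem result {F : Type*} [Cfsg.NearField F] [Finite F] : ∃ p j : ℕ, p.Prime ∧ 1 ≤ j ∧ Nat.card F = p ^ j ∧ (∀ x y : F, x + y = y + x) ∧ ∀ x : F, p • x = 0 := by
  obtain ⟨p, j, hp, hj, hn, hexp⟩ := CfsgLib.Perm.SharplyTwo.exists_prime_pow
    (G := CfsgLib.Perm.NearField.affineSubgroup F) (α := F)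
    CfsgLib.Perm.NearField.isTwoPretransitive CfsgLib.Perm.NearField.sharp
  refine ⟨p, j, hp, hj, hn, fun x y => ?_, fun x => ?_⟩
  · have h := CfsgLib.Perm.SharplyTwo.kernel_comm
      (G := CfsgLib.Perm.NearField.affineSubgroup F) (α := F)
      CfsgLib.Perm.NearField.isTwoPretransitive CfsgLib.Perm.NearField.sharp
      (CfsgLib.Perm.NearField.translation_mem_kernel y)
      (CfsgLib.Perm.NearField.translation_mem_kernel x)
    have h0 := congrArg (fun g : CfsgLib.Perm.NearField.affineSubgroup F => g • (0 : F)) h
    simp only [mul_smul] at h0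
    simpa [Subgroup.smul_def] using h0
  · have h := hexp _ (CfsgLib.Perm.NearField.translation_mem_kernel x)
    have h0 := congrArg (fun g : CfsgLib.Perm.NearField.affineSubgroup F => g • (0 : F)) h
    simp only [one_smul] at h0
    have key : ∀ n : ℕ, ((⟨_, CfsgLib.Perm.NearField.translation_mem x⟩ :
        CfsgLib.Perm.NearField.affineSubgroup F) ^ n) • (0 : F) = n • x := by
      intro n
      induction n with
      | zero => simp
      | succ n ih =>
        rw [pow_succ', mul_smul, ih, succ_nsmul]
        simp [Subgroup.smul_def]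
    rw [key] at h0
    exact h0

end Cfsg.Agent.S0682
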