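import Cfsg.Statements.S0683
import Mathlib
import Cfsg.Agent.Perm.SharplyTwo
-- import your own Cfsg.Agent.* helpers here

set_option autoImplicit false
open Cfsg

namespace Cfsg.Agent.S0683

/-- A finite sharply doubly transitive permutation group is the affine group of a near-field: the permuted set carries a near-field structure for which the group consists exactly of the maps `x ↦ x * a + b` with `a ≠ 0`. -/
theorem result {α : Type*} [Fintype α] [DecidableEq α] (H : Subgroup (Equiv.Perm α)) [MulAction.IsMultiplyPretransitive H α 2] (hsharp : ∀ x : Fin 2 ↪ α, MulAction.stabilizer H x = ⊥) (h2 : 2 ≤ Fintype.card α) : ∃ _ : Cfsg.NearField α, ∀ σ : Equiv.Perm α, σ ∈ H ↔ ∃ a b : α, a ≠ 0 ∧ ∀ x : α, σ x = x * a + b := by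
  classical
  haveI : Nontrivial α := Fintype.one_lt_card_iff_nontrivial.1 h2
  have hs : ∀ (g : H) (a b : α), a ≠ b → g • a = a → g • b = b → g = 1 :=
    fun g a b hab ha hb => CfsgLib.Perm.SharplyTwo.sharp_of_stabilizer hsharp hab ha hb
  have ht : MulAction.IsMultiplyPretransitive H α 2 := inferInstance
  set K := CfsgLib.Perm.SharplyTwo.kernel ht hs with hK
  obtain ⟨z₀, z₁, h01⟩ := exists_pair_ne α
  have hKn : K.Normal := CfsgLib.Perm.SharplyTwo.kernel_normal ht hs
  choose τ hτ using (CfsgLib.Perm.SharplyTwo.kernel_bijective ht hs z₀).2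
  have hτu : ∀ k : K, τ ((k : H) • z₀) = k := fun k =>
    (CfsgLib.Perm.SharplyTwo.kernel_bijective ht hs z₀).1 (hτ _)
  have hτ' : ∀ x : α, ((τ x : K) : H) • z₀ = x := hτ
  have hm : ∀ a : α, ∃ g : H, g • z₀ = z₀ ∧ (a ≠ z₀ → g • z₁ = a) := by
    intro a
    by_cases h : a = z₀
    · exact ⟨1, one_smul _ _, fun h' => absurd h h'⟩
    · obtain ⟨g, h1, h2⟩ := MulAction.is_two_pretransitive_iff.1 ht h01 (Ne.symm h)
      exact ⟨g, h1, fun _ => h2⟩
  choose m hm0 hm1 using hm
  have hmu : ∀ (a : α) (g : H), a ≠ z₀ → g • z₀ = z₀ → g • z₁ = a → m a = g := by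
    intro a g ha hg0 hg1
    have := hs (g⁻¹ * m a) z₀ z₁ h01 (by rw [mul_smul, hm0, inv_smul_eq_iff, hg0])
      (by rw [mul_smul, hm1 a ha, inv_smul_eq_iff, hg1])
    rw [inv_mul_eq_one] at this
    exact this.symm
  let addO : α → α → α := fun x y => ((τ y : K) : H) • x
  let mulO : α → α → α := fun x a => if a = z₀ then z₀ else m a • x
  have addO_def : ∀ x y, addO x y = ((τ y : K) : H) • x := fun _ _ => rfl
  have mul_def : ∀ x a, a ≠ z₀ → mulO x a = m a • x := fun x a h => if_neg h
  have mul_zero' : ∀ x, mulO x z₀ = z₀ := fun x => if_pos rfl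
  have hne : ∀ a b, a ≠ z₀ → b ≠ z₀ → m b • a ≠ z₀ := by
    intro a b ha hb h
    rw [← hm0 b] at h
    exact ha (MulAction.injective _ h)
  have τadd : ∀ y w, τ (((τ w : K) : H) • y) = τ w * τ y := by
    intro y w
    conv_rhs => rw [← hτu (τ w * τ y)]
    rw [Subgroup.coe_mul, mul_smul, hτ']
  have mul_assoc' : ∀ x a b, mulO (mulO x a) b = mulO x (mulO a b) := by
    intro x a b
    by_cases hb : b = z₀
    · rw [hb, mul_zero', mul_zero', mul_zero']
    by_cases ha : a = z₀
    · rw [ha, mul_zero', mul_def z₀ b hb, hm0, mul_zero']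
    rw [mul_def a b hb, mul_def x a ha, mul_def _ b hb, mul_def x _ (hne a b ha hb),
      hmu _ (m b * m a) (hne a b ha hb) (by rw [mul_smul, hm0, hm0])
        (by rw [mul_smul, hm1 a ha]), mul_smul]
  have one_mul' : ∀ a, mulO z₁ a = a := by
    intro a
    by_cases ha : a = z₀
    · rw [ha, mul_zero']
    · rw [mul_def _ _ ha, hm1 a ha]
  have hm_one : m z₁ = 1 := hmu _ 1 h01.symm (one_smul _ _) (one_smul _ _)
  have distrib' : ∀ a b c, mulO (addO a b) c = addO (mulO a c) (mulO b c) := by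
    intro a b c
    by_cases hc : c = z₀
    · rw [hc, mul_zero', mul_zero', mul_zero', addO_def]
      exact (hτ' z₀).symm
    rw [addO_def, addO_def, mul_def _ _ hc, mul_def _ _ hc, mul_def _ _ hc]
    have hmem : m c * ((τ b : K) : H) * (m c)⁻¹ ∈ K := hKn.conj_mem _ (τ b).2 _
    have hval : (m c * ((τ b : K) : H) * (m c)⁻¹) • z₀ = m c • b := by
      have h0 : (m c)⁻¹ • z₀ = z₀ := by rw [inv_smul_eq_iff, hm0]
      rw [mul_smul, mul_smul, h0, hτ']
    have := hτu ⟨_, hmem⟩
    simp only [hval] at this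
    rw [this, smul_smul, smul_smul]
    group
  have inv' : ∀ a, a ≠ z₀ → ∃ b, mulO a b = z₁ ∧ mulO b a = z₁ := by
    intro a ha
    have hb : (m a)⁻¹ • z₁ ≠ z₀ := by
      intro h
      rw [inv_smul_eq_iff, hm0] at h
      exact h01 h.symm
    refine ⟨(m a)⁻¹ • z₁, ?_, ?_⟩
    · rw [mul_def _ _ hb, hmu _ (m a)⁻¹ hb (by rw [inv_smul_eq_iff, hm0]) rfl,
        inv_smul_eq_iff, hm1 a ha]
    · rw [mul_def _ _ ha, smul_inv_smul]
  letI instAdd : AddGroup α :=
    { add := addO
      zero := z₀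
      neg := fun x => ((τ x : K) : H)⁻¹ • z₀
      nsmul := @nsmulRec α ⟨z₀⟩ ⟨addO⟩
      zsmul := @zsmulRec α ⟨z₀⟩ ⟨addO⟩ ⟨fun x => ((τ x : K) : H)⁻¹ • z₀⟩ (@nsmulRec α ⟨z₀⟩ ⟨addO⟩)
      add_assoc := fun x y z => by
        show addO (addO x y) z = addO x (addO y z)
        rw [addO_def, addO_def, addO_def, addO_def, τadd, Subgroup.coe_mul, mul_smul]
      zero_add := fun x => hτ' x
      add_zero := fun x => by
        show addO x z₀ = x
        have h1 : τ z₀ = 1 := by
          have := hτu 1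
          rwa [OneMemClass.coe_one, one_smul] at this
        rw [addO_def, h1, OneMemClass.coe_one, one_smul]
      neg_add_cancel := fun x => smul_inv_smul _ _ }
  letI instMon : Monoid α :=
    { mul := mulO
      one := z₁
      mul_assoc := mul_assoc'
      one_mul := one_mul'
      mul_one := fun x => by
        show mulO x z₁ = x
        rw [mul_def _ _ h01.symm, hm_one, one_smul] }
  refine ⟨{ instAdd, instMon with
    right_distrib := distrib'
    mul_zero := mul_zero'
    zero_ne_one := h01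
    exists_inv := inv' }, fun σ => ⟨fun hσ => ?_, ?_⟩⟩
  · set g : H := ⟨σ, hσ⟩
    set b := g • z₀
    set k : H := ((τ b : K) : H)⁻¹ * g
    have hk0 : k • z₀ = z₀ := by
      show (_ * g) • z₀ = z₀
      rw [mul_smul, inv_smul_eq_iff, hτ']
    have ha : k • z₁ ≠ z₀ := fun h => h01 (MulAction.injective k (hk0.trans h.symm))
    refine ⟨k • z₁, b, ha, fun x => ?_⟩
    show g • x = addO (mulO x (k • z₁)) b
    rw [mul_def _ _ ha, hmu _ k ha hk0 rfl, addO_def, smul_smul]
    simp [k]
  · rintro ⟨a, b, ha, hσ⟩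
    have : σ = (((τ b : K) : H) * m a : H).1 := by
      apply Equiv.ext
      intro x
      rw [hσ]
      show addO (mulO x a) b = (((τ b : K) : H) * m a) • x
      rw [mul_def _ _ ha, addO_def, mul_smul]
    rw [this]
    exact SetLike.coe_mem _

end Cfsg.Agent.S0683
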