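import Cfsg.Statements.S0687
import Mathlib
import Cfsg.Agent.Perm.RegularLinearMinimal
import Cfsg.Agent.S0688
import Cfsg.Agent.S0689
-- import your own Cfsg.Agent.* helpers here

set_option autoImplicit false
open Cfsg

namespace Cfsg.Agent.S0687

/-- In a linear group over the prime field that is regular on non-zero vectors and has no irreducible cyclic normal subgroup, a normal subgroup `N` minimal among the non-abelian normal subgroups centralising a maximal normal abelian subgroup `A` is irreducible on `V`, and its centraliser is `A`. -/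
theorem result {p : ℕ} [Fact p.Prime] {V : Type*} [AddCommGroup V] [Module (ZMod p) V] [Finite V] (H : Subgroup (V ≃ₗ[ZMod p] V)) (hreg : ∀ v w : V, v ≠ 0 → w ≠ 0 → ∃! h : H, (h : V ≃ₗ[ZMod p] V) v = w) (hI : ∀ A : Subgroup H, A.Normal → IsCyclic A → ∃ W : Submodule (ZMod p) V, W ≠ ⊥ ∧ W ≠ ⊤ ∧ ∀ a ∈ A, ∀ v ∈ W, ((a : H) : V ≃ₗ[ZMod p] V) v ∈ W) (A : Subgroup H) (hAn : A.Normal) (hAc : IsMulCommutative A) (hAmax : ∀ B : Subgroup H, B.Normal → IsMulCommutative B → A ≤ B → B = A) (N : Subgroup H) (hNn : N.Normal) (hNle : N ≤ Subgroup.centralizer (A : Set H)) (hNna : ¬ IsMulCommutative N) (hNmin : ∀ M : Subgroup H, M.Normal → M ≤ N → ¬ IsMulCommutative M → M = N) : (∀ W : Submodule (ZMod p) V, (∀ n ∈ N, ∀ v ∈ W, ((n : H) : V ≃ₗ[ZMod p] V) v ∈ W) → W = ⊥ ∨ W = ⊤) ∧ Subgroup.centralizer (N : Set H) = A := by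
  classical
  haveI : Nontrivial V := by
    obtain ⟨W, h1, h2, -⟩ := hI ⊥ inferInstance inferInstance
    obtain ⟨v, -, hv⟩ := Submodule.exists_mem_ne_zero_of_ne_bot h1
    exact nontrivial_of_ne v 0 hv
  haveI := CfsgLib.Perm.RegularLinear.finite_group H hreg
  haveI := hAn
  haveI := hAc
  haveI := hNn
  -- the dimension is two
  have hn : Module.finrank (ZMod p) V = 2 := by
    obtain ⟨q, hq, hV⟩ : ∃ q : ℕ, q.Prime ∧ Nat.card V = q ^ 2 := by
      by_cases hs : Group.IsSolvable H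
      · rcases Cfsg.Agent.S0688.result H hreg hI hs with h | h | h | h
        · exact ⟨5, by norm_num, h⟩
        · exact ⟨7, by norm_num, h⟩
        · exact ⟨11, by norm_num, h⟩
        · exact ⟨23, by norm_num, h⟩
      · rcases Cfsg.Agent.S0689.result H hreg hs with ⟨h, -⟩ | ⟨h, -⟩ | ⟨h, -⟩
        · exact ⟨11, by norm_num, h⟩
        · exact ⟨29, by norm_num, h⟩
        · exact ⟨59, by norm_num, h⟩
    rw [Module.natCard_eq_pow_finrank (K := ZMod p) (V := V), Nat.card_zmod] at hV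
    have h0 : Module.finrank (ZMod p) V ≠ 0 := fun h => by
      rw [h, pow_zero] at hV
      exact hq.one_lt.ne' (pow_eq_one_iff_left two_ne_zero |>.1 hV.symm)
    have hpq : p = q := (Nat.prime_dvd_prime_iff_eq Fact.out hq).1
      ((Fact.out : p.Prime).dvd_of_dvd_pow (hV ▸ dvd_pow_self p h0))
    subst hpq
    exact Nat.pow_right_injective (Fact.out : p.Prime).two_le hV
  refine ⟨CfsgLib.Perm.RegularLinear.irreducible_of_finrank_two hreg hn hNna, ?_⟩
  -- the centraliser of `A` is everything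
  obtain ⟨-, W, -, ⟨hW, -, -⟩, -, hdim, hidx⟩ :=
    CfsgLib.Perm.RegularLinear.setup H hreg hI A hAn
  have hd1 : 1 ≤ Module.finrank (ZMod p) W := Submodule.one_le_finrank_iff.2 hW
  have hC : Subgroup.centralizer (A : Set H) = ⊤ := Subgroup.index_eq_one.1 (le_antisymm
    (by omega) (Nat.pos_of_ne_zero Subgroup.index_ne_zero_of_finite))
  obtain ⟨x, hx, u, hu, h1, h2, h3, h4⟩ : ∃ x ∈ N, ∃ u ∈ N,
      x * x = u * u ∧ x * x ≠ 1 ∧ (x * x) * (x * x) = 1 ∧ ¬ Commute u x := by
    rcases CfsgLib.Perm.RegularLinear.minimal_cases hreg hAmax hNle hNna hNmin with h | he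
    · obtain ⟨e⟩ := CfsgLib.Perm.RegularLinear.equiv_slFive_of_perfect hreg N
        (fun h' => hNna (by subst h'; infer_instance)) h
      obtain ⟨x, u, a, b, c, d, -⟩ := CfsgLib.Perm.RegularLinear.slFive_quat
      exact CfsgLib.Perm.RegularLinear.exists_pair_of_equiv e ⟨x, u, a, b, c, d⟩
    · obtain ⟨e⟩ := he
      exact CfsgLib.Perm.RegularLinear.exists_pair_of_equiv e
        CfsgLib.Perm.RegularLinear.quat_facts
  have := CfsgLib.Perm.RegularLinear.centralizer_inf_eq hreg hAmax hNle hx hu h1 h2 h3 h4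
  rwa [hC, top_inf_eq] at this

end Cfsg.Agent.S0687
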