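import Cfsg.Statements.S0690
import Cfsg.Agent.FrobComp.Perfect
import Cfsg.Agent.FrobComp.Complement

set_option autoImplicit false
set_option linter.style.haveILetI false
open Cfsg

namespace Cfsg.Agent.S0690

/-- Zassenhaus: a perfect non-trivial group of fixed-point-free automorphisms of a finite group is isomorphic to `SL(2,5)`. -/
theorem result {K : Type*} [Group K] [Finite K] (G : Subgroup (MulAut K)) (hfpf : ∀ φ ∈ G, φ ≠ 1 → ∀ k : K, φ k = k → k = 1) (hperf : commutator G = ⊤) (hne : G ≠ ⊥) : Nonempty (G ≃* Matrix.SpecialLinearGroup (Fin 2) (ZMod 5)) := by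
  classical
  haveI : Nontrivial G := (Subgroup.nontrivial_iff_ne_bot G).2 hne
  haveI : Nontrivial K := by
    by_contra h
    haveI := not_nontrivial_iff_subsingleton.1 h
    exact hne ((Subgroup.eq_bot_iff_forall G).2 fun φ _ => MulEquiv.ext fun k => Subsingleton.elim _ _)
  let L := SemidirectProduct K G G.subtype
  haveI : Finite L := Finite.of_equiv _ SemidirectProduct.equivProd.symm
  let N : Subgroup L := (SemidirectProduct.inl : K →* L).range
  let C : Subgroup L := (SemidirectProduct.inr : G →* L).range
  haveI hN : N.Normal := by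
    show (SemidirectProduct.inl : K →* L).range.Normal
    rw [SemidirectProduct.range_inl_eq_ker_rightHom]
    exact MonoidHom.normal_ker _
  have hc : N.IsComplement' C := by
    refine Subgroup.isComplement'_of_card_mul_and_disjoint ?_ ?_
    · rw [CfsgLib.FrobComp.card_range_of_injective SemidirectProduct.inl_injective,
        CfsgLib.FrobComp.card_range_of_injective SemidirectProduct.inr_injective,
        SemidirectProduct.card]
    · rw [disjoint_iff, Subgroup.eq_bot_iff_forall]
      rintro _ ⟨⟨v, rfl⟩, ⟨g, hg⟩⟩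
      have h1 := congrArg SemidirectProduct.left hg
      simp only [SemidirectProduct.left_inr, SemidirectProduct.left_inl] at h1
      rw [← h1, map_one]
  have hN1 : N ≠ ⊥ := by
    rw [← Subgroup.one_lt_card_iff_ne_bot,
      CfsgLib.FrobComp.card_range_of_injective SemidirectProduct.inl_injective]
    exact Finite.one_lt_card
  have hC1 : C ≠ ⊥ := by
    rw [← Subgroup.one_lt_card_iff_ne_bot,
      CfsgLib.FrobComp.card_range_of_injective SemidirectProduct.inr_injective]
    exact Finite.one_lt_card
  have hfp : ∀ c ∈ C, c ≠ 1 → N ⊓ Subgroup.centralizer {c} = ⊥ := by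
    rintro _ ⟨g, rfl⟩ hg1
    rw [Subgroup.eq_bot_iff_forall]
    rintro _ ⟨⟨v, rfl⟩, hv⟩
    change SemidirectProduct.inl v ∈ Subgroup.centralizer _ at hv
    rw [Subgroup.mem_centralizer_singleton_iff] at hv
    have h1 : (g : MulAut K) v = v := SemidirectProduct.inl_injective (φ := G.subtype) <| by
      show SemidirectProduct.inl (G.subtype g v) = _
      rw [SemidirectProduct.inl_aut, map_inv, mul_inv_eq_iff_eq_mul]
      first | exact hv | exact hv.symm
    rw [hfpf g g.2 (fun e => hg1 (by
      rw [show g = 1 from Subtype.ext e, map_one])) v h1, map_one]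
  have hFC := (CfsgLib.Solvable.isFrobeniusComplement_iff_fpf hc hN1 hC1).mpr hfp
  obtain ⟨p, hp, hdvd⟩ := Nat.exists_prime_and_dvd (n := C.index)
    (fun h => hFC.2.1 (Subgroup.index_eq_one.mp h))
  haveI := Fact.mk hp
  obtain ⟨V, _, _, _, ρ, hV, hρ⟩ := CfsgLib.FrobComp.exists_free_module hFC hdvd
  let e : G ≃* C := MonoidHom.ofInjective SemidirectProduct.inr_injective
  exact CfsgLib.FrobComp.equiv_sl25_of_perfect_free (ρ := ρ.comp e.toMonoidHom)
    (fun g hg v hv => hρ (e g) (fun h => hg (e.injective (h.trans (map_one e).symm))) v hv)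
    hV hperf

end Cfsg.Agent.S0690
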