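import Cfsg.Statements.S0691
import Mathlib
import Cfsg.Agent.Perm.RegularMatrix

set_option autoImplicit false
open Cfsg

namespace Cfsg.Agent.S0691

/-- The elements of the group. -/
def els : Fin 24 → CfsgLib.Perm.RegularMatrix.Quad 5 := fun i =>
  ([(1, 0, 0, 1), (2, 0, 0, 3), (0, 4, 1, 0), (1, 2, 1, 3), (4, 0, 0, 4), (0, 3, 3, 0), (2, 4, 3, 4), (0, 2, 2, 0), (4, 2, 1, 2), (2, 1, 2, 4), (3, 3, 4, 1), (3, 0, 0, 2), (0, 1, 4, 0), (4, 3, 4, 2), (3, 4, 3, 1), (1, 1, 2, 3), (3, 1, 2, 1), (1, 4, 3, 3), (1, 3, 4, 3), (3, 2, 1, 1), (2, 2, 1, 4), (2, 3, 4, 4), (4, 4, 3, 2), (4, 1, 2, 2)] : List (CfsgLib.Perm.RegularMatrix.Quad 5))[i.val]!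

/-- Multiplication by the generator A. -/
def succA : Fin 24 → Fin 24 := fun i =>
  ([1, 4, 7, 9, 11, 2, 8, 12, 16, 13, 17, 0, 5, 14, 3, 21, 18, 20, 6, 15, 23, 22, 19, 10] : List (Fin 24))[i.val]!

/-- Multiplication by the generator B. -/
def succB : Fin 24 → Fin 24 := fun i =>
  ([2, 5, 4, 6, 12, 11, 13, 1, 9, 18, 19, 7, 0, 16, 8, 17, 3, 22, 14, 20, 21, 10, 23, 15] : List (Fin 24))[i.val]!

/-- Multiplication by the generator C. -/
def succC : Fin 24 → Fin 24 := fun i =>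
  ([3, 6, 8, 10, 13, 14, 15, 9, 17, 19, 0, 16, 18, 20, 21, 1, 22, 2, 23, 7, 4, 5, 11, 12] : List (Fin 24))[i.val]!

/-- A predecessor of each element with the index of a generator. -/
def pred0 : Fin 24 → Fin 24 × Fin 3 := fun i =>
  ([(0, 0), (0, 0), (0, 1), (0, 2), (1, 0), (1, 1), (1, 2), (2, 0), (2, 2), (3, 0), (3, 2), (4, 0), (4, 1), (4, 2), (5, 2), (6, 2), (8, 0), (8, 2), (9, 1), (9, 2), (13, 2), (14, 2), (16, 2), (18, 2)] : List (Fin 24 × Fin 3))[i.val]!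

theorem check_one : els 0 = (1, 0, 0, 1) := by decide +kernel
theorem check_det : ∀ i, CfsgLib.Perm.RegularMatrix.qdet (els i) = 1 := by decide +kernel
theorem check_inj : ∀ i j, els i = els j → i = j := by decide +kernel
theorem check_order : (1 : ZMod 5) ^ 1 = 1 := by decide +kernel
theorem check_scalar : ∀ e e' : Fin 1, (1 : ZMod 5) ^ (2 * e.val) = (1 : ZMod 5) ^ (2 * e'.val) → e = e' := by
  decide +kernel
theorem check_free : ∀ i : Fin 24, ∀ e : Fin 1, (i = 0 ∧ e = 0) ∨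
    CfsgLib.Perm.RegularMatrix.qdetSub (CfsgLib.Perm.RegularMatrix.qsmul ((1 : ZMod 5) ^ e.val) (els i)) ≠ 0 := by
  decide +kernel

theorem checkA : ∀ i, CfsgLib.Perm.RegularMatrix.qmul (els i) (2, 0, 0, 3) = els (succA i) := by
  decide +kernel

theorem checkB : ∀ i, CfsgLib.Perm.RegularMatrix.qmul (els i) (0, 4, 1, 0) = els (succB i) := by
  decide +kernel

theorem checkC : ∀ i, CfsgLib.Perm.RegularMatrix.qmul (els i) (1, 2, 1, 3) = els (succC i) := by
  decide +kernel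

theorem check_pred : ∀ i : Fin 24, i = 0 ∨ ((pred0 i).1 < i ∧
    els i = CfsgLib.Perm.RegularMatrix.qmul (els (pred0 i).1)
      ((![(2, 0, 0, 3), (0, 4, 1, 0), (1, 2, 1, 3)] : Fin 3 → CfsgLib.Perm.RegularMatrix.Quad 5) (pred0 i).2)) := by
  decide +kernel

/-- An exceptional sharply doubly transitive group of degree 5^2: the listed matrices generate a subgroup of GL(2,5) of order 24 acting regularly on the non-zero vectors. -/
theorem result (A : Matrix.GeneralLinearGroup (Fin 2) (ZMod 5)) (B : Matrix.GeneralLinearGroup (Fin 2) (ZMod 5)) (C : Matrix.GeneralLinearGroup (Fin 2) (ZMod 5)) (hA : (A : Matrix (Fin 2) (Fin 2) (ZMod 5)) = !![2, 0; 0, -2]) (hB : (B : Matrix (Fin 2) (Fin 2) (ZMod 5)) = !![0, -1; 1, 0]) (hC : (C : Matrix (Fin 2) (Fin 2) (ZMod 5)) = !![1, 2; 1, -2]) : Nat.card (Subgroup.closure ({A, B, C} : Set (Matrix.GeneralLinearGroup (Fin 2) (ZMod 5)))) = 24 ∧ ∀ v w : Fin 2 → ZMod 5, v ≠ 0 → w ≠ 0 → ∃! h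 : Subgroup.closure ({A, B, C} : Set (Matrix.GeneralLinearGroup (Fin 2) (ZMod 5))), Matrix.mulVec ((h : Matrix.GeneralLinearGroup (Fin 2) (ZMod 5)) : Matrix (Fin 2) (Fin 2) (ZMod 5)) v = w := by

  have hA' : CfsgLib.Perm.RegularMatrix.toMat ((2, 0, 0, 3) : CfsgLib.Perm.RegularMatrix.Quad 5) = (A : Matrix (Fin 2) (Fin 2) (ZMod 5)) := by
    rw [hA]
    ext i j
    fin_cases i <;> fin_cases j <;> decide
  have hB' : CfsgLib.Perm.RegularMatrix.toMat ((0, 4, 1, 0) : CfsgLib.Perm.RegularMatrix.Quad 5) = (B : Matrix (Fin 2) (Fin 2) (ZMod 5)) := by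
    rw [hB]
    ext i j
    fin_cases i <;> fin_cases j <;> decide
  have hC' : CfsgLib.Perm.RegularMatrix.toMat ((1, 2, 1, 3) : CfsgLib.Perm.RegularMatrix.Quad 5) = (C : Matrix (Fin 2) (Fin 2) (ZMod 5)) := by
    rw [hC]
    ext i j
    fin_cases i <;> fin_cases j <;> decide
  haveI : Fact (Nat.Prime 5) := ⟨by norm_num⟩
  have main := CfsgLib.Perm.RegularMatrix.regular els (1 : ZMod 5) (N := 24) (M := 1) ({A, B, C} : Set (Matrix.GeneralLinearGroup (Fin 2) (ZMod 5))) (by norm_num)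
    check_one check_det check_inj check_order check_scalar check_free ?_ ?_ ?_
  · refine ⟨main.1.trans (by norm_num), main.2⟩
  · intro g hg
    simp only [Set.mem_insert_iff, Set.mem_singleton_iff] at hg
    rcases hg with rfl | rfl | rfl
    · exact ⟨succA, 0, fun i => by rw [← hA', ← CfsgLib.Perm.RegularMatrix.toMat_mul, checkA, pow_zero, one_smul]⟩
    · exact ⟨succB, 0, fun i => by rw [← hB', ← CfsgLib.Perm.RegularMatrix.toMat_mul, checkB, pow_zero, one_smul]⟩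
    · exact ⟨succC, 0, fun i => by rw [← hC', ← CfsgLib.Perm.RegularMatrix.toMat_mul, checkC, pow_zero, one_smul]⟩
  · intro i hi
    obtain ⟨hlt, he⟩ := (check_pred i).resolve_left hi
    rw [he, CfsgLib.Perm.RegularMatrix.toMat_mul]
    generalize (pred0 i).2 = k
    fin_cases k
    · exact ⟨A, by simp, _, hlt, by rw [← hA']; rfl⟩
    · exact ⟨B, by simp, _, hlt, by rw [← hB']; rfl⟩
    · exact ⟨C, by simp, _, hlt, by rw [← hC']; rfl⟩
  · exact Or.inl rfl

end Cfsg.Agent.S0691
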