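import Cfsg.Statements.S0692
import Mathlib
import Cfsg.Agent.Perm.RegularMatrix

set_option autoImplicit false
open Cfsg

namespace Cfsg.Agent.S0692

/-- The elements of the group. -/
def els : Fin 120 → CfsgLib.Perm.RegularMatrix.Quad 11 := fun i =>
  ([(1, 0, 0, 1), (0, 10, 1, 0), (2, 4, 1, 8), (10, 0, 0, 10), (10, 3, 2, 4), (4, 9, 8, 10), (8, 7, 10, 2), (0, 1, 10, 0), (9, 7, 10, 3), (3, 1, 4, 9), (1, 9, 8, 7), (6, 0, 4, 2), (7, 3, 2, 1), (1, 8, 9, 7), (7, 2, 3, 1), (3, 4, 1, 9), (7, 9, 6, 0), (9, 10, 7, 3), (0, 5, 2, 7), (1, 2, 10, 10), (6, 8, 5, 5), (8, 10, 7, 2), (10, 2, 3, 4), (5, 0, 7, 9), (4, 8, 9, 10), (9, 4, 0, 5), (1, 1, 1, 2), (6, 6, 6, 8), (5, 7, 0, 9), (2, 10, 10, 1), (8, 5, 5, 6), (9, 0, 4, 5), (4, 2, 5, 0), (2, 1, 4, 8), (0, 6, 9, 4), (10, 9, 1, 1), (5, 3, 6, 6), (0, 2, 5, 7), (1, 10, 2, 10), (6, 5, 8, 5), (7, 6, 9, 0), (6, 10, 9, 6), (3, 0, 10, 4), (10,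 6, 5, 2), (2, 7, 0, 6), (10, 10, 10, 9), (5, 5, 5, 3), (6, 4, 0, 2), (9, 1, 1, 10), (3, 6, 6, 5), (2, 0, 7, 6), (2, 5, 6, 10), (1, 7, 3, 0), (6, 9, 10, 6), (10, 5, 6, 2), (0, 8, 4, 1), (6, 1, 2, 6), (4, 0, 1, 3), (0, 9, 6, 4), (10, 1, 9, 1), (5, 6, 3, 6), (4, 5, 2, 0), (5, 1, 2, 5), (8, 0, 1, 7), (1, 5, 6, 9), (5, 9, 10, 5), (7, 10, 0, 8), (9, 5, 6, 1), (10, 8, 4, 0), (3, 3, 3, 7), (8, 9, 9, 2), (0, 7, 3, 10), (9, 6, 5, 1), (10, 4, 8, 0), (5, 2, 1, 5), (1, 6, 5, 9), (0, 3, 7, 10), (5, 10, 9, 5), (7, 0, 10, 8), (8, 4, 3, 3), (2, 9, 8, 9), (8, 1, 0, 7), (3, 8, 7, 8), (9, 3, 2, 2), (3, 5, 9, 8), (7, 1, 5, 4), (6, 2, 1, 6), (4, 1, 0, 3), (2, 6, 5, 10), (1, 3, 7, 0), (8, 8, 8, 4), (3, 2, 2, 9), (0, 4, 8, 1), (4, 3, 3, 8), (9, 9, 9, 3), (2, 3, 3, 5), (6, 7, 7, 1), (3, 10, 0, 4), (5, 8, 8, 2), (1, 4, 4, 6), (3, 7, 8, 8), (9, 2, 3, 2), (8, 3, 4, 3), (2, 8, 9, 9), (8, 6, 2, 3),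 (4, 10, 6, 7), (3, 9, 5, 8), (7, 5, 1, 4), (5, 4, 4, 10), (7, 7, 7, 4), (6, 3, 3, 9), (7, 8, 8, 3), (2, 2, 2, 8), (9, 8, 8, 6), (10, 7, 7, 5), (4, 7, 7, 7), (8, 2, 6, 3), (4, 6, 10, 7), (7, 4, 4, 4), (4, 4, 4, 7)] : List (CfsgLib.Perm.RegularMatrix.Quad 11))[i.val]!

/-- Multiplication by the generator A. -/
def succA : Fin 120 → Fin 120 := fun i =>
  ([1, 3, 5, 7, 9, 8, 12, 0, 14, 13, 17, 18, 15, 21, 2, 24, 25, 22, 23, 29, 30, 4, 33, 34, 6, 32, 38, 39, 40, 35, 36, 37, 44, 10, 11, 48, 49, 50, 45, 46, 47, 54, 55, 56, 16, 59, 60, 61, 19, 20, 58, 65, 66, 67, 62, 63, 64, 71, 31, 26, 27, 28, 75, 76, 77, 72, 73, 74, 81, 82, 83, 78, 86, 87, 88, 41, 42, 43, 92, 93, 94, 89, 90, 91, 98, 99, 51, 52, 53, 97, 102, 103, 57, 100, 101, 106, 107, 68, 104, 105, 111, 112, 69, 70, 110, 114, 113, 108, 117, 118, 84, 79, 80, 116, 85, 109, 95, 96, 119, 115] : List (Fin 120))[i.val]!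

/-- Multiplication by the generator B. -/
def succB : Fin 120 → Fin 120 := fun i =>
  ([2, 4, 6, 8, 10, 11, 0, 13, 15, 16, 1, 19, 20, 22, 23, 3, 26, 27, 28, 5, 31, 32, 7, 35, 36, 37, 9, 40, 41, 42, 43, 12, 45, 46, 47, 14, 50, 51, 52, 53, 17, 18, 56, 57, 58, 21, 61, 62, 63, 64, 24, 25, 67, 68, 69, 70, 29, 30, 72, 73, 74, 33, 34, 77, 78, 79, 80, 38, 39, 83, 84, 85, 44, 88, 89, 90, 91, 48, 49, 94, 95, 96, 97, 54, 55, 93, 100, 101, 59, 60, 103, 104, 105, 71, 65, 66, 102, 108, 109, 110, 112, 113, 81, 75, 76, 111, 115, 116, 82, 114, 119, 92, 86, 87, 98, 117, 118, 106, 107, 99] : List (Fin 120))[i.val]!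

/-- A predecessor of each element with the index of a generator. -/
def pred0 : Fin 120 → Fin 120 × Fin 2 := fun i =>
  ([(0, 0), (0, 0), (0, 1), (1, 0), (1, 1), (2, 0), (2, 1), (3, 0), (3, 1), (4, 0), (4, 1), (5, 1), (6, 0), (7, 1), (8, 0), (8, 1), (9, 1), (10, 0), (11, 0), (11, 1), (12, 1), (13, 0), (13, 1), (14, 1), (15, 0), (16, 0), (16, 1), (17, 1), (18, 1), (19, 0), (20, 0), (20, 1), (21, 1), (22, 0), (23, 0), (23, 1), (24, 1), (25, 1), (26, 0), (27, 0), (27, 1), (28, 1), (29, 1), (30, 1), (32, 0), (32, 1), (33, 1), (34, 1), (35, 0), (36, 0), (36, 1), (37, 1), (38, 1), (39, 1), (41, 0), (42, 0), (42, 1), (43, 1), (44, 1), (45, 0), (46, 0), (46, 1), (47, 1), (48, 1), (49, 1), (51, 0), (52, 0), (52, 1), (53, 1), (54, 1), (55, 1), (57, 0), (58, 1), (59, 1), (60, 1), (62, 0), (63, 0), (63, 1), (64, 1), (65, 1), (66, 1), (68, 0), (69, 0), (69, 1), (70, 1), (71, 1),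 (72, 0), (73, 0), (73, 1), (74, 1), (75, 1), (76, 1), (78, 0), (79, 0), (79, 1), (80, 1), (81, 1), (82, 1), (84, 0), (85, 0), (86, 1), (87, 1), (90, 0), (90, 1), (91, 1), (92, 1), (95, 0), (96, 0), (97, 1), (98, 1), (99, 1), (100, 0), (100, 1), (101, 1), (105, 0), (106, 1), (107, 1), (108, 0), (109, 0), (110, 1)] : List (Fin 120 × Fin 2))[i.val]!

theorem check_one : els 0 = (1, 0, 0, 1) := by decide +kernel
theorem check_det : ∀ i, CfsgLib.Perm.RegularMatrix.qdet (els i) = 1 := by decide +kernel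
theorem check_inj : ∀ i j, els i = els j → i = j := by decide +kernel
theorem check_order : (1 : ZMod 11) ^ 1 = 1 := by decide +kernel
theorem check_scalar : ∀ e e' : Fin 1, (1 : ZMod 11) ^ (2 * e.val) = (1 : ZMod 11) ^ (2 * e'.val) → e = e' := by
  decide +kernel
theorem check_free : ∀ i : Fin 120, ∀ e : Fin 1, (i = 0 ∧ e = 0) ∨
    CfsgLib.Perm.RegularMatrix.qdetSub (CfsgLib.Perm.RegularMatrix.qsmul ((1 : ZMod 11) ^ e.val) (els i)) ≠ 0 := by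
  decide +kernel

theorem checkA : ∀ i, CfsgLib.Perm.RegularMatrix.qmul (els i) (0, 10, 1, 0) = els (succA i) := by
  decide +kernel

theorem checkB : ∀ i, CfsgLib.Perm.RegularMatrix.qmul (els i) (2, 4, 1, 8) = els (succB i) := by
  decide +kernel

theorem check_pred : ∀ i : Fin 120, i = 0 ∨ ((pred0 i).1 < i ∧
    els i = CfsgLib.Perm.RegularMatrix.qmul (els (pred0 i).1)
      ((![(0, 10, 1, 0), (2, 4, 1, 8)] : Fin 2 → CfsgLib.Perm.RegularMatrix.Quad 11) (pred0 i).2)) := by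
  decide +kernel

/-- An exceptional sharply doubly transitive group of degree 11^2: the listed matrices generate a subgroup of GL(2,11) of order 120 acting regularly on the non-zero vectors. -/
theorem result (A : Matrix.GeneralLinearGroup (Fin 2) (ZMod 11)) (B : Matrix.GeneralLinearGroup (Fin 2) (ZMod 11)) (hA : (A : Matrix (Fin 2) (Fin 2) (ZMod 11)) = !![0, -1; 1, 0]) (hB : (B : Matrix (Fin 2) (Fin 2) (ZMod 11)) = !![2, 4; 1, -3]) : Nat.card (Subgroup.closure ({A, B} : Set (Matrix.GeneralLinearGroup (Fin 2) (ZMod 11)))) = 120 ∧ ∀ v w : Fin 2 → ZMod 11, v ≠ 0 → w ≠ 0 → ∃! h : Subgroup.closure ({A, B} : Set (Matrix.GeneralLinearGroup (Fin 2) (ZMod 11))), Matrix.mulVec ((h : Matrix.GeneralLinearGroup (Fin 2) (ZMod 11)) : Matrix (Fin 2) (Fin 2) (ZMod 11)) v = w := by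

  have hA' : CfsgLib.Perm.RegularMatrix.toMat ((0, 10, 1, 0) : CfsgLib.Perm.RegularMatrix.Quad 11) = (A : Matrix (Fin 2) (Fin 2) (ZMod 11)) := by
    rw [hA]
    ext i j
    fin_cases i <;> fin_cases j <;> decide
  have hB' : CfsgLib.Perm.RegularMatrix.toMat ((2, 4, 1, 8) : CfsgLib.Perm.RegularMatrix.Quad 11) = (B : Matrix (Fin 2) (Fin 2) (ZMod 11)) := by
    rw [hB]
    ext i j
    fin_cases i <;> fin_cases j <;> decide
  haveI : Fact (Nat.Prime 11) := ⟨by norm_num⟩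
  have main := CfsgLib.Perm.RegularMatrix.regular els (1 : ZMod 11) (N := 120) (M := 1) ({A, B} : Set (Matrix.GeneralLinearGroup (Fin 2) (ZMod 11))) (by norm_num)
    check_one check_det check_inj check_order check_scalar check_free ?_ ?_ ?_
  · refine ⟨main.1.trans (by norm_num), main.2⟩
  · intro g hg
    simp only [Set.mem_insert_iff, Set.mem_singleton_iff] at hg
    rcases hg with rfl | rfl
    · exact ⟨succA, 0, fun i => by rw [← hA', ← CfsgLib.Perm.RegularMatrix.toMat_mul, checkA, pow_zero, one_smul]⟩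
    · exact ⟨succB, 0, fun i => by rw [← hB', ← CfsgLib.Perm.RegularMatrix.toMat_mul, checkB, pow_zero, one_smul]⟩
  · intro i hi
    obtain ⟨hlt, he⟩ := (check_pred i).resolve_left hi
    rw [he, CfsgLib.Perm.RegularMatrix.toMat_mul]
    generalize (pred0 i).2 = k
    fin_cases k
    · exact ⟨A, by simp, _, hlt, by rw [← hA']; rfl⟩
    · exact ⟨B, by simp, _, hlt, by rw [← hB']; rfl⟩
  · exact Or.inl rfl

end Cfsg.Agent.S0692
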