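import Cfsg.Statements.S0693
import Mathlib
import Cfsg.Agent.Perm.RegularMatrix

set_option autoImplicit false
open Cfsg

namespace Cfsg.Agent.S0693

/-- The elements of the group. -/
def els : Fin 120 → CfsgLib.Perm.RegularMatrix.Quad 59 := fun i =>
  ([(1, 0, 0, 1), (0, 58, 1, 0), (9, 15, 49, 49), (58, 0, 0, 58), (10, 10, 9, 15), (15, 50, 49, 10), (49, 44, 10, 9), (0, 1, 58, 0), (50, 44, 10, 10), (10, 49, 15, 50), (49, 50, 49, 44), (48, 20, 46, 45), (44, 10, 9, 49), (49, 49, 50, 44), (44, 9, 10, 49), (10, 15, 49, 50), (13, 14, 48, 20), (50, 10, 44, 10), (20, 11, 45, 13), (55, 48, 23, 4), (1, 29, 4, 58), (49, 10, 44, 9), (10, 9, 10, 15), (11, 39, 13, 14), (15, 49, 50, 10), (14, 46, 20, 11), (36, 55, 55, 48), (55, 1, 1, 29), (11, 13, 39, 14), (48, 4, 4, 36), (29, 58, 58, 55), (14, 20, 46, 11), (46, 45, 11, 39), (9, 49, 15, 49), (39, 48, 14, 46), (4, 11, 36, 55), (58, 30, 55, 1), (20, 45, 11, 13), (55, 23, 48, 4),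 (1, 4, 29, 58), (13, 48, 14, 20), (28, 35, 34, 32), (38, 31, 30, 54), (35, 32, 31, 25), (45, 13, 39, 48), (23, 4, 4, 11), (4, 58, 58, 30), (48, 46, 20, 45), (11, 55, 55, 23), (30, 1, 1, 4), (45, 39, 13, 48), (25, 27, 28, 35), (29, 5, 38, 31), (28, 34, 35, 32), (35, 31, 32, 25), (31, 21, 54, 29), (32, 24, 25, 28), (54, 28, 29, 38), (39, 14, 48, 46), (4, 36, 11, 55), (58, 55, 30, 1), (46, 11, 45, 39), (31, 24, 25, 27), (21, 28, 29, 5), (24, 27, 28, 34), (27, 34, 35, 31), (5, 30, 31, 21), (34, 31, 32, 24), (30, 21, 54, 28), (5, 38, 38, 53), (10, 19, 19, 48), (28, 5, 38, 30), (34, 32, 31, 24), (30, 54, 21, 28), (31, 25, 24, 27), (24, 28, 27, 34), (28, 38, 5, 30), (27, 35, 34, 31), (5, 31, 30, 21), (21, 6, 5, 38), (40, 11, 10, 19), (21, 29, 28, 5), (38, 54, 53, 21), (19, 49, 48, 40), (18, 19, 45, 41), (25, 16, 42, 34), (32, 25, 24, 28), (54, 29, 28, 38), (25, 28, 27, 35), (29, 38, 5, 31), (54, 21, 21, 6), (49, 40, 40,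 11), (31, 54, 21, 29), (6, 38, 38, 54), (11, 19, 19, 49), (14, 18, 18, 19), (17, 25, 25, 16), (38, 30, 31, 54), (19, 41, 41, 14), (16, 34, 34, 17), (38, 53, 54, 21), (19, 48, 49, 40), (21, 5, 6, 38), (40, 10, 11, 19), (41, 40, 14, 18), (34, 43, 17, 25), (18, 45, 19, 41), (25, 42, 16, 34), (42, 34, 34, 43), (56, 52, 52, 3), (40, 18, 18, 45), (53, 21, 21, 5), (48, 40, 40, 10), (45, 41, 41, 40), (43, 25, 25, 42), (7, 56, 56, 52), (41, 14, 40, 18), (34, 17, 43, 25), (52, 3, 3, 7), (3, 7, 7, 56)] : List (CfsgLib.Perm.RegularMatrix.Quad 59))[i.val]!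

/-- Multiplication by the generator A. -/
def succA : Fin 120 → Fin 120 := fun i =>
  ([1, 3, 5, 7, 9, 8, 12, 0, 14, 13, 17, 18, 15, 21, 2, 24, 25, 22, 23, 29, 30, 4, 33, 34, 6, 32, 38, 39, 40, 35, 36, 37, 44, 10, 11, 48, 49, 50, 45, 46, 47, 54, 55, 56, 16, 59, 60, 61, 19, 20, 58, 65, 66, 67, 62, 63, 64, 71, 31, 26, 27, 28, 75, 76, 77, 72, 73, 74, 81, 82, 83, 78, 86, 87, 88, 41, 42, 43, 92, 93, 94, 89, 90, 91, 98, 99, 51, 52, 53, 97, 102, 103, 57, 100, 101, 106, 107, 68, 104, 105, 111, 112, 69, 70, 110, 114, 113, 108, 117, 118, 84, 79, 80, 116, 85, 109, 95, 96, 119, 115] : List (Fin 120))[i.val]!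

/-- Multiplication by the generator B. -/
def succB : Fin 120 → Fin 120 := fun i =>
  ([2, 4, 6, 8, 10, 11, 0, 13, 15, 16, 1, 19, 20, 22, 23, 3, 26, 27, 28, 5, 31, 32, 7, 35, 36, 37, 9, 40, 41, 42, 43, 12, 45, 46, 47, 14, 50, 51, 52, 53, 17, 18, 56, 57, 58, 21, 61, 62, 63, 64, 24, 25, 67, 68, 69, 70, 29, 30, 72, 73, 74, 33, 34, 77, 78, 79, 80, 38, 39, 83, 84, 85, 44, 88, 89, 90, 91, 48, 49, 94, 95, 96, 97, 54, 55, 93, 100, 101, 59, 60, 103, 104, 105, 71, 65, 66, 102, 108, 109, 110, 112, 113, 81, 75, 76, 111, 115, 116, 82, 114, 119, 92, 86, 87, 98, 117, 118, 106, 107, 99] : List (Fin 120))[i.val]!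

/-- A predecessor of each element with the index of a generator. -/
def pred0 : Fin 120 → Fin 120 × Fin 2 := fun i =>
  ([(0, 0), (0, 0), (0, 1), (1, 0), (1, 1), (2, 0), (2, 1), (3, 0), (3, 1), (4, 0), (4, 1), (5, 1), (6, 0), (7, 1), (8, 0), (8, 1), (9, 1), (10, 0), (11, 0), (11, 1), (12, 1), (13, 0), (13, 1), (14, 1), (15, 0), (16, 0), (16, 1), (17, 1), (18, 1), (19, 0), (20, 0), (20, 1), (21, 1), (22, 0), (23, 0), (23, 1), (24, 1), (25, 1), (26, 0), (27, 0), (27, 1), (28, 1), (29, 1), (30, 1), (32, 0), (32, 1), (33, 1), (34, 1), (35, 0), (36, 0), (36, 1), (37, 1), (38, 1), (39, 1), (41, 0), (42, 0), (42, 1), (43, 1), (44, 1), (45, 0), (46, 0), (46, 1), (47, 1), (48, 1), (49, 1), (51, 0), (52, 0), (52, 1), (53, 1), (54, 1), (55, 1), (57, 0), (58, 1), (59, 1), (60, 1), (62, 0), (63, 0), (63, 1), (64, 1), (65, 1), (66, 1), (68, 0), (69, 0), (69, 1), (70, 1), (71, 1), (72, 0), (73, 0), (73, 1), (74, 1), (75, 1),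 (76, 1), (78, 0), (79, 0), (79, 1), (80, 1), (81, 1), (82, 1), (84, 0), (85, 0), (86, 1), (87, 1), (90, 0), (90, 1), (91, 1), (92, 1), (95, 0), (96, 0), (97, 1), (98, 1), (99, 1), (100, 0), (100, 1), (101, 1), (105, 0), (106, 1), (107, 1), (108, 0), (109, 0), (110, 1)] : List (Fin 120 × Fin 2))[i.val]!

theorem check_one : els 0 = (1, 0, 0, 1) := by decide +kernel
theorem check_det : ∀ i, CfsgLib.Perm.RegularMatrix.qdet (els i) = 1 := by decide +kernel
theorem check_inj : ∀ i j, els i = els j → i = j := by decide +kernel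
theorem check_order : (4 : ZMod 59) ^ 29 = 1 := by decide +kernel
theorem check_scalar : ∀ e e' : Fin 29, (4 : ZMod 59) ^ (2 * e.val) = (4 : ZMod 59) ^ (2 * e'.val) → e = e' := by
  decide +kernel
theorem check_free : ∀ i : Fin 120, ∀ e : Fin 29, (i = 0 ∧ e = 0) ∨
    CfsgLib.Perm.RegularMatrix.qdetSub (CfsgLib.Perm.RegularMatrix.qsmul ((4 : ZMod 59) ^ e.val) (els i)) ≠ 0 := by
  decide +kernel

theorem checkA : ∀ i, CfsgLib.Perm.RegularMatrix.qmul (els i) (0, 58, 1, 0) = els (succA i) := by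
  decide +kernel

theorem checkB : ∀ i, CfsgLib.Perm.RegularMatrix.qmul (els i) (9, 15, 49, 49) = els (succB i) := by
  decide +kernel

theorem check_pred : ∀ i : Fin 120, i = 0 ∨ ((pred0 i).1 < i ∧
    els i = CfsgLib.Perm.RegularMatrix.qmul (els (pred0 i).1)
      ((![(0, 58, 1, 0), (9, 15, 49, 49)] : Fin 2 → CfsgLib.Perm.RegularMatrix.Quad 59) (pred0 i).2)) := by
  decide +kernel

/-- An exceptional sharply doubly transitive group of degree 59^2: the listed matrices generate a subgroup of GL(2,59) of order 3480 acting regularly on the non-zero vectors. -/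
theorem result (A : Matrix.GeneralLinearGroup (Fin 2) (ZMod 59)) (B : Matrix.GeneralLinearGroup (Fin 2) (ZMod 59)) (C : Matrix.GeneralLinearGroup (Fin 2) (ZMod 59)) (hA : (A : Matrix (Fin 2) (Fin 2) (ZMod 59)) = !![0, -1; 1, 0]) (hB : (B : Matrix (Fin 2) (Fin 2) (ZMod 59)) = !![9, 15; -10, -10]) (hC : (C : Matrix (Fin 2) (Fin 2) (ZMod 59)) = !![4, 0; 0, 4]) : Nat.card (Subgroup.closure ({A, B, C} : Set (Matrix.GeneralLinearGroup (Fin 2) (ZMod 59)))) = 3480 ∧ ∀ v w : Fin 2 → ZMod 59, v ≠ 0 → w ≠ 0 → ∃! h : Subgroup.closure ({A, B, C} : Set (Matrix.GeneralLinearGroup (Fin 2) (ZMod 59))), Matrix.mulVec ((h : Matrix.GeneralLinearGroup (Fin 2) (ZMod 59)) : Matrix (Fin 2) (Fin 2) (ZMod 59)) v = w := by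

  have hA' : CfsgLib.Perm.RegularMatrix.toMat ((0, 58, 1, 0) : CfsgLib.Perm.RegularMatrix.Quad 59) = (A : Matrix (Fin 2) (Fin 2) (ZMod 59)) := by
    rw [hA]
    ext i j
    fin_cases i <;> fin_cases j <;> decide
  have hB' : CfsgLib.Perm.RegularMatrix.toMat ((9, 15, 49, 49) : CfsgLib.Perm.RegularMatrix.Quad 59) = (B : Matrix (Fin 2) (Fin 2) (ZMod 59)) := by
    rw [hB]
    ext i j
    fin_cases i <;> fin_cases j <;> decide
  haveI : Fact (Nat.Prime 59) := ⟨by norm_num⟩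
  have main := CfsgLib.Perm.RegularMatrix.regular els (4 : ZMod 59) (N := 120) (M := 29) ({A, B, C} : Set (Matrix.GeneralLinearGroup (Fin 2) (ZMod 59))) (by norm_num)
    check_one check_det check_inj check_order check_scalar check_free ?_ ?_ ?_
  · refine ⟨main.1.trans (by norm_num), main.2⟩
  · intro g hg
    simp only [Set.mem_insert_iff, Set.mem_singleton_iff] at hg
    rcases hg with rfl | rfl | rfl
    · exact ⟨succA, 0, fun i => by rw [← hA', ← CfsgLib.Perm.RegularMatrix.toMat_mul, checkA, pow_zero, one_smul]⟩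
    · exact ⟨succB, 0, fun i => by rw [← hB', ← CfsgLib.Perm.RegularMatrix.toMat_mul, checkB, pow_zero, one_smul]⟩
    · refine ⟨id, 1, fun i => ?_⟩
      rw [hC, pow_one]
      ext r s
      fin_cases r <;> fin_cases s <;> simp [CfsgLib.Perm.RegularMatrix.toMat, Matrix.mul_apply, Fin.sum_univ_two, mul_comm]
  · intro i hi
    obtain ⟨hlt, he⟩ := (check_pred i).resolve_left hi
    rw [he, CfsgLib.Perm.RegularMatrix.toMat_mul]
    generalize (pred0 i).2 = k
    fin_cases k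
    · exact ⟨A, by simp, _, hlt, by rw [← hA']; rfl⟩
    · exact ⟨B, by simp, _, hlt, by rw [← hB']; rfl⟩
  · refine Or.inr ⟨C, by simp, ?_⟩
    rw [hC]
    ext r s
    fin_cases r <;> fin_cases s <;> simp

end Cfsg.Agent.S0693
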