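import Cfsg.Statements.S0694
import Mathlib
import Cfsg.Agent.Perm.DicksonPair
-- import your own Cfsg.Agent.* helpers here

set_option autoImplicit false
open Cfsg

namespace Cfsg.Agent.S0694

/-- The Dickson pair condition: for a prime power `q` and `n > 1`, (every prime factor of `n` divides `q - 1`, and `4 ∣ n → 4 ∣ q - 1`) holds exactly when `q ^ n ≡ 1` modulo `n * (q - 1)` but `q ^ i` is not, for `0 < i < n`. -/
theorem result (q n : ℕ) (hq : IsPrimePow q) (hn : 1 < n) : ((∀ r : ℕ, r.Prime → r ∣ n → r ∣ q - 1) ∧ (4 ∣ n → 4 ∣ q - 1)) ↔ (q ^ n ≡ 1 [MOD n * (q - 1)] ∧ ∀ i : ℕ, 0 < i → i < n → ¬ q ^ i ≡ 1 [MOD n * (q - 1)]) := by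
  have hq2 : 2 ≤ q := hq.two_le
  simp only [CfsgLib.Perm.DicksonPair.modEq_iff hq2]
  constructor
  · rintro ⟨h1, h4⟩
    have key : ∀ i, (n ∣ CfsgLib.Perm.DicksonPair.geo q i ↔ n ∣ i) := by
      intro i
      rw [Nat.dvd_iff_prime_pow_dvd_dvd, Nat.dvd_iff_prime_pow_dvd_dvd]
      refine forall_congr' fun r => forall_congr' fun a => forall_congr' fun hr => forall_congr' fun hd => ?_
      rcases Nat.eq_zero_or_pos a with rfl | ha
      · simp
      refine CfsgLib.Perm.DicksonPair.pow_dvd_geo hr a q ?_ ?_ i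
      · exact ((Nat.modEq_iff_dvd' (by omega)).2 (h1 r hr ((dvd_pow_self r ha.ne').trans hd))).symm
      · rintro rfl ha2
        exact ((Nat.modEq_iff_dvd' (by omega)).2 (h4 ((pow_dvd_pow 2 ha2).trans hd))).symm
    refine ⟨(key n).2 dvd_rfl, fun i hi0 hin h => ?_⟩
    exact absurd (Nat.le_of_dvd hi0 ((key i).1 h)) (by omega)
  · rintro ⟨hn', hmin⟩
    have hcop : Nat.Coprime q n := by
      rw [Nat.coprime_iff_gcd_eq_one]
      obtain ⟨m, rfl⟩ : ∃ m, n = m + 1 := ⟨n - 1, by omega⟩
      have h1 : Nat.gcd q (m + 1) ∣ CfsgLib.Perm.DicksonPair.geo q (m + 1) :=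
        (Nat.gcd_dvd_right _ _).trans hn'
      rw [CfsgLib.Perm.DicksonPair.geo_succ] at h1
      exact Nat.dvd_one.1 ((Nat.dvd_add_right ((Nat.gcd_dvd_left _ _).mul_right _)).1 h1)
    -- the partial sums exhaust the residues
    have hinj : Function.Injective (fun i : Fin n => ((CfsgLib.Perm.DicksonPair.geo q i : ℕ) : ZMod n)) := by
      intro i j h
      by_contra hne
      wlog hij : i.val < j.val generalizing i j
      · exact this h.symm (Ne.symm hne) (by
          have : i.val ≠ j.val := fun e => hne (Fin.ext e)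
          omega)
      obtain ⟨d, hd⟩ : ∃ d, j.val = i.val + d := ⟨j.val - i.val, by omega⟩
      simp only at h
      rw [hd, CfsgLib.Perm.DicksonPair.geo_add, Nat.cast_add, left_eq_add,
        ZMod.natCast_eq_zero_iff] at h
      exact hmin d (by omega) (by omega) ((Nat.Coprime.pow_left _ hcop).symm.dvd_of_dvd_mul_left h)
    haveI : NeZero n := ⟨by omega⟩
    have hsurj : ∀ x : ZMod n, ∃ i : ℕ, ((CfsgLib.Perm.DicksonPair.geo q i : ℕ) : ZMod n) = x := by
      intro x
      obtain ⟨i, hi⟩ := ((Fintype.bijective_iff_injective_and_card _).2 ⟨hinj, by simp⟩).2 x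
      exact ⟨i, hi⟩
    refine ⟨fun r hr hrn => ?_, fun h4n => ?_⟩
    · -- otherwise the map `x ↦ q x + 1` has a fixed point modulo `r`
      haveI := Fact.mk hr
      by_contra hne
      have hq0 : (q : ZMod r) ≠ 0 := by
        rw [Ne, ZMod.natCast_eq_zero_iff]
        exact hr.coprime_iff_not_dvd.1 (hcop.coprime_dvd_right hrn).symm
      have hq1 : (q : ZMod r) - 1 ≠ 0 := by
        rw [← Nat.cast_one, ← Nat.cast_sub (by omega), Ne, ZMod.natCast_eq_zero_iff]
        exact hne
      let x₀ : ZMod r := -((q : ZMod r) - 1)⁻¹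
      have hfix : (q : ZMod r) * x₀ + 1 = x₀ := by
        have h1 : ((q : ZMod r) - 1) * ((q : ZMod r) - 1)⁻¹ = 1 := mul_inv_cancel₀ hq1
        simp only [x₀]
        linear_combination -h1
      have hall : ∀ i, ((CfsgLib.Perm.DicksonPair.geo q i : ℕ) : ZMod r) ≠ x₀ := by
        intro i
        induction i with
        | zero => simp [CfsgLib.Perm.DicksonPair.geo, x₀, hq1]
        | succ i ih =>
          rw [CfsgLib.Perm.DicksonPair.geo_succ]
          intro h
          push_cast at h
          exact ih (mul_left_cancel₀ hq0 (add_right_cancel (h.trans hfix.symm)))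
      obtain ⟨i, hi⟩ := hsurj ((x₀.val : ℕ) : ZMod n)
      apply hall i
      have := congrArg (ZMod.castHom hrn (ZMod r)) hi
      simpa using this
    · by_contra hne
      have hodd : ¬ 2 ∣ q := fun h2 => by
        have := Nat.dvd_gcd h2 ((show 2 ∣ 4 by norm_num).trans h4n)
        rw [hcop] at this
        omega
      have hall : ∀ i, CfsgLib.Perm.DicksonPair.geo q i % 4 = 0 ∨
          CfsgLib.Perm.DicksonPair.geo q i % 4 = 1 := by
        intro i
        induction i with
        | zero => simp [CfsgLib.Perm.DicksonPair.geo]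
        | succ i ih =>
          rw [CfsgLib.Perm.DicksonPair.geo_succ, Nat.add_mod, Nat.mul_mod]
          have : q % 4 = 3 := by omega
          rcases ih with h | h <;> rw [h, this] <;> simp
      obtain ⟨i, hi⟩ := hsurj ((2 : ℕ) : ZMod n)
      rw [ZMod.natCast_eq_natCast_iff] at hi
      have := (hi.of_dvd h4n)
      unfold Nat.ModEq at this
      rcases hall i with h | h <;> omega

end Cfsg.Agent.S0694
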