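import Cfsg.Statements.S0695
import Mathlib
import Cfsg.Agent.Perm.RegularNormal
-- import your own Cfsg.Agent.* helpers here

set_option autoImplicit false
open Cfsg

namespace Cfsg.Agent.S0695

/-- A regular normal subgroup of a doubly primitive group of finite degree at least 2 is an elementary abelian 2-group (and the degree is a power of 2), unless the degree is 3. -/
theorem result {G : Type*} [Group G] {X : Type*} [Fintype X] [MulAction G X] (hX : 2 ≤ Fintype.card X) (h2 : MulAction.IsMultiplyPreprimitive G X 2) (N : Subgroup G) [N.Normal] (htrans : MulAction.IsPretransitive N X) (hreg : ∀ x : X, MulAction.stabilizer N x = ⊥) : Fintype.card X = 3 ∨ (IsMulCommutative N ∧ (∀ n ∈ N, n ^ 2 = 1) ∧ ∃ m : ℕ, Fintype.card X = 2 ^ m) := by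
  haveI : Nontrivial X := Fintype.one_lt_card_iff_nontrivial.1 (by omega)
  haveI := htrans
  rcases CfsgLib.Perm.RegularNormal.of_two_preprimitive N h2 hreg with h | h
  · exact Or.inl (by rwa [← Nat.card_eq_fintype_card])
  · right
    obtain ⟨p, j, hp, hj, hn, hc, he⟩ :=
      CfsgLib.Perm.RegularNormal.elementary N h2.isMultiplyPretransitive hreg
    refine ⟨⟨⟨hc⟩⟩, fun n hn => ?_, ?_⟩
    · exact congrArg Subtype.val (h ⟨n, hn⟩)
    · let a : X := Classical.arbitrary X
      haveI : Finite N := Finite.of_injective _ (CfsgLib.Perm.RegularNormal.smul_injective N hreg a)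
      have hpg : IsPGroup 2 N := fun n => ⟨1, by rw [pow_one]; exact h n⟩
      haveI := Fact.mk Nat.prime_two
      obtain ⟨m, hm⟩ := hpg.exists_card_eq
      exact ⟨m, by rw [← Nat.card_eq_fintype_card, ← CfsgLib.Perm.RegularNormal.card_eq N hreg a, hm]⟩

end Cfsg.Agent.S0695
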