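import Cfsg.Statements.S0699
import Mathlib
import Cfsg.Agent.Perm.JordanNormal
import Cfsg.Agent.Perm.Transitivity
-- import your own Cfsg.Agent.* helpers here

set_option autoImplicit false
open Cfsg
open scoped Pointwise

namespace Cfsg.Agent.S0699

/-- Wagner's Theorem: a non-trivial normal subgroup of a triply transitive permutation group of odd degree at least 5 is triply transitive. -/
theorem result {α : Type*} [Fintype α] [DecidableEq α] (G : Subgroup (Equiv.Perm α)) (hodd : Odd (Fintype.card α)) (h5 : 5 ≤ Fintype.card α) (hG : MulAction.IsMultiplyPretransitive G α 3) (N : Subgroup G) [N.Normal] (hN : N ≠ ⊥) : MulAction.IsMultiplyPretransitive N α 3 := by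
  classical
  haveI : Nontrivial α := Fintype.one_lt_card_iff_nontrivial.1 (by omega)
  -- `N` is 2-transitive
  have hN2 : MulAction.IsMultiplyPretransitive N α 2 := by
    rcases CfsgLib.Perm.NormalMultiply.jordan_normal G (k := 3) (by norm_num) (by omega) hG N hN
      with h | ⟨-, hc, he⟩
    · exact h
    · exfalso
      haveI : MulAction.IsPreprimitive G α := MulAction.isPreprimitive_of_is_two_pretransitive
        (MulAction.isMultiplyPretransitive_of_le' (n := 3) (by norm_num)
          (by rw [ENat.card_eq_coe_fintype_card]; exact_mod_cast (show 3 ≤ Fintype.card α by omega)))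
      haveI := CfsgLib.Perm.NormalMultiply.isPretransitive_of_ne_bot (α := α) N hN
      haveI := Fact.mk Nat.prime_two
      obtain ⟨m, hm⟩ := (show IsPGroup 2 N from fun n =>
        ⟨1, by rw [pow_one]; exact Subtype.ext (he n n.2)⟩).exists_card_eq
      let a : α := Classical.arbitrary α
      have hdvd : Nat.card α ∣ 2 ^ m := by
        rw [← hm, ← MulAction.index_stabilizer_of_transitive N a]
        exact Subgroup.index_dvd_card _
      obtain ⟨i, -, hi⟩ := (Nat.dvd_prime_pow Nat.prime_two).1 hdvd
      rw [Nat.card_eq_fintype_card] at hi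
      rcases Nat.eq_zero_or_pos i with rfl | hi0
      · rw [pow_zero] at hi; omega
      · exact (Nat.not_even_iff_odd.2 hodd) (hi ▸ (Nat.even_pow.2 ⟨even_two, by omega⟩))
  haveI : MulAction.IsPretransitive N α := MulAction.isPretransitive_of_is_two_pretransitive
  apply CfsgLib.Perm.isMultiplyPretransitive_of_fixing
  intro A hA x y hx hy
  rcases Nat.lt_or_ge A.card 2 with hA2 | hA2
  · -- fewer than two fixed points
    rcases A.eq_empty_or_nonempty with rfl | ⟨b, hb⟩
    · obtain ⟨g, hg⟩ := MulAction.exists_smul_eq N x y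
      exact ⟨g, fun _ h => absurd h (Finset.notMem_empty _), hg⟩
    · have hAb : A = {b} := Finset.eq_singleton_iff_unique_mem.2 ⟨hb, fun z hz =>
        Finset.card_le_one.1 (by omega) z hz b hb⟩
      subst hAb
      simp only [Finset.mem_singleton] at hx hy
      obtain ⟨g, hgb, hgx⟩ := MulAction.is_two_pretransitive_iff.1 hN2 (Ne.symm hx) (Ne.symm hy)
      exact ⟨g, fun z hz => by rw [Finset.mem_singleton.1 hz]; exact hgb, hgx⟩
  obtain ⟨b, c, hbc, rfl⟩ := Finset.card_eq_two.1 (show A.card = 2 by omega)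
  simp only [Finset.mem_insert, Finset.mem_singleton, not_or] at hx hy
  -- the stabiliser of the unordered pair, the stabiliser of the ordered pair
  let P : Set α := {b, c}
  let S : Subgroup N := MulAction.stabilizer N P
  let M : Subgroup N := MulAction.stabilizer N b ⊓ MulAction.stabilizer N c
  have hMS : M ≤ S := by
    intro g hg
    show g • P = P
    simp only [P, Set.smul_set_insert, Set.smul_set_singleton]
    rw [show g • b = b from hg.1, show g • c = c from hg.2]
  obtain ⟨t, htb, htc⟩ := MulAction.is_two_pretransitive_iff.1 hN2 hbc hbc.symm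
  have htS : t ∈ S := by
    show t • P = P
    simp only [P, Set.smul_set_insert, Set.smul_set_singleton, htb, htc, Set.pair_comm]
  have hSmem : ∀ g ∈ S, (g • b = b ∧ g • c = c) ∨ (g • b = c ∧ g • c = b) := by
    intro g hg
    have hb' : g • b ∈ P := by rw [← (show g • P = P from hg)]; exact Set.smul_mem_smul_set (Or.inl rfl)
    have hc' : g • c ∈ P := by rw [← (show g • P = P from hg)]; exact Set.smul_mem_smul_set (Or.inr rfl)
    have hne : g • b ≠ g • c := fun h => hbc (MulAction.injective g h)
    rcases hb' with h1 | h1 <;> rcases hc' with h2 | h2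
    · exact absurd (h1.trans h2.symm) hne
    · exact Or.inl ⟨h1, h2⟩
    · exact Or.inr ⟨h1, h2⟩
    · exact absurd (h1.trans h2.symm) hne
  have hMi : (M.subgroupOf S).index = 2 := by
    rw [Subgroup.index_eq_two_iff]
    refine ⟨⟨t, htS⟩, fun g => ?_⟩
    rcases hSmem g g.2 with ⟨h1, h2⟩ | ⟨h1, h2⟩
    · right
      refine ⟨⟨h1, h2⟩, fun h => ?_⟩
      have h' : ((g : N) * t) • b = b := h.1
      rw [mul_smul, htb, h2] at h'
      exact hbc h'.symm
    · left
      refine ⟨⟨?_, ?_⟩, fun h => hbc (h1.symm.trans h.1).symm⟩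
      · show ((g : N) * t) • b = b
        rw [mul_smul, htb, h2]
      · show ((g : N) * t) • c = c
        rw [mul_smul, htc, h1]
  -- all `S`-orbits off the pair have the same, odd, size
  have hnorm : ∀ g : G, g • b = b → g • c = c → ∀ s ∈ S,
      (⟨g * s * g⁻¹, Subgroup.Normal.conj_mem inferInstance _ s.2 g⟩ : N) ∈ S := by
    intro g hgb hgc s hs
    show (g * (s : G) * g⁻¹) • P = P
    have hgP : g • P = P := by simp only [P, Set.smul_set_insert, Set.smul_set_singleton, hgb, hgc]
    have hgP' : g⁻¹ • P = P := inv_smul_eq_iff.2 hgP.symm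
    rw [mul_smul, mul_smul, hgP', show (s : G) • P = P from hs, hgP]
  have horb : ∀ u v : α, u ∉ P → v ∉ P →
      Nat.card (MulAction.orbit S u) = Nat.card (MulAction.orbit S v) := by
    intro u v hu hv
    simp only [P, Set.mem_insert_iff, Set.mem_singleton_iff, not_or] at hu hv
    let e3 : ∀ (r s t : α), r ≠ s → r ≠ t → s ≠ t → (Fin 3 ↪ α) := fun r s t h1 h2 h3 =>
      ⟨![r, s, t], fun i j h => by fin_cases i <;> fin_cases j <;> simp_all⟩
    obtain ⟨g, hg⟩ := hG.exists_smul_eq (e3 b c u hbc (Ne.symm hu.1) (Ne.symm hu.2))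
      (e3 b c v hbc (Ne.symm hv.1) (Ne.symm hv.2))
    have hgb : g • b = b := DFunLike.congr_fun hg 0
    have hgc : g • c = c := DFunLike.congr_fun hg 1
    have hgu : g • u = v := DFunLike.congr_fun hg 2
    have himg : MulAction.orbit S v = (g • ·) '' MulAction.orbit S u := by
      ext w
      constructor
      · rintro ⟨⟨s, hs⟩, rfl⟩
        have hmem := hnorm g⁻¹ (inv_smul_eq_iff.2 hgb.symm) (inv_smul_eq_iff.2 hgc.symm) s hs
        refine ⟨_, ⟨⟨_, hmem⟩, rfl⟩, ?_⟩
        show g • (g⁻¹ * (s : G) * g⁻¹⁻¹) • u = (s : G) • v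
        rw [← hgu, smul_smul, smul_smul]; group
      · rintro ⟨_, ⟨⟨s, hs⟩, rfl⟩, rfl⟩
        refine ⟨⟨_, hnorm g hgb hgc s hs⟩, ?_⟩
        show (g * (s : G) * g⁻¹) • v = g • (s : G) • u
        rw [← hgu, mul_smul, mul_smul, inv_smul_smul]
    rw [himg, Nat.card_coe_set_eq, Nat.card_coe_set_eq,
      Set.ncard_image_of_injective _ (MulAction.injective g)]
  have hxP : x ∉ P := by simp [P, hx]
  have hinv : ∀ g : S, ∀ u ∈ Pᶜ, g • u ∈ Pᶜ := by
    intro g u hu hgu
    apply hu
    rw [← (show (g : N) • P = P from g.2)] at hgu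
    exact Set.smul_mem_smul_set_iff.1 hgu
  have hoddu : ¬ 2 ∣ Nat.card (MulAction.orbit S x) := by
    intro h2
    have hd := CfsgLib.Perm.dvd_ncard_of_invariant S Pᶜ hinv (fun u hu => horb u x hu hxP ▸ h2)
    rw [Set.ncard_compl, Set.ncard_pair hbc, Nat.card_eq_fintype_card] at hd
    obtain ⟨r, hr⟩ := hodd
    obtain ⟨w, hw⟩ := h2
    obtain ⟨w', hw'⟩ := hd
    omega
  haveI := Fact.mk Nat.prime_two
  let Q : Sylow 2 S := default
  have hQfix : ∀ u, u ∉ P → ∃ w ∈ MulAction.orbit S u, ∀ q : (Q : Subgroup S), (q : S) • w = w := by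
    intro u hu
    obtain ⟨w, hw⟩ := Q.2.nonempty_fixed_point_of_prime_not_dvd_card (MulAction.orbit S u)
      (by rw [horb u x hu hxP]; exact hoddu)
    exact ⟨w, w.2, fun q => congrArg Subtype.val (hw q)⟩
  have htransS : ∀ u, u ∉ P → u ∈ MulAction.orbit S x := by
    intro u hu
    by_contra hne
    obtain ⟨w₁, hw₁, hf₁⟩ := hQfix x hxP
    obtain ⟨w₂, hw₂, hf₂⟩ := hQfix u hu
    have hw : w₁ ≠ w₂ := fun h => hne (by
      rw [← MulAction.orbit_eq_iff.2 hw₁, h, MulAction.orbit_eq_iff.2 hw₂]
      exact MulAction.mem_orbit_self u)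
    -- the stabiliser of `(w₁, w₂)` is conjugate to `M`
    obtain ⟨g, hg1, hg2⟩ := MulAction.is_two_pretransitive_iff.1 hN2 hw hbc
    let f : (Q : Subgroup S) →* M :=
      MonoidHom.mk' (fun q => ⟨g * ((q : S) : N) * g⁻¹,
        ⟨by show (g * ((q : S) : N) * g⁻¹) • b = b
            rw [mul_smul, mul_smul, inv_smul_eq_iff.2 hg1.symm]
            exact (congrArg (g • ·) (hf₁ q)).trans hg1,
          by show (g * ((q : S) : N) * g⁻¹) • c = c
             rw [mul_smul, mul_smul, inv_smul_eq_iff.2 hg2.symm]
             exact (congrArg (g • ·) (hf₂ q)).trans hg2⟩⟩)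
        (fun q r => Subtype.ext (by simp [mul_assoc]))
    have hf : Function.Injective f := fun q r h => by
      have h' := congrArg Subtype.val h
      simp [f] at h'
      exact h'
    have hd := Subgroup.card_dvd_of_injective f hf
    have hSc : Nat.card S = Nat.card M * 2 := by
      rw [← Subgroup.card_mul_index (M.subgroupOf S), hMi,
        Nat.card_congr (Subgroup.subgroupOfEquivOfLe hMS).toEquiv]
    rw [Q.card_eq_multiplicity, hSc] at hd
    rw [Nat.factorization_mul Nat.card_pos.ne' (by norm_num), Finsupp.add_apply,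
      Nat.Prime.factorization_self Nat.prime_two,
      Nat.prime_two.pow_dvd_iff_le_factorization Nat.card_pos.ne'] at hd
    omega
  -- an `M`-orbit cannot be half of an orbit of odd size
  obtain ⟨⟨g, hgS⟩, hg⟩ := htransS y (by simp [P, hy])
  rcases hSmem g hgS with ⟨h1, h2⟩ | ⟨h1, h2⟩
  · exact ⟨g, fun z hz => by
      simp only [Finset.mem_insert, Finset.mem_singleton] at hz
      rcases hz with rfl | rfl <;> assumption, hg⟩
  · -- the stabiliser in `S` of `x` contains an element interchanging `b` and `c`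
    obtain ⟨s, hsx, hsb, hsc⟩ : ∃ s : N, s • x = x ∧ s • b = c ∧ s • c = b := by
      by_contra hcon
      simp only [not_exists, not_and] at hcon
      apply hoddu
      have hle : MulAction.stabilizer S x ≤ M.subgroupOf S := by
        intro s hs
        rcases hSmem s s.2 with h | ⟨h1, h2⟩
        · exact h
        · exact absurd h2 (hcon s hs h1)
      rw [Nat.card_coe_set_eq, ← MulAction.index_stabilizer, ← hMi]
      exact Subgroup.index_dvd_of_le hle
    refine ⟨g * s, fun z hz => ?_, by rw [mul_smul, hsx]; exact hg⟩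
    simp only [Finset.mem_insert, Finset.mem_singleton] at hz
    rcases hz with rfl | rfl
    · rw [mul_smul, hsb, h2]
    · rw [mul_smul, hsc, h1]

end Cfsg.Agent.S0699
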