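import Cfsg.Statements.S0700
import Cfsg.Agent.Perm.BurnsideMinimal

set_option autoImplicit false
open Cfsg

namespace Cfsg.Agent.S0700

/-- Burnside's Theorem on doubly transitive groups: a minimal normal subgroup of a finite doubly transitive permutation group is elementary abelian and regular, or simple and primitive. -/
theorem result {α : Type*} [Fintype α] [DecidableEq α] (G : Subgroup (Equiv.Perm α)) (hG : MulAction.IsMultiplyPretransitive G α 2) (N : Subgroup G) [N.Normal] (hN : N ≠ ⊥) (hmin : ∀ M : Subgroup G, M.Normal → M ≤ N → M = ⊥ ∨ M = N) : (IsMulCommutative N ∧ (∃ p : ℕ, p.Prime ∧ ∀ n ∈ N, n ^ p = 1) ∧ ∀ a : α, MulAction.stabilizer N a = ⊥) ∨ (IsSimpleGroup N ∧ MulAction.IsPreprimitive N α) := by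
  classical
  haveI : MulAction.IsPreprimitive G α := MulAction.isPreprimitive_of_is_two_pretransitive hG
  haveI hNt : MulAction.IsPretransitive N α := by
    refine MulAction.IsQuasiPreprimitive.isPretransitive_of_normal (N := N) fun h => hN ?_
    rw [Subgroup.eq_bot_iff_forall]
    intro n hn
    refine eq_of_smul_eq_smul (α := α) fun z => ?_
    rw [one_smul]
    exact (h ▸ Set.mem_univ z : z ∈ MulAction.fixedPoints N α) ⟨n, hn⟩
  by_cases hreg : ∀ a : α, MulAction.stabilizer N a = ⊥
  · obtain ⟨hc, hp⟩ := CfsgLib.Perm.BurnsideMinimal.elementary_of_regular N hG hN hmin hreg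
    exact Or.inl ⟨hc, hp, hreg⟩
  · have hne : ∀ a : α, MulAction.stabilizer N a ≠ ⊥ := by
      intro a ha
      refine hreg fun b => ?_
      obtain ⟨n, rfl⟩ := MulAction.exists_smul_eq N a b
      rw [MulAction.stabilizer_smul_eq_stabilizer_map_conj, ha, Subgroup.map_bot]
    haveI := CfsgLib.Perm.BurnsideMinimal.isPreprimitive N hG hmin hne
    exact Or.inr ⟨CfsgLib.Perm.BurnsideMinimal.isSimpleGroup N hG hN hmin, inferInstance⟩

end Cfsg.Agent.S0700
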