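import Cfsg.Statements.S0701
import Cfsg.Agent.Perm.Basic
-- import your own Cfsg.Agent.* helpers here

set_option autoImplicit false
open Cfsg

namespace Cfsg.Agent.S0701

/-- The centraliser in the full symmetric group of a transitive permutation group `G` is semiregular, and it is transitive if and only if `G` is regular. -/
theorem result {α : Type*} (G : Subgroup (Equiv.Perm α)) [MulAction.IsPretransitive G α] : (∀ c ∈ Subgroup.centralizer (G : Set (Equiv.Perm α)), ∀ a : α, c a = a → c = 1) ∧ (MulAction.IsPretransitive (Subgroup.centralizer (G : Set (Equiv.Perm α))) α ↔ ∀ a : α, MulAction.stabilizer G a = ⊥) := by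
  refine ⟨fun c hc a ha => CfsgLib.Perm.centralizer_eq_one_of_fix G hc ha, ⟨fun hC a => ?_, fun h => ?_⟩⟩
  · rw [eq_bot_iff]
    intro g hg
    rw [Subgroup.mem_bot]
    apply Subtype.ext
    apply Equiv.ext
    intro x
    obtain ⟨⟨c, hc⟩, rfl⟩ := hC.exists_smul_eq a x
    show g • (c a) = c a
    rw [← (CfsgLib.Perm.mem_centralizer_iff_apply G).1 hc g a, hg]
  · constructor
    intro a b
    obtain ⟨c, hc, hcab⟩ :=
      CfsgLib.Perm.exists_centralizer_of_stabilizer_eq G ((h a).trans (h b).symm)
    exact ⟨⟨c, hc⟩, hcab⟩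

end Cfsg.Agent.S0701
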