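import Cfsg.Statements.S0702
import Cfsg.Agent.Perm.Basic
-- import your own Cfsg.Agent.* helpers here

set_option autoImplicit false
open Cfsg

namespace Cfsg.Agent.S0702

/-- For a transitive permutation group `G` on a finite set, the centraliser of `G` in the symmetric group is isomorphic to `N_G(G_ω)/G_ω`, and its orbit of `ω` is the set of fixed points of `G_ω`. -/
theorem result {α : Type*} [Finite α] (G : Subgroup (Equiv.Perm α)) [MulAction.IsPretransitive G α] (a : α) : Nonempty (Subgroup.centralizer (G : Set (Equiv.Perm α)) ≃* Subgroup.normalizer ((MulAction.stabilizer G a : Subgroup G) : Set G) ⧸ (MulAction.stabilizer G a).subgroupOf (Subgroup.normalizer ((MulAction.stabilizer G a : Subgroup G) : Set G))) ∧ MulAction.orbit (Subgroup.centralizer (G : Set (Equiv.Perm α))) a = MulAction.fixedPoints (MulAction.stabilizer G a) α := by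
  classical
  set C := Subgroup.centralizer (G : Set (Equiv.Perm α)) with hC
  set K : Subgroup G := MulAction.stabilizer G a with hK
  set N : Subgroup G := Subgroup.normalizer (K : Set G) with hN
  have hfix : ∀ g : N, ∃ c ∈ C, c a = (g : G)⁻¹ • a := by
    intro g
    apply CfsgLib.Perm.exists_centralizer_of_fixed
    intro k hk
    have : (g : G) * k * (g : G)⁻¹ ∈ K := (Subgroup.mem_normalizer_iff.1 g.2 k).1 hk
    rw [hK, MulAction.mem_stabilizer_iff, mul_smul, mul_smul] at this
    exact eq_inv_smul_iff.2 this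
  choose φ hφ hφa using hfix
  have hcomm := fun g : N => (CfsgLib.Perm.mem_centralizer_iff_apply G).1 (hφ g)
  have huniq : ∀ (c d : Equiv.Perm α), c ∈ C → d ∈ C → c a = d a → c = d := by
    intro c d hc hd he
    apply Equiv.ext
    intro x
    exact congrFun (CfsgLib.Perm.eq_of_comm_of_eq (G := G)
      ((CfsgLib.Perm.mem_centralizer_iff_apply G).1 hc)
      ((CfsgLib.Perm.mem_centralizer_iff_apply G).1 hd) he) x
  let ψ : N →* C := MonoidHom.mk' (fun g => ⟨φ g, hφ g⟩) (by
    intro g h
    apply Subtype.ext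
    apply huniq _ _ (hφ _) (C.mul_mem (hφ g) (hφ h))
    show φ (g * h) a = φ g (φ h a)
    rw [hφa h, hcomm g, hφa g, hφa, smul_smul, ← mul_inv_rev]
    rfl)
  have hker : ψ.ker = K.subgroupOf N := by
    ext g
    rw [MonoidHom.mem_ker, Subgroup.mem_subgroupOf, hK, MulAction.mem_stabilizer_iff]
    constructor
    · intro h
      have h' : φ g = 1 := congrArg Subtype.val h
      have := hφa g
      rw [h', Equiv.Perm.one_apply, eq_inv_smul_iff] at this
      exact this
    · intro h
      apply Subtype.ext
      apply huniq _ _ (hφ _) C.one_mem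
      rw [hφa, Equiv.Perm.one_apply, inv_smul_eq_iff, h]
  have hsurj : Function.Surjective ψ := by
    rintro ⟨c, hc⟩
    obtain ⟨g, hg⟩ := MulAction.exists_smul_eq G (c a) a
    have hgc : g⁻¹ • a = c a := by rw [inv_smul_eq_iff, hg]
    have hgN : g ∈ N := by
      rw [hN, Subgroup.mem_normalizer_iff]
      intro k
      rw [hK, MulAction.mem_stabilizer_iff, MulAction.mem_stabilizer_iff, mul_smul, mul_smul,
        hgc]
      have hc' := (CfsgLib.Perm.mem_centralizer_iff_apply G).1 hc
      rw [← hc']
      exact ⟨fun h => by rw [h, hg], fun h => c.injective (MulAction.injective g (h.trans hg.symm))⟩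
    refine ⟨⟨g, hgN⟩, Subtype.ext (huniq _ _ (hφ _) hc ?_)⟩
    exact (hφa ⟨g, hgN⟩).trans hgc
  refine ⟨?_, ?_⟩
  · exact ⟨((QuotientGroup.quotientMulEquivOfEq hker.symm).trans
      (QuotientGroup.quotientKerEquivOfSurjective ψ hsurj)).symm⟩
  · ext x
    constructor
    · rintro ⟨⟨c, hc⟩, rfl⟩
      rintro ⟨k, hk⟩
      show k • c a = c a
      rw [← (CfsgLib.Perm.mem_centralizer_iff_apply G).1 hc, hk]
    · intro hx
      obtain ⟨c, hc, hca⟩ := CfsgLib.Perm.exists_centralizer_of_fixed G
        (a := a) (b := x) (fun k hk => hx ⟨k, hk⟩)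
      exact ⟨⟨c, hc⟩, hca⟩

end Cfsg.Agent.S0702
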