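import Cfsg.Statements.S0703
import Cfsg.Agent.Perm.Basic
-- import your own Cfsg.Agent.* helpers here

set_option autoImplicit false
open Cfsg

namespace Cfsg.Agent.S0703

/-- An abelian transitive minimal normal subgroup `M` of a permutation group on a finite set is self-centralising in the symmetric group, regular, elementary abelian, and is the unique minimal normal subgroup. -/
theorem result {α : Type*} [Finite α] (G : Subgroup (Equiv.Perm α)) (M : Subgroup G) [M.Normal] (hM : M ≠ ⊥) (hmin : ∀ L : Subgroup G, L.Normal → L ≤ M → L = ⊥ ∨ L = M) (hab : IsMulCommutative M) (htrans : MulAction.IsPretransitive M α) : Subgroup.centralizer ((M.map G.subtype : Subgroup (Equiv.Perm α)) : Set (Equiv.Perm α)) = M.map G.subtype ∧ (∀ a : α, MulAction.stabilizer M a = ⊥) ∧ (∃ p : ℕ, p.Prime ∧ ∀ m ∈ M, m ^ p = 1) ∧ ∀ L : Subgroup G, L.Normal → L ≠ ⊥ → (∀ L' : Subgroup G, L'.Normal → L' ≤ L → L' = ⊥ ∨ L' = L) → L = M := by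
  haveI := htrans
  have hcomm : ∀ x ∈ M, ∀ y ∈ M, x * y = y * x := fun x hx y hy =>
    congrArg Subtype.val (hab.is_comm.comm ⟨x, hx⟩ ⟨y, hy⟩)
  have hC := CfsgLib.Perm.centralizer_map_eq (M := M) (N := M) hcomm
  refine ⟨hC, fun a => CfsgLib.Perm.stabilizer_eq_bot_of_comm M hcomm a, ?_, ?_⟩
  · haveI : Nontrivial M := (Subgroup.nontrivial_iff_ne_bot M).2 hM
    obtain ⟨p, hp, hpd⟩ := Nat.exists_prime_and_dvd (n := Nat.card M) (by
      have := Finite.one_lt_card (α := M); omega)
    haveI := Fact.mk hp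
    obtain ⟨x, hx⟩ := exists_prime_orderOf_dvd_card' p hpd
    let L : Subgroup G :=
      { carrier := {m | m ∈ M ∧ m ^ p = 1}
        one_mem' := ⟨one_mem _, one_pow _⟩
        mul_mem' := fun {u v} hu hv => ⟨mul_mem hu.1 hv.1, by
          rw [Commute.mul_pow (hcomm u hu.1 v hv.1), hu.2, hv.2, one_mul]⟩
        inv_mem' := fun {u} hu => ⟨inv_mem hu.1, by rw [inv_pow, hu.2, inv_one]⟩ }
    have hLn : L.Normal := ⟨fun u hu g => ⟨Subgroup.Normal.conj_mem inferInstance u hu.1 g, by
      rw [conj_pow, hu.2, mul_one, mul_inv_cancel]⟩⟩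
    refine ⟨p, hp, fun m hm => ?_⟩
    rcases hmin L hLn (fun u hu => hu.1) with h | h
    · exfalso
      have : (x : G) ∈ L := ⟨x.2, by
        rw [← SubgroupClass.coe_pow, ← hx, pow_orderOf_eq_one, OneMemClass.coe_one]⟩
      rw [h, Subgroup.mem_bot] at this
      have h1 : x = 1 := Subtype.ext this
      rw [h1, orderOf_one] at hx
      exact hp.one_lt.ne hx
    · rw [← h] at hm
      exact hm.2
  · intro L hLn hL0 hLmin
    by_contra hne
    have hd : M ⊓ L = ⊥ := by
      haveI := hLn
      rcases hmin (M ⊓ L) inferInstance inf_le_left with h | h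
      · exact h
      · rcases hLmin M inferInstance (h ▸ inf_le_right) with h' | h'
        · exact absurd h' hM
        · exact absurd h'.symm hne
    have hle : L.map G.subtype ≤ M.map G.subtype := hC ▸ CfsgLib.Perm.map_le_centralizer_map
      (fun u hu v hv => CfsgLib.Perm.commute_of_normal_disjoint inferInstance hLn hd hu hv)
    rw [Subgroup.map_le_map_iff_of_injective G.subtype_injective] at hle
    rcases hmin L hLn hle with h | h
    · exact hL0 h
    · exact hne h

end Cfsg.Agent.S0703
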