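import Cfsg.Statements.S0704
import Cfsg.Agent.Perm.Basic
-- import your own Cfsg.Agent.* helpers here

set_option autoImplicit false
open Cfsg

namespace Cfsg.Agent.S0704

/-- Two distinct transitive minimal normal subgroups `M`, `N` of a permutation group are regular, non-abelian, isomorphic, each other's centraliser in the symmetric group, and the only minimal normal subgroups. -/
theorem result {α : Type*} (G : Subgroup (Equiv.Perm α)) (M N : Subgroup G) [M.Normal] [N.Normal] (hM : M ≠ ⊥) (hN : N ≠ ⊥) (hMmin : ∀ L : Subgroup G, L.Normal → L ≤ M → L = ⊥ ∨ L = M) (hNmin : ∀ L : Subgroup G, L.Normal → L ≤ N → L = ⊥ ∨ L = N) (hMN : M ≠ N) (hMt : MulAction.IsPretransitive M α) (hNt : MulAction.IsPretransitive N α) : (∀ a : α, MulAction.stabilizer M a = ⊥) ∧ (∀ a : α, MulAction.stabilizer N a = ⊥) ∧ ¬ IsMulCommutative M ∧ Nonempty (M ≃* N) ∧ Subgroup.centralizer ((M.map G.subtype : Subgroup (Equiv.Perm α)) : Set (Equiv.Perm α)) = N.map G.subtype ∧ Subgroup.centralizer ((N.map G.subtype : Subgroup (Equiv.Perm α)) : Set (Equiv.Perm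 α)) = M.map G.subtype ∧ ∀ L : Subgroup G, L.Normal → L ≠ ⊥ → (∀ L' : Subgroup G, L'.Normal → L' ≤ L → L' = ⊥ ∨ L' = L) → L = M ∨ L = N := by
  haveI := hMt
  haveI := hNt
  have hd : M ⊓ N = ⊥ := by
    rcases hMmin (M ⊓ N) inferInstance inf_le_left with h | h
    · exact h
    · rcases hNmin M inferInstance (h ▸ inf_le_right) with h' | h'
      · exact absurd h' hM
      · exact absurd h' hMN
  have hcomm : ∀ x ∈ M, ∀ y ∈ N, x * y = y * x := fun x hx y hy =>
    CfsgLib.Perm.commute_of_normal_disjoint inferInstance inferInstance hd hx hy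
  have reg : ∀ (A B : Subgroup G) [MulAction.IsPretransitive B α],
      (∀ x ∈ A, ∀ y ∈ B, x * y = y * x) → ∀ a : α, MulAction.stabilizer A a = ⊥ := by
    intro A B _ h a
    rw [eq_bot_iff]
    intro m hm
    rw [Subgroup.mem_bot]
    apply Subtype.ext
    apply Subtype.ext
    apply Equiv.ext
    intro x
    obtain ⟨k, rfl⟩ := MulAction.exists_smul_eq B a x
    show (m : G) • (k : G) • a = (k : G) • a
    rw [smul_smul, h _ m.2 _ k.2, mul_smul]
    congr 1
  have hMreg := reg M N hcomm
  have hNreg := reg N M (fun x hx y hy => (hcomm y hy x hx).symm)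
  have hCM := CfsgLib.Perm.centralizer_map_eq (M := M) (N := N) hcomm
  have hCN := CfsgLib.Perm.centralizer_map_eq (M := N) (N := M)
    (fun x hx y hy => (hcomm y hy x hx).symm)
  refine ⟨hMreg, hNreg, ?_, ?_, hCM, hCN, ?_⟩
  · intro hab
    have hle : M.map G.subtype ≤ N.map G.subtype := hCM ▸ CfsgLib.Perm.map_le_centralizer_map
      (fun x hx y hy => congrArg Subtype.val (hab.is_comm.comm ⟨x, hx⟩ ⟨y, hy⟩))
    rw [Subgroup.map_le_map_iff_of_injective G.subtype_injective] at hle
    rcases hNmin M inferInstance hle with h | h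
    · exact hM h
    · exact hMN h
  · rcases isEmpty_or_nonempty α with hα | ⟨⟨a⟩⟩
    · exfalso
      apply hM
      rw [eq_bot_iff]
      intro x _
      rw [Subgroup.mem_bot]
      exact Subtype.ext (Subsingleton.elim _ _)
    · have inj : ∀ (A : Subgroup G), (∀ a : α, MulAction.stabilizer A a = ⊥) → ∀ u v : A,
          u • a = v • a → u = v := by
        intro A hA u v h
        have : v⁻¹ * u ∈ MulAction.stabilizer A a := by
          rw [MulAction.mem_stabilizer_iff, mul_smul, h, inv_smul_smul]
        rw [hA, Subgroup.mem_bot, inv_mul_eq_one] at this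
        exact this.symm
      choose θ hθ using fun m : M => MulAction.exists_smul_eq N a (m⁻¹ • a)
      refine ⟨MulEquiv.ofBijective (MonoidHom.mk' θ ?_) ⟨?_, ?_⟩⟩
      · intro u v
        apply inj N hNreg
        rw [hθ, mul_smul, hθ]
        show ((u * v : M)⁻¹ : M) • a = (θ u : G) • ((v⁻¹ : M) : G) • a
        rw [smul_smul, ← hcomm _ (v⁻¹).2 _ (θ u).2, mul_smul]
        show ((u * v : M)⁻¹ : M) • a = (v⁻¹ : M) • θ u • a
        rw [hθ, ← mul_smul, mul_inv_rev]
      · intro u v h
        apply inv_injective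
        apply inj M hMreg
        rw [← hθ, ← hθ]
        exact congrArg (· • a) h
      · intro n
        obtain ⟨m, hm⟩ := MulAction.exists_smul_eq M a (n • a)
        refine ⟨m⁻¹, inj N hNreg _ _ ?_⟩
        show θ m⁻¹ • a = n • a
        rw [hθ, inv_inv, hm]
  · intro L hLn hL0 hLmin
    by_contra hne
    rw [not_or] at hne
    haveI := hLn
    have hdL : M ⊓ L = ⊥ := by
      rcases hMmin (M ⊓ L) inferInstance inf_le_left with h | h
      · exact h
      · rcases hLmin M inferInstance (h ▸ inf_le_right) with h' | h'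
        · exact absurd h' hM
        · exact absurd h'.symm hne.1
    have hle : L.map G.subtype ≤ N.map G.subtype := hCM ▸ CfsgLib.Perm.map_le_centralizer_map
      (fun u hu v hv => CfsgLib.Perm.commute_of_normal_disjoint inferInstance hLn hdL hu hv)
    rw [Subgroup.map_le_map_iff_of_injective G.subtype_injective] at hle
    rcases hNmin L hLn hle with h | h
    · exact hL0 h
    · exact hne.2 h

end Cfsg.Agent.S0704
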