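import Cfsg.Statements.S0705
import Mathlib
import Cfsg.Agent.Perm.Transitivity
-- import your own Cfsg.Agent.* helpers here

set_option autoImplicit false
open scoped Pointwise
open Cfsg

namespace Cfsg.Agent.S0705

/-- A generously `k`-transitive permutation group (every `(k+1)`-subset has its full symmetric group induced by the setwise stabiliser) of degree greater than `k` is `k`-transitive, and for a `k`-subset the setwise and pointwise stabilisers have the same orbits outside it. -/
theorem result {α : Type*} [Fintype α] [DecidableEq α] (G : Subgroup (Equiv.Perm α)) {k : ℕ} (hk : k < Fintype.card α) (hgen : ∀ s : Finset α, s.card = k + 1 → ∀ σ : Equiv.Perm ↥s, ∃ g ∈ G, ∀ x : ↥s, g (x : α) = σ x) : MulAction.IsMultiplyPretransitive G α k ∧ ∀ s : Finset α, s.card = k → ∀ a b : α, a ∉ s → b ∉ s → (∃ g ∈ G, g • s = s ∧ g a = b) → ∃ g ∈ G, (∀ x ∈ s, g x = x) ∧ g a = b := by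
  refine ⟨CfsgLib.Perm.isMultiplyPretransitive_of_generous hk hgen, ?_⟩
  rintro s hs a b ha hb ⟨g, hg, hgs, hgab⟩
  have hgmem : ∀ x ∈ s, g x ∈ s := by
    intro x hx
    have h1 : g • x ∈ g • s := Finset.smul_mem_smul_finset hx
    rw [hgs] at h1
    exact h1
  obtain ⟨h, hh, hhT⟩ := CfsgLib.Perm.exists_induced_perm hgen hk (insert b s)
    (by rw [Finset.card_insert_of_notMem hb]; omega)
    (Equiv.Perm.ofSubtype ((g⁻¹).subtypePerm (p := fun x => x ∈ s) (fun x => by
      constructor
      · intro hx
        have := hgmem _ hx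
        simpa using this
      · intro hx
        have h1 : x ∈ g • s := by rw [hgs]; exact hx
        rw [Finset.mem_smul_finset] at h1
        obtain ⟨y, hy, rfl⟩ := h1
        simpa using hy)))
    (fun x hx => by
      rcases Finset.mem_insert.1 hx with rfl | hx
      · rw [Equiv.Perm.ofSubtype_apply_of_not_mem _ hb]; exact Finset.mem_insert_self _ _
      · rw [Equiv.Perm.ofSubtype_apply_of_mem _ hx]
        exact Finset.mem_insert_of_mem (Subtype.coe_prop _))
  refine ⟨h * g, mul_mem hh hg, fun x hx => ?_, ?_⟩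
  · rw [Equiv.Perm.mul_apply, hhT _ (Finset.mem_insert_of_mem (hgmem x hx)),
      Equiv.Perm.ofSubtype_apply_of_mem _ (hgmem x hx)]
    simp
  · rw [Equiv.Perm.mul_apply, hgab, hhT b (Finset.mem_insert_self _ _),
      Equiv.Perm.ofSubtype_apply_of_not_mem _ hb]

end Cfsg.Agent.S0705
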