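import Cfsg.Statements.S0706
import Mathlib
import Cfsg.Agent.Perm.Transitivity
import Cfsg.Agent.S0705
-- import your own Cfsg.Agent.* helpers here

set_option autoImplicit false
open Cfsg
open scoped Pointwise

namespace Cfsg.Agent.S0706

/-- In a generously `k`-transitive permutation group, for a prime `p ≤ k` and a `k`-set `Γ`, there are no `p` points outside `Γ` lying in distinct orbits of the pointwise stabiliser of `Γ` all of length prime to `p` (at most `p - 1` such orbits). -/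
theorem result {α : Type*} [Fintype α] [DecidableEq α] (G : Subgroup (Equiv.Perm α)) {k : ℕ} (hk : k < Fintype.card α) (hgen : ∀ s : Finset α, s.card = k + 1 → ∀ σ : Equiv.Perm ↥s, ∃ g ∈ G, ∀ x : ↥s, g (x : α) = σ x) {p : ℕ} (hp : p.Prime) (hpk : p ≤ k) (Γ : Finset α) (hΓ : Γ.card = k) (f : Fin p → α) (hf : ∀ i, f i ∉ Γ) (hdist : ∀ i j, i ≠ j → f j ∉ MulAction.orbit (fixingSubgroup G (Γ : Set α)) (f i)) : ∃ i, p ∣ Nat.card (MulAction.orbit (fixingSubgroup G (Γ : Set α)) (f i)) := by
  classical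
  obtain ⟨hk', hsame⟩ : MulAction.IsMultiplyPretransitive G α k ∧
      ∀ g ∈ G, (∀ x ∈ Γ, g x ∈ Γ) → ∀ a, a ∉ Γ →
        g a ∈ MulAction.orbit (fixingSubgroup G (Γ : Set α)) a := by
    have h5 := Cfsg.Agent.S0705.result G hk hgen
    refine ⟨h5.1, fun g hg hgΓ a ha => ?_⟩
    have himg : Γ.image g = Γ :=
      Finset.eq_of_subset_of_card_le (Finset.image_subset_iff.2 hgΓ)
        (by rw [Finset.card_image_of_injective _ g.injective])
    have hgs : g • Γ = Γ := by
      rw [Finset.smul_finset_def]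
      exact himg
    have hga : g a ∉ Γ := by
      intro h
      rw [← himg, Finset.mem_image] at h
      obtain ⟨y, hy, hy'⟩ := h
      exact ha (g.injective hy' ▸ hy)
    obtain ⟨h, hh, hfix, hha⟩ := h5.2 Γ hΓ a (g a) ha hga ⟨g, hg, hgs, rfl⟩
    exact ⟨⟨⟨h, hh⟩, (mem_fixingSubgroup_iff G).2 fun x hx => hfix x hx⟩, hha⟩
  by_contra hcon
  simp only [not_exists] at hcon
  haveI := Fact.mk hp
  set X := fixingSubgroup G (Γ : Set α) with hX
  let Q : Sylow p X := default
  set Q' : Subgroup G := (Q : Subgroup X).map X.subtype with hQ'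
  obtain ⟨R, hRsub, hRc⟩ := Finset.exists_subset_card_eq (s := Γ) (n := p) (by omega)
  -- a cycle on `R`
  let er : ↥R ≃ Fin p := R.equivFinOfCardEq hRc
  let π : Equiv.Perm α := Equiv.Perm.ofSubtype ((er.symm.permCongr (finRotate p)))
  have hπR : ∀ x ∈ R, π x ∈ R ∧ π x ≠ x := by
    intro x hx
    rw [show π x = _ from Equiv.Perm.ofSubtype_apply_of_mem _ hx]
    refine ⟨Subtype.coe_prop _, fun h => ?_⟩
    have h' : er.symm.permCongr (finRotate p) ⟨x, hx⟩ = ⟨x, hx⟩ := Subtype.ext h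
    rw [Equiv.permCongr_apply, Equiv.symm_apply_eq, Equiv.symm_symm] at h'
    obtain ⟨q, rfl⟩ : ∃ q, p = q + 1 := ⟨p - 1, by have := hp.pos; omega⟩
    rw [finRotate_succ_apply] at h'
    have := add_eq_left.1 h'
    rw [Fin.ext_iff, Fin.val_one', Fin.val_zero, Nat.one_mod_eq_one.2 (by have := hp.one_lt; omega)]
      at this
    exact one_ne_zero this
  have hπfix : ∀ x, x ∉ R → π x = x := fun x hx => Equiv.Perm.ofSubtype_apply_of_not_mem _ hx
  have hπΓ : ∀ x ∈ Γ, π x ∈ Γ := fun x hx => by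
    by_cases h : x ∈ R
    · exact hRsub (hπR x h).1
    · rw [hπfix x h]; exact hx
  have hπp : π ^ p = 1 := by
    rw [← map_pow]
    convert map_one Equiv.Perm.ofSubtype
    obtain ⟨q, hq⟩ : ∃ q, p = q + 2 := ⟨p - 2, by have := hp.two_le; omega⟩
    subst hq
    rw [← Equiv.permCongrHom_coe, ← map_pow]
    convert map_one (Equiv.permCongrHom er.symm)
    have := orderOf_dvd_iff_pow_eq_one (x := finRotate (q + 2)) (n := q + 2)
    apply this.1
    rw [isCycle_finRotate.orderOf, support_finRotate, Finset.card_univ, Fintype.card_fin]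
  obtain ⟨g₀, hg₀, hg₀Γ⟩ := CfsgLib.Perm.exists_induced_perm hgen hk Γ (by omega) π hπΓ
  -- the setwise stabiliser normalises `X`
  have hnorm : ∀ g : G, (∀ x ∈ Γ, (g : Equiv.Perm α) x ∈ Γ) → ∀ x ∈ X, g * x * g⁻¹ ∈ X := by
    intro g hg x hx
    rw [mem_fixingSubgroup_iff]
    intro y hy
    have himg : Γ.image (g : Equiv.Perm α) = Γ :=
      Finset.eq_of_subset_of_card_le (Finset.image_subset_iff.2 hg)
        (by rw [Finset.card_image_of_injective _ (Equiv.injective _)])
    rw [Finset.mem_coe, ← himg, Finset.mem_image] at hy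
    obtain ⟨z, hz, rfl⟩ := hy
    have hz' : x • z = z := (mem_fixingSubgroup_iff G).1 hx z hz
    rw [mul_smul, mul_smul, show (g : Equiv.Perm α) z = g • z from rfl, inv_smul_smul, hz']
  let S : Subgroup G :=
    { carrier := {g | ∀ x ∈ Γ, (g : Equiv.Perm α) x ∈ Γ}
      one_mem' := fun x hx => hx
      mul_mem' := fun {a b} ha hb x hx => ha _ (hb x hx)
      inv_mem' := fun {a} ha x hx => by
        have himg : Γ.image (a : Equiv.Perm α) = Γ :=
          Finset.eq_of_subset_of_card_le (Finset.image_subset_iff.2 ha)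
            (by rw [Finset.card_image_of_injective _ (Equiv.injective _)])
        rw [← himg, Finset.mem_image] at hx
        obtain ⟨z, hz, rfl⟩ := hx
        show (a : Equiv.Perm α)⁻¹ ((a : Equiv.Perm α) z) ∈ Γ
        simpa using hz }
  have hXS : X ≤ S := fun g hg x hx => by
    have : g • x = x := (mem_fixingSubgroup_iff G).1 hg x hx
    show g • x ∈ Γ
    rw [this]; exact hx
  -- Frattini argument
  obtain ⟨y₁, hy₁N, hy₁Γ⟩ : ∃ y₁ : G, (∀ z, z ∈ Q' → y₁ * z * y₁⁻¹ ∈ Q') ∧
      ∀ x ∈ Γ, (y₁ : Equiv.Perm α) x = π x := by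
    have hg₀S : (⟨g₀, hg₀⟩ : G) ∈ S := fun x hx => by
      show g₀ x ∈ Γ
      rw [hg₀Γ x hx]; exact hπΓ x hx
    let g₁ : S := ⟨⟨g₀, hg₀⟩, hg₀S⟩
    haveI : (X.subgroupOf S).Normal := ⟨fun x hx g => hnorm g g.2 x hx⟩
    let Q₂ : Sylow p (X.subgroupOf S) :=
      Q.comapOfInjective (Subgroup.subgroupOfEquivOfLe hXS).toMonoidHom
        (Subgroup.subgroupOfEquivOfLe hXS).injective (by
          rw [MonoidHom.range_eq_top.2 (Subgroup.subgroupOfEquivOfLe hXS).surjective]
          exact le_top)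
    obtain ⟨n, hn, m, hm, hnm⟩ := Subgroup.mem_sup_of_normal_right.1
      ((Sylow.normalizer_sup_eq_top Q₂).symm ▸ Subgroup.mem_top g₁ :
        g₁ ∈ Subgroup.normalizer (((Q₂ : Subgroup (X.subgroupOf S)).map (X.subgroupOf S).subtype :
          Subgroup S) : Set S) ⊔ X.subgroupOf S)
    refine ⟨(n : G), fun z hz => ?_, fun x hx => ?_⟩
    · rw [hQ', Subgroup.mem_map] at hz
      obtain ⟨w, hw, rfl⟩ := hz
      have := (Subgroup.mem_normalizer_iff.1 hn ⟨w, hXS w.2⟩).1 ⟨⟨⟨w, hXS w.2⟩, w.2⟩, hw, rfl⟩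
      obtain ⟨v, hv, hve⟩ := this
      rw [hQ', Subgroup.mem_map]
      refine ⟨⟨((v : S) : G), v.2⟩, hv, ?_⟩
      exact congrArg Subtype.val hve
    · have hnm' : (n : G) * (m : G) = (⟨g₀, hg₀⟩ : G) := congrArg Subtype.val hnm
      have hm' : (m : G) • x = x := (mem_fixingSubgroup_iff G).1 hm x hx
      rw [← hg₀Γ x hx]
      show (n : G) • x = (⟨g₀, hg₀⟩ : G) • x
      rw [← hnm', mul_smul, hm']
  -- take the `p`-part
  obtain ⟨e, m, hpm, hem⟩ : ∃ e m : ℕ, ¬ p ∣ m ∧ orderOf y₁ = p ^ e * m :=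
    Nat.exists_eq_pow_mul_and_not_dvd (orderOf_pos y₁).ne' p hp.ne_one
  set y := y₁ ^ m with hy
  have hyp : y ^ p ^ e = 1 := by
    rw [hy, ← pow_mul, mul_comm, ← hem, pow_orderOf_eq_one]
  have hyΓ : ∀ x ∈ Γ, (y : Equiv.Perm α) x = (π ^ m) x := by
    intro x hx
    rw [hy]
    clear hy y hyp hem hpm
    induction m generalizing x with
    | zero => rfl
    | succ m ih =>
      rw [pow_succ, pow_succ, Subgroup.coe_mul, Equiv.Perm.mul_apply, Equiv.Perm.mul_apply,
        hy₁Γ x hx, ih _ (hπΓ x hx)]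
  have hyΓ' : ∀ x ∈ Γ, (y : Equiv.Perm α) x ∈ Γ := by
    have : y₁ ∈ S := fun x hx => by rw [hy₁Γ x hx]; exact hπΓ x hx
    exact S.pow_mem this m
  have hyN : ∀ z, z ∈ Q' → y * z * y⁻¹ ∈ Q' := by
    rw [hy]
    clear hy y hyp hem hpm hyΓ hyΓ'
    induction m with
    | zero => intro z hz; simpa using hz
    | succ m ih =>
      intro z hz
      have := hy₁N _ (ih z hz)
      rw [pow_succ']
      simpa [mul_assoc] using this
  -- the fixed points of `Q`
  have hQ'le : Q' ≤ X := Subgroup.map_subtype_le _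
  have hQ'p : IsPGroup p Q' := Q.2.map _
  have hQmap : ∀ z ∈ Q', ∀ w : α, (∀ u : Q', u • w = w) → z • w = w := fun z hz w hw => hw ⟨z, hz⟩
  have hyN' : ∀ z, z ∈ Q' → y⁻¹ * z * y ∈ Q' := by
    intro z hz
    let c : Q' → Q' := fun u => ⟨y * u * y⁻¹, hyN u u.2⟩
    have hc : Function.Injective c := fun u v h => by simpa [c] using h
    obtain ⟨u, hu⟩ := (Finite.injective_iff_surjective.1 hc) ⟨z, hz⟩
    have hu' : y * u * y⁻¹ = z := congrArg Subtype.val hu
    rw [← hu']
    simp [mul_assoc]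
  -- each orbit contains a common fixed point of `Q` and `y`
  have hpy : IsPGroup p (Subgroup.zpowers y) := by
    obtain ⟨e', -, he'⟩ := (Nat.dvd_prime_pow hp).1 (orderOf_dvd_of_pow_eq_one hyp)
    exact IsPGroup.of_card (n := e') (by rw [Nat.card_zpowers, he'])
  let M : Subgroup G := Q' ⊔ Subgroup.zpowers y
  have hyNorm : Subgroup.zpowers y ≤ Subgroup.normalizer (Q' : Set G) := by
    rw [Subgroup.zpowers_le, Subgroup.mem_normalizer_iff]
    intro z
    refine ⟨hyN z, fun h => ?_⟩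
    have := hyN' _ h
    simpa [mul_assoc] using this
  have hM : IsPGroup p M := IsPGroup.to_sup_of_normal_left' hQ'p hpy hyNorm
  have hcfix : ∀ i, ∃ c, c ∈ MulAction.orbit X (f i) ∧ ∀ u : M, u • c = c := by
    intro i
    have hinvX : ∀ g : G, g ∈ X → ∀ x ∈ MulAction.orbit X (f i), g • x ∈ MulAction.orbit X (f i) :=
      fun g hg x hx => MulAction.mem_orbit_of_mem_orbit (⟨g, hg⟩ : X) hx
    have hinvy : ∀ x ∈ MulAction.orbit X (f i), y • x ∈ MulAction.orbit X (f i) := by
      rintro x ⟨⟨g, hg⟩, rfl⟩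
      have h1 : y • f i ∈ MulAction.orbit X (f i) := hsame _ y.2 hyΓ' _ (hf i)
      have h2 := hinvX _ (hnorm y hyΓ' g hg) _ h1
      rw [smul_smul, inv_mul_cancel_right, mul_smul] at h2
      exact h2
    let O : SubMulAction M α :=
      { carrier := MulAction.orbit X (f i)
        smul_mem' := by
          rintro ⟨u, hu⟩ x hx
          have hMle : M ≤ MulAction.stabilizer G (MulAction.orbit X (f i)) := by
            rw [sup_le_iff, Subgroup.zpowers_le]
            refine ⟨fun g hg => ?_, ?_⟩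
            · rw [MulAction.mem_stabilizer_set_iff_subset_smul_set (Set.toFinite _)]
              intro x hx
              rw [Set.mem_smul_set_iff_inv_smul_mem]
              exact hinvX _ (inv_mem (hQ'le hg)) x hx
            · rw [MulAction.mem_stabilizer_set_iff_smul_set_subset (Set.toFinite _)]
              rintro _ ⟨x, hx, rfl⟩
              exact hinvy x hx
          exact (MulAction.mem_stabilizer_set.1 (hMle hu) x).2 hx }
    obtain ⟨c, hc⟩ := hM.nonempty_fixed_point_of_prime_not_dvd_card O (hcon i)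
    exact ⟨c, c.2, fun u => congrArg Subtype.val (hc u)⟩
  choose c hcO hcfix using hcfix
  have hcinj : Function.Injective c := by
    intro i j h
    by_contra hij
    apply hdist i j hij
    rw [← MulAction.orbit_eq_iff.2 (hcO i), h, MulAction.orbit_eq_iff.2 (hcO j)]
    exact MulAction.mem_orbit_self _
  have hcΓ : ∀ i, c i ∉ Γ := by
    intro i h
    obtain ⟨⟨g, hg⟩, hgi⟩ := hcO i
    have hgi' : g • f i = c i := hgi
    have h1 : g • c i = c i := (mem_fixingSubgroup_iff G).1 hg _ h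
    exact hf i ((MulAction.injective g (hgi'.trans h1.symm)).symm ▸ h)
  -- the set `T`
  let T : Finset α := (Γ \ R) ∪ Finset.univ.image c
  have hTc : T.card = k := by
    rw [Finset.card_union_of_disjoint, Finset.card_image_of_injective _ hcinj,
      Finset.card_sdiff_of_subset hRsub, Finset.card_univ, Fintype.card_fin, hΓ, hRc]
    · omega
    · rw [Finset.disjoint_left]
      intro x hx hx'
      simp only [Finset.mem_image, Finset.mem_univ, true_and] at hx'
      obtain ⟨i, rfl⟩ := hx'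
      exact hcΓ i (Finset.mem_sdiff.1 hx).1
  have hMT : M ≤ fixingSubgroup G (T : Set α) := by
    intro u hu
    rw [mem_fixingSubgroup_iff]
    intro x hx
    simp only [T, Finset.coe_union, Finset.coe_image, Finset.coe_sdiff, Set.mem_union,
      Set.mem_sdiff, Finset.mem_coe, Set.mem_image] at hx
    rcases hx with ⟨hx, hxR⟩ | ⟨i, _, rfl⟩
    · have hle : M ≤ MulAction.stabilizer G x := by
        rw [sup_le_iff, Subgroup.zpowers_le]
        refine ⟨fun g hg => (mem_fixingSubgroup_iff G).1 (hQ'le hg) x hx, ?_⟩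
        rw [MulAction.mem_stabilizer_iff]
        show (y : Equiv.Perm α) x = x
        rw [hyΓ x hx]
        exact Equiv.Perm.pow_apply_eq_self_of_apply_eq_self (hπfix x hxR) m
      exact hle hu
    · exact hcfix i ⟨u, hu⟩
  have hTX : Nat.card (fixingSubgroup G (T : Set α)) = Nat.card X := by
    have h1 : (T : Set α).ncard = k := by rw [Set.ncard_coe_finset, hTc]
    have h2 : (Γ : Set α).ncard = k := by rw [Set.ncard_coe_finset, hΓ]
    have i1 := MulAction.IsMultiplyPretransitive.index_of_fixingSubgroup_mul hk' h1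
    have i2 := MulAction.IsMultiplyPretransitive.index_of_fixingSubgroup_mul hk' h2
    have hidx := Nat.eq_of_mul_eq_mul_right (Nat.factorial_pos _) (i1.trans i2.symm)
    have e1 := Subgroup.card_mul_index (fixingSubgroup G (T : Set α))
    have e2 := Subgroup.card_mul_index X
    rw [hidx, ← e2] at e1
    exact Nat.eq_of_mul_eq_mul_right (Nat.pos_of_ne_zero Subgroup.index_ne_zero_of_finite) e1
  -- `M` is a `p`-subgroup no bigger than `Q`
  obtain ⟨n, hn⟩ := hM.exists_card_eq
  have hQc : Nat.card Q' = p ^ (Nat.card X).factorization p := by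
    rw [hQ', Subgroup.card_map_of_injective X.subtype_injective]
    exact Q.card_eq_multiplicity
  have hdvd : p ^ n ∣ Nat.card X := hn ▸ hTX ▸ Subgroup.card_dvd_of_le hMT
  have hnle : n ≤ (Nat.card X).factorization p :=
    (hp.pow_dvd_iff_le_factorization Nat.card_pos.ne').1 hdvd
  have hMQ : Q' = M := Subgroup.eq_of_le_of_card_ge le_sup_left (by
    rw [hn, hQc]; exact Nat.pow_le_pow_right hp.pos hnle)
  have hyQ : y ∈ Q' := hMQ ▸ (le_sup_right : _ ≤ M) (Subgroup.mem_zpowers y)
  obtain ⟨r, hr⟩ := Finset.card_pos.1 (hRc ▸ hp.pos)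
  have hyr : (y : Equiv.Perm α) r = r := (mem_fixingSubgroup_iff G).1 (hQ'le hyQ) r (hRsub hr)
  rw [hyΓ r (hRsub hr)] at hyr
  -- `π ^ m` fixes `r`, so `π` fixes `r`
  obtain ⟨u, hu⟩ := Nat.exists_mul_mod_eq_one_of_coprime
    ((hp.coprime_iff_not_dvd.2 hpm).symm) hp.one_lt
  apply (hπR r hr).2
  have h2 : (π ^ (m * u)) r = r := by
    rw [pow_mul]
    exact Equiv.Perm.pow_apply_eq_self_of_apply_eq_self hyr u
  have h3 : π ^ (m * u) = π := by
    rw [← Nat.mod_add_div (m * u) p, hu.2, pow_add, pow_mul, hπp, one_pow, mul_one, pow_one]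
  rwa [h3] at h2

end Cfsg.Agent.S0706
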