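import Cfsg.Statements.S0707
import Cfsg.Agent.Perm.Basic
-- import your own Cfsg.Agent.* helpers here

set_option autoImplicit false
open Cfsg

namespace Cfsg.Agent.S0707

/-- In a primitive permutation group, distinct points have distinct stabilisers unless the group is regular of prime degree. -/
theorem result {α : Type*} (G : Subgroup (Equiv.Perm α)) [MulAction.IsPreprimitive G α] (h : ¬ (Nat.card α).Prime ∨ ∃ a : α, MulAction.stabilizer G a ≠ ⊥) {a b : α} (hab : a ≠ b) : MulAction.stabilizer G a ≠ MulAction.stabilizer G b := by
  intro he
  obtain ⟨c, hc, hcab⟩ := CfsgLib.Perm.exists_centralizer_of_stabilizer_eq G he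
  have key : ∀ (g : G) {x y : α}, MulAction.stabilizer G x = MulAction.stabilizer G y →
      MulAction.stabilizer G (g • x) = MulAction.stabilizer G (g • y) := by
    intro g x y hxy
    rw [MulAction.stabilizer_smul_eq_stabilizer_map_conj, hxy,
      ← MulAction.stabilizer_smul_eq_stabilizer_map_conj]
  have hB : MulAction.IsBlock G {x : α | MulAction.stabilizer G x = MulAction.stabilizer G a} := by
    rw [MulAction.isBlock_iff_smul_eq_or_disjoint]
    intro g
    by_cases h : MulAction.stabilizer G (g • a) = MulAction.stabilizer G a
    · left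
      ext x
      rw [Set.mem_smul_set_iff_inv_smul_mem, Set.mem_ofPred_eq, Set.mem_ofPred_eq]
      constructor
      · intro hx
        have := key g hx
        rw [smul_inv_smul] at this
        exact this.trans h
      · intro hx
        have := key g⁻¹ (hx.trans h.symm)
        rwa [inv_smul_smul] at this
    · right
      rw [Set.disjoint_left]
      rintro x ⟨y, hy, rfl⟩ hx
      exact h ((key g hy).symm.trans hx)
  rcases MulAction.IsPreprimitive.isTrivialBlock_of_isBlock hB with h1 | h1
  · exact hab (h1 rfl he.symm)
  · have htriv : ∀ x : α, MulAction.stabilizer G x = ⊥ := by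
      intro x
      rw [eq_bot_iff]
      intro g hg
      rw [Subgroup.mem_bot]
      apply Subtype.ext
      apply Equiv.ext
      intro y
      have hy : y ∈ ({x : α | MulAction.stabilizer G x = MulAction.stabilizer G a}) := by rw [h1]; trivial
      have hx : x ∈ ({x : α | MulAction.stabilizer G x = MulAction.stabilizer G a}) := by rw [h1]; trivial
      rw [Set.mem_ofPred_eq] at hy hx
      have : g ∈ MulAction.stabilizer G y := by rw [hy, ← hx]; exact hg
      exact this
    rcases h with h | ⟨x, hx⟩
    · apply h
      haveI : Nontrivial α := ⟨a, b, hab⟩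
      have hcoat : IsCoatom (⊥ : Subgroup G) := by
        rw [← htriv a]
        exact (MulAction.isCoatom_stabilizer_iff_preprimitive G a).2 inferInstance
      have e : Nat.card α = Nat.card G := by
        rw [← MulAction.index_stabilizer_of_transitive G a, htriv a, Subgroup.index_bot]
      rw [e]
      haveI : Nontrivial G := by
        obtain ⟨g, hg⟩ := MulAction.exists_smul_eq G a b
        exact ⟨g, 1, fun h => hab (by rw [← hg, h, one_smul])⟩
      haveI : IsSimpleGroup G := ⟨fun H hH => by
        rcases eq_or_ne H ⊥ with h | h
        · exact Or.inl h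
        · exact Or.inr (hcoat.2 H (bot_lt_iff_ne_bot.2 h))⟩
      obtain ⟨g, hg⟩ := exists_ne (1 : G)
      have hz : Subgroup.zpowers g = ⊤ :=
        hcoat.2 _ (bot_lt_iff_ne_bot.2 (fun h => hg (Subgroup.zpowers_eq_bot.1 h)))
      haveI : IsCyclic G := ⟨g, fun x => Subgroup.mem_zpowers_iff.1 (hz ▸ Subgroup.mem_top x)⟩
      letI : CommGroup G := IsCyclic.commGroup
      exact IsSimpleGroup.prime_card
    · exact hx (htriv x)

end Cfsg.Agent.S0707
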