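import Cfsg.Statements.S0708
import Cfsg.Agent.MElevenUnique.Tools

set_option autoImplicit false
open Cfsg MulAction

namespace Cfsg.Agent.S0708

variable {G : Type*} [Group G] {Ω : Type*} [MulAction G Ω]

theorem four_emb (a b c d : Ω) (hab : a ≠ b) (hac : a ≠ c) (had : a ≠ d) (hbc : b ≠ c) (hbd : b ≠ d)
    (hcd : c ≠ d) : ∃ x : Fin 4 ↪ Ω, x 0 = a ∧ x 1 = b ∧ x 2 = c ∧ x 3 = d := by
  refine ⟨⟨![a, b, c, d], fun i j h => ?_⟩, rfl, rfl, rfl, rfl⟩
  fin_cases i <;> fin_cases j <;> simp_all [Ne.symm hab, Ne.symm hac, Ne.symm had, Ne.symm hbc,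
    Ne.symm hbd, Ne.symm hcd]

/-- Only the identity fixes four points. -/
theorem eq_one (hsharp : ∀ x : Fin 4 ↪ Ω, stabilizer G x = ⊥) {g : G} {a b c d : Ω}
    (hab : a ≠ b) (hac : a ≠ c) (had : a ≠ d) (hbc : b ≠ c) (hbd : b ≠ d) (hcd : c ≠ d)
    (ga : g • a = a) (gb : g • b = b) (gc : g • c = c) (gd : g • d = d) : g = 1 := by
  obtain ⟨x, h0, h1, h2, h3⟩ := four_emb a b c d hab hac had hbc hbd hcd
  have hm : g ∈ stabilizer G x := by
    refine Function.Embedding.ext fun i => ?_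
    show g • x i = x i
    fin_cases i
    · show g • x 0 = x 0
      rw [h0]; exact ga
    · show g • x 1 = x 1
      rw [h1]; exact gb
    · show g • x 2 = x 2
      rw [h2]; exact gc
    · show g • x 3 = x 3
      rw [h3]; exact gd
  rw [hsharp] at hm
  exact hm

theorem exists_map (h4 : IsMultiplyPretransitive G Ω 4) {a b c d a' b' c' d' : Ω}
    (hab : a ≠ b) (hac : a ≠ c) (had : a ≠ d) (hbc : b ≠ c) (hbd : b ≠ d) (hcd : c ≠ d)
    (hab' : a' ≠ b') (hac' : a' ≠ c') (had' : a' ≠ d') (hbc' : b' ≠ c') (hbd' : b' ≠ d') (hcd' : c' ≠ d') :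
    ∃ g : G, g • a = a' ∧ g • b = b' ∧ g • c = c' ∧ g • d = d' := by
  obtain ⟨x, h0, h1, h2, h3⟩ := four_emb a b c d hab hac had hbc hbd hcd
  obtain ⟨y, k0, k1, k2, k3⟩ := four_emb a' b' c' d' hab' hac' had' hbc' hbd' hcd'
  obtain ⟨g, hg⟩ := h4.exists_smul_eq x y
  have h : ∀ i, g • x i = y i := fun i => DFunLike.congr_fun hg i
  exact ⟨g, by rw [← h0, ← k0]; exact h 0, by rw [← h1, ← k1]; exact h 1,
    by rw [← h2, ← k2]; exact h 2, by rw [← h3, ← k3]; exact h 3⟩

/-- The degree of a sharply four-fold transitive action, by the centraliser of an involution fixing two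
points: the stabiliser of one of its transpositions acts faithfully on its fixed points and transitively on
the other moved points. -/
theorem degree (h4 : IsMultiplyPretransitive G Ω 4) (hsharp : ∀ x : Fin 4 ↪ Ω, stabilizer G x = ⊥)
    {a b c d : Ω} (hab : a ≠ b) (hac : a ≠ c) (had : a ≠ d) (hbc : b ≠ c) (hbd : b ≠ d) (hcd : c ≠ d) :
    Finite Ω ∧ ∃ f : ℕ, (f = 2 ∨ f = 3) ∧ Nat.card Ω ≤ f + 2 + Nat.factorial f ∧
      Nat.card Ω % 2 = f % 2 := by
  classical
  obtain ⟨s, sa, sb, sc, sd⟩ := exists_map h4 hab hac had hbc hbd hcd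
    hab.symm hbc hbd hac had hcd
  have hs1 : s ≠ 1 := fun e => hab (by rw [← sa, e, one_smul])
  have hs2 : s * s = 1 := eq_one hsharp hab hac had hbc hbd hcd (by rw [mul_smul, sa, sb])
    (by rw [mul_smul, sb, sa]) (by rw [mul_smul, sc, sc]) (by rw [mul_smul, sd, sd])
  have hss : ∀ p : Ω, s • s • p = p := fun p => by rw [← mul_smul, hs2, one_smul]
  -- at most three fixed points
  have hF4 : ¬ Nonempty (Fin 4 ↪ fixedBy Ω s) := fun ⟨z⟩ => hs1 (eq_one hsharp
    (a := (z 0 : Ω)) (b := z 1) (c := z 2) (d := z 3)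
    (fun e => absurd (z.injective (Subtype.ext e)) (by decide))
    (fun e => absurd (z.injective (Subtype.ext e)) (by decide))
    (fun e => absurd (z.injective (Subtype.ext e)) (by decide))
    (fun e => absurd (z.injective (Subtype.ext e)) (by decide))
    (fun e => absurd (z.injective (Subtype.ext e)) (by decide))
    (fun e => absurd (z.injective (Subtype.ext e)) (by decide))
    (z 0).2 (z 1).2 (z 2).2 (z 3).2)
  haveI hFfin : Finite (fixedBy Ω s) := by
    rcases finite_or_infinite (fixedBy Ω s) with h | h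
    · exact h
    · exact absurd ⟨(Fin.valEmbedding.trans (Infinite.natEmbedding (fixedBy Ω s)))⟩ hF4
  set f := Nat.card (fixedBy Ω s) with hfdef
  have hf3 : f ≤ 3 := by
    by_contra hgt
    haveI := Fintype.ofFinite (fixedBy Ω s)
    exact hF4 (Function.Embedding.nonempty_of_card_le (by
      rw [Fintype.card_fin, ← Nat.card_eq_fintype_card]; omega))
  have hf2 : 2 ≤ f := by
    haveI : Nontrivial (fixedBy Ω s) := ⟨⟨⟨c, sc⟩, ⟨d, sd⟩, fun e => hcd (congrArg Subtype.val e)⟩⟩
    exact Finite.one_lt_card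
  -- the stabiliser of the transposition (a b) in the centraliser of s
  let T := {g : G // g • a = a ∧ g • b = b ∧ g * s = s * g}
  have hpres : ∀ g : T, ∀ q : Ω, q ∈ fixedBy Ω s → g.1 • q ∈ fixedBy Ω s := fun g q hq => by
    show s • g.1 • q = g.1 • q
    rw [← mul_smul, ← g.2.2.2, mul_smul, show s • q = q from hq]
  let φ : T → (fixedBy Ω s ↪ fixedBy Ω s) := fun g => ⟨fun q => ⟨g.1 • q.1, hpres g q.1 q.2⟩,
    fun q r e => Subtype.ext (smul_left_cancel g.1 (congrArg Subtype.val e))⟩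
  have hφ : Function.Injective φ := fun g k e => by
    have hq : ∀ q : fixedBy Ω s, g.1 • q.1 = k.1 • q.1 := fun q =>
      congrArg Subtype.val (DFunLike.congr_fun e q)
    refine Subtype.ext (inv_mul_eq_one.1 (eq_one hsharp hab hac had hbc hbd hcd ?_ ?_ ?_ ?_)).symm
    · rw [mul_smul, g.2.1, inv_smul_eq_iff, k.2.1]
    · rw [mul_smul, g.2.2.1, inv_smul_eq_iff, k.2.2.1]
    · rw [mul_smul, hq ⟨c, sc⟩, inv_smul_smul]
    · rw [mul_smul, hq ⟨d, sd⟩, inv_smul_smul]
  haveI : Fintype (fixedBy Ω s) := Fintype.ofFinite _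
  haveI : Finite T := Finite.of_injective φ hφ
  have hT : Nat.card T ≤ Nat.factorial f := by
    refine (Nat.card_le_card_of_injective φ hφ).trans (le_of_eq ?_)
    rw [Nat.card_eq_fintype_card, Fintype.card_embedding_eq, Nat.descFactorial_self, hfdef,
      Nat.card_eq_fintype_card]
  let X := {p : Ω // p ≠ a ∧ p ≠ b ∧ s • p ≠ p}
  have hX : Finite X ∧ Nat.card X ≤ Nat.factorial f := by
    rcases isEmpty_or_nonempty X with h | ⟨⟨e, ea, eb, es⟩⟩
    · exact ⟨inferInstance, by simp⟩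
    have hmem : ∀ g : T, g.1 • e ≠ a ∧ g.1 • e ≠ b ∧ s • g.1 • e ≠ g.1 • e := fun g =>
      ⟨fun h => ea (smul_left_cancel g.1 (h.trans g.2.1.symm)),
        fun h => eb (smul_left_cancel g.1 (h.trans g.2.2.1.symm)),
        fun h => es (smul_left_cancel g.1 (by rw [← mul_smul, g.2.2.2, mul_smul, h]))⟩
    have hsurj : Function.Surjective (fun g : T => (⟨g.1 • e, hmem g⟩ : X)) := by
      rintro ⟨p, pa, pb, ps⟩
      have aux : ∀ q : Ω, q ≠ a → q ≠ b → s • q ≠ a ∧ s • q ≠ b := fun q qa qb =>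
        ⟨fun h => qb (smul_left_cancel s (h.trans sb.symm)),
          fun h => qa (smul_left_cancel s (h.trans sa.symm))⟩
      obtain ⟨g, ga, gb, ge, gse⟩ := exists_map h4 hab ea.symm (aux e ea eb).1.symm eb.symm
        (aux e ea eb).2.symm (Ne.symm es) hab pa.symm (aux p pa pb).1.symm pb.symm
        (aux p pa pb).2.symm (Ne.symm ps)
      have gai : g⁻¹ • a = a := inv_smul_eq_iff.2 ga.symm
      have gbi : g⁻¹ • b = b := inv_smul_eq_iff.2 gb.symm
      have gpi : g⁻¹ • p = e := inv_smul_eq_iff.2 ge.symm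
      have gspi : g⁻¹ • s • p = s • e := inv_smul_eq_iff.2 gse.symm
      have h1 : s⁻¹ * (g * s * g⁻¹) = 1 := eq_one hsharp hab pa.symm (aux p pa pb).1.symm pb.symm
        (aux p pa pb).2.symm (Ne.symm ps)
        (by rw [mul_smul, mul_smul, mul_smul, gai, sa, gb, inv_smul_eq_iff, sa])
        (by rw [mul_smul, mul_smul, mul_smul, gbi, sb, ga, inv_smul_eq_iff, sb])
        (by rw [mul_smul, mul_smul, mul_smul, gpi, gse, inv_smul_smul])
        (by rw [mul_smul, mul_smul, mul_smul, gspi, hss, ge, inv_smul_eq_iff, hss])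
      refine ⟨⟨g, ga, gb, ?_⟩, Subtype.ext ge⟩
      have h2 := inv_mul_eq_one.1 h1
      calc g * s = (g * s * g⁻¹) * g := by group
        _ = s * g := by rw [← h2]
    exact ⟨Finite.of_surjective _ hsurj, (Nat.card_le_card_of_surjective _ hsurj).trans hT⟩
  haveI := hX.1
  -- every point is a, b, fixed, or in X
  let ψ : Option (Option (fixedBy Ω s ⊕ X)) → Ω
    | none => a
    | some none => b
    | some (some (Sum.inl q)) => q.1
    | some (some (Sum.inr q)) => q.1
  have hψ : Function.Surjective ψ := fun p => by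
    by_cases hpa : p = a
    · exact ⟨none, hpa.symm⟩
    by_cases hpb : p = b
    · exact ⟨some none, hpb.symm⟩
    by_cases hps : s • p = p
    · exact ⟨some (some (Sum.inl ⟨p, hps⟩)), rfl⟩
    · exact ⟨some (some (Sum.inr ⟨p, hpa, hpb, hps⟩)), rfl⟩
  haveI hΩ : Finite Ω := Finite.of_surjective ψ hψ
  refine ⟨hΩ, f, by omega, ?_, ?_⟩
  · have := Nat.card_le_card_of_surjective ψ hψ
    rw [Finite.card_option, Finite.card_option, Nat.card_sum] at this
    have := hX.2
    omega
  · haveI := Fact.mk Nat.prime_two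
    exact CfsgLib.MElevenUnique.card_modEq_fix (X := Ω) (p := 2) (y := s) (by rw [pow_two, hs2])

/-- Jordan's theorem on sharply 4-transitive groups. -/
theorem result {G : Type*} [Group G] {Ω : Type*} [MulAction G Ω] (h4 : MulAction.IsMultiplyPretransitive G Ω 4) (hsharp : ∀ x : Fin 4 ↪ Ω, MulAction.stabilizer G x = ⊥) (hne : Nonempty (Fin 4 ↪ Ω)) : Finite Ω ∧ Nat.card Ω ≤ 11 ∧ (Even (Nat.card Ω) → Nat.card Ω ≤ 6) := by
  obtain ⟨x⟩ := hne
  have hne' : ∀ i j : Fin 4, i ≠ j → x i ≠ x j := fun i j h e => h (x.injective e)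
  obtain ⟨hfin, f, hf, hle, hpar⟩ := degree h4 hsharp (hne' 0 1 (by decide)) (hne' 0 2 (by decide))
    (hne' 0 3 (by decide)) (hne' 1 2 (by decide)) (hne' 1 3 (by decide)) (hne' 2 3 (by decide))
  refine ⟨hfin, ?_, fun he => ?_⟩
  · rcases hf with rfl | rfl <;> simp [Nat.factorial] at hle <;> omega
  · rw [Nat.even_iff] at he
    rcases hf with rfl | rfl <;> simp [Nat.factorial] at hle <;> omega

end Cfsg.Agent.S0708
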