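import Cfsg.Statements.S0709
import Mathlib
-- import your own Cfsg.Agent.* helpers here

set_option autoImplicit false
open Cfsg

namespace Cfsg.Agent.S0709

/-- Witt's Lemma for constructing transitive extensions. Points `q 1, …, q t` (`t ≥ 2`) of a finite set are given; `G` fixes `q i` for `i ≥ 3` and is doubly transitive on the remaining points; `s 1 ∈ G` swaps `q 1, q 2`; for `2 ≤ i ≤ t-1`, `s i` swaps `q i, q (i+1)` and fixes the other `q j`; with `H` the stabiliser of `q 1, q 2` in `G`: `s i ^ 2 ∈ H`, `(s i * s (i+1)) ^ 3 ∈ H`, `(s i * s j) ^ 2 ∈ H` for `j ≥ i + 2`, and `s i` (`i ≥ 2`) normalises the stabiliser of `q 2` in `G`. Then `G` and the `s i` generate a `t`-transitive group whose pointwise stabiliser of the `q`'s is `H`. -/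
theorem result {α : Type*} [Fintype α] [DecidableEq α] (t : ℕ) (ht : 2 ≤ t) (q : ℕ → α) (hq : ∀ i j : ℕ, 1 ≤ i → i ≤ t → 1 ≤ j → j ≤ t → q i = q j → i = j) (G : Subgroup (Equiv.Perm α)) (hfix : ∀ g ∈ G, ∀ i : ℕ, 3 ≤ i → i ≤ t → g (q i) = q i) (h2 : ∀ a b c d : α, (∀ i, 3 ≤ i → i ≤ t → a ≠ q i ∧ b ≠ q i ∧ c ≠ q i ∧ d ≠ q i) → a ≠ b → c ≠ d → ∃ g ∈ G, g a = c ∧ g b = d) (s : ℕ → Equiv.Perm α) (hs1 : s 1 ∈ G) (hs1q : s 1 (q 1) = q 2 ∧ s 1 (q 2) = q 1) (hsq : ∀ i : ℕ, 2 ≤ i → i + 1 ≤ t → s i (q i) = q (i + 1) ∧ s i (q (i + 1)) = q i ∧ ∀ j : ℕ, 1 ≤ j → j ≤ t → j ≠ i → j ≠ i + 1 → s i (q j) = q j) (H : Subgroup (Equiv.Perm α)) (hH : H = G ⊓ MulAction.stabilizer (Equiv.Perm α) (q 1) ⊓ MulAction.stabilizer (Equiv.Perm α) (q 2)) (hsq2 : ∀ i : ℕ, 1 ≤ i → i + 1 ≤ t → s i ^ 2 ∈ H) (hbraid : ∀ i : ℕ, 1 ≤ i → i + 2 ≤ t → (s i * s (i + 1)) ^ 3 ∈ H) (hcomm : ∀ i j : ℕ, 1 ≤ i → i + 2 ≤ j → j + 1 ≤ t → (s i * s j) ^ 2 ∈ H ∧ (s j * s i) ^ 2 ∈ H) (hnorm : ∀ i : ℕ, 2 ≤ i → i + 1 ≤ t → ∀ g ∈ G ⊓ MulAction.stabilizer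 (Equiv.Perm α) (q 2), s i * g * (s i)⁻¹ ∈ G ⊓ MulAction.stabilizer (Equiv.Perm α) (q 2)) : MulAction.IsMultiplyPretransitive ↥(Subgroup.closure ((G : Set (Equiv.Perm α)) ∪ {x | ∃ i : ℕ, 2 ≤ i ∧ i + 1 ≤ t ∧ x = s i})) α t ∧ Subgroup.closure ((G : Set (Equiv.Perm α)) ∪ {x | ∃ i : ℕ, 2 ≤ i ∧ i + 1 ≤ t ∧ x = s i}) ⊓ fixingSubgroup (Equiv.Perm α) {x | ∃ i : ℕ, 1 ≤ i ∧ i ≤ t ∧ x = q i} = H := by
  classical
  -- notation: `K i` generated by `G` and the `s j`, `2 ≤ j < i`
  set K : ℕ → Subgroup (Equiv.Perm α) := fun i =>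
    Subgroup.closure ((G : Set (Equiv.Perm α)) ∪ {x | ∃ j : ℕ, 2 ≤ j ∧ j + 1 ≤ i ∧ x = s j}) with hK
  set S : ℕ → Subgroup (Equiv.Perm α) := fun i =>
    if i ≤ 2 then G ⊓ MulAction.stabilizer (Equiv.Perm α) (q 2) else K (i - 1) with hS
  have hGK : ∀ i, G ≤ K i := fun i x hx => Subgroup.subset_closure (Or.inl hx)
  have hHG : H ≤ G := by rw [hH]; exact inf_le_left.trans inf_le_left
  have hsK : ∀ i j, 1 ≤ j → j + 1 ≤ i → s j ∈ K i := by
    intro i j h1 hji
    rcases eq_or_lt_of_le h1 with rfl | h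
    · exact hGK i hs1
    · exact Subgroup.subset_closure (Or.inr ⟨j, h, hji, rfl⟩)
  have hK2 : K 2 = G := by
    apply le_antisymm _ (hGK 2)
    rw [hK]; simp only [Subgroup.closure_le]
    rintro x (hx | ⟨j, h1, h2', rfl⟩)
    · exact hx
    · omega
  have hS2 : S 2 = G ⊓ MulAction.stabilizer (Equiv.Perm α) (q 2) := by simp [hS]
  have hSsucc : ∀ i, 2 ≤ i → S (i + 1) = K i := by
    intro i hi
    simp [hS, show ¬ i + 1 ≤ 2 by omega]
  have hHS : ∀ i, H ≤ S i := by
    intro i x hx
    by_cases hi : i ≤ 2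
    · simp only [hS, if_pos hi]; rw [hH] at hx
      exact ⟨hx.1.1, hx.2⟩
    · simp only [hS, if_neg hi]; exact hGK _ (hHG hx)
  have hKfix : ∀ i, 2 ≤ i → ∀ g ∈ K i, ∀ j, i + 1 ≤ j → j ≤ t → g (q j) = q j := by
    intro i hi g hg j hij hjt
    have : K i ≤ MulAction.stabilizer (Equiv.Perm α) (q j) := by
      rw [hK]; simp only [Subgroup.closure_le]
      rintro x (hx | ⟨k, hk1, hk2, rfl⟩)
      · exact hfix x hx j (by omega) hjt
      · exact (hsq k hk1 (by omega)).2.2 j (by omega) hjt (by omega) (by omega)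
    exact this hg
  -- `s i` normalises `S i`
  have hnormS : ∀ i, 2 ≤ i → i + 1 ≤ t → ∀ g ∈ S i, s i * g * (s i)⁻¹ ∈ S i := by
    intro i hi hit g hg
    by_cases hi2 : i ≤ 2
    · have : i = 2 := by omega
      subst this
      rw [hS2] at hg ⊢
      exact hnorm 2 hi hit g hg
    · obtain ⟨i, rfl⟩ : ∃ k, i = k + 1 := ⟨i - 1, by omega⟩
      rw [hSsucc i (by omega)] at hg ⊢
      have key : K i ≤ (K i).comap (MulAut.conj (s (i + 1))).toMonoidHom := by
        have conj_s : ∀ j, 1 ≤ j → j + 1 ≤ i → s (i + 1) * s j * (s (i + 1))⁻¹ ∈ K i := by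
          intro j hj hji
          have h1 := hGK i (hHG (hcomm j (i + 1) hj (by omega) hit).2)
          have h2' := hGK i (hHG (hsq2 (i + 1) (by omega) hit))
          have e : s (i + 1) * s j * (s (i + 1))⁻¹ =
              (s (i + 1) * s j) ^ 2 * (s j)⁻¹ * (s (i + 1) ^ 2)⁻¹ := by
            simp only [sq]; group
          rw [e]
          exact mul_mem (mul_mem h1 (inv_mem (hsK i j hj hji))) (inv_mem h2')
        conv_lhs => rw [hK]
        simp only [Subgroup.closure_le]
        rintro x (hx | ⟨j, hj1, hj2, rfl⟩)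
        · by_cases hx2 : x (q 2) = q 2
          · exact hGK i (hnorm (i + 1) (by omega) hit x ⟨hx, hx2⟩).1
          · -- x = a * s 1 * b
            have out : ∀ g ∈ G, ∀ k, k = 1 ∨ k = 2 →
                ∀ l, 3 ≤ l → l ≤ t → g (q k) ≠ q l := by
              intro g hg k hk l hl hlt h
              rw [← hfix g hg l hl hlt] at h
              have := hq k l (by omega) (by omega) (by omega) hlt (g.injective h)
              omega
            have q12 : q 1 ≠ q 2 := fun h => by
              have := hq 1 2 le_rfl (by omega) (by omega) ht h; omega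
            obtain ⟨a, haG, ha1, ha2⟩ := h2 (q 1) (q 2) (x (q 2)) (q 2)
              (fun l hl hlt => ⟨out 1 G.one_mem 1 (Or.inl rfl) l hl hlt,
                out 1 G.one_mem 2 (Or.inr rfl) l hl hlt, out x hx 2 (Or.inr rfl) l hl hlt,
                out 1 G.one_mem 2 (Or.inr rfl) l hl hlt⟩) q12 hx2
            have hbmem : (s 1)⁻¹ * a⁻¹ * x ∈ G ⊓ MulAction.stabilizer (Equiv.Perm α) (q 2) := by
              refine ⟨G.mul_mem (G.mul_mem (G.inv_mem hs1) (G.inv_mem haG)) hx, ?_⟩
              show (s 1)⁻¹ (a⁻¹ (x (q 2))) = q 2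
              rw [Equiv.Perm.inv_eq_iff_eq, Equiv.Perm.inv_eq_iff_eq, hs1q.2, ha1]
            have e : (MulAut.conj (s (i + 1))).toMonoidHom x =
                (s (i + 1) * a * (s (i + 1))⁻¹) * (s (i + 1) * s 1 * (s (i + 1))⁻¹) *
                (s (i + 1) * ((s 1)⁻¹ * a⁻¹ * x) * (s (i + 1))⁻¹) := by
              simp [MulAut.conj_apply]
              group
            show (MulAut.conj (s (i + 1))).toMonoidHom x ∈ K i
            rw [e]
            exact mul_mem (mul_mem (hGK i (hnorm (i + 1) (by omega) hit a ⟨haG, ha2⟩).1)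
              (conj_s 1 le_rfl (by omega))) (hGK i (hnorm (i + 1) (by omega) hit _ hbmem).1)
        · exact conj_s j (by omega) hj2
      exact key hg
  -- main induction
  have main : ∀ i, 2 ≤ i → i ≤ t →
      (∀ g ∈ K i, g (q i) = q i ↔ g ∈ S i) ∧
      (∀ g ∈ K i, g ∈ S i ∨ ∃ a ∈ S i, ∃ b ∈ S i, g = a * s (i - 1) * b) ∧ S i ≤ K i ∧
      (∀ x : ℕ → α, (∀ k l, 1 ≤ k → k ≤ i → 1 ≤ l → l ≤ i → x k = x l → k = l) →
        (∀ k l, 1 ≤ k → k ≤ i → i + 1 ≤ l → l ≤ t → x k ≠ q l) →
        ∃ g ∈ K i, ∀ k, 1 ≤ k → k ≤ i → g (q k) = x k) := by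
    intro i hi
    induction i, hi using Nat.le_induction with
    | base =>
      intro _
      rw [hK2, hS2]
      have q12 : q 1 ≠ q 2 := fun h => by
        have := hq 1 2 le_rfl (by omega) (by omega) ht h; omega
      have hout : ∀ k l, 1 ≤ k → k ≤ 2 → 3 ≤ l → l ≤ t → q k ≠ q l := by
        intro k l hk1 hk2 hl hlt h
        have := hq k l hk1 (by omega) (by omega) hlt h; omega
      refine ⟨fun g hg => ⟨fun h => ⟨hg, h⟩, fun h => h.2⟩, ?_, inf_le_left, ?_⟩
      · intro g hg
        by_cases hg2 : g (q 2) = q 2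
        · exact Or.inl ⟨hg, hg2⟩
        · right
          obtain ⟨a, haG, ha1, ha2⟩ := h2 (q 1) (q 2) (g (q 2)) (q 2)
            (fun l hl hlt => ⟨hout 1 l le_rfl (by omega) hl hlt, hout 2 l (by omega) le_rfl hl hlt,
              fun h => hout 2 l (by omega) le_rfl hl hlt
                (g.injective (h.trans (hfix g hg l hl hlt).symm)),
              hout 2 l (by omega) le_rfl hl hlt⟩) q12 hg2
          refine ⟨a, ⟨haG, ha2⟩, (s 1)⁻¹ * a⁻¹ * g,
            ⟨G.mul_mem (G.mul_mem (G.inv_mem hs1) (G.inv_mem haG)) hg, ?_⟩, by simp; group⟩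
          show (s 1)⁻¹ (a⁻¹ (g (q 2))) = q 2
          rw [Equiv.Perm.inv_eq_iff_eq, Equiv.Perm.inv_eq_iff_eq, hs1q.2, ha1]
      · intro x hinj hxout
        obtain ⟨g, hg, e1, e2⟩ := h2 (q 1) (q 2) (x 1) (x 2) (fun l hl hlt =>
          ⟨hout 1 l le_rfl (by omega) hl hlt, hout 2 l (by omega) le_rfl hl hlt,
            hxout 1 l le_rfl (by omega) hl hlt, hxout 2 l (by omega) le_rfl hl hlt⟩) q12
          (fun h => by have := hinj 1 2 le_rfl (by omega) (by omega) le_rfl h; omega)
        refine ⟨g, hg, fun k hk1 hk2 => ?_⟩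
        interval_cases k
        · exact e1
        · exact e2
    | succ i hi ih =>
      intro hit
      obtain ⟨ihS, ihD, ihSK, ihT⟩ := ih (by omega)
      have hsS : ∀ b ∈ S i, (s i)⁻¹ * b * s i ∈ S i := by
        intro b hb
        have hh := hHS i (hsq2 i (by omega) hit)
        have e : (s i)⁻¹ * b * s i = (s i ^ 2)⁻¹ * (s i * b * (s i)⁻¹) * s i ^ 2 := by
          simp only [sq]; group
        rw [e]
        exact mul_mem (mul_mem (inv_mem hh) (hnormS i hi hit b hb)) hh
      have hh : s i ^ 2 ∈ K i := hGK i (hHG (hsq2 i (by omega) hit))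
      have hss : ∀ g ∈ K i, s i * g * s i ∈ K i ∨
          ∃ a ∈ K i, ∃ b ∈ K i, s i * g * s i = a * s i * b := by
        intro g hg
        rcases ihD g hg with hgS | ⟨a, ha, b, hb, rfl⟩
        · left
          have e : s i * g * s i = (s i * g * (s i)⁻¹) * s i ^ 2 := by simp only [sq]; group
          rw [e]
          exact mul_mem (ihSK (hnormS i hi hit g hgS)) hh
        · right
          have hb3 := hGK i (hHG (hbraid (i - 1) (by omega) (by omega)))
          rw [show i - 1 + 1 = i by omega] at hb3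
          have hsi : s (i - 1) ∈ K i := hsK i (i - 1) (by omega) (by omega)
          refine ⟨(s i * a * (s i)⁻¹) * ((s (i - 1))⁻¹ * (s (i - 1) * s i) ^ 3),
            mul_mem (ihSK (hnormS i hi hit a ha)) (mul_mem (inv_mem hsi) hb3),
            (s i ^ 2)⁻¹ * (s (i - 1))⁻¹ * ((s i)⁻¹ * b * s i),
            mul_mem (mul_mem (inv_mem hh) (inv_mem hsi)) (ihSK (hsS b hb)), ?_⟩
          simp only [sq, pow_succ, pow_zero, one_mul]
          group
      -- the double coset set
      let U : Subgroup (Equiv.Perm α) :=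
        { carrier := {g | g ∈ K i ∨ ∃ a ∈ K i, ∃ b ∈ K i, g = a * s i * b}
          one_mem' := Or.inl (K i).one_mem
          mul_mem' := by
            rintro x y (hx | ⟨a, ha, b, hb, rfl⟩) (hy | ⟨c, hc, d, hd, rfl⟩)
            · exact Or.inl (mul_mem hx hy)
            · exact Or.inr ⟨x * c, mul_mem hx hc, d, hd, by group⟩
            · exact Or.inr ⟨a, ha, b * y, mul_mem hb hy, by group⟩
            · have e : a * s i * b * (c * s i * d) = a * (s i * (b * c) * s i) * d := by group
              rw [e]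
              rcases hss (b * c) (mul_mem hb hc) with h | ⟨a', ha', b', hb', h⟩
              · exact Or.inl (mul_mem (mul_mem ha h) hd)
              · exact Or.inr ⟨a * a', mul_mem ha ha', b' * d, mul_mem hb' hd, by rw [h]; group⟩
          inv_mem' := by
            rintro x (hx | ⟨a, ha, b, hb, rfl⟩)
            · exact Or.inl (inv_mem hx)
            · exact Or.inr ⟨b⁻¹ * (s i ^ 2)⁻¹, mul_mem (inv_mem hb) (inv_mem hh), a⁻¹, inv_mem ha,
                by simp only [sq]; group⟩ }
      have hKU : K (i + 1) ≤ U := by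
        rw [hK]; simp only [Subgroup.closure_le]
        rintro x (hx | ⟨j, hj1, hj2, rfl⟩)
        · exact Or.inl (hGK i hx)
        · rcases eq_or_lt_of_le (show j ≤ i by omega) with rfl | hlt
          · exact Or.inr ⟨1, one_mem _, 1, one_mem _, by simp⟩
          · exact Or.inl (hsK i j (by omega) hlt)
      have hKK : K i ≤ K (i + 1) := by
        conv_lhs => rw [hK]
        simp only [Subgroup.closure_le]
        rintro x (hx | ⟨j, hj1, hj2, rfl⟩)
        · exact hGK _ hx
        · exact hsK _ j (by omega) (by omega)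
      obtain ⟨sa, sb, sfix⟩ := hsq i hi hit
      rw [hSsucc i hi]
      refine ⟨fun g hg => ⟨fun h => ?_, fun h => hKfix i hi g h (i + 1) le_rfl hit⟩,
        fun g hg => ?_, hKK, ?_⟩
      · rcases hKU hg with h' | ⟨a, ha, b, hb, rfl⟩
        · exact h'
        · exfalso
          rw [Equiv.Perm.mul_apply, Equiv.Perm.mul_apply, hKfix i hi b hb (i + 1) le_rfl hit, sb]
            at h
          have := a.injective (h.trans (hKfix i hi a ha (i + 1) le_rfl hit).symm)
          have := hq i (i + 1) (by omega) (by omega) (by omega) hit this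
          omega
      · rcases hKU hg with h' | h'
        · exact Or.inl h'
        · exact Or.inr (by simpa using h')
      · intro x hinj hxout
        -- first move `q (i+1)` to `x (i+1)`
        obtain ⟨g0, hg0, e0⟩ : ∃ g0 ∈ K (i + 1), g0 (q (i + 1)) = x (i + 1) := by
          by_cases hx : x (i + 1) = q (i + 1)
          · exact ⟨1, one_mem _, by simp [hx]⟩
          · let y : ℕ → α := fun k => if k = i then x (i + 1) else
              Equiv.swap (q i) (x (i + 1)) (q k)
            obtain ⟨g, hg, e⟩ := ihT y (by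
              intro k l hk1 hk2 hl1 hl2 hkl
              have : ∀ m, y m = Equiv.swap (q i) (x (i + 1)) (q m) := by
                intro m; simp only [y]; split_ifs with hm <;> simp [*]
              rw [this, this] at hkl
              exact hq k l hk1 (by omega) hl1 (by omega)
                ((Equiv.swap (q i) (x (i + 1))).injective hkl)) (by
              intro k l hk1 hk2 hl hlt h
              have : ∀ m, y m = Equiv.swap (q i) (x (i + 1)) (q m) := by
                intro m; simp only [y]; split_ifs with hm <;> simp [*]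
              rw [this] at h
              have hne1 : q l ≠ q i := fun h => by
                have := hq l i (by omega) hlt (by omega) (by omega) h; omega
              have hne2 : q l ≠ x (i + 1) := by
                intro h'
                rcases eq_or_lt_of_le hl with rfl | h''
                · exact hx h'.symm
                · exact hxout (i + 1) l (by omega) le_rfl h'' hlt h'.symm
              rw [← Equiv.swap_apply_of_ne_of_ne hne1 hne2] at h
              have := hq k l hk1 (by omega) (by omega) hlt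
                ((Equiv.swap (q i) (x (i + 1))).injective h)
              omega)
            refine ⟨g * s i, mul_mem (hKK hg) (hsK _ i (by omega) le_rfl), ?_⟩
            rw [Equiv.Perm.mul_apply, sb, e i (by omega) le_rfl]
            simp [y]
        obtain ⟨g1, hg1, e1⟩ := ihT (fun k => g0⁻¹ (x k))
          (fun k l hk1 hk2 hl1 hl2 h => hinj k l hk1 (by omega) hl1 (by omega)
            (g0⁻¹.injective h)) (by
          intro k l hk1 hk2 hl hlt h
          rw [Equiv.Perm.inv_eq_iff_eq] at h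
          rcases eq_or_lt_of_le hl with rfl | h''
          · rw [e0] at h
            have := hinj k (i + 1) hk1 (by omega) (by omega) le_rfl h
            omega
          · rw [hKfix (i + 1) (by omega) g0 hg0 l h'' hlt] at h
            exact hxout k l hk1 (by omega) h'' hlt h)
        refine ⟨g0 * g1, mul_mem hg0 (hKK hg1), fun k hk1 hk2 => ?_⟩
        rw [Equiv.Perm.mul_apply]
        rcases eq_or_lt_of_le hk2 with rfl | h
        · rw [hKfix i hi g1 hg1 (i + 1) le_rfl hit, e0]
        · rw [e1 k hk1 (by omega)]; simp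
  have hL : Subgroup.closure ((G : Set (Equiv.Perm α)) ∪
      {x | ∃ i : ℕ, 2 ≤ i ∧ i + 1 ≤ t ∧ x = s i}) = K t := rfl
  rw [hL]
  constructor
  · have mk' : ∀ x : Fin t ↪ α, ∃ g ∈ K t, ∀ k : Fin t, g (q (k.val + 1)) = x k := by
      intro x
      obtain ⟨g, hg, e⟩ := (main t ht le_rfl).2.2.2
        (fun k => if h : k - 1 < t then x ⟨k - 1, h⟩ else q 1) (by
          intro k l hk1 hk2 hl1 hl2 h
          rw [dif_pos (show k - 1 < t by omega), dif_pos (show l - 1 < t by omega)] at h
          have := Fin.ext_iff.1 (x.injective h)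
          simp at this; omega) (by omega)
      refine ⟨g, hg, fun k => ?_⟩
      rw [e (k.val + 1) (by omega) (by omega)]
      simp [k.isLt]
    constructor
    intro x y
    obtain ⟨g, hg, eg⟩ := mk' x
    obtain ⟨g', hg', eg'⟩ := mk' y
    refine ⟨⟨g' * g⁻¹, mul_mem hg' (inv_mem hg)⟩, ?_⟩
    ext k
    show (g' * g⁻¹) (x k) = y k
    rw [← eg k, Equiv.Perm.mul_apply, Equiv.Perm.inv_def, Equiv.symm_apply_apply, eg' k]
  · apply le_antisymm
    · rintro g ⟨hgK, hgF⟩
      have hgq : ∀ i, 1 ≤ i → i ≤ t → g (q i) = q i := fun i h1 h2' =>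
        (mem_fixingSubgroup_iff _).1 hgF (q i) ⟨i, h1, h2', rfl⟩
      have down : ∀ i, 2 ≤ i → i ≤ t → g ∈ K i → g ∈ G := by
        intro i hi
        induction i, hi using Nat.le_induction with
        | base => intro _ h; rwa [hK2] at h
        | succ i hi ih =>
          intro hit h
          have := ((main (i + 1) (by omega) hit).1 g h).1 (hgq _ (by omega) hit)
          rw [hSsucc i hi] at this
          exact ih (by omega) this
      rw [hH]
      exact ⟨⟨down t ht le_rfl hgK, hgq 1 le_rfl (by omega)⟩, hgq 2 (by omega) ht⟩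
    · intro g hg
      refine ⟨hGK t (hHG hg), ?_⟩
      have hg' := hg
      rw [hH] at hg'
      show g ∈ fixingSubgroup _ _
      rw [mem_fixingSubgroup_iff]
      rintro x ⟨i, h1, hit, rfl⟩
      show g (q i) = q i
      rcases (show i = 1 ∨ i = 2 ∨ 3 ≤ i by omega) with rfl | rfl | h3
      · exact hg'.1.2
      · exact hg'.2
      · exact hfix g hg'.1.1 i h3 hit

end Cfsg.Agent.S0709
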