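import Cfsg.Statements.S0710
import Mathlib
-- import your own Cfsg.Agent.* helpers here

set_option autoImplicit false
open Cfsg

namespace Cfsg.Agent.S0710

/-- No transitive permutation group on 13 points has order `13 * 12 * 11 * 10 * 9 * 8`. -/
theorem result {α : Type*} [Fintype α] [DecidableEq α] (hα : Fintype.card α = 13) (G : Subgroup (Equiv.Perm α)) [MulAction.IsPretransitive G α] : Nat.card G ≠ 13 * 12 * 11 * 10 * 9 * 8 := by
  intro hcard
  haveI : Fact (Nat.Prime 13) := ⟨by norm_num⟩
  let P : Sylow 13 G := default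
  set N := Subgroup.normalizer ((P : Subgroup G) : Set G) with hN
  have hn : Nat.card (Sylow 13 G) = N.index := P.card_eq_index_normalizer
  have hmod : Nat.card (Sylow 13 G) % 13 = 1 := card_sylow_modEq_one 13 G
  have hdvd : (Nat.card (Sylow 13 G)) ∣ 13 * 12 * 11 * 10 * 9 * 8 := by
    rw [← hcard, hn]; exact Subgroup.index_dvd_card _
  have hP : Nat.card (P : Subgroup G) = 13 := by
    rw [P.card_eq_multiplicity, hcard]
    have h : (13 * 12 * 11 * 10 * 9 * 8 : ℕ) = 13 ^ 1 * (12 * 11 * 10 * 9 * 8) := by norm_num
    rw [h, Nat.factorization_mul (by norm_num) (by norm_num), Finsupp.add_apply,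
      Nat.factorization_eq_zero_of_not_dvd (n := 12 * 11 * 10 * 9 * 8) (by norm_num),
      Nat.Prime.factorization_pow (by norm_num), Finsupp.single_eq_same]
    norm_num
  -- the normaliser of `P` embeds in the normaliser of a 13-cycle in `Perm α`, of order `13 * 12`
  obtain ⟨g, hgo⟩ := exists_prime_orderOf_dvd_card' (G := (P : Subgroup G)) 13 (by rw [hP])
  set x : Equiv.Perm α := ((g : G) : Equiv.Perm α) with hxdef
  have hxo : orderOf x = 13 := by
    rw [hxdef, Subgroup.orderOf_coe, Subgroup.orderOf_coe, hgo]
  have hcyc : x.IsCycle := Equiv.Perm.isCycle_of_prime_order'' (by rw [hα]; norm_num) (by rw [hα, hxo])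
  have hsupp : x.support.card = 13 := by rw [← hcyc.orderOf, hxo]
  have hz : (P : Subgroup G) = Subgroup.zpowers (g : G) := by
    symm
    apply Subgroup.eq_of_le_of_card_ge (Subgroup.zpowers_le.2 g.2)
    rw [hP, Nat.card_zpowers, Subgroup.orderOf_coe, hgo]
  -- the centraliser of a 13-cycle on 13 points is itself
  have hcent : Nat.card (Subgroup.centralizer ({x} : Set (Equiv.Perm α))) = 13 := by
    rw [Equiv.Perm.nat_card_centralizer, hcyc.cycleType, hsupp, hα]
    decide
  have hNle : Nat.card N ∣ 13 * 12 := by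
    have h1 : N.map G.subtype ≤ Subgroup.normalizer ((Subgroup.zpowers x : Subgroup (Equiv.Perm α)) : Set (Equiv.Perm α)) := by
      refine le_trans (Subgroup.le_normalizer_map _) ?_
      rw [hz, MonoidHom.map_zpowers]
      exact le_rfl
    have h2 := Subgroup.card_dvd_of_le h1
    rw [Subgroup.card_map_of_injective G.subtype_injective] at h2
    refine h2.trans ?_
    have hC : Subgroup.centralizer ((Subgroup.zpowers x : Subgroup (Equiv.Perm α)) : Set (Equiv.Perm α))
        = Subgroup.centralizer ({x} : Set (Equiv.Perm α)) := by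
      rw [Subgroup.zpowers_eq_closure, Subgroup.centralizer_closure]
    set M := Subgroup.normalizer ((Subgroup.zpowers x : Subgroup (Equiv.Perm α)) : Set (Equiv.Perm α))
    set φ := (Subgroup.zpowers x).normalizerMonoidHom with hφ
    have hk : φ.ker = (Subgroup.centralizer ((Subgroup.zpowers x : Subgroup (Equiv.Perm α)) : Set (Equiv.Perm α))).subgroupOf M :=
      Subgroup.normalizerMonoidHom_ker _
    have := Subgroup.card_mul_index φ.ker
    rw [← this, Subgroup.index_ker]
    apply mul_dvd_mul
    · rw [hk, hC, ← Subgroup.card_map_of_injective M.subtype_injective, Subgroup.subgroupOf_map_subtype]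
      refine (Subgroup.card_dvd_of_le inf_le_left).trans ?_
      rw [hcent]
    · refine (Subgroup.card_subgroup_dvd_card φ.range).trans ?_
      rw [IsCyclic.card_mulAut, Nat.card_zpowers, hxo, Nat.totient_prime (by norm_num)]
  have hmul := Subgroup.card_mul_index N
  rw [← hn, hcard] at hmul
  have h13 : 13 ∣ Nat.card N := hP ▸ Subgroup.card_dvd_of_le Subgroup.le_normalizer
  obtain ⟨d, hd⟩ := h13
  rw [hd] at hNle hmul
  have hd12 : d ∣ 12 := Nat.dvd_of_mul_dvd_mul_left (by norm_num) hNle
  have : d ≤ 12 := Nat.le_of_dvd (by norm_num) hd12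
  interval_cases d <;> omega

end Cfsg.Agent.S0710
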