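import Cfsg.Statements.S0711
import Mathlib
-- import your own Cfsg.Agent.* helpers here

set_option autoImplicit false
open Cfsg

namespace Cfsg.Agent.S0711

/-- A `k`-transitive permutation group (`k ≥ 3`) with a non-identity element of support smaller than `2k - 2` contains a non-identity element of support at most 3, and therefore contains the alternating group. -/
theorem result {α : Type*} [Fintype α] [DecidableEq α] (G : Subgroup (Equiv.Perm α)) {k : ℕ} (hk : 3 ≤ k) (hkn : k ≤ Fintype.card α) (hG : MulAction.IsMultiplyPretransitive G α k) (g : Equiv.Perm α) (hg : g ∈ G) (hg1 : g ≠ 1) (hsupp : g.support.card < 2 * k - 2) : (∃ h : Equiv.Perm α, h ∈ G ∧ h ≠ 1 ∧ h.support.card ≤ 3) ∧ alternatingGroup α ≤ G := by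
  classical
  haveI := hG
  have hn : Fintype.card α ≥ 3 := by omega
  haveI : Nontrivial α := Fintype.one_lt_card_iff_nontrivial.1 (by omega)
  suffices hsmall : ∃ h : Equiv.Perm α, h ∈ G ∧ h ≠ 1 ∧ h.support.card ≤ 3 by
    refine ⟨hsmall, ?_⟩
    obtain ⟨h, hh, h1, hc⟩ := hsmall
    have hprim : MulAction.IsPreprimitive G α := MulAction.isPreprimitive_of_is_two_pretransitive
      (MulAction.isMultiplyPretransitive_of_le' (n := k) (by omega)
        (by rw [ENat.card_eq_coe_fintype_card]; exact_mod_cast hkn))
    rcases Nat.lt_or_ge h.support.card 3 with h' | h'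
    · have h2 : h.support.card = 2 := by
        have := Equiv.Perm.two_le_card_support_of_ne_one h1
        omega
      have hswap : h.IsSwap := Equiv.Perm.card_support_eq_two.1 h2
      rw [Equiv.Perm.subgroup_eq_top_of_isPreprimitive_of_isSwap_mem hprim h hswap hh]
      exact le_top
    · exact Equiv.Perm.alternatingGroup_le_of_isPreprimitive_of_isThreeCycle_mem hprim
        (card_support_eq_three_iff.1 (by omega)) hh
  -- an element of least support
  have hP : ∃ m, ∃ u : Equiv.Perm α, u ∈ G ∧ u ≠ 1 ∧ u.support.card = m := ⟨_, g, hg, hg1, rfl⟩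
  obtain ⟨u, hu, hu1, huc⟩ := Nat.find_spec hP
  have hmin : ∀ v ∈ G, v ≠ 1 → u.support.card ≤ v.support.card := fun v hv hv1 =>
    huc ▸ Nat.find_min' hP ⟨v, hv, hv1, rfl⟩
  have hm : u.support.card < 2 * k - 2 := lt_of_le_of_lt (hmin g hg hg1) hsupp
  refine ⟨u, hu, hu1, ?_⟩
  by_contra hm4
  set S := u.support with hS
  set m := S.card with hmdef
  -- the least support is not everything
  obtain ⟨b, hb⟩ : ∃ b, b ∉ S := by
    by_contra hall
    simp only [not_exists, not_not] at hall
    let a : α := Classical.arbitrary α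
    obtain ⟨c, hc⟩ := exists_ne a
    obtain ⟨d, hd⟩ : ∃ d, d ∉ ({a, c} : Finset α) := by
      by_contra h
      simp only [not_exists, not_not] at h
      have := Finset.card_le_card (fun y (_ : y ∈ (Finset.univ : Finset α)) => h y)
      rw [Finset.card_univ] at this
      have : ({a, c} : Finset α).card ≤ 2 := Finset.card_le_two
      omega
    simp only [Finset.mem_insert, Finset.mem_singleton, not_or] at hd
    have h2 : MulAction.IsMultiplyPretransitive G α 2 :=
      MulAction.isMultiplyPretransitive_of_le' (n := k) (by omega)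
        (by rw [ENat.card_eq_coe_fintype_card]; exact_mod_cast hkn)
    obtain ⟨⟨v, hv⟩, hva, hvc⟩ := MulAction.is_two_pretransitive_iff.1 h2 hc.symm (Ne.symm hd.1)
    have hv1 : v ≠ 1 := fun h => hd.2 (by subst h; exact hvc.symm)
    have hlt : v.support.card < S.card := Finset.card_lt_card ⟨fun x _ => hall x, fun h => by
      have := h (hall a)
      rw [Equiv.Perm.mem_support] at this
      exact this hva⟩
    exact absurd (hmin v hv hv1) (not_le.2 hlt)
  -- moving a short list of points
  have hmove : ∀ (F : Finset α) (c d : α), F.card < k → c ∉ F → d ∉ F →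
      ∃ x ∈ G, (∀ z ∈ F, x z = z) ∧ x c = d := by
    intro F c d hF hcF hdF
    haveI := MulAction.isMultiplyPretransitive_of_le' (G := G) (α := α) (m := F.card + 1) (n := k)
      (by omega) (by rw [ENat.card_eq_coe_fintype_card]; exact_mod_cast hkn)
    have htr := SubMulAction.ofFixingSubgroup.isMultiplyPretransitive (G := G) (α := α) (m := 1)
      (n := F.card + 1) (F : Set α) (by rw [Set.ncard_coe_finset])
    rw [MulAction.is_one_pretransitive_iff] at htr
    obtain ⟨⟨⟨x, hx⟩, hxF⟩, hxe⟩ := htr.exists_smul_eq ⟨c, hcF⟩ ⟨d, hdF⟩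
    exact ⟨x, hx, fun z hz => (mem_fixingSubgroup_iff G).1 hxF z hz, congrArg Subtype.val hxe⟩
  -- the quotient of `u` and a conjugate
  have hkey : ∀ (F : Finset α) (c d : α) (x : Equiv.Perm α), x ∈ G → (∀ z ∈ F, x z = z) →
      F ⊆ S → c ∈ S → c ∉ F → x c = d → u⁻¹ * (x * u * x⁻¹) ≠ 1 →
      m + (F.card + if d ∈ S then 1 else 0) + (F.filter fun z => u z ∈ F).card ≤ m + m := by
    intro F c d x hx hxF hFS hc hcF hxc hne
    have hv : u⁻¹ * (x * u * x⁻¹) ∈ G := mul_mem (inv_mem hu) (mul_mem (mul_mem hx hu) (inv_mem hx))
    have h1 := hmin _ hv hne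
    let T : Finset α := S.image x
    let F' := F.filter fun z => u z ∈ F
    have hsub : (u⁻¹ * (x * u * x⁻¹)).support ⊆ (S ∪ T) \ F' := by
      intro z hz
      rw [Equiv.Perm.mem_support] at hz
      rw [Finset.mem_sdiff, Finset.mem_union]
      refine ⟨?_, fun hzF => hz ?_⟩
      · by_contra hcon
        rw [not_or] at hcon
        apply hz
        have h2 : u (x⁻¹ z) = x⁻¹ z := by
          by_contra h3
          exact hcon.2 (Finset.mem_image.2 ⟨x⁻¹ z, Equiv.Perm.mem_support.2 h3, by simp⟩)
        have h4 : u z = z := Equiv.Perm.notMem_support.1 hcon.1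
        rw [Equiv.Perm.mul_apply, Equiv.Perm.mul_apply, Equiv.Perm.mul_apply, h2]
        simp [Equiv.symm_apply_eq, h4]
      · simp only [F', Finset.mem_filter] at hzF
        have hxz : x⁻¹ z = z := by
          rw [Equiv.Perm.inv_def, Equiv.symm_apply_eq, hxF z hzF.1]
        simp only [Equiv.Perm.mul_apply, hxz, hxF _ hzF.2]
        simp
    have h2 := Finset.card_le_card hsub
    have hF'sub : F' ⊆ S ∪ T := fun z hz => Finset.mem_union_left _ (hFS (Finset.mem_filter.1 hz).1)
    rw [Finset.card_sdiff_of_subset hF'sub] at h2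
    have h3 := Finset.card_union_add_card_inter S T
    have hTc : T.card = m := Finset.card_image_of_injective _ x.injective
    have hI : F.card + (if d ∈ S then 1 else 0) ≤ (S ∩ T).card := by
      have hFI : F ⊆ S ∩ T := fun z hz =>
        Finset.mem_inter.2 ⟨hFS hz, Finset.mem_image.2 ⟨z, hFS hz, hxF z hz⟩⟩
      split_ifs with hd
      · have hdF : d ∉ F := fun h => hcF (by rwa [← x.injective ((hxF d h).trans hxc.symm)])
        rw [← Finset.card_insert_of_notMem hdF]
        exact Finset.card_le_card (Finset.insert_subset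
          (Finset.mem_inter.2 ⟨hd, Finset.mem_image.2 ⟨c, hc, hxc⟩⟩) hFI)
      · simpa using Finset.card_le_card hFI
    have hF'le : F'.card ≤ (S ∪ T).card := Finset.card_le_card hF'sub
    show m + (F.card + if d ∈ S then 1 else 0) + F'.card ≤ m + m
    omega
  have huS : ∀ z ∈ S, u z ∈ S := fun z hz => Equiv.Perm.apply_mem_support.2 hz
  have hune : ∀ z ∈ S, u z ≠ z := fun z hz => Equiv.Perm.mem_support.1 hz
  have hne_b : ∀ x : Equiv.Perm α, ∀ c ∈ S, x c = b → u⁻¹ * (x * u * x⁻¹) ≠ 1 := by
    intro x c hc hxc h
    rw [inv_mul_eq_one] at h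
    apply hb
    rw [hS, h, Equiv.Perm.mem_support]
    intro h'
    rw [← hxc] at h'
    simp at h'
    exact hune c hc h'
  rcases Nat.lt_or_ge k m with hkm | hkm
  · -- a segment along the cycles
    have hseg : ∀ j, j < m → ∃ F : Finset α, F ⊆ S ∧ F.card = j ∧ (F.filter fun z => u z ∉ F).card ≤ 1 := by
      intro j
      induction j with
      | zero => exact fun _ => ⟨∅, by simp, rfl, by simp⟩
      | succ j ih =>
        intro hj
        obtain ⟨F, hFS, hFc, hFb⟩ := ih (by omega)
        rcases (F.filter fun z => u z ∉ F).eq_empty_or_nonempty with he | ⟨z, hz⟩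
        · obtain ⟨w, hwS, hwF⟩ := Finset.exists_mem_notMem_of_card_lt_card (s := F) (t := S) (by omega)
          refine ⟨insert w F, Finset.insert_subset hwS hFS, by rw [Finset.card_insert_of_notMem hwF, hFc], ?_⟩
          rw [Finset.card_le_one]
          have hw : ∀ v ∈ (insert w F).filter (fun z => u z ∉ insert w F), v = w := by
            intro v hv
            simp only [Finset.mem_filter, Finset.mem_insert, not_or] at hv
            rcases hv.1 with h | h
            · exact h
            · exfalso
              have : v ∈ F.filter fun z => u z ∉ F := Finset.mem_filter.2 ⟨h, hv.2.2⟩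
              rw [he] at this
              exact Finset.notMem_empty _ this
          exact fun a ha c hc => (hw a ha).trans (hw c hc).symm
        · obtain ⟨hzF, huz⟩ := Finset.mem_filter.1 hz
          refine ⟨insert (u z) F, Finset.insert_subset (huS z (hFS hzF)) hFS,
            by rw [Finset.card_insert_of_notMem huz, hFc], ?_⟩
          rw [Finset.card_le_one]
          have hw : ∀ v ∈ (insert (u z) F).filter (fun v => u v ∉ insert (u z) F), v = u z := by
            intro v hv
            simp only [Finset.mem_filter, Finset.mem_insert, not_or] at hv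
            rcases hv.1 with h | h
            · exact h
            · exfalso
              have hvz : v = z := Finset.card_le_one.1 hFb v (Finset.mem_filter.2 ⟨h, hv.2.2⟩) z hz
              exact hv.2.1 (by rw [hvz])
          exact fun a ha c hc => (hw a ha).trans (hw c hc).symm
    obtain ⟨F, hFS, hFc, hFb⟩ := hseg (k - 1) (by omega)
    have hsplit := Finset.card_filter_add_card_filter_not (s := F) (p := fun z => u z ∈ F)
    rcases (F.filter fun z => u z ∉ F).eq_empty_or_nonempty with he | ⟨z, hz⟩
    · obtain ⟨c, hcS, hcF⟩ := Finset.exists_mem_notMem_of_card_lt_card (s := F) (t := S) (by omega)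
      obtain ⟨x, hx, hxF, hxc⟩ := hmove F c b (by omega) hcF (fun h => hb (hFS h))
      have h1 := hkey F c b x hx hxF hFS hcS hcF hxc (hne_b x c hcS hxc)
      rw [he, Finset.card_empty] at hsplit
      rw [if_neg hb] at h1
      omega
    · obtain ⟨hzF, huz⟩ := Finset.mem_filter.1 hz
      obtain ⟨d, hdS, hdF⟩ := Finset.exists_mem_notMem_of_card_lt_card (s := insert (u z) F) (t := S)
        (by rw [Finset.card_insert_of_notMem huz]; omega)
      rw [Finset.mem_insert, not_or] at hdF
      obtain ⟨x, hx, hxF, hxc⟩ := hmove F (u z) d (by omega) huz hdF.2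
      have hne : u⁻¹ * (x * u * x⁻¹) ≠ 1 := by
        intro h
        rw [inv_mul_eq_one] at h
        have hxz : x⁻¹ z = z := by rw [Equiv.Perm.inv_def, Equiv.symm_apply_eq, hxF z hzF]
        have h2 := congrArg (fun e : Equiv.Perm α => e z) h
        simp only [Equiv.Perm.mul_apply, hxz, hxc] at h2
        exact hdF.1 h2.symm
      have h1 := hkey F (u z) d x hx hxF hFS (huS z (hFS hzF)) huz hxc hne
      rw [if_pos hdS] at h1
      omega
  · -- the whole support can be prescribed
    obtain ⟨c, hc⟩ : S.Nonempty := Finset.card_pos.1 (by omega)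
    obtain ⟨x, hx, hxF, hxc⟩ := hmove (S.erase c) c b (by rw [Finset.card_erase_of_mem hc]; omega)
      (Finset.notMem_erase c S) (fun h => hb (Finset.mem_of_mem_erase h))
    have h1 := hkey (S.erase c) c b x hx hxF (Finset.erase_subset c S) hc (Finset.notMem_erase c S) hxc
      (hne_b x c hc hxc)
    have h2 : (S.erase c).card ≤ ((S.erase c).filter fun z => u z ∈ S.erase c).card + 1 := by
      have hsplit := Finset.card_filter_add_card_filter_not (s := S.erase c) (p := fun z => u z ∈ S.erase c)
      have : ((S.erase c).filter fun z => u z ∉ S.erase c).card ≤ 1 := by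
        rw [Finset.card_le_one]
        intro a ha a' ha'
        simp only [Finset.mem_filter, Finset.mem_erase, not_and] at ha ha'
        have e1 : u a = c := by
          by_contra h; exact ha.2 h (huS a ha.1.2)
        have e2 : u a' = c := by
          by_contra h; exact ha'.2 h (huS a' ha'.1.2)
        exact u.injective (e1.trans e2.symm)
      omega
    rw [Finset.card_erase_of_mem hc] at h1 h2
    rw [if_neg hb] at h1
    omega

end Cfsg.Agent.S0711
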