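import Cfsg.Statements.S0714
import Mathlib
import Cfsg.Agent.Perm.Module
-- import your own Cfsg.Agent.* helpers here

set_option autoImplicit false
open Cfsg

namespace Cfsg.Agent.S0714

/-- Over any field, the permutation module of the alternating group of degree at least 5 has exactly four invariant subspaces: zero, the constant functions, the functions with coordinate sum zero, and everything. -/
theorem result {α : Type*} [Fintype α] [DecidableEq α] (hα : 5 ≤ Fintype.card α) {K : Type*} [Field K] (W : Subrepresentation (Cfsg.permRep K (alternatingGroup α) α)) : W.toSubmodule = ⊥ ∨ W = Cfsg.permConstants K (alternatingGroup α) α ∨ W = Cfsg.permSumZero K (alternatingGroup α) α ∨ W.toSubmodule = ⊤ := by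
  classical
  let A := alternatingGroup α
  have hrep : ∀ (σ : A) (f : α → K) (x : α),
      Cfsg.permRep K A α σ f x = f ((σ : Equiv.Perm α)⁻¹ x) := fun σ f x => rfl
  by_cases hconst : ∀ f ∈ W.toSubmodule, ∀ x y, f x = f y
  · by_cases hW : W.toSubmodule = ⊥
    · exact Or.inl hW
    · refine Or.inr (Or.inl (Subrepresentation.toSubmodule_injective ?_))
      obtain ⟨f, hf, hf0⟩ := (Submodule.ne_bot_iff _).1 hW
      obtain ⟨a, ha⟩ := Function.ne_iff.1 hf0
      refine le_antisymm (fun w hw => CfsgLib.Perm.Module.mem_permConstants_of_forall_eq (hconst w hw)) ?_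
      intro w hw
      obtain ⟨c, rfl⟩ := CfsgLib.Perm.Module.mem_permConstants.1 hw
      have : (fun _ => c : α → K) = (c / f a) • f := funext fun x => by
        rw [Pi.smul_apply, smul_eq_mul, hconst f hf x a, div_mul_cancel₀ c (by simpa using ha)]
      rw [this]
      exact W.toSubmodule.smul_mem _ hf
  · simp only [not_forall] at hconst
    obtain ⟨f, hf, a, b, hab⟩ := hconst
    have hne : a ≠ b := fun h => hab (h ▸ rfl)
    have h3c : ∀ {x y z : α}, x ≠ y → x ≠ z → y ≠ z → Equiv.swap x y * Equiv.swap x z ∈ A :=
      fun hxy hxz hyz => (Equiv.Perm.isThreeCycle_swap_mul_swap_same hxy hxz hyz).mem_alternatingGroup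
    obtain ⟨c, hc⟩ : ∃ c, c ∉ ({a, b} : Finset α) := by
      by_contra h
      simp only [not_exists, not_not] at h
      have := Finset.card_le_card (fun y (_ : y ∈ (Finset.univ : Finset α)) => h y)
      rw [Finset.card_univ] at this
      have : ({a, b} : Finset α).card ≤ 2 := Finset.card_le_two
      omega
    simp only [Finset.mem_insert, Finset.mem_singleton, not_or] at hc
    let σ : A := ⟨Equiv.swap a c * Equiv.swap a b, h3c (Ne.symm hc.1) hne hc.2⟩
    let v : α → K := f - Cfsg.permRep K A α σ f
    have hv : v ∈ W.toSubmodule := W.toSubmodule.sub_mem hf (W.apply_mem_toSubmodule σ hf)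
    have hσi : ∀ x, (σ : Equiv.Perm α)⁻¹ x = Equiv.swap a b (Equiv.swap a c x) := fun x => by
      simp [σ]
    have hvb : v b = f b - f a := by
      simp only [v, Pi.sub_apply, hrep, hσi]
      rw [Equiv.swap_apply_of_ne_of_ne (Ne.symm hne) (Ne.symm hc.2), Equiv.swap_apply_right]
    have hv0 : ∀ x, x ≠ a → x ≠ b → x ≠ c → v x = 0 := by
      intro x hxa hxb hxc
      simp only [v, Pi.sub_apply, hrep, hσi]
      rw [Equiv.swap_apply_of_ne_of_ne hxa hxc, Equiv.swap_apply_of_ne_of_ne hxa hxb, sub_self]
    have hvsum : v a + v b + v c = 0 := by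
      have hs : ∑ x, v x = 0 := by
        simp only [v, Pi.sub_apply, Finset.sum_sub_distrib, CfsgLib.Perm.Module.sum_permRep, sub_self]
      rw [← Finset.sum_subset (Finset.subset_univ ({a, b, c} : Finset α)) (fun x _ hx => by
        simp only [Finset.mem_insert, Finset.mem_singleton, not_or] at hx
        exact hv0 x hx.1 hx.2.1 hx.2.2)] at hs
      rw [Finset.sum_insert (by simp [hne, Ne.symm hc.1]), Finset.sum_pair (Ne.symm hc.2)] at hs
      linear_combination hs
    obtain ⟨u, w, huw, hmem⟩ : ∃ u w : α, u ≠ w ∧ (Pi.single u 1 - Pi.single w 1 : α → K) ∈ W.toSubmodule := by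
      by_cases hva : v a = 0
      · refine ⟨b, c, Ne.symm hc.2, ?_⟩
        have : (Pi.single b 1 - Pi.single c 1 : α → K) = (v b)⁻¹ • v := by
          funext x
          have hne0 : v b ≠ 0 := by rw [hvb]; exact sub_ne_zero.2 (Ne.symm hab)
          rw [hva, zero_add] at hvsum
          have hvc : v c = -v b := by linear_combination hvsum
          rcases eq_or_ne x b with rfl | hxb
          · simp [hne0, Ne.symm hc.2]
          rcases eq_or_ne x c with rfl | hxc
          · simp [hvc, hne0, hxb]
          rcases eq_or_ne x a with rfl | hxa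
          · simp [hva, hxb, hxc]
          · simp [hv0 x hxa hxb hxc, hxb, hxc]
        rw [this]
        exact W.toSubmodule.smul_mem _ hv
      · obtain ⟨d, e, hde, hd, he⟩ : ∃ d e, d ≠ e ∧ d ∉ ({a, b, c} : Finset α) ∧ e ∉ ({a, b, c} : Finset α) := by
          have h2 : 1 < (Finset.univ \ ({a, b, c} : Finset α)).card := by
            rw [Finset.card_sdiff_of_subset (Finset.subset_univ _), Finset.card_univ]
            have : ({a, b, c} : Finset α).card ≤ 3 := Finset.card_le_three
            omega
          obtain ⟨d, hd, e, he, hde⟩ := Finset.one_lt_card.1 h2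
          exact ⟨d, e, hde, (Finset.mem_sdiff.1 hd).2, (Finset.mem_sdiff.1 he).2⟩
        simp only [Finset.mem_insert, Finset.mem_singleton, not_or] at hd he
        refine ⟨a, e, Ne.symm he.1, ?_⟩
        let τ : A := ⟨Equiv.swap a d * Equiv.swap a e, h3c (Ne.symm hd.1) (Ne.symm he.1) hde⟩
        have hτi : ∀ x, (τ : Equiv.Perm α)⁻¹ x = Equiv.swap a e (Equiv.swap a d x) := fun x => by
          simp [τ]
        have : (Pi.single a 1 - Pi.single e 1 : α → K) = (v a)⁻¹ • (v - Cfsg.permRep K A α τ v) := by
          funext x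
          rw [Pi.smul_apply, Pi.sub_apply, Pi.sub_apply, hrep, hτi, smul_eq_mul]
          rcases eq_or_ne x a with rfl | hxa
          · rw [Equiv.swap_apply_left, Equiv.swap_apply_of_ne_of_ne hd.1 hde, hv0 d hd.1 hd.2.1 hd.2.2]
            simp [hva, Ne.symm he.1]
          rcases eq_or_ne x d with rfl | hxd
          · rw [Equiv.swap_apply_right, Equiv.swap_apply_left, hv0 e he.1 he.2.1 he.2.2,
              hv0 x hd.1 hd.2.1 hd.2.2]
            simp [hxa, hde]
          rw [Equiv.swap_apply_of_ne_of_ne hxa hxd]
          rcases eq_or_ne x e with rfl | hxe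
          · rw [Equiv.swap_apply_right, hv0 x he.1 he.2.1 he.2.2]
            simp [hxa, hva]
          · rw [Equiv.swap_apply_of_ne_of_ne hxa hxe]
            simp [hxa, hxe]
        rw [this]
        exact W.toSubmodule.smul_mem _ (W.toSubmodule.sub_mem hv (W.apply_mem_toSubmodule τ hv))
    have hall : ∀ x y : α, x ≠ y → (Pi.single x 1 - Pi.single y 1 : α → K) ∈ W.toSubmodule := by
      have h2 : MulAction.IsMultiplyPretransitive A α 2 := by
        have := alternatingGroup.isMultiplyPretransitive α
        exact MulAction.isMultiplyPretransitive_of_le' (n := Nat.card α - 2)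
          (by rw [Nat.card_eq_fintype_card]; omega)
          (by simp only [ENat.card_eq_coe_fintype_card, Nat.card_eq_fintype_card, Nat.cast_le]; omega)
      intro x y hxy
      obtain ⟨g, h1, h2'⟩ := MulAction.is_two_pretransitive_iff.1 h2 huw hxy
      have := W.apply_mem_toSubmodule g hmem
      rwa [map_sub, CfsgLib.Perm.Module.permRep_single, CfsgLib.Perm.Module.permRep_single,
        h1, h2'] at this
    have hS : (Cfsg.permSumZero K A α).toSubmodule ≤ W.toSubmodule := by
      intro g hg
      rw [CfsgLib.Perm.Module.mem_permSumZero] at hg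
      have : g = ∑ x, g x • (Pi.single x 1 - Pi.single a 1 : α → K) := by
        simp only [smul_sub, Finset.sum_sub_distrib, ← Finset.sum_smul, hg, zero_smul, sub_zero]
        funext y
        simp [Finset.sum_apply, Pi.single_apply]
      rw [this]
      refine W.toSubmodule.sum_mem fun x _ => ?_
      rcases eq_or_ne x a with rfl | hxa
      · simp
      · exact W.toSubmodule.smul_mem _ (hall x a hxa)
    by_cases hWS : W.toSubmodule ≤ (Cfsg.permSumZero K A α).toSubmodule
    · exact Or.inr (Or.inr (Or.inl (Subrepresentation.toSubmodule_injective (le_antisymm hWS hS))))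
    · refine Or.inr (Or.inr (Or.inr ?_))
      obtain ⟨w₀, hw₀, hw₀'⟩ := Set.not_subset.1 hWS
      have hs0 : ∑ x, w₀ x ≠ 0 := hw₀'
      rw [eq_top_iff]
      intro g _
      have h' : g - ((∑ x, g x) / (∑ x, w₀ x)) • w₀ ∈ (Cfsg.permSumZero K A α).toSubmodule := by
        rw [CfsgLib.Perm.Module.mem_permSumZero]
        simp [Finset.sum_sub_distrib, ← Finset.mul_sum, hs0]
      have := W.toSubmodule.add_mem (hS h') (W.toSubmodule.smul_mem ((∑ x, g x) / (∑ x, w₀ x)) hw₀)
      simpa using this

end Cfsg.Agent.S0714
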