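import Cfsg.Statements.S0716
import Cfsg.Agent.Perm.PermChar
-- import your own Cfsg.Agent.* helpers here

set_option autoImplicit false
open Cfsg

namespace Cfsg.Agent.S0716

/-- (a) If all non-principal irreducible constituents of the permutation character of a transitive group have the same degree `f`, the character is multiplicity-free and all non-trivial subdegrees equal `f`. (b) A transitive group of rank at most 5 has multiplicity-free permutation character. -/
theorem result {G : Type*} [Group G] [Fintype G] {Ω : Type*} [Fintype Ω] [MulAction G Ω] [MulAction.IsPretransitive G Ω] (a : Ω) : ((f : ℕ) → (∀ χ : G → ℂ, Cfsg.IsIrrCharacter G χ → χ ≠ (fun _ => 1) → Cfsg.classInner (fun g : G => (Nat.card (MulAction.fixedBy Ω g) : ℂ)) χ ≠ 0 → χ 1 = f) → (∀ χ : G → ℂ, Cfsg.IsIrrCharacter G χ → Cfsg.classInner (fun g : G => (Nat.card (MulAction.fixedBy Ω g) : ℂ)) χ = 0 ∨ Cfsg.classInner (fun g : G => (Nat.card (MulAction.fixedBy Ω g) : ℂ)) χ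 = 1) ∧ ∀ b : Ω, b ≠ a → Nat.card (MulAction.orbit (MulAction.stabilizer G a) b) = f) ∧ (Nat.card (MulAction.orbitRel.Quotient (MulAction.stabilizer G a) Ω) ≤ 5 → ∀ χ : G → ℂ, Cfsg.IsIrrCharacter G χ → Cfsg.classInner (fun g : G => (Nat.card (MulAction.fixedBy Ω g) : ℂ)) χ = 0 ∨ Cfsg.classInner (fun g : G => (Nat.card (MulAction.fixedBy Ω g) : ℂ)) χ = 1) := by
  classical
  haveI : Nonempty Ω := ⟨a⟩
  obtain ⟨m, hm, hdeg, hrank⟩ := CfsgLib.Perm.PermChar.exists_mult (G := G) (Ω := Ω)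
  let one : Cfsg.IrrCharacter G := ⟨_, CfsgLib.Characters.isIrr_one⟩
  have hm1 : m one = 1 := by
    have := (hm one).symm.trans CfsgLib.Perm.PermChar.inner_one_of_transitive
    exact_mod_cast this
  have hq : Nat.card (MulAction.orbitRel.Quotient G (Ω × Ω)) =
      Nat.card (MulAction.orbitRel.Quotient (MulAction.stabilizer G a) Ω) := by
    let S := MulAction.stabilizer G a
    let f : MulAction.orbitRel.Quotient S Ω → MulAction.orbitRel.Quotient G (Ω × Ω) :=
      Quotient.map (fun b => (a, b)) (by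
        rintro b c ⟨⟨g, hg⟩, rfl⟩
        exact ⟨g, Prod.ext hg rfl⟩)
    refine (Nat.card_congr (Equiv.ofBijective f ⟨?_, ?_⟩)).symm
    · rintro ⟨b⟩ ⟨c⟩ h
      obtain ⟨g, hg⟩ := Quotient.exact h
      exact Quotient.sound ⟨⟨g, congrArg Prod.fst hg⟩, congrArg Prod.snd hg⟩
    · rintro ⟨x, y⟩
      obtain ⟨g, hg⟩ := MulAction.exists_smul_eq G x a
      exact ⟨Quotient.mk _ (g • y), Quotient.sound ⟨g, Prod.ext hg rfl⟩⟩
  rw [← Finset.add_sum_erase _ _ (Finset.mem_univ one), hm1, mul_one, hq] at hrank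
  have part1 : ∀ f : ℕ, (∀ χ : G → ℂ, Cfsg.IsIrrCharacter G χ → χ ≠ (fun _ => 1) →
      Cfsg.classInner (fun g : G => (Nat.card (MulAction.fixedBy Ω g) : ℂ)) χ ≠ 0 → χ 1 = f) →
      (∀ χ : G → ℂ, Cfsg.IsIrrCharacter G χ →
        Cfsg.classInner (fun g : G => (Nat.card (MulAction.fixedBy Ω g) : ℂ)) χ = 0 ∨
        Cfsg.classInner (fun g : G => (Nat.card (MulAction.fixedBy Ω g) : ℂ)) χ = 1) ∧
      ∀ b : Ω, b ≠ a → Nat.card (MulAction.orbit (MulAction.stabilizer G a) b) = f := by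
    intro f hf
    have hdeg' : (Nat.card Ω : ℂ) = ((1 + f * ∑ χ ∈ Finset.univ.erase one, m χ : ℕ) : ℂ) := by
      rw [hdeg, ← Finset.add_sum_erase _ _ (Finset.mem_univ one), hm1, Nat.cast_add,
        Nat.cast_mul, Nat.cast_sum, Finset.mul_sum]
      simp only [one, Nat.cast_one, mul_one]
      congr 1
      refine Finset.sum_congr rfl fun χ hχ => ?_
      rcases Nat.eq_zero_or_pos (m χ) with h0 | h0
      · rw [h0]; simp
      · have hne : Cfsg.classInner (CfsgLib.Perm.PermChar.perm G Ω) (χ : G → ℂ) ≠ 0 := by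
          rw [hm χ]
          exact_mod_cast h0.ne'
        rw [hf χ χ.2 (fun h => Finset.ne_of_mem_erase hχ (Subtype.ext h)) hne, mul_comm]
    have hN : Nat.card Ω = 1 + f * ∑ χ ∈ Finset.univ.erase one, m χ := by exact_mod_cast hdeg'
    obtain ⟨Q, _, q₀, d, hQ, hsum, hd0, hd, hall⟩ :=
      CfsgLib.Perm.PermChar.sum_suborbits (G := G) (Ω := Ω) a
    rw [← Finset.add_sum_erase _ _ (Finset.mem_univ q₀), hd0] at hsum
    have hcardQ : (Finset.univ.erase q₀).card = ∑ χ ∈ Finset.univ.erase one, m χ * m χ := by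
      rw [Finset.card_erase_of_mem (Finset.mem_univ _), Finset.card_univ, hQ, hrank]
      omega
    have hge : ∀ q ∈ Finset.univ.erase q₀, f ≤ d q := by
      intro q hq
      obtain ⟨b, hb, hdq, hpos⟩ := hd q (Finset.ne_of_mem_erase hq)
      refine Nat.le_of_dvd hpos ?_
      rw [hdq]
      refine CfsgLib.Perm.PermChar.dvd_subdegree ?_ hb
      intro χ hχ h1 h2
      exact ⟨1, by rw [hf χ hχ h1 h2, Nat.cast_one, mul_one]⟩
    have h1 : (∑ χ ∈ Finset.univ.erase one, m χ) ≤ ∑ χ ∈ Finset.univ.erase one, m χ * m χ :=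
      Finset.sum_le_sum fun χ _ => Nat.le_mul_self _
    have h2 : (Finset.univ.erase q₀).card • f ≤ ∑ q ∈ Finset.univ.erase q₀, d q :=
      Finset.card_nsmul_le_sum _ _ _ hge
    rw [smul_eq_mul, hcardQ] at h2
    have h2' : (∑ q ∈ Finset.univ.erase q₀, d q) = f * ∑ χ ∈ Finset.univ.erase one, m χ := by
      omega
    constructor
    · intro χ hχ
      by_cases hone : χ = fun _ => 1
      · right; rw [hone]; exact CfsgLib.Perm.PermChar.inner_one_of_transitive
      show Cfsg.classInner (CfsgLib.Perm.PermChar.perm G Ω) χ = 0 ∨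
        Cfsg.classInner (CfsgLib.Perm.PermChar.perm G Ω) χ = 1
      rw [hm ⟨χ, hχ⟩]
      have hmem : (⟨χ, hχ⟩ : Cfsg.IrrCharacter G) ∈ Finset.univ.erase one :=
        Finset.mem_erase.2 ⟨fun h => hone (congrArg Subtype.val h), Finset.mem_univ _⟩
      rcases Nat.eq_zero_or_pos (m ⟨χ, hχ⟩) with h0 | h0
      · left; rw [h0, Nat.cast_zero]
      right
      have hfpos : 0 < f := by
        rcases Nat.eq_zero_or_pos f with rfl | h
        · exfalso
          have hne : Cfsg.classInner (CfsgLib.Perm.PermChar.perm G Ω) χ ≠ 0 := by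
            rw [hm ⟨χ, hχ⟩]; exact_mod_cast h0.ne'
          have := hf χ hχ hone hne
          rw [Nat.cast_zero] at this
          exact CfsgLib.Characters.irr_one_ne_zero hχ this
        · exact h
      have heq : (∑ χ ∈ Finset.univ.erase one, m χ) = ∑ χ ∈ Finset.univ.erase one, m χ * m χ :=
        le_antisymm h1 (Nat.le_of_mul_le_mul_left (by
          rw [mul_comm _ f] at h2; omega) hfpos)
      have := (Finset.sum_eq_sum_iff_of_le fun χ _ => Nat.le_mul_self (m χ)).1 heq _ hmem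
      have hone' : m ⟨χ, hχ⟩ = 1 := by nlinarith
      rw [hone', Nat.cast_one]
    · intro b hb
      obtain ⟨q, hq, hdq⟩ := hall b hb
      rw [← hdq]
      have hmem : q ∈ Finset.univ.erase q₀ := Finset.mem_erase.2 ⟨hq, Finset.mem_univ _⟩
      refine ((Finset.sum_eq_sum_iff_of_le hge).1 ?_ q hmem).symm
      apply le_antisymm (Finset.sum_le_sum hge)
      rw [Finset.sum_const, smul_eq_mul, hcardQ, h2', mul_comm _ f]
      exact Nat.mul_le_mul_left f h1
  refine ⟨part1, fun hr χ hχ => ?_⟩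
  show Cfsg.classInner (CfsgLib.Perm.PermChar.perm G Ω) χ = 0 ∨
    Cfsg.classInner (CfsgLib.Perm.PermChar.perm G Ω) χ = 1
  by_cases hone : χ = fun _ => 1
  · right; rw [hone]; exact CfsgLib.Perm.PermChar.inner_one_of_transitive
  rw [hm ⟨χ, hχ⟩]
  have hmem : (⟨χ, hχ⟩ : Cfsg.IrrCharacter G) ∈ Finset.univ.erase one :=
    Finset.mem_erase.2 ⟨fun h => hone (congrArg Subtype.val h), Finset.mem_univ _⟩
  rw [hrank] at hr
  rcases (show m ⟨χ, hχ⟩ ≤ 1 ∨ 2 ≤ m ⟨χ, hχ⟩ by omega) with h | h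
  · rcases Nat.le_one_iff_eq_zero_or_eq_one.1 h with h | h <;> simp [h]
  exfalso
  obtain ⟨k, -, hk⟩ := CfsgLib.Characters.exists_degree_pos hχ
  have hother : ∀ ψ : Cfsg.IrrCharacter G, ψ ≠ one → ψ ≠ ⟨χ, hχ⟩ → m ψ = 0 := by
    intro ψ h1 h2
    have hsub : ({⟨χ, hχ⟩, ψ} : Finset (Cfsg.IrrCharacter G)) ⊆ Finset.univ.erase one := by
      intro z hz
      rcases Finset.mem_insert.1 hz with rfl | hz
      · exact hmem
      · rw [Finset.mem_singleton.1 hz]; exact Finset.mem_erase.2 ⟨h1, Finset.mem_univ _⟩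
    have := Finset.sum_le_sum_of_subset (f := fun χ => m χ * m χ) hsub
    rw [Finset.sum_pair (Ne.symm h2)] at this
    nlinarith
  have hf : ∀ ψ : G → ℂ, Cfsg.IsIrrCharacter G ψ → ψ ≠ (fun _ => 1) →
      Cfsg.classInner (fun g : G => (Nat.card (MulAction.fixedBy Ω g) : ℂ)) ψ ≠ 0 → ψ 1 = k := by
    intro ψ hψ h1 h2
    have h2' : Cfsg.classInner (CfsgLib.Perm.PermChar.perm G Ω) ψ ≠ 0 := h2
    rw [hm ⟨ψ, hψ⟩] at h2'
    by_cases he : ψ = χ
    · rw [he, hk]
    · exact absurd (hother ⟨ψ, hψ⟩ (fun h => h1 (congrArg Subtype.val h))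
        (fun h => he (congrArg Subtype.val h))) (by exact_mod_cast h2')
  rcases (part1 k hf).1 χ hχ with h' | h'
  · have : (m ⟨χ, hχ⟩ : ℂ) = 0 := (hm ⟨χ, hχ⟩).symm.trans h'
    have : m ⟨χ, hχ⟩ = 0 := by exact_mod_cast this
    omega
  · have : (m ⟨χ, hχ⟩ : ℂ) = 1 := (hm ⟨χ, hχ⟩).symm.trans h'
    have : m ⟨χ, hχ⟩ = 1 := by exact_mod_cast this
    omega

end Cfsg.Agent.S0716
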