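import Cfsg.Statements.S0717
import Cfsg.Agent.Perm.PermChar
import Cfsg.Agent.Characters.FixedPoints
-- import your own Cfsg.Agent.* helpers here

set_option autoImplicit false
open Cfsg

namespace Cfsg.Agent.S0717

/-- All suborbits of a transitive group are self-paired (every pair of points is interchanged by some group element) if and only if the permutation character is multiplicity-free and each of its irreducible constituents is real-valued. -/
theorem result {G : Type*} [Group G] [Fintype G] {Ω : Type*} [Fintype Ω] [MulAction G Ω] [MulAction.IsPretransitive G Ω] : (∀ a b : Ω, ∃ g : G, g • a = b ∧ g • b = a) ↔ ∀ χ : G → ℂ, Cfsg.IsIrrCharacter G χ → Cfsg.classInner (fun g : G => (Nat.card (MulAction.fixedBy Ω g) : ℂ)) χ ≠ 0 → Cfsg.classInner (fun g : G => (Nat.card (MulAction.fixedBy Ω g) : ℂ)) χ = 1 ∧ ∀ g : G, (starRingEnd ℂ) (χ g) = χ g := by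
  classical
  set ρ := Cfsg.permRep ℂ G Ω with hρ
  have hpi : (fun g : G => (Nat.card (MulAction.fixedBy Ω g) : ℂ)) = ρ.character :=
    CfsgLib.Perm.PermChar.character_permRep.symm
  rw [hpi]
  -- entries of an averaging operator
  have hentry : ∀ (θ : G → ℂ) (x y : Ω),
      LinearMap.toMatrix' (CfsgLib.Characters.avgOp θ ρ) x y =
        ∑ g : G, (if g • x = y then θ g else 0) := by
    intro θ x y
    rw [LinearMap.toMatrix'_apply, CfsgLib.Characters.avgOp, LinearMap.sum_apply,
      Finset.sum_apply]
    refine Finset.sum_congr rfl fun g _ => ?_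
    show θ g * (Pi.single y (1 : ℂ) : Ω → ℂ) (g⁻¹⁻¹ • x) = _
    rw [inv_inv, Pi.single_apply]
    split_ifs <;> simp
  -- transposing an averaging operator conjugates the character
  have htr : ∀ χ : G → ℂ, Cfsg.IsIrrCharacter G χ →
      (LinearMap.toMatrix' (CfsgLib.Perm.Isotypic.proj ρ χ)).transpose =
        LinearMap.toMatrix' (CfsgLib.Perm.Isotypic.proj ρ (fun g => (starRingEnd ℂ) (χ g))) := by
    intro χ hχ
    have hreal : (starRingEnd ℂ) (χ 1) = χ 1 := by
      obtain ⟨k, -, hk⟩ := CfsgLib.Characters.exists_degree_pos hχ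
      simp [hk]
    simp only [CfsgLib.Perm.Isotypic.proj, map_smul, Matrix.transpose_smul, hreal]
    congr 1
    ext x y
    rw [Matrix.transpose_apply, hentry, hentry]
    refine Fintype.sum_equiv (Equiv.inv G) _ _ fun g => ?_
    rw [Equiv.inv_apply]
    rw [CfsgLib.Characters.character_inv (CfsgLib.Characters.isCharacter_of_isIrr hχ)]
    simp only [Complex.conj_conj, inv_smul_eq_iff]
    by_cases h : g • y = x
    · rw [if_pos h, if_pos h.symm]
    · rw [if_neg h, if_neg (Ne.symm h)]
  constructor
  · intro hgen χ hχ hne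
    -- every commuting map is symmetric
    have hsym : ∀ T, CfsgLib.Perm.Isotypic.IsInter ρ T →
        (LinearMap.toMatrix' T).transpose = LinearMap.toMatrix' T := by
      intro T hT
      ext x y
      obtain ⟨g, hgx, hgy⟩ := hgen x y
      rw [Matrix.transpose_apply, LinearMap.toMatrix'_apply, LinearMap.toMatrix'_apply]
      have h := congrFun (hT g (Pi.single x 1)) y
      have hs : ρ g (Pi.single x 1 : Ω → ℂ) = Pi.single y 1 := by
        funext z
        show (Pi.single x 1 : Ω → ℂ) (g⁻¹ • z) = _
        rw [Pi.single_apply, Pi.single_apply]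
        simp [inv_smul_eq_iff, hgx]
      rw [hs] at h
      have h2 : ρ g (T (Pi.single x 1)) y = T (Pi.single x 1) x := by
        show T (Pi.single x 1) (g⁻¹ • y) = _
        rw [inv_smul_eq_iff.2 hgx.symm]
      rw [h2] at h
      have h' := congrFun (hT g (Pi.single x 1)) x
      rw [hs] at h'
      rw [h']
      show T (Pi.single x 1) y = T (Pi.single x 1) (g⁻¹ • x)
      rw [inv_smul_eq_iff.2 hgy.symm]
    have hcomm : ∀ S T, CfsgLib.Perm.Isotypic.IsInter ρ S → CfsgLib.Perm.Isotypic.IsInter ρ T →
        S ∘ₗ T = T ∘ₗ S := by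
      intro S T hS hT
      apply LinearMap.toMatrix'.injective
      have hST : CfsgLib.Perm.Isotypic.IsInter ρ (S ∘ₗ T) := fun g x => by
        rw [LinearMap.comp_apply, LinearMap.comp_apply, hT g x, hS g]
      have := hsym _ hST
      rw [LinearMap.toMatrix'_comp, Matrix.transpose_mul, hsym S hS, hsym T hT] at this
      rw [LinearMap.toMatrix'_comp, LinearMap.toMatrix'_comp, this]
    have hm : Cfsg.classInner ρ.character χ = 1 :=
      (((CfsgLib.Perm.Isotypic.comm_iff ρ).2 hcomm) χ hχ).resolve_left hne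
    refine ⟨hm, ?_⟩
    by_contra hreal
    have hne' : χ ≠ fun g => (starRingEnd ℂ) (χ g) := fun h => hreal fun g => (congrFun h g).symm
    have hbar := CfsgLib.Characters.isIrr_conj hχ
    have heq : CfsgLib.Perm.Isotypic.proj ρ χ =
        CfsgLib.Perm.Isotypic.proj ρ (fun g => (starRingEnd ℂ) (χ g)) := by
      apply LinearMap.toMatrix'.injective
      rw [← htr χ hχ, hsym _ (CfsgLib.Perm.Isotypic.proj_comm ρ
        (CfsgLib.Characters.isClassFunction_of_isIrr hχ))]
    have hzero : CfsgLib.Perm.Isotypic.proj ρ χ = 0 := by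
      refine CfsgLib.Perm.Isotypic.ext_irr ρ fun S hS x hx => ?_
      rw [CfsgLib.Perm.Isotypic.proj_apply_irr ρ hχ S hS hx]
      split_ifs with h
      · have := congrArg (fun L => L x) heq
        simp only [CfsgLib.Perm.Isotypic.proj_apply_irr ρ hχ S hS hx,
          CfsgLib.Perm.Isotypic.proj_apply_irr ρ hbar S hS hx] at this
        rw [if_pos h, if_neg (fun h' => hne' (h.trans h'.symm))] at this
        exact this
      · rfl
    have ht := CfsgLib.Perm.Isotypic.trace_proj ρ χ
    rw [hzero, map_zero, CfsgLib.Perm.Isotypic.classInner_symm ρ hχ, hm, mul_one] at ht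
    exact CfsgLib.Characters.irr_one_ne_zero hχ ht.symm
  · intro h a b
    have hmult : ∀ χ : G → ℂ, Cfsg.IsIrrCharacter G χ →
        Cfsg.classInner ρ.character χ = 0 ∨ Cfsg.classInner ρ.character χ = 1 := by
      intro χ hχ
      by_cases h0 : Cfsg.classInner ρ.character χ = 0
      · exact Or.inl h0
      · exact Or.inr (h χ hχ h0).1
    let R : Ω → Ω → Prop := fun x y => ∃ g : G, g • a = x ∧ g • b = y
    let M : Matrix Ω Ω ℂ := Matrix.of fun x y => if R x y then 1 else 0
    have hR : ∀ (g : G) x y, R (g • x) (g • y) ↔ R x y := by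
      intro g x y
      constructor
      · rintro ⟨h, h1, h2⟩
        exact ⟨g⁻¹ * h, by rw [mul_smul, h1, inv_smul_smul], by rw [mul_smul, h2, inv_smul_smul]⟩
      · rintro ⟨h, h1, h2⟩
        exact ⟨g * h, by rw [mul_smul, h1], by rw [mul_smul, h2]⟩
    have hT : CfsgLib.Perm.Isotypic.IsInter ρ (Matrix.toLin' M) := by
      intro g v
      funext x
      show Matrix.toLin' M (fun y => v (g⁻¹ • y)) x = Matrix.toLin' M v (g⁻¹ • x)
      simp only [Matrix.toLin'_apply, Matrix.mulVec, dotProduct, M, Matrix.of_apply]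
      refine Fintype.sum_equiv (MulAction.toPerm g⁻¹) _ _ fun y => ?_
      simp [hR]
    have hsymM : M.transpose = M := by
      have hdec : Matrix.toLin' M = ∑ χ : Cfsg.IrrCharacter G,
          Matrix.toLin' M ∘ₗ CfsgLib.Perm.Isotypic.proj ρ (χ : G → ℂ) := by
        conv_lhs => rw [← LinearMap.comp_id (Matrix.toLin' M),
          ← CfsgLib.Perm.Isotypic.sum_proj ρ]
        rw [← LinearMap.llcomp_apply', map_sum]
        rfl
      have hterm : ∀ χ : Cfsg.IrrCharacter G, (LinearMap.toMatrix'
          (Matrix.toLin' M ∘ₗ CfsgLib.Perm.Isotypic.proj ρ (χ : G → ℂ))).transpose =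
          LinearMap.toMatrix' (Matrix.toLin' M ∘ₗ CfsgLib.Perm.Isotypic.proj ρ (χ : G → ℂ)) := by
        intro χ
        by_cases h0 : Cfsg.classInner ρ.character (χ : G → ℂ) = 0
        · have hp : LinearMap.IsProj (LinearMap.range (CfsgLib.Perm.Isotypic.proj ρ (χ : G → ℂ)))
              (CfsgLib.Perm.Isotypic.proj ρ (χ : G → ℂ)) :=
            ⟨fun x => LinearMap.mem_range_self _ x, fun y hy => by
              obtain ⟨x, rfl⟩ := hy
              exact CfsgLib.Perm.Isotypic.proj_idem ρ χ.2 x⟩
          have ht := CfsgLib.Perm.Isotypic.trace_proj ρ (χ : G → ℂ)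
          rw [hp.trace, CfsgLib.Perm.Isotypic.classInner_symm ρ χ.2, h0, mul_zero,
            Nat.cast_eq_zero, Submodule.finrank_eq_zero, LinearMap.range_eq_bot] at ht
          rw [ht, LinearMap.comp_zero, map_zero, Matrix.transpose_zero]
        · obtain ⟨c, hc⟩ := CfsgLib.Perm.Isotypic.inter_comp_proj ρ χ.2 (h χ χ.2 h0).1 hT
          have e : Matrix.toLin' M ∘ₗ CfsgLib.Perm.Isotypic.proj ρ (χ : G → ℂ) =
              c • CfsgLib.Perm.Isotypic.proj ρ (χ : G → ℂ) := LinearMap.ext hc
          have hr : (fun g => (starRingEnd ℂ) ((χ : G → ℂ) g)) = (χ : G → ℂ) :=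
            funext (h χ χ.2 h0).2
          rw [e, map_smul, Matrix.transpose_smul, htr _ χ.2, hr]
      have := congrArg LinearMap.toMatrix' hdec
      rw [LinearMap.toMatrix'_toLin', map_sum] at this
      rw [this, Matrix.transpose_sum]
      exact Finset.sum_congr rfl fun χ _ => hterm χ
    have := congrFun (congrFun hsymM a) b
    rw [Matrix.transpose_apply] at this
    simp only [M, Matrix.of_apply] at this
    rw [if_pos (show R a b from ⟨1, one_smul _ _, one_smul _ _⟩)] at this
    by_contra hh
    rw [if_neg (show ¬ R b a from fun ⟨g, h1, h2⟩ => hh ⟨g, h1, h2⟩)] at this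
    exact one_ne_zero this.symm

end Cfsg.Agent.S0717
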