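import Cfsg.Statements.S0718
import Cfsg.Agent.Perm.PermChar
-- import your own Cfsg.Agent.* helpers here

set_option autoImplicit false
open Cfsg

namespace Cfsg.Agent.S0718

/-- Multiplicity-freeness of the permutation character is equivalent to commutativity of the centraliser ring, i.e. of the algebra of `G`-equivariant endomorphisms of the complex permutation module. -/
theorem result {G : Type*} [Group G] [Fintype G] {Ω : Type*} [Fintype Ω] [MulAction G Ω] : (∀ χ : G → ℂ, Cfsg.IsIrrCharacter G χ → Cfsg.classInner (fun g : G => (Nat.card (MulAction.fixedBy Ω g) : ℂ)) χ = 0 ∨ Cfsg.classInner (fun g : G => (Nat.card (MulAction.fixedBy Ω g) : ℂ)) χ = 1) ↔ ∀ S T : (Ω → ℂ) →ₗ[ℂ] (Ω → ℂ), S ∈ ((Cfsg.permRep ℂ G Ω).linHom (Cfsg.permRep ℂ G Ω)).invariants → T ∈ ((Cfsg.permRep ℂ G Ω).linHom (Cfsg.permRep ℂ G Ω)).invariants → S ∘ₗ T = T ∘ₗ S := by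
  have hpi : (fun g : G => (Nat.card (MulAction.fixedBy Ω g) : ℂ)) =
      (Cfsg.permRep ℂ G Ω).character := CfsgLib.Perm.PermChar.character_permRep.symm
  rw [hpi, CfsgLib.Perm.Isotypic.comm_iff]
  have hmem : ∀ T : (Ω → ℂ) →ₗ[ℂ] (Ω → ℂ),
      T ∈ ((Cfsg.permRep ℂ G Ω).linHom (Cfsg.permRep ℂ G Ω)).invariants ↔
      CfsgLib.Perm.Isotypic.IsInter (Cfsg.permRep ℂ G Ω) T := by
    intro T
    rw [Representation.mem_invariants]
    constructor
    · intro h g x
      have h' := LinearMap.congr_fun (h g) ((Cfsg.permRep ℂ G Ω) g x)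
      simp only [Representation.linHom_apply, LinearMap.comp_apply] at h'
      rw [← h', Representation.inv_self_apply]
    · intro h g
      refine LinearMap.ext fun x => ?_
      simp only [Representation.linHom_apply, LinearMap.comp_apply]
      rw [← h, Representation.self_inv_apply]
  simp only [hmem]

end Cfsg.Agent.S0718
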