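import Cfsg.Statements.S0719
import Cfsg.Agent.Perm.RankThree
-- import your own Cfsg.Agent.* helpers here

set_option autoImplicit false
open Cfsg
open scoped Pointwise

namespace Cfsg.Agent.S0719

/-- Groups of Wielandt type: if a primitive group of degree `2m` has rank 3 and permutation character `1 + χ₁ + χ₂` with irreducible `χ₁, χ₂` of degrees `m - 1` and `m`, then `m = 2a² + 2a + 1` for some positive integer `a` and the two non-trivial subdegrees are `a(2a+1)` and `(a+1)(2a+1)`. -/
theorem result {G : Type*} [Group G] [Fintype G] {Ω : Type*} [Fintype Ω] [MulAction G Ω] (hprim : MulAction.IsPreprimitive G Ω) {m : ℕ} (hm : Fintype.card Ω = 2 * m) (a₀ : Ω) (hrank : Nat.card (MulAction.orbitRel.Quotient (MulAction.stabilizer G a₀) Ω) = 3) (χ₁ χ₂ : G → ℂ) (h₁ : Cfsg.IsIrrCharacter G χ₁) (h₂ : Cfsg.IsIrrCharacter G χ₂) (hπ : (fun g : G => (Nat.card (MulAction.fixedBy Ω g) : ℂ)) = fun g => 1 + χ₁ g + χ₂ g) (hd₁ : χ₁ 1 = (m : ℂ) - 1) (hd₂ : χ₂ 1 = m) : ∃ a : ℕ, 0 < a ∧ m = 2 * a ^ 2 + 2 * a + 1 ∧ ∀ b : Ω, b ≠ a₀ → Nat.card (MulAction.orbit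 (MulAction.stabilizer G a₀) b) = a * (2 * a + 1) ∨ Nat.card (MulAction.orbit (MulAction.stabilizer G a₀) b) = (a + 1) * (2 * a + 1) := by
  classical
  haveI := hprim.toIsPretransitive
  haveI : Nonempty Ω := ⟨a₀⟩
  have hm0 : 0 < m := by
    have : 0 < Fintype.card Ω := Fintype.card_pos
    omega
  haveI : Nontrivial Ω := Fintype.one_lt_card_iff_nontrivial.1 (by omega)
  have hsub : ∀ c : Ω, c ≠ a₀ →
      1 < Nat.card (MulAction.orbit (MulAction.stabilizer G a₀) c) := by
    intro c hc
    by_contra hle
    haveI : Nonempty (MulAction.orbit (MulAction.stabilizer G a₀) c) :=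
      ⟨⟨c, MulAction.mem_orbit_self _⟩⟩
    have h1 : Nat.card (MulAction.orbit (MulAction.stabilizer G a₀) c) = 1 := by
      have := Nat.card_pos (α := MulAction.orbit (MulAction.stabilizer G a₀) c)
      omega
    have hle' : MulAction.stabilizer G a₀ ≤ MulAction.stabilizer G c := fun g hg => by
      have hs := (Nat.card_eq_one_iff_unique.1 h1).1
      exact congrArg Subtype.val (Subsingleton.elim
        (⟨g • c, ⟨⟨g, hg⟩, rfl⟩⟩ : MulAction.orbit (MulAction.stabilizer G a₀) c)
        ⟨c, MulAction.mem_orbit_self _⟩)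
    have heq : ∀ x y : Ω, MulAction.stabilizer G x ≤ MulAction.stabilizer G y →
        MulAction.stabilizer G x = MulAction.stabilizer G y := by
      intro x y hxy
      rcases hxy.eq_or_lt with h | h
      · exact h
      · exfalso
        have htop := (MulAction.IsPreprimitive.isCoatom_stabilizer_of_isPreprimitive G x).2 _ h
        have := MulAction.index_stabilizer_of_transitive G (x := y)
        rw [htop, Subgroup.index_top] at this
        rw [Nat.card_eq_fintype_card, hm] at this
        omega
    let B : Set Ω := {x | MulAction.stabilizer G x = MulAction.stabilizer G a₀}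
    have hB : MulAction.IsBlock G B := by
      rw [MulAction.isBlock_iff_smul_eq_or_disjoint]
      intro g
      by_cases h : g • B = B
      · exact Or.inl h
      · refine Or.inr (Set.disjoint_left.2 ?_)
        rintro _ ⟨x, hx, rfl⟩ hgx
        apply h
        ext z
        constructor
        · rintro ⟨w, hw, rfl⟩
          show MulAction.stabilizer G (g • w) = _
          rw [← hgx, MulAction.stabilizer_smul_eq_stabilizer_map_conj,
            MulAction.stabilizer_smul_eq_stabilizer_map_conj, hw, hx]
        · intro hz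
          refine ⟨g⁻¹ • z, ?_, smul_inv_smul g z⟩
          show MulAction.stabilizer G (g⁻¹ • z) = _
          have e : MulAction.stabilizer G x =
              (MulAction.stabilizer G (g • x)).map (MulAut.conj g⁻¹).toMonoidHom := by
            rw [← MulAction.stabilizer_smul_eq_stabilizer_map_conj, inv_smul_smul]
          rw [MulAction.stabilizer_smul_eq_stabilizer_map_conj, hz,
            ← (show MulAction.stabilizer G (g • x) = MulAction.stabilizer G a₀ from hgx), ← e, hx]
          exact (show MulAction.stabilizer G (g • x) = MulAction.stabilizer G a₀ from hgx).symm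
    rcases MulAction.IsPreprimitive.isTrivialBlock_of_isBlock hB with h | h
    · exact hc (h (heq a₀ c hle').symm rfl)
    · have hall : ∀ x : Ω, ∀ g ∈ MulAction.stabilizer G a₀, g • x = x := by
        intro x g hg
        have hx : x ∈ B := h ▸ Set.mem_univ x
        rw [← (show MulAction.stabilizer G x = MulAction.stabilizer G a₀ from hx)] at hg
        exact hg
      have hbij : Function.Bijective (Quotient.mk
          (MulAction.orbitRel (MulAction.stabilizer G a₀) Ω)) := by
        refine ⟨fun x y hxy => ?_, Quotient.mk_surjective⟩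
        obtain ⟨⟨g, hg⟩, he⟩ := Quotient.exact hxy
        exact (he.symm.trans (hall y g hg))
      have := Nat.card_congr (Equiv.ofBijective _ hbij)
      rw [show Nat.card (Quotient (MulAction.orbitRel (MulAction.stabilizer G a₀) Ω)) = 3
        from hrank, Nat.card_eq_fintype_card, hm] at this
      omega
  obtain ⟨b₀, hb₀⟩ := exists_ne a₀
  obtain ⟨a, ha, hma, -⟩ := CfsgLib.Perm.RankThree.main hm hb₀ hrank hsub χ₁ χ₂ h₁ h₂ hπ hd₁ hd₂
  refine ⟨a, ha, hma, fun b hb => ?_⟩
  obtain ⟨c, hc, hmc, hor⟩ := CfsgLib.Perm.RankThree.main hm hb hrank hsub χ₁ χ₂ h₁ h₂ hπ hd₁ hd₂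
  have : c = a := by
    rcases lt_trichotomy c a with h | h | h
    · exfalso; nlinarith
    · exact h
    · exfalso; nlinarith
  subst this
  exact hor

end Cfsg.Agent.S0719
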