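import Cfsg.Statements.S0720
import Mathlib
import Cfsg.Agent.Perm.TwoPrimeMain
import Cfsg.Agent.S0707
import Cfsg.Agent.Perm69.JordanPrime
-- import your own Cfsg.Agent.* helpers here

set_option autoImplicit false
open Cfsg
open scoped Pointwise

namespace Cfsg.Agent.S0720

/-- Wielandt's Theorem on primitive groups of degree `2p`: such a group is doubly transitive, or it has rank 3, `p = 2a² + 2a + 1`, and subdegrees `a(2a+1)` and `(a+1)(2a+1)`. -/
theorem result {α : Type*} [Fintype α] [DecidableEq α] {p : ℕ} (hp : p.Prime) (hα : Fintype.card α = 2 * p) (G : Subgroup (Equiv.Perm α)) (hG : MulAction.IsPreprimitive G α) (a₀ : α) : MulAction.IsMultiplyPretransitive G α 2 ∨ (Nat.card (MulAction.orbitRel.Quotient (MulAction.stabilizer G a₀) α) = 3 ∧ ∃ a : ℕ, 0 < a ∧ p = 2 * a ^ 2 + 2 * a + 1 ∧ ∀ b : α, b ≠ a₀ → Nat.card (MulAction.orbit (MulAction.stabilizer G a₀) b) = a * (2 * a + 1) ∨ Nat.card (MulAction.orbit (MulAction.stabilizer G a₀) b) = (a + 1) * (2 * a + 1)) := by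
  classical
  haveI := Fact.mk hp
  haveI := hG.toIsPretransitive
  have hp2 := hp.two_le
  haveI : Nontrivial α := Fintype.one_lt_card_iff_nontrivial.1 (by omega)
  have htwo : ∀ H : Subgroup (Equiv.Perm α), (∀ a b c d : α, a ≠ b → c ≠ d →
      ∃ g ∈ H, g a = c ∧ g b = d) → MulAction.IsMultiplyPretransitive H α 2 := by
    intro H h
    rw [MulAction.is_two_pretransitive_iff]
    intro a b c d hab hcd
    obtain ⟨g, hg, h1, h2⟩ := h a b c d hab hcd
    exact ⟨⟨g, hg⟩, h1, h2⟩
  -- an element of order `p`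
  have hdvd : p ∣ Nat.card G := by
    have h1 : (MulAction.stabilizer G a₀).index ∣ Nat.card G := Subgroup.index_dvd_card _
    rw [MulAction.index_stabilizer_of_transitive, Nat.card_eq_fintype_card, hα] at h1
    exact dvd_trans (dvd_mul_left p 2) h1
  obtain ⟨⟨x, hxG⟩, hx⟩ := exists_prime_orderOf_dvd_card' p hdvd
  rw [Subgroup.orderOf_mk] at hx
  obtain ⟨r, hr⟩ := Equiv.Perm.cycleType_prime_order (by rw [hx]; exact hp)
  rw [hx] at hr
  have hsupp : x.support.card = (r + 1) * p := by
    rw [← Equiv.Perm.sum_cycleType, hr, Multiset.sum_replicate, smul_eq_mul]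
  have hle := Finset.card_le_univ x.support
  rw [hsupp, hα] at hle
  have hr1 : r ≤ 1 := by
    have := Nat.le_of_mul_le_mul_right hle hp.pos
    omega
  rcases Nat.le_one_iff_eq_zero_or_eq_one.1 hr1 with rfl | rfl
  · -- a single cycle
    left
    rw [zero_add, one_mul] at hsupp
    rcases eq_or_ne p 2 with rfl | hpne
    · have htop := Equiv.Perm.subgroup_eq_top_of_isPreprimitive_of_isSwap_mem hG x
        (Equiv.Perm.card_support_eq_two.1 hsupp) hxG
      apply htwo
      intro a b c d hab hcd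
      haveI := Equiv.Perm.isMultiplyPretransitive α 2
      obtain ⟨g, h1, h2⟩ := MulAction.is_two_pretransitive_iff.1 this hab hcd
      exact ⟨g, htop ▸ Subgroup.mem_top g, h1, h2⟩
    · have hcyc : x.IsCycle := by
        rw [← Equiv.Perm.card_cycleType_eq_one, hr, Multiset.card_replicate]
      have hA : alternatingGroup α ≤ G := CfsgLib.JordanPrime.alternatingGroup_le_of_prime_cycle hG hp
        (by have := hp.two_le; omega) hcyc hsupp hxG
      apply htwo
      intro a b c d hab hcd
      haveI : MulAction.IsMultiplyPretransitive (alternatingGroup α) α 2 := by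
        haveI := alternatingGroup.isMultiplyPretransitive α
        refine MulAction.isMultiplyPretransitive_of_le
          (n := Nat.card α - 2) (by rw [Nat.card_eq_fintype_card, hα]; omega) ?_
        rw [Nat.card_eq_fintype_card, hα]; omega
      obtain ⟨g, h1, h2⟩ := MulAction.is_two_pretransitive_iff.1 this hab hcd
      exact ⟨g, hA g.2, h1, h2⟩
  -- two cycles
  have hfix : ∀ y, x y ≠ y := by
    intro y
    have : x.support = Finset.univ := Finset.eq_univ_of_card _ (by rw [hsupp, hα])
    exact Equiv.Perm.mem_support.1 (this ▸ Finset.mem_univ y)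
  have hxp : x ^ p = 1 := by rw [← hx, pow_orderOf_eq_one]
  have hmod : ∀ n : ℕ, x ^ n = x ^ (n % p) := fun n => by rw [← hx, pow_mod_orderOf]
  have hfree : ∀ (y : α) (z w : ZMod p), (x ^ z.val) y = (x ^ w.val) y → z = w := by
    intro y z w h
    by_contra hne
    have key : ∀ n : ℕ, (x ^ n) ((x ^ z.val) y) = (x ^ ((n : ZMod p) + z).val) y := by
      intro n
      rw [← Equiv.Perm.mul_apply, ← pow_add, hmod, ZMod.val_add, ZMod.val_natCast, Nat.mod_add_mod]
    have h1 : (x ^ (w - z).val) ((x ^ z.val) y) = (x ^ z.val) y := by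
      rw [key, ZMod.natCast_rightInverse, sub_add_cancel, ← h]
    have hne' : w - z ≠ 0 := sub_ne_zero.2 (Ne.symm hne)
    have h2 : ∀ m : ℕ, (x ^ ((w - z).val * m)) ((x ^ z.val) y) = (x ^ z.val) y := by
      intro m
      induction m with
      | zero => simp
      | succ m ih => rw [Nat.mul_succ, pow_add, Equiv.Perm.mul_apply, h1, ih]
    have h3 := h2 ((w - z)⁻¹).val
    rw [hmod, ← ZMod.val_mul, mul_inv_cancel₀ hne', ZMod.val_one, pow_one] at h3
    exact hfix _ h3
  obtain ⟨b₀, hb₀⟩ : ∃ b₀, ∀ z : ZMod p, (x ^ z.val) a₀ ≠ b₀ := by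
    by_contra hh
    simp only [not_exists, not_forall, not_not] at hh
    have := Fintype.card_le_of_surjective (fun z : ZMod p => (x ^ z.val) a₀) hh
    rw [ZMod.card, hα] at this
    omega
  have hstep : ∀ (y : α) (z : ZMod p), x ((x ^ z.val) y) = (x ^ (z + 1).val) y := by
    intro y z
    rw [← Equiv.Perm.mul_apply, ← pow_succ', hmod, ZMod.val_add, ZMod.val_one]
  let base : Bool → α := fun i => if i then a₀ else b₀
  have hdisj : ∀ z w : ZMod p, (x ^ z.val) a₀ ≠ (x ^ w.val) b₀ := by
    intro z w h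
    apply hb₀ (z - w)
    have := congrArg (⇑(x ^ (-w).val)) h
    rw [← Equiv.Perm.mul_apply, ← pow_add, ← Equiv.Perm.mul_apply, ← pow_add, hmod, ← ZMod.val_add,
      hmod ((-w).val + w.val), ← ZMod.val_add, neg_add_cancel, ZMod.val_zero, pow_zero,
      Equiv.Perm.one_apply, neg_add_eq_sub] at this
    exact this
  have hinj : Function.Injective (fun q : Bool × ZMod p => (x ^ q.2.val) (base q.1)) := by
    rintro ⟨i, z⟩ ⟨j, w⟩ h
    cases i <;> cases j <;> simp only [base] at h
    · rw [hfree _ _ _ h]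
    · exact absurd h.symm (hdisj w z)
    · exact absurd h (hdisj z w)
    · rw [hfree _ _ _ h]
  let E : Bool × ZMod p ≃ α := Equiv.ofBijective _ ((Fintype.bijective_iff_injective_and_card _).2
    ⟨hinj, by rw [Fintype.card_prod, Fintype.card_bool, ZMod.card, hα]⟩)
  let F : CfsgLib.Perm.TwoPrime.Frame G α p :=
    ⟨E, ⟨x, hxG⟩, fun i z => hstep (base i) z⟩
  -- no block
  have hblock : ∃ (g : G) (i : Bool) (z : ZMod p),
      CfsgLib.Perm.TwoPrime.sgn F (g • F.e (i, z)) ≠
        CfsgLib.Perm.TwoPrime.sgn F (g • F.e (i, 0)) := by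
    by_contra hh
    simp only [not_exists, not_not] at hh
    let B : Finset α := Finset.univ.image fun z : ZMod p => F.e (true, z)
    have hBcard : B.card = p := by
      rw [Finset.card_image_of_injective _ (fun z w h => (Prod.ext_iff.1 (F.e.injective h)).2),
        Finset.card_univ, ZMod.card]
    have hBmem : ∀ y, y ∈ B ↔ CfsgLib.Perm.TwoPrime.sgn F y = 1 := by
      intro y
      obtain ⟨⟨i, z⟩, rfl⟩ := F.e.surjective y
      rw [CfsgLib.Perm.TwoPrime.sgn_e]
      cases i <;> simp [B]
    have hblk : MulAction.IsBlock G (B : Set α) := by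
      rw [MulAction.isBlock_iff_smul_eq_or_disjoint]
      intro g
      by_cases hg : CfsgLib.Perm.TwoPrime.sgn F (g • F.e (true, 0)) = 1
      · left
        refine Set.eq_of_subset_of_ncard_le ?_ ?_ (Set.toFinite _)
        · rintro _ ⟨y, hy, rfl⟩
          rw [Finset.mem_coe, hBmem]
          obtain ⟨z, -, rfl⟩ := Finset.mem_image.1 (Finset.mem_coe.1 hy)
          exact (hh g true z).trans hg
        · rw [Set.ncard_smul_set]
      · right
        rw [Set.disjoint_left]
        rintro _ ⟨y, hy, rfl⟩ hy'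
        rw [Finset.mem_coe, hBmem] at hy'
        obtain ⟨z, -, rfl⟩ := Finset.mem_image.1 (Finset.mem_coe.1 hy)
        exact hg ((hh g true z).symm.trans hy')
    rcases hG.isTrivialBlock_of_isBlock hblk with h | h
    · have : B.card ≤ 1 := Finset.card_le_one.2 fun u hu v hv => h hu hv
      omega
    · have : B = Finset.univ := Finset.coe_eq_univ.1 h
      rw [this, Finset.card_univ, hα] at hBcard
      omega
  letI := Fintype.ofFinite (MulAction.orbitRel.Quotient G (α × α))
  -- row sums are suborbit lengths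
  have hdegorb : ∀ a b : α, CfsgLib.Perm.TwoPrime.deg F
      (CfsgLib.Perm.TwoPrime.adj (G := G) (CfsgLib.Perm.TwoPrime.cls a b)) =
      (Nat.card (MulAction.orbit (MulAction.stabilizer G a) b) : ℤ) := by
    intro a b
    rw [← CfsgLib.Perm.TwoPrime.rowSum F (CfsgLib.Perm.TwoPrime.adj_mem _) a,
      Nat.card_coe_set_eq, Set.ncard_eq_toFinset_card']
    simp only [CfsgLib.Perm.TwoPrime.adj, Matrix.of_apply]
    rw [Finset.sum_boole]
    congr 2
    ext y
    simp only [Finset.mem_filter, Finset.mem_univ, true_and, Set.mem_toFinset,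
      CfsgLib.Perm.TwoPrime.cls_eq_iff]
    constructor
    · rintro ⟨g, h1, h2⟩; exact ⟨⟨g, h1⟩, h2⟩
    · rintro ⟨⟨g, h1⟩, h2⟩; exact ⟨g, h1, h2⟩
  have hdeg : ∀ a b : α, a ≠ b → 2 ≤ CfsgLib.Perm.TwoPrime.deg F
      (CfsgLib.Perm.TwoPrime.adj (G := G) (CfsgLib.Perm.TwoPrime.cls a b)) := by
    intro a b hab
    rw [hdegorb]
    norm_cast
    haveI : Nonempty (MulAction.orbit (MulAction.stabilizer G a) b) :=
      ⟨⟨b, MulAction.mem_orbit_self _⟩⟩
    by_contra hlt
    have h1 : Nat.card (MulAction.orbit (MulAction.stabilizer G a) b) = 1 := by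
      have := Nat.card_pos (α := MulAction.orbit (MulAction.stabilizer G a) b)
      omega
    have hsub : MulAction.stabilizer G a ≤ MulAction.stabilizer G b := fun g hg =>
      congrArg Subtype.val ((Nat.card_eq_one_iff_unique.1 h1).1.elim
        (⟨g • b, ⟨⟨g, hg⟩, rfl⟩⟩ : MulAction.orbit (MulAction.stabilizer G a) b)
        ⟨b, MulAction.mem_orbit_self _⟩)
    have hne : MulAction.stabilizer G a ≠ MulAction.stabilizer G b :=
      Cfsg.Agent.S0707.result G (Or.inl (by
        rw [Nat.card_eq_fintype_card, hα]; exact Nat.not_prime_mul (by omega) hp.one_lt.ne')) hab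
    have htop := (MulAction.IsPreprimitive.isCoatom_stabilizer_of_isPreprimitive G a).2 _
      (lt_of_le_of_ne hsub hne)
    have := MulAction.index_stabilizer_of_transitive G (x := b)
    rw [htop, Subgroup.index_top, Nat.card_eq_fintype_card, hα] at this
    omega
  rcases CfsgLib.Perm.TwoPrime.main F hblock hdeg with h | ⟨k, j, a, hkj, ha, hpa, hdiag, hall, hdk, hdj⟩
  · left
    apply htwo
    intro u v c d huv hcd
    obtain ⟨g, h1, h2⟩ := CfsgLib.Perm.TwoPrime.cls_eq_iff.1 (h c d u v hcd huv)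
    exact ⟨g, g.2, h1, h2⟩
  right
  refine ⟨?_, a, ha, hpa, fun b hb => ?_⟩
  · let S := MulAction.stabilizer G a₀
    have he : Nat.card (MulAction.orbitRel.Quotient S α) =
        Nat.card (MulAction.orbitRel.Quotient G (α × α)) := by
      let f : MulAction.orbitRel.Quotient S α → MulAction.orbitRel.Quotient G (α × α) :=
        Quotient.map (fun b => (a₀, b)) (by
          rintro b c ⟨⟨g, hg⟩, rfl⟩
          exact ⟨g, Prod.ext hg rfl⟩)
      refine Nat.card_congr (Equiv.ofBijective f ⟨?_, ?_⟩)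
      · rintro ⟨b⟩ ⟨c⟩ h
        obtain ⟨g, hg⟩ := Quotient.exact h
        exact Quotient.sound ⟨⟨g, congrArg Prod.fst hg⟩, congrArg Prod.snd hg⟩
      · rintro ⟨u, v⟩
        obtain ⟨g, hg⟩ := MulAction.exists_smul_eq G u a₀
        exact ⟨Quotient.mk _ (g • v), Quotient.sound ⟨g, Prod.ext hg rfl⟩⟩
    rw [he, Nat.card_eq_fintype_card, ← Finset.card_univ,
      show (Finset.univ : Finset (MulAction.orbitRel.Quotient G (α × α))) =
        {CfsgLib.Perm.TwoPrime.cls a₀ a₀, k, j} from ?_]
    · exact Finset.card_eq_three.2 ⟨_, _, _, (hdiag a₀).1.symm, (hdiag a₀).2.symm, hkj, rfl⟩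
    refine (Finset.eq_univ_of_forall fun o => ?_).symm
    obtain ⟨⟨u, v⟩, rfl⟩ := Quotient.exists_rep o
    simp only [Finset.mem_insert, Finset.mem_singleton]
    by_cases huv : u = v
    · exact Or.inl (show CfsgLib.Perm.TwoPrime.cls u v = _ from
        CfsgLib.Perm.TwoPrime.cls_eq_diag_iff.2 huv)
    · rcases hall u v huv with h | h
      · exact Or.inr (Or.inl h)
      · exact Or.inr (Or.inr h)
  · have hd := hdegorb a₀ b
    rcases hall a₀ b (Ne.symm hb) with h | h <;> rw [h] at hd
    · left; rw [hdk] at hd; exact_mod_cast hd.symm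
    · right; rw [hdj] at hd; exact_mod_cast hd.symm

end Cfsg.Agent.S0720
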