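import Cfsg.Statements.S0721
import Mathlib
import Cfsg.Agent.Perm.MinimalNormal
-- import your own Cfsg.Agent.* helpers here

set_option autoImplicit false
open Cfsg

namespace Cfsg.Agent.S0721

/-- A minimal normal subgroup of a finite group is isomorphic to a direct power `T ^ m` of a simple group `T` (possibly of prime order). -/
theorem result {H : Type*} [Group H] [Finite H] (N : Subgroup H) [N.Normal] (hN : N ≠ ⊥) (hmin : ∀ M : Subgroup H, M.Normal → M ≤ N → M = ⊥ ∨ M = N) : ∃ (T : Type) (_ : Group T) (m : ℕ), IsSimpleGroup T ∧ 0 < m ∧ Nonempty (N ≃* (Fin m → T)) := by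
  classical
  haveI : Nontrivial N := (Subgroup.nontrivial_iff_ne_bot N).2 hN
  -- a minimal normal subgroup of `N`
  obtain ⟨M, -, ⟨hMn, hM0⟩, hMmin⟩ := exists_minimal_le_of_wellFoundedLT
    (fun L : Subgroup N => L.Normal ∧ L ≠ ⊥) ⊤ ⟨inferInstance, top_ne_bot⟩
  let cj : H → N ≃* N := fun h =>
    { toFun := fun n => ⟨h * n * h⁻¹, Subgroup.Normal.conj_mem inferInstance _ n.2 h⟩
      invFun := fun n => ⟨h⁻¹ * n * h, by
        simpa using Subgroup.Normal.conj_mem (H := N) inferInstance _ n.2 h⁻¹⟩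
      left_inv := fun n => Subtype.ext (by simp [mul_assoc])
      right_inv := fun n => Subtype.ext (by simp [mul_assoc])
      map_mul' := fun a b => Subtype.ext (by simp [mul_assoc]) }
  let c : H → Subgroup N := fun h => M.map (cj h).toMonoidHom
  have hcn : ∀ h, (c h).Normal := fun h => hMn.map _ (cj h).surjective
  have hmin' : ∀ h, ∀ L : Subgroup N, L.Normal → L ≤ c h → L = ⊥ ∨ L = c h := by
    intro h L hL hle
    haveI := hL
    have h1 : L.comap (cj h).toMonoidHom ≤ M := by
      intro x hx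
      obtain ⟨y, hy, hye⟩ := hle hx
      rwa [← (cj h).injective hye]
    by_cases hb : L.comap (cj h).toMonoidHom = ⊥
    · left
      rw [← Subgroup.map_comap_eq_self_of_surjective (f := (cj h).toMonoidHom) (cj h).surjective L]
      show (L.comap (cj h).toMonoidHom).map (cj h).toMonoidHom = ⊥
      rw [hb, Subgroup.map_bot]
    · right
      have h2 : M ≤ L.comap (cj h).toMonoidHom := hMmin ⟨inferInstance, hb⟩ h1
      exact le_antisymm hle (Subgroup.map_le_iff_le_comap.2 h2)
  have hgen : ⨆ h, c h = ⊤ := by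
    let S : Subgroup H := (⨆ h, c h).map N.subtype
    have hS : S.Normal := by
      refine ⟨fun x hx g => ?_⟩
      obtain ⟨y, hy, rfl⟩ := hx
      have hle : (⨆ h, c h).map (cj g).toMonoidHom ≤ ⨆ h, c h := by
        rw [Subgroup.map_iSup]
        refine iSup_le fun h => le_trans ?_ (le_iSup c (g * h))
        rintro _ ⟨_, ⟨z, hz, rfl⟩, rfl⟩
        exact ⟨z, hz, Subtype.ext (by simp [cj, mul_assoc])⟩
      exact ⟨cj g y, hle ⟨y, hy, rfl⟩, rfl⟩
    rcases hmin S hS (Subgroup.map_subtype_le _) with h | h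
    · exfalso
      apply hM0
      rw [Subgroup.map_eq_bot_iff_of_injective _ N.subtype_injective] at h
      have h1 : c 1 = ⊥ := le_bot_iff.1 (h ▸ le_iSup c 1)
      rw [Subgroup.map_eq_bot_iff_of_injective _ (cj 1).injective] at h1
      exact h1
    · rw [eq_top_iff]
      intro x _
      have : (x : H) ∈ S := by rw [h]; exact x.2
      obtain ⟨y, hy, hye⟩ := this
      rwa [← Subtype.ext hye]
  obtain ⟨m, e, hm, he⟩ := CfsgLib.Perm.MinimalNormal.exists_mulEquiv_pi M hM0 c hcn hmin'
    (fun h => ⟨M.equivMapOfInjective _ (cj h).injective⟩) hgen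
  have hsimple : IsSimpleGroup M := by
    obtain ⟨h, hh⟩ := he ⟨0, hm⟩
    refine CfsgLib.Perm.MinimalNormal.isSimpleGroup_factor hM0 ⟨0, hm⟩ e ?_
    rw [hh]
    exact hmin' h
  haveI := hsimple
  haveI : Small.{0} M := inferInstance
  let ψ : Shrink.{0} M ≃* M := Shrink.mulEquiv
  exact ⟨Shrink.{0} M, inferInstance, m, ψ.isSimpleGroup, hm,
    ⟨e.symm.trans (MulEquiv.piCongrRight fun _ => ψ.symm)⟩⟩

end Cfsg.Agent.S0721
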