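import Cfsg.Statements.S0722
import Mathlib
-- import your own Cfsg.Agent.* helpers here

set_option autoImplicit false
open Cfsg
open scoped Pointwise

namespace Cfsg.Agent.S0722

/-- In a primitive group `H`, with `N` a minimal normal subgroup and `K` a point stabiliser, `K ⊓ N` is maximal among proper `K`-invariant subgroups of `N`. -/
theorem result {α : Type*} [Finite α] (H : Subgroup (Equiv.Perm α)) [MulAction.IsPreprimitive H α] (N : Subgroup H) [N.Normal] (hN : N ≠ ⊥) (hmin : ∀ M : Subgroup H, M.Normal → M ≤ N → M = ⊥ ∨ M = N) (a : α) (X : Subgroup H) (hX : X ≤ N) (hKX : MulAction.stabilizer H a ⊓ N ≤ X) (hinv : MulAction.stabilizer H a ≤ Subgroup.normalizer (X : Set H)) : X = MulAction.stabilizer H a ⊓ N ∨ X = N := by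
  rcases subsingleton_or_nontrivial α with hα | hα
  · right
    refine le_antisymm hX fun n hn => hKX ⟨?_, hn⟩
    show n • a = a
    exact Subsingleton.elim _ _
  have hco := MulAction.IsPreprimitive.isCoatom_stabilizer_of_isPreprimitive H a
  rcases hco.le_iff.1 (le_sup_left : MulAction.stabilizer H a ≤ MulAction.stabilizer H a ⊔ X) with h | h
  · right
    refine le_antisymm hX fun n hn => ?_
    obtain ⟨y, hy, z, hz, rfl⟩ : n ∈ ((MulAction.stabilizer H a : Set H) * (X : Set H)) := by
      rw [← Subgroup.coe_mul_of_left_le_normalizer_right _ _ hinv, h]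
      exact Set.mem_univ n
    have hyN : y ∈ N := by
      have := N.mul_mem hn (N.inv_mem (hX hz))
      rwa [mul_inv_cancel_right] at this
    exact X.mul_mem (hKX ⟨hy, hyN⟩) hz
  · left
    refine le_antisymm (le_inf ?_ hX) hKX
    exact le_sup_right.trans h.le

end Cfsg.Agent.S0722
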