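import Cfsg.Statements.S0723
import Cfsg.Agent.CharSimple.Basic
import Cfsg.Agent.ScottLemma.Basic
import Cfsg.Agent.MinNormal.Action

set_option autoImplicit false
open Cfsg MulAction

namespace Cfsg.Agent.S0723

open CfsgLib

/-- The core of the O'Nan–Scott Theorem. Let `H` be a primitive permutation group on a finite set whose unique minimal normal subgroup `N` is non-abelian, and `K` a point stabiliser. Then there are a non-abelian simple group `T` and an isomorphism `N ≃* T^m` (`m ≥ 1`) under which `K ⊓ N` becomes either a product `∏ K_i` of proper subgroups `K_i < T`, or the set of functions constant on each block of a partition of the index set into blocks of one common size `k ≥ 2`. -/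
theorem result {α : Type*} [Finite α] (H : Subgroup (Equiv.Perm α)) [MulAction.IsPreprimitive H α] (N : Subgroup H) [N.Normal] (hN : N ≠ ⊥) (hmin : ∀ M : Subgroup H, M.Normal → M ≤ N → M = ⊥ ∨ M = N) (huniq : ∀ L : Subgroup H, L.Normal → L ≠ ⊥ → (∀ M : Subgroup H, M.Normal → M ≤ L → M = ⊥ ∨ M = L) → L = N) (hnab : ¬ IsMulCommutative N) (a : α) : ∃ (T : Type) (_ : Group T) (m : ℕ) (e : N ≃* (Fin m → T)), IsSimpleGroup T ∧ ¬ IsMulCommutative T ∧ 0 < m ∧ ((∃ K : Fin m → Subgroup T, (∀ i, K i ≠ ⊤) ∧ ∀ n : N, (n : H) ∈ MulAction.stabilizer H a ↔ ∀ i, e n i ∈ K i) ∨ (∃ (k : ℕ) (c : Fin m → Fin m), 2 ≤ k ∧ (∀ j : Fin m, Nat.card {i : Fin m // c i = j} = k ∨ Nat.card {i : Fin m // c i = j} = 0) ∧ ∀ n : N, (n : H) ∈ MulAction.stabilizer H a ↔ ∀ i j : Fin m, c i = c j → e n i = e n j)) := by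
  classical
  haveI : Nontrivial α := by
    by_contra h
    rw [not_nontrivial_iff_subsingleton] at h
    exact hN (eq_bot_iff.2 fun x _ => Subgroup.mem_bot.2 (Subtype.ext (Subsingleton.elim _ _)))
  haveI : MulAction.IsPretransitive N α := MinNormal.isPretransitive_of_ne_bot hN
  have hcoatom : IsCoatom (stabilizer H a) :=
    (isCoatom_stabilizer_iff_preprimitive (G := H) (X := α) a).2 inferInstance
  set M := stabilizer H a
  obtain ⟨T, _, _, m, hm, hTs, hTnc, ⟨e⟩⟩ := CharSimple.exists_equiv_pi (inferInstance : N.Normal) hN hmin hnab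
  haveI := hTs
  let D : Subgroup (Fin m → T) := (M.subgroupOf N).map e.toMonoidHom
  have hD : ∀ n : N, (n : H) ∈ M ↔ e n ∈ D := fun n =>
    ⟨fun h => ⟨n, h, rfl⟩, fun ⟨k, hk, hke⟩ => e.injective hke ▸ hk⟩
  have hMN : M ⊔ N = ⊤ := by
    refine eq_top_iff.2 fun g _ => ?_
    obtain ⟨⟨n, hn⟩, hna⟩ := MulAction.exists_smul_eq N a (g • a)
    have hmem : n⁻¹ * g ∈ M := by
      show (n⁻¹ * g) • a = a
      rw [mul_smul, inv_smul_eq_iff]
      exact hna.symm
    have := Subgroup.mul_mem (M ⊔ N) (Subgroup.mem_sup_right hn) (Subgroup.mem_sup_left hmem)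
    rwa [mul_inv_cancel_left] at this
  let σ : H → ((Fin m → T) ≃* (Fin m → T)) := fun g =>
    (e.symm.trans (MulAut.conjNormal g)).trans e
  have hσe : ∀ (g : H) (n : N), σ g (e n) = e (MulAut.conjNormal g n) := fun g n => by simp [σ]
  have hσD : ∀ g ∈ M, ∀ f ∈ D, σ g f ∈ D := by
    rintro g hg _ ⟨n, hn, rfl⟩
    show σ g (e n) ∈ D
    rw [hσe, ← hD, MulAut.conjNormal_apply]
    exact M.mul_mem (M.mul_mem hg hn) (M.inv_mem hg)
  have hσDiff : ∀ g ∈ M, ∀ f, σ g f ∈ D ↔ f ∈ D := fun g hg f => by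
    refine ⟨fun h => ?_, hσD g hg f⟩
    have := hσD g⁻¹ (M.inv_mem hg) _ h
    simpa [σ, map_inv] using this
  -- lattice facts from maximality of the stabiliser and minimality of `N`
  have hmax : ∀ L : Subgroup (Fin m → T), D ≤ L → (∀ g ∈ M, ∀ f ∈ L, σ g f ∈ L) →
      L ≠ ⊤ → L = D := by
    intro L hDL hinv hL
    refine le_antisymm (fun f hf => ?_) hDL
    set L' := (L.comap e.toMonoidHom).map N.subtype
    have hmemL' : ∀ n : N, (n : H) ∈ L' ↔ e n ∈ L := fun n =>
      ⟨fun ⟨k, hk, hke⟩ => Subtype.ext hke ▸ hk, fun h => ⟨n, h, rfl⟩⟩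
    have hnorm : M ≤ Subgroup.normalizer (L' : Set H) := by
      intro g hg
      have step : ∀ g ∈ M, ∀ x ∈ L', g * x * g⁻¹ ∈ L' := by
        rintro g hg _ ⟨n, hn, rfl⟩
        refine ⟨MulAut.conjNormal g n, ?_, by simp [MulAut.conjNormal_apply]⟩
        show e _ ∈ L
        rw [← hσe]
        exact hinv g hg _ hn
      rw [Subgroup.mem_normalizer_iff]
      refine fun x => ⟨step g hg x, fun h => ?_⟩
      have := step g⁻¹ (M.inv_mem hg) _ h
      simpa [mul_assoc] using this
    rcases hcoatom.le_iff.1 (le_sup_left (a := M) (b := L')) with h | h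
    · exfalso
      refine hL (eq_top_iff.2 fun t _ => ?_)
      obtain ⟨n, rfl⟩ := e.surjective t
      have hn : (n : H) ∈ (↑(M ⊔ L') : Set H) := by rw [h]; trivial
      rw [Subgroup.coe_mul_of_left_le_normalizer_right _ _ hnorm] at hn
      obtain ⟨g, hg, l, hl, hgl⟩ := hn
      obtain ⟨n', hn', rfl⟩ := hl
      have hg' : g = ((n * n'⁻¹ : N) : H) := by
        simp only [Subgroup.coe_mul, InvMemClass.coe_inv]
        exact eq_mul_inv_of_mul_eq hgl
      have := L.mul_mem (hDL ((hD _).1 (hg' ▸ hg))) hn'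
      simpa using this
    · obtain ⟨n, rfl⟩ := e.surjective f
      exact (hD n).1 (le_sup_right.trans h.le ((hmemL' n).2 hf))
  choose p ψ hp using fun g : H => ScottLemma.exists_coordinatewise hTnc (σ g)
  have htrans : ∀ S : Set (Fin m), S.Nonempty → (∀ g ∈ M, ∀ i ∈ S, p g i ∈ S) → ∀ i, i ∈ S := by
    intro S hS hinv i
    have hout : ∀ g ∈ M, ∀ i, p g i ∉ S → i ∉ S := fun g hg i h hi => h (hinv g hg i hi)
    set L := CompLength.supported T S
    set L' := (L.comap e.toMonoidHom).map N.subtype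
    have hnormal : L'.Normal := by
      have hM' : M ≤ Subgroup.normalizer (L' : Set H) := by
        intro g hg
        have step : ∀ g ∈ M, ∀ x ∈ L', g * x * g⁻¹ ∈ L' := by
          rintro g hg _ ⟨n, hn, rfl⟩
          refine ⟨MulAut.conjNormal g n, ?_, by simp [MulAut.conjNormal_apply]⟩
          intro j hj
          obtain ⟨l, rfl⟩ := (p g).surjective j
          show e _ (p g l) = 1
          rw [← hσe, hp, show e n l = 1 from hn l (hout g hg l hj), map_one]
        rw [Subgroup.mem_normalizer_iff]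
        refine fun x => ⟨step g hg x, fun h => ?_⟩
        have := step g⁻¹ (M.inv_mem hg) _ h
        simpa [mul_assoc] using this
      have hN' : N ≤ Subgroup.normalizer (L' : Set H) := by
        intro g hg
        have step : ∀ g ∈ N, ∀ x ∈ L', g * x * g⁻¹ ∈ L' := by
          rintro g hg _ ⟨n, hn, rfl⟩
          refine ⟨(⟨g, hg⟩ : N) * n * (⟨g, hg⟩ : N)⁻¹, ?_, by simp⟩
          intro j hj
          show e _ j = 1
          simp [show e n j = 1 from hn j hj]
        rw [Subgroup.mem_normalizer_iff]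
        refine fun x => ⟨step g hg x, fun h => ?_⟩
        have := step g⁻¹ (N.inv_mem hg) _ h
        simpa [mul_assoc] using this
      exact Subgroup.normalizer_eq_top_iff.1 (eq_top_iff.2 (hMN ▸ sup_le hM' hN'))
    obtain ⟨j, hj⟩ := hS
    obtain ⟨t, ht⟩ := exists_ne (1 : T)
    rcases hmin L' hnormal (Subgroup.map_subtype_le _) with h | h
    · exfalso
      have hmem : ((e.symm (Pi.mulSingle j t) : N) : H) ∈ L' := ⟨_, by
        intro l hl
        have : l ≠ j := fun e => hl (e ▸ hj)
        simp [this], rfl⟩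
      rw [h, Subgroup.mem_bot, OneMemClass.coe_eq_one] at hmem
      exact ht (by simpa using congrFun (congrArg e hmem) j)
    · by_contra hi
      have hmem : ((e.symm (Pi.mulSingle i t) : N) : H) ∈ L' := by rw [h]; exact SetLike.coe_mem _
      obtain ⟨n, hn, hne⟩ := hmem
      obtain rfl := Subtype.ext hne
      exact ht (by simpa using (hn i hi : e (e.symm (Pi.mulSingle i t)) i = 1))
  let P : Fin m → Subgroup T := fun i => D.map (Pi.evalMonoidHom (fun _ => T) i)
  by_cases hproper : ∀ i, P i ≠ ⊤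
  · refine ⟨T, inferInstance, m, e, hTs, hTnc, hm, Or.inl ⟨P, hproper, fun n => ?_⟩⟩
    rw [hD]
    have hL : Subgroup.pi Set.univ P = D := by
      refine hmax _ (fun d hd i _ => ⟨d, hd, rfl⟩) (fun g hg f hf j _ => ?_) fun h => ?_
      · obtain ⟨l, rfl⟩ := (p g).surjective j
        obtain ⟨d, hd, hdl⟩ := hf l trivial
        exact ⟨σ g d, hσD g hg d hd, by
          show σ g d (p g l) = σ g f (p g l)
          rw [hp, hp, show d l = f l from hdl]⟩
      · refine hproper ⟨0, hm⟩ (eq_top_iff.2 fun t _ => ?_)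
        exact (h.ge (Subgroup.mem_top (fun _ => t)) : (fun _ => t) ∈ Subgroup.pi Set.univ P) _ trivial
    rw [← hL]
    exact ⟨fun h i => h i trivial, fun h i _ => h i⟩
  · push Not at hproper
    have hall := htrans {i | P i = ⊤} hproper fun g hg i hi => eq_top_iff.2 fun t _ => by
      obtain ⟨d, hd, hdi⟩ := (hi : P i = ⊤).ge (Subgroup.mem_top ((ψ g i).symm t))
      exact ⟨σ g d, hσD g hg d hd, by
        show σ g d (p g i) = t
        rw [hp, show d i = _ from hdi, MulEquiv.apply_symm_apply]⟩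
    have hsurj : ∀ i, ∀ t : T, ∃ d ∈ D, d i = t := fun i t => (hall i).ge (Subgroup.mem_top t)
    obtain ⟨c, θ, hc, hidem, hDc⟩ := ScottLemma.exists_diagonals hTnc D hsurj
    let size : Fin m → ℕ := fun i => Nat.card {l : Fin m // c l = c i}
    have hsize : ∀ i, size i = size ⟨0, hm⟩ := by
      refine htrans {i | size i = size ⟨0, hm⟩} ⟨⟨0, hm⟩, rfl⟩ fun g hg i hi => ?_
      show size (p g i) = _
      rw [← (hi : size i = _)]
      refine (Nat.card_congr ((p g).subtypeEquiv fun l => ?_)).symm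
      rw [hc, hc]
      constructor
      · intro h d hd
        obtain ⟨d', rfl⟩ := (σ g).surjective d
        rw [hp, hp, EmbeddingLike.map_eq_one_iff, EmbeddingLike.map_eq_one_iff]
        exact h d' ((hσDiff g hg d').1 hd)
      · intro h d hd
        have := h _ (hσD g hg d hd)
        rwa [hp, hp, EmbeddingLike.map_eq_one_iff, EmbeddingLike.map_eq_one_iff] at this
    refine ⟨T, inferInstance, m, e.trans (MulEquiv.piCongrRight fun i => (θ i).symm), hTs, hTnc, hm,
      Or.inr ⟨size ⟨0, hm⟩, c, ?_, fun j => ?_, fun n => ?_⟩⟩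
    · by_contra hlt
      have hone : ∀ i j, c i = c j → i = j := fun i j h => by
        haveI : Nonempty {l : Fin m // c l = c i} := ⟨⟨i, rfl⟩⟩
        have hpos : 0 < size i := Nat.card_pos
        have h1 : Nat.card {l : Fin m // c l = c i} = 1 := by
          have := hsize i
          show size i = 1
          omega
        have := (Nat.card_eq_one_iff_unique.1 h1).1
        exact congrArg Subtype.val (Subsingleton.elim (⟨i, rfl⟩ : {l : Fin m // c l = c i}) ⟨j, h.symm⟩)
      have hNM : N ≤ M := fun x hx => (hD ⟨x, hx⟩).2 ((hDc _).2 fun i j h => by rw [hone i j h])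
      exact hcoatom.1 (eq_top_iff.2 (hMN ▸ sup_le le_rfl hNM))
    · by_cases h : c j = j
      · left
        rw [← hsize j]
        exact Nat.card_congr (Equiv.subtypeEquivRight fun l => by rw [h])
      · right
        haveI : IsEmpty {i : Fin m // c i = j} := ⟨fun ⟨i, hi⟩ => h (by rw [← hi, hidem])⟩
        exact Nat.card_of_isEmpty
    · rw [hD, hDc]
      exact Iff.rfl

end Cfsg.Agent.S0723
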