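import Cfsg.Statements.S0724
import Mathlib
-- import your own Cfsg.Agent.* helpers here

set_option autoImplicit false
open Cfsg

namespace Cfsg.Agent.S0724

/-- Blichfeldt's Theorem: if a finite set `L` of natural numbers contains the number of fixed points of every non-identity element of a permutation group `G` of degree `n`, then the order of `G` divides `∏ (n - l)` over `l ∈ L`. -/
theorem result {α : Type*} [Fintype α] [DecidableEq α] (G : Subgroup (Equiv.Perm α)) (L : Finset ℕ) (hL : ∀ g ∈ G, g ≠ 1 → Nat.card (MulAction.fixedBy α g) ∈ L) : Nat.card G ∣ ∏ l ∈ L, (Fintype.card α - l) := by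
  classical
  haveI : Finite G := Finite.of_fintype _
  haveI := Fintype.ofFinite G
  -- Burnside: `∑ π(g)^i = |G| * (number of orbits on i-tuples)`
  have hpow : ∀ i : ℕ, (Nat.card G : ℤ) ∣ ∑ g : G, (Nat.card (MulAction.fixedBy α g) : ℤ) ^ i := by
    intro i
    haveI : Fintype (Quotient (MulAction.orbitRel G (Fin i → α))) := Fintype.ofFinite _
    have hb := MulAction.sum_card_fixedBy_eq_card_orbits_mul_card_group G (Fin i → α)
    have hterm : ∀ g : G, Fintype.card (MulAction.fixedBy (Fin i → α) g)
        = Nat.card (MulAction.fixedBy α g) ^ i := by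
      intro g
      rw [← Nat.card_eq_fintype_card]
      let e : MulAction.fixedBy (Fin i → α) g ≃ (Fin i → MulAction.fixedBy α g) :=
        { toFun := fun f j => ⟨f.1 j, congrFun f.2 j⟩
          invFun := fun f => ⟨fun j => (f j).1, funext fun j => (f j).2⟩
          left_inv := fun f => rfl
          right_inv := fun f => rfl }
      rw [Nat.card_congr e, Nat.card_fun, Nat.card_fin]
    simp only [hterm] at hb
    have : Nat.card G ∣ ∑ g : G, Nat.card (MulAction.fixedBy α g) ^ i := by
      rw [hb, Nat.card_eq_fintype_card]; exact dvd_mul_left _ _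
    exact_mod_cast this
  by_cases hbig : ∀ l ∈ L, l ≤ Fintype.card α
  · let P : Polynomial ℤ := ∏ l ∈ L, (Polynomial.X - Polynomial.C (l : ℤ))
    have hsum : (Nat.card G : ℤ) ∣ ∑ g : G, P.eval (Nat.card (MulAction.fixedBy α g) : ℤ) := by
      have h1 : ∑ g : G, P.eval (Nat.card (MulAction.fixedBy α g) : ℤ) =
          ∑ i ∈ P.support, P.coeff i * ∑ g : G, (Nat.card (MulAction.fixedBy α g) : ℤ) ^ i := by
        simp only [Finset.mul_sum]
        rw [Finset.sum_comm]
        exact Finset.sum_congr rfl fun g _ => by rw [Polynomial.eval_eq_sum, Polynomial.sum_def]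
      rw [h1]
      exact Finset.dvd_sum fun i _ => (hpow i).mul_left _
    have hval : ∑ g : G, P.eval (Nat.card (MulAction.fixedBy α g) : ℤ) =
        ((∏ l ∈ L, (Fintype.card α - l) : ℕ) : ℤ) := by
      rw [Finset.sum_eq_single (1 : G)]
      · have : MulAction.fixedBy α (1 : G) = Set.univ := by
          ext x; simp
        rw [this, Nat.card_univ, Nat.card_eq_fintype_card, Polynomial.eval_prod, Nat.cast_prod]
        exact Finset.prod_congr rfl fun l hl => by
          simp [Nat.cast_sub (hbig l hl)]
      · intro g _ hg
        rw [Polynomial.eval_prod]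
        exact Finset.prod_eq_zero (hL g g.2 (fun h => hg (Subtype.ext h))) (by
          rw [Polynomial.eval_sub, Polynomial.eval_X, Polynomial.eval_C]
          exact sub_self _)
      · simp
    rw [hval] at hsum
    exact_mod_cast hsum
  · simp only [not_forall] at hbig
    obtain ⟨l, hl, hlt⟩ := hbig
    rw [Finset.prod_eq_zero hl (Nat.sub_eq_zero_of_le (le_of_not_ge hlt))]
    exact dvd_zero _

end Cfsg.Agent.S0724
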