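import Cfsg.Statements.S0726
import Mathlib
-- import your own Cfsg.Agent.* helpers here

set_option autoImplicit false
open Cfsg

namespace Cfsg.Agent.S0726

/-- The left and right regular permutation representations of a group are each other's centralisers in the symmetric group: the centraliser of the left regular image is the right regular image, and a transitive subgroup centralising the left regular image is the whole right regular image. -/
theorem result {G : Type*} [Group G] : Subgroup.centralizer ((MulAction.toPermHom G G).range : Set (Equiv.Perm G)) = (MulAction.toPermHom Gᵐᵒᵖ G).range ∧ ∀ H : Subgroup (Equiv.Perm G), H ≤ Subgroup.centralizer ((MulAction.toPermHom G G).range : Set (Equiv.Perm G)) → MulAction.IsPretransitive H G → H = (MulAction.toPermHom Gᵐᵒᵖ G).range := by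
  have key : ∀ c ∈ Subgroup.centralizer ((MulAction.toPermHom G G).range : Set (Equiv.Perm G)),
      ∀ x : G, c x = x * c 1 := by
    intro c hc x
    have h := Subgroup.mem_centralizer_iff.1 hc (MulAction.toPermHom G G x) ⟨x, rfl⟩
    have h' := congrArg (fun p : Equiv.Perm G => p 1) h
    simp at h'
    exact h'.symm
  have heq : Subgroup.centralizer ((MulAction.toPermHom G G).range : Set (Equiv.Perm G)) =
      (MulAction.toPermHom Gᵐᵒᵖ G).range := by
    refine le_antisymm ?_ ?_
    · intro c hc
      refine ⟨MulOpposite.op (c 1), Equiv.ext fun x => ?_⟩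
      rw [key c hc x]
      rfl
    · rintro _ ⟨u, rfl⟩
      rw [Subgroup.mem_centralizer_iff]
      rintro _ ⟨v, rfl⟩
      ext x
      simp [mul_assoc]
  refine ⟨heq, fun H hH ht => le_antisymm (heq ▸ hH) ?_⟩
  rintro _ ⟨u, rfl⟩
  obtain ⟨⟨h, hh⟩, he⟩ := ht.exists_smul_eq (1 : G) u.unop
  have he' : h 1 = u.unop := he
  have : MulAction.toPermHom Gᵐᵒᵖ G u = h := Equiv.ext fun x => by
    rw [key h (hH hh) x, he']
    rfl
  rwa [this]

end Cfsg.Agent.S0726
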