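import Cfsg.Statements.S0728
import Mathlib
import Cfsg.Agent.Perm.SharplyThree
-- import your own Cfsg.Agent.* helpers here

set_option autoImplicit false
open Cfsg

namespace Cfsg.Agent.S0728

theorem cube_eq_one {M : Type*} [CommGroup M] {k b1 b2 c1 c2 d1 d2 : M} (h2 : k * b1 * b2 = 1)
    (h3 : k * c1 * c2 = 1) (h4 : k * d1 * d2 = 1) (h5 : b1 * c1 * d1 = 1)
    (h6 : b2 * d2 * c2 = 1) : k * k * k = 1 := by
  apply Additive.ofMul.injective
  have e2 := congrArg Additive.ofMul h2
  have e3 := congrArg Additive.ofMul h3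
  have e4 := congrArg Additive.ofMul h4
  have e5 := congrArg Additive.ofMul h5
  have e6 := congrArg Additive.ofMul h6
  simp only [ofMul_mul, ofMul_one] at e2 e3 e4 e5 e6 ⊢
  linear_combination (norm := abel) e2 + e3 + e4 - e5 - e6

/-- In a sharply triply transitive group of even degree at least 6 (degree `q + 1`, `q` odd), a two-point stabiliser has at most one subgroup of order 3. -/
theorem result {α : Type*} [Fintype α] [DecidableEq α] (heven : Even (Fintype.card α)) (h6 : 6 ≤ Fintype.card α) (G : Subgroup (Equiv.Perm α)) (h3 : MulAction.IsMultiplyPretransitive G α 3) (hsharp : ∀ x : Fin 3 ↪ α, MulAction.stabilizer G x = ⊥) {a b : α} (hab : a ≠ b) (A B : Subgroup G) (hA : A ≤ MulAction.stabilizer G a ⊓ MulAction.stabilizer G b) (hB : B ≤ MulAction.stabilizer G a ⊓ MulAction.stabilizer G b) (hA3 : Nat.card A = 3) (hB3 : Nat.card B = 3) : A = B := by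
  classical
  have hs := fun (g : G) (a b c : α) h1 h2 h3' h4 h5 h6 =>
    CfsgLib.Perm.SharplyThree.sharp_of_stabilizer hsharp (g := g) (a := a) (b := b) (c := c)
      h1 h2 h3' h4 h5 h6
  have hn : 3 ≤ Nat.card α := by rw [Nat.card_eq_fintype_card]; omega
  set H : Subgroup G := MulAction.stabilizer G a ⊓ MulAction.stabilizer G b with hH
  have hcardH := CfsgLib.Perm.SharplyThree.card_pair_stabilizer h3 hs hab hn
  rw [← hH, Nat.card_eq_fintype_card (α := α)] at hcardH
  obtain ⟨c, hc⟩ := (({a, b} : Finset α)ᶜ).card_pos.1 (by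
    rw [Finset.card_compl]
    have := Finset.card_le_two (a := a) (b := b)
    omega)
  simp only [Finset.mem_compl, Finset.mem_insert, Finset.mem_singleton, not_or] at hc
  obtain ⟨s, hsa, hsb, hsc, hss⟩ := CfsgLib.Perm.SharplyThree.exists_swap h3 hs hab
    (Ne.symm hc.1) (Ne.symm hc.2)
  have hs1 : s ≠ 1 := fun h => hab (by rw [h, one_smul] at hsa; exact hsa)
  have hinv : s⁻¹ = s := inv_eq_of_mul_eq_one_right hss
  -- fixed points of `s` besides `c`: exactly one
  have hfix : Nat.card (MulAction.fixedBy α s) ≤ 2 := by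
    by_contra h
    rw [Nat.card_coe_set_eq, Set.ncard_eq_toFinset_card'] at h
    obtain ⟨u, v, w, hu, hv, hw, huv, huw, hvw⟩ := Finset.two_lt_card_iff.1 (not_le.1 h)
    simp only [Set.mem_toFinset, MulAction.mem_fixedBy] at hu hv hw
    exact hs1 (hs s u v w huv huw hvw hu hv hw)
  -- the centraliser of an element of order three in `H` has index at most two
  have hcomm : ∀ x ∈ H, orderOf x = 3 → ∀ y ∈ H, orderOf y = 3 → x * y = y * x := by
    intro x hxH hx3 y hyH hy3
    have key : ∀ h ∈ H, s * (h * s * h⁻¹) * x = x * (s * (h * s * h⁻¹)) := by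
      intro h hh
      have hinj : Function.Injective (fun z : α => h • z) := MulAction.injective h
      have e1 := CfsgLib.Perm.SharplyThree.swap_inverts h3 hs hab (Ne.symm hc.1) (Ne.symm hc.2)
        hxH.1 hxH.2 hx3 hsa hsb hsc
      have ha' : h • a = a := hh.1
      have hb' : h • b = b := hh.2
      have ia : h⁻¹ • a = a := inv_smul_eq_iff.2 ha'.symm
      have ib : h⁻¹ • b = b := inv_smul_eq_iff.2 hb'.symm
      have e2 := CfsgLib.Perm.SharplyThree.swap_inverts h3 hs hab
        (c := h • c) (fun h' => hc.1 (hinj (h'.symm.trans ha'.symm)))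
        (fun h' => hc.2 (hinj (h'.symm.trans hb'.symm))) hxH.1 hxH.2 hx3
        (s := h * s * h⁻¹) (by rw [mul_smul, mul_smul, ia, hsa, hb'])
        (by rw [mul_smul, mul_smul, ib, hsb, ha'])
        (by rw [mul_smul, mul_smul, inv_smul_smul, hsc])
      generalize hr : h * s * h⁻¹ = r at e2 ⊢
      have hrx : r * x = x⁻¹ * r := by rw [← e2]; group
      have hsx : s * x⁻¹ = x * s := by
        have : s * x⁻¹ * s⁻¹ = x := by
          calc s * x⁻¹ * s⁻¹ = (s * x * s⁻¹)⁻¹ := by group
            _ = x := by rw [e1, inv_inv]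
        calc s * x⁻¹ = s * x⁻¹ * s⁻¹ * s := by group
          _ = x * s := by rw [this]
      calc s * r * x = s * (r * x) := mul_assoc _ _ _
        _ = s * x⁻¹ * r := by rw [hrx, mul_assoc]
        _ = x * (s * r) := by rw [hsx, mul_assoc]
    let C : Subgroup G := H ⊓ Subgroup.centralizer ({x} : Set G)
    have hmem : ∀ h ∈ H, s * (h * s * h⁻¹) ∈ C := by
      intro h hh
      refine ⟨⟨?_, ?_⟩, Subgroup.mem_centralizer_singleton_iff.2 (key h hh)⟩
      · show (s * (h * s * h⁻¹)) • a = a
        rw [mul_smul, mul_smul, mul_smul, inv_smul_eq_iff.2 (show a = h • a from hh.1.symm),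
          hsa, show h • b = b from hh.2, hsb]
      · show (s * (h * s * h⁻¹)) • b = b
        rw [mul_smul, mul_smul, mul_smul, inv_smul_eq_iff.2 (show b = h • b from hh.2.symm),
          hsb, show h • a = a from hh.1, hsa]
    -- two-to-one map
    haveI : Finite G := inferInstance
    haveI := Fintype.ofFinite G
    have hbound : Nat.card H ≤ 2 * Nat.card C := by
      rw [Nat.card_eq_fintype_card, Nat.card_eq_fintype_card]
      let f : H → C := fun h => ⟨s * ((h : G) * s * (h : G)⁻¹), hmem h h.2⟩
      have hfib : ∀ z : C, (Finset.univ.filter fun h : H => f h = z).card ≤ 2 := by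
        intro z
        by_contra hlt
        obtain ⟨u, v, w, hu, hv, hw, huv, huw, hvw⟩ := Finset.two_lt_card_iff.1 (not_le.1 hlt)
        simp only [Finset.mem_filter, Finset.mem_univ, true_and] at hu hv hw
        have him : ∀ g h : H, f g = f h → (g : G)⁻¹ • ((h : G) • c) ∈ MulAction.fixedBy α s := by
          intro g h he
          have he' : s * ((g : G) * s * (g : G)⁻¹) = s * ((h : G) * s * (h : G)⁻¹) :=
            congrArg Subtype.val he
          have e3 := mul_left_cancel he'
          rw [MulAction.mem_fixedBy, smul_smul, smul_smul]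
          have : s * ((g : G)⁻¹ * (h : G)) = (g : G)⁻¹ * (h : G) * s := by
            calc s * ((g : G)⁻¹ * (h : G)) = (g : G)⁻¹ * ((g : G) * s * (g : G)⁻¹) * (h : G) := by
                  group
              _ = (g : G)⁻¹ * ((h : G) * s * (h : G)⁻¹) * (h : G) := by rw [e3]
              _ = (g : G)⁻¹ * (h : G) * s := by group
          rw [mul_assoc, this, mul_smul, hsc, mul_smul]
        have hsub : ({(u : G)⁻¹ • ((u : G) • c), (u : G)⁻¹ • ((v : G) • c),
            (u : G)⁻¹ • ((w : G) • c)} : Finset α) ⊆ (MulAction.fixedBy α s).toFinset := by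
          intro z hz
          simp only [Finset.mem_insert, Finset.mem_singleton] at hz
          rw [Set.mem_toFinset]
          rcases hz with rfl | rfl | rfl
          · exact him u u rfl
          · exact him u v (hu.trans hv.symm)
          · exact him u w (hu.trans hw.symm)
        have hne : ∀ g h : H, g ≠ h → (u : G)⁻¹ • ((g : G) • c) ≠ (u : G)⁻¹ • ((h : G) • c) := by
          intro g h hgh he
          have he' := MulAction.injective (u : G)⁻¹ he
          refine hgh (Subtype.ext (inv_mul_eq_one.1 (hs _ a b c hab (Ne.symm hc.1) (Ne.symm hc.2)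
            ?_ ?_ ?_)).symm) <;> rw [mul_smul, inv_smul_eq_iff]
          · exact (show (g : G) • a = a from g.2.1).trans (show (h : G) • a = a from h.2.1).symm
          · exact (show (g : G) • b = b from g.2.2).trans (show (h : G) • b = b from h.2.2).symm
          · exact he'
        have := Finset.card_le_card hsub
        rw [Finset.card_eq_three.2 ⟨_, _, _, hne u v huv, hne u w huw, hne v w hvw, rfl⟩,
          ← Set.ncard_eq_toFinset_card', ← Nat.card_coe_set_eq] at this
        omega
      have := Finset.card_le_mul_card_image (s := (Finset.univ : Finset H)) (f := f) 2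
        (fun z _ => hfib z)
      rw [Finset.card_univ] at this
      exact this.trans (Nat.mul_le_mul_left 2 (Finset.card_le_univ _))
    have hidx : (C.subgroupOf H).index ≤ 2 := by
      have h1 := Subgroup.card_mul_index (C.subgroupOf H)
      have h2 : Nat.card (C.subgroupOf H) = Nat.card C :=
        Nat.card_congr (Subgroup.subgroupOfEquivOfLe (inf_le_left : C ≤ H)).toEquiv
      rw [h2] at h1
      by_contra h
      have hC : 0 < Nat.card C := Nat.card_pos
      nlinarith
    have hyC : y ∈ C := by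
      rcases (show (C.subgroupOf H).index = 1 ∨ (C.subgroupOf H).index = 2 by
        have : (C.subgroupOf H).index ≠ 0 := Subgroup.index_ne_zero_of_finite
        omega) with h | h
      · have := Subgroup.index_eq_one.1 h
        exact Subgroup.mem_subgroupOf.1 (this ▸ Subgroup.mem_top (⟨y, hyH⟩ : H))
      · have hy2 := Subgroup.sq_mem_of_index_two h (⟨y, hyH⟩ : H)
        have hy2' : y ^ 2 ∈ C := Subgroup.mem_subgroupOf.1 hy2
        have : (y ^ 2) ^ 2 = y := by
          rw [← pow_mul, show 2 * 2 = 3 + 1 from rfl, pow_succ, ← hy3, pow_orderOf_eq_one, one_mul]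
        rw [← this]
        exact pow_mem hy2' 2
    exact (Subgroup.mem_centralizer_singleton_iff.1 hyC.2).symm
  -- generators
  by_contra hne
  haveI := Fact.mk Nat.prime_three
  have gen : ∀ S : Subgroup G, Nat.card S = 3 → ∃ x ∈ S, orderOf x = 3 ∧ Subgroup.zpowers x = S := by
    intro S hS
    obtain ⟨x, hx⟩ := exists_prime_orderOf_dvd_card' (G := S) 3 (by rw [hS])
    rw [← Subgroup.orderOf_coe] at hx
    refine ⟨x, x.2, hx, Subgroup.eq_of_le_of_card_ge (Subgroup.zpowers_le.2 x.2) ?_⟩
    rw [hS, Nat.card_zpowers, hx]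
  obtain ⟨x, hxA, hx3, hxgen⟩ := gen A hA3
  obtain ⟨y, hyB, hy3, hygen⟩ := gen B hB3
  have hxy := hcomm x (hA hxA) hx3 y (hB hyB) hy3
  have hxxx : x * x * x = 1 := by rw [← pow_three', ← hx3, pow_orderOf_eq_one]
  have hyyy : y * y * y = 1 := by rw [← pow_three', ← hy3, pow_orderOf_eq_one]
  have hnot : y ∉ Subgroup.zpowers x := by
    intro h
    apply hne
    rw [← hxgen, ← hygen]
    exact (Subgroup.eq_of_le_of_card_ge (Subgroup.zpowers_le.2 h) (by
      rw [Nat.card_zpowers, Nat.card_zpowers, hx3, hy3])).symm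
  obtain ⟨K, hKa, hKn, hKc, hKfree, hKtr, hKcard⟩ :=
    CfsgLib.Perm.SharplyThree.exists_kernel h3 hs a hn
  -- nontrivial elements of `⟨x, y⟩` act fixed-point-freely on `K`
  have norm1 : ∀ e ∈ H, e ≠ 1 → e * e * e = 1 → ∀ k ∈ K,
      k * (e * k * e⁻¹) * (e * (e * k * e⁻¹) * e⁻¹) = 1 := by
    intro e he he1 he3 k hk
    have h1 := hKn e he.1 k hk
    have h2 := hKn e he.1 _ h1
    have hz : k * (e * k * e⁻¹) * (e * (e * k * e⁻¹) * e⁻¹) ∈ K :=
      K.mul_mem (K.mul_mem hk h1) h2
    generalize hzz : k * (e * k * e⁻¹) * (e * (e * k * e⁻¹) * e⁻¹) = z at hz ⊢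
    have hcz : e * z * e⁻¹ = z := by
      have h3e : e * (e * (e * k * e⁻¹) * e⁻¹) * e⁻¹ = k := by
        calc e * (e * (e * k * e⁻¹) * e⁻¹) * e⁻¹ = (e * e * e) * k * (e * e * e)⁻¹ := by group
          _ = k := by rw [he3]; group
      have e' : e * z * e⁻¹ = (e * k * e⁻¹) * (e * (e * k * e⁻¹) * e⁻¹) *
          (e * (e * (e * k * e⁻¹) * e⁻¹) * e⁻¹) := by rw [← hzz]; group
      rw [e', h3e, hKc _ (K.mul_mem h1 h2) _ hk, ← hzz]; group
    have hez : e * z = z * e := by
      calc e * z = e * z * e⁻¹ * e := by group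
        _ = z * e := by rw [hcz]
    have hfixb : e • z • b = z • b := by
      rw [smul_smul, hez, mul_smul, show e • b = b from he.2]
    have hza : z • a = a := hKa hz
    by_cases hzb : z • b = b
    · exact hKfree z hz b hab.symm hzb
    · exfalso
      refine he1 (hs e a b (z • b) hab ?_ (Ne.symm hzb) he.1 he.2 hfixb)
      intro h
      exact hab (MulAction.injective z (hza.trans h))
  have hxH := hA hxA
  have hyH := hB hyB
  have hne_xy : ∀ e, e = x * y ∨ e = x * x * y → e ≠ 1 ∧ e * e * e = 1 := by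
    rintro e (rfl | rfl)
    · constructor
      · intro h
        apply hnot
        rw [← inv_eq_of_mul_eq_one_right h]
        exact inv_mem (Subgroup.mem_zpowers x)
      · have : (x * y) * (x * y) * (x * y) = (x * x * x) * (y * y * y) := by
          simp only [← pow_three']
          exact (Commute.mul_pow hxy 3)
        rw [this, hxxx, hyyy, one_mul]
    · constructor
      · intro h
        apply hnot
        rw [← inv_eq_of_mul_eq_one_right h]
        exact inv_mem (mul_mem (Subgroup.mem_zpowers x) (Subgroup.mem_zpowers x))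
      · have h2' : Commute (x * x) y := (Commute.mul_left hxy hxy)
        have : (x * x * y) * (x * x * y) * (x * x * y) =
            (x * x * x) * (x * x * x) * (y * y * y) := by
          simp only [← pow_three']
          rw [h2'.mul_pow, ← pow_two, ← pow_mul, ← pow_two, ← pow_mul]
        rw [this, hxxx, hyyy, one_mul, one_mul]
  -- every element of `K` has cube one
  have hcube : ∀ k ∈ K, k * k * k = 1 := by
    intro k hk
    let cx : K → K := fun u => ⟨x * u * x⁻¹, hKn x hxH.1 u u.2⟩
    let cy : K → K := fun u => ⟨y * u * y⁻¹, hKn y hyH.1 u u.2⟩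
    letI : CommGroup K :=
      { (inferInstance : Group K) with
        mul_comm := fun u v => Subtype.ext (hKc u u.2 v v.2) }
    have hcc : ∀ u, cy (cx u) = cx (cy u) := by
      intro u; apply Subtype.ext
      show y * (x * u * x⁻¹) * y⁻¹ = x * (y * u * y⁻¹) * x⁻¹
      calc y * (x * u * x⁻¹) * y⁻¹ = (y * x) * u * (y * x)⁻¹ := by group
        _ = _ := by rw [← hxy]; group
    have hx3' : ∀ u, cx (cx (cx u)) = u := by
      intro u; apply Subtype.ext
      show x * (x * (x * u * x⁻¹) * x⁻¹) * x⁻¹ = u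
      calc x * (x * (x * (u : G) * x⁻¹) * x⁻¹) * x⁻¹ = (x*x*x) * u * (x*x*x)⁻¹ := by group
        _ = u := by rw [hxxx]; group
    have nx : ∀ u, u * cx u * cx (cx u) = 1 := fun u => Subtype.ext
      (norm1 x hxH (fun h => by rw [h, orderOf_one] at hx3; omega) hxxx u u.2)
    have ny : ∀ u, u * cy u * cy (cy u) = 1 := fun u => Subtype.ext
      (norm1 y hyH (fun h => by rw [h, orderOf_one] at hy3; omega) hyyy u u.2)
    have nxy : ∀ u, u * cx (cy u) * cx (cx (cy (cy u))) = 1 := by
      intro u
      have := norm1 (x * y) (mul_mem hxH hyH) (hne_xy _ (Or.inl rfl)).1 (hne_xy _ (Or.inl rfl)).2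
        u u.2
      have e1 : (cx (cy u) : G) = x * y * u * (x * y)⁻¹ := by
        show x * (y * u * y⁻¹) * x⁻¹ = _
        group
      have h4 : cx (cx (cy (cy u))) = cx (cy (cx (cy u))) := by rw [hcc]
      rw [h4]
      apply Subtype.ext
      have e2 : (cx (cy (cx (cy u))) : G) = x * y * (x * y * u * (x * y)⁻¹) * (x * y)⁻¹ := by
        show x * (y * (cx (cy u) : G) * y⁻¹) * x⁻¹ = _
        rw [e1]; group
      show (u : G) * (cx (cy u) : G) * (cx (cy (cx (cy u))) : G) = 1
      rw [e1, e2]
      exact this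
    have nxxy : ∀ u, u * cx (cx (cy u)) * cx (cy (cy u)) = 1 := by
      intro u
      have := norm1 (x * x * y) (mul_mem (mul_mem hxH hxH) hyH) (hne_xy _ (Or.inr rfl)).1
        (hne_xy _ (Or.inr rfl)).2 u u.2
      have e1 : (cx (cx (cy u)) : G) = x * x * y * u * (x * x * y)⁻¹ := by
        show x * (x * (y * u * y⁻¹) * x⁻¹) * x⁻¹ = _
        group
      have h4 : cx (cy (cy u)) = cx (cx (cy (cx (cx (cy u))))) := by
        rw [hcc, hcc, hx3']
      rw [h4]
      apply Subtype.ext
      have e2 : (cx (cx (cy (cx (cx (cy u))))) : G) =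
          x * x * y * (x * x * y * u * (x * x * y)⁻¹) * (x * x * y)⁻¹ := by
        show x * (x * (y * (cx (cx (cy u)) : G) * y⁻¹) * x⁻¹) * x⁻¹ = _
        rw [e1]; group
      show (u : G) * (cx (cx (cy u)) : G) * (cx (cx (cy (cx (cx (cy u))))) : G) = 1
      rw [e1, e2]
      exact this
    obtain ⟨u, hu⟩ : ∃ u : K, (u : G) = k := ⟨⟨k, hk⟩, rfl⟩
    have key : u * u * u = 1 :=
      cube_eq_one (ny u) (nxy u) (nxxy u) (nx (cy u)) (nx (cy (cy u)))
    rw [← hu]
    exact congrArg Subtype.val key
  -- contradiction: `3` does not divide the order of `K`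
  have h3H : 3 ∣ Nat.card H := by
    rw [← hA3]
    exact Subgroup.card_dvd_of_le hA
  rw [Nat.card_eq_fintype_card (α := α)] at hKcard
  obtain ⟨k, hk, hk1⟩ : ∃ k ∈ K, k ≠ 1 := by
    obtain ⟨k, hk, he⟩ := hKtr b c hab.symm hc.1
    exact ⟨k, hk, fun h => hc.2 (by rw [← he, h, one_smul])⟩
  have hord : orderOf k ∣ 3 := orderOf_dvd_of_pow_eq_one (by rw [pow_three']; exact hcube k hk)
  have : orderOf k = 3 := (Nat.dvd_prime Nat.prime_three).1 hord |>.resolve_left
    (fun h => hk1 (orderOf_eq_one_iff.1 h))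
  have h3K : 3 ∣ Nat.card K := by
    rw [← this, ← Subgroup.orderOf_mk k hk]
    exact orderOf_dvd_natCard _
  omega

end Cfsg.Agent.S0728
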