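import Cfsg.Statements.S0729
import Mathlib
import Cfsg.Agent.Perm.RegularAutIndexTwo
import Cfsg.Agent.Perm.SharplyThreeOrderThree
-- import your own Cfsg.Agent.* helpers here

set_option autoImplicit false
open Cfsg

namespace Cfsg.Agent.S0729

/-- In a sharply triply transitive group of even degree at least 6, the two-point stabiliser `H = G_{a,b}` has a normal subgroup of index 2 that is normalised by the element `s` interchanging `a, b` and fixing a third point `c`. -/
theorem result {α : Type*} [Fintype α] [DecidableEq α] (heven : Even (Fintype.card α)) (h6 : 6 ≤ Fintype.card α) (G : Subgroup (Equiv.Perm α)) (h3 : MulAction.IsMultiplyPretransitive G α 3) (hsharp : ∀ x : Fin 3 ↪ α, MulAction.stabilizer G x = ⊥) {a b c : α} (hab : a ≠ b) (hac : a ≠ c) (hbc : b ≠ c) (s : G) (hsa : s • a = b) (hsb : s • b = a) (hsc : s • c = c) : ∃ N : Subgroup G, N ≤ MulAction.stabilizer G a ⊓ MulAction.stabilizer G b ∧ (N.subgroupOf (MulAction.stabilizer G a ⊓ MulAction.stabilizer G b)).Normal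 ∧ N.relIndex (MulAction.stabilizer G a ⊓ MulAction.stabilizer G b) = 2 ∧ ∀ n ∈ N, s * n * s⁻¹ ∈ N := by
  classical
  have hs := fun (g : G) (a b c : α) h1 h2 h3' h4 h5 h6 =>
    CfsgLib.Perm.SharplyThree.sharp_of_stabilizer hsharp (g := g) (a := a) (b := b) (c := c)
      h1 h2 h3' h4 h5 h6
  have hn : 3 ≤ Nat.card α := by rw [Nat.card_eq_fintype_card]; omega
  set H : Subgroup G := MulAction.stabilizer G a ⊓ MulAction.stabilizer G b with hH
  obtain ⟨K, hKa, hKn, hKc, hKfree, hKtr, hKcard⟩ :=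
    CfsgLib.Perm.SharplyThree.exists_kernel h3 hs a hn
  have hba : b ≠ a := hab.symm
  have hne : ∀ k ∈ K, k ≠ 1 → k • b ≠ b := fun k hk h1 h => h1 (hKfree k hk b hba h)
  have hna : ∀ k ∈ K, k • b ≠ a := fun k hk h => hba (MulAction.injective k
    (h.trans (show k • a = a from hKa hk).symm))
  have hKeq : ∀ k ∈ K, ∀ l ∈ K, k • b = l • b → k = l := fun k hk l hl h =>
    inv_mul_eq_one.1 (hKfree _ (K.mul_mem (K.inv_mem hk) hl) b hba
      (by rw [mul_smul, ← h, inv_smul_smul]))
  have hHK : ∀ h ∈ H, ∀ k ∈ K, h * k * h⁻¹ ∈ K := fun h hh k hk => hKn h hh.1 k hk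
  have hconjb : ∀ h ∈ H, ∀ k : G, (h * k * h⁻¹) • b = h • k • b := fun h hh k => by
    rw [mul_smul, mul_smul, inv_smul_eq_iff.2 (show b = h • b from hh.2.symm)]
  have hreg : ∀ k ∈ K, ∀ l ∈ K, k ≠ 1 → l ≠ 1 → ∃! h : H, (h : G) * k * (h : G)⁻¹ = l := by
    intro k hk l hl hk1 hl1
    obtain ⟨g, g1, g2, g3⟩ := CfsgLib.Perm.SharplyThree.exists_triple h3 hab
      (hna k hk).symm (hne k hk hk1).symm hab (hna l hl).symm (hne l hl hl1).symm
    refine ⟨⟨g, g1, g2⟩, ?_, ?_⟩
    · exact hKeq _ (hHK g ⟨g1, g2⟩ k hk) _ hl (by rw [hconjb g ⟨g1, g2⟩, g3])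
    · rintro ⟨g', hg'⟩ he
      have e : g' • k • b = l • b := by rw [← hconjb g' hg']; exact congrArg (· • b) he
      refine Subtype.ext (inv_mul_eq_one.1 (hs (g'⁻¹ * g) a b (k • b) hab (hna k hk).symm
        (hne k hk hk1).symm ?_ ?_ ?_))
      · rw [mul_smul, g1, inv_smul_eq_iff]; exact hg'.1.symm
      · rw [mul_smul, g2, inv_smul_eq_iff]; exact hg'.2.symm
      · rw [mul_smul, g3, inv_smul_eq_iff, e]
  -- the exponent
  rw [Nat.card_eq_fintype_card (α := α)] at hKcard
  have hK1 : 1 < Nat.card K := by omega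
  obtain ⟨p, hp, hpd⟩ := Nat.exists_prime_and_dvd (n := Nat.card K) (by omega)
  haveI := Fact.mk hp
  have hp2 : p ≠ 2 := by
    intro h
    obtain ⟨r, hr⟩ := heven
    rw [h] at hpd
    omega
  obtain ⟨⟨k₀, hk₀⟩, hko⟩ := exists_prime_orderOf_dvd_card' p hpd
  rw [Subgroup.orderOf_mk] at hko
  have hk₀1 : k₀ ≠ 1 := fun h => by rw [h, orderOf_one] at hko; exact hp.one_lt.ne hko
  have hexp : ∀ k ∈ K, k ^ p = 1 := by
    intro k hk
    by_cases h1 : k = 1
    · rw [h1, one_pow]
    · obtain ⟨h, he, -⟩ := hreg k₀ hk₀ k hk hk₀1 h1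
      rw [← he, conj_pow, ← hko, pow_orderOf_eq_one, mul_one, mul_inv_cancel]
  letI : CommGroup K := { (inferInstance : Group K) with
    mul_comm := fun x y => Subtype.ext (hKc x x.2 y y.2) }
  haveI : Nontrivial K := Finite.one_lt_card_iff_nontrivial.1 hK1
  let act : H →* MulAut K :=
    { toFun := fun h =>
        { toFun := fun k => ⟨(h : G) * k * (h : G)⁻¹, hHK h h.2 k k.2⟩
          invFun := fun k => ⟨(h : G)⁻¹ * k * (h : G)⁻¹⁻¹, hHK _ (H.inv_mem h.2) k k.2⟩
          left_inv := fun k => Subtype.ext (by simp [mul_assoc])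
          right_inv := fun k => Subtype.ext (by simp [mul_assoc])
          map_mul' := fun k l => Subtype.ext (by
            show (h : G) * ((k : G) * l) * (h : G)⁻¹ =
              ((h : G) * k * (h : G)⁻¹) * ((h : G) * l * (h : G)⁻¹)
            simp [mul_assoc]) }
      map_one' := MulEquiv.ext fun k => Subtype.ext (by simp)
      map_mul' := fun g h => MulEquiv.ext fun k => Subtype.ext (by simp [mul_assoc]) }
  obtain ⟨M, hM⟩ := CfsgLib.Perm.RegularLinear.exists_index_two_of_regular_aut hp2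
    (fun k : K => Subtype.ext (by rw [Subgroup.coe_pow]; exact hexp _ k.2)) act
    (fun k l hk hl => by
      obtain ⟨h, he, hu⟩ := hreg k k.2 l l.2 (fun e => hk (Subtype.ext e))
        (fun e => hl (Subtype.ext e))
      exact ⟨h, Subtype.ext he, fun g hg => hu g (congrArg Subtype.val hg)⟩)
    fun x hx => by
      obtain ⟨C, -, hCi, hCc⟩ := CfsgLib.Perm.SharplyThree.exists_centralizer_order_three h3 hs
        hab ⟨hac.symm, hbc.symm⟩ x.2 (by rw [Subgroup.orderOf_coe, hx])
      exact ⟨C.subgroupOf H, hCi, fun g hg => Subtype.ext (hCc g hg)⟩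
  have hss : s * s = 1 := hs _ a b c hab hac hbc (by rw [mul_smul, hsa, hsb])
    (by rw [mul_smul, hsb, hsa]) (by rw [mul_smul, hsc, hsc])
  have hinv : s⁻¹ = s := inv_eq_of_mul_eq_one_right hss
  have hsH : ∀ h ∈ H, s * h * s ∈ H := by
    intro h hh
    refine ⟨?_, ?_⟩
    · show (s * h * s) • a = a
      rw [mul_smul, mul_smul, hsa, show h • b = b from hh.2, hsb]
    · show (s * h * s) • b = b
      rw [mul_smul, mul_smul, hsb, show h • a = a from hh.1, hsa]
  let φ : H ≃* H :=
    { toFun := fun h => ⟨s * h * s, hsH h h.2⟩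
      invFun := fun h => ⟨s * h * s, hsH h h.2⟩
      left_inv := fun h => Subtype.ext (by
        show s * (s * (h : G) * s) * s = h
        rw [← mul_assoc, ← mul_assoc, hss, one_mul, mul_assoc, hss, mul_one])
      right_inv := fun h => Subtype.ext (by
        show s * (s * (h : G) * s) * s = h
        rw [← mul_assoc, ← mul_assoc, hss, one_mul, mul_assoc, hss, mul_one])
      map_mul' := fun g h => Subtype.ext (by
        show s * ((g : G) * h) * s = (s * g * s) * (s * h * s)
        calc s * ((g : G) * h) * s = s * g * 1 * h * s := by group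
          _ = _ := by rw [← hss]; simp only [mul_assoc]) }
  obtain ⟨M', hM', hMinv⟩ := CfsgLib.Perm.IndexTwo.exists_invariant φ φ.left_inv hM
  have hsub : (M'.map H.subtype).subgroupOf H = M' :=
    Subgroup.comap_map_eq_self_of_injective H.subtype_injective M'
  refine ⟨M'.map H.subtype, Subgroup.map_subtype_le _, ?_, ?_, ?_⟩
  · rw [hsub]
    exact Subgroup.normal_of_index_eq_two hM'
  · rw [Subgroup.relIndex, hsub, hM']
  · rintro _ ⟨m, hm, rfl⟩
    rw [hinv]
    exact ⟨φ m, hMinv m hm, rfl⟩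

end Cfsg.Agent.S0729
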