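import Cfsg.Statements.S0733
import Mathlib
-- import your own Cfsg.Agent.* helpers here

set_option autoImplicit false
open Cfsg

namespace Cfsg.Agent.S0733

/-- A permutation group of affine type — generated by the translations of a finite vector space `V` over `ZMod p` together with a group `G₀` of linear automorphisms — is primitive on `V` if and only if `G₀` is irreducible on `V`. -/
theorem result {p : ℕ} [Fact p.Prime] {V : Type*} [AddCommGroup V] [Module (ZMod p) V] [Finite V] [Nontrivial V] (G₀ : Subgroup (V ≃ₗ[ZMod p] V)) (G : Subgroup (Equiv.Perm V)) (hG : ∀ σ : Equiv.Perm V, σ ∈ G ↔ ∃ g ∈ G₀, ∃ b : V, ∀ x : V, σ x = (g : V ≃ₗ[ZMod p] V) x + b) : MulAction.IsPreprimitive G V ↔ ∀ W : Submodule (ZMod p) V, (∀ g ∈ G₀, ∀ v ∈ W, (g : V ≃ₗ[ZMod p] V) v ∈ W) → W = ⊥ ∨ W = ⊤ := by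
  have hle : ∀ (g : G₀) (b : V), ∃ σ : G, ∀ x : V, σ • x = (g : V ≃ₗ[ZMod p] V) x + b := by
    intro g b
    exact ⟨⟨(g : V ≃ₗ[ZMod p] V).toEquiv.trans (Equiv.addRight b),
      (hG _).2 ⟨g, g.2, b, fun x => rfl⟩⟩, fun x => rfl⟩
  haveI htr : MulAction.IsPretransitive G V := ⟨fun a b => by
    obtain ⟨σ, hσ⟩ := hle 1 (b - a)
    exact ⟨σ, by rw [hσ]; simp⟩⟩
  constructor
  · intro hprim W hW
    have hB : MulAction.IsBlock G (W : Set V) := by
      rw [MulAction.isBlock_iff_smul_eq_of_mem]
      intro σ a ha ha'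
      obtain ⟨g, hg, b, hσ⟩ := (hG _).1 σ.2
      have hσ' : ∀ x : V, σ • x = g x + b := hσ
      have hb : b ∈ W := by
        rw [hσ'] at ha'
        simpa using W.sub_mem ha' (hW g hg a ha)
      ext x
      rw [Set.mem_smul_set_iff_inv_smul_mem]
      constructor
      · intro hx
        have := W.add_mem (hW g hg _ hx) hb
        rw [← hσ', smul_inv_smul] at this
        exact this
      · intro hx
        have h1 : g (σ⁻¹ • x) = x - b := by
          rw [eq_sub_iff_add_eq, ← hσ', smul_inv_smul]
        have h2 : g.symm (x - b) ∈ W := by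
          have hmem : g⁻¹ ∈ G₀ := inv_mem hg
          exact hW g⁻¹ hmem _ (W.sub_mem hx hb)
        rw [← h1, LinearEquiv.symm_apply_apply] at h2
        exact h2
    rcases hprim.isTrivialBlock_of_isBlock hB with h | h
    · exact Or.inl ((Submodule.eq_bot_iff W).2 fun x hx => h hx W.zero_mem)
    · exact Or.inr (SetLike.coe_injective (h.trans Submodule.top_coe.symm))
  · intro hirr
    refine MulAction.IsPreprimitive.of_isTrivialBlock_base (0 : V) ?_
    intro B h0 hB
    rw [MulAction.isBlock_iff_smul_eq_of_mem] at hB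
    have hlin : ∀ g ∈ G₀, ∀ v ∈ B, (g : V ≃ₗ[ZMod p] V) v ∈ B := by
      intro g hg v hv
      obtain ⟨σ, hσ⟩ := hle ⟨g, hg⟩ 0
      have h := hB (g := σ) (a := 0) h0 (by rw [hσ]; simpa using h0)
      rw [← h]
      exact ⟨v, hv, (hσ v).trans (by simp)⟩
    have htrans : ∀ b ∈ B, ∀ v ∈ B, v + b ∈ B := by
      intro b hb v hv
      obtain ⟨σ, hσ⟩ := hle 1 b
      have h := hB (g := σ) (a := 0) h0 (by rw [hσ]; simpa using hb)
      rw [← h]
      exact ⟨v, hv, (hσ v).trans (by simp)⟩
    let S : AddSubgroup V :=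
      { carrier := B
        zero_mem' := h0
        add_mem' := fun {u v} hu hv => htrans v hv u hu
        neg_mem' := fun {u} hu => by
          have hn : ∀ n : ℕ, n • u ∈ B := by
            intro n
            induction n with
            | zero => simpa using h0
            | succ n ih => rw [succ_nsmul]; exact htrans u hu _ ih
          have h1 : (p - 1) • u = -u := by
            apply eq_neg_of_add_eq_zero_left
            rw [← succ_nsmul, Nat.sub_add_cancel (Fact.out (p := p.Prime)).one_le,
              ← Nat.cast_smul_eq_nsmul (ZMod p), ZMod.natCast_self, zero_smul]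
          rw [← h1]
          exact hn _ }
    rcases hirr (AddSubgroup.toZModSubmodule p S) (fun g hg v hv => hlin g hg v hv) with h | h
    · left
      intro u hu v hv
      have hu' : u ∈ AddSubgroup.toZModSubmodule p S := hu
      have hv' : v ∈ AddSubgroup.toZModSubmodule p S := hv
      rw [h, Submodule.mem_bot] at hu' hv'
      rw [hu', hv']
    · right
      ext v
      simp only [Set.mem_univ, iff_true]
      have hv : v ∈ AddSubgroup.toZModSubmodule p S := by rw [h]; trivial
      exact hv

end Cfsg.Agent.S0733
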