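import Cfsg.Statements.S0734
import Mathlib
-- import your own Cfsg.Agent.* helpers here

set_option autoImplicit false
open Cfsg
open scoped Pointwise

namespace Cfsg.Agent.S0734

/-- Higman's criterion for primitivity: a transitive action on a finite set is primitive if and only if every non-trivial orbital graph (edges = images of a fixed pair of distinct points) is connected. -/
theorem result {G : Type*} [Group G] {Ω : Type*} [Finite Ω] [MulAction G Ω] [MulAction.IsPretransitive G Ω] [Nontrivial Ω] : MulAction.IsPreprimitive G Ω ↔ ∀ a b : Ω, a ≠ b → (SimpleGraph.fromRel fun x y : Ω => ∃ g : G, g • a = x ∧ g • b = y).Connected := by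
  constructor
  · intro hprim a b hab
    set Γ := SimpleGraph.fromRel fun x y : Ω => ∃ g : G, g • a = x ∧ g • b = y with hΓ
    have hadj : ∀ (g : G) (x y : Ω), Γ.Adj x y → Γ.Adj (g • x) (g • y) := by
      intro g x y h
      rw [hΓ, SimpleGraph.fromRel_adj] at h ⊢
      refine ⟨fun he => h.1 (MulAction.injective g he), ?_⟩
      rcases h.2 with ⟨k, h1, h2⟩ | ⟨k, h1, h2⟩
      · exact Or.inl ⟨g * k, by rw [mul_smul, h1], by rw [mul_smul, h2]⟩
      · exact Or.inr ⟨g * k, by rw [mul_smul, h1], by rw [mul_smul, h2]⟩
    have hreach : ∀ (g : G) (x y : Ω), Γ.Reachable x y → Γ.Reachable (g • x) (g • y) :=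
      fun g x y h => h.map (⟨fun z => g • z, fun {u v} huv => hadj g u v huv⟩ : Γ →g Γ)
    have hB : MulAction.IsBlock G {x : Ω | Γ.Reachable a x} := by
      rw [MulAction.isBlock_iff_smul_eq_of_mem]
      intro g x hx hgx
      have hx' : Γ.Reachable a x := hx
      have hgx' : Γ.Reachable a (g • x) := hgx
      ext z
      rw [Set.mem_smul_set_iff_inv_smul_mem]
      constructor
      · intro hz
        have := hreach g _ _ (hx'.symm.trans hz)
        rw [smul_inv_smul] at this
        exact hgx'.trans this
      · intro hz
        have := hreach g⁻¹ _ _ (hgx'.symm.trans hz)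
        rw [inv_smul_smul] at this
        exact hx'.trans this
    have hab' : Γ.Reachable a b := SimpleGraph.Adj.reachable (by
      rw [hΓ, SimpleGraph.fromRel_adj]
      exact ⟨hab, Or.inl ⟨1, one_smul _ _, one_smul _ _⟩⟩)
    rcases hprim.isTrivialBlock_of_isBlock hB with h | h
    · exact absurd (h (SimpleGraph.Reachable.refl a) hab') hab
    · haveI : Nonempty Ω := ⟨a⟩
      have hall : ∀ x, Γ.Reachable a x := fun x => by
        have : x ∈ {x : Ω | Γ.Reachable a x} := by rw [h]; trivial
        exact this
      exact ⟨fun x y => (hall x).symm.trans (hall y)⟩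
  · intro hconn
    refine MulAction.IsPreprimitive.mk ?_
    intro B hB
    rcases B.subsingleton_or_nontrivial with h | ⟨a, ha, b, hb, hab⟩
    · exact Or.inl h
    · right
      rw [MulAction.isBlock_iff_smul_eq_of_mem] at hB
      have hstep : ∀ x y, (SimpleGraph.fromRel fun x y : Ω => ∃ g : G, g • a = x ∧ g • b = y).Adj x y →
          x ∈ B → y ∈ B := by
        intro x y h hx
        rw [SimpleGraph.fromRel_adj] at h
        rcases h.2 with ⟨k, h1, h2⟩ | ⟨k, h1, h2⟩
        · rw [← hB (g := k) ha (h1 ▸ hx), ← h2]
          exact Set.smul_mem_smul_set hb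
        · rw [← hB (g := k) hb (h2 ▸ hx), ← h1]
          exact Set.smul_mem_smul_set ha
      apply Set.eq_univ_of_forall
      intro z
      have key : ∀ {x : Ω}, (SimpleGraph.fromRel fun x y : Ω => ∃ g : G, g • a = x ∧ g • b = y).Walk x z →
          x ∈ B → z ∈ B := by
        intro x w
        induction w with
        | nil => exact id
        | cons h _ ih => exact fun hx => ih (hstep _ _ h hx)
      obtain ⟨w⟩ := (hconn a b hab).preconnected a z
      exact key w ha

end Cfsg.Agent.S0734
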