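import Cfsg.Statements.S0739
import Cfsg.Agent.Classification.PSLTwoGeneral.ZassenhausAbelian

set_option autoImplicit false
open Cfsg

namespace Cfsg.Agent.S0739

/-- In a finite Zassenhaus group whose two-point stabiliser `H = G_{a,b}` has odd order `d`, and which has no normal `q`-complement for any prime `q ∣ d`, `H` is cyclic, `C_G(H) = H`, and every element swapping `a` and `b` inverts each element of `H`. -/
theorem result {G Ω : Type*} [Group G] [Finite G] [MulAction G Ω] [Fintype Ω] (hZ : Cfsg.IsZassenhausGroup G Ω) {a b : Ω} (hab : a ≠ b) (hodd : Odd (Nat.card ↥(MulAction.stabilizer G a ⊓ MulAction.stabilizer G b))) (hnil : ∀ q : ℕ, q.Prime → q ∣ Nat.card ↥(MulAction.stabilizer G a ⊓ MulAction.stabilizer G b) → ¬ ∃ N : Subgroup G, N.Normal ∧ N.index = q ^ (Nat.card G).factorization q) : IsCyclic ↥(MulAction.stabilizer G a ⊓ MulAction.stabilizer G b) ∧ Subgroup.centralizer ((MulAction.stabilizer G a ⊓ MulAction.stabilizer G b : Subgroup G) : Set G) = MulAction.stabilizer G a ⊓ MulAction.stabilizer G b ∧ ∀ s : G, s • a =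 b → s • b = a → ∀ h ∈ MulAction.stabilizer G a ⊓ MulAction.stabilizer G b, s * h * s⁻¹ = h⁻¹ := by
  classical
  obtain ⟨Q, hQle, -, hQfix, -, -, hQcard, -⟩ := CfsgLib.Zassenhaus.exists_kernel hZ a
  haveI hZD := CfsgLib.CharactersDeep.ZassenhausOdd.isZGroup_stE hZ hab hodd
  haveI : MulAction.IsPretransitive G Ω := by
    haveI := hZ.2.1
    exact MulAction.isPretransitive_of_is_two_pretransitive
  have hcardSt := CfsgLib.CharactersDeep.Zassenhaus.card_stabilizer hQle hQcard hQfix hab.symm
  have hG : Nat.card G = Nat.card Ω * Nat.card Q *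
      Nat.card ↥(MulAction.stabilizer G a ⊓ MulAction.stabilizer G b) := by
    rw [mul_assoc, ← hcardSt, ← MulAction.index_stabilizer_of_transitive G a,
      Subgroup.index_mul_card]
  -- the degree minus two is a multiple of the order of the two-point stabiliser
  have hfree : Nat.card ↥(MulAction.stabilizer G a ⊓ MulAction.stabilizer G b) ∣ Nat.card Ω - 2 := by
    rw [Nat.card_eq_fintype_card (α := Ω)]
    exact (CfsgLib.Classification.PSLTwoGeneral.card_pair_stab_dvd hZ hab).1
  have hcom : MulAction.stabilizer G a ⊓ MulAction.stabilizer G b ≤ commutator G := by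
    have hall : ∀ q, q.Prime → ∀ R : Sylow q ↥(MulAction.stabilizer G a ⊓ MulAction.stabilizer G b),
        (R : Subgroup ↥(MulAction.stabilizer G a ⊓ MulAction.stabilizer G b)) ≤
          (commutator G).subgroupOf (MulAction.stabilizer G a ⊓ MulAction.stabilizer G b) := by
      intro q hq R
      haveI := Fact.mk hq
      by_cases hqd : q ∣ Nat.card ↥(MulAction.stabilizer G a ⊓ MulAction.stabilizer G b)
      swap
      · have h1 : (R : Subgroup ↥(MulAction.stabilizer G a ⊓ MulAction.stabilizer G b)) = ⊥ := by
          apply Subgroup.eq_bot_of_card_eq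
          rw [R.card_eq_multiplicity, Nat.factorization_eq_zero_of_not_dvd hqd, pow_zero]
        rw [h1]; exact bot_le
      -- it is a Sylow subgroup of the whole group
      have hq2 : q ≠ 2 := by
        rintro rfl
        exact Nat.not_even_iff_odd.2 hodd (even_iff_two_dvd.2 hqd)
      have hnq : ¬ q ∣ Nat.card Ω * Nat.card Q := by
        intro h
        obtain ⟨k, hk⟩ := hqd.trans hfree
        rcases hq.dvd_mul.1 h with h | h
        · have h2 : q ∣ 2 := (Nat.dvd_add_right ⟨k, hk⟩).1
            (show q ∣ (Nat.card Ω - 2) + 2 by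
              rwa [Nat.sub_add_cancel (by
                have := CfsgLib.CharactersDeep.Zassenhaus.one_lt_card_H hZ hQcard; omega)])
          exact hq2 ((Nat.prime_dvd_prime_iff_eq hq Nat.prime_two).1 h2)
        · have h2 : q ∣ 1 := (Nat.dvd_add_right ⟨k, hk⟩).1
            (show q ∣ (Nat.card Ω - 2) + 1 by
              rwa [show Nat.card Ω - 2 + 1 = Nat.card Q by
                have := CfsgLib.CharactersDeep.Zassenhaus.one_lt_card_H hZ hQcard; omega])
          exact hq.not_dvd_one h2
      have hcardR : Nat.card ((R : Subgroup ↥(MulAction.stabilizer G a ⊓ MulAction.stabilizer G b)).map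
          (MulAction.stabilizer G a ⊓ MulAction.stabilizer G b).subtype) =
          q ^ (Nat.card G).factorization q := by
        rw [Subgroup.card_subtype, R.card_eq_multiplicity, hG]
        congr 1
        have hne : Nat.card Ω * Nat.card Q ≠ 0 := fun h => hnq (h ▸ dvd_zero q)
        rw [Nat.factorization_mul hne Nat.card_pos.ne', Finsupp.add_apply,
          Nat.factorization_eq_zero_of_not_dvd hnq, zero_add]
      let P : Sylow q G := Sylow.ofCard _ hcardR
      haveI : IsCyclic ↥(R : Subgroup ↥(MulAction.stabilizer G a ⊓ MulAction.stabilizer G b)) :=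
        hZD.isZGroup q hq R
      haveI : IsCyclic ↥P := isCyclic_of_surjective _
        (Subgroup.equivMapOfInjective _ _ (Subgroup.subtype_injective _)).surjective
      rcases Sylow.normalizer_le_centralizer_or_le_commutator P with h | h
      · exfalso
        refine hnil q hq hqd ⟨(MonoidHom.transferSylow P h).ker, inferInstance, ?_⟩
        rw [(MonoidHom.ker_transferSylow_isComplement' P h).symm.index_eq_card]
        exact hcardR
      · intro x hx
        exact Subgroup.mem_subgroupOf.2 (h ⟨x, hx, rfl⟩)
    intro x hx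
    have htop : (⊤ : Subgroup ↥(MulAction.stabilizer G a ⊓ MulAction.stabilizer G b)) ≤
        (commutator G).subgroupOf (MulAction.stabilizer G a ⊓ MulAction.stabilizer G b) := by
      refine le_of_eq (Subgroup.eq_top_of_card_eq _ ?_).symm
      refine Nat.dvd_antisymm (Subgroup.card_subgroup_dvd_card _) ?_
      rw [Nat.dvd_iff_prime_pow_dvd_dvd]
      intro q k hq hk
      haveI := Fact.mk hq
      have h := Subgroup.card_dvd_of_le (hall q hq default)
      rw [Sylow.card_eq_multiplicity] at h
      exact (pow_dvd_pow q ((hq.pow_dvd_iff_le_factorization Nat.card_pos.ne').1 hk)).trans h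
    exact Subgroup.mem_subgroupOf.1 (htop (Subgroup.mem_top ⟨x, hx⟩))
  have hinv := fun (s : G) (hsa : s • a = b) (hsb : s • b = a) h hh =>
    CfsgLib.CharactersDeep.ZassenhausOdd.inverts_of_le_commutator hZ hab hcom hodd
      (s := s) (x := h) hsa hsb hh
  have hcomm : ∀ x y : ↥(MulAction.stabilizer G a ⊓ MulAction.stabilizer G b), x * y = y * x :=
    fun x y => Subtype.ext
      (CfsgLib.CharactersDeep.ZassenhausOdd.comm_of_le_commutator hZ hab hcom hodd x.2 y.2)
  refine ⟨?_, le_antisymm ?_ ?_, hinv⟩
  · haveI : Group.IsNilpotent ↥(MulAction.stabilizer G a ⊓ MulAction.stabilizer G b) := by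
      letI : CommGroup ↥(MulAction.stabilizer G a ⊓ MulAction.stabilizer G b) :=
        { (inferInstance : Group ↥(MulAction.stabilizer G a ⊓ MulAction.stabilizer G b)) with
          mul_comm := hcomm }
      infer_instance
    infer_instance
  · intro c hc
    obtain ⟨x, hx1, hxa, hxb⟩ := CfsgLib.Zassenhaus.exists_fix_two hZ hab
    have hx : x ∈ MulAction.stabilizer G a ⊓ MulAction.stabilizer G b := Subgroup.mem_inf.2 ⟨hxa, hxb⟩
    have hcx : x * c = c * x := Subgroup.mem_centralizer_iff.1 hc x hx
    have hmem : c⁻¹ * x * c ∈ MulAction.stabilizer G a ⊓ MulAction.stabilizer G b := by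
      rwa [mul_assoc, hcx, inv_mul_cancel_left]
    rcases CfsgLib.CharactersDeep.ZassenhausOdd.cases_of_conj_mem hZ hab hx hx1 hmem with
      ⟨h1, h2⟩ | ⟨h1, h2⟩
    · exact Subgroup.mem_inf.2 ⟨h1, h2⟩
    · exfalso
      have h3 := hinv c h1 h2 x hx
      rw [← hcx, mul_inv_cancel_right] at h3
      have hx2 : x ^ 2 = 1 := by rw [pow_two]; exact mul_eq_one_iff_eq_inv.2 h3
      have hdvd : orderOf x ∣ 2 := orderOf_dvd_of_pow_eq_one hx2
      have hoddx : Odd (orderOf x) := hodd.of_dvd_nat (by
        rw [← Subgroup.orderOf_mk x hx]; exact orderOf_dvd_natCard _)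
      rcases (Nat.dvd_prime Nat.prime_two).1 hdvd with h | h
      · exact hx1 (orderOf_eq_one_iff.1 h)
      · rw [h] at hoddx; exact Nat.not_odd_iff_even.2 even_two hoddx
  · intro x hx
    exact Subgroup.mem_centralizer_iff.2 fun y hy => congrArg Subtype.val (hcomm ⟨y, hy⟩ ⟨x, hx⟩)

end Cfsg.Agent.S0739
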