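import Cfsg.Statements.S0740
import Mathlib
import Cfsg.Agent.Perm.Zassenhaus
-- import your own Cfsg.Agent.* helpers here

set_option autoImplicit false
open Cfsg

namespace Cfsg.Agent.S0740

/-- In a finite Zassenhaus group any two points `a ≠ b` are swapped by an involution; every such involution has exactly one fixed point when the degree is odd and 0 or 2 fixed points when the degree is even; and if the two-point stabiliser has even order, some such involution has exactly 2 fixed points. -/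
theorem result {G Ω : Type*} [Group G] [Finite G] [MulAction G Ω] [Fintype Ω] (hZ : Cfsg.IsZassenhausGroup G Ω) {a b : Ω} (hab : a ≠ b) : (∃ s : G, orderOf s = 2 ∧ s • a = b ∧ s • b = a) ∧ (∀ s : G, orderOf s = 2 → s • a = b → s • b = a → (Odd (Fintype.card Ω) → Nat.card (MulAction.fixedBy Ω s) = 1) ∧ (Even (Fintype.card Ω) → Nat.card (MulAction.fixedBy Ω s) = 0 ∨ Nat.card (MulAction.fixedBy Ω s) = 2)) ∧ (Even (Fintype.card Ω) → Even (Nat.card ↥(MulAction.stabilizer G a ⊓ MulAction.stabilizer G b)) → ∃ s : G, orderOf s = 2 ∧ s • a = b ∧ s • b = a ∧ Nat.card (MulAction.fixedBy Ω s) = 2) := by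
  classical
  haveI := hZ.1
  refine ⟨CfsgLib.Perm.Zassenhaus.exists_invol_swap hZ hab, fun s hs hsa hsb => ?_, fun hev hHev => ?_⟩
  · have hs1 : s ≠ 1 := fun h => by rw [h, orderOf_one] at hs; omega
    have h1 := CfsgLib.Perm.Zassenhaus.fixedBy_le_two hZ hs1
    have h2 := CfsgLib.Perm.Zassenhaus.fixedBy_parity (Ω := Ω) (s := s)
      (by rw [← pow_two, ← hs, pow_orderOf_eq_one])
    exact ⟨fun ho => by rw [Nat.odd_iff] at ho; omega, fun he => by rw [Nat.even_iff] at he; omega⟩
  · haveI := Fact.mk Nat.prime_two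
    obtain ⟨h, hh⟩ := exists_prime_orderOf_dvd_card'
      (G := ↥(MulAction.stabilizer G a ⊓ MulAction.stabilizer G b)) 2 hHev.two_dvd
    have ho : orderOf (h : G) = 2 := by rw [Subgroup.orderOf_coe, hh]
    have hh1 : (h : G) ≠ 1 := fun e => by rw [e, orderOf_one] at ho; omega
    obtain ⟨u, hu⟩ : ∃ u : Ω, (h : G) • u ≠ u := by
      by_contra hc
      simp only [not_exists, not_not] at hc
      exact hh1 (eq_of_smul_eq_smul (α := Ω) fun x => by rw [hc x, one_smul])
    have hfix : Nat.card (MulAction.fixedBy Ω (h : G)) = 2 := by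
      have h1 := CfsgLib.Perm.Zassenhaus.fixedBy_le_two hZ hh1
      have h2 : ({a, b} : Set Ω).ncard ≤ (MulAction.fixedBy Ω (h : G)).ncard :=
        Set.ncard_le_ncard (Set.insert_subset h.2.1 (Set.singleton_subset_iff.2 h.2.2)) (Set.toFinite _)
      rw [Set.ncard_pair hab, ← Nat.card_coe_set_eq] at h2
      omega
    obtain ⟨g, hgu, hgv⟩ := MulAction.is_two_pretransitive_iff.1 hZ.2.1 (Ne.symm hu) hab
    have h22 : (h : G) * h = 1 := by rw [← pow_two, ← ho, pow_orderOf_eq_one]
    refine ⟨g * h * g⁻¹, ?_, ?_, ?_, ?_⟩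
    · rw [← MulAut.conj_apply]
      exact (MulEquiv.orderOf_eq (MulAut.conj g) (h : G)).trans ho
    · rw [mul_smul, mul_smul, inv_smul_eq_iff.2 hgu.symm, hgv]
    · rw [mul_smul, mul_smul, inv_smul_eq_iff.2 hgv.symm, smul_smul (h : G) h, h22, one_smul, hgu]
    · rw [← hfix]
      refine Nat.card_congr ((MulAction.toPerm g⁻¹ : Equiv.Perm Ω).subtypeEquiv fun x => ?_)
      show (g * h * g⁻¹) • x = x ↔ (h : G) • g⁻¹ • x = g⁻¹ • x
      rw [mul_smul, mul_smul, ← eq_inv_smul_iff]

end Cfsg.Agent.S0740
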