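import Cfsg.Statements.S0742
import Cfsg.Agent.Classification.PSLTwoGeneral.Zassenhaus

set_option autoImplicit false
open Cfsg

namespace Cfsg.Agent.S0742

/-- A finite Zassenhaus group of degree `n + 1` with two-point stabilisers of even order `d` satisfying `2d ≤ n - 1` has `n = p^f` for an odd prime `p` and is isomorphic to `PSL(2, p^f)`. -/
theorem result {G Ω : Type*} [Group G] [Finite G] [MulAction G Ω] [Fintype Ω] (hZ : Cfsg.IsZassenhausGroup G Ω) {a b : Ω} (hab : a ≠ b) (heven : Even (Nat.card ↥(MulAction.stabilizer G a ⊓ MulAction.stabilizer G b))) (hd : 2 * Nat.card ↥(MulAction.stabilizer G a ⊓ MulAction.stabilizer G b) ≤ Fintype.card Ω - 2) : ∃ (p f : ℕ) (K : Type) (_ : Field K) (_ : Fintype K), p.Prime ∧ p ≠ 2 ∧ Fintype.card K = p ^ f ∧ Fintype.card Ω = p ^ f + 1 ∧ Nonempty (G ≃* Matrix.ProjectiveSpecialLinearGroup (Fin 2) K) := by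
  obtain ⟨K, fK, fFin, hodd, -, hcard, hiso⟩ :=
    CfsgLib.Classification.PSLTwoGeneral.exists_equiv_of_zassenhaus hZ hab heven hd
  obtain ⟨p, hp⟩ := CharP.exists K
  haveI := hp
  obtain ⟨n, hpp, hn⟩ := FiniteField.card K p
  refine ⟨p, n, K, fK, fFin, hpp, fun h2 => ?_, hn, by rw [hcard, hn], hiso⟩
  rw [hn, h2] at hodd
  exact (Nat.not_odd_iff_even.2 ((Nat.even_pow' n.ne_zero).2 even_two)) hodd

end Cfsg.Agent.S0742
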