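import Cfsg.Statements.S0744
import Mathlib
import Cfsg.Agent.Perm.Transitivity
-- import your own Cfsg.Agent.* helpers here

set_option autoImplicit false
open Cfsg

namespace Cfsg.Agent.S0744

/-- If for some `k > 1` the pointwise stabilisers of all `(k-1)`-subsets have the same order `> 1` and those of all `k`-subsets have the same order, then the group is `(k-1)`-transitive. -/
theorem result {α : Type*} [Fintype α] [DecidableEq α] (G : Subgroup (Equiv.Perm α)) {k : ℕ} (hk : 1 < k) (hkn : k ≤ Fintype.card α) (l m : ℕ) (hl : 1 < l) (hkm1 : ∀ s : Finset α, s.card = k - 1 → Nat.card (fixingSubgroup G (s : Set α)) = l) (hkm : ∀ s : Finset α, s.card = k → Nat.card (fixingSubgroup G (s : Set α)) = m) : MulAction.IsMultiplyPretransitive G α (k - 1) := by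
  classical
  haveI : Finite G := Finite.of_fintype _
  have horb : ∀ (s : Finset α), s.card = k - 1 → ∀ x, x ∉ s →
      Nat.card (MulAction.orbit (fixingSubgroup G (s : Set α)) x) * m = l := by
    intro s hs x hx
    rw [← hkm1 s hs, ← hkm (insert x s) (by rw [Finset.card_insert_of_notMem hx, hs]; omega),
      Nat.card_coe_set_eq, ← MulAction.index_stabilizer]
    have e : (MulAction.stabilizer (fixingSubgroup G (s : Set α)) x).map (Subgroup.subtype _)
        = fixingSubgroup G ((insert x s : Finset α) : Set α) := by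
      ext g
      simp only [Subgroup.mem_map, Subgroup.subtype_apply, MulAction.mem_stabilizer_iff,
        mem_fixingSubgroup_iff, Finset.coe_insert, Set.mem_insert_iff, forall_eq_or_imp]
      constructor
      · rintro ⟨⟨g, hg⟩, hgx, rfl⟩
        exact ⟨hgx, (mem_fixingSubgroup_iff G).1 hg⟩
      · rintro ⟨hgx, hg⟩
        exact ⟨⟨g, (mem_fixingSubgroup_iff G).2 hg⟩, hgx, rfl⟩
    rw [← e, Subgroup.card_map_of_injective (Subgroup.subtype_injective _), Subgroup.index_mul_card]
  obtain ⟨s₀, _, hs₀⟩ := Finset.exists_subset_card_eq (s := (Finset.univ : Finset α)) (n := k - 1)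
    (by rw [Finset.card_univ]; omega)
  obtain ⟨x₀, hx₀⟩ : ∃ x, x ∉ s₀ := by
    by_contra h
    simp only [not_exists, not_not] at h
    have := Finset.card_le_card (fun x (_ : x ∈ (Finset.univ : Finset α)) => h x)
    rw [Finset.card_univ] at this
    omega
  set d := Nat.card (MulAction.orbit (fixingSubgroup G (s₀ : Set α)) x₀) with hd
  have hm0 : 0 < m := Nat.pos_of_ne_zero fun h => by
    have := horb s₀ hs₀ x₀ hx₀
    rw [h, mul_zero] at this
    omega
  have hall : ∀ (s : Finset α), s.card = k - 1 → ∀ x, x ∉ s →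
      Nat.card (MulAction.orbit (fixingSubgroup G (s : Set α)) x) = d := by
    intro s hs x hx
    have h1 := horb s hs x hx
    have h2 := horb s₀ hs₀ x₀ hx₀
    exact Nat.eq_of_mul_eq_mul_right hm0 (h1.trans h2.symm)
  have hd1 : 1 < d := by
    by_contra hle
    have hd1 : d ≤ 1 := not_lt.1 hle
    have htriv : fixingSubgroup G (s₀ : Set α) = ⊥ := by
      rw [eq_bot_iff]
      intro g hg
      rw [Subgroup.mem_bot]
      apply Subtype.ext
      apply Equiv.ext
      intro x
      by_cases hx : x ∈ s₀
      · exact (mem_fixingSubgroup_iff G).1 hg x hx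
      · have h1 : Nat.card (MulAction.orbit (fixingSubgroup G (s₀ : Set α)) x) ≤ 1 := by
          rw [hall s₀ hs₀ x hx]; exact hd1
        haveI : Subsingleton (MulAction.orbit (fixingSubgroup G (s₀ : Set α)) x) :=
          Finite.card_le_one_iff_subsingleton.1 h1
        exact congrArg Subtype.val (Subsingleton.elim
          (⟨_, MulAction.mem_orbit x (⟨g, hg⟩ : fixingSubgroup G (s₀ : Set α))⟩ :
            MulAction.orbit (fixingSubgroup G (s₀ : Set α)) x) ⟨x, MulAction.mem_orbit_self x⟩)
    have := hkm1 s₀ hs₀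
    rw [htriv, Subgroup.card_bot] at this
    omega
  refine CfsgLib.Perm.isMultiplyPretransitive_of_orbits_dvd hd1 (by omega) (fun s hs => ?_)
  exact ⟨fixingSubgroup G (s : Set α), fun g hg x hx => (mem_fixingSubgroup_iff G).1 hg x hx,
    fun x hx => (hall s hs x hx) ▸ dvd_rfl⟩

end Cfsg.Agent.S0744
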