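import Cfsg.Statements.S0754

set_option autoImplicit false
open Cfsg

namespace Cfsg.Agent.S0754

/-- In a field F with q^2 elements, every non-zero μ with μ^q = μ (that is, μ in the subfield of order q) has exactly q + 1 solutions λ of λ^(q+1) = μ. -/
theorem result {F : Type*} [Field F] [Fintype F] {q : ℕ} (hF : Fintype.card F = q ^ 2) (μ : F) (hμ : μ ≠ 0) (hμq : μ ^ q = μ) : Nat.card {x : F // x ^ (q + 1) = μ} = q + 1 := by
  classical
  have hq : 2 ≤ q := by
    by_contra h
    have h1 : 1 < Fintype.card F := Fintype.one_lt_card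
    interval_cases q <;> simp at hF <;> omega
  have hG : Nat.card Fˣ = (q + 1) * (q - 1) := by
    rw [Nat.card_units, Nat.card_eq_fintype_card, hF, sq, ← Nat.mul_self_sub_mul_self_eq q 1]
  let f : Fˣ →* Fˣ := powMonoidHom (q + 1)
  have hker : Nat.card f.ker = q + 1 := by
    rw [IsCyclic.card_powMonoidHom_ker, hG]
    exact Nat.gcd_eq_right (dvd_mul_right _ _)
  have hrange : f.range = (powMonoidHom (q - 1) : Fˣ →* Fˣ).ker := by
    apply Subgroup.eq_of_le_of_card_ge
    · rintro _ ⟨x, rfl⟩
      show (x ^ (q + 1)) ^ (q - 1) = 1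
      rw [← pow_mul, ← hG, pow_card_eq_one']
    · rw [IsCyclic.card_powMonoidHom_ker, hG, Nat.gcd_eq_right (dvd_mul_left _ _)]
      have h := Subgroup.card_eq_card_quotient_mul_card_subgroup f.ker
      rw [hker, Nat.card_congr (QuotientGroup.quotientKerEquivRange f).toEquiv, hG,
        mul_comm (q + 1)] at h
      exact (Nat.eq_of_mul_eq_mul_right (by omega) h).le
  obtain ⟨u₀, hu₀⟩ : Units.mk0 μ hμ ∈ f.range := by
    rw [hrange]
    show Units.mk0 μ hμ ^ (q - 1) = 1
    ext
    simp only [Units.val_pow_eq_pow_val, Units.val_mk0, Units.val_one]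
    apply mul_left_cancel₀ hμ
    rw [mul_one, ← pow_succ', show q - 1 + 1 = q by omega, hμq]
  have hu₀' : (u₀ : F) ^ (q + 1) = μ := by
    have h := congrArg Units.val hu₀
    simpa [f] using h
  refine Eq.trans ?_ hker
  refine Nat.card_congr
    { toFun := fun x => ⟨Units.mk0 (x.1 / u₀) (div_ne_zero ?_ u₀.ne_zero), ?_⟩
      invFun := fun k => ⟨(k.1 : F) * u₀, ?_⟩
      left_inv := fun x => Subtype.ext (by simp)
      right_inv := fun k => Subtype.ext (Units.ext (by simp)) }
  · intro h
    have := x.2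
    rw [h, zero_pow (by omega)] at this
    exact hμ this.symm
  · show _ ^ (q + 1) = (1 : Fˣ)
    ext
    simp [div_pow, x.2, hu₀', hμ]
  · have h := congrArg Units.val k.2
    simp only [f, powMonoidHom_apply, Units.val_pow_eq_pow_val, Units.val_one] at h
    rw [mul_pow, h, hu₀', one_mul]

end Cfsg.Agent.S0754
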