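import Cfsg.Statements.S0757

set_option autoImplicit false
open Cfsg

namespace Cfsg.Agent.S0757

/-- The two diagonal forms Σ x_i^2 and Σ_(i<n) x_i^2 + α x_n^2 on F^(n+1), with α a non-square and 2 ≠ 0 in F, are inequivalent quadratic forms (so over a finite field of odd order there are exactly two classes of non-singular symmetric bilinear forms in each dimension). -/
theorem result {F : Type*} [Field F] (h2 : (2 : F) ≠ 0) (n : ℕ) (α : F) (hα : ¬ IsSquare α) : ¬ (QuadraticMap.weightedSumSquares F (fun _ : Fin (n + 1) => (1 : F))).Equivalent (QuadraticMap.weightedSumSquares F (fun i : Fin (n + 1) => if i = Fin.last n then α else (1 : F))) := by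
  classical
  rintro ⟨g⟩
  set w₂ : Fin (n + 1) → F := fun i => if i = Fin.last n then α else 1 with hw₂
  have hpol : ∀ (w : Fin (n + 1) → F) (x y : Fin (n + 1) → F),
      QuadraticMap.polar (QuadraticMap.weightedSumSquares F w) x y
        = 2 * ∑ i, x i * w i * y i := by
    intro w x y
    simp only [QuadraticMap.polar, QuadraticMap.weightedSumSquares_apply, smul_eq_mul,
      Pi.add_apply, Finset.mul_sum, ← Finset.sum_sub_distrib]
    exact Finset.sum_congr rfl fun i _ => by ring
  let M : Matrix (Fin (n + 1)) (Fin (n + 1)) F := LinearMap.toMatrix' g.toLinearEquiv.toLinearMap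
  have hM : ∀ i k, M k i = g (Pi.single i 1) k := fun i k => by
    simp [M, LinearMap.toMatrix'_apply]
  have key : M.transpose * Matrix.diagonal w₂ * M = 1 := by
    ext i j
    have h : QuadraticMap.polar (QuadraticMap.weightedSumSquares F w₂) (g (Pi.single i 1))
        (g (Pi.single j 1)) = QuadraticMap.polar
          (QuadraticMap.weightedSumSquares F (fun _ : Fin (n + 1) => (1 : F)))
          (Pi.single i 1) (Pi.single j 1) := by
      simp only [QuadraticMap.polar, ← map_add, g.map_app]
    rw [hpol, hpol] at h
    have h' := mul_left_cancel₀ h2 h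
    rw [Matrix.mul_apply]
    simp only [Matrix.mul_diagonal, Matrix.transpose_apply, hM]
    rw [h', Matrix.one_apply]
    simp [Pi.single_apply, eq_comm]
  have hdet := congrArg Matrix.det key
  have hprod : ∏ i, w₂ i = α := by simp [hw₂]
  rw [Matrix.det_mul, Matrix.det_mul, Matrix.det_transpose, Matrix.det_diagonal, hprod,
    Matrix.det_one] at hdet
  have hd : M.det ≠ 0 := fun h => by simp [h] at hdet
  exact hα ⟨M.det⁻¹, by field_simp; linear_combination hdet⟩

end Cfsg.Agent.S0757
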