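import Cfsg.Statements.S0758

set_option autoImplicit false
open Cfsg

namespace Cfsg.Agent.S0758

/-- For a finite field F of odd order q and a non-square α: the form x² + y² is isotropic iff q ≡ 1 mod 4, and the form x² + α y² is isotropic iff q ≡ 3 mod 4. -/
theorem result {F : Type*} [Field F] [Fintype F] (h2 : (2 : F) ≠ 0) (α : F) (hα : ¬ IsSquare α) : ((∃ x y : F, (x ≠ 0 ∨ y ≠ 0) ∧ x ^ 2 + y ^ 2 = 0) ↔ Fintype.card F % 4 = 1) ∧ ((∃ x y : F, (x ≠ 0 ∨ y ≠ 0) ∧ x ^ 2 + α * y ^ 2 = 0) ↔ Fintype.card F % 4 = 3) := by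
  classical
  have hodd : Fintype.card F % 2 = 1 := FiniteField.odd_card_of_char_ne_two fun h => h2 (by
    haveI := ringChar.eq_iff.1 h; exact CharTwo.two_eq_zero)
  have hα0 : α ≠ 0 := fun h => hα (h ▸ ⟨0, by simp⟩)
  have key : ∀ a : F, a ≠ 0 → ((∃ x y : F, (x ≠ 0 ∨ y ≠ 0) ∧ x ^ 2 + a * y ^ 2 = 0) ↔
      IsSquare (-a)) := by
    intro a ha
    constructor
    · rintro ⟨x, y, hne, h⟩
      have hy : y ≠ 0 := by
        rintro rfl
        have hx : x = 0 := by simpa using h
        simp [hx] at hne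
      exact ⟨x / y, by field_simp; linear_combination -h⟩
    · rintro ⟨r, hr⟩
      exact ⟨r, 1, Or.inr one_ne_zero, by linear_combination -hr⟩
  have hneg : quadraticChar F (-α) = - quadraticChar F (-1) := by
    rw [neg_eq_neg_one_mul α, map_mul, quadraticChar_neg_one_iff_not_isSquare.2 hα]; ring
  have h1 := key 1 one_ne_zero
  simp only [one_mul] at h1
  refine ⟨?_, ?_⟩
  · rw [h1, FiniteField.isSquare_neg_one_iff]; omega
  · rw [key α hα0, ← quadraticChar_one_iff_isSquare (neg_ne_zero.2 hα0), hneg]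
    constructor
    · intro h
      have hns : ¬ IsSquare (-1 : F) := quadraticChar_neg_one_iff_not_isSquare.1 (by omega)
      rw [FiniteField.isSquare_neg_one_iff] at hns
      omega
    · intro h
      have hns : ¬ IsSquare (-1 : F) := by rw [FiniteField.isSquare_neg_one_iff]; omega
      rw [quadraticChar_neg_one_iff_not_isSquare.2 hns]; ring

end Cfsg.Agent.S0758
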