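import Cfsg.Statements.S0759
import Cfsg.Agent.Forms.PlusType

set_option autoImplicit false
open Cfsg

namespace Cfsg.Agent.S0759

/-- Type of the orthonormal form: over a finite field of odd order q and for m ≥ 1, the quadratic form Σ_(i<2m) x_i² on F^(2m) admits an m-dimensional subspace on which it vanishes identically if and only if it is not the case that q ≡ 3 (mod 4) and m is odd. -/
theorem result {F : Type*} [Field F] [Fintype F] (h2 : (2 : F) ≠ 0) (m : ℕ) (hm : 1 ≤ m) : (∃ W : Submodule F (Fin (2 * m) → F), Module.finrank F W = m ∧ ∀ w ∈ W, ∑ i, w i ^ 2 = 0) ↔ ¬ (Fintype.card F % 4 = 3 ∧ Odd m) := by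
  classical
  obtain ⟨B, hB⟩ : ∃ B, B = Matrix.toBilin' (1 : Matrix (Fin (2 * m)) (Fin (2 * m)) F) := ⟨_, rfl⟩
  have hBapp : ∀ x y, B x y = ∑ i, x i * y i := fun x y => by
    rw [hB, Matrix.toBilin'_apply', Matrix.one_mulVec]; rfl
  have hM : LinearMap.BilinForm.toMatrix (Pi.basisFun F (Fin (2 * m))) B = 1 := by
    rw [LinearMap.BilinForm.toMatrix_basisFun, hB, LinearMap.BilinForm.toMatrix'_toBilin']
  have key := CfsgLib.Forms.plus_iff_isSquare h2 B
    ⟨fun x y => by simp [hBapp, mul_comm]⟩ (Pi.basisFun F (Fin (2 * m)))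
    (by rw [hM, Matrix.det_one]; exact one_ne_zero) (k := m) (Fintype.card_fin _)
  rw [hM, Matrix.det_one, mul_one] at key
  have hodd : Fintype.card F % 2 = 1 := FiniteField.odd_card_of_char_ne_two fun h => h2 (by
    haveI := ringChar.eq_iff.1 h; exact CharTwo.two_eq_zero)
  have hneg : IsSquare (-1 : F) ↔ Fintype.card F % 4 ≠ 3 := FiniteField.isSquare_neg_one_iff
  have hsq : IsSquare ((-1 : F) ^ m) ↔ ¬ (Fintype.card F % 4 = 3 ∧ Odd m) := by
    rcases Nat.even_or_odd m with he | ho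
    · rw [he.neg_one_pow]
      simp [Nat.not_odd_iff_even.2 he]
    · rw [ho.neg_one_pow, hneg]
      simp [ho]
  rw [← hsq, ← key]
  constructor
  · rintro ⟨W, hW, hW0⟩
    refine ⟨W, hW, fun x hx y hy => ?_⟩
    have h := hW0 _ (W.add_mem hx hy)
    have hx0 := hW0 x hx
    have hy0 := hW0 y hy
    rw [hBapp]
    have e : ∑ i, (x + y) i ^ 2 = ∑ i, x i ^ 2 + ∑ i, y i ^ 2 + 2 * ∑ i, x i * y i := by
      rw [Finset.mul_sum, ← Finset.sum_add_distrib, ← Finset.sum_add_distrib]
      exact Finset.sum_congr rfl fun i _ => by rw [Pi.add_apply]; ring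
    rw [h, hx0, hy0, zero_add, zero_add] at e
    exact (mul_eq_zero.1 e.symm).resolve_left h2
  · rintro ⟨W, hW, hW0⟩
    refine ⟨W, hW, fun w hw => ?_⟩
    simp only [sq, ← hBapp]
    exact hW0 w hw w hw

end Cfsg.Agent.S0759
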