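import Cfsg.Statements.S0760
import Cfsg.Agent.Forms.Witt

set_option autoImplicit false
open Cfsg

namespace Cfsg.Agent.S0760

/-- Witt index is well defined: if Q is a quadratic form on a finite-dimensional space V over a finite field with non-degenerate polar form, and W₁, W₂ are subspaces on which Q vanishes that are maximal with this property, then W₁ and W₂ have the same dimension, and twice this dimension is at most dim V. -/
theorem result {F V : Type*} [Field F] [Finite F] [AddCommGroup V] [Module F V] [FiniteDimensional F V] (Q : QuadraticForm F V) (hQ : (QuadraticMap.polarBilin Q).Nondegenerate) (W₁ W₂ : Submodule F V) (h₁ : ∀ w ∈ W₁, Q w = 0) (h₂ : ∀ w ∈ W₂, Q w = 0) (hmax₁ : ∀ W : Submodule F V, W₁ ≤ W → (∀ w ∈ W, Q w = 0) → W = W₁) (hmax₂ : ∀ W : Submodule F V, W₂ ≤ W → (∀ w ∈ W, Q w = 0) → W = W₂) : Module.finrank F W₁ = Module.finrank F W₂ ∧ 2 * Module.finrank F W₁ ≤ Module.finrank F V := by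
  have key : ∀ U W : Submodule F V, (∀ w ∈ U, Q w = 0) → (∀ w ∈ W, Q w = 0) →
      (∀ Z : Submodule F V, U ≤ Z → (∀ w ∈ Z, Q w = 0) → Z = U) →
      Module.finrank F U ≤ Module.finrank F W → Module.finrank F U = Module.finrank F W := by
    intro U W hU hW hmax hle
    let bU := Module.finBasis F U
    let bW := Module.finBasis F W
    let c : Fin (Module.finrank F U) → V := fun i => (bW (Fin.castLE hle i) : V)
    have hli : LinearIndependent F c :=
      (bW.linearIndependent.comp _ (Fin.castLE_injective hle)).map' W.subtype (Submodule.ker_subtype W)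
    let X : Submodule F V := Submodule.span F (Set.range c)
    have hXW : X ≤ W := Submodule.span_le.2 (by rintro _ ⟨i, rfl⟩; exact (bW _).2)
    obtain ⟨g, hgQ, hg⟩ := CfsgLib.Forms.witt_quadratic Q hQ U X
      (bU.equiv (Module.Basis.span hli) (Equiv.refl _))
      (fun u => by rw [hU _ u.2, hW _ (hXW (Submodule.coe_mem _))])
    have hZ : W.comap g.toLinearMap = U := by
      refine hmax _ (fun u hu => ?_) (fun w hw => ?_)
      · show g u ∈ W
        rw [hg ⟨u, hu⟩]
        exact hXW (Submodule.coe_mem _)
      · rw [← hgQ]; exact hW _ hw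
    rw [← LinearEquiv.finrank_eq (g.ofSubmodule' W), hZ]
  have heq : Module.finrank F W₁ = Module.finrank F W₂ := by
    rcases le_total (Module.finrank F W₁) (Module.finrank F W₂) with h | h
    · exact key W₁ W₂ h₁ h₂ hmax₁ h
    · exact (key W₂ W₁ h₂ h₁ hmax₂ h).symm
  refine ⟨heq, ?_⟩
  have hperp : W₁ ≤ LinearMap.BilinForm.orthogonal (QuadraticMap.polarBilin Q) W₁ := by
    intro x hx y hy
    show QuadraticMap.polar Q y x = 0
    simp [QuadraticMap.polar, h₁ x hx, h₁ y hy, h₁ _ (W₁.add_mem hy hx)]
  have h := Submodule.finrank_mono hperp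
  rw [LinearMap.BilinForm.finrank_orthogonal hQ] at h
  have := Submodule.finrank_le W₁
  omega

end Cfsg.Agent.S0760
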