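import Cfsg.Statements.S0761
import Cfsg.Agent.Forms.Witt

set_option autoImplicit false
open Cfsg

namespace Cfsg.Agent.S0761

/-- Hyperbolic partners: let B be a non-degenerate bilinear form on a finite-dimensional space, either alternating, or symmetric with 2 ≠ 0. If Z is a subspace on which B vanishes, x ∉ Z is isotropic and orthogonal to Z, then there is an isotropic y with B x y = 1 which is orthogonal to Z. -/
theorem result {F V : Type*} [Field F] [AddCommGroup V] [Module F V] [FiniteDimensional F V] (B : LinearMap.BilinForm F V) (hB : B.Nondegenerate) (hform : B.IsAlt ∨ (B.IsSymm ∧ (2 : F) ≠ 0)) (x : V) (Z : Submodule F V) (hxZ : x ∉ Z) (hx : B x x = 0) (hxz : ∀ z ∈ Z, B x z = 0) (hZ : ∀ z ∈ Z, ∀ z' ∈ Z, B z z' = 0) : ∃ y : V, B y y = 0 ∧ B x y = 1 ∧ ∀ z ∈ Z, B z y = 0 := by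
  have hrefl : ∀ u v, B u v = 0 → B v u = 0 := by
    intro u v h
    rcases hform with hA | ⟨hS, -⟩
    · rw [← LinearMap.IsAlt.neg hA u v, h, neg_zero]
    · rw [hS.eq, h]
  obtain ⟨φ, hφx, hφZ⟩ := Submodule.exists_dual_map_eq_bot_of_notMem hxZ inferInstance
  obtain ⟨y₀, hy₀⟩ := CfsgLib.Forms.exists_rep (σ := RingHom.id F) B.flip (fun _ => rfl) hB.2 φ
  have hy : ∀ v, B v y₀ = φ v := fun v => LinearMap.congr_fun hy₀ v
  have hzφ : ∀ z ∈ Z, φ z = 0 := fun z hz => by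
    have : φ z ∈ Z.map φ := Submodule.mem_map_of_mem hz
    rwa [hφZ, Submodule.mem_bot] at this
  obtain ⟨y₁, hy₁x, hy₁z⟩ : ∃ y₁, B x y₁ = 1 ∧ ∀ z ∈ Z, B z y₁ = 0 :=
    ⟨(φ x)⁻¹ • y₀, by simp [hy, hφx], fun z hz => by simp [hy, hzφ z hz]⟩
  have hzx : ∀ z ∈ Z, B z x = 0 := fun z hz => hrefl _ _ (hxz z hz)
  rcases hform with hA | ⟨hS, h2⟩
  · exact ⟨y₁, hA y₁, hy₁x, hy₁z⟩
  · refine ⟨y₁ + (-(B y₁ y₁) / 2) • x, ?_, by simp [hy₁x, hx], fun z hz => by
      simp [hy₁z z hz, hzx z hz]⟩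
    simp only [map_add, map_smul, LinearMap.add_apply, LinearMap.smul_apply, smul_eq_mul,
      hS.eq y₁ x, hy₁x, hx]
    field_simp
    ring

end Cfsg.Agent.S0761
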