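import Cfsg.Statements.S0767
import Cfsg.Agent.Forms.Symplectic

set_option autoImplicit false
open Cfsg

namespace Cfsg.Agent.S0767

/-- The root group of a point: T_v(c) T_v(d) = T_v(c + d), and for A in the symplectic group with A v = a v, the conjugate A T_v(c) A⁻¹ is again some T_v(d). -/
theorem result {F : Type*} [Field F] (m : ℕ) (v : Fin m ⊕ Fin m → F) : (∀ c d : F, Cfsg.sympTransvection m v c * Cfsg.sympTransvection m v d = Cfsg.sympTransvection m v (c + d)) ∧ ∀ (A : Matrix (Fin m ⊕ Fin m) (Fin m ⊕ Fin m) F) (a : F), A ∈ Matrix.symplecticGroup (Fin m) F → A.mulVec v = a • v → ∀ c : F, ∃ d : F, A * Cfsg.sympTransvection m v c * A⁻¹ = Cfsg.sympTransvection m v d := by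
  refine ⟨fun c d => Matrix.ext_iff_mulVec.2 fun x => ?_, fun A a hA hAv c => ⟨c * a ^ 2, ?_⟩⟩
  · rw [← Matrix.mulVec_mulVec]
    simp only [CfsgLib.Forms.sympTransvection_mulVec, ← CfsgLib.Forms.sympBilin_apply, map_add,
      map_smul, LinearMap.add_apply, LinearMap.smul_apply, smul_eq_mul,
      CfsgLib.Forms.sympBilin_isAlt v, mul_zero, add_zero]
    rw [add_assoc, ← add_smul]
    congr 2
    ring
  · have hdet : IsUnit A.det := SymplecticGroup.symplectic_det hA
    refine Matrix.ext_iff_mulVec.2 fun x => ?_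
    obtain ⟨y, rfl⟩ : ∃ y, x = A.mulVec y :=
      ⟨A⁻¹.mulVec x, by rw [Matrix.mulVec_mulVec, Matrix.mul_nonsing_inv _ hdet, Matrix.one_mulVec]⟩
    have hf : Cfsg.sympForm m F y v = a * Cfsg.sympForm m F (A.mulVec y) v := by
      rw [← CfsgLib.Forms.mem_symplecticGroup_iff_form.1 hA y v, hAv,
        ← CfsgLib.Forms.sympBilin_apply, map_smul, smul_eq_mul, CfsgLib.Forms.sympBilin_apply]
    rw [← Matrix.mulVec_mulVec, ← Matrix.mulVec_mulVec, Matrix.mulVec_mulVec (M := A⁻¹),
      Matrix.nonsing_inv_mul _ hdet, Matrix.one_mulVec,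
      CfsgLib.Forms.sympTransvection_mulVec, CfsgLib.Forms.sympTransvection_mulVec,
      Matrix.mulVec_add, Matrix.mulVec_smul, hAv, smul_smul, hf]
    congr 2
    ring

end Cfsg.Agent.S0767
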