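import Cfsg.Statements.S0769
import Cfsg.Agent.Forms.LinearBlocks

set_option autoImplicit false
open Cfsg

namespace Cfsg.Agent.S0769

/-- Order of the Borel subgroup of GL_n(q): the invertible lower-triangular n × n matrices over a field with q elements number q^(n(n-1)/2) (q-1)^n (unitriangular part times the diagonal torus). -/
theorem result {F : Type*} [Field F] [Fintype F] {q : ℕ} (hF : Fintype.card F = q) (n : ℕ) : Nat.card {g : Matrix.GeneralLinearGroup (Fin n) F // ∀ i j : Fin n, i < j → (g : Matrix (Fin n) (Fin n) F) i j = 0} = q ^ (n * (n - 1) / 2) * (q - 1) ^ n := by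
  rw [← CfsgLib.Forms.card_lower hF n]
  have hd : ∀ M : Matrix (Fin n) (Fin n) F, (∀ i j, i < j → M i j = 0) →
      M.det = ∏ i, M i i := fun M hM =>
    Matrix.det_of_lowerTriangular M fun i j h => hM i j h
  exact Nat.card_congr
    { toFun := fun g => ⟨(g.1 : Matrix (Fin n) (Fin n) F), g.2, fun i => by
        have h := g.1.det_ne_zero
        rw [hd _ g.2] at h
        exact Finset.prod_ne_zero_iff.1 h i (Finset.mem_univ i)⟩
      invFun := fun M => ⟨Matrix.GeneralLinearGroup.mkOfDetNeZero M.1 (by
        rw [hd _ M.2.1]; exact Finset.prod_ne_zero_iff.2 fun i _ => M.2.2 i), M.2.1⟩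
      left_inv := fun g => Subtype.ext (Units.ext rfl)
      right_inv := fun M => rfl }

end Cfsg.Agent.S0769
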