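import Cfsg.Statements.S0770

set_option autoImplicit false
open Cfsg

namespace Cfsg.Agent.S0770

/-- For a field with at least 3 elements, an invertible matrix normalises the subgroup of invertible diagonal matrices of GL_n if and only if it is monomial (exactly one non-zero entry in each row). -/
theorem result {F : Type*} [Field F] (hF : ∃ a : F, a ≠ 0 ∧ a ≠ 1) (n : ℕ) (g : Matrix.GeneralLinearGroup (Fin n) F) : g ∈ Subgroup.normalizer ((Units.map (Matrix.diagonalRingHom (Fin n) F).toMonoidHom).range : Subgroup (Matrix.GeneralLinearGroup (Fin n) F)) ↔ ∀ i : Fin n, ∃! j : Fin n, (g : Matrix (Fin n) (Fin n) F) i j ≠ 0 := by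
  classical
  obtain ⟨a, ha0, ha1⟩ := hF
  have hrow : ∀ i, ∃ j, (g : Matrix (Fin n) (Fin n) F) i j ≠ 0 := by
    intro i
    by_contra h
    exact g.det_ne_zero (Matrix.det_eq_zero_of_row_eq_zero i fun j => not_not.1 fun hj => h ⟨j, hj⟩)
  have hmem : ∀ x : Matrix.GeneralLinearGroup (Fin n) F,
      x ∈ (Units.map (Matrix.diagonalRingHom (Fin n) F).toMonoidHom).range ↔
        ∃ d : Fin n → F, (x : Matrix (Fin n) (Fin n) F) = Matrix.diagonal d := by
    intro x
    constructor
    · rintro ⟨u, rfl⟩
      exact ⟨u, rfl⟩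
    · rintro ⟨d, hd⟩
      have hu : IsUnit d := by
        have h := x.det_ne_zero
        rw [hd, Matrix.det_diagonal] at h
        exact Pi.isUnit_iff.2 fun i =>
          (Finset.prod_ne_zero_iff.1 h i (Finset.mem_univ i)).isUnit
      exact ⟨hu.unit, Units.ext hd.symm⟩
  rw [Subgroup.mem_normalizer_iff]
  constructor
  · intro hn i
    obtain ⟨j, hj⟩ := hrow i
    refine ⟨j, hj, fun j' hj' => ?_⟩
    by_contra hne
    obtain ⟨d, hd⟩ : ∃ d : Fin n → F, d = Function.update (1 : Fin n → F) j a := ⟨_, rfl⟩
    have hu : IsUnit d := Pi.isUnit_iff.2 fun l => by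
      rw [hd, Function.update_apply]; split_ifs
      · exact ha0.isUnit
      · exact isUnit_one
    obtain ⟨D', hD'⟩ := (hmem _).1 ((hn (Units.map (Matrix.diagonalRingHom (Fin n) F).toMonoidHom
      hu.unit)).1 ⟨hu.unit, rfl⟩)
    have e : (g : Matrix (Fin n) (Fin n) F) * Matrix.diagonal d =
        Matrix.diagonal D' * (g : Matrix (Fin n) (Fin n) F) := by
      rw [← hD']
      simp only [Units.val_mul, Matrix.mul_assoc, Units.inv_mul, Matrix.mul_one]
      rfl
    have e1 := congrFun (congrFun e i) j
    have e2 := congrFun (congrFun e i) j'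
    rw [Matrix.mul_diagonal, Matrix.diagonal_mul] at e1 e2
    rw [hd, Function.update_self] at e1
    rw [hd, Function.update_of_ne hne, Pi.one_apply, mul_one] at e2
    rw [mul_comm (D' i)] at e1 e2
    have h1 : D' i = a := (mul_left_cancel₀ hj e1).symm
    have h2 : D' i = 1 := (mul_left_cancel₀ hj' (by rw [mul_one]; exact e2)).symm
    exact ha1 (h1.symm.trans h2)
  · intro hm
    choose σ hσ hσu using hm
    have hz : ∀ i j, j ≠ σ i → (g : Matrix (Fin n) (Fin n) F) i j = 0 := fun i j hne =>
      not_not.1 fun h => hne (hσu i j h)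
    have hinj : Function.Injective σ := by
      intro i i' he
      by_contra hne
      refine g.det_ne_zero ?_
      rw [← Matrix.det_updateRow_add_smul_self (g : Matrix (Fin n) (Fin n) F) hne
        (-((g : Matrix (Fin n) (Fin n) F) i (σ i) / (g : Matrix (Fin n) (Fin n) F) i' (σ i')))]
      refine Matrix.det_eq_zero_of_row_eq_zero i fun j => ?_
      rw [Matrix.updateRow_self, Pi.add_apply, Pi.smul_apply, smul_eq_mul]
      by_cases hj : j = σ i
      · have h0 := hσ i'
        subst hj
        rw [← he] at h0 ⊢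
        field_simp
        ring
      · rw [hz i j hj, hz i' j (by rw [← he]; exact hj)]
        ring
    obtain ⟨e, he⟩ : ∃ e : Equiv.Perm (Fin n), ∀ i, e i = σ i :=
      ⟨Equiv.ofBijective σ (Finite.injective_iff_bijective.1 hinj), fun _ => rfl⟩
    have key : ∀ d : Fin n → F, (g : Matrix (Fin n) (Fin n) F) * Matrix.diagonal d =
        Matrix.diagonal (fun i => d (e i)) * (g : Matrix (Fin n) (Fin n) F) := by
      intro d
      ext i j
      rw [Matrix.mul_diagonal, Matrix.diagonal_mul]
      by_cases hj : j = σ i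
      · rw [hj, he, mul_comm]
      · rw [hz i j hj]; simp
    intro x
    rw [hmem, hmem]
    constructor
    · rintro ⟨d, hd⟩
      refine ⟨fun i => d (e i), ?_⟩
      rw [Units.val_mul, Units.val_mul, hd, key, Matrix.mul_assoc, Units.mul_inv, Matrix.mul_one]
    · rintro ⟨d, hd⟩
      refine ⟨fun j => d (e.symm j), ?_⟩
      have h := key (fun j => d (e.symm j))
      simp only [Equiv.symm_apply_apply] at h
      rw [show (x : Matrix (Fin n) (Fin n) F) =
        ((g⁻¹ : Matrix.GeneralLinearGroup (Fin n) F) : Matrix (Fin n) (Fin n) F) *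
          ((g * x * g⁻¹ : Matrix.GeneralLinearGroup (Fin n) F) : Matrix (Fin n) (Fin n) F) *
          (g : Matrix (Fin n) (Fin n) F) by
            rw [← Units.val_mul, ← Units.val_mul]; congr 1; group,
        hd, Matrix.mul_assoc, ← h, ← Matrix.mul_assoc, Units.inv_mul, Matrix.one_mul]

end Cfsg.Agent.S0770
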