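import Cfsg.Statements.S0773
import Cfsg.Agent.Forms.LinearBlocks

set_option autoImplicit false
open Cfsg

namespace Cfsg.Agent.S0773

/-- The stabilisers in GL_n(F), F finite, of the coordinate subspaces of dimensions k and n − k are isomorphic groups, but when 2k ≠ n (and 0 < k < n) no element of GL_n conjugates one onto the other. -/
theorem result {F : Type*} [Field F] [Finite F] (n k : ℕ) (hk0 : 0 < k) (hkn : k < n) (h2 : 2 * k ≠ n) : Nonempty (↥(Cfsg.stabilizing (Cfsg.glToMat (Fin n) F) {v : Fin n → F | ∀ i : Fin n, k ≤ (i : ℕ) → v i = 0}) ≃* ↥(Cfsg.stabilizing (Cfsg.glToMat (Fin n) F) {v : Fin n → F | ∀ i : Fin n, n - k ≤ (i : ℕ) → v i = 0})) ∧ ∀ g : Matrix.GeneralLinearGroup (Fin n) F, (Cfsg.stabilizing (Cfsg.glToMat (Fin n) F) {v : Fin n → F | ∀ i : Fin n, k ≤ (i : ℕ) → v i = 0}).map (MulAut.conj g).toMonoidHom ≠ Cfsg.stabilizing (Cfsg.glToMat (Fin n) F) {v : Fin n → F | ∀ i : Fin n, n - k ≤ (i : ℕ) → v i = 0} := by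
  refine ⟨⟨((CfsgLib.Forms.dualRevEquiv n F).subgroupMap _).trans
    (MulEquiv.subgroupCongr (le_antisymm ?_ ?_))⟩, fun g hg => ?_⟩
  · rintro _ ⟨x, hx, rfl⟩
    exact CfsgLib.Forms.dualRev_mem_stab hkn.le hx
  · intro x hx
    refine ⟨CfsgLib.Forms.dualRev n F x, ?_, (CfsgLib.Forms.dualRevEquiv n F).left_inv x⟩
    have h := CfsgLib.Forms.dualRev_mem_stab (by omega : n - k ≤ n) hx
    rw [show n - (n - k) = k by omega] at h
    exact h
  · obtain ⟨W, hW⟩ : ∃ W, W = (CfsgLib.Forms.coordSub F n k).map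
        (g : Matrix (Fin n) (Fin n) F).mulVecLin := ⟨_, rfl⟩
    have hg' : Cfsg.Geo.subspaceStabilizer W =
        Cfsg.Geo.subspaceStabilizer (CfsgLib.Forms.coordSub F n (n - k)) := by
      rw [hW, ← CfsgLib.Forms.map_conj_stab]; exact hg
    have heq := CfsgLib.Forms.eq_of_stab_le hg'.le
      (CfsgLib.Forms.coordSub_ne_bot (by omega) (by omega))
      (CfsgLib.Forms.coordSub_ne_top (by omega))
    have h1 := congrArg (fun U : Submodule F (Fin n → F) => Module.finrank F U) heq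
    beta_reduce at h1
    rw [hW] at h1
    rw [← (Submodule.equivMapOfInjective _ (Matrix.mulVec_injective_iff_isUnit.2 g.isUnit)
      _).finrank_eq, CfsgLib.Forms.finrank_coordSub hkn.le,
      CfsgLib.Forms.finrank_coordSub (by omega)] at h1
    omega

end Cfsg.Agent.S0773
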