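import Cfsg.Statements.S0775
import Cfsg.Agent.Forms.SymplecticOrder

set_option autoImplicit false
open Cfsg

namespace Cfsg.Agent.S0775

/-- Maximal parabolics of the symplectic group: if W is a k-dimensional subspace of F^(2m) on which the symplectic form vanishes identically, its stabiliser in Sp_2m(q) has order q^(k(k+1)/2 + 2k(m−k)) · |Sp_(2m−2k)(q)| · |GL_k(q)|. -/
theorem result {F : Type*} [Field F] [Fintype F] {q : ℕ} (hF : Fintype.card F = q) (m k : ℕ) (hk : k ≤ m) (W : Submodule F (Fin m ⊕ Fin m → F)) (hWk : Module.finrank F W = k) (hW : ∀ u ∈ W, ∀ v ∈ W, Cfsg.sympForm m F u v = 0) : Nat.card ↥(Cfsg.stabilizing (Cfsg.spToMat m F) (W : Set (Fin m ⊕ Fin m → F))) = q ^ (k * (k + 1) / 2 + 2 * k * (m - k)) * (q ^ ((m - k) ^ 2) * ∏ i ∈ Finset.range (m - k), (q ^ (2 * (i + 1)) - 1)) * ∏ i : Fin k, (q ^ k - q ^ (i : ℕ)) := by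
  obtain ⟨d, rfl⟩ : ∃ d, m = d + k := ⟨m - k, by omega⟩
  rw [Nat.add_sub_cancel]
  have hq : 2 ≤ q := hF ▸ Fintype.one_lt_card
  have hcongr : Nat.card ↥(Cfsg.stabilizing (Cfsg.spToMat (d + k) F)
      (W : Set (Fin (d + k) ⊕ Fin (d + k) → F))) =
      Nat.card (CfsgLib.Forms.stabSubmodule (CfsgLib.Forms.sympBilin (d + k) F) W) :=
    Nat.card_congr (Equiv.subtypeEquiv (CfsgLib.Forms.spEquivIso (d + k) F).toEquiv
      fun A => ⟨fun h x => (h x).symm, fun h x => (h x).symm⟩)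
  rw [hcongr]
  have h := CfsgLib.Forms.card_stab_isotropic_mul (CfsgLib.Forms.sympBilin (d + k) F)
    CfsgLib.Forms.sympBilin_isAlt (fun x hx => CfsgLib.Forms.sympBilin_nondegenerate.1 x hx) W hWk
    (fun u hu v hv => by rw [CfsgLib.Forms.sympBilin_apply]; exact hW u hu v hv)
  rw [CfsgLib.Forms.card_isoGroup_alt (CfsgLib.Forms.sympBilin (d + k) F)
    CfsgLib.Forms.sympBilin_isAlt (fun x hx => CfsgLib.Forms.sympBilin_nondegenerate.1 x hx)
    (CfsgLib.Forms.finrank_sympSpace (d + k)), CfsgLib.Forms.finrank_sympSpace, hF] at h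
  have e1 : ∏ i ∈ Finset.range k, (q ^ (2 * (d + k) - i) - q ^ i) =
      q ^ (∑ i ∈ Finset.range k, i) *
        ∏ j ∈ Finset.range k, (q ^ (2 * (d + j + 1)) - 1) := by
    rw [← Finset.prod_pow_eq_pow_sum, ← Finset.prod_range_reflect (fun j => q ^ (2 * (d + j + 1)) - 1) k,
      ← Finset.prod_mul_distrib]
    refine Finset.prod_congr rfl fun i hi => ?_
    rw [Finset.mem_range] at hi
    rw [Nat.mul_sub, mul_one, ← pow_add]
    congr 2
    omega
  have hpos : 0 < ∏ i ∈ Finset.range k, (q ^ (2 * (d + k) - i) - q ^ i) :=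
    Finset.prod_pos fun i hi => Nat.sub_pos_of_lt (Nat.pow_lt_pow_right (by omega)
      (by rw [Finset.mem_range] at hi; omega))
  refine Nat.eq_of_mul_eq_mul_right hpos (h.trans ?_)
  rw [e1, Finset.prod_range_add]
  have hexp : (d + k) ^ 2 = k * (k + 1) / 2 + 2 * k * d + d ^ 2 + ∑ i ∈ Finset.range k, i := by
    have h2 := Finset.sum_range_id_mul_two k
    have h3 : k * (k + 1) / 2 = (∑ i ∈ Finset.range k, i) + k := by
      rw [← Finset.sum_range_succ (fun i => i) k, Finset.sum_range_id, Nat.add_sub_cancel,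
        mul_comm]
    have h4 : k * (k - 1) + k = k ^ 2 := by cases k <;> simp; ring
    rw [h3]
    nlinarith
  rw [hexp, pow_add, pow_add, pow_add]
  ring

end Cfsg.Agent.S0775
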