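import Cfsg.Statements.S0776
import Cfsg.Agent.Forms.SymplecticOrder

set_option autoImplicit false
open Cfsg

namespace Cfsg.Agent.S0776

/-- If W ≤ F^(2m) is a 2k-dimensional subspace on which the symplectic form is non-degenerate, then the stabiliser of W in Sp_2m(F) is isomorphic to Sp_2k(F) × Sp_(2m−2k)(F). -/
theorem result {F : Type*} [Field F] (m k : ℕ) (hk : k ≤ m) (W : Submodule F (Fin m ⊕ Fin m → F)) (hWk : Module.finrank F W = 2 * k) (hW : ∀ u ∈ W, (∀ v ∈ W, Cfsg.sympForm m F u v = 0) → u = 0) : Nonempty (↥(Cfsg.stabilizing (Cfsg.spToMat m F) (W : Set (Fin m ⊕ Fin m → F))) ≃* Matrix.symplecticGroup (Fin k) F × Matrix.symplecticGroup (Fin (m - k)) F) := by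
  let B := CfsgLib.Forms.sympBilin m F
  have hA : B.IsAlt := CfsgLib.Forms.sympBilin_isAlt
  have hrefl : LinearMap.BilinForm.IsRefl B := CfsgLib.Forms.alt_symm hA
  let P := LinearMap.BilinForm.orthogonal B W
  have hc : IsCompl W P := by
    apply (LinearMap.BilinForm.isCompl_orthogonal_iff_disjoint hrefl).2
    rw [disjoint_iff, eq_bot_iff]
    intro x hx
    refine hW x hx.1 fun v hv => ?_
    rw [← CfsgLib.Forms.sympBilin_apply]
    exact hrefl _ _ (hx.2 v hv)
  have hP : ∀ v, v ∈ P ↔ ∀ x ∈ W, B x v = 0 := fun v => Iff.rfl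
  have hWn : ∀ x : W, (∀ y : W, CfsgLib.Forms.restrictForm B W x y = 0) → x = 0 := fun x hx =>
    Subtype.ext (hW x x.2 fun v hv => by rw [← CfsgLib.Forms.sympBilin_apply]; exact hx ⟨v, hv⟩)
  have hPn : ∀ x : P, (∀ y : P, CfsgLib.Forms.restrictForm B P x y = 0) → x = 0 := by
    intro x hx
    apply Subtype.ext
    apply CfsgLib.Forms.sympBilin_nondegenerate.1
    intro z
    obtain ⟨p, rfl⟩ := (Submodule.prodEquivOfIsCompl W P hc).surjective z
    show B (x : Fin m ⊕ Fin m → F) ((p.1 : Fin m ⊕ Fin m → F) + p.2) = 0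
    rw [map_add, hrefl _ _ (x.2 _ p.1.2), zero_add]
    exact hx p.2
  have hPd : Module.finrank F P = 2 * (m - k) := by
    have h := Submodule.finrank_add_eq_of_isCompl hc
    rw [CfsgLib.Forms.finrank_sympSpace, hWk] at h
    omega
  obtain ⟨e₁⟩ := CfsgLib.Forms.nonempty_isoGroup_alt_equiv_sp (CfsgLib.Forms.restrictForm B W)
    (fun x => hA x) hWn hWk
  obtain ⟨e₂⟩ := CfsgLib.Forms.nonempty_isoGroup_alt_equiv_sp (CfsgLib.Forms.restrictForm B P)
    (fun x => hA x) hPn hPd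
  let e₀ : ↥(Cfsg.stabilizing (Cfsg.spToMat m F) (W : Set (Fin m ⊕ Fin m → F))) ≃*
      CfsgLib.Forms.stabSubmodule B W :=
    { Equiv.subtypeEquiv (CfsgLib.Forms.spEquivIso m F).toEquiv
        (fun A => ⟨fun h x => (h x).symm, fun h x => (h x).symm⟩) with
      map_mul' := fun a b => Subtype.ext (map_mul (CfsgLib.Forms.spEquivIso m F) a.1 b.1) }
  exact ⟨e₀.trans ((CfsgLib.Forms.stabEquivProd hc hP hrefl).trans (e₁.prodCongr e₂))⟩

end Cfsg.Agent.S0776
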