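import Cfsg.Statements.S0779
import Cfsg.Agent.Forms.UnitaryTransvections

set_option autoImplicit false
open Cfsg

namespace Cfsg.Agent.S0779

open CfsgLib.RepBounds.Unit


/-- Unitary transvections: let |F| = q², h the standard Hermitian form Σ x_i y_i^q and v ≠ 0 with h(v, v) = 0. The linear map x ↦ x + c h(x, v) v is an isometry of h if and only if c = 0 or c^(q−1) = −1. -/
theorem result {F : Type*} [Field F] [Fintype F] {q : ℕ} (hF : Fintype.card F = q ^ 2) (n : ℕ) (v : Fin n → F) (hv : v ≠ 0) (hv0 : Cfsg.hermForm n F q v v = 0) (c : F) : (∀ x y : Fin n → F, Cfsg.hermForm n F q ((Cfsg.unitaryTransvection n q v c).mulVec x) ((Cfsg.unitaryTransvection n q v c).mulVec y) = Cfsg.hermForm n F q x y) ↔ (c = 0 ∨ c ^ (q - 1) = -1) := by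
  obtain ⟨C, rfl⟩ := exists_conjField q hF
  have hq := C.two_le
  simp only [hermForm_eq, unitaryTransvection_mulVec] at hv0 ⊢
  have key : c ∈ C.skew ↔ (c = 0 ∨ c ^ (C.q - 1) = -1) := by
    rw [C.mem_skew, C.pow]
    rcases eq_or_ne c 0 with rfl | hc
    · simp [zero_pow (show C.q ≠ 0 by omega)]
    · rw [or_iff_right hc, ← eq_neg_iff_add_eq_zero]
      constructor
      · intro h
        apply mul_right_cancel₀ hc
        rw [← pow_succ, Nat.sub_add_cancel (by omega : 1 ≤ C.q)]
        linear_combination h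
      · intro h
        rw [← Nat.sub_add_cancel (by omega : 1 ≤ C.q), pow_succ, h, neg_one_mul, neg_neg]
  rw [← key]
  refine ⟨skew_of_isometry C hv hv0, fun hc x y => ?_⟩
  rw [← isTransv_transvEl C v c hv0 hc x, ← isTransv_transvEl C v c hv0 hc y, herm_app]

end Cfsg.Agent.S0779
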