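import Cfsg.Statements.S0781
import Cfsg.Agent.Forms.UnitaryTransvections

set_option autoImplicit false
open Cfsg Matrix

namespace Cfsg.Agent.S0781

open CfsgLib.RepBounds.Unit

theorem mem_of_transv {F : Type*} [Field F] [Fintype F] (C : ConjField F) {κ : Type*} [Fintype κ]
    [DecidableEq κ] [Nonempty κ] (g : suG C (Fin 2 ⊕ κ)) {v : Fin 2 ⊕ κ → F} {c : F}
    (h : IsTransv C g v c) (hv0 : herm C v v = 0) : g ∈ commutatorSet (suG C (Fin 2 ⊕ κ)) := by
  by_cases hv : v = 0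
  · have : g = 1 := suG_ext C fun x => by rw [h x, hv, smul_zero, add_zero, app_one]
    rw [this]
    exact ⟨1, 1, by simp⟩
  have hc : c ∈ C.skew := skew_of_isometry C hv hv0 fun x y => by rw [← h x, ← h y, herm_app]
  obtain ⟨k, hk⟩ := exists_conj_central C h hv0 hv hc
  obtain ⟨B, D, hBD⟩ := uniEl_central_mem_commutatorSet C (κ := κ) hc
  refine ⟨k⁻¹ * B * k, k⁻¹ * D * k, ?_⟩
  rw [← hk, commutatorElement_def] at hBD
  rw [commutatorElement_def, show g = k⁻¹ * (k * g * k⁻¹) * k by group, ← hBD]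
  group


/-- In SU_n(q) with n ≥ 4, or n = 3 and q > 2, every element whose matrix is a unitary transvection x ↦ x + c h(x, v) v (v isotropic) is a commutator ⁅B, C⁆ of two elements of SU_n(q). -/
theorem result {F : Type*} [Field F] [Fintype F] {q : ℕ} (hF : Fintype.card F = q ^ 2) (n : ℕ) (hn : 4 ≤ n ∨ (n = 3 ∧ 3 ≤ q)) (A : ↥(Cfsg.SU n F q)) (v : Fin n → F) (c : F) (hv0 : Cfsg.hermForm n F q v v = 0) (hA : ((A : Matrix.SpecialLinearGroup (Fin n) F) : Matrix (Fin n) (Fin n) F) = Cfsg.unitaryTransvection n q v c) : A ∈ commutatorSet ↥(Cfsg.SU n F q) := by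
  obtain ⟨C, rfl⟩ := exists_conjField q hF
  obtain ⟨m, rfl⟩ : ∃ m, n = 2 + (m + 1) := ⟨n - 3, by omega⟩
  let E := MulEquiv.subgroupCongr (suG_fin_eq C (2 + (m + 1)))
  let R := reindexHom C (finSumFinEquiv.symm : Fin (2 + (m + 1)) ≃ Fin 2 ⊕ Fin (m + 1))
  let R' := reindexHom C (finSumFinEquiv : Fin 2 ⊕ Fin (m + 1) ≃ Fin (2 + (m + 1)))
  have ht : IsTransv C (E.symm A) v c := fun x => by
    show (A : Matrix.SpecialLinearGroup _ F).1 *ᵥ x = _
    rw [hA, unitaryTransvection_mulVec]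
  obtain ⟨B, D, hBD⟩ := mem_of_transv C (R (E.symm A)) (ht.reindexHom C finSumFinEquiv.symm) (by
    rw [hermForm_eq] at hv0
    exact (Equiv.sum_comp finSumFinEquiv fun i => v i * C.σ (v i)).trans hv0)
  have hRR : R' (R (E.symm A)) = E.symm A := suG_ext C fun x => by
    rw [app_reindexHom, app_reindexHom]
    simp [Function.comp_def]
  refine ⟨E (R' B), E (R' D), ?_⟩
  have h := congrArg (fun g => E (R' g)) hBD
  simp only [map_commutatorElement, hRR, MulEquiv.apply_symm_apply] at h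
  exact h

end Cfsg.Agent.S0781
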