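import Cfsg.Statements.S0783
import Cfsg.Agent.Forms.UnitaryOrder

set_option autoImplicit false
open Cfsg

namespace Cfsg.Agent.S0783

/-- PGU_n(q)/PSU_n(q) is cyclic of order (n, q+1): for n ≥ 2 and |F| = q² there is a surjective homomorphism from GU_n(q) onto the cyclic group of order gcd(n, q + 1) whose kernel is generated by the determinant-one elements together with the centre. -/
theorem result {F : Type*} [Field F] [Fintype F] {q : ℕ} (hF : Fintype.card F = q ^ 2) (n : ℕ) (hn : 2 ≤ n) : ∃ φ : ↥(Cfsg.GU n F q) →* Multiplicative (ZMod (Nat.gcd n (q + 1))), Function.Surjective φ ∧ φ.ker = (Matrix.GeneralLinearGroup.det : Matrix.GeneralLinearGroup (Fin n) F →* Fˣ).ker.subgroupOf (Cfsg.GU n F q) ⊔ Subgroup.center ↥(Cfsg.GU n F q) := by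
  classical
  obtain ⟨σ, hσ, hσ2⟩ := CfsgLib.FieldEmb.exists_conj hF
  have hq := CfsgLib.Forms.two_le_q hF
  let D : ↥(Cfsg.GU n F q) →* Fˣ :=
    Matrix.GeneralLinearGroup.det.comp (Cfsg.GU n F q).subtype
  have hnorm : ∀ x : F, x * σ x = x ^ (q + 1) := fun x => by rw [hσ, pow_succ, mul_comm]
  -- diagonal unitary matrices
  have hdiag : ∀ d : Fin n → Fˣ, (∀ i, (d i : F) ^ (q + 1) = 1) →
      ∃ g : ↥(Cfsg.GU n F q),
        ((g : GL (Fin n) F) : Matrix (Fin n) (Fin n) F) = Matrix.diagonal (fun i => (d i : F)) := by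
    intro d hd
    refine ⟨⟨⟨Matrix.diagonal fun i => (d i : F), Matrix.diagonal fun i => ((d i)⁻¹ : Fˣ),
      by simp [Matrix.diagonal_mul_diagonal], by simp [Matrix.diagonal_mul_diagonal]⟩,
      fun u v => ?_⟩, rfl⟩
    show ∑ i, _ * _ ^ q = ∑ i, _
    refine Finset.sum_congr rfl fun i _ => ?_
    simp only [Units.coeHom_apply, Matrix.mulVec_diagonal, mul_pow]
    have := hd i
    rw [pow_succ] at this
    linear_combination (u i * v i ^ q) * this
  have hperm : ∀ s : Equiv.Perm (Fin n), ∃ g : ↥(Cfsg.GU n F q),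
      ((g : GL (Fin n) F) : Matrix (Fin n) (Fin n) F) = s.permMatrix F := by
    intro s
    refine ⟨⟨⟨s.permMatrix F, s⁻¹.permMatrix F, by rw [← Matrix.permMatrix_mul]; simp,
      by rw [← Matrix.permMatrix_mul]; simp⟩, fun u v => ?_⟩, rfl⟩
    show ∑ i, _ * _ ^ q = ∑ i, _
    simp only [Units.coeHom_apply, Matrix.permMatrix_mulVec, Function.comp_apply]
    exact Equiv.sum_comp s (fun i => u i * v i ^ q)
  have hDrange : ∀ c : Fˣ, c ∈ D.range ↔ c ^ (q + 1) = 1 := by
    intro c
    constructor
    · rintro ⟨g, rfl⟩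
      ext
      rw [Units.val_pow_eq_pow_val, ← hnorm, Units.val_one]
      have h := CfsgLib.Forms.isoDet_norm σ n (CfsgLib.Forms.guEquivIso hσ n g)
      rw [CfsgLib.Forms.isoDet_guEquivIso] at h
      exact h
    · intro hc
      obtain ⟨g, hg⟩ := hdiag (fun i => if i = ⟨0, by omega⟩ then c else 1) (fun i => by
        split_ifs
        · rw [← Units.val_pow_eq_pow_val, hc, Units.val_one]
        · simp)
      refine ⟨g, Units.ext ?_⟩
      show ((g : GL (Fin n) F) : Matrix (Fin n) (Fin n) F).det = _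
      rw [hg, Matrix.det_diagonal, Finset.prod_eq_single (⟨0, by omega⟩ : Fin n)]
      · simp
      · intro i _ hi; simp [hi]
      · simp
  obtain ⟨R, hR⟩ : ∃ R : Subgroup Fˣ, R = (powMonoidHom (q + 1) : Fˣ →* Fˣ).ker := ⟨_, rfl⟩
  have hmemR : ∀ c : Fˣ, c ∈ R ↔ c ^ (q + 1) = 1 := fun c => by rw [hR]; rfl
  have hRcard : Nat.card R = q + 1 := by
    rw [hR, IsCyclic.card_powMonoidHom_ker, Nat.card_units, Nat.card_eq_fintype_card, hF, sq,
      show q * q - 1 = (q + 1) * (q - 1) from Nat.mul_self_sub_mul_self_eq q 1]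
    exact Nat.gcd_eq_right (dvd_mul_right _ _)
  let D' : ↥(Cfsg.GU n F q) →* R :=
    D.codRestrict R fun g => (hmemR _).2 ((hDrange _).1 ⟨g, rfl⟩)
  have hD' : Function.Surjective D' := by
    intro c
    obtain ⟨g, hg⟩ := (hDrange c.1).2 ((hmemR _).1 c.2)
    exact ⟨g, Subtype.ext hg⟩
  let N : Subgroup R := (powMonoidHom n : R →* R).range
  have hN : Nat.card (R ⧸ N) = Nat.card (Multiplicative (ZMod (Nat.gcd n (q + 1)))) := by
    rw [Nat.card_congr Multiplicative.toAdd, Nat.card_zmod, ← Subgroup.index_eq_card,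
      IsCyclic.index_powMonoidHom_range, hRcard, Nat.gcd_comm]
  haveI : IsCyclic (R ⧸ N) :=
    isCyclic_of_surjective (QuotientGroup.mk' N) (QuotientGroup.mk'_surjective N)
  let e : R ⧸ N ≃* Multiplicative (ZMod (Nat.gcd n (q + 1))) := mulEquivOfCyclicCardEq hN
  refine ⟨e.toMonoidHom.comp ((QuotientGroup.mk' N).comp D'),
    e.surjective.comp ((QuotientGroup.mk'_surjective N).comp hD'), ?_⟩
  have hker : ∀ g, g ∈ (e.toMonoidHom.comp ((QuotientGroup.mk' N).comp D')).ker ↔ D' g ∈ N := by
    intro g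
    rw [MonoidHom.mem_ker]
    simp
  apply le_antisymm
  · intro g hg
    obtain ⟨c, hc⟩ := (hker g).1 hg
    have hc1 : (c.1 : F) ^ (q + 1) = 1 := by
      rw [← Units.val_pow_eq_pow_val, (hmemR _).1 c.2, Units.val_one]
    obtain ⟨z, hz⟩ := hdiag (fun _ => c.1) (fun _ => hc1)
    have hzc : z ∈ Subgroup.center ↥(Cfsg.GU n F q) := by
      rw [Subgroup.mem_center_iff]
      intro a
      apply Subtype.ext; apply Units.ext
      show ((a : GL (Fin n) F) : Matrix (Fin n) (Fin n) F) * _ = _ * _
      rw [hz]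
      ext i j
      simp [Matrix.mul_diagonal, Matrix.diagonal_mul, mul_comm]
    have hdz : D z = D g := by
      have hc' : ((c ^ n : R) : Fˣ) = D g := congrArg Subtype.val hc
      rw [← hc']
      refine Units.ext ?_
      show ((z : GL (Fin n) F) : Matrix (Fin n) (Fin n) F).det = _
      rw [hz, Matrix.det_diagonal, Finset.prod_const, Finset.card_univ, Fintype.card_fin]
      simp
    rw [show g = g * z⁻¹ * z by rw [inv_mul_cancel_right]]
    refine Subgroup.mul_mem_sup ?_ hzc
    show D (g * z⁻¹) = 1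
    rw [map_mul, map_inv, hdz, mul_inv_cancel]
  · refine sup_le ?_ ?_
    · intro g hg
      rw [hker, show D' g = 1 from Subtype.ext hg]
      exact one_mem N
    · intro z hz
      rw [hker]
      obtain ⟨M, hM⟩ : ∃ M, M = ((z : GL (Fin n) F) : Matrix (Fin n) (Fin n) F) := ⟨_, rfl⟩
      have hcomm : ∀ g : ↥(Cfsg.GU n F q),
          ((g : GL (Fin n) F) : Matrix (Fin n) (Fin n) F) * M = M * (g : GL (Fin n) F) := by
        intro g
        have h := congrArg (fun a : ↥(Cfsg.GU n F q) =>
          ((a : GL (Fin n) F) : Matrix (Fin n) (Fin n) F)) (Subgroup.mem_center_iff.1 hz g)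
        rw [hM]
        exact h
      obtain ⟨t, ht, ht1⟩ : ∃ t : Fˣ, t ^ (q + 1) = 1 ∧ t ≠ 1 := by
        haveI : Nontrivial R := Finite.one_lt_card_iff_nontrivial.1 (by omega)
        obtain ⟨t, ht⟩ := exists_ne (1 : R)
        exact ⟨t.1, (hmemR _).1 t.2, fun h => ht (Subtype.ext h)⟩
      have hoff : ∀ i j, i ≠ j → M i j = 0 := by
        intro i j hij
        obtain ⟨g, hg⟩ := hdiag (fun l => if l = i then t else 1) (fun l => by
          split_ifs
          · rw [← Units.val_pow_eq_pow_val, ht, Units.val_one]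
          · simp)
        have h := congrFun (congrFun (hcomm g) i) j
        rw [hg, Matrix.diagonal_mul, Matrix.mul_diagonal] at h
        simp only [if_pos, if_neg hij.symm, Units.val_one, mul_one] at h
        have h' : ((t : F) - 1) * M i j = 0 := by linear_combination h
        rcases mul_eq_zero.1 h' with h'' | h''
        · exact absurd (Units.ext (sub_eq_zero.1 h'')) ht1
        · exact h''
      have heq : ∀ i, M i i = M ⟨0, by omega⟩ ⟨0, by omega⟩ := by
        intro i
        obtain ⟨g, hg⟩ := hperm (Equiv.swap i ⟨0, by omega⟩)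
        have h := congrFun (congrArg (fun A : Matrix (Fin n) (Fin n) F =>
          A.mulVec (Pi.single (⟨0, by omega⟩ : Fin n) 1)) (hcomm g)) i
        simp only [← Matrix.mulVec_mulVec, hg, Matrix.permMatrix_mulVec] at h
        rw [show (Pi.single (⟨0, by omega⟩ : Fin n) (1 : F)) ∘ ⇑(Equiv.swap i ⟨0, by omega⟩) =
          Pi.single i 1 from funext fun j => by
            simp only [Function.comp_apply, Pi.single_apply]
            congr 1
            rw [Equiv.swap_apply_eq_iff, Equiv.swap_apply_right]] at h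
        simp only [Matrix.mulVec_single_one, Function.comp_apply, Equiv.swap_apply_left,
          Matrix.col_apply] at h
        exact h.symm
      have hMd : M = Matrix.diagonal fun _ => M ⟨0, by omega⟩ ⟨0, by omega⟩ := by
        ext i j
        by_cases hij : i = j
        · subst hij; simp [heq i]
        · simp [hij, hoff i j hij]
      obtain ⟨a, ha⟩ : ∃ a : Fˣ, (a : F) = M ⟨0, by omega⟩ ⟨0, by omega⟩ := by
        refine ⟨Units.mk0 _ fun h => ?_, rfl⟩
        have hz' := ((z : GL (Fin n) F)).isUnit.map Matrix.detMonoidHom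
        simp only [Matrix.coe_detMonoidHom, ← hM] at hz'
        rw [hMd, h, Matrix.det_diagonal, Finset.prod_const, Finset.card_univ, Fintype.card_fin,
          zero_pow (by omega)] at hz'
        exact not_isUnit_zero hz'
      have haR : a ∈ R := by
        rw [hmemR]
        ext
        have h := z.2 (Pi.single ⟨0, by omega⟩ 1) (Pi.single ⟨0, by omega⟩ 1)
        rw [Units.coeHom_apply, ← hM, hMd, ← ha] at h
        simp [Cfsg.hermForm, Matrix.mulVec_diagonal, Pi.single_apply] at h
        rw [Units.val_pow_eq_pow_val, pow_succ', Units.val_one]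
        simpa [show q ≠ 0 by omega] using h
      refine ⟨⟨a, haR⟩, Subtype.ext (Units.ext ?_)⟩
      show ((a ^ n : Fˣ) : F) = ((z : GL (Fin n) F) : Matrix (Fin n) (Fin n) F).det
      rw [← hM, hMd, Matrix.det_diagonal, Finset.prod_const, Finset.card_univ, Fintype.card_fin,
        ← ha, Units.val_pow_eq_pow_val]

end Cfsg.Agent.S0783
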