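import Cfsg.Statements.S0796

set_option autoImplicit false
open Cfsg

namespace Cfsg.Agent.S0796

/-- If G is finite and acts faithfully and primitively on X, H is the stabiliser of a point, A is a normal subgroup of H whose normal closure in G is G, then for every non-trivial normal subgroup K of G the quotient G ⧸ K is isomorphic to A ⧸ B for some normal subgroup B of A. -/
theorem result {G X : Type*} [Group G] [Finite G] [MulAction G X] [FaithfulSMul G X] (hprim : MulAction.IsPreprimitive G X) (x : X) (A : Subgroup G) (hA : A ≤ MulAction.stabilizer G x) (hAn : (A.subgroupOf (MulAction.stabilizer G x)).Normal) (hgen : Subgroup.normalClosure (A : Set G) = ⊤) (K : Subgroup G) [K.Normal] (hK : K ≠ ⊥) : ∃ (B : Subgroup A) (_ : B.Normal), Nonempty (G ⧸ K ≃* A ⧸ B) := by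
  haveI := hprim
  haveI : MulAction.IsPretransitive K X := MulAction.IsQuasiPreprimitive.isPretransitive_of_normal
    (fun h => hK ((Subgroup.eq_bot_iff_forall K).2 fun k hk => eq_of_smul_eq_smul fun y : X => by
      have h' : y ∈ MulAction.fixedPoints K X := by rw [h]; exact Set.mem_univ y
      rw [one_smul]; exact h' ⟨k, hk⟩))
  have htop : K ⊔ A = ⊤ := by
    rw [eq_top_iff, ← hgen, Subgroup.normalClosure, Subgroup.closure_le]
    intro g hg
    obtain ⟨a, ha, hc⟩ := Group.mem_conjugatesOfSet_iff.1 hg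
    obtain ⟨c, rfl⟩ := isConj_iff.1 hc
    obtain ⟨k, hk⟩ := MulAction.exists_smul_eq K x (c • x)
    have hh : (k : G)⁻¹ * c ∈ MulAction.stabilizer G x := by
      rw [MulAction.mem_stabilizer_iff, mul_smul, ← hk, Subgroup.smul_def, inv_smul_smul]
    have ha' : ((k : G)⁻¹ * c) * a * ((k : G)⁻¹ * c)⁻¹ ∈ A :=
      hAn.conj_mem ⟨a, hA ha⟩ ha ⟨_, hh⟩
    rw [show c * a * c⁻¹ =
      (k : G) * (((k : G)⁻¹ * c) * a * ((k : G)⁻¹ * c)⁻¹) * (k : G)⁻¹ by group]
    exact mul_mem (mul_mem (Subgroup.mem_sup_left k.2) (Subgroup.mem_sup_right ha'))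
      (inv_mem (Subgroup.mem_sup_left k.2))
  obtain ⟨φ, hφ⟩ : ∃ φ : A →* G ⧸ K, φ = (QuotientGroup.mk' K).comp A.subtype := ⟨_, rfl⟩
  have hs : Function.Surjective φ := fun y => by
    obtain ⟨g, rfl⟩ := QuotientGroup.mk'_surjective K y
    have hg : g ∈ K ⊔ A := htop ▸ Subgroup.mem_top g
    rw [Subgroup.mem_sup_of_normal_left] at hg
    obtain ⟨k, hk, a, ha, rfl⟩ := hg
    exact ⟨⟨a, ha⟩, by rw [hφ, map_mul, show QuotientGroup.mk' K k = 1 from
      (QuotientGroup.eq_one_iff k).2 hk, one_mul]; rfl⟩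
  exact ⟨φ.ker, inferInstance, ⟨(QuotientGroup.quotientKerEquivOfSurjective φ hs).symm⟩⟩

end Cfsg.Agent.S0796
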