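import Cfsg.Statements.S0800
import Cfsg.Agent.SL2Trace.Order

set_option autoImplicit false
open Cfsg

namespace Cfsg.Agent.S0800

/-- Tori of SL_2(q): if g ∈ SL_2(q) has order coprime to the characteristic p, then the order of g divides q − 1 or q + 1. -/
theorem result {F : Type*} [Field F] [Fintype F] {q : ℕ} (hF : Fintype.card F = q) (p : ℕ) [Fact p.Prime] [CharP F p] (g : Matrix.SpecialLinearGroup (Fin 2) F) (hg : Nat.Coprime (orderOf g) p) : orderOf g ∣ q - 1 ∨ orderOf g ∣ q + 1 := by
  subst hF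
  obtain ⟨t, ht⟩ : ∃ t, t = Matrix.trace (g : Matrix (Fin 2) (Fin 2) F) := ⟨_, rfl⟩
  by_cases h4 : t ^ 2 = 4
  · have h := CfsgLib.SL2Trace.proj_pow_char_eq_one p g (by rw [← ht]; exact h4)
    rw [CfsgLib.SL2Trace.proj, ← QuotientGroup.mk_pow, ← CfsgLib.SL2Trace.proj,
      CfsgLib.SL2Trace.proj_eq_one_iff] at h
    rcases eq_or_ne p 2 with rfl | hp
    · left
      have h1 : g ^ 2 = 1 := by
        rcases h with h | h
        · exact h
        · rw [h]
          ext i j
          simp [CharTwo.neg_eq]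
      have := orderOf_dvd_of_pow_eq_one h1
      rcases (Nat.dvd_prime Nat.prime_two).1 this with h | h
      · rw [h]; exact one_dvd _
      · rw [h] at hg; norm_num at hg
    · left
      have h1 : g ^ (p * 2) = 1 := by
        rw [pow_mul]
        rcases h with h | h <;> rw [h] <;> simp
      have h2 : orderOf g ∣ 2 :=
        hg.dvd_of_dvd_mul_left (orderOf_dvd_of_pow_eq_one h1)
      refine h2.trans ?_
      have hodd : Fintype.card F % 2 = 1 := FiniteField.odd_card_of_char_ne_two (by
        rw [ringChar.eq F p]; exact hp)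
      omega
  · by_cases hl : ∃ l : F, l ^ 2 - t * l + 1 = 0
    · obtain ⟨l, hl⟩ := hl
      exact Or.inl (orderOf_dvd_of_pow_eq_one (CfsgLib.SL2Trace.pow_card_sub_one g t l ht.symm hl h4))
    · exact Or.inr (orderOf_dvd_of_pow_eq_one
        (CfsgLib.SL2Trace.pow_card_add_one g t ht.symm fun l h => hl ⟨l, h⟩))

end Cfsg.Agent.S0800
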