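import Cfsg.Statements.S0806
import Cfsg.Agent.DicksonPSL2.ElementOrders

set_option autoImplicit false
open Cfsg

namespace Cfsg.Agent.S0806

open CfsgLib.DicksonPSL2

/-- Minimal index (Galois): if q ∉ {2, 3, 5, 7, 9, 11} then every proper subgroup of PSL_2(q) has index ≥ q + 1, and some subgroup has index exactly q + 1. -/
theorem result {F : Type*} [Field F] [Fintype F] {q : ℕ} (hF : Fintype.card F = q) (hq : q ∉ ({2, 3, 5, 7, 9, 11} : Finset ℕ)) : (∀ H : Subgroup (Matrix.ProjectiveSpecialLinearGroup (Fin 2) F), H ≠ ⊤ → q + 1 ≤ H.index) ∧ ∃ H : Subgroup (Matrix.ProjectiveSpecialLinearGroup (Fin 2) F), H.index = q + 1 := by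
  subst hF
  obtain ⟨p, hpc⟩ := CharP.exists F
  haveI : Fact p.Prime := ⟨CharP.char_is_prime F p⟩
  simp only [Finset.mem_insert, Finset.mem_singleton, not_or] at hq
  refine ⟨fun H hH => ?_, ⟨BP, index_BP F⟩⟩
  have h2 := card_ge_two F
  set q := Fintype.card F with hqdef
  set d := Nat.gcd 2 (q - 1) with hd
  have hbound : d * Nat.card H ≤ q * (q - 1) := by
    have hd2 : d ≤ 2 := Nat.le_of_dvd two_pos (Nat.gcd_dvd_left _ _)
    have hsmall : p ≠ 2 → ∀ n ≤ 60, d * n ≤ q * (q - 1) := by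
      intro hp n hn
      have hodd : q % 2 = 1 := FiniteField.odd_card_of_char_ne_two (by rw [ringChar.eq F p]; exact hp)
      have h13 : 13 ≤ q := by omega
      calc d * n ≤ 2 * 60 := Nat.mul_le_mul hd2 hn
        _ ≤ 13 * 12 := by norm_num
        _ ≤ q * (q - 1) := Nat.mul_le_mul h13 (by omega)
    rcases subgroup_cases p H with h | h | ⟨h, hp, -⟩ | ⟨h, hp, -⟩ | ⟨h, hp, -⟩ | h
    · rw [← card_BP F]
      exact Nat.mul_le_mul_left _ (Nat.le_of_dvd Nat.card_pos h.card_dvd)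
    · refine h.card_le.trans ?_
      rw [← hqdef]
      have h4 : 4 ≤ q := by omega
      obtain ⟨i, hi⟩ : ∃ i, q = i + 4 := ⟨q - 4, by omega⟩
      rw [hi, show i + 4 - 1 = i + 3 by omega]
      nlinarith
    · exact hsmall hp _ (by omega)
    · exact hsmall hp _ (by omega)
    · exact hsmall hp _ (by omega)
    · rcases h.eq_top_or_small with h | ⟨Q, hQ, hQq, hQH⟩
      · exact absurd h hH
      obtain ⟨j, rfl⟩ : ∃ j, Q = j + 2 := ⟨Q - 2, by omega⟩
      obtain ⟨i, hi⟩ : ∃ i, q = (j + 2) ^ 2 + i := ⟨q - (j + 2) ^ 2, by omega⟩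
      rw [show j + 2 - 1 = j + 1 by omega] at hQH
      have hqq : q * (q - 1) = ((j + 2) ^ 2 + i) * (j * j + 4 * j + 3 + i) := by
        rw [hi, show (j + 2) ^ 2 + i - 1 = j * j + 4 * j + 3 + i by ring_nf; omega]
      rw [hqq]
      calc d * Nat.card H ≤ 2 * ((j + 2) * (j + 1) * (j + 2 + 1)) := Nat.mul_le_mul hd2 hQH
        _ ≤ _ := by nlinarith [Nat.zero_le (j * j * j), Nat.zero_le (i * j), Nat.zero_le (j * j)]
  have h := H.card_mul_index
  have hform := card_PSL_formula F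
  rw [← h, ← hqdef, ← hd, ← mul_assoc] at hform
  by_contra hlt
  push Not at hlt
  have h1 := Nat.mul_le_mul_right H.index hbound
  rw [hform] at h1
  have h3 : 0 < q * (q - 1) := Nat.mul_pos (by omega) (by omega)
  have := Nat.le_of_mul_le_mul_left h1 h3
  omega

end Cfsg.Agent.S0806
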