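import Cfsg.Statements.S0809
import Cfsg.Agent.Forms.KleinPSL

set_option autoImplicit false
open Cfsg

namespace Cfsg.Agent.S0809

/-- In SL_2(q), q odd: any two subgroups of order 4 are conjugate, and the normaliser of a subgroup of order 4 has order 2(q − 1) if q ≡ 1 (mod 4) and 2(q + 1) if q ≡ 3 (mod 4); consequently all involutions of PSL_2(q) are conjugate. -/
theorem result {F : Type*} [Field F] [Fintype F] {q : ℕ} (hF : Fintype.card F = q) (hodd : Odd q) (A : Subgroup (Matrix.SpecialLinearGroup (Fin 2) F)) (hA : Nat.card A = 4) : (∀ B : Subgroup (Matrix.SpecialLinearGroup (Fin 2) F), Nat.card B = 4 → ∃ g : Matrix.SpecialLinearGroup (Fin 2) F, B = A.map (MulAut.conj g).toMonoidHom) ∧ (q % 4 = 1 → Nat.card ↥(Subgroup.normalizer (A : Set (Matrix.SpecialLinearGroup (Fin 2) F))) = 2 * (q - 1)) ∧ (q % 4 = 3 → Nat.card ↥(Subgroup.normalizer (A : Set (Matrix.SpecialLinearGroup (Fin 2) F))) = 2 * (q + 1)) ∧ (∀ x y : Matrix.ProjectiveSpecialLinearGroup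 (Fin 2) F, orderOf x = 2 → orderOf y = 2 → IsConj x y) := by
  subst hF
  have h2 := CfsgLib.SL2Tori.two_ne_zero_of_odd hodd
  obtain ⟨x, hx, rfl⟩ := CfsgLib.Forms.KleinPSL.exists_zpowers_of_card_four h2 hA
  refine ⟨fun B hB => ?_, fun hq => ?_, fun hq => ?_, fun a b ha hb => ?_⟩
  · obtain ⟨y, hy, rfl⟩ := CfsgLib.Forms.KleinPSL.exists_zpowers_of_card_four h2 hB
    obtain ⟨g, hg⟩ := isConj_iff.1 (CfsgLib.Inv53.sl2_isConj h2 hx hy)
    exact ⟨g, by rw [MonoidHom.map_zpowers]; exact congrArg Subgroup.zpowers hg.symm⟩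
  · rw [CfsgLib.Forms.KleinPSL.normalizer_zpowers h2 hx,
      CfsgLib.SL2Tori.card_normalizer (CfsgLib.Forms.KleinPSL.tr_sq_ne_four h2 hx),
      CfsgLib.Forms.KleinPSL.card_centralizer_one h2 hx hq]
  · rw [CfsgLib.Forms.KleinPSL.normalizer_zpowers h2 hx,
      CfsgLib.SL2Tori.card_normalizer (CfsgLib.Forms.KleinPSL.tr_sq_ne_four h2 hx),
      CfsgLib.Forms.KleinPSL.card_centralizer_three h2 hx hq]
  · have h : ∀ a : Matrix.ProjectiveSpecialLinearGroup (Fin 2) F, orderOf a = 2 →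
        ∃ u : Matrix.SpecialLinearGroup (Fin 2) F, CfsgLib.Forms.KleinPSL.projHom u = a ∧ u * u = -1 :=
      fun a ha => CfsgLib.Forms.KleinPSL.exists_lift_of_orderOf_two h2
        (fun e => by rw [e, orderOf_one] at ha; omega) (by rw [← pow_two]; exact orderOf_dvd_iff_pow_eq_one.1 ha.dvd)
    obtain ⟨u, rfl, hu⟩ := h a ha
    obtain ⟨v, rfl, hv⟩ := h b hb
    exact MonoidHom.map_isConj _ (CfsgLib.Inv53.sl2_isConj h2 hu hv)

end Cfsg.Agent.S0809
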