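import Cfsg.Statements.S5939
import Cfsg.Agent.DicksonPSL2.ExceptionalMax

set_option autoImplicit false
open Cfsg

namespace Cfsg.Agent.S5939

open CfsgLib.DicksonPSL2

/-- Let p be a prime and F a finite field of characteristic p such that either F has p elements and p ≡ ±1 (mod 10), or F has p² elements and p ≡ ±3 (mod 10). Then PSL_2(F) has a maximal subgroup isomorphic to the alternating group A_5. -/
theorem result {F : Type*} [Field F] [Fintype F] (p : ℕ) [Fact p.Prime] [CharP F p] (h : (Fintype.card F = p ∧ (p % 10 = 1 ∨ p % 10 = 9)) ∨ (Fintype.card F = p ^ 2 ∧ (p % 10 = 3 ∨ p % 10 = 7))) : ∃ H : Subgroup (Matrix.ProjectiveSpecialLinearGroup (Fin 2) F), IsCoatom H ∧ Nonempty (H ≃* alternatingGroup (Fin 5)) := by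
  classical
  have hp2 : p ≠ 2 := by rintro rfl; omega
  have hodd : Odd (Fintype.card F) := by
    rw [Nat.odd_iff]
    exact FiniteField.odd_card_of_char_ne_two (by rw [ringChar.eq F p]; exact hp2)
  obtain ⟨P⟩ := exists_quatPair hodd
  -- a square root of five
  obtain ⟨s, hs⟩ : IsSquare (5 : F) := by
    have hp5 : p ≠ 5 := by rintro rfl; omega
    haveI : Fact (Nat.Prime 5) := ⟨by norm_num⟩
    rcases h with ⟨hF, hm⟩ | ⟨hF, -⟩
    · have h1 : IsSquare ((p : ℕ) : ZMod 5) := by
        rw [← ZMod.natCast_mod]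
        rcases show p % 5 = 1 ∨ p % 5 = 4 by omega with e | e <;> rw [e]
        · exact ⟨1, rfl⟩
        · exact ⟨2, rfl⟩
      have h2 : IsSquare ((5 : ℕ) : ZMod p) :=
        (ZMod.exists_sq_eq_prime_iff_of_mod_four_eq_one (p := 5) (q := p) (by norm_num) hp2).1 h1
      have := h2.map (ZMod.castHom (dvd_refl p) F)
      rw [map_natCast] at this
      exact_mod_cast this
    · have h5 : (5 : F) ≠ 0 := by
        intro h0
        have h0' : ((5 : ℕ) : F) = 0 := by simpa using h0
        rw [CharP.cast_eq_zero_iff F p 5, Nat.prime_dvd_prime_iff_eq Fact.out (by norm_num)] at h0'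
        exact hp5 h0'
      rw [FiniteField.isSquare_iff (by rw [ringChar.eq F p]; exact hp2) h5, hF]
      have e : (5 : F) ^ (p - 1) = 1 := by
        have := congrArg (ZMod.castHom (dvd_refl p) F)
          (ZMod.pow_card_sub_one_eq_one (p := p) (a := ((5 : ℕ) : ZMod p)) (fun h0 => h5 (by
            have := congrArg (ZMod.castHom (dvd_refl p) F) h0
            rw [map_natCast, map_zero] at this
            exact_mod_cast this)))
        rw [map_pow, map_natCast, map_one] at this
        exact_mod_cast this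
      obtain ⟨t, ht⟩ : ∃ t, p = 2 * t + 1 := ⟨p / 2, by
        have := (Fact.out : p.Prime).eq_two_or_odd
        omega⟩
      rw [show p ^ 2 / 2 = (p - 1) * (t + 1) by rw [ht, show 2 * t + 1 - 1 = 2 * t by omega]; ring_nf; omega,
        pow_mul, e, one_pow]
  have h2 := P.two_ne
  have hφ : (1 + s) / 2 * ((1 + s) / 2) = (1 + s) / 2 + 1 := by
    field_simp
    linear_combination -hs
  obtain ⟨hc, ⟨e⟩⟩ := P.card_ico _ hφ
  have hG := card_PSL_formula F
  have hd : Nat.gcd 2 (Fintype.card F - 1) = 2 :=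
    Nat.gcd_eq_left (by rw [Nat.odd_iff] at hodd; omega)
  rw [hd] at hG
  have hG60 : 60 < Nat.card (Matrix.ProjectiveSpecialLinearGroup (Fin 2) F) := by
    have h9 : 9 ≤ Fintype.card F := by
      rcases h with ⟨hF, hm⟩ | ⟨hF, hm⟩
      · have : p ≠ 1 := (Fact.out : p.Prime).ne_one
        omega
      · have : 3 ≤ p := by
          have := (Fact.out : p.Prime).two_le
          omega
        rw [hF]
        nlinarith
    have : 9 * 8 * 10 ≤ Fintype.card F * (Fintype.card F - 1) * (Fintype.card F + 1) :=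
      Nat.mul_le_mul (Nat.mul_le_mul h9 (by omega)) (by omega)
    omega
  refine ⟨P.ico _ hφ, ⟨fun h' => ?_, fun K hK => ?_⟩, ⟨e⟩⟩
  · rw [h', Subgroup.card_top] at hc
    omega
  by_contra hKtop
  have hle : P.ico _ hφ ≤ K := hK.le
  have h60 : 60 < Nat.card K := by
    rcases lt_or_eq_of_le (hc ▸ Subgroup.card_le_of_le hle) with h' | h'
    · exact h'
    · exact absurd (Subgroup.eq_of_le_of_card_ge hle (by rw [hc, ← h'])) hK.ne
  have hns : ¬ Group.IsSolvable K := fun hs' => not_isSolvable_alt_five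
    (Group.isSolvable_of_isSolvable_injective (f := (Subgroup.inclusion hle).comp e.symm.toMonoidHom)
      ((Subgroup.inclusion_injective hle).comp e.symm.injective))
  rcases subgroup_cases_sharp p K with h' | h' | ⟨h', -, -⟩ | ⟨h', -, -⟩ | ⟨h', -, -⟩ | h'
  · exact hns h'.isSolvable
  · exact hns h'.isSolvable
  · omega
  · omega
  · omega
  · obtain ⟨Q, m, hQ, hm, hm1, h''⟩ := h'.card_cases
    have h60K : 60 ∣ Nat.card K := hc ▸ Subgroup.card_dvd_of_le hle
    rcases h with ⟨hF, hm'⟩ | ⟨hF, hm'⟩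
    · obtain ⟨a, ha, rfl, ham⟩ := eq_pow_of_card (Fact.out : p.Prime) hQ hm1 (n := 1)
        (by rw [hm, hF, pow_one])
      obtain ⟨rfl, rfl⟩ : a = 1 ∧ m = 1 :=
        ⟨Nat.eq_one_of_mul_eq_one_right ham, Nat.eq_one_of_mul_eq_one_left ham⟩
      rcases h'' with h'' | ⟨-, he, -⟩
      · rw [pow_one, ← hF, hd] at h''
        exact hKtop (Subgroup.eq_top_of_card_eq _ (by omega))
      · exact absurd he (by decide)
    · obtain ⟨a, ha, rfl, ham⟩ := eq_pow_of_card (Fact.out : p.Prime) hQ hm1 (n := 2) (by rw [hm, hF])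
      rcases show a = 2 ∧ m = 1 ∨ a = 1 ∧ m = 2 by
        have : a ≤ 2 := Nat.le_of_dvd two_pos (Dvd.intro _ ham)
        rcases show a = 1 ∨ a = 2 by omega with rfl | rfl <;> omega with ⟨rfl, rfl⟩ | ⟨rfl, rfl⟩
      · rcases h'' with h'' | ⟨-, he, -⟩
        · rw [← hF, hd] at h''
          exact hKtop (Subgroup.eq_top_of_card_eq _ (by omega))
        · exact absurd he (by decide)
      · rw [pow_one] at h''
        obtain ⟨c, hc'⟩ := h60K
        obtain ⟨t, ht⟩ : ∃ t, p = 5 * t + 2 ∨ p = 5 * t + 3 := ⟨p / 5, by omega⟩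
        have hgd : Nat.gcd 2 (p - 1) ≤ 2 := Nat.le_of_dvd two_pos (Nat.gcd_dvd_left _ _)
        rw [hc'] at h''
        rcases ht with rfl | rfl <;>
          [rw [show 5 * t + 2 - 1 = 5 * t + 1 by omega] at h'' hgd;
           rw [show 5 * t + 3 - 1 = 5 * t + 2 by omega] at h'' hgd] <;>
          rcases h'' with h'' | ⟨-, -, h''⟩ <;> ring_nf at h'' <;> omega

end Cfsg.Agent.S5939
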