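import Cfsg.Statements.S0810
import Cfsg.Agent.DicksonPSL2.MinimalSimple
import Cfsg.Agent.S5939

set_option autoImplicit false
open Cfsg

namespace Cfsg.Agent.S0810

open CfsgLib.DicksonPSL2

/-- PSL_2(q) is minimal simple iff q is 2^r (r prime), 3^r (r an odd prime), a prime greater than 5 congruent to 2 or 3 mod 5, or 5. -/
theorem result {F : Type*} [Field F] [Fintype F] {q : ℕ} (hF : Fintype.card F = q) : Cfsg.IsMinimalSimple (Matrix.ProjectiveSpecialLinearGroup (Fin 2) F) ↔ ((∃ r : ℕ, r.Prime ∧ q = 2 ^ r) ∨ (∃ r : ℕ, r.Prime ∧ r ≠ 2 ∧ q = 3 ^ r) ∨ (q.Prime ∧ 5 < q ∧ (q % 5 = 2 ∨ q % 5 = 3)) ∨ q = 5) := by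
  subst hF
  obtain ⟨p, hpc⟩ := CharP.exists F
  obtain ⟨⟨n, hn0⟩, hp, hn⟩ := FiniteField.card F p
  rw [PNat.mk_coe] at hn
  haveI : Fact p.Prime := ⟨hp⟩
  have hp2le := hp.two_le
  constructor
  · rintro ⟨hsimple, hnc, hsolv⟩
    have h4 : 4 ≤ Fintype.card F := by
      by_contra h
      have hs := isSolvable_PSL_small (F := F) (by omega)
      exact hnc ⟨⟨(IsSimpleGroup.comm_iff_isSolvable).2 hs⟩⟩
    have hno : ∀ l r : ℕ, n = l * r → 2 ≤ r → p ^ l < 4 := by
      intro l r hlr hr
      by_contra h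
      obtain ⟨H, hH, hns⟩ := exists_nonsolvable_of_subfield (F := F) hn hlr hr (by omega)
      exact hns (hsolv H hH)
    have hA5 : ¬ ((Fintype.card F = p ∧ (p % 10 = 1 ∨ p % 10 = 9)) ∨
        (Fintype.card F = p ^ 2 ∧ (p % 10 = 3 ∨ p % 10 = 7))) := by
      intro h
      obtain ⟨H, hH, ⟨e⟩⟩ := Cfsg.Agent.S5939.result p h
      have := hsolv H hH.1
      exact not_isSolvable_alt_five
        (Group.isSolvable_of_isSolvable_injective (f := e.symm.toMonoidHom) e.symm.injective)
    rcases eq_or_lt_of_le (show 1 ≤ n from hn0) with hn1 | hn1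
    · subst hn1
      rw [pow_one] at hn
      rw [hn] at h4 hA5 ⊢
      rcases eq_or_ne p 5 with h | h
      · exact Or.inr (Or.inr (Or.inr h))
      refine Or.inr (Or.inr (Or.inl ⟨hp, ?_, ?_⟩))
      · have : p ≠ 4 := by rintro rfl; norm_num at hp
        omega
      · have h1 : p % 5 ≠ 0 := fun h0 =>
          h ((Nat.prime_dvd_prime_iff_eq (by norm_num) hp).1 (Nat.dvd_of_mod_eq_zero h0)).symm
        have h2 : p % 2 = 1 := hp.eq_two_or_odd.resolve_left (by omega)
        by_contra hmod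
        exact hA5 (Or.inl ⟨rfl, by omega⟩)
    · have hp3 : p < 4 := by simpa using hno 1 n (one_mul n).symm hn1
      rcases show p = 2 ∨ p = 3 by omega with rfl | rfl
      · refine Or.inl ⟨n, ?_, hn⟩
        by_contra hnp
        obtain ⟨l, ⟨r, hr⟩, hl2, hln⟩ := Nat.exists_dvd_of_not_prime2 (by omega) hnp
        have hr2 : 2 ≤ r := by
          rcases show r = 0 ∨ r = 1 ∨ 2 ≤ r by omega with rfl | rfl | h
          · omega
          · omega
          · exact h
        have := hno l r hr hr2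
        have h4' : 2 ^ 2 ≤ 2 ^ l := Nat.pow_le_pow_right two_pos hl2
        omega
      · refine Or.inr (Or.inl ⟨n, ?_, ?_, hn⟩)
        · by_contra hnp
          obtain ⟨l, ⟨r, hr⟩, hl2, hln⟩ := Nat.exists_dvd_of_not_prime2 (by omega) hnp
          have hr2 : 2 ≤ r := by
            rcases show r = 0 ∨ r = 1 ∨ 2 ≤ r by omega with rfl | rfl | h
            · omega
            · omega
            · exact h
          have := hno l r hr hr2
          have h4' : 3 ^ 2 ≤ 3 ^ l := Nat.pow_le_pow_right (by norm_num) hl2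
          omega
        · rintro rfl
          exact hA5 (Or.inr ⟨hn, Or.inl rfl⟩)
  · intro h
    have h4 : 4 ≤ Fintype.card F := by
      rcases h with ⟨r, hr, h⟩ | ⟨r, hr, -, h⟩ | ⟨-, h, -⟩ | h <;>
        first
          | omega
          | (rw [h]
             exact le_trans (show 4 ≤ _ ^ 2 by norm_num) (Nat.pow_le_pow_right (by norm_num) hr.two_le))
    refine ⟨CfsgLib.Linear.isSimpleGroup_PSL_of 2 le_rfl fun _ => h4, (not_comm_PSL h4).1,
      fun H hH => isSolvable_of_ne_top hn ?_ ?_ hH⟩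
    · intro a m ham hm
      have key : ∀ r : ℕ, r.Prime → n = r → a ≤ 1 := fun r hr hnr => by
        rcases (Nat.dvd_prime hr).1 (hnr ▸ Dvd.intro m ham) with e | e
        · exact e.le
        · exfalso
          subst e
          rw [hnr] at ham
          have := Nat.eq_of_mul_eq_mul_left hr.pos (ham.trans (mul_one _).symm)
          omega
      have hpr : ∀ b r : ℕ, b.Prime → 1 ≤ r → Fintype.card F = b ^ r → p = b ∧ n = r := by
        intro b r hb hr e
        rw [hn] at e
        obtain rfl : p = b := (Nat.prime_dvd_prime_iff_eq hp hb).1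
          (hp.dvd_of_dvd_pow (e ▸ dvd_pow_self p (by omega)))
        exact ⟨rfl, Nat.pow_right_injective hb.two_le e⟩
      rcases h with ⟨r, hr, h⟩ | ⟨r, hr, -, h⟩ | ⟨h, -, -⟩ | h
      · obtain ⟨rfl, e⟩ := hpr 2 r Nat.prime_two hr.one_le h
        exact le_trans (Nat.pow_le_pow_right two_pos (key r hr e)) (by norm_num)
      · obtain ⟨rfl, e⟩ := hpr 3 r Nat.prime_three hr.one_le h
        exact le_trans (Nat.pow_le_pow_right (by norm_num) (key r hr e)) (by norm_num)
      · obtain ⟨-, e⟩ := hpr _ 1 h le_rfl (pow_one _).symm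
        have := Nat.eq_one_of_mul_eq_one_left (ham.trans e)
        omega
      · obtain ⟨-, e⟩ := hpr 5 1 (by norm_num) le_rfl (h.trans (pow_one _).symm)
        have := Nat.eq_one_of_mul_eq_one_left (ham.trans e)
        omega
    · have hpd : p ∣ Fintype.card F := hn ▸ dvd_pow_self p (by omega)
      rw [← hn]
      rcases h with ⟨r, hr, h⟩ | ⟨r, hr, hr2, h⟩ | ⟨h, -, h'⟩ | h
      · exact Or.inl ((Nat.prime_dvd_prime_iff_eq hp Nat.prime_two).1 (hp.dvd_of_dvd_pow (h ▸ hpd)))
      · right; right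
        obtain ⟨k, rfl⟩ := hr.odd_of_ne_two hr2
        rw [h, pow_succ, pow_mul, Nat.mul_mod, Nat.pow_mod]
        rcases Nat.even_or_odd k with ⟨j, rfl⟩ | ⟨j, rfl⟩ <;> simp [pow_succ, pow_mul, ← two_mul, Nat.mul_mod, Nat.pow_mod]
      · exact Or.inr (Or.inr h')
      · exact Or.inr (Or.inl ((Nat.prime_dvd_prime_iff_eq hp (by norm_num)).1 (h ▸ hpd)))

end Cfsg.Agent.S0810
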