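import Cfsg.Statements.S0811
import Cfsg.Agent.DicksonPSL2.ElementOrders

set_option autoImplicit false
open Cfsg

namespace Cfsg.Agent.S0811

open CfsgLib.DicksonPSL2

/-- For q ∉ {2, 7, 9}, PSL_2(q) has a maximal subgroup isomorphic to the dihedral group of order 2(q + 1)/d, d = gcd(2, q − 1). -/
theorem result {F : Type*} [Field F] [Fintype F] {q : ℕ} (hF : Fintype.card F = q) (hq : q ∉ ({2, 7, 9} : Finset ℕ)) : ∃ H : Subgroup (Matrix.ProjectiveSpecialLinearGroup (Fin 2) F), IsCoatom H ∧ Nonempty (H ≃* DihedralGroup ((q + 1) / Nat.gcd 2 (q - 1))) := by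
  subst hF
  obtain ⟨p, hpc⟩ := CharP.exists F
  haveI : Fact p.Prime := ⟨CharP.char_is_prime F p⟩
  simp only [Finset.mem_insert, Finset.mem_singleton, not_or] at hq
  obtain ⟨x, hx, hxc, hxB⟩ := exists_torus_plus F
  obtain ⟨hN, ⟨e⟩⟩ := card_normalizer_torus hx
  set N := Subgroup.normalizer (torus x : Set (Matrix.ProjectiveSpecialLinearGroup (Fin 2) F)) with hNdef
  set q := Fintype.card F with hqdef
  set k := Nat.card (torus x) with hk
  have hd := gcd_two_cases F
  rw [← hqdef] at hd
  have hkq : (q + 1) / Nat.gcd 2 (q - 1) = k :=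
    Nat.div_eq_of_eq_mul_right (Nat.gcd_pos_of_pos_left _ two_pos) hxc.symm
  rw [hkq]
  refine ⟨N, ⟨?_, fun K hK => ?_⟩, ⟨e⟩⟩
  · intro hT
    have h1 := card_PSL_formula F
    rw [← Subgroup.card_top, ← hT, hN, ← hqdef, mul_left_comm, hxc] at h1
    have h2 := card_ge_two F
    obtain ⟨i, hi⟩ : ∃ i, q = i + 3 := ⟨q - 3, by omega⟩
    rw [hi, show i + 3 - 1 = i + 2 by omega] at h1
    have := Nat.eq_of_mul_eq_mul_right (by omega) h1
    nlinarith
  · by_contra hKtop
    have hle : N ≤ K := hK.le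
    have hNK : 2 * k ∣ Nat.card K := hN ▸ Subgroup.card_dvd_of_le hle
    have hne : Nat.card K ≠ 2 * k := fun h =>
      hK.ne (Subgroup.eq_of_le_of_card_ge hle (by rw [hN, h]))
    have hlt : 2 * k < Nat.card K :=
      lt_of_le_of_ne (Nat.le_of_dvd Nat.card_pos hNK) (Ne.symm hne)
    have := isCyclic_torus hx
    obtain ⟨⟨t, htT⟩, hto⟩ := IsCyclic.exists_ofOrder_eq_natCard (α := torus x)
    rw [Subgroup.orderOf_mk, ← hk] at hto
    have hTK : torus x ≤ K := Subgroup.le_normalizer.trans hle
    rcases subgroup_cases p K with h | h | ⟨h, hp, ⟨f⟩⟩ | ⟨h, hp, ⟨f⟩⟩ | ⟨h, hp, ⟨f⟩⟩ | h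
    · obtain ⟨a, ha⟩ := h
      exact hxB a (ha (mem_conjS.2 (by simpa [mul_assoc] using hTK (self_mem_torus x))))
    · have h1 := h.card_le
      rw [← hqdef] at h1
      have h2 := (Nat.mul_lt_mul_left (Nat.gcd_pos_of_pos_left (q - 1) two_pos)).2 hlt
      rw [mul_left_comm, hxc] at h2
      omega
    · obtain ⟨hodd, hd2, -⟩ := hd.resolve_right fun h' => by
        have := FiniteField.odd_card_of_char_ne_two (F := F) (by rw [ringChar.eq F p]; exact hp)
        rw [← hqdef] at this
        obtain ⟨⟨r, hr⟩, -⟩ := h'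
        omega
      rw [hd2] at hxc
      have hk3 : k ≤ 3 := by
        have h1 : orderOf (f ⟨t, hTK htT⟩) = k := by rw [MulEquiv.orderOf_eq, Subgroup.orderOf_mk, hto]
        rcases alt_four_pow (f ⟨t, hTK htT⟩) with h2 | h2 <;>
          have := Nat.le_of_dvd (by norm_num) (h1 ▸ orderOf_dvd_of_pow_eq_one h2) <;> omega
      rw [h] at hlt hNK
      rcases show k = 2 ∨ k = 3 by omega with hk2 | hk3'
      · -- `q = 3`
        apply hKtop
        refine Subgroup.eq_top_of_le_card _ ?_
        have h1 := card_PSL_formula F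
        rw [← hqdef, hd2, show q = 3 by omega] at h1
        omega
      · obtain ⟨m, hm, hmT⟩ : ∃ m ∈ N, m ∉ torus x := by
          refine SetLike.not_le_iff_exists.1 fun h' => ?_
          have := Subgroup.card_le_of_le h'
          rw [hN, ← hk] at this
          omega
        have hinv := ((mem_or_inverts hx ((mem_normalizer_torus_iff hx).1 hm)).resolve_left hmT).2 t htT
        refine alt_four_no_inverting (f ⟨t, hTK htT⟩) (f ⟨m, hle hm⟩) ?_ ?_ ?_
        · rw [← map_pow, show (⟨t, hTK htT⟩ : K) ^ 3 = 1 from Subtype.ext (by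
            show t ^ 3 = 1
            rw [← hk3', ← hto, pow_orderOf_eq_one]), map_one]
        · intro h1
          rw [MulEquiv.map_eq_one_iff] at h1
          have h1' : t = 1 := congrArg Subtype.val h1
          rw [h1', orderOf_one] at hto
          omega
        · rw [← map_mul, ← map_inv, ← map_mul, ← map_inv]
          exact congrArg f (Subtype.ext hinv)
    · obtain ⟨hodd, hd2, -⟩ := hd.resolve_right fun h' => by
        have := FiniteField.odd_card_of_char_ne_two (F := F) (by rw [ringChar.eq F p]; exact hp)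
        rw [← hqdef] at this
        obtain ⟨⟨r, hr⟩, -⟩ := h'
        omega
      rw [hd2] at hxc
      have hk4 : k ≤ 4 := by
        have h1 : orderOf (f ⟨t, hTK htT⟩) = k := by rw [MulEquiv.orderOf_eq, Subgroup.orderOf_mk, hto]
        rcases perm_four_pow (f ⟨t, hTK htT⟩) with h2 | h2 <;>
          have := Nat.le_of_dvd (by norm_num) (h1 ▸ orderOf_dvd_of_pow_eq_one h2) <;> omega
      have hG := Subgroup.card_subgroup_dvd_card K
      have h1 := card_PSL_formula F
      rw [← hqdef, hd2] at h1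
      obtain ⟨r, hr⟩ := hodd
      rcases show q = 3 ∨ q = 5 by omega with h3 | h5
      · rw [h3] at h1
        have : Nat.card (Matrix.ProjectiveSpecialLinearGroup (Fin 2) F) = 12 := by omega
        rw [this, h] at hG
        norm_num at hG
      · rw [h5] at h1
        have : Nat.card (Matrix.ProjectiveSpecialLinearGroup (Fin 2) F) = 60 := by omega
        rw [this, h] at hG
        norm_num at hG
    · obtain ⟨hodd, hd2, -⟩ := hd.resolve_right fun h' => by
        have := FiniteField.odd_card_of_char_ne_two (F := F) (by rw [ringChar.eq F p]; exact hp)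
        rw [← hqdef] at this
        obtain ⟨⟨r, hr⟩, -⟩ := h'
        omega
      rw [hd2] at hxc
      have hk5 : k ≤ 5 := by
        have h1 : orderOf (f ⟨t, hTK htT⟩) = k := by rw [MulEquiv.orderOf_eq, Subgroup.orderOf_mk, hto]
        rcases alt_five_pow (f ⟨t, hTK htT⟩) with h2 | h2 | h2 <;>
          have := Nat.le_of_dvd (by norm_num) (h1 ▸ orderOf_dvd_of_pow_eq_one h2) <;> omega
      apply hKtop
      refine Subgroup.eq_top_of_le_card _ ?_
      have h1 := card_PSL_formula F
      rw [← hqdef, hd2] at h1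
      obtain ⟨r, hr⟩ := hodd
      rcases show q = 3 ∨ q = 5 by omega with h3 | h5
      · rw [h3] at h1; omega
      · rw [h5] at h1; omega
    · rcases h.orderOf_le with h | ⟨Q, hQ, hQq, hQK, hord⟩
      · exact hKtop h
      rw [← hqdef] at hQq
      have h1 := hord t (hTK htT)
      rw [hto] at h1
      have hd2 : Nat.gcd 2 (q - 1) ≤ 2 := Nat.le_of_dvd two_pos (Nat.gcd_dvd_left _ _)
      have h2 : q + 1 ≤ 2 * (Q + 1) := hxc ▸ Nat.mul_le_mul hd2 h1
      have hQ2 : Q = 2 := by
        by_contra hne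
        have : 3 ≤ Q := by omega
        rcases hd with ⟨⟨r, hr⟩, -⟩ | ⟨⟨r, hr⟩, hd1⟩
        · nlinarith
        · rw [hd1, one_mul] at hxc
          nlinarith
      subst hQ2
      have h9 : q ≤ 5 := by omega
      rcases hd with ⟨⟨r, hr⟩, hd', -⟩ | ⟨-, hd'⟩ <;> rw [hd'] at hxc <;> omega

end Cfsg.Agent.S0811
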