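import Cfsg.Statements.S0812
import Cfsg.Agent.DicksonPSL2.ElementOrders

set_option autoImplicit false
open Cfsg

namespace Cfsg.Agent.S0812

open CfsgLib.DicksonPSL2

/-- For q ∉ {2, 3, 5, 7, 9, 11}, PSL_2(q) has a maximal subgroup isomorphic to the dihedral group of order 2(q − 1)/d, d = gcd(2, q − 1). -/
theorem result {F : Type*} [Field F] [Fintype F] {q : ℕ} (hF : Fintype.card F = q) (hq : q ∉ ({2, 3, 5, 7, 9, 11} : Finset ℕ)) : ∃ H : Subgroup (Matrix.ProjectiveSpecialLinearGroup (Fin 2) F), IsCoatom H ∧ Nonempty (H ≃* DihedralGroup ((q - 1) / Nat.gcd 2 (q - 1))) := by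
  subst hF
  obtain ⟨p, hpc⟩ := CharP.exists F
  haveI : Fact p.Prime := ⟨CharP.char_is_prime F p⟩
  simp only [Finset.mem_insert, Finset.mem_singleton, not_or] at hq
  have h2 := card_ge_two F
  obtain ⟨x, hx, -, hxc⟩ := exists_torus_minus F (by omega)
  obtain ⟨hN, ⟨e⟩⟩ := card_normalizer_torus hx
  set N := Subgroup.normalizer (torus x : Set (Matrix.ProjectiveSpecialLinearGroup (Fin 2) F)) with hNdef
  set q := Fintype.card F with hqdef
  set k := Nat.card (torus x) with hk
  have hd := gcd_two_cases F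
  rw [← hqdef] at hd
  have hk3 : 3 ≤ k := by
    rcases hd with ⟨⟨r, hr⟩, hd', -⟩ | ⟨-, hd'⟩ <;> rw [hd'] at hxc <;> omega
  have hkq : (q - 1) / Nat.gcd 2 (q - 1) = k :=
    Nat.div_eq_of_eq_mul_right (Nat.gcd_pos_of_pos_left _ two_pos) hxc.symm
  rw [hkq]
  refine ⟨N, ⟨?_, fun K hK => ?_⟩, ⟨e⟩⟩
  · intro hT
    have h1 := card_PSL_formula F
    rw [← Subgroup.card_top, ← hT, hN, ← hqdef, mul_left_comm, hxc] at h1
    obtain ⟨i, hi⟩ : ∃ i, q = i + 3 := ⟨q - 3, by omega⟩
    rw [hi, show i + 3 - 1 = i + 2 by omega] at h1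
    ring_nf at h1; omega
  · by_contra hKtop
    have hle : N ≤ K := hK.le
    have hNK : 2 * k ∣ Nat.card K := hN ▸ Subgroup.card_dvd_of_le hle
    have hne : Nat.card K ≠ 2 * k := fun h =>
      hK.ne (Subgroup.eq_of_le_of_card_ge hle (by rw [hN, h]))
    have := isCyclic_torus hx
    obtain ⟨⟨t, htT⟩, hto⟩ := IsCyclic.exists_ofOrder_eq_natCard (α := torus x)
    rw [Subgroup.orderOf_mk, ← hk] at hto
    have hTK : torus x ≤ K := Subgroup.le_normalizer.trans hle
    rcases subgroup_cases p K with h | h | ⟨h, hp, ⟨f⟩⟩ | ⟨h, hp, ⟨f⟩⟩ | ⟨h, hp, ⟨f⟩⟩ | h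
    · obtain ⟨m, hm, hmT⟩ : ∃ m ∈ N, m ∉ torus x := by
        refine SetLike.not_le_iff_exists.1 fun h' => ?_
        have := Subgroup.card_le_of_le h'
        rw [hN, ← hk] at this
        omega
      have hinv := ((mem_or_inverts hx ((mem_normalizer_torus_iff hx).1 hm)).resolve_left hmT).2 t htT
      have ht1 : t ≠ 1 := by
        rintro rfl
        rw [orderOf_one] at hto
        omega
      refine not_inBorel_of_inverted (isTor_of_mem_torus hx htT ht1).1 ?_ (hTK htT) (hle hm) hinv h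
      intro ht2
      have := Nat.le_of_dvd two_pos (orderOf_dvd_of_pow_eq_one (by rw [pow_two]; exact ht2 : t ^ 2 = 1))
      omega
    · have h1 := h.card_le
      rw [← hqdef] at h1
      obtain ⟨c, hc⟩ := hNK
      have hc2 : 2 ≤ c := by
        rcases show c = 0 ∨ c = 1 ∨ 2 ≤ c by omega with rfl | rfl | h2
        · rw [mul_zero] at hc
          exact absurd hc Nat.card_pos.ne'
        · exact absurd (by rw [hc, mul_one]) hne
        · exact h2
      have h3 := Nat.mul_le_mul_left (Nat.gcd 2 (q - 1)) (Nat.mul_le_mul_left (2 * k) hc2)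
      rw [← hc, show Nat.gcd 2 (q - 1) * (2 * k * 2) = 4 * (Nat.gcd 2 (q - 1) * k) by ring, hxc] at h3
      omega
    all_goals try
      have hodd : q % 2 = 1 := FiniteField.odd_card_of_char_ne_two (by rw [ringChar.eq F p]; exact hp)
      have hk6 : 6 ≤ k := by
        rcases hd with ⟨-, hd', -⟩ | ⟨-, hd'⟩ <;> rw [hd'] at hxc <;> omega
      have h1 : orderOf (f ⟨t, hTK htT⟩) = k := by rw [MulEquiv.orderOf_eq, Subgroup.orderOf_mk, hto]
    · rcases alt_four_pow (f ⟨t, hTK htT⟩) with h2 | h2 <;>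
        have := Nat.le_of_dvd (by norm_num) (h1 ▸ orderOf_dvd_of_pow_eq_one h2) <;> omega
    · rcases perm_four_pow (f ⟨t, hTK htT⟩) with h2 | h2 <;>
        have := Nat.le_of_dvd (by norm_num) (h1 ▸ orderOf_dvd_of_pow_eq_one h2) <;> omega
    · rcases alt_five_pow (f ⟨t, hTK htT⟩) with h2 | h2 | h2 <;>
        have := Nat.le_of_dvd (by norm_num) (h1 ▸ orderOf_dvd_of_pow_eq_one h2) <;> omega
    · rcases h.orderOf_le with h | ⟨Q, hQ, hQq, hQK, hord⟩
      · exact hKtop h
      rw [← hqdef] at hQq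
      have h1 := hord t (hTK htT)
      rw [hto] at h1
      have hd2 : Nat.gcd 2 (q - 1) ≤ 2 := Nat.le_of_dvd two_pos (Nat.gcd_dvd_left _ _)
      have h2' : q - 1 ≤ 2 * (Q + 1) := hxc ▸ Nat.mul_le_mul hd2 h1
      have hQ2 : Q = 2 := by
        by_contra hne
        have : 3 ≤ Q := by omega
        rcases hd with ⟨⟨r, hr⟩, -⟩ | ⟨⟨r, hr⟩, hd1⟩
        · rcases show Q = 3 ∨ 4 ≤ Q by omega with rfl | h4
          · omega
          · have : 4 * Q ≤ Q ^ 2 := by nlinarith
            omega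
        · rw [hd1, one_mul] at hxc
          have : 3 * Q ≤ Q ^ 2 := by nlinarith
          omega
      subst hQ2
      have hk' : k = 3 := by omega
      apply hne
      have hle2 : 2 * k ≤ Nat.card K := Nat.le_of_dvd Nat.card_pos hNK
      norm_num at hQK
      omega

end Cfsg.Agent.S0812
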