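import Cfsg.Statements.S0816
import Cfsg.Agent.Forms.AutPOmegaStd

set_option autoImplicit false
open Cfsg

namespace Cfsg.Agent.S0816

/-- |Aut(PΩ_(2m+1)(q))| = 2 f · |PΩ_(2m+1)(q)| for q = p^f odd and m ≥ 3 (for the form quadFormOdd). -/
theorem result {F : Type*} [Field F] [Fintype F] (p f : ℕ) [Fact p.Prime] (hf : 1 ≤ f) (hF : Fintype.card F = p ^ f) (hodd : Odd p) (m : ℕ) (hm : 3 ≤ m) : Nat.card (MulAut (Cfsg.POmega F (Cfsg.quadFormOdd m F))) = 2 * f * Nat.card (Cfsg.POmega F (Cfsg.quadFormOdd m F)) := by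
  have hq : Odd (Fintype.card F) := hF ▸ hodd.pow
  have h2 : (2 : F) ≠ 0 := fun h =>
    (Nat.not_even_iff_odd.2 hq) ((CfsgLib.Forms4.two_eq_zero_iff_even rfl).1 h)
  have C := CfsgLib.AutPOmega.ctx_oddQ (F := F) hm h2
  have hn : 5 ≤ Fintype.card (Unit ⊕ (Fin m ⊕ Fin m)) := by simp; omega
  have hcard := CfsgLib.AutPOmega.card_mulAut_of_odd C (CfsgLib.AutPOmega.noTriality_oddQ h2)
    (CfsgLib.AutPOmega.exists_semi_oddQ m) ⟨m, by simp; ring⟩ h2
  rw [CfsgLib.Forms4.card_isometryGroup_eq, CfsgLib.Forms.index_omega_odd h2 C.nondeg (by omega),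
    CfsgLib.Forms4.card_center_omega_one C.nondeg hn (CfsgLib.Forms4.oddPairs m (by omega))
      (fun g hg hgv => ?_), CfsgLib.AutPSL.card_ringEquiv hF hf] at hcard
  · rw [CfsgLib.StdForms.coe_oddQ] at hcard
    linarith
  · exfalso
    have h1 := (CfsgLib.Forms.mem_special_iff g).1 (CfsgLib.Forms.omega_le_special hg)
    rw [hgv, Matrix.det_neg, Matrix.det_one, mul_one] at h1
    have : Odd (Fintype.card (Unit ⊕ (Fin m ⊕ Fin m))) := ⟨m, by simp; ring⟩
    rw [this.neg_one_pow] at h1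
    exact h2 (by linear_combination -h1)

end Cfsg.Agent.S0816
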