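import Cfsg.Statements.S0818
import Cfsg.Agent.Forms.AutPOmegaStd

set_option autoImplicit false
open Cfsg

namespace Cfsg.Agent.S0818

/-- |Aut(PΩ⁻_2m(q))| for q = p^f, m ≥ 4 (form quadFormMinus (m−1) with anisotropic binary part): |PΩ⁻_2m(q)| times f, times 2 if p = 2, and times 4 or 8 if p is odd according as m(q−1)/2 is even or odd. -/
theorem result {F : Type*} [Field F] [Fintype F] (p f : ℕ) [Fact p.Prime] (hf : 1 ≤ f) (hF : Fintype.card F = p ^ f) (m : ℕ) (hm : 4 ≤ m) (a b : F) (hab : ∀ z₁ z₂ : F, z₁ ^ 2 + a * z₁ * z₂ + b * z₂ ^ 2 = 0 → z₁ = 0 ∧ z₂ = 0) : Nat.card (MulAut (Cfsg.POmega F (Cfsg.quadFormMinus (m - 1) F a b))) = (if p = 2 then 2 else (if Even (m * (p ^ f - 1) / 2) then 4 else 8)) * f * Nat.card (Cfsg.POmega F (Cfsg.quadFormMinus (m - 1) F a b)) := by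
  have C := CfsgLib.AutPOmega.ctx_minusQ (k := m - 1) (by omega) hab
  have hn : 5 ≤ Fintype.card ((Fin (m - 1) ⊕ Fin (m - 1)) ⊕ Fin 2) := by simp; omega
  have P := CfsgLib.Forms4.minusPairs (F := F) (m - 1) (by omega) a b
  have hcard := CfsgLib.AutPOmega.card_mulAut_of_surjective C (CfsgLib.AutPOmega.noTriality_minusQ hab)
    (CfsgLib.AutPOmega.exists_semi_minusQ hab) (CfsgLib.AutPOmega.exists_hasMult_minusQ hab)
  rw [CfsgLib.Forms4.card_isometryGroup_eq, CfsgLib.AutPSL.card_ringEquiv hF hf] at hcard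
  rw [← CfsgLib.StdForms.coe_minusQ, hcard]
  by_cases hp : p = 2
  · have hev : Even (Fintype.card F) := by rw [hF, hp, Nat.even_pow]; exact ⟨even_two, by omega⟩
    have h2 : (2 : F) = 0 := (CfsgLib.Forms4.two_eq_zero_iff_even rfl).2 hev
    have : CharP F 2 := CharTwo.of_one_ne_zero_of_two_eq_zero one_ne_zero h2
    rw [CfsgLib.Forms.index_omega_charTwo C.nondeg (by omega) (Or.inr (by omega)),
      CfsgLib.Forms4.card_center_omega_one C.nondeg hn P (fun _ _ _ => h2), if_pos hp]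
    ring
  · have hodd : Odd (p ^ f) := ((Fact.out : p.Prime).eq_two_or_odd'.resolve_left hp).pow
    have h2 : (2 : F) ≠ 0 := fun h => (Nat.not_even_iff_odd.2 hodd)
      ((CfsgLib.Forms4.two_eq_zero_iff_even hF).1 h)
    rw [CfsgLib.Forms.index_omega_odd h2 C.nondeg (by omega), if_neg hp]
    have hiff := Cfsg.Agent.S0791.result hF hodd m (by omega) a b hab
    rw [← CfsgLib.StdForms.coe_minusQ] at hiff
    by_cases h : (p ^ f) ^ m % 4 = 1
    · rw [if_pos ((CfsgLib.AutPOmega.even_half_iff hodd).2 h),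
        CfsgLib.Forms4.card_center_omega_one C.nondeg hn P
          (fun g hg hgv => absurd (hiff.1 ⟨g, hg, hgv⟩) (by omega))]
      ring
    · have h3 : (p ^ f) ^ m % 4 = 3 := by
        have := Nat.odd_iff.1 (hodd.pow (n := m))
        omega
      obtain ⟨g, hg, hgv⟩ := hiff.2 h3
      rw [if_neg (fun he => h ((CfsgLib.AutPOmega.even_half_iff hodd).1 he)),
        CfsgLib.Forms4.card_center_omega_two C.nondeg hn P h2 hg hgv]
      ring

end Cfsg.Agent.S0818
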