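import Cfsg.Statements.S0819
import Cfsg.Agent.GLBlocks.Three

set_option autoImplicit false
open Cfsg

namespace Cfsg.Agent.S0819

/-- No element of PSL_3(4) has order 15. -/
theorem result {F : Type*} [Field F] [Fintype F] (hF : Fintype.card F = 4) (g : Matrix.ProjectiveSpecialLinearGroup (Fin 3) F) : orderOf g ≠ 15 := by
  intro h
  haveI : Fact (Nat.Prime 2) := ⟨Nat.prime_two⟩
  haveI : CharP F 2 := ringChar.of_eq (FiniteField.even_card_iff_char_two.2 (by rw [hF]))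
  obtain ⟨s, hs, rfl⟩ := CfsgLib.GLBlocks.exists_GL_pow_of_PSL g
  obtain ⟨N, c, hNc, hN⟩ := CfsgLib.GLBlocks.bound_three 2 s hs
  have hd : 15 ∣ N := h ▸ orderOf_dvd_of_pow_eq_one
    ((CfsgLib.GLBlocks.toPSL_pow_eq_one_iff s hs N).2 ⟨c, hNc⟩)
  rw [hF] at hN
  norm_num at hN
  omega

end Cfsg.Agent.S0819
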