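import Cfsg.Statements.S0821
import Cfsg.Agent.Forms.SymplecticRepBoundMain
import Cfsg.Agent.Forms4.POmegaOrders
import Cfsg.Agent.SympOrders.Basic

set_option autoImplicit false
open Cfsg

namespace Cfsg.Agent.S0821

/-- PSp_2m(q) ≇ PΩ_(2m+1)(q) for q odd and m ≥ 3 (they have the same order). -/
theorem result {F : Type*} [Field F] [Fintype F] (hodd : Odd (Fintype.card F)) (m : ℕ) (hm : 3 ≤ m) : IsEmpty (Cfsg.PSp m F ≃* Cfsg.POmega F (Cfsg.quadFormOdd m F)) := by
  refine ⟨fun e => ?_⟩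
  have h2 : (2 : F) ≠ 0 := fun h =>
    (Nat.not_even_iff_odd.2 hodd) ((CfsgLib.Forms4.two_eq_zero_iff_even rfl).1 h)
  have hbot : Subgroup.center ↥(Cfsg.Omega F (Cfsg.quadFormOdd m F)) = ⊥ := by
    have hQ := CfsgLib.StdForms.oddQ_nondegenerate h2 m
    have hn : 5 ≤ Fintype.card (Unit ⊕ (Fin m ⊕ Fin m)) := by simp; omega
    rw [← CfsgLib.StdForms.coe_oddQ, ← Subgroup.card_eq_one]
    refine CfsgLib.Forms4.card_center_omega_one hQ hn (CfsgLib.Forms4.oddPairs m (by omega)) (fun g hg hgv => ?_)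
    exfalso
    have h1 := (CfsgLib.Forms.mem_special_iff g).1 (CfsgLib.Forms.omega_le_special hg)
    rw [hgv, Matrix.det_neg, Matrix.det_one, mul_one] at h1
    have hoddn : Odd (Fintype.card (Unit ⊕ (Fin m ⊕ Fin m))) := ⟨m, by simp; ring⟩
    rw [hoddn.neg_one_pow] at h1
    exact h2 (by linear_combination -h1)
  let pr : Matrix.symplecticGroup (Fin m) F →* Cfsg.PSp m F :=
    QuotientGroup.mk' (Subgroup.center (Matrix.symplecticGroup (Fin m) F))
  let ι : Cfsg.POmega F (Cfsg.quadFormOdd m F) →* ↥(Cfsg.Omega F (Cfsg.quadFormOdd m F)) :=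
    QuotientGroup.quotientBot.toMonoidHom.comp (QuotientGroup.quotientMulEquivOfEq hbot).toMonoidHom
  have hι : Function.Injective ι :=
    QuotientGroup.quotientBot.injective.comp (QuotientGroup.quotientMulEquivOfEq hbot).injective
  let L : GL (Unit ⊕ (Fin m ⊕ Fin m)) F →*
      ((Unit ⊕ (Fin m ⊕ Fin m) → F) ≃ₗ[F] (Unit ⊕ (Fin m ⊕ Fin m) → F)) :=
    (LinearMap.GeneralLinearGroup.generalLinearEquiv F _).toMonoidHom.comp
      Matrix.GeneralLinearGroup.toLin.toMonoidHom
  have hLinj : Function.Injective L :=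
    (LinearMap.GeneralLinearGroup.generalLinearEquiv F _).injective.comp
      Matrix.GeneralLinearGroup.toLin.injective
  let θ := L.comp ((Subgroup.subtype _).comp ((Subgroup.subtype _).comp (ι.comp (e.toMonoidHom.comp pr))))
  have hker : ∀ g, θ g = 1 → g ∈ Subgroup.center (Matrix.symplecticGroup (Fin m) F) := fun g hg => by
    have h0 : pr g = 1 := by
      have h' : ι (e (pr g)) = 1 := Subtype.ext (Subtype.ext (hLinj (hg.trans L.map_one.symm)))
      exact e.map_eq_one_iff.1 (hι (h'.trans ι.map_one.symm))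
    exact (QuotientGroup.eq_one_iff g).1 h0
  have hneg : θ (CfsgLib.Forms.SymplecticRepBound.negOne F m) = 1 := by
    have hc : CfsgLib.Forms.SymplecticRepBound.negOne F m ∈ Subgroup.center _ :=
      CfsgLib.SympOrders.center_of_scalar (c := -1) (by simp [CfsgLib.Forms.SymplecticRepBound.negOne])
    simp only [θ, MonoidHom.comp_apply]
    rw [show pr (CfsgLib.Forms.SymplecticRepBound.negOne F m) = 1 from (QuotientGroup.eq_one_iff _).2 hc]
    simp
  have hne : θ (CfsgLib.Forms.SymplecticRepBound.tSp F m ⟨0, by omega⟩ *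
      CfsgLib.Forms.SymplecticRepBound.tSp F m ⟨1, by omega⟩) ≠ 1 := by
    intro h
    obtain ⟨c, hc⟩ := CfsgLib.SympOrders.scalar_of_mem_center (hker _ h)
    rw [Submonoid.coe_mul, CfsgLib.Forms.SymplecticRepBound.tSp, CfsgLib.Forms.SymplecticRepBound.tSp,
      CfsgLib.Forms.SymplecticRepBound.pairMat_mul] at hc
    have e0 := congrFun (congrFun hc (Sum.inl ⟨0, by omega⟩)) (Sum.inl ⟨0, by omega⟩)
    have e2 := congrFun (congrFun hc (Sum.inl ⟨2, by omega⟩)) (Sum.inl ⟨2, by omega⟩)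
    simp [CfsgLib.Forms.SymplecticRepBound.pairMat, Fin.ext_iff] at e0 e2
    exact h2 (by linear_combination e2 - e0)
  have h := CfsgLib.Forms.SymplecticRepBound.lt_finrank h2 hm h2 θ hneg hne
  rw [Module.finrank_fintype_fun_eq_card] at h
  simp at h
  omega

end Cfsg.Agent.S0821
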