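import Cfsg.Statements.S0827
import Cfsg.Agent.Forms.UThreeTwo

set_option autoImplicit false
open Cfsg

namespace Cfsg.Agent.S0827

/-- U_3(2) ≅ 3².Q_8: PSU_3(2) (form over the field with 4 elements) has a normal subgroup N which is elementary abelian of order 9 such that the quotient by N is isomorphic to the quaternion group of order 8. -/
theorem result {F : Type*} [Field F] [Fintype F] (hF : Fintype.card F = 4) : ∃ (N : Subgroup (Cfsg.PSU 3 F 2)) (_ : N.Normal), Nat.card N = 9 ∧ (∀ x ∈ N, x ^ 3 = 1) ∧ Nonempty (Cfsg.PSU 3 F 2 ⧸ N ≃* QuaternionGroup 2) := by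
  obtain ⟨N, hN, h9, h3, ⟨ε⟩⟩ := CfsgLib.Forms.UThreeTwo.structure_gf4
  obtain ⟨e⟩ := CfsgLib.Forms.UThreeTwo.nonempty_psu_equiv
    (FiniteField.ringEquivOfCardEq (hF.trans CfsgLib.Linear.card_gf4.symm)) 3 2
  have hnormal : (N.comap e.toMonoidHom).Normal := Subgroup.Normal.comap hN _
  have hmap : (N.comap e.toMonoidHom).map e.toMonoidHom = N :=
    Subgroup.map_comap_eq_self_of_surjective e.surjective N
  refine ⟨N.comap e.toMonoidHom, hnormal, ?_, fun x hx => ?_,
    ⟨(QuotientGroup.congr (N.comap e.toMonoidHom) N e hmap).trans ε⟩⟩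
  · conv_rhs => rw [← h9, ← hmap, Subgroup.card_map_of_injective e.injective]
  · exact e.injective (by rw [map_pow, map_one]; exact h3 _ hx)

end Cfsg.Agent.S0827
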