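import Cfsg.Statements.S0828
import Cfsg.Agent.Forms.SymplecticOrder

set_option autoImplicit false
open Cfsg

namespace Cfsg.Agent.S0828

/-- The symplectic generalised quadrangle over a field with q elements: the number of 2-dimensional subspaces of F^4 on which the symplectic form vanishes is (q + 1)(q² + 1), and every non-zero vector lies in exactly q + 1 of them. -/
theorem result {F : Type*} [Field F] [Fintype F] {q : ℕ} (hF : Fintype.card F = q) : Nat.card {W : Submodule F (Fin 2 ⊕ Fin 2 → F) // Module.finrank F W = 2 ∧ ∀ u ∈ W, ∀ v ∈ W, Cfsg.sympForm 2 F u v = 0} = (q + 1) * (q ^ 2 + 1) ∧ ∀ v : Fin 2 ⊕ Fin 2 → F, v ≠ 0 → Nat.card {W : Submodule F (Fin 2 ⊕ Fin 2 → F) // Module.finrank F W = 2 ∧ v ∈ W ∧ ∀ u ∈ W, ∀ w ∈ W, Cfsg.sympForm 2 F u w = 0} = q + 1 := by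
  let B := CfsgLib.Forms.sympBilin 2 F
  have hA : B.IsAlt := CfsgLib.Forms.sympBilin_isAlt
  have hB : ∀ x, (∀ y, B x y = 0) → x = 0 := fun x hx =>
    CfsgLib.Forms.sympBilin_nondegenerate.1 x hx
  have hq : 2 ≤ q := hF ▸ Fintype.one_lt_card
  have hdim : Module.finrank F (Fin 2 ⊕ Fin 2 → F) = 4 := CfsgLib.Forms.finrank_sympSpace 2
  refine ⟨?_, fun v hv => ?_⟩
  · have h := CfsgLib.Forms.card_isotropic_mul B 2
    rw [CfsgLib.Forms.card_frames B (CfsgLib.Forms.alt_symm hA)
      (fun i => q ^ (4 - i) - q ^ i) 2 (fun i _ f hf => by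
        rw [CfsgLib.Forms.card_frameExt_alt B hA hB hf, hF, hdim])] at h
    simp only [B, CfsgLib.Forms.sympBilin_apply, Fin.prod_univ_two, Finset.prod_range_succ,
      Finset.prod_range_zero, hF, Fin.val_zero, Fin.val_one, one_mul, Nat.sub_zero, pow_zero,
      pow_one, show 4 - 1 = 3 from rfl] at h
    refine Nat.eq_of_mul_eq_mul_right (Nat.mul_pos (Nat.sub_pos_of_lt (by nlinarith))
      (Nat.sub_pos_of_lt (by nlinarith))) (h.trans ?_)
    have h1 : 1 ≤ q ^ 2 := Nat.one_le_pow _ _ (by omega)
    have h2 : q ≤ q ^ 2 := Nat.le_self_pow (by norm_num) q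
    have h3 : q ≤ q ^ 3 := Nat.le_self_pow (by norm_num) q
    have h4 : 1 ≤ q ^ 4 := Nat.one_le_pow _ _ (by omega)
    zify [h1, h2, h3, h4]
    ring
  · have hself : Cfsg.sympForm 2 F v v = 0 := CfsgLib.Forms.sympForm_self v
    have hf : ![v] ∈ CfsgLib.Forms.frames B 1 :=
      ⟨LinearIndependent.of_subsingleton (0 : Fin 1) (by simpa using hv), fun i j => by
        fin_cases i; fin_cases j; simpa [B, CfsgLib.Forms.sympBilin_apply] using hself⟩
    have hext := CfsgLib.Forms.card_frameExt_alt B hA hB hf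
    rw [hdim, hF, show 4 - 1 = 3 from rfl, pow_one] at hext
    have hs : Submodule.span F (Set.range ![v]) = Submodule.span F {v} := by simp
    let P := {W : Submodule F (Fin 2 ⊕ Fin 2 → F) // Module.finrank F W = 2 ∧ v ∈ W ∧
      ∀ u ∈ W, ∀ w ∈ W, Cfsg.sympForm 2 F u w = 0}
    haveI : Finite P := Finite.of_injective (fun W : P => (W.1 : Set (Fin 2 ⊕ Fin 2 → F)))
      (fun a b h => Subtype.ext (SetLike.coe_injective h))
    haveI : Fintype P := Fintype.ofFinite P
    have hline : ∀ w ∈ CfsgLib.Forms.frameExt B ![v], LinearIndependent F ![v, w] := by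
      intro w hw
      rw [LinearIndependent.pair_iff' hv]
      intro a ha
      exact hw.1 (by rw [hs, Submodule.mem_span_singleton]; exact ⟨a, ha⟩)
    have hmk : ∀ w ∈ CfsgLib.Forms.frameExt B ![v],
        Module.finrank F (Submodule.span F (Set.range ![v, w])) = 2 ∧
        v ∈ Submodule.span F (Set.range ![v, w]) ∧
        ∀ x ∈ Submodule.span F (Set.range ![v, w]), ∀ y ∈ Submodule.span F (Set.range ![v, w]),
          Cfsg.sympForm 2 F x y = 0 := by
      intro w hw
      refine ⟨by rw [finrank_span_eq_card (hline w hw), Fintype.card_fin],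
        Submodule.subset_span ⟨0, rfl⟩, fun x hx y hy => ?_⟩
      rw [Matrix.range_cons, Matrix.range_cons, Matrix.range_empty, Set.union_empty,
        Set.singleton_union] at hx hy
      obtain ⟨a, c, rfl⟩ := Submodule.mem_span_pair.1 hx
      obtain ⟨a', c', rfl⟩ := Submodule.mem_span_pair.1 hy
      have h1 : B v w = 0 := hw.2.2 0
      rw [← CfsgLib.Forms.sympBilin_apply]
      show B (a • v + c • w) (a' • v + c' • w) = 0
      simp [hA v, hA w, h1, CfsgLib.Forms.alt_symm hA v w h1]
    let e : CfsgLib.Forms.frameExt B ![v] ≃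
        Σ W : P, (((W.1 : Set (Fin 2 ⊕ Fin 2 → F)) \ (Submodule.span F {v} : Submodule F _)) :
          Set (Fin 2 ⊕ Fin 2 → F)) :=
      { toFun := fun w => ⟨⟨_, hmk w.1 w.2⟩, ⟨w.1, Submodule.subset_span ⟨1, rfl⟩,
          fun h => w.2.1 (by rw [hs]; exact h)⟩⟩
        invFun := fun p => ⟨p.2.1, fun h => p.2.2.2 (by rw [hs] at h; exact h), hA _, fun i => by
          fin_cases i
          show B v p.2.1 = 0
          rw [CfsgLib.Forms.sympBilin_apply]
          exact p.1.2.2.2 _ p.1.2.2.1 _ p.2.2.1⟩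
        left_inv := fun w => rfl
        right_inv := fun p => by
          obtain ⟨⟨W, hW⟩, ⟨w, hw⟩⟩ := p
          have hli : LinearIndependent F ![v, w] := by
            rw [LinearIndependent.pair_iff' hv]
            intro a ha
            exact hw.2 (Submodule.mem_span_singleton.2 ⟨a, ha⟩)
          have h : Submodule.span F (Set.range ![v, w]) = W :=
            CfsgLib.Forms.span_range_eq_of_mem hli hW.1 fun i => by
              fin_cases i
              · exact hW.2.1
              · exact hw.1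
          exact Sigma.subtype_ext (Subtype.ext h) rfl }
    rw [Nat.card_congr e, Nat.card_sigma, Finset.sum_congr rfl (fun W _ => by
      rw [CfsgLib.Forms.card_diff ((Submodule.span_singleton_le_iff_mem v _).2 W.2.2.1), W.2.1,
        finrank_span_singleton hv, hF, pow_one]), Finset.sum_const, Finset.card_univ,
      ← Nat.card_eq_fintype_card, smul_eq_mul] at hext
    refine Nat.eq_of_mul_eq_mul_right (Nat.sub_pos_of_lt (by nlinarith : q < q ^ 2)) (hext.trans ?_)
    have h2 : q ≤ q ^ 2 := Nat.le_self_pow (by norm_num) q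
    have h3 : q ≤ q ^ 3 := Nat.le_self_pow (by norm_num) q
    zify [h2, h3]
    ring

end Cfsg.Agent.S0828
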