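import Cfsg.Statements.S0830
import Cfsg.Agent.Forms.UnitaryOrder

set_option autoImplicit false
open Cfsg

namespace Cfsg.Agent.S0830

/-- The unitary quadrangle of PSU_5(q): with |F| = q², the number of 2-dimensional subspaces of F^5 on which the Hermitian form vanishes is (q³ + 1)(q⁵ + 1). -/
theorem result {F : Type*} [Field F] [Fintype F] {q : ℕ} (hF : Fintype.card F = q ^ 2) : Nat.card {W : Submodule F (Fin 5 → F) // Module.finrank F W = 2 ∧ ∀ u ∈ W, ∀ v ∈ W, Cfsg.hermForm 5 F q u v = 0} = (q ^ 3 + 1) * (q ^ 5 + 1) := by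
  obtain ⟨σ, hσ, hσ2⟩ := CfsgLib.FieldEmb.exists_conj hF
  have hq := CfsgLib.Forms.two_le_q hF
  have hS := CfsgLib.Forms.hermSesq_isSymm hσ2 5 (F := F)
  have hB := CfsgLib.Forms.hermSesq_sep (σ := σ) 5 (F := F)
  have hfr := CfsgLib.Forms.card_frames_herm hF hσ hσ2 _ hS hB 2 1 (Module.finrank_fin_fun F)
  have h := CfsgLib.Forms.card_isotropic_mul (CfsgLib.Forms.hermSesq σ 5) 2
  rw [hF, Fin.prod_univ_two] at h
  rw [show Nat.card {W : Submodule F (Fin 5 → F) // Module.finrank F W = 2 ∧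
      ∀ u ∈ W, ∀ v ∈ W, Cfsg.hermForm 5 F q u v = 0} = Nat.card {W : Submodule F (Fin 5 → F) //
      Module.finrank F W = 2 ∧ ∀ u ∈ W, ∀ v ∈ W, CfsgLib.Forms.hermSesq σ 5 u v = 0} from
    Nat.card_congr (Equiv.subtypeEquivRight fun W => and_congr_right fun _ =>
      ⟨fun h u hu v hv => by rw [← CfsgLib.Forms.hermForm_eq_hermSesq hσ]; exact h v hv u hu,
        fun h u hu v hv => by rw [CfsgLib.Forms.hermForm_eq_hermSesq hσ]; exact h v hv u hu⟩)]
  rw [← h] at hfr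
  simp only [Finset.prod_range_succ, Finset.prod_range_zero, Finset.sum_range_succ,
    Finset.sum_range_zero, Fin.val_zero, Fin.val_one] at hfr
  norm_num [CfsgLib.Forms.u, Nat.even_iff] at hfr
  generalize Nat.card {W : Submodule F (Fin 5 → F) // Module.finrank F W = 2 ∧
      ∀ u ∈ W, ∀ v ∈ W, CfsgLib.Forms.hermSesq σ 5 u v = 0} = N at hfr ⊢
  have e1 : 1 ≤ q ^ 2 := Nat.one_le_pow _ _ (by omega)
  have e2 : 1 ≤ q ^ 4 := Nat.one_le_pow _ _ (by omega)
  have e3 : 1 ≤ (q ^ 2) ^ 2 := Nat.one_le_pow _ _ (by omega)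
  have e4 : q ^ 2 ≤ (q ^ 2) ^ 2 := Nat.le_self_pow (by norm_num) _
  zify [e1, e2, e3, e4] at hfr ⊢
  have hpos : (0 : ℤ) < ((q : ℤ) ^ 4 - 1) * ((q : ℤ) ^ 2 * ((q : ℤ) ^ 2 - 1)) := by
    have : (2 : ℤ) ≤ q := by exact_mod_cast hq
    have h2 : (1 : ℤ) < (q : ℤ) ^ 2 := one_lt_pow₀ (by omega) (by norm_num)
    have h4 : (1 : ℤ) < (q : ℤ) ^ 4 := one_lt_pow₀ (by omega) (by norm_num)
    exact mul_pos (by omega) (mul_pos (by omega) (by omega))
  apply mul_right_cancel₀ (ne_of_gt hpos)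
  apply mul_right_cancel₀ (b := (q : ℤ) + 1) (by omega)
  linear_combination hfr

end Cfsg.Agent.S0830
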