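import Cfsg.Statements.S0832
import Cfsg.Agent.Forms.SingularFamilies

set_option autoImplicit false
open Cfsg

namespace Cfsg.Agent.S0832

/-- For the form Σ x_i y_i on F^(2m) over a finite field, m ≥ 1: an (m−1)-dimensional subspace on which the form vanishes is contained in exactly two m-dimensional subspaces on which it vanishes. -/
theorem result {F : Type*} [Field F] [Finite F] (m : ℕ) (hm : 1 ≤ m) (U : Submodule F (Fin m ⊕ Fin m → F)) (hU : Module.finrank F U + 1 = m ∧ ∀ u ∈ U, Cfsg.quadFormPlus m F u = 0) : Nat.card {W : Submodule F (Fin m ⊕ Fin m → F) // Module.finrank F W = m ∧ (∀ w ∈ W, Cfsg.quadFormPlus m F w = 0) ∧ U ≤ W} = 2 := by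
  obtain ⟨n, rfl⟩ : ∃ n, m = n + 1 := ⟨m - 1, by omega⟩
  have e : ∀ w, Cfsg.quadFormPlus (n + 1) F w = CfsgLib.StdForms.plusQ (n + 1) F w := fun w => by
    rw [CfsgLib.StdForms.plusQ_apply]
  simp only [e] at hU ⊢
  rw [← CfsgLib.Forms.card_max_singular_containing U (by omega) hU.2]
  exact Nat.card_congr (Equiv.subtypeEquivRight fun W =>
    ⟨fun h => ⟨⟨h.1, h.2.1⟩, h.2.2⟩, fun h => ⟨h.1.1, h.1.2, h.2⟩⟩)

end Cfsg.Agent.S0832
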