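import Cfsg.Statements.S0833
import Cfsg.Agent.Forms.SymplecticOrder

set_option autoImplicit false
open Cfsg

namespace Cfsg.Agent.S0833

/-- If B₁, B₂ are non-degenerate alternating forms on U (dim 2k) and W (dim 2l), then B₁ ⊗ B₂ on U ⊗ W is symmetric, non-degenerate, and vanishes identically on some subspace of dimension 2kl (half of dim U ⊗ W). -/
theorem result {F U W : Type*} [Field F] [Fintype F] [AddCommGroup U] [Module F U] [FiniteDimensional F U] [AddCommGroup W] [Module F W] [FiniteDimensional F W] (B₁ : LinearMap.BilinForm F U) (B₂ : LinearMap.BilinForm F W) (h₁ : B₁.Nondegenerate) (h₂ : B₂.Nondegenerate) (hA₁ : B₁.IsAlt) (hA₂ : B₂.IsAlt) (k l : ℕ) (hU : Module.finrank F U = 2 * k) (hW : Module.finrank F W = 2 * l) : (B₁.tmul B₂).IsSymm ∧ (B₁.tmul B₂).Nondegenerate ∧ (∃ X : Submodule F (TensorProduct F U W), Module.finrank F X = 2 * k * l ∧ ∀ x ∈ X, ∀ y ∈ X, (B₁.tmul B₂) x y = 0) := by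
  obtain ⟨m₁, b₁, p₁, q₁, r₁⟩ := CfsgLib.Forms.exists_symplectic_basis_nondeg B₁ hA₁ h₁
  obtain ⟨m₂, b₂, p₂, q₂, r₂⟩ := CfsgLib.Forms.exists_symplectic_basis_nondeg B₂ hA₂ h₂
  have hm₁ : m₁ = k := by
    have := Module.finrank_eq_card_basis b₁
    simp at this; omega
  let b := b₁.tensorProduct b₂
  have hsw₁ : ∀ x y, B₁ y x = - B₁ x y := fun x y => (LinearMap.IsAlt.neg hA₁ x y).symm
  have hsw₂ : ∀ x y, B₂ y x = - B₂ x y := fun x y => (LinearMap.IsAlt.neg hA₂ x y).symm
  have hsymm : ∀ x y, (B₁.tmul B₂) x y = (B₁.tmul B₂) y x := by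
    intro x y
    have : (B₁.tmul B₂).flip = B₁.tmul B₂ := by
      refine b.ext fun i => b.ext fun j => ?_
      obtain ⟨i₁, i₂⟩ := i
      obtain ⟨j₁, j₂⟩ := j
      simp [b, hsw₁ (b₁ i₁) (b₁ j₁), hsw₂ (b₂ i₂) (b₂ j₂)]
    conv_lhs => rw [← this]
    rfl
  -- the pairing sends `(i, j)` to `± (swap i, swap j)`
  have key₁ : ∀ i, ∃ c : F, c ≠ 0 ∧ ∀ i', B₁ (b₁ i) (b₁ i') = if i' = i.swap then c else 0 := by
    rintro (i | i)
    · refine ⟨1, one_ne_zero, ?_⟩
      rintro (i' | i') <;> simp [p₁, q₁, eq_comm]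
    · refine ⟨-1, neg_ne_zero.2 one_ne_zero, ?_⟩
      rintro (i' | i')
      · rw [hsw₁, p₁]; simp [apply_ite]
      · simp [r₁]
  have key₂ : ∀ i, ∃ c : F, c ≠ 0 ∧ ∀ i', B₂ (b₂ i) (b₂ i') = if i' = i.swap then c else 0 := by
    rintro (i | i)
    · refine ⟨1, one_ne_zero, ?_⟩
      rintro (i' | i') <;> simp [p₂, q₂, eq_comm]
    · refine ⟨-1, neg_ne_zero.2 one_ne_zero, ?_⟩
      rintro (i' | i')
      · rw [hsw₂, p₂]; simp [apply_ite]
      · simp [r₂]
  have hsep : ∀ x, (∀ y, (B₁.tmul B₂) x y = 0) → x = 0 := by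
    intro x hx
    apply b.ext_elem
    rintro ⟨i, j⟩
    obtain ⟨c, hc, hc'⟩ := key₁ i
    obtain ⟨d, hd, hd'⟩ := key₂ j
    have h := hx (b (i.swap, j.swap))
    rw [← b.sum_repr x, map_sum, LinearMap.sum_apply, Finset.sum_eq_single (i, j)] at h
    · simp [b, hc', hd', hc, hd] at h
      simpa using h
    · rintro ⟨i', j'⟩ - hne
      obtain ⟨c₁, -, hc₁⟩ := key₁ i'
      obtain ⟨d₁, -, hd₁⟩ := key₂ j'
      simp only [map_smul, LinearMap.smul_apply, smul_eq_mul, b, Module.Basis.tensorProduct_apply,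
        LinearMap.BilinForm.tmul, LinearMap.BilinForm.tensorDistrib_tmul, hc₁, hd₁]
      by_cases hi : i' = i
      · have hj : j' ≠ j := fun hj => hne (by rw [hi, hj])
        have : j.swap ≠ j'.swap := fun h => hj (by simpa using (congrArg Sum.swap h).symm)
        simp [this]
      · have : i.swap ≠ i'.swap := fun h => hi (by simpa using (congrArg Sum.swap h).symm)
        simp [this]
    · intro h; exact absurd (Finset.mem_univ _) h
  refine ⟨⟨hsymm⟩, ⟨hsep, fun x hx => hsep x fun y => by rw [hsymm]; exact hx y⟩, ?_⟩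
  let g : Fin m₁ × (Fin m₂ ⊕ Fin m₂) → (Fin m₁ ⊕ Fin m₁) × (Fin m₂ ⊕ Fin m₂) :=
    fun p => (Sum.inl p.1, p.2)
  let f : Fin m₁ × (Fin m₂ ⊕ Fin m₂) → TensorProduct F U W := b ∘ g
  have hg : Function.Injective g := fun p p' h =>
    Prod.ext (Sum.inl_injective (congrArg Prod.fst h :)) (congrArg Prod.snd h :)
  refine ⟨Submodule.span F (Set.range f), ?_, fun x hx y hy => ?_⟩
  · rw [finrank_span_eq_card (b.linearIndependent.comp g hg)]
    have := Module.finrank_eq_card_basis b₂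
    simp at this
    simp [hm₁]
    rw [hW] at this
    nlinarith
  · induction hx using Submodule.span_induction with
    | mem x hx =>
      obtain ⟨p, rfl⟩ := hx
      induction hy using Submodule.span_induction with
      | mem y hy => obtain ⟨p', rfl⟩ := hy; simp [f, g, b, q₁]
      | zero => simp
      | add a c _ _ ha hc => simp [ha, hc]
      | smul t a _ ha => simp [ha]
    | zero => simp
    | add a c _ _ ha hc => simp [ha, hc]
    | smul t a _ ha => simp [ha]

end Cfsg.Agent.S0833
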