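import Cfsg.Statements.S0835
import Cfsg.Agent.Forms.PlusType

set_option autoImplicit false
open Cfsg

namespace Cfsg.Agent.S0835

/-- Over a finite field with 2 ≠ 0: if B₁ on U (dim 2k, k ≥ 1) is non-degenerate symmetric of minus type (no totally isotropic k-subspace) and B₂ on W (dim 2l + 1) is non-degenerate symmetric, then B₁ ⊗ B₂ (dimension 2k(2l+1)) admits no totally isotropic subspace of dimension k(2l+1) (minus type). -/
theorem result {F U W : Type*} [Field F] [Fintype F] [AddCommGroup U] [Module F U] [FiniteDimensional F U] [AddCommGroup W] [Module F W] [FiniteDimensional F W] (h2 : (2 : F) ≠ 0) (B₁ : LinearMap.BilinForm F U) (B₂ : LinearMap.BilinForm F W) (h₁ : B₁.Nondegenerate) (h₂ : B₂.Nondegenerate) (hS₁ : B₁.IsSymm) (hS₂ : B₂.IsSymm) (k l : ℕ) (hk : 1 ≤ k) (hU : Module.finrank F U = 2 * k) (hW : Module.finrank F W = 2 * l + 1) (hm₁ : ¬ (∃ X : Submodule F (U), Module.finrank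 F X = k ∧ ∀ x ∈ X, ∀ y ∈ X, (B₁) x y = 0)) : ¬ (∃ X : Submodule F (TensorProduct F U W), Module.finrank F X = k * (2 * l + 1) ∧ ∀ x ∈ X, ∀ y ∈ X, (B₁.tmul B₂) x y = 0) := by
  obtain ⟨b₁, hb₁⟩ : ∃ b, b = Module.finBasisOfFinrankEq F U hU := ⟨_, rfl⟩
  obtain ⟨b₂, hb₂⟩ : ∃ b, b = Module.finBasisOfFinrankEq F W hW := ⟨_, rfl⟩
  have d₁ := (LinearMap.BilinForm.nondegenerate_iff_det_ne_zero b₁).1 h₁
  have d₂ := (LinearMap.BilinForm.nondegenerate_iff_det_ne_zero b₂).1 h₂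
  have hd := CfsgLib.Forms.det_tmul B₁ B₂ b₁ b₂
  rw [Fintype.card_fin, Fintype.card_fin] at hd
  rw [CfsgLib.Forms.plus_iff_isSquare h2 (B₁.tmul B₂)
    ⟨fun x y => (CfsgLib.Forms.isSymm_tmul B₁ B₂ hS₁ hS₂).eq x y⟩
    (b₁.tensorProduct b₂) (by rw [hd]; exact mul_ne_zero (pow_ne_zero _ d₁) (pow_ne_zero _ d₂))
    (k := k * (2 * l + 1)) (by simp; ring)]
  rw [CfsgLib.Forms.plus_iff_isSquare h2 B₁ hS₁ b₁ d₁ (k := k) (Fintype.card_fin _)] at hm₁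
  rintro ⟨r, hr⟩
  refine hm₁ ⟨r / (((-1 : F) ^ k * (LinearMap.BilinForm.toMatrix b₁ B₁).det) ^ l *
    (LinearMap.BilinForm.toMatrix b₂ B₂).det ^ k), ?_⟩
  rw [hd, pow_mul] at hr
  have hne : ((-1 : F) ^ k * (LinearMap.BilinForm.toMatrix b₁ B₁).det) ^ l *
      (LinearMap.BilinForm.toMatrix b₂ B₂).det ^ k ≠ 0 :=
    mul_ne_zero (pow_ne_zero _ (mul_ne_zero (pow_ne_zero _ (neg_ne_zero.2 one_ne_zero)) d₁))
      (pow_ne_zero _ d₂)
  rw [div_mul_div_comm, eq_div_iff (mul_ne_zero hne hne), ← hr]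
  ring

end Cfsg.Agent.S0835
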