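import Cfsg.Statements.S0836

set_option autoImplicit false
open Cfsg

namespace Cfsg.Agent.S0836

/-- For i ≠ j and any scalar c, the elementary transvection 1 + c E_ij is a commutator ⁅g, h⁆ of two elements of SL_n(F) provided n ≥ 3, or n = 2 and F contains x ≠ 0 with x² ≠ 1. -/
theorem result {F : Type*} [Field F] (n : ℕ) (hn : 3 ≤ n ∨ (n = 2 ∧ ∃ x : F, x ≠ 0 ∧ x ^ 2 ≠ 1)) (i j : Fin n) (hij : i ≠ j) (c : F) (t : Matrix.SpecialLinearGroup (Fin n) F) (ht : (t : Matrix (Fin n) (Fin n) F) = Matrix.transvection i j c) : t ∈ commutatorSet (Matrix.SpecialLinearGroup (Fin n) F) := by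
  have hmk : ∀ (a b : Fin n) (h : a ≠ b) (x : F), ∃ s : Matrix.SpecialLinearGroup (Fin n) F,
      (s : Matrix (Fin n) (Fin n) F) = Matrix.transvection a b x :=
    fun a b h x => ⟨⟨_, Matrix.det_transvection_of_ne a b h x⟩, rfl⟩
  rcases hn with hn | ⟨rfl, x, hx0, hx1⟩
  · obtain ⟨k, hki, hkj⟩ : ∃ k, k ≠ i ∧ k ≠ j := by
      by_contra h
      have h' : (Finset.univ : Finset (Fin n)) ⊆ {i, j} := fun k _ => by
        by_contra hk
        simp only [Finset.mem_insert, Finset.mem_singleton, not_or] at hk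
        exact h ⟨k, hk⟩
      have := (Finset.card_le_card h').trans Finset.card_le_two
      rw [Finset.card_univ, Fintype.card_fin] at this
      omega
    obtain ⟨a, ha⟩ := hmk i k hki.symm c
    obtain ⟨b, hb⟩ := hmk k j hkj 1
    refine ⟨a, b, ?_⟩
    rw [commutatorElement_def, mul_inv_eq_iff_eq_mul, mul_inv_eq_iff_eq_mul]
    apply Subtype.ext
    show (a : Matrix (Fin n) (Fin n) F) * b =
      (t : Matrix (Fin n) (Fin n) F) * b * a
    rw [ha, hb, ht]
    simp only [Matrix.transvection, mul_add, add_mul, mul_one, one_mul, Matrix.single_mul_single_same,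
      Matrix.single_mul_single_of_ne _ _ _ _ hkj.symm, Matrix.single_mul_single_of_ne _ _ _ _ hki,
      Matrix.single_mul_single_of_ne _ _ _ _ hij.symm]
    simp only [Matrix.single_mul_single_of_ne _ _ _ _ hki.symm, zero_mul, mul_zero, add_zero,
      zero_add, mul_one]
    abel
  · obtain ⟨d, hd⟩ : ∃ d : Fin 2 → F, d = fun l => if l = i then x else x⁻¹ := ⟨_, rfl⟩
    have hdi : d i = x := by rw [hd]; simp
    have hdj : d j = x⁻¹ := by rw [hd]; simp [hij.symm]
    have hdet : (Matrix.diagonal d).det = 1 := by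
      rw [Matrix.det_diagonal, hd, Fin.prod_univ_two]
      fin_cases i <;> fin_cases j <;> simp_all
    have hx2 : x ^ 2 - 1 ≠ 0 := sub_ne_zero.2 hx1
    obtain ⟨b, hb⟩ := hmk i j hij (c / (x ^ 2 - 1))
    obtain ⟨a', ha'⟩ : ∃ s : Matrix.SpecialLinearGroup (Fin 2) F,
        (s : Matrix (Fin 2) (Fin 2) F) = Matrix.diagonal d := ⟨⟨_, hdet⟩, rfl⟩
    refine ⟨a', b, ?_⟩
    rw [commutatorElement_def, mul_inv_eq_iff_eq_mul, mul_inv_eq_iff_eq_mul]
    apply Subtype.ext
    show (a' : Matrix (Fin 2) (Fin 2) F) * b = (t : Matrix (Fin 2) (Fin 2) F) * b * a'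
    rw [ha', hb, ht, Matrix.transvection_mul_transvection_same _ _ hij]
    ext a e
    simp only [Matrix.diagonal_mul, Matrix.mul_diagonal, Matrix.transvection, Matrix.add_apply,
      Matrix.one_apply, Matrix.single_apply]
    by_cases h : i = a ∧ j = e
    · obtain ⟨rfl, rfl⟩ := h
      simp [hij, hdi, hdj]
      field_simp
      ring
    · by_cases h' : a = e
      · subst h'; simp [h, mul_comm]
      · simp [h, h']

end Cfsg.Agent.S0836
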