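import Cfsg.Statements.S0837
import Cfsg.Agent.Forms.UnitaryOrder

set_option autoImplicit false
open Cfsg

namespace Cfsg.Agent.S0837

/-- If W ≤ F^n (|F| = q²) is a k-dimensional subspace on which the Hermitian form Σ x_i y_i^q is non-degenerate, then the stabiliser of W in GU_n(q) is isomorphic to GU_k(q) × GU_(n−k)(q). -/
theorem result {F : Type*} [Field F] [Fintype F] {q : ℕ} (hF : Fintype.card F = q ^ 2) (n k : ℕ) (hk : k ≤ n) (W : Submodule F (Fin n → F)) (hWk : Module.finrank F W = k) (hW : ∀ u ∈ W, (∀ v ∈ W, Cfsg.hermForm n F q u v = 0) → u = 0) : Nonempty (↥((Cfsg.stabilizing (Cfsg.glToMat (Fin n) F) (W : Set (Fin n → F))).subgroupOf (Cfsg.GU n F q)) ≃* ↥(Cfsg.GU k F q) × ↥(Cfsg.GU (n - k) F q)) := by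
  obtain ⟨σ, hσ, hσ2⟩ := CfsgLib.FieldEmb.exists_conj hF
  let B := CfsgLib.Forms.hermSesq σ n (F := F)
  have hS : B.IsSymm := CfsgLib.Forms.hermSesq_isSymm hσ2 n
  have hrefl := CfsgLib.Forms.herm_refl hS
  have hB : ∀ x, (∀ y, B x y = 0) → x = 0 := CfsgLib.Forms.hermSesq_sep n
  have hf : ∀ u v, Cfsg.hermForm n F q u v = B v u := CfsgLib.Forms.hermForm_eq_hermSesq hσ n
  let P : Submodule F (Fin n → F) := ⨅ x : W, LinearMap.ker (B (x : Fin n → F))
  have hP : ∀ v, v ∈ P ↔ ∀ x ∈ W, B x v = 0 := fun v => by simp [P]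
  have hdisj : W ⊓ P = ⊥ := by
    rw [eq_bot_iff]
    intro x hx
    exact hW x hx.1 fun v hv => by rw [hf]; exact (hP x).1 hx.2 v hv
  -- the linear map `v ↦ (B w · v)` on `W` is surjective, so `W ⊔ P = ⊤`
  have hc : IsCompl W P := by
    refine IsCompl.of_eq hdisj ?_
    let b := Module.finBasisOfFinrankEq F W hWk
    let L : (Fin n → F) →ₗ[F] (Fin k → F) := LinearMap.pi fun j => B (b j : Fin n → F)
    have hinj : Function.Injective (L ∘ₗ W.subtype) := by
      rw [injective_iff_map_eq_zero]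
      intro x hx
      apply Subtype.ext
      refine hW x x.2 fun v hv => ?_
      rw [hf, show v = ((⟨v, hv⟩ : W) : Fin n → F) from rfl, ← b.sum_repr ⟨v, hv⟩]
      simp only [Submodule.coe_sum, Submodule.coe_smul, map_sum, map_smulₛₗ, LinearMap.coe_sum,
        Finset.sum_apply, LinearMap.smul_apply, smul_eq_mul]
      exact Finset.sum_eq_zero fun j _ => by
        rw [show B (b j : Fin n → F) (x : Fin n → F) = 0 from congrFun hx j, mul_zero]
    have hsurj := (LinearMap.injective_iff_surjective_of_finrank_eq_finrank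
      (f := L ∘ₗ W.subtype) (by simp [hWk])).1 hinj
    rw [eq_top_iff]
    intro v _
    obtain ⟨w, hw⟩ := hsurj (L v)
    rw [Submodule.mem_sup]
    refine ⟨w, w.2, v - w, (hP _).2 fun x hx => ?_, by abel⟩
    rw [show x = ((⟨x, hx⟩ : W) : Fin n → F) from rfl, ← b.sum_repr ⟨x, hx⟩]
    rw [map_sub, sub_eq_zero]
    simp only [Submodule.coe_sum, Submodule.coe_smul, map_sum, map_smulₛₗ, LinearMap.coe_sum,
      Finset.sum_apply, LinearMap.smul_apply, smul_eq_mul]
    refine Finset.sum_congr rfl fun j _ => ?_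
    rw [show B (b j : Fin n → F) (w : Fin n → F) = B (b j : Fin n → F) v from congrFun hw j]
  have hPn : ∀ x : P, (∀ y : P, CfsgLib.Forms.restrictForm B P x y = 0) → x = 0 := by
    intro x hx
    apply Subtype.ext
    apply hB
    intro z
    obtain ⟨p, rfl⟩ := (Submodule.prodEquivOfIsCompl W P hc).surjective z
    show B (x : Fin n → F) ((p.1 : Fin n → F) + p.2) = 0
    rw [map_add, hrefl _ _ ((hP x).1 x.2 _ p.1.2), zero_add]
    exact hx p.2
  have hWn : ∀ x : W, (∀ y : W, CfsgLib.Forms.restrictForm B W x y = 0) → x = 0 := fun x hx =>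
    Subtype.ext (hW x x.2 fun v hv => by rw [hf]; exact hrefl _ _ (hx ⟨v, hv⟩))
  have hPd : Module.finrank F P = n - k := by
    have h := Submodule.finrank_add_eq_of_isCompl hc
    rw [Module.finrank_fin_fun, hWk] at h
    omega
  obtain ⟨e₁⟩ := CfsgLib.Forms.nonempty_isoGroup_herm_equiv_GU hF hσ hσ2
    (CfsgLib.Forms.restrictForm B W) ⟨fun x y => hS.eq x y⟩ hWn hWk
  obtain ⟨e₂⟩ := CfsgLib.Forms.nonempty_isoGroup_herm_equiv_GU hF hσ hσ2
    (CfsgLib.Forms.restrictForm B P) ⟨fun x y => hS.eq x y⟩ hPn hPd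
  let e₀ : ↥((Cfsg.stabilizing (Cfsg.glToMat (Fin n) F) (W : Set (Fin n → F))).subgroupOf
      (Cfsg.GU n F q)) ≃* CfsgLib.Forms.stabSubmodule B W :=
    { Equiv.subtypeEquiv (CfsgLib.Forms.guEquivIso hσ n).toEquiv
        (fun g => ⟨fun h x => (h x).symm, fun h x => (h x).symm⟩) with
      map_mul' := fun a b => Subtype.ext (map_mul (CfsgLib.Forms.guEquivIso hσ n) a.1 b.1) }
  exact ⟨e₀.trans ((CfsgLib.Forms.stabEquivProd hc hP hrefl).trans (e₁.prodCongr e₂))⟩

end Cfsg.Agent.S0837
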