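import Cfsg.Statements.S0838
import Cfsg.Agent.FormDiscr.Basic

set_option autoImplicit false
open Cfsg

namespace Cfsg.Agent.S0838

/-- Over a finite field with 2 ≠ 0 and n odd: two quadratic forms Q₁, Q₂ on F^n with non-degenerate polar forms are similar — there are an invertible linear map g and a scalar c ≠ 0 with Q₂ (g v) = c · Q₁ v for all v. -/
theorem result {F : Type*} [Field F] [Fintype F] (h2 : (2 : F) ≠ 0) {n : ℕ} (hn : Odd n) (Q₁ Q₂ : QuadraticForm F (Fin n → F)) (h₁ : (QuadraticMap.polarBilin Q₁).Nondegenerate) (h₂ : (QuadraticMap.polarBilin Q₂).Nondegenerate) : ∃ (g : (Fin n → F) ≃ₗ[F] (Fin n → F)) (c : F), c ≠ 0 ∧ ∀ v, Q₂ (g v) = c * Q₁ v := by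
  classical
  have g₁ := CfsgLib.FormDiscr.gram_det_ne_zero Q₁ h₁
  have g₂ := CfsgLib.FormDiscr.gram_det_ne_zero Q₂ h₂
  obtain ⟨c, hc, hsq⟩ : ∃ c, c ≠ 0 ∧ IsSquare
      (c ^ n * (CfsgLib.FormDiscr.gram Q₁).det * (CfsgLib.FormDiscr.gram Q₂).det) := by
    refine ⟨(CfsgLib.FormDiscr.gram Q₁).det * (CfsgLib.FormDiscr.gram Q₂).det,
      mul_ne_zero g₁ g₂, ?_⟩
    obtain ⟨k, rfl⟩ := hn
    exact ⟨((CfsgLib.FormDiscr.gram Q₁).det * (CfsgLib.FormDiscr.gram Q₂).det) ^ (k + 1), by ring⟩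
  have hgram : CfsgLib.FormDiscr.gram (c • Q₁) = c • CfsgLib.FormDiscr.gram Q₁ := by
    ext i j
    simp [CfsgLib.FormDiscr.gram, QuadraticMap.polar, mul_sub]
  have hnd : (QuadraticMap.polarBilin (c • Q₁)).Nondegenerate := by
    have hp : ∀ x y, QuadraticMap.polar (⇑(c • Q₁)) x y = c * QuadraticMap.polar (⇑Q₁) x y :=
      fun x y => by simp [QuadraticMap.polar, mul_sub]
    exact ⟨fun x hx => h₁.1 x fun y => (mul_eq_zero.1 ((hp x y).symm.trans (hx y))).resolve_left hc,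
      fun x hx => h₁.2 x fun y => (mul_eq_zero.1 ((hp y x).symm.trans (hx y))).resolve_left hc⟩
  obtain ⟨g, hg⟩ := (CfsgLib.FormDiscr.equivalent_iff h2 (c • Q₁) Q₂ hnd h₂).2 (by
    rw [hgram, Matrix.det_smul, Fintype.card_fin]; exact hsq)
  exact ⟨g, c, hc, fun v => by rw [hg v]; rfl⟩

end Cfsg.Agent.S0838
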