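import Cfsg.Statements.S0839

set_option autoImplicit false
open Cfsg

namespace Cfsg.Agent.S0839

/-- Every transvection t ∈ SL_(n+2)(F) (rank(t − 1) = 1, (t − 1)² = 0) is conjugate in SL_(n+2)(F) to 1 + v·e_0ᵀ for some column vector v with v_0 = 0 (the group A of matrices that are the identity except in the first column below the diagonal); the dimension is written n + 2 ≥ 2. -/
theorem result {F : Type*} [Field F] (n : ℕ) (t : Matrix.SpecialLinearGroup (Fin (n + 2)) F) (ht : Cfsg.IsTransvection (t : Matrix (Fin (n + 2)) (Fin (n + 2)) F)) : ∃ (g : Matrix.SpecialLinearGroup (Fin (n + 2)) F) (v : Fin (n + 2) → F), v 0 = 0 ∧ ((g⁻¹ * t * g : Matrix.SpecialLinearGroup (Fin (n + 2)) F) : Matrix (Fin (n + 2)) (Fin (n + 2)) F) = 1 + Matrix.vecMulVec v (Pi.single 0 1) := by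
  classical
  obtain ⟨hr, hsq⟩ := ht
  obtain ⟨M, hM⟩ : ∃ M, M = (t : Matrix (Fin (n + 2)) (Fin (n + 2)) F) - 1 := ⟨_, rfl⟩
  rw [← hM] at hr hsq
  obtain ⟨u, hu0, hu⟩ := finrank_eq_one_iff'.1 (show Module.finrank F (LinearMap.range M.mulVecLin) = 1 from hr)
  obtain ⟨a, ha⟩ : ∃ a : Fin (n + 2) → F, ∀ x, M.mulVec x = (a ⬝ᵥ x) • (u : Fin (n + 2) → F) := by
    choose c hc using fun j => hu ⟨_, LinearMap.mem_range_self M.mulVecLin (Pi.single j 1)⟩
    have hM' : M = Matrix.vecMulVec (u : Fin (n + 2) → F) c := by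
      ext i j
      have h := congrFun (congrArg Subtype.val (hc j)) i
      simp only [Submodule.coe_smul, Pi.smul_apply, smul_eq_mul, Matrix.mulVecLin_apply,
        Matrix.mulVec_single_one, Matrix.col_apply] at h
      rw [Matrix.vecMulVec_apply, ← h, mul_comm]
    exact ⟨c, fun x => (congrArg (fun N => N.mulVec x) hM').trans
      (by rw [Matrix.vecMulVec_mulVec, op_smul_eq_smul])⟩
  have hu0' : (u : Fin (n + 2) → F) ≠ 0 := fun h => hu0 (Subtype.ext h)
  have ha0 : a ≠ 0 := by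
    intro h
    obtain ⟨y, hy⟩ := u.2
    rw [Matrix.mulVecLin_apply, ha, h, zero_dotProduct, zero_smul] at hy
    exact hu0' hy.symm
  have hau : a ⬝ᵥ (u : Fin (n + 2) → F) = 0 := by
    obtain ⟨y, hy⟩ := u.2
    rw [Matrix.mulVecLin_apply] at hy
    have h := congrArg (fun N => N.mulVec y) hsq
    simp only [← Matrix.mulVec_mulVec, hy, ha (u : Fin (n + 2) → F), Matrix.zero_mulVec] at h
    exact (smul_eq_zero.1 h).resolve_right hu0'
  obtain ⟨j, hj⟩ : ∃ j, a j ≠ 0 := Function.ne_iff.1 ha0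
  -- a matrix of determinant one whose transpose sends `a` to a multiple of `e₀`
  obtain ⟨B, hB⟩ : ∃ B : Matrix (Fin (n + 2)) (Fin (n + 2)) F,
      B = ((1 : Matrix (Fin (n + 2)) (Fin (n + 2)) F).updateRow j a).submatrix
        (Equiv.swap 0 j) id := ⟨_, rfl⟩
  have hBdet : B.det ≠ 0 := by
    have he : a = ∑ k, a k • (1 : Matrix (Fin (n + 2)) (Fin (n + 2)) F) k := by
      ext i; simp [Finset.sum_apply, Matrix.one_apply]
    rw [hB, Matrix.det_permute, he, Matrix.det_updateRow_sum, Matrix.det_one, smul_eq_mul, mul_one]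
    refine mul_ne_zero ?_ hj
    rcases Int.units_eq_one_or (Equiv.Perm.sign (Equiv.swap (0 : Fin (n + 2)) j)) with h | h <;>
      simp [h]
  obtain ⟨D, hD⟩ : ∃ D : Fin (n + 2) → F, D = fun i => if i = 1 then B.det⁻¹ else 1 := ⟨_, rfl⟩
  obtain ⟨B', hB'⟩ : ∃ B' : Matrix (Fin (n + 2)) (Fin (n + 2)) F, B' = Matrix.diagonal D * B :=
    ⟨_, rfl⟩
  have hB'det : B'.det = 1 := by
    rw [hB', Matrix.det_mul, Matrix.det_diagonal, hD, Finset.prod_ite_eq' Finset.univ (1 : Fin (n + 2)),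
      if_pos (Finset.mem_univ _), inv_mul_cancel₀ hBdet]
  obtain ⟨h, hh⟩ : ∃ h : Matrix.SpecialLinearGroup (Fin (n + 2)) F, h = ⟨B', hB'det⟩ := ⟨_, rfl⟩
  have hrow : ∀ x, (B'.mulVec x) 0 = a ⬝ᵥ x := fun x => by
    have h01 : (0 : Fin (n + 2)) ≠ 1 := by simp
    rw [hB', ← Matrix.mulVec_mulVec, Matrix.mulVec_diagonal, hD]
    simp only [if_neg h01, one_mul, hB]
    show (fun k => ((1 : Matrix (Fin (n + 2)) (Fin (n + 2)) F).updateRow j a) (Equiv.swap 0 j 0) k) ⬝ᵥ x = _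
    rw [Equiv.swap_apply_left]
    simp
  refine ⟨h⁻¹, B'.mulVec u, ?_, ?_⟩
  · rw [hrow, hau]
  · rw [inv_inv]
    apply Matrix.ext_iff_mulVec.2
    intro x
    have hinv : B'.mulVec (((h⁻¹ : Matrix.SpecialLinearGroup (Fin (n + 2)) F) :
        Matrix (Fin (n + 2)) (Fin (n + 2)) F).mulVec x) = x := by
      rw [Matrix.mulVec_mulVec]
      have : ((h * h⁻¹ : Matrix.SpecialLinearGroup (Fin (n + 2)) F) :
          Matrix (Fin (n + 2)) (Fin (n + 2)) F) = 1 := by rw [mul_inv_cancel]; rfl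
      rw [Matrix.SpecialLinearGroup.coe_mul, show (h : Matrix (Fin (n + 2)) (Fin (n + 2)) F) = B'
        from congrArg Subtype.val hh] at this
      rw [this, Matrix.one_mulVec]
    rw [Matrix.SpecialLinearGroup.coe_mul, Matrix.SpecialLinearGroup.coe_mul,
      show (h : Matrix (Fin (n + 2)) (Fin (n + 2)) F) = B' from congrArg Subtype.val hh,
      show (t : Matrix (Fin (n + 2)) (Fin (n + 2)) F) = 1 + M by rw [hM]; abel,
      ← Matrix.mulVec_mulVec, ← Matrix.mulVec_mulVec, Matrix.add_mulVec, Matrix.one_mulVec, ha,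
      Matrix.mulVec_add, Matrix.mulVec_smul, hinv, Matrix.add_mulVec, Matrix.one_mulVec,
      Matrix.vecMulVec_mulVec, op_smul_eq_smul, single_dotProduct, one_mul]
    congr 2
    conv_rhs => rw [← hinv]
    rw [hrow]

end Cfsg.Agent.S0839
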