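import Cfsg.Statements.S0840
import Cfsg.Agent.CharactersDeep.ClassPairs

set_option autoImplicit false
open scoped ComplexConjugate
open Cfsg

namespace Cfsg.Agent.S0840

/-- Class multiplication coefficients from the character table: for elements a, b, c of a finite group G, the number of ordered pairs (x, y) with x conjugate to a, y conjugate to b and x * y = c equals the product of the sizes of the conjugacy classes of a and b, divided by the order of G, times the sum over the irreducible characters χ of χ a * χ b * conj (χ c) / χ 1. -/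
theorem result {G : Type*} [Group G] [Finite G] (a b c : G) : (Nat.card {p : G × G // IsConj a p.1 ∧ IsConj b p.2 ∧ p.1 * p.2 = c} : ℂ) = (Nat.card {x : G // IsConj a x} : ℂ) * (Nat.card {x : G // IsConj b x} : ℂ) / (Nat.card G : ℂ) * ∑ᶠ χ : Cfsg.IrrCharacter G, (χ : G → ℂ) a * (χ : G → ℂ) b * conj ((χ : G → ℂ) c) / (χ : G → ℂ) 1 := by
  classical
  haveI := Fintype.ofFinite G
  let A := CfsgLib.CharactersDeep.ClassPairs.classSet a
  let B := CfsgLib.CharactersDeep.ClassPairs.classSet b
  let f : G → ℂ := fun g => (((A ×ˢ B).filter (fun p => p.1 * p.2 = g)).card : ℂ)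
  have hleft : (Nat.card {p : G × G // IsConj a p.1 ∧ IsConj b p.2 ∧ p.1 * p.2 = c} : ℂ) = f c := by
    rw [Nat.card_eq_fintype_card, Fintype.card_subtype]
    simp only [f, A, B]
    congr 2
    ext p
    simp [CfsgLib.CharactersDeep.ClassPairs.mem_classSet, and_assoc]
  have hf : Cfsg.IsClassFunction G f := by
    intro g h
    simp only [f]
    congr 1
    refine Finset.card_bij' (fun p _ => (h⁻¹ * p.1 * h, h⁻¹ * p.2 * h))
      (fun p _ => (h * p.1 * h⁻¹, h * p.2 * h⁻¹)) ?_ ?_ ?_ ?_
    · intro p hp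
      simp only [Finset.mem_filter, Finset.mem_product, A, B] at hp ⊢
      refine ⟨⟨?_, ?_⟩, ?_⟩
      · simpa using (CfsgLib.CharactersDeep.ClassPairs.conj_mem_classSet h⁻¹).2 hp.1.1
      · simpa using (CfsgLib.CharactersDeep.ClassPairs.conj_mem_classSet h⁻¹).2 hp.1.2
      · calc h⁻¹ * p.1 * h * (h⁻¹ * p.2 * h) = h⁻¹ * (p.1 * p.2) * h := by group
          _ = g := by rw [hp.2]; group
    · intro p hp
      simp only [Finset.mem_filter, Finset.mem_product, A, B] at hp ⊢
      refine ⟨⟨(CfsgLib.CharactersDeep.ClassPairs.conj_mem_classSet h).2 hp.1.1,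
        (CfsgLib.CharactersDeep.ClassPairs.conj_mem_classSet h).2 hp.1.2⟩, ?_⟩
      calc h * p.1 * h⁻¹ * (h * p.2 * h⁻¹) = h * (p.1 * p.2) * h⁻¹ := by group
        _ = h * g * h⁻¹ := by rw [hp.2]
    · intro p _; exact Prod.ext (by group) (by group)
    · intro p _; exact Prod.ext (by group) (by group)
  have hinner : ∀ χ : Cfsg.IrrCharacter G, Cfsg.classInner f (χ : G → ℂ) =
      (Nat.card G : ℂ)⁻¹ *
        conj ((A.card : ℂ) * (B.card : ℂ) * (χ : G → ℂ) a * (χ : G → ℂ) b / (χ : G → ℂ) 1) := by
    intro χ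
    rw [← CfsgLib.CharactersDeep.ClassPairs.sum_pairs_char χ.2, map_sum,
      ← Finset.sum_fiberwise (A ×ˢ B) (fun p => p.1 * p.2)]
    simp only [Cfsg.classInner, f]
    congr 1
    refine Finset.sum_congr rfl fun g _ => ?_
    rw [Finset.sum_congr rfl (g := fun _ => conj ((χ : G → ℂ) g))
      (fun p hp => by rw [(Finset.mem_filter.1 hp).2]), Finset.sum_const, nsmul_eq_mul]
  have hexp := congrFun (CfsgLib.Characters.classFunction_expansion hf) c
  have hreal : conj (f c) = f c := Complex.conj_natCast _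
  rw [hleft, ← hreal, hexp, CfsgLib.CharactersDeep.ClassPairs.card_classSet,
    CfsgLib.CharactersDeep.ClassPairs.card_classSet, finsum_eq_sum_of_fintype, Finset.sum_apply,
    map_sum, Finset.mul_sum]
  refine Finset.sum_congr rfl fun χ _ => ?_
  simp only [Pi.smul_apply, smul_eq_mul, hinner, map_mul, map_inv₀, Complex.conj_natCast,
    Complex.conj_conj]
  ring

end Cfsg.Agent.S0840
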