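import Cfsg.Statements.S0841
import Mathlib.Tactic.Group
import Mathlib.Algebra.BigOperators.Intervals

set_option autoImplicit false
open Cfsg

namespace Cfsg.Agent.S0841

/-- If the commutator subgroup of G lies in the centre, then for all x, y in G and every natural number n one has (x * y) ^ n = x ^ n * y ^ n * c ^ (n * (n - 1) / 2) with c = y⁻¹ * x⁻¹ * y * x. -/
theorem result {G : Type*} [Group G] (hG : commutator G ≤ Subgroup.center G) (x y : G) (n : ℕ) : (x * y) ^ n = x ^ n * y ^ n * (y⁻¹ * x⁻¹ * y * x) ^ (n * (n - 1) / 2) := by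
  induction n with
  | zero => simp
  | succ n ih =>
    set c := y⁻¹ * x⁻¹ * y * x with hc
    have hcc : c ∈ Subgroup.center G := by
      apply hG
      rw [commutator_def]
      have := Subgroup.commutator_mem_commutator (Subgroup.mem_top y⁻¹) (Subgroup.mem_top x⁻¹)
      simpa [hc, commutatorElement_def, mul_assoc] using this
    have hcom : ∀ g : G, Commute c g := fun g => (Subgroup.mem_center_iff.mp hcc g).symm
    have hk : (n + 1) * (n + 1 - 1) / 2 = n * (n - 1) / 2 + n := by
      rw [← Finset.sum_range_id, ← Finset.sum_range_id, Finset.sum_range_succ]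
    have hswap : ∀ m : ℕ, y ^ m * x = x * y ^ m * c ^ m := by
      intro m
      induction m with
      | zero => simp
      | succ m ihm =>
        have h1 : y * x = x * y * c := by simp [hc, mul_assoc]
        calc y ^ (m + 1) * x = y ^ m * (y * x) := by rw [pow_succ, mul_assoc]
          _ = (y ^ m * x) * y * c := by rw [h1]; group
          _ = x * y ^ m * (c ^ m * y) * c := by rw [ihm]; group
          _ = x * y ^ m * (y * c ^ m) * c := by rw [((hcom y).pow_left m).eq]
          _ = x * y ^ (m + 1) * c ^ (m + 1) := by rw [pow_succ, pow_succ]; group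
    calc (x * y) ^ (n + 1) = (x * y) ^ n * (x * y) := pow_succ _ _
      _ = x ^ n * y ^ n * c ^ (n * (n - 1) / 2) * (x * y) := by rw [ih]
      _ = x ^ n * y ^ n * ((x * y) * c ^ (n * (n - 1) / 2)) := by
          rw [mul_assoc, ((hcom (x * y)).pow_left _).eq]
      _ = x ^ n * (y ^ n * x) * y * c ^ (n * (n - 1) / 2) := by group
      _ = x ^ n * x * y ^ n * (c ^ n * y) * c ^ (n * (n - 1) / 2) := by rw [hswap]; group
      _ = x ^ n * x * y ^ n * (y * c ^ n) * c ^ (n * (n - 1) / 2) := by
          rw [((hcom y).pow_left n).eq]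
      _ = x ^ (n + 1) * y ^ (n + 1) * c ^ ((n + 1) * (n + 1 - 1) / 2) := by
          rw [hk, pow_succ, pow_succ, Nat.add_comm, pow_add]; group

end Cfsg.Agent.S0841
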