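import Cfsg.Statements.S0843
import Cfsg.Agent.CharactersDeep.QuaternionSylow
import Mathlib.Tactic.Group

set_option autoImplicit false
open Cfsg

namespace Cfsg.Agent.S0843

/-- Suppose a Sylow 2-subgroup S of the finite group G is generalized quaternion of order at least 16; let D be the commutator subgroup of S and X the set of elements of the centralizer of D whose order is divisible by the order of D. Then D is contained in the cyclic subgroup generated by any element of X; an element of G conjugating some element of X into the centralizer of D normalizes D; and the normalizer of D maps X to itself under conjugation. -/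
theorem result {G : Type*} [Group G] [Finite G] (S : Sylow 2 G) (n : ℕ) (e : (S : Subgroup G) ≃* QuaternionGroup (2 ^ (n + 2))) (D : Subgroup G) (hD : D = ⁅(S : Subgroup G), (S : Subgroup G)⁆) : (∀ y : G, y ∈ Subgroup.centralizer (D : Set G) → Nat.card D ∣ orderOf y → D ≤ Subgroup.zpowers y) ∧ (∀ g y : G, y ∈ Subgroup.centralizer (D : Set G) → Nat.card D ∣ orderOf y → g * y * g⁻¹ ∈ Subgroup.centralizer (D : Set G) → g ∈ Subgroup.normalizer (D : Set G)) ∧ (∀ g y : G, g ∈ Subgroup.normalizer (D : Set G) → y ∈ Subgroup.centralizer (D : Set G) → Nat.card D ∣ orderOf y → g * y * g⁻¹ ∈ Subgroup.centralizer (D : Set G) ∧ Nat.card D ∣ orderOf (g * y * g⁻¹)) := by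
  subst hD
  set D := ⁅(S : Subgroup G), (S : Subgroup G)⁆ with hDdef
  have h := CfsgLib.CharactersDeep.QuaternionSylow.data (S : Subgroup G) n e
  obtain ⟨-, -, -, -, -, hP⟩ :=
    CfsgLib.CharactersDeep.QuaternionSylow.exists_complement S h
  set C := Subgroup.centralizer (D : Set G) with hC
  obtain ⟨P, hPcyc, hPeq⟩ := hP
  haveI := h.D_cyclic
  have hDC : D ≤ C := by
    have : IsMulCommutative D := IsCyclic.isMulCommutative
    exact Subgroup.le_centralizer D
  have hfirst : ∀ y : G, y ∈ C → Nat.card D ∣ orderOf y → D ≤ Subgroup.zpowers y := by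
    intro y hy hdvd
    set z := y ^ (orderOf y / Nat.card D) with hz
    have hzo : orderOf z = Nat.card D := by
      rw [hz, orderOf_pow_orderOf_div (orderOf_pos y).ne' hdvd]
    have hzC : z ∈ C := pow_mem hy _
    have hZp : IsPGroup 2 (Subgroup.zpowers (⟨z, hzC⟩ : C)) := IsPGroup.of_card (n := n + 2) (by
      rw [Nat.card_zpowers, Subgroup.orderOf_mk, hzo, h.card_D])
    obtain ⟨Q, hQ⟩ := hZp.exists_le_sylow
    haveI : IsCyclic P := hPcyc
    haveI hQc : IsCyclic Q := (Sylow.equiv P Q).isCyclic.mp hPcyc
    -- `D` is central in `C`, hence lies in every Sylow subgroup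
    have hD' : D.subgroupOf C ≤ (Q : Subgroup C) := by
      obtain ⟨g, hg⟩ := MulAction.exists_smul_eq C P Q
      intro d hd
      rw [← hg]
      refine Subgroup.mem_pointwise_smul_iff_inv_smul_mem.mpr ?_
      have hcomm : g⁻¹ * d * g = d := by
        rw [mul_assoc, inv_mul_eq_iff_eq_mul]
        exact Subtype.ext (g.2 _ hd)
      have hdP : d ∈ (P : Subgroup C) := by
        rw [hPeq]
        exact ⟨h.D_le hd, d.2⟩
      simpa [MulAut.smul_def, hcomm] using hdP
    have heq : D.subgroupOf C = Subgroup.zpowers (⟨z, hzC⟩ : C) := by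
      have h1 : (D.subgroupOf C).subgroupOf (Q : Subgroup C) =
          (Subgroup.zpowers (⟨z, hzC⟩ : C)).subgroupOf (Q : Subgroup C) := by
        apply CfsgLib.CharactersDeep.QuaternionSylow.eq_of_card_eq
        rw [Nat.card_congr (Subgroup.subgroupOfEquivOfLe hD').toEquiv,
          Nat.card_congr (Subgroup.subgroupOfEquivOfLe hQ).toEquiv,
          Nat.card_congr (Subgroup.subgroupOfEquivOfLe hDC).toEquiv,
          Nat.card_zpowers, Subgroup.orderOf_mk, hzo]
      have h2 := congrArg (Subgroup.map (Q : Subgroup C).subtype) h1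
      rwa [Subgroup.map_subgroupOf_eq_of_le hD', Subgroup.map_subgroupOf_eq_of_le hQ] at h2
    intro d hd
    have h3 : (⟨d, hDC hd⟩ : C) ∈ D.subgroupOf C := hd
    rw [heq, Subgroup.mem_zpowers_iff] at h3
    obtain ⟨k, hk⟩ := h3
    rw [show d = z ^ k from (congrArg Subtype.val hk).symm]
    exact zpow_mem (pow_mem (Subgroup.mem_zpowers y) _) _
  have hord : ∀ g y : G, orderOf (g * y * g⁻¹) = orderOf y := fun g y => by
    simpa using (MulAut.conj g).orderOf_eq y
  refine ⟨hfirst, ?_, ?_⟩
  · intro g y hy hdvd hgy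
    have h1 := hfirst y hy hdvd
    have h2 := hfirst _ hgy ((hord g y).symm ▸ hdvd)
    have h4 : D.map (MulAut.conj g).toMonoidHom ≤ Subgroup.zpowers (g * y * g⁻¹) := by
      refine (Subgroup.map_mono h1).trans (le_of_eq ?_)
      rw [MonoidHom.map_zpowers]; rfl
    have h5 : D.map (MulAut.conj g).toMonoidHom = D := by
      set W := Subgroup.zpowers (g * y * g⁻¹) with hW
      have h6 : (D.map (MulAut.conj g).toMonoidHom).subgroupOf W = D.subgroupOf W := by
        apply CfsgLib.CharactersDeep.QuaternionSylow.eq_of_card_eq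
        rw [Nat.card_congr (Subgroup.subgroupOfEquivOfLe h4).toEquiv,
          Nat.card_congr (Subgroup.subgroupOfEquivOfLe h2).toEquiv]
        exact Subgroup.card_map_of_injective (MulAut.conj g).injective
      have h7 := congrArg (Subgroup.map W.subtype) h6
      rwa [Subgroup.map_subgroupOf_eq_of_le h4, Subgroup.map_subgroupOf_eq_of_le h2] at h7
    rw [Subgroup.mem_normalizer_iff]
    intro x
    conv_rhs => rw [← h5]
    exact (Subgroup.mem_map_iff_mem (f := (MulAut.conj g).toMonoidHom) (MulAut.conj g).injective).symm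
  · intro g y hg hy hdvd
    refine ⟨?_, (hord g y).symm ▸ hdvd⟩
    intro d hd
    have h8 : g⁻¹ * d * g ∈ D := by
      simpa using (Subgroup.mem_normalizer_iff.mp (inv_mem hg) d).mp hd
    have h9 := hy _ h8
    calc d * (g * y * g⁻¹) = g * ((g⁻¹ * d * g) * y) * g⁻¹ := by group
      _ = g * (y * (g⁻¹ * d * g)) * g⁻¹ := by rw [h9]
      _ = (g * y * g⁻¹) * d := by group

end Cfsg.Agent.S0843
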