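import Cfsg.Statements.S0845
import Cfsg.Agent.BrauerSuzuki.Sixteen

set_option autoImplicit false
set_option linter.style.haveILetI false
open Cfsg

namespace Cfsg.Agent.S0845

/-- Suppose a Sylow 2-subgroup S of the finite group G is generalized quaternion of order at least 16. Then G has a normal subgroup M of even order such that G / M is non-abelian, that is, M does not contain the commutator subgroup of G. -/
theorem result {G : Type*} [Group G] [Finite G] (S : Sylow 2 G) (n : ℕ) (e : (S : Subgroup G) ≃* QuaternionGroup (2 ^ (n + 2))) : ∃ M : Subgroup G, M.Normal ∧ Even (Nat.card M) ∧ ¬ commutator G ≤ M := by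
  obtain ⟨M, hM, heven, h4, -⟩ := CfsgLib.BrauerSuzuki.exists_involution_hull S (by omega) e
  obtain ⟨a, b, ha, hb, hoa, hba⟩ := CfsgLib.BrauerSuzuki.exists_gens e
  refine ⟨M, hM, heven, fun hle => h4 ?_⟩
  have hmem : (a ^ 2)⁻¹ ∈ commutator G := by
    have h : (a ^ 2)⁻¹ = b * a * b⁻¹ * a⁻¹ := by rw [hba]; group
    rw [h, ← commutatorElement_def]
    exact Subgroup.commutator_mem_commutator (Subgroup.mem_top _) (Subgroup.mem_top _)
  have hord : orderOf (a ^ 2) = 2 ^ (n + 2) := by
    rw [orderOf_pow_of_dvd (by norm_num) (hoa ▸ dvd_pow_self 2 (by omega)), hoa, pow_succ,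
      Nat.mul_div_cancel _ (by norm_num)]
  refine dvd_trans ?_ (Subgroup.orderOf_dvd_natCard M (hle (by simpa using hmem) : a ^ 2 ∈ M))
  rw [hord]
  exact pow_dvd_pow 2 (by omega : 2 ≤ n + 2)

end Cfsg.Agent.S0845
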