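import Cfsg.Statements.S0846
import Cfsg.Agent.BrauerSuzuki.Sixteen

set_option autoImplicit false
set_option linter.style.haveILetI false
open Cfsg

namespace Cfsg.Agent.S0846

/-- Suppose a Sylow 2-subgroup S of the finite group G is generalized quaternion of order at least 16. Then every Sylow 2-subgroup of the subgroup generated by the involutions of G is cyclic. -/
theorem result {G : Type*} [Group G] [Finite G] (S : Sylow 2 G) (n : ℕ) (e : (S : Subgroup G) ≃* QuaternionGroup (2 ^ (n + 2))) (Q : Sylow 2 ↥(Subgroup.closure {g : G | orderOf g = 2})) : IsCyclic Q := by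
  obtain ⟨M, hM, -, h4, hinv⟩ := CfsgLib.BrauerSuzuki.exists_involution_hull S (by omega) e
  have hJM : Subgroup.closure {g : G | orderOf g = 2} ≤ M := (Subgroup.closure_le M).2 fun v hv => hinv v hv
  have hQ : Nat.card Q ∣ Nat.card M :=
    (Subgroup.card_subgroup_dvd_card _).trans (Subgroup.card_dvd_of_le hJM)
  obtain ⟨i, hi⟩ := Q.isPGroup'.exists_card_eq
  rcases Nat.lt_or_ge i 2 with h | h
  · interval_cases i
    · haveI : Subsingleton Q := (Nat.card_eq_one_iff_unique.1 hi).1
      infer_instance
    · haveI : Fact (Nat.Prime 2) := ⟨Nat.prime_two⟩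
      exact isCyclic_of_prime_card (p := 2) (hi.trans (pow_one 2))
  · exact absurd ((pow_dvd_pow 2 h).trans (hi ▸ hQ)) h4

end Cfsg.Agent.S0846
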