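import Cfsg.Statements.S0850
import Cfsg.Agent.CharactersDeep.FrobeniusTI

set_option autoImplicit false
open Cfsg

namespace Cfsg.Agent.S0850

/-- Let K be a subgroup of the finite group G that meets each conjugate by an element outside its normalizer N trivially, is properly contained in N, and contains the centralizer of each of its non-identity elements (a T.I. subgroup with Frobenius normalizer). Then no element of N outside K is conjugate in G to an element of K, and for every class function ϑ of N that vanishes on N away from K and at the identity, the function induced from ϑ to G agrees with ϑ on all of N. -/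
theorem result {G : Type*} [Group G] [Fintype G] (K : Subgroup G) (hTI : ∀ g : G, g ∉ Subgroup.normalizer (K : Set G) → ∀ k ∈ K, g * k * g⁻¹ ∈ K → k = 1) (hlt : K < Subgroup.normalizer (K : Set G)) (hC : ∀ k ∈ K, k ≠ 1 → Subgroup.centralizer ({k} : Set G) ≤ K) : (∀ x ∈ Subgroup.normalizer (K : Set G), x ∉ K → ∀ g : G, g * x * g⁻¹ ∉ K) ∧ ∀ (ϑ : Subgroup.normalizer (K : Set G) → ℂ), Cfsg.IsClassFunction (Subgroup.normalizer (K : Set G)) ϑ → (∀ x : Subgroup.normalizer (K : Set G), (x : G) ∉ K → ϑ x = 0) → ϑ 1 = 0 → ∀ x : Subgroup.normalizer (K : Set G), Cfsg.indFun (Subgroup.normalizer (K : Set G)) ϑ x = ϑ x := by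
  classical
  set N := Subgroup.normalizer (K : Set G) with hN
  have hout : ∀ x ∈ N, x ∉ K → ∀ g : G, g * x * g⁻¹ ∉ K := fun x hx hxK g =>
    CfsgLib.CharactersDeep.FrobeniusTI.conj_notMem K hC hx hxK g
  refine ⟨hout, fun ϑ hcl hoff hone x => ?_⟩
  have hterm : ∀ y : G, Cfsg.extendByZero N ϑ (y⁻¹ * x * y) = if y ∈ N then ϑ x else 0 := by
    intro y
    by_cases hmem : y⁻¹ * (x : G) * y ∈ N
    · have he : Cfsg.extendByZero N ϑ (y⁻¹ * x * y) = ϑ ⟨_, hmem⟩ :=
        Subtype.val_injective.extend_apply ϑ 0 ⟨_, hmem⟩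
      rw [he]
      by_cases hy : y ∈ N
      · rw [if_pos hy]
        have := hcl x (⟨y, hy⟩⁻¹)
        refine (congrArg ϑ (Subtype.ext ?_)).trans this
        simp
      · rw [if_neg hy]
        by_cases hK : y⁻¹ * (x : G) * y ∈ K
        · have hxK : (x : G) ∈ K := by
            by_contra h
            exact hout x x.2 h y⁻¹ (by simpa using hK)
          have h1 : y⁻¹ * (x : G) * y = 1 :=
            hTI y hy _ hK (by simpa [mul_assoc] using hxK)
          rw [show (⟨_, hmem⟩ : N) = 1 from Subtype.ext h1, hone]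
        · exact hoff _ hK
    · have he : Cfsg.extendByZero N ϑ (y⁻¹ * x * y) = 0 := by
        unfold Cfsg.extendByZero
        rw [Function.extend_apply']
        · rfl
        · rintro ⟨a, ha⟩; exact hmem (ha ▸ a.2)
      have hy : y ∉ N := fun hy => hmem (N.mul_mem (N.mul_mem (N.inv_mem hy) x.2) hy)
      rw [he, if_neg hy]
  simp only [Cfsg.indFun, hterm]
  rw [Finset.sum_ite, Finset.sum_const_zero, add_zero, Finset.sum_const, nsmul_eq_mul, ← mul_assoc,
    ← Fintype.card_subtype, ← Nat.card_eq_fintype_card, inv_mul_cancel₀ (by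
      exact_mod_cast (Nat.card_pos (α := N)).ne'), one_mul]

end Cfsg.Agent.S0850
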