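import Cfsg.Statements.S0860
import Cfsg.Agent.Characters.Classes
import Mathlib.LinearAlgebra.Trace
import Mathlib.LinearAlgebra.StdBasis

set_option autoImplicit false
open Cfsg

namespace Cfsg.Agent.S0860

/-- Let a group A act on the set of irreducible characters and on the set of conjugacy classes of a finite group G in such a way that (a • χ) evaluated on the class a • C equals χ evaluated on C, for all a, χ and C. Then every element of A fixes exactly as many irreducible characters as it fixes conjugacy classes. -/
theorem result {G : Type*} [Group G] [Finite G] {A : Type*} [Group A] [MulAction A (Cfsg.IrrCharacter G)] [MulAction A (ConjClasses G)] (hcompat : ∀ (a : A) (χ : Cfsg.IrrCharacter G) (g g' : G), ConjClasses.mk g' = a • ConjClasses.mk g → ((a • χ : Cfsg.IrrCharacter G) : G → ℂ) g' = (χ : G → ℂ) g) (a : A) : Nat.card {χ : Cfsg.IrrCharacter G // a • χ = χ} = Nat.card {C : ConjClasses G // a • C = C} := by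
  classical
  haveI := Fintype.ofFinite (ConjClasses G)
  let T : (ConjClasses G → ℂ) →ₗ[ℂ] (ConjClasses G → ℂ) :=
    LinearMap.funLeft ℂ ℂ (fun C => a⁻¹ • C)
  have hT : ∀ χ : Cfsg.IrrCharacter G, T (CfsgLib.Characters.irrClassFun χ) =
      CfsgLib.Characters.irrClassFun (a • χ) := by
    intro χ
    funext C
    obtain ⟨g', rfl⟩ := ConjClasses.mk_surjective C
    obtain ⟨g, hg⟩ := ConjClasses.mk_surjective (a⁻¹ • ConjClasses.mk g')
    simp only [T, LinearMap.funLeft_apply, ← hg, CfsgLib.Characters.irrClassFun_mk]
    exact (hcompat a χ g g' (by rw [hg, smul_inv_smul])).symm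
  have h1 : LinearMap.trace ℂ _ T =
      (Nat.card {χ : Cfsg.IrrCharacter G // a • χ = χ} : ℂ) := by
    rw [LinearMap.trace_eq_matrix_trace ℂ (CfsgLib.Characters.irrBasis (G := G)), Matrix.trace,
      Nat.card_eq_fintype_card, Fintype.card_subtype, Finset.natCast_card_filter]
    refine Finset.sum_congr rfl fun χ _ => ?_
    rw [Matrix.diag, LinearMap.toMatrix_apply]
    have hb : ∀ ψ : Cfsg.IrrCharacter G,
        CfsgLib.Characters.irrBasis ψ = CfsgLib.Characters.irrClassFun ψ := fun ψ => by
      rw [CfsgLib.Characters.irrBasis, Module.Basis.mk_apply]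
    rw [hb, hT, ← hb, Module.Basis.repr_self, Finsupp.single_apply]
  have h2 : LinearMap.trace ℂ _ T = (Nat.card {C : ConjClasses G // a • C = C} : ℂ) := by
    rw [LinearMap.trace_eq_matrix_trace ℂ (Pi.basisFun ℂ (ConjClasses G)), Matrix.trace,
      Nat.card_eq_fintype_card, Fintype.card_subtype, Finset.natCast_card_filter]
    refine Finset.sum_congr rfl fun C _ => ?_
    simp [Matrix.diag, T, Pi.single_apply, eq_comm]
    exact if_congr (by rw [eq_inv_smul_iff, eq_comm]) rfl rfl
  exact_mod_cast h1.symm.trans h2

end Cfsg.Agent.S0860
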