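import Cfsg.Statements.S0862
import Cfsg.Agent.CharactersDeep.ExtensionCriteria

set_option autoImplicit false
open Cfsg

namespace Cfsg.Agent.S0862

/-- Let N be a normal subgroup of the finite group G and ϑ an irreducible character of N of degree d coprime to the index of N, which is the restriction of some irreducible character of G. Let μ be a character of G of degree 1 whose restriction to N is the determinantal character of ϑ. Then there is exactly one irreducible character χ of G restricting to ϑ whose determinantal character is μ. -/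
theorem result {G : Type*} [Group G] [Finite G] (N : Subgroup G) [N.Normal] (ϑ : N → ℂ) (hϑ : Cfsg.IsIrrCharacter N ϑ) (d : ℕ) (hd : ϑ 1 = d) (hcop : Nat.Coprime N.index d) (hext : ∃ η : G → ℂ, Cfsg.IsIrrCharacter G η ∧ (∀ n : N, η n = ϑ n)) (μ : G → ℂ) (hμ : Cfsg.IsCharacter G μ ∧ μ 1 = 1) (hμN : ∀ n : N, μ n = Cfsg.detChar ϑ n) : ∃! χ : G → ℂ, Cfsg.IsIrrCharacter G χ ∧ (∀ n : N, χ n = ϑ n) ∧ Cfsg.detChar χ = μ := by
  classical
  haveI := Fintype.ofFinite G
  haveI := Fintype.ofFinite N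
  obtain ⟨η, hη, hηN⟩ := hext
  obtain ⟨f, rfl⟩ := CfsgLib.CharactersDeep.LinearChar.exists_hom hμ.1 hμ.2
  have hη1 : η 1 = d := by rw [← hd]; exact hηN 1
  obtain ⟨n, ρ, hρ, hρη⟩ := hη
  have hη : Cfsg.IsIrrCharacter G η := ⟨n, ρ, hρ, hρη⟩
  let δ : G →* ℂˣ := f / CfsgLib.CharactersDeep.LinearChar.detHom ρ
  have hdetη : ∀ g, Cfsg.detChar η g = (CfsgLib.CharactersDeep.LinearChar.detHom ρ g : ℂ) :=
    fun g => by rw [← hρη, CfsgLib.CharactersDeep.LinearChar.detChar_eq_hom]
  have hδN : ∀ m : N, δ m = 1 := fun m => by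
    rw [MonoidHom.div_apply, div_eq_one]
    refine Units.ext ?_
    rw [← hdetη, CfsgLib.CharactersDeep.ExtensionCriteria.detChar_restrict N (CfsgLib.Characters.isCharacter_of_isIrr hη) hηN, ← hμN]
  have hδ : δ ^ N.index = 1 := MonoidHom.ext fun g => by
    rw [MonoidHom.pow_apply, ← map_pow]
    exact hδN ⟨_, N.pow_index_mem g⟩
  obtain ⟨k, hk⟩ := exists_pow_eq_self_of_coprime (x := δ) (n := d)
    (hcop.symm.coprime_dvd_right (orderOf_dvd_of_pow_eq_one hδ))
  obtain ⟨hχirr, hχdet⟩ := CfsgLib.CharactersDeep.ExtensionCriteria.twist hη hη1 (δ ^ k)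
  refine ⟨fun g => ((δ ^ k) g : ℂ) * η g, ⟨hχirr, fun m => ?_, ?_⟩, ?_⟩
  · simp [hδN, hηN]
  · funext g
    rw [hχdet, ← Units.val_pow_eq_pow_val, ← MonoidHom.pow_apply, ← pow_mul, mul_comm k, pow_mul,
      hk, hdetη, ← Units.val_mul]
    simp [δ]
  · rintro χ' ⟨hχ', hN', hdet'⟩
    obtain ⟨ν, hνN, rfl⟩ := CfsgLib.CharactersDeep.ExtensionCriteria.exists_twist N hη hχ' hϑ hηN hN'
    obtain ⟨-, hνdet⟩ := CfsgLib.CharactersDeep.ExtensionCriteria.twist hη hη1 ν
    have h1 : ν ^ d = δ := MonoidHom.ext fun g => by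
      have h2 := congrFun hdet' g
      rw [hνdet, hdetη, ← Units.val_pow_eq_pow_val, ← Units.val_mul] at h2
      rw [MonoidHom.pow_apply, MonoidHom.div_apply, eq_div_iff_mul_eq']
      exact Units.ext h2
    have hν : ν ^ N.index = 1 := MonoidHom.ext fun g => by
      rw [MonoidHom.pow_apply, ← map_pow]
      exact hνN ⟨_, N.pow_index_mem g⟩
    have h3 : ν = δ ^ k := by
      have h4 : (δ ^ k / ν) = 1 := by
        refine CfsgLib.CharactersDeep.TransferExtend.eq_one_of_coprime N (δ ^ k / ν)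
          (fun m => by simp [hδN, hνN]) (o := d) (fun g => ?_) hcop
        have h5 : ((δ ^ k) g) ^ d = ν g ^ d := by
          rw [MonoidHom.pow_apply, ← pow_mul, mul_comm k, pow_mul, ← MonoidHom.pow_apply ν, h1]
          conv_rhs => rw [← hk]
          simp only [MonoidHom.pow_apply]
        rw [MonoidHom.div_apply, div_pow, h5, div_self']
      exact MonoidHom.ext fun g => (div_eq_one.1 (DFunLike.congr_fun h4 g)).symm
    rw [h3]

end Cfsg.Agent.S0862
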