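import Cfsg.Statements.S0864
import Cfsg.Agent.CharactersDeep.LinearChar
import Cfsg.Agent.CharactersDeep.TransferExtend

set_option autoImplicit false
open Cfsg

namespace Cfsg.Agent.S0864

/-- Let N be a normal subgroup of the finite group G and λ a character of N of degree 1 invariant under conjugation by G. Suppose that for every prime p dividing the order of λ (in the group of functions under pointwise multiplication) there is a subgroup H containing N, of index prime to p and with the index of N in H a power of p, together with a character of H of degree 1 restricting to λ. Then λ is the restriction of a character of G of degree 1. -/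
theorem result {G : Type*} [Group G] [Finite G] (N : Subgroup G) [hN : N.Normal] (lam : N → ℂ) (hlam : Cfsg.IsCharacter N lam ∧ lam 1 = 1) (hinv : ∀ (g : G) (n : N), lam ⟨g * n * g⁻¹, hN.conj_mem (n : G) n.2 g⟩ = lam n) (hsyl : ∀ p : ℕ, p.Prime → p ∣ orderOf lam → ∃ (H : Subgroup G) (hNH : N ≤ H) (ν : H → ℂ), Nat.Coprime H.index p ∧ (∃ k : ℕ, N.relIndex H = p ^ k) ∧ Cfsg.IsCharacter H ν ∧ ν 1 = 1 ∧ ∀ n : N, ν ⟨(n : G), hNH n.2⟩ = lam n) : ∃ μ : G → ℂ, Cfsg.IsCharacter G μ ∧ μ 1 = 1 ∧ ∀ n : N, μ n = lam n := by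
  obtain ⟨f, rfl⟩ := CfsgLib.CharactersDeep.LinearChar.exists_hom hlam.1 hlam.2
  have hinv' : ∀ (g : G) (n : N), f ⟨g * n * g⁻¹, hN.conj_mem n n.2 g⟩ = f n := fun g n =>
    Units.ext (hinv g n)
  obtain ⟨μ, hμ⟩ : ∃ μ : G →* ℂˣ, ∀ n : N, μ n = f n := by
    refine CfsgLib.CharactersDeep.TransferExtend.exists_extend_of_exponents N f fun p hp => ?_
    by_cases hdvd : p ∣ orderOf f
    · obtain ⟨H, hNH, ν, hcop, -, hν, hν1, hνN⟩ :=
        hsyl p hp (by rwa [CfsgLib.CharactersDeep.LinearChar.orderOf_coe_hom])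
      obtain ⟨ν', rfl⟩ := CfsgLib.CharactersDeep.LinearChar.exists_hom hν hν1
      obtain ⟨μ, hμ⟩ := CfsgLib.CharactersDeep.TransferExtend.exists_extend_pow_index N H hNH f
        hinv' ν' fun n => Units.ext (hνN n)
      exact ⟨H.index, (hp.coprime_iff_not_dvd).1 hcop.symm, μ, fun n => by simpa using hμ n⟩
    · refine ⟨orderOf f, hdvd, 1, fun n => ?_⟩
      rw [zpow_natCast, ← MonoidHom.pow_apply, pow_orderOf_eq_one, MonoidHom.one_apply,
        MonoidHom.one_apply]
  exact ⟨fun g => (μ g : ℂ), CfsgLib.CharactersDeep.LinearChar.isCharacter_hom μ, by simp,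
    fun n => congrArg Units.val (hμ n)⟩

end Cfsg.Agent.S0864
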