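import Cfsg.Statements.S0865
import Cfsg.Agent.CharactersDeep.LinearChar
import Cfsg.Agent.CharactersDeep.TransferExtend

set_option autoImplicit false
open Cfsg

namespace Cfsg.Agent.S0865

/-- Let N be a normal subgroup of the finite group G and λ a character of N of degree 1, invariant under conjugation by G, whose order (under pointwise multiplication) is coprime to the index of N. Then there is a character μ of G of degree 1 restricting to λ with the same order as λ, and μ is the only degree-1 character of G restricting to λ whose order is coprime to the index of N. -/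
theorem result {G : Type*} [Group G] [Finite G] (N : Subgroup G) [hN : N.Normal] (lam : N → ℂ) (hlam : Cfsg.IsCharacter N lam ∧ lam 1 = 1) (hinv : ∀ (g : G) (n : N), lam ⟨g * n * g⁻¹, hN.conj_mem (n : G) n.2 g⟩ = lam n) (hcop : Nat.Coprime N.index (orderOf lam)) : ∃ μ : G → ℂ, (Cfsg.IsCharacter G μ ∧ μ 1 = 1 ∧ (∀ n : N, μ n = lam n) ∧ orderOf μ = orderOf lam) ∧ ∀ μ' : G → ℂ, Cfsg.IsCharacter G μ' ∧ μ' 1 = 1 → (∀ n : N, μ' n = lam n) → Nat.Coprime N.index (orderOf μ') → μ' = μ := by
  obtain ⟨f, rfl⟩ := CfsgLib.CharactersDeep.LinearChar.exists_hom hlam.1 hlam.2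
  rw [CfsgLib.CharactersDeep.LinearChar.orderOf_coe_hom] at hcop ⊢
  have hinv' : ∀ (g : G) (n : N), f ⟨g * n * g⁻¹, hN.conj_mem n n.2 g⟩ = f n := fun g n =>
    Units.ext (hinv g n)
  haveI : Finite (N →* ℂˣ) := inferInstance
  haveI : NeZero (orderOf f) := ⟨(orderOf_pos f).ne'⟩
  have hpow : ∀ n : N, f n ^ orderOf f = 1 := fun n => by
    rw [← MonoidHom.pow_apply, pow_orderOf_eq_one, MonoidHom.one_apply]
  obtain ⟨μ, hμN, hμo⟩ := CfsgLib.CharactersDeep.TransferExtend.exists_extend_same_exponent N f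
    hinv' hpow hcop
  have hord : orderOf μ = orderOf f := by
    refine Nat.dvd_antisymm (orderOf_dvd_of_pow_eq_one (MonoidHom.ext hμo)) ?_
    refine orderOf_dvd_of_pow_eq_one (MonoidHom.ext fun n => ?_)
    rw [MonoidHom.pow_apply, ← hμN, ← MonoidHom.pow_apply, pow_orderOf_eq_one,
      MonoidHom.one_apply, MonoidHom.one_apply]
  refine ⟨fun g => (μ g : ℂ), ⟨CfsgLib.CharactersDeep.LinearChar.isCharacter_hom μ, by simp,
    fun n => congrArg Units.val (hμN n), (CfsgLib.CharactersDeep.LinearChar.orderOf_coe_hom μ).trans hord⟩, ?_⟩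
  rintro μ' ⟨hμ', hμ'1⟩ hN' hcop'
  obtain ⟨ν, rfl⟩ := CfsgLib.CharactersDeep.LinearChar.exists_hom hμ' hμ'1
  rw [CfsgLib.CharactersDeep.LinearChar.orderOf_coe_hom] at hcop'
  have h1 : ν / μ = 1 := by
    refine CfsgLib.CharactersDeep.TransferExtend.eq_one_of_coprime N (ν / μ) (fun n => ?_)
      (o := orderOf ν * orderOf f) (fun g => ?_) (Nat.Coprime.mul_right hcop' hcop)
    · rw [MonoidHom.div_apply, hμN, show ν n = f n from Units.ext (hN' n), div_self']
    · rw [MonoidHom.div_apply, div_pow, pow_mul, ← MonoidHom.pow_apply, pow_orderOf_eq_one,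
        MonoidHom.one_apply, one_pow, mul_comm, pow_mul, hμo, one_pow, div_one]
  have h2 : ν = μ := MonoidHom.ext fun g => div_eq_one.1 (DFunLike.congr_fun h1 g)
  rw [h2]

end Cfsg.Agent.S0865
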