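import Cfsg.Statements.S0868
import Cfsg.Agent.CharactersDeep.ExtensionCriteria

set_option autoImplicit false
open scoped ComplexConjugate
open Cfsg

namespace Cfsg.Agent.S0868

/-- Let N be a normal subgroup of the finite group G, χ an irreducible character of G whose restriction ϑ to N is irreducible, and ψ an irreducible character of G. Define η on G by η g = (1 / order of N) * Σ over n in N of ψ (n * g) * conj (χ (n * g)). Then: if the restriction of ψ to N has nonzero inner product with ϑ, η is an irreducible character of G; if that inner product is zero, η vanishes identically; and if ψ = χ then η is identically 1. -/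
theorem result {G : Type*} [Group G] [Fintype G] (N : Subgroup G) [N.Normal] [Fintype N] (χ : G → ℂ) (hχ : Cfsg.IsIrrCharacter G χ) (hχN : Cfsg.IsIrrCharacter N (fun n : N => χ n)) (ψ : G → ℂ) (hψ : Cfsg.IsIrrCharacter G ψ) (η : G → ℂ) (hη : η = fun g => (Nat.card N : ℂ)⁻¹ * ∑ n : N, ψ ((n : G) * g) * conj (χ ((n : G) * g))) : (Cfsg.classInner (fun n : N => ψ n) (fun n : N => χ n) ≠ 0 → Cfsg.IsIrrCharacter G η) ∧ (Cfsg.classInner (fun n : N => ψ n) (fun n : N => χ n) = 0 → η = 0) ∧ (ψ = χ → η = fun _ => 1) := by
  classical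
  haveI : Fintype (G ⧸ N) := Fintype.ofFinite _
  subst hη
  refine ⟨fun h => ?_, fun h => ?_, fun h => ?_⟩
  · obtain ⟨β, hβ, rfl⟩ := CfsgLib.CharactersDeep.Gallagher.exists_eq_prodInfl N hχ hχN hψ h
    convert CfsgLib.Characters.isIrr_comp (QuotientGroup.mk' N) (QuotientGroup.mk'_surjective N) hβ
      using 2 with g
    have hterm : ∀ n : N, CfsgLib.CharactersDeep.Gallagher.prodInfl N χ β ((n : G) * g) *
        conj (χ ((n : G) * g)) = β g * (χ ((n : G) * g) * conj (χ ((n : G) * g))) := fun n => by
      simp only [CfsgLib.CharactersDeep.Gallagher.prodInfl, QuotientGroup.mk_mul,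
        (QuotientGroup.eq_one_iff (n : G)).2 n.2, one_mul]
      ring
    rw [Finset.sum_congr rfl fun n _ => hterm n, ← Finset.mul_sum,
      CfsgLib.CharactersDeep.Gallagher.sum_coset_mul_conj N hχ hχN, mul_left_comm,
      inv_mul_cancel₀ (CfsgLib.Characters.subgroup_card_ne_zero N), mul_one]
    rfl
  · obtain ⟨f, hfcl, hf, hfi⟩ := CfsgLib.CharactersDeep.Gallagher.exists_coset_sum N hχ
      (CfsgLib.Characters.isClassFunction_of_isIrr hψ)
    have hf0 : f = 0 := CfsgLib.Characters.classFunction_eq_zero hfcl fun β => by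
      rw [hfi, CfsgLib.Characters.classInner_isIrr_ne hψ
        (CfsgLib.CharactersDeep.Gallagher.isIrr_prodInfl N hχ hχN β.2), mul_zero]
      intro he
      rw [he, CfsgLib.CharactersDeep.Gallagher.classInner_restrict_prodInfl N hχ hχN] at h
      exact CfsgLib.Characters.irr_one_ne_zero β.2 h
    funext g
    rw [← hf, hf0]
    simp
  · subst h
    funext g
    rw [CfsgLib.CharactersDeep.Gallagher.sum_coset_mul_conj N hχ hχN,
      inv_mul_cancel₀ (CfsgLib.Characters.subgroup_card_ne_zero N)]

end Cfsg.Agent.S0868
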