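import Cfsg.Statements.S0869
import Mathlib.Algebra.Group.Subgroup.Order
import Mathlib.RingTheory.Int.Basic
import Mathlib.GroupTheory.Archimedean

set_option autoImplicit false
open Cfsg

namespace Cfsg.Agent.S0869

/-- Let S be a nonempty finite type and R an additive subgroup of the integer-valued functions on S that is closed under pointwise multiplication. If the constant function 1 is not in R, then there exist a point x of S and a prime p such that p divides f x for every f in R. -/
theorem result {S : Type*} [Finite S] [Nonempty S] (R : AddSubgroup (S → ℤ)) (hmul : ∀ f ∈ R, ∀ g ∈ R, f * g ∈ R) (h1 : (1 : S → ℤ) ∉ R) : ∃ (x : S) (p : ℕ), p.Prime ∧ ∀ f ∈ R, (p : ℤ) ∣ f x := by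
  classical
  haveI := Fintype.ofFinite S
  by_contra hno
  push Not at hno
  have hone : ∀ x : S, ∃ f ∈ R, f x = 1 := by
    intro x
    let A : AddSubgroup ℤ := R.map (Pi.evalAddMonoidHom (fun _ : S => ℤ) x)
    obtain ⟨d, hd⟩ := Int.subgroup_cyclic A
    by_cases hu : IsUnit d
    · have : (1 : ℤ) ∈ A := by
        rw [hd, AddSubgroup.mem_closure_singleton]
        rcases Int.isUnit_iff.mp hu with rfl | rfl
        · exact ⟨1, by simp⟩
        · exact ⟨-1, by simp⟩
      obtain ⟨f, hf, hfx⟩ := this
      exact ⟨f, hf, hfx⟩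
    · exfalso
      have hna : d.natAbs ≠ 1 := fun h => hu (Int.isUnit_iff_natAbs_eq.mpr h)
      obtain ⟨f, hf, hnd⟩ := hno x _ (Nat.minFac_prime hna)
      apply hnd
      have hmem : f x ∈ A := ⟨f, hf, rfl⟩
      rw [hd, AddSubgroup.mem_closure_singleton] at hmem
      obtain ⟨k, hk⟩ := hmem
      rw [← hk, smul_eq_mul]
      exact Dvd.dvd.mul_left (Int.natCast_dvd.mpr (Nat.minFac_dvd _)) k
  have key : ∀ s : Finset S, ∃ r ∈ R, ∀ x ∈ s, r x = 1 := by
    intro s
    induction s using Finset.induction_on with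
    | empty => exact ⟨0, R.zero_mem, by simp⟩
    | @insert a s ha ih =>
      obtain ⟨r, hr, hrs⟩ := ih
      obtain ⟨f, hf, hfa⟩ := hone a
      refine ⟨r + f - r * f, R.sub_mem (R.add_mem hr hf) (hmul r hr f hf), ?_⟩
      intro x hx
      rcases Finset.mem_insert.mp hx with rfl | hxs
      · simp [hfa]
      · simp [hrs x hxs]
  obtain ⟨r, hr, hrs⟩ := key Finset.univ
  exact h1 ((funext fun x => hrs x (Finset.mem_univ x) : r = 1) ▸ hr)

end Cfsg.Agent.S0869
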