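import Cfsg.Statements.S0870
import Cfsg.Agent.CharactersDeep.PermCharSpan

set_option autoImplicit false
open Cfsg

namespace Cfsg.Agent.S0870

/-- For subgroups H and K of a finite group G, the pointwise product of the functions induced from the constant function 1 on H and on K is a sum, over subgroups U of H with natural-number coefficients, of the functions induced from the constant function 1 on U. -/
theorem result {G : Type*} [Group G] [Fintype G] (H K : Subgroup G) : ∃ a : Subgroup G → ℕ, (∀ U, a U ≠ 0 → U ≤ H) ∧ Cfsg.indFun H (fun _ => 1) * Cfsg.indFun K (fun _ => 1) = ∑ U : Subgroup G, (a U : ℂ) • Cfsg.indFun U (fun _ => 1) := by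
  classical
  let Ω := MulAction.orbitRel.Quotient G ((G ⧸ H) × (G ⧸ K))
  haveI : Fintype Ω := Fintype.ofFinite _
  have hU : ∀ ω : Ω, ∃ U : Subgroup G, U ≤ H ∧
      Cfsg.indFun U (fun _ => 1) = Cfsg.indFun (MulAction.stabilizer G ω.out) (fun _ => 1) := by
    intro ω
    obtain ⟨a, ha⟩ := QuotientGroup.mk_surjective ω.out.1
    refine ⟨(MulAction.stabilizer G ω.out).map (MulAut.conj a⁻¹).toMonoidHom, ?_,
      CfsgLib.CharactersDeep.PermCharSpan.indFun_one_map_conj _ _⟩
    rintro _ ⟨g, hg, rfl⟩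
    have h1 : g • (a : G ⧸ H) = (a : G ⧸ H) := by
      rw [ha]; exact congrArg Prod.fst (MulAction.mem_stabilizer_iff.1 hg)
    rw [MulAction.Quotient.smul_mk, smul_eq_mul, QuotientGroup.eq] at h1
    simpa [mul_assoc] using H.inv_mem h1
  choose U hUH hUeq using hU
  refine ⟨fun V => (Finset.univ.filter (fun ω : Ω => U ω = V)).card, fun V hV => ?_, ?_⟩
  · obtain ⟨ω, hω⟩ := Finset.card_ne_zero.1 hV
    exact (Finset.mem_filter.1 hω).2 ▸ hUH ω
  · funext g
    rw [Pi.mul_apply, ← CfsgLib.Characters.cosetFix_eq_indFun,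
      ← CfsgLib.Characters.cosetFix_eq_indFun, Finset.sum_apply]
    have heq : CfsgLib.Characters.cosetFix H g * CfsgLib.Characters.cosetFix K g =
        (Nat.card (MulAction.fixedBy ((G ⧸ H) × (G ⧸ K)) g) : ℤ) := by
      rw [CfsgLib.Characters.cosetFix, CfsgLib.Characters.cosetFix, ← Nat.cast_mul,
        Nat.cast_inj, ← Nat.card_prod]
      exact Nat.card_congr
        ⟨fun y => ⟨(y.1.1, y.2.1), Prod.ext y.1.2 y.2.2⟩,
          fun x => (⟨x.1.1, congrArg Prod.fst x.2⟩, ⟨x.1.2, congrArg Prod.snd x.2⟩),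
          fun _ => rfl, fun _ => rfl⟩
    rw [← Int.cast_mul, heq, CfsgLib.Characters.card_fixedBy_eq_sum_orbits, Int.cast_sum,
      ← Finset.sum_fiberwise Finset.univ U]
    refine Finset.sum_congr rfl fun V _ => ?_
    rw [Finset.sum_congr rfl (g := fun _ => Cfsg.indFun V (fun _ => 1) g) fun ω hω => ?_,
      Finset.sum_const, nsmul_eq_mul, Pi.smul_apply, smul_eq_mul]
    rw [CfsgLib.Characters.cosetFix_eq_indFun, ← hUeq, (Finset.mem_filter.1 hω).2]

end Cfsg.Agent.S0870
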