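import Cfsg.Statements.S0872
import Cfsg.Agent.CharactersDeep.PermCharSpan

set_option autoImplicit false
open Cfsg

namespace Cfsg.Agent.S0872

/-- For a finite group G and a prime p there are an integer m not divisible by p and a ℤ-linear combination of functions induced from the constant function 1 on subgroups H, each having a cyclic normal subgroup of order prime to p and p-power index in H, that equals the constant function m. -/
theorem result {G : Type*} [Group G] [Fintype G] (p : ℕ) (hp : p.Prime) : ∃ (m : ℤ) (a : Subgroup G → ℤ), ¬ (p : ℤ) ∣ m ∧ (∀ H, a H ≠ 0 → (∃ C : Subgroup G, C ≤ H ∧ H ≤ Subgroup.normalizer (C : Set G) ∧ IsCyclic C ∧ Nat.Coprime (Nat.card C) p ∧ ∃ k : ℕ, C.relIndex H = p ^ k)) ∧ (fun _ : G => (m : ℂ)) = ∑ H : Subgroup G, (a H : ℂ) • Cfsg.indFun H (fun _ => 1) := by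
  classical
  obtain ⟨m, hm, hmem⟩ := CfsgLib.Characters.exists_const_mem_qeSpan (G := G) p hp
  let Q : Subgroup G → Prop := fun H => ∃ C : Subgroup G, C ≤ H ∧
    H ≤ Subgroup.normalizer (C : Set G) ∧ IsCyclic C ∧ Nat.Coprime (Nat.card C) p ∧
    ∃ k : ℕ, C.relIndex H = p ^ k
  suffices h : ∀ f ∈ CfsgLib.Characters.qeSpan (G := G) (· = p), ∃ a : Subgroup G → ℤ,
      (∀ H, a H ≠ 0 → Q H) ∧ (fun g => (f g : ℂ)) =
        ∑ H : Subgroup G, (a H : ℂ) • Cfsg.indFun H (fun _ => 1) by
    obtain ⟨a, ha, heq⟩ := h _ hmem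
    exact ⟨m, a, hm, ha, heq⟩
  intro f hf
  induction hf using AddSubgroup.closure_induction with
  | mem f hf =>
    obtain ⟨A, ⟨q, -, rfl, hA⟩, rfl⟩ := hf
    refine ⟨fun H => if H = A then 1 else 0, fun H hH => ?_, ?_⟩
    · rw [show H = A by by_contra h; exact hH (if_neg h)]
      exact CfsgLib.CharactersDeep.PermCharSpan.exists_cyclic_of_isQuasiElementary _ A hA
    · funext g
      rw [Finset.sum_eq_single A (fun H _ h => by simp [h]) (by simp)]
      simp [CfsgLib.Characters.cosetFix_eq_indFun]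
  | zero => exact ⟨0, fun H h => absurd rfl h, by funext g; simp⟩
  | add f₁ f₂ _ _ h₁ h₂ =>
    obtain ⟨a, ha, h₁⟩ := h₁
    obtain ⟨b, hb, h₂⟩ := h₂
    refine ⟨a + b, fun H h => ?_, ?_⟩
    · by_cases hz : a H = 0
      · exact hb H fun hz' => h (by simp [hz, hz'])
      · exact ha H hz
    · have : (fun g => ((f₁ + f₂) g : ℂ)) = (fun g => (f₁ g : ℂ)) + fun g => (f₂ g : ℂ) := by
        funext g; simp
      rw [this, h₁, h₂, ← Finset.sum_add_distrib]
      simp [add_smul]
  | neg f₁ _ h₁ =>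
    obtain ⟨a, ha, h₁⟩ := h₁
    refine ⟨-a, fun H h => ha H fun hz => h (by simp [hz]), ?_⟩
    have : (fun g => ((-f₁) g : ℂ)) = -fun g => (f₁ g : ℂ) := by funext g; simp
    rw [this, h₁, ← Finset.sum_neg_distrib]
    simp

end Cfsg.Agent.S0872
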