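import Cfsg.Statements.S0873
import Cfsg.Agent.CharactersDeep.LinearChar
import Mathlib.GroupTheory.PGroup

set_option autoImplicit false
open Cfsg

namespace Cfsg.Agent.S0873

/-- Let C be a normal subgroup of the finite group G of order prime to p and P a p-subgroup with C ⊔ P = G. Let λ be a character of C of degree 1 invariant under conjugation by G and equal to 1 at every element of C centralized by P. Then λ is identically 1. -/
theorem result {G : Type*} [Group G] [Finite G] (p : ℕ) [Fact p.Prime] (C P : Subgroup G) [hC : C.Normal] (hP : IsPGroup p P) (hcop : Nat.Coprime (Nat.card C) p) (hCP : C ⊔ P = ⊤) (lam : C → ℂ) (hlam : Cfsg.IsCharacter C lam ∧ lam 1 = 1) (hinv : ∀ (g : G) (c : C), lam ⟨g * c * g⁻¹, hC.conj_mem (c : G) c.2 g⟩ = lam c) (hker : ∀ c : C, (c : G) ∈ Subgroup.centralizer (P : Set G) → lam c = 1) : lam = fun _ => 1 := by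
  obtain ⟨f, rfl⟩ := CfsgLib.CharactersDeep.LinearChar.exists_hom hlam.1 hlam.2
  have hinv' : ∀ (g : G) (c : C), f (MulAut.conjNormal g c) = f c := fun g c => Units.ext (hinv g c)
  funext c
  let α := {x : C // f x = f c}
  letI : MulAction P α :=
    { smul := fun g x => ⟨MulAut.conjNormal (g : G) x.1, (hinv' _ _).trans x.2⟩
      one_smul := fun x => Subtype.ext (by
        show MulAut.conjNormal ((1 : P) : G) x.1 = x.1
        simp)
      mul_smul := fun g h x => Subtype.ext (by
        show MulAut.conjNormal ((g * h : P) : G) x.1 =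
          MulAut.conjNormal (g : G) (MulAut.conjNormal (h : G) x.1)
        simp [MulAut.mul_apply]) }
  have hcard : Nat.card α = Nat.card f.ker := by
    refine Nat.card_congr
      { toFun := fun x => ⟨c⁻¹ * x.1, by simp [MonoidHom.mem_ker, x.2]⟩
        invFun := fun k => ⟨c * k.1, by simp [MonoidHom.mem_ker.1 k.2]⟩
        left_inv := fun x => Subtype.ext (mul_inv_cancel_left c x.1)
        right_inv := fun k => Subtype.ext (inv_mul_cancel_left c k.1) }
  have hp : ¬ p ∣ Nat.card α := by
    rw [hcard]
    intro hd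
    exact (Fact.out : p.Prime).not_dvd_one (hcop ▸ Nat.dvd_gcd
      (hd.trans (Subgroup.card_subgroup_dvd_card _)) dvd_rfl)
  obtain ⟨x, hx⟩ := hP.nonempty_fixed_point_of_prime_not_dvd_card α hp
  have hxc : (x.1 : G) ∈ Subgroup.centralizer (P : Set G) := by
    intro g hg
    have h := congrArg (fun y : α => (y.1 : G)) (hx ⟨g, hg⟩)
    have h' : g * (x.1 : G) * g⁻¹ = x.1 := h
    exact mul_inv_eq_iff_eq_mul.1 h'
  have hk := hker x.1 hxc
  simp only at hk ⊢
  rw [← x.2, hk]

end Cfsg.Agent.S0873
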