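import Cfsg.Statements.S0875
import Cfsg.Agent.CharactersDeep.SectionFun

set_option autoImplicit false
open Cfsg

namespace Cfsg.Agent.S0875

/-- Let G be a finite group of order m * n with m and n coprime, and g an element whose order is coprime to m. Every x in G factors uniquely as x = u * v with u, v commuting, the order of u coprime to n and the order of v coprime to m; let ϑ be the function on G equal to n at those x whose factor v is conjugate to g and equal to 0 elsewhere. Then ϑ is a linear combination of the irreducible characters of G with algebraic-integer coefficients. -/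
theorem result {G : Type*} [Group G] [Fintype G] (m n : ℕ) (hmn : Nat.card G = m * n) (hcop : Nat.Coprime m n) (g : G) (hg : Nat.Coprime (orderOf g) m) (ϑ : G → ℂ) (hϑ1 : ∀ x : G, (∃ v : G, IsConj v g ∧ (∃ u : G, x = u * v ∧ Commute u v ∧ Nat.Coprime (orderOf u) n ∧ Nat.Coprime (orderOf v) m)) → ϑ x = n) (hϑ0 : ∀ x : G, (¬ ∃ v : G, IsConj v g ∧ (∃ u : G, x = u * v ∧ Commute u v ∧ Nat.Coprime (orderOf u) n ∧ Nat.Coprime (orderOf v) m)) → ϑ x = 0) : ∃ c : Cfsg.IrrCharacter G → ℂ, (∀ χ, c χ ∈ Cfsg.AlgInt) ∧ ϑ = ∑ᶠ χ : Cfsg.IrrCharacter G, c χ • (χ : G → ℂ) := by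
  classical
  obtain ⟨⟨k, hk0', hk1⟩⟩ : Nonempty { k // k ≡ 0 [MOD m] ∧ k ≡ 1 [MOD n] } :=
    ⟨Nat.chineseRemainder hcop 0 1⟩
  have hk0 : m ∣ k := Nat.modEq_zero_iff_dvd.1 hk0'
  have hval : ∀ x, ϑ x = if IsConj g (x ^ k) then (n : ℂ) else 0 := by
    intro x
    split_ifs with h
    · refine hϑ1 x ⟨x ^ k, h.symm, x * (x ^ k)⁻¹, (inv_mul_cancel_right _ _).symm,
        ((Commute.refl x).mul_left (Commute.pow_self x k).inv_left).pow_right k, ?_, ?_⟩
      · exact hcop.coprime_dvd_left (CfsgLib.CharactersDeep.SectionFun.orderOf_rest_dvd hmn hk1 x)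
      · exact hcop.symm.coprime_dvd_left
          (CfsgLib.CharactersDeep.SectionFun.orderOf_pow_dvd' hmn hk0 x)
    · refine hϑ0 x ?_
      rintro ⟨v, hv, u, rfl, huv, hu, hv'⟩
      refine h ?_
      rw [CfsgLib.CharactersDeep.SectionFun.pow_mul_eq hk0 hk1 huv
        (CfsgLib.CharactersDeep.SectionFun.orderOf_dvd_of_coprime hmn hu)
        (CfsgLib.CharactersDeep.SectionFun.orderOf_dvd_of_coprime' hmn hv')]
      exact hv.symm
  have hcl : Cfsg.IsClassFunction G ϑ := by
    intro x h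
    rw [hval, hval, conj_pow]
    have hh : IsConj (x ^ k) (h * x ^ k * h⁻¹) := isConj_iff.2 ⟨h, rfl⟩
    congr 1
    exact propext ⟨fun H => H.trans hh.symm, fun H => H.trans hh⟩
  refine ⟨fun χ => Cfsg.classInner ϑ (χ : G → ℂ), fun χ => ?_, ?_⟩
  · exact CfsgLib.CharactersDeep.SectionFun.section_integral hmn hcop hk0 hk1 g n
      (fun B _ hB => hB.dvd_of_dvd_mul_left (hmn ▸ Subgroup.card_subgroup_dvd_card B)) ϑ hval
      (CfsgLib.Characters.isCharacter_of_isIrr χ.2)
  · rw [finsum_eq_sum_of_fintype]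
    exact CfsgLib.Characters.classFunction_expansion hcl

end Cfsg.Agent.S0875
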