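import Cfsg.Statements.S0879
import Cfsg.Agent.CharactersDeep.Zassenhaus

set_option autoImplicit false
open Cfsg

namespace Cfsg.Agent.S0879

/-- Let G be a Zassenhaus group on the finite set Ω and E the stabilizer of two distinct points a, b. Then an element outside the normalizer of E conjugates no non-identity element of E into E, and E has index 2 in its normalizer. -/
theorem result {G Ω : Type*} [Group G] [Finite G] [MulAction G Ω] [Fintype Ω] (hZ : Cfsg.IsZassenhausGroup G Ω) {a b : Ω} (hab : a ≠ b) : (∀ g : G, g ∉ Subgroup.normalizer ((MulAction.stabilizer G a ⊓ MulAction.stabilizer G b : Subgroup G) : Set G) → ∀ x ∈ (MulAction.stabilizer G a ⊓ MulAction.stabilizer G b : Subgroup G), g * x * g⁻¹ ∈ (MulAction.stabilizer G a ⊓ MulAction.stabilizer G b : Subgroup G) → x = 1) ∧ ((MulAction.stabilizer G a ⊓ MulAction.stabilizer G b : Subgroup G).subgroupOf (Subgroup.normalizer ((MulAction.stabilizer G a ⊓ MulAction.stabilizer G b : Subgroup G) : Set G))).index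 = 2 := by
  classical
  set E : Subgroup G := MulAction.stabilizer G a ⊓ MulAction.stabilizer G b with hE
  have memE : ∀ x : G, x ∈ E ↔ x • a = a ∧ x • b = b := fun x => by
    rw [hE, Subgroup.mem_inf, MulAction.mem_stabilizer_iff, MulAction.mem_stabilizer_iff]
  have hnorm : ∀ g : G, (g • a = a ∧ g • b = b ∨ g • a = b ∧ g • b = a) →
      g ∈ Subgroup.normalizer (E : Set G) := by
    intro g hg
    rw [Subgroup.mem_normalizer_iff]
    intro x
    rw [memE, memE]
    rcases hg with ⟨h1, h2⟩ | ⟨h1, h2⟩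
    · have h1' : g⁻¹ • a = a := inv_smul_eq_iff.mpr h1.symm
      have h2' : g⁻¹ • b = b := inv_smul_eq_iff.mpr h2.symm
      rw [mul_smul, mul_smul, mul_smul, mul_smul, h1', h2']
      constructor
      · rintro ⟨h, h'⟩; rw [h, h', h1, h2]; exact ⟨rfl, rfl⟩
      · rintro ⟨h, h'⟩
        exact ⟨by rw [← inv_smul_smul g (x • a), h, h1'], by rw [← inv_smul_smul g (x • b), h', h2']⟩
    · have h1' : g⁻¹ • b = a := inv_smul_eq_iff.mpr h1.symm
      have h2' : g⁻¹ • a = b := inv_smul_eq_iff.mpr h2.symm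
      rw [mul_smul, mul_smul, mul_smul, mul_smul, h1', h2']
      constructor
      · rintro ⟨h, h'⟩; rw [h, h', h1, h2]; exact ⟨rfl, rfl⟩
      · rintro ⟨h, h'⟩
        exact ⟨by rw [← inv_smul_smul g (x • a), h', h1'], by rw [← inv_smul_smul g (x • b), h, h2']⟩
  have hperm : ∀ g x : G, x ≠ 1 → x ∈ E → g * x * g⁻¹ ∈ E →
      (g • a = a ∧ g • b = b ∨ g • a = b ∧ g • b = a) := by
    intro g x hx1 hx hgx
    obtain ⟨hxa, hxb⟩ := (memE x).mp hx
    obtain ⟨hca, hcb⟩ := (memE _).mp hgx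
    have hne : g * x * g⁻¹ ≠ 1 := by
      intro h
      have h2 : g * x * g⁻¹ * g = 1 * g := congrArg (· * g) h
      exact hx1 (by simpa using h2)
    have hga : g • a = a ∨ g • a = b := by
      by_contra h
      push Not at h
      exact hne (CfsgLib.CharactersDeep.Zassenhaus.eq_one_of_fix_three hZ h.1 hab h.2
        (by simp [mul_smul, hxa]) hca hcb)
    have hgb : g • b = a ∨ g • b = b := by
      by_contra h
      push Not at h
      exact hne (CfsgLib.CharactersDeep.Zassenhaus.eq_one_of_fix_three hZ h.1 hab h.2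
        (by simp [mul_smul, hxb]) hca hcb)
    have hinj : g • a ≠ g • b := fun h => hab (by simpa using congrArg (g⁻¹ • ·) h)
    grind
  have hfirst : ∀ g : G, g ∉ Subgroup.normalizer (E : Set G) → ∀ x ∈ E, g * x * g⁻¹ ∈ E → x = 1 := by
    intro g hg x hx hgx
    by_contra hx1
    exact hg (hnorm g (hperm g x hx1 hx hgx))
  refine ⟨hfirst, ?_⟩
  obtain ⟨x, hx1, hxa, hxb⟩ := CfsgLib.CharactersDeep.Zassenhaus.exists_fix_two hZ hab
  obtain ⟨t, hta, htb⟩ := CfsgLib.CharactersDeep.Zassenhaus.two_transitive hZ hab hab.symm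
  rw [Subgroup.index_eq_two_iff]
  refine ⟨⟨t, hnorm t (Or.inr ⟨hta, htb⟩)⟩, fun g => ?_⟩
  have hx : x ∈ E := (memE x).mpr ⟨hxa, hxb⟩
  rw [Subgroup.mem_subgroupOf, Subgroup.mem_subgroupOf, Subgroup.coe_mul, memE, memE]
  rcases hperm g x hx1 hx ((Subgroup.mem_normalizer_iff.mp g.2 x).mp hx) with ⟨h1, h2⟩ | ⟨h1, h2⟩
  · refine Or.inr ⟨⟨h1, h2⟩, ?_⟩
    rintro ⟨h, -⟩
    rw [mul_smul, hta, h2] at h
    exact hab h.symm
  · refine Or.inl ⟨⟨by rw [mul_smul, hta, h2], by rw [mul_smul, htb, h1]⟩, ?_⟩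
    rintro ⟨h, -⟩
    exact hab (h.symm.trans h1)

end Cfsg.Agent.S0879
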