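import Cfsg.Statements.S0892
import Cfsg.Agent.CharactersDeep.AltMultiplier

set_option autoImplicit false
open Cfsg

namespace Cfsg.Agent.S0892

/-- Let n ≥ 4 with n ≠ 6 and n ≠ 7, and let Γ be a finite group with a subgroup Z contained in both the centre and the commutator subgroup of Γ such that Γ / Z is isomorphic to the alternating group on n letters. Then Z has order at most 2. -/
theorem result (n : ℕ) (hn : 4 ≤ n) (h6 : n ≠ 6) (h7 : n ≠ 7) {Γ : Type*} [Group Γ] [Finite Γ] (Z : Subgroup Γ) [Z.Normal] (hZc : Z ≤ Subgroup.center Γ) (hZd : Z ≤ commutator Γ) (e : Γ ⧸ Z ≃* alternatingGroup (Fin n)) : Nat.card Z ≤ 2 := by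
  obtain ⟨k, rfl⟩ : ∃ k, n = k + 2 := ⟨n - 2, by omega⟩
  let π : Γ →* Equiv.Perm (Fin (k + 2)) :=
    (alternatingGroup (Fin (k + 2))).subtype.comp (e.toMonoidHom.comp (QuotientGroup.mk' Z))
  have hker : π.ker = Z := by
    ext x
    rw [MonoidHom.mem_ker]
    show ((e (x : Γ ⧸ Z) : alternatingGroup (Fin (k + 2))) : Equiv.Perm (Fin (k + 2))) = 1 ↔ _
    rw [OneMemClass.coe_eq_one, MulEquiv.map_eq_one_iff, QuotientGroup.eq_one_iff]
  have S : CfsgLib.CharactersDeep.AltMultiplier.Ext π := by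
    refine ⟨by omega, hker ▸ hZc, hker ▸ hZd, fun x => ?_, fun g hg => ?_⟩
    · exact Equiv.Perm.mem_alternatingGroup.1 (e (x : Γ ⧸ Z)).2
    · obtain ⟨x, hx⟩ := QuotientGroup.mk_surjective (e.symm ⟨g, Equiv.Perm.mem_alternatingGroup.2 hg⟩)
      exact ⟨x, by show ((e (x : Γ ⧸ Z) : alternatingGroup (Fin (k + 2))) : Equiv.Perm (Fin (k + 2))) = g; rw [hx, MulEquiv.apply_symm_apply]⟩
  rw [← hker]
  rcases (by omega : k = 2 ∨ (k = 3 ∨ 6 ≤ k)) with h | h
  · exact S.card_ker_le_four π h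
  · exact S.card_ker_le π h

end Cfsg.Agent.S0892
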