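import Cfsg.Statements.S0901
import Cfsg.Agent.Blocks.LocalRing
import Mathlib.RingTheory.RootsOfUnity.PrimitiveRoots
import Mathlib.RingTheory.RootsOfUnity.Complex
import Mathlib.Algebra.Algebra.ZMod
import Mathlib.Algebra.Ring.GeomSum
import Mathlib.RingTheory.Polynomial.Cyclotomic.Basic
import Mathlib.RingTheory.IntegralClosure.IsIntegral.Basic

set_option autoImplicit false
set_option linter.style.haveILetI false
open Cfsg

namespace Cfsg.Agent.S0901

/-- Let M be a maximal ideal of the ring of algebraic integers containing the prime p, and let U be the set of complex roots of unity of order prime to p. Then reduction modulo M is injective on U, and every algebraic integer not in M is congruent modulo M to an element of U (so U maps bijectively onto the nonzero residues). -/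
theorem result (p : ℕ) [Fact p.Prime] (M : Ideal Cfsg.AlgInt) (hM : Cfsg.IsPModular p M) : (∀ ε₁ ε₂ : Cfsg.AlgInt, (∃ m : ℕ, ¬ p ∣ m ∧ (ε₁ : ℂ) ^ m = 1) → (∃ m : ℕ, ¬ p ∣ m ∧ (ε₂ : ℂ) ^ m = 1) → ε₁ - ε₂ ∈ M → ε₁ = ε₂) ∧ (∀ a : Cfsg.AlgInt, a ∉ M → ∃ ε : Cfsg.AlgInt, (∃ m : ℕ, ¬ p ∣ m ∧ (ε : ℂ) ^ m = 1) ∧ a - ε ∈ M) := by
  haveI := hM.2.1
  have hp : p.Prime := Fact.out
  constructor
  · rintro ε₁ ε₂ ⟨m₁, h1, e1⟩ ⟨m₂, h2, e2⟩ hmem
    have e1' : ε₁ ^ m₁ = 1 := Subtype.ext (by push_cast; exact e1)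
    have e2' : ε₂ ^ m₂ = 1 := Subtype.ext (by push_cast; exact e2)
    have h2pos : 0 < m₂ := Nat.pos_of_ne_zero (by rintro rfl; exact h2 (dvd_zero p))
    have hinv : ε₂ * ε₂ ^ (m₂ - 1) = 1 := by
      rw [← pow_succ', Nat.sub_add_cancel h2pos, e2']
    set ζ := ε₁ * ε₂ ^ (m₂ - 1) with hζ
    have hζm : ζ ^ (m₁ * m₂) = 1 := by
      rw [hζ, mul_pow, pow_mul, e1', one_pow, one_mul, ← pow_mul,
        show (m₂ - 1) * (m₁ * m₂) = m₂ * ((m₂ - 1) * m₁) by ring, pow_mul, e2', one_pow]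
    have hζM : Ideal.Quotient.mk M ζ = 1 := by
      rw [hζ, map_mul, Ideal.Quotient.mk_eq_mk_iff_sub_mem (x := ε₁) (y := ε₂) |>.2 hmem,
        ← map_mul, hinv, map_one]
    by_contra hne
    have hζ1 : ζ - 1 ≠ 0 := by
      intro h
      apply hne
      calc ε₁ = ζ * ε₂ := by rw [hζ, mul_assoc, mul_comm (ε₂ ^ (m₂ - 1)), hinv, mul_one]
        _ = ε₂ := by rw [sub_eq_zero.1 h, one_mul]
    have hsum : ∑ i ∈ Finset.range (m₁ * m₂), ζ ^ i = 0 := by
      have := geom_sum_mul ζ (m₁ * m₂)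
      rw [hζm, sub_self, mul_eq_zero] at this
      exact this.resolve_right hζ1
    have hmM : ((m₁ * m₂ : ℕ) : AlgInt) ∈ M := by
      rw [← Ideal.Quotient.eq_zero_iff_mem]
      simpa [map_sum, map_pow, hζM] using congrArg (Ideal.Quotient.mk M) hsum
    exact hp.not_dvd_mul h1 h2 ((CfsgLib.Blocks.IsPModular.natCast_mem_iff hM _).1 hmM)
  · intro a ha
    letI : Field (AlgInt ⧸ M) := Ideal.Quotient.field M
    haveI : CharP (AlgInt ⧸ M) p :=
      ⟨fun n => by
        rw [← map_natCast (Ideal.Quotient.mk M), Ideal.Quotient.eq_zero_iff_mem,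
          CfsgLib.Blocks.IsPModular.natCast_mem_iff hM]⟩
    letI := ZMod.algebra (AlgInt ⧸ M) p
    set x := Ideal.Quotient.mk M a with hx
    have hint : IsIntegral (ZMod p) x := by
      have h1 : IsIntegral ℤ x :=
        ((isIntegral_algHom_iff AlgInt.val Subtype.val_injective).1 a.2).map
          ((Ideal.Quotient.mk M).toIntAlgHom)
      exact h1.tower_top
    haveI : Module.Finite (ZMod p) (Algebra.adjoin (ZMod p) {x}) :=
      Module.Finite.iff_fg.2 hint.fg_adjoin_singleton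
    haveI : Finite (Algebra.adjoin (ZMod p) {x}) := Module.finite_of_finite (ZMod p)
    let y : Algebra.adjoin (ZMod p) {x} := ⟨x, Algebra.self_mem_adjoin_singleton _ _⟩
    obtain ⟨i, j, hne, hij⟩ := Finite.exists_ne_map_eq_of_infinite (fun n : ℕ => y ^ n)
    have hx0 : x ≠ 0 := fun h => ha (Ideal.Quotient.eq_zero_iff_mem.1 h)
    have hfin : ∃ n, 0 < n ∧ x ^ n = 1 := by
      have hij' : x ^ i = x ^ j := congrArg Subtype.val hij
      rcases Nat.lt_or_gt_of_ne hne with h | h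
      · refine ⟨j - i, by omega, ?_⟩
        rw [pow_sub₀ x hx0 h.le, ← hij', mul_inv_cancel₀ (pow_ne_zero _ hx0)]
      · refine ⟨i - j, by omega, ?_⟩
        rw [pow_sub₀ x hx0 h.le, hij', mul_inv_cancel₀ (pow_ne_zero _ hx0)]
    obtain ⟨n, hn, hxn⟩ := hfin
    obtain ⟨k, m, hm, rfl⟩ := Nat.exists_eq_pow_mul_and_not_dvd hn.ne' p hp.ne_one
    have hxm : x ^ m = 1 := by
      haveI : ExpChar (AlgInt ⧸ M) p := ExpChar.prime hp
      have : (x ^ m - 1) ^ (p ^ k) = 0 := by
        rw [sub_pow_char_pow, ← pow_mul, mul_comm, hxn, one_pow, sub_self]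
      exact sub_eq_zero.1 (eq_zero_of_pow_eq_zero this)
    have hm0 : 0 < m := Nat.pos_of_ne_zero (by rintro rfl; exact hm (dvd_zero p))
    have hζ0 := Complex.isPrimitiveRoot_exp m hm0.ne'
    let z : AlgInt := ⟨_, IsIntegral.of_pow hm0 (by rw [hζ0.pow_eq_one]; exact isIntegral_one)⟩
    have hz : IsPrimitiveRoot z m := IsPrimitiveRoot.of_map_of_injective
      (f := AlgInt.val) (ζ := z) hζ0 Subtype.val_injective
    have hprod : a ^ m - 1 = ∏ i ∈ Finset.range m, (a - z ^ i) := by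
      have := congrArg (Polynomial.eval a) (Polynomial.X_pow_sub_one_eq_prod hm0 hz)
      simp only [Polynomial.eval_sub, Polynomial.eval_pow, Polynomial.eval_X, Polynomial.eval_one,
        Polynomial.eval_prod, Polynomial.eval_C] at this
      rw [this]
      symm
      refine Finset.prod_bij (fun i _ => z ^ i) (fun i _ => ?_) (fun i hi j hj h => ?_) (fun b hb => ?_)
        (fun i _ => rfl)
      · rw [Polynomial.mem_nthRootsFinset hm0, ← pow_mul, mul_comm, pow_mul, hz.pow_eq_one, one_pow]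
      · exact hz.pow_inj (Finset.mem_range.1 hi) (Finset.mem_range.1 hj) h
      · rw [Polynomial.mem_nthRootsFinset hm0] at hb
        haveI : NeZero m := ⟨hm0.ne'⟩
        obtain ⟨i, hi, rfl⟩ := hz.eq_pow_of_pow_eq_one hb
        exact ⟨i, Finset.mem_range.2 hi, rfl⟩
    have hmemM : ∏ i ∈ Finset.range m, (a - z ^ i) ∈ M := by
      rw [← hprod, ← Ideal.Quotient.eq_zero_iff_mem, map_sub, map_pow, ← hx, hxm, map_one, sub_self]
    obtain ⟨i, -, hi⟩ := (hM.2.1.isPrime.prod_mem_iff).1 hmemM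
    exact ⟨z ^ i, ⟨m, hm, by
      push_cast; rw [← pow_mul, mul_comm, pow_mul, hζ0.pow_eq_one, one_pow]⟩, hi⟩

end Cfsg.Agent.S0901
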