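import Cfsg.Statements.S0903
import Mathlib.GroupTheory.PGroup

set_option autoImplicit false
set_option linter.style.haveILetI false
open Cfsg

namespace Cfsg.Agent.S0903

/-- Let P be a p-subgroup of the finite group G, let c centralize P and let g, h ∈ G. The number of pairs (x, y) with x conjugate to g, y conjugate to h and x * y = c is congruent modulo p to the number of such pairs in which x and y both centralize P. (This is why the Brauer map on class sums is multiplicative.) -/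
theorem result {G : Type*} [Group G] [Finite G] (p : ℕ) [Fact p.Prime] (P : Subgroup G) (hP : IsPGroup p P) (c : G) (hc : c ∈ Subgroup.centralizer (P : Set G)) (g h : G) : Nat.card {xy : G × G // IsConj g xy.1 ∧ IsConj h xy.2 ∧ xy.1 * xy.2 = c} ≡ Nat.card {xy : G × G // IsConj g xy.1 ∧ IsConj h xy.2 ∧ xy.1 * xy.2 = c ∧ xy.1 ∈ Subgroup.centralizer (P : Set G) ∧ xy.2 ∈ Subgroup.centralizer (P : Set G)} [MOD p] := by
  classical
  let A := {xy : G × G // IsConj g xy.1 ∧ IsConj h xy.2 ∧ xy.1 * xy.2 = c}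
  have conjP : ∀ (u : P), (u : G) * c * (u : G)⁻¹ = c := fun u => by
    rw [Subgroup.mem_centralizer_iff.1 hc u u.2, mul_inv_cancel_right]
  have mem : ∀ (u : P) (q : A), IsConj g ((u : G) * q.1.1 * (u : G)⁻¹) ∧
      IsConj h ((u : G) * q.1.2 * (u : G)⁻¹) ∧
      ((u : G) * q.1.1 * (u : G)⁻¹) * ((u : G) * q.1.2 * (u : G)⁻¹) = c := by
    intro u q
    refine ⟨q.2.1.trans (isConj_iff.2 ⟨u, rfl⟩), q.2.2.1.trans (isConj_iff.2 ⟨u, rfl⟩), ?_⟩
    rw [conj_mul, q.2.2.2, conjP]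
  letI : MulAction P A :=
    { smul := fun u q => ⟨((u : G) * q.1.1 * (u : G)⁻¹, (u : G) * q.1.2 * (u : G)⁻¹), mem u q⟩
      one_smul := fun q => Subtype.ext (by
        show ((((1 : P) : G) * q.1.1 * ((1 : P) : G)⁻¹), (((1 : P) : G) * q.1.2 * ((1 : P) : G)⁻¹)) = q.1
        simp)
      mul_smul := fun u v q => Subtype.ext (by
        show (((u * v : P) : G) * q.1.1 * ((u * v : P) : G)⁻¹, ((u * v : P) : G) * q.1.2 * ((u * v : P) : G)⁻¹) =
          ((u : G) * ((v : G) * q.1.1 * (v : G)⁻¹) * (u : G)⁻¹, (u : G) * ((v : G) * q.1.2 * (v : G)⁻¹) * (u : G)⁻¹)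
        simp [mul_assoc]) }
  refine (hP.card_modEq_card_fixedPoints A).trans (congrArg (· % p) ?_)
  refine Nat.card_congr ⟨fun q => ⟨q.1.1, q.1.2.1, q.1.2.2.1, q.1.2.2.2, ?_, ?_⟩,
    fun q => ⟨⟨q.1, q.2.1, q.2.2.1, q.2.2.2.1⟩, fun u => Subtype.ext (Prod.ext ?_ ?_)⟩,
    fun q => rfl, fun q => rfl⟩
  · refine Subgroup.mem_centralizer_iff.2 fun u hu => ?_
    have := congrArg (fun r : A => r.1.1) (q.2 ⟨u, hu⟩)
    exact mul_inv_eq_iff_eq_mul.1 this
  · refine Subgroup.mem_centralizer_iff.2 fun u hu => ?_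
    have := congrArg (fun r : A => r.1.2) (q.2 ⟨u, hu⟩)
    exact mul_inv_eq_iff_eq_mul.1 this
  · exact mul_inv_eq_iff_eq_mul.2 (Subgroup.mem_centralizer_iff.1 q.2.2.2.2.1 u u.2)
  · exact mul_inv_eq_iff_eq_mul.2 (Subgroup.mem_centralizer_iff.1 q.2.2.2.2.2 u u.2)

end Cfsg.Agent.S0903
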