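import Cfsg.Statements.S0905
import Cfsg.Agent.Blocks.BrauerMap
import Cfsg.Agent.PLocal.Cores

set_option autoImplicit false
set_option linter.style.haveILetI false
open Cfsg

namespace Cfsg.Agent.S0905

/-- Let F be a field of characteristic p and let g be an element of the finite group G no conjugate of which centralizes O_p(G). Then the class sum of g is a nilpotent element of the group algebra F[G]. -/
theorem result {G : Type*} [Group G] [Finite G] (p : ℕ) [Fact p.Prime] (F : Type*) [Field F] [CharP F p] (g : G) (hg : ∀ x : G, IsConj g x → x ∉ Subgroup.centralizer (Cfsg.pCore p G : Set G)) : IsNilpotent (∑ᶠ x ∈ ConjClasses.carrier (ConjClasses.mk g), MonoidAlgebra.single x (1 : F) : MonoidAlgebra F G) := by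
  classical
  haveI : Fintype G := Fintype.ofFinite G
  haveI : (Cfsg.pCore p G).Normal := Subgroup.sSup_normal _ fun _ h => h.1
  have e : (∑ᶠ x ∈ ConjClasses.carrier (ConjClasses.mk g), MonoidAlgebra.single x (1 : F) :
      MonoidAlgebra F G) = ((CfsgLib.Blocks.classSum F (ConjClasses.mk g) : CfsgLib.Blocks.Ctr F G) :
        MonoidAlgebra F G) := by
    rw [finsum_mem_def, finsum_eq_sum_of_fintype]
    refine MonoidAlgebra.ext (Finsupp.ext fun y => ?_)
    rw [MonoidAlgebra.coeff_sum, Finsupp.finsetSum_apply, CfsgLib.Blocks.coeff_classSum,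
      Finset.sum_eq_single y]
    · rw [Set.indicator_apply]
      simp only [ConjClasses.mem_carrier_iff_mk_eq]
      split_ifs <;> simp
    · intro b _ hb
      rw [Set.indicator_apply]
      split_ifs <;> simp [hb.symm]
    · simp
  rw [e]
  refine (CfsgLib.Blocks.isNilpotent_of_coeff_centralizer (F := F) (Cfsg.pCore p G)
    (CfsgLib.PLocal.isPGroup_pCore p G)
    (a := CfsgLib.Blocks.classSum F (ConjClasses.mk g)) fun x hx => ?_).map
      (CfsgLib.Blocks.Ctr F G).subtype
  rw [CfsgLib.Blocks.coeff_classSum, if_neg]
  exact fun h => hg x (ConjClasses.mk_eq_mk_iff_isConj.1 h).symm hx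

end Cfsg.Agent.S0905
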