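import Cfsg.Statements.S0911
import Cfsg.Agent.Blocks.Defect

set_option autoImplicit false
set_option linter.style.haveILetI false
open Cfsg

namespace Cfsg.Agent.S0911

/-- The min–max Theorem for defect classes. Let B be a block of the finite group G relative to a maximal ideal M of the algebraic integers containing the prime p, let g represent a defect class of B and let D be a Sylow p-subgroup of the centralizer of g (viewed in G). For any h: (a) if the idempotent coefficient of B at h is a local integer outside the local ideal, then some conjugate of D contains a Sylow p-subgroup of the centralizer of h; (b) if the central character of some member of B at h is outside the local ideal, then some conjugate of D is contained in a Sylow p-subgroup of the centralizer of h. -/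
theorem result {G : Type*} [Group G] [Finite G] (p : ℕ) [Fact p.Prime] (M : Ideal Cfsg.AlgInt) (hM : Cfsg.IsPModular p M) (B : Set (Cfsg.IrrCharacter G)) (hB : Cfsg.IsPBlock M B) (g : G) (hg : Cfsg.IsDefectClass M B g) (D : Sylow p (Subgroup.centralizer ({g} : Set G))) (h : G) : (Cfsg.MemLocalRing M (Cfsg.blockCoeff B h) → ¬ Cfsg.MemLocalIdeal M (Cfsg.blockCoeff B h) → ∃ (x : G) (Q : Sylow p (Subgroup.centralizer ({h} : Set G))), (Q : Subgroup (Subgroup.centralizer ({h} : Set G))).map (Subgroup.centralizer ({h} : Set G)).subtype ≤ ((D : Subgroup (Subgroup.centralizer ({g} : Set G))).map (Subgroup.centralizer ({g} : Set G)).subtype).map (MulAut.conj x).toMonoidHom) ∧ ((∃ χ ∈ B, ¬ Cfsg.MemLocalIdeal M (Cfsg.centralChar (χ : G → ℂ) h)) → ∃ (x : G) (Q : Sylow p (Subgroup.centralizer ({h} : Set G))), ((D : Subgroup (Subgroup.centralizer ({g} : Set G))).map (Subgroup.centralizer ({g} : Set G)).subtype).map (MulAut.conj x).toMonoidHom ≤ (Q : Subgroup (Subgroup.centralizer ({h} : Set G))).map (Subgroup.centralizer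 ({h} : Set G)).subtype) := by
  haveI := hM.2.1.isPrime
  haveI := Fintype.ofFinite G
  obtain ⟨χ₀, hχ₀⟩ := CfsgLib.Blocks.isPBlock_nonempty hB
  have hA := CfsgLib.Blocks.isBlockUnion_of_isPBlock hB
  have hD := CfsgLib.Blocks.isSylowIn_map_subtype D
  obtain ⟨S, hS, -⟩ := CfsgLib.Blocks.exists_isSylowIn_ge (p := p)
    (K := Subgroup.centralizer ({h} : Set G)) IsPGroup.of_bot bot_le
  obtain ⟨Q, rfl⟩ := CfsgLib.Blocks.isSylowIn_iff.1 hS
  have hDG : Cfsg.IsDefectGroup p M B _ := CfsgLib.Blocks.isDefectGroup_iff.2 ⟨g, hg, hD⟩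
  refine ⟨fun _ hni => ?_, fun hex => ?_⟩
  · have hne := (CfsgLib.Blocks.not_memLocalIdeal_blockCoeff_iff hA h).1 hni
    obtain ⟨x, hx⟩ := CfsgLib.Blocks.IsDefectGroup.domBy hM hB hDG _ hS.2.1 h
      (CfsgLib.Blocks.le_centralizer_singleton_iff.1 hS.1) hne
    refine ⟨x⁻¹, Q, ?_⟩
    have := CfsgLib.BlockPairs.cj_mono x⁻¹ hx
    rwa [CfsgLib.BlockPairs.cj_inv_cj] at this
  · obtain ⟨χ, hχ, hne⟩ := hex
    rw [CfsgLib.Blocks.not_memLocalIdeal_centralChar_iff] at hne
    obtain ⟨x, hx⟩ := CfsgLib.Blocks.IsDefectGroup.exists_conj_le hM hB hDG hχ hne hS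
    exact ⟨x, Q, hx⟩

end Cfsg.Agent.S0911
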