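import Cfsg.Statements.S0916
import Cfsg.Agent.Blocks.SylowIn

set_option autoImplicit false
set_option linter.style.haveILetI false
open Cfsg

namespace Cfsg.Agent.S0916

/-- Let P be a p-subgroup of the finite group G, C its centralizer and N its normalizer. Say that a conjugacy class (of G, or of N) has defect group P when P is a Sylow p-subgroup of the centralizer (in G, respectively in N) of some element of the class. Then: (i) if the class of g in G has defect group P, the elements of that class lying in C form a single N-class, again with defect group P; (ii) every N-class with defect group P arises this way from exactly one G-class with defect group P. -/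
theorem result {G : Type*} [Group G] [Finite G] (p : ℕ) [Fact p.Prime] (P : Subgroup G) (hP : IsPGroup p P) : (∀ g : G, (∃ S : Sylow p (Subgroup.centralizer ({g} : Set G)), (S : Subgroup (Subgroup.centralizer ({g} : Set G))).map (Subgroup.centralizer ({g} : Set G)).subtype = P) → (∃ c : G, IsConj g c ∧ c ∈ Subgroup.centralizer (P : Set G)) ∧ (∀ c₁ c₂ : G, IsConj g c₁ → IsConj g c₂ → c₁ ∈ Subgroup.centralizer (P : Set G) → c₂ ∈ Subgroup.centralizer (P : Set G) → ∃ n ∈ Subgroup.normalizer (P : Set G), n * c₁ * n⁻¹ = c₂)) ∧ (∀ c : G, c ∈ Subgroup.centralizer (P : Set G) → (∃ S : Sylow p (Subgroup.centralizer ({c} : Set G) ⊓ Subgroup.normalizer (P : Set G) : Subgroup G), (S : Subgroup ↥(Subgroup.centralizer ({c} : Set G) ⊓ Subgroup.normalizer (P : Set G))).map (Subgroup.centralizer ({c} : Set G) ⊓ Subgroup.normalizer (P : Set G)).subtype = P) → ∃ S : Sylow p (Subgroup.centralizer ({c} : Set G)), (S : Subgroup (Subgroup.centralizer ({c} : Set G))).map (Subgroup.centralizer ({c} : Set G)).subtype = P) := by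
  refine ⟨fun g hg => ?_, fun c hc hS => ?_⟩
  · have hg' := CfsgLib.Blocks.isSylowIn_iff.2 hg
    have mem : ∀ x : G, P ≤ Subgroup.centralizer ({x} : Set G) ↔
        x ∈ Subgroup.centralizer (P : Set G) := fun x => by
      constructor
      · exact fun h => Subgroup.mem_centralizer_iff.2 fun u hu =>
          Subgroup.mem_centralizer_singleton_iff.1 (h hu)
      · exact fun h u hu => Subgroup.mem_centralizer_singleton_iff.2
          (Subgroup.mem_centralizer_iff.1 h u hu)
    refine ⟨⟨g, IsConj.refl g, (mem g).1 hg'.1⟩, fun c₁ c₂ h1 h2 m1 m2 => ?_⟩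
    have key : ∀ c : G, IsConj g c → c ∈ Subgroup.centralizer (P : Set G) →
        CfsgLib.Blocks.IsSylowIn p (Subgroup.centralizer ({c} : Set G)) P := by
      intro c hgc hcP
      have hle := (mem c).2 hcP
      obtain ⟨x, rfl⟩ := isConj_iff.1 hgc
      have h3 := hg'.conj x
      rw [← CfsgLib.Blocks.centralizer_singleton_conj] at h3
      obtain ⟨D, hD, hPD⟩ := CfsgLib.Blocks.exists_isSylowIn_ge hP hle
      have : P = D := Subgroup.eq_of_le_of_card_ge hPD (le_of_eq (by
        rw [hD.card_eq, ← h3.card_eq, Subgroup.card_map_of_injective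
          (f := (MulAut.conj x).toMonoidHom) (MulAut.conj x).injective]))
      exact this ▸ hD
    exact CfsgLib.Blocks.exists_normalizer_conj (key c₁ h1 m1) (key c₂ h2 m2) (h1.symm.trans h2)
  · exact CfsgLib.Blocks.isSylowIn_iff.1
      (CfsgLib.Blocks.isSylowIn_of_inf_normalizer (CfsgLib.Blocks.isSylowIn_iff.2 hS))

end Cfsg.Agent.S0916
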