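import Cfsg.Statements.S0938

import Cfsg.Agent.BlocksLocal.Support
import Cfsg.Agent.BlocksLocal.NormalAverage
import Cfsg.Agent.BlocksCharsC.Restriction

set_option autoImplicit false
open Cfsg

namespace Cfsg.Agent.S0938

/-- Let B be a block of the finite group G relative to a maximal ideal M of the algebraic integers containing the prime p, and let χ ∈ B. Then the kernel of B (the set of g with ψ g = ψ 1 for all ψ ∈ B) is a normal subgroup of order prime to p contained in the kernel of χ, and it contains every normal subgroup of order prime to p on which χ takes the value χ(1); that is, it is O_p' of the kernel of χ. -/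
theorem result {G : Type*} [Group G] [Finite G] (p : ℕ) [Fact p.Prime] (M : Ideal Cfsg.AlgInt) (hM : Cfsg.IsPModular p M) (B : Set (Cfsg.IrrCharacter G)) (hB : Cfsg.IsPBlock M B) (χ : Cfsg.IrrCharacter G) (hχ : χ ∈ B) : ∃ K : Subgroup G, K.Normal ∧ (K : Set G) = Cfsg.blockKer B ∧ ¬ p ∣ Nat.card K ∧ (∀ g ∈ K, (χ : G → ℂ) g = (χ : G → ℂ) 1) ∧ ∀ N : Subgroup G, N.Normal → ¬ p ∣ Nat.card N → (∀ g ∈ N, (χ : G → ℂ) g = (χ : G → ℂ) 1) → N ≤ K := by
  classical
  have : M.IsPrime := hM.2.1.isPrime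
  have := Fintype.ofFinite G
  let K : Subgroup G := ⨅ ψ : B, CfsgLib.BlocksCharsC.charKer ((ψ : Cfsg.IrrCharacter G) : G → ℂ)
    (CfsgLib.Characters.isCharacter_of_isIrr (ψ : Cfsg.IrrCharacter G).2)
  have hmem : ∀ g, g ∈ K ↔ ∀ ψ ∈ B, (ψ : G → ℂ) g = (ψ : G → ℂ) 1 := by
    intro g
    simp only [K, Subgroup.mem_iInf, CfsgLib.BlocksCharsC.mem_charKer, Subtype.forall]
  have hU := CfsgLib.Blocks.isBlockUnion_of_isPBlock hB
  have hcoeff : ∀ g ∈ K, Cfsg.blockCoeff B g = Cfsg.blockCoeff B 1 := by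
    intro g hg
    rw [CfsgLib.Blocks.blockCoeff_eq_sum, CfsgLib.Blocks.blockCoeff_eq_sum]
    refine congrArg _ (Finset.sum_congr rfl fun ψ _ => ?_)
    split_ifs with hψ
    · rw [(hmem g).1 hg ψ hψ]
    · rfl
  have hne : Cfsg.blockCoeff B 1 ≠ 0 := by
    have hdeg : ∀ ψ : Cfsg.IrrCharacter G, ∃ n : ℕ, 0 < n ∧ (ψ : G → ℂ) 1 = n :=
      fun ψ => CfsgLib.Characters.exists_degree_pos ψ.2
    choose n hn hn1 using hdeg
    rw [CfsgLib.Blocks.blockCoeff_eq_sum]
    refine mul_ne_zero (inv_ne_zero CfsgLib.Characters.natCard_ne_zero) ?_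
    have h1 : ∀ ψ : Cfsg.IrrCharacter G,
        (if ψ ∈ B then (ψ : G → ℂ) 1 * (starRingEnd ℂ) ((ψ : G → ℂ) 1) else 0) =
          ((if ψ ∈ B then n ψ * n ψ else 0 : ℕ) : ℂ) := by
      intro ψ
      split_ifs with hψ
      · rw [hn1]; simp
      · simp
    rw [Finset.sum_congr rfl fun ψ _ => h1 ψ, ← Nat.cast_sum, Nat.cast_ne_zero]
    intro h0
    have h2 := Finset.sum_eq_zero_iff.1 h0 χ (Finset.mem_univ χ)
    rw [if_pos hχ] at h2
    exact (hn χ).ne' (by simpa using h2)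
  refine ⟨K, ⟨fun a ha c => (hmem _).2 fun ψ hψ => ?_⟩, ?_, fun hdvd => ?_,
    fun g hg => (hmem g).1 hg χ hχ, fun N hN hNp hNχ g hg => (hmem g).2 fun ψ hψ => ?_⟩
  · rw [CfsgLib.Characters.isClassFunction_of_isIrr ψ.2]
    exact (hmem a).1 ha ψ hψ
  · ext g
    exact hmem g
  · obtain ⟨g, hg⟩ := exists_prime_orderOf_dvd_card' p hdvd
    refine hne ?_
    rw [← hcoeff _ g.2]
    exact CfsgLib.BlocksLocal.blockCoeff_eq_zero_of_dvd hM hU (by rw [Subgroup.orderOf_coe, hg])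
  · have := hN
    refine CfsgLib.BlocksLocal.eq_degree_of_sameBlock hM N hNp (χ := χ) (ψ := ψ) ?_ hNχ hg
    exact (CfsgLib.Blocks.eq_blockOf_of_mem hB hχ).le hψ

end Cfsg.Agent.S0938
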