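import Cfsg.Statements.S0939

import Cfsg.Agent.BlocksLocal.NormalAverage
import Cfsg.Agent.BlockPairing.NormalPSubgroup
import Cfsg.Agent.PLocal.Cores

set_option autoImplicit false
open Cfsg

namespace Cfsg.Agent.S0939

/-- Let G be a finite group with a normal p-complement (the largest normal subgroup O_p'(G) of order prime to p has p-power index). Then, relative to any maximal ideal M of the algebraic integers containing p, the principal block of G is the set of irreducible characters χ with χ n = χ 1 for every n ∈ O_p'(G). -/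
theorem result {G : Type*} [Group G] [Finite G] (p : ℕ) [Fact p.Prime] (M : Ideal Cfsg.AlgInt) (hM : Cfsg.IsPModular p M) (hnc : ∃ k : ℕ, (Cfsg.pPrimeCore p G).index = p ^ k) : Cfsg.principalBlock M G = {χ : Cfsg.IrrCharacter G | ∀ n ∈ Cfsg.pPrimeCore p G, (χ : G → ℂ) n = (χ : G → ℂ) 1} := by
  classical
  have : M.IsPrime := hM.2.1.isPrime
  have := Fintype.ofFinite G
  set N := Cfsg.pPrimeCore p G with hN'
  have hnorm : N.Normal := by infer_instance
  have hNp : ¬ p ∣ Nat.card N := fun hd => (Fact.out : p.Prime).coprime_iff_not_dvd.1 (Nat.Coprime.symm (CfsgLib.PLocal.coprime_card_pPrimeCore p G)) hd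
  let one : Cfsg.IrrCharacter (G ⧸ N) := ⟨fun _ => 1, CfsgLib.Characters.isIrr_one⟩
  have hP : IsPGroup p (G ⧸ N) := by
    obtain ⟨k, hk⟩ := hnc
    exact IsPGroup.of_card (n := k) (by rw [← hk]; rfl)
  ext χ
  constructor
  · intro h n hn
    exact CfsgLib.BlocksLocal.eq_degree_of_sameBlock hM N hNp
      (χ := CfsgLib.BlocksLocal.infl N one) (ψ := χ) h (fun _ _ => rfl) hn
  · intro h
    obtain ⟨φ, hφ, hval⟩ := CfsgLib.Characters.exists_irr_quotient N χ.2 h
    have h2 : CfsgLib.BlocksLocal.infl N ⟨φ, hφ⟩ = χ := Subtype.ext (funext hval).symm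
    show Cfsg.SameBlock M (CfsgLib.BlocksLocal.infl N one : G → ℂ) (χ : G → ℂ)
    rw [← h2]
    have := Fintype.ofFinite (G ⧸ N)
    refine CfsgLib.BlocksLocal.sameBlock_infl N ((CfsgLib.Blocks.sameBlock_iff _ _).2 ?_)
    refine CfsgLib.Blocks.omegaBar_ext (CfsgLib.Blocks.omegaBar_scalar _)
      (CfsgLib.Blocks.omegaBar_scalar _) fun C => ?_
    have hQ : IsPGroup p (⊤ : Subgroup (G ⧸ N)) := hP.to_subgroup ⊤
    rw [CfsgLib.BlockPairing.omegaBar_classSum_eq_card hM ⊤ hQ le_top C one,
      CfsgLib.BlockPairing.omegaBar_classSum_eq_card hM ⊤ hQ le_top C ⟨φ, hφ⟩]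

end Cfsg.Agent.S0939
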