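import Cfsg.Statements.S0940
import Cfsg.Agent.BlocksLocal.RegularForm
import Cfsg.Agent.BlocksLocal.PowerTrace
import Cfsg.Agent.PrincipalBlock.Basic

set_option autoImplicit false
open Cfsg CfsgLib.Blocks CfsgLib.BlocksLocal CfsgLib.PrincipalBlock

namespace Cfsg.Agent.S0940

/-- Let G be a finite group and M a maximal ideal of the algebraic integers containing the prime p. For every p-regular g, the idempotent coefficient of the principal block at g (the inverse of the group order times the sum over χ in the principal block of χ 1 * conj (χ g)) is congruent modulo the local ideal at M to N / R, where N is the number of pairs (x, y) with x of p-power order, y of order prime to p and x * y = g, and R is the number of elements of G of order prime to p. -/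
theorem result {G : Type*} [Group G] [Finite G] (p : ℕ) [Fact p.Prime] (M : Ideal Cfsg.AlgInt) (hM : Cfsg.IsPModular p M) (g : G) (hg : ¬ p ∣ orderOf g) : Cfsg.MemLocalIdeal M (Cfsg.blockCoeff (Cfsg.principalBlock M G) g - (Nat.card {xy : G × G // (∃ k : ℕ, orderOf xy.1 = p ^ k) ∧ ¬ p ∣ orderOf xy.2 ∧ xy.1 * xy.2 = g} : ℂ) / (Nat.card {y : G // ¬ p ∣ orderOf y} : ℂ)) := by
  classical
  haveI := Fintype.ofFinite G
  haveI : M.IsPrime := CfsgLib.Blocks.IsPModular.isPrime hM
  haveI := CfsgLib.Blocks.charP_res hM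
  have hp : p.Prime := Fact.out
  have hB := isPBlock_principalBlock (G := G) (M := M)
  have hBu := isBlockUnion_of_isPBlock hB
  set B := Cfsg.principalBlock M G with hBdef
  set e0 := idemBar M B hBu with he0
  set R := Nat.card {y : G // ¬ p ∣ orderOf y} with hR
  set Np := Nat.card {xy : G × G //
    (∃ k : ℕ, orderOf xy.1 = p ^ k) ∧ ¬ p ∣ orderOf xy.2 ∧ xy.1 * xy.2 = g} with hNp
  -- the sum of the p-regular elements, over the local ring and over the residue field
  let VO : Ctr (localRing M) G :=
    ⟨ofFun fun x => if p ∣ orderOf x then 0 else 1, mem_ctr_iff.2 fun c a => by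
      simp only [coeff_ofFun]
      rw [show a * c * a⁻¹ = MulAut.conj a c from rfl, MulEquiv.orderOf_eq]⟩
  set V := redCtr M VO with hV
  have hVc : ∀ x : G, (V : MonoidAlgebra (Res M) G).coeff x = if p ∣ orderOf x then 0 else 1 :=
    fun x => by simp [V, redCtr, VO, apply_ite (red M)]
  have hone : regPart p (fun _ : G => (1 : ℂ)) = fun x => if p ∣ orderOf x then 0 else 1 := rfl
  have hR' : (R : Res M) = ∑ x : G, (V : MonoidAlgebra (Res M) G).coeff x := by
    simp only [hVc, hR, Nat.card_eq_fintype_card, Fintype.card_subtype]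
    rw [Finset.sum_ite]
    simp
  -- the count of p-regular elements is prime to p
  have hRu : ¬ p ∣ R := by
    intro hd
    refine regForm_not_mem_of_height_zero hM hB trivChar_mem trivChar_mem (ψ := trivChar G) ?_ ?_
    · have : Cfsg.charDegree ((trivChar G : IrrCharacter G) : G → ℂ) = 1 := by
        simp [Cfsg.charDegree, trivChar]
      simp [Cfsg.blockHeight, this]
    · have e : regForm p ((trivChar G : IrrCharacter G) : G → ℂ)
          ((trivChar G : IrrCharacter G) : G → ℂ) = (R : ℂ) := by
        simp only [regForm, trivChar, regPart, mul_one, div_one, hR, Nat.card_eq_fintype_card,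
          Fintype.card_subtype]
        rw [Finset.sum_ite]
        simp
      rw [e]
      exact (memLocalIdeal_natCast_iff hM R).2 hd
  set w : Ctr (Res M) G := V - scalar (R : Res M) * e0 with hw
  have hwn : IsNilpotent w := by
    refine isNilpotent_of_omegaBar_eq_zero w fun χ => ?_
    rw [hw, map_sub, map_mul, omegaBar_scalar, omegaBar_idemBar]
    by_cases hχ : χ ∈ B
    · rw [if_pos hχ, mul_one, mem_principalBlock_iff.1 hχ, omegaBar_trivChar, hR', sub_self]
    · rw [if_neg hχ, mul_zero, sub_zero, hV, omegaBar_redCtr,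
        show omegaO M χ VO = 0 from Subtype.ext ?_, map_zero]
      have h0 : regForm p (χ : G → ℂ) ((trivChar G : IrrCharacter G) : G → ℂ) = 0 :=
        regForm_eq_zero hM fun h => hχ (sameBlock_symm h)
      rw [coe_omegaO, omega_apply, ZeroMemClass.coe_zero]
      refine Eq.trans ?_ h0
      simp only [regForm, trivChar, regPart, mul_one]
      refine congrArg (· / (χ : G → ℂ) 1) (Finset.sum_congr rfl fun x _ => ?_)
      by_cases hx : p ∣ orderOf x <;> simp [toC, VO, hx]
  obtain ⟨n, hn⟩ := hwn
  -- a large exponent fixing g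
  set m := ((Nat.card G).factorization p + n + 1) * (orderOf g).totient with hm
  have htot : 0 < (orderOf g).totient := Nat.totient_pos.2 (orderOf_pos g)
  have hm1 : (Nat.card G).factorization p ≤ m := by
    calc _ ≤ (Nat.card G).factorization p + n + 1 := by omega
      _ = ((Nat.card G).factorization p + n + 1) * 1 := (mul_one _).symm
      _ ≤ m := Nat.mul_le_mul_left _ htot
  have hnm : n ≤ p ^ m := by
    have : n ≤ m := by
      calc n ≤ ((Nat.card G).factorization p + n + 1) * 1 := by omega
        _ ≤ m := Nat.mul_le_mul_left _ htot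
    exact this.trans (Nat.lt_pow_self hp.one_lt).le
  have hgm : g ^ (p ^ m) = g := by
    have h1 : p ^ m ≡ 1 [MOD orderOf g] := by
      rw [hm, mul_comm, pow_mul]
      simpa using (Nat.ModEq.pow_totient (hp.coprime_iff_not_dvd.2 hg)).pow
        ((Nat.card G).factorization p + n + 1)
    rw [← pow_one g, ← pow_mul, one_mul, pow_one, ← pow_mod_orderOf, h1, pow_mod_orderOf, pow_one]
  set U := pElemSum (Res M) G p
  have hp0 : (p : Res M) = 0 := CharP.cast_eq_zero _ p
  have hcomm : ∀ z : Ctr (Res M) G, ∀ a, Commute (z : MonoidAlgebra (Res M) G) a := fun z a =>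
    (Subring.mem_center_iff.1 z.2 a).symm
  have hUw : ∀ x, (U * (w : MonoidAlgebra (Res M) G)).coeff x = 0 := fun x => by
    refine eq_zero_of_pow_eq_zero (n := p ^ m) ?_
    rw [pElemSum_mul_coeff_pow p hp0 _ (hcomm w) hm1, ← SubmonoidClass.coe_pow,
      show w ^ (p ^ m) = 0 from pow_eq_zero_of_le hnm hn]
    simp
  have hUe : (U * (e0 : MonoidAlgebra (Res M) G)).coeff g ^ (p ^ m) =
      (e0 : MonoidAlgebra (Res M) G).coeff g := by
    rw [pElemSum_mul_coeff_pow p hp0 _ (hcomm e0) hm1, ← SubmonoidClass.coe_pow, hgm]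
    have hi : IsIdempotentElem e0 := idemBar_mul_self B hBu
    obtain ⟨q, hq⟩ := Nat.exists_eq_succ_of_ne_zero (pow_ne_zero m hp.ne_zero)
    rw [hq, hi.pow_succ_eq q]
  have hUV : (U * (V : MonoidAlgebra (Res M) G)).coeff g = (Np : Res M) := by
    rw [MonoidAlgebra.coeff_mul_apply_left, Finsupp.sum_fintype _ _ (fun i => by simp)]
    simp only [U, pElemSum, MonoidAlgebra.coeff_ofCoeff,
      Finsupp.equivFunOnFinite_symm_apply_apply, Set.indicator_apply, Set.mem_ofPred_eq, hVc]
    rw [hNp, Nat.card_congr (β := {x : G // (∃ k : ℕ, orderOf x = p ^ k) ∧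
      ¬ p ∣ orderOf (x⁻¹ * g)})
      { toFun := fun q => ⟨q.1.1, q.2.1, by
          rw [show q.1.1⁻¹ * g = q.1.2 from inv_mul_eq_iff_eq_mul.2 q.2.2.2.symm]; exact q.2.2.1⟩
        invFun := fun x => ⟨(x.1, x.1⁻¹ * g), x.2.1, x.2.2, mul_inv_cancel_left _ _⟩
        left_inv := fun q => Subtype.ext (Prod.ext rfl (inv_mul_eq_iff_eq_mul.2 q.2.2.2.symm))
        right_inv := fun x => rfl }, Nat.card_eq_fintype_card, Fintype.card_subtype]
    rw [Finset.card_filter]
    push_cast
    refine Finset.sum_congr rfl fun x _ => ?_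
    by_cases h1 : ∃ k : ℕ, orderOf x = p ^ k <;>
      by_cases h2 : p ∣ orderOf (x⁻¹ * g) <;> simp [h1, h2]
  have hrel : (Np : Res M) = (R : Res M) * (U * (e0 : MonoidAlgebra (Res M) G)).coeff g := by
    have h := hUw g
    have hwe : (w : MonoidAlgebra (Res M) G) = (V : MonoidAlgebra (Res M) G) -
        (scalar (R : Res M) : Ctr (Res M) G) * (e0 : MonoidAlgebra (Res M) G) := rfl
    have hz : U * ((scalar (R : Res M) : Ctr (Res M) G) * (e0 : MonoidAlgebra (Res M) G)) =
        (scalar (R : Res M) : Ctr (Res M) G) * (U * (e0 : MonoidAlgebra (Res M) G)) := by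
      rw [← mul_assoc, ← mul_assoc, (hcomm (scalar (R : Res M)) U).eq]
    rw [hwe, mul_sub, hz, MonoidAlgebra.coeff_sub, Finsupp.sub_apply, hUV, coe_scalar,
      MonoidAlgebra.coeff_single_mul_apply, inv_one, one_mul, sub_eq_zero] at h
    exact h
  have hR0 : (R : Res M) ≠ 0 := fun h => hRu ((CharP.cast_eq_zero_iff (Res M) p R).1 h)
  have hval : (e0 : MonoidAlgebra (Res M) G).coeff g = (Np : Res M) / (R : Res M) := by
    have hUe' : (U * (e0 : MonoidAlgebra (Res M) G)).coeff g = (Np : Res M) / (R : Res M) := by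
      rw [hrel, mul_div_cancel_left₀ _ hR0]
    rw [hUe', ← iterateFrobenius_def, map_div₀, map_natCast, map_natCast] at hUe
    exact hUe.symm
  rw [he0, coeff_idemBar] at hval
  have hmem : Cfsg.MemLocalRing M ((Np : ℂ) / (R : ℂ)) := by
    rw [div_eq_mul_inv]
    exact Subring.mul_mem (localRing M) (memLocalRing_natCast _) (memLocalRing_natCast_inv hM hRu)
  refine (red_eq_red_iff (x := ⟨_, memLocalRing_blockCoeff hBu g⟩) (y := ⟨_, hmem⟩)).1 ?_
  rw [hval, eq_comm, eq_div_iff hR0]
  rw [← map_natCast (red M), ← map_natCast (red M), ← map_mul]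
  congr 1
  refine Subtype.ext ?_
  simp [div_mul_cancel₀ _ (Nat.cast_ne_zero.2 fun h : R = 0 => hRu (h ▸ dvd_zero p) : (R : ℂ) ≠ 0)]

end Cfsg.Agent.S0940
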