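import Cfsg.Statements.S0943

import Cfsg.Agent.Blocks.GroupAlgebra
import Cfsg.Agent.BlocksLocal.PowerTrace

set_option autoImplicit false
open Cfsg

namespace Cfsg.Agent.S0943

/-- Let χ be an irreducible character of the finite group G and u, v ∈ G. If χ (x * y) = χ (u * v) whenever x is conjugate to u and y is conjugate to v, then χ u * χ v = χ 1 * χ (u * v). (Multiply the class sums of u and v and apply the central character of χ.) -/
theorem result {G : Type*} [Group G] [Finite G] (χ : Cfsg.IrrCharacter G) (u v : G) (hc : ∀ x y : G, IsConj u x → IsConj v y → (χ : G → ℂ) (x * y) = (χ : G → ℂ) (u * v)) : (χ : G → ℂ) u * (χ : G → ℂ) v = (χ : G → ℂ) 1 * (χ : G → ℂ) (u * v) := by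
  classical
  have := Fintype.ofFinite G
  have hev : ∀ a, CfsgLib.Blocks.evalFun (χ : G → ℂ) a =
      CfsgLib.BlocksLocal.coeffSum (χ : G → ℂ) a := fun a => rfl
  set Ku := CfsgLib.Blocks.classSum ℂ (ConjClasses.mk u) with hKu
  set Kv := CfsgLib.Blocks.classSum ℂ (ConjClasses.mk v) with hKv
  have hprod : CfsgLib.BlocksLocal.coeffSum (χ : G → ℂ)
      ((Ku : MonoidAlgebra ℂ G) * (Kv : MonoidAlgebra ℂ G)) =
      (∑ x, (Ku : MonoidAlgebra ℂ G).coeff x) * (∑ y, (Kv : MonoidAlgebra ℂ G).coeff y) *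
        (χ : G → ℂ) (u * v) := by
    conv_lhs => rw [CfsgLib.BlocksLocal.eq_sum_single (Ku : MonoidAlgebra ℂ G),
      CfsgLib.BlocksLocal.eq_sum_single (Kv : MonoidAlgebra ℂ G)]
    rw [Finset.sum_mul_sum, Finset.sum_mul_sum]
    simp only [Finset.sum_mul, map_sum, MonoidAlgebra.single_mul_single,
      CfsgLib.BlocksLocal.coeffSum_single]
    refine Finset.sum_congr rfl fun x _ => Finset.sum_congr rfl fun y _ => ?_
    rw [hKu, hKv, CfsgLib.Blocks.coeff_classSum, CfsgLib.Blocks.coeff_classSum]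
    split_ifs with hx hy <;> simp
    exact hc x y (ConjClasses.mk_eq_mk_iff_isConj.1 hx).symm
      (ConjClasses.mk_eq_mk_iff_isConj.1 hy).symm
  have hsum : ∀ g : G, (∑ x, (CfsgLib.Blocks.classSum ℂ (ConjClasses.mk g) :
      MonoidAlgebra ℂ G).coeff x) = ((Subgroup.centralizer ({g} : Set G)).index : ℂ) := by
    intro g
    simp only [CfsgLib.Blocks.coeff_classSum]
    rw [← CfsgLib.Blocks.natCard_class g, Nat.card_eq_fintype_card,
      Fintype.card_subtype, Finset.card_filter, Nat.cast_sum]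
    refine Finset.sum_congr rfl fun x _ => ?_
    split_ifs <;> simp
  rw [hsum, hsum] at hprod
  have h := map_mul (CfsgLib.Blocks.omega χ) Ku Kv
  rw [hKu, hKv, CfsgLib.Blocks.omega_classSum, CfsgLib.Blocks.omega_classSum,
    ← hKu, ← hKv] at h
  have hl : CfsgLib.Blocks.omega χ (Ku * Kv) =
      ((Subgroup.centralizer ({u} : Set G)).index : ℂ) *
        ((Subgroup.centralizer ({v} : Set G)).index : ℂ) * (χ : G → ℂ) (u * v) /
          (χ : G → ℂ) 1 := by
    rw [← hprod]; rfl
  rw [hl, Cfsg.centralChar, Cfsg.centralChar] at h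
  have h1 := CfsgLib.Characters.irr_one_ne_zero χ.2
  have hu0 : ((Subgroup.centralizer ({u} : Set G)).index : ℂ) ≠ 0 :=
    Nat.cast_ne_zero.2 Subgroup.index_ne_zero_of_finite
  have hv0 : ((Subgroup.centralizer ({v} : Set G)).index : ℂ) ≠ 0 :=
    Nat.cast_ne_zero.2 Subgroup.index_ne_zero_of_finite
  field_simp at h
  linear_combination -h

end Cfsg.Agent.S0943
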