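import Cfsg.Statements.S0946

import Cfsg.Agent.BlocksLocal.Homocyclic

set_option autoImplicit false
open Cfsg

namespace Cfsg.Agent.S0946

/-- Let P be a Sylow 2-subgroup of the finite group G isomorphic to Z/2^m × Z/2^m with m ≥ 1. Then either P has a normal complement in G, or all involutions of G are conjugate. -/
theorem result {G : Type*} [Group G] [Finite G] (P : Sylow 2 G) (m : ℕ) (hm : 1 ≤ m) (e : (P : Subgroup G) ≃* Multiplicative (ZMod (2 ^ m) × ZMod (2 ^ m))) : (∃ N : Subgroup G, N.Normal ∧ Subgroup.IsComplement' N (P : Subgroup G)) ∨ ∀ s t : G, orderOf s = 2 → orderOf t = 2 → IsConj s t := by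
  have : Fact (Nat.Prime 2) := ⟨Nat.prime_two⟩
  rcases CfsgLib.BlocksLocal.inertial_dichotomy P e with h | ⟨h, hn⟩
  · have hP := Subgroup.relIndex_eq_one.1 h
    exact Or.inl ⟨(MonoidHom.transferSylow P hP).ker, inferInstance,
      MonoidHom.ker_transferSylow_isComplement' P hP⟩
  refine Or.inr fun s t hs ht => ?_
  obtain ⟨n, hnN, hnC⟩ : ∃ n ∈ Subgroup.normalizer ((P : Subgroup G) : Set G),
      n ∉ Subgroup.centralizer ((P : Subgroup G) : Set G) := by
    by_contra hcon
    push Not at hcon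
    rw [Subgroup.relIndex_eq_one.2 hcon] at h
    exact absurd h (by norm_num)
  have key : ∀ u : G, orderOf u = 2 → ∃ v ∈ (P : Subgroup G), orderOf v = 2 ∧ IsConj u v := by
    intro u hu
    have hp : IsPGroup 2 (Subgroup.zpowers u) :=
      IsPGroup.of_card (n := 1) (by rw [Nat.card_zpowers, hu, pow_one])
    obtain ⟨Q, hQ⟩ := hp.exists_le_sylow
    obtain ⟨g, hg⟩ := MulAction.exists_smul_eq G Q P
    refine ⟨g * u * g⁻¹, ?_, ?_, isConj_iff.2 ⟨g, rfl⟩⟩
    · rw [← hg, Sylow.coe_subgroup_smul]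
      exact Subgroup.smul_mem_pointwise_smul u (MulAut.conj g) _ (hQ (Subgroup.mem_zpowers u))
    · rw [show g * u * g⁻¹ = MulAut.conj g u from rfl, MulEquiv.orderOf_eq, hu]
  obtain ⟨a, haP, ha2, hsa⟩ := key s hs
  obtain ⟨b, hbP, hb2, htb⟩ := key t ht
  exact hsa.trans (((hn n hnN hnC).2 a b haP ha2 hbP hb2).trans htb.symm)

end Cfsg.Agent.S0946
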