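import Cfsg.Statements.S0947
import Cfsg.Agent.BlocksLocal.PrincipalSection
import Cfsg.Agent.PLocal.Cores

set_option autoImplicit false
open Cfsg CfsgLib.Blocks CfsgLib.BlocksLocal CfsgLib.PrincipalBlock

namespace Cfsg.Agent.S0947

/-- Let z ≠ 1 be a p-element of the finite group G with centralizer H, and fix a maximal ideal M of the algebraic integers containing p. (i) For every y ∈ H of order prime to p, the sum over ζ in the principal block of G of |ζ (z * y)|² equals the sum over χ in the principal block of H of |χ y|². (ii) If moreover H has a normal p-complement (its largest normal subgroup of order prime to p has p-power index), that common value is the largest power of p dividing the order of H. -/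
theorem result {G : Type*} [Group G] [Finite G] (p : ℕ) [Fact p.Prime] (M : Ideal Cfsg.AlgInt) (hM : Cfsg.IsPModular p M) (z : G) (hz : ∃ k : ℕ, orderOf z = p ^ k) (hz1 : z ≠ 1) (y : Subgroup.centralizer ({z} : Set G)) (hy : ¬ p ∣ orderOf y) : (∑ᶠ ζ ∈ Cfsg.principalBlock M G, ‖(ζ : G → ℂ) (z * (y : G))‖ ^ 2 = ∑ᶠ χ ∈ Cfsg.principalBlock M (Subgroup.centralizer ({z} : Set G)), ‖(χ : Subgroup.centralizer ({z} : Set G) → ℂ) y‖ ^ 2) ∧ ((∃ k : ℕ, (Cfsg.pPrimeCore p (Subgroup.centralizer ({z} : Set G))).index = p ^ k) → ∑ᶠ ζ ∈ Cfsg.principalBlock M G, ‖(ζ : G → ℂ) (z * (y : G))‖ ^ 2 = ((p ^ (Nat.card (Subgroup.centralizer ({z} : Set G))).factorization p : ℕ) : ℝ)) := by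
  classical
  haveI := Fintype.ofFinite G
  haveI : M.IsPrime := CfsgLib.Blocks.IsPModular.isPrime hM
  haveI := Fintype.ofFinite (Subgroup.centralizer ({z} : Set G))
  have key := sum_principal_section_mul_conj hM hz hy hy
  have habs : ∀ w : ℂ, w * (starRingEnd ℂ) w = ((‖w‖ ^ 2 : ℝ) : ℂ) := fun w => by
    rw [Complex.mul_conj, Complex.normSq_eq_norm_sq]
  simp only [habs] at key
  have first : ∑ᶠ ζ ∈ Cfsg.principalBlock M G, ‖(ζ : G → ℂ) (z * (y : G))‖ ^ 2 =
      ∑ᶠ χ ∈ Cfsg.principalBlock M (Subgroup.centralizer ({z} : Set G)),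
        ‖(χ : Subgroup.centralizer ({z} : Set G) → ℂ) y‖ ^ 2 := by
    refine Complex.ofReal_injective ?_
    rw [finsum_irr_mem, finsum_irr_mem, Complex.ofReal_sum, Complex.ofReal_sum]
    simp only [apply_ite ((↑) : ℝ → ℂ), Complex.ofReal_zero]
    exact key
  refine ⟨first, fun hc => ?_⟩
  obtain ⟨k, hk⟩ := hc
  set K := Cfsg.pPrimeCore p (Subgroup.centralizer ({z} : Set G)) with hKdef
  have hK : ¬ p ∣ Nat.card K :=
    CfsgLib.PLocal.not_dvd_iff_coprime.1 (CfsgLib.PLocal.coprime_card_pPrimeCore p _)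
  have hfact : (Nat.card (Subgroup.centralizer ({z} : Set G))).factorization p = k := by
    rw [← Subgroup.card_mul_index K, hk, Nat.factorization_mul Nat.card_pos.ne'
      (pow_ne_zero _ (Fact.out : p.Prime).ne_zero), Finsupp.add_apply,
      Nat.factorization_eq_zero_of_not_dvd hK, (Fact.out : p.Prime).factorization_pow,
      Finsupp.single_eq_same, zero_add]
  have hyK : y ∈ K := by
    rw [← QuotientGroup.eq_one_iff, ← orderOf_eq_one_iff]
    refine Nat.Coprime.eq_one_of_dvd (?_ : (orderOf (y : _ ⧸ K)).Coprime K.index) ?_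
    · rw [hk]
      refine Nat.Coprime.pow_right _ (Nat.Coprime.symm ?_)
      rw [(Fact.out : p.Prime).coprime_iff_not_dvd]
      exact fun hd => hy (hd.trans (orderOf_map_dvd (QuotientGroup.mk' K) y))
    · rw [Subgroup.index_eq_card]
      exact orderOf_dvd_natCard _
  rw [first, hfact]
  refine Complex.ofReal_injective ?_
  have h1 := blockCoeff_principal_of_normal_complement (G := Subgroup.centralizer ({z} : Set G))
    (M := M) hM K hK ⟨k, hk⟩ 1
  rw [blockCoeff_eq_sum, ← mul_assoc, mul_inv_cancel₀ CfsgLib.Characters.natCard_ne_zero, one_mul,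
    Set.indicator_of_mem (SetLike.mem_coe.2 K.one_mem), mul_one, hk] at h1
  rw [finsum_irr_mem, Complex.ofReal_sum]
  simp only [apply_ite ((↑) : ℝ → ℂ), Complex.ofReal_zero, ← habs, Complex.ofReal_natCast]
  refine Eq.trans (Finset.sum_congr rfl fun χ _ => ?_) h1
  by_cases hχ : χ ∈ Cfsg.principalBlock M (Subgroup.centralizer ({z} : Set G))
  · rw [if_pos hχ, if_pos hχ, mem_charKer.1 (le_charKer_of_mem hM K hK hχ hyK)]
  · rw [if_neg hχ, if_neg hχ]

end Cfsg.Agent.S0947
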