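import Cfsg.Statements.S0950

import Cfsg.Agent.BlocksLocal.Homocyclic
import Cfsg.Agent.Transfer.Frobenius

set_option autoImplicit false
open Cfsg

namespace Cfsg.Agent.S0950

/-- In the quaternion group of order 8 there are at most three subgroups of order 4. -/
theorem card_subgroups_four :
    ((Finset.univ : Finset (QuaternionGroup 2)).powerset.filter
      (fun s => s.card = 4 ∧ ∀ a ∈ s, ∀ b ∈ s, a * b ∈ s)).card = 3 := by
  decide +kernel

/-- The quaternion group of order 8 has a unique involution, which is central. -/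
theorem involution_central :
    ∀ a : QuaternionGroup 2, a * a = 1 → ∀ b, b * a = a * b := by
  decide +kernel

/-- Every element of the quaternion group of order 8 lies in a cyclic subgroup of order 4. -/
theorem exists_four :
    ∀ a : QuaternionGroup 2, ∃ b : QuaternionGroup 2, b ^ 4 = 1 ∧ b ^ 2 ≠ 1 ∧
      (a = 1 ∨ a = b ∨ a = b ^ 2 ∨ a = b ^ 3) := by
  decide +kernel


/-- Let S be a Sylow 2-subgroup of the finite group G that is isomorphic to the quaternion group of order 8, and suppose S has no normal complement in G. Then any two subgroups of order 4 of S are conjugate by an element of the normalizer of S. -/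
theorem result {G : Type*} [Group G] [Finite G] (S : Sylow 2 G) (e : (S : Subgroup G) ≃* QuaternionGroup 2) (hnc : ∀ N : Subgroup G, N.Normal → ¬ Subgroup.IsComplement' N (S : Subgroup G)) (A B : Subgroup G) (hA : A ≤ S) (hB : B ≤ S) (hA4 : Nat.card A = 4) (hB4 : Nat.card B = 4) : ∃ n ∈ Subgroup.normalizer ((S : Subgroup G) : Set G), B = A.map (MulAut.conj n).toMonoidHom := by
  classical
  have : Fact (Nat.Prime 2) := ⟨Nat.prime_two⟩
  have hcardS : Nat.card (S : Subgroup G) = 8 := by
    rw [Nat.card_congr e.toEquiv, Nat.card_eq_fintype_card, QuaternionGroup.card]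
  have hinv : ∀ t ∈ (S : Subgroup G), t * t = 1 → ∀ x ∈ (S : Subgroup G), x * t = t * x := by
    intro t ht ht2 x hx
    have h2 : e ⟨t, ht⟩ * e ⟨t, ht⟩ = 1 := by
      rw [← map_mul, show (⟨t, ht⟩ : (S : Subgroup G)) * ⟨t, ht⟩ = 1 from Subtype.ext ht2, map_one]
    have h := involution_central _ h2 (e ⟨x, hx⟩)
    rw [← map_mul, ← map_mul] at h
    exact congrArg Subtype.val (e.injective h)
  have huniq : ∀ t ∈ (S : Subgroup G), t * t = 1 → ∀ u ∈ (S : Subgroup G), u * u = 1 →
      t = 1 ∨ u = 1 ∨ t = u := by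
    intro t ht ht2 u hu hu2
    have hall : ∀ a b : QuaternionGroup 2, a * a = 1 → b * b = 1 → a = 1 ∨ b = 1 ∨ a = b := by
      decide +kernel
    have h2 : ∀ (t : G) (ht : t ∈ (S : Subgroup G)), t * t = 1 → e ⟨t, ht⟩ * e ⟨t, ht⟩ = 1 :=
      fun t ht ht2 => by
        rw [← map_mul, show (⟨t, ht⟩ : (S : Subgroup G)) * ⟨t, ht⟩ = 1 from Subtype.ext ht2,
          map_one]
    rcases hall _ _ (h2 t ht ht2) (h2 u hu hu2) with h | h | h
    · exact Or.inl (congrArg Subtype.val (e.injective (h.trans (map_one e).symm)))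
    · exact Or.inr (Or.inl (congrArg Subtype.val (e.injective (h.trans (map_one e).symm))))
    · exact Or.inr (Or.inr (congrArg Subtype.val (e.injective h)))
  -- an element of odd order normalising an abelian subgroup of S centralises it
  have hfixab : ∀ Q : Subgroup G, Q ≤ (S : Subgroup G) → (∀ a ∈ Q, ∀ b ∈ Q, a * b = b * a) →
      ∀ g ∈ Subgroup.normalizer (Q : Set G), Odd (orderOf g) →
        g ∈ Subgroup.centralizer (Q : Set G) := by
    intro Q hQ hab g hg hodd
    refine CfsgLib.BlocksLocal.mem_centralizer_of_fix_involutions (S.isPGroup'.to_le hQ) hab hg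
      hodd (by rw [pow_orderOf_eq_one]; exact one_mem _) fun t ht ht2 => ?_
    have hgt : g * t * g⁻¹ ∈ Q := (Subgroup.mem_normalizer_iff.1 hg t).1 ht
    rcases huniq (g * t * g⁻¹) (hQ hgt)
        (by show MulAut.conj g t * MulAut.conj g t = 1; rw [← map_mul, ht2, map_one])
        t (hQ ht) ht2 with h | h | h
    · rw [conj_eq_one_iff] at h; simp [h]
    · simp [h]
    · exact h
  obtain ⟨n, hn, hodd, hnC⟩ : ∃ n ∈ Subgroup.normalizer ((S : Subgroup G) : Set G),
      Odd (orderOf n) ∧ n ∉ Subgroup.centralizer ((S : Subgroup G) : Set G) := by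
    by_contra hcon
    suffices hloc : ∀ Q : Subgroup G, Q ≤ (S : Subgroup G) →
        ∀ g ∈ Subgroup.normalizer (Q : Set G), Nat.Coprime (orderOf g) 2 →
          g ∈ Subgroup.centralizer (Q : Set G) by
      obtain ⟨N, hN, hNc⟩ := CfsgLib.Transfer.exists_isComplement'
        (CfsgLib.Transfer.hasNormalPComplement_of_local S hloc) S
      exact hnc N hN hNc
    intro Q hQ g hg hgp
    have hodd : Odd (orderOf g) := Nat.Coprime.odd_of_right hgp
    by_cases hQS : Q = (S : Subgroup G)
    · subst hQS
      by_contra hgC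
      exact hcon ⟨g, hg, hodd, hgC⟩
    refine hfixab Q hQ ?_ g hg hodd
    have hd : Nat.card Q ∣ 2 ^ 3 := by
      rw [show (2 : ℕ) ^ 3 = 8 from rfl, ← hcardS]; exact Subgroup.card_dvd_of_le hQ
    obtain ⟨j, hj3, hj⟩ := (Nat.dvd_prime_pow Nat.prime_two).1 hd
    have hj2 : j ≤ 2 := by
      by_contra hlt
      exact hQS (Subgroup.eq_of_le_of_card_ge hQ
        (by rw [hcardS, hj, show j = 3 by omega]; norm_num))
    intro a ha b hb
    interval_cases j
    · have : Subsingleton Q := (Nat.card_eq_one_iff_unique.1 hj).1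
      rw [show a = b from congrArg Subtype.val (Subsingleton.elim (⟨a, ha⟩ : Q) ⟨b, hb⟩)]
    · have : IsCyclic Q := isCyclic_of_prime_card (p := 2) (by rw [hj]; rfl)
      let _ : CommGroup Q := IsCyclic.commGroup
      exact congrArg Subtype.val (mul_comm (⟨a, ha⟩ : Q) ⟨b, hb⟩)
    · have := IsPGroup.isMulCommutative_of_card_eq_prime_sq (p := 2) hj
      exact congrArg Subtype.val (mul_comm' (⟨a, ha⟩ : Q) ⟨b, hb⟩)
  -- n fixes no subgroup of order four
  let Ω := {X : Subgroup G // X ≤ (S : Subgroup G) ∧ Nat.card X = 4}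
  have hΩ : Nat.card Ω ≤ 3 := by
    let f : Ω → ((Finset.univ : Finset (QuaternionGroup 2)).powerset.filter
        (fun s => s.card = 4 ∧ ∀ a ∈ s, ∀ b ∈ s, a * b ∈ s)) := fun X =>
      ⟨Finset.univ.filter (fun q => ((e.symm q : (S : Subgroup G)) : G) ∈ X.1), by
        rw [Finset.mem_filter]
        refine ⟨Finset.mem_powerset.2 (Finset.subset_univ _), ?_, fun a ha b hb => ?_⟩
        · refine Eq.trans ?_ X.2.2
          rw [← Fintype.card_subtype, ← Nat.card_eq_fintype_card]
          exact Nat.card_congr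
            { toFun := fun q => ⟨_, q.2⟩
              invFun := fun x => ⟨e ⟨x.1, X.2.1 x.2⟩, by simp⟩
              left_inv := fun q => Subtype.ext (by simp)
              right_inv := fun x => Subtype.ext (by simp) }
        · simp only [Finset.mem_filter, Finset.mem_univ, true_and] at ha hb ⊢
          rw [map_mul]
          exact X.1.mul_mem ha hb⟩
    have hf : Function.Injective f := fun X Y hXY => by
      refine Subtype.ext ?_
      ext g
      have h := congrArg Subtype.val hXY
      constructor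
      · intro hg
        have hmem : e ⟨g, X.2.1 hg⟩ ∈ (f X).1 := by simp [f, hg]
        rw [h] at hmem
        simpa [f] using hmem
      · intro hg
        have hmem : e ⟨g, Y.2.1 hg⟩ ∈ (f Y).1 := by simp [f, hg]
        rw [← h] at hmem
        simpa [f] using hmem
    refine (Nat.card_le_card_of_injective f hf).trans ?_
    rw [Nat.card_eq_fintype_card, Fintype.card_coe, card_subgroups_four]
  have hcomm4 : ∀ X : Ω, ∀ a ∈ X.1, ∀ b ∈ X.1, a * b = b * a := fun X a ha b hb => by
    have := IsPGroup.isMulCommutative_of_card_eq_prime_sq (p := 2) (G := X.1)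
      (by rw [X.2.2]; rfl)
    exact congrArg Subtype.val (mul_comm' (⟨a, ha⟩ : X.1) ⟨b, hb⟩)
  let σ : Ω → Ω := fun X => ⟨X.1.map (MulAut.conj n).toMonoidHom, by
      rintro _ ⟨x, hx, rfl⟩
      exact (Subgroup.mem_normalizer_iff.1 hn x).1 (X.2.1 hx),
    by rw [Subgroup.card_map_of_injective (MulAut.conj n).injective, X.2.2]⟩
  have hfixC : ∀ X : Ω, σ X = X → ∀ x ∈ X.1, x * n = n * x := by
    intro X hX x hx
    have hnX : n ∈ Subgroup.normalizer (X.1 : Set G) := by
      rw [Subgroup.mem_normalizer_iff]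
      intro y
      have hX' : X.1.map (MulAut.conj n).toMonoidHom = X.1 := congrArg Subtype.val hX
      conv_rhs => rw [← hX']
      simp [Subgroup.mem_map]
    exact Subgroup.mem_centralizer_iff.1 (hfixab X.1 X.2.1 (hcomm4 X) n hnX hodd) x hx
  have hiter : ∀ (i : ℕ) (X : Ω), (σ^[i] X).1 = X.1.map (MulAut.conj (n ^ i)).toMonoidHom := by
    intro i
    induction i with
    | zero =>
      intro X
      ext x
      simp [Subgroup.mem_map]
    | succ i ih =>
      intro X
      rw [Function.iterate_succ_apply']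
      show (σ^[i] X).1.map _ = _
      rw [ih, Subgroup.map_map]
      congr 1
      ext x
      simp [pow_succ', mul_assoc]
  have hσinj : Function.Injective σ := fun X Y h => Subtype.ext
    (Subgroup.map_injective (MulAut.conj n).injective (congrArg Subtype.val h))
  have hper : ∀ X, σ^[orderOf n] X = X := fun X => Subtype.ext (by
    rw [hiter, pow_orderOf_eq_one]; ext x; simp [Subgroup.mem_map])
  have h2fix : ∀ X, σ (σ X) = X → σ X = X := by
    intro X hX
    obtain ⟨l, hl⟩ := hodd
    have h := hper X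
    rw [hl, Function.iterate_add_apply, Function.iterate_one, Function.iterate_mul,
      Function.iterate_fixed (show σ^[2] (σ X) = σ X from congrArg σ hX)] at h
    exact h
  obtain ⟨X, hX⟩ : ∃ X : Ω, σ X ≠ X := by
    by_contra hcon
    push Not at hcon
    apply hnC
    rw [Subgroup.mem_centralizer_iff]
    intro x hx
    obtain ⟨b, hb4, hb2, hxb⟩ := exists_four (e ⟨x, hx⟩)
    set y : (S : Subgroup G) := e.symm b
    have hy : orderOf y = 4 := by
      rw [show y = e.symm b from rfl, MulEquiv.orderOf_eq]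
      exact orderOf_eq_prime_pow (p := 2) (n := 1) (by rwa [pow_one]) (by rwa [show (2:ℕ) ^ (1+1) = 4 from rfl])
    let Y : Ω := ⟨Subgroup.zpowers (y : G), Subgroup.zpowers_le.2 y.2, by
      rw [Nat.card_zpowers, Subgroup.orderOf_coe, hy]⟩
    have hyn := hfixC Y (hcon Y) (y : G) (Subgroup.mem_zpowers _)
    have hxy : x = 1 ∨ ∃ i : ℕ, x = (y : G) ^ i := by
      rcases hxb with h | h | h | h
      · exact Or.inl (congrArg Subtype.val (e.injective (h.trans (map_one e).symm)))
      · exact Or.inr ⟨1, by rw [pow_one]; simp [y, ← h]⟩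
      · exact Or.inr ⟨2, by rw [← Subgroup.coe_pow, ← map_pow, ← h]; simp⟩
      · exact Or.inr ⟨3, by rw [← Subgroup.coe_pow, ← map_pow, ← h]; simp⟩
    rcases hxy with rfl | ⟨i, rfl⟩
    · simp
    · exact (show Commute (y : G) n from hyn).pow_left i
  have hX2 : σ (σ X) ≠ X := fun h => hX (h2fix X h)
  have hall : ∀ Y : Ω, Y = X ∨ Y = σ X ∨ Y = σ (σ X) := by
    intro Y
    by_contra h
    push Not at h
    obtain ⟨hx1, hx2, hx3⟩ := h
    have : Fintype Ω := Fintype.ofFinite Ω
    have hs : ({Y, X, σ X, σ (σ X)} : Finset Ω).card = 4 := by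
      rw [Finset.card_insert_of_notMem (by simp [hx1, hx2, hx3]),
        Finset.card_insert_of_notMem (by simp [Ne.symm hX, Ne.symm hX2]),
        Finset.card_insert_of_notMem (by simpa using fun h => hX (hσinj h).symm),
        Finset.card_singleton]
    have hle := Finset.card_le_univ ({Y, X, σ X, σ (σ X)} : Finset Ω)
    rw [hs, ← Nat.card_eq_fintype_card] at hle
    omega
  have hreach : ∀ Y : Ω, ∃ i : ℕ, σ^[i] X = Y := fun Y => by
    rcases hall Y with h | h | h
    · exact ⟨0, h.symm⟩
    · exact ⟨1, h.symm⟩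
    · exact ⟨2, h.symm⟩
  obtain ⟨i, hi⟩ := hreach ⟨A, hA, hA4⟩
  obtain ⟨j, hj⟩ := hreach ⟨B, hB, hB4⟩
  refine ⟨n ^ j * (n ^ i)⁻¹, mul_mem (pow_mem hn j) (inv_mem (pow_mem hn i)), ?_⟩
  have hi' := congrArg Subtype.val hi
  have hj' := congrArg Subtype.val hj
  rw [hiter] at hi' hj'
  simp only at hi' hj'
  rw [← hi', ← hj', Subgroup.map_map]
  congr 1
  ext x
  simp [mul_assoc]

end Cfsg.Agent.S0950
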