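import Cfsg.Statements.S0962
import Cfsg.Agent.Blocks.Height
import Cfsg.Agent.Blocks.InducedDefect

set_option autoImplicit false
open Cfsg CfsgLib.Blocks
open CfsgLib.BlockPairs (cj mem_cj cj_mono card_cj isPGroup_cj cj_cj)

namespace Cfsg.Agent.S0962

/-- Fix a maximal ideal M of the algebraic integers containing the prime p and a natural number d. The number of blocks of the finite group G of defect at least d is at most the number of conjugacy classes of p-regular elements of G of defect at least d, where the defect of a class is the exponent of p in the order of the centralizer of any of its elements. -/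
theorem result {G : Type*} [Group G] [Finite G] (p : ℕ) [Fact p.Prime] (M : Ideal Cfsg.AlgInt) (hM : Cfsg.IsPModular p M) (d : ℕ) : Nat.card {B : Set (Cfsg.IrrCharacter G) // Cfsg.IsPBlock M B ∧ d ≤ Cfsg.blockDefect p B} ≤ Nat.card {C : ConjClasses G // ∃ g : G, ConjClasses.mk g = C ∧ Cfsg.IsPRegular p g ∧ d ≤ (Nat.card (Subgroup.centralizer ({g} : Set G))).factorization p} := by
  classical
  haveI := Fintype.ofFinite G
  haveI : M.IsPrime := IsPModular.isPrime hM
  haveI := Fintype.ofFinite (ConjClasses G)
  set T := {B : Set (Cfsg.IrrCharacter G) // Cfsg.IsPBlock M B ∧ d ≤ Cfsg.blockDefect p B}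
  set S := {C : ConjClasses G // ∃ g : G, ConjClasses.mk g = C ∧ Cfsg.IsPRegular p g ∧
    d ≤ (Nat.card (Subgroup.centralizer ({g} : Set G))).factorization p}
  haveI : Fintype T := Fintype.ofFinite _
  haveI : Fintype S := Fintype.ofFinite _
  let v : T → S → Res M := fun B C =>
    classCoeff (idemBar M B.1 (isBlockUnion_of_isPBlock B.2.1)) C.1
  have hv : LinearIndependent (Res M) v := by
    rw [Fintype.linearIndependent_iff]
    intro c hc B
    obtain ⟨χ, hχ⟩ := isPBlock_nonempty B.2.1
    set a : Ctr (Res M) G :=
      ∑ B' : T, scalar (c B') * idemBar M B'.1 (isBlockUnion_of_isPBlock B'.2.1) with ha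
    have h1 : omegaBar M χ a = c B := by
      rw [ha, map_sum, Finset.sum_eq_single B]
      · rw [map_mul, omegaBar_scalar, omegaBar_idemBar, if_pos hχ, mul_one]
      · intro B' _ hne
        rw [map_mul, omegaBar_idemBar, if_neg, mul_zero]
        intro h
        exact hne (Subtype.ext (isPBlock_eq_of_mem B'.2.1 B.2.1 h hχ))
      · simp
    have hcoef : ∀ g : G, (a : MonoidAlgebra (Res M) G).coeff g =
        ∑ B' : T, c B' *
          (idemBar M B'.1 (isBlockUnion_of_isPBlock B'.2.1) : MonoidAlgebra (Res M) G).coeff g := by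
      intro g
      simp [ha, MonoidAlgebra.coeff_sum, Finsupp.finsetSum_apply]
    rw [← h1, eq_sum_classSum a, map_sum]
    refine Finset.sum_eq_zero fun C _ => ?_
    obtain ⟨g, rfl⟩ := ConjClasses.mk_surjective C
    rw [map_mul, omegaBar_scalar, classCoeff_mk]
    by_contra hne
    rw [← ne_eq, mul_ne_zero_iff] at hne
    refine hne.1 ?_
    by_cases hg : p ∣ orderOf g
    · rw [hcoef]
      refine Finset.sum_eq_zero fun B' _ => ?_
      rw [coeff_idemBar, mul_eq_zero]
      right
      refine red_eq_zero_iff.2 ?_
      show Cfsg.MemLocalIdeal M (Cfsg.blockCoeff B'.1 g)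
      rw [blockCoeff_eq_zero_of_singular hM (isBlockUnion_of_isPBlock B'.2.1) hg]
      exact memLocalIdeal_zero
    · have hC : d ≤ (Nat.card (Subgroup.centralizer ({g} : Set G))).factorization p := by
        obtain ⟨D, hD⟩ := exists_isDefectGroup (p := p) B.2.1
        obtain ⟨S', hS', -⟩ := exists_isSylowIn_ge (p := p)
          (K := Subgroup.centralizer ({g} : Set G)) IsPGroup.of_bot bot_le
        obtain ⟨x, hx⟩ := IsDefectGroup.exists_conj_le hM B.2.1 hD hχ hne.2 hS'
        have h2 := B.2.2
        rw [blockDefect_eq hM B.2.1 hD, ← card_cj x] at h2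
        refine h2.trans (((Nat.factorization_le_iff_dvd Nat.card_pos.ne' Nat.card_pos.ne').2
          (Subgroup.card_dvd_of_le (hx.trans hS'.1))) p)
      have h3 := congrFun hc ⟨ConjClasses.mk g, g, rfl, hg, hC⟩
      simpa [v, classCoeff_mk, hcoef] using h3
  have h := hv.fintype_card_le_finrank
  rw [Module.finrank_fintype_fun_eq_card] at h
  rwa [Nat.card_eq_fintype_card, Nat.card_eq_fintype_card]

end Cfsg.Agent.S0962
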