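import Cfsg.Statements.S0953
import Cfsg.Agent.BlocksLocal.NormalSylowBlocks
import Cfsg.Agent.Blocks.FirstMain
import Cfsg.Agent.S0962

set_option autoImplicit false
open Cfsg CfsgLib.Blocks CfsgLib.BlocksLocal

namespace Cfsg.Agent.S0953

/-- Let P be a Sylow p-subgroup of the finite group G with normalizer N, and fix a maximal ideal M of the algebraic integers containing p. The number of blocks of G having P as a defect group equals the number of conjugacy classes of N consisting of elements of order prime to p that centralize P. -/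
theorem result {G : Type*} [Group G] [Finite G] (p : ℕ) [Fact p.Prime] (M : Ideal Cfsg.AlgInt) (hM : Cfsg.IsPModular p M) (P : Sylow p G) : Nat.card {B : Set (Cfsg.IrrCharacter G) // Cfsg.IsPBlock M B ∧ Cfsg.IsDefectGroup p M B (P : Subgroup G)} = Nat.card {C : ConjClasses (Subgroup.normalizer ((P : Subgroup G) : Set G)) // ∀ n : Subgroup.normalizer ((P : Subgroup G) : Set G), ConjClasses.mk n = C → ¬ p ∣ orderOf n ∧ (n : G) ∈ Subgroup.centralizer ((P : Subgroup G) : Set G)} := by
  classical
  haveI := Fintype.ofFinite G
  haveI : M.IsPrime := CfsgLib.Blocks.IsPModular.isPrime hM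
  haveI := Fintype.ofFinite (Subgroup.normalizer ((P : Subgroup G) : Set G))
  have hPp : IsPGroup p (P : Subgroup G) := P.2
  let P' : Sylow p (Subgroup.normalizer ((P : Subgroup G) : Set G)) := P.subtype Subgroup.le_normalizer
  have hP' : (P' : Subgroup (Subgroup.normalizer ((P : Subgroup G) : Set G))) =
      (P : Subgroup G).subgroupOf (Subgroup.normalizer ((P : Subgroup G) : Set G)) :=
    Sylow.coe_subtype P Subgroup.le_normalizer
  haveI hPn : (P' : Subgroup (Subgroup.normalizer ((P : Subgroup G) : Set G))).Normal := by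
    rw [hP']; exact subgroupOf_normal _
  have hloc : ∀ b : Set (IrrCharacter (Subgroup.normalizer ((P : Subgroup G) : Set G))),
      Cfsg.IsPBlock M b → Cfsg.IsDefectGroup p M b (P' : Subgroup _) := by
    intro b hb
    obtain ⟨R, hR⟩ := exists_isDefectGroup (p := p) hb
    have hle := IsDefectGroup.le_of_normal hM hb hR _ P'.2
    rwa [← P'.3 (IsDefectGroup.isPGroup hR) hle] 
  have hcent : ∀ n : Subgroup.normalizer ((P : Subgroup G) : Set G),
      (n : G) ∈ Subgroup.centralizer ((P : Subgroup G) : Set G) ↔
        n ∈ Subgroup.centralizer ((P' : Subgroup (Subgroup.normalizer ((P : Subgroup G) : Set G))) : Set (Subgroup.normalizer ((P : Subgroup G) : Set G))) := fun n => by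
    rw [hP', mem_centralizer_subgroupOf_iff Subgroup.le_normalizer n]
  -- blocks of the normalizer against blocks with defect group P
  have hblocks : Nat.card {b : Set (IrrCharacter (Subgroup.normalizer ((P : Subgroup G) : Set G))) //
      Cfsg.IsPBlock M b} = Nat.card {B : Set (Cfsg.IrrCharacter G) //
        Cfsg.IsPBlock M B ∧ Cfsg.IsDefectGroup p M B (P : Subgroup G)} := by
    have hex : ∀ b : {b : Set (IrrCharacter (Subgroup.normalizer ((P : Subgroup G) : Set G))) //
        Cfsg.IsPBlock M b}, ∃ B, Cfsg.IsInducedBlock M _ b.1 B := fun b =>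
      inducedBlockDefined_of_local hM hPp Subgroup.le_normalizer
        (Subgroup.centralizer_le_normalizer _) le_rfl b.2
    choose ind hind using hex
    have hdef : ∀ b, Cfsg.IsDefectGroup p M (ind b) (P : Subgroup G) := fun b =>
      defect_of_local hM hPp (hind b) (hP' ▸ hloc b.1 b.2)
    refine Nat.card_eq_of_bijective (fun b => ⟨ind b, (hind b).2.1, hdef b⟩) ⟨fun b b' h => ?_, ?_⟩
    · refine Subtype.ext (local_block_unique hM hPp (hind b) ?_ (hP' ▸ hloc b.1 b.2))
      have e : ind b = ind b' := congrArg Subtype.val h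
      rw [e]
      exact hind b'
    · rintro ⟨B, hB, hBD⟩
      obtain ⟨b, hb⟩ := exists_local_block hM hPp hB hBD
      exact ⟨⟨b, hb.1⟩, Subtype.ext (isInducedBlock_unique (hind ⟨b, hb.1⟩) hb)⟩
  rw [← hblocks]
  refine le_antisymm ?_ ?_
  · set a := (Nat.card (Subgroup.normalizer ((P : Subgroup G) : Set G))).factorization p with ha
    have hPa : Nat.card (P' : Subgroup (Subgroup.normalizer ((P : Subgroup G) : Set G))) = p ^ a := P'.card_eq_multiplicity
    have h1 := Cfsg.Agent.S0962.result (G := (Subgroup.normalizer ((P : Subgroup G) : Set G))) p M hM a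
    refine le_trans (Nat.card_le_card_of_injective
      (β := {B : Set (IrrCharacter (Subgroup.normalizer ((P : Subgroup G) : Set G))) // Cfsg.IsPBlock M B ∧ a ≤ Cfsg.blockDefect p B})
      (fun b => ⟨b.1, b.2, ?_⟩) (fun b b' h => Subtype.ext (congrArg (fun D => D.1) h :))) (h1.trans (Nat.card_le_card_of_injective
          (fun C => ⟨C.1, fun n hn => ?_⟩) fun C C' h => Subtype.ext (congrArg (fun D => D.1) h :)))
    · rw [blockDefect_eq hM b.2 (hloc b.1 b.2), hPa, (Fact.out : p.Prime).factorization_pow,
        Finsupp.single_eq_same]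
    · obtain ⟨g, hg, hreg, hdg⟩ := C.2
      rw [← hn] at hg
      obtain ⟨c, hc⟩ := isConj_iff.1 (ConjClasses.mk_eq_mk_iff_isConj.1 hg)
      obtain ⟨S, hS, -⟩ := exists_isSylowIn_ge (p := p)
        (K := Subgroup.centralizer ({g} : Set (Subgroup.normalizer ((P : Subgroup G) : Set G)))) IsPGroup.of_bot bot_le
      obtain ⟨R, hR⟩ := hS.2.1.exists_le_sylow
      haveI := Sylow.unique_of_normal P' hPn
      have hSP : S = (P' : Subgroup (Subgroup.normalizer ((P : Subgroup G) : Set G))) := by
        refine Subgroup.eq_of_le_of_card_ge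
          (hR.trans (congrArg Sylow.toSubgroup (Subsingleton.elim R P')).le) ?_
        rw [hS.card_eq, hPa]
        exact Nat.pow_le_pow_right (Fact.out : p.Prime).pos hdg
      have hgc : g ∈ Subgroup.centralizer ((P' : Subgroup (Subgroup.normalizer ((P : Subgroup G) : Set G))) : Set (Subgroup.normalizer ((P : Subgroup G) : Set G))) :=
        le_centralizer_singleton_iff.1 (hSP ▸ hS.1)
      refine ⟨?_, (hcent n).2 ?_⟩
      · rw [← hc, show c * g * c⁻¹ = MulAut.conj c g from rfl, MulEquiv.orderOf_eq]
        exact hreg
      · rw [← hc, mem_centralizer_conj_iff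
          (show c ∈ Subgroup.normalizer ((P' : Subgroup (Subgroup.normalizer ((P : Subgroup G) : Set G))) : Set (Subgroup.normalizer ((P : Subgroup G) : Set G))) by
            have := Subgroup.normalizer_eq_top (P' : Subgroup (Subgroup.normalizer ((P : Subgroup G) : Set G)))
            exact this.symm ▸ Subgroup.mem_top c)]
        exact hgc
  · refine le_trans (le_of_eq (Nat.card_congr (Equiv.subtypeEquivRight fun C => ?_)))
      (card_classes_le_card_blocks hM P')
    exact forall_congr' fun n => imp_congr_right fun _ => and_congr_right fun _ => hcent n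

end Cfsg.Agent.S0953
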