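import Cfsg.Statements.S0954
import Cfsg.Agent.BlocksLocal.Covering
import Cfsg.Agent.Blocks.Height

set_option autoImplicit false
open Cfsg CfsgLib.Blocks CfsgLib.BlocksLocal

namespace Cfsg.Agent.S0954

/-- Let N be a normal subgroup of the finite group G of order prime to p and of p-power index (a normal p-complement), and fix a maximal ideal M of the algebraic integers containing p. Then two irreducible characters χ, ψ of G lie in the same block if and only if some irreducible character of N has nonzero inner product with both the restriction of χ and the restriction of ψ. -/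
theorem result {G : Type*} [Group G] [Fintype G] (p : ℕ) [Fact p.Prime] (M : Ideal Cfsg.AlgInt) (hM : Cfsg.IsPModular p M) (N : Subgroup G) [N.Normal] [Fintype N] (hN : ¬ p ∣ Nat.card N) (hidx : ∃ k : ℕ, N.index = p ^ k) (χ ψ : Cfsg.IrrCharacter G) : Cfsg.SameBlock M (χ : G → ℂ) (ψ : G → ℂ) ↔ ∃ θ : Cfsg.IrrCharacter N, Cfsg.classInner (fun n : N => (χ : G → ℂ) n) (θ : N → ℂ) ≠ 0 ∧ Cfsg.classInner (fun n : N => (ψ : G → ℂ) n) (θ : N → ℂ) ≠ 0 := by
  classical
  haveI : M.IsPrime := IsPModular.isPrime hM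
  have hsingle : ∀ θ : IrrCharacter N, Cfsg.blockOf M (θ : N → ℂ) = {θ} := fun θ => by
    refine (defect_zero_iff hM θ).1 fun h => hN (h.trans ?_)
    exact Nat.div_dvd_of_dvd (charDegree_dvd_card θ)
  constructor
  · intro h
    obtain ⟨θ, hθ⟩ := exists_constituent N χ
    obtain ⟨ψ', hψ'⟩ := exists_constituent N ψ
    obtain ⟨g, θ', hθ', rfl⟩ := mem_coverSet_of_covers N (isPBlock_blockOf χ) (isPBlock_blockOf θ)
      (mem_blockOf_self χ) (mem_blockOf_self θ) hθ (mem_blockOf.2 h) hψ'
    rw [hsingle, Set.mem_singleton_iff] at hθ'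
    subst hθ'
    refine ⟨θ', hθ, ?_⟩
    rwa [coe_conjIrr, CfsgLib.CharactersDeep.Clifford.classInner_restrict_conjBy N
      (CfsgLib.Characters.isClassFunction_of_isIrr ψ.2)] at hψ'
  · rintro ⟨θ, h1, h2⟩
    have h := eq_of_covers_of_pow_index N hM hidx (isPBlock_blockOf χ) (isPBlock_blockOf ψ)
      (isPBlock_blockOf θ) (mem_blockOf_self χ) (mem_blockOf_self ψ) (mem_blockOf_self θ)
      (mem_blockOf_self θ) h1 h2
    exact mem_blockOf.1 (h ▸ mem_blockOf_self ψ)

end Cfsg.Agent.S0954
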