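import Cfsg.Statements.S0955
import Cfsg.Agent.Blocks.Defect
import Cfsg.Agent.PLocal.Cores

set_option autoImplicit false
open Cfsg CfsgLib.Blocks

namespace Cfsg.Agent.S0955

/-- Let D be a defect group of a block of the finite group G relative to a maximal ideal M of the algebraic integers containing the prime p. Then D is the largest normal p-subgroup of its own normalizer: O_p(N_G(D)) = D. -/
theorem result {G : Type*} [Group G] [Finite G] (p : ℕ) [Fact p.Prime] (M : Ideal Cfsg.AlgInt) (hM : Cfsg.IsPModular p M) (B : Set (Cfsg.IrrCharacter G)) (hB : Cfsg.IsPBlock M B) (D : Subgroup G) (hD : Cfsg.IsDefectGroup p M B D) : (Cfsg.pCore p (Subgroup.normalizer (D : Set G))).map (Subgroup.normalizer (D : Set G)).subtype = D := by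
  classical
  haveI := Fintype.ofFinite G
  haveI : M.IsPrime := IsPModular.isPrime hM
  haveI := charP_res hM
  set N := Subgroup.normalizer (D : Set G) with hN
  haveI := Fintype.ofFinite N
  have hDp := IsDefectGroup.isPGroup hD
  have hCN : Subgroup.centralizer (D : Set G) ≤ N := Subgroup.centralizer_le_normalizer _
  have hD' : D ≤ (Cfsg.pCore p N).map N.subtype := by
    intro d hd
    have h : D.subgroupOf N ≤ Cfsg.pCore p N :=
      CfsgLib.PLocal.le_pCore (hN := Subgroup.normal_in_normalizer)
        (hDp.comap_of_injective _ N.subtype_injective)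
    exact ⟨⟨d, Subgroup.le_normalizer hd⟩, h hd, rfl⟩
  obtain ⟨g, hg, hne⟩ := IsDefectGroup.exists_coeff hB hD
  set e := brHom (p := p) D N hDp hCN le_rfl (idemBar M B (isBlockUnion_of_isPBlock hB)) with he
  have hee : e * e = e := by rw [he, ← map_mul, idemBar_mul_self]
  have hpc := CfsgLib.PLocal.isPGroup_pCore p N
  have hgc : (⟨g, hCN hg⟩ : N) ∈ Subgroup.centralizer ((Cfsg.pCore p N : Subgroup N) : Set N) := by
    by_contra hgc
    refine hne ?_
    rw [← coeff_brRes_of_mem (P := D) (le_refl N) _ (h := ⟨g, hCN hg⟩) hg,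
      ← brHom_apply D N hDp hCN le_rfl, ← he, ← truncHom_idem (Cfsg.pCore p N) hpc hee]
    exact coeff_truncHom_of_notMem _ hpc _ hgc
  have hgc' : g ∈ Subgroup.centralizer (((Cfsg.pCore p N).map N.subtype : Subgroup G) : Set G) :=
    Subgroup.mem_centralizer_iff.2 fun u hu => by
      obtain ⟨v, hv, rfl⟩ := hu
      exact congrArg Subtype.val (Subgroup.mem_centralizer_iff.1 hgc v hv)
  obtain ⟨x, hx⟩ := IsDefectGroup.domBy hM hB hD _ (hpc.map _) g hgc' hne
  refine (Subgroup.eq_of_le_of_card_ge hD' ?_).symm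
  rw [← CfsgLib.BlockPairs.card_cj x ((Cfsg.pCore p N).map N.subtype)]
  exact Subgroup.card_le_of_le hx

end Cfsg.Agent.S0955
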