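import Cfsg.Statements.S0957

set_option autoImplicit false
open Cfsg

namespace Cfsg.Agent.S0957

/-- Let P be a Sylow p-subgroup of the finite group G, let g, h ∈ G and let p ^ d be the order of a Sylow p-subgroup of the centralizer of g. Then the number of pairs (y, z) with y conjugate to g, z conjugate to h and z * y⁻¹ ∈ P is divisible by the order of P divided by p ^ d. -/
theorem result {G : Type*} [Group G] [Finite G] (p : ℕ) [Fact p.Prime] (P : Sylow p G) (g h : G) (S : Sylow p (Subgroup.centralizer ({g} : Set G))) : Nat.card P / Nat.card S ∣ Nat.card {yz : G × G // IsConj g yz.1 ∧ IsConj h yz.2 ∧ yz.2 * yz.1⁻¹ ∈ (P : Subgroup G)} := by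
  classical
  have := Fintype.ofFinite G
  set X := {yz : G × G // IsConj g yz.1 ∧ IsConj h yz.2 ∧ yz.2 * yz.1⁻¹ ∈ (P : Subgroup G)} with hX
  letI act : MulAction (P : Subgroup G) X :=
    { smul := fun u x => ⟨((u : G) * x.1.1 * (u : G)⁻¹, (u : G) * x.1.2 * (u : G)⁻¹),
        x.2.1.trans (isConj_iff.2 ⟨u, rfl⟩), x.2.2.1.trans (isConj_iff.2 ⟨u, rfl⟩), by
          have := (P : Subgroup G).mul_mem ((P : Subgroup G).mul_mem u.2 x.2.2.2)
            ((P : Subgroup G).inv_mem u.2)
          simpa [mul_assoc] using this⟩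
      one_smul := fun x => Subtype.ext (by
        show ((((1 : (P : Subgroup G)) : G)) * _ * _, _) = _
        simp)
      mul_smul := fun u w x => Subtype.ext (Prod.ext
        (by show _ = (u : G) * ((w : G) * x.1.1 * (w : G)⁻¹) * (u : G)⁻¹
            show ((u * w : (P : Subgroup G)) : G) * x.1.1 * ((u * w : (P : Subgroup G)) : G)⁻¹ = _
            simp [mul_assoc])
        (by show _ = (u : G) * ((w : G) * x.1.2 * (w : G)⁻¹) * (u : G)⁻¹
            show ((u * w : (P : Subgroup G)) : G) * x.1.2 * ((u * w : (P : Subgroup G)) : G)⁻¹ = _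
            simp [mul_assoc])) }
  rw [Nat.card_congr (MulAction.selfEquivSigmaOrbits (P : Subgroup G) X), Nat.card_sigma]
  refine Finset.dvd_sum fun ω _ => ?_
  set r := ω.out with hr
  rw [Nat.card_coe_set_eq, ← MulAction.index_stabilizer]
  set T := MulAction.stabilizer (P : Subgroup G) r with hT
  obtain ⟨c, hc⟩ := isConj_iff.1 r.2.1.symm
  -- T embeds into the centraliser of g
  let φ : T →* Subgroup.centralizer ({g} : Set G) :=
    { toFun := fun t => ⟨c * ((t : (P : Subgroup G)) : G) * c⁻¹, by
        rw [Subgroup.mem_centralizer_singleton_iff]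
        have ht : ((t : (P : Subgroup G)) : G) * r.1.1 * ((t : (P : Subgroup G)) : G)⁻¹ = r.1.1 :=
          congrArg Prod.fst (congrArg Subtype.val t.2)
        rw [mul_inv_eq_iff_eq_mul] at ht
        rw [← hc]
        simp only [mul_assoc, inv_mul_cancel_left]
        rw [← mul_assoc ((t : (P : Subgroup G)) : G) r.1.1, ht, mul_assoc]⟩
      map_one' := Subtype.ext (by simp)
      map_mul' := fun s t => Subtype.ext (by simp [mul_assoc]) }
  have hφ : Function.Injective φ := fun s t hst => by
    have := congrArg Subtype.val hst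
    simpa [φ] using this
  have hTp : IsPGroup p φ.range :=
    (P.isPGroup'.to_subgroup T).of_surjective φ.rangeRestrict φ.rangeRestrict_surjective
  obtain ⟨S', hS'⟩ := hTp.exists_le_sylow
  have hcard : Nat.card T ∣ Nat.card S := by
    rw [Nat.card_congr (MonoidHom.ofInjective hφ).toEquiv,
      show Nat.card S = Nat.card S' by rw [Sylow.card_eq_multiplicity, Sylow.card_eq_multiplicity]]
    exact Subgroup.card_dvd_of_le hS'
  have hPT := T.card_mul_index
  have hTpos : 0 < Nat.card T := Nat.card_pos
  obtain ⟨m, hm⟩ := hcard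
  obtain ⟨P', hP'⟩ := (S.isPGroup'.map (Subgroup.centralizer ({g} : Set G)).subtype).exists_le_sylow
  have hSP : Nat.card S ∣ Nat.card P := by
    rw [show Nat.card P = Nat.card P' by rw [Sylow.card_eq_multiplicity, Sylow.card_eq_multiplicity]]
    rw [← Subgroup.card_map_of_injective (Subgroup.subtype_injective _)]
    exact Subgroup.card_dvd_of_le hP'
  obtain ⟨q, hq⟩ := hSP
  rw [show Nat.card P / Nat.card S = q by rw [hq, Nat.mul_div_cancel_left _ Nat.card_pos]]
  exact ⟨m, Nat.eq_of_mul_eq_mul_left hTpos (by rw [hPT, hq, hm]; ring)⟩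

end Cfsg.Agent.S0957
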