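import Cfsg.Statements.S0958
import Cfsg.Agent.Blocks.Height
import Cfsg.Agent.Blocks.InducedDefect

set_option autoImplicit false
open Cfsg CfsgLib.Blocks
open CfsgLib.BlockPairs (cj mem_cj cj_mono card_cj isPGroup_cj cj_cj)

namespace Cfsg.Agent.S0958

/-- Let P be a p-subgroup of the finite group G and H a subgroup with P ⊔ C_G(P) ≤ H ≤ N_G(P); fix a maximal ideal M of the algebraic integers containing p. Then a block B of G is induced by some block of H if and only if some conjugate of P is contained in a defect group of B. -/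
theorem result {G : Type*} [Group G] [Finite G] (p : ℕ) [Fact p.Prime] (M : Ideal Cfsg.AlgInt) (hM : Cfsg.IsPModular p M) (P H : Subgroup G) (hP : IsPGroup p P) (hPH : P ⊔ Subgroup.centralizer (P : Set G) ≤ H) (hHN : H ≤ Subgroup.normalizer (P : Set G)) (B : Set (Cfsg.IrrCharacter G)) (hB : Cfsg.IsPBlock M B) : (∃ b : Set (Cfsg.IrrCharacter H), Cfsg.IsInducedBlock M H b B) ↔ ∃ D : Subgroup G, Cfsg.IsDefectGroup p M B D ∧ ∃ x : G, P.map (MulAut.conj x).toMonoidHom ≤ D := by
  haveI := Fintype.ofFinite G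
  haveI := Fintype.ofFinite H
  haveI : M.IsPrime := IsPModular.isPrime hM
  haveI := charP_res hM
  have hPH' : P ≤ H := le_sup_left.trans hPH
  have hCH : Subgroup.centralizer (P : Set G) ≤ H := le_sup_right.trans hPH
  constructor
  · rintro ⟨b, hb⟩
    obtain ⟨ξ, hξ⟩ := isPBlock_nonempty hb.1
    obtain ⟨χ, hχ⟩ := isPBlock_nonempty hb.2.1
    obtain ⟨D, hD⟩ := exists_isDefectGroup (p := p) hB
    refine ⟨D, hD, ?_⟩
    by_contra hno
    have h1 := (isInducedBlock_iff H hb.1 hb.2.1 hξ hχ).1 hb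
      (idemBar M B (isBlockUnion_of_isPBlock hB))
    rw [omegaBar_resCtr_eq_brRes hM hP hPH' hHN, omegaBar_idemBar, if_pos hχ] at h1
    refine one_ne_zero (h1.symm.trans ?_)
    rw [show brRes P H hHN (idemBar M B (isBlockUnion_of_isPBlock hB)) = 0 from ctr_ext fun h => ?_,
      map_zero]
    by_cases hh : (h : G) ∈ Subgroup.centralizer (P : Set G)
    · rw [coeff_brRes_of_mem hHN _ hh]
      by_contra hne
      exact hno (IsDefectGroup.domBy hM hB hD P hP h hh (by simpa using hne))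
    · rw [coeff_brRes_of_notMem hHN _ hh]
      simp
  · rintro ⟨D, hD, x, hx⟩
    obtain ⟨g, hg, hne⟩ := IsDefectGroup.exists_coeff hB hD
    have hc : x⁻¹ * g * x ∈ Subgroup.centralizer (P : Set G) :=
      Subgroup.mem_centralizer_iff.2 fun u hu => by
        have h := Subgroup.mem_centralizer_iff.1 hg (x * u * x⁻¹) (hx ⟨u, hu, rfl⟩)
        calc u * (x⁻¹ * g * x) = x⁻¹ * (x * u * x⁻¹ * g) * x := by group
          _ = x⁻¹ * (g * (x * u * x⁻¹)) * x := by rw [h]
          _ = x⁻¹ * g * x * u := by group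
    set e := brHom (p := p) P H hP hCH hHN (idemBar M B (isBlockUnion_of_isPBlock hB)) with he
    have he1 : e ≠ 0 := by
      intro h0
      refine hne ?_
      rw [coeff_eq_of_isConj (idemBar M B (isBlockUnion_of_isPBlock hB)).2
        (show IsConj g (x⁻¹ * g * x) from isConj_iff.2 ⟨x⁻¹, by group⟩)]
      rw [← coeff_brRes_of_mem hHN _ (h := ⟨_, hCH hc⟩) hc, ← brHom_apply P H hP hCH hHN, ← he, h0]
      simp
    obtain ⟨ξ, hξ⟩ : ∃ ξ : IrrCharacter H, omegaBar M ξ e ≠ 0 := by
      by_contra hall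
      push Not at hall
      refine he1 (IsIdempotentElem.eq_zero_of_isNilpotent ?_
        (isNilpotent_of_omegaBar_eq_zero e hall))
      rw [IsIdempotentElem, he, ← map_mul, idemBar_mul_self]
    obtain ⟨B', hB'⟩ := inducedBlockDefined_of_local hM hP hPH' hCH hHN (isPBlock_blockOf ξ)
    obtain ⟨χ, hχ⟩ := isPBlock_nonempty hB'.2.1
    have h1 := (isInducedBlock_iff H hB'.1 hB'.2.1 (mem_blockOf_self ξ) hχ).1 hB'
      (idemBar M B (isBlockUnion_of_isPBlock hB))
    rw [omegaBar_resCtr_eq_brRes hM hP hPH' hHN, ← brHom_apply P H hP hCH hHN, ← he,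
      omegaBar_idemBar] at h1
    by_cases hB2 : χ ∈ B
    · exact ⟨_, isPBlock_eq_of_mem hB'.2.1 hB hχ hB2 ▸ hB'⟩
    · rw [if_neg hB2] at h1
      exact absurd h1 hξ

end Cfsg.Agent.S0958
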