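import Cfsg.Statements.S0959
import Cfsg.Agent.Blocks.Height
import Cfsg.Agent.Blocks.InducedDefect

set_option autoImplicit false
open Cfsg CfsgLib.Blocks
open CfsgLib.BlockPairs (cj mem_cj cj_mono card_cj isPGroup_cj cj_cj)

namespace Cfsg.Agent.S0959

/-- Let B be a block of the finite group G with defect group D (relative to a maximal ideal M of the algebraic integers containing the prime p), and let P be a p-subgroup. Then there is an element g whose idempotent coefficient for B is a local integer outside the local ideal at M and which has a conjugate centralizing P, if and only if some conjugate of P is contained in D. -/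
theorem result {G : Type*} [Group G] [Finite G] (p : ℕ) [Fact p.Prime] (M : Ideal Cfsg.AlgInt) (hM : Cfsg.IsPModular p M) (B : Set (Cfsg.IrrCharacter G)) (hB : Cfsg.IsPBlock M B) (D : Subgroup G) (hD : Cfsg.IsDefectGroup p M B D) (P : Subgroup G) (hP : IsPGroup p P) : (∃ g : G, Cfsg.MemLocalRing M (Cfsg.blockCoeff B g) ∧ ¬ Cfsg.MemLocalIdeal M (Cfsg.blockCoeff B g) ∧ ∃ c : G, IsConj g c ∧ c ∈ Subgroup.centralizer (P : Set G)) ↔ ∃ x : G, P.map (MulAut.conj x).toMonoidHom ≤ D := by
  haveI := Fintype.ofFinite G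
  haveI : M.IsPrime := IsPModular.isPrime hM
  constructor
  · rintro ⟨g, -, hne, c, hgc, hc⟩
    rw [not_memLocalIdeal_blockCoeff_iff (isBlockUnion_of_isPBlock hB)] at hne
    rw [coeff_eq_of_isConj (idemBar M B (isBlockUnion_of_isPBlock hB)).2 hgc] at hne
    exact IsDefectGroup.domBy hM hB hD P hP c hc hne
  · rintro ⟨x, hx⟩
    obtain ⟨g, hg, hne⟩ := IsDefectGroup.exists_coeff hB hD
    refine ⟨g, memLocalRing_blockCoeff (isBlockUnion_of_isPBlock hB) g,
      (not_memLocalIdeal_blockCoeff_iff _ g).2 hne, x⁻¹ * g * x,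
      isConj_iff.2 ⟨x⁻¹, by group⟩, Subgroup.mem_centralizer_iff.2 fun u hu => ?_⟩
    have h := Subgroup.mem_centralizer_iff.1 hg (x * u * x⁻¹) (hx ⟨u, hu, rfl⟩)
    calc u * (x⁻¹ * g * x) = x⁻¹ * (x * u * x⁻¹ * g) * x := by group
      _ = x⁻¹ * (g * (x * u * x⁻¹)) * x := by rw [h]
      _ = x⁻¹ * g * x * u := by group

end Cfsg.Agent.S0959
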