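import Cfsg.Statements.S0960
import Cfsg.Agent.BlocksCyclic.Main

set_option autoImplicit false
set_option linter.style.haveILetI false
open Cfsg

namespace Cfsg.Agent.S0960

/-- Let p be an odd prime and G a finite group whose Sylow p-subgroup P has order p; let e be the index of C_G(P) in N_G(P) (a divisor of p − 1) and fix a maximal ideal M of the algebraic integers containing p. Then the principal block of G consists of exactly e + (p - 1) / e irreducible characters, and the degree d of each of them satisfies d ≡ 1, d ≡ -1, d ≡ e or d ≡ -e modulo p. -/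
theorem result {G : Type*} [Group G] [Finite G] (p : ℕ) [Fact p.Prime] (M : Ideal Cfsg.AlgInt) (hM : Cfsg.IsPModular p M) (hodd : p ≠ 2) (P : Sylow p G) (hP : Nat.card P = p) (e : ℕ) (he : (Subgroup.centralizer ((P : Subgroup G) : Set G)).relIndex (Subgroup.normalizer ((P : Subgroup G) : Set G)) = e) : Nat.card (Cfsg.principalBlock M G) = e + (p - 1) / e ∧ ∀ χ ∈ Cfsg.principalBlock M G, ((Cfsg.charDegree (χ : G → ℂ) : ℤ) ≡ 1 [ZMOD p] ∨ (Cfsg.charDegree (χ : G → ℂ) : ℤ) ≡ -1 [ZMOD p] ∨ (Cfsg.charDegree (χ : G → ℂ) : ℤ) ≡ (e : ℤ) [ZMOD p] ∨ (Cfsg.charDegree (χ : G → ℂ) : ℤ) ≡ -(e : ℤ) [ZMOD p]) := by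
  haveI := hM.2.1.isPrime
  haveI := Fintype.ofFinite G
  classical
  obtain ⟨x, hxP, hx⟩ := CfsgLib.BlocksCyclic.exists_generator (P := P) hP
  obtain ⟨θ, hθ, hθC⟩ := CfsgLib.BlocksCyclic.exists_theta hP hxP hx
  obtain ⟨hk, hdeg⟩ := CfsgLib.BlocksCyclic.principalBlock_structure hM P hP hxP hx hθ hθC
  have hker : θ.ker = (Subgroup.centralizer ((P : Subgroup G) : Set G)).subgroupOf
      (Subgroup.normalizer ((P : Subgroup G) : Set G)) := by
    ext n
    rw [MonoidHom.mem_ker, hθC, Subgroup.mem_subgroupOf]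
  have hE : Nat.card θ.range = e := by
    rw [← Subgroup.index_ker, hker]
    exact he
  have ht : Nat.card ((ZMod p)ˣ ⧸ θ.range) = (p - 1) / e := by
    have h := Subgroup.card_eq_card_quotient_mul_card_subgroup θ.range
    rw [hE, Nat.card_eq_fintype_card (α := (ZMod p)ˣ), ZMod.card_units] at h
    rw [h, Nat.mul_div_cancel _ (by rw [← hE]; exact Nat.card_pos)]
  rw [hE] at hdeg
  refine ⟨?_, hdeg⟩
  rw [hk, hE, ht]

end Cfsg.Agent.S0960
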