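import Cfsg.Statements.S0963

import Cfsg.Agent.Blocks.Idempotent
import Cfsg.Agent.Blocks.Induced
import Cfsg.Agent.CharactersDeep.Clifford

set_option autoImplicit false
open Cfsg

namespace Cfsg.Agent.S0963

/-- Let N be a normal subgroup of the finite group G, χ an irreducible character of G and θ an irreducible character of N. Then θ occurs in the restriction of χ to N if and only if, for every n ∈ N, the central character of χ at n (class size in G times χ n over χ 1) equals the sum of θ m / θ 1 over the elements m of N conjugate in G to n. -/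
theorem result {G : Type*} [Group G] [Fintype G] (N : Subgroup G) [N.Normal] [Fintype N] (χ : Cfsg.IrrCharacter G) (θ : Cfsg.IrrCharacter N) : Cfsg.classInner (fun n : N => (χ : G → ℂ) n) (θ : N → ℂ) ≠ 0 ↔ ∀ n : N, Cfsg.centralChar (χ : G → ℂ) (n : G) = Cfsg.inducedCentralChar N (θ : N → ℂ) (n : G) := by
  classical
  have key : ∀ (w : G → ℂ), (∀ g c : G, w (c * g * c⁻¹) = w g) →
      ∀ n₀ : N, Cfsg.inducedCentralChar N (θ : N → ℂ) (n₀ : G) * w (n₀ : G) =
        (∑ m : N, if IsConj (n₀ : G) (m : G) then (θ : N → ℂ) m * w (m : G) else 0) /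
          (θ : N → ℂ) 1 := by
    intro w hw n₀
    rw [Cfsg.inducedCentralChar, finsum_mem_def, finsum_eq_sum_of_fintype, Finset.sum_mul,
      Finset.sum_div]
    refine Finset.sum_congr rfl fun m _ => ?_
    simp only [Set.indicator_apply, Set.mem_ofPred_eq]
    split_ifs with h
    · obtain ⟨c, hc⟩ := isConj_iff.1 h
      rw [← hc, hw]
      ring
    · simp
  have hcc : ∀ n₀ : N, Cfsg.centralChar (χ : G → ℂ) (n₀ : G) =
      (∑ m : N, if IsConj (n₀ : G) (m : G) then (χ : G → ℂ) m else 0) / (χ : G → ℂ) 1 := by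
    intro n₀
    rw [Cfsg.centralChar]
    congr 1
    rw [Finset.sum_congr rfl (g := fun m : N => if IsConj (n₀ : G) (m : G) then (χ : G → ℂ) n₀ else 0)
      (fun m _ => ?_), ← Finset.sum_filter, Finset.sum_const, nsmul_eq_mul]
    · congr 2
      rw [← CfsgLib.Blocks.natCard_class (n₀ : G), ← Fintype.card_subtype,
        ← Nat.card_eq_fintype_card]
      refine Nat.card_congr
        { toFun := fun x => ⟨⟨x.1, ?_⟩, (ConjClasses.mk_eq_mk_iff_isConj.1 x.2).symm⟩
          invFun := fun m => ⟨m.1.1, ConjClasses.mk_eq_mk_iff_isConj.2 m.2.symm⟩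
          left_inv := fun x => rfl
          right_inv := fun m => rfl }
      obtain ⟨c, hc⟩ := isConj_iff.1 (ConjClasses.mk_eq_mk_iff_isConj.1 x.2).symm
      rw [← hc]
      exact (inferInstance : N.Normal).conj_mem _ n₀.2 c
    · split_ifs with h
      · exact (CfsgLib.Characters.classFunction_isConj
          (CfsgLib.Characters.isClassFunction_of_isIrr χ.2) h).symm
      · rfl
  have hθ1 := CfsgLib.Characters.irr_one_ne_zero θ.2
  have hχ1 := CfsgLib.Characters.irr_one_ne_zero χ.2
  constructor
  · intro h n₀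
    have hres := CfsgLib.CharactersDeep.Clifford.restrict_eq_orbit_sum N χ.2 θ.2 h
    set e := Cfsg.classInner (fun n : N => (χ : G → ℂ) n) (θ : N → ℂ)
    set O := CfsgLib.CharactersDeep.Clifford.orbit N (θ : N → ℂ)
    have hone : (χ : G → ℂ) 1 = e * ((O.card : ℂ) * (θ : N → ℂ) 1) := by
      have h1 := congrFun hres 1
      rw [Pi.smul_apply, Finset.sum_apply, smul_eq_mul] at h1
      rw [show (χ : G → ℂ) 1 = (χ : G → ℂ) ((1 : N) : G) from rfl, h1]
      congr 1
      rw [Finset.sum_congr rfl (g := fun _ => (θ : N → ℂ) 1) fun φ hφ => ?_, Finset.sum_const,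
        nsmul_eq_mul]
      obtain ⟨g, rfl⟩ := (CfsgLib.CharactersDeep.Clifford.mem_orbit N).1 hφ
      exact congrArg (θ : N → ℂ) (Subtype.ext (by simp))
    have hind : Cfsg.inducedCentralChar N (θ : N → ℂ) (n₀ : G) =
        (∑ m : N, if IsConj (n₀ : G) (m : G) then (θ : N → ℂ) m else 0) / (θ : N → ℂ) 1 := by
      simpa using key (fun _ => 1) (fun _ _ => rfl) n₀
    have hsum : (∑ m : N, if IsConj (n₀ : G) (m : G) then (χ : G → ℂ) m else 0) =
        e * ((O.card : ℂ) * ∑ m : N, if IsConj (n₀ : G) (m : G) then (θ : N → ℂ) m else 0) := by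
      have h1 : ∀ φ ∈ O, (∑ m : N, if IsConj (n₀ : G) (m : G) then φ m else 0) =
          ∑ m : N, if IsConj (n₀ : G) (m : G) then (θ : N → ℂ) m else 0 := by
        intro φ hφ
        obtain ⟨g, rfl⟩ := (CfsgLib.CharactersDeep.Clifford.mem_orbit N).1 hφ
        refine Fintype.sum_equiv (MulAut.conjNormal (H := N) g).toEquiv _ _ fun m => ?_
        have hm : IsConj (n₀ : G) (((MulAut.conjNormal (H := N) g) m : N) : G) ↔
            IsConj (n₀ : G) (m : G) := by
          have hc : IsConj (m : G) (((MulAut.conjNormal (H := N) g) m : N) : G) :=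
            isConj_iff.2 ⟨g, by rw [MulAut.conjNormal_apply]⟩
          exact ⟨fun h => h.trans hc.symm, fun h => h.trans hc⟩
        simp only [MulEquiv.toEquiv_eq_coe, EquivLike.coe_coe, hm]
        refine if_congr Iff.rfl ?_ rfl
        exact congrArg (θ : N → ℂ) (Subtype.ext (by simp [MulAut.conjNormal_apply]))
      have h2 : (O.card : ℂ) * (∑ m : N, if IsConj (n₀ : G) (m : G) then (θ : N → ℂ) m else 0) =
          ∑ φ ∈ O, ∑ m : N, if IsConj (n₀ : G) (m : G) then φ m else 0 := by
        rw [Finset.sum_congr rfl h1, Finset.sum_const, nsmul_eq_mul]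
      rw [h2, Finset.sum_comm, Finset.mul_sum]
      refine Finset.sum_congr rfl fun m _ => ?_
      split_ifs with hm
      · rw [show (χ : G → ℂ) m = (fun n : N => (χ : G → ℂ) n) m from rfl, hres, Pi.smul_apply,
          Finset.sum_apply, smul_eq_mul]
      · simp
    have he : e ≠ 0 := h
    have hO : (O.card : ℂ) ≠ 0 := Nat.cast_ne_zero.2 (Finset.card_ne_zero_of_mem
      ((CfsgLib.CharactersDeep.Clifford.mem_orbit N).2 ⟨1, rfl⟩))
    rw [hcc, hind, hone, hsum]
    field_simp
  · intro h
    by_contra hno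
    set O := CfsgLib.CharactersDeep.Clifford.orbit N (θ : N → ℂ) with hO'
    let w : G → ℂ := fun g => if hg : g ∈ N then ∑ φ ∈ O, (starRingEnd ℂ) (φ ⟨g, hg⟩) else 0
    have hw : ∀ g c : G, w (c * g * c⁻¹) = w g := by
      intro g c
      simp only [w]
      by_cases hg : g ∈ N
      · rw [dif_pos ((inferInstance : N.Normal).conj_mem g hg c), dif_pos hg]
        refine Finset.sum_bij (fun φ _ => CfsgLib.OddOrderChar.conjBy N φ c) ?_ ?_ ?_ ?_
        · intro φ hφ
          obtain ⟨d, rfl⟩ := (CfsgLib.CharactersDeep.Clifford.mem_orbit N).1 hφ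
          exact (CfsgLib.CharactersDeep.Clifford.mem_orbit N).2 ⟨d * c,
            funext fun n => congrArg (θ : N → ℂ) (Subtype.ext (by simp [mul_assoc]))⟩
        · intro φ _ φ' _ he
          funext n
          have := congrFun he ⟨c⁻¹ * n * c, by
            simpa using (inferInstance : N.Normal).conj_mem _ n.2 c⁻¹⟩
          simpa [CfsgLib.OddOrderChar.conjBy, mul_assoc] using this
        · intro φ hφ
          obtain ⟨d, rfl⟩ := (CfsgLib.CharactersDeep.Clifford.mem_orbit N).1 hφ
          exact ⟨CfsgLib.OddOrderChar.conjBy N θ (d * c⁻¹),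
            (CfsgLib.CharactersDeep.Clifford.mem_orbit N).2 ⟨d * c⁻¹, rfl⟩,
            funext fun n => congrArg (θ : N → ℂ) (Subtype.ext (by simp [mul_assoc]))⟩
        · intro φ hφ
          rfl
      · rw [dif_neg hg, dif_neg]
        exact fun hh => hg (by
          simpa [mul_assoc] using (inferInstance : N.Normal).conj_mem _ hh c⁻¹)
    have hfib : ∑ m : N, ((χ : G → ℂ) m / (χ : G → ℂ) 1) * w m =
        ∑ m : N, ((θ : N → ℂ) m / (θ : N → ℂ) 1) * w m := by
      have hn : ∀ n₀ : N,
          (∑ m : N, if IsConj (n₀ : G) (m : G) then ((χ : G → ℂ) m / (χ : G → ℂ) 1) * w m else 0) =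
          ∑ m : N, if IsConj (n₀ : G) (m : G) then ((θ : N → ℂ) m / (θ : N → ℂ) 1) * w m else 0 := by
        intro n₀
        have h1 : (∑ m : N, if IsConj (n₀ : G) (m : G) then ((χ : G → ℂ) m / (χ : G → ℂ) 1) * w m
            else 0) = Cfsg.centralChar (χ : G → ℂ) (n₀ : G) * w n₀ := by
          rw [hcc, Finset.sum_div, Finset.sum_mul]
          refine Finset.sum_congr rfl fun m _ => ?_
          split_ifs with hm
          · obtain ⟨c, hc⟩ := isConj_iff.1 hm
            rw [← hc, hw]
          · simp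
        rw [h1, h n₀, key w hw, Finset.sum_div]
        refine Finset.sum_congr rfl fun m _ => ?_
        split_ifs <;> ring
      rw [← Finset.sum_fiberwise (s := (Finset.univ : Finset N))
          (g := fun m : N => ConjClasses.mk (m : G)),
        ← Finset.sum_fiberwise (s := (Finset.univ : Finset N))
          (g := fun m : N => ConjClasses.mk (m : G)) (f := fun m =>
            ((θ : N → ℂ) m / (θ : N → ℂ) 1) * w m)]
      refine Finset.sum_congr rfl fun C _ => ?_
      by_cases hC : ∃ n₀ : N, ConjClasses.mk (n₀ : G) = C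
      · obtain ⟨n₀, rfl⟩ := hC
        simp only [Finset.sum_filter]
        have hiff : ∀ m : N, (ConjClasses.mk (m : G) = ConjClasses.mk (n₀ : G)) ↔
            IsConj (n₀ : G) (m : G) := fun m =>
          ConjClasses.mk_eq_mk_iff_isConj.trans ⟨IsConj.symm, IsConj.symm⟩
        simp only [hiff]
        exact hn n₀
      · rw [Finset.sum_eq_zero, Finset.sum_eq_zero] <;>
        · intro m hm
          exact absurd ⟨m, (Finset.mem_filter.1 hm).2⟩ hC
    have hinner : ∀ F : N → ℂ, ∑ m : N, F m * w m =
        (Nat.card N : ℂ) * ∑ φ ∈ O, Cfsg.classInner F φ := by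
      intro F
      simp only [Cfsg.classInner, ← Finset.mul_sum, ← mul_assoc]
      rw [mul_inv_cancel₀ (Nat.cast_ne_zero.2 Nat.card_pos.ne'), one_mul, Finset.sum_comm]
      refine Finset.sum_congr rfl fun m _ => ?_
      simp only [w, dif_pos m.2, Finset.mul_sum]
    simp only [div_mul_eq_mul_div, ← Finset.sum_div] at hfib
    rw [hinner, hinner] at hfib
    have hl : ∑ φ ∈ O, Cfsg.classInner (fun n : N => (χ : G → ℂ) n) φ = 0 := by
      refine Finset.sum_eq_zero fun φ hφ => ?_
      obtain ⟨g, rfl⟩ := (CfsgLib.CharactersDeep.Clifford.mem_orbit N).1 hφ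
      rw [CfsgLib.CharactersDeep.Clifford.classInner_restrict_conjBy N
        (CfsgLib.Characters.isClassFunction_of_isIrr χ.2)]
      exact hno
    have hr : ∑ φ ∈ O, Cfsg.classInner (θ : N → ℂ) φ = 1 := by
      rw [Finset.sum_eq_single (θ : N → ℂ)]
      · exact CfsgLib.Characters.classInner_isIrr_self θ.2
      · intro φ hφ hne
        obtain ⟨g, rfl⟩ := (CfsgLib.CharactersDeep.Clifford.mem_orbit N).1 hφ
        exact CfsgLib.Characters.classInner_isIrr_ne θ.2
          (CfsgLib.CharactersDeep.Clifford.isIrr_conjBy N θ.2 g) hne.symm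
      · intro hh
        exact absurd ((CfsgLib.CharactersDeep.Clifford.mem_orbit N).2
          ⟨1, funext fun n => congrArg (θ : N → ℂ) (Subtype.ext (by simp))⟩) hh
    rw [hl, hr, mul_zero, zero_div, mul_one, eq_comm, div_eq_zero_iff] at hfib
    rcases hfib with h0 | h0
    · exact (Nat.card_pos (α := N)).ne' (Nat.cast_eq_zero.1 h0)
    · exact hθ1 h0

end Cfsg.Agent.S0963
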