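import Cfsg.Statements.S0965
import Cfsg.Agent.BlocksLocal.Covering

set_option autoImplicit false
open Cfsg CfsgLib.Blocks CfsgLib.BlocksLocal

namespace Cfsg.Agent.S0965

/-- Let N be a normal subgroup of the finite group G and let B, b be blocks of G and of N relative to a maximal ideal M of the algebraic integers containing the prime p. Then some χ ∈ B has a constituent in b on restriction to N if and only if, for all χ ∈ B, θ ∈ b and n ∈ N, the central character of χ at n is congruent modulo the local ideal at M to the sum of θ m / θ 1 over the elements m ∈ N conjugate in G to n. -/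
theorem result {G : Type*} [Group G] [Fintype G] (p : ℕ) [Fact p.Prime] (M : Ideal Cfsg.AlgInt) (hM : Cfsg.IsPModular p M) (N : Subgroup G) [N.Normal] [Fintype N] (B : Set (Cfsg.IrrCharacter G)) (hB : Cfsg.IsPBlock M B) (b : Set (Cfsg.IrrCharacter N)) (hb : Cfsg.IsPBlock M b) : (∃ χ ∈ B, ∃ θ ∈ b, Cfsg.classInner (fun n : N => (χ : G → ℂ) n) (θ : N → ℂ) ≠ 0) ↔ ∀ χ ∈ B, ∀ θ ∈ b, ∀ n : N, Cfsg.MemLocalIdeal M (Cfsg.centralChar (χ : G → ℂ) (n : G) - Cfsg.inducedCentralChar N (θ : N → ℂ) (n : G)) := by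
  classical
  haveI : M.IsPrime := IsPModular.isPrime hM
  have key : ∀ (χ : IrrCharacter G) (θ : IrrCharacter N) (n : N),
      omegaBar M χ (classSum _ (ConjClasses.mk (n : G))) =
          omegaBar M θ (resCtr N (classSum _ (ConjClasses.mk (n : G)))) ↔
        Cfsg.MemLocalIdeal M (Cfsg.centralChar (χ : G → ℂ) (n : G) -
          Cfsg.inducedCentralChar N (θ : N → ℂ) (n : G)) := fun χ θ n => by
    rw [omegaBar_classSum, omegaBar_resCtr_classSum, red_eq_red_iff]
  constructor
  · rintro ⟨χ, hχ, θ, hθ, hcov⟩ χ' hχ' θ' hθ' n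
    exact (key χ' θ' n).1
      (omegaBar_classSum_eq_of_block_covers N hB hb hχ hθ hcov hχ' hθ' n)
  · intro h
    obtain ⟨χ, hχ⟩ := isPBlock_nonempty hB
    obtain ⟨θ, hθ⟩ := isPBlock_nonempty hb
    obtain ⟨ψ, hψ⟩ := exists_constituent N χ
    obtain ⟨g, θ', hθ', rfl⟩ := mem_coverSet_of_classes N hb hθ
      (fun n => (key χ θ n).2 (h χ hχ θ hθ n)) hψ
    refine ⟨χ, hχ, θ', hθ', ?_⟩
    rwa [coe_conjIrr, CfsgLib.CharactersDeep.Clifford.classInner_restrict_conjBy N
      (CfsgLib.Characters.isClassFunction_of_isIrr χ.2)] at hψ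

end Cfsg.Agent.S0965
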