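import Cfsg.Statements.S0966
import Cfsg.Agent.BlocksLocal.Covering

set_option autoImplicit false
open Cfsg CfsgLib.Blocks CfsgLib.BlocksLocal

namespace Cfsg.Agent.S0966

/-- Let N be a normal subgroup of p-power index in the finite group G and b a block of N relative to a maximal ideal M of the algebraic integers containing p. Then there is exactly one block B of G containing a character whose restriction to N has a constituent in b. -/
theorem result {G : Type*} [Group G] [Fintype G] (p : ℕ) [Fact p.Prime] (M : Ideal Cfsg.AlgInt) (hM : Cfsg.IsPModular p M) (N : Subgroup G) [N.Normal] [Fintype N] (hidx : ∃ k : ℕ, N.index = p ^ k) (b : Set (Cfsg.IrrCharacter N)) (hb : Cfsg.IsPBlock M b) : ∃! B : Set (Cfsg.IrrCharacter G), Cfsg.IsPBlock M B ∧ ∃ χ ∈ B, ∃ θ ∈ b, Cfsg.classInner (fun n : N => (χ : G → ℂ) n) (θ : N → ℂ) ≠ 0 := by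
  haveI : M.IsPrime := IsPModular.isPrime hM
  obtain ⟨θ, hθ⟩ := isPBlock_nonempty hb
  obtain ⟨χ, hχ, hcov⟩ := CfsgLib.CharactersDeep.Clifford.exists_over N θ.2
  refine ⟨Cfsg.blockOf M χ, ⟨isPBlock_blockOf ⟨χ, hχ⟩, ⟨χ, hχ⟩,
    mem_blockOf_self (⟨χ, hχ⟩ : IrrCharacter G), θ, hθ, hcov⟩, ?_⟩
  rintro B' ⟨hB', χ', hχ', θ', hθ', hcov'⟩
  exact eq_of_covers_of_pow_index N hM hidx (isPBlock_blockOf ⟨χ, hχ⟩) hB' hb
    (mem_blockOf_self (⟨χ, hχ⟩ : IrrCharacter G)) hχ' hθ hθ' hcov hcov'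

end Cfsg.Agent.S0966
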