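import Cfsg.Statements.S0968
import Cfsg.Agent.BlocksLocal.CentralisingDefect

set_option autoImplicit false
open Cfsg CfsgLib.BlocksLocal

namespace Cfsg.Agent.S0968

/-- Let P be a p-subgroup of the finite group G with P ⊔ C_G(P) = G, and let B be a block with defect group P relative to a maximal ideal M of the algebraic integers containing p. Then there is exactly one θ ∈ B with θ x = θ 1 for all x ∈ P; for this θ the exponent of p in θ(1) equals the exponent of p in the index of P; and the number of members of B equals the number of conjugacy classes of P. -/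
theorem result {G : Type*} [Group G] [Finite G] (p : ℕ) [Fact p.Prime] (M : Ideal Cfsg.AlgInt) (hM : Cfsg.IsPModular p M) (P : Subgroup G) (hP : IsPGroup p P) (hG : P ⊔ Subgroup.centralizer (P : Set G) = ⊤) (B : Set (Cfsg.IrrCharacter G)) (hB : Cfsg.IsPBlock M B) (hD : Cfsg.IsDefectGroup p M B P) : (∃! θ : Cfsg.IrrCharacter G, θ ∈ B ∧ ∀ x ∈ P, (θ : G → ℂ) x = (θ : G → ℂ) 1) ∧ (∀ θ ∈ B, (∀ x ∈ P, (θ : G → ℂ) x = (θ : G → ℂ) 1) → (Cfsg.charDegree (θ : G → ℂ)).factorization p = P.index.factorization p) ∧ Nat.card B = Nat.card (ConjClasses P) := by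
  classical
  haveI := Fintype.ofFinite G
  haveI : M.IsPrime := CfsgLib.Blocks.IsPModular.isPrime hM
  haveI : P.Normal := by
    rw [← Subgroup.normalizer_eq_top_iff, ← top_le_iff, ← hG, sup_le_iff]
    exact ⟨Subgroup.le_normalizer, Subgroup.centralizer_le_normalizer _⟩
  obtain ⟨θ, hθ, huniq⟩ := existsUnique_kerContains hP hG hM hB hD
  exact ⟨⟨θ, hθ, fun θ' h => huniq θ' h.1 h.2⟩,
    fun χ hχ hker => factorization_degree_of_kerContains hP hG hM hB hD hχ hker,
    card_block_eq hP hG hM hB hD⟩

end Cfsg.Agent.S0968
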