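import Cfsg.Statements.S0974
import Cfsg.Agent.Small.DegreeSmall

set_option autoImplicit false
open Cfsg CfsgLib.Small

namespace Cfsg.Agent.S0974

/-- No finite simple group has order 3648 = 2^6 * 3 * 19. -/
theorem result {G : Type*} [Group G] [Finite G] [IsSimpleGroup G] : Nat.card G ≠ 3648 := by
  intro hN
  classical
  have hG := not_comm_of_card hN (by norm_num)
  haveI : Fact (Nat.Prime 19) := ⟨by norm_num⟩
  obtain ⟨P⟩ : Nonempty (Sylow 19 G) := inferInstance
  have hP : Nat.card (P : Subgroup G) = 19 := by
    simpa using card_sylow_eq (k := 1) (m := 192) (by rw [hN]; norm_num) (by norm_num) P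
  have hn := card_sylow_mem hG (p := 19) (k := 1) (m := 192) (by rw [hN]; norm_num) one_ne_zero
    (by norm_num)
  rw [show (Nat.divisors 192).filter (fun d => d % 19 = 1 ∧ d ≠ 1) = {96} by decide +kernel,
    Finset.mem_singleton] at hn
  have hNn := card_sylow_mul_card_normalizer P
  rw [hn, hN] at hNn
  have hNc : Nat.card (Subgroup.normalizer ((P : Subgroup G) : Set G)) = 19 * 2 := by omega
  have hC := Degree.centralizer_eq_of_relIndex hG P hP hNc (by decide +kernel)
  obtain ⟨s, σ, θ, d, hs, hσ, heq, hθ1, hθN, hθp, hd1, hdN, hdp, hsum⟩ :=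
    Degree.degree_two hG (P : Subgroup G) hP hC 9 hNc (by norm_num) (by norm_num)
  rw [hN] at hθN hdN hsum
  push_cast at hdp hθp
  have hd : d ≤ 20 := by
    by_contra h
    push Not at h
    nlinarith
  rcases hs with rfl | rfl <;> rcases hσ with rfl | rfl <;> interval_cases d <;>
    first
    | omega
    | (have hθ : θ = 18 ∨ θ = 20 ∨ θ = 1 := by omega
       rcases hθ with rfl | rfl | rfl <;> norm_num at *)
    | norm_num at hdN

end Cfsg.Agent.S0974
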