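import Cfsg.Statements.S0975
import Cfsg.Agent.Small.DegreeSmall

set_option autoImplicit false
open Cfsg CfsgLib.Small

namespace Cfsg.Agent.S0975

/-- No finite simple group has order 3744 = 2^5 * 3^2 * 13. -/
theorem result {G : Type*} [Group G] [Finite G] [IsSimpleGroup G] : Nat.card G ≠ 3744 := by
  intro hN
  classical
  have hG := not_comm_of_card hN (by norm_num)
  haveI : Fact (Nat.Prime 13) := ⟨by norm_num⟩
  obtain ⟨P⟩ : Nonempty (Sylow 13 G) := inferInstance
  have hP : Nat.card (P : Subgroup G) = 13 := by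
    simpa using card_sylow_eq (k := 1) (m := 288) (by rw [hN]; norm_num) (by norm_num) P
  have hn := card_sylow_mem hG (p := 13) (k := 1) (m := 288) (by rw [hN]; norm_num) one_ne_zero
    (by norm_num)
  rw [show (Nat.divisors 288).filter (fun d => d % 13 = 1 ∧ d ≠ 1) = {144} by decide +kernel,
    Finset.mem_singleton] at hn
  have hNn := card_sylow_mul_card_normalizer P
  rw [hn, hN] at hNn
  have hNc : Nat.card (Subgroup.normalizer ((P : Subgroup G) : Set G)) = 13 * 2 := by omega
  have hC := Degree.centralizer_eq_of_relIndex hG P hP hNc (by decide +kernel)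
  obtain ⟨s, σ, θ, d, hs, hσ, heq, hθ1, hθN, hθp, hd1, hdN, hdp, hsum⟩ :=
    Degree.degree_two hG (P : Subgroup G) hP hC 6 hNc (by norm_num) (by norm_num)
  rw [hN] at hθN hdN hsum
  push_cast at hdp hθp
  have hd : d ≤ 24 := by
    by_contra h
    push Not at h
    nlinarith
  have hall : ∀ y ≤ 24, 1 < y → y ∣ 3744 → (y % 13 = 2 ∨ y % 13 = 11) → y = 2 ∨ y = 24 := by
    decide +kernel
  rcases hσ with rfl | rfl <;> rcases hs with rfl | rfl <;>
    rcases hall d hd hd1 hdN (by omega) with rfl | rfl <;>
    first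
    | omega
    | (obtain rfl : θ = 25 := by omega
       norm_num at hθN)
    | (obtain rfl : θ = 23 := by omega
       norm_num at hθN)

end Cfsg.Agent.S0975
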