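import Cfsg.Statements.S0979
import Cfsg.Agent.Small.DegreeSmall

set_option autoImplicit false
open Cfsg CfsgLib.Small

namespace Cfsg.Agent.S0979

/-- No finite simple group has order 5472 = 2^5 * 3^2 * 19. -/
theorem result {G : Type*} [Group G] [Finite G] [IsSimpleGroup G] : Nat.card G ≠ 5472 := by
  intro hN
  classical
  have hG := not_comm_of_card hN (by norm_num)
  haveI : Fact (Nat.Prime 19) := ⟨by norm_num⟩
  obtain ⟨P⟩ : Nonempty (Sylow 19 G) := inferInstance
  have hP : Nat.card (P : Subgroup G) = 19 := by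
    simpa using card_sylow_eq (k := 1) (m := 288) (by rw [hN]; norm_num) (by norm_num) P
  have hn := card_sylow_mem hG (p := 19) (k := 1) (m := 288) (by rw [hN]; norm_num) one_ne_zero
    (by norm_num)
  rw [show (Nat.divisors 288).filter (fun d => d % 19 = 1 ∧ d ≠ 1) = {96} by decide +kernel,
    Finset.mem_singleton] at hn
  have hNn := card_sylow_mul_card_normalizer P
  rw [hn, hN] at hNn
  have hNc : Nat.card (Subgroup.normalizer ((P : Subgroup G) : Set G)) = 19 * 3 := by omega
  have hC := Degree.centralizer_eq_of_relIndex hG P hP hNc (by decide +kernel)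
  obtain ⟨s, s', σ, θ, θ', d, hs, hs', hσ, heq, ⟨hθ1, hθN, hθp⟩, ⟨hθ1', hθN', hθp'⟩, hd1, hdN, hdp,
    hsum⟩ := Degree.degree_three hG (P : Subgroup G) hP hC 6 hNc (by norm_num) (by norm_num)
  rw [hN] at hθN hθN' hdN hsum
  push_cast at hdp hθp hθp'
  have key : ∀ (x : ℕ) (t : ℤ), 1 < x → x ∣ 5472 → (19 : ℤ) ∣ (x : ℤ) - t → (t = 1 ∨ t = -1) →
      x * x < 5472 → x = 18 ∧ t = -1 := by
    intro x t h1 h2 h3 h4 h5
    have hx : x < 74 := by nlinarith
    have hall : ∀ y < 74, 1 < y → y ∣ 5472 → (y % 19 = 1 ∨ y % 19 = 18) → y = 18 := by decide +kernel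
    have h18 : x = 18 := hall x hx h1 h2 (by rcases h4 with rfl | rfl <;> omega)
    subst h18
    rcases h4 with rfl | rfl <;> omega
  obtain ⟨rfl, rfl⟩ := key θ s hθ1 hθN hθp hs (by nlinarith)
  obtain ⟨rfl, rfl⟩ := key θ' s' hθ1' hθN' hθp' hs' (by nlinarith)
  rcases hσ with rfl | rfl <;> first | omega | (obtain rfl : d = 35 := (by omega)
                                                norm_num at hdN)

end Cfsg.Agent.S0979
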