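import Cfsg.Statements.S0986
import Cfsg.Agent.Small.BaerSuzuki

set_option autoImplicit false
open Cfsg

namespace Cfsg.Agent.S0986

/-- Let P and Q be distinct Sylow p-subgroups of a finite group G chosen so that the order of P ∩ Q is as large as possible among intersections of two distinct Sylow p-subgroups, and let N be the normalizer of P ∩ Q. Then N has more than one Sylow p-subgroup, any two distinct Sylow p-subgroups of N intersect exactly in P ∩ Q, and each Sylow p-subgroup of N lies in exactly one Sylow p-subgroup of G. -/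
theorem result {G : Type*} [Group G] [Finite G] (p : ℕ) [Fact p.Prime] (P Q : Sylow p G) (hPQ : P ≠ Q) (hmax : ∀ P' Q' : Sylow p G, P' ≠ Q' → Nat.card ↥((P' : Subgroup G) ⊓ (Q' : Subgroup G)) ≤ Nat.card ↥((P : Subgroup G) ⊓ (Q : Subgroup G))) : 1 < Nat.card (Sylow p ↥(Subgroup.normalizer (((P : Subgroup G) ⊓ (Q : Subgroup G) : Subgroup G) : Set G))) ∧ (∀ S T : Sylow p ↥(Subgroup.normalizer (((P : Subgroup G) ⊓ (Q : Subgroup G) : Subgroup G) : Set G)), S ≠ T → (S : Subgroup _) ⊓ (T : Subgroup _) = ((P : Subgroup G) ⊓ (Q : Subgroup G)).subgroupOf (Subgroup.normalizer (((P : Subgroup G) ⊓ (Q : Subgroup G) : Subgroup G) : Set G))) ∧ ∀ S : Sylow p ↥(Subgroup.normalizer (((P : Subgroup G) ⊓ (Q : Subgroup G) : Subgroup G) : Set G)), ∃! T : Sylow p G, (S : Subgroup _).map (Subgroup.normalizer (((P : Subgroup G) ⊓ (Q : Subgroup G) : Subgroup G) : Set G)).subtype ≤ (T : Subgroup G) := by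
  classical
  set D := (P : Subgroup G) ⊓ (Q : Subgroup G) with hD
  set N := Subgroup.normalizer (D : Set G) with hN
  have hPD : D < (P : Subgroup G) := lt_of_le_of_ne inf_le_left fun h => hPQ <| Sylow.ext <|
    Subgroup.eq_of_le_of_card_ge (h ▸ inf_le_right) (Nat.card_congr (P.equiv Q).toEquiv).ge
  have hQD : D < (Q : Subgroup G) := lt_of_le_of_ne inf_le_right fun h => hPQ <| Sylow.ext <| Eq.symm <|
    Subgroup.eq_of_le_of_card_ge (h ▸ inf_le_left) (Nat.card_congr (Q.equiv P).toEquiv).ge
  have hPN := CfsgLib.Small.lt_inf_normalizer_of_pGroup P.isPGroup' hPD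
  have hQN := CfsgLib.Small.lt_inf_normalizer_of_pGroup Q.isPGroup' hQD
  have hDN : D ≤ N := Subgroup.le_normalizer
  -- two Sylow subgroups of `G` sharing more than `D` coincide
  have huniq : ∀ (A : Subgroup G) (T T' : Sylow p G), D < A → A ≤ T → A ≤ T' → T = T' := by
    intro A T T' hA hT hT'
    by_contra hne
    have h1 := hmax T T' hne
    have h2 : Nat.card ↥D < Nat.card ↥((T : Subgroup G) ⊓ (T' : Subgroup G)) := by
      refine lt_of_lt_of_le ?_ (Subgroup.card_le_of_le (le_inf hT hT'))
      exact lt_of_le_of_ne (Subgroup.card_le_of_le hA.le)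
        fun h => hA.ne (Subgroup.eq_of_le_of_card_ge hA.le h.ge)
    omega
  haveI hDnormal : (D.comap N.subtype).Normal := Subgroup.normal_in_normalizer
  have hDp : IsPGroup p D := P.isPGroup'.to_le inf_le_left
  have hbig : ∀ S : Sylow p ↥N, D < (S : Subgroup ↥N).map N.subtype := by
    intro S
    have h1 : D.subgroupOf N ≤ S :=
      (hDp.comap_of_injective N.subtype Subtype.val_injective).le_sylow_of_normal S
    have hle : D ≤ (S : Subgroup ↥N).map N.subtype := fun d hd => ⟨⟨d, hDN hd⟩, h1 hd, rfl⟩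
    refine lt_of_le_of_ne hle fun he => ?_
    -- `P ∩ N` is a larger `p`-subgroup of `N`
    obtain ⟨S', hS'⟩ := (((P.isPGroup'.to_le inf_le_left) :
      IsPGroup p ↥((P : Subgroup G) ⊓ N)).comap_of_injective N.subtype
        Subtype.val_injective).exists_le_sylow
    have h2 : Nat.card ↥((P : Subgroup G) ⊓ N) ≤ Nat.card ↥(S' : Subgroup ↥N) := by
      rw [← Nat.card_congr (Subgroup.subgroupOfEquivOfLe (H := (P : Subgroup G) ⊓ N) (K := N)
        inf_le_right).toEquiv]
      exact Subgroup.card_le_of_le hS'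
    have h3 : Nat.card ↥(S' : Subgroup ↥N) = Nat.card ↥D := by
      rw [Nat.card_congr (S'.equiv S).toEquiv, he]
      exact Nat.card_congr ((S : Subgroup ↥N).equivMapOfInjective _ N.subtype_injective).toEquiv
    have h4 : Nat.card ↥D < Nat.card ↥((P : Subgroup G) ⊓ N) :=
      lt_of_le_of_ne (Subgroup.card_le_of_le hPN.le)
        fun h => hPN.ne (Subgroup.eq_of_le_of_card_ge hPN.le h.ge)
    omega
  have hex : ∀ S : Sylow p ↥N, ∃! T : Sylow p G, (S : Subgroup ↥N).map N.subtype ≤ T := by
    intro S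
    obtain ⟨T, hT⟩ := (S.isPGroup'.map N.subtype).exists_le_sylow
    exact ⟨T, hT, fun T' hT' => huniq _ T' T (hbig S) hT' hT⟩
  refine ⟨?_, ?_, hex⟩
  · by_contra hle
    push Not at hle
    obtain ⟨S⟩ : Nonempty (Sylow p ↥N) := inferInstance
    obtain ⟨T, hT, -⟩ := hex S
    haveI : Subsingleton (Sylow p ↥N) :=
      (Nat.card_eq_one_iff_unique.1 (le_antisymm hle Nat.card_pos)).1
    have hin : ∀ A : Sylow p G, (A : Subgroup G) ⊓ N ≤ T := by
      intro A a ha
      obtain ⟨S', hS'⟩ := ((A.isPGroup'.to_le (inf_le_left (b := N))).comap_of_injective N.subtype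
        Subtype.val_injective).exists_le_sylow
      rw [Subsingleton.elim S' S] at hS'
      exact hT ⟨⟨a, ha.2⟩, hS' (show a ∈ (A : Subgroup G) ⊓ N from ha), rfl⟩
    exact hPQ ((huniq _ P T hPN inf_le_left (hin P)).trans
      (huniq _ Q T hQN inf_le_left (hin Q)).symm)
  · intro S T hST
    obtain ⟨A, hA, -⟩ := hex S
    obtain ⟨B, hB, -⟩ := hex T
    refine le_antisymm ?_ (le_inf ((hDp.comap_of_injective N.subtype
      Subtype.val_injective).le_sylow_of_normal S) ((hDp.comap_of_injective N.subtype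
      Subtype.val_injective).le_sylow_of_normal T))
    have hAB : A ≠ B := by
      rintro rfl
      apply hST
      have hp := (A.isPGroup'.to_le (inf_le_left (b := N))).comap_of_injective N.subtype
        Subtype.val_injective
      exact Sylow.ext ((S.is_maximal' hp (fun s hs => ⟨hA ⟨s, hs, rfl⟩, s.2⟩)).symm.trans
        (T.is_maximal' hp (fun s hs => ⟨hB ⟨s, hs, rfl⟩, s.2⟩)))
    have hle : ((S : Subgroup ↥N) ⊓ (T : Subgroup ↥N)).map N.subtype ≤ D := by
      by_contra h
      have h1 : D < D ⊔ ((S : Subgroup ↥N) ⊓ (T : Subgroup ↥N)).map N.subtype :=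
        left_lt_sup.2 h
      exact hAB (huniq _ A B h1
        (sup_le ((hbig S).le.trans hA) ((Subgroup.map_mono inf_le_left).trans hA))
        (sup_le ((hbig T).le.trans hB) ((Subgroup.map_mono inf_le_right).trans hB)))
    intro x hx
    exact hle ⟨x, hx, rfl⟩

end Cfsg.Agent.S0986
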