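import Cfsg.Statements.S0987
import Cfsg.Agent.Small.SylowPrime

set_option autoImplicit false
open Cfsg

namespace Cfsg.Agent.S0987

/-- If a finite group has order pqr for primes p < q < r, then its Sylow r-subgroups are normal. -/
theorem result {G : Type*} [Group G] [Finite G] (p q r : ℕ) (hp : p.Prime) (hq : q.Prime) [Fact r.Prime] (hpq : p < q) (hqr : q < r) (hG : Nat.card G = p * q * r) (R : Sylow r G) : (R : Subgroup G).Normal := by
  classical
  haveI : Fact q.Prime := ⟨hq⟩
  have hr : r.Prime := Fact.out
  have hcop : ∀ {a b : ℕ}, a.Prime → b.Prime → a ≠ b → ¬ a ∣ b := fun ha hb h hd =>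
    h ((Nat.prime_dvd_prime_iff_eq ha hb).1 hd)
  have hNr : Nat.card G = r ^ 1 * (p * q) := by rw [hG]; ring
  have hNq : Nat.card G = q ^ 1 * (p * r) := by rw [hG]; ring
  have hmr : ¬ r ∣ p * q := fun h => (hr.dvd_mul.1 h).elim
    (hcop hr hp (by omega)) (hcop hr hq (by omega))
  have hmq : ¬ q ∣ p * r := fun h => (hq.dvd_mul.1 h).elim
    (hcop hq hp (by omega)) (hcop hq hr (by omega))
  have h1 : Nat.card (Sylow r G) = 1 := by
    by_contra hne
    -- all `pq` Sylow `r`-subgroups
    have hd := CfsgLib.Small.card_sylow_dvd hNr hmr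
    have hmod := CfsgLib.Small.card_sylow_mod (G := G) r
    have hnr : Nat.card (Sylow r G) = p * q := by
      obtain ⟨a, b, ha, hb, hab⟩ := exists_dvd_and_dvd_of_dvd_mul hd
      rw [hab] at hmod hne ⊢
      rcases (Nat.dvd_prime hp).1 ha with rfl | rfl <;> rcases (Nat.dvd_prime hq).1 hb with rfl | rfl
      · exact absurd rfl hne
      · rw [one_mul, Nat.mod_eq_of_lt hqr] at hmod; exact absurd hmod hq.one_lt.ne'
      · rw [mul_one, Nat.mod_eq_of_lt (by omega)] at hmod; exact absurd hmod hp.one_lt.ne'
      · rfl
    have hRc : ∀ A : Sylow r G, Nat.card (A : Subgroup G) = r := fun A => by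
      simpa using CfsgLib.Small.card_sylow_eq hNr hmr A
    have hQc : ∀ A : Sylow q G, Nat.card (A : Subgroup G) = q := fun A => by
      simpa using CfsgLib.Small.card_sylow_eq hNq hmq A
    -- there are at least `r` Sylow `q`-subgroups
    have hnq : r ≤ Nat.card (Sylow q G) := by
      have hd := CfsgLib.Small.card_sylow_dvd hNq hmq
      have hmod := CfsgLib.Small.card_sylow_mod (G := G) q
      obtain ⟨a, b, ha, hb, hab⟩ := exists_dvd_and_dvd_of_dvd_mul hd
      rw [hab] at hmod ⊢
      rcases (Nat.dvd_prime hr).1 hb with rfl | rfl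
      · exfalso
        rcases (Nat.dvd_prime hp).1 ha with rfl | rfl
        swap
        · rw [mul_one, Nat.mod_eq_of_lt hpq] at hmod; exact hp.one_lt.ne' hmod
        -- then `QR` has order `qr` and normalises `R`
        haveI : Subsingleton (Sylow q G) := (Nat.card_eq_one_iff_unique.1 (by rw [hab, one_mul])).1
        obtain ⟨Q⟩ : Nonempty (Sylow q G) := inferInstance
        haveI : (Q : Subgroup G).Normal := Sylow.normal_of_subsingleton Q
        set H := (R : Subgroup G) ⊔ (Q : Subgroup G) with hH
        have hHc : Nat.card H = r * q := by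
          have h := Subgroup.relIndex_mul_index (le_sup_left : (R : Subgroup G) ≤ H)
          have hd2 : Nat.card H ∣ r * q := by
            have hi := Subgroup.relIndex_sup_right (R : Subgroup G) (Q : Subgroup G)
            have hm := Subgroup.card_mul_index ((Q : Subgroup G).subgroupOf H)
            rw [Nat.card_congr (Subgroup.subgroupOfEquivOfLe (le_sup_right : (Q : Subgroup G) ≤ H)).toEquiv,
              hQc] at hm
            rw [← hm, mul_comm r q]
            refine Nat.mul_dvd_mul_left q ?_
            show (Q : Subgroup G).relIndex H ∣ r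
            rw [hH, hi]
            exact (Subgroup.index_dvd_card _).trans (dvd_of_eq (hRc R))
          refine Nat.dvd_antisymm hd2 (Nat.Coprime.mul_dvd_of_dvd_of_dvd
            ((Nat.coprime_primes hr hq).2 (by omega)) ?_ ?_)
          · exact (dvd_of_eq (hRc R).symm).trans (Subgroup.card_dvd_of_le le_sup_left)
          · exact (dvd_of_eq (hQc Q).symm).trans (Subgroup.card_dvd_of_le le_sup_right)
        have hone : Nat.card (Sylow r H) = 1 := by
          have hd := CfsgLib.Small.card_sylow_dvd (G := H) (k := 1) (m := q)
            (by rw [hHc, pow_one]) (hcop hr hq (by omega))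
          have hmod := CfsgLib.Small.card_sylow_mod (G := H) r
          rcases (Nat.dvd_prime hq).1 hd with h | h
          · exact h
          · rw [h, Nat.mod_eq_of_lt hqr] at hmod; exact absurd hmod hq.one_lt.ne'
        haveI : Subsingleton (Sylow r H) := (Nat.card_eq_one_iff_unique.1 hone).1
        haveI hn : ((R : Subgroup G).subgroupOf H).Normal := by
          have := Sylow.normal_of_subsingleton (R.subtype (le_sup_left : (R : Subgroup G) ≤ H))
          rwa [Sylow.coe_subtype] at this
        have hHN : H ≤ Subgroup.normalizer ((R : Subgroup G) : Set G) :=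
          Subgroup.normal_subgroupOf_iff_le_normalizer le_sup_left |>.1 hn
        have hcn := CfsgLib.Small.card_sylow_mul_card_normalizer R
        rw [hnr, hG] at hcn
        have hle := Subgroup.card_le_of_le hHN
        rw [hHc] at hle
        have : Nat.card (Subgroup.normalizer ((R : Subgroup G) : Set G)) = r :=
          Nat.eq_of_mul_eq_mul_left (Nat.mul_pos hp.pos hq.pos) (by rw [hcn])
        rw [this] at hle
        have := Nat.mul_le_mul_left r hq.two_le
        have := hr.two_le
        omega
      · rcases (Nat.dvd_prime hp).1 ha with rfl | rfl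
        · rw [one_mul]
        · exact Nat.le_mul_of_pos_left _ hp.pos
    -- count elements
    haveI := Fintype.ofFinite G
    have e1 := CfsgLib.Small.card_orderOf_eq_prime hRc
    have e2 := CfsgLib.Small.card_orderOf_eq_prime hQc
    rw [hnr] at e1
    have hsum : Nat.card {g : G // orderOf g = r} + Nat.card {g : G // orderOf g = q} < Nat.card G := by
      rw [← Nat.card_sum]
      rw [Nat.card_eq_fintype_card, Nat.card_eq_fintype_card]
      refine Fintype.card_lt_of_injective_of_notMem
        (Sum.elim Subtype.val Subtype.val) ?_ (b := 1) ?_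
      · apply Function.Injective.sumElim Subtype.val_injective Subtype.val_injective
        intro a b h
        exact absurd (a.2.symm.trans ((congrArg orderOf h).trans b.2)) (by omega)
      · rintro ⟨a | a, ha⟩ <;>
        · have h2 := a.2
          simp only [Sum.elim_inl, Sum.elim_inr] at ha
          rw [ha, orderOf_one] at h2
          first
            | exact hr.one_lt.ne h2
            | exact hq.one_lt.ne h2
    rw [e1, e2, hG] at hsum
    have h3 : r * (q - 1) ≤ Nat.card (Sylow q G) * (q - 1) := Nat.mul_le_mul_right _ hnq
    have h4 : p * q < r * (q - 1) := by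
      obtain ⟨q', rfl⟩ : ∃ q', q = q' + 1 := ⟨q - 1, by omega⟩
      rw [Nat.add_sub_cancel]
      calc p * (q' + 1) ≤ q' * (q' + 1) := Nat.mul_le_mul_right _ (by omega)
        _ < r * q' := by
          rw [mul_comm]
          exact Nat.mul_lt_mul_of_pos_right hqr (by have := hp.two_le; omega)
    have h5 : p * q * (r - 1) + p * q = p * q * r := by
      rw [← Nat.mul_succ, Nat.succ_eq_add_one, Nat.sub_add_cancel hr.pos]
    omega
  haveI : Subsingleton (Sylow r G) := (Nat.card_eq_one_iff_unique.1 h1).1
  exact Sylow.normal_of_subsingleton R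

end Cfsg.Agent.S0987
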