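import Cfsg.Statements.S0988
import Mathlib.GroupTheory.Perm.Cycle.Type
import Cfsg.Agent.Small.SylowPrime
import Cfsg.Agent.Characters.Burnside

set_option autoImplicit false
open Cfsg CfsgLib.Small

namespace Cfsg.Agent.S0988

theorem not_dvd_mul' {s a b : ℕ} (hs : s.Prime) (ha : a.Prime) (hb : b.Prime) (h1 : s ≠ a)
    (h2 : s ≠ b) : ¬ s ∣ a ^ 2 * b := fun h => by
  rcases hs.dvd_mul.1 h with h | h
  · exact h1 ((Nat.prime_dvd_prime_iff_eq hs ha).1 (hs.dvd_of_dvd_pow h))
  · exact h2 ((Nat.prime_dvd_prime_iff_eq hs hb).1 h)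

theorem le_of_forall_prime {G : Type*} {p q r s : ℕ} (hG : Nat.card G = p ^ 2 * q * r)
    (hp : p.Prime) (hq : q.Prime) (hr : r.Prime) (h1 : s ≤ p) (h2 : s ≤ q) (h3 : s ≤ r) :
    ∀ t : ℕ, t.Prime → t ∣ Nat.card G → s ≤ t := by
  intro t ht htd
  rw [hG] at htd
  rcases ht.dvd_mul.1 htd with h | h
  · rcases ht.dvd_mul.1 h with h | h
    · rwa [(Nat.prime_dvd_prime_iff_eq ht hp).1 (ht.dvd_of_dvd_pow h)]
    · rwa [(Nat.prime_dvd_prime_iff_eq ht hq).1 h]
  · rwa [(Nat.prime_dvd_prime_iff_eq ht hr).1 h]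

/-- No nonabelian simple group has Sylow subgroups of prime order for its smallest prime. -/
theorem prime_smallest_absurd {G : Type*} [Group G] [Finite G] [IsSimpleGroup G]
    (hns : ¬ IsMulCommutative G) {s m : ℕ} (hs : s.Prime) (hN : Nat.card G = s * m) (hm : ¬ s ∣ m)
    (hmin : ∀ t : ℕ, t.Prime → t ∣ Nat.card G → s ≤ t) : False := by
  haveI := Fact.mk hs
  obtain ⟨P⟩ : Nonempty (Sylow s G) := inferInstance
  have hP := card_sylow_eq (k := 1) (by rw [pow_one]; exact hN) hm P
  rw [pow_one] at hP
  haveI : IsCyclic P := isCyclic_of_prime_card hP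
  have hd : s ∣ Nat.card G := ⟨m, hN⟩
  have hmf : (Nat.card G).minFac = s := by
    refine le_antisymm (Nat.minFac_le_of_dvd hs.two_le hd) ?_
    refine hmin _ (Nat.minFac_prime ?_) (Nat.minFac_dvd _)
    exact (lt_of_lt_of_le hs.one_lt (Nat.le_of_dvd Nat.card_pos hd)).ne'
  exact not_normalizer_le_centralizer hns hd P (IsCyclic.normalizer_le_centralizer hmf inferInstance)

/-- An element of prime order `s > p`, `(p, s) ≠ (2, 3)`, normalising a group of order `p ^ 2`
centralises it. -/
theorem mem_centralizer_of_normalizes {G : Type*} [Group G] [Finite G] {p s : ℕ} [Fact p.Prime]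
    [Fact s.Prime] {P : Subgroup G} (hP : Nat.card P = p ^ 2) {x : G} (hx : orderOf x = s)
    (hxN : x ∈ Subgroup.normalizer (P : Set G)) (hlt : p < s) (hne : ¬ (p = 2 ∧ s = 3)) :
    x ∈ Subgroup.centralizer (P : Set G) := by
  classical
  have hp := (Fact.out : p.Prime)
  have hs := (Fact.out : s.Prime)
  haveI := Fintype.ofFinite ↥P
  let f : Function.End ↥P := fun a => ⟨x * a * x⁻¹, (Subgroup.mem_normalizer_iff.1 hxN a).1 a.2⟩
  have hpow : ∀ (j : ℕ) (a : ↥P), (((f ^ j) a : ↥P) : G) = x ^ j * a * (x ^ j)⁻¹ := by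
    intro j
    induction j with
    | zero => intro a; simp; rfl
    | succ j ih =>
      intro a
      rw [pow_succ']
      show x * (((f ^ j) a : ↥P) : G) * x⁻¹ = _
      rw [ih, pow_succ']
      group
  have hf : f ^ s ^ 1 = 1 := by
    funext a
    apply Subtype.ext
    rw [hpow, pow_one, ← hx, pow_orderOf_eq_one]
    simp
    rfl
  have hmod := Equiv.Perm.card_fixedPoints_modEq hf
  rw [← Nat.card_eq_fintype_card, ← Nat.card_eq_fintype_card, hP] at hmod
  have hfix : Nat.card (Function.fixedPoints f)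
      = Nat.card ↥((Subgroup.centralizer ({x} : Set G)).subgroupOf P) :=
    Nat.card_congr (Equiv.subtypeEquivRight fun a => by
      rw [Subgroup.mem_subgroupOf, Subgroup.mem_centralizer_singleton_iff]
      constructor
      · intro h
        have := congrArg Subtype.val (h : f a = a)
        exact (mul_inv_eq_iff_eq_mul.1 this).symm
      · intro h
        exact Subtype.ext (mul_inv_eq_iff_eq_mul.2 h.symm))
  rw [hfix] at hmod
  set D := (Subgroup.centralizer ({x} : Set G)).subgroupOf P
  obtain ⟨i, hi, hD⟩ := (Nat.dvd_prime_pow hp).1 (hP ▸ Subgroup.card_subgroup_dvd_card D)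
  rw [hD] at hmod
  have hi2 : i = 2 := by
    by_contra h
    have hdvd : s ∣ p ^ 2 - p ^ i :=
      (Nat.modEq_iff_dvd' (Nat.pow_le_pow_right hp.pos hi)).1 hmod.symm
    have hsp : ¬ s ∣ p := fun hd => (Nat.le_of_dvd hp.pos hd).not_gt hlt
    have hs1 : ¬ s ∣ p - 1 := fun hd => by
      have := Nat.le_of_dvd (by have := hp.two_le; omega) hd
      omega
    rcases (show i = 0 ∨ i = 1 by omega) with rfl | rfl
    · rw [pow_zero, show p ^ 2 - 1 = (p + 1) * (p - 1) by
        rw [← Nat.sq_sub_sq p 1, one_pow]] at hdvd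
      rcases hs.dvd_mul.1 hdvd with h' | h'
      · have := Nat.le_of_dvd (Nat.succ_pos p) h'
        have hsp1 : s = p + 1 := by omega
        rcases hp.eq_two_or_odd' with h2 | h2
        · exact hne ⟨h2, by omega⟩
        · obtain ⟨j, hj⟩ := h2
          rcases hs.eq_two_or_odd' with h2' | h2'
          · have := hp.two_le; omega
          · obtain ⟨j', hj'⟩ := h2'; omega
      · exact hs1 h'
    · rw [pow_one, show p ^ 2 - p = p * (p - 1) by rw [Nat.mul_sub, mul_one, sq]] at hdvd
      exact (hs.dvd_mul.1 hdvd).elim hsp hs1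
  rw [hi2] at hD
  have htop : D = ⊤ := Subgroup.eq_top_of_card_eq D (hD.trans hP.symm)
  rw [Subgroup.mem_centralizer_iff]
  intro a ha
  have hmem : (⟨a, ha⟩ : ↥P) ∈ D := htop ▸ Subgroup.mem_top _
  exact Subgroup.mem_centralizer_singleton_iff.1 (Subgroup.mem_subgroupOf.1 hmem)

/-- A nonabelian simple group of order `12 r`, `r > 3` prime, has order `60`. -/
theorem card_eq_sixty {G : Type*} [Group G] [Finite G] [IsSimpleGroup G]
    (hns : ¬ IsMulCommutative G) {r : ℕ} (hr : r.Prime) (hN : Nat.card G = 12 * r) (h3 : 3 < r) :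
    Nat.card G = 60 := by
  classical
  haveI := Fact.mk hr
  haveI : Fact (Nat.Prime 3) := ⟨by decide⟩
  have hr12 : ¬ r ∣ 12 := fun h => by
    have hle := Nat.le_of_dvd (by norm_num) h
    interval_cases r <;> revert hr h <;> decide
  have hs := card_sylow_mem hns (p := r) (k := 1) (m := 12) (by rw [hN, pow_one, mul_comm])
    one_ne_zero hr12
  rw [show Nat.divisors 12 = {1, 2, 3, 4, 6, 12} by decide, Finset.mem_filter] at hs
  obtain ⟨hd, hmod, h1⟩ := hs
  have hle : Nat.card (Sylow r G) ≤ 12 := by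
    simp only [Finset.mem_insert, Finset.mem_singleton] at hd
    omega
  have hlarge : r ≤ Nat.card (Sylow r G) := by
    by_contra hlt
    rw [Nat.mod_eq_of_lt (by omega)] at hmod
    exact h1 hmod
  have hr5 : r = 5 ∨ r = 11 := by
    simp only [Finset.mem_insert, Finset.mem_singleton] at hd
    have hrle : r ≤ 12 := by omega
    interval_cases r <;> first | omega | (revert hr; decide)
  rcases hr5 with rfl | rfl
  · exact hN
  exfalso
  have hN' : Nat.card G = 132 := hN
  have h3' := card_sylow_mem hns (p := 3) (k := 1) (m := 44) (by rw [hN']; norm_num) one_ne_zero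
    (by decide)
  rw [show (Nat.divisors 44).filter (fun d => d % 3 = 1 ∧ d ≠ 1) = {4, 22} by decide] at h3'
  simp only [Finset.mem_insert, Finset.mem_singleton] at h3'
  have hn11 : Nat.card (Sylow 11 G) = 12 := by
    simp only [Finset.mem_insert, Finset.mem_singleton] at hd
    omega
  rcases h3' with h4 | h22
  · have hf := two_mul_card_dvd_factorial_sylow hns (p := 3) (by rw [hN']; norm_num)
    rw [h4, hN'] at hf
    exact absurd hf (by decide)
  · have c11 := card_orderOf_eq_prime (G := G) (p := 11) fun P => by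
      have h := card_sylow_eq (k := 1) (m := 12) (by rw [hN']; norm_num) (by decide) P
      rw [pow_one] at h; exact h
    have c3 := card_orderOf_eq_prime (G := G) (p := 3) fun P => by
      have h := card_sylow_eq (k := 1) (m := 44) (by rw [hN']; norm_num) (by decide) P
      rw [pow_one] at h; exact h
    rw [hn11] at c11
    rw [h22] at c3
    have hle2 : Nat.card ({g : G // orderOf g = 11} ⊕ {g : G // orderOf g = 3}) ≤ Nat.card G := by
      refine Nat.card_le_card_of_injective (Sum.elim Subtype.val Subtype.val) ?_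
      rintro (a | a) (b | b) hab <;> simp only [Sum.elim_inl, Sum.elim_inr] at hab
      · exact congrArg Sum.inl (Subtype.ext hab)
      · exact absurd (a.2.symm.trans (hab ▸ b.2)) (by decide)
      · exact absurd (a.2.symm.trans (hab ▸ b.2)) (by decide)
      · exact congrArg Sum.inr (Subtype.ext hab)
    rw [Nat.card_sum, c11, c3, hN'] at hle2
    norm_num at hle2

/-- If a finite simple group has order p^2 * q * r with p, q and r prime, then its order is 60. -/
theorem result {G : Type*} [Group G] [Finite G] [IsSimpleGroup G] (p q r : ℕ) (hp : p.Prime) (hq : q.Prime) (hr : r.Prime) (hG : Nat.card G = p ^ 2 * q * r) : Nat.card G = 60 := by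
  classical
  have hsol : ∀ a b s t : ℕ, s.Prime → t.Prime → Nat.card G ∣ s ^ a * t ^ b → False := by
    intro a b s t hs ht h
    haveI := CfsgLib.Characters.isSolvable_of_card_eq_primePow_mul s t a b hs ht h
    have hc : IsMulCommutative G := ⟨⟨IsSimpleGroup.comm_iff_isSolvable.2 inferInstance⟩⟩
    have hP := card_prime_of_simple_comm hc
    rw [hG, mul_assoc, sq, mul_assoc] at hP
    rcases hP.isUnit_or_isUnit rfl with hu | hu
    · exact hp.ne_one (Nat.isUnit_iff.1 hu)
    · exact hp.ne_one ((mul_eq_one.1 (Nat.isUnit_iff.1 hu)).1)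
  have hns : ¬ IsMulCommutative G := by
    intro hc
    have hP := card_prime_of_simple_comm hc
    rw [hG, mul_assoc, sq, mul_assoc] at hP
    rcases hP.isUnit_or_isUnit rfl with hu | hu
    · exact hp.ne_one (Nat.isUnit_iff.1 hu)
    · exact hp.ne_one ((mul_eq_one.1 (Nat.isUnit_iff.1 hu)).1)
  have hqp : q ≠ p := fun h => hsol 3 1 p r hp hr (dvd_of_eq (by rw [hG, h]; ring))
  have hrp : r ≠ p := fun h => hsol 3 1 p q hp hq (dvd_of_eq (by rw [hG, h]; ring))
  have hqr : q ≠ r := fun h => hsol 2 2 p q hp hq (dvd_of_eq (by rw [hG, h]; ring))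
  have hpq : p < q := by
    rcases lt_trichotomy p q with h | h | h
    · exact h
    · exact absurd h.symm hqp
    · exfalso
      rcases lt_or_gt_of_ne hqr with h' | h'
      · exact prime_smallest_absurd hns hq (m := p ^ 2 * r) (by rw [hG]; ring)
          (not_dvd_mul' hq hp hr hqp hqr) (le_of_forall_prime hG hp hq hr h.le le_rfl h'.le)
      · exact prime_smallest_absurd hns hr (m := p ^ 2 * q) (by rw [hG]; ring)
          (not_dvd_mul' hr hp hq hrp hqr.symm)
          (le_of_forall_prime hG hp hq hr (h'.trans h).le h'.le le_rfl)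
  have hpr : p < r := by
    rcases lt_trichotomy p r with h | h | h
    · exact h
    · exact absurd h.symm hrp
    · exfalso
      exact prime_smallest_absurd hns hr (m := p ^ 2 * q) (by rw [hG]; ring)
        (not_dvd_mul' hr hp hq hrp hqr.symm)
        (le_of_forall_prime hG hp hq hr h.le (h.trans hpq).le le_rfl)
  by_cases h3 : p = 2 ∧ (q = 3 ∨ r = 3)
  · obtain ⟨rfl, h | h⟩ := h3
    · subst h
      exact card_eq_sixty hns hr (by rw [hG]; ring)
        (lt_of_le_of_ne hpr (fun h => hqr h)) 
    · subst h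
      exact card_eq_sixty hns hq (by rw [hG]; ring)
        (lt_of_le_of_ne hpq (fun h => hqr h.symm))
  exfalso
  -- otherwise the Sylow `p`-subgroup is centralised by its normaliser
  haveI := Fact.mk hp
  have hpm : ¬ p ∣ q * r := fun h => by
    rcases hp.dvd_mul.1 h with h | h
    · exact hqp ((Nat.prime_dvd_prime_iff_eq hp hq).1 h).symm
    · exact hrp ((Nat.prime_dvd_prime_iff_eq hp hr).1 h).symm
  obtain ⟨P⟩ : Nonempty (Sylow p G) := inferInstance
  have hP : Nat.card (P : Subgroup G) = p ^ 2 := card_sylow_eq (by rw [hG, mul_assoc]) hpm P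
  refine not_normalizer_le_centralizer hns ⟨p * q * r, by rw [hG]; ring⟩ P ?_
  set N := Subgroup.normalizer ((P : Subgroup G) : Set G)
  set C := Subgroup.centralizer ((P : Subgroup G) : Set G)
  haveI : IsMulCommutative ↥(P : Subgroup G) := IsPGroup.isMulCommutative_of_card_eq_prime_sq hP
  have hPC : (P : Subgroup G) ≤ C := Subgroup.le_centralizer _
  have key : ∀ s : ℕ, s.Prime → p < s → ¬ (p = 2 ∧ s = 3) → s ∣ Nat.card N →
      s ∣ Nat.card ↥(N ⊓ C) := by
    intro s hs hlt hne hdvd
    haveI := Fact.mk hs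
    obtain ⟨x, hx⟩ := exists_prime_orderOf_dvd_card' (G := N) s hdvd
    have hx' : orderOf (x : G) = s := by rw [Subgroup.orderOf_coe]; exact hx
    have hmem : (x : G) ∈ N ⊓ C := ⟨x.2, mem_centralizer_of_normalizes hP hx' x.2 hlt hne⟩
    exact hx' ▸ Subgroup.orderOf_dvd_natCard _ hmem
  have hcop : Nat.card N ∣ Nat.card ↥(N ⊓ C) := by
    have hN : Nat.card N ∣ p ^ 2 * (q * r) := by
      rw [← mul_assoc, ← hG]; exact Subgroup.card_subgroup_dvd_card N
    have hN0 : Nat.card N ≠ 0 := Nat.card_pos.ne'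
    rw [← Nat.factorization_le_iff_dvd hN0 Nat.card_pos.ne']
    intro s
    by_cases hs : s.Prime
    swap
    · simp [Nat.factorization_eq_zero_of_not_prime _ hs]
    rcases Nat.eq_zero_or_pos ((Nat.card N).factorization s) with h0 | h0
    · simp [h0]
    have hsN : s ∣ Nat.card N := Nat.dvd_of_factorization_pos h0.ne'
    rw [← hs.pow_dvd_iff_le_factorization Nat.card_pos.ne']
    rcases hs.dvd_mul.1 (hsN.trans hN) with h | h
    · have hsp : s = p := (Nat.prime_dvd_prime_iff_eq hs hp).1 (hs.dvd_of_dvd_pow h)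
      subst hsp
      refine dvd_trans (pow_dvd_pow s ?_) (hP ▸ Subgroup.card_dvd_of_le
        (le_inf Subgroup.le_normalizer hPC))
      rw [← Nat.factorization_le_iff_dvd hN0 (by simp [hp.ne_zero, hq.ne_zero, hr.ne_zero])] at hN
      refine (hN s).trans (le_of_eq ?_)
      rw [Nat.factorization_mul (by simp [hp.ne_zero]) (by simp [hq.ne_zero, hr.ne_zero]),
        Finsupp.add_apply, Nat.factorization_eq_zero_of_not_dvd hpm, add_zero,
        hp.factorization_pow, Finsupp.single_eq_same]
    · have hle : (Nat.card N).factorization s ≤ 1 := by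
        rw [← Nat.factorization_le_iff_dvd hN0 (by simp [hp.ne_zero, hq.ne_zero, hr.ne_zero])] at hN
        refine (hN s).trans ?_
        have hsp : s ≠ p := fun e => hpm (e ▸ h)
        rw [Nat.factorization_mul (by simp [hp.ne_zero]) (by simp [hq.ne_zero, hr.ne_zero]),
          Finsupp.add_apply, Nat.factorization_mul hq.ne_zero hr.ne_zero, Finsupp.add_apply,
          hp.factorization_pow, hq.factorization, hr.factorization]
        simp only [Finsupp.single_apply]
        split_ifs <;> omega
      refine dvd_trans (pow_dvd_pow s hle) ?_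
      rw [pow_one]
      rcases hs.dvd_mul.1 h with h' | h'
      · have := (Nat.prime_dvd_prime_iff_eq hs hq).1 h'
        subst this
        exact key _ hs hpq (fun e => h3 ⟨e.1, Or.inl e.2⟩) hsN
      · have := (Nat.prime_dvd_prime_iff_eq hs hr).1 h'
        subst this
        exact key _ hs hpr (fun e => h3 ⟨e.1, Or.inr e.2⟩) hsN
  exact inf_eq_left.1 (Subgroup.eq_of_le_of_card_ge inf_le_left (Nat.le_of_dvd Nat.card_pos hcop))

end Cfsg.Agent.S0988
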