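import Cfsg.Statements.S0989
import Mathlib.GroupTheory.Perm.Centralizer
import Cfsg.Agent.Small.SylowPrime

set_option autoImplicit false
open Cfsg

namespace Cfsg.Agent.S0989

/-- In the symmetric group on p or p + 1 letters, p a prime, the normalizer of a Sylow p-subgroup has order p * (p - 1). -/
theorem result {α : Type*} [Fintype α] [DecidableEq α] (p : ℕ) [Fact p.Prime] (hα : Fintype.card α = p ∨ Fintype.card α = p + 1) (P : Sylow p (Equiv.Perm α)) : Nat.card ↥(Subgroup.normalizer ((P : Subgroup (Equiv.Perm α)) : Set (Equiv.Perm α))) = p * (p - 1) := by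
  classical
  have hp := (Fact.out : p.Prime)
  obtain ⟨m, hm, hnm⟩ : ∃ m : ℕ, ¬ p ∣ m ∧ Nat.card (Equiv.Perm α) = p ^ 1 * m := by
    rw [Nat.card_perm, Nat.card_eq_fintype_card]
    refine ⟨(Fintype.card α).factorial / p, ?_, ?_⟩
    · intro h
      have hdvd : p ^ 2 ∣ (Fintype.card α).factorial := by
        rw [sq]
        exact Nat.mul_dvd_of_dvd_div (Nat.dvd_factorial hp.pos (by omega)) h
      obtain ⟨m', hm', hmv⟩ : ∃ m', ¬ p ∣ m' ∧ (Fintype.card α).factorial = p * m' := by
        have hpm : ¬ p ∣ (p - 1).factorial := fun h => by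
          have := (Nat.Prime.dvd_factorial hp).1 h
          have := hp.two_le
          omega
        rcases hα with h | h
        · exact ⟨(p - 1).factorial, hpm, by rw [h, Nat.mul_factorial_pred hp.ne_zero]⟩
        · refine ⟨(p + 1) * (p - 1).factorial, fun hd => ?_, ?_⟩
          · rcases hp.dvd_mul.1 hd with h1 | h1
            · exact hp.one_lt.ne' (Nat.dvd_one.1 ((Nat.dvd_add_iff_right dvd_rfl).2 h1))
            · exact hpm h1
          · rw [h, Nat.factorial_succ, ← Nat.mul_factorial_pred hp.ne_zero]; ring
      rw [hmv, sq] at hdvd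
      exact hm' ((Nat.mul_dvd_mul_iff_left hp.pos).1 hdvd)
    · rw [pow_one, Nat.mul_div_cancel' (Nat.dvd_factorial hp.pos (by omega))]
  have hPc : ∀ Q : Sylow p (Equiv.Perm α), Nat.card (Q : Subgroup (Equiv.Perm α)) = p := fun Q => by
    simpa using CfsgLib.Small.card_sylow_eq hnm hm Q
  have hcyc : ∀ g : Equiv.Perm α, orderOf g = p ↔ g.cycleType = {p} := by
    intro g
    constructor
    · intro h
      obtain ⟨n, hn⟩ := Equiv.Perm.cycleType_prime_order (σ := g) (by rw [h]; exact hp)
      rw [h] at hn
      have hs := g.support.card_le_univ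
      rw [← Equiv.Perm.sum_cycleType, hn, Multiset.sum_replicate, smul_eq_mul] at hs
      have hn0 : n = 0 := by
        by_contra h0
        have h2 : 2 * p ≤ (n + 1) * p := Nat.mul_le_mul_right _ (by omega)
        have := hp.two_le
        omega
      rw [hn, hn0]
      rfl
    · intro h
      rw [← Equiv.Perm.lcm_cycleType, h, Multiset.lcm_singleton]
      simp
  have hcount := CfsgLib.Small.card_orderOf_eq_prime hPc
  rw [Nat.card_congr (Equiv.subtypeEquivRight hcyc), Nat.card_eq_fintype_card,
    Fintype.card_subtype] at hcount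
  have hform := Equiv.Perm.card_of_cycleType_mul_eq α {p}
  rw [if_pos ⟨by simp; omega, by simp [hp.two_le]⟩, hcount] at hform
  simp only [Multiset.sum_singleton, Multiset.prod_singleton, Multiset.toFinset_singleton,
    Finset.prod_singleton, Multiset.count_singleton_self, Nat.factorial_one, mul_one] at hform
  have hfac : (Fintype.card α - p).factorial = 1 := by
    rcases hα with h | h <;> simp [h]
  rw [hfac, one_mul] at hform
  have hN := CfsgLib.Small.card_sylow_mul_card_normalizer P
  rw [Nat.card_perm, Nat.card_eq_fintype_card (α := α), ← hform] at hN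
  refine Nat.eq_of_mul_eq_mul_left (Nat.card_pos (α := Sylow p (Equiv.Perm α))) (hN.trans ?_)
  ring

end Cfsg.Agent.S0989
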