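import Cfsg.Statements.S0990
import Mathlib.GroupTheory.SpecificGroups.Alternating
import Mathlib.GroupTheory.Sylow
import Mathlib.Tactic

set_option autoImplicit false
open Cfsg

namespace Cfsg.Agent.S0990

/-- Let p be an odd prime and P a Sylow p-subgroup of the symmetric group on a finite set with at least two elements. Then P is contained in the alternating group, and twice the order of the normalizer of P inside the alternating group equals the order of the normalizer of P in the symmetric group. -/
theorem result {α : Type*} [Fintype α] [DecidableEq α] (hα : 2 ≤ Fintype.card α) (p : ℕ) [Fact p.Prime] (hp : p ≠ 2) (P : Sylow p (Equiv.Perm α)) : (P : Subgroup (Equiv.Perm α)) ≤ alternatingGroup α ∧ 2 * Nat.card ↥(Subgroup.normalizer ((((P : Subgroup (Equiv.Perm α)).subgroupOf (alternatingGroup α) : Subgroup ↥(alternatingGroup α)) : Set ↥(alternatingGroup α)))) = Nat.card ↥(Subgroup.normalizer ((P : Subgroup (Equiv.Perm α)) : Set (Equiv.Perm α))) := by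
  classical
  haveI : Nontrivial α := Fintype.one_lt_card_iff_nontrivial.1 hα
  set A := alternatingGroup α with hA
  have hPA : (P : Subgroup (Equiv.Perm α)) ≤ A := by
    intro g hg
    rw [hA, Equiv.Perm.mem_alternatingGroup]
    obtain ⟨k, hk⟩ := P.isPGroup' ⟨g, hg⟩
    have hk' : g ^ p ^ k = 1 := by simpa using congrArg Subtype.val hk
    have h1 := congrArg Equiv.Perm.sign hk'
    rw [map_pow, map_one] at h1
    rcases Int.units_eq_one_or (Equiv.Perm.sign g) with h2 | h2
    · exact h2
    · exfalso
      rw [h2, ((Fact.out : p.Prime).odd_of_ne_two hp).pow.neg_one_pow] at h1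
      exact absurd h1 (by decide)
  refine ⟨hPA, ?_⟩
  set N := Subgroup.normalizer ((P : Subgroup (Equiv.Perm α)) : Set (Equiv.Perm α)) with hN
  have hsub : Subgroup.normalizer ((((P : Subgroup (Equiv.Perm α)).subgroupOf A : Subgroup ↥A)) : Set ↥A)
      = N.subgroupOf A := by
    ext a
    rw [Subgroup.mem_subgroupOf, hN, Subgroup.mem_normalizer_iff, Subgroup.mem_normalizer_iff]
    constructor
    · intro h x
      constructor
      · intro hx
        exact (h ⟨x, hPA hx⟩).1 hx
      · intro hx
        have hxA : x ∈ A := by
          have := mul_mem (mul_mem (inv_mem a.2) (hPA hx)) a.2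
          simpa [mul_assoc] using this
        exact (h ⟨x, hxA⟩).2 hx
    · intro h x
      exact h x
  rw [hsub]
  have hsup : A ⊔ N = ⊤ := by
    rw [sup_comm]
    exact Sylow.normalizer_sup_eq_top' P hPA
  have hidx : A.relIndex N = 2 := by
    rw [← Subgroup.relIndex_sup_right (H := N) (K := A), sup_comm, hsup, Subgroup.relIndex_top_right]
    exact alternatingGroup.index_eq_two
  have hmul := Subgroup.card_mul_index (A.subgroupOf N)
  rw [show (A.subgroupOf N).index = 2 from hidx] at hmul
  have he : Nat.card ↥(A.subgroupOf N) = Nat.card ↥(N.subgroupOf A) := by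
    rw [← Subgroup.inf_subgroupOf_right A N, ← Subgroup.inf_subgroupOf_right N A,
      Nat.card_congr (Subgroup.subgroupOfEquivOfLe (inf_le_right : A ⊓ N ≤ N)).toEquiv,
      Nat.card_congr (Subgroup.subgroupOfEquivOfLe (inf_le_right : N ⊓ A ≤ A)).toEquiv, inf_comm]
  rw [← he, mul_comm]
  exact hmul

end Cfsg.Agent.S0990
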