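import Cfsg.Statements.S0994
import Cfsg.Agent.Small.SimpleTools

set_option autoImplicit false
open Cfsg

namespace Cfsg.Agent.S0994

/-- No finite simple group has order 1188 = 2^2 * 3^3 * 11. -/
theorem result {G : Type*} [Group G] [Finite G] [IsSimpleGroup G] : Nat.card G ≠ 1188 := by
  intro hN
  by_cases hG : IsMulCommutative G
  · have hp := CfsgLib.Small.card_prime_of_simple_comm hG
    rw [hN] at hp; norm_num at hp
  haveI : Fact (Nat.Prime 11) := ⟨by norm_num⟩
  have hmem := CfsgLib.Small.card_sylow_mem hG (p := 11) (k := 1) (m := 108)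
    (by rw [hN]; rfl) one_ne_zero (by norm_num)
  rw [show (Nat.divisors 108).filter (fun d => d % 11 = 1 ∧ d ≠ 1) = {12} by decide,
    Finset.mem_singleton] at hmem
  obtain ⟨P⟩ : Nonempty (Sylow 11 G) := inferInstance
  have hPc : Nat.card (P : Subgroup G) = 11 := by
    simpa using CfsgLib.Small.card_sylow_eq (k := 1) (m := 108) (by rw [hN]; rfl) (by norm_num) P
  refine CfsgLib.Small.false_of_coprime_normalizer hG P hPc ?_
  have h := CfsgLib.Small.card_sylow_mul_card_normalizer P
  rw [hmem, hN] at h
  rw [show Nat.card (Subgroup.normalizer ((P : Subgroup G) : Set G)) = 99 by omega]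
  norm_num

end Cfsg.Agent.S0994
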