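import Cfsg.Statements.S0995
import Cfsg.Agent.Small.SylowPrime
import Cfsg.Agent.Small.Counting

set_option autoImplicit false
open Cfsg

namespace Cfsg.Agent.S0995

/-- Let G be a finite perfect group containing an element z of prime order p whose centralizer is the cyclic group it generates. Let t be the number of conjugacy classes of elements of order p. Then t divides p - 1, the number of Sylow p-subgroups has the form 1 + n * p, and |G| * t = (p - 1) * p * (1 + n * p). -/
theorem result {G : Type*} [Group G] [Finite G] (hperf : commutator G = ⊤) (p : ℕ) [Fact p.Prime] (z : G) (hz : orderOf z = p) (hC : Subgroup.centralizer ({z} : Set G) = Subgroup.zpowers z) : ∃ n t : ℕ, t = Nat.card {c : ConjClasses G // ∃ g : G, ConjClasses.mk g = c ∧ orderOf g = p} ∧ t ∣ p - 1 ∧ Nat.card (Sylow p G) = 1 + n * p ∧ Nat.card G * t = (p - 1) * p * (1 + n * p) := by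
  classical
  haveI := Fintype.ofFinite G
  have hp := (Fact.out : p.Prime)
  have hzc : Nat.card (Subgroup.zpowers z) = p := by rw [Nat.card_zpowers, hz]
  -- the Sylow subgroups have order `p`
  obtain ⟨P₀, hP₀⟩ := (IsPGroup.of_card (n := 1) (by rw [hzc, pow_one]) :
    IsPGroup p ↥(Subgroup.zpowers z)).exists_le_sylow
  have hP0 : (P₀ : Subgroup G) = Subgroup.zpowers z := by
    refine le_antisymm ?_ hP₀
    haveI : Nontrivial ↥(P₀ : Subgroup G) := ⟨⟨⟨z, hP₀ (Subgroup.mem_zpowers z)⟩, 1, fun h => by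
      have h' : z = 1 := congrArg Subtype.val h
      rw [h', orderOf_one] at hz
      exact hp.one_lt.ne hz⟩⟩
    have hZ : Nontrivial (Subgroup.center ↥(P₀ : Subgroup G)) := P₀.isPGroup'.center_nontrivial
    obtain ⟨w, hw⟩ := exists_ne (1 : Subgroup.center ↥(P₀ : Subgroup G))
    have hwz : ((w : ↥(P₀ : Subgroup G)) : G) ∈ Subgroup.zpowers z := hC ▸
      Subgroup.mem_centralizer_singleton_iff.2
        (congrArg Subtype.val (Subgroup.mem_center_iff.1 w.2 ⟨z, hP₀ (Subgroup.mem_zpowers z)⟩)).symm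
    have hgen := CfsgLib.Small.eq_zpowers_of_mem_prime hzc hwz
      (fun h => hw (Subtype.ext (Subtype.ext h)))
    intro a ha
    rw [← hC, Subgroup.mem_centralizer_singleton_iff]
    obtain ⟨k, hk⟩ := (hgen.symm ▸ Subgroup.mem_zpowers z :
      z ∈ Subgroup.zpowers ((w : ↥(P₀ : Subgroup G)) : G))
    have hc := congrArg Subtype.val (Subgroup.mem_center_iff.1 w.2 ⟨a, ha⟩)
    rw [← hk]
    exact (Commute.zpow_right (hc : Commute a _) k).eq
  have hPc : ∀ P : Sylow p G, Nat.card (P : Subgroup G) = p := fun P =>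
    (Nat.card_congr (P.equiv P₀).toEquiv).trans (by rw [hP0, hzc])
  -- centralisers of elements of order `p` have order `p`
  have hcent : ∀ y : G, orderOf y = p →
      Nat.card (Subgroup.centralizer ({y} : Set G)) = p := by
    intro y hy
    obtain ⟨Q, hQ⟩ := (IsPGroup.of_card (n := 1) (by rw [Nat.card_zpowers, hy, pow_one]) :
      IsPGroup p ↥(Subgroup.zpowers y)).exists_le_sylow
    obtain ⟨g, hg⟩ := MulAction.exists_smul_eq G Q P₀
    have hmem : g * y * g⁻¹ ∈ Subgroup.zpowers z := by
      have h : MulAut.conj g y ∈ g • (Q : Sylow p G) := ⟨y, hQ (Subgroup.mem_zpowers y), rfl⟩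
      rw [hg] at h
      exact hP0.le h
    have hne : g * y * g⁻¹ ≠ 1 := fun h => by
      rw [conj_eq_one_iff.1 h, orderOf_one] at hy; exact hp.one_lt.ne hy
    have hgen := CfsgLib.Small.eq_zpowers_of_mem_prime hzc hmem hne
    rw [← hzc, ← hC]
    refine Nat.card_congr ((MulAut.conj g).toEquiv.subtypeEquiv fun a => ?_)
    show _ ↔ g * a * g⁻¹ ∈ Subgroup.centralizer ({z} : Set G)
    rw [Subgroup.mem_centralizer_singleton_iff, Subgroup.mem_centralizer_singleton_iff]
    constructor
    · intro h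
      obtain ⟨k, hk⟩ := (hgen.symm ▸ Subgroup.mem_zpowers z : z ∈ Subgroup.zpowers (g * y * g⁻¹))
      rw [← hk]
      refine ((Commute.zpow_right (?_ : Commute (g * a * g⁻¹) (g * y * g⁻¹)) k)).eq
      show _ = _
      rw [conj_mul, conj_mul, h]
    · intro h
      obtain ⟨k, hk⟩ := hmem
      have hc : Commute (g * a * g⁻¹) (g * y * g⁻¹) := hk ▸ Commute.zpow_right h k
      have hc' := hc.eq
      rw [conj_mul, conj_mul] at hc'
      exact mul_left_cancel (mul_right_cancel hc')
  have hdvd : p ∣ Nat.card G := hz ▸ orderOf_dvd_natCard z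
  set t := Nat.card {c : ConjClasses G // ∃ g : G, ConjClasses.mk g = c ∧ orderOf g = p} with ht
  -- count the elements of order `p` by classes
  haveI : Fintype {c : ConjClasses G // ∃ g : G, ConjClasses.mk g = c ∧ orderOf g = p} :=
    Fintype.ofFinite _
  have hord : ∀ g h : G, IsConj g h → orderOf g = orderOf h := by
    intro g h hc
    obtain ⟨a, rfl⟩ := isConj_iff.1 hc
    rw [CfsgLib.Small.orderOf_conj_eq]
  have hkey : Nat.card {g : G // orderOf g = p} * p = t * Nat.card G := by
    have e : {g : G // orderOf g = p} ≃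
        Σ c : {c : ConjClasses G // ∃ g : G, ConjClasses.mk g = c ∧ orderOf g = p},
          {g : G // ConjClasses.mk g = c.1} :=
      { toFun := fun g => ⟨⟨ConjClasses.mk g.1, g.1, rfl, g.2⟩, ⟨g.1, rfl⟩⟩
        invFun := fun s => ⟨s.2.1, by
          obtain ⟨⟨c, g, hg, hgo⟩, ⟨h, hh⟩⟩ := s
          rw [← hord g h (ConjClasses.mk_eq_mk_iff_isConj.1 (hg.trans hh.symm)), hgo]⟩
        left_inv := fun g => rfl
        right_inv := fun s => Sigma.subtype_ext (Subtype.ext s.2.2) rfl }
    rw [Nat.card_congr e, Nat.card_sigma, Finset.sum_mul, ht,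
      Nat.card_eq_fintype_card (α := {c : ConjClasses G // ∃ g : G, ConjClasses.mk g = c ∧ orderOf g = p}),
      ← Finset.card_univ, ← smul_eq_mul, ← Finset.sum_const]
    refine Finset.sum_congr rfl ?_
    rintro ⟨c, g, rfl, hg⟩ -
    rw [← CfsgLib.Small.card_conjugates_mul_card_centralizer g, hcent g hg]
    congr 1
    exact Nat.card_congr (Equiv.subtypeEquivRight fun h => by
      rw [ConjClasses.mk_eq_mk_iff_isConj, isConj_comm])
  rw [CfsgLib.Small.card_orderOf_eq_prime hPc] at hkey
  have hmod := CfsgLib.Small.card_sylow_mod (G := G) p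
  obtain ⟨n, hn⟩ : ∃ n, Nat.card (Sylow p G) = 1 + n * p :=
    ⟨Nat.card (Sylow p G) / p, by
      have := Nat.div_add_mod (Nat.card (Sylow p G)) p
      rw [hmod] at this
      linarith⟩
  refine ⟨n, t, rfl, ?_, hn, ?_⟩
  · -- `t` divides `p - 1`
    have hN := CfsgLib.Small.card_sylow_mul_card_normalizer P₀
    rw [← hN] at hkey
    have h2 : (p - 1) * p = t * Nat.card (Subgroup.normalizer ((P₀ : Subgroup G) : Set G)) :=
      Nat.eq_of_mul_eq_mul_left (Nat.card_pos (α := Sylow p G)) (by rw [← mul_assoc, hkey]; ring)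
    obtain ⟨f, hf⟩ : p ∣ Nat.card (Subgroup.normalizer ((P₀ : Subgroup G) : Set G)) :=
      (dvd_of_eq (hPc P₀).symm).trans (Subgroup.card_dvd_of_le Subgroup.le_normalizer)
    rw [hf] at h2
    exact ⟨f, Nat.eq_of_mul_eq_mul_right hp.pos (by rw [h2]; ring)⟩
  · rw [mul_comm, ← hkey, hn]
    ring

end Cfsg.Agent.S0995
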