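import Cfsg.Statements.S1002
import Cfsg.Agent.Small.DegreeSmall

set_option autoImplicit false
open Cfsg CfsgLib.Small

namespace Cfsg.Agent.S1002

/-- No finite simple group has order 1004913 = 3^3 * 7 * 13 * 409. -/
theorem result {G : Type*} [Group G] [Finite G] [IsSimpleGroup G] : Nat.card G ≠ 1004913 := by
  intro hN
  classical
  have hG := not_comm_of_card hN (by norm_num)
  haveI : Fact (Nat.Prime 409) := ⟨by norm_num⟩
  obtain ⟨P⟩ : Nonempty (Sylow 409 G) := inferInstance
  have hP : Nat.card (P : Subgroup G) = 409 := by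
    simpa using card_sylow_eq (k := 1) (m := 2457) (by rw [hN]; norm_num) (by norm_num) P
  have hn := card_sylow_mem hG (p := 409) (k := 1) (m := 2457) (by rw [hN]; norm_num) one_ne_zero
    (by norm_num)
  rw [show (Nat.divisors 2457).filter (fun d => d % 409 = 1 ∧ d ≠ 1) = {819} by decide +kernel,
    Finset.mem_singleton] at hn
  have hNn := card_sylow_mul_card_normalizer P
  rw [hn, hN] at hNn
  have hNc : Nat.card (Subgroup.normalizer ((P : Subgroup G) : Set G)) = 409 * 3 := by omega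
  have hC := Degree.centralizer_eq_of_relIndex hG P hP hNc (by decide +kernel)
  obtain ⟨s, s', σ, θ, θ', d, hs, hs', hσ, heq, ⟨hθ1, hθN, hθp⟩, ⟨hθ1', hθN', hθp'⟩, hd1, hdN, hdp,
    hsum⟩ := Degree.degree_three hG (P : Subgroup G) hP hC 136 hNc (by norm_num) (by norm_num)
  rw [hN] at hθN hθN' hdN hsum
  push_cast at hdp hθp hθp'
  have key : ∀ (x : ℕ) (t : ℤ), 1 < x → x ∣ 1004913 → (409 : ℤ) ∣ (x : ℤ) - t → (t = 1 ∨ t = -1) →
      x * x < 1004913 → x = 819 ∧ t = 1 := by
    intro x t h1 h2 h3 h4 h5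
    have hx : x < 1003 := by nlinarith
    rcases (show x = 408 ∨ x = 410 ∨ x = 817 ∨ x = 819 by rcases h4 with rfl | rfl <;> omega)
      with rfl | rfl | rfl | rfl <;> rcases h4 with rfl | rfl <;>
      first
      | exact ⟨rfl, rfl⟩
      | norm_num at *
  obtain ⟨rfl, rfl⟩ := key θ s hθ1 hθN hθp hs (by omega)
  obtain ⟨rfl, rfl⟩ := key θ' s' hθ1' hθN' hθp' hs' (by omega)
  omega

end Cfsg.Agent.S1002
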