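import Cfsg.Statements.S1005
import Cfsg.Agent.Small.Order168Subgroups

set_option autoImplicit false
open Cfsg

namespace Cfsg.Agent.S1005

/-- In a simple group of order 168 every element has order 1, 2, 3, 4 or 7; there are exactly 21 elements of order 2, and any two of them are conjugate. -/
theorem result {G : Type*} [Group G] [Finite G] [IsSimpleGroup G] (h : Nat.card G = 168) : (∀ g : G, orderOf g = 1 ∨ orderOf g = 2 ∨ orderOf g = 3 ∨ orderOf g = 4 ∨ orderOf g = 7) ∧ Nat.card {g : G // orderOf g = 2} = 21 ∧ ∀ s t : G, orderOf s = 2 → orderOf t = 2 → IsConj s t := by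
  haveI : Fact (Nat.Prime 2) := ⟨Nat.prime_two⟩
  refine ⟨CfsgLib.Small.Order168.orderOf_mem h, ?_,
    fun s t hs ht => CfsgLib.Small.Order168.isConj_invol h hs ht⟩
  obtain ⟨t, ht⟩ := exists_prime_orderOf_dvd_card' (G := G) 2 (by rw [h]; norm_num)
  have h1 := CfsgLib.Small.card_conjugates_mul_card_centralizer (G := G) t
  rw [CfsgLib.Small.Order168.card_centralizer_invol h ht, h] at h1
  have h2 : Nat.card {g : G // orderOf g = 2} = Nat.card {g : G // IsConj t g} := by
    refine Nat.card_congr (Equiv.subtypeEquivRight fun g => ⟨fun hg => CfsgLib.Small.Order168.isConj_invol h ht hg, fun hg => ?_⟩)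
    obtain ⟨c, rfl⟩ := isConj_iff.1 hg
    rw [CfsgLib.Small.orderOf_conj_eq, ht]
  omega

end Cfsg.Agent.S1005
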