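import Cfsg.Statements.S1006
import Cfsg.Agent.Small.Order168Subgroups

set_option autoImplicit false
open Cfsg

namespace Cfsg.Agent.S1006

/-- In a simple group of order 168 there are 56 elements of order 3, all conjugate; 42 elements of order 4, all conjugate; and 48 elements of order 7 falling into two conjugacy classes of size 24, an element of order 7 not being conjugate to its inverse. -/
theorem result {G : Type*} [Group G] [Finite G] [IsSimpleGroup G] (h : Nat.card G = 168) : Nat.card {g : G // orderOf g = 3} = 56 ∧ (∀ s t : G, orderOf s = 3 → orderOf t = 3 → IsConj s t) ∧ Nat.card {g : G // orderOf g = 4} = 42 ∧ (∀ s t : G, orderOf s = 4 → orderOf t = 4 → IsConj s t) ∧ Nat.card {g : G // orderOf g = 7} = 48 ∧ ∀ x : G, orderOf x = 7 → Nat.card {g : G // IsConj x g} = 24 ∧ ¬ IsConj x x⁻¹ := by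
  classical
  haveI : Fact (Nat.Prime 2) := ⟨Nat.prime_two⟩
  haveI : Fact (Nat.Prime 3) := ⟨Nat.prime_three⟩
  haveI : Fact (Nat.Prime 7) := ⟨by norm_num⟩
  have hord : ∀ (x : G) (g : {g : G // IsConj x g}), orderOf g.1 = orderOf x := by
    rintro x ⟨g, hg⟩
    obtain ⟨c, rfl⟩ := isConj_iff.1 hg
    exact CfsgLib.Small.orderOf_conj_eq c x
  -- a class filling all elements of its order
  have hfull : ∀ (k : ℕ) (x : G), orderOf x = k →
      Nat.card {g : G // orderOf g = k} ≤ Nat.card {g : G // IsConj x g} →
      ∀ s : G, orderOf s = k → IsConj x s := by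
    intro k x hx hle s hs
    let f : {g : G // IsConj x g} → {g : G // orderOf g = k} := fun g => ⟨g.1, (hord x g).trans hx⟩
    have hf : Function.Injective f := fun a b he => Subtype.ext (congrArg Subtype.val he :)
    obtain ⟨a, ha⟩ := (hf.bijective_of_nat_card_le hle).2 ⟨s, hs⟩
    have hav : a.1 = s := congrArg Subtype.val ha
    exact hav ▸ a.2
  have h3 : Nat.card {g : G // orderOf g = 3} = 56 := by
    rw [CfsgLib.Small.card_orderOf_eq_prime (CfsgLib.Small.Order168.card_P3 h),
      CfsgLib.Small.Order168.card_sylow3 h]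
  have h7 : Nat.card {g : G // orderOf g = 7} = 48 := by
    rw [CfsgLib.Small.card_orderOf_eq_prime (CfsgLib.Small.Order168.card_P7 h),
      CfsgLib.Small.Order168.card_sylow7 h]
  have hc3 : ∀ x : G, orderOf x = 3 → Nat.card {g : G // IsConj x g} = 56 := by
    intro x hx
    have := CfsgLib.Small.card_conjugates_mul_card_centralizer (G := G) x
    rw [CfsgLib.Small.Order168.card_centralizer_three h hx, h] at this
    omega
  have hc7 : ∀ x : G, orderOf x = 7 → Nat.card {g : G // IsConj x g} = 24 := by
    intro x hx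
    have := CfsgLib.Small.card_conjugates_mul_card_centralizer (G := G) x
    rw [CfsgLib.Small.Order168.card_centralizer_seven h hx, h] at this
    omega
  have hc4 : ∀ y : G, orderOf y = 4 → Nat.card (Subgroup.centralizer ({y} : Set G)) = 4 := by
    intro y hy
    have hy2 : orderOf (y ^ 2) = 2 := by rw [orderOf_pow' y two_ne_zero, hy]; rfl
    obtain ⟨T, hT⟩ := CfsgLib.Small.Order168.exists_sylow_eq_centralizer h hy2
    obtain ⟨e⟩ := CfsgLib.Small.Order168.nonempty_dihedral h T
    have hyT : y ∈ (T : Subgroup G) := by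
      rw [hT]; exact Subgroup.mem_centralizer_singleton_iff.2 ((Commute.refl y).pow_right 2).eq
    have hle : Subgroup.centralizer ({y} : Set G) ≤ (T : Subgroup G) := by
      intro a ha
      rw [hT]
      exact Subgroup.mem_centralizer_singleton_iff.2
        ((show Commute a y from Subgroup.mem_centralizer_singleton_iff.1 ha).pow_right 2).eq
    have key : ∀ d : DihedralGroup 4, d * d ≠ 1 →
        Fintype.card {a : DihedralGroup 4 // a * d = d * a} = 4 := by decide +kernel
    have hne : e ⟨y, hyT⟩ * e ⟨y, hyT⟩ ≠ 1 := by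
      intro h1
      rw [← map_mul, MulEquiv.map_eq_one_iff] at h1
      have h2 : y ^ 2 = 1 := by rw [sq]; exact congrArg Subtype.val h1
      exact CfsgLib.Small.ne_one_of_orderOf_two hy2 h2
    rw [← key _ hne, ← Nat.card_eq_fintype_card,
      ← Nat.card_congr (Subgroup.subgroupOfEquivOfLe hle).toEquiv]
    refine Nat.card_congr (e.toEquiv.subtypeEquiv fun a => ?_)
    rw [Subgroup.mem_subgroupOf, Subgroup.mem_centralizer_singleton_iff]
    show _ ↔ e a * e ⟨y, hyT⟩ = e ⟨y, hyT⟩ * e a
    rw [← map_mul, ← map_mul, e.injective.eq_iff, Subtype.ext_iff]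
    rfl
  obtain ⟨T⟩ : Nonempty (Sylow 2 G) := inferInstance
  obtain ⟨y, -, -, -, hy, -, -, -⟩ := CfsgLib.Small.Order168.exists_dihedral_gens h T
  have hcy : Nat.card {g : G // IsConj y g} = 42 := by
    have := CfsgLib.Small.card_conjugates_mul_card_centralizer (G := G) y
    rw [hc4 y hy, h] at this
    omega
  -- counting all elements
  have h2 : Nat.card {g : G // orderOf g = 2} = 21 := by
    obtain ⟨t, ht⟩ := exists_prime_orderOf_dvd_card' (G := G) 2 (by rw [h]; norm_num)
    have h1 := CfsgLib.Small.card_conjugates_mul_card_centralizer (G := G) t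
    rw [CfsgLib.Small.Order168.card_centralizer_invol h ht, h] at h1
    have h2 : Nat.card {g : G // orderOf g = 2} = Nat.card {g : G // IsConj t g} :=
      Nat.card_congr (Equiv.subtypeEquivRight fun g =>
        ⟨fun hg => CfsgLib.Small.Order168.isConj_invol h ht hg, fun hg => (hord t ⟨g, hg⟩).trans ht⟩)
    omega
  have h4 : Nat.card {g : G // orderOf g = 4} = 42 := by
    haveI := Fintype.ofFinite G
    have hsum := Finset.card_eq_sum_card_fiberwise (s := (Finset.univ : Finset G))
      (t := {1, 2, 3, 4, 7}) (f := fun g => orderOf g) (fun g _ => by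
        simpa using CfsgLib.Small.Order168.orderOf_mem h g)
    have e : ∀ k, (Finset.univ.filter fun g : G => orderOf g = k).card
        = Nat.card {g : G // orderOf g = k} := fun k => by
      rw [Nat.card_eq_fintype_card, Fintype.card_subtype]
    simp only [e] at hsum
    rw [Finset.card_univ, ← Nat.card_eq_fintype_card, h] at hsum
    have h1 : Nat.card {g : G // orderOf g = 1} = 1 :=
      Nat.card_eq_one_iff_unique.2 ⟨⟨fun a b => Subtype.ext
        ((orderOf_eq_one_iff.1 a.2).trans (orderOf_eq_one_iff.1 b.2).symm)⟩, ⟨⟨1, orderOf_one⟩⟩⟩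
    norm_num [Finset.sum_insert, -Nat.card_eq_fintype_card] at hsum
    omega
  refine ⟨h3, fun s t hs ht => hfull 3 s hs (by rw [h3, hc3 s hs]) t ht, h4,
    fun s t hs ht => (hfull 4 y hy (by rw [h4, hcy]) s hs).symm.trans (hfull 4 y hy (by rw [h4, hcy]) t ht),
    h7, fun x hx => ⟨hc7 x hx, fun hreal => ?_⟩⟩
  obtain ⟨u, hu, hinv⟩ := CfsgLib.Small.exists_invol_inverting
    (fun e => by rw [e, orderOf_one] at hx; omega) hreal
    (by rw [CfsgLib.Small.Order168.card_centralizer_seven h hx]; decide)
  obtain ⟨P, hP⟩ := (IsPGroup.of_card (n := 1) (by rw [Nat.card_zpowers, hx, pow_one]) :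
    IsPGroup 7 ↥(Subgroup.zpowers x)).exists_le_sylow
  have hgen := CfsgLib.Small.eq_zpowers_of_mem_prime (CfsgLib.Small.Order168.card_P7 h P)
    (hP (Subgroup.mem_zpowers x)) (fun e => by rw [e, orderOf_one] at hx; omega)
  have huN : u ∈ Subgroup.normalizer ((P : Subgroup G) : Set G) := by
    refine Sylow.smul_eq_iff_mem_normalizer.1 (Sylow.ext ?_)
    rw [Sylow.coe_subgroup_smul, ← hgen]
    show (Subgroup.zpowers x).map (MulAut.conj u).toMonoidHom = _
    rw [MonoidHom.map_zpowers]
    show Subgroup.zpowers (u * x * u⁻¹) = _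
    rw [hinv, Subgroup.zpowers_inv]
  have h21 := Subgroup.orderOf_dvd_natCard _ huN
  rw [hu, CfsgLib.Small.Order168.card_N7 h P] at h21
  norm_num at h21

end Cfsg.Agent.S1006
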