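import Cfsg.Statements.S1007
import Cfsg.Agent.Small.Order168Klein

set_option autoImplicit false
open Cfsg

namespace Cfsg.Agent.S1007

/-- Let G be a simple group of order 168 and T a Sylow 2-subgroup. Then T contains exactly two subgroups that are Klein four-groups; they are not conjugate in G; and the normalizer of every Klein four-subgroup of G is isomorphic to the symmetric group of degree 4. -/
theorem result {G : Type*} [Group G] [Finite G] [IsSimpleGroup G] (h : Nat.card G = 168) (T : Sylow 2 G) : Nat.card {U : Subgroup G // U ≤ (T : Subgroup G) ∧ IsKleinFour ↥U} = 2 ∧ (∀ U W : Subgroup G, U ≤ (T : Subgroup G) → W ≤ (T : Subgroup G) → IsKleinFour ↥U → IsKleinFour ↥W → U ≠ W → ∀ g : G, U.map (MulAut.conj g).toMonoidHom ≠ W) ∧ ∀ U : Subgroup G, IsKleinFour ↥U → Nonempty (↥(Subgroup.normalizer (U : Set G)) ≃* Equiv.Perm (Fin 4)) := by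
  classical
  haveI : Fact (Nat.Prime 2) := ⟨Nat.prime_two⟩
  obtain ⟨A, B, hAB, hA, hB, hAK, hBK, hall, -⟩ := CfsgLib.Small.Order168.exists_two_fours h T
  refine ⟨?_, fun U W hU hW hUK hWK hne g =>
    CfsgLib.Small.Order168.four_not_conj h T hU hW hUK hWK hne g, fun U hU => ?_⟩
  · have e : Nat.card {U : Subgroup G // U ≤ (T : Subgroup G) ∧ IsKleinFour ↥U}
        = Nat.card ({A, B} : Set (Subgroup G)) := by
      refine Nat.card_congr (Equiv.subtypeEquivRight fun U => ⟨fun hU => hall U hU.1 hU.2, ?_⟩)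
      rintro (rfl | rfl)
      · exact ⟨hA, hAK⟩
      · exact ⟨hB, hBK⟩
    rw [e, Nat.card_coe_set_eq, Set.ncard_pair hAB]
  · exact CfsgLib.Small.Order168.equiv_perm_four_of_card h
      (CfsgLib.Small.Order168.card_normalizer_four h hU)

end Cfsg.Agent.S1007
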