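import Cfsg.Statements.S1008
import Cfsg.Agent.Small.Order168Klein

set_option autoImplicit false
open Cfsg

namespace Cfsg.Agent.S1008

/-- In a simple group of order 168 every maximal subgroup is either isomorphic to the symmetric group of degree 4 or non-abelian of order 21; the maximal subgroups of order 21 form one conjugacy class and those isomorphic to the symmetric group of degree 4 form exactly two conjugacy classes. -/
theorem result {G : Type*} [Group G] [Finite G] [IsSimpleGroup G] (h : Nat.card G = 168) : (∀ M : Subgroup G, IsCoatom M → Nonempty (↥M ≃* Equiv.Perm (Fin 4)) ∨ (Nat.card ↥M = 21 ∧ ¬ IsMulCommutative ↥M)) ∧ (∀ M M' : Subgroup G, IsCoatom M → IsCoatom M' → Nat.card ↥M = 21 → Nat.card ↥M' = 21 → ∃ g : G, M' = M.map (MulAut.conj g).toMonoidHom) ∧ ∃ M₁ M₂ : Subgroup G, IsCoatom M₁ ∧ IsCoatom M₂ ∧ Nonempty (↥M₁ ≃* Equiv.Perm (Fin 4)) ∧ Nonempty (↥M₂ ≃* Equiv.Perm (Fin 4)) ∧ (∀ g : G, M₂ ≠ M₁.map (MulAut.conj g).toMonoidHom) ∧ ∀ M : Subgroup G, IsCoatom M → Nonempty (↥M ≃* Equiv.Perm (Fin 4)) → ∃ g : G, M =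 M₁.map (MulAut.conj g).toMonoidHom ∨ M = M₂.map (MulAut.conj g).toMonoidHom := by
  classical
  haveI : Fact (Nat.Prime 2) := ⟨Nat.prime_two⟩
  haveI : Fact (Nat.Prime 3) := ⟨Nat.prime_three⟩
  haveI : Fact (Nat.Prime 7) := ⟨by norm_num⟩
  have hproper : ∀ K : Subgroup G, Nat.card K ≤ 24 → K ≠ ⊤ := fun K hK e => by
    rw [e, Subgroup.card_top, h] at hK; omega
  -- a maximal subgroup below a proper subgroup equals it
  have hmax : ∀ M K : Subgroup G, IsCoatom M → M ≤ K → K ≠ ⊤ → M = K := fun M K hM hMK hK =>
    (hM.le_iff.1 hMK).resolve_left hK |>.symm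
  have hcoatom : ∀ K : Subgroup G, Nat.card K = 24 ∨ Nat.card K = 21 → IsCoatom K := by
    intro K hK
    refine ⟨hproper K (by omega), fun L hL => ?_⟩
    by_contra hLtop
    have hm := CfsgLib.Small.Order168.card_mem h hLtop
    have hd := Subgroup.card_dvd_of_le hL.le
    have hlt : Nat.card K < Nat.card L := lt_of_le_of_ne (Subgroup.card_le_of_le hL.le)
      fun e => hL.ne (Subgroup.eq_of_le_of_card_ge hL.le e.ge)
    simp only [Finset.mem_insert, Finset.mem_singleton] at hm
    obtain ⟨c, hc⟩ := hd
    rcases hK with hK | hK <;> rw [hK] at hc hlt <;> omega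
  have hN7 : ∀ M : Subgroup G, Nat.card M = 7 ∨ Nat.card M = 14 ∨ Nat.card M = 21 →
      ∃ P : Sylow 7 G, M ≤ Subgroup.normalizer ((P : Subgroup G) : Set G) := by
    intro M hM
    obtain ⟨k, hk, hk'⟩ : ∃ k, Nat.card M = 7 ^ 1 * k ∧ (k = 1 ∨ k = 2 ∨ k = 3) :=
      ⟨Nat.card M / 7, by omega, by omega⟩
    have hd := CfsgLib.Small.card_sylow_dvd (G := M) hk (by omega)
    have hmod := CfsgLib.Small.card_sylow_mod (G := M) 7
    have hle : Nat.card (Sylow 7 M) ≤ k := Nat.le_of_dvd (by omega) hd
    have hone : Nat.card (Sylow 7 M) = 1 := by omega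
    haveI : Subsingleton (Sylow 7 M) := (Nat.card_eq_one_iff_unique.1 hone).1
    obtain ⟨S⟩ : Nonempty (Sylow 7 M) := inferInstance
    haveI hn : (S : Subgroup M).Normal := Sylow.normal_of_subsingleton S
    have hSc : Nat.card ((S : Subgroup M).map M.subtype) = 7 := by
      rw [← Nat.card_congr ((S : Subgroup M).equivMapOfInjective _ M.subtype_injective).toEquiv]
      simpa using CfsgLib.Small.card_sylow_eq hk (by omega) S
    obtain ⟨P, hP⟩ := (IsPGroup.of_card (n := 1) (by rw [hSc, pow_one]) :
      IsPGroup 7 ↥((S : Subgroup M).map M.subtype)).exists_le_sylow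
    refine ⟨P, ?_⟩
    rw [← Subgroup.eq_of_le_of_card_ge hP (by rw [hSc, CfsgLib.Small.Order168.card_P7 h P])]
    have := Subgroup.le_normalizer_map (H := (S : Subgroup M)) M.subtype
    rw [Subgroup.normalizer_eq_top, ← MonoidHom.range_eq_map, Subgroup.range_subtype] at this
    exact this
  -- classification of maximal subgroups by order
  have hclass : ∀ M : Subgroup G, IsCoatom M → Nat.card M = 24 ∨ Nat.card M = 21 := by
    intro M hM
    have hmem := CfsgLib.Small.Order168.card_mem h hM.1
    simp only [Finset.mem_insert, Finset.mem_singleton] at hmem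
    by_contra hcon
    push Not at hcon
    obtain ⟨T⟩ : Nonempty (Sylow 2 G) := inferInstance
    obtain ⟨A, -, -, hA, -, hAK, -, -, hnorm⟩ := CfsgLib.Small.Order168.exists_two_fours h T
    have h2 : ∀ k, Nat.card M = 2 ^ k → False := by
      intro k hk
      obtain ⟨S, hS⟩ := CfsgLib.Small.Order168.exists_sylow_ge_of_card hk
      obtain ⟨U, -, -, hU, -, hUK, -, -, hn⟩ := CfsgLib.Small.Order168.exists_two_fours h S
      have hc := CfsgLib.Small.Order168.card_normalizer_four h hUK
      have := hmax M _ hM (hS.trans (hn U hU hUK)) (hproper _ hc.le)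
      rw [this, hc] at hcon
      exact hcon.1 rfl
    rcases hmem with e | e | e | e | e | e | e | e | e | e | e
    · exact h2 0 e
    · exact h2 1 e
    · -- order 3
      obtain ⟨P, hP⟩ := (IsPGroup.of_card (n := 1) (by rw [e, pow_one]) :
        IsPGroup 3 ↥M).exists_le_sylow
      have hc := CfsgLib.Small.Order168.card_N3 h P
      have := hmax M _ hM (hP.trans Subgroup.le_normalizer) (hproper _ (by omega))
      rw [this, hc] at e
      omega
    · exact h2 2 e
    · -- order 6 lies in a subgroup of order 24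
      have hd := CfsgLib.Small.card_sylow_dvd (G := M) (p := 3) (k := 1) (m := 2) (by rw [e]; rfl)
        (by norm_num)
      have hmod := CfsgLib.Small.card_sylow_mod (G := M) 3
      have hone : Nat.card (Sylow 3 M) = 1 := by
        have := Nat.le_of_dvd two_pos hd; omega
      haveI : Subsingleton (Sylow 3 M) := (Nat.card_eq_one_iff_unique.1 hone).1
      obtain ⟨S⟩ : Nonempty (Sylow 3 M) := inferInstance
      haveI hn : (S : Subgroup M).Normal := Sylow.normal_of_subsingleton S
      have hSc : Nat.card ((S : Subgroup M).map M.subtype) = 3 := by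
        rw [← Nat.card_congr ((S : Subgroup M).equivMapOfInjective _ M.subtype_injective).toEquiv]
        simpa using CfsgLib.Small.card_sylow_eq (k := 1) (m := 2) (by rw [e]; rfl) (by norm_num) S
      obtain ⟨P, hP⟩ := (IsPGroup.of_card (n := 1) (by rw [hSc, pow_one]) :
        IsPGroup 3 ↥((S : Subgroup M).map M.subtype)).exists_le_sylow
      have hMP : M ≤ Subgroup.normalizer ((P : Subgroup G) : Set G) := by
        rw [← Subgroup.eq_of_le_of_card_ge hP (by rw [hSc, CfsgLib.Small.Order168.card_P3 h P])]
        have := Subgroup.le_normalizer_map (H := (S : Subgroup M)) M.subtype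
        rw [Subgroup.normalizer_eq_top, ← MonoidHom.range_eq_map, Subgroup.range_subtype] at this
        exact this
      set N := Subgroup.normalizer (A : Set G)
      have hNc : Nat.card N = 24 := CfsgLib.Small.Order168.card_normalizer_four h hAK
      obtain ⟨Q⟩ : Nonempty (Sylow 3 N) := inferInstance
      have h4 := CfsgLib.Small.card_sylow_three_of_order24 hNc fun g => by
        rw [← Subgroup.orderOf_coe]; exact CfsgLib.Small.Order168.orderOf_ne_six h _
      have hQN := CfsgLib.Small.card_sylow_mul_card_normalizer Q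
      rw [h4, hNc] at hQN
      have hQc : Nat.card ((Q : Subgroup N).map N.subtype) = 3 := by
        rw [← Nat.card_congr ((Q : Subgroup N).equivMapOfInjective _ N.subtype_injective).toEquiv]
        simpa using CfsgLib.Small.card_sylow_eq (k := 1) (m := 8) (by rw [hNc]; rfl) (by norm_num) Q
      obtain ⟨R, hR⟩ := (IsPGroup.of_card (n := 1) (by rw [hQc, pow_one]) :
        IsPGroup 3 ↥((Q : Subgroup N).map N.subtype)).exists_le_sylow
      have hReq := Subgroup.eq_of_le_of_card_ge hR (by rw [hQc, CfsgLib.Small.Order168.card_P3 h R])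
      have hNR : Subgroup.normalizer ((R : Subgroup G) : Set G) ≤ N := by
        have hle : (Subgroup.normalizer ((Q : Subgroup N) : Set N)).map N.subtype
            ≤ Subgroup.normalizer ((R : Subgroup G) : Set G) :=
          (Subgroup.le_normalizer_map (H := (Q : Subgroup N)) N.subtype).trans (le_of_eq (by rw [hReq]))
        have hNQ : Nat.card (Subgroup.normalizer ((Q : Subgroup N) : Set N)) = 6 := by omega
        have heq := Subgroup.eq_of_le_of_card_ge hle (by
          rw [CfsgLib.Small.Order168.card_N3 h R, ← Nat.card_congr (Subgroup.equivMapOfInjective _ _ N.subtype_injective).toEquiv, hNQ])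
        rw [← heq]
        exact Subgroup.map_subtype_le _
      obtain ⟨g, hg⟩ := MulAction.exists_smul_eq G R P
      have hMle : M ≤ N.map (MulAut.conj g).toMonoidHom := by
        refine hMP.trans fun a ha => ?_
        have hm : g⁻¹ * a * g ∈ Subgroup.normalizer ((R : Subgroup G) : Set G) :=
          Sylow.smul_eq_iff_mem_normalizer.1 (by
            rw [mul_smul, mul_smul, hg, Sylow.smul_eq_iff_mem_normalizer.2 ha, ← hg, inv_smul_smul])
        exact ⟨_, hNR hm, by simp [mul_assoc]⟩
      have hc : Nat.card (N.map (MulAut.conj g).toMonoidHom) = 24 := by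
        rw [← hNc]
        exact (Nat.card_congr (N.equivMapOfInjective _ (MulAut.conj g).injective).toEquiv).symm
      have := hmax M _ hM hMle (hproper _ hc.le)
      rw [this, hc] at e
      omega
    · obtain ⟨P, hP⟩ := hN7 M (Or.inl e)
      have hc := CfsgLib.Small.Order168.card_N7 h P
      have := hmax M _ hM hP (hproper _ (by omega))
      rw [this, hc] at e
      omega
    · exact h2 3 e
    · -- order 12
      obtain ⟨eA⟩ := Cfsg.Agent.S0228.result (G := M) e fun z hz hzc => by
        obtain ⟨a, ha⟩ := exists_prime_orderOf_dvd_card' (G := M) 3 (by rw [e]; norm_num)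
        have hc : Commute (z : M) a := (Subgroup.mem_center_iff.1 hzc a).symm
        refine CfsgLib.Small.Order168.orderOf_ne_six h ((z * a : M) : G) ?_
        rw [Subgroup.orderOf_coe, hc.orderOf_mul_eq_mul_orderOf_of_coprime (by rw [hz, ha]; norm_num),
          hz, ha]
      haveI := alternatingGroup.normal_kleinFour (α := Fin 4) (by simp)
      obtain ⟨U, hUK, -, hMU⟩ := CfsgLib.Small.Order168.exists_four_of_equiv
        (alternatingGroup.kleinFour (Fin 4)) (alternatingGroup.kleinFour_isKleinFour (by simp)) eA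
      have hc := CfsgLib.Small.Order168.card_normalizer_four h hUK
      have := hmax M _ hM hMU (hproper _ hc.le)
      rw [this, hc] at e
      omega
    · obtain ⟨P, hP⟩ := hN7 M (Or.inr (Or.inl e))
      have hd := Subgroup.card_dvd_of_le hP
      rw [e, CfsgLib.Small.Order168.card_N7 h P] at hd
      norm_num at hd
    · exact hcon.2 e
    · exact hcon.1 e
  refine ⟨fun M hM => ?_, fun M M' _ _ hc hc' => ?_, ?_⟩
  · rcases hclass M hM with hc | hc
    · exact Or.inl (CfsgLib.Small.Order168.equiv_perm_four_of_card h hc)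
    · refine Or.inr ⟨hc, fun hcomm => ?_⟩
      obtain ⟨P, hP⟩ := hN7 M (Or.inr (Or.inr hc))
      have heq : M = Subgroup.normalizer ((P : Subgroup G) : Set G) :=
        Subgroup.eq_of_le_of_card_ge hP (by rw [CfsgLib.Small.Order168.card_N7 h P, hc])
      have hMC : M ≤ Subgroup.centralizer ((P : Subgroup G) : Set G) := fun a ha =>
        Subgroup.mem_centralizer_iff.2 fun b hb => congrArg Subtype.val
          (hcomm.is_comm.comm (⟨b, heq ▸ Subgroup.le_normalizer hb⟩ : M) ⟨a, ha⟩)
      have := Subgroup.card_le_of_le hMC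
      rw [CfsgLib.Small.Order168.centralizer_P7 h P, CfsgLib.Small.Order168.card_P7 h P, hc] at this
      omega
  · obtain ⟨P, hP⟩ := hN7 M (Or.inr (Or.inr hc))
    obtain ⟨Q, hQ⟩ := hN7 M' (Or.inr (Or.inr hc'))
    obtain ⟨g, rfl⟩ := MulAction.exists_smul_eq G P Q
    refine ⟨g, ?_⟩
    rw [Subgroup.eq_of_le_of_card_ge hP (by rw [CfsgLib.Small.Order168.card_N7 h P, hc]),
      Subgroup.eq_of_le_of_card_ge hQ (by rw [CfsgLib.Small.Order168.card_N7 h (g • P), hc']),
      Subgroup.map_equiv_normalizer_eq]
    rfl
  · obtain ⟨T⟩ : Nonempty (Sylow 2 G) := inferInstance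
    obtain ⟨A, B, hAB, hA, hB, hAK, hBK, hall, -⟩ := CfsgLib.Small.Order168.exists_two_fours h T
    have hcA := CfsgLib.Small.Order168.card_normalizer_four h hAK
    have hcB := CfsgLib.Small.Order168.card_normalizer_four h hBK
    have hnmap : ∀ (U : Subgroup G) (g : G),
        (Subgroup.normalizer (U : Set G)).map (MulAut.conj g).toMonoidHom
          = Subgroup.normalizer ((U.map (MulAut.conj g).toMonoidHom : Subgroup G) : Set G) :=
      fun U g => Subgroup.map_equiv_normalizer_eq U (MulAut.conj g)
    refine ⟨Subgroup.normalizer (A : Set G), Subgroup.normalizer (B : Set G), hcoatom _ (Or.inl hcA),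
      hcoatom _ (Or.inl hcB), CfsgLib.Small.Order168.equiv_perm_four_of_card h hcA,
      CfsgLib.Small.Order168.equiv_perm_four_of_card h hcB, fun g he => ?_, fun M hM he => ?_⟩
    · rw [hnmap] at he
      refine CfsgLib.Small.Order168.four_not_conj h T hA hB hAK hBK hAB g ?_
      exact (CfsgLib.Small.Order168.four_eq_of_normalizer_eq h hBK
        (CfsgLib.Small.Order168.isKleinFour_map (MulAut.conj g).toMonoidHom (MulAut.conj g).injective A hAK) he).symm
    · obtain ⟨e⟩ := he
      have hMc : Nat.card M = 24 := by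
        rw [Nat.card_congr e.toEquiv, Nat.card_perm, Nat.card_fin]; rfl
      obtain ⟨U, hUK, -, rfl⟩ := CfsgLib.Small.Order168.exists_four_of_card h hMc
      obtain ⟨S, hS⟩ := CfsgLib.Small.Order168.exists_sylow_ge_of_card
        (CfsgLib.Small.Order168.kleinFour_card hUK)
      obtain ⟨g, hg⟩ := MulAction.exists_smul_eq G S T
      have hle : U.map (MulAut.conj g).toMonoidHom ≤ (T : Subgroup G) := by
        rw [← hg, Sylow.coe_subgroup_smul]
        exact Subgroup.map_mono hS
      have hK := CfsgLib.Small.Order168.isKleinFour_map (MulAut.conj g).toMonoidHom (MulAut.conj g).injective U hUK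
      refine ⟨g⁻¹, ?_⟩
      have hback : U = (U.map (MulAut.conj g).toMonoidHom).map (MulAut.conj g⁻¹).toMonoidHom := by
        ext x
        simp only [Subgroup.mem_map]
        constructor
        · exact fun hx => ⟨_, ⟨x, hx, rfl⟩, by simp [mul_assoc]⟩
        · rintro ⟨_, ⟨u, hu, rfl⟩, rfl⟩
          simpa [mul_assoc] using hu
      rcases hall _ hle hK with he | he
      · left; rw [hnmap, ← he, ← hback]
      · right; rw [hnmap, ← he, ← hback]

end Cfsg.Agent.S1008
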