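import Cfsg.Statements.S1010
import Cfsg.Agent.SylowNumber.Basic
import Cfsg.Agent.Small.TwentyOne.BigSylow
import Cfsg.Agent.Small.TwentyOne.Main

set_option autoImplicit false
open Cfsg

namespace Cfsg.Agent.S1010

open CfsgLib.Small in
/-- A simple group does not have 21 Sylow 5-subgroups. -/
theorem false_of_simple {G : Type*} [Group G] [Finite G] [IsSimpleGroup G]
    [Fact (Nat.Prime 5)] (hn : Nat.card (Sylow 5 G) = 21) : False := by
  obtain ⟨P⟩ : Nonempty (Sylow 5 G) := inferInstance
  have hG : ¬ IsMulCommutative G := fun h => by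
    haveI : (P : Subgroup G).Normal := ⟨fun a ha g => by
      rw [show g * a * g⁻¹ = a by rw [h.is_comm.comm g a, mul_inv_cancel_right]]
      exact ha⟩
    have h1 := P.card_eq_index_normalizer
    rw [hn, show Subgroup.normalizer (P : Set G) = ⊤ from
      Subgroup.normalizer_eq_top (H := (P : Subgroup G)), Subgroup.index_top] at h1
    omega
  have h5 : 5 ∣ Nat.card (P : Subgroup G) := by
    refine P.dvd_card_of_dvd_card ?_
    by_contra h5
    have h1 : Nat.card (P : Subgroup G) = 1 := by
      rw [P.card_eq_multiplicity, Nat.factorization_eq_zero_of_not_dvd h5, pow_zero]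
    have h2 := P.card_eq_index_normalizer
    haveI : (P : Subgroup G).Normal := Subgroup.eq_bot_of_card_eq _ h1 ▸ inferInstance
    rw [hn, show Subgroup.normalizer (P : Set G) = ⊤ from
      Subgroup.normalizer_eq_top (H := (P : Subgroup G)), Subgroup.index_top] at h2
    omega
  obtain ⟨k, hk⟩ : ∃ k, Nat.card (P : Subgroup G) = 5 ^ k :=
    ⟨_, P.card_eq_multiplicity⟩
  match k, hk with
  | 0, hk => rw [hk, pow_zero] at h5; norm_num at h5
  | 1, hk => exact (⟨P, by rw [hk, pow_one], hn⟩ : TwentyOne.Setting G).false_of_small hG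
  | k + 2, hk => exact TwentyOne.false_of_big hG hn P ⟨5 ^ k, by rw [hk, pow_add]; ring⟩


/-- No finite group has exactly twenty-one Sylow 5-subgroups. -/
theorem result {G : Type*} [Group G] [Finite G] : Nat.card (Sylow 5 G) ≠ 21 := by
  haveI : Fact (Nat.Prime 5) := ⟨by norm_num⟩
  induction hc : Nat.card G using Nat.strong_induction_on generalizing G with
  | _ d ih =>
  subst hc
  intro hn
  haveI : Nontrivial G := by
    by_contra h
    rw [not_nontrivial_iff_subsingleton] at h
    haveI : Subsingleton (Sylow 5 G) := ⟨fun a b => Sylow.ext (Subsingleton.elim _ _)⟩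
    have := (Finite.card_le_one_iff_subsingleton (α := Sylow 5 G)).2 inferInstance
    omega
  by_cases hs : IsSimpleGroup G
  · exact false_of_simple hn
  obtain ⟨N, hN, hb, ht⟩ : ∃ N : Subgroup G, N.Normal ∧ N ≠ ⊥ ∧ N ≠ ⊤ := by
    by_contra h
    push Not at h
    exact hs ⟨fun N hN => or_iff_not_imp_left.2 (h N hN)⟩
  obtain ⟨c, -, heq, hc⟩ := CfsgLib.SylowNumber.card_sylow_eq (p := 5) N
  rw [hn] at heq
  have hmul := Subgroup.card_eq_card_quotient_mul_card_subgroup N
  have hlt1 : Nat.card N < Nat.card G :=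
    lt_of_le_of_ne (Subgroup.card_le_card_group N) fun h => ht (Subgroup.eq_top_of_card_eq N h)
  have hlt2 : Nat.card (G ⧸ N) < Nat.card G := by
    rw [hmul]
    exact lt_mul_of_one_lt_right Nat.card_pos ((Subgroup.one_lt_card_iff_ne_bot N).2 hb)
  have ha := card_sylow_modEq_one 5 (G ⧸ N)
  have hb' := card_sylow_modEq_one 5 N
  have h1 := ih _ hlt1 rfl
  have h2 := ih _ hlt2 rfl
  have hcd : c ∣ 21 := Dvd.intro_left _ heq.symm
  have hc1 : c = 1 := by
    have hl3 := hc 3 (by norm_num)
    have hl7 := hc 7 (by norm_num)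
    have : c ∈ Nat.divisors 21 := Nat.mem_divisors.2 ⟨hcd, by norm_num⟩
    rw [show Nat.divisors 21 = {1, 3, 7, 21} by decide] at this
    simp only [Finset.mem_insert, Finset.mem_singleton] at this
    rcases this with rfl | rfl | rfl | rfl
    · rfl
    · rw [Nat.Prime.factorization_self (by norm_num), pow_one] at hl3
      exact absurd hl3 (by decide)
    · rw [Nat.Prime.factorization_self (by norm_num), pow_one] at hl7
      exact absurd hl7 (by decide)
    · rw [show (21 : ℕ) = 7 * 3 from rfl, Nat.factorization_mul (by norm_num) (by norm_num),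
        Finsupp.add_apply, Nat.Prime.factorization_self (by norm_num),
        Nat.factorization_eq_zero_of_not_dvd (by norm_num : ¬ 3 ∣ 7), zero_add, pow_one] at hl3
      exact absurd hl3 (by decide)
  rw [hc1, mul_one] at heq
  have ha21 : Nat.card (Sylow 5 (G ⧸ N)) ∈ Nat.divisors 21 :=
    Nat.mem_divisors.2 ⟨Dvd.intro _ heq.symm, by norm_num⟩
  rw [show Nat.divisors 21 = {1, 3, 7, 21} by decide] at ha21
  simp only [Finset.mem_insert, Finset.mem_singleton] at ha21
  unfold Nat.ModEq at ha hb'
  rcases ha21 with h | h | h | h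
  · rw [h, one_mul] at heq; exact h1 heq.symm
  · omega
  · omega
  · exact h2 h

end Cfsg.Agent.S1010
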