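import Cfsg.Statements.S1014
import Cfsg.Agent.Small.SimpleTools
import Cfsg.Agent.Small.ThompsonTransfer

set_option autoImplicit false
open Cfsg

namespace Cfsg.Agent.S1014

/-- No finite simple group has order 1104 = 2^4 * 3 * 23. -/
theorem result {G : Type*} [Group G] [Finite G] [IsSimpleGroup G] : Nat.card G ≠ 1104 := by
  intro hN
  by_cases hG : IsMulCommutative G
  · have hp := CfsgLib.Small.card_prime_of_simple_comm hG
    rw [hN] at hp; norm_num at hp
  classical
  haveI : Fact (Nat.Prime 23) := ⟨by norm_num⟩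
  haveI : Fact (Nat.Prime 2) := ⟨Nat.prime_two⟩
  have hN' : Nat.card G = 23 ^ 1 * 48 := by rw [hN]; rfl
  have hmem := CfsgLib.Small.card_sylow_mem hG hN' one_ne_zero (by norm_num)
  rw [show (Nat.divisors 48).filter (fun d => d % 23 = 1 ∧ d ≠ 1) = {24} by decide,
    Finset.mem_singleton] at hmem
  obtain ⟨P⟩ : Nonempty (Sylow 23 G) := inferInstance
  have hPc : ∀ Q : Sylow 23 G, Nat.card (Q : Subgroup G) = 23 := fun Q => by
    simpa using CfsgLib.Small.card_sylow_eq hN' (by norm_num) Q
  set M := Subgroup.normalizer ((P : Subgroup G) : Set G) with hM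
  have hMc : Nat.card M = 46 := by
    have h : Nat.card (Sylow 23 G) * Nat.card M = Nat.card G :=
      CfsgLib.Small.card_sylow_mul_card_normalizer P
    rw [hmem, hN] at h; omega
  obtain ⟨⟨u, huM⟩, hu⟩ := exists_prime_orderOf_dvd_card' (G := M) 2 (by rw [hMc]; norm_num)
  rw [Subgroup.orderOf_mk] at hu
  have huC : u ∉ Subgroup.centralizer ((P : Subgroup G) : Set G) := by
    intro huC
    refine CfsgLib.Small.not_normalizer_le_centralizer hG (by rw [hN]; norm_num) P ?_
    have hle : (P : Subgroup G) ⊔ Subgroup.zpowers u ≤ Subgroup.centralizer ((P : Subgroup G) : Set G) := by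
      refine sup_le ?_ (Subgroup.zpowers_le.2 huC)
      haveI : IsCyclic ↥(P : Subgroup G) := isCyclic_of_prime_card (hPc P)
      intro a ha
      rw [Subgroup.mem_centralizer_iff]
      intro b hb
      exact congrArg Subtype.val (mul_comm' (⟨b, hb⟩ : ↥(P : Subgroup G)) ⟨a, ha⟩)
    have heq : (P : Subgroup G) ⊔ Subgroup.zpowers u = M := by
      refine Subgroup.eq_of_le_of_card_ge (sup_le Subgroup.le_normalizer (Subgroup.zpowers_le.2 huM)) ?_
      rw [hMc]
      refine Nat.le_of_dvd Nat.card_pos ?_
      rw [show (46 : ℕ) = 23 * 2 by rfl]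
      refine Nat.Coprime.mul_dvd_of_dvd_of_dvd (by norm_num) ?_ ?_
      · exact (dvd_of_eq (hPc P).symm).trans (Subgroup.card_dvd_of_le le_sup_left)
      · exact (dvd_of_eq (by rw [Nat.card_zpowers, hu])).trans (Subgroup.card_dvd_of_le le_sup_right)
    exact heq.symm.le.trans hle
  -- the action on the 24 Sylow subgroups
  haveI := Fintype.ofFinite (Sylow 23 G)
  let f := MulAction.toPermHom G (Sylow 23 G)
  have h1 : Nat.card (MulAction.fixedBy (Sylow 23 G) u) ≤ 2 := by
    refine le_trans (CfsgLib.Small.card_fixedBy_le_card_orbits (hPc P) huM huC) ?_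
    -- `P` has the fixed point `P` and one orbit of length 23
    haveI := Fintype.ofFinite (MulAction.orbitRel.Quotient ↥(P : Subgroup G) (Sylow 23 G))
    have hsum := Nat.card_congr (MulAction.selfEquivSigmaOrbits ↥(P : Subgroup G) (Sylow 23 G))
    rw [Nat.card_sigma, hmem, ← Finset.add_sum_erase _ _ (Finset.mem_univ
      (Quotient.mk'' P : MulAction.orbitRel.Quotient ↥(P : Subgroup G) (Sylow 23 G)))] at hsum
    have hbig : ∀ q ∈ Finset.univ.erase
        (Quotient.mk'' P : MulAction.orbitRel.Quotient ↥(P : Subgroup G) (Sylow 23 G)),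
        23 ≤ Nat.card (MulAction.orbit ↥(P : Subgroup G) (Quotient.out q)) := by
      intro q hq
      rw [Nat.card_coe_set_eq, ← MulAction.index_stabilizer]
      have hd : (MulAction.stabilizer ↥(P : Subgroup G) (Quotient.out q)).index ∣ 23 :=
        (Subgroup.index_dvd_card _).trans (dvd_of_eq (hPc P))
      rcases (Nat.dvd_prime (Fact.out : Nat.Prime 23)).1 hd with h' | h'
      · exfalso
        have hin := P.isPGroup'.inf_normalizer_sylow (Quotient.out q)
        have hle : (P : Subgroup G) ≤ (Quotient.out q : Sylow 23 G) := fun a ha => by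
          have hs : (⟨a, ha⟩ : ↥(P : Subgroup G)) ∈ MulAction.stabilizer ↥(P : Subgroup G) (Quotient.out q) :=
            (Subgroup.index_eq_one.1 h').symm ▸ Subgroup.mem_top _
          exact (hin.le ⟨ha, Sylow.smul_eq_iff_mem_normalizer.1 hs⟩).2
        have hqP : Quotient.out q = P :=
          (Sylow.ext (Subgroup.eq_of_le_of_card_ge hle (by rw [hPc, hPc]))).symm
        exact Finset.ne_of_mem_erase hq (by rw [← Quotient.out_eq' q, hqP])
      · omega
    have h2 := Finset.card_nsmul_le_sum _ _ 23 hbig
    rw [Finset.card_erase_of_mem (Finset.mem_univ _), Finset.card_univ,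
      ← Nat.card_eq_fintype_card, smul_eq_mul] at h2
    change (Nat.card (MulAction.orbitRel.Quotient ↥(P : Subgroup G) (Sylow 23 G)) - 1) * 23 ≤ _ at h2
    haveI : Nonempty (MulAction.orbit ↥(P : Subgroup G) (Quotient.out
        (Quotient.mk'' P : MulAction.orbitRel.Quotient ↥(P : Subgroup G) (Sylow 23 G)))) :=
      ⟨⟨_, MulAction.mem_orbit_self _⟩⟩
    have hpos := Nat.card_pos (α := MulAction.orbit ↥(P : Subgroup G) (Quotient.out
        (Quotient.mk'' P : MulAction.orbitRel.Quotient ↥(P : Subgroup G) (Sylow 23 G))))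
    omega
  -- `u` is then a product of eleven transpositions, an odd permutation
  have hsupp : (f u).support.card + Nat.card (MulAction.fixedBy (Sylow 23 G) u) = 24 := by
    have hfc : Nat.card (MulAction.fixedBy (Sylow 23 G) u)
        = (Finset.univ.filter fun Q : Sylow 23 G => u • Q = Q).card := by
      rw [← Nat.card_eq_finsetCard]
      exact Nat.card_congr (Equiv.subtypeEquivRight fun Q => by simp)
    have hsf : (f u).support = Finset.univ.filter fun Q : Sylow 23 G => ¬ u • Q = Q := by
      ext Q; simp [f]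
    rw [hfc, hsf, add_comm, ← hmem, Nat.card_eq_fintype_card]
    exact Finset.card_filter_add_card_filter_not (s := (Finset.univ : Finset (Sylow 23 G)))
      (fun Q => u • Q = Q)
  have hinj : f u ≠ 1 := by
    intro h
    have hall : ∀ Q : Sylow 23 G, u • Q = Q := fun Q => Equiv.congr_fun h Q
    have hc : Nat.card (MulAction.fixedBy (Sylow 23 G) u) = 24 := by
      rw [← hmem]
      exact Nat.card_congr (Equiv.subtypeUnivEquiv fun Q => hall Q)
    omega
  have hord : orderOf (f u) = 2 :=
    orderOf_eq_prime (by rw [← map_pow, ← hu, pow_orderOf_eq_one, map_one]) hinj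
  have hfix : 1 ≤ Nat.card (MulAction.fixedBy (Sylow 23 G) u) := by
    haveI : Nonempty (MulAction.fixedBy (Sylow 23 G) u) :=
      ⟨⟨P, Sylow.smul_eq_iff_mem_normalizer.2 huM⟩⟩
    exact Nat.card_pos
  have heven : 2 ∣ (f u).support.card := by
    rw [← Equiv.Perm.sum_cycleType]
    exact Multiset.dvd_sum fun a ha => hord ▸ Equiv.Perm.dvd_of_mem_cycleType ha |> fun h => by
      have h2 := Equiv.Perm.two_le_of_mem_cycleType ha
      have := Nat.le_of_dvd two_pos h
      omega
  have hsign := CfsgLib.Small.sign_of_sq_eq_one hord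
  rw [show (f u).support.card = 22 by omega] at hsign
  refine absurd (CfsgLib.Small.sign_toPerm_eq_one hG f u) ?_
  rw [hsign]
  decide

end Cfsg.Agent.S1014
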