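import Cfsg.Statements.S1015
import Cfsg.Agent.Small.SimpleTools
import Mathlib.GroupTheory.PGroup

set_option autoImplicit false
open Cfsg

namespace Cfsg.Agent.S1015

/-- No finite simple group has order 1200 = 2^4 * 3 * 5^2. -/
theorem result {G : Type*} [Group G] [Finite G] [IsSimpleGroup G] : Nat.card G ≠ 1200 := by
  intro hN
  by_cases hG : IsMulCommutative G
  · have hp := CfsgLib.Small.card_prime_of_simple_comm hG
    rw [hN] at hp; norm_num at hp
  haveI : Fact (Nat.Prime 5) := ⟨by norm_num⟩
  have hN' : Nat.card G = 5 ^ 2 * 48 := by rw [hN]; rfl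
  have hmem := CfsgLib.Small.card_sylow_mem hG hN' two_ne_zero (by norm_num)
  rw [show (Nat.divisors 48).filter (fun d => d % 5 = 1 ∧ d ≠ 1) = {6, 16} by decide,
    Finset.mem_insert, Finset.mem_singleton] at hmem
  rcases hmem with h | h
  · have h2 := CfsgLib.Small.two_mul_card_dvd_factorial_sylow hG (p := 5) (by rw [hN]; norm_num)
    rw [h, hN] at h2
    norm_num [Nat.factorial] at h2
  · obtain ⟨P, R, hne, hidx⟩ := CfsgLib.Small.exists_sylow_small_index (G := G) (p := 5) 2
      (by rw [h]; decide)
    set D := (R : Subgroup G) ⊓ (P : Subgroup G) with hD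
    have hPc : ∀ Q : Sylow 5 G, Nat.card (Q : Subgroup G) = 5 ^ 2 := fun Q =>
      CfsgLib.Small.card_sylow_eq hN' (by norm_num) Q
    have hD5 : 5 ≤ Nat.card D := by
      have hm := Subgroup.card_mul_index ((R : Subgroup G).subgroupOf (P : Subgroup G))
      rw [hPc, ← Subgroup.inf_subgroupOf_right,
        Nat.card_congr (Subgroup.subgroupOfEquivOfLe (inf_le_right : D ≤ P)).toEquiv] at hm
      rw [← Subgroup.inf_subgroupOf_right] at hidx
      change Nat.card D * (D.subgroupOf (P : Subgroup G)).index = 5 ^ 2 at hm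
      change (D.subgroupOf (P : Subgroup G)).index ≤ 5 ^ (2 - 1) at hidx
      norm_num at hidx hm
      nlinarith [Nat.mul_le_mul_left (Nat.card D) hidx]
    have habel : ∀ Q : Sylow 5 G, D ≤ (Q : Subgroup G) →
        (Q : Subgroup G) ≤ Subgroup.normalizer (D : Set G) := by
      intro Q hQ
      haveI : IsMulCommutative ↥(Q : Subgroup G) := IsPGroup.isMulCommutative_of_card_eq_prime_sq (hPc Q)
      refine le_trans ?_ (Subgroup.centralizer_le_normalizer _)
      intro a ha
      rw [Subgroup.mem_centralizer_iff]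
      intro d hd
      exact congrArg Subtype.val (mul_comm' (⟨d, hQ hd⟩ : ↥(Q : Subgroup G)) ⟨a, ha⟩)
    have hP := habel P inf_le_right
    have hR := habel R inf_le_left
    set M := Subgroup.normalizer (D : Set G) with hM
    have hMtop : M ≠ ⊤ := by
      refine CfsgLib.Small.normalizer_ne_top (fun hb => ?_) (fun ht => ?_)
      · rw [hb, Subgroup.card_bot] at hD5; omega
      · have := Subgroup.card_le_of_le (ht.symm.le.trans inf_le_right : ⊤ ≤ (P : Subgroup G))
        rw [Subgroup.card_top, hN, hPc] at this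
        norm_num at this
    -- `M` has two Sylow 5-subgroups
    have hnM : Nat.card (Sylow 5 M) ≠ 1 := by
      intro h1
      haveI : Subsingleton (Sylow 5 M) := (Nat.card_eq_one_iff_unique.1 h1).1
      exact hne (Sylow.subtype_injective (hP := hP) (hQ := hR) (Subsingleton.elim _ _))
    obtain ⟨c, hc⟩ := (hPc P) ▸ Subgroup.card_dvd_of_le hP
    have hi := Subgroup.index_mul_card M
    rw [hN, hc] at hi
    have hdvd : Nat.card (Sylow 5 M) ∣ c := by
      refine CfsgLib.Small.card_sylow_dvd (G := M) hc ?_
      intro h5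
      obtain ⟨e, rfl⟩ := h5
      have : (5 : ℕ) ∣ 48 := ⟨M.index * e, by nlinarith⟩
      norm_num at this
    have hmod := CfsgLib.Small.card_sylow_mod (G := M) 5
    have h6 : 6 ≤ c := by
      refine le_trans ?_ (Nat.le_of_dvd (Nat.pos_of_ne_zero fun h0 => by
        rw [h0, mul_zero, mul_zero] at hi; omega) hdvd)
      omega
    have hfac := CfsgLib.Small.two_mul_card_dvd_factorial_index hG M hMtop
    rw [hN] at hfac
    have hle : M.index ≤ 8 := by nlinarith
    have h8 : M.index.factorial ∣ Nat.factorial 8 := Nat.factorial_dvd_factorial hle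
    exact absurd (hfac.trans h8) (by decide)

end Cfsg.Agent.S1015
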