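import Cfsg.Statements.S1016
import Cfsg.Agent.Small.OrderTools
import Cfsg.Agent.Small.ThompsonOrder

set_option autoImplicit false
open Cfsg CfsgLib.Small

namespace Cfsg.Agent.S1016

/-- Sixteen Sylow 5-subgroups and a centraliser of order 45 are impossible. -/
theorem false_of_forty_five {G : Type*} [Group G] [Finite G] [IsSimpleGroup G]
    (hG : ¬ IsMulCommutative G) [Fact (Nat.Prime 5)] [Fact (Nat.Prime 3)] (P : Sylow 5 G)
    (hP : Nat.card (P : Subgroup G) = 5)
    (hidx : (Subgroup.normalizer ((P : Subgroup G) : Set G)).index = 16)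
    (hN : Subgroup.normalizer ((P : Subgroup G) : Set G) ≠ ⊤)
    (hC : Nat.card (Subgroup.centralizer ((P : Subgroup G) : Set G)) = 45) : False := by
  classical
  set N := Subgroup.normalizer ((P : Subgroup G) : Set G)
  obtain ⟨A, hA⟩ := Sylow.exists_subgroup_card_pow_prime
    (G := ↥(Subgroup.centralizer ((P : Subgroup G) : Set G))) 3 (n := 2) (by rw [hC]; norm_num)
  haveI := Fintype.ofFinite ↥A
  letI : MulAction ↥A (G ⧸ N) := MulAction.compHom (G ⧸ N)
    ((Subgroup.centralizer ((P : Subgroup G) : Set G)).subtype.comp A.subtype)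
  have hf : ∀ a : ↥A, Nat.card (MulAction.fixedBy (G ⧸ N) a) = if a = 1 then 16 else 1 := by
    intro a
    split_ifs with ha
    · subst ha
      rw [← hidx, Subgroup.index_eq_card]
      exact Nat.card_congr (Equiv.subtypeUnivEquiv fun x => one_smul _ x)
    · have hx1 : ((a : ↥(Subgroup.centralizer ((P : Subgroup G) : Set G))) : G) ≠ 1 := fun h =>
        ha (Subtype.ext (Subtype.ext h))
      have h9 : a ^ 3 ^ 2 = 1 := by rw [← hA]; exact pow_card_eq_one'
      have h3 := card_fixedBy_modEq_index (q := 3) (k := 2) N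
        (x := ((a : ↥(Subgroup.centralizer ((P : Subgroup G) : Set G))) : G))
        (by rw [← SubgroupClass.coe_pow, ← SubgroupClass.coe_pow, h9]; rfl)
      have h5 := card_fixedBy_modEq_one P hP (a : ↥(Subgroup.centralizer _)).2
      have hlt := card_fixedBy_lt_index hN hx1
      rw [hidx] at h3 hlt
      change Nat.card (MulAction.fixedBy (G ⧸ N) (((a : ↥(Subgroup.centralizer
        ((P : Subgroup G) : Set G))) : G))) = 1
      change Nat.card (MulAction.fixedBy (G ⧸ N) (((a : ↥(Subgroup.centralizer
        ((P : Subgroup G) : Set G))) : G))) % 5 = 1 at h5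
      omega
  haveI : ∀ a : ↥A, Fintype (MulAction.fixedBy (G ⧸ N) a) := fun a => Fintype.ofFinite _
  haveI := Fintype.ofFinite (Quotient (MulAction.orbitRel ↥A (G ⧸ N)))
  have hb := MulAction.sum_card_fixedBy_eq_card_orbits_mul_card_group ↥A (G ⧸ N)
  simp only [← Nat.card_eq_fintype_card, hf, hA] at hb
  rw [← Finset.add_sum_erase _ _ (Finset.mem_univ (1 : ↥A)), if_pos rfl,
    Finset.sum_congr rfl (fun x hx => if_neg (Finset.ne_of_mem_erase hx)), Finset.sum_const,
    Finset.card_erase_of_mem (Finset.mem_univ _), Finset.card_univ, ← Nat.card_eq_fintype_card,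
    hA] at hb
  simp at hb
  omega

/-- A centraliser of order 10 has a unique involution, which `N(P)` centralises. -/
theorem le_centralizer_of_unique {G : Type*} [Group G] [Finite G] [Fact (Nat.Prime 5)]
    (P : Sylow 5 G) (hP : Nat.card (P : Subgroup G) = 5)
    (hC : Nat.card (Subgroup.centralizer ((P : Subgroup G) : Set G)) = 10) {t : G}
    (ht : t ∈ Subgroup.centralizer ((P : Subgroup G) : Set G)) (ht2 : orderOf t = 2) :
    Subgroup.normalizer ((P : Subgroup G) : Set G) ≤ Subgroup.centralizer ({t} : Set G) ∧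
      (∀ u ∈ Subgroup.centralizer ((P : Subgroup G) : Set G), orderOf u = 2 → u = t) := by
  classical
  haveI : Nontrivial ↥(P : Subgroup G) :=
    Finite.one_lt_card_iff_nontrivial.1 (by rw [hP]; norm_num)
  obtain ⟨a, ha⟩ := exists_ne (1 : ↥(P : Subgroup G))
  have hao : orderOf (a : G) = 5 := orderOf_eq_of_mem_prime hP a.2 fun h => ha (Subtype.ext h)
  have hcom : Commute (a : G) t := Subgroup.mem_centralizer_iff.1 ht a a.2
  have hz : Subgroup.zpowers ((a : G) * t) = Subgroup.centralizer ((P : Subgroup G) : Set G) := by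
    refine Subgroup.eq_of_le_of_card_ge (Subgroup.zpowers_le.2 (mul_mem ?_ ht)) ?_
    · haveI : IsCyclic ↥(P : Subgroup G) := isCyclic_of_prime_card hP
      exact Subgroup.le_centralizer _ a.2
    · rw [hC, Nat.card_zpowers, hcom.orderOf_mul_eq_mul_orderOf_of_coprime (by rw [hao, ht2]; decide),
        hao, ht2]
  have huniq : ∀ u ∈ Subgroup.centralizer ((P : Subgroup G) : Set G), orderOf u = 2 → u = t :=
    fun u hu hu2 =>
      (invol_mem_zpowers_eq hu2 (hz.symm ▸ hu)).trans (invol_mem_zpowers_eq ht2 (hz.symm ▸ ht)).symm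
  refine ⟨fun g hg => Subgroup.mem_centralizer_singleton_iff.2 ?_, huniq⟩
  refine mul_inv_eq_iff_eq_mul.1 (huniq _ ?_ (by rw [orderOf_conj_eq, ht2]))
  rw [Subgroup.mem_centralizer_iff]
  intro b hb
  have h := Subgroup.mem_centralizer_iff.1 ht (g⁻¹ * b * g)
    ((Subgroup.mem_normalizer_iff''.1 hg b).1 hb)
  calc b * (g * t * g⁻¹) = g * ((g⁻¹ * b * g) * t) * g⁻¹ := by group
    _ = g * (t * (g⁻¹ * b * g)) * g⁻¹ := by rw [h]
    _ = g * t * g⁻¹ * b := by group

/-- `N(P)` then has at most eleven involutions. -/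
theorem card_conj_in_normalizer_le {G : Type*} [Group G] [Finite G] [Fact (Nat.Prime 5)]
    (P : Sylow 5 G) (hP : Nat.card (P : Subgroup G) = 5)
    (hC : Nat.card (Subgroup.centralizer ((P : Subgroup G) : Set G)) = 10) {t : G}
    (ht : t ∈ Subgroup.centralizer ((P : Subgroup G) : Set G)) (ht2 : orderOf t = 2) :
    Nat.card {h : G // h ∈ Subgroup.normalizer ((P : Subgroup G) : Set G) ∧ IsConj t h} ≤ 11 := by
  classical
  haveI := Fintype.ofFinite G
  haveI : Nontrivial ↥(P : Subgroup G) :=
    Finite.one_lt_card_iff_nontrivial.1 (by rw [hP]; norm_num)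
  obtain ⟨a, ha⟩ := exists_ne (1 : ↥(P : Subgroup G))
  have ha1 : (a : G) ≠ 1 := fun h => ha (Subtype.ext h)
  have hao : orderOf (a : G) = 5 := orderOf_eq_of_mem_prime hP a.2 ha1
  have hCa := centralizer_singleton_eq_of_prime hP a.2 ha1
  let I := Finset.univ.filter fun g : G => g * (a : G) * g⁻¹ = (a : G)⁻¹
  have hI : I.card ≤ 10 := by
    by_cases h : ∃ g₀ : G, g₀ * (a : G) * g₀⁻¹ = (a : G)⁻¹
    · obtain ⟨g₀, h₀⟩ := h
      have := card_inverting_eq h₀
      rw [hCa, hC, Nat.card_eq_fintype_card, Fintype.card_subtype] at this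
      exact this.le
    · simp only [not_exists] at h
      rw [show I = ∅ from Finset.filter_false_of_mem fun g _ => h g]
      simp
  have hsub : (Finset.univ.filter fun h : G =>
      h ∈ Subgroup.normalizer ((P : Subgroup G) : Set G) ∧ IsConj t h) ⊆ insert t I := by
    intro h hh
    obtain ⟨-, hN, hconj⟩ := Finset.mem_filter.1 hh
    obtain ⟨c, rfl⟩ := isConj_iff.1 hconj
    have ho : orderOf (c * t * c⁻¹) = 2 := by rw [orderOf_conj_eq, ht2]
    set h := c * t * c⁻¹
    have hb : h * (a : G) * h⁻¹ ∈ Subgroup.zpowers (a : G) := by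
      rw [eq_zpowers_of_mem_prime hP a.2 ha1]
      exact (Subgroup.mem_normalizer_iff.1 hN a).1 a.2
    obtain ⟨j, hjr, hj⟩ := Finset.mem_image.1 (mem_zpowers_iff_mem_range_orderOf.1 hb)
    rw [hao, Finset.mem_range] at hjr
    have h2 : (a : G) ^ (j * j) = a := by
      rw [pow_mul, hj, conj_pow, hj]
      have hh2 : h * h = 1 := mul_self_of_orderOf_two ho
      have hinv : h⁻¹ = h := inv_eq_self_of_orderOf_two ho
      rw [hinv, show h * (h * (a : G) * h) * h = (h * h) * a * (h * h) by group, hh2, one_mul, mul_one]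
    have hmod : (j * j) % 5 = 1 := by
      have := pow_inj_mod.1 (h2.trans (pow_one (a : G)).symm)
      rw [hao] at this
      omega
    have hj14 : j = 1 ∨ j = 4 := by
      interval_cases j <;> revert hmod <;> decide
    rcases hj14 with rfl | rfl
    · refine Finset.mem_insert.2 (Or.inl ((le_centralizer_of_unique P hP hC ht ht2).2 h ?_ ho))
      rw [← hCa, Subgroup.mem_centralizer_singleton_iff]
      rw [pow_one] at hj
      exact mul_inv_eq_iff_eq_mul.1 hj.symm
    · refine Finset.mem_insert.2 (Or.inr (Finset.mem_filter.2 ⟨Finset.mem_univ _, ?_⟩))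
      rw [← hj, eq_inv_iff_mul_eq_one, ← pow_succ, show 4 + 1 = orderOf (a : G) by rw [hao],
        pow_orderOf_eq_one]
  rw [Nat.card_eq_fintype_card, Fintype.card_subtype]
  exact (Finset.card_le_card hsub).trans ((Finset.card_insert_le _ _).trans (by omega))

/-- No finite simple group has order 1440 = 2^5 * 3^2 * 5. -/
theorem result {G : Type*} [Group G] [Finite G] [IsSimpleGroup G] : Nat.card G ≠ 1440 := by
  intro hN
  classical
  have hG := not_comm_of_card hN (by norm_num)
  haveI : Fact (Nat.Prime 5) := ⟨by norm_num⟩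
  haveI : Fact (Nat.Prime 3) := ⟨by norm_num⟩
  haveI : Fact (Nat.Prime 2) := ⟨by norm_num⟩
  have hidx : ∀ H : Subgroup G, H ≠ ⊤ → 8 ≤ H.index := fun H hH =>
    lt_index_of_not_dvd hG hH (b := 7) (by rw [hN]; decide)
  obtain ⟨P⟩ : Nonempty (Sylow 5 G) := inferInstance
  have hP : Nat.card (P : Subgroup G) = 5 := by
    simpa using card_sylow_eq (k := 1) (m := 288) (by rw [hN]; norm_num) (by decide) P
  have hn := card_sylow_mem hG (p := 5) (k := 1) (m := 288) (by rw [hN]; norm_num) one_ne_zero
    (by decide)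
  rw [show (Nat.divisors 288).filter (fun d => d % 5 = 1 ∧ d ≠ 1) = {6, 16, 36, 96} by
    decide +kernel] at hn
  simp only [Finset.mem_insert, Finset.mem_singleton] at hn
  have hcardN := card_sylow_mul_card_normalizer P
  have hfac := two_mul_card_dvd_factorial_sylow hG (p := 5) (by rw [hN]; norm_num)
  rw [hN] at hfac hcardN
  set N := Subgroup.normalizer ((P : Subgroup G) : Set G) with hNdef
  set C := Subgroup.centralizer ((P : Subgroup G) : Set G) with hCdef
  have hNidx : N.index = Nat.card (Sylow 5 G) := P.card_eq_index_normalizer.symm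
  have hNtop : N ≠ ⊤ := fun h => card_sylow_ne_one hG (p := 5) (by rw [hN]; norm_num)
    (by rw [← hNidx, h, Subgroup.index_top])
  rcases hn with hn | hn | hn | hn <;> rw [hn] at hcardN hfac hNidx
  · exact absurd hfac (by decide)
  · -- sixteen Sylow 5-subgroups
    have hN90 : Nat.card N = 90 := by omega
    have hrel := relIndex_centralizer_mem hG P hP hN90
    rw [show (Nat.divisors (5 - 1)).filter (fun e => e ∣ 90 ∧ e ≠ 1) = {2} by decide,
      Finset.mem_singleton] at hrel
    have hC : Nat.card C = 45 := by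
      have h := card_centralizer_mul_relIndex (P : Subgroup G)
      rw [hrel, hN90] at h
      exact Nat.eq_of_mul_eq_mul_right two_pos (h.trans (by norm_num : (90:ℕ) = 45 * 2))
    exact false_of_forty_five hG P hP hNidx hNtop hC
  · -- thirty-six Sylow 5-subgroups
    have hN40 : Nat.card N = 40 := by omega
    have hrel := relIndex_centralizer_mem hG P hP hN40
    rw [show (Nat.divisors (5 - 1)).filter (fun e => e ∣ 40 ∧ e ≠ 1) = {2, 4} by decide] at hrel
    simp only [Finset.mem_insert, Finset.mem_singleton] at hrel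
    have hmul := card_centralizer_mul_relIndex (P : Subgroup G)
    rw [hN40] at hmul
    -- an involution of the centraliser fixes exactly sixteen points
    have hf16 : ∀ t ∈ C, orderOf t = 2 → Nat.card (MulAction.fixedBy (G ⧸ N) t) = 16 := by
      intro t htC ht
      have h1 := card_fixedBy_modEq_one P hP htC
      have h2 := four_dvd_index_sub_fixedBy hG hNtop ht
      have h3 := card_fixedBy_lt_index hNtop (ne_one_of_orderOf_two ht)
      rw [← hNdef] at h1
      rw [hNidx] at h2 h3
      omega
    change Nat.card ↥C * _ = _ at hmul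
    rcases hrel with hrel | hrel <;> rw [hrel] at hmul
    · obtain ⟨K, hKC, hK⟩ := exists_two_subgroup_le (H := C) (k := 2)
        (Dvd.intro 5 (by norm_num; omega))
      obtain ⟨t, htK, ht, hQ⟩ := exists_invol_centralizing_two P
        (IsPGroup.of_card (p := 2) (n := 2) hK) hKC (by rw [hrel, hK]; norm_num) (by rw [hn]; norm_num)
      obtain ⟨n, k, hn5, hn1, hk40, hk4, hk5, hc⟩ := card_centralizer_of_two_sylows P htK hKC
        (le_centralizer_of_card_sq hK htK) hQ
      have hci := hidx _ (centralizer_singleton_ne_top hG (ne_one_of_orderOf_two ht))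
      have hcm := Subgroup.card_mul_index (Subgroup.centralizer ({t} : Set G))
      rw [hc, hN] at hcm
      rw [hK] at hk4
      rw [hP] at hk5
      rw [← hNdef, hN40] at hk40
      have hle : n * k ≤ 180 := by
        nlinarith [Nat.mul_le_mul_left (n * k) hci]
      have hk20 : 20 ∣ k := Nat.Coprime.mul_dvd_of_dvd_of_dvd (by norm_num : Nat.Coprime 4 5) hk4 hk5
      obtain ⟨j, rfl⟩ := hk20
      have hj : j = 1 ∨ j = 2 := by
        have := Nat.le_of_dvd (by norm_num) hk40
        rcases (show j = 0 ∨ j = 1 ∨ j = 2 by omega) with rfl | h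
        · simp at hk40
        · exact h
      have hn6 : n = 6 ∧ j = 1 := by rcases hj with rfl | rfl <;> omega
      have hF := card_fixedBy_mul_card N t
      rw [hf16 t (hKC htK) ht, hN40, hc, hn6.1, hn6.2] at hF
      omega
    · obtain ⟨t₀, ht₀⟩ := exists_prime_orderOf_dvd_card' (G := C) 2
        (by rw [show Nat.card C = 10 by omega]; norm_num)
      have ht : orderOf (t₀ : G) = 2 := by rw [Subgroup.orderOf_coe]; exact ht₀
      have htN : N ≤ Subgroup.centralizer ({(t₀ : G)} : Set G) :=
        (le_centralizer_of_unique P hP (show Nat.card C = 10 by omega) t₀.2 ht).1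
      obtain ⟨n, hn5, hc, -⟩ := exists_card_eq_mul_normalizer P (Subgroup.le_normalizer.trans htN)
      rw [← hNdef, inf_eq_left.2 htN, hN40] at hc
      have hci := hidx _ (centralizer_singleton_ne_top hG (ne_one_of_orderOf_two ht))
      have hcm := Subgroup.card_mul_index (Subgroup.centralizer ({(t₀ : G)} : Set G))
      rw [hc, hN] at hcm
      have hle : n * 40 ≤ 180 := by
        nlinarith [Nat.mul_le_mul_left (n * 40) hci]
      have hn1 : n = 1 := by omega
      have hF := card_fixedBy_mul_card N (t₀ : G)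
      rw [hf16 _ t₀.2 ht, hN40, hc, hn1] at hF
      have hm : Nat.card {h : G // h ∈ N ∧ IsConj (t₀ : G) h} ≤ 11 :=
        card_conj_in_normalizer_le P hP (show Nat.card C = 10 by omega) t₀.2 ht
      omega
  · have hN15 : Nat.card N = 15 := by omega
    exact false_of_coprime_normalizer hG P hP (by rw [← hNdef, hN15]; decide)

end Cfsg.Agent.S1016
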