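import Cfsg.Statements.S1017
import Cfsg.Agent.Small.OrderTools

set_option autoImplicit false
open Cfsg CfsgLib.Small

namespace Cfsg.Agent.S1017

/-- No finite simple group has order 2016 = 2^5 * 3^2 * 7. -/
theorem result {G : Type*} [Group G] [Finite G] [IsSimpleGroup G] : Nat.card G ≠ 2016 := by
  intro hN
  classical
  have hG := not_comm_of_card hN (by norm_num)
  haveI : Fact (Nat.Prime 7) := ⟨by norm_num⟩
  haveI : Fact (Nat.Prime 2) := ⟨by norm_num⟩
  have hidx : ∀ H : Subgroup G, H ≠ ⊤ → 8 ≤ H.index := fun H hH =>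
    lt_index_of_not_dvd hG hH (b := 7) (by rw [hN]; decide)
  obtain ⟨P⟩ : Nonempty (Sylow 7 G) := inferInstance
  have hP : Nat.card (P : Subgroup G) = 7 := by
    simpa using card_sylow_eq (k := 1) (m := 288) (by rw [hN]; norm_num) (by decide) P
  have hn := card_sylow_mem hG (p := 7) (k := 1) (m := 288) (by rw [hN]; norm_num) one_ne_zero
    (by decide)
  rw [show (Nat.divisors 288).filter (fun d => d % 7 = 1 ∧ d ≠ 1) = {8, 36, 288} by
    decide +kernel] at hn
  simp only [Finset.mem_insert, Finset.mem_singleton] at hn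
  have hcardN := card_sylow_mul_card_normalizer P
  rw [hN] at hcardN
  set N := Subgroup.normalizer ((P : Subgroup G) : Set G) with hNdef
  set C := Subgroup.centralizer ((P : Subgroup G) : Set G) with hCdef
  have hNidx : N.index = Nat.card (Sylow 7 G) := P.card_eq_index_normalizer.symm
  have hNtop : N ≠ ⊤ := fun h => card_sylow_ne_one hG (p := 7) (by rw [hN]; norm_num)
    (by rw [← hNidx, h, Subgroup.index_top])
  have hmul : Nat.card ↥C * C.relIndex N = Nat.card ↥N :=
    card_centralizer_mul_relIndex (P : Subgroup G)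
  rcases hn with hn | hn | hn <;> rw [hn] at hcardN hNidx
  · -- eight Sylow 7-subgroups
    have hN252 : Nat.card N = 252 := by omega
    have hrel := relIndex_centralizer_mem hG P hP hN252
    rw [show (Nat.divisors (7 - 1)).filter (fun e => e ∣ 252 ∧ e ≠ 1) = {2, 3, 6} by decide] at hrel
    simp only [Finset.mem_insert, Finset.mem_singleton] at hrel
    rw [hN252] at hmul
    obtain ⟨t₀, ht₀⟩ := exists_prime_orderOf_dvd_card' (G := C) 2
      (by rcases hrel with h | h | h <;> rw [h] at hmul <;> omega)
    have ht : orderOf (t₀ : G) = 2 := by rw [Subgroup.orderOf_coe]; exact ht₀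
    have h1 := card_fixedBy_modEq_one P hP t₀.2
    have h2 := four_dvd_index_sub_fixedBy hG hNtop ht
    have h3 := card_fixedBy_lt_index hNtop (ne_one_of_orderOf_two ht)
    rw [← hNdef] at h1
    rw [hNidx] at h2 h3
    omega
  · -- thirty-six Sylow 7-subgroups
    have hN56 : Nat.card N = 56 := by omega
    have hrel := relIndex_centralizer_mem hG P hP hN56
    rw [show (Nat.divisors (7 - 1)).filter (fun e => e ∣ 56 ∧ e ≠ 1) = {2} by decide,
      Finset.mem_singleton] at hrel
    change C.relIndex N = 2 at hrel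
    rw [hrel, hN56] at hmul
    obtain ⟨K, hKC, hK⟩ := exists_two_subgroup_le (H := C) (k := 2)
      (Dvd.intro 7 (by norm_num; omega))
    obtain ⟨t, htK, ht, hQ⟩ := exists_invol_centralizing_two P
      (IsPGroup.of_card (p := 2) (n := 2) hK) hKC (by rw [hrel, hK]; norm_num) (by rw [hn]; norm_num)
    obtain ⟨n, k, hn7, hn1, hk56, hk4, hk7, hc⟩ := card_centralizer_of_two_sylows P htK hKC
      (le_centralizer_of_card_sq hK htK) hQ
    have hMtop := centralizer_singleton_ne_top hG (ne_one_of_orderOf_two ht)
    have hci := hidx _ hMtop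
    have hcm := Subgroup.card_mul_index (Subgroup.centralizer ({t} : Set G))
    rw [hc, hN] at hcm
    rw [hK] at hk4
    rw [hP] at hk7
    rw [← hNdef, hN56] at hk56
    have hle : n * k ≤ 252 := by
      nlinarith [Nat.mul_le_mul_left (n * k) hci]
    have hk28 : 28 ∣ k := Nat.Coprime.mul_dvd_of_dvd_of_dvd (by norm_num : Nat.Coprime 4 7) hk4 hk7
    obtain ⟨j, rfl⟩ := hk28
    have hj : j = 1 ∨ j = 2 := by
      have := Nat.le_of_dvd (by norm_num) hk56
      rcases (show j = 0 ∨ j = 1 ∨ j = 2 by omega) with rfl | h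
      · simp at hk56
      · exact h
    have hn8 : n = 8 ∧ j = 1 := by rcases hj with rfl | rfl <;> omega
    obtain ⟨rfl, rfl⟩ := hn8
    set M := Subgroup.centralizer ({t} : Set G) with hM
    have hMidx : M.index = 9 := by omega
    -- the action on nine points
    haveI : Nontrivial ↥(P : Subgroup G) :=
      Finite.one_lt_card_iff_nontrivial.1 (by rw [hP]; norm_num)
    obtain ⟨a, ha⟩ := exists_ne (1 : ↥(P : Subgroup G))
    have ha1 : (a : G) ≠ 1 := fun h => ha (Subtype.ext h)
    have hao : orderOf (a : G) = 7 := orderOf_eq_of_mem_prime hP a.2 ha1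
    have hcom : Commute t (a : G) := (Subgroup.mem_centralizer_iff.1 (hKC htK) a a.2).symm
    have ha7 : (a : G) ^ 7 ^ 1 = 1 := by
      rw [pow_one]; exact orderOf_dvd_iff_pow_eq_one.1 (dvd_of_eq hao)
    have ha2 := card_fixedBy_modEq_index (q := 7) (k := 1) M ha7
    have halt := card_fixedBy_lt_index hMtop ha1
    have ht4 := four_dvd_index_sub_fixedBy hG hMtop ht
    have htlt := card_fixedBy_lt_index hMtop (ne_one_of_orderOf_two ht)
    have hmod := card_fixedBy_modEq_inter (q := 7) (k := 1) M hcom ha7
    rw [hMidx] at ha2 halt ht4 htlt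
    have hboth : Nat.card {c : G ⧸ M // t • c = c ∧ (a : G) • c = c}
        = Nat.card (MulAction.fixedBy (G ⧸ M) (a : G)) := by
      have h2 : Nat.card (MulAction.fixedBy (G ⧸ M) (a : G)) = 2 := by omega
      have hbase : ∀ g : G, g ∈ M → g • ((1 : G) : G ⧸ M) = ((1 : G) : G ⧸ M) := fun g hg => by
        show ((g * 1 : G) : G ⧸ M) = _
        rw [mul_one, QuotientGroup.eq, mul_one]
        exact inv_mem hg
      have htb := hbase t (Subgroup.mem_centralizer_singleton_iff.2 rfl)
      have hab := hbase a (Subgroup.mem_centralizer_singleton_iff.2 hcom.eq.symm)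
      refine Nat.card_congr (Equiv.subtypeEquivRight fun c => ⟨fun h => h.2, fun h => ⟨?_, h⟩⟩)
      have htc : (a : G) • (t • c) = t • c := by
        rw [smul_smul, ← hcom.eq, ← smul_smul, h]
      by_cases hc1 : c = ((1 : G) : G ⧸ M)
      · rw [hc1]; exact htb
      · obtain ⟨x, y, hxy, hu⟩ := Nat.card_eq_two_iff.1 h2
        have hmem : ∀ z : MulAction.fixedBy (G ⧸ M) (a : G), z = x ∨ z = y := fun z => by
          have := hu.symm ▸ Set.mem_univ z
          simpa using this
        have hne : t • c ≠ ((1 : G) : G ⧸ M) := fun h' =>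
          hc1 (MulAction.injective t (h'.trans htb.symm))
        rcases hmem ⟨_, htc⟩ with e1 | e1 <;> rcases hmem ⟨c, h⟩ with e2 | e2 <;>
          rcases hmem ⟨_, hab⟩ with e3 | e3 <;>
          first
          | exact congrArg Subtype.val (e1.trans e2.symm)
          | exact absurd (congrArg Subtype.val (e1.trans e3.symm)) hne
          | exact absurd (congrArg Subtype.val (e2.trans e3.symm)) hc1
    omega
  · have hN7 : Nat.card N = 7 := by omega
    exact false_of_coprime_normalizer hG P hP (by rw [← hNdef, hN7]; decide)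

end Cfsg.Agent.S1017
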