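import Cfsg.Statements.S1019
import Cfsg.Agent.Small.Counting
import Mathlib.GroupTheory.Index

set_option autoImplicit false
open Cfsg

namespace Cfsg.Agent.S1019

/-- Let H be a subgroup of a finite group G and x an element of H. In the action of G on the left cosets of H, the number of cosets fixed by x, multiplied by the size of the conjugacy class of x, equals the index of H multiplied by the number of conjugates of x that lie in H. -/
theorem result {G : Type*} [Group G] [Finite G] (H : Subgroup G) (x : G) (hx : x ∈ H) : Nat.card (MulAction.fixedBy (G ⧸ H) x) * Nat.card {g : G // IsConj x g} = H.index * Nat.card {g : G // IsConj x g ∧ g ∈ H} := by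
  classical
  -- both sides count pairs `(g, c)` with `g⁻¹ x g ∈ H`
  have e1 : Nat.card {g : G // g⁻¹ * x * g ∈ H}
      = Nat.card (MulAction.fixedBy (G ⧸ H) x) * Nat.card H := by
    have hset : {g : G | g⁻¹ * x * g ∈ H} = QuotientGroup.mk ⁻¹' (MulAction.fixedBy (G ⧸ H) x) := by
      ext g
      simp only [Set.mem_setOf_eq, Set.mem_preimage, MulAction.mem_fixedBy]
      show _ ↔ ((x * g : G) : G ⧸ H) = g
      rw [eq_comm, QuotientGroup.eq, mul_assoc]
    rw [show Nat.card {g : G // g⁻¹ * x * g ∈ H} = Nat.card ↥{g : G | g⁻¹ * x * g ∈ H} from rfl,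
      hset, Nat.card_congr (QuotientGroup.preimageMkEquivSubgroupProdSet H _), Nat.card_prod,
      mul_comm]
  have e2 : Nat.card {g : G // g⁻¹ * x * g ∈ H}
      = Nat.card {g : G // IsConj x g ∧ g ∈ H} * Nat.card (Subgroup.centralizer ({x} : Set G)) := by
    rw [← Nat.card_prod]
    have hex : ∀ y : {g : G // IsConj x g ∧ g ∈ H}, ∃ a : G, a⁻¹ * x * a = y.1 := fun y => by
      obtain ⟨c, hc⟩ := isConj_iff.1 y.2.1
      exact ⟨c⁻¹, by rw [inv_inv, hc]⟩
    choose a ha using hex
    symm
    refine Nat.card_congr (Equiv.ofBijective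
      (fun q => ⟨(q.2 : G) * a q.1, ?_⟩) ⟨?_, ?_⟩)
    · have hc := Subgroup.mem_centralizer_singleton_iff.1 q.2.2
      have : ((q.2 : G) * a q.1)⁻¹ * x * ((q.2 : G) * a q.1) = q.1.1 := by
        calc ((q.2 : G) * a q.1)⁻¹ * x * ((q.2 : G) * a q.1)
            = (a q.1)⁻¹ * ((q.2 : G)⁻¹ * (x * (q.2 : G))) * a q.1 := by group
          _ = q.1.1 := by rw [← hc, inv_mul_cancel_left, ha]
      rw [this]
      exact q.1.2.2
    · rintro ⟨y, c⟩ ⟨y', c'⟩ h
      have h' : (c : G) * a y = c' * a y' := congrArg Subtype.val h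
      have hy : ∀ (y : {g : G // IsConj x g ∧ g ∈ H}) (c : Subgroup.centralizer ({x} : Set G)),
          ((c : G) * a y)⁻¹ * x * ((c : G) * a y) = y.1 := by
        intro y c
        have hc := Subgroup.mem_centralizer_singleton_iff.1 c.2
        calc ((c : G) * a y)⁻¹ * x * ((c : G) * a y)
            = (a y)⁻¹ * ((c : G)⁻¹ * (x * (c : G))) * a y := by group
          _ = y.1 := by rw [← hc, inv_mul_cancel_left, ha]
      obtain rfl : y = y' := Subtype.ext (by rw [← hy y c, h', hy])
      rw [Subtype.ext (mul_right_cancel h') (a1 := c) (a2 := c')]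
    · rintro ⟨g, hg⟩
      let y : {g : G // IsConj x g ∧ g ∈ H} :=
        ⟨g⁻¹ * x * g, isConj_iff.2 ⟨g⁻¹, by rw [inv_inv]⟩, hg⟩
      refine ⟨(y, ⟨g * (a y)⁻¹, Subgroup.mem_centralizer_singleton_iff.2 ?_⟩), Subtype.ext ?_⟩
      · have h := ha y
        calc g * (a y)⁻¹ * x = g * ((a y)⁻¹ * x * a y) * (a y)⁻¹ := by group
          _ = x * (g * (a y)⁻¹) := by rw [h]; show g * (g⁻¹ * x * g) * _ = _; group
      · exact inv_mul_cancel_right g (a y)
  have hc := CfsgLib.Small.card_conjugates_mul_card_centralizer (G := G) x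
  have hi := Subgroup.index_mul_card H
  refine Nat.eq_of_mul_eq_mul_left (Nat.card_pos (α := H)) ?_
  calc Nat.card H * (Nat.card (MulAction.fixedBy (G ⧸ H) x) * Nat.card {g : G // IsConj x g})
      = Nat.card {g : G // g⁻¹ * x * g ∈ H} * Nat.card {g : G // IsConj x g} := by rw [e1]; ring
    _ = Nat.card {g : G // IsConj x g ∧ g ∈ H} * Nat.card G := by rw [e2, ← hc]; ring
    _ = _ := by rw [← hi]; ring

end Cfsg.Agent.S1019
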