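import Cfsg.Statements.S1022
import Mathlib.GroupTheory.Transfer
import Cfsg.Agent.Small.OrderTools

set_option autoImplicit false
open Cfsg CfsgLib.Small

namespace Cfsg.Agent.S1022

/-- A centraliser of order `7296 = 96 · 76` is impossible. -/
theorem false_of_index_sixty_three {G : Type*} [Group G] [Finite G] [Fact (Nat.Prime 19)]
    [Fact (Nat.Prime 2)] (P : Sylow 19 G) (hP : Nat.card (P : Subgroup G) = 19)
    {K : Subgroup G} (hKC : K ≤ Subgroup.centralizer ((P : Subgroup G) : Set G))
    (hK : Nat.card K = 2 ^ 2) {t : G} (htK : t ∈ K) (ht : orderOf t = 2)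
    (hM : Nat.card (Subgroup.centralizer ({t} : Set G)) = 96 * 76)
    (hQ : ∃ Q : Sylow 19 G, Q ≠ P ∧ (Q : Subgroup G) ≤ Subgroup.centralizer ({t} : Set G)) : False := by
  classical
  set M := Subgroup.centralizer ({t} : Set G)
  have hPM : (P : Subgroup G) ≤ M := sylow_le_centralizer_singleton P (hKC htK)
  have hKM : K ≤ M := le_centralizer_of_card_sq hK htK
  let P' : Sylow 19 ↥M := P.subtype hPM
  have hP' : Nat.card (P' : Subgroup ↥M) = 19 :=
    (Nat.card_congr (Subgroup.subgroupOfEquivOfLe hPM).toEquiv).trans hP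
  set N' := Subgroup.normalizer ((P' : Subgroup ↥M) : Set ↥M)
  set C' := Subgroup.centralizer ((P' : Subgroup ↥M) : Set ↥M)
  have hCN : C' ≤ N' := Subgroup.centralizer_le_normalizer _
  have h76 : 76 ∣ Nat.card C' := by
    refine Nat.Coprime.mul_dvd_of_dvd_of_dvd (by norm_num : Nat.Coprime 4 19) ?_ ?_
    · have hle : K.subgroupOf M ≤ C' := by
        intro x hx
        rw [Subgroup.mem_centralizer_iff]
        intro y hy
        exact Subtype.ext (Subgroup.mem_centralizer_iff.1 (hKC hx) (y : G) hy)
      have h := Subgroup.card_dvd_of_le hle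
      rwa [Nat.card_congr (Subgroup.subgroupOfEquivOfLe hKM).toEquiv, hK] at h
    · haveI : IsCyclic ↥(P' : Subgroup ↥M) := isCyclic_of_prime_card hP'
      exact hP' ▸ Subgroup.card_dvd_of_le (Subgroup.le_centralizer (P' : Subgroup ↥M))
  have hprod := card_sylow_mul_card_normalizer P'
  rw [hM] at hprod
  change Nat.card (Sylow 19 ↥M) * Nat.card ↥N' = _ at hprod
  have hmod := card_sylow_mod (G := ↥M) 19
  have hN76 : 76 ∣ Nat.card N' := h76.trans (Subgroup.card_dvd_of_le hCN)
  have hs : Nat.card (Sylow 19 ↥M) = 96 ∨ Nat.card (Sylow 19 ↥M) = 1 := by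
    obtain ⟨j, hj⟩ := hN76
    rw [hj] at hprod
    have hd : Nat.card (Sylow 19 ↥M) ∣ 96 := ⟨j, by linarith⟩
    have hle := Nat.le_of_dvd (by norm_num) hd
    have hall : ∀ m < 97, m % 19 = 1 → m ∣ 96 → m = 96 ∨ m = 1 := by decide +kernel
    exact hall _ (by omega) hmod hd
  have hT0 : ∀ T : Sylow 2 ↥M, Nat.card (T : Subgroup ↥M) = 2 ^ 7 := fun T =>
    card_sylow_eq (m := 57) (by rw [hM]; norm_num) (by norm_num) T
  -- no element of order 19 with a small centraliser normalises a Sylow 2-subgroup
  have hbad : ∀ (T : Sylow 2 ↥M) (a : ↥M), orderOf a = 19 →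
      a ∈ Subgroup.normalizer ((T : Subgroup ↥M) : Set ↥M) →
      Nat.card (Subgroup.centralizer ({a} : Set ↥M)) ∣ 76 → False := by
    intro T a ha haT hcent
    letI : MulAction ↥(Subgroup.zpowers a) ↥(T : Subgroup ↥M) :=
      MulAction.compHom _ ((T : Subgroup ↥M).normalizerMonoidHom.comp
        (Subgroup.inclusion (Subgroup.zpowers_le.2 haT)))
    have hX : IsPGroup 19 ↥(Subgroup.zpowers a) :=
      IsPGroup.of_card (n := 1) (by rw [Nat.card_zpowers, ha, pow_one])
    have hmod := hX.card_modEq_card_fixedPoints (α := ↥(T : Subgroup ↥M))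
    have hfix : Nat.card (MulAction.fixedPoints ↥(Subgroup.zpowers a) ↥(T : Subgroup ↥M))
        ≤ Nat.card ↥((T : Subgroup ↥M) ⊓ Subgroup.centralizer ({a} : Set ↥M)) := by
      refine Nat.card_le_card_of_injective (fun c => ⟨c.1.1, c.1.2, ?_⟩) ?_
      · have h : a * (c.1 : ↥M) * a⁻¹ = c.1 :=
          congrArg Subtype.val (c.2 ⟨a, Subgroup.mem_zpowers a⟩)
        exact Subgroup.mem_centralizer_singleton_iff.2 (mul_inv_eq_iff_eq_mul.1 h).symm
      · exact fun c d h => Subtype.ext (Subtype.ext (congrArg Subtype.val h :))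
    have h4 : Nat.card ↥((T : Subgroup ↥M) ⊓ Subgroup.centralizer ({a} : Set ↥M)) ∣ 4 := by
      have h1 := Nat.dvd_gcd
        (Subgroup.card_dvd_of_le (inf_le_left : (T : Subgroup ↥M) ⊓ Subgroup.centralizer ({a} : Set ↥M) ≤ _))
        ((Subgroup.card_dvd_of_le (inf_le_right :
          (T : Subgroup ↥M) ⊓ Subgroup.centralizer ({a} : Set ↥M) ≤ _)).trans hcent)
      rw [hT0 T] at h1
      exact h1.trans (by norm_num)
    have := Nat.le_of_dvd (by norm_num) h4
    rw [hT0 T, Nat.ModEq] at hmod
    norm_num at hmod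
    rw [Nat.card_coe_set_eq] at hfix
    omega
  rcases hs with hs | hs <;> rw [hs] at hprod
  · have hN' : Nat.card N' = 76 := by omega
    have hle : N' ≤ C' := by
      refine le_of_eq (Subgroup.eq_of_le_of_card_ge hCN ?_).symm
      rw [hN']
      exact Nat.le_of_dvd Nat.card_pos h76
    have hcompl := MonoidHom.ker_transferSylow_isComplement' P' hle
    set R := (MonoidHom.transferSylow P' hle).ker
    have hR : Nat.card R = 384 := by
      have h := hcompl.card_mul_card
      rw [show Nat.card ↥(P' : Subgroup ↥M) = 19 from hP', hM] at h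
      omega
    obtain ⟨T⟩ : Nonempty (Sylow 2 ↥M) := inferInstance
    have hTR : (T : Subgroup ↥M) ≤ R := by
      intro g hg
      rw [← QuotientGroup.eq_one_iff g, ← orderOf_eq_one_iff]
      have h1 : orderOf ((g : ↥M ⧸ R)) ∣ 2 ^ 7 :=
        (orderOf_map_dvd (QuotientGroup.mk' R) g).trans (hT0 T ▸ Subgroup.orderOf_dvd_natCard _ hg)
      have h2 : orderOf ((g : ↥M ⧸ R)) ∣ R.index := orderOf_dvd_natCard _
      have h3 := Subgroup.card_mul_index R
      rw [hR, hM] at h3
      rw [show R.index = 19 by omega] at h2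
      exact Nat.eq_one_of_dvd_coprimes (by norm_num) h1 h2
    have htop := T.normalizer_sup_eq_top' hTR
    set NT := Subgroup.normalizer ((T : Subgroup ↥M) : Set ↥M)
    have h19 : 19 ∣ Nat.card NT := by
      by_contra h
      have hcop : Nat.Coprime (Nat.card NT) R.index := by
        have h3 := Subgroup.card_mul_index R
        rw [hR, hM] at h3
        rw [show R.index = 19 by omega, Nat.coprime_comm]
        exact (Nat.Prime.coprime_iff_not_dvd (by norm_num)).2 h
      have hNR : NT ≤ R := fun g hg => by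
        rw [← QuotientGroup.eq_one_iff g, ← orderOf_eq_one_iff]
        exact Nat.eq_one_of_dvd_coprimes hcop
          ((orderOf_map_dvd (QuotientGroup.mk' R) g).trans (Subgroup.orderOf_dvd_natCard _ hg))
          (orderOf_dvd_natCard _)
      have hRtop : R = ⊤ := top_unique (htop ▸ sup_le hNR le_rfl)
      have h3 := Subgroup.card_top (G := ↥M)
      rw [← hRtop, hR, hM] at h3
      norm_num at h3
    obtain ⟨a, ha⟩ := exists_prime_orderOf_dvd_card' (G := NT) 19 h19
    have ha' : orderOf (a : ↥M) = 19 := by rw [Subgroup.orderOf_coe]; exact ha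
    refine hbad T a ha' a.2 ?_
    have hQ : Nat.card ↥(Subgroup.zpowers (a : ↥M)) = 19 := by rw [Nat.card_zpowers, ha']
    obtain ⟨Q, hQ'⟩ := (IsPGroup.of_card (n := 1) (by rw [hQ, pow_one]) :
      IsPGroup 19 ↥(Subgroup.zpowers (a : ↥M))).exists_le_sylow
    have hQcard : Nat.card ↥(Q : Subgroup ↥M) = 19 := by
      simpa using card_sylow_eq (k := 1) (m := 384) (by rw [hM]; norm_num) (by norm_num) Q
    have hQa : Subgroup.zpowers (a : ↥M) = (Q : Subgroup ↥M) :=
      Subgroup.eq_of_le_of_card_ge hQ' (by rw [hQ, hQcard])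
    have hcQ := card_sylow_mul_card_normalizer Q
    rw [hs, hM] at hcQ
    refine dvd_trans (Subgroup.card_dvd_of_le (fun x hx => ?_)) (dvd_of_eq (show
      Nat.card (Subgroup.normalizer ((Q : Subgroup ↥M) : Set ↥M)) = 76 by omega))
    refine Subgroup.centralizer_le_normalizer _ ?_
    rw [Subgroup.mem_centralizer_iff]
    intro y hy
    obtain ⟨i, rfl⟩ : y ∈ Subgroup.zpowers (a : ↥M) := hQa.symm ▸ hy
    exact ((Commute.zpow_right (Subgroup.mem_centralizer_singleton_iff.1 hx) i).eq).symm
  · -- a single Sylow 19-subgroup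
    haveI : Subsingleton (Sylow 19 ↥M) := (Nat.card_eq_one_iff_unique.1 hs).1
    obtain ⟨Q, hne, hQM⟩ := hQ
    exact hne (Sylow.subtype_injective (Subsingleton.elim (Q.subtype hQM) P'))

/-- No finite simple group has order 459648 = 2^7 * 3^3 * 7 * 19. -/
theorem result {G : Type*} [Group G] [Finite G] [IsSimpleGroup G] : Nat.card G ≠ 459648 := by
  intro hN
  classical
  have hG := not_comm_of_card hN (by norm_num)
  haveI : Fact (Nat.Prime 19) := ⟨by norm_num⟩
  haveI : Fact (Nat.Prime 7) := ⟨by norm_num⟩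
  haveI : Fact (Nat.Prime 2) := ⟨by norm_num⟩
  have hidx : ∀ H : Subgroup G, H ≠ ⊤ → 19 ≤ H.index := fun H hH =>
    lt_index_of_not_dvd hG hH (b := 18) (by rw [hN]; decide +kernel)
  obtain ⟨P⟩ : Nonempty (Sylow 19 G) := inferInstance
  have hP : Nat.card (P : Subgroup G) = 19 := by
    simpa using card_sylow_eq (k := 1) (m := 24192) (by rw [hN]; norm_num) (by norm_num) P
  have hn := card_sylow_mem hG (p := 19) (k := 1) (m := 24192) (by rw [hN]; norm_num) one_ne_zero
    (by norm_num)
  rw [show (Nat.divisors 24192).filter (fun d => d % 19 = 1 ∧ d ≠ 1) = {96, 1008} by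
    decide +kernel] at hn
  simp only [Finset.mem_insert, Finset.mem_singleton] at hn
  have hcardN := card_sylow_mul_card_normalizer P
  rw [hN] at hcardN
  set N := Subgroup.normalizer ((P : Subgroup G) : Set G) with hNdef
  set C := Subgroup.centralizer ((P : Subgroup G) : Set G) with hCdef
  have hNidx : N.index = Nat.card (Sylow 19 G) := P.card_eq_index_normalizer.symm
  have hNtop : N ≠ ⊤ := fun h => card_sylow_ne_one hG (p := 19) (by rw [hN]; norm_num)
    (by rw [← hNidx, h, Subgroup.index_top])
  have hmul : Nat.card ↥C * C.relIndex N = Nat.card ↥N :=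
    card_centralizer_mul_relIndex (P : Subgroup G)
  rcases hn with hn | hn <;> rw [hn] at hcardN hNidx
  · -- ninety-six Sylow 19-subgroups: an element of order 7 in the centraliser
    have hN4788 : Nat.card N = 4788 := by omega
    have hrel := relIndex_centralizer_mem hG P hP hN4788
    rw [show (Nat.divisors (19 - 1)).filter (fun e => e ∣ 4788 ∧ e ≠ 1) = {2, 3, 6, 9, 18} by
      decide +kernel] at hrel
    simp only [Finset.mem_insert, Finset.mem_singleton] at hrel
    change C.relIndex N = 2 ∨ C.relIndex N = 3 ∨ C.relIndex N = 6 ∨ C.relIndex N = 9 ∨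
      C.relIndex N = 18 at hrel
    rw [hN4788] at hmul
    obtain ⟨y₀, hy₀⟩ := exists_prime_orderOf_dvd_card' (G := C) 7
      (by rcases hrel with h | h | h | h | h <;> rw [h] at hmul <;> omega)
    have hy : orderOf (y₀ : G) = 7 := by rw [Subgroup.orderOf_coe]; exact hy₀
    have h1 := card_fixedBy_modEq_one P hP y₀.2
    have h2 := card_fixedBy_modEq_index (q := 7) (k := 1) N (x := (y₀ : G))
      (by rw [pow_one]; exact orderOf_dvd_iff_pow_eq_one.1 (dvd_of_eq hy))
    have h3 := card_fixedBy_lt_index hNtop (t := (y₀ : G))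
      (fun h => by rw [h, orderOf_one] at hy; omega)
    rw [← hNdef] at h1
    rw [hNidx] at h2 h3
    omega
  · -- a thousand and eight Sylow 19-subgroups
    have hN456 : Nat.card N = 456 := by omega
    have hrel := relIndex_centralizer_mem hG P hP hN456
    rw [show (Nat.divisors (19 - 1)).filter (fun e => e ∣ 456 ∧ e ≠ 1) = {2, 3, 6} by
      decide +kernel] at hrel
    simp only [Finset.mem_insert, Finset.mem_singleton] at hrel
    change C.relIndex N = 2 ∨ C.relIndex N = 3 ∨ C.relIndex N = 6 at hrel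
    rw [hN456] at hmul
    obtain ⟨K, hKC, hK⟩ := exists_two_subgroup_le (H := C) (k := 2)
      (by rcases hrel with h | h | h <;> rw [h] at hmul <;> omega)
    obtain ⟨t, htK, ht, hQ⟩ := exists_invol_centralizing_two' P
      (IsPGroup.of_card (p := 2) (n := 2) hK) hKC
      (show ¬ Nat.card K ∣ C.relIndex N by
        rw [hK]; rcases hrel with h | h | h <;> rw [h] <;> norm_num)
      (by rw [hn]; norm_num)
    obtain ⟨n, k, hn19, hn1, hk456, hk4, hk19, hc⟩ := card_centralizer_of_two_sylows P htK hKC
      (le_centralizer_of_card_sq hK htK) hQ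
    have hMtop := centralizer_singleton_ne_top hG (ne_one_of_orderOf_two ht)
    have hci := hidx _ hMtop
    have hcm := Subgroup.card_mul_index (Subgroup.centralizer ({t} : Set G))
    rw [hK] at hk4
    rw [hP] at hk19
    rw [← hNdef, hN456] at hk456
    set M := Subgroup.centralizer ({t} : Set G) with hM
    rw [hc, hN] at hcm
    have hk76 : 76 ∣ k := Nat.Coprime.mul_dvd_of_dvd_of_dvd (by norm_num : Nat.Coprime 4 19) hk4 hk19
    have hle : n * k ≤ 24192 := by nlinarith [Nat.mul_le_mul_left (n * k) hci]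
    have hcases : n = 96 ∧ (k = 76 ∨ k = 228) := by
      obtain ⟨j, rfl⟩ := hk76
      have hj6 : j ≤ 6 := by have := Nat.le_of_dvd (by norm_num) hk456; omega
      have hn20 : 20 ≤ n := by omega
      have hn318 : n ≤ 318 := by
        rcases Nat.eq_zero_or_pos j with rfl | hj
        · simp at hk456
        · nlinarith
      have hdvd : n * (76 * j) ∣ 459648 := ⟨M.index, hcm.symm⟩
      have hnd : n ∣ 24192 := by
        have h : n ∣ 459648 := (dvd_mul_right n _).trans hdvd
        rw [show (459648 : ℕ) = 19 * 24192 by norm_num] at h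
        refine Nat.Coprime.dvd_of_dvd_mul_left ?_ h
        rw [Nat.coprime_comm, Nat.Prime.coprime_iff_not_dvd (by norm_num)]
        omega
      have hall : ∀ m < 319, m % 19 = 1 → 20 ≤ m → m ∣ 24192 → m = 96 := by decide +kernel
      obtain rfl := hall n (by omega) hn19 hn20 hnd
      refine ⟨rfl, ?_⟩
      interval_cases j <;> first | omega | (norm_num at hdvd) | (norm_num at hk456)
    obtain ⟨rfl, hk⟩ := hcases
    rcases hk with rfl | rfl
    · exact false_of_index_sixty_three P hP hKC hK htK ht hc hQ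
    · -- the action on twenty-one points
      have hMidx : M.index = 21 := by omega
      haveI : Nontrivial ↥(P : Subgroup G) :=
        Finite.one_lt_card_iff_nontrivial.1 (by rw [hP]; norm_num)
      obtain ⟨a, ha⟩ := exists_ne (1 : ↥(P : Subgroup G))
      have ha1 : (a : G) ≠ 1 := fun h => ha (Subtype.ext h)
      have hao : orderOf (a : G) = 19 := orderOf_eq_of_mem_prime hP a.2 ha1
      have hcom : Commute t (a : G) := (Subgroup.mem_centralizer_iff.1 (hKC htK) a a.2).symm
      have ha19 : (a : G) ^ 19 ^ 1 = 1 := by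
        rw [pow_one]; exact orderOf_dvd_iff_pow_eq_one.1 (dvd_of_eq hao)
      have ha2 := card_fixedBy_modEq_index (q := 19) (k := 1) M ha19
      have halt := card_fixedBy_lt_index hMtop ha1
      have ht4 := four_dvd_index_sub_fixedBy hG hMtop ht
      have htlt := card_fixedBy_lt_index hMtop (ne_one_of_orderOf_two ht)
      have hmod := card_fixedBy_modEq_inter (q := 19) (k := 1) M hcom ha19
      rw [hMidx] at ha2 halt ht4 htlt
      have hboth := card_inter_fixedBy_eq_two (M := M) hcom (Subgroup.mem_centralizer_singleton_iff.2 rfl)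
        (Subgroup.mem_centralizer_singleton_iff.2 hcom.eq.symm) (by omega)
      omega

end Cfsg.Agent.S1022
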