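import Cfsg.Statements.S1025
import Cfsg.Agent.Chevalley.CommData

set_option autoImplicit false
open Cfsg

namespace Cfsg.Agent.S1025

/-- Chevalley's commutator formula: for roots `s ≠ ±r`, `x_s(u) x_r(t) = x_r(t) x_s(u) · ∏_{i,j>0} x_{ir+js}(C_{ijrs} (-t)^i u^j)`, the product (in order of increasing `i + j`) and the constants being those of `commWord`. -/
theorem result {F : Type*} [Field F] (D : Cfsg.Lie.ChevalleyDatum) (hD : D ∈ [Cfsg.Lie.chevG2, Cfsg.Lie.chevB2, Cfsg.Lie.chevD4, Cfsg.Lie.chevF4, Cfsg.Lie.chevE6, Cfsg.Lie.chevE7, Cfsg.Lie.chevE8]) (r s : ℕ) (hr : r < D.nroots) (hs : s < D.nroots)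
    (hrs : s ≠ r) (hneg : s ≠ D.neg r) (t u : F) :
    D.x F s u * D.x F r t = D.x F r t * D.x F s u * D.wordMat F (D.commWord F r s t u) := by
  have h := CfsgLib.Chevalley.goodComm_of_mem hD
  have hn : (⟨s, hs⟩ : Fin D.nroots) ≠ Fin.rev ⟨r, hr⟩ := fun e =>
    hneg (by rw [h.good.neg_fin ⟨r, hr⟩, ← e])
  have e := CfsgLib.Chevalley.X_comm h (⟨r, hr⟩ : Fin D.nroots) ⟨s, hs⟩
    (fun e => hrs (congrArg Fin.val e)) hn t u
  have e' := congrArg (fun g : Matrix.GeneralLinearGroup D.Idx F => (g : Matrix D.Idx D.Idx F)) e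
  simp only [Units.val_mul, CfsgLib.Chevalley.coe_X, ← CfsgLib.Chevalley.x_eq_xR h.good,
    CfsgLib.Chevalley.commRhs, CfsgLib.Chevalley.coe_wordGL] at e'
  exact e'

end Cfsg.Agent.S1025
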