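import Cfsg.Statements.S1026
import Cfsg.Agent.Chevalley.UniData

set_option autoImplicit false
open Cfsg

namespace Cfsg.Agent.S1026

/-- Every element of `U` has a unique expression `∏_{r ∈ Φ⁺} x_r(t_r)`, the product over the positive roots in increasing index order (the coefficient family `t`, supported on the positive roots, exists and is unique); and conversely every such ordered product is the matrix of an element of `U`. -/
theorem result {F : Type*} [Field F] (D : Cfsg.Lie.ChevalleyDatum) (hD : D ∈ [Cfsg.Lie.chevG2, Cfsg.Lie.chevB2, Cfsg.Lie.chevD4, Cfsg.Lie.chevF4, Cfsg.Lie.chevE6, Cfsg.Lie.chevE7, Cfsg.Lie.chevE8]) :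
    (∀ g : GL D.Idx F, g ∈ D.posUnipotent F →
      ∃! t : ℕ → F, (∀ r, ¬ D.IsPosRoot r → t r = 0) ∧
        (g : Matrix D.Idx D.Idx F) = D.wordMat F (D.posRoots.map fun r => (r, t r))) ∧
    (∀ t : ℕ → F, ∃ g : GL D.Idx F, g ∈ D.posUnipotent F ∧
      (g : Matrix D.Idx D.Idx F) = D.wordMat F (D.posRoots.map fun r => (r, t r))) := by
  have h := CfsgLib.Chevalley.goodUni_of_mem hD
  have hh := h.good.two_half
  have hk : CfsgLib.Chevalley.half D + CfsgLib.Chevalley.half D = D.nroots := by omega
  simp only [CfsgLib.Chevalley.wordMat_posRoots h.good, CfsgLib.Chevalley.posUnipotent_eq h.good]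
  refine ⟨fun g hg => ?_, fun t => ⟨_, CfsgLib.Chevalley.prodFrom_mem (b := false) h.good t le_rfl hk.le, rfl⟩⟩
  obtain ⟨t, ht⟩ := CfsgLib.Chevalley.exists_prodFrom (b := false) h.toGoodComm _ _ le_rfl hk g hg
  classical
  refine ⟨fun j => if D.IsPosRoot j then t j else 0, ⟨fun r hr => if_neg hr, ?_⟩, fun t' ht' => ?_⟩
  · rw [CfsgLib.Chevalley.prodFrom_congr (b := false) h.good (fun j hj hj' =>
      if_pos (h.good.isPosRoot_iff.2 ⟨hj, by omega⟩)), ht]
  · funext j
    by_cases hj : D.IsPosRoot j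
    · obtain ⟨h1, h2⟩ := h.good.isPosRoot_iff.1 hj
      show t' j = if D.IsPosRoot j then t j else 0
      rw [if_pos hj]
      refine CfsgLib.Chevalley.prodFrom_injective (b := false) h _ _ le_rfl hk t' t ?_ j h1 (by omega)
      exact (Units.ext ht'.2).symm.trans ht.symm
    · show t' j = if D.IsPosRoot j then t j else 0
      rw [if_neg hj, ht'.1 j hj]

end Cfsg.Agent.S1026
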