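import Cfsg.Statements.S1031
import Cfsg.Agent.ChevTorus.Scaling
import Cfsg.Agent.Chevalley.WeylData

set_option autoImplicit false
open Cfsg

namespace Cfsg.Agent.S1031

/-- For a fundamental root `p = p_{i+1}` and any root `s`: `n_p x_s(t) n_p⁻¹ = x_{w_p(s)}(η t)` with a sign `η = ±1` independent of `t`, where `w_p(s)` is the reflected root (`reflectRoot`). Stated as `n_p x_s(t) = x_{w_p(s)}(η t) n_p`. -/
theorem result {F : Type*} [Field F] (D : Cfsg.Lie.ChevalleyDatum) (hD : D ∈ [Cfsg.Lie.chevG2, Cfsg.Lie.chevB2, Cfsg.Lie.chevD4, Cfsg.Lie.chevF4, Cfsg.Lie.chevE6, Cfsg.Lie.chevE7, Cfsg.Lie.chevE8]) (i s : ℕ) (hi : i < D.rank) (hs : s < D.nroots) :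
    ∃ η : ℤ, (η = 1 ∨ η = -1) ∧
      ∀ t : F, D.nMat F (D.simple i) 1 * D.x F s t = D.x F (D.reflectRoot i s) ((η : F) * t) * D.nMat F (D.simple i) 1 := by
  have hW := CfsgLib.Chevalley.goodWeyl_of_mem hD
  have hne := CfsgLib.Chevalley.GoodWeyl.eta_sq hW ⟨i, hi⟩ ⟨s, hs⟩
  refine ⟨CfsgLib.Chevalley.eta D ⟨i, hi⟩ ⟨s, hs⟩, ?_, fun t => ?_⟩
  · exact Int.eq_one_or_neg_one_of_mul_eq_one hne
  · have h := CfsgLib.Chevalley.nR_mul_X hW (R := F) ⟨i, hi⟩ ⟨s, hs⟩ t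
    have h' := congrArg (fun g : GL D.Idx F => (g : Matrix D.Idx D.Idx F)) h
    simp only [Units.val_mul, CfsgLib.Chevalley.coe_nR, CfsgLib.Chevalley.coe_X,
      ← CfsgLib.Chevalley.x_eq_xR hW.good, hW.wPerm_val] at h'
    exact h'

end Cfsg.Agent.S1031
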