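import Cfsg.Statements.S1032
import Cfsg.Agent.ChevTorus.Scaling
import Cfsg.Agent.Chevalley.WeylData

set_option autoImplicit false
open Cfsg

namespace Cfsg.Agent.S1032

/-- For a fundamental root `p`, a root `s` and `c ≠ 0`: `h_p(c) x_s(t) h_p(c)⁻¹ = x_s(c^{A_{p,s}} t)`, stated as `h_p(c) x_s(t) = x_s(c^{A_{p,s}} t) h_p(c)`. -/
theorem result {F : Type*} [Field F] (D : Cfsg.Lie.ChevalleyDatum) (hD : D ∈ [Cfsg.Lie.chevG2, Cfsg.Lie.chevB2, Cfsg.Lie.chevD4, Cfsg.Lie.chevF4, Cfsg.Lie.chevE6, Cfsg.Lie.chevE7, Cfsg.Lie.chevE8]) (i s : ℕ) (hi : i < D.rank) (hs : s < D.nroots) (c : F) (hc : c ≠ 0) (t : F) :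
    D.hMat F (D.simple i) c * D.x F s t = D.x F s (c ^ (D.cartan i s) * t) * D.hMat F (D.simple i) c := by
  have hW := CfsgLib.Chevalley.goodWeyl_of_mem hD
  have h := CfsgLib.ChevTorus.torC_mul_X hW.good (fun k : Fin D.rank =>
    Units.mk0 c hc ^ (D.coroot.getD (CfsgLib.Chevalley.pRoot hW ⟨i, hi⟩) #[]).getD k 0) ⟨s, hs⟩ t
  rw [← CfsgLib.Chevalley.hT_eq_torC] at h
  have e : (CfsgLib.ChevTorus.torVal (fun k : Fin D.rank => Units.mk0 c hc ^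
      (D.coroot.getD (CfsgLib.Chevalley.pRoot hW ⟨i, hi⟩) #[]).getD k 0)
      (Sum.inr ⟨s, hs⟩ : D.Idx) : F) = c ^ D.cartan i s := by
    have h1 := congrArg (fun g : GL D.Idx F =>
      (g : Matrix D.Idx D.Idx F) (Sum.inr ⟨s, hs⟩) (Sum.inr ⟨s, hs⟩))
      (CfsgLib.Chevalley.hT_eq_torC (CfsgLib.Chevalley.pRoot hW ⟨i, hi⟩) (Units.mk0 c hc))
    simp only [CfsgLib.ChevTorus.coe_torC, Matrix.diagonal_apply_eq] at h1
    rw [← h1]
    simp [CfsgLib.Chevalley.hT, CfsgLib.Chevalley.tor, hW.pairing_pRoot]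
  rw [e] at h
  have h' := congrArg (fun g : GL D.Idx F => (g : Matrix D.Idx D.Idx F)) h
  simp only [Units.val_mul, CfsgLib.Chevalley.coe_hT_eq_hMat hW, CfsgLib.Chevalley.coe_X,
    ← CfsgLib.Chevalley.x_eq_xR hW.good, Units.val_mk0] at h'
  exact h'

end Cfsg.Agent.S1032
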