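import Cfsg.Statements.S1037
import Cfsg.Agent.Chevalley.Borel
import Cfsg.Agent.Chevalley.WeylData
-- import your own Cfsg.Agent.* helpers here

set_option autoImplicit false
open Cfsg
open scoped Pointwise

namespace Cfsg.Agent.S1037

/-- `UH ∩ V = 1` and `UH ∩ VH = H`. -/
theorem result {F : Type*} [Field F] (D : Cfsg.Lie.ChevalleyDatum) (hD : D ∈ [Cfsg.Lie.chevG2, Cfsg.Lie.chevB2, Cfsg.Lie.chevD4, Cfsg.Lie.chevF4, Cfsg.Lie.chevE6, Cfsg.Lie.chevE7, Cfsg.Lie.chevE8]) :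
    D.borelSubgroup F ⊓ D.negUnipotent F = ⊥ ∧
      D.borelSubgroup F ⊓ (D.negUnipotent F ⊔ D.diagonalSubgroup F) = D.diagonalSubgroup F := by
  have h := CfsgLib.Chevalley.goodWeyl_of_mem hD
  refine ⟨CfsgLib.Chevalley.borel_inf_neg h, le_antisymm ?_
    (le_inf (CfsgLib.Chevalley.diag_le_borel D) le_sup_right)⟩
  rintro g ⟨hb, hn⟩
  have hn' : g ∈ D.negUnipotent F ⊔ D.diagonalSubgroup F := hn
  rw [← SetLike.mem_coe, Subgroup.coe_mul_of_right_le_normalizer_left _ _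
    (CfsgLib.Chevalley.diag_le_normalizer_neg h)] at hn'
  obtain ⟨v, hv, k, hk, rfl⟩ := Set.mem_mul.1 hn'
  replace hb : v * k ∈ D.borelSubgroup F := hb
  have hvb : v ∈ D.borelSubgroup F ⊓ D.negUnipotent F :=
    Subgroup.mem_inf.2 ⟨by simpa using mul_mem hb (inv_mem (CfsgLib.Chevalley.diag_le_borel D hk)), hv⟩
  rw [CfsgLib.Chevalley.borel_inf_neg h, Subgroup.mem_bot] at hvb
  subst hvb
  simpa using hk

end Cfsg.Agent.S1037
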