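import Cfsg.Statements.S1039
import Cfsg.Agent.Chevalley.WeylGroup
import Cfsg.Agent.Chevalley.Frames
-- import your own Cfsg.Agent.* helpers here

set_option autoImplicit false
open Cfsg

namespace Cfsg.Agent.S1039

/-- `N/H ≅ W`: there is a surjective homomorphism from `N` onto the Coxeter group of the type (Mathlib's Coxeter matrix G₂, B₂, F₄, E₆, E₇, E₈, nodes numbered as the fundamental roots) with kernel `H`, mapping each `n_{p_i}` to the `i`-th simple reflection. -/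
theorem result {F : Type*} [Field F]
    (p : Cfsg.Lie.ChevalleyDatum × (Σ n : ℕ, CoxeterMatrix (Fin n)))
    (hp : p ∈ [(Cfsg.Lie.chevG2, ⟨2, CoxeterMatrix.G₂⟩), (Cfsg.Lie.chevB2, ⟨2, CoxeterMatrix.B 2⟩), (Cfsg.Lie.chevD4, ⟨4, Cfsg.Lie.coxeterD4⟩), (Cfsg.Lie.chevF4, ⟨4, CoxeterMatrix.F₄⟩),
      (Cfsg.Lie.chevE6, ⟨6, CoxeterMatrix.E₆⟩), (Cfsg.Lie.chevE7, ⟨7, CoxeterMatrix.E₇⟩), (Cfsg.Lie.chevE8, ⟨8, CoxeterMatrix.E₈⟩)]) :
    ∃ φ : ↥(p.1.monomialSubgroup F) →* p.2.2.Group, Function.Surjective φ ∧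
      φ.ker = (p.1.diagonalSubgroup F).subgroupOf (p.1.monomialSubgroup F) ∧
      ∀ (i : Fin p.2.1) (g : ↥(p.1.monomialSubgroup F)),
        ((g : GL p.1.Idx F) : Matrix p.1.Idx p.1.Idx F) = p.1.nMat F (p.1.simple i) 1 → φ g = p.2.2.simple i := by
  suffices H : ∀ (D : Cfsg.Lie.ChevalleyDatum) (_ : D ∈ [Cfsg.Lie.chevG2, Cfsg.Lie.chevB2,
      Cfsg.Lie.chevD4, Cfsg.Lie.chevF4, Cfsg.Lie.chevE6, Cfsg.Lie.chevE7, Cfsg.Lie.chevE8])
      (C : CfsgLib.Weyl.Cert D.rank) (M : CoxeterMatrix (Fin D.rank)) (R : CfsgLib.Weyl.RootTable),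
      CfsgLib.Weyl.RootGood C M R →
      ∃ φ : ↥(D.monomialSubgroup F) →* M.Group, Function.Surjective φ ∧
        φ.ker = (D.diagonalSubgroup F).subgroupOf (D.monomialSubgroup F) ∧
        ∀ (i : Fin D.rank) (g : ↥(D.monomialSubgroup F)),
          ((g : GL D.Idx F) : Matrix D.Idx D.Idx F) = D.nMat F (D.simple i) 1 → φ g = M.simple i by
    simp only [List.mem_cons, List.not_mem_nil, or_false] at hp
    rcases hp with rfl | rfl | rfl | rfl | rfl | rfl | rfl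
    · exact H _ (by simp) _ _ _ CfsgLib.Weyl.rootG2_good
    · exact H _ (by simp) _ _ _ CfsgLib.Weyl.rootB2_good
    · exact H _ (by simp) _ _ _ CfsgLib.Weyl.rootD4_good
    · exact H _ (by simp) _ _ _ CfsgLib.Weyl.rootF4_good
    · exact H _ (by simp) _ _ _ CfsgLib.Weyl.rootE6_good
    · exact H _ (by simp) _ _ _ CfsgLib.Weyl.rootE7_good
    · exact H _ (by simp) _ _ _ CfsgLib.Weyl.rootE8_good
  intro D hD C M R h
  have hW := CfsgLib.Chevalley.goodWeyl_of_mem hD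
  refine ⟨CfsgLib.Chevalley.weylHom hW h, CfsgLib.Chevalley.weylHom_surjective hW h,
    CfsgLib.Chevalley.ker_weylHom hW h, fun i g hg => ?_⟩
  rw [show g = ⟨CfsgLib.Chevalley.nR hW i, CfsgLib.Chevalley.nR_mem_monomial hW i⟩ from
    Subtype.ext (Units.ext (hg.trans (CfsgLib.Chevalley.coe_nR hW i).symm))]
  exact CfsgLib.Chevalley.weylHom_nR hW h i

end Cfsg.Agent.S1039
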