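import Cfsg.Statements.S1040
import Cfsg.Agent.Chevalley.Borel
import Cfsg.Agent.Chevalley.Frames
-- import your own Cfsg.Agent.* helpers here

set_option autoImplicit false
open Cfsg

namespace Cfsg.Agent.S1040

/-- `U ∩ N = 1` and `B ∩ N = UH ∩ N = H`. -/
theorem result {F : Type*} [Field F] (D : Cfsg.Lie.ChevalleyDatum) (hD : D ∈ [Cfsg.Lie.chevG2, Cfsg.Lie.chevB2, Cfsg.Lie.chevD4, Cfsg.Lie.chevF4, Cfsg.Lie.chevE6, Cfsg.Lie.chevE7, Cfsg.Lie.chevE8]) :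
    D.posUnipotent F ⊓ D.monomialSubgroup F = ⊥ ∧ D.borelSubgroup F ⊓ D.monomialSubgroup F = D.diagonalSubgroup F := by
  have hW := CfsgLib.Chevalley.goodWeyl_of_mem hD
  obtain ⟨C, M, R, h⟩ := CfsgLib.Chevalley.exists_rootGood_of_mem hD
  exact ⟨CfsgLib.Chevalley.pos_inf_monomial hW h, CfsgLib.Chevalley.borel_inf_monomial hW h⟩

end Cfsg.Agent.S1040
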