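import Cfsg.Statements.S1044
import Cfsg.Agent.Chevalley.Bruhat
import Cfsg.Agent.Chevalley.Frames
-- import your own Cfsg.Agent.* helpers here

set_option autoImplicit false
open Cfsg

namespace Cfsg.Agent.S1044

/-- For a fundamental root `p` the set `B ∪ B n_p B` is (the carrier of) a subgroup of the general linear group. -/
theorem result {F : Type*} [Field F] (D : Cfsg.Lie.ChevalleyDatum) (hD : D ∈ [Cfsg.Lie.chevG2, Cfsg.Lie.chevB2, Cfsg.Lie.chevD4, Cfsg.Lie.chevF4, Cfsg.Lie.chevE6, Cfsg.Lie.chevE7, Cfsg.Lie.chevE8]) (i : ℕ) (hi : i < D.rank) (n : GL D.Idx F)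
    (hn : (n : Matrix D.Idx D.Idx F) = D.nMat F (D.simple i) 1) :
    ∃ P : Subgroup (GL D.Idx F), (P : Set (GL D.Idx F)) =
      (D.borelSubgroup F : Set (GL D.Idx F)) ∪ DoubleCoset.doubleCoset n (D.borelSubgroup F : Set (GL D.Idx F)) (D.borelSubgroup F) := by
  have hW := CfsgLib.Chevalley.goodWeyl_of_mem hD
  obtain ⟨C, M, R, h⟩ := CfsgLib.Chevalley.exists_rootGood_of_mem hD
  obtain rfl : n = CfsgLib.Chevalley.nR hW ⟨i, hi⟩ :=
    Units.ext (hn.trans (CfsgLib.Chevalley.coe_nR hW ⟨i, hi⟩).symm)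
  set s : M.Group := M.simple ⟨i, hi⟩
  have hss : s * s = 1 := M.toCoxeterSystem.simple_mul_simple_self _
  let T : Set (GL D.Idx F) :=
    CfsgLib.Chevalley.cell hW h F 1 ∪ CfsgLib.Chevalley.cell hW h F s
  have hn' : CfsgLib.Chevalley.nR hW ⟨i, hi⟩ ∈ CfsgLib.Chevalley.cell hW h F s :=
    CfsgLib.Chevalley.nR_mem_cell (F := F) hW h ⟨i, hi⟩
  have hmul : ∀ a ∈ T, ∀ b ∈ T, a * b ∈ T := by
    rintro a (ha | ⟨c, hc, c', hc', rfl⟩) b hb
    · rw [CfsgLib.Chevalley.cell_one hW h] at ha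
      rcases hb with hb | hb
      · exact Or.inl (CfsgLib.Chevalley.borel_mul_mem_cell hW h ha hb)
      · exact Or.inr (CfsgLib.Chevalley.borel_mul_mem_cell hW h ha hb)
    · obtain ⟨e, he, e', he', hce⟩ := hn'
      have key : ∀ v : M.Group, b ∈ CfsgLib.Chevalley.cell hW h F v →
          c * CfsgLib.Chevalley.nW hW h F s * c' * b ∈
            CfsgLib.Chevalley.cell hW h F (s * v) ∪ CfsgLib.Chevalley.cell hW h F v := by
        intro v hv
        rw [show CfsgLib.Chevalley.nW hW h F s = e⁻¹ * CfsgLib.Chevalley.nR hW ⟨i, hi⟩ * e'⁻¹ by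
          rw [← hce]; group]
        rw [show ∀ c e n e' c' b : GL D.Idx F, c * (e * n * e') * c' * b =
          c * e * (n * (e' * c' * b)) from fun c e n e' c' b => by group]
        rcases CfsgLib.Chevalley.nR_mul_cell hW h ⟨i, hi⟩ (CfsgLib.Chevalley.borel_mul_mem_cell hW h
          (mul_mem (inv_mem he') hc') hv) with h1 | h1
        · exact Or.inl (CfsgLib.Chevalley.borel_mul_mem_cell hW h (mul_mem hc (inv_mem he)) h1)
        · exact Or.inr (CfsgLib.Chevalley.borel_mul_mem_cell hW h (mul_mem hc (inv_mem he)) h1)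
      rcases hb with hb | hb
      · rcases key 1 hb with h1 | h1
        · rw [mul_one] at h1; exact Or.inr h1
        · exact Or.inl h1
      · rcases key s hb with h1 | h1
        · rw [hss] at h1; exact Or.inl h1
        · exact Or.inr h1
  have hinv : ∀ a ∈ T, a⁻¹ ∈ T := by
    rintro a (ha | ⟨c, hc, c', hc', rfl⟩)
    · rw [CfsgLib.Chevalley.cell_one hW h] at ha
      exact Or.inl (by rw [CfsgLib.Chevalley.cell_one hW h]; exact inv_mem ha)
    · obtain ⟨e, he, e', he', hce⟩ := hn'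
      obtain ⟨k, hk, hk'⟩ := CfsgLib.Chevalley.exists_nR_inv_eq (F := F) hW ⟨i, hi⟩
      refine Or.inr ?_
      rw [show c * CfsgLib.Chevalley.nW hW h F s * c' =
        c * e⁻¹ * CfsgLib.Chevalley.nR hW ⟨i, hi⟩ * (e'⁻¹ * c') by rw [← hce]; group,
        mul_inv_rev, mul_inv_rev (c * e⁻¹), hk', ← mul_assoc, ← mul_assoc]
      exact CfsgLib.Chevalley.mul_mem_cell hW h (mul_mem (inv_mem (mul_mem (inv_mem he') hc'))
        (CfsgLib.Chevalley.diag_le_borel D hk)) ⟨e, he, e', he', hce⟩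
        (inv_mem (mul_mem hc (inv_mem he)))
  refine ⟨{ carrier := T, one_mem' := Or.inl (by rw [CfsgLib.Chevalley.cell_one hW h]; exact one_mem _),
            mul_mem' := @fun a b ha hb => hmul a ha b hb, inv_mem' := @fun a ha => hinv a ha }, ?_⟩
  show T = _
  ext g
  simp only [T, Set.mem_union, CfsgLib.Chevalley.cell_one hW h, DoubleCoset.mem_doubleCoset,
    SetLike.mem_coe]
  refine or_congr Iff.rfl ?_
  obtain ⟨e, he, e', he', hce⟩ := hn'
  constructor
  · rintro ⟨c, hc, c', hc', rfl⟩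
    exact ⟨c * e⁻¹, mul_mem hc (inv_mem he), e'⁻¹ * c', mul_mem (inv_mem he') hc',
      by rw [← hce]; group⟩
  · rintro ⟨c, hc, c', hc', rfl⟩
    exact ⟨c * e, mul_mem hc he, e' * c', mul_mem he' hc', by rw [← hce]; group⟩

end Cfsg.Agent.S1044
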