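import Cfsg.Statements.S1046
import Cfsg.Agent.Chevalley.BruhatUnique
import Cfsg.Agent.Chevalley.Frames
-- import your own Cfsg.Agent.* helpers here

set_option autoImplicit false
open Cfsg

namespace Cfsg.Agent.S1046

/-- Two elements of `H` conjugate in the Chevalley group are conjugate by an element of `N`. -/
theorem result {F : Type*} [Field F] (D : Cfsg.Lie.ChevalleyDatum) (hD : D ∈ [Cfsg.Lie.chevG2, Cfsg.Lie.chevB2, Cfsg.Lie.chevD4, Cfsg.Lie.chevF4, Cfsg.Lie.chevE6, Cfsg.Lie.chevE7, Cfsg.Lie.chevE8]) (h₁ h₂ g : GL D.Idx F) (h1 : h₁ ∈ D.diagonalSubgroup F) (h2 : h₂ ∈ D.diagonalSubgroup F)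
    (hg : g ∈ D.group F) (hc : g * h₁ * g⁻¹ = h₂) :
    ∃ n ∈ D.monomialSubgroup F, n * h₁ * n⁻¹ = h₂ := by
  have hW := CfsgLib.Chevalley.goodWeyl_of_mem hD
  obtain ⟨C, M, R, h⟩ := CfsgLib.Chevalley.exists_rootGood_of_mem hD
  obtain ⟨w, hw⟩ := CfsgLib.Chevalley.exists_mem_cell hW h hg
  obtain ⟨b, hb, u, hu, rfl⟩ := CfsgLib.Chevalley.exists_form hW h w hw
  set n := CfsgLib.Chevalley.nW hW h F w
  refine ⟨n, CfsgLib.Chevalley.nW_mem hW h w, ?_⟩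
  have hn1 : n * h₁ * n⁻¹ ∈ D.diagonalSubgroup F :=
    (Subgroup.mem_normalizer_iff.1 (CfsgLib.Chevalley.monomial_le_normalizer hW (CfsgLib.Chevalley.nW_mem hW h w)) h₁).1 h1
  have hu' : h₁⁻¹ * u * h₁ ∈ CfsgLib.Chevalley.uW hW h F w := by
    have := CfsgLib.Chevalley.diag_conj_rootGen hW (inv_mem h1) hu
    rw [inv_inv] at this
    exact this
  obtain ⟨hb', -⟩ := CfsgLib.Chevalley.form_unique hW h (mul_mem hb (CfsgLib.Chevalley.diag_le_borel D hn1))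
    (mul_mem (CfsgLib.Chevalley.diag_le_borel D h2) hb) hu' hu (show b * (n * h₁ * n⁻¹) * n * (h₁⁻¹ * u * h₁) =
      h₂ * b * n * u by rw [← hc]; group)
  obtain ⟨v, hv, k, hk, rfl⟩ := (CfsgLib.Chevalley.mem_borel_iff hW).1 hb
  have hv' : h₂ * v * h₂⁻¹ ∈ D.posUnipotent F :=
    (Subgroup.mem_normalizer_iff.1 (CfsgLib.Chevalley.diag_le_normalizer_pos hW h2) v).1 hv
  have e : (h₂ * v * h₂⁻¹)⁻¹ * v = h₂ * k * (k * (n * h₁ * n⁻¹))⁻¹ := by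
    rw [eq_mul_inv_iff_mul_eq, mul_assoc, ← mul_assoc v, hb']
    group
  have hm : (h₂ * v * h₂⁻¹)⁻¹ * v ∈ D.posUnipotent F ⊓ D.diagonalSubgroup F :=
    Subgroup.mem_inf.2 ⟨mul_mem (inv_mem hv') hv,
      e ▸ mul_mem (mul_mem h2 hk) (inv_mem (mul_mem hk hn1))⟩
  rw [CfsgLib.Chevalley.pos_inf_diag hW, Subgroup.mem_bot, e, mul_inv_eq_one,
    CfsgLib.Chevalley.diag_comm hW h2 hk, mul_left_cancel_iff] at hm
  exact hm.symm

end Cfsg.Agent.S1046
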