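import Cfsg.Statements.S1047
import Cfsg.Agent.Chevalley.Parabolic
import Cfsg.Agent.Chevalley.WeylData
-- import your own Cfsg.Agent.* helpers here

set_option autoImplicit false
open Cfsg

namespace Cfsg.Agent.S1047

/-- `P_J = ⟨H, X_r : r ∈ Φ⁺ ∪ Φ_J⟩`. -/
theorem result {F : Type*} [Field F] (D : Cfsg.Lie.ChevalleyDatum) (hD : D ∈ [Cfsg.Lie.chevG2, Cfsg.Lie.chevB2, Cfsg.Lie.chevD4, Cfsg.Lie.chevF4, Cfsg.Lie.chevE6, Cfsg.Lie.chevE7, Cfsg.Lie.chevE8]) (J : Set ℕ) :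
    D.parabolicSubgroup F J = D.diagonalSubgroup F ⊔
      Subgroup.closure {g : GL D.Idx F | ∃ (r : ℕ) (t : F), (D.IsPosRoot r ∨ D.InRootSub J r) ∧ (g : Matrix D.Idx D.Idx F) = D.x F r t} := by
  have hW := CfsgLib.Chevalley.goodWeyl_of_mem hD
  rw [CfsgLib.Chevalley.parabolicSubgroup_eq_pJ hW, CfsgLib.Chevalley.pJ_eq hW,
    CfsgLib.Chevalley.closure_x_eq_rootGen hW.good (P := fun r => D.IsPosRoot r ∨ D.InRootSub J r)
      fun r hr => hr.elim And.left And.left]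
  congr 2
  ext r
  simp only [CfsgLib.Chevalley.posSet, Set.mem_union, Set.mem_setOf_eq, CfsgLib.Chevalley.inRootSub_iff, hW.good.isPosRoot_iff,
    r.isLt, and_true]

end Cfsg.Agent.S1047
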