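import Cfsg.Statements.S1075
import Cfsg.Agent.Ree3.Derived

set_option autoImplicit false
open Cfsg

namespace Cfsg.Agent.S1075

/-- The derived subgroup of ²G₂(3) (θ = identity over the field with three elements) has order 504 = 1512/3 and is isomorphic to PSL₂ over the field with eight elements. -/
theorem result {L : Type*} [Field L] [Fintype L] (hL : Fintype.card L = 8) :
    Nat.card ↥(commutator ↥(Cfsg.Lie.twistedG2 (ZMod 3) 1)) = 504 ∧
      Nonempty (↥(commutator ↥(Cfsg.Lie.twistedG2 (ZMod 3) 1)) ≃* Matrix.ProjectiveSpecialLinearGroup (Fin 2) L) := by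
  obtain ⟨e⟩ := CfsgLib.Ree3.commutator_equiv
  refine ⟨(Nat.card_congr e.toEquiv).trans CfsgLib.Ree3.card_sl2_f8, ?_⟩
  let r : L ≃+* CfsgLib.Ree3.F8 :=
    FiniteField.ringEquivOfCardEq (hL.trans CfsgLib.Ree3.card_f8.symm)
  let f : Matrix.SpecialLinearGroup (Fin 2) CfsgLib.Ree3.F8 ≃* Matrix.SpecialLinearGroup (Fin 2) L :=
    MonoidHom.toMulEquiv (Matrix.SpecialLinearGroup.map r.symm.toRingHom)
      (Matrix.SpecialLinearGroup.map r.toRingHom)
      (MonoidHom.ext fun g => by ext i j; simp) (MonoidHom.ext fun g => by ext i j; simp)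
  have hc : Subgroup.center (Matrix.SpecialLinearGroup (Fin 2) L) = ⊥ := by
    refine (Subgroup.eq_bot_iff_forall _).mpr fun z hz => ?_
    have hw : f.symm z ∈ Subgroup.center (Matrix.SpecialLinearGroup (Fin 2) CfsgLib.Ree3.F8) :=
      Subgroup.mem_center_iff.mpr fun g => f.injective <| by
        simpa using Subgroup.mem_center_iff.mp hz (f g)
    rw [CfsgLib.Ree3.center_sl2_f8, Subgroup.mem_bot] at hw
    simpa using congrArg f hw
  exact ⟨(e.trans f).trans ((QuotientGroup.quotientBot).symm.trans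
    (QuotientGroup.quotientMulEquivOfEq hc.symm))⟩

end Cfsg.Agent.S1075
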