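import Cfsg.Statements.S1091
import Cfsg.Agent.ReeG2.Structure

set_option autoImplicit false
set_option maxHeartbeats 1000000
open Cfsg

namespace Cfsg.Agent.S1091

open CfsgLib.ReeG2 CfsgLib.Chevalley
open scoped MatrixGroups

/-- The (B, N)-pair. -/
theorem exists_pair {K : Type*} [Field K] [Finite K] [CharP K 3] {m : ℕ}
    (hK : Nat.card K = 3 ^ (2 * m + 1)) :
    ∃ P : Cfsg.BNPair ↥(Tw K m), P.B = BT K m ∧
      P.N = (Cfsg.Lie.chevG2.monomialSubgroup K ⊓ Tw K m).subgroupOf (Tw K m) := by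
  set B := BT K m with hB
  set N := (Cfsg.Lie.chevG2.monomialSubgroup K ⊓ Tw K m).subgroupOf (Tw K m) with hN
  set s : ↥(Tw K m) := nT m 1 with hs
  have memN : ∀ {g : ↥(Tw K m)}, g ∈ N ↔ (g : GL I K) ∈ Cfsg.Lie.chevG2.monomialSubgroup K :=
    fun {g} => ⟨fun h => (Subgroup.mem_subgroupOf.1 h).1, fun h => Subgroup.mem_subgroupOf.2 ⟨h, g.2⟩⟩
  have memB : ∀ {g : ↥(Tw K m)}, g ∈ B ↔ (g : GL I K) ∈ Cfsg.Lie.chevG2.borelSubgroup K :=
    fun {g} => ⟨fun h => (Subgroup.mem_subgroupOf.1 h).1, fun h => Subgroup.mem_subgroupOf.2 ⟨h, g.2⟩⟩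
  have hsN : s ∈ N := memN.2 (nn_mem_monomial (m := m) (1 : Kˣ))
  have hsB : s ∉ B := by
    intro h
    have h' : (s : GL I K) ∈ Cfsg.Lie.chevG2.borelSubgroup K := (Subgroup.mem_subgroupOf.1 h).1
    exact nn_not_mem_borel (K := K) (m := m) (1 : Kˣ) h'
  have hdB : ∀ {g : ↥(Tw K m)}, (g : GL I K) ∈ Cfsg.Lie.chevG2.diagonalSubgroup K → g ∈ B :=
    fun h => memB.2 (diag_le_borel _ h)
  have hBN : ∀ {g : ↥(Tw K m)}, g ∈ B → g ∈ N →
      (g : GL I K) ∈ Cfsg.Lie.chevG2.diagonalSubgroup K := fun hb hn => by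
    rw [← borel_inf_monomial goodW CfsgLib.Weyl.rootG2_good]
    exact ⟨memB.1 hb, memN.1 hn⟩
  have hsplit : ∀ {g : ↥(Tw K m)}, g ∈ N →
      (g : GL I K) ∈ Cfsg.Lie.chevG2.diagonalSubgroup K ∨
        ((g * s⁻¹ : ↥(Tw K m)) : GL I K) ∈ Cfsg.Lie.chevG2.diagonalSubgroup K := fun {g} hg =>
    monomial_tw_cases hK ⟨memN.1 hg, g.2⟩
  have hss : s * s ∈ B := by
    rcases hsplit (mul_mem hsN hsN) with h | h
    · exact hdB h
    · exact absurd (hdB (g := s) (by rwa [mul_inv_cancel_right] at h)) hsB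
  have hcase : ∀ g : ↥(Tw K m), g ∈ B ∨ g ∈ DoubleCoset.doubleCoset s (B : Set ↥(Tw K m)) B := by
    intro g
    rcases tw_form' hK g with ⟨h, -⟩ | ⟨-, t, a, b, C, t', a', b', e⟩
    · exact Or.inl (memB.2 h)
    · refine Or.inr (DoubleCoset.mem_doubleCoset.2 ⟨uT m t a b * hTw hK C, ?_, uT m t' a' b', ?_, e⟩)
      · exact mul_mem (memB.2 (pos_le_borel _ (wordU_mem_pos t a b))) (hdB (hh_mem_diag _ _))
      · exact memB.2 (pos_le_borel _ (wordU_mem_pos t' a' b'))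
  refine ⟨{
    B := B
    N := N
    S := {s}
    sup_eq_top := ?_
    conj_mem := ?_
    subset := ?_
    sq_mem := ?_
    inj := ?_
    closure_sup := ?_
    mul_mem_union := ?_
    conj_ne := ?_ }, hB, hN⟩
  · rw [eq_top_iff]
    rintro g -
    rcases hcase g with h | h
    · exact Subgroup.mem_sup_left h
    · obtain ⟨x, hx, y, hy, rfl⟩ := DoubleCoset.mem_doubleCoset.1 h
      exact mul_mem (mul_mem (Subgroup.mem_sup_left hx) (Subgroup.mem_sup_right hsN))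
        (Subgroup.mem_sup_left hy)
  · intro n hn t ht
    exact hdB ((Subgroup.mem_normalizer_iff.1
      (monomial_le_normalizer goodW (memN.1 hn)) _).1 (hBN ht.1 ht.2))
  · rintro _ rfl
    exact hsN
  · rintro _ rfl
    exact hss
  · rintro _ rfl _ rfl _
    rfl
  · refine le_antisymm (sup_le ((Subgroup.closure_le _).2 ?_) inf_le_right) ?_
    · rintro _ rfl
      exact hsN
    · intro g hg
      rcases hsplit hg with h | h
      · exact Subgroup.mem_sup_right ⟨hdB h, hg⟩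
      · rw [show g = g * s⁻¹ * s from (inv_mul_cancel_right g s).symm]
        exact mul_mem (Subgroup.mem_sup_right ⟨hdB h, N.mul_mem hg (N.inv_mem hsN)⟩)
          (Subgroup.mem_sup_left (Subgroup.subset_closure rfl))
  · rintro _ rfl n hn b hb
    rcases hsplit hn with h | h
    · refine Or.inl (DoubleCoset.mem_doubleCoset.2 ⟨1, one_mem _, n⁻¹ * b * n,
        mul_mem (mul_mem (inv_mem (hdB h)) hb) (hdB h), by group⟩)
    · rcases hcase (s * b * n) with h' | h'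
      · refine Or.inl (DoubleCoset.mem_doubleCoset.2 ⟨s * b * n * (s * n)⁻¹, ?_, 1, one_mem _, by group⟩)
        show s * b * n * (s * n)⁻¹ ∈ B
        refine mul_mem h' (B.inv_mem ?_)
        have h1 : s * (n * s⁻¹) * s⁻¹ ∈ B := hdB ((Subgroup.mem_normalizer_iff.1
          (monomial_le_normalizer goodW (memN.1 hsN)) _).1 h)
        have := mul_mem h1 hss
        rwa [show s * (n * s⁻¹) * s⁻¹ * (s * s) = s * n by group] at this
      · obtain ⟨x, hx, y, hy, e⟩ := DoubleCoset.mem_doubleCoset.1 h'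
        refine Or.inr (DoubleCoset.mem_doubleCoset.2 ⟨x * (n * s⁻¹)⁻¹,
          mul_mem hx (inv_mem (hdB h)), y, hy, ?_⟩)
        rw [e]
        group
  · rintro _ rfl e
    have hu : uT m (1 : K) 0 0 ∈ B := memB.2 (pos_le_borel _ (wordU_mem_pos 1 0 0))
    have h1 : s * uT m (1 : K) 0 0 * s ∈ B := by
      have : s * uT m (1 : K) 0 0 * s ∈ (fun b => s * b * s) '' (B : Set ↥(Tw K m)) := ⟨_, hu, rfl⟩
      rwa [e] at this
    have h2 : s * uT m (1 : K) 0 0 * s⁻¹ ∈ B := by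
      have := mul_mem h1 (inv_mem hss)
      rwa [show s * uT m (1 : K) 0 0 * s * (s * s)⁻¹ = s * uT m (1 : K) 0 0 * s⁻¹ by group] at this
    have h3 := mem_diag_of_conj_mem_borel hK (memB.1 hu) (memB.1 h2)
    have h4 : ((uT m (1 : K) 0 0 : ↥(Tw K m)) : GL I K) ∈
        Cfsg.Lie.chevG2.posUnipotent K ⊓ Cfsg.Lie.chevG2.diagonalSubgroup K :=
      ⟨wordU_mem_pos 1 0 0, h3⟩
    rw [pos_inf_diag goodW, Subgroup.mem_bot] at h4
    have h5 : uT m (1 : K) 0 0 = uT m (0 : K) 0 0 := by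
      rw [uT_one hK]; exact Subtype.ext h4
    exact one_ne_zero (uT_inj hK h5).1

/-- ²G₂(3^(2m+1)) has a (B,N)-pair: B¹ = G¹ ∩ B and N¹ = G¹ ∩ N, intersections with the ambient Chevalley group's B = UH and N. -/
theorem result {K : Type*} [Field K] [Fintype K] {m : ℕ} (hK : Fintype.card K = 3 ^ (2 * m + 1)) :
    ∃ P : Cfsg.BNPair ↥(Cfsg.Lie.twistedG2 K (3 ^ m)),
      P.B = (Cfsg.Lie.chevG2.borelSubgroup K ⊓ Cfsg.Lie.twistedG2 K (3 ^ m)).subgroupOf (Cfsg.Lie.twistedG2 K (3 ^ m)) ∧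
      P.N = (Cfsg.Lie.chevG2.monomialSubgroup K ⊓ Cfsg.Lie.twistedG2 K (3 ^ m)).subgroupOf (Cfsg.Lie.twistedG2 K (3 ^ m)) := by
  rw [← Nat.card_eq_fintype_card] at hK
  haveI := charP_of_card hK
  exact exists_pair hK

end Cfsg.Agent.S1091
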