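import Cfsg.Statements.S1099
import Cfsg.Agent.ReeG2.Isogeny

set_option autoImplicit false
open Cfsg

namespace Cfsg.Agent.S1099

/-- Graph automorphism of G₂ in characteristic 3 (K perfect): `x_a(t) ↦ x_b(t³)`, `x_b(t) ↦ x_a(t)`, `x_{-a}(t) ↦ x_{-b}(t³)`, `x_{-b}(t) ↦ x_{-a}(t)` extend to an automorphism of the group. -/
theorem result {K : Type*} [Field K] [CharP K 3] (hperf : ∀ x : K, ∃ y : K, y ^ 3 = x) :
    ∃ α : ↥(Cfsg.Lie.chevG2.group K) ≃* ↥(Cfsg.Lie.chevG2.group K), ∀ (g : ↥(Cfsg.Lie.chevG2.group K)) (t : K),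
      (((g : GL Cfsg.Lie.chevG2.Idx K) : Matrix _ _ K) = Cfsg.Lie.chevG2.x K Cfsg.Lie.g2a t →
        ((α g : GL Cfsg.Lie.chevG2.Idx K) : Matrix _ _ K) = Cfsg.Lie.chevG2.x K Cfsg.Lie.g2b (t ^ 3)) ∧
      (((g : GL Cfsg.Lie.chevG2.Idx K) : Matrix _ _ K) = Cfsg.Lie.chevG2.x K Cfsg.Lie.g2b t →
        ((α g : GL Cfsg.Lie.chevG2.Idx K) : Matrix _ _ K) = Cfsg.Lie.chevG2.x K Cfsg.Lie.g2a t) ∧
      (((g : GL Cfsg.Lie.chevG2.Idx K) : Matrix _ _ K) = Cfsg.Lie.chevG2.x K Cfsg.Lie.g2ma t →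
        ((α g : GL Cfsg.Lie.chevG2.Idx K) : Matrix _ _ K) = Cfsg.Lie.chevG2.x K Cfsg.Lie.g2mb (t ^ 3)) ∧
      (((g : GL Cfsg.Lie.chevG2.Idx K) : Matrix _ _ K) = Cfsg.Lie.chevG2.x K Cfsg.Lie.g2mb t →
        ((α g : GL Cfsg.Lie.chevG2.Idx K) : Matrix _ _ K) = Cfsg.Lie.chevG2.x K Cfsg.Lie.g2ma t) := by
  classical
  let α := MulEquiv.ofBijective (CfsgLib.ReeG2.iso K)
    ⟨CfsgLib.ReeG2.iso_injective, CfsgLib.ReeG2.iso_surjective hperf⟩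
  refine ⟨α, fun g t => ?_⟩
  have key : ∀ (r s : CfsgLib.ReeG2.R0) (k : ℕ), CfsgLib.ReeG2.bar r = s → CfsgLib.ReeG2.lam r = k →
      ((g : GL Cfsg.Lie.chevG2.Idx K) : Matrix _ _ K) = Cfsg.Lie.chevG2.x K r t →
      ((α g : GL Cfsg.Lie.chevG2.Idx K) : Matrix _ _ K) = Cfsg.Lie.chevG2.x K s (t ^ k) := by
    intro r s k hs hk h
    have hg : g = CfsgLib.ReeG2.xG r t :=
      Subtype.ext ((CfsgLib.Chevalley.coe_eq_x_iff CfsgLib.Chevalley.good_chevG2 r.isLt).1 h)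
    subst hs hk hg
    show ((CfsgLib.ReeG2.iso K (CfsgLib.ReeG2.xG r t) : GL Cfsg.Lie.chevG2.Idx K) :
      Matrix Cfsg.Lie.chevG2.Idx Cfsg.Lie.chevG2.Idx K) = _
    rw [CfsgLib.ReeG2.iso_xG]
    exact (CfsgLib.Chevalley.coe_eq_x_iff CfsgLib.Chevalley.good_chevG2
      (CfsgLib.ReeG2.bar r).isLt).2 rfl
  refine ⟨?_, ?_, ?_, ?_⟩
  · exact key (CfsgLib.ReeG2.rt 7) (CfsgLib.ReeG2.rt 6) 3 (by decide) (by decide)
  · intro h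
    have := key (CfsgLib.ReeG2.rt 6) (CfsgLib.ReeG2.rt 7) 1 (by decide) (by decide) h
    rwa [pow_one] at this
  · exact key (CfsgLib.ReeG2.rt 4) (CfsgLib.ReeG2.rt 5) 3 (by decide) (by decide)
  · intro h
    have := key (CfsgLib.ReeG2.rt 5) (CfsgLib.ReeG2.rt 4) 1 (by decide) (by decide) h
    rwa [pow_one] at this

end Cfsg.Agent.S1099
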