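import Cfsg.Statements.S1100
import Cfsg.Agent.Chevalley.BruhatUnique
import Cfsg.Agent.Chevalley.Frames
-- import your own Cfsg.Agent.* helpers here

set_option autoImplicit false
open Cfsg

namespace Cfsg.Agent.S1100

open CfsgLib.Chevalley Cfsg.Lie
open scoped MatrixGroups

/-- The generating set of the statement generates `U_w⁻`. -/
theorem closure_eq_uW {D : ChevalleyDatum} {F : Type*} [Field F] (hW : GoodWeyl D)
    {C : CfsgLib.Weyl.Cert D.rank} {M : CoxeterMatrix (Fin D.rank)} {R : CfsgLib.Weyl.RootTable}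
    (h : CfsgLib.Weyl.RootGood C M R) {w : M.Group} {n : GL D.Idx F}
    (hn : MonBy hW n (h.rootPerm w)) :
    Subgroup.closure {x : GL D.Idx F | ∃ (r : ℕ) (t : F), D.IsPosRoot r ∧
      (D.rootSubgroup F r).map (MulAut.conj n).toMonoidHom ≤ D.negUnipotent F ∧
      (x : Matrix D.Idx D.Idx F) = D.x F r t} = uW hW h F w := by
  refine le_antisymm ((Subgroup.closure_le _).2 ?_) ((Subgroup.closure_le _).2 ?_)
  · rintro x ⟨r, t, hr, hle, hx⟩
    obtain ⟨hh, hlt⟩ := hW.good.isPosRoot_iff.1 hr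
    rw [(coe_eq_x_iff hW.good hlt).1 hx]
    refine X_mem_rootGen _ (show (⟨r, hlt⟩ : Root D) ∈ invRoots h w from ⟨hh, ?_⟩) t
    obtain ⟨c, hc⟩ := hn.conj_X ⟨r, hlt⟩
    have hmem : X hW.good (h.rootPerm w ⟨r, hlt⟩) ((c : F) * 1) ∈ D.negUnipotent F := by
      rw [← hc 1]
      exact hle (Subgroup.mem_map_of_mem _ (X_mem_rootSubgroup hW.good ⟨r, hlt⟩ 1))
    rw [negUnipotent_eq hW.good] at hmem
    exact (key_true_iff hW.good _).1 (key_of_X_mem (b := true) hW.toGoodUni (by simp) hmem)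
  · rintro _ ⟨r, hr, t, rfl⟩
    refine Subgroup.subset_closure ⟨r, t, hW.good.isPosRoot_iff.2 ⟨hr.1, r.isLt⟩, ?_,
      (coe_eq_x_iff hW.good r.isLt).2 rfl⟩
    rw [Subgroup.map_le_iff_le_comap]
    intro y hy
    obtain ⟨s, rfl⟩ := (mem_rootSubgroup_iff hW.good).1 hy
    obtain ⟨c, hc⟩ := hn.conj_X r
    simp only [Subgroup.mem_comap, MulEquiv.coe_toMonoidHom, MulAut.conj_apply, hc]
    exact X_mem_neg hW.good hr.2 _


/-- Canonical form `g = b n_w u` (`b ∈ B`, `u ∈ U_w⁻ = ⟨X_r : r > 0, n_w X_r n_w⁻¹ ≤ V⟩`): such a decomposition exists for every element of the group; the coset `n_w H` is determined by `g`; and for a fixed representative `n_w` the factors `b`, `u` are unique. -/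
theorem result {F : Type*} [Field F] (D : Cfsg.Lie.ChevalleyDatum) (hD : D ∈ [Cfsg.Lie.chevG2, Cfsg.Lie.chevB2, Cfsg.Lie.chevD4, Cfsg.Lie.chevF4, Cfsg.Lie.chevE6, Cfsg.Lie.chevE7, Cfsg.Lie.chevE8]) :
    (∀ g ∈ D.group F, ∃ b ∈ D.borelSubgroup F, ∃ n ∈ D.monomialSubgroup F,
      ∃ u ∈ Subgroup.closure {x : GL D.Idx F | ∃ (r : ℕ) (t : F), D.IsPosRoot r ∧
            (D.rootSubgroup F r).map (MulAut.conj n).toMonoidHom ≤ D.negUnipotent F ∧ (x : Matrix D.Idx D.Idx F) = D.x F r t},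
        g = b * n * u) ∧
    (∀ (b b' n n' u u' : GL D.Idx F), b ∈ D.borelSubgroup F → b' ∈ D.borelSubgroup F →
      n ∈ D.monomialSubgroup F → n' ∈ D.monomialSubgroup F →
      u ∈ Subgroup.closure {x : GL D.Idx F | ∃ (r : ℕ) (t : F), D.IsPosRoot r ∧
            (D.rootSubgroup F r).map (MulAut.conj n).toMonoidHom ≤ D.negUnipotent F ∧ (x : Matrix D.Idx D.Idx F) = D.x F r t} →
      u' ∈ Subgroup.closure {x : GL D.Idx F | ∃ (r : ℕ) (t : F), D.IsPosRoot r ∧
            (D.rootSubgroup F r).map (MulAut.conj n').toMonoidHom ≤ D.negUnipotent F ∧ (x : Matrix D.Idx D.Idx F) = D.x F r t} →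
      b * n * u = b' * n' * u' → n⁻¹ * n' ∈ D.diagonalSubgroup F ∧ (n = n' → b = b' ∧ u = u')) := by
  obtain ⟨C, M, R, h⟩ := exists_rootGood_of_mem hD
  have hW := goodWeyl_of_mem hD
  refine ⟨fun g hg => ?_, fun b b' n n' u u' hb hb' hn hn' hu hu' e => ?_⟩
  · obtain ⟨⟨w, b, u⟩, ⟨hb, hu, e⟩, -⟩ := existsUnique_form hW h hg
    refine ⟨b, hb, nW hW h F w, nW_mem hW h w, u, ?_, e.symm⟩
    rw [closure_eq_uW hW h (monBy_nW hW h w)]
    exact hu
  · rw [closure_eq_uW hW h (monBy_weylHom hW h ⟨n, hn⟩)] at hu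
    rw [closure_eq_uW hW h (monBy_weylHom hW h ⟨n', hn'⟩)] at hu'
    obtain ⟨k, hk, ek⟩ := exists_eq_nW_mul (F := F) hW h ⟨n, hn⟩
    obtain ⟨k', hk', ek'⟩ := exists_eq_nW_mul (F := F) hW h ⟨n', hn'⟩
    simp only at ek ek'
    set w := weylHom hW h ⟨n, hn⟩
    set w' := weylHom hW h ⟨n', hn'⟩
    have hc : nW hW h F w * k * (nW hW h F w)⁻¹ ∈ D.borelSubgroup F :=
      diag_le_borel D ((Subgroup.mem_normalizer_iff.1
        (monomial_le_normalizer hW (nW_mem hW h w)) k).1 hk)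
    have hc' : nW hW h F w' * k' * (nW hW h F w')⁻¹ ∈ D.borelSubgroup F :=
      diag_le_borel D ((Subgroup.mem_normalizer_iff.1
        (monomial_le_normalizer hW (nW_mem hW h w')) k').1 hk')
    have e1 : b * (nW hW h F w * k * (nW hW h F w)⁻¹) * nW hW h F w * u =
        b' * (nW hW h F w' * k' * (nW hW h F w')⁻¹) * nW hW h F w' * u' := by
      calc _ = b * (nW hW h F w * k) * u := by group
        _ = b' * (nW hW h F w' * k') * u' := by rw [← ek, ← ek', e]
        _ = _ := by group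
    have hww : w = w' := cell_eq_of_mem hW h
      ⟨_, mul_mem hb hc, u, pos_le_borel D (uW_le_pos hW h _ hu), rfl⟩
      (e1 ▸ ⟨_, mul_mem hb' hc', u', pos_le_borel D (uW_le_pos hW h _ hu'), rfl⟩)
    refine ⟨?_, ?_⟩
    · rw [ek, ek', ← hww, show (nW hW h F w * k)⁻¹ * (nW hW h F w * k') = k⁻¹ * k' by group]
      exact mul_mem (inv_mem hk) hk'
    · intro hnn
      have hkk : k = k' := by
        have := ek.symm.trans (hnn.trans ek')
        rw [← hww] at this
        exact mul_left_cancel this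
      subst hkk
      rw [← hww] at e1 hu' hc'
      obtain ⟨e2, e3⟩ := form_unique hW h (mul_mem hb hc) (mul_mem hb' hc') hu hu' e1
      exact ⟨mul_right_cancel e2, e3⟩

end Cfsg.Agent.S1100
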