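import Cfsg.Statements.S1101
import Cfsg.Agent.ReeG2.Basics
import Mathlib

set_option autoImplicit false
open Cfsg

namespace Cfsg.Agent.S1101

/-- For ²G₂ over `K` with `|K| = 3^(2m+1)`, `θ = 3^m`: `U¹ = G¹ ∩ U` consists exactly of the elements `x_a(t^θ) x_b(t) x_{a+b}(t^{θ+1}+u^θ) x_{2a+b}(t^{2θ+1}+v^θ) x_{3a+b}(u) x_{3a+2b}(v)`, `t, u, v ∈ K`, and it has `|K|³` elements. -/
theorem result {K : Type*} [Field K] [Fintype K] {m : ℕ} (hK : Fintype.card K = 3 ^ (2 * m + 1)) :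
    (∀ g : GL Cfsg.Lie.chevG2.Idx K, g ∈ Cfsg.Lie.chevG2.posUnipotent K ⊓ Cfsg.Lie.twistedG2 K (3 ^ m) ↔
      ∃ t u v : K, (g : Matrix Cfsg.Lie.chevG2.Idx Cfsg.Lie.chevG2.Idx K) = Cfsg.Lie.chevG2.wordMat K (Cfsg.Lie.reeWordU (3 ^ m) t u v)) ∧
    Nat.card ↥(Cfsg.Lie.chevG2.posUnipotent K ⊓ Cfsg.Lie.twistedG2 K (3 ^ m)) = (3 ^ (2 * m + 1)) ^ 3 := by
  have hK' : Nat.card K = 3 ^ (2 * m + 1) := by rw [Nat.card_eq_fintype_card]; exact hK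
  haveI : CharP K 3 := CfsgLib.ReeG2.charP_of_card hK'
  refine ⟨fun g => ?_, ?_⟩
  · refine (CfsgLib.ReeG2.pos_tw_iff hK').trans (exists_congr fun t => exists_congr fun u =>
      exists_congr fun v => ⟨?_, fun h => Units.ext ((CfsgLib.ReeG2.coe_wordU m t u v).trans h.symm)⟩)
    rintro rfl
    exact CfsgLib.ReeG2.coe_wordU m t u v
  · let φ : K × K × K → ↥(Cfsg.Lie.chevG2.posUnipotent K ⊓ Cfsg.Lie.twistedG2 K (3 ^ m)) :=
      fun x => ⟨_, (CfsgLib.ReeG2.pos_tw_iff hK').2 ⟨x.1, x.2.1, x.2.2, rfl⟩⟩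
    have hφ : Function.Bijective φ := by
      refine ⟨fun x y h => ?_, fun g => ?_⟩
      · obtain ⟨h1, h2, h3⟩ := CfsgLib.ReeG2.wordU_inj (Subtype.ext (congrArg (fun z :
          ↥(Cfsg.Lie.chevG2.posUnipotent K ⊓ Cfsg.Lie.twistedG2 K (3 ^ m)) =>
          (z : GL Cfsg.Lie.chevG2.Idx K)) h))
        exact Prod.ext h1 (Prod.ext h2 h3)
      · obtain ⟨t, u, v, e⟩ := (CfsgLib.ReeG2.pos_tw_iff hK').1 g.2
        exact ⟨(t, u, v), Subtype.ext e⟩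
    rw [← Nat.card_eq_of_bijective φ hφ]
    simp only [Nat.card_prod, hK']
    ring

end Cfsg.Agent.S1101
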