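import Cfsg.Statements.S1127
import Cfsg.Agent.RankOne.Basic

set_option autoImplicit false
open Cfsg

namespace Cfsg.Agent.S1127

/-- In the rank-one set-up (`G` finite and doubly transitive on `Ω`, `t` an involution moving `a`, `Q` normal in `G_a` with `G_a = Q D`, `Q ⊓ D = 1` for the two-point stabiliser `D = G_a ⊓ G_{t • a}`, `|Q|` even, `|D|` odd): if `s` is an involution of `G_a` and `r ∈ Q` satisfy `t s t = r⁻¹ t r`, then `C_D(t) = C_D(s)`; moreover `C_D(t) ⊓ C_D(K) = C_D(I ∩ G_a)`, where `K` is the set of elements of `D` inverted by `t` and `I ∩ G_a` the set of involutions of `G_a`. -/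
theorem result {G Ω : Type*} [Group G] [Finite G] [MulAction G Ω] {a : Ω} {t : G} {Q : Subgroup G}
    (hS : Cfsg.IsRankOneSetup G Ω a t Q) :
    (∀ s r : G, s ∈ Cfsg.involutionsIn (MulAction.stabilizer G a : Set G) → r ∈ Q → t * s * t = r⁻¹ * t * r →
        (MulAction.stabilizer G a ⊓ MulAction.stabilizer G (t • a)) ⊓ Subgroup.centralizer {t} = (MulAction.stabilizer G a ⊓ MulAction.stabilizer G (t • a)) ⊓ Subgroup.centralizer {s}) ∧
      (MulAction.stabilizer G a ⊓ MulAction.stabilizer G (t • a)) ⊓ Subgroup.centralizer {t} ⊓ Subgroup.centralizer (Cfsg.invertedBy (MulAction.stabilizer G a ⊓ MulAction.stabilizer G (t • a)) t) =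
        (MulAction.stabilizer G a ⊓ MulAction.stabilizer G (t • a)) ⊓ Subgroup.centralizer (Cfsg.involutionsIn (MulAction.stabilizer G a : Set G)) := by
  obtain ⟨s₀, r, hs₀, hr, e⟩ := CfsgLib.RankOne.exists_structure hS
  have hV := CfsgLib.RankOne.centralizer_eq_of_structure hS hs₀.1 hr e
  refine ⟨fun s r hs hr e => CfsgLib.RankOne.centralizer_eq_of_structure hS hs.1 hr e, ?_⟩
  apply le_antisymm
  · intro d hd
    obtain ⟨hd', hdK⟩ := Subgroup.mem_inf.1 hd
    refine Subgroup.mem_inf.2 ⟨(Subgroup.mem_inf.1 hd').1, ?_⟩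
    rw [Subgroup.mem_centralizer_iff]
    intro s hs
    obtain ⟨k, hk, rfl⟩ := CfsgLib.RankOne.conj_inverted_surjective hS hs₀ hs
    rw [hV] at hd'
    have h1 : Commute d s₀ := Subgroup.mem_centralizer_singleton_iff.1 (Subgroup.mem_inf.1 hd').2
    have h2 : Commute d k := (Subgroup.mem_centralizer_iff.1 hdK k hk).symm
    exact ((h2.inv_right.mul_right h1).mul_right h2).eq.symm
  · intro d hd
    obtain ⟨hdD, hdI⟩ := Subgroup.mem_inf.1 hd
    have hd0 : d * s₀ = s₀ * d := (Subgroup.mem_centralizer_iff.1 hdI s₀ hs₀).symm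
    have hdV : d ∈ (MulAction.stabilizer G a ⊓ MulAction.stabilizer G (t • a)) ⊓
        Subgroup.centralizer {t} := by
      rw [hV]
      exact Subgroup.mem_inf.2 ⟨hdD, Subgroup.mem_centralizer_singleton_iff.2 hd0⟩
    refine Subgroup.mem_inf.2 ⟨hdV, ?_⟩
    rw [Subgroup.mem_centralizer_iff]
    intro k hk
    obtain ⟨hkD, hkt⟩ := (CfsgLib.RankOne.mem_inverted_iff hS).1 hk
    have h1 : Commute d (k⁻¹ * s₀ * k) := (Subgroup.mem_centralizer_iff.1 hdI _
      (CfsgLib.RankOne.conj_mem_involutions hS (Subgroup.mem_inf.1 hkD).1 hs₀)).symm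
    have hkd : k * d * k⁻¹ ∈ (MulAction.stabilizer G a ⊓ MulAction.stabilizer G (t • a)) ⊓
        Subgroup.centralizer {t} := by
      rw [hV]
      refine Subgroup.mem_inf.2 ⟨mul_mem (mul_mem hkD hdD) (inv_mem hkD),
        Subgroup.mem_centralizer_singleton_iff.2 ?_⟩
      calc k * d * k⁻¹ * s₀ = k * (d * (k⁻¹ * s₀ * k)) * k⁻¹ := by group
        _ = k * (k⁻¹ * s₀ * k * d) * k⁻¹ := by rw [h1.eq]
        _ = _ := by group
    have h2 : k * d * k⁻¹ * t = t * (k * d * k⁻¹) :=
      Subgroup.mem_centralizer_singleton_iff.1 (Subgroup.mem_inf.1 hkd).2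
    have h3 : d * t = t * d := Subgroup.mem_centralizer_singleton_iff.1 (Subgroup.mem_inf.1 hdV).2
    have hkt' : t * k⁻¹ * t = k := by
      have h := congrArg (·⁻¹) hkt
      simp only [mul_inv_rev, inv_inv, CfsgLib.RankOne.t_inv hS] at h
      rw [mul_assoc]; exact h
    have h4 : k * d * k⁻¹ = k⁻¹ * d * k := by
      calc k * d * k⁻¹ = t * (k * d * k⁻¹ * t) := by rw [h2, ← mul_assoc, hS.mul_self, one_mul]
        _ = t * k * (d * (t * t)) * k⁻¹ * t := by rw [hS.mul_self]; group
        _ = t * k * ((t * d) * t) * k⁻¹ * t := by rw [← h3]; group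
        _ = (t * k * t) * d * (t * k⁻¹ * t) := by group
        _ = _ := by rw [hkt, hkt']
    refine CfsgLib.RankOne.commute_of_sq_commute
      (X := MulAction.stabilizer G a ⊓ MulAction.stabilizer G (t • a)) hS.odd_card hkD ?_
    calc k * k * d = k * (k * d * k⁻¹) * k := by group
      _ = k * (k⁻¹ * d * k) * k := by rw [h4]
      _ = _ := by group

end Cfsg.Agent.S1127
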