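import Cfsg.Statements.S1147
import Cfsg.Agent.Zassenhaus.SuzukiOrder

set_option autoImplicit false
open Cfsg

namespace Cfsg.Agent.S1147

/-- Let a finite simple Zassenhaus group `G` on `Ω` have a normal subgroup `U` of `G_a`, regular on `Ω` minus `a`, which is a non-abelian 2-group. Then `|Ω| = 2^(2n) + 1` with `n` odd, `n > 1`, a two-point stabiliser `G_a ⊓ G_b` is cyclic of order `2^n - 1`, and `U` is isomorphic to the type-A group over a field with `2^n` elements for some field automorphism `φ`. -/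
theorem result {G Ω : Type*} [Group G] [Finite G] [MulAction G Ω] [Finite Ω]
    (hZ : Cfsg.IsZassenhausGroup G Ω) [IsSimpleGroup G] {a b : Ω} (hab : a ≠ b)
    (U : Subgroup G) (hUle : U ≤ MulAction.stabilizer G a)
    (hUn : ∀ h ∈ MulAction.stabilizer G a, ∀ u ∈ U, h * u * h⁻¹ ∈ U)
    (hreg : ∀ c d : Ω, c ≠ a → d ≠ a → ∃! u : U, (u : G) • c = d)
    (hU2 : IsPGroup 2 U) (hUna : ∃ u ∈ U, ∃ v ∈ U, u * v ≠ v * u) :
    ∃ n : ℕ, Odd n ∧ 1 < n ∧ Nat.card Ω = 2 ^ (2 * n) + 1 ∧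
      IsCyclic ↥(MulAction.stabilizer G a ⊓ MulAction.stabilizer G b) ∧
      Nat.card ↥(MulAction.stabilizer G a ⊓ MulAction.stabilizer G b) = 2 ^ n - 1 ∧
      ∃ (F : Type) (_ : Field F) (_ : Fintype F) (φ : F ≃+* F), Fintype.card F = 2 ^ n ∧
        Nonempty (U ≃* Cfsg.suzukiTypeA F (φ : F →+* F)) := by
  classical
  haveI := CfsgLib.Zassenhaus.finite_group hZ
  obtain ⟨t, N, q, K, hcyc, hΩ, hz, hsuz⟩ := CfsgLib.Zassenhaus.exists_kernelData hZ hUle hreg hU2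
    (let ⟨u, hu, v, hv, h⟩ := hUna; ⟨⟨u, hu⟩, ⟨v, hv⟩, fun e => h (congrArg Subtype.val e)⟩)
  obtain ⟨hn, m, hm, hq⟩ := K.suzuki_order
  have hta : t • a ≠ a := K.setup.not_mem
  obtain ⟨⟨x, hx⟩, hxb, -⟩ := hreg (t • a) b hta hab.symm
  have hxa : x • a = a := hUle hx
  have hxb' : x • t • a = b := hxb
  have hmap : MulAction.stabilizer G a ⊓ MulAction.stabilizer G b =
      (MulAction.stabilizer G a ⊓ MulAction.stabilizer G (t • a)).map (MulAut.conj x).toMonoidHom := by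
    ext d
    simp only [Subgroup.mem_inf, MulAction.mem_stabilizer_iff, Subgroup.mem_map,
      MulEquiv.coe_toMonoidHom, MulAut.conj_apply]
    constructor
    · rintro ⟨h1, h2⟩
      refine ⟨x⁻¹ * d * x, ⟨?_, ?_⟩, by group⟩
      · rw [mul_smul, mul_smul, hxa, h1, inv_smul_eq_iff, hxa]
      · rw [mul_smul, mul_smul, inv_smul_eq_iff, hxb', h2]
    · rintro ⟨e, ⟨h1, h2⟩, rfl⟩
      have hxa' : x⁻¹ • a = a := by rw [inv_smul_eq_iff, hxa]
      refine ⟨by rw [mul_smul, mul_smul, hxa', h1, hxa], ?_⟩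
      rw [← hxb', mul_smul, mul_smul, inv_smul_smul, h2]
  refine ⟨2 * m + 1, ⟨m, rfl⟩, by omega, ?_, ?_, ?_, ?_⟩
  · rw [hΩ, hn, hq, ← pow_mul, mul_comm]
  · rw [hmap]
    haveI := hcyc
    exact isCyclic_of_surjective _
      (Subgroup.equivMapOfInjective _ _ (MulAut.conj x).injective).surjective
  · rw [hmap, Subgroup.card_map_of_injective (MulAut.conj x).injective, ← hq, ← K.card_pair,
      Nat.add_sub_cancel]
  · obtain ⟨S, hS⟩ := CfsgLib.SuzukiTwoGroup.exists_setting hsuz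
    obtain ⟨F, fF, fT, φ, hF, -, -, hiso⟩ := hS.typeA (by rw [hz, K.card_Q, hn])
    exact ⟨F, fF, fT, φ, by rw [hF, hz, hq], hiso⟩

end Cfsg.Agent.S1147
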