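import Cfsg.Statements.S1164
import Cfsg.Agent.CurtisTitsChev.SubClosed

set_option autoImplicit false
open Cfsg

namespace Cfsg.Agent.S1164

/-- Curtis–Tits: for the Chevalley datum of type D₄, F₄, E₆, E₇ or E₈ and a field `K` with at least four elements, there is an isomorphism from the group presented by the Curtis–Tits relators (additivity, the commutator relators and the `h̄`-relators only for roots inside a common rank-two subsystem spanned by two fundamental roots, all other generators killed) onto the group of Steinberg's presentation, sending each generator `x̄_r(t)` with `r` in such a subsystem to `x̄_r(t)`. -/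
theorem result (D : Cfsg.Lie.ChevalleyDatum)
    (hD : D ∈ [Cfsg.Lie.chevD4, Cfsg.Lie.chevF4, Cfsg.Lie.chevE6, Cfsg.Lie.chevE7, Cfsg.Lie.chevE8])
    (K : Type*) [Field K] [Fintype K] (hK : 4 ≤ Fintype.card K) :
    ∃ e : D.CurtisTitsGroup K ≃* D.SteinbergGroup K,
      ∀ (i j r : ℕ) (t : K), D.InRankTwoSub i j r →
        e (PresentedGroup.mk (D.curtisTitsRels K) (D.stX r t)) = D.stGen K r t := by
  classical
  have hmem := CfsgLib.CurtisTitsChev.mem_seven hD
  set y : ℕ → K → D.CurtisTitsGroup K :=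
    fun r t => PresentedGroup.mk (D.curtisTitsRels K) (D.stX r t) with hy
  have hword : ∀ w : List (ℕ × K), PresentedGroup.mk (D.curtisTitsRels K) (D.stWord w) =
      (w.map fun p => y p.1 p.2).prod := CfsgLib.ChevCollect.stWord_map D _
  have hout : ∀ r, ¬ r < D.nroots → ∀ t, y r t = 1 := fun r hr t => by
    simp [hy, Lie.ChevalleyDatum.stX, hr]
  have H : CfsgLib.CurtisTitsChev.PairRels D y := by
    refine ⟨fun i j r h t u => ?_, fun i j r s hr hs h1 h2 t u => ?_⟩
    · have h' : PresentedGroup.mk (D.curtisTitsRels K)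
          (D.stX r t * D.stX r u * (D.stX r (t + u))⁻¹) = 1 :=
        PresentedGroup.one_of_mem (Or.inl (Or.inl (Or.inr ⟨i, j, r, t, u, h, rfl⟩)))
      rw [map_mul, map_mul, map_inv, mul_inv_eq_one] at h'
      exact h'.symm
    · have h' : PresentedGroup.mk (D.curtisTitsRels K)
          ((D.stX s u)⁻¹ * (D.stX r t)⁻¹ * D.stX s u * D.stX r t *
            (D.stWord (D.commWord K r s t u))⁻¹) = 1 :=
        PresentedGroup.one_of_mem (Or.inl (Or.inr ⟨i, j, r, s, t, u, hr, hs, h1, h2, rfl⟩))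
      rw [map_mul, map_inv, mul_inv_eq_one, hword] at h'
      simpa [hy] using h'
  obtain ⟨ψ, hψ⟩ := CfsgLib.CurtisTitsChev.exists_hom hD y H hout
  let f : Fin D.nroots × K → D.SteinbergGroup K := fun p =>
    if ∃ i j, D.InRankTwoSub i j p.1 then D.stGen K p.1 p.2 else 1
  have hsub : ∀ r, (∃ i j, D.InRankTwoSub i j r) → ∀ t, FreeGroup.lift f (D.stX r t) = D.stGen K r t := by
    intro r hr t
    have hlt : r < D.nroots := let ⟨_, _, h⟩ := hr; h.1
    simp [Lie.ChevalleyDatum.stX, hlt, f, hr]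
  have R := CfsgLib.CurtisTitsChev.stRels_stGen (D := D) (K := K)
  obtain ⟨T, C, -⟩ := CfsgLib.CurtisTitsChev.exists_cert_uniq hD
  have hcomm : ∀ i j r s, D.InRankTwoSub i j r → D.InRankTwoSub i j s → s ≠ r → s ≠ D.neg r → ∀ t u,
      FreeGroup.lift f (D.stWord (D.commWord K r s t u)) =
        ((D.commWord K r s t u).map fun p => D.stGen K p.1 p.2).prod := by
    intro i j r s hr hs h1 h2 t u
    rw [CfsgLib.ChevCollect.stWord_map]
    congr 1
    refine List.map_congr_left fun p hp => ?_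
    obtain ⟨c, hc, rfl⟩ := List.mem_map.1 hp
    exact hsub _ ⟨i, j, CfsgLib.CurtisTitsChev.terms_inSub hD hr hs h1 h2 c hc⟩ _
  have hrels : ∀ g ∈ D.curtisTitsRels K, FreeGroup.lift f g = 1 := by
    rintro g (((⟨r, t, hr, hno, rfl⟩ | ⟨i, j, r, t, u, h, rfl⟩) |
      ⟨i, j, r, s, t, u, hr, hs, h1, h2, rfl⟩) | ⟨i, j, r, t, u, h, ht, hu, rfl⟩)
    · simp [Lie.ChevalleyDatum.stX, hr, f, hno]
    · simp only [map_mul, map_inv, hsub r ⟨i, j, h⟩, R.add r h.1, mul_inv_cancel]
    · simp only [map_mul, map_inv, hsub r ⟨i, j, hr⟩, hsub s ⟨i, j, hs⟩, hcomm i j r s hr hs h1 h2,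
        R.comm r s t u hr.1 hs.1 h1 h2, mul_inv_cancel]
    · have hn : ∃ i j, D.InRankTwoSub i j (D.neg r) :=
        ⟨i, j, CfsgLib.CurtisTitsChev.neg_inSub hD h⟩
      have e : ∀ v, FreeGroup.lift f (D.stH r v) =
          CfsgLib.ChevCollect.hEl D (D.stGen K) r v := fun v => by
        simp [Lie.ChevalleyDatum.stH, CfsgLib.ChevCollect.stWord_map, Lie.ChevalleyDatum.hWord,
          Lie.ChevalleyDatum.nWord, CfsgLib.ChevCollect.hEl, CfsgLib.ChevCollect.nEl, mul_assoc,
          hsub r ⟨i, j, h⟩, hsub _ hn]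
      obtain ⟨W, hW⟩ := CfsgLib.ChevCollect.exists_wit hmem
      rw [map_mul, map_mul, map_inv, e, e, e, CfsgLib.ChevCollect.hEl_mul R h.1
        (List.all_eq_true.1 hW r (List.mem_range.2 h.1)) ht hu, mul_inv_cancel]
  set φ := PresentedGroup.toGroup (f := f) hrels with hφ
  have hφy : ∀ r, (∃ i j, D.InRankTwoSub i j r) → ∀ t, φ (y r t) = D.stGen K r t :=
    fun r hr t => hsub r hr t
  have h2 : φ.comp ψ = MonoidHom.id (D.SteinbergGroup K) := by
    have htop := CfsgLib.CurtisTitsChev.eq_top_of_small hD (K := K)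
      (S := MonoidHom.eqLocus (φ.comp ψ) (MonoidHom.id _)) fun r hr t => by
        show φ (ψ (D.stGen K r t)) = D.stGen K r t
        rw [hψ r hr, hφy r hr]
    exact MonoidHom.ext fun g => (Subgroup.eq_top_iff' _).1 htop g
  have h1 : ψ.comp φ = MonoidHom.id (D.CurtisTitsGroup K) := by
    refine PresentedGroup.ext fun p => ?_
    have e : y p.1 p.2 = PresentedGroup.of p := by
      simp [hy, PresentedGroup.of, CfsgLib.ChevCollect.stX_fin]
    rw [MonoidHom.comp_apply, MonoidHom.id_apply, ← e]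
    by_cases hp : ∃ i j, D.InRankTwoSub i j p.1
    · rw [hφy _ hp, hψ _ hp]
    · have : y p.1 p.2 = 1 := PresentedGroup.one_of_mem
        (Or.inl (Or.inl (Or.inl ⟨p.1, p.2, p.1.2, fun i j h => hp ⟨i, j, h⟩, rfl⟩)))
      rw [this, map_one, map_one]
  exact ⟨MonoidHom.toMulEquiv φ ψ h1 h2, fun i j r t h => hφy r ⟨i, j, h⟩ t⟩

end Cfsg.Agent.S1164
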