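import Cfsg.Statements.S1167
import Cfsg.Agent.RankOne.AbelianKernel

set_option autoImplicit false
set_option linter.style.haveILetI false
open Cfsg

namespace Cfsg.Agent.S1167

/-- Let `G` be a finite simple Zassenhaus group on `Ω`, `U` a normal subgroup of `G_a` regular on `Ω` minus `a` which is an abelian 2-group, and `v` an involution with `v • a ≠ a`. Then there is a unique `u₀ ∈ U`, `u₀ ≠ 1`, with `v u₀ v = u₀ v u₀`. -/
theorem result {G Ω : Type*} [Group G] [Finite G] [MulAction G Ω] [Finite Ω]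
    (hZ : Cfsg.IsZassenhausGroup G Ω) [IsSimpleGroup G] {a : Ω}
    (U : Subgroup G) (hUle : U ≤ MulAction.stabilizer G a)
    (hUn : ∀ h ∈ MulAction.stabilizer G a, ∀ u ∈ U, h * u * h⁻¹ ∈ U)
    (hreg : ∀ c d : Ω, c ≠ a → d ≠ a → ∃! u : U, (u : G) • c = d)
    (hU2 : IsPGroup 2 U) (hUab : ∀ u ∈ U, ∀ u' ∈ U, u * u' = u' * u)
    (v : G) (hv1 : v ≠ 1) (hv2 : v * v = 1) (hva : v • a ≠ a) :
    ∃! u₀ : G, u₀ ∈ U ∧ u₀ ≠ 1 ∧ v * u₀ * v = u₀ * v * u₀ := by
  classical
  haveI := hZ.1
  haveI : Fact (Nat.Prime 2) := ⟨Nat.prime_two⟩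
  haveI := Fintype.ofFinite Ω
  set b := v • a with hb
  have hvb : v • b = a := by rw [hb, ← mul_smul, hv2, one_smul]
  have hUa : ∀ u ∈ U, u • a = a := fun u hu => hUle hu
  have hUfix : ∀ u ∈ U, u ≠ 1 → ∀ c : Ω, u • c = c → c = a := by
    intro u hu hu1 c hc
    by_contra hca
    exact hu1 (congrArg Subtype.val ((hreg c c hca hca).unique (y₁ := ⟨u, hu⟩) (y₂ := 1) hc
      (one_smul G c)))
  -- the degree is odd
  let f : U → {c : Ω // c ≠ a} := fun u => ⟨(u : G) • b, fun h => hva (by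
    rw [← hUa u u.2] at h; exact MulAction.injective (u : G) h)⟩
  have hf : Function.Bijective f := by
    refine ⟨fun u w h => (hreg b _ hva (f w).2).unique (congrArg Subtype.val h) rfl, fun c => ?_⟩
    obtain ⟨u, hu, -⟩ := hreg b c hva c.2
    exact ⟨u, Subtype.ext hu⟩
  have hcard : Nat.card Ω = Nat.card U + 1 := by
    rw [Nat.card_congr (Equiv.ofBijective f hf), ← Finite.card_option]
    exact Nat.card_congr (Equiv.optionSubtypeNe a).symm
  obtain ⟨h, hh, hha, hhb⟩ := CfsgLib.Zassenhaus.exists_fix_two hZ (Ne.symm hva : a ≠ b)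
  have heven : Even (Nat.card U) := by
    rcases hU2.card_eq_or_dvd with h1 | h2
    · exfalso
      refine hh (FaithfulSMul.eq_of_smul_eq_smul (α := Ω) fun c => ?_)
      rw [one_smul]
      by_cases hca : c = a
      · rw [hca, hha]
      · obtain ⟨u, hu, -⟩ := hreg b c hva hca
        have : u = 1 := by
          haveI := (Nat.card_eq_one_iff_unique.1 h1).1
          exact Subsingleton.elim _ _
        rw [this, Subgroup.coe_one, one_smul] at hu
        rw [← hu, hhb]
    · exact even_iff_two_dvd.2 h2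
  have hodd : Odd (Nat.card Ω) := by rw [hcard]; exact heven.add_one
  have hD : Odd (Nat.card ↥(MulAction.stabilizer G a ⊓ MulAction.stabilizer G b)) := by
    by_contra hD
    rw [Nat.not_odd_iff_even, even_iff_two_dvd] at hD
    obtain ⟨⟨w, hw⟩, hw2⟩ := exists_prime_orderOf_dvd_card' 2 hD
    rw [Subgroup.orderOf_mk] at hw2
    obtain ⟨hwa, hwb⟩ := Subgroup.mem_inf.1 hw
    have hww : w * w = 1 := by rw [← pow_two, ← hw2, pow_orderOf_eq_one]
    have hw1 : w ≠ 1 := fun e => by rw [e, orderOf_one] at hw2; omega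
    have hpar := CfsgLib.Perm.Zassenhaus.fixedBy_parity (Ω := Ω) hww
    have hle := CfsgLib.Perm.Zassenhaus.fixedBy_le_two hZ hw1
    have h2 : 2 ≤ Nat.card (MulAction.fixedBy Ω w) := by
      haveI : Nontrivial (MulAction.fixedBy Ω w) :=
        ⟨⟨a, hwa⟩, ⟨b, hwb⟩, fun e => hva (congrArg Subtype.val e).symm⟩
      exact Finite.one_lt_card
    rw [Nat.card_eq_fintype_card (α := Ω)] at hodd
    rw [show Nat.card (MulAction.fixedBy Ω w) = 2 by omega, Nat.odd_iff.1 hodd] at hpar
    omega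
  have hS : Cfsg.IsRankOneSetup G Ω a v U :=
    { two_transitive := hZ.2.1
      mul_self := hv2
      ne_one := hv1
      not_mem := hva
      le := hUle
      conj_mem := hUn
      inf_eq_bot := by
        rw [Subgroup.eq_bot_iff_forall]
        intro x hx
        obtain ⟨hxU, hxb⟩ := Subgroup.mem_inf.1 hx
        by_contra hx1
        exact hva (hUfix x hxU hx1 b hxb)
      sup_eq := by
        refine le_antisymm (sup_le hUle inf_le_left) fun g hg => ?_
        obtain ⟨u, hu, -⟩ := hreg b (g • b) hva (fun e => hva (MulAction.injective g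
          (e.trans (MulAction.mem_stabilizer_iff.1 hg).symm)))
        rw [show g = u * ((u : G)⁻¹ * g) by group]
        refine Subgroup.mul_mem_sup u.2 (Subgroup.mem_inf.2 ⟨mul_mem (inv_mem (hUle u.2)) hg, ?_⟩)
        rw [MulAction.mem_stabilizer_iff, mul_smul, inv_smul_eq_iff]
        exact hu.symm
      even_card := heven
      odd_card := hD }
  obtain ⟨s, r, hs, hr, e⟩ := CfsgLib.RankOne.exists_structure hS
  have hrr : r * r = 1 := CfsgLib.RankOne.structure_sq_eq_one hS hU2 hUab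
    (fun d hd => CfsgLib.Zassenhaus.inverts_of_odd hZ hS hUfix hd) (j := h)
    (Subgroup.mem_inf.2 ⟨hha, hhb⟩) hh hs hr e
  have hri : r⁻¹ = r := inv_eq_of_mul_eq_one_right hrr
  obtain ⟨c, hc, huniq⟩ := CfsgLib.RankOne.existsUnique_fixed hS hv1 hv2
  have hsU := CfsgLib.RankOne.mem_Q_of_sq_eq_one hS hs.1 hs.2.2
  rw [hri] at e
  have hrb : r • b = c := by
    apply huniq
    have h1 : (r * v * r) • b = b := by
      rw [← e, mul_smul, mul_smul, hvb, hUa s hsU]
    rw [mul_smul, mul_smul, ← eq_inv_smul_iff, hri] at h1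
    exact h1
  have hsr : s = r := by
    apply CfsgLib.RankOne.Q_smul_inj hS hsU hr
    show s • b = r • b
    rw [hrb]
    have h1 : v • s • b = c := by
      rw [hb, ← mul_smul, ← mul_smul, e, mul_smul, mul_smul, hUa r hr]
      exact hrb
    rw [← eq_inv_smul_iff, inv_eq_of_mul_eq_one_right hv2, hc] at h1
    exact h1
  refine ⟨r, ⟨hr, fun e1 => hs.2.1 (hsr.trans e1), hsr ▸ e⟩, ?_⟩
  rintro u ⟨hu, -, hue⟩
  refine CfsgLib.RankOne.Q_smul_inj hS hu hr ?_
  show u • b = r • b
  rw [hrb]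
  apply huniq
  have h1 : (v * u * v) • a = v • u • b := by rw [hb, mul_smul, mul_smul]
  rw [hue, mul_smul, mul_smul, hUa u hu] at h1
  exact h1.symm

end Cfsg.Agent.S1167
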