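import Cfsg.Statements.S1176
import Cfsg.Agent.Isolated.Basic

-- import your own Cfsg.Agent.* helpers here

set_option autoImplicit false
open Cfsg

namespace Cfsg.Agent.S1176

/-- Let x₀ be an involution of the finite group G and D its conjugacy class. Assume (a) for each x ∈ D the subgroup W(x) generated by the members of D commuting with x is a 2-group of nilpotency class at most 2, and (b) the product of two distinct commuting members of D again lies in D. Then for all x, y ∈ D, if xy has even order greater than 2, its order is 4. -/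
theorem result {G : Type*} [Group G] [Finite G] (x₀ : G) (hx₀ : orderOf x₀ = 2) (ha : ∀ x : G, IsConj x₀ x → IsPGroup 2 ↥(Subgroup.closure {y : G | IsConj x₀ y ∧ Commute y x}) ∧ ⁅⁅Subgroup.closure {y : G | IsConj x₀ y ∧ Commute y x}, Subgroup.closure {y : G | IsConj x₀ y ∧ Commute y x}⁆, Subgroup.closure {y : G | IsConj x₀ y ∧ Commute y x}⁆ = ⊥) (hb : ∀ x y : G, IsConj x₀ x → IsConj x₀ y → x ≠ y → Commute x y → IsConj x₀ (x * y)) (x y : G) (hx : IsConj x₀ x) (hy : IsConj x₀ y) (heven : Even (orderOf (x * y))) (hgt : 2 < orderOf (x * y)) : orderOf (x * y) = 4 := by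
  have hxo : orderOf x = 2 := by
    obtain ⟨g, rfl⟩ := isConj_iff.1 hx; rw [CfsgLib.Small.orderOf_conj_eq, hx₀]
  have hyo : orderOf y = 2 := by
    obtain ⟨g, rfl⟩ := isConj_iff.1 hy; rw [CfsgLib.Small.orderOf_conj_eq, hx₀]
  obtain ⟨hw, hwx, hwy⟩ := CfsgLib.Small.half_pow_spec hxo hyo heven
  set w := (x * y) ^ (orderOf (x * y) / 2) with hwdef
  have hxw : IsConj x₀ (x * w) := by
    rcases CfsgLib.Isolated.mul_pow_isConj hxo hyo (orderOf (x * y) / 2) with ⟨-, h⟩ | ⟨-, h⟩
    · exact hx.trans h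
    · exact hy.trans h
  have hwconj : IsConj x₀ w := by
    have hne : x ≠ x * w := by
      intro h
      rw [left_eq_mul] at h
      rw [h, orderOf_one] at hw
      omega
    have := hb x (x * w) hx hxw hne ((Commute.refl x).mul_right hwx.symm)
    rwa [← mul_assoc, CfsgLib.Small.mul_self_of_orderOf_two hxo, one_mul] at this
  obtain ⟨hp, hc⟩ := ha w hwconj
  set E := Subgroup.closure {d : G | IsConj x₀ d ∧ Commute d w}
  have hxE : x ∈ E := Subgroup.subset_closure ⟨hx, hwx.symm⟩
  have hyE : y ∈ E := Subgroup.subset_closure ⟨hy, hwy.symm⟩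
  have hu : (x * y) ^ 2 ∈ ⁅E, E⁆ := by
    have h := Subgroup.commutator_mem_commutator hxE hyE
    rwa [commutatorElement_def, CfsgLib.Small.inv_eq_self_of_orderOf_two hxo,
      CfsgLib.Small.inv_eq_self_of_orderOf_two hyo, mul_assoc (x * y), ← sq] at h
  have h4 : (x * y) ^ 4 = 1 := by
    have h := Subgroup.commutator_mem_commutator hu hxE
    rw [hc, Subgroup.mem_bot, commutatorElement_def] at h
    have hi := CfsgLib.Small.invol_conj_pow (CfsgLib.Small.invol_conj_mul hxo hyo) 2
    rw [CfsgLib.Small.inv_eq_self_of_orderOf_two hxo] at h hi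
    rw [mul_assoc ((x * y) ^ 2) x, mul_assoc ((x * y) ^ 2) (x * _) x] at h
    rw [← inv_inj, ← inv_pow, inv_one]
    have : x * ((x * y) ^ 2)⁻¹ * x = (x * y) ^ 2 := by
      rw [← hi]; simp [← mul_assoc, CfsgLib.Small.mul_self_of_orderOf_two hxo]
      rw [mul_assoc, CfsgLib.Small.mul_self_of_orderOf_two hxo, mul_one]
    rw [this, ← pow_add] at h
    rw [inv_pow, h, inv_one]
  have hd := orderOf_dvd_of_pow_eq_one h4
  rw [show (4 : ℕ) = 2 ^ 2 from rfl, Nat.dvd_prime_pow Nat.prime_two] at hd
  obtain ⟨i, hi, hie⟩ := hd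
  interval_cases i <;> omega

end Cfsg.Agent.S1176
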