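import Cfsg.Statements.S1177
import Cfsg.Agent.TwoGroups.Closed
import Cfsg.Agent.Transfer.Alperin

-- import your own Cfsg.Agent.* helpers here

set_option autoImplicit false
open Cfsg

namespace Cfsg.Agent.S1177

/-- Let A be a nontrivial elementary abelian 2-subgroup of a finite group G which is a T.I. set (each conjugate of A meets A trivially or equals A) and which does not commute elementwise with any conjugate of A other than A itself. Then for every a ∈ A, a ≠ 1, every conjugate of A contained in C_G(a) is equal to A (A is weakly closed in C_G(a)). -/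
theorem result {G : Type*} [Group G] [Finite G] (A : Subgroup G) (hA : Cfsg.IsElementaryAbelian 2 A) (hA1 : A ≠ ⊥) (hTI : ∀ g : G, A.map (MulAut.conj g).toMonoidHom ⊓ A = ⊥ ∨ A.map (MulAut.conj g).toMonoidHom = A) (hb : ∀ g : G, (∀ a ∈ A, ∀ b ∈ A.map (MulAut.conj g).toMonoidHom, a * b = b * a) → A.map (MulAut.conj g).toMonoidHom = A) (a : G) (ha : a ∈ A) (ha1 : a ≠ 1) (g : G) (hg : A.map (MulAut.conj g).toMonoidHom ≤ Subgroup.centralizer ({a} : Set G)) : A.map (MulAut.conj g).toMonoidHom = A := by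
  haveI : Fact (Nat.Prime 2) := ⟨Nat.prime_two⟩
  set B := A.map (MulAut.conj g).toMonoidHom with hB
  by_contra hne
  have hdisj : A ⊓ B = ⊥ := by
    rcases hTI g with h | h
    · rwa [inf_comm]
    · exact absurd h hne
  have hAp : IsPGroup 2 A := fun x => ⟨1, Subtype.ext (by simpa using hA.2 x x.2)⟩
  have hBp : IsPGroup 2 B := hAp.map _
  have hBA : B ≤ Subgroup.normalizer (A : Set G) := by
    intro b hbm
    have hab : Commute b a := (Subgroup.mem_centralizer_singleton_iff.1 (hg hbm))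
    rcases hTI b with h | h
    · have : a ∈ A.map (MulAut.conj b).toMonoidHom ⊓ A := ⟨⟨a, ha, by simp [hab.eq]⟩, ha⟩
      rw [h, Subgroup.mem_bot] at this
      exact absurd this ha1
    · exact Subgroup.mem_normalizer_iff_map_conj_eq.2 h
  have hBcomm : ∀ x ∈ B, ∀ y ∈ B, x * y = y * x := by
    rintro _ ⟨x, hx, rfl⟩ _ ⟨y, hy, rfl⟩
    haveI := hA.1
    rw [← map_mul, ← map_mul]
    exact congrArg _ (congrArg Subtype.val (mul_comm' (⟨x, hx⟩ : A) ⟨y, hy⟩))
  set A₀ := A ⊓ Subgroup.normalizer (B : Set G) with hA₀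
  have hA₀c : A₀ ≤ Subgroup.centralizer (B : Set G) := by
    rintro x ⟨hxA, hxN⟩ b hbm
    have h1 : x * b * x⁻¹ * b⁻¹ ∈ A ⊓ B := by
      refine ⟨?_, B.mul_mem ((Subgroup.mem_normalizer_iff.1 hxN b).1 hbm) (B.inv_mem hbm)⟩
      rw [show x * b * x⁻¹ * b⁻¹ = x * (b * x⁻¹ * b⁻¹) by group]
      exact mul_mem hxA ((Subgroup.mem_normalizer_iff.1 (hBA hbm) _).1 (inv_mem hxA))
    rw [hdisj, Subgroup.mem_bot, mul_inv_eq_one, mul_inv_eq_iff_eq_mul] at h1
    exact h1.symm
  have hA₀ne : ¬ A ≤ Subgroup.normalizer (B : Set G) := fun h =>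
    hne (hb g fun x hx b hbm => (hA₀c ⟨hx, h hx⟩ b hbm).symm)
  set H := B ⊔ A₀ with hH
  have hHC : H ≤ Subgroup.centralizer (B : Set G) :=
    sup_le (fun x hx y hy => hBcomm y hy x hx) hA₀c
  set P := A ⊔ B
  have hP : IsPGroup 2 P := hAp.to_sup_of_normal_left' hBp hBA
  have hlt : H < P := by
    refine lt_of_le_of_ne (sup_le le_sup_right (inf_le_left.trans le_sup_left)) fun he => hA₀ne ?_
    exact le_trans (le_sup_left.trans he.ge) (hHC.trans (Subgroup.centralizer_le_normalizer _))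
  obtain ⟨y, ⟨hyP, hyN⟩, hyH⟩ :=
    SetLike.exists_of_lt (CfsgLib.Transfer.lt_inf_normalizer hP hlt)
  change y ∈ ((A ⊔ B : Subgroup G) : Set G) at hyP
  rw [Subgroup.coe_mul_of_right_le_normalizer_left A B hBA] at hyP
  obtain ⟨x, hx, b, hbm, rfl⟩ := hyP
  have hxN : x ∈ Subgroup.normalizer (H : Set G) := by
    have h := mul_mem hyN (Subgroup.le_normalizer (H := H) (inv_mem (le_sup_left (b := A₀) hbm)))
    simpa using h
  have hxB : ∀ c ∈ B, x * c * x⁻¹ ∈ H := fun c hc =>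
    (Subgroup.mem_normalizer_iff.1 hxN c).1 (le_sup_left (b := A₀) hc)
  have heq : B.map (MulAut.conj x).toMonoidHom = B := by
    have h2 := hb (g⁻¹ * x * g) ?_
    · have h3 := congrArg (Subgroup.map (MulAut.conj g).toMonoidHom) h2
      rw [CfsgLib.Transfer.map_conj_map_conj, ← hB] at h3
      rw [hB, CfsgLib.Transfer.map_conj_map_conj, ← hB, ← h3,
        show g * (g⁻¹ * x * g) = x * g by group]
    intro u hu v hv
    obtain ⟨w, hw, rfl⟩ := hv
    have hcm : x * (g * w * g⁻¹) * x⁻¹ ∈ H := hxB _ ⟨w, hw, by simp⟩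
    have h4 := hHC hcm (g * u * g⁻¹) ⟨u, hu, by simp⟩
    simp only [MulEquiv.coe_toMonoidHom, MulAut.conj_apply]
    have h5 := congrArg (fun t => g⁻¹ * t * g) h4
    calc u * (g⁻¹ * x * g * w * (g⁻¹ * x * g)⁻¹)
        = g⁻¹ * (g * u * g⁻¹ * (x * (g * w * g⁻¹) * x⁻¹)) * g := by group
      _ = g⁻¹ * (x * (g * w * g⁻¹) * x⁻¹ * (g * u * g⁻¹)) * g := h5
      _ = g⁻¹ * x * g * w * (g⁻¹ * x * g)⁻¹ * u := by group
  refine hyH (mul_mem (le_sup_right (a := B) ⟨hx, ?_⟩) (le_sup_left (b := A₀) hbm))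
  exact Subgroup.mem_normalizer_iff_map_conj_eq.2 heq

end Cfsg.Agent.S1177
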