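import Cfsg.Statements.S1178
import Cfsg.Agent.TwoGroups.Closed

-- import your own Cfsg.Agent.* helpers here

set_option autoImplicit false
open Cfsg

namespace Cfsg.Agent.S1178

/-- Let A be a subgroup of a Sylow 2-subgroup S of the finite group G which is weakly closed in S. If a conjugate g A g⁻¹ commutes elementwise with A, then g A g⁻¹ = A. -/
theorem result {G : Type*} [Group G] [Finite G] (S : Sylow 2 G) (A : Subgroup G) (hW : Cfsg.IsWeaklyClosed A (S : Subgroup G)) (g : G) (hc : ∀ a ∈ A, ∀ b ∈ A.map (MulAut.conj g).toMonoidHom, a * b = b * a) : A.map (MulAut.conj g).toMonoidHom = A := by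
  haveI : Fact (Nat.Prime 2) := ⟨Nat.prime_two⟩
  have hA2 : IsPGroup 2 A := S.isPGroup'.to_le hW.1
  have hn : A ≤ Subgroup.normalizer ((A.map (MulAut.conj g).toMonoidHom : Subgroup G) : Set G) := by
    refine le_trans (b := Subgroup.centralizer _) (fun a ha b hb => ?_) (Subgroup.centralizer_le_normalizer _)
    exact (hc a ha b hb).symm
  have hR := hA2.to_sup_of_normal_right' (hA2.map (MulAut.conj g).toMonoidHom) hn
  have h := CfsgLib.Closed.eq_of_le_isPGroup S hW hR (a := 1) (b := g)
    (by rw [map_one]; exact le_trans (by simp [Subgroup.map_id, MulAut.one_def]) le_sup_left)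
    le_sup_right
  rw [← h, map_one]
  exact Subgroup.map_id _

end Cfsg.Agent.S1178
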