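import Cfsg.Statements.S1181
import Cfsg.Agent.Isolated.Basic

-- import your own Cfsg.Agent.* helpers here

set_option autoImplicit false
open Cfsg

namespace Cfsg.Agent.S1181

/-- Let z be an isolated involution of the finite group G and N a normal subgroup with z ∉ N. Then the centralizer of zN in G/N is the image of C_G(z), and zN is an isolated involution of G/N. -/
theorem result {G : Type*} [Group G] [Finite G] (z : G) (hz : Cfsg.IsIsolatedInvolution z) (N : Subgroup G) [N.Normal] (hzN : z ∉ N) : Subgroup.centralizer ({(QuotientGroup.mk z : G ⧸ N)} : Set (G ⧸ N)) = (Subgroup.centralizer ({z} : Set G)).map (QuotientGroup.mk' N) ∧ Cfsg.IsIsolatedInvolution (QuotientGroup.mk z : G ⧸ N) := by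
  have hcent : ∀ x : G, (QuotientGroup.mk x : G ⧸ N) ∈
      Subgroup.centralizer ({(QuotientGroup.mk z : G ⧸ N)} : Set (G ⧸ N)) ↔
      z⁻¹ * (x * z * x⁻¹) ∈ N := by
    intro x
    rw [Subgroup.mem_centralizer_singleton_iff, ← QuotientGroup.eq, QuotientGroup.mk_mul,
      QuotientGroup.mk_mul, QuotientGroup.mk_inv, eq_mul_inv_iff_mul_eq]
    exact eq_comm
  refine ⟨le_antisymm ?_ ?_, ?_, ?_⟩
  · intro q hq
    obtain ⟨x, rfl⟩ := QuotientGroup.mk_surjective q
    obtain ⟨k, hk, e⟩ := CfsgLib.Isolated.exists_conj_mem_zpowers hz (IsConj.refl z)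
      (isConj_iff.2 ⟨x, rfl⟩)
    have hkN : k ∈ N := by
      refine (Subgroup.zpowers_le.2 ?_) hk
      have h := (hcent x).1 hq
      rwa [CfsgLib.Small.inv_eq_self_of_orderOf_two hz.1] at h
    refine ⟨k⁻¹ * x, Subgroup.mem_centralizer_singleton_iff.2 ?_, ?_⟩
    · calc k⁻¹ * x * z = k⁻¹ * (x * z * x⁻¹) * x := by group
        _ = z * (k⁻¹ * x) := by rw [← e]; group
    · show (QuotientGroup.mk (k⁻¹ * x) : G ⧸ N) = QuotientGroup.mk x
      rw [QuotientGroup.mk_mul, (QuotientGroup.eq_one_iff _).2 (inv_mem hkN), one_mul]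
  · rintro q ⟨c, hc, rfl⟩
    rw [QuotientGroup.mk'_apply, hcent]
    have hc' : c * z = z * c := Subgroup.mem_centralizer_singleton_iff.1 hc
    rw [hc', mul_inv_cancel_right, inv_mul_cancel]
    exact one_mem N
  · refine orderOf_eq_prime ?_ ?_
    · rw [sq, ← QuotientGroup.mk_mul, CfsgLib.Small.mul_self_of_orderOf_two hz.1,
        QuotientGroup.mk_one]
    · rwa [ne_eq, QuotientGroup.eq_one_iff]
  · intro q hc
    obtain ⟨x, rfl⟩ := QuotientGroup.mk_surjective q
    simp only [← QuotientGroup.mk_inv, ← QuotientGroup.mk_mul] at hc ⊢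
    have hsq : (QuotientGroup.mk (z * (x * z * x⁻¹)) : G ⧸ N) ^ 2 = 1 := by
      rw [QuotientGroup.mk_mul, hc.mul_pow, sq, sq, ← QuotientGroup.mk_mul, ← QuotientGroup.mk_mul,
        CfsgLib.Small.mul_self_of_orderOf_two hz.1, CfsgLib.Small.mul_self_of_orderOf_two
        (show orderOf (x * z * x⁻¹) = 2 by rw [CfsgLib.Small.orderOf_conj_eq, hz.1]),
        QuotientGroup.mk_one, one_mul]
    obtain ⟨m, hm⟩ := CfsgLib.Isolated.odd_mul hz (IsConj.refl z) (isConj_iff.2 ⟨x, rfl⟩)
    have hpow : (QuotientGroup.mk (z * (x * z * x⁻¹)) : G ⧸ N) ^ (2 * m + 1) = 1 := by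
      rw [← QuotientGroup.mk_pow, ← hm, pow_orderOf_eq_one, QuotientGroup.mk_one]
    rw [pow_succ, pow_mul, hsq, one_pow, one_mul, QuotientGroup.eq_one_iff] at hpow
    rw [QuotientGroup.eq]
    refine (‹N.Normal›).mem_comm ?_
    have h2 := inv_mem hpow
    rw [mul_inv_rev, CfsgLib.Small.inv_eq_self_of_orderOf_two hz.1] at h2
    exact (‹N.Normal›).mem_comm h2

end Cfsg.Agent.S1181
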