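import Cfsg.Statements.S1183
import Cfsg.Agent.TwoGroups.Closed
import Cfsg.Agent.Isolated.Basic

-- import your own Cfsg.Agent.* helpers here

set_option autoImplicit false
open Cfsg

namespace Cfsg.Agent.S1183

/-- Let z be an isolated involution of the finite group G and C = C_G(z). Then the subgroup of G generated by its elements of odd order is all of G if and only if the subgroup of C generated by its elements of odd order is all of C. -/
theorem result {G : Type*} [Group G] [Finite G] (z : G) (hz : Cfsg.IsIsolatedInvolution z) : Cfsg.pResidual 2 G = ⊤ ↔ Cfsg.pResidual 2 ↥(Subgroup.centralizer ({z} : Set G)) = ⊤ := by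
  haveI : Fact (Nat.Prime 2) := ⟨Nat.prime_two⟩
  obtain ⟨S, hS⟩ := (IsPGroup.of_card (p := 2) (n := 1)
    (by rw [Nat.card_zpowers, hz.1, pow_one]) : IsPGroup 2 (Subgroup.zpowers z)).exists_le_sylow
  have hzS : z ∈ S := hS (Subgroup.mem_zpowers z)
  set C := Subgroup.centralizer ({z} : Set G) with hC
  have hSC : (S : Subgroup G) ≤ C := fun s hs => Subgroup.mem_centralizer_singleton_iff.2
    (CfsgLib.Isolated.commute_of_isPGroup hz S.isPGroup' hzS hs)
  have hcf : CfsgLib.Transfer.ControlsFusion C (S : Subgroup G) := by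
    intro x hx g hgx
    obtain ⟨c, -, hcz, hcx⟩ := CfsgLib.Isolated.exists_conj_centralizer hz (H := ⊤)
      (Subgroup.le_normalizer (Subgroup.mem_top z))
      (Subgroup.mem_centralizer_singleton_iff.1 (hSC hx))
      (Subgroup.mem_centralizer_singleton_iff.1 (hSC hgx)) (Subgroup.mem_top g) rfl
    exact ⟨c, Subgroup.mem_centralizer_singleton_iff.2 hcz, hcx⟩
  have hinf := CfsgLib.Transfer.commutator_inf_eq_of_controlsFusion S hSC hcf
  rw [CfsgLib.Closed.pResidual_eq_top_iff S,
    CfsgLib.Closed.pResidual_eq_top_iff (S.subtype hSC), Sylow.coe_subtype]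
  have hm : (commutator C).map C.subtype = ⁅C, C⁆ := Subgroup.map_subtype_commutator C
  constructor
  · intro h x hx
    have h2 : (x : G) ∈ commutator G ⊓ (S : Subgroup G) := ⟨h hx, hx⟩
    rw [hinf, ← hm] at h2
    obtain ⟨⟨y, hy, e⟩, -⟩ := h2
    rwa [show y = x from Subtype.ext e] at hy
  · intro h x hx
    have h2 : x ∈ commutator G ⊓ (S : Subgroup G) := by
      rw [hinf, ← hm]
      exact ⟨⟨⟨x, hSC hx⟩, h (Subgroup.mem_subgroupOf.2 hx), rfl⟩, hx⟩
    exact h2.1

end Cfsg.Agent.S1183
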