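import Cfsg.Statements.S1185
import Cfsg.Agent.Isolated.Basic

-- import your own Cfsg.Agent.* helpers here

set_option autoImplicit false
open Cfsg

namespace Cfsg.Agent.S1185

/-- Let z be an isolated involution of the finite group G with centralizer C. Then for every g ∈ G there is exactly one element k in the coset gC that has odd order and is inverted by z. -/
theorem result {G : Type*} [Group G] [Finite G] (z : G) (hz : Cfsg.IsIsolatedInvolution z) (g : G) : ∃! k : G, (Odd (orderOf k) ∧ z * k * z⁻¹ = k⁻¹) ∧ g⁻¹ * k ∈ Subgroup.centralizer ({z} : Set G) := by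
  obtain ⟨k, -, h1, h2, h3⟩ :=
    CfsgLib.Isolated.exists_inverted hz (isConj_iff.2 ⟨g, rfl⟩ : IsConj z (g * z * g⁻¹))
  have key : ∀ l : G, g⁻¹ * l ∈ Subgroup.centralizer ({z} : Set G) ↔ l * z * l⁻¹ = g * z * g⁻¹ := by
    intro l
    rw [Subgroup.mem_centralizer_singleton_iff]
    constructor
    · intro hc
      calc l * z * l⁻¹ = g * ((g⁻¹ * l) * z) * l⁻¹ := by group
        _ = g * (z * (g⁻¹ * l)) * l⁻¹ := by rw [hc]
        _ = g * z * g⁻¹ := by group
    · intro he
      calc g⁻¹ * l * z = g⁻¹ * (l * z * l⁻¹) * l := by group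
        _ = z * (g⁻¹ * l) := by rw [he]; group
  refine ⟨k, ⟨⟨h1, h2⟩, (key k).2 h3⟩, ?_⟩
  rintro l ⟨hl, hlc⟩
  exact CfsgLib.Isolated.inverted_injective hl ⟨h1, h2⟩ (((key l).1 hlc).trans h3.symm)

end Cfsg.Agent.S1185
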