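import Cfsg.Statements.S1186
import Cfsg.Agent.Isolated.Basic

-- import your own Cfsg.Agent.* helpers here

set_option autoImplicit false
open Cfsg

namespace Cfsg.Agent.S1186

/-- Let z be an isolated involution of the finite group G, C = C_G(z), K the set of elements of odd order inverted by z, and s an involution of C. Then |G| = |C| · |C_K(sz)| · |C_K(s)|. -/
theorem result {G : Type*} [Group G] [Finite G] (z : G) (hz : Cfsg.IsIsolatedInvolution z) (s : G) (hs : orderOf s = 2) (hsz : Commute s z) : Nat.card G = Nat.card (Subgroup.centralizer ({z} : Set G)) * Nat.card {k : G // Odd (orderOf k) ∧ z * k * z⁻¹ = k⁻¹ ∧ Commute k (s * z)} * Nat.card {k : G // Odd (orderOf k) ∧ z * k * z⁻¹ = k⁻¹ ∧ Commute k s} := by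
  classical
  haveI : Fact (Nat.Prime 2) := ⟨Nat.prime_two⟩
  rw [← Nat.card_prod, ← Nat.card_prod]
  symm
  refine Nat.card_congr (Equiv.ofBijective (fun p => p.1.2.1 * p.2.1 * p.1.1.1) ⟨?_, ?_⟩)
  · rintro ⟨⟨⟨c, hc⟩, ⟨a, ha1, ha2, ha3⟩⟩, ⟨b, hb1, hb2, hb3⟩⟩
      ⟨⟨⟨c', hc'⟩, ⟨a', ha1', ha2', ha3'⟩⟩, ⟨b', hb1', hb2', hb3'⟩⟩ heq
    change a * b * c = a' * b' * c' at heq
    rw [Subgroup.mem_centralizer_singleton_iff] at hc hc'
    have hx : (a * b) * z * (a * b)⁻¹ = (a' * b') * z * (a' * b')⁻¹ := by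
      have e1 : ∀ d e : G, e * z = z * e → (d * e) * z * (d * e)⁻¹ = d * z * d⁻¹ := by
        intro d e he
        calc (d * e) * z * (d * e)⁻¹ = d * (e * z) * (e⁻¹ * d⁻¹) := by group
          _ = d * z * d⁻¹ := by rw [he]; group
      rw [← e1 (a * b) c hc, ← e1 (a' * b') c' hc', heq]
    have hzz := CfsgLib.Small.mul_self_of_orderOf_two hz.1
    have hss := CfsgLib.Small.mul_self_of_orderOf_two hs
    have hcomm : ∀ (d e : G), Commute e s →
        Commute (d * s * d⁻¹) ((d * e) * z * (d * e)⁻¹) := by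
      intro d e he
      have h1 : Commute s (e * z * e⁻¹) := (he.symm.mul_right hsz).mul_right he.symm.inv_right
      have h2 := h1.map (MulAut.conj d).toMonoidHom
      simp only [MulEquiv.coe_toMonoidHom, MulAut.conj_apply] at h2
      rw [mul_inv_rev]
      convert h2 using 1
      group
    have has : ∀ d : G, Commute d (s * z) → d * s * d⁻¹ = (d * z * d⁻¹) * (s * z) := by
      intro d hd
      have : s = z * (s * z) := by rw [hsz.eq, ← mul_assoc, hzz, one_mul]
      conv_lhs => rw [this]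
      rw [← mul_assoc d, mul_assoc _ (s * z), ← hd.inv_left.eq, ← mul_assoc]
    have hK := hcomm a b hb3
    have hK' := hcomm a' b' hb3'
    rw [← hx] at hK'
    have hprod : (a * s * a⁻¹) * (a' * s * a'⁻¹) = (a * z * a⁻¹) * (a' * z * a'⁻¹) := by
      rw [has a ha3, has a' ha3']
      have hw : Commute (s * z) (a' * z * a'⁻¹) :=
        (ha3'.symm.mul_right (((hsz.mul_left (Commute.refl z))))).mul_right ha3'.symm.inv_right
      calc a * z * a⁻¹ * (s * z) * (a' * z * a'⁻¹ * (s * z))
          = a * z * a⁻¹ * ((s * z) * (a' * z * a'⁻¹)) * (s * z) := by group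
        _ = a * z * a⁻¹ * (a' * z * a'⁻¹) * ((s * z) * (s * z)) := by rw [hw.eq]; group
        _ = a * z * a⁻¹ * (a' * z * a'⁻¹) := by
              rw [hsz.symm.mul_mul_mul_comm, hss, hzz, one_mul, mul_one]
    have haa : a = a' := by
      refine CfsgLib.Isolated.inverted_injective ⟨ha1, ha2⟩ ⟨ha1', ha2'⟩ ?_
      by_contra hne
      refine CfsgLib.Isolated.not_commute_mul hz (isConj_iff.2 ⟨a * b, rfl⟩)
        (isConj_iff.2 ⟨a, rfl⟩) (isConj_iff.2 ⟨a', rfl⟩) hne ?_
      rw [← hprod]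
      exact hK.mul_left hK'
    subst haa
    have hbb : b = b' := by
      refine CfsgLib.Isolated.inverted_injective ⟨hb1, hb2⟩ ⟨hb1', hb2'⟩ ?_
      calc b * z * b⁻¹ = a⁻¹ * ((a * b) * z * (a * b)⁻¹) * a := by group
        _ = b' * z * b'⁻¹ := by rw [hx]; group
    subst hbb
    have hcc : c = c' := mul_left_cancel heq
    subst hcc
    rfl
  · intro g
    have hzz := CfsgLib.Small.mul_self_of_orderOf_two hz.1
    set x := g * z * g⁻¹ with hxdef
    have hxz : IsConj z x := isConj_iff.2 ⟨g, rfl⟩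
    have hxord : orderOf x = 2 := by rw [hxdef, CfsgLib.Small.orderOf_conj_eq, hz.1]
    obtain ⟨a, ha1, ha2, ha3, hay⟩ : ∃ a, Odd (orderOf a) ∧ z * a * z⁻¹ = a⁻¹ ∧
        Commute a (s * z) ∧ Commute s (a⁻¹ * x * a) := by
      by_cases hsz1 : s * z = 1
      · obtain ⟨k, -, h1, h2, h3⟩ := CfsgLib.Isolated.exists_inverted hz hxz
        refine ⟨k, h1, h2, hsz1 ▸ Commute.one_right k, ?_⟩
        rw [← h3, show k⁻¹ * (k * z * k⁻¹) * k = z by group,
          eq_inv_of_mul_eq_one_left hsz1]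
        exact (Commute.refl z).inv_left
      have hword : orderOf (s * z) = 2 := by
        refine orderOf_eq_prime ?_ hsz1
        rw [hsz.mul_pow, sq, sq, hzz, CfsgLib.Small.mul_self_of_orderOf_two hs, one_mul]
      have hwz : Commute (s * z) z := hsz.mul_left (Commute.refl z)
      have hnconj : ¬ IsConj z (s * z) := fun h => by
        have := CfsgLib.Isolated.eq_of_commute_of_isConj hz (IsConj.refl z) h hwz.symm
        rw [mul_eq_right] at this
        rw [this, orderOf_one] at hs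
        omega
      have heven : Even (orderOf (s * z * x)) := by
        rw [← Nat.not_odd_iff_even]
        intro hodd
        obtain ⟨k, hk⟩ := CfsgLib.Small.conj_pow_eq_of_odd hword hxord hodd
        exact hnconj (hxz.trans (isConj_iff.2 ⟨_, hk⟩).symm)
      obtain ⟨hu, hcw, hcx⟩ := CfsgLib.Small.half_pow_spec hword hxord heven
      have hoddh : Odd (orderOf (s * z * x) / 2) := by
        have h2 : (s * z * x) ^ 2 = ((s * z) * x * (s * z)⁻¹) * x := by
          rw [CfsgLib.Small.inv_eq_self_of_orderOf_two hword, sq]; group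
        have h3 := CfsgLib.Isolated.odd_mul hz (hxz.trans (isConj_iff.2 ⟨s * z, rfl⟩)) hxz
        rwa [← h2, orderOf_pow' _ two_ne_zero, Nat.gcd_eq_right heven.two_dvd] at h3
      set u := (s * z * x) ^ (orderOf (s * z * x) / 2)
      have hy : IsConj z (s * z * u) := by
        rcases CfsgLib.Isolated.mul_pow_isConj hword hxord (orderOf (s * z * x) / 2) with
          ⟨he, -⟩ | ⟨-, h⟩
        · exact absurd hoddh (Nat.not_odd_iff_even.2 he)
        · exact hxz.trans h
      obtain ⟨a, ha1, ha2, ha3, ha4⟩ := CfsgLib.Isolated.exists_inverted_commute hz hy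
        ((Commute.refl (s * z)).mul_right hcw.symm) hwz
      refine ⟨a, ha1, ha2, ha3, ?_⟩
      have hasu : a * s * a⁻¹ = u := by
        have hs' : s = (s * z) * z := by rw [mul_assoc, hzz, mul_one]
        calc a * s * a⁻¹ = a * ((s * z) * z) * a⁻¹ := by rw [← hs']
          _ = (a * (s * z)) * z * a⁻¹ := by group
          _ = (s * z) * (a * z * a⁻¹) := by rw [ha3.eq]; group
          _ = u := by
            rw [ha4, ← mul_assoc, CfsgLib.Small.mul_self_of_orderOf_two hword, one_mul]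
      have h := (hasu.symm ▸ hcx).map (MulAut.conj a⁻¹).toMonoidHom
      simp only [MulEquiv.coe_toMonoidHom, MulAut.conj_apply, inv_inv] at h
      rwa [show a⁻¹ * (a * s * a⁻¹) * a = s by group] at h
    obtain ⟨b, hb1, hb2, hb3, hb4⟩ := CfsgLib.Isolated.exists_inverted_commute hz
      (hxz.trans (isConj_iff.2 ⟨a⁻¹, by rw [inv_inv]⟩) : IsConj z (a⁻¹ * x * a)) hay hsz
    refine ⟨⟨⟨⟨(a * b)⁻¹ * g, Subgroup.mem_centralizer_singleton_iff.2 ?_⟩,
      ⟨a, ha1, ha2, ha3⟩⟩, ⟨b, hb1, hb2, hb3⟩⟩, ?_⟩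
    · have : (a * b) * z * (a * b)⁻¹ = x := by
        calc (a * b) * z * (a * b)⁻¹ = a * (b * z * b⁻¹) * a⁻¹ := by group
          _ = x := by rw [hb4]; group
      calc (a * b)⁻¹ * g * z = (a * b)⁻¹ * x * g := by rw [hxdef]; group
        _ = z * ((a * b)⁻¹ * g) := by rw [← this]; group
    · show a * b * ((a * b)⁻¹ * g) = g
      group

end Cfsg.Agent.S1186
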