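import Cfsg.Statements.S1189
import Cfsg.Agent.TwoGroups.SemidihedralSubgroups

-- import your own Cfsg.Agent.* helpers here

set_option autoImplicit false
open Cfsg

namespace Cfsg.Agent.S1189

/-- A quasi-dihedral 2-group has exactly two conjugacy classes of elements of order 2 and exactly two conjugacy classes of elements of order 4. -/
theorem result {S : Type*} [Group S] [Finite S] (hS : Cfsg.IsQuasiDihedral S) : Nat.card {C : ConjClasses S // ∃ t : S, orderOf t = 2 ∧ ConjClasses.mk t = C} = 2 ∧ Nat.card {C : ConjClasses S // ∃ t : S, orderOf t = 4 ∧ ConjClasses.mk t = C} = 2 := by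
  obtain ⟨m, x, y, d⟩ := CfsgLib.TwoGroups.exists_sdPair hS
  refine ⟨CfsgLib.TwoGroups.card_classes_two d.orderOf_z (d.orderOf_zpow_y_even (i := 0) ⟨0, rfl⟩)
    ?_ ?_, CfsgLib.TwoGroups.card_classes_two
    (d.orderOf_eq_four_iff.2 (Or.inl rfl)) (d.orderOf_zpow_y_odd (i := 1) (by omega)) ?_ ?_⟩
  · intro h
    obtain ⟨g, hg⟩ := isConj_iff.1 h
    rw [Subgroup.mem_center_iff.1 d.z_mem_center g, mul_inv_cancel_right] at hg
    exact d.zpow_y_ne_zpow 0 _ hg.symm
  · intro t ht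
    rcases d.orderOf_eq_two_iff.1 ht with rfl | ⟨i, hi, rfl⟩
    · exact Or.inl (IsConj.refl _)
    · obtain ⟨j, hj⟩ := d.exists_conj (i := i) (i' := 0) (by simpa using hi)
      exact Or.inr (isConj_iff.2 ⟨_, hj⟩)
  · intro h
    obtain ⟨g, hg⟩ := isConj_iff.1 h
    have := (Subgroup.normal_of_index_eq_two d.index_zpowers).conj_mem _
      (Subgroup.zpow_mem_zpowers x (CfsgLib.TwoGroups.qq m)) g
    rw [hg] at this
    exact d.zpow_y_notMem 1 this
  · intro t ht
    rcases d.orderOf_eq_four_iff.1 ht with rfl | rfl | ⟨i, hi, rfl⟩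
    · exact Or.inl (IsConj.refl _)
    · refine Or.inl (isConj_iff.2 ⟨y, ?_⟩)
      rw [d.conj_zpow_qq y d.y_notMem |> fun h => show y * x ^ (-CfsgLib.TwoGroups.qq m) * y⁻¹ =
        x ^ CfsgLib.TwoGroups.qq m by
          rw [zpow_neg, ← conj_inv, h, ← zpow_neg, neg_neg]]
    · obtain ⟨j, hj⟩ := d.exists_conj (i := i) (i' := 1) (by omega)
      exact Or.inr (isConj_iff.2 ⟨_, hj⟩)

end Cfsg.Agent.S1189
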