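import Cfsg.Statements.S1190
import Cfsg.Agent.TwoGroups.SemidihedralSubgroups

-- import your own Cfsg.Agent.* helpers here

set_option autoImplicit false
open Cfsg

namespace Cfsg.Agent.S1190

/-- In a quasi-dihedral 2-group S, any two Klein four-subgroups are conjugate, and every Klein four-subgroup T satisfies C_S(T) = T and |N_S(T) : T| = 2. -/
theorem result {S : Type*} [Group S] [Finite S] (hS : Cfsg.IsQuasiDihedral S) : (∀ T₁ T₂ : Subgroup S, IsKleinFour T₁ → IsKleinFour T₂ → ∃ s : S, T₁.map (MulAut.conj s).toMonoidHom = T₂) ∧ (∀ T : Subgroup S, IsKleinFour T → Subgroup.centralizer (T : Set S) = T ∧ T.relIndex (Subgroup.normalizer (T : Set S)) = 2) := by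
  obtain ⟨m, x, y, d⟩ := CfsgLib.TwoGroups.exists_sdPair hS
  exact ⟨fun T₁ T₂ h₁ h₂ => d.exists_conj_kleinFour h₁ h₂,
    fun T hT => ⟨d.centralizer_kleinFour hT, d.relIndex_kleinFour hT⟩⟩

end Cfsg.Agent.S1190
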