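import Cfsg.Statements.S1192
import Cfsg.Agent.TwoGroups.SemidihedralSubgroups

-- import your own Cfsg.Agent.* helpers here

set_option autoImplicit false
open Cfsg

namespace Cfsg.Agent.S1192

/-- A quasi-dihedral group S of order 2^(n+1) has exactly three maximal subgroups; one is cyclic, one is isomorphic to the generalized quaternion group of order 2^n and one to the dihedral group of order 2^n. -/
theorem result {S : Type*} [Group S] [Finite S] (hS : Cfsg.IsQuasiDihedral S) (n : ℕ) (hn : Nat.card S = 2 ^ (n + 1)) : ∃ M₁ M₂ M₃ : Subgroup S, IsCoatom M₁ ∧ IsCoatom M₂ ∧ IsCoatom M₃ ∧ M₁ ≠ M₂ ∧ M₁ ≠ M₃ ∧ M₂ ≠ M₃ ∧ (∀ M : Subgroup S, IsCoatom M → M = M₁ ∨ M = M₂ ∨ M = M₃) ∧ IsCyclic M₁ ∧ Nonempty (M₂ ≃* QuaternionGroup (2 ^ (n - 2))) ∧ Nonempty (M₃ ≃* DihedralGroup (2 ^ (n - 1))) := by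
  obtain ⟨m, x, y, d⟩ := CfsgLib.TwoGroups.exists_sdPair hS
  obtain rfl : m = n := by
    have := d.card.symm.trans hn
    have := Nat.pow_right_injective le_rfl this
    omega
  refine ⟨Subgroup.zpowers x, d.maxSub 1, d.maxSub 0, d.isCoatom_of_index_two d.index_zpowers,
    d.isCoatom_of_index_two (d.index_maxSub 1), d.isCoatom_of_index_two (d.index_maxSub 0),
    ?_, ?_, ?_, fun M hM => d.eq_maxSub_of_isCoatom hM, inferInstance,
    d.nonempty_equiv_maxSub_one, d.nonempty_equiv_maxSub_zero⟩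
  · intro e
    exact d.zpow_y_notMem 1 (e ▸ d.zpow_y_mem_maxSub.2 (by simp))
  · intro e
    exact d.zpow_y_notMem 0 (e ▸ d.zpow_y_mem_maxSub.2 (by simp))
  · intro e
    have h : x ^ (1 : ℤ) * y ∈ d.maxSub 1 := d.zpow_y_mem_maxSub.2 (by simp)
    rw [e, d.zpow_y_mem_maxSub] at h
    omega

end Cfsg.Agent.S1192
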