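import Cfsg.Statements.S1193
import Cfsg.Agent.TwoGroups.SemidihedralSubgroups

-- import your own Cfsg.Agent.* helpers here

set_option autoImplicit false
open Cfsg

namespace Cfsg.Agent.S1193

/-- Let S be quasi-dihedral of order 2^(n+1). Then S' = Φ(S) is cyclic of order 2^(n-1), the centre of S has order 2, and the subgroup generated by the involutions of S is dihedral of order 2^n. -/
theorem result {S : Type*} [Group S] [Finite S] (hS : Cfsg.IsQuasiDihedral S) (n : ℕ) (hn : Nat.card S = 2 ^ (n + 1)) : commutator S = frattini S ∧ IsCyclic (commutator S) ∧ Nat.card (commutator S) = 2 ^ (n - 1) ∧ Nat.card (Subgroup.center S) = 2 ∧ Nonempty (↥(Subgroup.closure {x : S | orderOf x = 2}) ≃* DihedralGroup (2 ^ (n - 1))) := by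
  obtain ⟨m, x, y, d⟩ := CfsgLib.TwoGroups.exists_sdPair hS
  obtain rfl : m = n := by
    have := d.card.symm.trans hn
    have := Nat.pow_right_injective le_rfl this
    omega
  haveI := d.finite
  refine ⟨d.commutator_eq.trans d.frattini_eq.symm, ?_, ?_, ?_, ?_⟩
  · rw [d.commutator_eq]; infer_instance
  · rw [d.commutator_eq, Nat.card_zpowers, d.orderOf_sq]
  · rw [d.center_eq, Nat.card_zpowers, d.orderOf_z]
  · rw [d.closure_invol]; exact d.nonempty_equiv_maxSub_zero

end Cfsg.Agent.S1193
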