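import Cfsg.Statements.S1195
import Cfsg.Agent.TwoGroups.WreathedSubgroups

-- import your own Cfsg.Agent.* helpers here

set_option autoImplicit false
open Cfsg

namespace Cfsg.Agent.S1195

/-- A wreathed 2-group has exactly three conjugacy classes of elements of order 2. -/
theorem result {S : Type*} [Group S] [Finite S] (hS : Cfsg.IsWreathed S) : Nat.card {C : ConjClasses S // ∃ t : S, orderOf t = 2 ∧ ConjClasses.mk t = C} = 3 := by
  obtain ⟨m, x, y, z, d⟩ := CfsgLib.TwoGroups.exists_wrTriple hS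
  open CfsgLib.TwoGroups in
  have hinv : ∀ g : S, g * g = 1 → g ≠ 1 → orderOf g = 2 := fun g h1 h2 =>
    orderOf_eq_prime (by rw [sq, h1]) h2
  open CfsgLib.TwoGroups in
  refine card_classes_three
    (hinv (el x y (hw m) (hw m)) (d.el_sq_eq_one.2 ⟨dvd_rfl, dvd_rfl⟩) (d.el_hw_ne_one_left _))
    (hinv (el x y (hw m) 0) (d.el_sq_eq_one.2 ⟨dvd_rfl, dvd_zero _⟩) (d.el_hw_ne_one_left _))
    (hinv (el x y 0 0 * z) (d.elz_sq_eq_one.2 (by simp))
      fun h => d.elz_notMem_base 0 0 (h ▸ one_mem _)) ?_ ?_ ?_ ?_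
  · intro h
    obtain ⟨g, hg⟩ := isConj_iff.1 h
    open CfsgLib.TwoGroups in
    have hc : el x y (hw m) (hw m) ∈ Subgroup.center S := d.mem_center_iff.2 ⟨_, _, rfl, by simp⟩
    rw [Subgroup.mem_center_iff.1 hc g, mul_inv_cancel_right, d.el_inj] at hg
    exact d.not_nn_dvd_hw (by rw [← dvd_neg]; simpa using hg.2)
  · intro h
    obtain ⟨g, hg⟩ := isConj_iff.1 h
    have := (Subgroup.normal_of_index_eq_two d.index_base).conj_mem _
      (d.el_mem_base (CfsgLib.TwoGroups.hw m) (CfsgLib.TwoGroups.hw m)) g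
    rw [hg] at this
    exact d.elz_notMem_base 0 0 this
  · intro h
    obtain ⟨g, hg⟩ := isConj_iff.1 h
    have := (Subgroup.normal_of_index_eq_two d.index_base).conj_mem _
      (d.el_mem_base (CfsgLib.TwoGroups.hw m) 0) g
    rw [hg] at this
    exact d.elz_notMem_base 0 0 this
  · intro t ht
    have ht2 : t * t = 1 := by rw [← sq, ← ht, pow_orderOf_eq_one]
    have ht1 : t ≠ 1 := fun h => by rw [h, orderOf_one] at ht; omega
    obtain ⟨a, b, rfl | rfl⟩ := d.eq_cases t
    · rcases d.el_invol ht2 with e | e | e | e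
      · exact absurd e ht1
      · exact Or.inr (Or.inl (e ▸ IsConj.refl _))
      · exact Or.inr (Or.inl (isConj_iff.2 ⟨z, by rw [e, d.conj_z_el]⟩))
      · exact Or.inl (e ▸ IsConj.refl _)
    · obtain ⟨u, hu⟩ := d.exists_conj_elz (a := a) (b := b) (c := 0) (e := 0)
        (by simpa using d.elz_sq_eq_one.1 ht2)
      exact Or.inr (Or.inr (isConj_iff.2 ⟨_, hu⟩))

end Cfsg.Agent.S1195
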