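import Cfsg.Statements.S1196
import Cfsg.Agent.TwoGroups.WreathedSubgroups

-- import your own Cfsg.Agent.* helpers here

set_option autoImplicit false
open Cfsg

namespace Cfsg.Agent.S1196

/-- A wreathed 2-group S of order 2^(2n+1) has a unique commutative subgroup of order 2^(2n), and this subgroup is isomorphic to the direct product of two cyclic groups of order 2^n. -/
theorem result {S : Type*} [Group S] [Finite S] (hS : Cfsg.IsWreathed S) (n : ℕ) (hn : Nat.card S = 2 ^ (2 * n + 1)) : (∃! U : Subgroup S, IsMulCommutative U ∧ Nat.card U = 2 ^ (2 * n)) ∧ ∀ U : Subgroup S, IsMulCommutative U → Nat.card U = 2 ^ (2 * n) → Nonempty (U ≃* Multiplicative (ZMod (2 ^ n) × ZMod (2 ^ n))) := by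
  obtain ⟨m, x, y, z, d⟩ := CfsgLib.TwoGroups.exists_wrTriple hS
  obtain rfl : m = n := by
    have := d.card.symm.trans hn
    have := Nat.pow_right_injective le_rfl this
    omega
  refine ⟨⟨d.base, ⟨⟨⟨fun u v => Subtype.ext ?_⟩⟩, d.card_base⟩,
    fun U hU => d.eq_base_of_isMulCommutative hU.1 hU.2⟩, fun U h1 h2 => ?_⟩
  · obtain ⟨a, b, ha⟩ := d.mem_base.1 u.2
    obtain ⟨c, e, hc⟩ := d.mem_base.1 v.2
    show (u : S) * v = v * u
    rw [ha, hc]
    exact (d.commute_el_el _ _ _ _).eq
  · rw [d.eq_base_of_isMulCommutative h1 h2]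
    exact ⟨d.baseEquiv⟩

end Cfsg.Agent.S1196
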