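import Cfsg.Statements.S1198
import Cfsg.Agent.TwoGroups.WreathedSubgroups

-- import your own Cfsg.Agent.* helpers here

set_option autoImplicit false
open Cfsg

namespace Cfsg.Agent.S1198

/-- A wreathed 2-group S has a normal Klein four-subgroup T such that every Klein four-subgroup of S other than T is conjugate in S to any other such subgroup; in particular S has exactly two conjugacy classes of Klein four-subgroups. -/
theorem result {S : Type*} [Group S] [Finite S] (hS : Cfsg.IsWreathed S) : ∃ T : Subgroup S, IsKleinFour T ∧ T.Normal ∧ (∃ T₀ : Subgroup S, IsKleinFour T₀ ∧ T₀ ≠ T) ∧ ∀ T₁ T₂ : Subgroup S, IsKleinFour T₁ → IsKleinFour T₂ → T₁ ≠ T → T₂ ≠ T → ∃ s : S, T₁.map (MulAut.conj s).toMonoidHom = T₂ := by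
  obtain ⟨m, x, y, z, d⟩ := CfsgLib.TwoGroups.exists_wrTriple hS
  obtain ⟨T, hT, hTn, ha, hb, hmem⟩ := d.exists_baseFour
  open CfsgLib.TwoGroups in
  have hz1 : el x y 0 0 * z ≠ 1 := fun h => d.elz_notMem_base 0 0 (h ▸ one_mem _)
  open CfsgLib.TwoGroups in
  have hne : el x y (hw m) (hw m) ≠ el x y 0 0 * z := fun h =>
    d.elz_notMem_base 0 0 (h ▸ d.el_mem_base _ _)
  open CfsgLib.TwoGroups in
  obtain ⟨T₀, hT₀, hc0, hz0⟩ := exists_kleinFour (a := el x y (hw m) (hw m))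
    (b := el x y 0 0 * z) (d.el_sq_eq_one.2 ⟨dvd_rfl, dvd_rfl⟩) (d.elz_sq_eq_one.2 (by simp))
    (d.commute_el_elz.2 (by simp)).eq (d.el_hw_ne_one_left _) hz1 hne
  have hTbase : ∀ t ∈ T, t ∈ d.base := by
    intro t ht
    rcases (hmem t).1 ht with rfl | rfl | rfl | rfl <;>
      first | exact one_mem _ | exact d.el_mem_base _ _
  refine ⟨T, hT, hTn, ⟨T₀, hT₀, fun e => d.elz_notMem_base 0 0 (hTbase _ (e ▸ hz0))⟩, ?_⟩
  intro T₁ T₂ h₁ h₂ hn₁ hn₂
  have hout : ∀ R : Subgroup S, IsKleinFour R → R ≠ T → ∃ g ∈ R, g ∉ d.base := by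
    intro R hR hRT
    by_contra hcon
    push Not at hcon
    refine hRT (Subgroup.eq_of_le_of_card_ge (fun r hr => ?_) (by rw [hR.card_four, hT.card_four]))
    obtain ⟨a, b, rfl⟩ := d.mem_base.1 (hcon r hr)
    rw [hmem]
    exact d.el_invol ((CfsgLib.TwoGroups.isKleinFour_iff.1 hR).2 _ hr)
  obtain ⟨hc1, a, ht1⟩ := d.otherFour_structure h₁ (hout T₁ h₁ hn₁)
  obtain ⟨hc2, b, ht2⟩ := d.otherFour_structure h₂ (hout T₂ h₂ hn₂)
  open CfsgLib.TwoGroups in
  obtain ⟨u, hu⟩ := d.exists_conj_elz (a := a) (b := -a) (c := b) (e := -b) (by simp)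
  open CfsgLib.TwoGroups in
  refine ⟨el x y u 0, ?_⟩
  haveI := d.finite
  refine Subgroup.eq_of_le_of_card_ge ?_
    (by rw [Subgroup.card_map_of_injective (MulAut.conj _).injective, h₁.card_four, h₂.card_four])
  rintro _ ⟨t, ht, rfl⟩
  open CfsgLib.TwoGroups in
  show el x y u 0 * t * (el x y u 0)⁻¹ ∈ T₂
  open CfsgLib.TwoGroups in
  have hm := (klein_mem_iff h₁ hc1 ht1 (d.el_hw_ne_one_left _)
    (fun h => d.elz_notMem_base a (-a) (h ▸ one_mem _))
    (fun h => d.elz_notMem_base a (-a) (h ▸ d.el_mem_base _ _)) t).1 ht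
  rcases hm with rfl | rfl | rfl | rfl
  · simp
  · rw [d.conj_el_el]; exact hc2
  · rw [hu]; exact ht2
  · open CfsgLib.TwoGroups in
    rw [show el x y u 0 * (el x y (hw m) (hw m) * (el x y a (-a) * z)) * (el x y u 0)⁻¹ =
      (el x y u 0 * el x y (hw m) (hw m) * (el x y u 0)⁻¹) *
      (el x y u 0 * (el x y a (-a) * z) * (el x y u 0)⁻¹) by group, d.conj_el_el, hu]
    exact mul_mem hc2 ht2

end Cfsg.Agent.S1198
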