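import Cfsg.Statements.S1199
import Cfsg.Agent.TwoGroups.WreathedSubgroups

-- import your own Cfsg.Agent.* helpers here

set_option autoImplicit false
open Cfsg

namespace Cfsg.Agent.S1199

/-- A wreathed 2-group S of order 2^(2n+1) has exactly one subgroup of order 2^(n+1) isomorphic to a generalized quaternion group, and that subgroup is normal in S. -/
theorem result {S : Type*} [Group S] [Finite S] (hS : Cfsg.IsWreathed S) (n : ℕ) (hn : Nat.card S = 2 ^ (2 * n + 1)) : (∃! Y : Subgroup S, Nat.card Y = 2 ^ (n + 1) ∧ Nonempty (Y ≃* QuaternionGroup (2 ^ (n - 1)))) ∧ ∀ Y : Subgroup S, Nat.card Y = 2 ^ (n + 1) → Nonempty (Y ≃* QuaternionGroup (2 ^ (n - 1))) → Y.Normal := by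
  obtain ⟨m, x, y, z, d⟩ := CfsgLib.TwoGroups.exists_wrTriple hS
  obtain rfl : m = n := by
    have := d.card.symm.trans hn
    have := Nat.pow_right_injective le_rfl this
    omega
  refine ⟨⟨d.quatSub, ⟨d.card_quatSub, d.nonempty_equiv_quatSub⟩,
    fun Y hY => hY.2.elim fun e => d.eq_quatSub hY.1 e⟩, fun Y h1 h2 => ?_⟩
  obtain ⟨e⟩ := h2
  rw [d.eq_quatSub h1 e]
  exact d.quatSub_normal

end Cfsg.Agent.S1199
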