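import Cfsg.Statements.S1210
import Cfsg.Agent.TwoGroups.WRFusion

-- import your own Cfsg.Agent.* helpers here

set_option autoImplicit false
open Cfsg

namespace Cfsg.Agent.S1210

/-- Let G be a finite group whose Sylow 2-subgroup S is wreathed of order 2^(2n+1), U the commutative subgroup of index 2 in S, Q a quaternion subgroup of order 8 of S and V = Q Z(S). If |N_G(U) : C_G(U)| = 2 and |N_G(V) : V C_G(V)| = 6, then G has a normal subgroup K of index 2^n whose Sylow 2-subgroups are generalized quaternion and which has no subgroup of index 2; every subgroup of Z(S) is weakly closed in S; and G has exactly two classes of involutions. -/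
theorem result {G : Type*} [Group G] [Finite G] (S : Sylow 2 G) (hS : Cfsg.IsWreathed (S : Subgroup G)) (n : ℕ) (hn : Nat.card S = 2 ^ (2 * n + 1)) (U : Subgroup G) (hUS : U ≤ S) (hUab : IsMulCommutative U) (hUcard : Nat.card U = 2 ^ (2 * n)) (Q : Subgroup G) (hQS : Q ≤ S) (eQ : Q ≃* QuaternionGroup 2) (h₁ : (Subgroup.centralizer (U : Set G)).relIndex (Subgroup.normalizer (U : Set G)) = 2) (h₂ : ((Q ⊔ ((Subgroup.center (S : Subgroup G)).map (S : Subgroup G).subtype)) ⊔ Subgroup.centralizer ((Q ⊔ ((Subgroup.center (S : Subgroup G)).map (S : Subgroup G).subtype) : Subgroup G) : Set G)).relIndex (Subgroup.normalizer ((Q ⊔ ((Subgroup.center (S : Subgroup G)).map (S : Subgroup G).subtype) : Subgroup G) : Set G)) = 6) : (∃ K : Subgroup G, K.Normal ∧ K.index = 2 ^ n ∧ (∀ P : Sylow 2 ↥K, ∃ m : ℕ, 1 ≤ m ∧ Nonempty ((P : Subgroup ↥K) ≃* QuaternionGroup (2 ^ m))) ∧ (∀ H : Subgroup ↥K, H.index ≠ 2)) ∧ (∀ Z₀ : Subgroup G, Z₀ ≤ ((Subgroup.center (S : Subgroup G)).map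 (S : Subgroup G).subtype) → Cfsg.IsWeaklyClosed Z₀ (S : Subgroup G)) ∧ Nat.card {C : ConjClasses G // ∃ t : G, orderOf t = 2 ∧ ConjClasses.mk t = C} = 2 := by
  obtain ⟨m, x, y, z, d⟩ := CfsgLib.TwoGroups.exists_wrTriple hS
  obtain rfl : m = n := by
    have := d.card.symm.trans hn
    have := Nat.pow_right_injective le_rfl this
    omega
  obtain rfl := d.baseG_eq S hUS hUab hUcard
  obtain ⟨s, -, hV⟩ := d.sup_center_eq S hQS eQ
  have hU' : ∀ g ∈ Subgroup.normalizer (d.baseG S : Set G), Odd (orderOf g) →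
      g ∈ Subgroup.centralizer (d.baseG S : Set G) :=
    fun g hg hgo => CfsgLib.TwoGroups.mem_of_relIndex_two_of_odd h₁ hg hgo
  obtain ⟨g, hgN, hg, hgC⟩ := d.autG_of_six S hV h₂
  refine ⟨d.exists_index_pow_quaternion S hU' hgN hg hgC, fun Z₀ hZ₀ => ⟨fun v hv => ?_, ?_⟩,
    d.invol_classes_two_center S hU' (d.isConj_a_z S hgN hg hgC)⟩
  · exact Subgroup.map_subtype_le _ (hZ₀ hv)
  · intro u hu
    have hfix : ∀ v ∈ Z₀, u * v * u⁻¹ = v := fun v hv =>
      d.center_fusion S hU' (hZ₀ hv) u (hu ⟨v, hv, rfl⟩)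
    ext v
    constructor
    · rintro ⟨w, hw, rfl⟩
      show u * w * u⁻¹ ∈ Z₀
      rw [hfix w hw]; exact hw
    · exact fun hv => ⟨v, hv, hfix v hv⟩

end Cfsg.Agent.S1210
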