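import Cfsg.Statements.S1215
import Cfsg.Agent.TwoGroups.CenterFusion
import Cfsg.Agent.TwoGroups.SemidihedralSubgroups

-- import your own Cfsg.Agent.* helpers here

set_option autoImplicit false
open Cfsg

namespace Cfsg.Agent.S1215

/-- Let H be a finite group with quasi-dihedral or wreathed Sylow 2-subgroup S such that H has a normal subgroup K of index a power of 2 with no subgroup of index 2 and with generalized quaternion Sylow 2-subgroups, and such that every subgroup of Z(S) is weakly closed in S with respect to H. Then H = O(H) C_H(Z(S)): every element of H is the product of an element of the largest normal odd-order subgroup and an element centralizing Z(S). -/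
theorem result {H : Type*} [Group H] [Finite H] (S : Sylow 2 H) (hS : Cfsg.IsQuasiDihedral (S : Subgroup H) ∨ Cfsg.IsWreathed (S : Subgroup H)) (hQ : (∃ K : Subgroup H, K.Normal ∧ (∃ a : ℕ, K.index = 2 ^ a) ∧ (∀ M : Subgroup ↥K, M.index ≠ 2) ∧ (∀ P : Sylow 2 ↥K, ∃ m : ℕ, 1 ≤ m ∧ Nonempty ((P : Subgroup ↥K) ≃* QuaternionGroup (2 ^ m)))) ∧ (∀ Z₀ : Subgroup H, Z₀ ≤ ((Subgroup.center (S : Subgroup H)).map (S : Subgroup H).subtype) → Cfsg.IsWeaklyClosed Z₀ (S : Subgroup H))) (h : H) : ∃ o ∈ Cfsg.oddCore H, ∃ c ∈ Subgroup.centralizer (((Subgroup.center (S : Subgroup H)).map (S : Subgroup H).subtype : Subgroup H) : Set H), h = o * c := by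
  open Subgroup CfsgLib.TwoGroups in
  haveI : Fact (Nat.Prime 2) := ⟨Nat.prime_two⟩
  set Zi := (Subgroup.center (S : Subgroup H)).map (S : Subgroup H).subtype with hZi
  obtain ⟨c', hc'⟩ : ∃ c' : (S : Subgroup H), Subgroup.center (S : Subgroup H) = zpowers c' := by
    rcases hS with hS | hS
    · obtain ⟨n, x, y, d⟩ := exists_sdPair hS
      exact ⟨_, d.center_eq⟩
    · obtain ⟨n, x, y, z, d⟩ := exists_wrTriple hS
      exact ⟨_, d.center_eq⟩
  have hZc : Zi = zpowers (c' : H) := by rw [hZi, hc', MonoidHom.map_zpowers]; rfl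
  have hcS : (c' : H) ∈ (S : Subgroup H) := c'.2
  have hcc : ∀ s ∈ (S : Subgroup H), s * (c' : H) = c' * s := fun s hs =>
    congrArg Subtype.val (mem_center_iff.1 (hc' ▸ mem_zpowers c' :
      c' ∈ Subgroup.center (S : Subgroup H)) ⟨s, hs⟩)
  obtain ⟨k, hk⟩ := S.2 c'
  have hfix : ∀ (j : ℕ) (g : H), g * (c' : H) ^ j * g⁻¹ ∈ (S : Subgroup H) →
      g * (c' : H) ^ j * g⁻¹ = (c' : H) ^ j := fun j g hg =>
    conj_eq_of_weaklyClosed S (pow_mem hcS j)
      (fun s hs => ((show Commute s (c' : H) from hcc s hs).pow_right j).eq)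
      (hQ.2 _ (zpowers_le.2 (hZc ▸ pow_mem (mem_zpowers _) j))) g hg
  obtain ⟨o, ho, u, hu, e⟩ := exists_oddCore_mul_centralizer S hcS
    (comm_mem_oddCore_of_fixed k H S (c' : H) hcS hcc
      (congrArg Subtype.val hk) hfix) h
  exact ⟨o, ho, u, hZc.symm ▸ hu, e⟩

end Cfsg.Agent.S1215
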