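import Cfsg.Statements.S1225
import Cfsg.Agent.SEmbed.Cosets

-- import your own Cfsg.Agent.* helpers here

set_option autoImplicit false
open Cfsg

namespace Cfsg.Agent.S1225

/-- Let H be a strongly embedded subgroup of the finite group G, u an involution outside H and D = H ∩ uHu⁻¹. Then any two involutions of H are conjugate by an element of D, and any two involutions of G are conjugate in G. -/
theorem result {G : Type*} [Group G] [Finite G] (H : Subgroup G) (hH : Cfsg.IsStronglyEmbedded H) (u : G) (hu : orderOf u = 2) (huH : u ∉ H) (s t : G) (hs : orderOf s = 2) (hsH : s ∈ H) (ht : orderOf t = 2) (htH : t ∈ H) : (∃ d ∈ (H ⊓ H.map (MulAut.conj u).toMonoidHom), d * s * d⁻¹ = t) ∧ ∀ a b : G, orderOf a = 2 → orderOf b = 2 → IsConj a b := by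
  have h := CfsgLib.SEmbed.uniqueFix hH
  haveI := CfsgLib.SEmbed.nontrivial_cosets hH
  refine ⟨?_, fun a b ha hb => CfsgLib.SEmbed.isConj_invol h ha hb⟩
  have hne : ((1 : G) : G ⧸ H) ≠ (u : G ⧸ H) := fun he => huH (by simpa using QuotientGroup.eq.1 he)
  have := CfsgLib.SEmbed.exists_conj_fix h hne (s := s) (t := t)
    ⟨hs, (CfsgLib.SEmbed.smul_one_eq_iff H s).2 hsH⟩ ⟨ht, (CfsgLib.SEmbed.smul_one_eq_iff H t).2 htH⟩
  rwa [CfsgLib.SEmbed.pairStab_one] at this

end Cfsg.Agent.S1225
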