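import Cfsg.Statements.S1227
import Cfsg.Agent.SEmbed.Abelian

-- import your own Cfsg.Agent.* helpers here

set_option autoImplicit false
open Cfsg

namespace Cfsg.Agent.S1227

/-- Let G be a finite group with a Sylow 2-subgroup T that is neither cyclic nor normal, such that the centralizer of every involution is an elementary abelian 2-group; put H = N_G(T), let u be an involution outside H and D = H ∩ uHu⁻¹. Then u inverts every element of D, |H| = |T|·(|T| − 1), and D is a complement to T in H. -/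
theorem result {G : Type*} [Group G] [Finite G] (T : Sylow 2 G) (hnc : ¬ IsCyclic (T : Subgroup G)) (hnn : ¬ (T : Subgroup G).Normal) (hC : ∀ t : G, orderOf t = 2 → IsMulCommutative (Subgroup.centralizer ({t} : Set G)) ∧ ∀ c ∈ Subgroup.centralizer ({t} : Set G), c ^ 2 = 1) (u : G) (hu : orderOf u = 2) (huH : u ∉ Subgroup.normalizer ((T : Subgroup G) : Set G)) : (∀ d ∈ Subgroup.normalizer ((T : Subgroup G) : Set G) ⊓ (Subgroup.normalizer ((T : Subgroup G) : Set G)).map (MulAut.conj u).toMonoidHom, u * d * u⁻¹ = d⁻¹) ∧ Nat.card (Subgroup.normalizer ((T : Subgroup G) : Set G)) = Nat.card T * (Nat.card T - 1) ∧ Subgroup.IsComplement' ((Subgroup.normalizer ((T : Subgroup G) : Set G) ⊓ (Subgroup.normalizer ((T : Subgroup G) : Set G)).map (MulAut.conj u).toMonoidHom).subgroupOf (Subgroup.normalizer ((T : Subgroup G) : Set G))) ((T : Subgroup G).subgroupOf (Subgroup.normalizer ((T : Subgroup G) : Set G))) := by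
  have h : CfsgLib.SEmbed.ElemCentralizers T := ⟨hnc, hnn, hC⟩
  set H := Subgroup.normalizer ((T : Subgroup G) : Set G)
  have hne : CfsgLib.SEmbed.base T ≠ (u : G ⧸ H) := fun e =>
    huH ((CfsgLib.SEmbed.mem_normalizer_iff_smul u).2 e.symm)
  rw [← CfsgLib.SEmbed.pairStab_one]
  set D := CfsgLib.SEmbed.pairStab G (CfsgLib.SEmbed.base T) (u : G ⧸ H) with hD
  have hDH : D ≤ H := fun d hd => CfsgLib.SEmbed.mem_normalizer_of_mem_pairStab hd
  have hTH : (T : Subgroup G) ≤ H := Subgroup.le_normalizer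
  have hcompl : Subgroup.IsComplement' (D.subgroupOf H) ((T : Subgroup G).subgroupOf H) := by
    refine Subgroup.isComplement'_of_disjoint_and_mul_eq_univ ?_ ?_
    · rw [disjoint_iff, eq_bot_iff]
      rintro x ⟨hxD, hxT⟩
      exact Subgroup.mem_bot.2 (Subtype.ext (CfsgLib.SEmbed.inf_eq_one h hne hxD hxT))
    · refine Set.eq_univ_iff_forall.2 fun x => ?_
      obtain ⟨t, ht, d, hd, e⟩ := CfsgLib.SEmbed.exists_decomp h hne x.2
      have hdt : d⁻¹ * t * d ∈ (T : Subgroup G) :=
        (Subgroup.mem_normalizer_iff''.1 (hDH hd) t).1 ht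
      exact ⟨⟨d, hDH hd⟩, hd, ⟨d⁻¹ * t * d, hTH hdt⟩, hdt,
        Subtype.ext (by show d * (d⁻¹ * t * d) = (x : G); rw [e]; group)⟩
  refine ⟨fun d hd => CfsgLib.SEmbed.interchange_inverts h hne
    ⟨hu, CfsgLib.SEmbed.smul_mk_one H u⟩ hd, ?_, hcompl⟩
  have h2 := hcompl.card_mul
  rw [Nat.card_congr (Subgroup.subgroupOfEquivOfLe hDH).toEquiv,
    Nat.card_congr (Subgroup.subgroupOfEquivOfLe hTH).toEquiv,
    CfsgLib.SEmbed.card_pairStab h hne] at h2
  rw [← h2, mul_comm]

end Cfsg.Agent.S1227
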