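import Cfsg.Statements.S1228
import Cfsg.Agent.SEmbed.Abelian

-- import your own Cfsg.Agent.* helpers here

set_option autoImplicit false
open Cfsg

namespace Cfsg.Agent.S1228

/-- Let G be a finite group with a Sylow 2-subgroup T that is neither cyclic nor normal, such that the centralizer of every involution is an elementary abelian 2-group; put H = N_G(T), let u be an involution outside H and D = H ∩ uHu⁻¹. Then N_G(D) = D ⊔ ⟨u⟩, and a coset gH is fixed by every element of D exactly when gH = H or gH = uH. -/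
theorem result {G : Type*} [Group G] [Finite G] (T : Sylow 2 G) (hnc : ¬ IsCyclic (T : Subgroup G)) (hnn : ¬ (T : Subgroup G).Normal) (hC : ∀ t : G, orderOf t = 2 → IsMulCommutative (Subgroup.centralizer ({t} : Set G)) ∧ ∀ c ∈ Subgroup.centralizer ({t} : Set G), c ^ 2 = 1) (u : G) (hu : orderOf u = 2) (huH : u ∉ Subgroup.normalizer ((T : Subgroup G) : Set G)) : Subgroup.normalizer ((Subgroup.normalizer ((T : Subgroup G) : Set G) ⊓ (Subgroup.normalizer ((T : Subgroup G) : Set G)).map (MulAut.conj u).toMonoidHom : Subgroup G) : Set G) = (Subgroup.normalizer ((T : Subgroup G) : Set G) ⊓ (Subgroup.normalizer ((T : Subgroup G) : Set G)).map (MulAut.conj u).toMonoidHom) ⊔ Subgroup.zpowers u ∧ ∀ g : G, ((∀ d ∈ Subgroup.normalizer ((T : Subgroup G) : Set G) ⊓ (Subgroup.normalizer ((T : Subgroup G) : Set G)).map (MulAut.conj u).toMonoidHom, d • (QuotientGroup.mk g : G ⧸ Subgroup.normalizer ((T : Subgroup G) : Set G)) = QuotientGroup.mk g) ↔ (QuotientGroup.mk g : G ⧸ Subgroup.normalizer ((T :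 Subgroup G) : Set G)) = QuotientGroup.mk 1 ∨ (QuotientGroup.mk g : G ⧸ Subgroup.normalizer ((T : Subgroup G) : Set G)) = QuotientGroup.mk u) := by
  have h : CfsgLib.SEmbed.ElemCentralizers T := ⟨hnc, hnn, hC⟩
  set H := Subgroup.normalizer ((T : Subgroup G) : Set G)
  have hne : CfsgLib.SEmbed.base T ≠ (u : G ⧸ H) := fun e =>
    huH ((CfsgLib.SEmbed.mem_normalizer_iff_smul u).2 e.symm)
  rw [← CfsgLib.SEmbed.pairStab_one]
  set D := CfsgLib.SEmbed.pairStab G (CfsgLib.SEmbed.base T) (u : G ⧸ H) with hD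
  have hui : u ∈ CfsgLib.SEmbed.invMap (G := G) (CfsgLib.SEmbed.base T) (u : G ⧸ H) :=
    ⟨hu, CfsgLib.SEmbed.smul_mk_one H u⟩
  have hinv : ∀ d ∈ D, u * d * u⁻¹ = d⁻¹ := fun d hd =>
    CfsgLib.SEmbed.interchange_inverts h hne hui hd
  have hfix : ∀ g : G, ((∀ d ∈ D, d • (QuotientGroup.mk g : G ⧸ H) = QuotientGroup.mk g) ↔
      (QuotientGroup.mk g : G ⧸ H) = QuotientGroup.mk 1 ∨
      (QuotientGroup.mk g : G ⧸ H) = QuotientGroup.mk u) := by
    intro g
    constructor
    · exact fun hg => CfsgLib.SEmbed.eq_or_eq_of_fixed h hne hg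
    · rintro (e | e) d hd <;> rw [e]
      · exact (CfsgLib.SEmbed.mem_pairStab.1 hd).1
      · exact (CfsgLib.SEmbed.mem_pairStab.1 hd).2
  refine ⟨le_antisymm ?_ (sup_le Subgroup.le_normalizer (Subgroup.zpowers_le.2 ?_)), hfix⟩
  · intro g hg
    have key : ∀ d ∈ D, d • (QuotientGroup.mk g : G ⧸ H) = QuotientGroup.mk g := by
      intro d hd
      have hd' : g⁻¹ * d * g ∈ D := (Subgroup.mem_normalizer_iff''.1 hg d).1 hd
      exact (CfsgLib.SEmbed.smul_mk_eq_iff H d g).2
        (CfsgLib.SEmbed.mem_normalizer_of_mem_pairStab hd')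
    have key2 : ∀ g' ∈ Subgroup.normalizer (D : Set G), (g' : G ⧸ H) = QuotientGroup.mk 1 → g' ∈ D :=
      fun g' hg' e => CfsgLib.SEmbed.mem_of_normalizes h hne
        ((CfsgLib.SEmbed.mem_normalizer_iff_smul g').2 e)
        fun d hd => (Subgroup.mem_normalizer_iff.1 hg' d).1 hd
    rcases (hfix g).1 key with e | e
    · exact Subgroup.mem_sup_left (key2 g hg e)
    · have huN : u ∈ Subgroup.normalizer (D : Set G) := by
        refine Subgroup.mem_normalizer_iff.2 fun d => ⟨fun hd => hinv d hd ▸ inv_mem hd, fun hd => ?_⟩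
        have := hinv _ hd
        rw [CfsgLib.Small.inv_eq_self_of_orderOf_two hu] at this
        rw [show d = u * (u * d * u) * u by
          simp [← mul_assoc, CfsgLib.Small.mul_self_of_orderOf_two hu]
          simp [mul_assoc, CfsgLib.Small.mul_self_of_orderOf_two hu], this]
        rw [CfsgLib.Small.inv_eq_self_of_orderOf_two hu] at hd
        exact inv_mem hd
      have e1 : ((u⁻¹ * g : G) : G ⧸ H) = QuotientGroup.mk 1 := by
        have h3 := congrArg (fun x => u⁻¹ • x) e
        simp only [MulAction.Quotient.smul_mk, smul_eq_mul, inv_mul_cancel] at h3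
        exact h3
      have h4 := mul_mem (Subgroup.mem_sup_right (Subgroup.mem_zpowers u))
        (Subgroup.mem_sup_left (T := Subgroup.zpowers u) (key2 _ (mul_mem (inv_mem huN) hg) e1))
      rwa [mul_inv_cancel_left] at h4
  · refine Subgroup.mem_normalizer_iff.2 fun d => ⟨fun hd => hinv d hd ▸ inv_mem hd, fun hd => ?_⟩
    have := hinv _ hd
    rw [CfsgLib.Small.inv_eq_self_of_orderOf_two hu] at this
    rw [show d = u * (u * d * u) * u by
      simp [← mul_assoc, CfsgLib.Small.mul_self_of_orderOf_two hu]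
      simp [mul_assoc, CfsgLib.Small.mul_self_of_orderOf_two hu], this]
    rw [CfsgLib.Small.inv_eq_self_of_orderOf_two hu] at hd
    exact inv_mem hd

end Cfsg.Agent.S1228
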