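import Cfsg.Statements.S1231
import Cfsg.Agent.Transfer.Alperin

-- import your own Cfsg.Agent.* helpers here

set_option autoImplicit false
open Cfsg

namespace Cfsg.Agent.S1231

/-- Let H be a subgroup of the finite group G, p a prime, k ≥ 1, and P a Sylow p-subgroup of H whose p-rank is at least k. Then N_G(X) ≤ H for every subgroup X of P of p-rank at least k if and only if H ∩ gHg⁻¹ has p-rank less than k for every g ∉ H. -/
theorem result {G : Type*} [Group G] [Finite G] {p : ℕ} [Fact p.Prime] (k : ℕ) (hk : 1 ≤ k) (H : Subgroup G) (P : Sylow p ↥H) (hP : ¬ Cfsg.PRankLE p (k - 1) ↥(P : Subgroup ↥H)) : (∀ X : Subgroup G, X ≤ (P : Subgroup ↥H).map H.subtype → ¬ Cfsg.PRankLE p (k - 1) ↥X → Subgroup.normalizer (X : Set G) ≤ H) ↔ (∀ g : G, g ∉ H → Cfsg.PRankLE p (k - 1) ↥(H ⊓ H.map (MulAut.conj g).toMonoidHom)) := by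
  open Subgroup in
  have hmono : ∀ {Y Z : Subgroup G}, Y ≤ Z → Cfsg.PRankLE p (k - 1) Z → Cfsg.PRankLE p (k - 1) Y := by
    intro Y Z hYZ hZ A hA hAe
    rw [← card_map_of_injective (inclusion_injective hYZ)]
    haveI := hA
    refine hZ _ inferInstance ?_
    rintro _ ⟨a, ha, rfl⟩
    rw [← map_pow, hAe a ha, map_one]
  have hiso : ∀ (Y : Subgroup G) (x : G), Cfsg.PRankLE p (k - 1) Y →
      Cfsg.PRankLE p (k - 1) (Y.map (MulAut.conj x).toMonoidHom) := by
    intro Y x hY A hA hAe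
    let e : Y.map (MulAut.conj x).toMonoidHom →* Y :=
      ((MulAut.conj x⁻¹).toMonoidHom.comp (Subgroup.subtype _)).codRestrict Y (by
        rintro ⟨_, y, hy, rfl⟩
        show x⁻¹ * (x * y * x⁻¹) * x⁻¹⁻¹ ∈ Y
        simpa [mul_assoc] using hy)
    rw [← card_map_of_injective (f := e) (fun a b h => Subtype.ext
      ((MulAut.conj x⁻¹).injective (congrArg Subtype.val h)))]
    haveI := hA
    refine hY _ inferInstance ?_
    rintro _ ⟨a, ha, rfl⟩
    rw [← map_pow, hAe a ha, map_one]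
  set P' := (P : Subgroup ↥H).map H.subtype with hP'
  have hP'H : P' ≤ H := map_subtype_le _
  constructor
  · intro hN g hg
    set D := H ⊓ H.map (MulAut.conj g).toMonoidHom with hD
    intro A hA hAe
    by_contra hbig
    -- a Sylow subgroup of `D` over `A`
    have hAp : IsPGroup p A := fun a => ⟨1, Subtype.ext (by
      rw [pow_one]; simpa using hAe a a.2)⟩
    obtain ⟨R₀, hR₀⟩ := hAp.exists_le_sylow
    set R := (R₀ : Subgroup ↥D).map D.subtype with hR
    have hRD : R ≤ D := map_subtype_le _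
    have hRrank : ¬ Cfsg.PRankLE p (k - 1) R := by
      intro h
      have h1 : A.map D.subtype ≤ R := map_mono hR₀
      refine hbig ?_
      have h2 := hmono h1 h
      have hc := h2 ((A.map D.subtype).subgroupOf (A.map D.subtype))
      haveI := hA
      rw [subgroupOf_self] at hc
      refine le_trans (le_of_eq ?_) (hc ⟨⟨fun u v => Subtype.ext (Subtype.ext ?_)⟩⟩ ?_)
      · rw [card_top, card_map_of_injective (Subgroup.subtype_injective D)]
      · obtain ⟨u', hu, hu'⟩ := mem_map.1 u.1.2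
        obtain ⟨v', hv, hv'⟩ := mem_map.1 v.1.2
        show (u.1 : G) * v.1 = v.1 * u.1
        rw [← hu', ← hv', ← map_mul, ← map_mul]
        exact congrArg D.subtype (congrArg Subtype.val
          (IsMulCommutative.is_comm.comm (⟨u', hu⟩ : A) ⟨v', hv⟩))
      · rintro ⟨_, a, ha, rfl⟩ -
        exact Subtype.ext (by
          rw [coe_pow, coe_one]; show (D.subtype a) ^ p = 1
          rw [← map_pow, hAe a ha, map_one])
    have hRp : IsPGroup p R := R₀.2.map _
    -- every conjugate of such subgroups has its normalizer in the conjugate of `H`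
    have key : ∀ (x : G) (X : Subgroup G), IsPGroup p X → X ≤ H.map (MulAut.conj x).toMonoidHom →
        ¬ Cfsg.PRankLE p (k - 1) X →
        normalizer (X : Set G) ≤ H.map (MulAut.conj x).toMonoidHom := by
      intro x X hXp hXH hXr n hn
      set X₁ := X.map (MulAut.conj x⁻¹).toMonoidHom with hX₁
      have hX₁H : X₁ ≤ H := by
        rintro _ ⟨v, hv, rfl⟩
        obtain ⟨w, hw, rfl⟩ := hXH hv
        simpa [mul_assoc] using hw
      obtain ⟨Q, hQ⟩ := (IsPGroup.of_equiv (hXp.map _ : IsPGroup p X₁)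
        (subgroupOfEquivOfLe hX₁H).symm).exists_le_sylow
      obtain ⟨h, hh⟩ := MulAction.exists_smul_eq H Q P
      have hX₂ : X.map (MulAut.conj ((h : G) * x⁻¹)).toMonoidHom ≤ P' := by
        rintro _ ⟨v, hv, rfl⟩
        let w : H := ⟨x⁻¹ * v * x, by simpa using hX₁H ⟨v, hv, rfl⟩⟩
        have h1 : w ∈ Q := hQ (by
          rw [mem_subgroupOf]; exact ⟨v, hv, by simp [w]⟩)
        refine ⟨h * w * h⁻¹, ?_, ?_⟩
        · rw [← hh, Sylow.coe_subgroup_smul]
          exact ⟨_, h1, rfl⟩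
        · simp [w, mul_assoc]
      have hmem : ((h : G) * x⁻¹) * n * ((h : G) * x⁻¹)⁻¹ ∈ H := by
        refine hN _ hX₂ (fun hr => hXr ?_) ?_
        · have := hiso _ ((h : G) * x⁻¹)⁻¹ hr
          rwa [Subgroup.map_map, show (MulAut.conj ((h : G) * x⁻¹)⁻¹).toMonoidHom.comp
            (MulAut.conj ((h : G) * x⁻¹)).toMonoidHom = MonoidHom.id G from
            MonoidHom.ext fun v => by simp [mul_assoc], Subgroup.map_id] at this
        · have := le_normalizer_map (H := X) (MulAut.conj ((h : G) * x⁻¹)).toMonoidHom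
            ⟨n, hn, rfl⟩
          simpa [mul_assoc] using this
      refine ⟨(h : G)⁻¹ * (((h : G) * x⁻¹) * n * ((h : G) * x⁻¹)⁻¹) * h,
        mul_mem (mul_mem (inv_mem h.2) hmem) h.2, ?_⟩
      simp [mul_assoc]
    have hNR : normalizer (R : Set G) ≤ D := by
      refine le_inf ?_ (key g R hRp (hRD.trans inf_le_right) hRrank)
      have h1 : H.map (MulAut.conj (1 : G)).toMonoidHom = H := by ext v; simp
      exact h1 ▸ key 1 R hRp (by rw [h1]; exact hRD.trans inf_le_left) hRrank
    -- `R` is a Sylow subgroup of `H` and of its conjugate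
    have hfull : ∀ (M : Subgroup G), R ≤ M → ∀ Q : Sylow p ↥M, R.subgroupOf M ≤ Q →
        R.subgroupOf M = (Q : Subgroup ↥M) := by
      intro M hRM Q hQ
      by_contra hne
      have hlt : R < (Q : Subgroup ↥M).map M.subtype := by
        refine lt_of_le_of_ne ?_ fun h => hne ?_
        · intro v hv; exact ⟨⟨v, hRM hv⟩, hQ (mem_subgroupOf.2 hv), rfl⟩
        · rw [h]; exact comap_map_eq_self_of_injective (Subgroup.subtype_injective M) _
      obtain ⟨v, hv, hvR⟩ := SetLike.exists_of_lt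
        (CfsgLib.Transfer.lt_inf_normalizer (Q.2.map _) hlt)
      -- a bigger `p`-subgroup of `D`
      have hvD : v ∈ D := hNR hv.2
      obtain ⟨j, hj⟩ := (Q.2.map M.subtype) ⟨v, hv.1⟩
      have hp2 : IsPGroup p (zpowers v ⊔ R : Subgroup G) := by
        refine IsPGroup.to_sup_of_normal_right' ?_ hRp (zpowers_le.2 hv.2)
        obtain ⟨i, -, hi⟩ := (Nat.dvd_prime_pow (Fact.out : p.Prime)).1
          (orderOf_dvd_of_pow_eq_one (show v ^ p ^ j = 1 from congrArg Subtype.val hj))
        exact IsPGroup.of_card (by rw [Nat.card_zpowers, hi])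
      have hle : zpowers v ⊔ R ≤ D := sup_le (zpowers_le.2 hvD) hRD
      have heq := R₀.3 (hp2.of_equiv (subgroupOfEquivOfLe hle).symm) (fun u hu =>
        mem_subgroupOf.2 (mem_sup_right (mem_map.2 ⟨u, hu, rfl⟩)))
      apply hvR
      refine mem_map.2 ⟨⟨v, hvD⟩, ?_, rfl⟩
      rw [← heq]
      exact mem_subgroupOf.2 (mem_sup_left (mem_zpowers v))
    have hR1 : R ≤ H := hRD.trans inf_le_left
    set R₂ := R.map (MulAut.conj g⁻¹).toMonoidHom with hR₂
    have hR2 : R₂ ≤ H := by
      rintro _ ⟨v, hv, rfl⟩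
      obtain ⟨w, hw, rfl⟩ := (hRD hv).2
      simpa [mul_assoc] using hw
    obtain ⟨Q₁, hQ₁⟩ := (IsPGroup.of_equiv hRp (subgroupOfEquivOfLe hR1).symm).exists_le_sylow
    obtain ⟨Q₂, hQ₂⟩ := (IsPGroup.of_equiv (hRp.map _ : IsPGroup p R₂)
      (subgroupOfEquivOfLe hR2).symm).exists_le_sylow
    have e1 := hfull H hR1 Q₁ hQ₁
    have e2 : R₂.subgroupOf H = (Q₂ : Subgroup ↥H) := by
      refine eq_of_le_of_card_ge hQ₂ (le_of_eq ?_)
      rw [Nat.card_congr (subgroupOfEquivOfLe hR2).toEquiv, hR₂,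
        card_map_of_injective (MulAut.conj g⁻¹).injective,
        ← Nat.card_congr (subgroupOfEquivOfLe hR1).toEquiv, e1]
      exact Nat.card_congr (Q₂.equiv Q₁).toEquiv
    obtain ⟨h, hh⟩ := MulAction.exists_smul_eq H Q₂ Q₁
    apply hg
    have hn : (h : G) * g⁻¹ ∈ normalizer (R : Set G) := by
      apply mem_normalizer_iff_map_conj_eq.2
      refine eq_of_le_of_card_ge ?_ (card_map_of_injective (MulAut.conj _).injective).ge
      rintro _ ⟨v, hv, rfl⟩
      have h1 : (⟨g⁻¹ * v * g, by simpa using hR2 ⟨v, hv, rfl⟩⟩ : H) ∈ R₂.subgroupOf H :=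
        mem_subgroupOf.2 ⟨v, hv, by simp⟩
      have h2 : h * ⟨g⁻¹ * v * g, by simpa using hR2 ⟨v, hv, rfl⟩⟩ * h⁻¹ ∈
          (Q₁ : Subgroup ↥H) := by
        rw [← hh, Sylow.coe_subgroup_smul]
        exact ⟨_, e2 ▸ h1, rfl⟩
      rw [← e1, mem_subgroupOf] at h2
      simpa [mul_assoc] using h2
    have := mul_mem (inv_mem ((mem_inf.1 (hNR hn)).1 : (h : G) * g⁻¹ ∈ H)) h.2
    simpa using this
  · intro h X hX hXr n hn
    by_contra hnH
    refine hXr (hmono (le_inf (hX.trans hP'H) ?_) (h n hnH))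
    intro v hv
    exact ⟨n⁻¹ * v * n, (hX.trans hP'H) ((mem_normalizer_iff''.1 hn v).1 hv), by simp [mul_assoc]⟩

end Cfsg.Agent.S1231
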