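import Cfsg.Statements.S1234
import Cfsg.Agent.TwoGroups.HaradaMain

set_option autoImplicit false
open Cfsg

namespace Cfsg.Agent.S1234

/-- Let S be a finite 2-group and Q ≤ S a subgroup of order 32 having an elementary abelian subgroup E of order 16 and an involution s ∉ E whose centralizer in E has order 4 (so Q ≅ (Z₂ × Z₂) ≀ Z₂). If C_S(Z(Q)) = Q, then every section of S has 2-rank at most 4. -/
theorem result {S : Type*} [Group S] [Finite S] (hS : IsPGroup 2 S) (Q E : Subgroup S) (hEQ : E ≤ Q) (hE : Cfsg.IsElementaryAbelian 2 E) (hE16 : Nat.card E = 16) (hQ32 : Nat.card Q = 32) (s : S) (hsQ : s ∈ Q) (hsE : s ∉ E) (hs : orderOf s = 2) (hfix : Nat.card ↥(E ⊓ Subgroup.centralizer ({s} : Set S)) = 4) (hC : Subgroup.centralizer (((Subgroup.center Q).map Q.subtype : Subgroup S) : Set S) = Q) : Cfsg.SectionalPRankLE 2 4 S := by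
  classical
  set Z := E ⊓ Subgroup.centralizer ({s} : Set S) with hZ
  have hss : s * s = 1 := by rw [← pow_two, ← hs, pow_orderOf_eq_one]
  have hEsq : ∀ e ∈ E, e * e = 1 := fun e he => by rw [← pow_two]; exact hE.2 e he
  have hEc : ∀ a ∈ E, ∀ b ∈ E, a * b = b * a := fun a ha b hb =>
    CfsgLib.TwoGroups.Harada.comm_of_sq E hEsq ha hb
  have hidx : (E.subgroupOf Q).index = 2 := by
    have h := Subgroup.card_mul_index (E.subgroupOf Q)
    rw [Nat.card_congr (Subgroup.subgroupOfEquivOfLe hEQ).toEquiv, hE16, hQ32] at h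
    omega
  have hQcases : ∀ q ∈ Q, q ∈ E ∨ s * q ∈ E := fun q hq => or_iff_not_imp_left.2 fun hqE =>
    (Subgroup.mul_mem_iff_of_index_two hidx (a := (⟨s, hsQ⟩ : Q)) (b := ⟨q, hq⟩)).2
      ⟨fun h => absurd h hsE, fun h => absurd h hqE⟩
  have hZc : ∀ a ∈ Z, s * a = a * s := fun a ha =>
    (Subgroup.mem_centralizer_singleton_iff.1 (Subgroup.mem_inf.1 ha).2).symm
  let A : Subgroup S :=
    { carrier := {a | a ∈ Z ∨ s * a ∈ Z}
      one_mem' := Or.inl (one_mem _)
      mul_mem' := fun {a b} (ha : a ∈ Z ∨ s * a ∈ Z) (hb : b ∈ Z ∨ s * b ∈ Z) => by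
        rcases ha with ha | ha <;> rcases hb with hb | hb
        · exact Or.inl (mul_mem ha hb)
        · right; rw [← mul_assoc, hZc a ha, mul_assoc]; exact mul_mem ha hb
        · right; rw [← mul_assoc]; exact mul_mem ha hb
        · left
          have e : a * s = s * a := by
            have h := hZc _ ha
            rw [mul_assoc s a s] at h
            exact (mul_left_cancel h).symm
          have : (s * a) * (s * b) = a * b := by
            rw [mul_assoc s a, ← mul_assoc a s b, e, mul_assoc s a b, ← mul_assoc s s, hss, one_mul]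
          rw [← this]
          exact mul_mem ha hb
      inv_mem' := fun {a} (ha : a ∈ Z ∨ s * a ∈ Z) => by
        rcases ha with ha | ha
        · exact Or.inl (inv_mem ha)
        · right
          have h := inv_mem ha
          rwa [mul_inv_rev, inv_eq_of_mul_eq_one_right hss,
            show a⁻¹ * s = s * a⁻¹ from by
              have e : a * s = s * a := by
                have h' := hZc _ ha
                rw [mul_assoc s a s] at h'
                exact (mul_left_cancel h').symm
              exact (Commute.inv_left (e : Commute a s)).eq] at h }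
  have hsA : s ∈ A := Or.inr (by rw [hss]; exact one_mem _)
  have hAsq : ∀ a ∈ A, a * a = 1 := by
    rintro a (ha | ha)
    · exact hEsq a (Subgroup.mem_inf.1 ha).1
    · have h := hEsq _ (Subgroup.mem_inf.1 ha).1
      have hc := hZc _ ha
      have e : a * s = s * a := by
        rw [mul_assoc s a s] at hc
        exact (mul_left_cancel hc).symm
      rwa [mul_assoc s a, ← mul_assoc a s a, e, mul_assoc s a a, ← mul_assoc s s, hss, one_mul] at h
  have hA8 : Nat.card A = 8 := by
    let φ : Z × Bool → A := fun p =>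
      ⟨if p.2 then p.1.1 else s * p.1.1, by
        split
        · exact Or.inl p.1.2
        · right; rw [← mul_assoc, hss, one_mul]; exact p.1.2⟩
    have hbij : Function.Bijective φ := by
      refine ⟨?_, ?_⟩
      · rintro ⟨⟨a, ha⟩, i⟩ ⟨⟨b, hb⟩, j⟩ e
        have e' := congrArg Subtype.val e
        cases i <;> cases j <;> simp only [φ, Bool.false_eq_true, if_false, if_true] at e'
        · obtain rfl := mul_left_cancel e'; rfl
        · exact absurd (Subgroup.mem_inf.1 (eq_mul_inv_of_mul_eq e' ▸ mul_mem hb (inv_mem ha))).1 hsE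
        · exact absurd (Subgroup.mem_inf.1 (eq_mul_inv_of_mul_eq e'.symm ▸ mul_mem ha (inv_mem hb))).1 hsE
        · obtain rfl := e'; rfl
      · rintro ⟨a, ha | ha⟩
        · exact ⟨(⟨a, ha⟩, true), Subtype.ext (by simp [φ])⟩
        · exact ⟨(⟨s * a, ha⟩, false), Subtype.ext (by simp [φ, ← mul_assoc, hss])⟩
    rw [← Nat.card_eq_of_bijective φ hbij, Nat.card_prod, hfix, Nat.card_eq_fintype_card (α := Bool), Fintype.card_bool]
  refine CfsgLib.TwoGroups.Harada.sectionalPRankLE_four hS A hAsq hA8 fun x hx => ?_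
  have hxQ : x ∈ Q := by
    rw [← hC, Subgroup.mem_centralizer_iff]
    rintro _ ⟨q, hq, rfl⟩
    have hqs : s * (q : S) = q * s := congrArg Subtype.val (Subgroup.mem_center_iff.1 hq ⟨s, hsQ⟩)
    rcases hQcases q q.2 with h | h
    · exact hx q (Or.inl (Subgroup.mem_inf.2 ⟨h, Subgroup.mem_centralizer_singleton_iff.2 hqs.symm⟩))
    · exfalso
      have hall : E ≤ Subgroup.centralizer ({s} : Set S) := fun e he => by
        refine Subgroup.mem_centralizer_singleton_iff.2 ?_
        have h1 : e * (q : S) = q * e := congrArg Subtype.val (Subgroup.mem_center_iff.1 hq ⟨e, hEQ he⟩)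
        have h2 := hEc e he _ h
        rw [← mul_assoc, mul_assoc s (q : S) e, ← h1, ← mul_assoc] at h2
        exact mul_right_cancel h2
      rw [hZ, inf_eq_left.2 hall, hE16] at hfix
      omega
  have hxs : s * x = x * s := hx s hsA
  rcases hQcases x hxQ with h | h
  · exact Or.inl (Subgroup.mem_inf.2 ⟨h, Subgroup.mem_centralizer_singleton_iff.2 hxs.symm⟩)
  · refine Or.inr (Subgroup.mem_inf.2 ⟨h, Subgroup.mem_centralizer_singleton_iff.2 ?_⟩)
    rw [mul_assoc s x s, ← hxs]

end Cfsg.Agent.S1234
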