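import Cfsg.Statements.S1236
import Cfsg.Agent.TwoGroups.SemidihedralSubgroups
import Cfsg.Agent.TwoGroups.DihedralFour

-- import your own Cfsg.Agent.* helpers here

set_option autoImplicit false
open Cfsg

namespace Cfsg.Agent.S1236

/-- Let R be a finite group, t a central involution of R such that R ⧸ ⟨t⟩ is dihedral (of order ≥ 4) or quasi-dihedral, and A ≤ R an elementary abelian subgroup of order 8 containing t. Then C_R(A) = A. -/
theorem result {R : Type*} [Group R] [Finite R] (t : R) (ht : orderOf t = 2) (htz : t ∈ Subgroup.center R) [(Subgroup.zpowers t).Normal] (hq : (∃ m : ℕ, 2 ≤ m ∧ Nonempty (R ⧸ Subgroup.zpowers t ≃* DihedralGroup m)) ∨ Cfsg.IsQuasiDihedral (R ⧸ Subgroup.zpowers t)) (A : Subgroup R) (hA : Cfsg.IsElementaryAbelian 2 A) (hA8 : Nat.card A = 8) (htA : t ∈ A) : Subgroup.centralizer (A : Set R) = A := by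
  open Subgroup CfsgLib.TwoGroups in
  have hle : A ≤ centralizer (A : Set R) := by
    haveI := hA.1
    intro a ha b hb
    exact congrArg Subtype.val (IsMulCommutative.is_comm.comm (⟨b, hb⟩ : A) ⟨a, ha⟩)
  let π := QuotientGroup.mk' (Subgroup.zpowers t)
  have hZ : Nat.card (Subgroup.zpowers t) = 2 := by rw [Nat.card_zpowers, ht]
  have hT : IsKleinFour (A.map π) := by
    refine isKleinFour_iff.2 ⟨?_, ?_⟩
    · have h1 : (A.map π).comap π = A := by
        rw [Subgroup.comap_map_eq, QuotientGroup.ker_mk', sup_eq_left]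
        exact Subgroup.zpowers_le.2 htA
      have h2 := Subgroup.index_comap_of_surjective (A.map π) (QuotientGroup.mk'_surjective _)
      rw [h1] at h2
      have h3 := A.card_mul_index
      have h4 := (A.map π).card_mul_index
      have h5 := (Subgroup.zpowers t).card_eq_card_quotient_mul_card_subgroup
      rw [← h4, hZ, ← h3, hA8, h2] at h5
      have h6 : (A.map π).index ≠ 0 := Subgroup.index_ne_zero_of_finite
      have := mul_right_cancel₀ h6 (show 4 * (A.map π).index
        = Nat.card (A.map π) * (A.map π).index by omega)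
      exact this.symm
    · rintro _ ⟨a, ha, rfl⟩
      rw [← map_mul, ← sq, hA.2 a ha, map_one]
  have hcent : Nat.card (Subgroup.centralizer (SetLike.coe (A.map π))) ≤ 4 := by
    rcases hq with ⟨m, hm, ⟨e⟩⟩ | hsd
    · haveI : NeZero m := ⟨by omega⟩
      let T' := (A.map π).map e.toMonoidHom
      have hT' : IsKleinFour T' := by
        refine isKleinFour_iff.2 ⟨?_, ?_⟩
        · rw [Subgroup.card_map_of_injective e.injective]; exact (isKleinFour_iff.1 hT).1
        · rintro _ ⟨a, ha, rfl⟩
          rw [← map_mul, (isKleinFour_iff.1 hT).2 a ha, map_one]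
      have hc : (Subgroup.centralizer (SetLike.coe (A.map π))).map e.toMonoidHom ≤
          Subgroup.centralizer (T' : Set _) := by
        rintro _ ⟨g, hg, rfl⟩ _ ⟨a, ha, rfl⟩
        rw [← map_mul, hg a ha, map_mul]
      have := Subgroup.card_le_of_le hc
      rw [Subgroup.card_map_of_injective e.injective, centralizer_kleinFour_dihedral hT',
        (isKleinFour_iff.1 hT').1] at this
      exact this
    · obtain ⟨n, x, y, d⟩ := exists_sdPair hsd
      rw [d.centralizer_kleinFour hT, (isKleinFour_iff.1 hT).1]
  symm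
  refine Subgroup.eq_of_le_of_card_ge hle ?_
  rw [hA8]
  let C := Subgroup.centralizer (A : Set R)
  have hmap : C.map π ≤ Subgroup.centralizer (SetLike.coe (A.map π)) := by
    rintro _ ⟨g, hg, rfl⟩ _ ⟨a, ha, rfl⟩
    rw [← map_mul, hg a ha, map_mul]
  have h1 : Nat.card (C.map π) ≤ 4 := le_trans (Subgroup.card_le_of_le hmap) hcent
  have hker : Nat.card (π.comp C.subtype).ker ≤ 2 := by
    rw [← hZ]
    refine Nat.card_le_card_of_injective
      (fun g => ⟨(g : C), by
        have := g.2
        rw [MonoidHom.mem_ker, MonoidHom.comp_apply, ← MonoidHom.mem_ker,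
          QuotientGroup.ker_mk'] at this
        exact this⟩)
      (fun a b h => Subtype.ext (Subtype.ext (Subtype.mk.inj h)))
  have h2 := (π.comp C.subtype).ker.card_mul_index
  rw [Subgroup.index_ker, MonoidHom.range_comp, Subgroup.range_subtype] at h2
  rw [← h2]
  calc _ ≤ 2 * 4 := Nat.mul_le_mul hker h1
    _ = 8 := by norm_num

end Cfsg.Agent.S1236
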