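import Cfsg.Statements.S1239
import Cfsg.Agent.TwoGroups.CenterFusion
import Cfsg.Agent.TwoGroups.SemidihedralSubgroups

-- import your own Cfsg.Agent.* helpers here

set_option autoImplicit false
open Cfsg

namespace Cfsg.Agent.S1239

/-- Let X be a finite group whose Sylow 2-subgroup S is quasi-dihedral or wreathed, and suppose some involution of S is isolated in X. Then the product of the largest normal odd-order subgroup O(X) with the centre of S is normal in X. -/
theorem result {X : Type*} [Group X] [Finite X] (S : Sylow 2 X) (hS : Cfsg.IsQuasiDihedral (S : Subgroup X) ∨ Cfsg.IsWreathed (S : Subgroup X)) (z : X) (hzS : z ∈ S) (hz : Cfsg.IsIsolatedInvolution z) : (Cfsg.oddCore X ⊔ (Subgroup.center (S : Subgroup X)).map (S : Subgroup X).subtype).Normal := by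
  open Subgroup CfsgLib.TwoGroups in
  haveI : Fact (Nat.Prime 2) := ⟨Nat.prime_two⟩
  set Zi := (Subgroup.center (S : Subgroup X)).map (S : Subgroup X).subtype with hZi
  -- `z` is central in `S`
  have hzc : ∀ s ∈ (S : Subgroup X), s * z = z * s := fun s hs => by
    exact (CfsgLib.Isolated.commute_of_isPGroup hz S.2 hzS hs).eq
  have hzC : (⟨z, hzS⟩ : (S : Subgroup X)) ∈ Subgroup.center (S : Subgroup X) :=
    mem_center_iff.2 fun s => Subtype.ext (hzc _ s.2)
  have key : ∀ g : X, ∀ c ∈ Zi, g * c * g⁻¹ * c⁻¹ ∈ Cfsg.oddCore X := by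
    intro g c hc
    obtain ⟨c', hc', rfl⟩ := hc
    obtain ⟨k, hk⟩ := S.2 c'
    refine comm_mem_oddCore_of_fixed k X S (c' : X) c'.2
      (fun s hs => congrArg Subtype.val (mem_center_iff.1 hc' ⟨s, hs⟩))
      (congrArg Subtype.val hk) (fun j g hg => ?_) g
    rcases hS with hS | hS
    · obtain ⟨n, x, y, d⟩ := exists_sdPair hS
      rw [d.center_eq] at hzC hc'
      have hsq : ∀ v ∈ zpowers (x ^ hh n), v * v = 1 := by
        rintro _ ⟨i, rfl⟩
        show (x ^ hh n) ^ i * (x ^ hh n) ^ i = 1
        rw [← (Commute.refl (x ^ hh n)).mul_zpow, d.z_sq, one_zpow]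
      have hv := pow_mem hc' j
      by_cases h1 : c' ^ j = 1
      · have : (c' : X) ^ j = 1 := congrArg Subtype.val h1
        rw [this, mul_one, mul_inv_cancel]
      · have hne : (⟨z, hzS⟩ : (S : Subgroup X)) ≠ 1 := fun h => by
          have := congrArg Subtype.val h
          have h2 := hz.1
          rw [show z = 1 from this, orderOf_one] at h2
          exact absurd h2 (by norm_num)
        have he : c' ^ j = ⟨z, hzS⟩ :=
          eq_of_invol_mem_zpowers hv hzC (hsq _ hv) (hsq _ hzC) h1 hne
        have : (c' : X) ^ j = z := congrArg Subtype.val he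
        rw [this] at hg ⊢
        exact hz.2 g (hzc _ hg).symm
    · obtain ⟨n, x, y, w, d⟩ := exists_wrTriple hS
      have hZz : ((el x y (CfsgLib.TwoGroups.hw n) (CfsgLib.TwoGroups.hw n) : (S : Subgroup X)) : X) = z := by
        obtain ⟨p, q, he, hpq⟩ := d.mem_center_iff.1 hzC
        have h2 : el x y p q * el x y p q = 1 := by
          rw [← he]
          refine Subtype.ext ?_
          show z * z = 1
          rw [← sq, ← hz.1, pow_orderOf_eq_one]
        have hne : el x y p q ≠ 1 := fun h => by
          have := congrArg Subtype.val (he.trans h)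
          have h2 := hz.1
          rw [show z = 1 from this, orderOf_one] at h2
          exact absurd h2 (by norm_num)
        rcases d.el_invol h2 with h | h | h | h
        · exact absurd h hne
        · exfalso
          obtain ⟨a, b⟩ := d.el_inj.1 h
          apply d.not_nn_dvd_hw
          have := dvd_add (dvd_sub a b) hpq
          rwa [show CfsgLib.TwoGroups.hw n - p - (0 - q) + (p - q) = CfsgLib.TwoGroups.hw n by ring] at this
        · exfalso
          obtain ⟨a, b⟩ := d.el_inj.1 h
          apply d.not_nn_dvd_hw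
          have := dvd_sub (dvd_sub b a) hpq
          rwa [show CfsgLib.TwoGroups.hw n - q - (0 - p) - (p - q) = CfsgLib.TwoGroups.hw n by ring] at this
        · exact (congrArg Subtype.val (he.trans h)).symm
      refine center_conj_eq_of_wreathed S d (hZz.symm ▸ hz) ?_ g hg
      exact ⟨c' ^ j, pow_mem hc' j, by simp⟩
  refine ⟨fun v hv g => ?_⟩
  obtain ⟨o, ho, c, hc, rfl⟩ := CfsgLib.Coprime.exists_mul_of_mem_sup (le_normalizer_of_normal) hv
  rw [show g * (o * c) * g⁻¹ = (g * o * g⁻¹) * (g * c * g⁻¹ * c⁻¹) * c by group]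
  exact mul_mem_sup (mul_mem ((inferInstance : (Cfsg.oddCore X).Normal).conj_mem o ho g)
    (key g c hc)) hc

end Cfsg.Agent.S1239
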