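import Cfsg.Statements.S1242
import Cfsg.Agent.Transfer.Fusion

-- import your own Cfsg.Agent.* helpers here

set_option autoImplicit false
open Cfsg

namespace Cfsg.Agent.S1242

/-- Let G be a finite group, p a prime and H a subgroup of index prime to p such that any two elements of H of p-power order that are conjugate in G are conjugate in H. Then (O^p(G)·G') ∩ H = O^p(H)·H', where O^p denotes the subgroup generated by the elements of order prime to p. -/
theorem result {G : Type*} [Group G] [Finite G] {p : ℕ} [Fact p.Prime] (H : Subgroup G) (hidx : Nat.Coprime p H.index) (hfus : ∀ g ∈ H, (∃ k : ℕ, orderOf g = p ^ k) → ∀ a : G, a * g * a⁻¹ ∈ H → ∃ h ∈ H, h * g * h⁻¹ = a * g * a⁻¹) : (Cfsg.pResidual p G ⊔ commutator G) ⊓ H = (Cfsg.pResidual p ↥H ⊔ commutator ↥H).map H.subtype := by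
  open Subgroup in
  set K := (Cfsg.pResidual p ↥H ⊔ commutator ↥H) with hK
  apply le_antisymm
  · rintro x ⟨hxG, hxH⟩
    obtain ⟨k, l, hl, hord⟩ :=
      Nat.exists_eq_pow_mul_and_not_dvd (orderOf_pos x).ne' p (Fact.out : p.Prime).ne_one
    have hcop : Nat.Coprime l (p ^ k) :=
      Nat.Coprime.pow_right _ ((Fact.out : p.Prime).coprime_iff_not_dvd.2 hl).symm
    have hx' : x = (x ^ l) ^ (Nat.gcdA l (p ^ k)) * (x ^ p ^ k) ^ (Nat.gcdB l (p ^ k)) := by
      rw [← zpow_natCast x l, ← zpow_natCast x (p ^ k), ← zpow_mul, ← zpow_mul, ← zpow_add,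
        ← Nat.gcd_eq_gcd_ab, hcop.gcd_eq_one, Nat.cast_one, zpow_one]
    set v := x ^ p ^ k with hv
    have hvH : v ∈ H := pow_mem hxH _
    have hvo : Nat.Coprime (orderOf v) p := by
      refine Nat.Coprime.coprime_dvd_left (orderOf_dvd_of_pow_eq_one ?_)
        ((Fact.out : p.Prime).coprime_iff_not_dvd.2 hl).symm
      rw [hv, ← pow_mul, ← hord, pow_orderOf_eq_one]
    have hvK : v ∈ K.map H.subtype := ⟨⟨v, hvH⟩,
      mem_sup_left (subset_closure (by show Nat.Coprime _ p; rwa [orderOf_mk])), rfl⟩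
    have hvG : v ∈ Cfsg.pResidual p G := subset_closure hvo
    set u := x ^ l with hu
    have huH : u ∈ H := pow_mem hxH _
    have hup : u ^ p ^ k = 1 := by rw [hu, ← pow_mul, mul_comm, ← hord, pow_orderOf_eq_one]
    have huG : u ∈ Cfsg.pResidual p G ⊔ commutator G := pow_mem hxG l
    -- move `u` into a Sylow subgroup of `H`
    obtain ⟨Q₀, hQ₀⟩ := IsPGroup.exists_le_sylow (G := ↥H) (p := p)
      (P := zpowers (⟨u, huH⟩ : ↥H)) (by
        obtain ⟨i, -, hi⟩ := (Nat.dvd_prime_pow (Fact.out : p.Prime)).1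
          (orderOf_dvd_of_pow_eq_one (show (⟨u, huH⟩ : ↥H) ^ p ^ k = 1 from Subtype.ext hup))
        exact IsPGroup.of_card (by rw [Nat.card_zpowers, hi]))
    let P₀ := (Q₀ : Subgroup ↥H).map H.subtype
    have huP : u ∈ P₀ := ⟨⟨u, huH⟩, hQ₀ (mem_zpowers _), rfl⟩
    let P : Sylow p G := IsPGroup.toSylow (P := P₀) (Q₀.2.map _) (by
      intro hdvd
      have h1 : P₀.index = (Q₀ : Subgroup ↥H).index * H.index := by
        rw [index_map_subtype]
      rw [h1] at hdvd
      rcases (Fact.out : p.Prime).dvd_mul.1 hdvd with h | h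
      · exact Q₀.not_dvd_index h
      · exact ((Fact.out : p.Prime).coprime_iff_not_dvd.1 hidx) h)
    -- `u ∈ G'`
    have hu' : u ∈ commutator G := by
      let π := Abelianization.of (G := G)
      have h1 : π u ∈ (Cfsg.pResidual p G ⊔ commutator G).map π := mem_map_of_mem _ huG
      rw [Subgroup.map_sup, (Subgroup.map_eq_bot_iff _).2 (Abelianization.ker_of G).ge, sup_bot_eq] at h1
      -- `π u` is a `p`-element of a group generated by `p'`-elements
      have h3 : ∀ y ∈ (Cfsg.pResidual p G).map π, Nat.Coprime (orderOf y) p := by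
        intro y hy
        rw [Cfsg.pResidual, MonoidHom.map_closure] at hy
        induction hy using Subgroup.closure_induction with
        | mem z hz =>
          obtain ⟨w, hw, rfl⟩ := hz
          exact Nat.Coprime.coprime_dvd_left (orderOf_map_dvd π w) hw
        | one => rw [orderOf_one]; exact Nat.coprime_one_left p
        | mul a b _ _ ha hb =>
          exact Nat.Coprime.coprime_dvd_left (Commute.all a b).orderOf_mul_dvd_mul_orderOf
            (Nat.Coprime.mul_left ha hb)
        | inv a _ ha => rwa [orderOf_inv]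
      have h4 : orderOf (π u) = 1 := Nat.Coprime.eq_one_of_dvd
        (Nat.Coprime.pow_right k (h3 _ h1))
        (orderOf_dvd_of_pow_eq_one (show π u ^ p ^ k = 1 by rw [← map_pow, hup, map_one]))
      rw [orderOf_eq_one_iff] at h4
      rwa [← Abelianization.ker_of G, MonoidHom.mem_ker]
    have hfoc : u ∈ ⁅H, H⁆ ⊓ (P : Subgroup G) := by
      rw [← CfsgLib.Transfer.commutator_inf_eq_of_controlsFusion P (show (P : Subgroup G) ≤ H from map_subtype_le _) ?_]
      · exact mem_inf.2 ⟨hu', huP⟩
      · intro y hy a ha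
        obtain ⟨j, hj⟩ := P.2 ⟨y, hy⟩
        obtain ⟨i, -, hi⟩ := (Nat.dvd_prime_pow (Fact.out : p.Prime)).1
          (orderOf_dvd_of_pow_eq_one (show y ^ p ^ j = 1 from congrArg Subtype.val hj))
        obtain ⟨h', hh', e⟩ := hfus y (map_subtype_le _ hy) ⟨i, hi⟩ a (map_subtype_le _ ha)
        exact ⟨h', hh', e⟩
    have huK : u ∈ K.map H.subtype := by
      have h1 := (mem_inf.1 hfoc).1
      rw [← map_subtype_commutator] at h1
      exact map_mono le_sup_right h1
    rw [hx']
    exact mul_mem (zpow_mem huK _) (zpow_mem hvK _)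
  · rw [map_le_iff_le_comap]
    refine sup_le ?_ ?_
    · rw [Cfsg.pResidual, closure_le]
      intro w hw
      refine mem_comap.2 (mem_inf.2 ⟨mem_sup_left (subset_closure ?_), w.2⟩)
      show Nat.Coprime (orderOf (w : G)) p
      rw [Subgroup.orderOf_coe]; exact hw
    · rw [← map_le_iff_le_comap, map_subtype_commutator]
      exact le_inf (le_sup_of_le_right (commutator_mono le_top le_top)) (commutator_le_self H)

end Cfsg.Agent.S1242
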