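import Cfsg.Statements.S1244
import Cfsg.Agent.TwoGroups.TransferPow
import Cfsg.Agent.Transfer.Fusion

-- import your own Cfsg.Agent.* helpers here

set_option autoImplicit false
open Cfsg

namespace Cfsg.Agent.S1244

/-- Let G be a finite group with no subgroup of index 2 whose Sylow 2-subgroup S is commutative, and let R ≤ S be a subgroup whose 2-rank is exactly one less than the 2-rank r of S. Then every involution of S is conjugate, by an element of N_G(S), to an element of R. -/
theorem result {G : Type*} [Group G] [Finite G] (hG : ∀ H : Subgroup G, H.index ≠ 2) (S : Sylow 2 G) (hS : IsMulCommutative (S : Subgroup G)) (r : ℕ) (hr1 : 1 ≤ r) (hSr : Cfsg.PRankLE 2 r (S : Subgroup G) ∧ ¬ Cfsg.PRankLE 2 (r - 1) (S : Subgroup G)) (R : Subgroup G) (hRS : R ≤ S) (hRr : Cfsg.PRankLE 2 (r - 1) R ∧ (r = 1 ∨ ¬ Cfsg.PRankLE 2 (r - 2) R)) (t : G) (ht : orderOf t = 2) (htS : t ∈ S) : ∃ n ∈ Subgroup.normalizer ((S : Subgroup G) : Set G), n * t * n⁻¹ ∈ R := by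
  open Subgroup CfsgLib.TwoGroups in
  classical
  haveI : Fact (Nat.Prime 2) := ⟨Nat.prime_two⟩
  haveI := hS
  by_contra hno
  push Not at hno
  set N := normalizer ((S : Subgroup G) : Set G) with hN
  have hcomm : ∀ u ∈ (S : Subgroup G), ∀ v ∈ (S : Subgroup G), u * v = v * u := fun u hu v hv =>
    congrArg Subtype.val (IsMulCommutative.is_comm.comm (⟨u, hu⟩ : (S : Subgroup G)) ⟨v, hv⟩)
  -- the elementary abelian subgroup `V = Ω₁(S)` and its hyperplane `W = V ⊓ R`
  let V : Subgroup G :=
    { carrier := {v | v ∈ (S : Subgroup G) ∧ v * v = 1}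
      one_mem' := ⟨one_mem _, one_mul 1⟩
      mul_mem' := by
        rintro v w ⟨hv, hv2⟩ ⟨hw, hw2⟩
        refine ⟨mul_mem hv hw, ?_⟩
        rw [(show Commute w v from hcomm w hw v hv).mul_mul_mul_comm, hv2, hw2, one_mul]
      inv_mem' := by
        rintro v ⟨hv, hv2⟩
        exact ⟨inv_mem hv, by rw [← mul_inv_rev, hv2, inv_one]⟩ }
  have hVS : V ≤ (S : Subgroup G) := fun v hv => hv.1
  have hcard : ∀ (Y : Subgroup G), Y ≤ (S : Subgroup G) → ∀ j : ℕ, Cfsg.PRankLE 2 j Y →
      Nat.card (V ⊓ Y : Subgroup G) ≤ 2 ^ j := by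
    intro Y hY j hj
    rw [← Nat.card_congr (subgroupOfEquivOfLe (inf_le_right : V ⊓ Y ≤ Y)).toEquiv]
    refine hj _ ⟨⟨fun u v => ?_⟩⟩ fun u hu => Subtype.ext ?_
    · apply Subtype.ext; apply Subtype.ext
      exact hcomm _ (hY u.1.2) _ (hY v.1.2)
    · rw [coe_pow, coe_one, sq]; exact (mem_subgroupOf.1 hu).1.2
  have hcard' : ∀ (Y : Subgroup G), Y ≤ (S : Subgroup G) → ∀ j : ℕ, ¬ Cfsg.PRankLE 2 j Y →
      2 ^ j < Nat.card (V ⊓ Y : Subgroup G) := by
    intro Y hY j hj
    simp only [Cfsg.PRankLE, not_forall, not_le] at hj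
    obtain ⟨A, hA, hAe, hlt⟩ := hj
    refine lt_of_lt_of_le hlt ?_
    rw [← card_map_of_injective (f := Y.subtype) (Subgroup.subtype_injective Y)]
    refine card_le_of_le ?_
    rintro _ ⟨a, ha, rfl⟩
    exact ⟨⟨hY a.2, by rw [← sq, ← map_pow, hAe a ha, map_one]⟩, a.2⟩
  have hVV : V ⊓ (S : Subgroup G) = V := inf_eq_left.2 hVS
  have hpV : IsPGroup 2 V := S.2.to_le hVS
  obtain ⟨a, ha⟩ := hpV.exists_card_eq
  have har : a = r := by
    have h1 := hcard _ le_rfl r hSr.1
    have h2 := hcard' _ le_rfl (r - 1) hSr.2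
    rw [hVV, ha] at h1 h2
    have := (Nat.pow_le_pow_iff_right one_lt_two).1 h1
    have := (Nat.pow_lt_pow_iff_right one_lt_two).1 h2
    omega
  subst har
  set W := V ⊓ R with hW
  obtain ⟨b, hb⟩ := (hpV.to_le (inf_le_left : W ≤ V)).exists_card_eq
  have hba : b = a - 1 := by
    have h1 := hcard R hRS (a - 1) hRr.1
    rw [← hW, hb] at h1
    have := (Nat.pow_le_pow_iff_right one_lt_two).1 h1
    rcases hRr.2 with h | h
    · omega
    · have h2 := hcard' R hRS (a - 2) h
      rw [← hW, hb] at h2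
      have := (Nat.pow_lt_pow_iff_right one_lt_two).1 h2
      omega
  have hidx : W.relIndex V = 2 := by
    have := relIndex_mul_relIndex ⊥ W V bot_le inf_le_left
    rw [relIndex_bot_left, relIndex_bot_left, ha, hb, hba] at this
    rw [show (2 : ℕ) ^ a = 2 ^ (a - 1) * 2 by rw [← pow_succ]; congr 1; omega] at this
    exact Nat.eq_of_mul_eq_mul_left (pow_pos two_pos _) this
  have hWV : (W.subgroupOf V).index = 2 := hidx
  -- the orbit of `t`
  let conjS : N → G := fun n => (n : G) * t * (n : G)⁻¹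
  let O : Finset G := (Set.finite_range conjS).toFinset
  have hmemO : ∀ v, v ∈ O ↔ ∃ n : N, (n : G) * t * (n : G)⁻¹ = v := fun v => by
    simp [O, conjS]
  have htV : t ∈ V := ⟨htS, by rw [← sq, ← ht, pow_orderOf_eq_one]⟩
  have hNV : ∀ n ∈ N, ∀ v ∈ V, n * v * n⁻¹ ∈ V := fun n hn v hv =>
    ⟨(mem_normalizer_iff.1 hn v).1 hv.1,
      by rw [show n * v * n⁻¹ * (n * v * n⁻¹) = n * (v * v) * n⁻¹ by group, hv.2, mul_one,
        mul_inv_cancel]⟩
  have hOV : ∀ v ∈ O, v ∈ V := by
    intro v hv
    obtain ⟨n, rfl⟩ := (hmemO v).1 hv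
    exact hNV n n.2 t htV
  have hOR : ∀ v ∈ O, v ∉ W := by
    intro v hv h
    obtain ⟨n, rfl⟩ := (hmemO v).1 hv
    exact hno n n.2 h.2
  -- the orbit has odd size
  have hOodd : Odd O.card := by
    let St : Subgroup N := (centralizer ({t} : Set G)).subgroupOf N
    have hSN : (S : Subgroup G).subgroupOf N ≤ St := fun s hs => by
      rw [mem_subgroupOf, mem_centralizer_singleton_iff]
      exact hcomm _ (mem_subgroupOf.1 hs) _ htS
    have hodd : Odd ((S : Subgroup G).relIndex N) := by
      rw [← Nat.not_even_iff_odd, even_iff_two_dvd]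
      exact fun h => S.not_dvd_index (h.trans (relIndex_dvd_index_of_le le_normalizer))
    have hSt : Odd St.index := hodd.of_dvd_nat (index_dvd_of_le hSN)
    have hbij : O.card = St.index := by
      rw [← Nat.card_eq_finsetCard O]
      refine (Nat.card_congr (Equiv.ofBijective
        (Quotient.lift (fun n : N => (⟨(n : G) * t * (n : G)⁻¹, (hmemO _).2 ⟨n, rfl⟩⟩ : O))
          fun n n' h => ?_) ⟨?_, ?_⟩)).symm
      · have h' : ((n⁻¹ * n' : N) : G) * t = t * ((n⁻¹ * n' : N) : G) :=
          mem_centralizer_singleton_iff.1 (mem_subgroupOf.1 (QuotientGroup.leftRel_apply.1 h))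
        apply Subtype.ext
        show (n : G) * t * (n : G)⁻¹ = (n' : G) * t * (n' : G)⁻¹
        calc (n : G) * t * (n : G)⁻¹
            = (n : G) * (t * ((n⁻¹ * n' : N) : G)) * (n' : G)⁻¹ := by
              rw [coe_mul, coe_inv]; group
          _ = _ := by rw [← h', coe_mul, coe_inv]; group
      · intro q q' h
        induction q using Quotient.inductionOn with
        | h n =>
          induction q' using Quotient.inductionOn with
          | h n' =>
            have h' : (n : G) * t * (n : G)⁻¹ = (n' : G) * t * (n' : G)⁻¹ :=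
              congrArg Subtype.val h
            refine Quotient.sound (QuotientGroup.leftRel_apply.2 (mem_subgroupOf.2
              (mem_centralizer_singleton_iff.2 ?_)))
            calc ((n⁻¹ * n' : N) : G) * t
                = (n : G)⁻¹ * ((n' : G) * t * (n' : G)⁻¹) * (n' : G) := by
                  rw [coe_mul, coe_inv]; group
              _ = t * ((n⁻¹ * n' : N) : G) := by rw [← h', coe_mul, coe_inv]; group
      · rintro ⟨v, hv⟩
        obtain ⟨n, rfl⟩ := (hmemO v).1 hv
        exact ⟨Quotient.mk'' n, rfl⟩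
    rw [hbij]; exact hSt
  -- the product of the orbit
  let S' : Subgroup G := (S : Subgroup G)
  letI : CommGroup S' :=
    { (inferInstance : Group S') with mul_comm := fun u v => Subtype.ext (hcomm _ u.2 _ v.2) }
  let f : G → S' := fun v => if h : v ∈ S' then ⟨v, h⟩ else 1
  have hf : ∀ v ∈ O, (f v : G) = v := fun v hv => by simp [f, show v ∈ S' from (hOV v hv).1]
  set P : G := ((∏ v ∈ O, f v : S') : G) with hP
  have hPV : P ∈ V := by
    refine ⟨(∏ v ∈ O, f v : S').2, ?_⟩
    rw [hP, ← coe_mul, ← Finset.prod_mul_distrib]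
    refine (congrArg Subtype.val (Finset.prod_eq_one fun v hv => ?_)).trans (coe_one S')
    apply Subtype.ext
    rw [coe_mul, hf v hv, (hOV v hv).2, coe_one]
  have hPW : P ∉ W := by
    have key : ∀ s : Finset G, s ⊆ O →
        ((∏ v ∈ s, f v : S') : G) ∈ V ∧ (((∏ v ∈ s, f v : S') : G) ∈ W ↔ Even s.card) := by
      intro s
      induction s using Finset.induction with
      | empty => intro _; simp
      | insert v s hv ih =>
        intro hs
        have hvO : v ∈ O := hs (Finset.mem_insert_self v s)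
        obtain ⟨h1, h2⟩ := ih fun w hw => hs (Finset.mem_insert_of_mem hw)
        rw [Finset.prod_insert hv, Finset.card_insert_of_notMem hv, coe_mul, hf v hvO]
        refine ⟨mul_mem (hOV v hvO) h1, ?_⟩
        have := mul_mem_iff_of_index_two hWV (a := ⟨v, hOV v hvO⟩) (b := ⟨_, h1⟩)
        simp only [mem_subgroupOf, coe_mul] at this
        rw [this, h2, Nat.even_add_one]
        exact ⟨fun h he => hOR v hvO (h.2 he), fun h => iff_of_false (hOR v hvO) h⟩
    rw [hP, (key O subset_rfl).2]
    exact Nat.not_even_iff_odd.2 hOodd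
  have hPfix : ∀ n ∈ N, n * P * n⁻¹ = P := by
    intro n hn
    have himg : O.image (fun v => n * v * n⁻¹) = O := by
      refine Finset.eq_of_subset_of_card_le ?_ ?_
      · intro v hv
        obtain ⟨w, hw, rfl⟩ := Finset.mem_image.1 hv
        obtain ⟨m, rfl⟩ := (hmemO w).1 hw
        exact (hmemO _).2 ⟨⟨n, hn⟩ * m, by simp [mul_assoc]⟩
      · rw [Finset.card_image_of_injective _ (fun u v h => by simpa using h)]
    let ψ : S' →* S' :=
      ((MulAut.conj n).toMonoidHom.comp S'.subtype).codRestrict S'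
        fun s => (mem_normalizer_iff.1 hn s).1 s.2
    have h1 : ψ (∏ v ∈ O, f v) = ∏ v ∈ O, f v := by
      rw [map_prod]
      conv_rhs => rw [← himg, Finset.prod_image (fun u _ v _ h => by simpa using h)]
      refine Finset.prod_congr rfl fun v hv => Subtype.ext ?_
      show n * (f v : G) * n⁻¹ = _
      rw [hf v hv, hf _ (himg ▸ Finset.mem_image_of_mem _ hv)]
    exact congrArg Subtype.val h1
  -- transfer
  have hP1 : P ≠ 1 := fun h => hPW (h ▸ one_mem W)
  have hnot : P ∉ commutator G := by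
    refine notMem_commutator_of_transfer (p := 2) (H := (S : Subgroup G)) (K := ⊥) ?_ ?_ ?_
      (hVS hPV) (fun h => hP1 (mem_bot.1 h)) (k := 1) (by rw [pow_one, sq]; exact hPV.2) ?_
    · exact inferInstance
    · intro u hu v hv
      rw [mem_bot, hcomm u hu v hv, mul_inv_cancel_right, mul_inv_cancel]
    · exact Nat.prime_two.coprime_iff_not_dvd.2 S.not_dvd_index
    · intro m a hm
      obtain ⟨n, hn, e⟩ := CfsgLib.Transfer.controlsFusion_normalizer_of_isMulCommutative S hS
        (P ^ m) (zpow_mem (hVS hPV) m) a hm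
      rw [mem_bot, show a * P ^ m * a⁻¹ = n * P ^ m * n⁻¹ from e.symm, ← conj_zpow, hPfix n hn,
        mul_inv_cancel]
  obtain ⟨M, hM⟩ := exists_index_two_of_notMem_commutator hnot (k := 1)
    (by rw [pow_one, sq]; exact hPV.2)
  exact hG M hM

end Cfsg.Agent.S1244
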