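import Cfsg.Statements.S1247
import Cfsg.Agent.TwoGroups.Bender

set_option autoImplicit false
open Cfsg

namespace Cfsg.Agent.S1247

/-- Let G be a non-abelian finite simple group, A a maximal subgroup, F = F*(A) its generalized Fitting subgroup (viewed in G), and S ≤ F a subgroup subnormal in F with C_F(S) ≤ S. Let B be any subgroup of G containing S. Then (a) for every prime q not dividing |F(A)|, O_q(B) ∩ A = 1; and (b) for every prime p dividing |F(A)|, O_p(B) commutes elementwise with the subgroup of F generated by its elements of order prime to p. -/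
theorem result {G : Type*} [Group G] [Finite G] [IsSimpleGroup G] (hna : ¬ IsMulCommutative G) (A : Subgroup G) (hA : IsCoatom A) (S : Subgroup G) (hSF : S ≤ (Cfsg.generalizedFittingSubgroup ↥A).map A.subtype) (hSsn : (S.subgroupOf ((Cfsg.generalizedFittingSubgroup ↥A).map A.subtype)).IsSubnormal) (hSC : (Cfsg.generalizedFittingSubgroup ↥A).map A.subtype ⊓ Subgroup.centralizer (S : Set G) ≤ S) (B : Subgroup G) (hSB : S ≤ B) : (∀ q : ℕ, q.Prime → ¬ q ∣ Nat.card (Cfsg.fittingSubgroup ↥A) → (Cfsg.pCore q ↥B).map B.subtype ⊓ A = ⊥) ∧ (∀ p : ℕ, p.Prime → p ∣ Nat.card (Cfsg.fittingSubgroup ↥A) → ∀ x ∈ (Cfsg.pCore p ↥B).map B.subtype, ∀ y ∈ (Cfsg.pResidual p ↥(Cfsg.generalizedFittingSubgroup ↥A)).map ((Cfsg.generalizedFittingSubgroup ↥A).subtype) , x * (A.subtype y) = (A.subtype y) * x) := by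
  classical
  have hA1 : A ≠ ⊤ := hA.1
  have hFs : ((generalizedFittingSubgroup ↥A).map A.subtype) ≤ A := Subgroup.map_subtype_le _
  have hSA : S ≤ A := hSF.trans hFs
  set S' := S.subgroupOf A with hS'def
  have hSF' : S' ≤ generalizedFittingSubgroup ↥A := fun x hx => by
    obtain ⟨z, hz, he⟩ := hSF hx
    exact (Subtype.ext he : z = x) ▸ hz
  have hS' : S'.IsSubnormal := by
    refine CfsgLib.TwoGroups.Bender.isSubnormal_of_le_fstar hSF' ?_
    let e := (generalizedFittingSubgroup ↥A).equivMapOfInjective A.subtype A.subtype_injective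
    exact hSsn.comap e.toMonoidHom
  have hC' : generalizedFittingSubgroup ↥A ⊓ Subgroup.centralizer (S' : Set ↥A) ≤ S' := fun x hx => by
    refine hSC ⟨⟨x, hx.1, rfl⟩, Subgroup.mem_centralizer_iff.2 fun s hs => ?_⟩
    exact congrArg Subtype.val (Subgroup.mem_centralizer_iff.1 hx.2 ⟨s, hSA hs⟩ hs)
  have key : ∀ (r : ℕ) [Fact r.Prime] (x : ↥A), x ∈ generalizedFittingSubgroup ↥A →
      (orderOf x).Coprime r → x ∈ Subgroup.centralizer
        (((pCore r ↥B).map B.subtype).subgroupOf A : Set ↥A) := fun r _ x hx ho =>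
    CfsgLib.TwoGroups.Bender.commute_fstar hSF' hS' hC'
      ((CfsgLib.LocalStructure.pCoreOf_isPGroup B).comap_of_injective A.subtype A.subtype_injective)
      (fun s hs => Subgroup.mem_normalizer_iff.2 fun u =>
        Subgroup.mem_normalizer_iff.1 (CfsgLib.LocalStructure.le_normalizer_pCoreOf B (hSB hs)) u)
      hx ho
  refine ⟨fun q hq hndvd => ?_, fun p hp hdvd => ?_⟩
  · have : Fact q.Prime := ⟨hq⟩
    set Q := (pCore q ↥B).map B.subtype with hQ
    have hQc : Q.subgroupOf A ≤ Subgroup.centralizer (generalizedFittingSubgroup ↥A : Set ↥A) := by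
      rw [Subgroup.le_centralizer_iff, generalizedFittingSubgroup]
      refine sup_le ?_ fun f hf => key q f (Subgroup.mem_sup_right hf)
        (CfsgLib.Transfer.coprime_orderOf_of_mem hndvd hf)
      rw [← CfsgLib.CharPLocal.pResOf_eq_self_of_perfect (p := q) CfsgLib.Components.layer_commutator_self]
      exact CfsgLib.LocalStructure.pResOf_le_of_forall fun g hg hgo => key q g (Subgroup.mem_sup_left hg) hgo
    rw [eq_bot_iff]
    intro x hx
    have hxF := CfsgLib.Components.centralizer_generalizedFitting_le (hQc (show (⟨x, hx.2⟩ : ↥A) ∈ Q.subgroupOf A from hx.1))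
    obtain ⟨k, hk⟩ := CfsgLib.LocalStructure.pCoreOf_isPGroup (p := q) B ⟨x, hx.1⟩
    have := CfsgLib.TwoGroups.Bender.eq_one_of_pow_mem hndvd hxF (k := k)
      (Subtype.ext (congrArg Subtype.val hk : x ^ q ^ k = 1))
    exact Subgroup.mem_bot.2 (congrArg Subtype.val this)
  · have : Fact p.Prime := ⟨hp⟩
    set P := (pCore p ↥B).map B.subtype with hP
    -- a central `p`-subgroup
    set Z : Subgroup ↥A := (Subgroup.center ↥(pCore p ↥A)).map (pCore p ↥A).subtype with hZ
    have hPne : pCore p ↥A ≠ ⊥ := fun h =>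
      (Nat.Prime.coprime_iff_not_dvd hp).1 (CfsgLib.LocalStructure.coprime_card_fitting h).symm hdvd
    have hZp : pCore p ↥A ≤ Cfsg.fittingSubgroup ↥A := CfsgLib.Components.pCore_le_fittingSubgroup p
    have : (pCore p ↥A).Normal := CfsgLib.LocalStructure.pCore_normal
    have hZn : Z.Normal := by rw [hZ]; infer_instance
    have hZle : Z ≤ pCore p ↥A := Subgroup.map_subtype_le _
    have hZS : Z ≤ S' := by
      intro z hz
      refine hC' ⟨Subgroup.mem_sup_right (hZp (hZle hz)), Subgroup.mem_centralizer_iff.2 fun s hs => ?_⟩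
      have hs' := hSF' hs
      rw [generalizedFittingSubgroup, ← SetLike.mem_coe, Subgroup.normal_mul] at hs'
      obtain ⟨e, he, f, hf, rfl⟩ := hs'
      obtain ⟨a, b, ha', hb', ⟨k, hk⟩, hb, hab⟩ := CfsgLib.LocalStructure.exists_pPart_mul (p := p) f
      have h1 : Commute e z := (Subgroup.mem_centralizer_iff.1
        (CfsgLib.Components.layer_le_centralizer_fittingSubgroup he) z (hZp (hZle hz))).symm
      have haP := CfsgLib.TwoGroups.Bender.mem_pCore_of_mem_fitting ((Subgroup.zpowers_le.2 hf) ha') hk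
      have h3 : Commute b z :=
        (CfsgLib.TwoGroups.Bender.pCore_commute_of_coprime
          (Subgroup.mem_sup_right ((Subgroup.zpowers_le.2 hf) hb')) hb z (hZle hz)).symm
      obtain ⟨z', hz', rfl⟩ := hz
      have h2 : Commute a (z' : ↥A) :=
        congrArg Subtype.val (Subgroup.mem_center_iff.1 hz' ⟨a, haP⟩)
      rw [← hab]
      exact (h1.mul_left (h2.mul_left h3)).eq
    have hnorm : ∀ M : Subgroup ↥A, M.Normal → M ≠ ⊥ →
        Subgroup.normalizer (M.map A.subtype : Set G) = A := by
      intro M hM hMne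
      have hle : A ≤ Subgroup.normalizer (M.map A.subtype : Set G) := by
        refine (Subgroup.normal_subgroupOf_iff_le_normalizer (Subgroup.map_subtype_le M)).1 ?_
        rwa [Subgroup.subgroupOf, Subgroup.comap_map_eq_self_of_injective A.subtype_injective]
      refine ((hA.le_iff.1 hle).resolve_left fun h => ?_)
      have := Subgroup.normalizer_eq_top_iff.1 h
      rcases this.eq_bot_or_eq_top with h' | h'
      · exact hMne ((Subgroup.map_eq_bot_iff_of_injective _ A.subtype_injective).1 h')
      · exact hA1 (top_le_iff.1 (h'.ge.trans (Subgroup.map_subtype_le M)))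
    have hcent : ∀ M : Subgroup ↥A, M.Normal → M ≠ ⊥ →
        Subgroup.centralizer (M.map A.subtype : Set G) ≤ A := fun M hM hMne =>
      (Subgroup.centralizer_le_normalizer _).trans (hnorm M hM hMne).le
    have hZne : Z ≠ ⊥ := by
      rw [hZ, Ne, Subgroup.map_eq_bot_iff_of_injective _ (Subgroup.subtype_injective _)]
      have : Nontrivial ↥(pCore p ↥A) := (Subgroup.nontrivial_iff_ne_bot _).2 hPne
      exact (Subgroup.nontrivial_iff_ne_bot _).1 CfsgLib.LocalStructure.pCore_isPGroup.center_nontrivial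
    -- `p'`-elements of `S` centralize `P`
    have hPS : ∀ x ∈ S', (orderOf x).Coprime p → (x : G) ∈ Subgroup.centralizer (P : Set G) := by
      intro x hx ho
      refine CfsgLib.CharPLocal.commute_of_axb (p := p) (CfsgLib.LocalStructure.pCoreOf_isPGroup B)
        ((CfsgLib.LocalStructure.pCore_isPGroup.to_le hZle).map A.subtype)
        (by rwa [Subgroup.orderOf_coe]) (CfsgLib.LocalStructure.le_normalizer_pCoreOf B (hSB hx)) ?_ ?_ ?_
      · refine Subgroup.mem_centralizer_iff.2 ?_
        rintro _ ⟨z, hz, rfl⟩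
        exact congrArg Subtype.val
          (CfsgLib.TwoGroups.Bender.pCore_commute_of_coprime (hSF' hx) ho z (hZle hz))
      · rintro _ ⟨z, hz, rfl⟩
        exact CfsgLib.LocalStructure.le_normalizer_pCoreOf B (hSB (hZS hz))
      · intro u hu hu'
        have huA : u ∈ A := hcent Z hZn hZne hu'
        exact congrArg Subtype.val (Subgroup.mem_centralizer_iff.1 (key p x (hSF' hx) ho) ⟨u, huA⟩ hu)
    -- `P` lies in `A` unless `O^p(F*) = 1`
    set M := layer ↥A ⊔ (Subgroup.center ↥(CfsgLib.TwoGroups.Bender.fitPrime p ↥A)).map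
      (CfsgLib.TwoGroups.Bender.fitPrime p ↥A).subtype with hM
    have hMn : M.Normal := by rw [hM]; exact Subgroup.sup_normal _ _
    have hlayer : layer ↥A ≤ S' := CfsgLib.TwoGroups.Bender.layer_le hS' hC'
    have hMc : P ≤ Subgroup.centralizer (M.map A.subtype : Set G) := by
      rw [Subgroup.le_centralizer_iff, Subgroup.map_le_iff_le_comap]
      refine sup_le ?_ ?_
      · rw [← CfsgLib.CharPLocal.pResOf_eq_self_of_perfect (p := p) CfsgLib.Components.layer_commutator_self]
        exact CfsgLib.LocalStructure.pResOf_le_of_forall fun g hg hgo => hPS g (hlayer hg) hgo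
      · rintro _ ⟨w, hw, rfl⟩
        refine hPS _ (hC' ⟨Subgroup.mem_sup_right (CfsgLib.TwoGroups.Bender.fitPrime_le w.2),
          Subgroup.mem_centralizer_iff.2 fun s hs => ?_⟩)
          (CfsgLib.Transfer.coprime_orderOf_of_mem CfsgLib.TwoGroups.Bender.not_dvd_card_fitPrime w.2)
        have hs' := hSF' hs
        rw [generalizedFittingSubgroup, ← SetLike.mem_coe, Subgroup.normal_mul] at hs'
        obtain ⟨e, he, f, hf, rfl⟩ := hs'
        obtain ⟨a, b, ha', hb', ⟨k, hk⟩, hb, hab⟩ := CfsgLib.LocalStructure.exists_pPart_mul (p := p) f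
        have h1 : Commute e (w : ↥A) := (Subgroup.mem_centralizer_iff.1
          (CfsgLib.Components.layer_le_centralizer_fittingSubgroup he) w
          (CfsgLib.TwoGroups.Bender.fitPrime_le w.2)).symm
        have haP := CfsgLib.TwoGroups.Bender.mem_pCore_of_mem_fitting ((Subgroup.zpowers_le.2 hf) ha') hk
        have h2 : Commute a (w : ↥A) := CfsgLib.TwoGroups.Bender.commute_pCore_fitPrime a haP w w.2
        have h3 : Commute b (w : ↥A) := congrArg Subtype.val (Subgroup.mem_center_iff.1 hw
          ⟨b, CfsgLib.LocalStructure.mem_pResOf ((Subgroup.zpowers_le.2 hf) hb') hb⟩)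
        rw [← hab]
        exact (h1.mul_left (h2.mul_left h3)).eq
    intro x hx y hy
    by_cases hMb : M = ⊥
    · rw [hM, sup_eq_bot_iff] at hMb
      have hW : CfsgLib.TwoGroups.Bender.fitPrime p ↥A = ⊥ := by
        by_contra hne
        have := CfsgLib.TwoGroups.Bender.isNilpotent_fitPrime (p := p) (X := ↥A)
        have : Nontrivial ↥(CfsgLib.TwoGroups.Bender.fitPrime p ↥A) :=
          (Subgroup.nontrivial_iff_ne_bot _).2 hne
        have h := hMb.2
        rw [Subgroup.map_eq_bot_iff_of_injective _ (Subgroup.subtype_injective _)] at h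
        exact Group.IsNilpotent.center_ne_bot (G := ↥(CfsgLib.TwoGroups.Bender.fitPrime p ↥A)) h
      obtain ⟨z, hz, rfl⟩ := hy
      have hbot : CfsgLib.LocalStructure.pResOf p (generalizedFittingSubgroup ↥A) ≤ ⊥ := by
        refine CfsgLib.LocalStructure.pResOf_le_of_forall fun g hg hgo => ?_
        have := CfsgLib.TwoGroups.Bender.mem_sup_of_coprime hg hgo
        rwa [hMb.1, hW, bot_sup_eq] at this
      rw [← CfsgLib.LocalStructure.map_pResidual] at hbot
      have hz1 := hbot ⟨z, hz, rfl⟩
      rw [Subgroup.mem_bot] at hz1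
      rw [hz1, map_one, mul_one, one_mul]
    · have hxA : x ∈ A := hcent M hMn hMb (hMc hx)
      have hle : CfsgLib.LocalStructure.pResOf p (generalizedFittingSubgroup ↥A) ≤ Subgroup.centralizer (P.subgroupOf A : Set ↥A) :=
        CfsgLib.LocalStructure.pResOf_le_of_forall fun g hg hgo => key p g hg hgo
      rw [← CfsgLib.LocalStructure.map_pResidual] at hle
      exact congrArg Subtype.val (Subgroup.mem_centralizer_iff.1 (hle hy) ⟨x, hxA⟩ hx)

end Cfsg.Agent.S1247
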