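import Cfsg.Statements.S1249
import Cfsg.Agent.TwoGroups.Closed

-- import your own Cfsg.Agent.* helpers here

set_option autoImplicit false
open Cfsg

namespace Cfsg.Agent.S1249

/-- Let P and Q be Sylow p-subgroups of the finite group G both containing the subgroup A. If A is strongly closed in P, then A is strongly closed in Q. -/
theorem result {G : Type*} [Group G] [Finite G] {p : ℕ} [Fact p.Prime] (P Q : Sylow p G) (A : Subgroup G) (hAQ : A ≤ Q) (hA : Cfsg.IsStronglyClosed A (P : Subgroup G)) : Cfsg.IsStronglyClosed A (Q : Subgroup G) := by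
  obtain ⟨h, rfl⟩ := MulAction.exists_smul_eq G P Q
  have key : ∀ x ∈ A, h⁻¹ * x * h ∈ A := fun x hx => by
    have h1 := hA.2 x hx h⁻¹
    rw [inv_inv] at h1
    exact h1 (CfsgLib.Closed.eq_of_le_isPGroup.mem_smul_iff'.1 (hAQ hx))
  refine ⟨hAQ, fun x hx g hg => ?_⟩
  have h2 : h⁻¹ * (g * x * g⁻¹) * h ∈ A := by
    have h3 := hA.2 x hx (h⁻¹ * g)
    rw [show h⁻¹ * g * x * (h⁻¹ * g)⁻¹ = h⁻¹ * (g * x * g⁻¹) * h by group] at h3
    exact h3 (CfsgLib.Closed.eq_of_le_isPGroup.mem_smul_iff'.1 hg)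
  have hle : A.map (MulAut.conj h⁻¹).toMonoidHom ≤ A := by
    rintro _ ⟨a, ha, rfl⟩; simpa using key a ha
  have heq := Subgroup.eq_of_le_of_card_ge hle
    (Subgroup.card_map_of_injective (MulAut.conj h⁻¹).injective).ge
  rw [← heq] at h2
  obtain ⟨a, ha, e⟩ := h2
  simp only [MulEquiv.coe_toMonoidHom, MulAut.conj_apply, inv_inv] at e
  have e' : g * x * g⁻¹ = a := by
    calc g * x * g⁻¹ = h * (h⁻¹ * (g * x * g⁻¹) * h) * h⁻¹ := by group
      _ = h * (h⁻¹ * a * h) * h⁻¹ := by rw [e]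
      _ = a := by group
  rw [e']
  exact ha

end Cfsg.Agent.S1249
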