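import Cfsg.Statements.S1253
import Cfsg.Agent.TwoGroups.IsolatedZStar

-- import your own Cfsg.Agent.* helpers here

set_option autoImplicit false
open Cfsg

namespace Cfsg.Agent.S1253

/-- Let z be an isolated involution of the finite group G with centralizer C, p an odd prime and P a Sylow p-subgroup of G normalized by z. Then P ∩ C has p-power-free index in C (it is a Sylow p-subgroup of C), and |P : C_P(z)| equals the number of elements x ∈ P with z x z⁻¹ = x⁻¹. -/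
theorem result {G : Type*} [Group G] [Finite G] (z : G) (hz : Cfsg.IsIsolatedInvolution z) {p : ℕ} [Fact p.Prime] (hp : p ≠ 2) (P : Sylow p G) (hzP : z ∈ Subgroup.normalizer ((P : Subgroup G) : Set G)) : ¬ p ∣ ((P : Subgroup G) ⊓ Subgroup.centralizer ({z} : Set G)).relIndex (Subgroup.centralizer ({z} : Set G)) ∧ ((P : Subgroup G) ⊓ Subgroup.centralizer ({z} : Set G)).relIndex (P : Subgroup G) = Nat.card {x : G // x ∈ P ∧ z * x * z⁻¹ = x⁻¹} := by
  open Subgroup in
  classical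
  refine ⟨CfsgLib.TwoGroups.invariant_sylow_inf_centralizer hz hp P hzP, ?_⟩
  have hzz : z * z = 1 := by rw [← sq, ← hz.1, pow_orderOf_eq_one]
  have hzi : z⁻¹ = z := inv_eq_of_mul_eq_one_right hzz
  have hzP' : ∀ x ∈ (P : Subgroup G), z * x * z⁻¹ ∈ (P : Subgroup G) := fun x hx =>
    (mem_normalizer_iff.1 hzP x).1 hx
  have hodd : Odd (Nat.card (P : Subgroup G)) := by
    obtain ⟨k, hk⟩ := P.2.exists_card_eq
    rw [hk]; exact ((Fact.out : p.Prime).odd_of_ne_two hp).pow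
  let κ : ↥(P : Subgroup G) → {x : G // x ∈ P ∧ z * x * z⁻¹ = x⁻¹} := fun x =>
    ⟨(x : G)⁻¹ * (z * x * z⁻¹), mul_mem (inv_mem x.2) (hzP' _ x.2), by
      calc z * ((x : G)⁻¹ * (z * x * z⁻¹)) * z⁻¹
          = (z * (x : G)⁻¹ * z⁻¹) * (z * z * (x : G) * (z⁻¹ * z⁻¹)) := by
            conv_lhs => rw [show z * ((x : G)⁻¹ * (z * x * z⁻¹)) * z⁻¹ =
              (z * (x : G)⁻¹ * z⁻¹) * (z * z * (x : G) * (z⁻¹ * z⁻¹)) by group]
        _ = ((x : G)⁻¹ * (z * x * z⁻¹))⁻¹ := by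
            rw [hzz, ← mul_inv_rev, hzz, inv_one, one_mul, mul_one]; group⟩
  have key : ∀ x y : (P : Subgroup G), κ x = κ y ↔
      ((y * x⁻¹ : (P : Subgroup G)) : G) ∈ (P : Subgroup G) ⊓ centralizer ({z} : Set G) := by
    intro x y
    rw [Subgroup.mem_inf, mem_centralizer_singleton_iff]
    simp only [κ, Subtype.mk.injEq, coe_mul, coe_inv]
    constructor
    · intro h
      refine ⟨mul_mem y.2 (inv_mem x.2), ?_⟩
      have h' : (y : G) * ((x : G)⁻¹ * (z * x * z⁻¹)) = z * y * z⁻¹ := by rw [h]; group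
      calc (y : G) * (x : G)⁻¹ * z = (y : G) * ((x : G)⁻¹ * (z * x * z⁻¹)) * (z * (x : G)⁻¹) := by
            group
        _ = z * ((y : G) * (x : G)⁻¹) := by rw [h']; group
    · rintro ⟨-, h⟩
      calc (x : G)⁻¹ * (z * x * z⁻¹)
          = (y : G)⁻¹ * (((y : G) * (x : G)⁻¹) * z) * x * z⁻¹ := by group
        _ = (y : G)⁻¹ * (z * y * z⁻¹) := by rw [h]; group
  rw [relIndex, index]
  refine (Nat.card_congr (QuotientGroup.quotientRightRelEquivQuotientLeftRel _).symm).trans ?_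
  refine Nat.card_congr (Equiv.ofBijective (Quotient.lift κ fun x y h => (key x y).2 ?_) ⟨?_, ?_⟩)
  · exact mem_subgroupOf.1 (QuotientGroup.rightRel_apply.1 h)
  · intro q q' h
    induction q using Quotient.inductionOn with
    | h x =>
      induction q' using Quotient.inductionOn with
      | h y =>
        exact Quotient.sound (QuotientGroup.rightRel_apply.2 (mem_subgroupOf.2 ((key x y).1 h)))
  · rintro ⟨i, hi, hinv⟩
    obtain ⟨e, he⟩ := hodd.of_dvd_nat (orderOf_dvd_natCard (⟨i, hi⟩ : (P : Subgroup G)))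
    rw [orderOf_mk] at he
    refine ⟨Quotient.mk'' ⟨(i ^ (e + 1))⁻¹, inv_mem (pow_mem hi _)⟩, Subtype.ext ?_⟩
    show (i ^ (e + 1))⁻¹⁻¹ * (z * (i ^ (e + 1))⁻¹ * z⁻¹) = i
    rw [inv_inv, show z * (i ^ (e + 1))⁻¹ * z⁻¹ = (z * i ^ (e + 1) * z⁻¹)⁻¹ by group, ← conj_pow,
      hinv, inv_pow, inv_inv, ← pow_add, show e + 1 + (e + 1) = (2 * e + 1) + 1 by ring, ← he,
      pow_succ, pow_orderOf_eq_one, one_mul]

end Cfsg.Agent.S1253
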