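import Cfsg.Statements.S1256
import Cfsg.Agent.TwoGroups.DihedralSylow
import Cfsg.Agent.TwoGroups.Automizer

-- import your own Cfsg.Agent.* helpers here

set_option autoImplicit false
open Cfsg

namespace Cfsg.Agent.S1256

/-- Let X be a finite group whose Sylow 2-subgroup S is dihedral of order 2m ≥ 4. If |S| = 4, any two Klein four-subgroups of X are conjugate; if |S| > 4, there are Klein four-subgroups U₁, U₂ of X that are not conjugate, and every Klein four-subgroup of X is conjugate to U₁ or to U₂. -/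
theorem result {X : Type*} [Group X] [Finite X] (S : Sylow 2 X) (m : ℕ) (hm : 2 ≤ m) (eS : (S : Subgroup X) ≃* DihedralGroup m) : (Nat.card S = 4 → ∀ U V : Subgroup X, IsKleinFour U → IsKleinFour V → (∃ x : X, U.map (MulAut.conj x).toMonoidHom = V)) ∧ (4 < Nat.card S → ∃ U₁ U₂ : Subgroup X, IsKleinFour U₁ ∧ IsKleinFour U₂ ∧ ¬ (∃ x : X, U₁.map (MulAut.conj x).toMonoidHom = U₂) ∧ ∀ V : Subgroup X, IsKleinFour V → (∃ x : X, V.map (MulAut.conj x).toMonoidHom = U₁) ∨ (∃ x : X, V.map (MulAut.conj x).toMonoidHom = U₂)) := by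
  open Subgroup CfsgLib.TwoGroups in
  haveI : Fact (Nat.Prime 2) := ⟨Nat.prime_two⟩
  haveI : NeZero m := ⟨by omega⟩
  obtain ⟨k, hk⟩ := S.isPGroup'.exists_card_eq
  have hcard : Nat.card (S : Subgroup X) = 2 * m := by
    rw [Nat.card_congr eS.toEquiv, DihedralGroup.nat_card]
  have hmove : ∀ V : Subgroup X, IsKleinFour V →
      ∃ x : X, V.map (MulAut.conj x).toMonoidHom ≤ (S : Subgroup X) := by
    intro V hV
    obtain ⟨h, -, hh⟩ := exists_conj_mem_sylow S (N := ⊤) le_top le_top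
      (IsPGroup.of_card (n := 2) (hV.card_four.trans (by norm_num)) : IsPGroup 2 V)
    exact ⟨h, by rintro _ ⟨v, hv, rfl⟩; exact hh v hv⟩
  have hklein : ∀ (V : Subgroup X) (x : X), IsKleinFour V →
      IsKleinFour (V.map (MulAut.conj x).toMonoidHom) := by
    intro V x hV
    refine isKleinFour_iff.2 ⟨?_, ?_⟩
    · rw [card_map_of_injective (MulAut.conj x).injective]; exact hV.card_four
    · rintro _ ⟨v, hv, rfl⟩
      rw [← map_mul, (isKleinFour_iff.1 hV).2 v hv, map_one]
  refine ⟨fun h4 U V hU hV => ?_, fun h4 => ?_⟩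
  · obtain ⟨x, hx⟩ := hmove U hU
    obtain ⟨y, hy⟩ := hmove V hV
    have e1 : U.map (MulAut.conj x).toMonoidHom = (S : Subgroup X) :=
      eq_of_le_of_card_ge hx (by rw [(hklein U x hU).card_four]; exact h4.le)
    have e2 : V.map (MulAut.conj y).toMonoidHom = (S : Subgroup X) :=
      eq_of_le_of_card_ge hy (by rw [(hklein V y hV).card_four]; exact h4.le)
    refine ⟨y⁻¹ * x, ?_⟩
    rw [← map_conj_map_conj', e1, ← e2, map_conj_map_conj', inv_mul_cancel, map_conj_one]
  · have h4' : 4 ∣ m := by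
      change 4 < Nat.card (S : Subgroup X) at h4
      rw [hk] at hcard h4
      obtain ⟨j, rfl⟩ : ∃ j, k = j + 3 := by
        refine ⟨k - 3, ?_⟩
        by_contra hlt
        have : 2 ^ k ≤ 2 ^ 2 := Nat.pow_le_pow_right two_pos (by omega)
        omega
      exact ⟨2 ^ j, by rw [pow_add] at hcard; omega⟩
    have hm2 : 2 ∣ m := dvd_trans (by norm_num) h4'
    have h0 := hasPar_centralizer (eS := eS) (hm := hm2) (0 : ZMod m)
    have h1 := hasPar_centralizer (eS := eS) (hm := hm2) (1 : ZMod m)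
    have e0 : par hm2 0 = 0 := map_zero _
    have e1 : par hm2 1 = 1 := map_one _
    rw [e0] at h0
    rw [e1] at h1
    refine ⟨_, _, h0.1, h1.1, ?_, fun V hV => ?_⟩
    · rintro ⟨x, hx⟩
      exact absurd (h0.eq_of_conj h4' (x := x) (by rw [hx]; exact h1)) zero_ne_one
    · obtain ⟨x, hx⟩ := hmove V hV
      obtain ⟨ε, hε⟩ := exists_hasPar (eS := eS) (hm := hm2) (hklein V x hV) hx
      rcases (show ε = 0 ∨ ε = 1 by
          obtain ⟨-, -, i, hi, -⟩ := hε
          exact hi ▸ par_eq_zero_or_one i) with rfl | rfl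
      · obtain ⟨s, -, hs⟩ := hε.exists_conj h0
        exact Or.inl ⟨s * x, by rw [← map_conj_map_conj', hs]⟩
      · obtain ⟨s, -, hs⟩ := hε.exists_conj h1
        exact Or.inr ⟨s * x, by rw [← map_conj_map_conj', hs]⟩

end Cfsg.Agent.S1256
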