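import Cfsg.Statements.S1258

set_option autoImplicit false
open Cfsg

namespace Cfsg.Agent.S1258

/-- If the central quotient of a finite group X is non-abelian simple, then X = X' Z(X) and the commutator subgroup X' is quasisimple. -/
theorem result {X : Type*} [Group X] [Finite X] (hs : IsSimpleGroup (X ⧸ Subgroup.center X)) (hna : ¬ IsMulCommutative (X ⧸ Subgroup.center X)) : commutator X ⊔ Subgroup.center X = ⊤ ∧ Cfsg.IsQuasisimple ↥(commutator X) := by
  have := hs.toNontrivial
  have hperfQ : ⁅(⊤ : Subgroup (X ⧸ Subgroup.center X)), (⊤ : Subgroup (X ⧸ Subgroup.center X))⁆ = ⊤ :=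
    ((Subgroup.commutator_normal ⊤ ⊤).eq_bot_or_eq_top).resolve_left fun h =>
      hna ⟨⟨fun a b => commutatorElement_eq_one_iff_mul_comm.mp (by
          rw [← Subgroup.mem_bot, ← h]
          exact Subgroup.commutator_mem_commutator trivial trivial)⟩⟩
  have hmap : (commutator X).map (QuotientGroup.mk' (Subgroup.center X)) = ⊤ := by
    rw [commutator_def, Subgroup.map_commutator,
      Subgroup.map_top_of_surjective _ (QuotientGroup.mk'_surjective _), hperfQ]
  have h1 : commutator X ⊔ Subgroup.center X = ⊤ := by
    have := congrArg (Subgroup.comap (QuotientGroup.mk' (Subgroup.center X))) hmap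
    rwa [Subgroup.comap_map_eq, QuotientGroup.ker_mk', Subgroup.comap_top] at this
  refine ⟨h1, ?_⟩
  have hperf : Group.IsPerfect ↥(commutator X) := by
    rw [Subgroup.isPerfect_iff]
    refine le_antisymm (Subgroup.commutator_le_left _ _) ?_
    conv_lhs => rw [commutator_def]
    refine Subgroup.commutator_le.mpr fun a _ b _ => ?_
    obtain ⟨n, hn, z, hz, rfl⟩ := Subgroup.mem_sup_of_normal_left.mp (h1 ▸ Subgroup.mem_top a)
    obtain ⟨m, hm, w, hw, rfl⟩ := Subgroup.mem_sup_of_normal_left.mp (h1 ▸ Subgroup.mem_top b)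
    rw [commutatorElement_mul_left_eq_conj_mul,
      (show Commute z (m * w) from ((Subgroup.mem_center_iff.mp hz) _).symm).commutator_eq,
      commutatorElement_mul_right_eq_mul_conj,
      (show Commute n w from (Subgroup.mem_center_iff.mp hw) n).commutator_eq]
    simpa using Subgroup.commutator_mem_commutator hn hm
  let f : ↥(commutator X) →* X ⧸ Subgroup.center X :=
    (QuotientGroup.mk' (Subgroup.center X)).comp (commutator X).subtype
  have hsurj : Function.Surjective f := by
    intro q
    have hq : q ∈ (commutator X).map (QuotientGroup.mk' (Subgroup.center X)) := hmap ▸ Subgroup.mem_top q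
    obtain ⟨x, hx, rfl⟩ := hq
    exact ⟨⟨x, hx⟩, rfl⟩
  have hker : Subgroup.center ↥(commutator X) = f.ker := by
    ext x
    simp only [f, MonoidHom.mem_ker, MonoidHom.comp_apply, QuotientGroup.mk'_apply,
      QuotientGroup.eq_one_iff, Subgroup.coe_subtype, Subgroup.mem_center_iff]
    constructor
    · intro h y
      obtain ⟨n, hn, z, hz, rfl⟩ := Subgroup.mem_sup_of_normal_left.mp (h1 ▸ Subgroup.mem_top y)
      have e : n * (x : X) = x * n := congrArg Subtype.val (h ⟨n, hn⟩)
      rw [mul_assoc, ← Subgroup.mem_center_iff.mp hz x, ← mul_assoc, e, mul_assoc]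
    · intro h y
      exact Subtype.ext (h y)
  refine ⟨hperf, ?_⟩
  exact (((QuotientGroup.quotientMulEquivOfEq hker).trans
    (QuotientGroup.quotientKerEquivOfSurjective f hsurj)).isSimpleGroup_congr).mpr hs

end Cfsg.Agent.S1258
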