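import Cfsg.Statements.S1264
import Cfsg.Agent.Components.FStar

set_option autoImplicit false
open Cfsg

namespace Cfsg.Agent.S1264

/-- Let G be finite, C = C_G(F(G)) the centralizer of the Fitting subgroup, and N a solvable subgroup of C normalized by C. Then N ≤ Z(F(G)). -/
theorem result {G : Type*} [Group G] [Finite G] (N : Subgroup G) (hN : N ≤ Subgroup.centralizer (Cfsg.fittingSubgroup G : Set G)) (hnorm : Subgroup.centralizer (Cfsg.fittingSubgroup G : Set G) ≤ Subgroup.normalizer (N : Set G)) (hsolv : Group.IsSolvable ↥N) : N ≤ (Subgroup.center ↥(Cfsg.fittingSubgroup G)).map (Cfsg.fittingSubgroup G).subtype := by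
  have hCn : (Subgroup.centralizer (Cfsg.fittingSubgroup G : Set G)).Normal := Subgroup.normal_centralizer
  have hsn : N.IsSubnormal := Subgroup.IsSubnormal.step N _ hN hCn.isSubnormal
    ((Subgroup.normal_subgroupOf_iff_le_normalizer hN).mpr hnorm)
  have hle : N ≤ CfsgLib.Components.solvRadical G ⊓ Subgroup.centralizer (Cfsg.fittingSubgroup G : Set G) :=
    le_inf (CfsgLib.Components.le_solvRadical_of_isSubnormal hsn hsolv) hN
  have hF : CfsgLib.Components.solvRadical G ⊓ Subgroup.centralizer (Cfsg.fittingSubgroup G : Set G)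
      ≤ Cfsg.fittingSubgroup G :=
    CfsgLib.Components.le_fittingSubgroup_of_isSolvable
      (CfsgLib.Components.isSolvable_mono CfsgLib.Components.isSolvable_solvRadical inf_le_left)
      inf_le_right
  rw [CfsgLib.Components.map_subtype_center]
  exact le_inf (hle.trans hF) hN

end Cfsg.Agent.S1264
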