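import Cfsg.Statements.S1267
import Cfsg.Agent.Components.PLocal

set_option autoImplicit false
open Cfsg

namespace Cfsg.Agent.S1267

/-- Let G be finite and P ≤ O_p(G). Then E(N_G(P)) = E(G). -/
theorem result {G : Type*} [Group G] [Finite G] (p : ℕ) [Fact p.Prime] (P : Subgroup G) (hP : P ≤ Cfsg.pCore p G) : (Cfsg.layer ↥(Subgroup.normalizer ((P : Subgroup G) : Set G))).map (Subgroup.normalizer ((P : Subgroup G) : Set G)).subtype = Cfsg.layer G := by
  have hU := CfsgLib.Components.isPGroup_pCore (G := G) p
  have hPp : IsPGroup p P := hU.to_le hP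
  set C := Subgroup.centralizer (Cfsg.pCore p G : Set G) with hCdef
  have hCN : C ≤ Subgroup.normalizer (P : Set G) :=
    (Subgroup.centralizer_le (SetLike.coe_subset_coe.mpr hP)).trans
      (Subgroup.centralizer_le_normalizer _)
  apply le_antisymm
  · rw [Subgroup.map_le_iff_le_comap]
    refine sSup_le fun K hK => Subgroup.map_le_iff_le_comap.mp ?_
    have hKC := CfsgLib.Components.isComponent_normalizer_le_centralizer hPp hU
      Subgroup.le_normalizer_of_normal hK Subgroup.le_normalizer_of_normal
    refine CfsgLib.Components.IsComponent.le_layer ⟨?_, CfsgLib.Components.isQuasisimple_congr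
      (K.equivMapOfInjective _ (Subgroup.normalizer (P : Set G)).subtype_injective) hK.2⟩
    refine Subgroup.IsSubnormal.trans (K := C) hKC ?_ (Subgroup.Normal.isSubnormal inferInstance)
    have : (K.map (Subgroup.normalizer (P : Set G)).subtype).subgroupOf C =
        K.comap (Subgroup.inclusion hCN) := by
      ext x
      simp only [Subgroup.mem_subgroupOf, Subgroup.mem_comap, Subgroup.mem_map]
      constructor
      · rintro ⟨y, hy, hxy⟩
        have : y = Subgroup.inclusion hCN x := Subtype.ext hxy
        exact this ▸ hy
      · exact fun h => ⟨_, h, rfl⟩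
    rw [this]
    exact hK.1.comap _
  · refine sSup_le fun L hL => CfsgLib.Components.IsComponent.le_layer_map_subtype hL ?_
    refine ((CfsgLib.Components.IsComponent.le_layer hL).trans
      CfsgLib.Components.layer_le_centralizer_fittingSubgroup).trans ((Subgroup.centralizer_le
        (SetLike.coe_subset_coe.mpr (CfsgLib.Components.pCore_le_fittingSubgroup p))).trans hCN)

end Cfsg.Agent.S1267
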