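import Cfsg.Statements.S1271
import Cfsg.Agent.Components.Balance

set_option autoImplicit false
open Cfsg

namespace Cfsg.Agent.S1271

open Subgroup
open scoped commutatorElement
open CfsgLib.Balance (coreIn layerFix)

/-- The case `[L, x] = L`. -/
theorem key {G : Type*} [Group G] [Finite G] (p : ℕ) [Fact p.Prime]
    (hO : Cfsg.pPrimeCore p G = ⊥) (x : G) (hx : orderOf x = p) (L : Subgroup G)
    (hL : Cfsg.IsComponent L) (hne : ⁅L, zpowers x⁆ = L)
    (hR : IsPGroup p (zpowers x))
    (hCY : centralizer ((zpowers x : Subgroup G) : Set G) ≤ centralizer ({x} : Set G))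
    (hYN : centralizer ({x} : Set G) ≤ normalizer ((zpowers x : Subgroup G) : Set G))
    (hO' : coreIn p (centralizer ({x} : Set G)) ≤ centralizer ((zpowers x : Subgroup G) : Set G))
    (hNL : coreIn p (centralizer ({x} : Set G)) ≤ normalizer (L : Set G))
    (h : ∀ H : Subgroup G, L ≤ H → (L.subgroupOf H).Normal →
      ∀ [((centralizer (L : Set G)).subgroupOf H).Normal],
        Cfsg.IsBalancedFor p (↥H ⧸ (centralizer (L : Set G)).subgroupOf H)) :
    coreIn p (centralizer ({x} : Set G)) ≤ centralizer (L : Set G) := by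
  set Y := centralizer ({x} : Set G)
  set R := coreIn p Y
  set C := centralizer (L : Set G) with hC
  have hxN : x ∈ normalizer (L : Set G) := by
    have h1 := normalizer_commutator_ge_right L (zpowers x)
    rw [hne] at h1
    exact h1 (mem_zpowers x)
  have hxC : x ∉ C := fun hc => CfsgLib.Components.IsComponent.ne_bot hL (by
    rw [← hne, commutator_comm, commutator_eq_bot_iff_le_centralizer]
    exact zpowers_le.mpr hc)
  have hxY : x ∈ Y := mem_centralizer_singleton_iff.mpr rfl
  set H := L ⊔ (zpowers x ⊔ R)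
  have hle : zpowers x ⊔ R ≤ normalizer (L : Set G) := sup_le (zpowers_le.mpr hxN) hNL
  have hHN : H ≤ normalizer (L : Set G) := sup_le le_normalizer hle
  have hsY : zpowers x ⊔ R ≤ Y := sup_le (zpowers_le.mpr hxY) (CfsgLib.Balance.coreIn_le Y)
  have hLH : L ≤ H := le_sup_left
  have hxH : x ∈ H := mem_sup_right (mem_sup_left (mem_zpowers x))
  have hRH : R ≤ H := le_sup_of_le_right le_sup_right
  have hCn : (C.subgroupOf H).Normal :=
    normal_subgroupOf_of_le_normalizer (hHN.trans
      (CfsgLib.Balance.map_subtype_le_normalizer_centralizer (le_refl _)))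
  have hb := @h H hLH (normal_subgroupOf_of_le_normalizer hHN) hCn
  set π := QuotientGroup.mk' (C.subgroupOf H)
  set xb := π ⟨x, hxH⟩ with hxb
  have hord : orderOf xb = p := by
    refine orderOf_eq_prime ?_ fun h1 => hxC ((QuotientGroup.eq_one_iff (⟨x, hxH⟩ : H)).mp h1)
    rw [hxb, ← map_pow, show (⟨x, hxH⟩ : H) ^ p = 1 from Subtype.ext (hx ▸ pow_orderOf_eq_one x),
      map_one]
  -- elements commuting with `x` modulo `C(L)` normalise `R`
  have hnorm : ∀ g : H, π g ∈ centralizer ({xb} : Set _) → (g : G) ∈ normalizer (R : Set G) := by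
    rintro ⟨g, hg⟩ hgc
    obtain ⟨m, hm, s, hs, rfl⟩ := CfsgLib.Coprime.exists_mul_of_mem_sup hle hg
    have hsR : s ∈ normalizer (R : Set G) := CfsgLib.Balance.le_normalizer_coreIn Y (hsY hs)
    have hsx : s * x = x * s := mem_centralizer_singleton_iff.mp (hsY hs)
    have h1 : (⟨m * s, hg⟩ * ⟨x, hxH⟩ * ⟨m * s, hg⟩⁻¹ * ⟨x, hxH⟩⁻¹ : H) ∈ C.subgroupOf H := by
      refine (QuotientGroup.eq_one_iff _).mp ?_
      have := mem_centralizer_singleton_iff.mp hgc
      show π _ = 1
      rw [map_mul, map_mul, map_mul, map_inv, map_inv, ← hxb, this]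
      group
    have h2 : m * x * m⁻¹ * x⁻¹ ∈ C := by
      have e : m * s * x * (m * s)⁻¹ * x⁻¹ = m * x * m⁻¹ * x⁻¹ := by
        rw [show m * s * x = m * (s * x) by group, hsx]; group
      rw [← e]; exact h1
    have h3 : x * m * x⁻¹ * m⁻¹ ∈ Cfsg.pCore p G := by
      have hxm : x * m * x⁻¹ * m⁻¹ ∈ L := mul_mem ((mem_normalizer_iff.mp hxN m).mp hm) (inv_mem hm)
      have hxm' : x * m * x⁻¹ * m⁻¹ ∈ C := by
        have hc : (x * m * x⁻¹ * m⁻¹) = (m * x * m⁻¹ * x⁻¹)⁻¹ := by group
        exact hc ▸ inv_mem h2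
      exact CfsgLib.Balance.component_inf_centralizer_le_pCore hO hL ⟨hxm, hxm'⟩
    have hmz : m ∈ layerFix p (zpowers x) := by
      refine ⟨CfsgLib.Components.IsComponent.le_layer hL hm, fun r hr => ?_⟩
      obtain ⟨j, rfl⟩ := mem_zpowers_iff.mp hr
      let q := QuotientGroup.mk' (Cfsg.pCore p G)
      have hq : Commute (q x) (q m) := by
        rw [← commutatorElement_eq_one_iff_commute, ← map_commutatorElement]
        exact (QuotientGroup.eq_one_iff _).mpr h3
      refine (QuotientGroup.eq_one_iff _).mp ?_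
      show q (x ^ j * m * (x ^ j)⁻¹ * m⁻¹) = 1
      rw [map_mul, map_mul, map_mul, map_inv, map_inv, map_zpow, (hq.zpow_left j).eq]
      group
    refine mul_mem ?_ hsR
    refine mem_normalizer_iff.mpr fun y => ⟨fun hy =>
      CfsgLib.Balance.layerFix_conj_coreIn hR hCY hYN hO' hmz hy, fun hy => ?_⟩
    have := CfsgLib.Balance.layerFix_conj_coreIn hR hCY hYN hO'
      (CfsgLib.Balance.inv_mem_layerFix hmz) hy
    simpa [mul_assoc] using this
  set Rb := (R.subgroupOf H).map π
  set Cx := centralizer ({xb} : Set (↥H ⧸ C.subgroupOf H))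
  have hRC : Rb ≤ Cx := by
    rintro _ ⟨r, hr, rfl⟩
    refine mem_centralizer_singleton_iff.mpr ?_
    rw [hxb, ← map_mul, ← map_mul]
    exact congrArg π (Subtype.ext
      (mem_centralizer_singleton_iff.mp (CfsgLib.Balance.coreIn_le Y (mem_subgroupOf.mp hr))))
  have hCR' : Cx ≤ normalizer (Rb : Set _) := by
    intro c hc
    obtain ⟨g, rfl⟩ := QuotientGroup.mk'_surjective _ c
    exact le_normalizer_map π ⟨g, le_normalizer_comap H.subtype (hnorm g hc), rfl⟩
  have hRbp : (Nat.card Rb).Coprime p := by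
    refine (CfsgLib.Balance.coprime_coreIn (p := p) Y).coprime_dvd_left ((card_map_dvd _ _).trans ?_)
    rw [Nat.card_congr (subgroupOfEquivOfLe hRH).toEquiv]
  have hin : Rb ≤ Cfsg.pPrimeCore p _ := by
    refine le_trans ?_ (hb xb hord)
    intro r hr
    have : (Rb.subgroupOf Cx).Normal := normal_subgroupOf_of_le_normalizer hCR'
    exact ⟨⟨r, hRC hr⟩, CfsgLib.PLocal.le_pPrimeCore (by
      rwa [Nat.card_congr (subgroupOfEquivOfLe hRC).toEquiv]) hr, rfl⟩
  -- `[L, R] ≤ C(L)`
  let f : L →* ↥H ⧸ C.subgroupOf H := π.comp (inclusion hLH)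
  set S := (Cfsg.pPrimeCore p (↥H ⧸ C.subgroupOf H)).comap f
  rcases CfsgLib.Components.IsQuasisimple.normal_eq_top_or_le_center hL.2 S with hS | hS
  · exfalso
    obtain ⟨m, hm, ⟨k, hk⟩, hmc⟩ := CfsgLib.Components.exists_pElem_not_centralizing hO hL
    have hmS : f ⟨m, hm⟩ ∈ Cfsg.pPrimeCore p (↥H ⧸ C.subgroupOf H) := by
      have : (⟨m, hm⟩ : L) ∈ S := hS ▸ mem_top _
      exact this
    refine hmc ((QuotientGroup.eq_one_iff (inclusion hLH ⟨m, hm⟩)).mp (show f ⟨m, hm⟩ = 1 from orderOf_eq_one_iff.mp ?_))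
    exact Nat.eq_one_of_dvd_coprimes ((CfsgLib.PLocal.coprime_card_pPrimeCore p _).pow_right k)
      (orderOf_dvd_natCard _ hmS)
      (orderOf_dvd_of_pow_eq_one (by
        rw [← map_pow, show (⟨m, hm⟩ : L) ^ p ^ k = 1 from Subtype.ext hk, map_one]))
  · have hLR : ⁅L, R⁆ ≤ C := by
      refine commutator_le.mpr fun l hl r hr => ?_
      have hcL : ⁅l, r⁆ ∈ L := le_normalizer_iff_commutator_le_left.mp hNL (commutator_mem_commutator hl hr)
      have hmem : (⟨⁅l, r⁆, hcL⟩ : L) ∈ S := by
        show f ⟨⁅l, r⁆, hcL⟩ ∈ Cfsg.pPrimeCore p (↥H ⧸ C.subgroupOf H)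
        change π (inclusion hLH ⟨⁅l, r⁆, hcL⟩) ∈ _
        have hrb : π ⟨r, hRH hr⟩ ∈ Rb := mem_map_of_mem π hr
        have hn : (Cfsg.pPrimeCore p (↥H ⧸ C.subgroupOf H)).Normal := inferInstance
        have he : (inclusion hLH ⟨⁅l, r⁆, hcL⟩ : H) = ⁅(⟨l, hLH hl⟩ : H), ⟨r, hRH hr⟩⁆ :=
          Subtype.ext rfl
        rw [he, map_commutatorElement, commutatorElement_def]
        exact mul_mem (hn.conj_mem _ (hin hrb) _) (inv_mem (hin hrb))
      exact mem_centralizer_iff.mpr fun b hb =>
        congrArg Subtype.val (mem_center_iff.mp (hS hmem) ⟨b, hb⟩)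
    exact le_centralizer_iff.mp (commutator_eq_bot_iff_le_centralizer.mp
      (CfsgLib.Components.commutator_eq_bot_of_commutator_le_centralizer
        (CfsgLib.Components.IsComponent.commutator_eq_self hL) hLR))


/-- Let G be finite with O_{p'}(G) = 1. Suppose that for every component L of G and every subgroup H ≥ L in which L is normal, the quotient H / C_H(L) is balanced for the prime p. Then G is balanced for p. -/
theorem result {G : Type*} [Group G] [Finite G] (p : ℕ) [Fact p.Prime] (hO : Cfsg.pPrimeCore p G = ⊥) (h : ∀ L : Subgroup G, Cfsg.IsComponent L → ∀ H : Subgroup G, L ≤ H → (L.subgroupOf H).Normal → ∀ [((Subgroup.centralizer (L : Set G)).subgroupOf H).Normal], Cfsg.IsBalancedFor p (↥H ⧸ (Subgroup.centralizer (L : Set G)).subgroupOf H)) : Cfsg.IsBalancedFor p G := by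
  intro x hx
  refine le_trans ?_ (bot_le : ⊥ ≤ _)
  rw [le_bot_iff]
  set Y := Subgroup.centralizer ({x} : Set G)
  have hCR : Subgroup.centralizer ((Subgroup.zpowers x : Subgroup G) : Set G) = Y := by
    rw [Subgroup.zpowers_eq_closure, Subgroup.centralizer_closure]
  have hR : IsPGroup p ↥(Subgroup.zpowers x) :=
    IsPGroup.of_card (n := 1) (by rw [Nat.card_zpowers, hx, pow_one])
  have hYN : Y ≤ Subgroup.normalizer ((Subgroup.zpowers x : Subgroup G) : Set G) :=
    hCR.ge.trans (Subgroup.centralizer_le_normalizer _)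
  have hO' : CfsgLib.Balance.coreIn p Y ≤
      Subgroup.centralizer ((Subgroup.zpowers x : Subgroup G) : Set G) :=
    (CfsgLib.Balance.coreIn_le Y).trans hCR.ge
  refine CfsgLib.Components.coreIn_eq_bot_of_forall hO hR hCR.le hO' fun L hL => ?_
  by_cases hne : ⁅L, Subgroup.zpowers x⁆ = L
  · exact key p hO x hx L hL hne hR hCR.le hYN hO'
      (CfsgLib.Balance.coreIn_le_normalizer_component hO hR hCR.le hYN hO' hL) (h L hL)
  · exact CfsgLib.Components.coreIn_le_centralizer_component hO hx hL hne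

end Cfsg.Agent.S1271
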