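import Cfsg.Statements.S1285
import Cfsg.Agent.Transitivity.Transitivity

set_option autoImplicit false
open Cfsg

namespace Cfsg.Agent.S1285

/-- Let θ be a solvable A-signalizer functor on the finite group G with A elementary abelian of rank at least 3, and suppose that for some prime q every θ a (a ∈ A non-identity) is a q-group. Then θ is complete. -/
theorem result {G : Type*} [Group G] [Finite G] (p : ℕ) [Fact p.Prime] (A : Subgroup G) (hA : Cfsg.IsElementaryAbelian p A) (hA3 : p ^ 3 ≤ Nat.card ↥A) (θ : G → Subgroup G) (hθ : Cfsg.IsSolvableSignalizerFunctor p A θ) (q : ℕ) [Fact q.Prime] (hq : ∀ a ∈ A, a ≠ 1 → IsPGroup q ↥(θ a)) : Cfsg.IsCompleteSignalizerFunctor p A θ := by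
  obtain ⟨a₀, ha₀, ha₀1⟩ : ∃ a ∈ A, a ≠ 1 := by
    by_contra! h
    rw [(Subgroup.eq_bot_iff_forall A).mpr h, Subgroup.card_bot] at hA3
    exact absurd hA3 (not_le.mpr (Nat.one_lt_pow (by norm_num) (Fact.out : p.Prime).one_lt))
  obtain ⟨Q, -, hQ⟩ := CfsgLib.Transitivity.exists_maximalMember_ge
    (CfsgLib.Transitivity.mem_family_theta hθ ha₀ ha₀1) (hq a₀ ha₀ ha₀1)
  refine ⟨hθ.1, Q, hQ.1.2.2.1, hQ.1.2.1, fun a ha ha1 => le_antisymm (hQ.1.2.2.2 a ha ha1) ?_⟩
  obtain ⟨c, hc, S, hS⟩ := CfsgLib.Transitivity.exists_sylow_map_eq_conj_inf hA hA3 hθ hQ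
    (CfsgLib.Transitivity.mem_family_theta hθ ha ha1)
  have htop : (S : Subgroup ↥(θ a)) = ⊤ :=
    (S.is_maximal' ((hq a ha ha1).to_subgroup ⊤) le_top).symm
  rw [htop, ← MonoidHom.range_eq_map, Subgroup.range_subtype] at hS
  refine le_inf (fun x hx => ?_) (hθ.1.1 a ha ha1)
  have hcx : c * x * c⁻¹ ∈ θ a :=
    mul_mem (mul_mem (CfsgLib.Transitivity.mem_signalizerInf.mp hc a ha ha1) hx)
      (inv_mem (CfsgLib.Transitivity.mem_signalizerInf.mp hc a ha ha1))
  obtain ⟨y, hy, hye⟩ := (Subgroup.mem_inf.mp (hS.le hcx)).1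
  simp only [MulEquiv.coe_toMonoidHom, MulAut.conj_apply, mul_left_inj, mul_right_inj] at hye
  exact hye ▸ hy

end Cfsg.Agent.S1285
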