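import Cfsg.Statements.S1286

set_option autoImplicit false
open Cfsg

namespace Cfsg.Agent.S1286

abbrev a1 : Equiv.Perm (Fin 5) := Equiv.swap 0 1
abbrev a2 : Equiv.Perm (Fin 5) := Equiv.swap 2 3
abbrev r1 : Equiv.Perm (Fin 5) := Equiv.swap 2 3 * Equiv.swap 3 4
abbrev r2 : Equiv.Perm (Fin 5) := Equiv.swap 0 1 * Equiv.swap 1 4

/-- The four-group generated by the two disjoint transpositions. -/
def A : Subgroup (Equiv.Perm (Fin 5)) where
  carrier := {x | x ∈ ({1, a1, a2, a1 * a2} : Finset (Equiv.Perm (Fin 5)))}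
  one_mem' := by decide +kernel
  mul_mem' := fun {a b} ha hb => by revert a b; decide +kernel
  inv_mem' := fun {a} ha => by revert a; decide +kernel

/-- The subgroup of order three generated by `r1`. -/
def R1 : Subgroup (Equiv.Perm (Fin 5)) where
  carrier := {x | x ∈ ({1, r1, r1 * r1} : Finset (Equiv.Perm (Fin 5)))}
  one_mem' := by decide +kernel
  mul_mem' := fun {a b} ha hb => by revert a b; decide +kernel
  inv_mem' := fun {a} ha => by revert a; decide +kernel

/-- The subgroup of order three generated by `r2`. -/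
def R2 : Subgroup (Equiv.Perm (Fin 5)) where
  carrier := {x | x ∈ ({1, r2, r2 * r2} : Finset (Equiv.Perm (Fin 5)))}
  one_mem' := by decide +kernel
  mul_mem' := fun {a b} ha hb => by revert a b; decide +kernel
  inv_mem' := fun {a} ha => by revert a; decide +kernel

instance decA : DecidablePred (· ∈ A) := fun x =>
  decidable_of_iff (x ∈ ({1, a1, a2, a1 * a2} : Finset (Equiv.Perm (Fin 5)))) Iff.rfl

def θ (a : Equiv.Perm (Fin 5)) : Subgroup (Equiv.Perm (Fin 5)) :=
  if a = a1 then R1 else if a = a2 then R2 else ⊥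

instance decθ (a : Equiv.Perm (Fin 5)) : DecidablePred (· ∈ θ a) := fun x =>
  decidable_of_iff (x ∈ (if a = a1 then {1, r1, r1 * r1} else if a = a2 then {1, r2, r2 * r2}
    else ({1} : Finset (Equiv.Perm (Fin 5))))) (by
      unfold θ
      split_ifs
      · exact Iff.rfl
      · exact Iff.rfl
      · exact Finset.mem_singleton.trans Subgroup.mem_bot.symm)


/-- There exist a finite group X, an elementary abelian subgroup A of order 4 and a solvable A-signalizer functor θ on X for the prime 2 which is not complete. -/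
theorem result : ∃ (X : Type) (_ : Group X) (_ : Finite X) (A : Subgroup X) (θ : X → Subgroup X), Cfsg.IsElementaryAbelian 2 A ∧ Nat.card ↥A = 4 ∧ Cfsg.IsSolvableSignalizerFunctor 2 A θ ∧ ¬ Cfsg.IsCompleteSignalizerFunctor 2 A θ := by
  refine ⟨Equiv.Perm (Fin 5), inferInstance, inferInstance, A, θ, ⟨⟨⟨?_⟩⟩, by decide +kernel⟩, ?_, ⟨⟨?_, ?_, ?_, ?_⟩, ?_⟩, ?_⟩
  · rintro ⟨a, ha⟩ ⟨b, hb⟩
    apply Subtype.ext
    revert a b
    decide +kernel
  · exact (Nat.card_eq_fintype_card).trans (by decide +kernel)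
  · intro a ha ha1 x hx
    rw [Subgroup.mem_centralizer_singleton_iff]
    revert a x
    decide +kernel
  · intro a ha ha1
    rw [Nat.card_eq_fintype_card]
    revert a
    decide +kernel
  · intro a ha ha1
    revert a
    decide +kernel
  · intro a ha ha1 b hb hb1 x hx
    obtain ⟨hx1, hx2⟩ := Subgroup.mem_inf.mp hx
    rw [Subgroup.mem_centralizer_singleton_iff] at hx2
    have key : ∀ a ∈ ({1, a1, a2, a1 * a2} : Finset (Equiv.Perm (Fin 5))), a ≠ 1 →
        ∀ b ∈ ({1, a1, a2, a1 * a2} : Finset (Equiv.Perm (Fin 5))), b ≠ 1 → ∀ x : Equiv.Perm (Fin 5),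
        x ∈ (if a = a1 then {1, r1, r1 * r1} else if a = a2 then {1, r2, r2 * r2}
          else ({1} : Finset (Equiv.Perm (Fin 5)))) → x * b = b * x →
        x ∈ (if b = a1 then {1, r1, r1 * r1} else if b = a2 then {1, r2, r2 * r2}
          else ({1} : Finset (Equiv.Perm (Fin 5)))) := by decide +kernel
    have mem : ∀ c y : Equiv.Perm (Fin 5), y ∈ θ c ↔ y ∈ (if c = a1 then {1, r1, r1 * r1}
        else if c = a2 then {1, r2, r2 * r2} else ({1} : Finset (Equiv.Perm (Fin 5)))) := fun c y => by
      unfold θ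
      split_ifs
      · exact Iff.rfl
      · exact Iff.rfl
      · exact Subgroup.mem_bot.trans Finset.mem_singleton.symm
    exact (mem b x).mpr (key a ha ha1 b hb hb1 x ((mem a x).mp hx1) hx2)
  · intro a ha ha1
    refine Group.isSolvable_of_comm fun x y => Subtype.ext ?_
    obtain ⟨x, hx⟩ := x
    obtain ⟨y, hy⟩ := y
    revert a x y
    decide +kernel
  · rintro ⟨-, X, -, hodd, hX⟩
    have h1 : r1 ∈ X := by
      refine (Subgroup.mem_inf.mp ((hX a1 (by decide +kernel) (by decide +kernel)).ge ?_)).1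
      decide +kernel
    have h2 : r2 ∈ X := by
      refine (Subgroup.mem_inf.mp ((hX a2 (by decide +kernel) (by decide +kernel)).ge ?_)).1
      decide +kernel
    have hw : r1 * r1 * r2 * r1 * r2 ∈ X :=
      mul_mem (mul_mem (mul_mem (mul_mem h1 h1) h2) h1) h2
    have ho : orderOf (r1 * r1 * r2 * r1 * r2) = 2 := orderOf_eq_prime (by decide +kernel) (by decide +kernel)
    exact hodd (ho ▸ Subgroup.orderOf_dvd_natCard X hw)

end Cfsg.Agent.S1286
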