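import Cfsg.Statements.S1287
import Cfsg.Agent.Transitivity.OrderFormula

set_option autoImplicit false
open scoped Pointwise
open Cfsg

namespace Cfsg.Agent.S1287
open scoped Pointwise


/-- Let A be a noncyclic elementary abelian p-subgroup of a finite group H normalizing a subgroup K of order prime to p, and X, Y ≤ K subgroups normalized by A with C_K(a) = C_X(a) C_Y(a) (as sets) for every non-identity a ∈ A, where X is also normalized by C_K(A). Then K = XY as sets. -/
theorem result {H : Type*} [Group H] [Finite H] (p : ℕ) [Fact p.Prime] (A K X Y : Subgroup H) (hA : Cfsg.IsElementaryAbelian p A) (hA2 : p ^ 2 ≤ Nat.card ↥A) (hK : ¬ p ∣ Nat.card ↥K) (hAK : A ≤ Subgroup.normalizer (K : Set H)) (hX : X ≤ K) (hY : Y ≤ K) (hAX : A ≤ Subgroup.normalizer (X : Set H)) (hAY : A ≤ Subgroup.normalizer (Y : Set H)) (hCX : K ⊓ Subgroup.centralizer (A : Set H) ≤ Subgroup.normalizer (X : Set H)) (hfac : ∀ a ∈ A, a ≠ 1 → ((K ⊓ Subgroup.centralizer {a} : Subgroup H) :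 Set H) = ((X ⊓ Subgroup.centralizer {a} : Subgroup H) : Set H) * ((Y ⊓ Subgroup.centralizer {a} : Subgroup H) : Set H)) : (K : Set H) = (X : Set H) * (Y : Set H) := by
  classical
  obtain ⟨E', hE'⟩ := Sylow.exists_subgroup_card_pow_prime (G := ↥A) p (n := 2) (by
    obtain ⟨n, hn⟩ := (CfsgLib.Transitivity.isPGroup_of_elab hA).exists_card_eq
    rw [hn] at hA2 ⊢
    exact pow_dvd_pow p ((Nat.pow_le_pow_iff_right (Fact.out : p.Prime).one_lt).mp hA2))
  set E := E'.map A.subtype with hEdef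
  have hEA : E ≤ A := Subgroup.map_subtype_le _
  have hEc : Nat.card ↥E = p ^ 2 := by
    rw [Subgroup.card_map_of_injective A.subtype_injective, hE']
  have hE : Cfsg.IsElementaryAbelian p E :=
    ⟨⟨⟨fun a b => Subtype.ext (congrArg Subtype.val
      (hA.1.is_comm.comm ⟨_, hEA a.2⟩ ⟨_, hEA b.2⟩) :)⟩⟩, fun a ha => hA.2 a (hEA ha)⟩
  have : Fintype (Subgroup ↥E) := Fintype.ofFinite _
  have hI : ¬ p ∣ Nat.card ↥(X ⊓ Y) := fun h =>
    hK (h.trans (Subgroup.card_dvd_of_le (inf_le_left.trans hX)))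
  have hXp : ¬ p ∣ Nat.card ↥X := fun h => hK (h.trans (Subgroup.card_dvd_of_le hX))
  have hYp : ¬ p ∣ Nat.card ↥Y := fun h => hK (h.trans (Subgroup.card_dvd_of_le hY))
  have fK := CfsgLib.Transitivity.card_mul_pow_eq_prod hE hEc (hEA.trans hAK) hK
  have fI := CfsgLib.Transitivity.card_mul_pow_eq_prod hE hEc
    ((le_inf (hEA.trans hAX) (hEA.trans hAY)).trans Subgroup.inf_normalizer_le_normalizer_inf) hI
  have fX := CfsgLib.Transitivity.card_mul_pow_eq_prod hE hEc (hEA.trans hAX) hXp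
  have fY := CfsgLib.Transitivity.card_mul_pow_eq_prod hE hEc (hEA.trans hAY) hYp
  have hB : ∀ B : Subgroup ↥E, B ≠ ⊥ →
      Nat.card ↥(K ⊓ Subgroup.centralizer ((B.map E.subtype : Subgroup H) : Set H)) *
        Nat.card ↥((X ⊓ Y) ⊓ Subgroup.centralizer ((B.map E.subtype : Subgroup H) : Set H)) =
      Nat.card ↥(X ⊓ Subgroup.centralizer ((B.map E.subtype : Subgroup H) : Set H)) *
        Nat.card ↥(Y ⊓ Subgroup.centralizer ((B.map E.subtype : Subgroup H) : Set H)) := by
    intro B hB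
    set B' := B.map E.subtype
    obtain ⟨b, hb, hb1⟩ : ∃ b ∈ B', b ≠ 1 := by
      by_contra! h
      exact hB ((Subgroup.map_eq_bot_iff_of_injective B E.subtype_injective).mp
        ((Subgroup.eq_bot_iff_forall _).mpr h))
    have hBA : B' ≤ A := (Subgroup.map_subtype_le _).trans hEA
    have hset : ((K ⊓ Subgroup.centralizer (B' : Set H) : Subgroup H) : Set H) =
        ((X ⊓ Subgroup.centralizer (B' : Set H) : Subgroup H) : Set H) *
          ((Y ⊓ Subgroup.centralizer (B' : Set H) : Subgroup H) : Set H) := by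
      apply Set.Subset.antisymm
      · intro c hc
        obtain ⟨hcK, hcB⟩ := Subgroup.mem_inf.mp hc
        have hcb : c ∈ ((K ⊓ Subgroup.centralizer {b} : Subgroup H) : Set H) :=
          Subgroup.mem_inf.mpr ⟨hcK, Subgroup.centralizer_le (Set.singleton_subset_iff.mpr hb) hcB⟩
        rw [hfac b (hBA hb) hb1] at hcb
        obtain ⟨x, hx, y, hy, rfl⟩ := Set.mem_mul.mp hcb
        obtain ⟨x', hx', y', hy', e⟩ := CfsgLib.Coprime.exists_mul_eq_of_mem_centralizer
          (hBA.trans hAX) (hBA.trans hAY)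
          ((CfsgLib.Transitivity.coprime_card_of_elab hA hI).coprime_dvd_left
            (Subgroup.card_dvd_of_le hBA))
          (Or.inl (CfsgLib.Components.isSolvable_mono (CfsgLib.Transitivity.isSolvable_of_elab hA) hBA))
          (Subgroup.mem_inf.mp hx).1 (Subgroup.mem_inf.mp hy).1 hcB
        exact e ▸ Set.mul_mem_mul hx' hy'
      · rintro _ ⟨x, hx, y, hy, rfl⟩
        exact mul_mem (show x ∈ K ⊓ _ from ⟨hX (Subgroup.mem_inf.mp hx).1, (Subgroup.mem_inf.mp hx).2⟩)
          ⟨hY (Subgroup.mem_inf.mp hy).1, (Subgroup.mem_inf.mp hy).2⟩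
    have h := CfsgLib.Transitivity.card_eq_mul_inf hset
    rwa [← inf_inf_distrib_right] at h
  have htop : (⊤ : Subgroup ↥E) ≠ ⊥ := fun h => by
    have h1 := congrArg (fun S : Subgroup ↥E => Nat.card ↥S) h
    simp only [Subgroup.card_top, Subgroup.card_bot, hEc] at h1
    exact absurd h1 (Nat.one_lt_pow two_ne_zero (Fact.out : p.Prime).one_lt).ne'
  have hlines : ∀ Z ∈ Finset.univ.filter (fun Z : Subgroup ↥E => Nat.card ↥Z = p), Z ≠ ⊥ := by
    intro Z hZ h
    rw [Finset.mem_filter, h, Subgroup.card_bot] at hZ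
    exact (Fact.out : p.Prime).one_lt.ne hZ.2
  have hprod := Finset.prod_congr rfl (fun Z hZ => hB Z (hlines Z hZ))
    (s₁ := Finset.univ.filter (fun Z : Subgroup ↥E => Nat.card ↥Z = p))
  rw [Finset.prod_mul_distrib, Finset.prod_mul_distrib] at hprod
  simp only [CfsgLib.Transitivity.LineFormula] at fK fI fX fY
  have hbot : ∀ S : Subgroup H, Nat.card
      ↥(S ⊓ Subgroup.centralizer (((⊥ : Subgroup ↥E).map E.subtype : Subgroup H) : Set H)) =
      Nat.card ↥S := by
    intro S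
    rw [Subgroup.map_bot, inf_eq_left.mpr fun x _ =>
      Subgroup.mem_centralizer_iff.mpr fun y hy => by rw [Subgroup.mem_bot.mp hy, one_mul, mul_one]]
  rw [hbot] at fK fI fX fY
  rw [← fK, ← fI, ← fX, ← fY, mul_mul_mul_comm, ← mul_pow, hB ⊤ htop, mul_mul_mul_comm (Nat.card ↥X),
    ← mul_pow] at hprod
  have hmain : Nat.card ↥K * Nat.card ↥(X ⊓ Y) = Nat.card ↥X * Nat.card ↥Y :=
    Nat.eq_of_mul_eq_mul_right (pow_pos (Nat.mul_pos Nat.card_pos Nat.card_pos) _) hprod
  have hS := CfsgLib.Transitivity.card_eq_mul_inf (X := X) (Y := Y) rfl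
  rw [← hmain] at hS
  have hcard := Nat.eq_of_mul_eq_mul_right Nat.card_pos hS
  refine (Set.eq_of_subset_of_ncard_le ?_ ?_ (Set.toFinite _)).symm
  · rintro _ ⟨x, hx, y, hy, rfl⟩
    exact K.mul_mem (hX hx) (hY hy)
  · rw [← Nat.card_coe_set_eq, ← Nat.card_coe_set_eq, hcard]
    rfl

end Cfsg.Agent.S1287
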