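import Cfsg.Statements.S1288
import Cfsg.Agent.Transitivity.Basic
import Cfsg.Agent.PLocal.PSolvable

set_option autoImplicit false
open Cfsg

namespace Cfsg.Agent.S1288

open Subgroup
open scoped commutatorElement

theorem auxNormal {H : Type*} [Group H] [Finite H] (p : ℕ) [Fact p.Prime] (A K : Subgroup H)
    [K.Normal] (hA : Cfsg.IsElementaryAbelian p A) (hA2 : p ^ 2 ≤ Nat.card ↥A)
    (hK : ¬ p ∣ Nat.card ↥K) (hKs : Group.IsSolvable ↥K)
    (q : ℕ) [Fact q.Prime] (U : Subgroup H) (hU : U ≤ K) (hUq : ¬ q ∣ Nat.card ↥U)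
    (hcomm : ∀ B : Subgroup H, B ≤ A → p * Nat.card ↥B = Nat.card ↥A →
      ¬ q ∣ Nat.card ↥⁅U, K ⊓ centralizer (B : Set H)⁆) :
    U ≤ (Cfsg.pPrimeCore q ↥K).map K.subtype := by
  set W := (Cfsg.pPrimeCore q ↥K).map K.subtype with hW
  have hWn : W.Normal := CfsgLib.PLocal.normal_map_subtype K _
  have hWK : W ≤ K := map_subtype_le _
  set π := QuotientGroup.mk' W with hπ
  have hKbn : (K.map π).Normal := Normal.map inferInstance π (QuotientGroup.mk'_surjective W)
  have hsKb : Group.IsSolvable ↥(K.map π) := CfsgLib.Components.isSolvable_map π hKs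
  have hO : Cfsg.pPrimeCore q ↥(K.map π) = ⊥ := by
    have hker : Cfsg.pPrimeCore q ↥K = (π.subgroupMap K).ker := by
      ext x
      rw [MonoidHom.mem_ker, ← Subtype.coe_inj]
      change _ ↔ π (x : H) = 1
      rw [hπ, QuotientGroup.mk'_apply, QuotientGroup.eq_one_iff, hW,
        mem_map_iff_mem K.subtype_injective |>.symm]
      rfl
    rw [← CfsgLib.PLocal.map_pPrimeCore_equiv
      ((QuotientGroup.quotientMulEquivOfEq hker).trans
        (QuotientGroup.quotientKerEquivOfSurjective _ (π.subgroupMap_surjective K))),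
      CfsgLib.PLocal.pPrimeCore_quotient_pPrimeCore_eq_bot, Subgroup.map_bot]
  set V := (Cfsg.pCore q ↥(K.map π)).map (K.map π).subtype with hV
  have hVn : V.Normal := CfsgLib.PLocal.normal_map_subtype _ _
  have hVq : IsPGroup q ↥V := (CfsgLib.Components.isPGroup_pCore q).map _
  have hVK : V ≤ K.map π := map_subtype_le _
  have hAb : Cfsg.IsElementaryAbelian p (A.map π) := by
    refine ⟨?_, ?_⟩
    · rw [← commutator_self_eq_bot_iff, ← map_commutator, commutator_self_eq_bot_iff.mpr hA.1,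
        Subgroup.map_bot]
    · rintro _ ⟨a, ha, rfl⟩
      rw [← map_pow, hA.2 a ha, map_one]
  have hVU : V ≤ centralizer (U.map π : Set (H ⧸ W)) := by
    by_contra hn
    have hVp : ¬ p ∣ Nat.card ↥V := fun h => hK
      (h.trans ((card_dvd_of_le hVK).trans (card_map_dvd _ _)))
    obtain ⟨Bb, hBb, hcard, hnle⟩ :=
      CfsgLib.Transitivity.exists_hyperplane_not_le hAb le_normalizer_of_normal hVp hn
    obtain ⟨B₁, hB₁A, hB₁m, hB₁c⟩ : ∃ B₁ ≤ A, B₁.map π = Bb ∧ Nat.card A ≤ p * Nat.card B₁ := by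
      refine ⟨A ⊓ Bb.comap π, inf_le_left, ?_, ?_⟩
      · exact le_antisymm ((map_mono inf_le_right).trans (map_comap_le _ _)) fun x hx => by
          obtain ⟨a, ha, rfl⟩ := hBb hx
          exact mem_map_of_mem π ⟨ha, hx⟩
      · have hinj : A ⊓ W = ⊥ := CfsgLib.Coprime.inf_eq_bot_of_coprime
          (CfsgLib.Transitivity.coprime_card_of_elab hA fun h => hK (h.trans (card_dvd_of_le hWK)))
        have hcA : ∀ B : Subgroup H, B ≤ A → Nat.card ↥(B.map π) = Nat.card B := fun B hB =>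
          Nat.card_congr (Equiv.ofBijective (fun b : B => (⟨π b, mem_map_of_mem π b.2⟩ : B.map π))
            ⟨fun b c hbc => by
              have h1 := congrArg Subtype.val hbc
              simp only [hπ, QuotientGroup.mk'_apply, QuotientGroup.eq] at h1
              have h2 : (b : H)⁻¹ * c ∈ A ⊓ W := mem_inf.mpr ⟨A.mul_mem (A.inv_mem (hB b.2)) (hB c.2), h1⟩
              rw [hinj, mem_bot, inv_mul_eq_one] at h2
              exact Subtype.ext h2,
            fun ⟨_, b, hb, rfl⟩ => ⟨⟨b, hb⟩, rfl⟩⟩).symm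
        rw [hcA A le_rfl] at hcard
        refine hcard.trans (Nat.mul_le_mul_left p (le_of_eq ?_))
        rw [← hcA _ inf_le_left]
        congr 2
        exact le_antisymm (fun x hx => by
            obtain ⟨a, ha, rfl⟩ := hBb hx
            exact mem_map_of_mem π ⟨ha, hx⟩) ((map_mono inf_le_right).trans (map_comap_le _ _))
    obtain ⟨n, hn'⟩ := (CfsgLib.Transitivity.isPGroup_of_elab hA).exists_card_eq
    have hn1 : 1 ≤ n := by
      by_contra h0
      rw [hn', show n = 0 by omega] at hA2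
      have := (Fact.out : p.Prime).one_lt
      nlinarith
    obtain ⟨B₂, hB₂c⟩ := Sylow.exists_subgroup_card_pow_prime (G := ↥B₁) p (n := n - 1) (by
      obtain ⟨m, hm⟩ := ((CfsgLib.Transitivity.isPGroup_of_elab hA).to_le hB₁A).exists_card_eq
      rw [hm]
      refine pow_dvd_pow p ?_
      rw [hn', hm, ← pow_succ'] at hB₁c
      have := Nat.pow_le_pow_iff_right (Fact.out : p.Prime).one_lt |>.mp hB₁c
      omega)
    set B := B₂.map B₁.subtype
    have hBA : B ≤ A := (map_subtype_le _).trans hB₁A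
    have hBc : p * Nat.card ↥B = Nat.card ↥A := by
      rw [card_map_of_injective B₁.subtype_injective, hB₂c, hn', ← pow_succ', Nat.sub_add_cancel hn1]
    apply hnle
    intro v hv
    obtain ⟨hvV, hvB⟩ := mem_inf.mp hv
    have hmapC := CfsgLib.Coprime.map_inf_centralizer π (A := B) (G := K) le_normalizer_of_normal
      ((CfsgLib.Transitivity.coprime_card_of_elab hA fun h => hK
        (h.trans (card_dvd_of_le inf_le_left))).coprime_dvd_left (card_dvd_of_le hBA))
      (Or.inl (CfsgLib.Components.isSolvable_mono (CfsgLib.Transitivity.isSolvable_of_elab hA) hBA))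
    have hvB' : v ∈ centralizer (B.map π : Set (H ⧸ W)) :=
      centralizer_le (SetLike.coe_subset_coe.mpr (hB₁m ▸ map_mono (map_subtype_le _))) hvB
    obtain ⟨c, hc, rfl⟩ := hmapC.ge ⟨hVK hvV, hvB'⟩
    rw [mem_centralizer_iff]
    rintro _ ⟨u, hu, rfl⟩
    have h1 : ⁅π u, π c⁆ = 1 := by
      rw [← orderOf_eq_one_iff]
      refine Nat.eq_one_of_dvd_coprimes (k := orderOf ⁅π u, π c⁆) ?_
        ((orderOf_dvd_natCard (⁅U, K ⊓ centralizer (B : Set H)⁆.map π)
          (map_commutatorElement π u c ▸ mem_map_of_mem π (commutator_mem_commutator hu hc))).trans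
          (card_map_dvd _ _))
        (orderOf_dvd_natCard V (by
          rw [commutatorElement_def]
          exact mul_mem (hVn.conj_mem _ hvV (π u)) (inv_mem hvV)))
      obtain ⟨k, hk⟩ := hVq.exists_card_eq
      rw [hk]
      exact (CfsgLib.PLocal.not_dvd_iff_coprime.mpr (hcomm B hBA hBc)).pow_right k
    exact commutatorElement_eq_one_iff_mul_comm.mp h1
  have hUle : U.map π ≤ V := by
    intro x hx
    have hxK : x ∈ K.map π := map_mono hU hx
    refine ⟨⟨x, hxK⟩, CfsgLib.PLocal.centralizer_pCore_le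
      (CfsgLib.PLocal.isPSolvable_of_isSolvable) hO ?_, rfl⟩
    exact fun y hy => Subtype.ext ((le_centralizer_iff.mp hVU) hx _ (mem_map_of_mem _ hy))
  rw [← QuotientGroup.ker_mk' W, ← Subgroup.map_eq_bot_iff]
  exact CfsgLib.PLocal.eq_bot_of_isPGroup_of_coprime (hVq.to_le hUle)
    (Nat.Coprime.coprime_dvd_left (card_map_dvd _ _) (CfsgLib.PLocal.not_dvd_iff_coprime.mpr hUq))

theorem aux {H : Type*} [Group H] [Finite H] (p : ℕ) [Fact p.Prime] (M A K : Subgroup H)
    (hA : Cfsg.IsElementaryAbelian p A) (hA2 : p ^ 2 ≤ Nat.card ↥A)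
    (hK : ¬ p ∣ Nat.card ↥K) (hKs : Group.IsSolvable ↥K) (hAK : A ≤ normalizer (K : Set H))
    (hKM : K ≤ M) (hAM : A ≤ M) (q : ℕ) [Fact q.Prime] (U : Subgroup H) (hU : U ≤ K)
    (hUq : ¬ q ∣ Nat.card ↥U)
    (hcomm : ∀ B : Subgroup H, B ≤ A → p * Nat.card ↥B = Nat.card ↥A →
      ¬ q ∣ Nat.card ↥⁅U, K ⊓ centralizer (B : Set H)⁆) :
    U ≤ (Cfsg.pPrimeCore q ↥K).map K.subtype := by
  -- pass to the group `K ⊔ A`, in which `K` is normal
  set N := K ⊔ A
  have hKN : K ≤ N := le_sup_left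
  have hAN : A ≤ N := le_sup_right
  have hn : (K.subgroupOf N).Normal := normal_subgroupOf_of_le_normalizer (sup_le le_normalizer hAK)
  have hcardOf : ∀ X : Subgroup H, X ≤ N → Nat.card ↥(X.subgroupOf N) = Nat.card ↥X := fun X hX =>
    Nat.card_congr (subgroupOfEquivOfLe hX).toEquiv
  have hA' : Cfsg.IsElementaryAbelian p (A.subgroupOf N) :=
    ⟨⟨⟨fun a b => by
      have e := congrArg Subtype.val
        (hA.1.is_comm.comm (⟨((a : ↥N) : H), a.2⟩ : ↥A) ⟨((b : ↥N) : H), b.2⟩)
      exact Subtype.ext (Subtype.ext e)⟩⟩,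
      fun a ha => Subtype.ext (hA.2 a ha)⟩
  have h := auxNormal p (A.subgroupOf N) (K.subgroupOf N) hA' (by rwa [hcardOf A hAN])
    (by rwa [hcardOf K hKN]) (Group.isSolvable_of_surjective
      (f := (subgroupOfEquivOfLe hKN).symm.toMonoidHom) (MulEquiv.surjective _))
    q (U.subgroupOf N) (fun x hx => hU hx) (by rwa [hcardOf U (hU.trans hKN)]) ?_
  · intro u hu
    obtain ⟨y, hy, hyu⟩ := h (show (⟨u, hKN (hU hu)⟩ : N) ∈ U.subgroupOf N from hu)
    refine ⟨subgroupOfEquivOfLe hKN y, ?_, congrArg Subtype.val hyu⟩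
    rw [SetLike.mem_coe, ← CfsgLib.PLocal.map_pPrimeCore_equiv (subgroupOfEquivOfLe hKN)]
    exact mem_map_of_mem _ hy
  · intro B hB hc hdvd
    have hBA : B.map N.subtype ≤ A := fun x ⟨b, hb, e⟩ => e ▸ hB hb
    refine hcomm (B.map N.subtype) hBA ?_ ?_
    · rw [card_map_of_injective N.subtype_injective, hc, hcardOf A hAN]
    · rw [← card_map_of_injective N.subtype_injective] at hdvd
      refine hdvd.trans (card_dvd_of_le ?_)
      rw [map_commutator, map_subgroupOf_eq_of_le (hU.trans hKN)]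
      refine commutator_mono le_rfl ?_
      rintro _ ⟨x, ⟨hxK, hxB⟩, rfl⟩
      refine ⟨hxK, ?_⟩
      show N.subtype x ∈ centralizer _
      rw [mem_centralizer_iff]
      rintro _ ⟨b, hb, rfl⟩
      exact congrArg Subtype.val (hxB b hb)


/-- Let A be a noncyclic elementary abelian p-subgroup of a finite group H normalizing a solvable subgroup K of order prime to p, q a prime dividing |K|, and U ≤ K a subgroup of order prime to q such that ⁅U, C_K(B)⁆ has order prime to q for every subgroup B of index p in A. Then U ≤ O_{q'}(K). -/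
theorem result {H : Type*} [Group H] [Finite H] (p : ℕ) [Fact p.Prime] (A K : Subgroup H) (hA : Cfsg.IsElementaryAbelian p A) (hA2 : p ^ 2 ≤ Nat.card ↥A) (hK : ¬ p ∣ Nat.card ↥K) (hKs : Group.IsSolvable ↥K) (hAK : A ≤ Subgroup.normalizer (K : Set H)) (q : ℕ) [Fact q.Prime] (hqK : q ∣ Nat.card ↥K) (U : Subgroup H) (hU : U ≤ K) (hUq : ¬ q ∣ Nat.card ↥U) (hcomm : ∀ B : Subgroup H, B ≤ A → B.relIndex A = p → ¬ q ∣ Nat.card ↥⁅U, K ⊓ Subgroup.centralizer (B : Set H)⁆) : U ≤ (Cfsg.pPrimeCore q ↥K).map K.subtype := by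
  have h := aux p (K ⊔ A) A K hA hA2 hK hKs hAK le_sup_left le_sup_right q U hU hUq (fun B hB hc => ?_)
  · exact h
  · refine hcomm B hB ?_
    have h1 : B.relIndex A * Nat.card ↥B = Nat.card ↥A := by
      rw [mul_comm, CfsgLib.PLocal.card_mul_relIndex hB]
    have hpos : 0 < Nat.card ↥B := Nat.card_pos
    rw [← h1] at hc
    exact (Nat.eq_of_mul_eq_mul_right hpos hc).symm

end Cfsg.Agent.S1288
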