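import Cfsg.Statements.S1292
import Cfsg.Agent.Components.PLocal

set_option autoImplicit false
open Cfsg

namespace Cfsg.Agent.S1292

/-- Let G be a finite group such that F*(C_G(t)) = O_2(C_G(t)) for every involution t. Then F*(N_G(T)) = O_2(N_G(T)) for every nontrivial 2-subgroup T of G. -/
theorem result {G : Type*} [Group G] [Finite G] (h : ∀ t : G, orderOf t = 2 → Cfsg.generalizedFittingSubgroup ↥(Subgroup.centralizer ({t} : Set G)) = Cfsg.pCore 2 ↥(Subgroup.centralizer ({t} : Set G))) (T : Subgroup G) (hT : IsPGroup 2 ↥T) (hT1 : T ≠ ⊥) : Cfsg.generalizedFittingSubgroup ↥(Subgroup.normalizer (T : Set G)) = Cfsg.pCore 2 ↥(Subgroup.normalizer (T : Set G)) := by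
  obtain ⟨t, ht, htT, htc⟩ : ∃ t : G, orderOf t = 2 ∧ t ∈ T ∧ T ≤ Subgroup.centralizer {t} := by
    have : Nontrivial ↥T := (Subgroup.nontrivial_iff_ne_bot T).mpr hT1
    have hc : Nontrivial ↥(Subgroup.center ↥T) := hT.center_nontrivial
    have hcp : IsPGroup 2 ↥(Subgroup.center ↥T) := hT.to_subgroup _
    obtain ⟨n, hn0, hn⟩ := (IsPGroup.nontrivial_iff_card hcp).mp hc
    obtain ⟨z, hz⟩ := exists_prime_orderOf_dvd_card' (G := ↥(Subgroup.center ↥T)) 2
      (hn ▸ dvd_pow_self 2 hn0.ne')
    refine ⟨((z : ↥T) : G), by rw [Subgroup.orderOf_coe, Subgroup.orderOf_coe]; exact hz, (z : ↥T).2, fun x hx => ?_⟩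
    rw [Subgroup.mem_centralizer_singleton_iff]
    exact congrArg Subtype.val (Subgroup.mem_center_iff.mp z.2 ⟨x, hx⟩)
  set C := Subgroup.centralizer ({t} : Set G)
  have hself := CfsgLib.Components.centralizer_pCore_le_of_generalizedFitting_eq (h t ht)
  set U := (Cfsg.pCore 2 ↥C).map C.subtype with hUdef
  have hU : IsPGroup 2 ↥U := (CfsgLib.Components.isPGroup_pCore 2).map _
  have hCU : C ≤ Subgroup.normalizer (U : Set G) :=
    CfsgLib.Components.le_normalizer_map_subtype_of_normal C _
  have hTC : Subgroup.centralizer (T : Set G) ≤ C :=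
    Subgroup.centralizer_le (Set.singleton_subset_iff.mpr htT)
  have hin : ∀ R : Subgroup G, R ≤ Subgroup.centralizer (T : Set G) →
      R ≤ Subgroup.centralizer (U : Set G) → R ≤ U := by
    intro R hR hRU x hx
    refine ⟨⟨x, hTC (hR hx)⟩, hself ?_, rfl⟩
    exact fun y hy => Subtype.ext (hRU hx y ⟨y, hy, rfl⟩)
  refine CfsgLib.Components.generalizedFitting_eq_pCore 2 ?_ ?_
  · refine CfsgLib.Components.layer_eq_bot_iff.mpr fun K hK => ?_
    have hKT : K.map (Subgroup.normalizer (T : Set G)).subtype ≤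
        Subgroup.centralizer (T : Set G) := by
      have := CfsgLib.Components.isComponent_normalizer_le_centralizer hT hT
        Subgroup.le_normalizer hK (Subgroup.map_subtype_le K)
      exact this
    have hKU := hin _ hKT (CfsgLib.Components.isComponent_normalizer_le_centralizer hT hU
      (htc.trans hCU) hK ((hKT.trans hTC).trans hCU))
    have : IsPGroup 2 ↥K := (hU.to_le hKU).of_equiv
      (K.equivMapOfInjective _ (Subgroup.normalizer (T : Set G)).subtype_injective).symm
    exact CfsgLib.Components.IsComponent.not_isSolvable hK (IsNilpotent.to_isSolvable (h := this.isNilpotent))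
  · intro N hN hN2
    have hNT := (Subgroup.map_mono (CfsgLib.PLocal.le_pPrimeCore hN2)).trans
      (CfsgLib.Components.pPrimeCore_normalizer_le_centralizer_self hT)
    have hNU := hin _ hNT ((Subgroup.map_mono (CfsgLib.PLocal.le_pPrimeCore hN2)).trans
      (CfsgLib.Components.pPrimeCore_normalizer_le_centralizer hT hU (htc.trans hCU)
        (((CfsgLib.Components.pPrimeCore_normalizer_le_centralizer_self hT).trans hTC).trans hCU)))
    refine CfsgLib.PLocal.eq_bot_of_isPGroup_of_coprime ((hU.to_le hNU).of_equiv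
      (N.equivMapOfInjective _ (Subgroup.normalizer (T : Set G)).subtype_injective).symm) hN2

end Cfsg.Agent.S1292
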