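import Cfsg.Statements.S1293
import Cfsg.Agent.Components.PLocal

set_option autoImplicit false
open Cfsg

namespace Cfsg.Agent.S1293

/-- Let G be finite with L_{p'}(G) = 1, and H = N_G(P) for a nontrivial p-subgroup P. Then L_{p'}(H) = 1 and O_{p'}(H) ≤ O_{p'}(G). -/
theorem result {G : Type*} [Group G] [Finite G] (p : ℕ) [Fact p.Prime] (hL : Cfsg.pLayer p G = ⊥) (P : Subgroup G) (hP : IsPGroup p ↥P) (hP1 : P ≠ ⊥) : Cfsg.pLayer p ↥(Subgroup.normalizer (P : Set G)) = ⊥ ∧ (Cfsg.pPrimeCore p ↥(Subgroup.normalizer (P : Set G))).map (Subgroup.normalizer (P : Set G)).subtype ≤ Cfsg.pPrimeCore p G := by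
  have hOc := CfsgLib.PLocal.coprime_card_pPrimeCore p G
  set π := QuotientGroup.mk' (Cfsg.pPrimeCore p G) with hπ
  set N := Subgroup.normalizer (P : Set G) with hN
  set Nb := Subgroup.normalizer (P.map π : Set (G ⧸ Cfsg.pPrimeCore p G)) with hNb
  have hF := CfsgLib.Components.generalizedFitting_normalizer_eq_pCore
    (CfsgLib.Components.centralizer_pCore_quotient_le_of_pLayer_eq_bot hL) (hP.map π)
  have hmapN : Nb = N.map π := CfsgLib.PLocal.normalizer_map_mk'_eq _ hOc hP
  let φ : ↥N →* ↥Nb := (MulEquiv.subgroupCongr hmapN.symm).toMonoidHom.comp (π.subgroupMap N)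
  have hφ : Function.Surjective φ :=
    (MulEquiv.subgroupCongr hmapN.symm).surjective.comp (π.subgroupMap_surjective N)
  have hφval : ∀ x, ((φ x : ↥Nb) : G ⧸ Cfsg.pPrimeCore p G) = π x := fun x => rfl
  have hker : φ.ker = (Cfsg.pPrimeCore p G).subgroupOf N := by
    ext x
    rw [MonoidHom.mem_ker, Subgroup.mem_subgroupOf, ← QuotientGroup.eq_one_iff]
    constructor
    · intro h
      exact (hφval x).symm.trans (congrArg Subtype.val h)
    · intro h
      exact Subtype.ext ((hφval x).trans h)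
  have hO1 : Cfsg.pPrimeCore p ↥Nb = ⊥ := CfsgLib.Components.pPrimeCore_eq_bot_of_centralizer_pCore_le
    (CfsgLib.Components.centralizer_pCore_le_of_generalizedFitting_eq hF)
  have hle : Cfsg.pPrimeCore p ↥N ≤ φ.ker := by
    rw [← Subgroup.map_eq_bot_iff, eq_bot_iff, ← hO1]
    exact CfsgLib.PLocal.map_pPrimeCore_le_of_surjective hφ
  have heq : Cfsg.pPrimeCore p ↥N = φ.ker :=
    le_antisymm hle (hker ▸ CfsgLib.PLocal.pPrimeCore_subgroupOf_le N)
  refine ⟨?_, ?_⟩
  · rw [CfsgLib.Components.pLayer_eq_bot_iff]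
    have hE : Cfsg.layer ↥Nb = ⊥ := CfsgLib.Components.layer_eq_bot_of_map_le_of_isPGroup
      ((CfsgLib.Components.isPGroup_pCore p).map Nb.subtype)
      (Subgroup.map_mono (CfsgLib.Components.layer_le_generalizedFitting.trans hF.le))
    let e := (QuotientGroup.quotientMulEquivOfEq heq).trans
      (QuotientGroup.quotientKerEquivOfSurjective φ hφ)
    have := CfsgLib.Components.map_layer_equiv e
    rw [hE] at this
    exact (Subgroup.map_eq_bot_iff_of_injective _ e.injective).mp this
  · rw [Subgroup.map_le_iff_le_comap]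
    intro x hx
    have hx' := hle hx
    rw [hker] at hx'
    exact hx'

end Cfsg.Agent.S1293
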