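import Cfsg.Statements.S1297
import Cfsg.Agent.Components.LocalBalance

set_option autoImplicit false
open Cfsg

namespace Cfsg.Agent.S1297

/-- Let G be finite. Suppose that for every involution x, writing C = C_G(x), every component K of C / O(C) has K / Z(K) locally balanced. Then G is balanced. -/
theorem result {G : Type*} [Group G] [Finite G] (h : ∀ x : G, orderOf x = 2 → ∀ K : Subgroup (↥(Subgroup.centralizer ({x} : Set G)) ⧸ Cfsg.oddCore ↥(Subgroup.centralizer ({x} : Set G))), Cfsg.IsComponent K → Cfsg.IsLocallyBalanced (↥K ⧸ Subgroup.center ↥K)) : Cfsg.IsBalanced G := by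
  have key : ∀ x y : G, orderOf x = 2 → orderOf y = 2 → x * y = y * x →
      Cfsg.centralizerPPrimeCore 2 x ⊓ Subgroup.centralizer {y} ≤
        Cfsg.centralizerPPrimeCore 2 y ⊓ Subgroup.centralizer {x} := by
    intro x y hx hy hxy
    have hx2 : x ^ 2 = 1 := hx ▸ pow_orderOf_eq_one x
    have hA : Cfsg.IsElementaryAbelian 2 (Subgroup.zpowers x) := by
      refine ⟨inferInstance, fun a ha => ?_⟩
      obtain ⟨j, rfl⟩ := Subgroup.mem_zpowers_iff.mp ha
      rw [← zpow_natCast, ← zpow_mul, mul_comm, zpow_mul, zpow_natCast, hx2, one_zpow]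
    have hdelta : Cfsg.centralizerPPrimeCore 2 x ≤ Cfsg.signalizerDelta 2 (Subgroup.zpowers x) := by
      intro r hr
      refine CfsgLib.Transitivity.mem_signalizerDelta.mpr fun d hd hd1 => ?_
      have : d = x := by
        obtain ⟨j, rfl⟩ := Subgroup.mem_zpowers_iff.mp hd
        rcases Int.even_or_odd' j with ⟨i, rfl | rfl⟩
        · exact absurd (by rw [zpow_mul, zpow_two, ← pow_two, hx2, one_zpow]) hd1
        · rw [zpow_add, zpow_mul, zpow_two, ← pow_two, hx2, one_zpow, one_mul, zpow_one]
      rwa [this]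
    refine le_inf ((inf_le_inf_right _ hdelta).trans
      (CfsgLib.Components.delta_inf_centralizer_le_core le_rfl hA
        (by rw [Nat.card_zpowers, hx, pow_one]) ?_ ?_)) ?_
    · intro a ha
      obtain ⟨j, rfl⟩ := Subgroup.mem_zpowers_iff.mp ha
      exact (Commute.zpow_left hxy j).eq
    · intro K hK H hH A hA hAk
      obtain ⟨a, haA, ha1⟩ := CfsgLib.Components.exists_mem_ne_one_of_card le_rfl hAk
      refine le_bot_iff.mp ?_
      exact (CfsgLib.Components.signalizerDelta_le_coreIn haA ha1).trans
        (h y hy K hK H hH a (orderOf_eq_prime (hA.2 a haA) ha1)).le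
    · exact inf_le_left.trans (CfsgLib.Balance.coreIn_le _)
  intro x y hx hy hxy
  exact le_antisymm (key x y hx hy hxy) (key y x hy hx hxy.symm)

end Cfsg.Agent.S1297
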