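import Cfsg.Statements.S1300

set_option autoImplicit false
open Cfsg

namespace Cfsg.Agent.S1300

/-- For a finite group G, balance in the sense of commuting involutions is the same as 1-balance for the prime 2. -/
theorem result {G : Type*} [Group G] [Finite G] : Cfsg.IsBalanced G ↔ Cfsg.IsKBalanced 2 1 G := by
  constructor
  · intro h A hA hcard b hb hcomm
    obtain ⟨a, haA, ha1⟩ : ∃ a ∈ A, a ≠ 1 := by
      by_contra! h'
      rw [(Subgroup.eq_bot_iff_forall A).mpr h', Subgroup.card_bot] at hcard
      norm_num at hcard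
    have ha2 : orderOf a = 2 := orderOf_eq_prime (hA.2 a haA) ha1
    refine le_trans ?_ (inf_le_left (b := Subgroup.centralizer {a}))
    rw [← h a b ha2 hb (hcomm a haA)]
    exact inf_le_inf_right _ (iInf_le (fun a : {a : G // a ∈ A ∧ a ≠ 1} => Cfsg.centralizerPPrimeCore 2 (a : G)) ⟨a, haA, ha1⟩)
  · intro h x y hx hy hxy
    have key : ∀ x y : G, orderOf x = 2 → orderOf y = 2 → x * y = y * x →
        Cfsg.centralizerPPrimeCore 2 x ⊓ Subgroup.centralizer {y} ≤
          Cfsg.centralizerPPrimeCore 2 y ⊓ Subgroup.centralizer {x} := by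
      intro x y hx hy hxy
      refine le_inf ?_ (inf_le_left.trans (Subgroup.map_subtype_le _))
      have hA : Cfsg.IsElementaryAbelian 2 (Subgroup.zpowers x) := by
        refine ⟨inferInstance, fun a ha => ?_⟩
        obtain ⟨k, rfl⟩ := Subgroup.mem_zpowers_iff.mp ha
        have : (x : G) ^ 2 = 1 := hx ▸ pow_orderOf_eq_one x
        rw [← zpow_natCast, ← zpow_mul, mul_comm, zpow_mul, zpow_natCast, this, one_zpow]
      refine le_trans (inf_le_inf_right _ ?_) (h (Subgroup.zpowers x) hA
        (by rw [Nat.card_zpowers, hx, pow_one]) y hy fun a ha => ?_)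
      · refine le_iInf fun a => ?_
        obtain ⟨a, ha, ha1⟩ := a
        obtain ⟨k, rfl⟩ := Subgroup.mem_zpowers_iff.mp ha
        have hk : x ^ k = x := by
          rw [← zpow_mod_orderOf, hx]
          rcases Int.emod_two_eq k with h2 | h2
          · exact absurd (by rw [← zpow_mod_orderOf, hx]; simp [h2]) ha1
          · simp [h2]
        simp only [hk, le_refl]
      · obtain ⟨k, rfl⟩ := Subgroup.mem_zpowers_iff.mp ha
        exact (show Commute x y from hxy).zpow_left k
    exact le_antisymm (key x y hx hy hxy) (key y x hy hx hxy.symm)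

end Cfsg.Agent.S1300
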