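import Cfsg.Agent.SylowFixing.TwoLocal
-- Template for statement S1301 (row 1301; see /opt/grader/pristine/manifest.json for weights).
-- Copy to Cfsg/Agent/S1301.lean and replace the sorry. The statement below is byte-identical to the frozen
-- statement Cfsg.CfsgFrozen.S1301 (Cfsg/Statements/S1301.lean; the theorem Cfsg.l_balance);
-- the grader kernel-checks Cfsg.Agent.S1301.result against that frozen type. Keep the theorem IN THIS FILE
-- (a `result` declared elsewhere and merely imported here is not credited); helpers may live anywhere
-- under Cfsg/Agent/.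
import Cfsg.Statements.S1301
-- import your own Cfsg.Agent.* helpers here

set_option autoImplicit false
open Cfsg

namespace Cfsg.Agent.S1301

/-- L-balance: for a finite group X and a 2-subgroup T ≤ X, L_{2'}(C_X(T)) ≤ L_{2'}(X). -/
theorem result {X : Type*} [Group X] [Finite X] (T : Subgroup X) (hT : IsPGroup 2 ↥T) : (Cfsg.pLayer 2 ↥(Subgroup.centralizer (T : Set X))).map (Subgroup.centralizer (T : Set X)).subtype ≤ Cfsg.pLayer 2 X := by
  haveI : Fact (Nat.Prime 2) := ⟨Nat.prime_two⟩
  exact CfsgLib.Balance.pLayer_map_subtype_le_two hT le_rfl (Subgroup.centralizer_le_normalizer _)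
    (Or.inr rfl)

end Cfsg.Agent.S1301
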