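import Cfsg.Statements.S1302
import Cfsg.Agent.Inv53.Constrained
import Cfsg.Agent.OddOrder.BG4.Basic

set_option autoImplicit false
open Cfsg

namespace Cfsg.Agent.S1302
open scoped commutatorElement

section Baer

variable {P : Type*} [Group P] (p : ℕ)
  (hc : ∀ x y : P, ⁅x, y⁆ ∈ Subgroup.center P)

include hc

theorem commutator_mul_right (x y z : P) : ⁅x, y * z⁆ = ⁅x, y⁆ * ⁅x, z⁆ := by
  rw [commutatorElement_mul_right_eq_mul_conj, mul_assoc ⁅x, y⁆,
    Subgroup.mem_center_iff.mp (hc x z) y, mul_assoc ⁅x, y⁆, mul_assoc ⁅x, z⁆, mul_inv_cancel,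
    mul_one]

theorem commutator_mul_left (x y z : P) : ⁅x * y, z⁆ = ⁅x, z⁆ * ⁅y, z⁆ := by
  rw [commutatorElement_mul_left_eq_conj_mul, Subgroup.mem_center_iff.mp (hc y z) x,
    mul_assoc ⁅y, z⁆, mul_inv_cancel, mul_one, ← Subgroup.mem_center_iff.mp (hc y z) ⁅x, z⁆]

/-- The Baer addition of a group of class two and odd exponent. -/
@[instance_reducible]
def baer (hp : Odd p) (hexp : ∀ x : P, x ^ p = 1) : AddCommGroup P where
  add x y := x * y * ⁅y, x⁆ ^ ((p + 1) / 2)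
  zero := 1
  neg x := x⁻¹
  nsmul := @nsmulRec P ⟨1⟩ ⟨fun x y => x * y * ⁅y, x⁆ ^ ((p + 1) / 2)⟩
  zsmul := @zsmulRec P ⟨1⟩ ⟨fun x y => x * y * ⁅y, x⁆ ^ ((p + 1) / 2)⟩ ⟨fun x => x⁻¹⟩
    (@nsmulRec P ⟨1⟩ ⟨fun x y => x * y * ⁅y, x⁆ ^ ((p + 1) / 2)⟩)
  zero_add x := by
    show 1 * x * ⁅x, 1⁆ ^ ((p + 1) / 2) = x
    rw [commutatorElement_one_right, one_pow, one_mul, mul_one]
  add_zero x := by
    show x * 1 * ⁅1, x⁆ ^ ((p + 1) / 2) = x
    rw [commutatorElement_one_left, one_pow, mul_one, mul_one]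
  neg_add_cancel x := by
    show x⁻¹ * x * ⁅x, x⁻¹⁆ ^ ((p + 1) / 2) = 1
    rw [show ⁅x, x⁻¹⁆ = 1 by simp [commutatorElement_def], one_pow, inv_mul_cancel, mul_one]
  add_assoc x y z := by
    show x * y * ⁅y, x⁆ ^ ((p + 1) / 2) * z * ⁅z, x * y * ⁅y, x⁆ ^ ((p + 1) / 2)⁆ ^ ((p + 1) / 2) =
      x * (y * z * ⁅z, y⁆ ^ ((p + 1) / 2)) *
        ⁅y * z * ⁅z, y⁆ ^ ((p + 1) / 2), x⁆ ^ ((p + 1) / 2)
    set h := (p + 1) / 2
    have hcen : ∀ u v : P, ∀ w : P, w * ⁅u, v⁆ ^ h = ⁅u, v⁆ ^ h * w := fun u v w =>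
      Subgroup.mem_center_iff.mp (Subgroup.pow_mem _ (hc u v) h) w
    have hC1 : ∀ u v w : P, ⁅u, ⁅v, w⁆ ^ h⁆ = 1 := fun u v w =>
      commutatorElement_eq_one_iff_mul_comm.mpr (hcen v w u)
    have hC2 : ∀ u v w : P, ⁅⁅v, w⁆ ^ h, u⁆ = 1 := fun u v w =>
      commutatorElement_eq_one_iff_mul_comm.mpr (hcen v w u).symm
    rw [commutator_mul_right hc z (x * y), hC1, mul_one, commutator_mul_right hc z x y,
      commutator_mul_left hc (y * z), hC2, mul_one, commutator_mul_left hc y z x,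
      Commute.mul_pow (Subgroup.mem_center_iff.mp (hc z y) _),
      Commute.mul_pow (Subgroup.mem_center_iff.mp (hc z x) _)]
    have e1 := hcen y x z
    have e2 := hcen z y
    calc x * y * ⁅y, x⁆ ^ h * z * (⁅z, x⁆ ^ h * ⁅z, y⁆ ^ h)
        = x * y * z * (⁅y, x⁆ ^ h * ⁅z, x⁆ ^ h * ⁅z, y⁆ ^ h) := by
          rw [mul_assoc (x * y), ← e1]
          simp only [mul_assoc]
      _ = x * y * z * (⁅z, y⁆ ^ h * (⁅y, x⁆ ^ h * ⁅z, x⁆ ^ h)) := by rw [e2]
      _ = x * (y * z * ⁅z, y⁆ ^ h) * (⁅y, x⁆ ^ h * ⁅z, x⁆ ^ h) := by simp only [mul_assoc]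
  add_comm x y := by
    show x * y * ⁅y, x⁆ ^ ((p + 1) / 2) = y * x * ⁅x, y⁆ ^ ((p + 1) / 2)
    obtain ⟨k, hk⟩ := hp
    rw [show (p + 1) / 2 = k + 1 by omega]
    have h1 : y * x = x * y * ⁅y, x⁆ := by
      rw [Subgroup.mem_center_iff.mp (hc y x) (x * y), commutatorElement_def]
      group
    have h2 : ⁅y, x⁆ ^ (2 * k + 1) = 1 := hk ▸ hexp _
    have h3 : ⁅y, x⁆ ^ (k + 1) * ⁅y, x⁆ ^ k = 1 := by rw [← pow_add, ← h2]; congr 1; omega
    rw [h1, ← commutatorElement_inv y x, inv_pow, mul_assoc (x * y)]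
    congr 1
    rw [eq_mul_inv_iff_mul_eq, ← pow_add]
    calc ⁅y, x⁆ ^ (k + 1 + (k + 1)) = ⁅y, x⁆ ^ (k + 1) * ⁅y, x⁆ ^ k * ⁅y, x⁆ := by
          rw [← pow_add, ← pow_succ]; congr 1
      _ = ⁅y, x⁆ := by rw [h3, one_mul]

end Baer

theorem fixed_of_baer {X : Type*} [Group X] [Finite X] {p : ℕ} [Fact p.Prime] (hp : Odd p)
    {D A Q : Subgroup X} (hexp : ∀ x ∈ D, x ^ p = 1)
    (hcl : ∀ x ∈ D, ∀ y ∈ D, ∀ z ∈ D, Commute ⁅x, y⁆ z) (hA : IsPGroup p A)
    (hQ : (Nat.card Q).Coprime p) (hAD : A ≤ Subgroup.normalizer (D : Set X))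
    (hQD : Q ≤ Subgroup.normalizer (D : Set X)) (hAQ : A ≤ Subgroup.normalizer (Q : Set X))
    (hfix : D ⊓ Subgroup.centralizer (A : Set X) ≤ Subgroup.centralizer (Q : Set X)) :
    Q ≤ Subgroup.centralizer (D : Set X) := by
  classical
  have hc : ∀ x y : D, ⁅x, y⁆ ∈ Subgroup.center D := fun x y => Subgroup.mem_center_iff.mpr
    fun z => Subtype.ext (hcl x x.2 y y.2 z z.2).eq.symm
  letI M : AddCommGroup D := baer p hc hp fun x => Subtype.ext (hexp x x.2)
  let H := Subgroup.normalizer (D : Set X)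
  let c : H → MulAut D := Subgroup.normalizerMonoidHom D
  have hadd : ∀ (g : H) (x y : D), c g (x + y) = c g x + c g y := by
    intro g x y
    show c g (x * y * ⁅y, x⁆ ^ ((p + 1) / 2)) = c g x * c g y * ⁅c g y, c g x⁆ ^ ((p + 1) / 2)
    rw [map_mul, map_mul, map_pow, map_commutatorElement]
  let σ : H → D →+ D := fun g => AddMonoidHom.mk' (fun x => c g x) (hadd g)
  have hσ : ∀ (g g' : H) (x : D), σ (g * g') x = σ g (σ g' x) := fun g g' x => Subtype.ext (by
    show ((g : X) * g') * x * ((g : X) * g')⁻¹ = g * (g' * x * (g' : X)⁻¹) * (g : X)⁻¹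
    group)
  let iQ : Q → H := Subgroup.inclusion hQD
  let iA : A → H := Subgroup.inclusion hAD
  letI : Fintype Q := Fintype.ofFinite Q
  let n := Fintype.card Q
  let S : D →+ D := ∑ q : Q, σ (iQ q)
  let f : D →+ D := n • AddMonoidHom.id D - S
  have hSQ : ∀ (q : Q) (x : D), σ (iQ q) (S x) = S x := by
    intro q x
    simp only [S, AddMonoidHom.finset_sum_apply, map_sum]
    refine Fintype.sum_equiv (Equiv.mulLeft q) _ _ fun r => ?_
    rw [← hσ]
    rfl
  have hSA : ∀ (a : A) (x : D), σ (iA a) (S x) = S (σ (iA a) x) := by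
    intro a x
    simp only [S, AddMonoidHom.finset_sum_apply, map_sum]
    let e : Q ≃* Q := Subgroup.normalizerMonoidHom Q ⟨a, hAQ a.2⟩
    refine Fintype.sum_equiv e.toEquiv _ _ fun r => ?_
    rw [← hσ, ← hσ]
    congr 2
    apply Subtype.ext
    show (a : X) * r = (a * r * (a : X)⁻¹) * a
    group
  have hfA : ∀ (a : A) (x : D), σ (iA a) (f x) = f (σ (iA a) x) := by
    intro a x
    simp only [f, AddMonoidHom.sub_apply, AddMonoidHom.nsmul_apply, AddMonoidHom.id_apply,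
      map_sub, map_nsmul, hSA]
  have hSf : ∀ x, S (f x) = 0 := by
    intro x
    have h1 : S (S x) = n • S x := by
      show (∑ q : Q, σ (iQ q)) (S x) = _
      rw [AddMonoidHom.finset_sum_apply, Finset.sum_congr rfl fun q _ => hSQ q x,
        Finset.sum_const, Finset.card_univ]
    simp only [f, AddMonoidHom.sub_apply, AddMonoidHom.nsmul_apply, AddMonoidHom.id_apply,
      map_sub, map_nsmul, h1, sub_self]
  have hn : ∀ x : D, n • x = 0 → x = 0 := by
    intro x hx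
    have hD : IsPGroup p D := fun y => ⟨1, Subtype.ext (by rw [pow_one]; simpa using hexp y y.2)⟩
    obtain ⟨k, hk⟩ := hD.exists_card_eq
    exact AddMonoid.addOrderOf_eq_one_iff.mp (Nat.eq_one_of_dvd_coprimes
      (show n.Coprime (p ^ k) by
        rw [show n = Nat.card Q from Fintype.card_eq_nat_card]; exact hQ.pow_right k)
      (addOrderOf_dvd_of_nsmul_eq_zero hx) (hk ▸ addOrderOf_dvd_natCard x))
  -- the range of `f` has no fixed point of `A` except zero
  let T := Set.range f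
  letI act : MulAction A T :=
    { smul := fun a x => ⟨σ (iA a) x, by
        obtain ⟨y, hy⟩ := x.2
        exact ⟨σ (iA a) y, by rw [← hfA, hy]⟩⟩
      one_smul := fun x => Subtype.ext (Subtype.ext (by
        show (1 : X) * ((x : D) : X) * (1 : X)⁻¹ = _
        simp))
      mul_smul := fun a b x => Subtype.ext (hσ (iA a) (iA b) x) }
  have hT : ∀ x : T, x ∈ MulAction.fixedPoints A T → (x : D) = 0 := by
    intro x hx
    have hxC : ((x : D) : X) ∈ Subgroup.centralizer (Q : Set X) := by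
      refine hfix ⟨(x : D).2, Subgroup.mem_centralizer_iff.mpr fun a ha => ?_⟩
      have h1 : a * ((x : D) : X) * a⁻¹ = ((x : D) : X) :=
        congrArg (fun y : T => ((y : D) : X)) (MulAction.mem_fixedPoints.mp hx ⟨a, ha⟩)
      exact mul_inv_eq_iff_eq_mul.mp h1
    obtain ⟨y, hy⟩ := x.2
    refine hn _ ?_
    rw [← hy, ← hSf y, hy]
    simp only [S, AddMonoidHom.finset_sum_apply]
    rw [Finset.sum_congr rfl fun (q : Q) _ => (Subtype.ext ?_ : σ (iQ q) (x : D) = (x : D)),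
      Finset.sum_const, Finset.card_univ]
    show (q : X) * ((x : D) : X) * (q : X)⁻¹ = _
    rw [Subgroup.mem_centralizer_iff.mp hxC q q.2, mul_inv_cancel_right]
  have hf0 : ∀ x, f x = 0 := by
    have hD : IsPGroup p D := fun y => ⟨1, Subtype.ext (by rw [pow_one]; simpa using hexp y y.2)⟩
    intro x
    by_contra hne
    have hcard : p ∣ Nat.card T := by
      have hT' : Nat.card T = Nat.card f.range := rfl
      obtain ⟨k, hk⟩ := hD.exists_card_eq
      obtain ⟨j, -, hj⟩ := (Nat.dvd_prime_pow (Fact.out : p.Prime)).mp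
        (hk ▸ AddSubgroup.card_addSubgroup_dvd_card f.range)
      rw [hT', hj]
      rcases j with _ | j
      · exfalso
        have : f.range = ⊥ := AddSubgroup.card_eq_one.mp (by simpa using hj)
        exact hne (AddSubgroup.mem_bot.mp (this ▸ ⟨x, rfl⟩))
      · exact dvd_pow_self p j.succ_ne_zero
    have h0 : (⟨0, 0, map_zero f⟩ : T) ∈ MulAction.fixedPoints A T :=
      MulAction.mem_fixedPoints.mpr fun a => Subtype.ext (map_zero _)
    obtain ⟨b, hb, hb0⟩ := hA.exists_fixed_point_of_prime_dvd_card_of_fixed_point T hcard h0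
    exact hb0 (Subtype.ext (hT b hb).symm)
  intro q hq
  rw [Subgroup.mem_centralizer_iff]
  intro x hx
  have h1 : n • (⟨x, hx⟩ : D) = S ⟨x, hx⟩ := by
    have := hf0 ⟨x, hx⟩
    simpa only [f, AddMonoidHom.sub_apply, AddMonoidHom.nsmul_apply, AddMonoidHom.id_apply,
      sub_eq_zero] using this
  have h2 : n • (σ (iQ ⟨q, hq⟩) ⟨x, hx⟩ - ⟨x, hx⟩) = 0 := by
    rw [smul_sub, ← map_nsmul, h1, hSQ, sub_self]
  have h3 : q * x * q⁻¹ = x := congrArg Subtype.val (sub_eq_zero.mp (hn _ h2))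
  exact (mul_inv_eq_iff_eq_mul.mp h3).symm

theorem key {X : Type*} [Group X] [Finite X] {p : ℕ} [Fact p.Prime] (hp : p ≠ 2)
    (hC : Subgroup.centralizer (Cfsg.pCore p X : Set X) ≤ Cfsg.pCore p X) {A Q : Subgroup X}
    (hAp : IsPGroup p A) (hΩ : ∀ x ∈ Subgroup.centralizer (A : Set X), orderOf x = p → x ∈ A)
    (hQ : (Nat.card Q).Coprime p) (hAQ : A ≤ Subgroup.normalizer (Q : Set X)) : Q = ⊥ := by
  set R := Cfsg.pCore p X
  have hR := CfsgLib.PLocal.isPGroup_pCore p X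
  obtain ⟨C, hCc, hCp, hCcl, hCf⟩ := CfsgLib.OddOrder.BG4.exists_critical_exponent hp hR
  set D := C.map R.subtype
  have hDR : D ≤ R := Subgroup.map_subtype_le _
  have hn : ∀ g : X, g ∈ Subgroup.normalizer (D : Set X) := fun g =>
    (Subgroup.normalizer_eq_top_iff.mpr (inferInstance : D.Normal)) ▸ Subgroup.mem_top g
  have hbot : R ⊓ Q = ⊥ := by
    obtain ⟨k, hk⟩ := hR.exists_card_eq
    exact CfsgLib.Coprime.inf_eq_bot_of_coprime (hk ▸ (hQ.pow_right k).symm)
  have hQD : Q ≤ Subgroup.centralizer (D : Set X) := by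
    refine fixed_of_baer ((Fact.out : p.Prime).odd_of_ne_two hp) ?_ ?_ hAp hQ (fun g _ => hn g)
      (fun g _ => hn g) hAQ fun x hx => ?_
    · rintro _ ⟨x, hx, rfl⟩
      rw [← map_pow, hCp x hx, map_one]
    · rintro _ ⟨x, hx, rfl⟩ _ ⟨y, hy, rfl⟩ _ ⟨z, hz, rfl⟩
      exact (hCcl x hx y hy z hz).map R.subtype
    · by_cases hx1 : x = 1
      · exact hx1 ▸ one_mem _
      have hxp : x ^ p = 1 := by
        obtain ⟨y, hy, rfl⟩ := hx.1
        rw [← map_pow, hCp y hy, map_one]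
      have hxA : x ∈ A := hΩ x hx.2 (orderOf_eq_prime hxp hx1)
      rw [Subgroup.mem_centralizer_iff]
      intro q hq
      refine (commutatorElement_eq_one_iff_mul_comm.mp ?_).symm
      have h1 : ⁅x, q⁆ ∈ R ⊓ Q := ⟨by
        rw [commutatorElement_def, mul_assoc, mul_assoc]
        refine mul_mem (hDR hx.1) ?_
        rw [← mul_assoc]
        exact (inferInstance : R.Normal).conj_mem _ (inv_mem (hDR hx.1)) q, by
        rw [commutatorElement_def]
        exact Q.mul_mem ((Subgroup.mem_normalizer_iff.mp (hAQ hxA) q).mp hq) (Q.inv_mem hq)⟩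
      rwa [hbot, Subgroup.mem_bot] at h1
  rw [eq_bot_iff, ← hbot]
  refine le_inf (fun t ht => hC ?_) le_rfl
  have htR : t ∈ Subgroup.normalizer (R : Set X) :=
    (Subgroup.normalizer_eq_top_iff.mpr (inferInstance : R.Normal)) ▸ Subgroup.mem_top t
  let a : MulAut R := R.normalizerMonoidHom ⟨t, htR⟩
  have ha : a = 1 := by
    refine hCf a ?_ fun x hx => Subtype.ext ?_
    · refine Nat.Coprime.coprime_dvd_left (orderOf_map_dvd R.normalizerMonoidHom _) ?_
      rw [← Subgroup.orderOf_coe]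
      exact hQ.coprime_dvd_left (Subgroup.orderOf_dvd_natCard Q ht)
    · show t * x * t⁻¹ = x
      rw [← (Subgroup.mem_centralizer_iff.mp (hQD ht) x (Subgroup.mem_map_of_mem _ hx) :
        (x : X) * t = t * x), mul_inv_cancel_right]
  rw [Subgroup.mem_centralizer_iff]
  intro x hx
  have h3 : t * x * t⁻¹ = x := congrArg Subtype.val (DFunLike.congr_fun ha (⟨x, hx⟩ : R))
  exact (mul_inv_eq_iff_eq_mul.mp h3).symm


/-- Let X be a finite p-constrained group, p an odd prime, and A an abelian p-subgroup of X containing every element of order p of C_X(A). Then every subgroup of X of order prime to p that is normalized by A lies in O_{p'}(X). -/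
theorem result {X : Type*} [Group X] [Finite X] (p : ℕ) [Fact p.Prime] (hp : p ≠ 2) (hX : Cfsg.IsPConstrained p X) (A : Subgroup X) (hA : IsMulCommutative ↥A) (hAp : IsPGroup p ↥A) (hΩ : ∀ x ∈ Subgroup.centralizer (A : Set X), orderOf x = p → x ∈ A) (Q : Subgroup X) (hQ : ¬ p ∣ Nat.card ↥Q) (hAQ : A ≤ Subgroup.normalizer (Q : Set X)) : Q ≤ Cfsg.pPrimeCore p X := by
  set N := Cfsg.pPrimeCore p X
  set π := QuotientGroup.mk' N
  have hN := CfsgLib.PLocal.coprime_card_pPrimeCore p X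
  have hm : Q.map π = ⊥ := by
    have : IsMulCommutative ↥A := hA
    refine key hp (CfsgLib.Inv53.centralizer_pCore_le_quotient hX)
      (hAp.map π) (A := A.map π) ?_ ((CfsgLib.PLocal.not_dvd_iff_coprime.mpr hQ).coprime_dvd_left
        (Subgroup.card_map_dvd _ _)) ((Subgroup.map_mono hAQ).trans (Subgroup.le_normalizer_map _))
    intro x hx hxp
    rw [CfsgLib.PLocal.centralizer_map_mk'_eq N hN hAp] at hx
    obtain ⟨y, hy, rfl⟩ := hx
    -- replace `y` by its `p`-part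
    obtain ⟨k, m, hm, hym⟩ := Nat.exists_eq_pow_mul_and_not_dvd
      (isOfFinOrder_of_finite y).orderOf_pos.ne' p (Fact.out : p.Prime).ne_one
    have hcop : m.Coprime p := CfsgLib.PLocal.not_dvd_iff_coprime.mpr hm
    have hyp : y ^ p ∈ N := (QuotientGroup.eq_one_iff _).mp (show π (y ^ p) = 1 by
      rw [map_pow]; exact orderOf_dvd_iff_pow_eq_one.mp hxp.dvd)
    have hz1 : (y ^ m) ^ p = 1 := by
      refine orderOf_eq_one_iff.mp (Nat.eq_one_of_dvd_coprimes (hN.pow_right k)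
        (Subgroup.orderOf_dvd_natCard N (?_ : (y ^ m) ^ p ∈ N)) (orderOf_dvd_of_pow_eq_one ?_))
      · rw [← pow_mul, mul_comm, pow_mul]; exact N.pow_mem hyp m
      · rw [← pow_mul, ← pow_mul, ← orderOf_dvd_iff_pow_eq_one, hym]
        exact ⟨p, by ring⟩
    have hne : y ^ m ≠ 1 := by
      intro h
      have h1 : π y ^ m = 1 := by rw [← map_pow, h, map_one]
      exact hm (hxp ▸ orderOf_dvd_of_pow_eq_one h1)
    have hzA : y ^ m ∈ A := hΩ _ (Subgroup.pow_mem _ hy m) (orderOf_eq_prime hz1 hne)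
    obtain ⟨j, hj⟩ := exists_pow_eq_self_of_coprime (x := π y) (n := m) (by rw [hxp]; exact hcop)
    rw [← hj, ← map_pow π y m, ← map_pow]
    exact Subgroup.mem_map_of_mem π (A.pow_mem hzA j)
  rwa [Subgroup.map_eq_bot_iff, QuotientGroup.ker_mk'] at hm

end Cfsg.Agent.S1302
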