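import Cfsg.Statements.S1303

set_option autoImplicit false
open Cfsg

namespace Cfsg.Agent.S1303

abbrev X := Matrix.SpecialLinearGroup (Fin 2) (ZMod 3)

/-- The quaternion subgroup of `SL(2, 3)`. -/
def Q8 : Subgroup X where
  carrier := {x | x ^ 4 = 1}
  one_mem' := one_pow 4
  mul_mem' := fun {a b} ha hb => by
    have key : ∀ a b : X, a ^ 4 = 1 → b ^ 4 = 1 → (a * b) ^ 4 = 1 := by decide +kernel
    exact key a b ha hb
  inv_mem' := fun {a} ha => by
    change a⁻¹ ^ 4 = 1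
    rw [inv_pow]
    exact inv_eq_one.mpr ha

theorem Q8_normal : Q8.Normal := ⟨fun x hx g => by
  change (g * x * g⁻¹) ^ 4 = 1
  rw [conj_pow, show x ^ 4 = 1 from hx, mul_one, mul_inv_cancel]⟩

theorem Q8_pGroup : IsPGroup 2 Q8 := fun x => ⟨2, Subtype.ext x.2⟩


/-- The group X = SL(2, 3): it is 2-constrained, O_{2'}(X) = 1, its centre A = Z(X) contains every involution of X = C_X(A), and X has a subgroup of order 3 (normalized by A) not contained in O_{2'}(X). -/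
theorem result : Cfsg.IsPConstrained 2 (Matrix.SpecialLinearGroup (Fin 2) (ZMod 3)) ∧ Cfsg.pPrimeCore 2 (Matrix.SpecialLinearGroup (Fin 2) (ZMod 3)) = ⊥ ∧ (∀ t : Matrix.SpecialLinearGroup (Fin 2) (ZMod 3), orderOf t = 2 → t ∈ Subgroup.center (Matrix.SpecialLinearGroup (Fin 2) (ZMod 3))) ∧ ∃ Q : Subgroup (Matrix.SpecialLinearGroup (Fin 2) (ZMod 3)), Nat.card ↥Q = 3 ∧ ¬ (Q ≤ Cfsg.pPrimeCore 2 (Matrix.SpecialLinearGroup (Fin 2) (ZMod 3))) := by
  have hodd : ∀ N : Subgroup X, N.Normal → (Nat.card N).Coprime 2 → N = ⊥ := by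
    intro N hN hc
    rw [Subgroup.eq_bot_iff_forall]
    have h3 : ∀ x ∈ N, x ^ 3 = 1 := by
      intro x hx
      have h24 : ∀ x : X, x ^ 24 = 1 := by decide +kernel
      have hd : orderOf x ∣ 24 := orderOf_dvd_of_pow_eq_one (h24 x)
      have hc' : Nat.Coprime (orderOf x) (2 ^ 3) :=
        (Nat.Coprime.coprime_dvd_left (Subgroup.orderOf_dvd_natCard N hx) hc).pow_right 3
      exact orderOf_dvd_iff_pow_eq_one.mp (hc'.dvd_of_dvd_mul_left (show orderOf x ∣ 2 ^ 3 * 3 from hd))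
    have key : ∀ x : X, x ^ 3 = 1 → (∀ g : X, (g * x * g⁻¹ * x⁻¹) ^ 3 = 1) → x = 1 := by
      decide +kernel
    intro x hx
    exact key x (h3 x hx) fun g => h3 _ (mul_mem (hN.conj_mem x hx g) (inv_mem hx))
  have hcore : Cfsg.pPrimeCore 2 X = ⊥ := eq_bot_iff.mpr (sSup_le fun N hN => (hodd N hN.1 hN.2).le)
  have hQ8 : Q8 ≤ Cfsg.pPrimePCore 2 X := by
    rw [Cfsg.pPrimePCore, ← Subgroup.map_le_iff_le_comap]
    exact le_sSup ⟨Q8_normal.map _ (QuotientGroup.mk'_surjective _), Q8_pGroup.map _⟩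
  refine ⟨?_, hcore, ?_, ?_⟩
  · intro P x hx
    have hle : Q8.subgroupOf (Cfsg.pPrimePCore 2 X) ≤ P := by
      have hn : (Q8.subgroupOf (Cfsg.pPrimePCore 2 X)).Normal := Q8_normal.subgroupOf _
      exact P.is_maximal' (P.2.to_sup_of_normal_right
        (Q8_pGroup.of_equiv (Subgroup.subgroupOfEquivOfLe hQ8).symm)) le_sup_left |>.symm ▸ le_sup_right
    have hc : ∀ y : X, y ^ 4 = 1 → x * y = y * x := by
      intro y hy
      have hyQ : y ∈ Q8 := hy
      exact ((Subgroup.mem_centralizer_iff.mp hx) y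
        ⟨⟨y, hQ8 hyQ⟩, hle (show (⟨y, hQ8 hyQ⟩ : ↥(Cfsg.pPrimePCore 2 X)) ∈ Q8.subgroupOf _ from hyQ), rfl⟩).symm
    have key : ∀ x : X, (∀ y : X, y ^ 4 = 1 → x * y = y * x) → x ^ 4 = 1 := by decide +kernel
    exact hQ8 (key x hc)
  · intro t ht
    rw [Subgroup.mem_center_iff]
    have key : ∀ t : X, t ^ 2 = 1 → ∀ g : X, g * t = t * g := by decide +kernel
    exact key t ((congrArg (t ^ ·) ht).symm.trans (pow_orderOf_eq_one t))
  · obtain ⟨r, hr3, hr1⟩ : ∃ r : X, r ^ 3 = 1 ∧ r ≠ 1 := by decide +kernel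
    refine ⟨Subgroup.zpowers r, by rw [Nat.card_zpowers]; exact orderOf_eq_prime hr3 hr1, ?_⟩
    rw [hcore]
    exact fun h => hr1 ((Subgroup.mem_bot).mp (h (Subgroup.mem_zpowers r)))

end Cfsg.Agent.S1303
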