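import Cfsg.Statements.S1305
import Cfsg.Agent.InvComp.Trichotomy
import Cfsg.Agent.InvComp.EvenComponent
-- import your own Cfsg.Agent.* helpers here

set_option autoImplicit false
open Cfsg
open Subgroup
open scoped commutatorElement

namespace Cfsg.Agent.S1305

/-- Let G be a finite group of component type with the B-property and no nontrivial normal subgroup of odd order. Let a be an involution and K a component of C_G(a) such that (a) |K| is maximal among the orders of components of centralizers of involutions of G, (b) subject to (a) the 2-rank of the centralizer of K in C_G(a) is as large as possible, and (c) K has 2-rank at least 2. If B is an elementary abelian 2-subgroup of that centralizer of the largest possible order, then K is a component of C_G(b) for every non-identity b ∈ B. -/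
theorem result {G : Type*} [Group G] [Finite G] (hO : Cfsg.oddCore G = ⊥) (hB : Cfsg.HasBProperty G) (hct : Cfsg.IsComponentType G) (a : G) (ha : orderOf a = 2) (K : Subgroup G) (hKa : K ≤ Subgroup.centralizer ({a} : Set G)) (hK : Cfsg.IsComponent (K.subgroupOf (Subgroup.centralizer ({a} : Set G)))) (hmax : ∀ y : G, orderOf y = 2 → ∀ K' : Subgroup G, K' ≤ Subgroup.centralizer ({y} : Set G) → Cfsg.IsComponent (K'.subgroupOf (Subgroup.centralizer ({y} : Set G))) → Nat.card ↥K' ≤ Nat.card ↥K ∧ (Nat.card ↥K' = Nat.card ↥K → ∀ k : ℕ, Cfsg.PRankLE 2 k ↥(Subgroup.centralizer ({a} : Set G) ⊓ Subgroup.centralizer (K : Set G)) → Cfsg.PRankLE 2 k ↥(Subgroup.centralizer ({y} : Set G) ⊓ Subgroup.centralizer (K' : Set G)))) (hrk : ¬ Cfsg.PRankLE 2 1 ↥K) (B : Subgroup G) (hBle : B ≤ Subgroup.centralizer ({a} : Set G) ⊓ Subgroup.centralizer (K : Set G)) (hBel : Cfsg.IsElementaryAbelian 2 B) (hBmax : ∀ B' : Subgroup G, B' ≤ Subgroup.centralizer ({a} : Set G) ⊓ Subgroup.centralizer (K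 : Set G) → Cfsg.IsElementaryAbelian 2 B' → Nat.card ↥B' ≤ Nat.card ↥B) (b : G) (hb : b ∈ B) (hb1 : b ≠ 1) : K ≤ Subgroup.centralizer ({b} : Set G) ∧ Cfsg.IsComponent (K.subgroupOf (Subgroup.centralizer ({b} : Set G))) := by
  haveI : Fact (Nat.Prime 2) := ⟨Nat.prime_two⟩
  set Ca := centralizer ({a} : Set G) with hCa
  set C := centralizer ({b} : Set G) with hC
  have hbC := hBle hb
  have hab : a * b = b * a := (mem_centralizer_singleton_iff.mp hbC.1).symm
  have hKb : K ≤ C := fun k hk => mem_centralizer_singleton_iff.mpr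
    (mem_centralizer_iff.mp hbC.2 k hk)
  refine ⟨hKb, ?_⟩
  have hbord : orderOf b = 2 := orderOf_eq_prime (hBel.2 b hb) hb1
  -- the 2-components of `C(b)` are components
  have hlayer : Cfsg.pLayer 2 C ≤ Cfsg.layer C := sSup_le fun K' hK' => by
    refine CfsgLib.Components.IsComponent.le_layer ⟨hK'.1,
      (CfsgLib.Components.IsPComponent.isComponent_iff hK').mpr ?_⟩
    rw [eq_bot_iff]
    intro y hy
    have h := hB b hbord (mem_map_of_mem C.subtype
      (commutator_mono (le_sSup hK') inf_le_right hy : y ∈ ⁅Cfsg.pLayer 2 C, Cfsg.oddCore C⁆))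
    rw [hO, mem_bot] at h
    exact mem_bot.mpr (Subtype.ext h)
  set t : C := ⟨a, mem_centralizer_singleton_iff.mpr hab⟩ with ht
  have ha2 : a * a = 1 := by rw [← sq, ← ha, pow_orderOf_eq_one]
  have htt : t * t = 1 := Subtype.ext ha2
  have haa : a⁻¹ = a := inv_eq_of_mul_eq_one_right ha2
  set L := K.subgroupOf C with hLdef
  set Ct := centralizer ({t} : Set C) with hCt
  have hLt : L ≤ Ct := fun l hl => mem_centralizer_singleton_iff.mpr (Subtype.ext
    (mem_centralizer_singleton_iff.mp (hKa (mem_subgroupOf.mp hl))))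
  have hι : ∀ w : Ct, ((w : C) : G) ∈ Ca := fun w => mem_centralizer_singleton_iff.mpr
    (congrArg Subtype.val (mem_centralizer_singleton_iff.mp w.2))
  have hLc : Cfsg.IsComponent (L.subgroupOf Ct) := by
    refine ⟨?_, CfsgLib.Components.isQuasisimple_congr (((subgroupOfEquivOfLe hLt).trans
      (subgroupOfEquivOfLe hKb)).trans (subgroupOfEquivOfLe hKa).symm).symm hK.2⟩
    have h := hK.1.comap ((C.subtype.comp Ct.subtype).codRestrict Ca hι)
    exact h
  -- `K` has rank at least two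
  obtain ⟨E₀, hE₀c, hE₀2, hE₀card⟩ : ∃ A : Subgroup K, IsMulCommutative A ∧ (∀ x ∈ A, x ^ 2 = 1) ∧
      2 ^ 1 < Nat.card A := by
    unfold Cfsg.PRankLE at hrk
    push Not at hrk
    exact hrk
  have hK2 : 2 ∣ Nat.card K := by
    have hP : IsPGroup 2 E₀ := fun x => ⟨1, Subtype.ext (by simpa using hE₀2 x x.2)⟩
    obtain ⟨n, hn⟩ := IsPGroup.iff_card.mp hP
    refine dvd_trans ?_ E₀.card_subgroup_dvd_card
    rw [hn]
    refine dvd_pow_self 2 ?_
    rintro rfl
    rw [hn] at hE₀card; omega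
  have hlay : L ≤ Cfsg.layer C := by
    refine (CfsgLib.InvComp.le_pLayer_of_isComponent_centralizer (R := zpowers t)
      (IsPGroup.of_card (n := 1) ?_) ?_ ?_ ?_).trans hlayer
    · rw [Nat.card_zpowers, ht, orderOf_mk, ha, pow_one]
    · rwa [zpowers_eq_closure, centralizer_closure]
    · rw [zpowers_eq_closure, centralizer_closure]; exact hLc
    · rwa [Nat.card_congr (subgroupOfEquivOfLe hKb).toEquiv]
  obtain ⟨D, hD, hcase⟩ := CfsgLib.InvComp.component_cases htt hLt hLc hlay
  set D' := D.map C.subtype with hD'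
  have hD'C : D' ≤ C := map_subtype_le D
  have hD'c : Cfsg.IsComponent (D'.subgroupOf C) := by
    rwa [hD', subgroupOf, comap_map_eq_self_of_injective C.subtype_injective]
  obtain ⟨hcard, hrank⟩ := hmax b hbord D' hD'C hD'c
  have hDD' : Nat.card D' = Nat.card D := card_map_of_injective C.subtype_injective
  have hLK : Nat.card L = Nat.card K := Nat.card_congr (subgroupOfEquivOfLe hKb).toEquiv
  rcases hcase with ⟨-, hLD⟩ | ⟨hne, φ, hφ, hφr⟩
  · have hLeq : L = D := eq_of_le_of_card_ge hLD (by rw [hLK, ← hDD']; exact hcard)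
    exact hLeq ▸ hD
  exfalso
  -- `D` is isomorphic to `K`
  have hle : Nat.card L ≤ Nat.card D := by
    rw [← hφr]
    exact Nat.card_le_card_of_surjective φ.rangeRestrict φ.rangeRestrict_surjective
  have heq : Nat.card D' = Nat.card K := le_antisymm hcard (by rw [hDD', ← hLK]; exact hle)
  have hinj : Function.Injective φ := by
    have hb' : Function.Bijective φ.rangeRestrict :=
      φ.rangeRestrict_surjective.bijective_of_nat_card_le (by rw [hφr, ← hDD', heq, hLK])
    exact fun u v h => hb'.1 (Subtype.ext h)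
  have hBC : B ≤ C := fun c hc => mem_centralizer_singleton_iff.mpr
    (congrArg Subtype.val (hBel.1.is_comm.comm ⟨c, hc⟩ ⟨b, hb⟩))
  set B' := B.subgroupOf C with hB'
  have hBt : ∀ c ∈ B', Commute c t := fun c hc => Subtype.ext
    (mem_centralizer_singleton_iff.mp (hBle (mem_subgroupOf.mp hc)).1)
  have hBL : ∀ c ∈ B', ∀ l ∈ L, c * l * c⁻¹ = l := fun c hc l hl => Subtype.ext (by
    simp only [Subgroup.coe_mul, InvMemClass.coe_inv]
    rw [← mem_centralizer_iff.mp (hBle (mem_subgroupOf.mp hc)).2 (l : G) (mem_subgroupOf.mp hl),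
      mul_inv_cancel_right])
  set cj : C → Subgroup C → Subgroup C := fun g H => H.map (MulAut.conj g).toMonoidHom with hcj
  have hcj2 : ∀ g h H, cj g (cj h H) = cj (g * h) H := fun g h H => by
    rw [hcj]; simp only [map_map]; congr 1; ext x; simp [mul_assoc]
  set Dt := cj t D with hDt
  have hDtc : Cfsg.IsComponent Dt := CfsgLib.Components.IsComponent.conj hD t
  have hLP : L ≤ D ⊔ Dt := by
    rw [← hφr]
    rintro _ ⟨d, rfl⟩
    rw [hφ]
    exact mul_mem_sup d.2 ⟨d, d.2, rfl⟩
  have horb : ∀ c ∈ B', cj c D = D ∨ cj c D = Dt := by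
    intro c hc
    by_contra hcon
    push Not at hcon
    have hcD : Cfsg.IsComponent (cj c D) := CfsgLib.Components.IsComponent.conj hD c
    have hne' : ∀ J, J = D ∨ J = Dt → cj c D ≠ J := by
      rintro J (rfl | rfl); exacts [hcon.1, hcon.2]
    have h2 : cj c Dt = cj t (cj c D) := by rw [hDt, hcj2, hcj2, (hBt c hc).eq]
    have hne2 : ∀ J, J = D ∨ J = Dt → cj c Dt ≠ J := by
      intro J hJ he
      have he' : cj c D = cj t J := by
        rw [← he, h2, hcj2, htt]
        exact (Subgroup.map_id _).symm.trans (by congr 1; ext x; simp)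
      rcases hJ with rfl | rfl
      · exact hcon.2 he'
      · refine hcon.1 (he'.trans ?_)
        rw [hDt, hcj2, htt, hcj]
        exact (by congr 1; ext x; simp : _ = D.map (MonoidHom.id C)).trans (Subgroup.map_id _)
    have hcomm : cj c D ⊔ cj c Dt ≤ centralizer ((D ⊔ Dt : Subgroup C) : Set C) := by
      refine sup_le ?_ ?_ <;> refine le_centralizer_iff.mp (sup_le ?_ ?_)
      all_goals
        rw [le_centralizer_iff, ← commutator_eq_bot_iff_le_centralizer]
      · exact CfsgLib.Components.IsComponent.commutator_eq_bot_of_ne hcD hD (hne' _ (Or.inl rfl))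
      · exact CfsgLib.Components.IsComponent.commutator_eq_bot_of_ne hcD hDtc (hne' _ (Or.inr rfl))
      · exact CfsgLib.Components.IsComponent.commutator_eq_bot_of_ne
          (CfsgLib.Components.IsComponent.conj hDtc c) hD (hne2 _ (Or.inl rfl))
      · exact CfsgLib.Components.IsComponent.commutator_eq_bot_of_ne
          (CfsgLib.Components.IsComponent.conj hDtc c) hDtc (hne2 _ (Or.inr rfl))
    have hL2 : L ≤ cj c D ⊔ cj c Dt := by
      intro l hl
      have h := mem_map_of_mem (MulAut.conj c).toMonoidHom (hLP hl)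
      rw [Subgroup.map_sup] at h
      show l ∈ Subgroup.map (MulAut.conj c).toMonoidHom D ⊔ Subgroup.map (MulAut.conj c).toMonoidHom Dt
      simpa [hBL c hc l hl] using h
    refine CfsgLib.Components.IsComponent.not_commute hK ?_
    apply map_injective Ca.subtype_injective
    rw [map_commutator, map_subgroupOf_eq_of_le hKa, Subgroup.map_bot,
      commutator_eq_bot_iff_le_centralizer]
    intro k hk k' hk'
    exact congrArg Subtype.val ((hcomm (hL2 (x := ⟨k, hKb hk⟩) hk)) ⟨k', hKb hk'⟩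
      (hLP (x := ⟨k', hKb hk'⟩) hk'))
  -- the stabiliser of `D` in `B` has index at most two
  set B₁ := B' ⊓ normalizer (D : Set C) with hB₁
  have hfixD : ∀ c, cj c D = D → c ∈ normalizer (D : Set C) := fun c h =>
    mem_normalizer_iff_map_conj_eq.mpr h
  have hindex : Nat.card B ≤ 2 * Nat.card B₁ := by
    rw [← Nat.card_congr (subgroupOfEquivOfLe hBC).toEquiv, ← hB']
    by_cases hall : B' ≤ B₁
    · have := Nat.le_of_dvd Nat.card_pos (card_dvd_of_le hall)
      omega
    obtain ⟨c₀, hc₀, hc₀n⟩ := SetLike.not_le_iff_exists.mp hall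
    have hsub : (B' : Set C) ⊆ (B₁ : Set C) ∪ (fun x => c₀ * x) '' (B₁ : Set C) := by
      intro c hc
      rcases horb c hc with h | h
      · exact Or.inl (mem_inf.mpr ⟨hc, hfixD c h⟩)
      rcases horb c₀ hc₀ with h0 | h0
      · exact absurd (mem_inf.mpr ⟨hc₀, hfixD c₀ h0⟩ : c₀ ∈ B₁) hc₀n
      refine Or.inr ⟨c₀⁻¹ * c, mem_inf.mpr ⟨mul_mem (inv_mem hc₀) hc, hfixD _ ?_⟩, mul_inv_cancel_left _ _⟩
      rw [← hcj2, h, ← h0, hcj2, inv_mul_cancel, hcj]
      exact (by congr 1; ext x; simp : _ = D.map (MonoidHom.id C)).trans (Subgroup.map_id _)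
    have h := (Set.ncard_le_ncard hsub (Set.toFinite _)).trans (Set.ncard_union_le _ _)
    rw [Set.ncard_image_of_injective _ (mul_right_injective c₀)] at h
    simp only [← Nat.card_coe_set_eq] at h
    simp only [SetLike.coe_sort_coe] at h
    omega
  have hB₁D : ∀ c ∈ B₁, ∀ d ∈ D, Commute c d := by
    intro c hc d hd
    obtain ⟨hcB, hcN⟩ := mem_inf.mp hc
    have hd' : c * d * c⁻¹ ∈ D := (mem_normalizer_iff.mp hcN d).mp hd
    have h : φ ⟨_, hd'⟩ = φ ⟨d, hd⟩ := by
      have h1 := hBL c hcB (φ ⟨d, hd⟩) (hφr.le ⟨_, rfl⟩)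
      rw [hφ] at h1 ⊢
      rw [hφ]
      have e : c⁻¹ * t = t * c⁻¹ := (hBt c hcB).inv_left.eq
      have e2 : c⁻¹ * t⁻¹ = t⁻¹ * c⁻¹ := (hBt c hcB).inv_left.inv_right.eq
      calc c * d * c⁻¹ * (t * (c * d * c⁻¹) * t⁻¹)
          = c * d * (c⁻¹ * t) * c * d * (c⁻¹ * t⁻¹) := by group
        _ = c * (d * (t * d * t⁻¹)) * c⁻¹ := by rw [e, e2]; group
        _ = _ := h1
    have := congrArg Subtype.val (hinj h)
    exact (mul_inv_eq_iff_eq_mul.mp this)
  have hB₁Dt : ∀ c ∈ B₁, ∀ e ∈ Dt, Commute c e := by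
    rintro c hc _ ⟨d, hd, rfl⟩
    have h := hBt c (mem_inf.mp hc).1
    exact (h.mul_right (hB₁D c hc d hd)).mul_right h.inv_right
  -- an elementary subgroup of `Dt` of order at least four
  let e : K ≃* Dt := (subgroupOfEquivOfLe hKb).symm.trans ((MulEquiv.subgroupCongr hφr.symm).trans
    ((MonoidHom.ofInjective hinj).symm.trans
      (D.equivMapOfInjective (MulAut.conj t).toMonoidHom (MulAut.conj t).injective)))
  set E := E₀.map (Dt.subtype.comp e.toMonoidHom) with hE
  have hEDt : E ≤ Dt := by rintro _ ⟨x, -, rfl⟩; exact (e x).2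
  have hE4 : 4 ≤ Nat.card E := by
    have : Nat.card E = Nat.card E₀ :=
      card_map_of_injective (f := Dt.subtype.comp e.toMonoidHom) (Subtype.val_injective.comp e.injective)
    have hP : IsPGroup 2 E₀ := fun x => ⟨1, Subtype.ext (by simpa using hE₀2 x x.2)⟩
    obtain ⟨n, hn⟩ := IsPGroup.iff_card.mp hP
    rw [this]
    rw [hn] at hE₀card ⊢
    have hn2 : 2 ≤ n := (Nat.pow_lt_pow_iff_right (by norm_num : 1 < 2)).mp hE₀card
    calc 4 = 2 ^ 2 := by norm_num
      _ ≤ 2 ^ n := Nat.pow_le_pow_right (by norm_num) hn2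
  have hdisj : B₁ ⊓ E = ⊥ := by
    rw [eq_bot_iff]
    intro z hz
    obtain ⟨hzB, hzE⟩ := mem_inf.mp hz
    obtain ⟨d, hd, hdz⟩ := hEDt hzE
    have hzt := (hBt z (mem_inf.mp hzB).1).eq
    have hzd : z = d := by
      have hdz' : t * d * t⁻¹ = z := hdz
      calc z = t⁻¹ * (t * z) := by group
        _ = t⁻¹ * (z * t) := by rw [hzt]
        _ = d := by rw [← hdz']; group
    subst hzd
    have hz2 : z * z = 1 := Subtype.ext (by
      have := hBel.2 (z : G) (mem_subgroupOf.mp (mem_inf.mp hzB).1)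
      rwa [sq] at this)
    have h1 : φ ⟨z, hd⟩ = φ 1 := by
      have hdz' : t * z * t⁻¹ = z := hdz
      rw [map_one, hφ, hdz', hz2]
    exact mem_bot.mpr (congrArg Subtype.val (hinj h1))
  have hEB : E ≤ normalizer (B₁ : Set C) := fun x hx => centralizer_le_normalizer _
    (mem_centralizer_iff.mpr fun c hc => (hB₁Dt c hc x (hEDt hx)).eq)
  set T := (B₁ ⊔ E).map C.subtype with hT
  have hTcard : Nat.card T = Nat.card B₁ * Nat.card E := by
    rw [hT, card_map_of_injective C.subtype_injective, CfsgLib.Coprime.card_sup_eq hEB hdisj]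
  have hTmem : ∀ x ∈ T, x ∈ centralizer ({b} : Set G) ⊓ centralizer (D' : Set G) := by
    rintro _ ⟨x, hx, rfl⟩
    refine mem_inf.mpr ⟨x.2, ?_⟩
    have hxD : B₁ ⊔ E ≤ centralizer (D : Set C) := sup_le
      (fun c hc => mem_centralizer_iff.mpr fun d hd => (hB₁D c hc d hd).eq.symm)
      (hEDt.trans (commutator_eq_bot_iff_le_centralizer.mp
        (CfsgLib.Components.IsComponent.commutator_eq_bot_of_ne hDtc hD hne)))
    rw [mem_centralizer_iff]
    rintro _ ⟨d, hd, rfl⟩
    exact congrArg Subtype.val (mem_centralizer_iff.mp (hxD hx) d hd)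
  obtain ⟨k, hk⟩ : ∃ k, Nat.card B = 2 ^ k :=
    IsPGroup.iff_card.mp fun x => ⟨1, Subtype.ext (by simpa using hBel.2 x x.2)⟩
  have hPa : Cfsg.PRankLE 2 k ↥(Ca ⊓ centralizer (K : Set G)) := by
    intro A hAc hA2
    rw [← hk, ← card_map_of_injective (Ca ⊓ centralizer (K : Set G)).subtype_injective]
    refine hBmax _ (map_subtype_le A) ⟨⟨⟨fun u v => Subtype.ext ?_⟩⟩, ?_⟩
    · obtain ⟨u', hu, hu'⟩ := u.2
      obtain ⟨v', hv, hv'⟩ := v.2
      simp only [Subgroup.coe_mul, ← hu', ← hv']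
      exact congrArg (fun z => ((z : A) : ↥(Ca ⊓ centralizer (K : Set G)))|>.1)
        (hAc.is_comm.comm ⟨u', hu⟩ ⟨v', hv⟩)
    · rintro _ ⟨u, hu, rfl⟩
      exact congrArg Subtype.val (hA2 u hu)
  have hPb := hrank heq k hPa
  have hTle : T ≤ centralizer ({b} : Set G) ⊓ centralizer (D' : Set G) := hTmem
  have hcommT : ∀ x ∈ B₁ ⊔ E, ∀ y ∈ B₁ ⊔ E, x * y = y * x := by
    have hEc : E ≤ centralizer (E : Set C) := by
      rintro _ ⟨u, hu, rfl⟩
      rw [mem_centralizer_iff]
      rintro _ ⟨v, hv, rfl⟩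
      rw [← map_mul, ← map_mul]
      exact congrArg _ (congrArg Subtype.val (hE₀c.is_comm.comm ⟨v, hv⟩ ⟨u, hu⟩))
    have hBc : B₁ ≤ centralizer (B₁ : Set C) := fun u hu => mem_centralizer_iff.mpr fun v hv =>
      Subtype.ext ((congrArg Subtype.val
        (hBel.1.is_comm.comm ⟨(v : G), (mem_inf.mp hv).1⟩ ⟨(u : G), (mem_inf.mp hu).1⟩)) :)
    have hBE : B₁ ≤ centralizer (E : Set C) := fun u hu => mem_centralizer_iff.mpr fun v hv =>
      (hB₁Dt u hu v (hEDt hv)).eq.symm
    have hle : B₁ ⊔ E ≤ centralizer ((B₁ ⊔ E : Subgroup C) : Set C) := le_centralizer_iff.mp (sup_le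
      (le_centralizer_iff.mp (sup_le hBc (le_centralizer_iff.mp hBE)))
      (le_centralizer_iff.mp (sup_le hBE hEc)))
    exact fun x hx y hy => mem_centralizer_iff.mp (hle hy) x hx
  have hsq : ∀ x ∈ B₁ ⊔ E, x ^ 2 = 1 := by
    intro x hx
    obtain ⟨u, hu, v, hv, rfl⟩ := CfsgLib.Coprime.exists_mul_of_mem_sup hEB hx
    rw [Commute.mul_pow (hcommT u (mem_sup_left hu) v (mem_sup_right hv)),
      show u ^ 2 = 1 from Subtype.ext (hBel.2 (u : G) (mem_inf.mp hu).1), one_mul]
    obtain ⟨w, hw, rfl⟩ := hv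
    rw [← map_pow, hE₀2 w hw, map_one]
  have hfin := hPb (T.subgroupOf _) ⟨⟨fun u v => Subtype.ext (Subtype.ext ?_)⟩⟩ fun u hu => ?_
  · rw [Nat.card_congr (subgroupOfEquivOfLe hTle).toEquiv, hTcard, ← hk] at hfin
    have : 1 ≤ Nat.card B₁ := Nat.card_pos
    have : Nat.card B₁ * 4 ≤ Nat.card B₁ * Nat.card E := Nat.mul_le_mul_left _ hE4
    omega
  · obtain ⟨u', hu, hu'⟩ := mem_subgroupOf.mp u.2
    obtain ⟨v', hv, hv'⟩ := mem_subgroupOf.mp v.2
    simp only [Subgroup.coe_mul, ← hu', ← hv']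
    exact congrArg Subtype.val (hcommT u' hu v' hv)
  · obtain ⟨u', hu', he⟩ := mem_subgroupOf.mp hu
    refine Subtype.ext ?_
    simp only [SubmonoidClass.coe_pow, OneMemClass.coe_one, ← he]
    exact congrArg Subtype.val (hsq u' hu')

end Cfsg.Agent.S1305
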