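import Cfsg.Statements.S1306
import Cfsg.Agent.Components.Layer

set_option autoImplicit false
open Cfsg

namespace Cfsg.Agent.S1306

/-- Let G be finite, x an involution and L ≤ C_G(x) a component of C_G(x). Suppose L is a component of C_G(y) for every involution y ∈ C_G(L), and ⁅L, g L g⁻¹⁆ ≠ 1 whenever g L g⁻¹ ≠ L. Then L is a standard subgroup of G. -/
theorem result {G : Type*} [Group G] [Finite G] (x : G) (hx : orderOf x = 2) (L : Subgroup G) (hLx : L ≤ Subgroup.centralizer ({x} : Set G)) (hL : Cfsg.IsComponent (L.subgroupOf (Subgroup.centralizer ({x} : Set G)))) (hne : ∀ y : G, orderOf y = 2 → y ∈ Subgroup.centralizer (L : Set G) → L ≤ Subgroup.centralizer ({y} : Set G) ∧ Cfsg.IsComponent (L.subgroupOf (Subgroup.centralizer ({y} : Set G)))) (hnc : ∀ g : G, L.map (MulAut.conj g).toMonoidHom ≠ L → ⁅L, L.map (MulAut.conj g).toMonoidHom⁆ ≠ ⊥) : Cfsg.IsStandardSubgroup L := by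
  have hxL : x ∈ Subgroup.centralizer (L : Set G) := Subgroup.mem_centralizer_iff.2 fun l hl =>
    (Subgroup.mem_centralizer_singleton_iff.1 (hLx hl))
  -- a component of two involution centralizers forces equality of conjugates
  have key : ∀ g : G, ∀ y : G, orderOf y = 2 → y ∈ Subgroup.centralizer (L : Set G) →
      g⁻¹ * y * g ∈ Subgroup.centralizer (L : Set G) → L.map (MulAut.conj g).toMonoidHom = L := by
    intro g y hy hyL hyg
    by_contra hne'
    set L' := L.map (MulAut.conj g).toMonoidHom with hL'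
    obtain ⟨hLy, hcy⟩ := hne y hy hyL
    have hy' : orderOf (g⁻¹ * y * g) = 2 := by
      have e : g⁻¹ * y * g = MulAut.conj g⁻¹ y := by simp
      rw [e, MulEquiv.orderOf_eq, hy]
    obtain ⟨hLy', hcy'⟩ := hne _ hy' hyg
    have hL'y : L' ≤ Subgroup.centralizer ({y} : Set G) := by
      rintro _ ⟨l, hl, rfl⟩
      rw [Subgroup.mem_centralizer_singleton_iff]
      have h := Subgroup.mem_centralizer_singleton_iff.1 (hLy' hl)
      calc g * l * g⁻¹ * y = g * (l * (g⁻¹ * y * g)) * g⁻¹ := by group
        _ = g * ((g⁻¹ * y * g) * l) * g⁻¹ := by rw [h]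
        _ = y * (g * l * g⁻¹) := by group
    have hmap : (Subgroup.centralizer ({g⁻¹ * y * g} : Set G)).map (MulAut.conj g).toMonoidHom =
        Subgroup.centralizer ({y} : Set G) := by
      ext z
      simp only [Subgroup.mem_map, Subgroup.mem_centralizer_singleton_iff]
      constructor
      · rintro ⟨w, hw, rfl⟩
        change g * w * g⁻¹ * y = y * (g * w * g⁻¹)
        calc g * w * g⁻¹ * y = g * (w * (g⁻¹ * y * g)) * g⁻¹ := by group
          _ = g * ((g⁻¹ * y * g) * w) * g⁻¹ := by rw [hw]
          _ = _ := by group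
      · intro hz
        refine ⟨g⁻¹ * z * g, ?_, by simp [mul_assoc]⟩
        calc g⁻¹ * z * g * (g⁻¹ * y * g) = g⁻¹ * (z * y) * g := by group
          _ = g⁻¹ * (y * z) * g := by rw [hz]
          _ = _ := by group
    let e : ↥(Subgroup.centralizer ({g⁻¹ * y * g} : Set G)) ≃*
        ↥(Subgroup.centralizer ({y} : Set G)) :=
      ((Subgroup.centralizer ({g⁻¹ * y * g} : Set G)).equivMapOfInjective
        (MulAut.conj g).toMonoidHom (MulAut.conj g).injective).trans (MulEquiv.subgroupCongr hmap)
    have hc2 : Cfsg.IsComponent (L'.subgroupOf (Subgroup.centralizer ({y} : Set G))) := by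
      have h := CfsgLib.Components.IsComponent.map_equiv hcy' e
      have heq : (L.subgroupOf _).map e.toMonoidHom =
          L'.subgroupOf (Subgroup.centralizer ({y} : Set G)) := by
        ext z
        constructor
        · rintro ⟨w, hw, rfl⟩
          exact ⟨(w : G), hw, rfl⟩
        · rintro ⟨l, hl, hlz⟩
          exact ⟨⟨l, hLy' hl⟩, hl, Subtype.ext hlz⟩
      rwa [heq] at h
    have hneq : L.subgroupOf (Subgroup.centralizer ({y} : Set G)) ≠
        L'.subgroupOf (Subgroup.centralizer ({y} : Set G)) := fun h => hne' (by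
      have := congrArg (Subgroup.map (Subgroup.centralizer ({y} : Set G)).subtype) h
      rwa [Subgroup.map_subgroupOf_eq_of_le hLy, Subgroup.map_subgroupOf_eq_of_le hL'y,
        eq_comm] at this)
    have hcom := congrArg (Subgroup.map (Subgroup.centralizer ({y} : Set G)).subtype)
      (CfsgLib.Components.IsComponent.commutator_eq_bot_of_ne hcy hc2 hneq)
    rw [Subgroup.map_commutator, Subgroup.map_subgroupOf_eq_of_le hLy,
      Subgroup.map_subgroupOf_eq_of_le hL'y, Subgroup.map_bot] at hcom
    exact hnc g hne' hcom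
  have hnorm : ∀ g : G, L.map (MulAut.conj g).toMonoidHom = L → g ∈ Subgroup.normalizer (L : Set G) := by
    intro g hg
    rw [Subgroup.mem_normalizer_iff]
    intro l
    constructor
    · intro hl
      rw [← hg]; exact ⟨l, hl, rfl⟩
    · intro hl
      rw [← hg] at hl
      obtain ⟨m, hm, hml⟩ := hl
      rwa [← (MulAut.conj g).injective hml]
  have hNle : Subgroup.normalizer (L : Set G) ≤
      Subgroup.normalizer (Subgroup.centralizer (L : Set G) : Set G) := by
    have hc : ∀ g ∈ Subgroup.normalizer (L : Set G), ∀ c ∈ Subgroup.centralizer (L : Set G),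
        g * c * g⁻¹ ∈ Subgroup.centralizer (L : Set G) := by
      intro g hg c hc
      rw [Subgroup.mem_centralizer_iff]
      intro l hl
      have hl' : g⁻¹ * l * g ∈ L := by
        simpa using (Subgroup.mem_normalizer_iff.1 (inv_mem hg) l).1 hl
      have := Subgroup.mem_centralizer_iff.1 hc _ hl'
      calc l * (g * c * g⁻¹) = g * ((g⁻¹ * l * g) * c) * g⁻¹ := by group
        _ = g * c * g⁻¹ * l := by rw [this]; group
    intro g hg
    rw [Subgroup.mem_normalizer_iff]
    refine fun c => ⟨hc g hg c, fun h => ?_⟩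
    simpa [mul_assoc] using hc g⁻¹ (inv_mem hg) _ h
  have hinvx : ∀ y : G, orderOf y = 2 → y * y = 1 := fun y hy => by
    rw [← pow_two, ← hy]; exact pow_orderOf_eq_one y
  refine ⟨CfsgLib.Components.isQuasisimple_congr (Subgroup.subgroupOfEquivOfLe hLx) hL.2, ⟨?_, ?_⟩,
    hnc, le_antisymm hNle ?_⟩
  · rw [even_iff_two_dvd, ← hx, ← Subgroup.orderOf_mk x hxL]
    exact orderOf_dvd_natCard _
  · intro g hg
    by_contra hodd
    rw [Nat.not_odd_iff_even, even_iff_two_dvd] at hodd
    haveI : Fact (Nat.Prime 2) := ⟨Nat.prime_two⟩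
    obtain ⟨y, hy⟩ := exists_prime_orderOf_dvd_card' 2 hodd
    refine hg (hNle (hnorm g (key g y ((Subgroup.orderOf_coe y).trans hy) y.2.1 ?_)))
    obtain ⟨c, hc, hcy⟩ := y.2.2
    rw [← hcy]
    simpa [mul_assoc] using hc
  · intro g hg
    refine hnorm g (key g (g * x * g⁻¹) ?_ ((Subgroup.mem_normalizer_iff.1 hg x).1 hxL) ?_)
    · have e : g * x * g⁻¹ = MulAut.conj g x := by simp
      rw [e, MulEquiv.orderOf_eq, hx]
    · simpa [mul_assoc] using hxL

end Cfsg.Agent.S1306
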