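import Cfsg.Statements.S1307
import Cfsg.Agent.BrauerSuzuki.Forms
import Cfsg.Agent.TwoGroupsQ.UniqueInvolution
import Cfsg.Agent.Components.Basic

set_option autoImplicit false
open Cfsg

namespace Cfsg.Agent.S1307

open Subgroup CfsgLib

theorem noFour_of_rank {L : Type*} [Group L] [Finite L] (hrk : Cfsg.PRankLE 2 1 L) :
    BrauerSuzuki.NoFour L := by
  refine BrauerSuzuki.noFour_of_no_kleinFour fun E hE => ?_
  have h := hrk E (IsKleinFour.isMulCommutative (G := E)) fun a ha => by
    have := Monoid.pow_exponent_eq_one (⟨a, ha⟩ : E)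
    rw [hE.exponent_two] at this
    exact congrArg Subtype.val this
  rw [hE.card_four] at h
  norm_num at h

theorem not_isCyclic_sylow {L : Type*} [Group L] [Finite L] (hq : Cfsg.IsQuasisimple L)
    (h2 : 2 ∣ Nat.card L) (S : Sylow 2 L) : ¬ IsCyclic (S : Subgroup L) := by
  intro hc
  haveI : Fact (Nat.Prime 2) := ⟨Nat.prime_two⟩
  have hmin : (Nat.card L).minFac = 2 := (Nat.minFac_eq_two_iff _).mpr h2
  have hC := IsCyclic.isComplement' hmin hc
  set K := (MonoidHom.transferSylow S (hc.normalizer_le_centralizer hmin)).ker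
  have hidx : K.index = Nat.card (S : Subgroup L) := hC.symm.index_eq_card
  have hS : Nat.card (S : Subgroup L) ≠ 1 := fun h => S.not_dvd_index (by
    rwa [← card_mul_index (S : Subgroup L), h, one_mul] at h2)
  have htop : commutator L = ⊤ := Components.IsQuasisimple.perfect hq
  have hle : commutator L ≤ K := by
    rw [_root_.commutator_def, commutator_le]
    intro a _ b _
    have hcm := hc.commutative
    rw [MonoidHom.mem_ker, map_commutatorElement, commutatorElement_eq_one_iff_mul_comm]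
    exact hcm.is_comm.comm _ _
  exact hS (hidx ▸ (index_eq_one.mpr (top_unique (htop ▸ hle))))

theorem exists_center_involution {L : Type*} [Group L] [Finite L] (hq : Cfsg.IsQuasisimple L)
    (h2 : 2 ∣ Nat.card L) (hU : BrauerSuzuki.NoFour L) :
    ∃ z : L, orderOf z = 2 ∧ z ∈ center L := by
  haveI : Fact (Nat.Prime 2) := ⟨Nat.prime_two⟩
  obtain ⟨z, hz⟩ := exists_prime_orderOf_dvd_card' 2 h2
  have z1 : z ^ 2 = 1 := by rw [← hz]; exact pow_orderOf_eq_one z
  have z0 : z ≠ 1 := fun h => by rw [h, orderOf_one] at hz; omega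
  obtain ⟨N, hN, hodd, hNz⟩ := BrauerSuzuki.exists_normal_odd hU z1 z0
  haveI := hN
  have hNc : N ≤ center L := by
    refine (Components.IsQuasisimple.normal_eq_top_or_le_center hq N).resolve_left fun h => ?_
    rw [h, card_top, Nat.odd_iff] at hodd
    omega
  haveI : (zpowers z ⊔ N).Normal := by
    refine ⟨fun w hw g => ?_⟩
    suffices zpowers z ⊔ N ≤ (zpowers z ⊔ N).comap (MulAut.conj g).toMonoidHom from this hw
    refine sup_le (zpowers_le.mpr ?_) fun v hv => mem_sup_right (hN.conj_mem v hv g)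
    rw [mem_comap]
    show g * z * g⁻¹ ∈ _
    have h1 : (z * g * z⁻¹ * g⁻¹)⁻¹ * z = g * z * g⁻¹ := by group
    rw [← h1]
    exact mul_mem (inv_mem (mem_sup_right (hNz g))) (mem_sup_left (mem_zpowers z))
  refine ⟨z, hz, ?_⟩
  rcases Components.IsQuasisimple.normal_eq_top_or_le_center hq (zpowers z ⊔ N) with h | h
  · exfalso
    refine Components.IsQuasisimple.center_ne_top hq (top_unique fun g _ => ?_)
    have hg : g ∈ zpowers z ⊔ N := h ▸ mem_top g
    obtain ⟨a, ha, n, hn, rfl⟩ := mem_sup_of_normal_right.mp hg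
    obtain ⟨i, rfl⟩ := mem_zpowers_iff.mp ha
    refine mul_mem (zpow_mem ?_ i) (hNc hn)
    rw [mem_center_iff]
    intro w
    have hw : w ∈ zpowers z ⊔ N := h ▸ mem_top w
    obtain ⟨b, hb, m, hm, rfl⟩ := mem_sup_of_normal_right.mp hw
    obtain ⟨j, rfl⟩ := mem_zpowers_iff.mp hb
    rw [mul_assoc, ← mem_center_iff.mp (hNc hm) z, ← mul_assoc, ← mul_assoc,
      (Commute.zpow_self z j).eq]
  · exact h (mem_sup_left (mem_zpowers z))

/-- Let G be finite, x an involution and L ≤ C_G(x) a component of C_G(x) of even order and 2-rank 1, such that L is a component of C_G(y) for every involution y ∈ C_G(L). Then some involution of L is a classical involution of G. -/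
theorem result {G : Type*} [Group G] [Finite G] (x : G) (hx : orderOf x = 2) (L : Subgroup G) (hLx : L ≤ Subgroup.centralizer ({x} : Set G)) (hL : Cfsg.IsComponent (L.subgroupOf (Subgroup.centralizer ({x} : Set G)))) (heven : Even (Nat.card ↥L)) (hrk : Cfsg.PRankLE 2 1 ↥L) (hne : ∀ y : G, orderOf y = 2 → y ∈ Subgroup.centralizer (L : Set G) → L ≤ Subgroup.centralizer ({y} : Set G) ∧ Cfsg.IsComponent (L.subgroupOf (Subgroup.centralizer ({y} : Set G)))) : ∃ t ∈ L, Cfsg.IsClassicalInvolution t := by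
  haveI : Fact (Nat.Prime 2) := ⟨Nat.prime_two⟩
  have hq : Cfsg.IsQuasisimple L :=
    Components.isQuasisimple_congr (subgroupOfEquivOfLe hLx) hL.2
  have h2 : 2 ∣ Nat.card L := even_iff_two_dvd.mp heven
  have hU := noFour_of_rank hrk
  obtain ⟨z, hz, hzc⟩ := exists_center_involution hq h2 hU
  have hzG : orderOf (z : G) = 2 := by rw [orderOf_coe]; exact hz
  have hzC : (z : G) ∈ centralizer (L : Set G) := mem_centralizer_iff.mpr fun l hl =>
    congrArg Subtype.val (mem_center_iff.mp hzc ⟨l, hl⟩)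
  obtain ⟨hLz, hcomp⟩ := hne z hzG hzC
  obtain ⟨S⟩ : Nonempty (Sylow 2 L) := inferInstance
  have hu : TwoGroupsQ.HasUniqueOrderP (S : Subgroup L) 2 := by
    refine TwoGroupsQ.hasUniqueOrderP_two fun s t s1 s0 t1 t0 => ?_
    have hzp : z ^ 2 = 1 := by rw [← hz]; exact pow_orderOf_eq_one z
    have z0 : z ≠ 1 := fun h => by rw [h, orderOf_one] at hz; omega
    have key : ∀ v : (S : Subgroup L), v ^ 2 = 1 → v ≠ 1 → (v : L) = z := fun v v1 v0 =>
      hU v z (congrArg Subtype.val v1) (fun e => v0 (Subtype.ext e)) hzp z0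
        (mem_center_iff.mp hzc v)
    exact Subtype.ext ((key s s1 s0).trans (key t t1 t0).symm)
  rcases TwoGroupsQ.isCyclic_or_quaternion S.2 hu with h | ⟨-, m, hm, he⟩
  · exact absurd h (not_isCyclic_sylow hq h2 S)
  · obtain ⟨n, rfl⟩ : ∃ n, m = n + 1 := ⟨m - 1, by omega⟩
    exact ⟨z, z.2, hzG, L, hLz, z.2, hcomp.1, S, n, he⟩

end Cfsg.Agent.S1307
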