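import Cfsg.Statements.S1313
import Cfsg.Agent.Signalizer.FStarLemmas

set_option autoImplicit false
open Cfsg

namespace Cfsg.Agent.S1313

/-- For a finite group H, |H| ≤ |F*(H)|!. -/
theorem result {H : Type*} [Group H] [Finite H] : Nat.card H ≤ Nat.factorial (Nat.card ↥(Cfsg.generalizedFittingSubgroup H)) := by
  classical
  set X := Cfsg.generalizedFittingSubgroup H with hX
  haveI : X.Normal := CfsgLib.Signalizer.generalizedFitting_normal
  let φ : H →* MulAut ↥X := MulAut.conjNormal
  have hker : φ.ker ≤ X := by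
    intro h hh
    apply CfsgLib.Components.centralizer_generalizedFitting_le_self
    rw [Subgroup.mem_centralizer_iff]
    intro u hu
    have h1 : φ h ⟨u, hu⟩ = ⟨u, hu⟩ := by rw [MonoidHom.mem_ker.1 hh]; rfl
    have h2 : h * u * h⁻¹ = u := congrArg Subtype.val h1
    exact (mul_inv_eq_iff_eq_mul.1 h2).symm
  let ψ : MulAut ↥X → Equiv.Perm {u : ↥X // u ≠ 1} := fun a =>
    a.toEquiv.subtypeEquiv fun u => by simp
  have hψ : Function.Injective ψ := by
    intro a b hab
    ext u
    by_cases hu : u = 1
    · simp [hu]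
    · have := congrArg (fun e : Equiv.Perm {u : ↥X // u ≠ 1} => ((e ⟨u, hu⟩ : {u : ↥X // u ≠ 1}) : ↥X)) hab
      exact congrArg Subtype.val this
  have h1 : Nat.card H = Nat.card φ.ker * Nat.card φ.range := by
    rw [← Subgroup.card_mul_index φ.ker, Subgroup.index_ker]
  have h2 : Nat.card φ.range ≤ Nat.factorial (Nat.card ↥X - 1) := by
    refine le_trans (Nat.card_le_card_of_injective (fun a => ψ a.1) (hψ.comp Subtype.val_injective)) ?_
    rw [Nat.card_perm]
    refine Nat.factorial_le (le_of_eq ?_)
    haveI := Fintype.ofFinite ↥X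
    rw [Nat.card_eq_fintype_card, Nat.card_eq_fintype_card, Fintype.card_subtype_compl,
      Fintype.card_subtype_eq]
  calc Nat.card H = Nat.card φ.ker * Nat.card φ.range := h1
    _ ≤ Nat.card ↥X * Nat.factorial (Nat.card ↥X - 1) :=
        Nat.mul_le_mul (Subgroup.card_le_of_le hker) h2
    _ = Nat.factorial (Nat.card ↥X) := Nat.mul_factorial_pred Nat.card_pos.ne'

end Cfsg.Agent.S1313
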