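import Cfsg.Statements.S1315
import Cfsg.Agent.IntrinsicSL2.Normalize

set_option autoImplicit false
open Cfsg

namespace Cfsg.Agent.S1315

open CfsgLib.IntrinsicSL2 in
theorem uniq_quotient {G : Type*} [Group G] [Finite G] (J : Subgroup G) (z : G)
    (hz : z ∈ J ∧ orderOf z = 2 ∧ ∀ t ∈ J, orderOf t = 2 → t = z) :
    ∀ a b : ↥J ⧸ Cfsg.oddCore ↥J, a * a = 1 → a ≠ 1 → b * b = 1 → b ≠ 1 → a = b := by
  haveI : Fact (Nat.Prime 2) := ⟨Nat.prime_two⟩
  have key : ∀ a : ↥J ⧸ Cfsg.oddCore ↥J, a * a = 1 → a ≠ 1 →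
      a = QuotientGroup.mk (⟨z, hz.1⟩ : J) := by
    intro a ha ha1
    obtain ⟨g, rfl⟩ := QuotientGroup.mk'_surjective _ a
    set n := Nat.card (Cfsg.oddCore ↥J) with hn
    have hg : g * g ∈ Cfsg.oddCore ↥J := (QuotientGroup.eq_one_iff _).mp ha
    have hh : g ^ n * g ^ n = 1 := by
      rw [← (Commute.refl g).mul_pow]
      exact congrArg Subtype.val (pow_card_eq_one' (x := (⟨g * g, hg⟩ : Cfsg.oddCore ↥J)))
    obtain ⟨i, hi⟩ : Odd n :=
      Nat.coprime_two_right.mp (CfsgLib.PLocal.coprime_card_pPrimeCore 2 ↥J)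
    have hna : QuotientGroup.mk' (Cfsg.oddCore ↥J) (g ^ n) = QuotientGroup.mk' _ g := by
      rw [map_pow, hi, pow_succ, pow_mul, pow_two, ha, one_pow, one_mul]
    rw [← hna]
    refine congrArg (fun v : ↥J => (QuotientGroup.mk v : ↥J ⧸ Cfsg.oddCore ↥J)) (Subtype.ext ?_)
    refine hz.2.2 _ (g ^ n).2 ?_
    rw [Subgroup.orderOf_coe]
    refine orderOf_eq_prime (by rw [pow_two, hh]) fun e => ha1 ?_
    rw [← hna, e, map_one]
  intro a b ha ha1 hb hb1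
  rw [key a ha ha1, key b hb hb1]

open CfsgLib.IntrinsicSL2 in
theorem good_of {G : Type*} [Group G] [Finite G] {m : ℕ} (J : Subgroup G) (z : G)
    (hz : z ∈ J ∧ orderOf z = 2 ∧ ∀ t ∈ J, orderOf t = 2 → t = z)
    (hJ : J ≤ Subgroup.centralizer ({z} : Set G) ∧
      Cfsg.IsPComponent 2 (J.subgroupOf (Subgroup.centralizer ({z} : Set G))))
    (hq : GoodQ (↥J ⧸ Cfsg.oddCore ↥J))
    (hm : (Subgroup.center (↥J ⧸ Cfsg.oddCore ↥J)).index = m) : Good m J z := by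
  haveI : Fact (Nat.Prime 2) := ⟨Nat.prime_two⟩
  refine ⟨⟨hJ.1, hJ.2⟩, hz.1, ?_, ?_, fun x hx hxx => or_iff_not_imp_left.mpr fun h1 => ?_, hq, hm⟩
  · rw [← pow_two, ← hz.2.1, pow_orderOf_eq_one]
  · intro e
    have := hz.2.1
    rw [e, orderOf_one] at this
    omega
  · exact hz.2.2 x hx (orderOf_eq_prime (by rw [pow_two, hxx]) h1)

/-- Let G be finite and J ≠ K subgroups, each containing exactly one involution, z(J) resp. z(K), each a 2-component of the centralizer of its involution, with J / O(J) and K / O(K) both isomorphic to SL(2, F) for one finite field F of odd order, or both non-split double covers of A7. Then (i) every 2-element of K of order at least 4 centralizing z(J) normalizes J; (ii) if z(J) normalizes K then z(K) normalizes J. -/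
theorem result {G : Type*} [Group G] [Finite G] (J K : Subgroup G) (hJK : J ≠ K) (zJ zK : G) (hzJ : zJ ∈ J ∧ orderOf zJ = 2 ∧ ∀ t ∈ J, orderOf t = 2 → t = zJ) (hzK : zK ∈ K ∧ orderOf zK = 2 ∧ ∀ t ∈ K, orderOf t = 2 → t = zK) (hJ : J ≤ Subgroup.centralizer ({zJ} : Set G) ∧ Cfsg.IsPComponent 2 (J.subgroupOf (Subgroup.centralizer ({zJ} : Set G)))) (hK : K ≤ Subgroup.centralizer ({zK} : Set G) ∧ Cfsg.IsPComponent 2 (K.subgroupOf (Subgroup.centralizer ({zK} : Set G)))) (htype : (∃ (F : Type) (_ : Field F) (_ : Fintype F), Odd (Fintype.card F) ∧ Nonempty (↥J ⧸ Cfsg.oddCore ↥J ≃* Matrix.SpecialLinearGroup (Fin 2) F) ∧ Nonempty (↥K ⧸ Cfsg.oddCore ↥K ≃* Matrix.SpecialLinearGroup (Fin 2) F)) ∨ (Cfsg.IsNonsplitDoubleCover (↥J ⧸ Cfsg.oddCore ↥J) ↥(alternatingGroup (Fin 7)) ∧ Cfsg.IsNonsplitDoubleCover (↥K ⧸ Cfsg.oddCore ↥K) ↥(alternatingGroup (Fin 7)))) : (∀ y ∈ K, IsPGroup 2 ↥(Subgroup.zpowers y) → 4 ≤ orderOf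 y → y * zJ = zJ * y → y ∈ Subgroup.normalizer (J : Set G)) ∧ (zJ ∈ Subgroup.normalizer (K : Set G) → zK ∈ Subgroup.normalizer (J : Set G)) := by
  classical
  obtain ⟨m, hgJ, hgK⟩ : ∃ m, CfsgLib.IntrinsicSL2.Good m J zJ ∧ CfsgLib.IntrinsicSL2.Good m K zK := by
    rcases htype with ⟨F, _, _, hodd, ⟨eJ⟩, ⟨eK⟩⟩ | ⟨hJ2, hK2⟩
    · refine ⟨_, good_of J zJ hzJ hJ ((CfsgLib.IntrinsicSL2.goodQ_sl2 hodd).congr eJ.symm) rfl,
        good_of K zK hzK hK ((CfsgLib.IntrinsicSL2.goodQ_sl2 hodd).congr eK.symm) ?_⟩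
      rw [← CfsgLib.IntrinsicSL2.map_center_equiv (eJ.trans eK.symm)]
      exact Subgroup.index_map_equiv (Subgroup.center _) (eJ.trans eK.symm)
    · refine ⟨Nat.card ↥(alternatingGroup (Fin 7)),
        good_of J zJ hzJ hJ (CfsgLib.IntrinsicSL2.goodQ_double hJ2 (uniq_quotient J zJ hzJ)) ?_,
        good_of K zK hzK hK (CfsgLib.IntrinsicSL2.goodQ_double hK2 (uniq_quotient K zK hzK)) ?_⟩
      · obtain ⟨-, ⟨e⟩, -⟩ := hJ2
        exact Nat.card_congr e.toEquiv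
      · obtain ⟨-, ⟨e⟩, -⟩ := hK2
        exact Nat.card_congr e.toEquiv
  refine ⟨fun y hy hp h4 hc => ?_, fun h => CfsgLib.IntrinsicSL2.normalizes_of_normalizes hgJ hgK h⟩
  obtain ⟨k, hk⟩ := hp ⟨y, Subgroup.mem_zpowers y⟩
  refine CfsgLib.IntrinsicSL2.normalizes_of_four hgJ hgK k y hy (congrArg Subtype.val hk) ?_ hc
  intro e
  have := Nat.le_of_dvd (by norm_num) (orderOf_dvd_of_pow_eq_one (by rw [pow_two]; exact e : y ^ 2 = 1))
  omega

end Cfsg.Agent.S1315
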