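import Cfsg.Statements.S1316
import Cfsg.Agent.Signalizer.FStarLemmas

set_option autoImplicit false
open Cfsg

namespace Cfsg.Agent.S1316

/-- For a finite group X, E(X) equals the intersection of the derived series of F*(X) (its last term). -/
theorem result {X : Type*} [Group X] [Finite X] : (⨅ n : ℕ, (derivedSeries ↥(Cfsg.generalizedFittingSubgroup X) n).map (Cfsg.generalizedFittingSubgroup X).subtype) = Cfsg.layer X := by
  set Fs := Cfsg.generalizedFittingSubgroup X with hFs
  set F := Cfsg.fittingSubgroup X with hF
  haveI : F.Normal := CfsgLib.Components.fittingSubgroup_normal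
  haveI : Group.IsNilpotent F := CfsgLib.Solvable.fittingSubgroup_isNilpotent
  let d : ℕ → Subgroup X := fun n => (derivedSeries ↥Fs n).map Fs.subtype
  let f : ℕ → Subgroup X := fun n => (derivedSeries ↥F n).map F.subtype
  have hd : ∀ n, d (n + 1) = ⁅d n, d n⁆ := fun n => Subgroup.map_commutator _ _ Fs.subtype
  have hf : ∀ n, f (n + 1) = ⁅f n, f n⁆ := fun n => Subgroup.map_commutator _ _ F.subtype
  have hlow : ∀ n, Cfsg.layer X ≤ d n := by
    intro n
    induction n with
    | zero =>
      simp only [d, derivedSeries_zero, ← MonoidHom.range_eq_map, Subgroup.range_subtype]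
      exact le_sup_left
    | succ n ih =>
      rw [hd, ← CfsgLib.Components.layer_commutator_self]
      exact Subgroup.commutator_mono ih ih
  have hup : ∀ n, d n ≤ Cfsg.layer X ⊔ f n := by
    intro n
    induction n with
    | zero =>
      simp only [d, f, derivedSeries_zero, ← MonoidHom.range_eq_map, Subgroup.range_subtype]
      exact le_rfl
    | succ n ih =>
      set π := QuotientGroup.mk' (Cfsg.layer X) with hπ
      have hE : (Cfsg.layer X).map π = ⊥ := by
        rw [Subgroup.map_eq_bot_iff, QuotientGroup.ker_mk']
      rw [hd, hf]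
      have h1 : ⁅d n, d n⁆.map π ≤ ⁅f n, f n⁆.map π := by
        have hm : (d n).map π ≤ (f n).map π := by
          refine (Subgroup.map_mono ih).trans ?_
          rw [Subgroup.map_sup, hE, bot_sup_eq]
        rw [Subgroup.map_commutator, Subgroup.map_commutator]
        exact Subgroup.commutator_mono hm hm
      have h2 := (Subgroup.map_le_iff_le_comap.1 h1)
      rwa [Subgroup.comap_map_eq, QuotientGroup.ker_mk', sup_comm] at h2
  obtain ⟨m, hm⟩ := (inferInstance : Group.IsSolvable F).solvable
  refine le_antisymm ((iInf_le d m).trans ((hup m).trans ?_)) (le_iInf hlow)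
  have : f m = ⊥ := by simp only [f, hm, Subgroup.map_bot]
  rw [this, sup_bot_eq]

end Cfsg.Agent.S1316
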