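import Cfsg.Statements.S1317
import Cfsg.Agent.Signalizer.FStarLemmas

set_option autoImplicit false
open Cfsg

namespace Cfsg.Agent.S1317

/-- For a finite group X, the centre of the layer E(X) is F(X) ∩ E(X). -/
theorem result {X : Type*} [Group X] [Finite X] : (Subgroup.center ↥(Cfsg.layer X)).map (Cfsg.layer X).subtype = Cfsg.fittingSubgroup X ⊓ Cfsg.layer X := by
  haveI : (Cfsg.fittingSubgroup X).Normal := CfsgLib.Components.fittingSubgroup_normal
  rw [CfsgLib.Components.map_subtype_center]
  refine le_antisymm (le_inf ?_ inf_le_left) ?_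
  · haveI : (Cfsg.layer X ⊓ Subgroup.centralizer (Cfsg.layer X : Set X)).Normal :=
      Subgroup.normal_inf_normal _ _
    apply CfsgLib.Components.le_fittingSubgroup
    haveI : IsMulCommutative ↥(Cfsg.layer X ⊓ Subgroup.centralizer (Cfsg.layer X : Set X)) :=
      ⟨⟨fun a b => Subtype.ext (Subgroup.mem_centralizer_iff.1 b.2.2 a a.2.1)⟩⟩
    open scoped IsMulCommutative in exact inferInstance
  · refine le_inf inf_le_right (inf_le_left.trans ?_)
    exact Subgroup.le_centralizer_iff.1 CfsgLib.Components.layer_le_centralizer_fittingSubgroup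

end Cfsg.Agent.S1317
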