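import Cfsg.Statements.S1319
import Cfsg.Agent.Components.Layer

set_option autoImplicit false
open Cfsg

namespace Cfsg.Agent.S1319

/-- Let A be a subnormal subgroup of the finite group X with E(A) = A. Then A ≤ E(X) and A is normal in E(X). -/
theorem result {X : Type*} [Group X] [Finite X] (A : Subgroup X) (hsn : A.IsSubnormal) (hA : Cfsg.layer ↥A = ⊤) : A ≤ Cfsg.layer X ∧ (A.subgroupOf (Cfsg.layer X)).Normal := by
  have hAe : A = sSup {K : Subgroup X | Cfsg.IsComponent K ∧ K ≤ A} := by
    refine le_antisymm ?_ (sSup_le fun K hK => hK.2)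
    calc A = (⊤ : Subgroup ↥A).map A.subtype := by
            rw [← MonoidHom.range_eq_map, Subgroup.range_subtype]
      _ = (Cfsg.layer ↥A).map A.subtype := by rw [hA]
      _ ≤ _ := by
        rw [Cfsg.layer, Subgroup.map_le_iff_le_comap]
        exact sSup_le fun K hK => Subgroup.map_le_iff_le_comap.1
          (le_sSup ⟨(CfsgLib.Components.isComponent_map_subtype hsn K).1 hK, Subgroup.map_subtype_le K⟩)
  have hle : A ≤ Cfsg.layer X := hAe.le.trans (sSup_le_sSup fun K hK => hK.1)
  refine ⟨hle, Subgroup.normal_subgroupOf_of_le_normalizer ?_⟩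
  rw [hAe]
  exact CfsgLib.Components.layer_le_normalizer_sSup fun K hK => hK.1

end Cfsg.Agent.S1319
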