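import Cfsg.Statements.S1321
import Cfsg.Agent.Components.Layer

set_option autoImplicit false
open Cfsg

namespace Cfsg.Agent.S1321

open scoped commutatorElement

/-- Let X be finite and U ≤ X. Then E(X) is generated by C_{E(X)}(U) together with ⁅E(X), U⁆ (indeed it is their product, ⁅E(X), U⁆ being normal in E(X)). -/
theorem result {X : Type*} [Group X] [Finite X] (U : Subgroup X) : Cfsg.layer X = (Cfsg.layer X ⊓ Subgroup.centralizer (U : Set X)) ⊔ ⁅Cfsg.layer X, U⁆ ∧ ⁅Cfsg.layer X, U⁆ ≤ Cfsg.layer X := by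
  set E := Cfsg.layer X with hE
  set N := ⁅E, U⁆ with hN
  have hUE : U ≤ Subgroup.normalizer (E : Set X) := Subgroup.le_normalizer_of_normal
  have hNE : N ≤ E := Subgroup.le_normalizer_iff_commutator_le_left.1 hUE
  have hEN : E ≤ Subgroup.normalizer (N : Set X) := Subgroup.normalizer_commutator_ge_left E U
  refine ⟨le_antisymm ?_ (sup_le inf_le_left hNE), hNE⟩
  refine sSup_le fun K (hK : Cfsg.IsComponent K) => ?_
  have hKE : K ≤ E := CfsgLib.Components.IsComponent.le_layer hK
  by_cases hKN : K ≤ N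
  · exact hKN.trans le_sup_right
  have hKc : ⁅K, N⁆ = ⊥ :=
    (CfsgLib.Components.IsComponent.le_or_commutator_eq_bot_of_le_normalizer hK hKE hNE hEN).resolve_left
      hKN
  have hcom : ∀ k ∈ K, ∀ n ∈ N, k * n = n * k := fun k hk n hn => by
    refine commutatorElement_eq_one_iff_mul_comm.1 ?_
    rw [← Subgroup.mem_bot, ← hKc]
    exact Subgroup.commutator_mem_commutator hk hn
  refine le_trans (le_inf hKE (Subgroup.le_centralizer_iff.1 fun u hu => ?_)) le_sup_left
  let f : ↥K →* X :=
    { toFun := fun k => (k : X)⁻¹ * (u * k * u⁻¹)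
      map_one' := by simp
      map_mul' := fun a b => by
        have hn : (a : X)⁻¹ * (u * a * u⁻¹) ∈ N := by
          have := Subgroup.commutator_mem_commutator (inv_mem (hKE a.2)) hu
          simpa [commutatorElement_def, mul_assoc] using this
        have h := hcom _ (inv_mem b.2) _ hn
        simp only [Subgroup.coe_mul]
        calc ((a : X) * b)⁻¹ * (u * (a * b) * u⁻¹)
            = ((b : X)⁻¹ * ((a : X)⁻¹ * (u * a * u⁻¹))) * (u * b * u⁻¹) := by group
          _ = ((a : X)⁻¹ * (u * a * u⁻¹)) * ((b : X)⁻¹) * (u * b * u⁻¹) := by rw [h]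
          _ = _ := by group }
  have hfN : ∀ k : ↥K, f k ∈ N := fun k => by
    have := Subgroup.commutator_mem_commutator (inv_mem (hKE k.2)) hu
    simpa [f, commutatorElement_def, mul_assoc] using this
  have hfix : K.map (MulAut.conj u).toMonoidHom = K := by
    by_contra hne
    have h := CfsgLib.Components.IsComponent.commutator_eq_bot_of_ne hK
      (CfsgLib.Components.IsComponent.conj hK u) (Ne.symm hne)
    apply CfsgLib.Components.IsComponent.not_commute hK
    rw [Subgroup.commutator_eq_bot_iff_le_centralizer]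
    intro k hk
    rw [Subgroup.mem_centralizer_iff]
    intro l hl
    have h1 : l * (u * k * u⁻¹) = (u * k * u⁻¹) * l := commutatorElement_eq_one_iff_mul_comm.1 (by
      rw [← Subgroup.mem_bot, ← h]
      exact Subgroup.commutator_mem_commutator hl ⟨k, hk, rfl⟩)
    have h2 : l * ((k : X)⁻¹ * (u * k * u⁻¹)) = ((k : X)⁻¹ * (u * k * u⁻¹)) * l :=
      hcom l hl _ (hfN ⟨k, hk⟩)
    have h3 : Commute l ((u * k * u⁻¹) * ((k : X)⁻¹ * (u * k * u⁻¹))⁻¹) :=
      Commute.mul_right h1 (Commute.inv_right h2)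
    have e : (u * k * u⁻¹) * ((k : X)⁻¹ * (u * k * u⁻¹))⁻¹ = k := by group
    rw [e] at h3
    exact h3
  have hfK : ∀ k : ↥K, f k ∈ K := fun k => mul_mem (inv_mem k.2)
    ((SetLike.ext_iff.1 hfix _).1 ⟨k, k.2, rfl⟩)
  have hkill : commutator ↥K ≤ f.ker := by
    rw [commutator_def, Subgroup.commutator_le]
    intro a _ b _
    rw [MonoidHom.mem_ker, map_commutatorElement, commutatorElement_eq_one_iff_mul_comm]
    exact hcom _ (hfK a) _ (hfN b)
  rw [hK.2.1.commutator_eq_top] at hkill
  rw [Subgroup.mem_centralizer_iff]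
  intro k hk
  have h1 : (k : X)⁻¹ * (u * k * u⁻¹) = 1 := hkill (Subgroup.mem_top (⟨k, hk⟩ : ↥K))
  have h2 := inv_mul_eq_one.1 h1
  calc k * u = u * k * u⁻¹ * u := by rw [← h2]
    _ = u * k := by group

end Cfsg.Agent.S1321
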