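import Cfsg.Statements.S1323
import Mathlib
import Cfsg.Agent.AltBlocks.ThreeCycles
import Cfsg.Agent.Components.Basic

set_option autoImplicit false
open Cfsg

namespace Cfsg.Agent.S1323

open Equiv Equiv.Perm Subgroup CfsgLib

variable {α : Type*} [Fintype α] [DecidableEq α]

/-- The even permutations fixing every point outside `Δ`. -/
def onSet (Δ : Finset α) : Subgroup (alternatingGroup α) where
  carrier := {σ | ∀ x, x ∉ Δ → (σ : Perm α) x = x}
  one_mem' := fun x _ => rfl
  mul_mem' := fun {a b} ha hb x hx => by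
    rw [Subgroup.coe_mul, Perm.mul_apply, hb x hx, ha x hx]
  inv_mem' := fun {a} ha x hx => by
    rw [Subgroup.coe_inv, Perm.inv_eq_iff_eq, ha x hx]

theorem mem_onSet {Δ : Finset α} {σ : alternatingGroup α} :
    σ ∈ onSet Δ ↔ ∀ x, x ∉ Δ → (σ : Perm α) x = x := Iff.rfl

theorem range_ofSubtype_eq (Δ : Finset α) :
    (alternatingGroup.ofSubtype Δ).range = onSet Δ := by
  ext σ
  constructor
  · rintro ⟨τ, rfl⟩ x hx
    exact Perm.ofSubtype_apply_of_not_mem (τ : Perm Δ) hx
  · intro hσ
    have hm : (σ : Perm α) ∈ (Perm.ofSubtype : Perm Δ →* Perm α).range := by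
      rw [Perm.mem_range_ofSubtype_iff]
      intro x hx
      by_contra h
      exact mem_support.mp hx (hσ x h)
    obtain ⟨τ, hτ⟩ := hm
    have hs : τ ∈ alternatingGroup Δ := by
      rw [mem_alternatingGroup, ← sign_ofSubtype, hτ]
      exact σ.2
    exact ⟨⟨τ, hs⟩, Subtype.ext hτ⟩

theorem exists_threeCycle_on {Δ : Finset α} {a b c : α} (ha : a ∈ Δ) (hb : b ∈ Δ) (hc : c ∈ Δ)
    (hab : a ≠ b) (hac : a ≠ c) (hbc : b ≠ c) :
    ∃ g : alternatingGroup α, g ∈ onSet Δ ∧ (g : Perm α) a = b ∧ (g : Perm α) b = c ∧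
      (g : Perm α).support ⊆ {a, b, c} := by
  obtain ⟨g, hg, hgs, h1, h2, h3⟩ :=
    AltBlocks.exists_threeCycle (Δ := ({a, b, c} : Finset α)) (a := a) (b := b) (c := c)
      (by simp) (by simp) (by simp) hab hac hbc
  refine ⟨⟨g, hg.mem_alternatingGroup⟩, fun x hx => AltBlocks.apply_of_fix hgs ?_, h1, h2, hgs⟩
  simp only [Finset.mem_insert, Finset.mem_singleton, not_or]
  exact ⟨fun h => hx (h ▸ ha), fun h => hx (h ▸ hb), fun h => hx (h ▸ hc)⟩

theorem exists_two_others {Δ : Finset α} (h : 3 ≤ Δ.card) (a : α) :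
    ∃ b ∈ Δ, ∃ c ∈ Δ, b ≠ a ∧ c ≠ a ∧ b ≠ c := by
  have h2 : 1 < (Δ.erase a).card := by
    have := Finset.pred_card_le_card_erase (s := Δ) (a := a)
    omega
  obtain ⟨b, hb, c, hc, hne⟩ := Finset.one_lt_card.mp h2
  simp only [Finset.mem_erase] at hb hc
  exact ⟨b, hb.2, c, hc.2, hb.1, hc.1, hne⟩

theorem exists_moving {Δ : Finset α} (h : 3 ≤ Δ.card) {a : α} (ha : a ∈ Δ) :
    ∃ g : alternatingGroup α, g ∈ onSet Δ ∧ (g : Perm α) a ≠ a := by
  obtain ⟨b, hb, c, hc, hba, hca, hbc⟩ := exists_two_others h a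
  obtain ⟨g, hg, h1, -, -⟩ := exists_threeCycle_on ha hb hc hba.symm hca.symm hbc
  exact ⟨g, hg, h1 ▸ hba⟩

theorem fixes_of_commute {Δ : Finset α} (h5 : 5 ≤ Δ.card) {σ : Perm α}
    (hσ : ∀ g : alternatingGroup α, g ∈ onSet Δ → Commute σ (g : Perm α)) {a : α} (ha : a ∈ Δ) :
    σ a = a := by
  by_contra hne
  have h2 : 2 ≤ ((Δ.erase a).erase (σ a)).card := by
    have h1 := Finset.pred_card_le_card_erase (s := Δ) (a := a)
    have h2 := Finset.pred_card_le_card_erase (s := Δ.erase a) (a := σ a)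
    omega
  obtain ⟨b, hb, c, hc, hbc⟩ := Finset.one_lt_card.mp h2
  simp only [Finset.mem_erase] at hb hc
  obtain ⟨g, hg, h1, -, hs⟩ := exists_threeCycle_on ha hb.2.2 hc.2.2 hb.2.1.symm hc.2.1.symm hbc
  have h := congrArg (fun f : Perm α => f a) (hσ g hg).eq
  simp only [Perm.mul_apply, h1] at h
  rw [AltBlocks.apply_of_fix hs (by
    simp only [Finset.mem_insert, Finset.mem_singleton, not_or]
    exact ⟨hne, Ne.symm hb.1, Ne.symm hc.1⟩)] at h
  exact hb.2.1 (σ.injective h)

theorem centralizer_onSet {Δ : Finset α} (h5 : 5 ≤ Δ.card) :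
    centralizer (onSet Δ : Set (alternatingGroup α)) = onSet Δᶜ := by
  ext σ
  constructor
  · intro hσ x hx
    refine fixes_of_commute h5 (fun g hg => ?_) (by simpa using hx)
    exact (congrArg Subtype.val (mem_centralizer_iff.mp hσ g hg)).symm
  · intro hσ
    refine mem_centralizer_iff.mpr fun g hg => Subtype.ext (Equiv.ext fun x => ?_)
    simp only [Subgroup.coe_mul, Perm.mul_apply]
    by_cases hx : x ∈ Δ
    · have h1 : (σ : Perm α) x = x := hσ x (by simpa using hx)
      have h2 : (g : Perm α) x ∈ Δ := by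
        by_contra h
        have := (g : Perm α).injective (mem_onSet.mp hg _ h)
        rw [this] at h
        exact h hx
      rw [h1, hσ _ (by simpa using h2)]
    · have h1 : (g : Perm α) x = x := mem_onSet.mp hg x hx
      have h2 : (σ : Perm α) x ∉ Δ := by
        intro h
        have := (σ : Perm α).injective (hσ _ (by simpa using h))
        rw [this] at h
        exact hx h
      rw [h1, mem_onSet.mp hg _ h2]

theorem conj_mem_onSet {Δ Γ : Finset α} {g σ : alternatingGroup α}
    (hg : ∀ x ∈ Δ, (g : Perm α) x ∈ Γ) (hσ : σ ∈ onSet Δ) : g * σ * g⁻¹ ∈ onSet Γ := by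
  intro x hx
  simp only [Subgroup.coe_mul, Subgroup.coe_inv, Perm.mul_apply]
  rw [hσ _ fun h => hx (by simpa using hg _ h)]
  simp

theorem map_conj_onSet_iff {Δ Γ : Finset α} (h3 : 3 ≤ Δ.card) (g : alternatingGroup α) :
    (onSet Δ).map (MulAut.conj g).toMonoidHom ≤ onSet Γ ↔ ∀ x ∈ Δ, (g : Perm α) x ∈ Γ := by
  constructor
  · intro h x hx
    by_contra hxΓ
    obtain ⟨σ, hσ, hmov⟩ := exists_moving h3 hx
    have := h ⟨σ, hσ, rfl⟩ _ hxΓ
    simp only [MulEquiv.coe_toMonoidHom, MulAut.conj_apply, Subgroup.coe_mul, Subgroup.coe_inv,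
      Perm.mul_apply, Perm.inv_def, Equiv.symm_apply_apply] at this
    exact hmov ((g : Perm α).injective this)
  · rintro h _ ⟨σ, hσ, rfl⟩
    exact conj_mem_onSet h hσ

theorem mem_normalizer_onSet {Δ : Finset α} (h3 : 3 ≤ Δ.card) (g : alternatingGroup α) :
    g ∈ normalizer (onSet Δ : Set (alternatingGroup α)) ↔ ∀ x ∈ Δ, (g : Perm α) x ∈ Δ := by
  constructor
  · intro hg
    exact (map_conj_onSet_iff h3 g).mp (by
      rintro _ ⟨σ, hσ, rfl⟩
      exact (mem_normalizer_iff.mp hg σ).mp hσ)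
  · intro h
    have himg : Δ.image (g : Perm α) = Δ :=
      Finset.eq_of_subset_of_card_le (fun y hy => by
        obtain ⟨x, hx, rfl⟩ := Finset.mem_image.mp hy
        exact h x hx) (by rw [Finset.card_image_of_injective _ (g : Perm α).injective])
    have hinv : ∀ x ∈ Δ, ((g⁻¹ : alternatingGroup α) : Perm α) x ∈ Δ := by
      intro x hx
      rw [← himg] at hx
      obtain ⟨y, hy, rfl⟩ := Finset.mem_image.mp hx
      rw [Subgroup.coe_inv, Perm.inv_def, Equiv.symm_apply_apply]
      exact hy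
    rw [mem_normalizer_iff]
    refine fun σ => ⟨fun hσ => conj_mem_onSet h hσ, fun hσ => ?_⟩
    have := conj_mem_onSet hinv hσ
    simpa [mul_assoc] using this

theorem compl_iff {Δ : Finset α} (g : alternatingGroup α) :
    (∀ x ∈ Δᶜ, (g : Perm α) x ∈ Δᶜ) ↔ ∀ x ∈ Δ, (g : Perm α) x ∈ Δ := by
  have key : ∀ (Γ : Finset α) (f : Perm α), (∀ x ∈ Γ, f x ∈ Γ) → ∀ x ∈ Γᶜ, f x ∈ Γᶜ := by
    intro Γ f h x hx
    rw [Finset.mem_compl] at hx ⊢
    intro hfx
    have himg : Γ.image f = Γ :=
      Finset.eq_of_subset_of_card_le (fun y hy => by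
        obtain ⟨z, hz, rfl⟩ := Finset.mem_image.mp hy
        exact h z hz) (by rw [Finset.card_image_of_injective _ f.injective])
    rw [← himg] at hfx
    obtain ⟨z, hz, hzx⟩ := Finset.mem_image.mp hfx
    exact hx (f.injective hzx ▸ hz)
  exact ⟨fun h => by simpa using key _ _ h, key _ _⟩

theorem odd_of_small {Γ : Finset α} (hΓ : Γ.card ≤ 3) {H : Subgroup (alternatingGroup α)}
    (hH : H ≤ onSet Γ) : Odd (Nat.card H) := by
  haveI : Fact (Nat.Prime 2) := ⟨Nat.prime_two⟩
  rw [Nat.odd_iff]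
  by_contra hc
  obtain ⟨x, hx⟩ := exists_prime_orderOf_dvd_card' (G := H) 2 (by omega)
  set σ : Perm α := ((x : alternatingGroup α) : Perm α) with hσ
  have ho : orderOf σ = 2 := by rw [hσ, orderOf_coe, orderOf_coe, hx]
  have hσ2 : σ ^ 2 = 1 := by rw [← ho]; exact pow_orderOf_eq_one σ
  have h0 : σ.support.card ≠ 0 := by
    rw [Finset.card_ne_zero, Finset.nonempty_iff_ne_empty]
    intro h
    rw [support_eq_empty_iff] at h
    rw [h, orderOf_one] at ho
    omega
  have h3 : σ.support.card ≤ 3 := le_trans (Finset.card_le_card fun y hy => by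
    by_contra hy'
    exact mem_support.mp hy (mem_onSet.mp (hH x.2) y hy')) hΓ
  obtain ⟨c, hc2⟩ := two_dvd_card_support hσ2
  have hswap : σ.IsSwap := card_support_eq_two.mp (by omega)
  have h1 := hswap.sign_eq
  have h2 : Perm.sign σ = 1 := mem_alternatingGroup.mp (x : alternatingGroup α).2
  rw [h2] at h1
  exact absurd h1 (by decide)

theorem isQuasisimple_onSet {Δ : Finset α} (h5 : 5 ≤ Δ.card) :
    Cfsg.IsQuasisimple (onSet Δ) := by
  have hs : IsSimpleGroup (alternatingGroup Δ) :=
    alternatingGroup.isSimpleGroup (by simpa using h5)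
  haveI : IsSimpleGroup (onSet Δ) :=
    ((MonoidHom.ofInjective (alternatingGroup.ofSubtype_injective (s := Δ))).trans
      (MulEquiv.subgroupCongr (range_ofSubtype_eq Δ))).isSimpleGroup_congr.mp hs
  haveI : Nontrivial (onSet Δ) := IsSimpleGroup.toNontrivial
  refine Components.isQuasisimple_of_normal_le_center ?_ fun N hN hNt => ?_
  · have hn : Subgroup.Normal ⁅(⊤ : Subgroup (onSet Δ)), (⊤ : Subgroup (onSet Δ))⁆ := inferInstance
    refine hn.eq_bot_or_eq_top.resolve_left fun hb => ?_
    obtain ⟨a, ha⟩ : Δ.Nonempty := Finset.card_pos.mp (by omega)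
    obtain ⟨σ, hσ, hmov⟩ := exists_moving (by omega) ha
    refine hmov (fixes_of_commute h5 (fun g hg => ?_) ha)
    have hc : (⊤ : Subgroup (onSet Δ)) ≤ centralizer ((⊤ : Subgroup (onSet Δ)) : Set (onSet Δ)) :=
      commutator_eq_bot_iff_le_centralizer.mp hb
    have := mem_centralizer_iff.mp (hc (mem_top (⟨σ, hσ⟩ : onSet Δ))) ⟨g, hg⟩ (mem_top _)
    exact (congrArg Subtype.val (congrArg Subtype.val this)).symm
  · rw [hN.eq_bot_or_eq_top.resolve_right hNt]
    exact bot_le

theorem isStandard_onSet {F : Finset α} (hF : F.card = 4) (h5 : 5 ≤ Fᶜ.card) :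
    Cfsg.IsStandardSubgroup (onSet Fᶜ) := by
  have hC : centralizer (onSet Fᶜ : Set (alternatingGroup α)) = onSet F := by
    rw [centralizer_onSet h5, compl_compl]
  have hN : ∀ g : alternatingGroup α, g ∈ normalizer (onSet Fᶜ : Set (alternatingGroup α)) ↔
      g ∈ normalizer (onSet F : Set (alternatingGroup α)) := fun g => by
    rw [mem_normalizer_onSet (by omega), mem_normalizer_onSet (by omega), compl_iff]
  refine ⟨isQuasisimple_onSet h5, ⟨?_, fun g hg => ?_⟩, fun g hne hcomm => ?_, ?_⟩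
  · rw [hC]
    obtain ⟨a, b, c, d, hab, hac, had, hbc, hbd, hcd, rfl⟩ := Finset.card_eq_four.mp hF
    let s : alternatingGroup α := ⟨swap a b * swap c d, by
      rw [mem_alternatingGroup, map_mul, sign_swap hab, sign_swap hcd]; decide⟩
    have hs : s ∈ onSet {a, b, c, d} := by
      intro x hx
      simp only [Finset.mem_insert, Finset.mem_singleton, not_or] at hx
      simp [s, swap_apply_of_ne_of_ne hx.1 hx.2.1, swap_apply_of_ne_of_ne hx.2.2.1 hx.2.2.2]
    have hs2 : orderOf s = 2 := by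
      refine orderOf_eq_prime (Subtype.ext (Equiv.ext fun x => ?_)) fun h => ?_
      · simp only [s, pow_two, Subgroup.coe_mul, Perm.mul_apply, Subgroup.coe_one, Perm.one_apply]
        by_cases h1 : x = a
        · subst h1; simp [swap_apply_of_ne_of_ne hac had, swap_apply_of_ne_of_ne hbc hbd]
        by_cases h2 : x = b
        · subst h2; simp [swap_apply_of_ne_of_ne hac had, swap_apply_of_ne_of_ne hbc hbd]
        by_cases h3 : x = c
        · subst h3
          simp [swap_apply_of_ne_of_ne (Ne.symm hac) (Ne.symm hbc),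
            swap_apply_of_ne_of_ne (Ne.symm had) (Ne.symm hbd)]
        by_cases h4 : x = d
        · subst h4
          simp [swap_apply_of_ne_of_ne (Ne.symm hac) (Ne.symm hbc),
            swap_apply_of_ne_of_ne (Ne.symm had) (Ne.symm hbd)]
        simp [swap_apply_of_ne_of_ne h1 h2, swap_apply_of_ne_of_ne h3 h4]
      · have := congrArg (fun σ : alternatingGroup α => (σ : Perm α) a) h
        simp [s, swap_apply_of_ne_of_ne hac had] at this
        exact hab this.symm
    have h := orderOf_dvd_natCard (⟨s, hs⟩ : onSet {a, b, c, d})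
    rw [Subgroup.orderOf_mk, hs2] at h
    exact even_iff_two_dvd.mpr h
  · rw [hC] at hg ⊢
    rw [mem_normalizer_onSet (by omega)] at hg
    push_neg at hg
    obtain ⟨x, hx, hgx⟩ := hg
    refine odd_of_small (Γ := F ∩ F.image (g : Perm α)) ?_ fun σ hσ y hy => ?_
    · have hlt : F ∩ F.image (g : Perm α) ⊂ F.image (g : Perm α) :=
        (Finset.ssubset_iff_of_subset Finset.inter_subset_right).mpr
          ⟨_, Finset.mem_image_of_mem _ hx, fun h => hgx (Finset.mem_inter.mp h).1⟩
      have := Finset.card_lt_card hlt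
      rw [Finset.card_image_of_injective _ (g : Perm α).injective, hF] at this
      omega
    · rw [Finset.mem_inter, not_and_or] at hy
      rcases hy with hy | hy
      · exact mem_onSet.mp hσ.1 y hy
      · exact mem_onSet.mp ((map_conj_onSet_iff (by omega) g).mpr
          (fun z hz => Finset.mem_image_of_mem _ hz) hσ.2) y hy
  · rw [commutator_comm, commutator_eq_bot_iff_le_centralizer, hC] at hcomm
    have h := (map_conj_onSet_iff (by omega) g).mp hcomm
    have hle := Finset.card_le_card_of_injOn (s := Fᶜ) (t := F) (g : Perm α) h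
      (g : Perm α).injective.injOn
    omega
  · rw [hC]
    ext g
    exact hN g

/-- For n ≥ 9, the subgroup of the alternating group on Fin n fixing each of the points 0, 1, 2, 3 is a standard subgroup. -/
theorem result (n : ℕ) (h4 : 4 ≤ n) (hn : 9 ≤ n) : Cfsg.IsStandardSubgroup (⨅ i : Fin 4, MulAction.stabilizer ↥(alternatingGroup (Fin n)) (Fin.castLE h4 i : Fin n)) := by
  have hrw : (⨅ i : Fin 4, MulAction.stabilizer ↥(alternatingGroup (Fin n)) (Fin.castLE h4 i : Fin n))
      = onSet ((Finset.univ.image (Fin.castLE h4))ᶜ) := by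
    ext σ
    simp only [Subgroup.mem_iInf, MulAction.mem_stabilizer_iff]
    constructor
    · intro h x hx
      simp only [Finset.mem_compl, not_not, Finset.mem_image, Finset.mem_univ, true_and] at hx
      obtain ⟨i, rfl⟩ := hx
      exact h i
    · intro h i
      exact h _ (by simp)
  have hcard : (Finset.univ.image (Fin.castLE h4 : Fin 4 → Fin n)).card = 4 := by
    rw [Finset.card_image_of_injective _ (Fin.castLE_injective h4)]; simp
  rw [hrw]
  refine isStandard_onSet hcard ?_
  rw [Finset.card_compl, hcard, Fintype.card_fin]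
  omega

end Cfsg.Agent.S1323
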