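import Cfsg.Statements.S1326
import Cfsg.Agent.Signalizer.FStarLemmas

set_option autoImplicit false
open Cfsg

namespace Cfsg.Agent.S1326

/-- For a finite group X: the Fitting subgroup contains its centralizer if and only if the layer of X is trivial. -/
theorem result {X : Type*} [Group X] [Finite X] : Subgroup.centralizer (Cfsg.fittingSubgroup X : Set X) ≤ Cfsg.fittingSubgroup X ↔ Cfsg.layer X = ⊥ := by
  constructor
  · intro h
    by_contra hne
    simp only [CfsgLib.Components.layer_eq_bot_iff, not_forall, not_not] at hne
    obtain ⟨L, hL⟩ := hne
    haveI : Group.IsNilpotent (Cfsg.fittingSubgroup X) :=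
      CfsgLib.Solvable.fittingSubgroup_isNilpotent
    apply CfsgLib.Components.IsComponent.not_isSolvable hL
    exact CfsgLib.Components.isSolvable_mono (inferInstance : Group.IsSolvable (Cfsg.fittingSubgroup X))
      (((CfsgLib.Components.IsComponent.le_layer hL).trans
        CfsgLib.Components.layer_le_centralizer_fittingSubgroup).trans h)
  · intro h
    have := CfsgLib.Components.centralizer_generalizedFitting_le (G := X)
    rwa [Cfsg.generalizedFittingSubgroup, h, bot_sup_eq] at this

end Cfsg.Agent.S1326
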