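import Cfsg.Statements.S1335
import Mathlib.GroupTheory.Sylow
import Mathlib.GroupTheory.Nilpotent

set_option autoImplicit false
open Cfsg

namespace Cfsg.Agent.S1335

theorem not_pRankLE_map {G : Type*} [Group G] {p k : ℕ} {H : Subgroup G} (X : Subgroup ↥H)
    (h : ¬ Cfsg.PRankLE p k ↥X) : ¬ Cfsg.PRankLE p k ↥(X.map H.subtype) := by
  intro hle
  apply h
  intro A hA hAp
  let e : ↥X ≃* ↥(X.map H.subtype) := X.equivMapOfInjective _ H.subtype_injective
  have := hle (A.map e.toMonoidHom) ?_ ?_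
  · rwa [Nat.card_congr (A.equivMapOfInjective e.toMonoidHom e.injective).toEquiv]
  · constructor; constructor
    rintro ⟨_, a, ha, rfl⟩ ⟨_, b, hb, rfl⟩
    apply Subtype.ext
    change e a * e b = e b * e a
    rw [← map_mul, ← map_mul]
    exact congrArg e (congrArg Subtype.val (hA.is_comm.comm (⟨a, ha⟩ : A) ⟨b, hb⟩))
  · rintro _ ⟨a, ha, rfl⟩
    change e a ^ p = 1
    rw [← map_pow, hAp a ha, map_one]


/-- Let H be a subgroup of the finite group G, p a prime, k ≥ 1, P a Sylow p-subgroup of H of p-rank at least k, and suppose N_G(X) ≤ H for every subgroup X ≤ P of p-rank at least k. Then P is a Sylow p-subgroup of G. -/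
theorem result {G : Type*} [Group G] [Finite G] {p : ℕ} [Fact p.Prime] (k : ℕ) (hk : 1 ≤ k) (H : Subgroup G) (P : Sylow p ↥H) (hP : ¬ Cfsg.PRankLE p (k - 1) ↥(P : Subgroup ↥H)) (hΓ : (∀ X : Subgroup G, X ≤ (P : Subgroup ↥H).map H.subtype → ¬ Cfsg.PRankLE p (k - 1) ↥X → Subgroup.normalizer (X : Set G) ≤ H)) : ∃ Q : Sylow p G, (Q : Subgroup G) = (P : Subgroup ↥H).map H.subtype := by
  set P' := (P : Subgroup ↥H).map H.subtype with hP'
  have hN : Subgroup.normalizer (P' : Set G) ≤ H :=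
    hΓ P' le_rfl (not_pRankLE_map _ hP)
  have hp' : IsPGroup p ↥P' := P.2.map _
  obtain ⟨Q, hQ⟩ := hp'.exists_le_sylow
  refine ⟨Q, ?_⟩
  by_contra hne
  have hlt : P'.subgroupOf (Q : Subgroup G) < ⊤ := by
    rw [lt_top_iff_ne_top]
    intro h
    rw [Subgroup.subgroupOf_eq_top] at h
    exact hne (le_antisymm h hQ)
  haveI : Group.IsNilpotent ↥(Q : Subgroup G) := Q.2.isNilpotent
  have hgrow := normalizerCondition_of_isNilpotent (P'.subgroupOf (Q : Subgroup G)) hlt
  obtain ⟨q, hqN, hqP⟩ := SetLike.exists_of_lt hgrow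
  rw [Subgroup.mem_subgroupOf] at hqP
  have hqN' : (q : G) ∈ Subgroup.normalizer (P' : Set G) := by
    rw [Subgroup.mem_normalizer_iff]
    intro x
    rw [Subgroup.mem_normalizer_iff] at hqN
    constructor
    · intro hx
      exact (hqN ⟨x, hQ hx⟩).1 (Subgroup.mem_subgroupOf.2 hx)
    · intro hx
      have hxQ : x ∈ (Q : Subgroup G) := by
        have := mul_mem (mul_mem (inv_mem q.2) (hQ hx)) q.2
        simpa [mul_assoc] using this
      exact (hqN ⟨x, hxQ⟩).2 (Subgroup.mem_subgroupOf.2 hx)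
  have hqH : (q : G) ∈ H := hN hqN'
  have hPQ : (P : Subgroup ↥H) ≤ (Q : Subgroup G).subgroupOf H := by
    intro y hy
    exact hQ ⟨y, hy, rfl⟩
  have := P.3 (Q.2.comap_of_injective H.subtype H.subtype_injective) hPQ
  have hmem : (⟨q, hqH⟩ : ↥H) ∈ (Q : Subgroup G).subgroupOf H := q.2
  exact hqP ⟨⟨q, hqH⟩, this ▸ hmem, rfl⟩

end Cfsg.Agent.S1335
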