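import Cfsg.Statements.S1336
import Mathlib.GroupTheory.Sylow
import Mathlib.GroupTheory.PGroup
import Mathlib.Tactic.Group

set_option autoImplicit false
open Cfsg

namespace Cfsg.Agent.S1336

variable {G : Type*} [Group G]

/-- The edge relation of the rank one commuting graph. -/
def Adj (p : ℕ) (A B : Subgroup G) : Prop :=
  Cfsg.IsElementaryAbelian p A ∧ p ^ 1 ≤ Nat.card ↥A ∧ Cfsg.IsElementaryAbelian p B ∧
    p ^ 1 ≤ Nat.card ↥B ∧ ∀ a ∈ A, ∀ b ∈ B, a * b = b * a

/-- Reachability in the rank one commuting graph. -/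
abbrev Reach (p : ℕ) : Subgroup G → Subgroup G → Prop := Relation.ReflTransGen (Adj p)

theorem adj_symm {p : ℕ} {A B : Subgroup G} (h : Adj p A B) : Adj p B A :=
  ⟨h.2.2.1, h.2.2.2.1, h.1, h.2.1, fun b hb a ha => (h.2.2.2.2 a ha b hb).symm⟩

theorem reach_symm {p : ℕ} {A B : Subgroup G} (h : Reach p A B) : Reach p B A := by
  induction h with
  | refl => exact .refl
  | tail _ h' ih => exact .head (adj_symm h') ih

theorem elab_map (p : ℕ) (f : G →* G) {A : Subgroup G} (h : Cfsg.IsElementaryAbelian p A) :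
    Cfsg.IsElementaryAbelian p (A.map f) := by
  refine ⟨⟨⟨?_⟩⟩, ?_⟩
  · rintro ⟨_, a, ha, rfl⟩ ⟨_, b, hb, rfl⟩
    apply Subtype.ext
    change f a * f b = f b * f a
    rw [← map_mul, ← map_mul]
    exact congrArg f (congrArg Subtype.val (h.1.is_comm.comm (⟨a, ha⟩ : A) ⟨b, hb⟩))
  · rintro _ ⟨a, ha, rfl⟩
    rw [← map_pow, h.2 a ha, map_one]

/-- Conjugation of subgroups. -/
def cj (g : G) (A : Subgroup G) : Subgroup G := A.map (MulAut.conj g).toMonoidHom

theorem mem_cj {g : G} {A : Subgroup G} {x : G} : x ∈ cj g A ↔ g⁻¹ * x * g ∈ A := by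
  constructor
  · rintro ⟨a, ha, rfl⟩
    simpa [mul_assoc] using ha
  · intro h
    exact ⟨_, h, by simp [mul_assoc]⟩

theorem cj_mul (g h : G) (A : Subgroup G) : cj (g * h) A = cj g (cj h A) := by
  ext x
  simp only [mem_cj, mul_inv_rev, mul_assoc]

theorem cj_one (A : Subgroup G) : cj 1 A = A := by
  ext x; simp [mem_cj]

theorem adj_cj (p : ℕ) (g : G) {A B : Subgroup G} (h : Adj p A B) : Adj p (cj g A) (cj g B) := by
  have hc : ∀ C : Subgroup G, Nat.card ↥(cj g C) = Nat.card ↥C := fun C =>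
    (Nat.card_congr (C.equivMapOfInjective _ (MulAut.conj g).injective).toEquiv).symm
  refine ⟨elab_map _ _ h.1, by rw [hc]; exact h.2.1, elab_map _ _ h.2.2.1, by rw [hc]; exact h.2.2.2.1, ?_⟩
  rintro _ ⟨a, ha, rfl⟩ _ ⟨b, hb, rfl⟩
  rw [← map_mul, ← map_mul, h.2.2.2.2 a ha b hb]

theorem reach_cj (p : ℕ) (g : G) {A B : Subgroup G} (h : Reach p A B) :
    Reach p (cj g A) (cj g B) := by
  induction h with
  | refl => exact .refl
  | tail _ h' ih => exact ih.tail (adj_cj p g h')

theorem cj_self_of_commutes {A : Subgroup G} {g : G} (h : ∀ a ∈ A, g * a = a * g) : cj g A = A := by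
  ext x
  rw [mem_cj]
  constructor
  · intro hx
    have := h _ hx
    have e : x = g⁻¹ * x * g := by
      calc x = (g * (g⁻¹ * x * g)) * g⁻¹ := by group
        _ = (g⁻¹ * x * g) * g * g⁻¹ := by rw [this]
        _ = _ := by group
    rwa [e]
  · intro hx
    have e : g⁻¹ * x * g = x := by rw [mul_assoc, ← h x hx]; group
    rwa [e]

theorem vertex_zpowers {p : ℕ} [Fact p.Prime] {z : G} (hz : orderOf z = p) :
    Cfsg.IsElementaryAbelian p (Subgroup.zpowers z) ∧ p ^ 1 ≤ Nat.card ↥(Subgroup.zpowers z) := by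
  refine ⟨⟨⟨⟨?_⟩⟩, ?_⟩, by rw [Nat.card_zpowers, hz, pow_one]⟩
  · rintro ⟨_, ⟨i, rfl⟩⟩ ⟨_, ⟨j, rfl⟩⟩
    exact Subtype.ext (zpow_mul_comm z i j)
  · rintro _ ⟨i, rfl⟩
    change (z ^ i) ^ p = 1
    rw [← zpow_natCast, ← zpow_mul, mul_comm, zpow_mul, zpow_natCast, ← hz, pow_orderOf_eq_one,
      one_zpow]

theorem zpowers_comm {z : G} {A : Subgroup G} (h : ∀ a ∈ A, Commute z a) :
    ∀ x ∈ Subgroup.zpowers z, ∀ a ∈ A, x * a = a * x := by
  rintro _ ⟨i, rfl⟩ a ha
  exact ((h a ha).zpow_left i).eq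

theorem exists_orderOf_mem {p : ℕ} [Fact p.Prime] {A : Subgroup G} (hA : Cfsg.IsElementaryAbelian p A)
    (hcard : p ^ 1 ≤ Nat.card ↥A) : ∃ a ∈ A, orderOf a = p := by
  have : A ≠ ⊥ := by
    rintro rfl
    rw [Subgroup.card_bot, pow_one] at hcard
    exact absurd hcard (not_le.2 (Fact.out : p.Prime).one_lt)
  obtain ⟨a, ha, ha1⟩ := A.bot_or_exists_ne_one.resolve_left this
  exact ⟨a, ha, orderOf_eq_prime (hA.2 a ha) ha1⟩


/-- Let G be finite and p prime. Then G has a proper subgroup H with p ∣ |H| and p ∤ |H ∩ gHg⁻¹| for every g ∉ H (a strongly p-embedded subgroup) if and only if G is not 1-connected for p. -/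
theorem result {G : Type*} [Group G] [Finite G] (p : ℕ) [Fact p.Prime] : (∃ H : Subgroup G, H ≠ ⊤ ∧ p ∣ Nat.card ↥H ∧ ∀ g : G, g ∉ H → ¬ p ∣ Nat.card ↥(H ⊓ H.map (MulAut.conj g).toMonoidHom)) ↔ ¬ Cfsg.IsKConnected p 1 G := by
  have hp : p.Prime := Fact.out
  constructor
  · rintro ⟨H, hH, hpH, hemb⟩ hcon
    obtain ⟨h₀, hh₀⟩ := exists_prime_orderOf_dvd_card' (G := ↥H) p hpH
    have hh₀' : orderOf (h₀ : G) = p := (Subgroup.orderOf_coe h₀).trans hh₀
    have hcl : ∀ f : G, orderOf f = p → f ∈ H → ∀ g : G, g⁻¹ * f * g ∈ H → g ∈ H := by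
      intro f hf hfH g hg
      by_contra hgH
      apply hemb g hgH
      have hmem : f ∈ H ⊓ H.map (MulAut.conj g).toMonoidHom := ⟨hfH, mem_cj.2 hg⟩
      rw [← hf, ← Subgroup.orderOf_mk f hmem]
      exact orderOf_dvd_natCard _
    have hreach : ∀ F : Subgroup G, Reach p (Subgroup.zpowers (h₀ : G)) F → F ≤ H := by
      intro F hF
      induction hF with
      | refl => exact Subgroup.zpowers_le.2 h₀.2
      | tail _ h' ih =>
        obtain ⟨e, he, heo⟩ := exists_orderOf_mem h'.1 h'.2.1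
        intro f hf
        apply hcl e heo (ih he) f
        have : f⁻¹ * e * f = e := by rw [mul_assoc, h'.2.2.2.2 e he f hf]; group
        rw [this]
        exact ih he
    apply hH
    rw [eq_top_iff]
    intro g _
    have hv := vertex_zpowers (p := p) hh₀'
    set f : G := g * h₀ * g⁻¹ with hf
    have hfo : orderOf f = p := by
      have e : f = MulAut.conj g (h₀ : G) := by simp [hf]
      rw [e, MulEquiv.orderOf_eq, hh₀']
    have hfH : f ∈ H := by
      refine hreach _ ?_ (Subgroup.mem_zpowers f)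
      exact hcon _ _ hv.1 hv.2 (vertex_zpowers hfo).1 (vertex_zpowers hfo).2
    apply hcl f hfo hfH g
    have : g⁻¹ * f * g = h₀ := by rw [hf]; group
    rw [this]; exact h₀.2
  · intro hnc
    classical
    simp only [Cfsg.IsKConnected, not_forall] at hnc
    obtain ⟨E, E', hE, hEc, hE', hE'c, hnot⟩ := hnc
    -- every vertex is adjacent to the powers of a central element of a Sylow subgroup
    have hlink : ∀ F : Subgroup G, Cfsg.IsElementaryAbelian p F → p ^ 1 ≤ Nat.card ↥F →
        ∀ Q : Sylow p G, F ≤ Q → ∀ z ∈ (Q : Subgroup G), orderOf z = p →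
          (∀ q ∈ (Q : Subgroup G), Commute z q) → Reach p F (Subgroup.zpowers z) := by
      intro F hF hFc Q hFQ z _ hzo hz
      refine .single ⟨hF, hFc, (vertex_zpowers hzo).1, (vertex_zpowers hzo).2, ?_⟩
      intro a ha b hb
      exact (zpowers_comm (fun x hx => hz x (hFQ hx)) b hb a ha).symm
    have hEp : IsPGroup p ↥E := fun a => ⟨1, by rw [pow_one]; exact Subtype.ext (hE.2 a a.2)⟩
    obtain ⟨Q, hEQ⟩ := hEp.exists_le_sylow
    have hQne : Nontrivial ↥(Q : Subgroup G) := by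
      obtain ⟨a, ha, hao⟩ := exists_orderOf_mem hE hEc
      refine ⟨⟨⟨a, hEQ ha⟩, 1, fun h => ?_⟩⟩
      have : a = 1 := congrArg Subtype.val h
      rw [this, orderOf_one] at hao
      exact hp.ne_one hao.symm
    haveI : Nontrivial ↥(Subgroup.center ↥(Q : Subgroup G)) := Q.2.center_nontrivial
    have hpZ : p ∣ Nat.card ↥(Subgroup.center ↥(Q : Subgroup G)) := by
      obtain ⟨m, hm, hm'⟩ := (Q.2.to_subgroup (Subgroup.center _)).nontrivial_iff_card.1 this
      rw [hm']; exact dvd_pow_self _ (by omega)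
    obtain ⟨z₀, hz₀⟩ := exists_prime_orderOf_dvd_card' p hpZ
    set z : G := ((z₀ : ↥(Q : Subgroup G)) : G) with hzdef
    have hzo : orderOf z = p := by rw [hzdef, Subgroup.orderOf_coe, Subgroup.orderOf_coe, hz₀]
    have hzQ : z ∈ (Q : Subgroup G) := SetLike.coe_mem _
    have hzc : ∀ q ∈ (Q : Subgroup G), Commute z q := fun q hq =>
      (congrArg Subtype.val (Subgroup.mem_center_iff.1 z₀.2 ⟨q, hq⟩)).symm
    set Z := Subgroup.zpowers z with hZ
    have hEZ : Reach p E Z := hlink E hE hEc Q hEQ z hzQ hzo hzc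
    have hcjQ : ∀ F : Subgroup G, Cfsg.IsElementaryAbelian p F → p ^ 1 ≤ Nat.card ↥F →
        ∀ g : G, cj g⁻¹ F ≤ Q → Reach p F (cj g Z) := by
      intro F hF hFc g hgF
      have h1 : Reach p (cj g⁻¹ F) Z := by
        have hc : Nat.card ↥(cj g⁻¹ F) = Nat.card ↥F :=
          (Nat.card_congr (F.equivMapOfInjective _ (MulAut.conj g⁻¹).injective).toEquiv).symm
        exact hlink _ (elab_map _ _ hF) (hc.symm ▸ hFc) Q hgF z hzQ hzo hzc
      have := reach_cj p g h1
      rwa [← cj_mul, mul_inv_cancel, cj_one] at this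
    let H : Subgroup G :=
      { carrier := {g | Reach p Z (cj g Z)}
        one_mem' := by simp only [Set.mem_setOf_eq, cj_one]; exact .refl
        mul_mem' := fun {g h} hg hh => by
          simp only [Set.mem_setOf_eq] at *
          rw [cj_mul]
          exact hg.trans (reach_cj p g hh)
        inv_mem' := fun {g} hg => by
          simp only [Set.mem_setOf_eq] at *
          have := reach_symm (reach_cj p g⁻¹ hg)
          rwa [← cj_mul, inv_mul_cancel, cj_one] at this }
    have hQH : (Q : Subgroup G) ≤ H := by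
      intro q hq
      change Reach p Z (cj q Z)
      rw [cj_self_of_commutes (fun a ha => (zpowers_comm hzc a ha q hq).symm)]
    have hconjSylow : ∀ F : Subgroup G, IsPGroup p ↥F → ∃ g : G, cj g⁻¹ F ≤ Q := by
      intro F hF
      obtain ⟨R, hR⟩ := hF.exists_le_sylow
      obtain ⟨g, hg⟩ := MulAction.exists_smul_eq G Q R
      refine ⟨g, fun x hx => ?_⟩
      rw [mem_cj, inv_inv] at hx
      have h2 : g * x * g⁻¹ ∈ ((g • Q : Sylow p G) : Subgroup G) := by rw [hg]; exact hR hx
      rw [Sylow.coe_subgroup_smul, Subgroup.mem_pointwise_smul_iff_inv_smul_mem] at h2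
      simpa [mul_assoc] using h2
    refine ⟨H, ?_, (hzo ▸ (by
      rw [← Nat.card_zpowers]; exact Subgroup.card_dvd_of_le (Subgroup.zpowers_le.2 (hQH hzQ)))), ?_⟩
    · intro htop
      apply hnot
      have hE'p : IsPGroup p ↥E' := fun a => ⟨1, by rw [pow_one]; exact Subtype.ext (hE'.2 a a.2)⟩
      obtain ⟨g, hg⟩ := hconjSylow E' hE'p
      have hgH : g ∈ H := htop ▸ Subgroup.mem_top g
      exact hEZ.trans (Relation.ReflTransGen.trans hgH (reach_symm (hcjQ E' hE' hE'c g hg)))
    · intro g hgH hdvd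
      obtain ⟨f₀, hf₀⟩ := exists_prime_orderOf_dvd_card'
        (G := ↥(H ⊓ H.map (MulAut.conj g).toMonoidHom)) p hdvd
      have hfo : orderOf (f₀ : G) = p := (Subgroup.orderOf_coe f₀).trans hf₀
      have hin : ∀ f : G, orderOf f = p → f ∈ H → Reach p Z (Subgroup.zpowers f) := by
        intro f hf hfH
        have hpf : IsPGroup p ↥((Subgroup.zpowers f).subgroupOf H) := by
          refine IsPGroup.comap_of_injective ?_ H.subtype H.subtype_injective
          exact IsPGroup.of_card (n := 1) (by rw [Nat.card_zpowers, hf, pow_one])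
        obtain ⟨R, hR⟩ := hpf.exists_le_sylow
        let QH : Sylow p ↥H := Q.subtype hQH
        obtain ⟨h, hh⟩ := MulAction.exists_smul_eq ↥H QH R
        have hfR : (⟨f, hfH⟩ : ↥H) ∈ (R : Subgroup ↥H) := hR (Subgroup.mem_zpowers f)
        rw [← hh, Sylow.coe_subgroup_smul, Subgroup.mem_pointwise_smul_iff_inv_smul_mem] at hfR
        have hfQ : (h : G)⁻¹ * f * h ∈ (Q : Subgroup G) := by
          simpa [QH, Subgroup.mem_subgroupOf, mul_assoc] using hfR
        have hle : cj (h : G)⁻¹ (Subgroup.zpowers f) ≤ Q := by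
          intro x hx
          rw [cj, MonoidHom.map_zpowers] at hx
          refine Subgroup.zpowers_le.2 ?_ hx
          simpa [mul_assoc] using hfQ
        exact Relation.ReflTransGen.trans h.2
          (reach_symm (hcjQ _ (vertex_zpowers hf).1 (vertex_zpowers hf).2 h hle))
      apply hgH
      have hfH : (f₀ : G) ∈ H := f₀.2.1
      have hgf : g⁻¹ * (f₀ : G) * g ∈ H := mem_cj.1 f₀.2.2
      have h1 := hin _ hfo hfH
      have h2 := hin (g⁻¹ * (f₀ : G) * g) (by
        have e : g⁻¹ * (f₀ : G) * g = MulAut.conj g⁻¹ (f₀ : G) := by simp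
        rw [e, MulEquiv.orderOf_eq, hfo]) hgf
      have h3 := reach_cj p g h2
      have e2 : cj g (Subgroup.zpowers (g⁻¹ * (f₀ : G) * g)) = Subgroup.zpowers (f₀ : G) := by
        rw [cj, MonoidHom.map_zpowers]
        congr 1
        simp [mul_assoc]
      rw [e2] at h3
      exact h1.trans (reach_symm h3)

end Cfsg.Agent.S1336
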