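import Cfsg.Statements.S1338
import Cfsg.Agent.Transfer.RankFourNormal
import Cfsg.Agent.OddOrder.BG5.Basic
import Mathlib.Tactic.IntervalCases

set_option autoImplicit false
open Cfsg

namespace Cfsg.Agent.S1338

open Subgroup CfsgLib.Transfer.RankFour

variable {P : Type*} [Group P] [Finite P]

/-- Counting a subgroup against the kernel and the image of an endomorphism. -/
theorem card_le_ker_mul (U : Subgroup P) (f : U →* U) (H : Subgroup U) :
    Nat.card H ≤ Nat.card f.ker * Nat.card (H.map f) := by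
  have h1 : f.ker.index * Nat.card f.ker = Nat.card U := index_mul_card _
  have h2 := (f.comp H.subtype).ker.index_mul_card
  have h3 : Nat.card (f.comp H.subtype).ker ≤ Nat.card f.ker :=
    Nat.card_le_card_of_injective (fun x => (⟨(x.1.1 : U), x.2⟩ : f.ker))
      (fun x y h => Subtype.ext (Subtype.ext (congrArg (fun z : f.ker => (z : U)) h)))
  rw [Subgroup.index_ker, MonoidHom.range_comp, range_subtype] at h2
  calc Nat.card H = Nat.card (H.map f) * Nat.card (f.comp H.subtype).ker := h2.symm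
    _ ≤ _ := by rw [mul_comm]; exact Nat.mul_le_mul_right _ h3

/-- An element of order three fixes at least a third root of an elementary abelian 3-group. -/
theorem card_le_fixed (U : Subgroup P) (hU : Cfsg.IsElementaryAbelian 3 U) (e : P)
    (he : e ∈ normalizer (U : Set P)) (he3 : e ^ 3 = 1) :
    Nat.card U ≤ Nat.card (U ⊓ centralizer {e} : Subgroup P) ^ 3 := by
  haveI := hU.1
  letI : CommGroup U := IsMulCommutative.instCommGroup
  have hn : ∀ x ∈ U, e * x * e⁻¹ ∈ U := fun x hx => (mem_normalizer_iff.mp he x).mp hx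
  let σ : U →* U :=
    { toFun := fun x => ⟨e * x.1 * e⁻¹, hn x x.2⟩
      map_one' := by apply Subtype.ext; simp
      map_mul' := fun x y => Subtype.ext (by simp [mul_assoc]) }
  let f : U →* U := σ * (MonoidHom.id U)⁻¹
  have hf : ∀ x, f x = σ x * x⁻¹ := fun x => rfl
  have hσ : ∀ x, σ (σ (σ x)) = x := fun x => Subtype.ext (by
    have e3 : e * e * e = 1 := by rw [← he3, pow_succ, pow_two]
    have : e * (e * (e * x.1 * e⁻¹) * e⁻¹) * e⁻¹ = (e * e * e) * x.1 * (e * e * e)⁻¹ := by group
    show e * (e * (e * x.1 * e⁻¹) * e⁻¹) * e⁻¹ = _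
    rw [this, e3]; simp)
  have hexp : ∀ x : U, x ^ 3 = 1 := fun x => Subtype.ext (by simpa using hU.2 _ x.2)
  have hf3 : ∀ x, f (f (f x)) = 1 := fun x => by
    simp only [hf, map_mul, map_inv, hσ, mul_inv, inv_inv]
    set u := σ x
    set v := σ u
    calc _ = u ^ 3 * (v ^ 3)⁻¹ := by
          apply Additive.ofMul.injective
          simp only [ofMul_mul, ofMul_inv, ofMul_pow]
          abel
      _ = 1 := by rw [hexp, hexp, inv_one, mul_one]
  have a1 := card_le_ker_mul U f ⊤
  have a2 := card_le_ker_mul U f ((⊤ : Subgroup U).map f)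
  have a3 : Nat.card (((⊤ : Subgroup U).map f).map f) ≤ Nat.card f.ker := by
    refine Subgroup.card_le_of_le ?_
    rintro _ ⟨_, ⟨x, -, rfl⟩, rfl⟩
    exact MonoidHom.mem_ker.mpr (hf3 x)
  have a4 : Nat.card f.ker ≤ Nat.card (U ⊓ centralizer {e} : Subgroup P) :=
    Nat.card_le_card_of_injective
      (fun x => (⟨x.1.1, x.1.2, by
        have h : σ x.1 * x.1⁻¹ = 1 := MonoidHom.mem_ker.mp x.2
        rw [mul_inv_eq_one] at h
        have h' : e * (x.1 : P) * e⁻¹ = (x.1 : P) := congrArg Subtype.val h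
        show (x.1 : P) ∈ centralizer {e}
        rw [mem_centralizer_singleton_iff]
        exact (mul_inv_eq_iff_eq_mul.mp h').symm⟩ : (U ⊓ centralizer {e} : Subgroup P)))
      (fun x y h => Subtype.ext (Subtype.ext (congrArg (fun z : (U ⊓ centralizer {e} : Subgroup P) => (z : P)) h)))
  rw [Subgroup.card_top] at a1
  calc Nat.card U ≤ Nat.card f.ker * (Nat.card f.ker * Nat.card f.ker) :=
        a1.trans (Nat.mul_le_mul_left _ (a2.trans (Nat.mul_le_mul_left _ a3)))
    _ = Nat.card f.ker ^ 3 := by ring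
    _ ≤ _ := Nat.pow_le_pow_left a4 3

/-- The edge relation of the rank two commuting graph. -/
def Adj (A B : Subgroup P) : Prop :=
  Cfsg.IsElementaryAbelian 3 A ∧ 3 ^ 2 ≤ Nat.card A ∧ Cfsg.IsElementaryAbelian 3 B ∧
    3 ^ 2 ≤ Nat.card B ∧ ∀ a ∈ A, ∀ b ∈ B, a * b = b * a

theorem adj_symm {A B : Subgroup P} (h : Adj A B) : Adj B A :=
  ⟨h.2.2.1, h.2.2.2.1, h.1, h.2.1, fun b hb a ha => (h.2.2.2.2 a ha b hb).symm⟩

theorem reach_symm {A B : Subgroup P} (h : Relation.ReflTransGen Adj A B) :
    Relation.ReflTransGen Adj B A := by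
  induction h with
  | refl => exact .refl
  | tail _ h' ih => exact .head (adj_symm h') ih

theorem elem_mono {A B : Subgroup P} (h : Cfsg.IsElementaryAbelian 3 B) (hle : A ≤ B) :
    Cfsg.IsElementaryAbelian 3 A :=
  ⟨⟨⟨fun a b => Subtype.ext (commute_of_elementary h (hle a.2) (hle b.2))⟩⟩,
    fun a ha => h.2 a (hle ha)⟩

/-- Every vertex is joined to a normal one inside a normal subgroup of order 81. -/
theorem reach_base (hP : IsPGroup 3 P) {U W : Subgroup P} [U.Normal] [W.Normal]
    (hU : Cfsg.IsElementaryAbelian 3 U) (hU4 : Nat.card U = 3 ^ 4) (hWU : W ≤ U)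
    (hW : Nat.card W = 3 ^ 2) {E : Subgroup P} (hE : Cfsg.IsElementaryAbelian 3 E)
    (h2 : 3 ^ 2 ≤ Nat.card E) : Relation.ReflTransGen Adj E W := by
  haveI : Fact (Nat.Prime 3) := ⟨by norm_num⟩
  have hWe := elem_mono hU hWU
  have h2W : 3 ^ 2 ≤ Nat.card W := hW.ge
  have hind : Nat.card E ≤ Nat.card (E ⊓ centralizer (W : Set P) : Subgroup P) * 3 :=
    card_le_inf_centralizer_mul E (CfsgLib.OddOrder.BG4.index_centralizer_le hP hWe.2 hW.le)
  have hUW : ∀ u ∈ U, ∀ w ∈ W, u * w = w * u := fun u hu w hw =>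
    commute_of_elementary hU hu (hWU hw)
  by_cases hD : 3 ^ 2 ≤ Nat.card (U ⊓ centralizer (E : Set P) : Subgroup P)
  · exact .head (b := (U ⊓ centralizer (E : Set P) : Subgroup P))
      ⟨hE, h2, elem_mono hU inf_le_left, hD, fun a ha b hb =>
        mem_centralizer_iff.mp hb.2 a ha⟩
      (.single ⟨elem_mono hU inf_le_left, hD, hWe, h2W, fun a ha b hb => hUW a ha.1 b hb⟩)
  by_cases hC : 3 ^ 2 ≤ Nat.card (E ⊓ centralizer (W : Set P) : Subgroup P)
  · exact .head (b := (E ⊓ centralizer (W : Set P) : Subgroup P))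
      ⟨hE, h2, elem_mono hE inf_le_left, hC, fun a ha b hb => commute_of_elementary hE ha hb.1⟩
      (.single ⟨elem_mono hE inf_le_left, hC, hWe, h2W, fun a ha b hb =>
        (mem_centralizer_iff.mp ha.2 b hb).symm⟩)
  obtain ⟨n, hn⟩ := CfsgLib.OddOrder.BG4.card_elementary_eq_pow (A := E) hE.2
  have hn2 : n = 2 := by
    have h1 : Nat.card E < 3 ^ 3 := by
      have : (3 : ℕ) ^ 2 * 3 = 3 ^ 3 := rfl
      omega
    rw [hn] at h1 h2
    have := (Nat.pow_lt_pow_iff_right (by norm_num : 1 < 3)).mp h1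
    have := (Nat.pow_le_pow_iff_right (by norm_num : 1 < 3)).mp h2
    omega
  subst hn2
  have hE1 : (E ⊓ centralizer (W : Set P) : Subgroup P) ≠ ⊥ := by
    intro h
    rw [h, Subgroup.card_bot, hn] at hind
    norm_num at hind
  obtain ⟨a, ⟨haE, haW⟩, ha1⟩ := (bot_or_exists_ne_one _).resolve_left hE1
  have hoa : orderOf a = 3 := orderOf_eq_prime (hE.2 a haE) ha1
  have hza : zpowers a ≤ E := zpowers_le.mpr haE
  have hlt : ¬ E ≤ zpowers a := fun h => by
    have := Subgroup.card_le_of_le h
    rw [Nat.card_zpowers, hoa, hn] at this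
    norm_num at this
  obtain ⟨b, hbE, hba⟩ := SetLike.not_le_iff_exists.mp hlt
  set V := (U ⊓ centralizer {a} : Subgroup P) with hV
  set D := (V ⊓ centralizer {b} : Subgroup P) with hDdef
  have hgen : E ≤ centralizer (D : Set P) := by
    set S := E ⊓ centralizer (D : Set P)
    have haS : a ∈ S := ⟨haE, mem_centralizer_iff.mpr fun d hd =>
      (mem_centralizer_singleton_iff.mp hd.1.2)⟩
    have hbS : b ∈ S := ⟨hbE, mem_centralizer_iff.mpr fun d hd =>
      (mem_centralizer_singleton_iff.mp hd.2)⟩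
    obtain ⟨k, hk⟩ := CfsgLib.OddOrder.BG4.card_elementary_eq_pow (A := S) (fun x hx => hE.2 x hx.1)
    have hlt2 : Nat.card (zpowers a) < Nat.card S := by
      refine lt_of_le_of_ne (Subgroup.card_le_of_le (zpowers_le.mpr haS)) fun h => hba ?_
      rw [eq_of_le_of_card_ge (zpowers_le.mpr haS) h.ge]
      exact hbS
    rw [Nat.card_zpowers, hoa, hk] at hlt2
    have hk2 : 2 ≤ k := by
      by_contra h
      interval_cases k <;> norm_num at hlt2
    have : S = E := eq_of_le_of_card_ge inf_le_left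
      (by rw [hk, hn]; exact Nat.pow_le_pow_right (by norm_num) hk2)
    exact this ▸ inf_le_right
  have hDle : D ≤ U ⊓ centralizer (E : Set P) :=
    le_inf (inf_le_left.trans inf_le_left) (le_centralizer_iff.mp hgen)
  have hDlt : Nat.card D < 3 ^ 2 := lt_of_le_of_lt (Subgroup.card_le_of_le hDle) (not_le.mp hD)
  have haU : a ∉ U := fun h => by
    have hVU : V = U := inf_eq_left.mpr fun u hu =>
      mem_centralizer_singleton_iff.mpr (commute_of_elementary hU hu h)
    have := card_le_fixed U hU b (by rw [normalizer_eq_top]; trivial) (hE.2 b hbE)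
    rw [hU4, ← hVU, ← hDdef] at this
    have h' : Nat.card D ^ 3 < 81 := by
      obtain ⟨k, hk⟩ := CfsgLib.OddOrder.BG4.card_elementary_eq_pow (A := D)
        (fun x hx => hU.2 x hx.1.1)
      rw [hk] at hDlt ⊢
      have := (Nat.pow_lt_pow_iff_right (by norm_num : 1 < 3)).mp hDlt
      interval_cases k <;> norm_num
    omega
  have hV9 : 3 ^ 2 ≤ Nat.card V := by
    have := card_le_fixed U hU a (by rw [normalizer_eq_top]; trivial) (hE.2 a haE)
    rw [hU4, ← hV] at this
    obtain ⟨k, hk⟩ := CfsgLib.OddOrder.BG4.card_elementary_eq_pow (A := V)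
      (fun x hx => hU.2 x hx.1)
    rw [hk] at this ⊢
    refine Nat.pow_le_pow_right (by norm_num) ?_
    by_contra h
    interval_cases k <;> norm_num at this
  have hD1 : D ≠ ⊥ := by
    intro h
    have hbV : b ∈ normalizer (V : Set P) := mem_normalizer_iff.mpr fun x => by
      have hc : b * a = a * b := commute_of_elementary hE hbE haE
      have hx1 : b * x * b⁻¹ ∈ U ↔ x ∈ U := ((inferInstance : U.Normal).mem_comm_iff).trans (by simp)
      simp only [hV, mem_inf, hx1, mem_centralizer_singleton_iff, and_congr_right_iff]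
      intro _
      constructor
      · intro hx
        calc b * x * b⁻¹ * a = b * (x * a) * b⁻¹ := by
              rw [mul_assoc (b * x), ← Commute.inv_left (show Commute b a from hc) |>.eq.symm]
              group
          _ = a * (b * x * b⁻¹) := by
              rw [hx, ← mul_assoc b a x, hc]; group
      · intro hx
        apply mul_left_cancel (a := b)
        apply mul_right_cancel (b := b⁻¹)
        calc b * (x * a) * b⁻¹ = b * x * b⁻¹ * a := by
              rw [mul_assoc (b * x), ← Commute.inv_left (show Commute b a from hc) |>.eq.symm]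
              group
          _ = a * (b * x * b⁻¹) := hx
          _ = b * (a * x) * b⁻¹ := by rw [← mul_assoc b a x, hc]; group
    have := card_le_fixed V (elem_mono hU inf_le_left) b hbV (hE.2 b hbE)
    rw [← hDdef, h, Subgroup.card_bot] at this
    omega
  have haD : zpowers a ≤ centralizer (D : Set P) := hza.trans hgen
  have hB := CfsgLib.OddOrder.BG5.isElementaryAbelian_sup (elem_mono hE hza)
    (elem_mono hU (hDle.trans inf_le_left)) haD
  have hB9 : 3 ^ 2 ≤ Nat.card (zpowers a ⊔ D : Subgroup P) := by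
    obtain ⟨k, hk⟩ := CfsgLib.OddOrder.BG4.card_elementary_eq_pow (A := (zpowers a ⊔ D : Subgroup P)) hB.2
    rw [hk]
    refine Nat.pow_le_pow_right (by norm_num) ?_
    by_contra h
    have hle : Nat.card (zpowers a ⊔ D : Subgroup P) ≤ Nat.card (zpowers a) := by
      rw [hk, Nat.card_zpowers, hoa]
      interval_cases k <;> norm_num
    have hDa : D ≤ zpowers a := by
      rw [eq_of_le_of_card_ge (H := zpowers a) (K := zpowers a ⊔ D) le_sup_left hle]
      exact le_sup_right
    obtain ⟨d, hd, hd1⟩ := (bot_or_exists_ne_one _).resolve_left hD1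
    apply haU
    have hod : orderOf d = 3 := orderOf_eq_prime (hU.2 d (hDle hd).1) hd1
    have : zpowers d = zpowers a := eq_of_le_of_card_ge (zpowers_le.mpr (hDa hd))
      (by rw [Nat.card_zpowers, Nat.card_zpowers, hod, hoa])
    exact (zpowers_le.mpr (hDle hd).1) (this ▸ mem_zpowers a)
  have hBc : (zpowers a ⊔ D : Subgroup P) ≤ centralizer (E : Set P) ⊓ centralizer (W : Set P) := by
    refine sup_le (zpowers_le.mpr ⟨mem_centralizer_iff.mpr fun e he =>
      commute_of_elementary hE he haE, haW⟩) (le_inf (hDle.trans inf_le_right) fun d hd => ?_)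
    exact mem_centralizer_iff.mpr fun w hw => (hUW d (hDle hd).1 w hw).symm
  exact .head (b := (zpowers a ⊔ D : Subgroup P))
    ⟨hE, h2, hB, hB9, fun e he x hx => mem_centralizer_iff.mp (hBc hx).1 e he⟩
    (.single ⟨hB, hB9, hWe, h2W, fun x hx w hw => (mem_centralizer_iff.mp (hBc hx).2 w hw).symm⟩)


/-- A finite 3-group of 3-rank at least 4 is 2-connected for the prime 3: its commuting graph on elementary abelian subgroups of order ≥ 9 is connected. -/
theorem result {P : Type*} [Group P] [Finite P] (hP : IsPGroup 3 P) (hrk : ¬ Cfsg.PRankLE 3 3 P) : Cfsg.IsKConnected 3 2 P := by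
  haveI : Fact (Nat.Prime 3) := ⟨by norm_num⟩
  simp only [Cfsg.PRankLE, not_forall, not_le] at hrk
  obtain ⟨A, hc, he, hlt⟩ := hrk
  obtain ⟨m, hm⟩ := CfsgLib.OddOrder.BG4.card_elementary_eq_pow (A := A) he
  have hm4 : 4 ≤ m := by
    rw [hm] at hlt
    have := (Nat.pow_lt_pow_iff_right (by norm_num : 1 < 3)).mp hlt
    omega
  obtain ⟨F, hF⟩ := Sylow.exists_subgroup_card_pow_prime (G := A) 3 (n := 4)
    (hm ▸ pow_dvd_pow 3 hm4)
  obtain ⟨U, hUn, hU, hU4⟩ := CfsgLib.Transfer.RankFour.exists_normal_elem_card_four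
    (E := F.map A.subtype) (by norm_num : (3 : ℕ) ≠ 2) hP
    (elem_mono ⟨hc, he⟩ (Subgroup.map_subtype_le F))
    (by rw [← hF]; exact
      (Nat.card_congr (F.equivMapOfInjective _ A.subtype_injective).toEquiv).symm)
  haveI := hUn
  obtain ⟨W, hWn, hWU, hW⟩ := CfsgLib.OddOrder.BG4.exists_normal_card_le hP U 2
    (by rw [hU4]; norm_num)
  haveI := hWn
  intro E E' hE h2 hE' h2'
  exact (reach_base hP hU hU4 hWU hW hE h2).trans
    (reach_symm (reach_base hP hU hU4 hWU hW hE' h2'))

end Cfsg.Agent.S1338
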