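import Cfsg.Statements.S1339
import Mathlib
import Cfsg.Agent.CharP49.Basic

set_option autoImplicit false
open Cfsg

namespace Cfsg.Agent.S1339

open Matrix CfsgLib

variable {F : Type*} [Field F] [Fintype F] [DecidableEq F] {n : ℕ}

theorem eq_one_of_ne_zero (hF : Fintype.card F = 2) {a : F} (ha : a ≠ 0) : a = 1 := by
  by_contra h
  have hle := Finset.card_le_univ ({0, 1, a} : Finset F)
  rw [Finset.card_insert_of_notMem (by simp [zero_ne_one, Ne.symm ha]),
    Finset.card_pair (Ne.symm h), hF] at hle
  omega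

variable {i j : Fin n} {t : SpecialLinearGroup (Fin n) F}

theorem val_eq (ht : (t : Matrix (Fin n) (Fin n) F) = transvection i j 1) :
    t.1 = 1 + Matrix.single i j 1 := ht

/-- Column `i` and row `j` of an element of the centraliser. -/
theorem entries (hF : Fintype.card F = 2) (hij : i ≠ j)
    (ht : (t : Matrix (Fin n) (Fin n) F) = transvection i j 1) {g : SpecialLinearGroup (Fin n) F}
    (hg : g ∈ Subgroup.centralizer ({t} : Set (SpecialLinearGroup (Fin n) F))) :
    (∀ k, g.1 k i = if k = i then 1 else 0) ∧ (∀ l, g.1 j l = if l = j then 1 else 0) := by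
  have h : g.1 * t.1 = t.1 * g.1 :=
    congrArg (fun x : SpecialLinearGroup (Fin n) F => x.1)
      (Subgroup.mem_centralizer_singleton_iff.mp hg)
  rw [val_eq ht, mul_add, add_mul, mul_one, one_mul, add_left_cancel_iff] at h
  have e : ∀ k l, (if l = j then g.1 k i else 0) = if k = i then g.1 j l else 0 := by
    intro k l
    have := congrArg (fun X => X k l) h
    split_ifs with h1 h2 h2 <;> simp_all
  have hk : ∀ k, k ≠ i → g.1 k i = 0 := fun k hk => by simpa [hk] using e k j
  have hl : ∀ l, l ≠ j → g.1 j l = 0 := fun l hl => by simpa [hl] using (e i l).symm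
  have hd : g.1 i i = g.1 j j := by simpa using e i j
  have ha : g.1 i i ≠ 0 := by
    intro h0
    have hz : g.1.det = 0 := Matrix.det_eq_zero_of_column_eq_zero i fun k => by
      by_cases h : k = i
      · rw [h, h0]
      · exact hk k h
    rw [g.2] at hz
    exact one_ne_zero hz
  have h1 := eq_one_of_ne_zero hF ha
  exact ⟨fun k => by split_ifs with h; exacts [h ▸ h1, hk k h],
    fun l => by
      split_ifs with h
      · rw [h, ← hd, h1]
      · exact hl l h⟩

/-- The action on `e_i^⊥ / e_i`. -/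
def mid (hF : Fintype.card F = 2) (hij : i ≠ j)
    (ht : (t : Matrix (Fin n) (Fin n) F) = transvection i j 1) :
    Subgroup.centralizer ({t} : Set (SpecialLinearGroup (Fin n) F)) →*
      Matrix {k // k ≠ i ∧ k ≠ j} {k // k ≠ i ∧ k ≠ j} F where
  toFun g := g.1.1.submatrix Subtype.val Subtype.val
  map_one' := by simp [Matrix.submatrix_one _ Subtype.val_injective]
  map_mul' a b := by
    ext k l
    simp only [Subgroup.coe_mul, SpecialLinearGroup.coe_mul, submatrix_apply, Matrix.mul_apply]
    have hi : a.1.1 k.1 i = 0 := by rw [(entries hF hij ht a.2).1, if_neg k.2.1]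
    have hj : b.1.1 j l.1 = 0 := by rw [(entries hF hij ht b.2).2, if_neg l.2.2]
    show (a.1.1 * b.1.1) k.1 l.1 = _
    rw [Matrix.mul_apply,
      ← Finset.sum_subtype (Finset.univ.filter fun m => m ≠ i ∧ m ≠ j) (p := fun m => m ≠ i ∧ m ≠ j)
        (by simp) (fun m => a.1.1 k.1 m * b.1.1 m l.1)]
    refine (Finset.sum_filter_of_ne fun m _ hm => ?_).symm
    refine ⟨fun h => hm ?_, fun h => hm ?_⟩
    · rw [h, hi, zero_mul]
    · rw [h, hj, mul_zero]

theorem mem_ker_iff (hF : Fintype.card F = 2) (hij : i ≠ j)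
    (ht : (t : Matrix (Fin n) (Fin n) F) = transvection i j 1)
    (g : Subgroup.centralizer ({t} : Set (SpecialLinearGroup (Fin n) F))) :
    g ∈ (mid hF hij ht).toHomUnits.ker ↔
      ∀ k l, k ≠ i → l ≠ j → g.1.1 k l = if k = l then 1 else 0 := by
  rw [MonoidHom.mem_ker, Units.ext_iff]
  constructor
  · intro h k l hk hl
    by_cases hkj : k = j
    · subst hkj
      rw [(entries hF hij ht g.2).2, if_neg hl, if_neg (Ne.symm hl)]
    by_cases hli : l = i
    · subst hli
      simp [(entries hF hij ht g.2).1, hk]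
    have := congrArg (fun X => X (⟨k, hk, hkj⟩ : {k // k ≠ i ∧ k ≠ j}) ⟨l, hli, hl⟩) h
    simpa [mid, Matrix.one_apply] using this
  · intro h
    ext k l
    have := h k.1 l.1 k.2.1 l.2.2
    simpa [mid, Matrix.one_apply, Subtype.ext_iff] using this

theorem pow_four (hF : Fintype.card F = 2) (hij : i ≠ j)
    (ht : (t : Matrix (Fin n) (Fin n) F) = transvection i j 1)
    (g : Subgroup.centralizer ({t} : Set (SpecialLinearGroup (Fin n) F)))
    (hg : g ∈ (mid hF hij ht).toHomUnits.ker) : g ^ 4 = 1 := by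
  have h := (mem_ker_iff hF hij ht g).mp hg
  obtain ⟨hc, hr⟩ := entries hF hij ht g.2
  set N : Matrix (Fin n) (Fin n) F := g.1.1 - 1 with hN
  have h0 : ∀ k l, k ≠ i → l ≠ j → N k l = 0 := fun k l hk hl => by
    rw [hN, Matrix.sub_apply, h k l hk hl, Matrix.one_apply, sub_self]
  have hci : ∀ k, N k i = 0 := fun k => by
    rw [hN, Matrix.sub_apply, hc, Matrix.one_apply, sub_self]
  have hrj : ∀ l, N j l = 0 := fun l => by
    rw [hN, Matrix.sub_apply, hr, Matrix.one_apply]
    simp [eq_comm]
  have h2 : ∀ k l, k ≠ i ∨ l ≠ j → (N * N) k l = 0 := by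
    intro k l hkl
    rw [Matrix.mul_apply]
    refine Finset.sum_eq_zero fun m _ => ?_
    by_cases hmi : m = i
    · rw [hmi, hci, zero_mul]
    by_cases hmj : m = j
    · rw [hmj, hrj, mul_zero]
    rcases hkl with hk | hl
    · rw [h0 k m hk hmj, zero_mul]
    · rw [h0 m l hmi hl, mul_zero]
  have h4 : N * N * (N * N) = 0 := by
    ext k l
    rw [Matrix.mul_apply, Matrix.zero_apply]
    refine Finset.sum_eq_zero fun m _ => ?_
    by_cases hmj : m = j
    · rw [h2 m l (Or.inl (hmj ▸ hij.symm)), mul_zero]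
    · rw [h2 k m (Or.inr hmj), zero_mul]
  have two : (2 : F) = 0 := by
    have := Nat.cast_card_eq_zero F
    rw [hF] at this
    exact_mod_cast this
  have e2 : g.1.1 * g.1.1 = 1 + N * N := by
    have hg' : g.1.1 = 1 + N := by rw [hN]; abel
    rw [hg', add_mul, mul_add, mul_add, one_mul, mul_one, one_mul]
    have : N + N = 0 := by rw [← two_smul F N, two, zero_smul]
    calc 1 + N + (N + N * N) = 1 + (N + N) + N * N := by abel
      _ = 1 + N * N := by rw [this, add_zero]
  refine Subtype.ext (Subtype.ext ?_)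
  have hpow : ((g ^ 4 : Subgroup.centralizer ({t} : Set (SpecialLinearGroup (Fin n) F))) :
      SpecialLinearGroup (Fin n) F) = g.1 ^ 4 := rfl
  rw [hpow]
  show g.1.1 ^ 4 = 1
  rw [show (4 : ℕ) = 2 + 2 from rfl, pow_add, pow_two, e2, add_mul,
    mul_add, mul_add, one_mul, mul_one, one_mul, h4, add_zero]
  have : N * N + N * N = 0 := by rw [← two_smul F (N * N), two, zero_smul]
  rw [add_assoc, this, add_zero]

theorem centralizer_ker_le (hF : Fintype.card F = 2) (hij : i ≠ j)
    (ht : (t : Matrix (Fin n) (Fin n) F) = transvection i j 1) :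
    Subgroup.centralizer ((mid hF hij ht).toHomUnits.ker : Set
      (Subgroup.centralizer ({t} : Set (SpecialLinearGroup (Fin n) F)))) ≤
        (mid hF hij ht).toHomUnits.ker := by
  intro c hc
  rw [mem_ker_iff]
  intro k l hk hl
  -- the transvection `1 + E_ik`
  let T : SpecialLinearGroup (Fin n) F :=
    ⟨transvection i k 1, Matrix.det_transvection_of_ne i k (Ne.symm hk) 1⟩
  have hT : T ∈ Subgroup.centralizer ({t} : Set (SpecialLinearGroup (Fin n) F)) := by
    rw [Subgroup.mem_centralizer_singleton_iff]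
    refine Subtype.ext ?_
    show transvection i k (1 : F) * t.1 = t.1 * transvection i k 1
    rw [val_eq ht]
    simp [transvection, mul_add, add_mul, Matrix.single_mul_single_of_ne,
      Matrix.single_mul_single_of_ne _ _ _ _ hk, Matrix.single_mul_single_of_ne _ _ _ _ hij.symm]
    abel
  have hTk : (⟨T, hT⟩ : Subgroup.centralizer ({t} : Set (SpecialLinearGroup (Fin n) F))) ∈
      (mid hF hij ht).toHomUnits.ker := by
    rw [mem_ker_iff]
    intro a b ha hb
    show transvection i k (1 : F) a b = _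
    simp [transvection, Matrix.one_apply, Ne.symm ha]
  have h := congrArg (fun g : Subgroup.centralizer ({t} : Set (SpecialLinearGroup (Fin n) F)) =>
    g.1.1) (Subgroup.mem_centralizer_iff.mp hc _ hTk)
  change transvection i k (1 : F) * c.1.1 = c.1.1 * transvection i k 1 at h
  have h' := congrArg (fun X => X i l) h
  simp only [transvection, add_mul, mul_add, one_mul, mul_one, Matrix.add_apply] at h'
  rw [add_left_cancel_iff, Matrix.single_mul_apply_same, one_mul] at h'
  rw [h']
  by_cases hkl : k = l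
  · subst hkl
    rw [Matrix.mul_single_apply_same, (entries hF hij ht c.2).1]
    simp
  · rw [Matrix.mul_single_apply_of_ne (hbj := Ne.symm hkl), if_neg hkl]

/-- Let F be a field with 2 elements, n ≥ 3, and t ∈ SL(n, F) a transvection (t = 1 + E_{ij}, i ≠ j). Then the generalized Fitting subgroup of C(t) is O_2(C(t)). -/
theorem result {F : Type*} [Field F] [Fintype F] [DecidableEq F] (hF : Fintype.card F = 2) (n : ℕ) (hn : 3 ≤ n) (i j : Fin n) (hij : i ≠ j) (t : Matrix.SpecialLinearGroup (Fin n) F) (ht : (t : Matrix (Fin n) (Fin n) F) = Matrix.transvection i j 1) : Cfsg.generalizedFittingSubgroup ↥(Subgroup.centralizer ({t} : Set (Matrix.SpecialLinearGroup (Fin n) F))) = Cfsg.pCore 2 ↥(Subgroup.centralizer ({t} : Set (Matrix.SpecialLinearGroup (Fin n) F))) := by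
  haveI : Fact (Nat.Prime 2) := ⟨Nat.prime_two⟩
  have hQ : IsPGroup 2 (mid hF hij ht).toHomUnits.ker := fun g =>
    ⟨2, Subtype.ext (pow_four hF hij ht g.1 g.2)⟩
  have hle : (mid hF hij ht).toHomUnits.ker ≤ Cfsg.pCore 2 _ := PLocal.le_pCore hQ
  exact CharP49.fstar_eq_pCore_iff.mpr
    (((Subgroup.centralizer_le hle).trans (centralizer_ker_le hF hij ht)).trans hle)

end Cfsg.Agent.S1339
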