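import Cfsg.Statements.S1343
import Cfsg.Agent.Signalizer.ExtendedTwoLayer

set_option autoImplicit false
open Cfsg

namespace Cfsg.Agent.S1343

/-- Let X be finite. Then L*_{2'}(X) = L_{2'}(X) ⊔ F for some subgroup F of odd order normalized by a Sylow 2-subgroup of X. -/
theorem result {X : Type*} [Group X] [Finite X] : ∃ F : Subgroup X, Odd (Nat.card ↥F) ∧ (∃ S : Sylow 2 X, (S : Subgroup X) ≤ Subgroup.normalizer (F : Set X)) ∧ Cfsg.extendedTwoLayer X = Cfsg.pLayer 2 X ⊔ F := by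
  have : Fact (Nat.Prime 2) := ⟨Nat.prime_two⟩
  set N := CfsgLib.Signalizer.layerCore X with hN
  obtain ⟨T⟩ : Nonempty (Sylow 2 ↥N) := inferInstance
  have hTp : IsPGroup 2 ↥((T : Subgroup ↥N).map N.subtype) := T.2.map _
  obtain ⟨S, hS⟩ := hTp.exists_le_sylow
  have hTS : (T : Subgroup ↥N).map N.subtype = (S : Subgroup X) ⊓ N := by
    refine le_antisymm (le_inf hS (Subgroup.map_subtype_le _)) ?_
    have h1 : (T : Subgroup ↥N) ≤ (S : Subgroup X).subgroupOf N := fun y hy => hS ⟨y, hy, rfl⟩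
    have h2 := T.3 (S.2.comap_of_injective N.subtype N.subtype_injective) h1
    rintro x ⟨hxS, hxN⟩
    refine ⟨⟨x, hxN⟩, ?_, rfl⟩
    have : (⟨x, hxN⟩ : ↥N) ∈ (S : Subgroup X).subgroupOf N := hxS
    exact h2 ▸ this
  set C := CfsgLib.Signalizer.coreCentralizer ((T : Subgroup ↥N).map N.subtype) with hC
  have hCodd : (Nat.card ↥C).Coprime 2 :=
    Nat.Coprime.coprime_dvd_left (Subgroup.card_map_dvd _ _) (CfsgLib.PLocal.coprime_card_pPrimeCore 2 _)
  refine ⟨C ⊔ Cfsg.oddCore X, ?_, ⟨S, ?_⟩, ?_⟩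
  · have : (Nat.card ↥(C ⊔ Cfsg.oddCore X)).Coprime 2 :=
      Nat.Coprime.coprime_dvd_left (CfsgLib.PLocal.card_sup_dvd_mul C (Cfsg.oddCore X))
        (Nat.Coprime.mul_left hCodd (CfsgLib.PLocal.coprime_card_pPrimeCore 2 X))
    exact Nat.coprime_two_right.1 this
  · have key : ∀ s ∈ (S : Subgroup X),
        (C ⊔ Cfsg.oddCore X).map (MulAut.conj s).toMonoidHom = C ⊔ Cfsg.oddCore X := by
      intro s hs
      rw [Subgroup.map_sup, CfsgLib.PLocal.map_pPrimeCore_equiv, hC,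
        CfsgLib.Signalizer.map_coreCentralizer]
      have : ((T : Subgroup ↥N).map N.subtype).map (MulAut.conj s).toMonoidHom =
          (T : Subgroup ↥N).map N.subtype := by
        rw [hTS]
        refine le_antisymm ?_ ?_
        · rintro _ ⟨y, hy, rfl⟩
          exact ⟨(S : Subgroup X).mul_mem ((S : Subgroup X).mul_mem hs hy.1) ((S : Subgroup X).inv_mem hs), (inferInstance : N.Normal).conj_mem y hy.2 s⟩
        · intro y hy
          refine ⟨s⁻¹ * y * s, ⟨(S : Subgroup X).mul_mem ((S : Subgroup X).mul_mem ((S : Subgroup X).inv_mem hs) hy.1) hs, ?_⟩, by simp [mul_assoc]⟩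
          simpa using (inferInstance : N.Normal).conj_mem y hy.2 s⁻¹
      rw [this]
    intro s hs
    rw [Subgroup.mem_normalizer_iff]
    intro x
    constructor
    · intro hx
      rw [← key s hs]
      exact ⟨x, hx, rfl⟩
    · intro hx
      rw [← key s⁻¹ (inv_mem hs)]
      exact ⟨_, hx, by simp [mul_assoc]⟩
  · rw [CfsgLib.Signalizer.extendedTwoLayer_eq_of_sylow T, ← hC, sup_comm C, ← sup_assoc]

end Cfsg.Agent.S1343
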