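import Cfsg.Statements.S1344
import Cfsg.Agent.Components.PComponents
import Cfsg.Agent.Signalizer.ExtendedTwoLayer

set_option autoImplicit false
open Cfsg

namespace Cfsg.Agent.S1344

/-- Let K be a 2-component of the finite group X. Then K ≤ L*_{2'}(X) and K is normal in L*_{2'}(X). -/
theorem result {X : Type*} [Group X] [Finite X] (K : Subgroup X) (hK : Cfsg.IsPComponent 2 K) : K ≤ Cfsg.extendedTwoLayer X ∧ (K.subgroupOf (Cfsg.extendedTwoLayer X)).Normal := by
  haveI : Fact (Nat.Prime 2) := ⟨Nat.prime_two⟩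
  have hKL : K ≤ Cfsg.pLayer 2 X := le_sSup hK
  have hle : K ≤ Cfsg.extendedTwoLayer X := hKL.trans (le_sup_left.trans le_sup_left)
  refine ⟨hle, Subgroup.normal_subgroupOf_of_le_normalizer ?_⟩
  set π := QuotientGroup.mk' (Cfsg.pPrimeCore 2 X) with hπ
  set Kb := K.map π with hKb
  have hN : Subgroup.normalizer ((Kb.comap π : Subgroup X) : Set X) ≤ Subgroup.normalizer (K : Set X) := by
    refine (CfsgLib.Components.normalizer_le_normalizer_pElems (p := 2) _).trans (le_of_eq ?_)
    exact congrArg (fun H : Subgroup X => Subgroup.normalizer (H : Set X))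
      (CfsgLib.Components.IsPComponent.eq_pComponentOver hK).symm
  have hO : Cfsg.oddCore X ≤ Subgroup.normalizer (K : Set X) := by
    refine le_trans (le_trans ?_ Subgroup.le_normalizer) hN
    intro o ho
    rw [Subgroup.mem_comap]
    have : π o = 1 := (QuotientGroup.eq_one_iff (N := Cfsg.pPrimeCore 2 X) o).2 ho
    rw [this]; exact one_mem _
  have hL0 : Cfsg.pLayer 2 X ⊔ Cfsg.oddCore X ≤ Subgroup.normalizer (K : Set X) :=
    sup_le (CfsgLib.Components.IsPComponent.pLayer_le_normalizer hK) hO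
  refine sup_le hL0 (iSup_le fun T => ?_)
  set T' := (T : Subgroup ↥(CfsgLib.Signalizer.layerCore X)).map
    (CfsgLib.Signalizer.layerCore X).subtype with hT'
  rintro _ ⟨c, -, rfl⟩
  -- a 2-element of `K` fixed by `c` whose image is not central
  obtain ⟨y, hyK, hyT, hyZ⟩ : ∃ y ∈ K, y ∈ T' ∧ π y ∉ Subgroup.centralizer (Kb : Set (X ⧸ Cfsg.pPrimeCore 2 X)) := by
    obtain ⟨x, ⟨hxK, k, hxk⟩, hxZ⟩ : ∃ x, (x ∈ K ∧ ∃ k : ℕ, x ^ 2 ^ k = 1) ∧
        π x ∉ Subgroup.centralizer (Kb : Set (X ⧸ Cfsg.pPrimeCore 2 X)) := by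
      by_contra hall
      push_neg at hall
      apply CfsgLib.Components.IsComponent.not_commute hK.2.1
      rw [Subgroup.commutator_eq_bot_iff_le_centralizer, Subgroup.map_le_iff_le_comap]
      calc K = CfsgLib.Components.pElems 2 K :=
            (CfsgLib.Components.IsPComponent.pElems_eq_self hK).symm
        _ ≤ _ := (Subgroup.closure_le _).2 fun x hx => hall x hx
    have hxN : x ∈ CfsgLib.Signalizer.layerCore X := Subgroup.mem_sup_left (hKL hxK)
    have hp : IsPGroup 2 ↥(Subgroup.zpowers (⟨x, hxN⟩ : ↥(CfsgLib.Signalizer.layerCore X))) := by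
      have hdvd : orderOf (⟨x, hxN⟩ : ↥(CfsgLib.Signalizer.layerCore X)) ∣ 2 ^ k :=
        orderOf_dvd_of_pow_eq_one (Subtype.ext hxk)
      obtain ⟨j, -, hj⟩ := (Nat.dvd_prime_pow Nat.prime_two).1 hdvd
      exact IsPGroup.of_card (n := j) (by rw [Nat.card_zpowers, hj])
    obtain ⟨T₁, hT₁⟩ := hp.exists_le_sylow
    obtain ⟨n, rfl⟩ := MulAction.exists_smul_eq ↥(CfsgLib.Signalizer.layerCore X) T T₁
    have hx1 := hT₁ (Subgroup.mem_zpowers _)
    rw [Sylow.coe_subgroup_smul, Subgroup.mem_pointwise_smul_iff_inv_smul_mem] at hx1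
    obtain ⟨a, ha, t, ht, hat⟩ := Subgroup.mem_sup_of_normal_left.1
      (CfsgLib.Signalizer.layerCore_le_sup_sylow T n.2)
    have hnx : (n : X)⁻¹ * x * n ∈ T' := ⟨_, hx1, by simp [mul_assoc]⟩
    refine ⟨a⁻¹ * x * a, ?_, ?_, ?_⟩
    · simpa using (Subgroup.mem_normalizer_iff.1 (inv_mem (hL0 ha)) x).1 hxK
    · have e : a⁻¹ * x * a = t * ((n : X)⁻¹ * x * n) * t⁻¹ := by rw [← hat]; group
      rw [e]
      exact mul_mem (mul_mem ht hnx) (inv_mem ht)
    · intro hcon
      apply hxZ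
      rw [Subgroup.mem_centralizer_iff]
      rintro _ ⟨u, hu, rfl⟩
      have hu' : a⁻¹ * u * a ∈ K := by
        simpa using (Subgroup.mem_normalizer_iff.1 (inv_mem (hL0 ha)) u).1 hu
      have h := Subgroup.mem_centralizer_iff.1 hcon _ (Subgroup.mem_map_of_mem π hu')
      rw [← map_mul, ← map_mul] at h ⊢
      have h2 := congrArg (fun z => π a * z * (π a)⁻¹) h
      simp only [← map_mul, ← map_inv] at h2
      convert h2 using 2 <;> group
  have hcy : (c : X) * y * (c : X)⁻¹ = y :=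
    mul_inv_eq_iff_eq_mul.2 (Subgroup.mem_centralizer_iff.1 c.2 y hyT).symm
  by_cases hfix : Kb.map (MulAut.conj (π c)).toMonoidHom = Kb
  · refine hN ?_
    rw [Subgroup.mem_normalizer_iff]
    intro u
    simp only [Subgroup.mem_comap, map_mul, map_inv, Subgroup.coe_subtype]
    constructor
    · intro hu
      rw [← hfix]
      exact ⟨π u, hu, rfl⟩
    · intro hu
      rw [← hfix] at hu
      obtain ⟨v, hv, hvu⟩ := hu
      have hvv : v = π u := (MulAut.conj (π (c : X))).injective hvu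
      rwa [← hvv]
  · exfalso
    apply hyZ
    refine (Subgroup.commutator_eq_bot_iff_le_centralizer.1
      (CfsgLib.Components.IsComponent.commutator_eq_bot_of_ne
        (CfsgLib.Components.IsComponent.conj hK.2.1 (π c)) hK.2.1 hfix)) ?_
    refine ⟨π y, Subgroup.mem_map_of_mem π hyK, ?_⟩
    change π c * π y * (π c)⁻¹ = π y
    rw [← map_mul, ← map_inv, ← map_mul, hcy]

end Cfsg.Agent.S1344
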