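import Cfsg.Statements.S1348
import Cfsg.Agent.S1340
import Cfsg.Agent.Components.Basic
import Cfsg.Prelude.Def_Local

set_option autoImplicit false
open Cfsg

namespace Cfsg.Agent.S1348

open Matrix CfsgLib

/-- A normal quasisimple subgroup of an involution centralizer whose centralizer in the whole group
is cyclic is standard, and it is the layer of that involution centralizer. -/
theorem standard_of {G : Type*} [Group G] [Finite G] (t : G) (ht : orderOf t = 2) (L : Subgroup G)
    (hLC : L ≤ Subgroup.centralizer {t}) (hLn : Subgroup.centralizer {t} ≤ Subgroup.normalizer (L : Set G))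
    (hL : Cfsg.IsQuasisimple L) (hcyc : IsCyclic (Subgroup.centralizer (L : Set G))) :
    (Cfsg.layer ↥(Subgroup.centralizer {t})).map (Subgroup.centralizer {t}).subtype = L ∧
      Cfsg.IsStandardSubgroup L := by
  set C := Subgroup.centralizer {t}
  set K := Subgroup.centralizer (L : Set G)
  haveI := hcyc
  have htK : t ∈ K := Subgroup.mem_centralizer_iff.mpr fun l hl =>
    Subgroup.mem_centralizer_singleton_iff.mp (hLC hl)
  have hKcomm : ∀ x ∈ K, ∀ y ∈ K, x * y = y * x := fun x hx y hy => by
    letI := IsCyclic.commGroup (α := K)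
    exact congrArg Subtype.val (mul_comm (⟨x, hx⟩ : K) ⟨y, hy⟩)
  have hKC : K ≤ C := fun x hx => Subgroup.mem_centralizer_singleton_iff.mpr (hKcomm x hx t htK)
  have huniq : ∀ x ∈ K, orderOf x = 2 → x = t := by
    intro x hx hx2
    classical
    haveI := Fintype.ofFinite K
    by_contra hne
    have h3 := IsCyclic.card_pow_eq_one_le (α := K) (n := 2) two_pos
    have hxo : (⟨x, hx⟩ : K) ≠ 1 := fun h => by
      rw [show x = 1 from congrArg Subtype.val h, orderOf_one] at hx2
      omega
    have hto' : (⟨t, htK⟩ : K) ≠ 1 := fun h => by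
      rw [show t = 1 from congrArg Subtype.val h, orderOf_one] at ht
      omega
    have hxt : (⟨x, hx⟩ : K) ≠ ⟨t, htK⟩ := fun h => hne (congrArg Subtype.val h)
    have hsub : ({1, ⟨x, hx⟩, ⟨t, htK⟩} : Finset K) ⊆ Finset.univ.filter fun a : K => a ^ 2 = 1 := by
      intro a ha
      simp only [Finset.mem_insert, Finset.mem_singleton] at ha
      simp only [Finset.mem_filter, Finset.mem_univ, true_and]
      rcases ha with rfl | rfl | rfl
      · exact one_pow 2
      · exact Subtype.ext (by simpa [hx2] using pow_orderOf_eq_one x)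
      · exact Subtype.ext (by simpa [ht] using pow_orderOf_eq_one t)
    have := (Finset.card_le_card hsub).trans h3
    rw [Finset.card_eq_three.mpr ⟨1, _, _, hxo.symm, hto'.symm, hxt, rfl⟩] at this
    omega
  have hab : ¬ L ≤ K := fun h => Components.IsQuasisimple.not_isMulCommutative hL
    ⟨⟨fun a b => Subtype.ext (hKcomm _ (h a.2) _ (h b.2))⟩⟩
  -- a subgroup normalizing `C(L)` fixes `t`
  have hfix : ∀ g, g ∈ Subgroup.normalizer (K : Set G) → g ∈ C := by
    intro g hg
    have hmem : g * t * g⁻¹ ∈ K := (Subgroup.mem_normalizer_iff.mp hg t).mp htK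
    have := huniq _ hmem (by rw [← MulAut.conj_apply, MulEquiv.orderOf_eq, ht])
    rw [Subgroup.mem_centralizer_singleton_iff]
    calc g * t = g * t * g⁻¹ * g := by group
      _ = t * g := by rw [this]
  have hLK : Subgroup.normalizer (L : Set G) ≤ Subgroup.normalizer (K : Set G) := by
    intro g hg
    have hcl : ∀ g' : G, g' ∈ Subgroup.normalizer (L : Set G) → ∀ x ∈ K, g' * x * g'⁻¹ ∈ K := by
      intro g' hg' x hx
      refine Subgroup.mem_centralizer_iff.mpr fun l hl => ?_
      have hl' : g'⁻¹ * l * g' ∈ L := by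
        simpa using (Subgroup.mem_normalizer_iff.mp (inv_mem hg') l).mp hl
      have := Subgroup.mem_centralizer_iff.mp hx _ hl'
      calc l * (g' * x * g'⁻¹) = g' * (g'⁻¹ * l * g' * x) * g'⁻¹ := by group
        _ = g' * (x * (g'⁻¹ * l * g')) * g'⁻¹ := by rw [this]
        _ = g' * x * g'⁻¹ * l := by group
    refine Subgroup.mem_normalizer_iff.mpr fun x => ⟨hcl g hg x, fun h => ?_⟩
    simpa [mul_assoc] using hcl g⁻¹ (inv_mem hg) _ h
  have hNN : Subgroup.normalizer (L : Set G) = Subgroup.normalizer (K : Set G) :=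
    le_antisymm hLK fun g hg => hLn (hfix g hg)
  refine ⟨?_, hL, ⟨?_, fun g hg => ?_⟩, fun g hg hcom => ?_, hNN⟩
  · have hcomp : Cfsg.IsComponent (L.subgroupOf C) :=
      ⟨((Subgroup.normal_subgroupOf_iff_le_normalizer hLC).mpr hLn).isSubnormal,
        Components.isQuasisimple_congr (Subgroup.subgroupOfEquivOfLe hLC).symm hL⟩
    refine le_antisymm (Subgroup.map_le_iff_le_comap.mpr (sSup_le fun E hE => ?_)) ?_
    · by_cases h : E = L.subgroupOf C
      · exact h.le
      · exfalso
        apply Components.IsComponent.not_commute hE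
        have h' := Subgroup.commutator_eq_bot_iff_le_centralizer.mp
          (Components.IsComponent.commutator_eq_bot_of_ne hE hcomp h)
        have hEK : ∀ e ∈ E, (e : G) ∈ K := fun e he => Subgroup.mem_centralizer_iff.mpr fun l hl =>
          congrArg Subtype.val (Subgroup.mem_centralizer_iff.mp (h' he) ⟨l, hLC hl⟩ hl)
        rw [Subgroup.commutator_eq_bot_iff_le_centralizer]
        exact fun a ha => Subgroup.mem_centralizer_iff.mpr fun b hb =>
          Subtype.ext (hKcomm _ (hEK b hb) _ (hEK a ha))
    · conv_lhs => rw [← Subgroup.map_subgroupOf_eq_of_le hLC]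
      exact Subgroup.map_mono (le_sSup hcomp)
  · rw [even_iff_two_dvd, ← ht, ← Subgroup.orderOf_mk t htK]
    exact orderOf_dvd_natCard _
  · by_contra hodd
    rw [Nat.not_odd_iff_even, even_iff_two_dvd] at hodd
    obtain ⟨x, hx⟩ := exists_prime_orderOf_dvd_card' 2 hodd
    have hx' : orderOf (x : G) = 2 := (Subgroup.orderOf_coe x).trans hx
    obtain ⟨hxK, y, hy, hyx⟩ := x.2
    have hy' : orderOf y = 2 := by
      rw [← hyx] at hx'
      exact (MulEquiv.orderOf_eq (MulAut.conj g) y).symm.trans hx'
    have e1 := huniq _ hxK hx'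
    have e2 := huniq y hy hy'
    apply hg
    rw [← hNN]
    refine hLn (Subgroup.mem_centralizer_singleton_iff.mpr ?_)
    rw [e1, e2] at hyx
    change g * t * g⁻¹ = t at hyx
    exact mul_inv_eq_iff_eq_mul.mp hyx
  · -- a commuting conjugate would lie in the abelian group `C(L)`
    rw [Subgroup.commutator_comm, Subgroup.commutator_eq_bot_iff_le_centralizer] at hcom
    refine Components.IsQuasisimple.not_isMulCommutative hL ⟨⟨fun a b => Subtype.ext ?_⟩⟩
    apply (MulAut.conj g).injective
    rw [Subgroup.coe_mul, Subgroup.coe_mul, map_mul, map_mul]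
    exact hKcomm _ (hcom ⟨a, a.2, rfl⟩) _ (hcom ⟨b, b.2, rfl⟩)

variable {F : Type*} [Field F] [Fintype F] [DecidableEq F] {n m : ℕ}

/-- `SL_m` as a block of `SL_n`. -/
def emb (e : Fin m ⊕ Fin 1 ≃ Fin n) : SpecialLinearGroup (Fin m) F →* SpecialLinearGroup (Fin n) F where
  toFun s := ⟨Matrix.reindexAlgEquiv F F e (fromBlocks s.1 0 0 1), by
    rw [det_reindexAlgEquiv, det_fromBlocks_zero₂₁, s.2, det_one, one_mul]⟩
  map_one' := Subtype.ext (by
    show Matrix.reindexAlgEquiv F F e (fromBlocks (1 : Matrix (Fin m) (Fin m) F) 0 0 1) = 1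
    rw [fromBlocks_one, map_one])
  map_mul' a b := Subtype.ext (by
    show Matrix.reindexAlgEquiv F F e (fromBlocks (a.1 * b.1) 0 0 1) = _ * _
    rw [← map_mul, fromBlocks_multiply]
    simp)

/-- Matrix entries in block coordinates. -/
def coord (e : Fin m ⊕ Fin 1 ≃ Fin n) :
    SpecialLinearGroup (Fin n) F →* Matrix (Fin m ⊕ Fin 1) (Fin m ⊕ Fin 1) F where
  toFun g := (Matrix.reindexAlgEquiv F F e).symm g.1
  map_one' := by simp
  map_mul' a b := by simp

theorem coord_injective (e : Fin m ⊕ Fin 1 ≃ Fin n) :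
    Function.Injective (coord (F := F) e) := fun a b h =>
  Subtype.ext ((Matrix.reindexAlgEquiv F F e).symm.injective h)

theorem coord_emb (e : Fin m ⊕ Fin 1 ≃ Fin n) (s : SpecialLinearGroup (Fin m) F) :
    coord e (emb e s) = fromBlocks s.1 0 0 1 :=
  (Matrix.reindexAlgEquiv F F e).symm_apply_apply _

/-- A transvection as an element of `SL_m`. -/
def tv (T : TransvectionStruct (Fin m) F) : SpecialLinearGroup (Fin m) F :=
  ⟨T.toMatrix, TransvectionStruct.det T⟩

/-- What commutes with the block is a scalar on the block and diagonal outside. -/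
theorem shape_of_commute (e : Fin m ⊕ Fin 1 ≃ Fin n) (hm : 2 ≤ m) (g : SpecialLinearGroup (Fin n) F)
    (hg : ∀ s : SpecialLinearGroup (Fin m) F, g * emb e s = emb e s * g) :
    ∃ l μ : F, coord e g = fromBlocks (Matrix.scalar (Fin m) l) 0 0 (Matrix.scalar (Fin 1) μ) ∧
      l ^ m * μ = 1 := by
  set M := coord e g with hM
  have hdet : M.det = 1 := by
    have h := det_reindexAlgEquiv F F e M
    rw [hM] at h
    change (Matrix.reindexAlgEquiv F F e ((Matrix.reindexAlgEquiv F F e).symm g.1)).det = _ at h
    rw [AlgEquiv.apply_symm_apply, g.2] at h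
    exact h.symm
  have key : ∀ T : TransvectionStruct (Fin m) F,
      M.toBlocks₁₁ * T.toMatrix = T.toMatrix * M.toBlocks₁₁ ∧
        M.toBlocks₁₂ = T.toMatrix * M.toBlocks₁₂ ∧ M.toBlocks₂₁ * T.toMatrix = M.toBlocks₂₁ := by
    intro T
    have h := congrArg (coord e) (hg (tv T))
    rw [map_mul, map_mul, coord_emb, ← hM, ← fromBlocks_toBlocks M] at h
    simp only [fromBlocks_multiply, fromBlocks_inj, Matrix.mul_zero, Matrix.zero_mul, add_zero,
      zero_add, Matrix.mul_one, Matrix.one_mul, tv] at h
    exact ⟨h.1, h.2.1, h.2.2.1⟩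
  obtain ⟨l, hl⟩ : M.toBlocks₁₁ ∈ Set.range (Matrix.scalar (Fin m)) :=
    mem_range_scalar_of_commute_transvectionStruct fun T => ((key T).1).symm
  haveI : Nontrivial (Fin m) := Fin.nontrivial_iff_two_le.mpr hm
  have h12 : M.toBlocks₁₂ = 0 := by
    ext j k
    obtain ⟨i, hij⟩ := exists_ne j
    have h := congrArg (fun X => X i k) (key ⟨i, j, hij, 1⟩).2.1
    simp [TransvectionStruct.toMatrix, transvection_mul_apply_same] at h
    simpa using h
  have h21 : M.toBlocks₂₁ = 0 := by
    ext k i
    obtain ⟨j, hij⟩ := exists_ne i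
    have h := congrArg (fun X => X k j) (key ⟨i, j, hij.symm, 1⟩).2.2
    simp [TransvectionStruct.toMatrix, mul_transvection_apply_same] at h
    simpa using h
  have h22 : M.toBlocks₂₂ = Matrix.scalar (Fin 1) (M.toBlocks₂₂ 0 0) := by
    ext i j
    rw [Subsingleton.elim i 0, Subsingleton.elim j 0]
    simp
  have hMeq : M = fromBlocks (Matrix.scalar (Fin m) l) 0 0
      (Matrix.scalar (Fin 1) (M.toBlocks₂₂ 0 0)) := by
    conv_lhs => rw [← fromBlocks_toBlocks M, h12, h21, ← hl, h22]
  refine ⟨l, _, hMeq, ?_⟩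
  rw [hMeq, det_fromBlocks_zero₂₁] at hdet
  simpa using hdet

theorem two_ne_zero_of_odd (hF : Odd (Fintype.card F)) : (2 : F) ≠ 0 := by
  intro h
  haveI : CharP F 2 := CharTwo.of_one_ne_zero_of_two_eq_zero one_ne_zero h
  obtain ⟨k, -, hk⟩ := FiniteField.card F 2
  rw [hk] at hF
  exact absurd hF (Nat.not_odd_iff_even.mpr (Nat.even_pow.mpr ⟨even_two, k.pos.ne'⟩))


/-- Let F be a finite field of odd order, n ≥ 7 odd, and t ∈ SL(n, F) the diagonal matrix with entries −1, …, −1, 1. Then E(C(t)) is a standard subgroup of SL(n, F). -/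
theorem result {F : Type*} [Field F] [Fintype F] [DecidableEq F] (hF : Odd (Fintype.card F)) (n : ℕ) (hn : 7 ≤ n) (hodd : Odd n) (t : Matrix.SpecialLinearGroup (Fin n) F) (ht : (t : Matrix (Fin n) (Fin n) F) = Matrix.diagonal (fun i : Fin n => if (i : ℕ) + 1 = n then (1 : F) else -1)) : Cfsg.IsStandardSubgroup ((Cfsg.layer ↥(Subgroup.centralizer ({t} : Set (Matrix.SpecialLinearGroup (Fin n) F)))).map (Subgroup.centralizer ({t} : Set (Matrix.SpecialLinearGroup (Fin n) F))).subtype) := by
  obtain ⟨m, rfl⟩ : ∃ m, n = m + 1 := ⟨n - 1, by omega⟩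
  have h2 := two_ne_zero_of_odd hF
  let e : Fin m ⊕ Fin 1 ≃ Fin (m + 1) := finSumFinEquiv
  have hct : coord e t = fromBlocks (-1) 0 0 1 := by
    show (Matrix.reindexAlgEquiv F F e).symm t.1 = _
    rw [ht]
    ext i j
    rcases i with i | i <;> rcases j with j | j
    · have := i.isLt
      by_cases h : i = j
      · subst h; simp [e, Matrix.diagonal, this.ne]
      · simp [e, Matrix.diagonal, h, Matrix.one_apply, Fin.castAdd_inj]
    · have := i.isLt
      have := j.isLt
      simp [e, Matrix.diagonal, Fin.ext_iff]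
      omega
    · have := j.isLt
      have := i.isLt
      simp [e, Matrix.diagonal, Fin.ext_iff]
      omega
    · rw [Subsingleton.elim i 0, Subsingleton.elim j 0]
      simp [e, Matrix.diagonal]
  have hto : orderOf t = 2 := by
    refine orderOf_eq_prime (coord_injective e ?_) fun h => ?_
    · rw [map_pow, hct, map_one, pow_two, fromBlocks_multiply]
      simp
    · rw [h, map_one] at hct
      have := congrArg (fun X => X (Sum.inl ⟨0, by omega⟩) (Sum.inl ⟨0, by omega⟩)) hct
      simp at this
      exact h2 (by linear_combination this)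
  set C := Subgroup.centralizer ({t} : Set (Matrix.SpecialLinearGroup (Fin (m + 1)) F))
  have hinj : Function.Injective (emb (F := F) e) := fun a b h => by
    have := congrArg (coord e) h
    rw [coord_emb, coord_emb] at this
    exact Subtype.ext (fromBlocks_inj.mp this).1
  have hLC : (emb (F := F) e).range ≤ C := by
    rintro _ ⟨s, rfl⟩
    rw [Subgroup.mem_centralizer_singleton_iff]
    apply coord_injective e
    rw [map_mul, map_mul, coord_emb, hct]
    simp [fromBlocks_multiply]
  have hLn : C ≤ Subgroup.normalizer ((emb (F := F) e).range : Set (Matrix.SpecialLinearGroup (Fin (m + 1)) F)) := by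
    have key : ∀ g ∈ C, ∀ x ∈ (emb (F := F) e).range, g * x * g⁻¹ ∈ (emb (F := F) e).range := by
      rintro g hg _ ⟨s, rfl⟩
      set M := coord e g with hM
      have hc := congrArg (coord e) (Subgroup.mem_centralizer_singleton_iff.mp hg)
      rw [map_mul, map_mul, hct, ← hM, ← fromBlocks_toBlocks M] at hc
      simp only [fromBlocks_multiply, fromBlocks_inj, Matrix.mul_zero, Matrix.zero_mul, add_zero,
        zero_add, Matrix.mul_one, Matrix.one_mul, Matrix.mul_neg, Matrix.neg_mul] at hc
      obtain ⟨-, hb, hcc, -⟩ := hc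
      have h12 : M.toBlocks₁₂ = 0 := by
        ext i j
        have := congrArg (fun X => X i j) hb
        rw [Matrix.neg_apply] at this
        have h' : (2 : F) * M.toBlocks₁₂ i j = 0 := by linear_combination this
        exact (mul_eq_zero.mp h').resolve_left h2
      have h21 : M.toBlocks₂₁ = 0 := by
        ext i j
        have := congrArg (fun X => X i j) hcc
        rw [Matrix.neg_apply] at this
        have h' : (2 : F) * M.toBlocks₂₁ i j = 0 := by linear_combination -this
        exact (mul_eq_zero.mp h').resolve_left h2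
      have hMb : M = fromBlocks M.toBlocks₁₁ 0 0 M.toBlocks₂₂ := by
        conv_lhs => rw [← fromBlocks_toBlocks M, h12, h21]
      set d := M.toBlocks₁₁
      have hdet : IsUnit M.det :=
        (Matrix.isUnit_iff_isUnit_det M).mp (IsUnit.map (coord e) (Group.isUnit g))
      rw [hMb, det_fromBlocks_zero₂₁] at hdet
      have hd : IsUnit d.det := isUnit_of_mul_isUnit_left hdet
      let s' : SpecialLinearGroup (Fin m) F :=
        ⟨d * s.1 * d⁻¹, by rw [det_mul, det_mul, mul_comm d.det, mul_assoc, ← det_mul,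
          mul_nonsing_inv d hd, det_one, mul_one, s.2]⟩
      refine ⟨s', ?_⟩
      rw [eq_mul_inv_iff_mul_eq]
      apply coord_injective e
      rw [map_mul, map_mul, coord_emb, coord_emb, ← hM, show s'.1 = d * s.1 * d⁻¹ from rfl, hMb,
        fromBlocks_multiply, fromBlocks_multiply]
      simp [nonsing_inv_mul d hd, mul_assoc]
    refine fun g hg => Subgroup.mem_normalizer_iff.mpr fun x => ⟨key g hg x, fun h => ?_⟩
    simpa [mul_assoc] using key g⁻¹ (inv_mem hg) _ h
  have hq : Cfsg.IsQuasisimple (emb (F := F) e).range :=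
    Components.isQuasisimple_congr (MonoidHom.ofInjective hinj)
      (Cfsg.Agent.S1340.isQuasisimple_SL m (by omega) (fun h => by omega))
  have hsh : ∀ g : Subgroup.centralizer ((emb (F := F) e).range : Set (Matrix.SpecialLinearGroup (Fin (m + 1)) F)),
      ∃ l μ : F, coord e g.1 = fromBlocks (Matrix.scalar (Fin m) l) 0 0 (Matrix.scalar (Fin 1) μ) ∧
        l ^ m * μ = 1 := fun g => shape_of_commute e (by omega) g.1 fun s =>
    (Subgroup.mem_centralizer_iff.mp g.2 _ ⟨s, rfl⟩).symm
  choose l μ hl hμ using hsh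
  let i₀ : Fin m := ⟨0, by omega⟩
  have hentry : ∀ g, l g = coord e g.1 (Sum.inl i₀) (Sum.inl i₀) := fun g => by
    rw [hl g]; simp
  let f : Subgroup.centralizer ((emb (F := F) e).range : Set (Matrix.SpecialLinearGroup (Fin (m + 1)) F)) →* F :=
    { toFun := l
      map_one' := by rw [hentry]; simp
      map_mul' := fun a b => by
        rw [hentry, Subgroup.coe_mul, map_mul, hl a, hl b, fromBlocks_multiply]
        simp }
  have hfinj : Function.Injective f := fun a b h => by
    have h' : l a = l b := h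
    have hμab : μ a = μ b := by
      have hne : l b ^ m ≠ 0 := left_ne_zero_of_mul_eq_one (hμ b)
      have := hμ a
      rw [h', ← hμ b] at this
      exact mul_left_cancel₀ hne this
    exact Subtype.ext (coord_injective e (by rw [hl a, hl b, h', hμab]))
  obtain ⟨hlayer, hstd⟩ := standard_of t hto _ hLC hLn hq (isCyclic_of_injective_ringHom f hfinj)
  exact hlayer ▸ hstd

end Cfsg.Agent.S1348
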