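import Cfsg.Statements.S1349
import Cfsg.Agent.Signalizer.DihedralLemma
import Mathlib.GroupTheory.SpecificGroups.Dihedral

set_option autoImplicit false
open Cfsg

namespace Cfsg.Agent.S1349

/-- Let G be finite, L ≤ G solvable of odd order, and A an elementary abelian 2-subgroup of order 2^d (d ≥ 1) normalizing L with C_A(L) = 1. Then there are subgroups A_1, …, A_d of A of order 2 generating A and subgroups L_1, …, L_d of L such that each A_i ⊔ L_i is dihedral of order 2 n_i with n_i odd and at least 3, and A_i ⊔ L_i commutes elementwise with A_j ⊔ L_j for i ≠ j. -/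
theorem result {G : Type*} [Group G] [Finite G] (L A : Subgroup G) (hLs : Group.IsSolvable ↥L) (hLodd : Odd (Nat.card ↥L)) (hA : Cfsg.IsElementaryAbelian 2 A) (d : ℕ) (hd : 1 ≤ d) (hAd : Nat.card ↥A = 2 ^ d) (hAL : A ≤ Subgroup.normalizer (L : Set G)) (hfaith : A ⊓ Subgroup.centralizer (L : Set G) = ⊥) : ∃ (Ai : Fin d → Subgroup G) (Li : Fin d → Subgroup G) (n : Fin d → ℕ), (∀ i, Ai i ≤ A ∧ Nat.card ↥(Ai i) = 2 ∧ Li i ≤ L ∧ Odd (n i) ∧ 3 ≤ n i ∧ Nonempty (↥(Ai i ⊔ Li i) ≃* DihedralGroup (n i))) ∧ (⨆ i, Ai i) = A ∧ ∀ i j, i ≠ j → ∀ x ∈ Ai i ⊔ Li i, ∀ y ∈ Ai j ⊔ Li j, x * y = y * x := by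
  obtain ⟨k, a, x, hk, hgen, hax, hcomm⟩ :=
    CfsgLib.Signalizer.exists_dihedral_decomposition hA hLs hLodd hAL hfaith
  obtain rfl : k = d := Nat.pow_right_injective le_rfl (hk.symm.trans hAd)
  refine ⟨fun i => Subgroup.zpowers (a i), fun i => Subgroup.zpowers (x i),
    fun i => orderOf (x i), fun i => ?_, ?_, ?_⟩
  · obtain ⟨haA, ha2, hxL, hx1, hinv⟩ := hax i
    have hodd : Odd (orderOf (x i)) := by
      refine hLodd.of_dvd_nat ?_
      rw [← Subgroup.orderOf_mk (x i) hxL]
      exact orderOf_dvd_natCard _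
    refine ⟨Subgroup.zpowers_le.2 haA, by rw [Nat.card_zpowers, ha2], Subgroup.zpowers_le.2 hxL,
      hodd, ?_, ?_⟩
    · have h1 : orderOf (x i) ≠ 1 := fun h => hx1 (orderOf_eq_one_iff.1 h)
      obtain ⟨r, hr⟩ := hodd
      show 3 ≤ orderOf (x i)
      omega
    · have hainv : (a i)⁻¹ = a i := CfsgLib.Signalizer.inv_eq_of_mem_elab hA haA
      have haa : a i * a i = 1 := CfsgLib.Signalizer.mul_self_of_mem_elab hA haA
      have hy2 : orderOf (a i * x i) = 2 := by
        refine orderOf_eq_prime ?_ ?_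
        · rw [pow_two]
          calc a i * x i * (a i * x i) = a i * x i * (a i)⁻¹ * x i := by rw [hainv]; group
            _ = 1 := by rw [hinv]; group
        · intro h
          have hxa : x i = a i := by
            rw [← hainv]; exact eq_inv_of_mul_eq_one_right h
          rw [hxa, ha2] at hodd
          exact absurd hodd (by decide)
      have hne : a i ≠ a i * x i := fun h => hx1 (mul_left_cancel (h.symm.trans (mul_one _).symm))
      have hcl : Subgroup.closure ({a i, a i * x i} : Set G) =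
          Subgroup.zpowers (a i) ⊔ Subgroup.zpowers (x i) := by
        refine le_antisymm ((Subgroup.closure_le _).2 ?_) (sup_le ?_ ?_)
        · rintro y (rfl | rfl)
          · exact Subgroup.mem_sup_left (Subgroup.mem_zpowers _)
          · exact mul_mem (Subgroup.mem_sup_left (Subgroup.mem_zpowers _))
              (Subgroup.mem_sup_right (Subgroup.mem_zpowers _))
        · exact Subgroup.zpowers_le.2 (Subgroup.subset_closure (by simp))
        · refine Subgroup.zpowers_le.2 ?_
          have h := mul_mem (Subgroup.subset_closure (show a i ∈ ({a i, a i * x i} : Set G) by simp))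
            (Subgroup.subset_closure (show a i * x i ∈ ({a i, a i * x i} : Set G) by simp))
          rwa [← mul_assoc, haa, one_mul] at h
      have e := CfsgLib.Small.closurePairEquivDihedral ha2 hy2 hne
      rw [← mul_assoc, haa, one_mul] at e
      exact ⟨(MulEquiv.subgroupCongr hcl.symm).trans e⟩
  · refine le_antisymm (iSup_le fun i => Subgroup.zpowers_le.2 (hax i).1) ?_
    rw [← hgen, Subgroup.closure_le]
    rintro _ ⟨i, rfl⟩
    exact Subgroup.mem_iSup_of_mem i (Subgroup.mem_zpowers _)
  · intro i j hij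
    obtain ⟨haa, hax', hxx⟩ := hcomm i j hij
    have hxa : Commute (x i) (a j) := ((hcomm j i (Ne.symm hij)).2.1).symm
    have h1 : Subgroup.zpowers (a i) ⊔ Subgroup.zpowers (x i) ≤
        Subgroup.centralizer ((Subgroup.zpowers (a j) ⊔ Subgroup.zpowers (x j) : Subgroup G) : Set G) := by
      rw [Subgroup.le_centralizer_iff]
      refine sup_le ?_ ?_ <;> rw [Subgroup.zpowers_le, Subgroup.sup_eq_closure,
        Subgroup.centralizer_closure, Subgroup.mem_centralizer_iff]
      · rintro y (⟨r, rfl⟩ | ⟨r, rfl⟩)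
        exacts [(haa.zpow_left r).eq, (hxa.zpow_left r).eq]
      · rintro y (⟨r, rfl⟩ | ⟨r, rfl⟩)
        exacts [(hax'.zpow_left r).eq, (hxx.zpow_left r).eq]
    intro u hu v hv
    exact (Subgroup.mem_centralizer_iff.1 (h1 hu) v hv).symm

end Cfsg.Agent.S1349
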