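import Cfsg.Statements.S1386
import Cfsg.Agent.OddOrder.TypePBasic

set_option autoImplicit false
open Cfsg

namespace Cfsg.Agent.S1386

/-- Let G be a finite group, W₁, W₂ subgroups forming a self-normalizing cyclic pair, S a subgroup with W₂ ≤ S and W₁ a complement to S' in S, and (W₁, U, W₂') type-P data for S. Then W₂' = W₂ (that is, C_{S'}(W₁) = W₂). -/
theorem result {G : Type*} [Group G] [Finite G] (W₁ W₂ S U W₂' : Subgroup G) (hW : Cfsg.IsSelfNormalizingCyclic W₁ W₂)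
    (hSW : Cfsg.IsComplIn ⁅S, S⁆ W₁ S) (hW₂S : W₂ ≤ S) (hP : Cfsg.IsTypePWith S W₁ U W₂') :
    W₂' = W₂ := by
  obtain ⟨hW₁, hW₂, hI, hcom, hcyc, hnorm⟩ := hW
  obtain ⟨-, hW₂', hI', hcom', hcyc', -⟩ := hP.selfNormalizing
  haveI := hcyc
  haveI := hcyc'
  obtain ⟨x, hx, hx1⟩ := (Subgroup.ne_bot_iff_exists_ne_one.1 hW₁) |> fun ⟨a, ha⟩ =>
    (⟨a.1, a.2, fun h => ha (Subtype.ext h)⟩ : ∃ x ∈ W₁, x ≠ 1)
  have hle : W₂ ≤ W₁ ⊔ W₂' := by
    intro w hw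
    obtain ⟨a, ha, b, hb, rfl⟩ := hSW.2.2.2 w (hW₂S hw)
    have hbx : b * x = x * b := by
      have := congrArg Subtype.val ((IsCyclic.commGroup (α := ↥(W₁ ⊔ W₂))).mul_comm
        ⟨b, Subgroup.mem_sup_left hb⟩ ⟨x, Subgroup.mem_sup_left hx⟩)
      exact this
    have hax : a * x = x * a := by
      have h := hcom x hx (a * b) hw
      have : (a * x) * b = (x * a) * b := by
        rw [mul_assoc a x b, ← hbx, ← mul_assoc, mul_assoc x a b, h]
      exact mul_right_cancel this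
    have : a ∈ W₂' := by
      rw [← hP.W₂_centralizer x hx hx1]
      exact ⟨ha, Subgroup.mem_centralizer_singleton_iff.2 hax⟩
    exact mul_mem (Subgroup.mem_sup_right this) (Subgroup.mem_sup_left hb)
  have hWle : W₁ ⊔ W₂ ≤ W₁ ⊔ W₂' := sup_le le_sup_left hle
  obtain ⟨y, hy, hy1⟩ := (Subgroup.ne_bot_iff_exists_ne_one.1 hW₂) |> fun ⟨a, ha⟩ =>
    (⟨a.1, a.2, fun h => ha (Subtype.ext h)⟩ : ∃ x ∈ W₂, x ≠ 1)
  have hv1 : x * y ∉ W₁ := by
    intro hv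
    have : y ∈ W₁ ⊓ W₂ := ⟨by simpa using mul_mem (inv_mem hx) hv, hy⟩
    rw [hI, Subgroup.mem_bot] at this
    exact hy1 this
  have hv2 : x * y ∉ W₂ := by
    intro hv
    have : x ∈ W₁ ⊓ W₂ := ⟨hx, by simpa using mul_mem hv (inv_mem hy)⟩
    rw [hI, Subgroup.mem_bot] at this
    exact hx1 this
  have hvW : x * y ∈ W₁ ⊔ W₂ :=
    mul_mem (Subgroup.mem_sup_left hx) (Subgroup.mem_sup_right hy)
  have hN := hnorm {x * y} (Set.singleton_subset_iff.2 ⟨hvW, fun h => h.elim hv1 hv2⟩)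
    (Set.singleton_nonempty _)
  have hge : W₁ ⊔ W₂' ≤ W₁ ⊔ W₂ := by
    rw [← hN, Subgroup.normalizer_singleton]
    intro z hz
    have := congrArg Subtype.val ((IsCyclic.commGroup (α := ↥(W₁ ⊔ W₂'))).mul_comm
      ⟨z, hz⟩ ⟨x * y, hWle hvW⟩)
    exact Subgroup.mem_centralizer_singleton_iff.2 this
  have hWeq : W₁ ⊔ W₂ = W₁ ⊔ W₂' := le_antisymm hWle hge
  have hcard : ∀ B : Subgroup G, (∀ a ∈ W₁, ∀ b ∈ B, a * b = b * a) → W₁ ⊓ B = ⊥ →
      Nat.card W₁ * Nat.card B = Nat.card ↥(W₁ ⊔ B) := by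
    intro B hc hIB
    refine CfsgLib.OddOrder.compl_card ⟨le_sup_left, le_sup_right, hIB, ?_⟩
    intro m hm
    have hn : W₁ ≤ Subgroup.normalizer (B : Set G) :=
      le_trans (fun a ha => Subgroup.mem_centralizer_iff.2 fun b hb => (hc a ha b hb).symm)
        (Subgroup.centralizer_le_normalizer _)
    rw [← SetLike.mem_coe, Subgroup.coe_mul_of_left_le_normalizer_right _ _ hn] at hm
    obtain ⟨a, ha, b, hb, rfl⟩ := Set.mem_mul.1 hm
    exact ⟨a, ha, b, hb, rfl⟩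
  have hc : Nat.card W₂' = Nat.card W₂ := by
    apply Nat.eq_of_mul_eq_mul_left (Nat.card_pos (α := ↥W₁))
    rw [hcard W₂ hcom hI, hcard W₂' hcom' hI', hWeq]
  have hle2 : W₂' ≤ W₁ ⊔ W₂ := le_sup_right.trans hge
  have := CfsgLib.OddOrder.eq_of_card_eq_of_isCyclic (H := W₂'.subgroupOf (W₁ ⊔ W₂))
    (K := W₂.subgroupOf (W₁ ⊔ W₂))
    (by
      rw [Nat.card_congr (Subgroup.subgroupOfEquivOfLe hle2).toEquiv,
        Nat.card_congr (Subgroup.subgroupOfEquivOfLe le_sup_right).toEquiv]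
      exact hc)
  have := congrArg (Subgroup.map (W₁ ⊔ W₂).subtype) this
  rwa [Subgroup.map_subgroupOf_eq_of_le hle2, Subgroup.map_subgroupOf_eq_of_le le_sup_right] at this

end Cfsg.Agent.S1386
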