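import Cfsg.Agent.OddOrder.BG1Stab
import Cfsg.Statements.S1441
-- import your own Cfsg.Agent.* helpers here

set_option autoImplicit false
open Cfsg

namespace Cfsg.Agent.S1441

/-- Let G be a finite group, H a solvable subgroup and A a subgroup normalizing H. Suppose there is a chain H = H₀ ≥ H₁ ≥ ⋯ ≥ H_n = 1 of subgroups normal in H and normalized by A such that A acts trivially on each factor H_{i-1}/H_i (that is, [H_{i-1}, A] ≤ H_i). Then every prime dividing the index of C_A(H) in A divides the order of H. -/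
theorem result {G : Type*} [Group G] [Finite G] (H A : Subgroup G) (hH : Group.IsSolvable H) (hA : (A ≤ Subgroup.normalizer (H : Set G)))
    (n : ℕ) (c : Fin (n + 1) → Subgroup G) (hc0 : c 0 = H) (hcn : c (Fin.last n) = ⊥) (hanti : Antitone c)
    (hcN : ∀ i, H ≤ Subgroup.normalizer ((c i : Subgroup G) : Set G)) (hcA : ∀ i, A ≤ Subgroup.normalizer ((c i : Subgroup G) : Set G))
    (htriv : ∀ i : Fin n, ⁅c i.castSucc, A⁆ ≤ c i.succ) :
    ∀ p : ℕ, p.Prime → p ∣ (A ⊓ Subgroup.centralizer (H : Set G)).relIndex A → p ∣ Nat.card H := by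
  intro p hp hpdvd
  by_contra hpH
  haveI : Fact p.Prime := ⟨hp⟩
  have hle : ∀ i, c i ≤ H := fun i => hc0 ▸ hanti (Fin.zero_le i)
  obtain ⟨Q⟩ : Nonempty (Sylow p A) := inferInstance
  have hQ : (Q : Subgroup A).map A.subtype ≤ A ⊓ Subgroup.centralizer (H : Set G) := by
    rintro x ⟨y, hy, rfl⟩
    refine ⟨y.2, CfsgLib.OddOrder.Stab.mem_centralizer_of_stab_chain n c hle hc0 hcn ?_ ?_⟩
    · intro i z hz
      have h := htriv i (Subgroup.commutator_mem_commutator hz y.2)
      have := (c i.succ).inv_mem h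
      rwa [commutatorElement_inv] at this
    · obtain ⟨k, hk⟩ := IsPGroup.iff_orderOf.mp Q.2 ⟨y, hy⟩
      have hk' : orderOf (A.subtype y) = p ^ k := by
        rw [← hk]; exact orderOf_injective (A.subtype.comp (Q : Subgroup A).subtype)
          (A.subtype_injective.comp (Q : Subgroup A).subtype_injective) ⟨y, hy⟩
      rw [hk']
      exact ((hp.coprime_iff_not_dvd).mpr hpH).pow_left k
  have h1 : (Q : Subgroup A) ≤ (A ⊓ Subgroup.centralizer (H : Set G)).subgroupOf A := fun y hy =>
    hQ ⟨y, hy, rfl⟩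
  exact Q.not_dvd_index (hpdvd.trans (Subgroup.index_dvd_of_le h1))

end Cfsg.Agent.S1441
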