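import Cfsg.Agent.OddOrder.BG4.Aut2
import Cfsg.Statements.S1449
-- import your own Cfsg.Agent.* helpers here

set_option autoImplicit false
open Cfsg

namespace Cfsg.Agent.S1449

/-- Let G be a finite group, p an odd prime, R a p-subgroup with no elementary abelian subgroup of order p ^ 3, and A a solvable subgroup of odd order normalizing R with A ∩ C_G(R) = 1. Then the derived subgroup [A, A] is a p-group. -/
theorem result {G : Type*} [Group G] [Finite G] (p : ℕ) [Fact p.Prime] (hp : p ≠ 2) (R A : Subgroup G) (hR : IsPGroup p R) (hr : Cfsg.PRankLE p 2 R)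
    (hA : (A ≤ Subgroup.normalizer (R : Set G))) (hAs : Group.IsSolvable A) (hAodd : Odd (Nat.card A)) (hfaith : A ⊓ Subgroup.centralizer (R : Set G) = ⊥) :
    IsPGroup p ↥⁅A, A⁆ := by
  haveI := hAs
  let φ : A →* MulAut R := (Subgroup.normalizerMonoidHom R).comp (Subgroup.inclusion hA)
  have hφ : Function.Injective φ := by
    rw [← MonoidHom.ker_eq_bot_iff, eq_bot_iff]
    intro a ha
    have h : Subgroup.inclusion hA a ∈ (Subgroup.normalizerMonoidHom R).ker := ha
    rw [Subgroup.normalizerMonoidHom_ker, Subgroup.mem_subgroupOf] at h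
    have h2 : (a : G) ∈ A ⊓ Subgroup.centralizer (R : Set G) := ⟨a.2, h⟩
    rw [hfaith, Subgroup.mem_bot] at h2
    exact Subgroup.mem_bot.mpr (Subtype.ext h2)
  have h := CfsgLib.OddOrder.BG4.isPGroup_map_commutator hp hR hr hAodd φ
  have hc : IsPGroup p (commutator A) :=
    h.of_equiv ((commutator A).equivMapOfInjective φ hφ).symm
  rw [← Subgroup.map_subtype_commutator]
  exact hc.map _

end Cfsg.Agent.S1449
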