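import Cfsg.Statements.S1459
import Cfsg.Agent.OddOrder.BG6Hall

set_option autoImplicit false
open Cfsg

namespace Cfsg.Agent.S1459

/-- Let G be a finite solvable group. (a) If H is a normal subgroup of order coprime to its index, K is a complement to H, and H ≤ G', then H = [H, K] and H ∩ C_G(K) ≤ [H, H]. (b) If G' is nilpotent and has prime index in G, then the order of G' is coprime to its index and G' = [G, K] (the subgroup generated by commutators of elements of G with elements of K) for every complement K of G'. -/
theorem result {G : Type*} [Group G] [Finite G] [Group.IsSolvable G] :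
    (∀ (H K : Subgroup G), H.Normal → (Nat.card H).Coprime H.index → Subgroup.IsComplement' H K → H ≤ commutator G →
        H = ⁅H, K⁆ ∧ H ⊓ Subgroup.centralizer (K : Set G) ≤ ⁅H, H⁆) ∧
      (Group.IsNilpotent ↥(commutator G) → (commutator G).index.Prime →
        (Nat.card ↥(commutator G)).Coprime (commutator G).index ∧
        ∀ K : Subgroup G, Subgroup.IsComplement' (commutator G) K → commutator G = ⁅(⊤ : Subgroup G), K⁆) := by
  refine ⟨fun H K hn hcop hc hH' => ?_, fun hnil hidx => ?_⟩
  · haveI := hn
    have he := CfsgLib.OddOrder.eq_commutator_complement hc hH'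
    exact ⟨he, CfsgLib.OddOrder.inf_centralizer_le_commutator_of_eq
      Subgroup.le_normalizer_of_normal (by rw [← hc.symm.index_eq_card]; exact hcop) he⟩
  · refine ⟨CfsgLib.OddOrder.derived_coprime_of_nilpotent_prime_index hnil hidx, fun K hc => ?_⟩
    refine le_antisymm ?_ ?_
    · calc commutator G = ⁅commutator G, K⁆ :=
            CfsgLib.OddOrder.eq_commutator_complement hc le_rfl
        _ ≤ ⁅(⊤ : Subgroup G), K⁆ := Subgroup.commutator_mono le_top le_rfl
    · rw [commutator_def]
      exact Subgroup.commutator_mono le_rfl le_top

end Cfsg.Agent.S1459
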