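import Cfsg.Statements.S1461
import Cfsg.Agent.OddOrder.BG6Fusion

set_option autoImplicit false
open Cfsg

namespace Cfsg.Agent.S1461

/-- Let G be a finite solvable group, p a prime with G = O_{p',p,p'}(G), and S a Sylow p-subgroup. Then: if S ≤ G' then S ≤ [N_G(S), N_G(S)]; if Y ⊆ S and xYx⁻¹ ⊆ S then x = g c for some g ∈ N_G(S) and c centralizing Y; and for every p-subgroup Q there is x ∈ C_G(Q ∩ S) with xQx⁻¹ ≤ S. -/
theorem result {G : Type*} [Group G] [Finite G] [Group.IsSolvable G] (p : ℕ) [Fact p.Prime] (hpl : Cfsg.PLengthLE p 1 G) (S : Sylow p G) :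
    ((S : Subgroup G) ≤ commutator G → (S : Subgroup G) ≤ ⁅Subgroup.normalizer ((S : Subgroup G) : Set G), Subgroup.normalizer ((S : Subgroup G) : Set G)⁆) ∧
      (∀ (Y : Set G) (x : G), Y ⊆ (S : Subgroup G) → (fun y => x * y * x⁻¹) '' Y ⊆ (S : Subgroup G) →
        ∃ g ∈ Subgroup.normalizer ((S : Subgroup G) : Set G), ∃ c ∈ Subgroup.centralizer Y, g * c = x) ∧
      ∀ Q : Subgroup G, IsPGroup p Q → ∃ x ∈ Subgroup.centralizer ((Q ⊓ (S : Subgroup G) : Subgroup G) : Set G), Q.map (MulAut.conj x).toMonoidHom ≤ (S : Subgroup G) := by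
  refine ⟨fun hS => ?_, fun Y x hY hxY => ?_, fun Q hQ => ?_⟩
  · obtain ⟨n, hn⟩ := IsPGroup.iff_card.1 S.isPGroup'
    have h1 := CfsgLib.OddOrder.supplement_inf_commutator (H := (S : Subgroup G))
      (CfsgLib.OddOrder.pPrimeCore_sup_normalizer hpl S) Subgroup.le_normalizer
      (by rw [hn]; exact (CfsgLib.PLocal.coprime_card_pPrimeCore p G).symm.pow_left n)
    rw [inf_eq_left.2 hS] at h1
    exact h1.le.trans inf_le_right
  · obtain ⟨g, hg, c, hc, he⟩ := CfsgLib.OddOrder.pLengthOne_fusion hpl S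
      (D := Subgroup.closure Y) ((Subgroup.closure_le _).2 hY) (x := x) (by
        show (Subgroup.closure Y).map (MulAut.conj x).toMonoidHom ≤ _
        rw [MonoidHom.map_closure, Subgroup.closure_le]
        exact hxY)
    exact ⟨g, hg, c, Subgroup.centralizer_le Subgroup.subset_closure hc, he.symm⟩
  · obtain ⟨T, hT⟩ := hQ.exists_le_sylow
    obtain ⟨g, hg⟩ := MulAction.exists_smul_eq G T S
    have hgQ : Q.map (MulAut.conj g).toMonoidHom ≤ (S : Subgroup G) := by
      rw [← hg, Sylow.coe_subgroup_smul]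
      exact Subgroup.map_mono hT
    obtain ⟨u, hu, c, hc, he⟩ := CfsgLib.OddOrder.pLengthOne_fusion hpl S
      (D := Q ⊓ (S : Subgroup G)) inf_le_right (x := g)
      ((Subgroup.map_mono inf_le_left).trans hgQ)
    refine ⟨c, hc, ?_⟩
    rintro _ ⟨q, hq, rfl⟩
    have h1 : g * q * g⁻¹ ∈ (S : Subgroup G) := hgQ ⟨q, hq, rfl⟩
    have h2 := (Subgroup.mem_normalizer_iff''.1 hu _).1 h1
    have h3 : u⁻¹ * (g * q * g⁻¹) * u = c * q * c⁻¹ := by rw [he]; group
    rw [h3] at h2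
    exact h2

end Cfsg.Agent.S1461
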