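import Cfsg.Statements.S1469
import Cfsg.Agent.OddOrder.AppBPuigOdd

set_option autoImplicit false
open Cfsg

namespace Cfsg.Agent.S1469

/-- Let p be an odd prime, G a solvable group of odd order and S a Sylow p-subgroup, and let Z be the centre of the Puig subgroup L(S), viewed inside G. Then G is generated by O_{p'}(G) and N_G(Z); and if O_{p'}(G) = 1 then Z is normal in G. -/
theorem result {G : Type*} [Group G] [Finite G] [Group.IsSolvable G] (hodd : Odd (Nat.card G)) (p : ℕ) [Fact p.Prime] (hp : p ≠ 2) (S : Sylow p G) :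
    Cfsg.pPrimeCore p G ⊔ Subgroup.normalizer ((((Subgroup.center ↥(Cfsg.puigSubgroup ↥(S : Subgroup G))).map (Cfsg.puigSubgroup ↥(S : Subgroup G)).subtype).map (S : Subgroup G).subtype : Subgroup G) : Set G) = ⊤ ∧
      (Cfsg.pPrimeCore p G = ⊥ → (((Subgroup.center ↥(Cfsg.puigSubgroup ↥(S : Subgroup G))).map (Cfsg.puigSubgroup ↥(S : Subgroup G)).subtype).map (S : Subgroup G).subtype).Normal) := by
  rw [← CfsgLib.OddOrder.puigCenterIn_eq]
  refine ⟨?_, fun hO => CfsgLib.OddOrder.puigCenterIn_normal hp hodd hO S⟩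
  set N := Cfsg.pPrimeCore p G with hN
  set π := QuotientGroup.mk' N with hπ
  have hsurj : Function.Surjective π := QuotientGroup.mk'_surjective _
  have hinj : Set.InjOn π (S : Subgroup G) := by
    intro a ha b hb h
    have h1 : a⁻¹ * b ∈ (S : Subgroup G) ⊓ N :=
      Subgroup.mem_inf.2 ⟨mul_mem (inv_mem ha) hb, (QuotientGroup.eq).1 h⟩
    have h2 : (S : Subgroup G) ⊓ N = ⊥ := (CfsgLib.PLocal.disjoint_of_isPGroup_of_coprime S.isPGroup'
        (CfsgLib.PLocal.coprime_card_pPrimeCore p G))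
    rw [h2, Subgroup.mem_bot] at h1
    exact inv_mul_eq_one.1 h1
  set Z := CfsgLib.OddOrder.puigCenterIn (S : Subgroup G) with hZ
  have hmap : Z.map π = CfsgLib.OddOrder.puigCenterIn (S.mapSurjective hsurj : Subgroup (G ⧸ N)) := by
    rw [hZ, CfsgLib.OddOrder.map_puigCenterIn hinj, Sylow.coe_mapSurjective]
  haveI : (Z.map π).Normal := hmap ▸ CfsgLib.OddOrder.puigCenterIn_normal hp
    (hodd.of_dvd_nat (Subgroup.card_quotient_dvd_card _))
    (CfsgLib.PLocal.pPrimeCore_quotient_pPrimeCore_eq_bot p G) (S.mapSurjective hsurj)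
  set M := (Z.map π).comap π with hM
  haveI : M.Normal := Subgroup.Normal.comap inferInstance _
  have hMeq : M = Z ⊔ N := by rw [hM, Subgroup.comap_map_eq, QuotientGroup.ker_mk']
  obtain ⟨Q, hQ⟩ := CfsgLib.UniqueMaximal.exists_sylow_map_eq_inf M S
  have hSM : (S : Subgroup G) ⊓ M = Z := by
    refine le_antisymm (fun x hx => ?_)
      (le_inf (CfsgLib.OddOrder.puigCenterIn_le _) (hMeq ▸ le_sup_left))
    obtain ⟨z, hz, hzx⟩ := Subgroup.mem_comap.1 (hM ▸ hx.2)
    rwa [← hinj (CfsgLib.OddOrder.puigCenterIn_le _ hz) hx.1 hzx]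
  have htop := Sylow.normalizer_sup_eq_top Q
  rw [hQ, hSM] at htop
  rw [eq_top_iff, ← htop, hMeq]
  exact sup_le le_sup_right (sup_le (Subgroup.le_normalizer.trans le_sup_right) le_sup_left)

end Cfsg.Agent.S1469
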