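import Cfsg.Statements.S1470
import Mathlib.FieldTheory.Finite.Trace
import Mathlib.Algebra.Polynomial.Roots

set_option autoImplicit false
open Cfsg

namespace Cfsg.Agent.S1470

open Polynomial in
/-- If all `a + k`, `k` in the prime field, have the same norm then `p ≤ q`. -/
lemma le_of_norm_translate (p q : ℕ) [Fact p.Prime] [Fact q.Prime] (b : GaloisField p q)
    (h : ∀ k : ℕ, Algebra.norm (ZMod p) (b + k) = Algebra.norm (ZMod p) b) : p ≤ q := by
  classical
  have hq0 : q ≠ 0 := (Fact.out : q.Prime).ne_zero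
  have hfr : Module.finrank (ZMod p) (GaloisField p q) = q := GaloisField.finrank p hq0
  have hN : ∀ x : GaloisField p q,
      algebraMap (ZMod p) (GaloisField p q) (Algebra.norm (ZMod p) x)
        = ∏ i ∈ Finset.range q, x ^ (p ^ i) := by
    intro x
    rw [FiniteField.algebraMap_norm_eq_prod_pow, hfr, Nat.card_zmod]
  let P : (GaloisField p q)[X] := ∏ i ∈ Finset.range q, (X + C (b ^ p ^ i))
  have hdeg : P.natDegree = q := by
    rw [natDegree_prod_of_monic _ _ (fun i _ => monic_X_add_C _)]
    simp only [natDegree_X_add_C]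
    simp
  have hPne : P - C (algebraMap (ZMod p) (GaloisField p q) (Algebra.norm (ZMod p) b)) ≠ 0 := by
    intro h0
    rw [sub_eq_zero] at h0
    rw [h0, natDegree_C] at hdeg
    exact hq0 hdeg.symm
  let R : Finset (GaloisField p q) := (Finset.range p).image (fun k : ℕ => (k : GaloisField p q))
  have hR : R.card = p := by
    rw [Finset.card_image_of_injOn, Finset.card_range]
    intro i hi j hj hij
    exact CharP.natCast_injOn_Iio (GaloisField p q) p (by simpa using hi) (by simpa using hj) hij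
  have hroots : R ⊆ (P - C (algebraMap (ZMod p) (GaloisField p q)
      (Algebra.norm (ZMod p) b))).roots.toFinset := by
    intro x hx
    obtain ⟨k, -, rfl⟩ := Finset.mem_image.1 hx
    rw [Multiset.mem_toFinset, mem_roots hPne, IsRoot.def, eval_sub, eval_C, sub_eq_zero,
      ← h k, hN]
    rw [eval_prod]
    refine Finset.prod_congr rfl (fun i _ => ?_)
    have hk : ((k : GaloisField p q)) ^ (p ^ i) = k := by
      rw [← iterateFrobenius_def, map_natCast]
    rw [eval_add, eval_X, eval_C, add_pow_char_pow, hk, add_comm]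
  calc p = R.card := hR.symm
    _ ≤ _ := Finset.card_le_card hroots
    _ ≤ _ := Multiset.toFinset_card_le _
    _ ≤ _ := card_roots' _
    _ = q := by rw [natDegree_sub_C, hdeg]

/-- Let p and q be odd primes with (p^q − 1)/(p − 1) coprime to p − 1, and let E be the set of elements a of the field with p ^ q elements whose norm to the prime field is 1 and for which 2 − a also has norm 1. If a⁻¹ ∈ E for every a ∈ E and E has at least two elements, then p ≤ q. -/
theorem result (p q : ℕ) [Fact p.Prime] [Fact q.Prime] (hp : p ≠ 2) (hq : q ≠ 2) (hA : Nat.Coprime ((p ^ q - 1) / (p - 1)) (p - 1))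
    (hinv : ∀ a ∈ {a : GaloisField p q | Algebra.norm (ZMod p) a = 1 ∧ Algebra.norm (ZMod p) (2 - a) = 1}, a⁻¹ ∈ {a : GaloisField p q | Algebra.norm (ZMod p) a = 1 ∧ Algebra.norm (ZMod p) (2 - a) = 1})
    (h2 : 2 ≤ Set.ncard {a : GaloisField p q | Algebra.norm (ZMod p) a = 1 ∧ Algebra.norm (ZMod p) (2 - a) = 1}) :
    p ≤ q := by
  classical
  obtain ⟨a₀, ha₀, hne⟩ := Set.exists_ne_of_one_lt_ncard
    (s := {a : GaloisField p q | Algebra.norm (ZMod p) a = 1 ∧ Algebra.norm (ZMod p) (2 - a) = 1})
    (by omega) (1 : GaloisField p q)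
  let seq : ℕ → GaloisField p q := fun k => Nat.rec a₀ (fun _ a => (2 - a)⁻¹) k
  have hE : ∀ k, seq k ∈ {a : GaloisField p q | Algebra.norm (ZMod p) a = 1 ∧
      Algebra.norm (ZMod p) (2 - a) = 1} ∧ seq k ≠ 1 := by
    intro k
    induction k with
    | zero => exact ⟨ha₀, hne⟩
    | succ k ih =>
      obtain ⟨⟨h1, h1'⟩, h3⟩ := ih
      refine ⟨hinv _ ⟨h1', ?_⟩, ?_⟩
      · rw [sub_sub_cancel]; exact h1
      · intro hk
        exact h3 (by linear_combination -inv_eq_one.mp hk)
  have hb : ∀ k : ℕ, (1 - seq k)⁻¹ = (1 - a₀)⁻¹ + k := by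
    intro k
    induction k with
    | zero => simp [seq]
    | succ k ih =>
      have h3 : (1 : GaloisField p q) - seq k ≠ 0 := sub_ne_zero.2 (hE k).2.symm
      have h2a : (2 : GaloisField p q) - seq k ≠ 0 := by
        intro h0
        have := (hE k).1.2
        rw [h0, Algebra.norm_zero] at this
        exact zero_ne_one this
      have hs : seq (k + 1) = (2 - seq k)⁻¹ := rfl
      have e1 : (1 : GaloisField p q) - (2 - seq k)⁻¹ = (1 - seq k) / (2 - seq k) := by
        rw [eq_div_iff h2a, sub_mul, inv_mul_cancel₀ h2a]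
        ring
      have e2 : (1 - seq k)⁻¹ + 1 = (2 - seq k) / (1 - seq k) := by
        rw [eq_div_iff h3, add_mul, inv_mul_cancel₀ h3]
        ring
      rw [hs, Nat.cast_succ, ← add_assoc, ← ih, e1, inv_div, e2]
  refine le_of_norm_translate p q (1 - a₀)⁻¹ (fun k => ?_)
  induction k with
  | zero => simp
  | succ k ih =>
    have h3 : (1 : GaloisField p q) - seq (k+1) ≠ 0 := sub_ne_zero.2 (hE (k+1)).2.symm
    have hmul : (1 - a₀)⁻¹ + (k : GaloisField p q)
        = seq (k+1) * ((1 - a₀)⁻¹ + ((k+1 : ℕ) : GaloisField p q)) := by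
      have := hb (k+1)
      rw [← this]
      have h' : (1 - a₀)⁻¹ + (k : GaloisField p q) = (1 - seq (k+1))⁻¹ - 1 := by
        rw [this]; push_cast; ring
      rw [h']
      calc (1 - seq (k+1))⁻¹ - 1
          = (1 - seq (k+1))⁻¹ - (1 - seq (k+1)) * (1 - seq (k+1))⁻¹ := by
            rw [mul_inv_cancel₀ h3]
        _ = seq (k+1) * (1 - seq (k+1))⁻¹ := by ring
    rw [← ih, hmul, map_mul, (hE (k+1)).1.1, one_mul]

end Cfsg.Agent.S1470
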