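import Cfsg.Statements.S1483
import Cfsg.Agent.OddOrder.CN.MinSimple

set_option autoImplicit false
open Cfsg

namespace Cfsg.Agent.S1483

open CfsgLib.OddOrder CfsgLib.OddOrder.CN Subgroup

/-- The prime of a nontrivial element of prime power order divides the order of a subgroup containing it. -/
theorem prime_dvd_card {G : Type*} [Group G] [Finite G] {p : ℕ} [Fact p.Prime] {H : Subgroup G}
    {x : G} (hxp : IsPGroup p (zpowers x)) (hx : x ≠ 1) (hH : x ∈ H) : p ∣ Nat.card H := by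
  obtain ⟨k, hk⟩ := IsPGroup.iff_orderOf.1 hxp ⟨x, mem_zpowers x⟩
  rw [Subgroup.orderOf_mk] at hk
  refine (dvd_pow_self p ?_).trans (hk ▸ Subgroup.orderOf_dvd_natCard H hH)
  rintro rfl
  exact hx (orderOf_eq_one_iff.1 (by rw [hk, pow_zero]))

/-- Let G be a minimal simple group of odd order in which every non-identity element has nilpotent centralizer. Then any two nilpotent subgroups each contained in no larger nilpotent subgroup are either conjugate or of coprime orders; and for primes p, q, r: if some elements x, y ≠ 1 of p-power and q-power order commute, and some elements y', z ≠ 1 of q-power and r-power order commute, then some elements of p-power and r-power order, both ≠ 1, commute. -/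
theorem result {G : Type*} [Group G] [Finite G] (hG : Cfsg.IsMinSimpleOddOrder G) (hCN : Cfsg.IsCNGroup G) :
    (∀ H₁ H₂ : Subgroup G, (Group.IsNilpotent ↥H₁ ∧ ∀ L : Subgroup G, Group.IsNilpotent L → H₁ ≤ L → L = H₁) → (Group.IsNilpotent ↥H₂ ∧ ∀ L : Subgroup G, Group.IsNilpotent L → H₂ ≤ L → L = H₂) → (∃ g : G, H₂ = H₁.map (MulAut.conj g).toMonoidHom) ∨ (Nat.card H₁).Coprime (Nat.card H₂)) ∧
      ∀ (p q r : ℕ), p.Prime → q.Prime → r.Prime → ∀ (x y y' z : G), x ≠ 1 → y ≠ 1 → y' ≠ 1 → z ≠ 1 →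
        IsPGroup p (Subgroup.zpowers x) → IsPGroup q (Subgroup.zpowers y) → IsPGroup q (Subgroup.zpowers y') → IsPGroup r (Subgroup.zpowers z) →
        x * y = y * x → y' * z = z * y' →
        ∃ x' z' : G, x' ≠ 1 ∧ z' ≠ 1 ∧ IsPGroup p (Subgroup.zpowers x') ∧ IsPGroup r (Subgroup.zpowers z') ∧ x' * z' = z' * x' := by
  refine ⟨fun H₁ H₂ h1 h2 => ?_,
    fun p q r hp hq hr x y y' z hx hy hy' hz hxp hyq hy'q hzr hxy hyz => ?_⟩
  · by_cases hco : (Nat.card H₁).Coprime (Nat.card H₂)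
    · exact Or.inr hco
    · obtain ⟨p, hp, hd1, hd2⟩ := Nat.Prime.not_coprime_iff_dvd.1 hco
      haveI := Fact.mk hp
      exact Or.inl (exists_conj_of_dvd hG hCN h1 h2 hd1 hd2)
  obtain ⟨H₁, hle1, hH₁⟩ := exists_maximal_nilpotent (hCN x hx)
  obtain ⟨H₂, hle2, hH₂⟩ := exists_maximal_nilpotent (hCN z hz)
  haveI := Fact.mk hp
  haveI := Fact.mk hq
  haveI := Fact.mk hr
  have hq1 : q ∣ Nat.card H₁ :=
    prime_dvd_card hyq hy (hle1 (mem_centralizer_singleton_iff.2 hxy.symm))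
  have hq2 : q ∣ Nat.card H₂ :=
    prime_dvd_card hy'q hy' (hle2 (mem_centralizer_singleton_iff.2 hyz))
  have hp1 : p ∣ Nat.card H₁ :=
    prime_dvd_card hxp hx (hle1 (mem_centralizer_singleton_iff.2 rfl))
  have hr2 : r ∣ Nat.card H₂ :=
    prime_dvd_card hzr hz (hle2 (mem_centralizer_singleton_iff.2 rfl))
  obtain ⟨g, hg⟩ := exists_conj_of_dvd hG hCN hH₁ hH₂ hq1 hq2
  rw [hg, card_map_conj] at hr2
  by_cases hpr : p = r
  · subst hpr
    exact ⟨x, x, hx, hx, hxp, hxp, rfl⟩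
  obtain ⟨⟨x', hx'⟩, hx'o⟩ := exists_prime_orderOf_dvd_card' p hp1
  obtain ⟨⟨z', hz'⟩, hz'o⟩ := exists_prime_orderOf_dvd_card' r hr2
  rw [Subgroup.orderOf_mk] at hx'o hz'o
  refine ⟨x', z', fun e => ?_, fun e => ?_, isPGroup_zpowers (k := 1) (by rw [hx'o, pow_one]),
    isPGroup_zpowers (k := 1) (by rw [hz'o, pow_one]),
    (CfsgLib.NilpotentCover.commute_of_coprime_mem hH₁.1 hx' hz' ?_).eq⟩
  · rw [e, orderOf_one] at hx'o
    exact hp.ne_one hx'o.symm
  · rw [e, orderOf_one] at hz'o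
    exact hr.ne_one hz'o.symm
  · rw [hx'o, hz'o]
    exact (Nat.coprime_primes hp hr).2 hpr

end Cfsg.Agent.S1483
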