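import Cfsg.Statements.S1484
import Cfsg.Agent.OddOrder.CN.MinSimple

set_option autoImplicit false
open Cfsg

namespace Cfsg.Agent.S1484

open CfsgLib.OddOrder CfsgLib.OddOrder.CN Subgroup

/-- Let G be a minimal simple group of odd order in which every non-identity element has nilpotent centralizer, and M₁, …, M_k maximal subgroups, pairwise non-conjugate, such that every maximal subgroup is conjugate to some M_i. Let H_i be the largest normal nilpotent Hall subgroup of M_i. Then the orders of the H_i are pairwise coprime, their product is the order of G, and every element of G is conjugate to an element of some H_i. -/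
theorem result {G : Type*} [Group G] [Finite G] (hG : Cfsg.IsMinSimpleOddOrder G) (hCN : Cfsg.IsCNGroup G) (k : ℕ) (Mrep : Fin k → Subgroup G) (hmax : ∀ i, IsCoatom (Mrep i))
    (hnc : ∀ i j, i ≠ j → ∀ g : G, Mrep j ≠ (Mrep i).map (MulAut.conj g).toMonoidHom) (hall : ∀ M : Subgroup G, IsCoatom M → ∃ i, ∃ g : G, M = (Mrep i).map (MulAut.conj g).toMonoidHom) :
    (∀ i j, i ≠ j → (Nat.card (Cfsg.fittingHallOf (Mrep i))).Coprime (Nat.card (Cfsg.fittingHallOf (Mrep j)))) ∧
      ∏ i, Nat.card (Cfsg.fittingHallOf (Mrep i)) = Nat.card G ∧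
      ∀ x : G, ∃ i, ∃ g : G, g * x * g⁻¹ ∈ Cfsg.fittingHallOf (Mrep i) := by
  have hK : ∀ i, IsMaxNilpotent (Cfsg.fittingHallOf (Mrep i)) ∧
      normalizer (Cfsg.fittingHallOf (Mrep i) : Set G) = Mrep i := fun i =>
    ⟨(maximal_structure hG hCN (hmax i)).1, (maximal_structure hG hCN (hmax i)).2.1⟩
  have hpair : ∀ i j, i ≠ j → (Nat.card (Cfsg.fittingHallOf (Mrep i))).Coprime
      (Nat.card (Cfsg.fittingHallOf (Mrep j))) := by
    intro i j hij
    by_contra hco
    obtain ⟨p, hp, hd1, hd2⟩ := Nat.Prime.not_coprime_iff_dvd.1 hco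
    haveI := Fact.mk hp
    obtain ⟨g, hg⟩ := exists_conj_of_dvd hG hCN (hK i).1 (hK j).1 hd1 hd2
    refine hnc i j hij g ?_
    conv_rhs => rw [← (hK i).2]
    rw [map_conj_normalizer, ← hg, (hK j).2]
  have hcov : ∀ H : Subgroup G, IsMaxNilpotent H →
      ∃ i, ∃ g : G, H = (Cfsg.fittingHallOf (Mrep i)).map (MulAut.conj g).toMonoidHom := by
    intro H hH
    obtain ⟨i, g, hg⟩ := hall _ (normalizer_isCoatom hG hCN hH).1
    refine ⟨i, g, eq_of_normalizer_eq hG hCN hH (isMaxNilpotent_map_conj (hK i).1 g) ?_⟩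
    rw [hg, ← map_conj_normalizer, (hK i).2]
  refine ⟨hpair, Nat.dvd_antisymm ?_ ?_, fun x => ?_⟩
  · suffices h : ∀ s : Finset (Fin k),
        (∏ i ∈ s, Nat.card (Cfsg.fittingHallOf (Mrep i))) ∣ Nat.card G from h Finset.univ
    intro s
    induction s using Finset.induction_on with
    | empty => simp
    | @insert a s ha ih =>
      rw [Finset.prod_insert ha]
      exact (Nat.Coprime.prod_right fun i hi => hpair a i (fun e => ha (e ▸ hi))).mul_dvd_of_dvd_of_dvd
        (card_subgroup_dvd_card _) ih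
  · rw [Nat.dvd_iff_prime_pow_dvd_dvd]
    intro p n hp hd
    rcases Nat.eq_zero_or_pos n with rfl | hn
    · simp
    haveI := Fact.mk hp
    obtain ⟨x, hx⟩ := exists_prime_orderOf_dvd_card' (G := G) p ((dvd_pow_self p hn.ne').trans hd)
    have hx1 : x ≠ 1 := fun e => by rw [e, orderOf_one] at hx; exact hp.ne_one hx.symm
    obtain ⟨H, hle, hH⟩ := exists_maximal_nilpotent (hCN x hx1)
    obtain ⟨i, g, hg⟩ := hcov H hH
    have hpH : p ∣ Nat.card H :=
      hx ▸ Subgroup.orderOf_dvd_natCard H (hle (mem_centralizer_singleton_iff.2 rfl))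
    have hco := coprime_index_of_maximal_nilpotent hCN hH
    refine (Nat.Coprime.dvd_of_dvd_mul_right ((hco.coprime_dvd_left hpH).pow_left n)
      (by rwa [card_mul_index])).trans ?_
    rw [hg, card_map_conj]
    exact Finset.dvd_prod_of_mem (fun i => Nat.card (Cfsg.fittingHallOf (Mrep i)))
      (Finset.mem_univ i)
  · haveI : Group.IsNilpotent (zpowers x) :=
      letI := IsCyclic.commGroup (α := zpowers x)
      CommGroup.isNilpotent
    obtain ⟨H, hle, hH⟩ := exists_maximal_nilpotent (K := zpowers x) inferInstance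
    obtain ⟨i, g, hg⟩ := hcov H hH
    refine ⟨i, g⁻¹, ?_⟩
    rw [inv_inv]
    exact mem_map_conj_iff.1 (hg ▸ hle (mem_zpowers x))

end Cfsg.Agent.S1484
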