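import Cfsg.Statements.S1487
import Cfsg.Agent.OddOrderChar.KernelFacts
import Cfsg.Agent.OddOrderChar.Induced

set_option autoImplicit false
open Cfsg

namespace Cfsg.Agent.S1487

/-- Let A ≤ H be normal subgroups of the finite group G and θ an irreducible character of H. Then θ takes the value θ 1 on all of A if and only if the function induced from θ to G takes its value at 1 on all of A. -/
theorem result {G : Type*} [Group G] [Fintype G] (A H : Subgroup G) [A.Normal] [H.Normal] (hAH : A ≤ H) (θ : H → ℂ) (hθ : Cfsg.IsIrrCharacter H θ) : (∀ a : H, (a : G) ∈ A → θ a = θ 1) ↔ (∀ a : G, a ∈ A → Cfsg.indFun H θ a = Cfsg.indFun H θ 1) := by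
  classical
  have hcH : (Nat.card H : ℂ) ≠ 0 := Nat.cast_ne_zero.mpr Nat.card_pos.ne'
  have hA : A.Normal := inferInstance
  have hchar := CfsgLib.Characters.isCharacter_of_isIrr hθ
  obtain ⟨d, hd⟩ := CfsgLib.Characters.exists_degree hchar
  have hone : Cfsg.indFun H θ 1 = (Nat.card H : ℂ)⁻¹ * (Fintype.card G * θ 1) := by
    have h := CfsgLib.OddOrderChar.indFun_normal_apply H θ 1
    rw [OneMemClass.coe_one] at h
    rw [h]
    congr 1
    rw [Finset.sum_congr rfl (g := fun _ => θ 1) (fun g _ => (show CfsgLib.OddOrderChar.conjBy H θ g 1 = θ 1 from congrArg θ (Subtype.ext (by simp)))),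
      Finset.sum_const, Finset.card_univ, nsmul_eq_mul]
  constructor
  · intro h a ha
    rw [hone, show Cfsg.indFun H θ a = _ from CfsgLib.OddOrderChar.indFun_normal_apply H θ ⟨a, hAH ha⟩]
    congr 1
    rw [Finset.sum_congr rfl (g := fun _ => θ 1) (fun g _ => show CfsgLib.OddOrderChar.conjBy H θ g ⟨a, hAH ha⟩ = θ 1 from h _ (hA.conj_mem a ha g)),
      Finset.sum_const,
      Finset.card_univ, nsmul_eq_mul]
  · intro h a ha
    have h1 := h (a : G) ha
    rw [CfsgLib.OddOrderChar.indFun_normal_apply H θ a, hone] at h1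
    have h2 := mul_left_cancel₀ (inv_ne_zero hcH) h1
    have h3 := CfsgLib.OddOrderChar.eq_of_sum_re_eq Finset.univ
      (fun g : G => CfsgLib.OddOrderChar.conjBy H θ g a) d
      (fun g _ => by
        have := CfsgLib.OddOrderChar.character_norm_le hchar
          ⟨g * a * g⁻¹, Subgroup.Normal.conj_mem inferInstance _ a.2 g⟩
        rw [hd, Complex.natCast_re] at this
        exact this)
      (by rw [h2, hd]; simp)
    have h4 := h3 1 (Finset.mem_univ _)
    rw [CfsgLib.OddOrderChar.conjBy_one] at h4
    rw [h4, hd, Complex.ofReal_natCast]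

end Cfsg.Agent.S1487
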