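import Cfsg.Statements.S1488
import Cfsg.Agent.OddOrderChar.Induced

set_option autoImplicit false
open Cfsg

namespace Cfsg.Agent.S1488

/-- Let A be a normal subgroup of the finite group G contained in the subgroup H, let θ be a function on H and θ₁ a function on the image of H in G ⧸ A whose composite with the projection is θ. Then the function induced from θ₁ to G ⧸ A, composed with the projection G → G ⧸ A, equals the function induced from θ to G. -/
theorem result {G : Type*} [Group G] [Fintype G] (A H : Subgroup G) [A.Normal] (hAH : A ≤ H) [Fintype (G ⧸ A)] [Fintype ↥(H.map (QuotientGroup.mk' A))] (θ : H → ℂ) (θ₁ : ↥(H.map (QuotientGroup.mk' A)) → ℂ) (hθ : ∀ x : H, θ₁ ⟨QuotientGroup.mk' A x, Subgroup.mem_map_of_mem _ x.2⟩ = θ x) (g : G) : Cfsg.indFun (H.map (QuotientGroup.mk' A)) θ₁ (QuotientGroup.mk' A g) = Cfsg.indFun H θ g := by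
  classical
  have hmem : ∀ y : G, (QuotientGroup.mk' A) y ∈ H.map (QuotientGroup.mk' A) ↔ y ∈ H := by
    intro y
    refine ⟨fun hy => ?_, fun hy => Subgroup.mem_map_of_mem _ hy⟩
    obtain ⟨z, hz, hze⟩ := hy
    have hz' : z⁻¹ * y ∈ A := QuotientGroup.eq.mp hze
    simpa using H.mul_mem hz (hAH hz')
  have hext : ∀ y : G, Cfsg.extendByZero (H.map (QuotientGroup.mk' A)) θ₁ ((QuotientGroup.mk' A) y) = Cfsg.extendByZero H θ y := by
    intro y
    by_cases hy : y ∈ H
    · rw [CfsgLib.OddOrderChar.extendByZero_of_mem _ _ hy,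
        CfsgLib.OddOrderChar.extendByZero_of_mem _ _ (Subgroup.mem_map_of_mem (QuotientGroup.mk' A) hy)]
      exact hθ ⟨y, hy⟩
    · rw [CfsgLib.OddOrderChar.extendByZero_of_notMem _ _ hy,
        CfsgLib.OddOrderChar.extendByZero_of_notMem _ _ (fun h => hy ((hmem y).mp h))]
  have hsum : (∑ x : G, Cfsg.extendByZero H θ (x⁻¹ * g * x)) = (Nat.card A : ℂ) *
      ∑ q : G ⧸ A, Cfsg.extendByZero (H.map (QuotientGroup.mk' A)) θ₁ (q⁻¹ * (QuotientGroup.mk' A) g * q) := by
    rw [← Finset.sum_fiberwise Finset.univ (fun x => (QuotientGroup.mk' A) x), Finset.mul_sum]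
    refine Finset.sum_congr rfl fun q _ => ?_
    obtain ⟨x0, rfl⟩ := QuotientGroup.mk'_surjective A q
    have hfib : (Finset.univ.filter (fun x : G => (QuotientGroup.mk' A) x = (QuotientGroup.mk' A) x0)).card = Nat.card A := by
      rw [← Fintype.card_subtype, ← Nat.card_eq_fintype_card]
      refine (Nat.card_congr
        { toFun := fun a : A => (⟨x0 * a, ?_⟩ : {x : G // (QuotientGroup.mk' A) x = (QuotientGroup.mk' A) x0})
          invFun := fun x => ⟨x0⁻¹ * x.1, QuotientGroup.eq.mp x.2.symm⟩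
          left_inv := fun a => Subtype.ext (by simp)
          right_inv := fun x => Subtype.ext (by simp) }).symm
      exact (QuotientGroup.eq.mpr (by simp)).symm
    rw [Finset.sum_congr rfl (g := fun _ => Cfsg.extendByZero (H.map (QuotientGroup.mk' A)) θ₁ (((QuotientGroup.mk' A) x0)⁻¹ * (QuotientGroup.mk' A) g * (QuotientGroup.mk' A) x0)),
      Finset.sum_const, hfib, nsmul_eq_mul]
    intro x hx
    rw [← hext, map_mul, map_mul, map_inv, (Finset.mem_filter.mp hx).2]
  have hcard : (Nat.card H : ℂ) = (Nat.card A : ℂ) * Nat.card ↥(H.map (QuotientGroup.mk' A)) := by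
    have hk : (A.subgroupOf H).index = Nat.card ↥(H.map (QuotientGroup.mk' A)) := by
      rw [← Subgroup.relIndex, ← Subgroup.relIndex_ker, QuotientGroup.ker_mk']
    rw [← hk]
    exact_mod_cast (by
      rw [← Nat.card_congr (Subgroup.subgroupOfEquivOfLe hAH).toEquiv, Subgroup.card_mul_index] :
        Nat.card H = Nat.card A * (A.subgroupOf H).index)
  have hA0 : (Nat.card A : ℂ) ≠ 0 := Nat.cast_ne_zero.mpr Nat.card_pos.ne'
  unfold Cfsg.indFun
  rw [hsum, hcard]
  field_simp

end Cfsg.Agent.S1488
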