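import Cfsg.Statements.S1494
import Cfsg.Agent.OddOrderChar.KernelFacts
import Mathlib.RingTheory.RootsOfUnity.Complex

set_option autoImplicit false
open Cfsg

namespace Cfsg.Agent.S1494

/-- Let χ be a generalized character of the finite group G, p a prime, x an element of order p and y an element commuting with x. Then χ(x * y) − χ(y) = (1 − ε) * ω for some algebraic integer ω, where ε = exp(2πi/p). -/
theorem result {G : Type*} [Group G] [Finite G] (χ : G → ℂ) (hχ : Cfsg.IsGeneralizedCharacter G χ) (p : ℕ) (hp : p.Prime) (x y : G) (hx : orderOf x = p) (hxy : x * y = y * x) : ∃ ω : ℂ, IsIntegral ℤ ω ∧ χ (x * y) - χ y = (1 - Complex.exp (2 * Real.pi * Complex.I / p)) * ω := by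
  classical
  set ε := Complex.exp (2 * Real.pi * Complex.I / p)
  have hprim : IsPrimitiveRoot ε p := Complex.isPrimitiveRoot_exp p hp.ne_zero
  haveI : NeZero p := ⟨hp.ne_zero⟩
  suffices key : ∀ ψ : G → ℂ, Cfsg.IsCharacter G ψ →
      ∃ ω : ℂ, IsIntegral ℤ ω ∧ ψ (x * y) - ψ y = (1 - ε) * ω by
    obtain ⟨a, b, ha, hb, rfl⟩ := hχ
    obtain ⟨ω₁, h1, e1⟩ := key a ha
    obtain ⟨ω₂, h2, e2⟩ := key b hb
    refine ⟨ω₁ - ω₂, h1.sub h2, ?_⟩
    simp only [Pi.sub_apply]
    linear_combination e1 - e2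
  intro ψ hψ
  let C : Subgroup G := Subgroup.centralizer ({x, y} : Set G)
  have hxC : x ∈ C := by simp [C, Subgroup.mem_centralizer_iff, hxy]
  have hyC : y ∈ C := by simp [C, Subgroup.mem_centralizer_iff, hxy]
  have hcen : ∀ z : ↥C, (z : G) ∈ ({x, y} : Set G) → z ∈ Subgroup.center ↥C := by
    intro z hz
    rw [Subgroup.mem_center_iff]
    intro w
    exact Subtype.ext (Subgroup.mem_centralizer_iff.mp w.2 z hz).symm
  obtain ⟨l, hl⟩ := CfsgLib.Characters.exists_list_irr (CfsgLib.Characters.isCharacter_restrict C hψ)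
  have h1 := congrFun hl (⟨x, hxC⟩ * ⟨y, hyC⟩)
  have h2 := congrFun hl ⟨y, hyC⟩
  simp only [Subgroup.coe_mul] at h1
  simp only at h2
  rw [h1, h2]
  clear hl h1 h2
  induction l with
  | nil => exact ⟨0, isIntegral_zero, by simp⟩
  | cons θ l ih =>
    obtain ⟨ω, hω, hωe⟩ := ih
    obtain ⟨n, ρ, hρ, hθ⟩ := θ.2
    haveI := hρ
    obtain ⟨cx, hcx⟩ := CfsgLib.Characters.central_scalar ρ (hcen ⟨x, hxC⟩ (by simp))
    have hpow : cx ^ p = 1 := by
      have h3 : ρ (⟨x, hxC⟩ ^ p) = 1 := by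
        have : (⟨x, hxC⟩ : ↥C) ^ p = 1 := Subtype.ext (by simp [← hx, pow_orderOf_eq_one])
        rw [this, map_one]
      rw [map_pow, hcx, smul_pow, ← Module.End.one_eq_id, one_pow] at h3
      haveI := CfsgLib.Characters.nontrivial_of_isIrreducible ρ
      obtain ⟨v, hv⟩ := exists_ne (0 : Fin n → ℂ)
      have h4 := LinearMap.congr_fun h3 v
      simp only [LinearMap.smul_apply, Module.End.one_apply] at h4
      exact smul_left_injective ℂ hv (h4.trans (one_smul ℂ v).symm)
    obtain ⟨j, -, hj⟩ := hprim.eq_pow_of_pow_eq_one hpow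
    refine ⟨ω - (∑ i ∈ Finset.range j, ε ^ i) * ρ.character ⟨y, hyC⟩, hω.sub ((IsIntegral.sum _
      fun i _ => (IsIntegral.of_pow hp.pos (hprim.pow_eq_one.symm ▸ isIntegral_one)).pow i).mul (CfsgLib.Characters.char_isIntegral ρ _)), ?_⟩
    simp only [List.map_cons, List.sum_cons, Pi.add_apply]
    have hmul : ρ.character (⟨x, hxC⟩ * ⟨y, hyC⟩) = cx * ρ.character ⟨y, hyC⟩ := by
      rw [Representation.character, map_mul, hcx, ← Module.End.one_eq_id, smul_mul_assoc, one_mul,
        map_smul, smul_eq_mul]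
      rfl
    rw [← hθ, hmul, ← hj, mul_sub, ← mul_assoc, mul_neg_geom_sum]
    linear_combination hωe

end Cfsg.Agent.S1494
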