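import Cfsg.Statements.S1495
import Mathlib.RingTheory.Polynomial.Cyclotomic.Eval
import Mathlib.RingTheory.RootsOfUnity.Complex
import Mathlib.RingTheory.IntegralClosure.IntegrallyClosed


set_option autoImplicit false
open Cfsg

namespace Cfsg.Agent.S1495

/-- Let p be a prime, ε = exp(2πi/p), and n an integer such that n = (1 − ε) * ω for some algebraic integer ω. Then p divides n. -/
theorem result (p : ℕ) (hp : p.Prime) (n : ℤ) (ω : ℂ) (hω : IsIntegral ℤ ω) (h : (n : ℂ) = (1 - Complex.exp (2 * Real.pi * Complex.I / p)) * ω) : (p : ℤ) ∣ n := by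
  classical
  haveI := Fact.mk hp
  set ε := Complex.exp (2 * Real.pi * Complex.I / p) with hε
  have hprim : IsPrimitiveRoot ε p := Complex.isPrimitiveRoot_exp p hp.ne_zero
  have hεint : IsIntegral ℤ ε := hprim.isIntegral hp.pos
  have hmu : ∀ μ ∈ primitiveRoots p ℂ, ∃ t : ℂ, IsIntegral ℤ t ∧ 1 - ε = (1 - μ) * t := by
    intro μ hμ
    rw [mem_primitiveRoots hp.pos] at hμ
    obtain ⟨j, _, hj⟩ := hμ.eq_pow_of_pow_eq_one hprim.pow_eq_one
    exact ⟨∑ i ∈ Finset.range j, μ ^ i, IsIntegral.sum _ fun i _ => (hμ.isIntegral hp.pos).pow i,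
      by rw [mul_neg_geom_sum, hj]⟩
  choose! t ht1 ht2 using hmu
  have hprod : ∏ μ ∈ primitiveRoots p ℂ, (1 - μ) = (p : ℂ) := by
    have h1 := congrArg (Polynomial.eval (1 : ℂ)) (Polynomial.cyclotomic_eq_prod_X_sub_primitiveRoots hprim)
    rw [Polynomial.eval_one_cyclotomic_prime, Polynomial.eval_prod] at h1
    simpa using h1.symm
  set m := (primitiveRoots p ℂ).card with hm
  have hpow : (1 - ε) ^ m = (p : ℂ) * ∏ μ ∈ primitiveRoots p ℂ, t μ := by
    rw [← hprod, ← Finset.prod_mul_distrib, hm, ← Finset.prod_const]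
    exact Finset.prod_congr rfl fun μ hμ => ht2 μ hμ
  set T := (∏ μ ∈ primitiveRoots p ℂ, t μ) * ω ^ m with hTdef
  have hTint : IsIntegral ℤ T := (IsIntegral.prod _ ht1).mul (hω.pow m)
  have hn : ((n ^ m : ℤ) : ℂ) = (p : ℂ) * T := by
    rw [Int.cast_pow, h, mul_pow, hpow, hTdef, mul_assoc]
  have hp0 : (p : ℂ) ≠ 0 := Nat.cast_ne_zero.mpr hp.ne_zero
  have hTq : T = algebraMap ℚ ℂ (((n ^ m : ℤ) : ℚ) / (p : ℚ)) := by
    rw [map_div₀, map_intCast, map_natCast, hn, mul_div_cancel_left₀ _ hp0]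
  rw [hTq] at hTint
  rw [isIntegral_algebraMap_iff (algebraMap ℚ ℂ).injective] at hTint
  obtain ⟨z, hz⟩ := IsIntegrallyClosed.isIntegral_iff.mp hTint
  have hzn : (n ^ m : ℤ) = p * z := by
    have h2 : ((n ^ m : ℤ) : ℚ) = ((p * z : ℤ) : ℚ) := by
      have hp0' : (p : ℚ) ≠ 0 := Nat.cast_ne_zero.mpr hp.ne_zero
      have h3 : (z : ℚ) = ((n ^ m : ℤ) : ℚ) / (p : ℚ) := by simpa using hz
      push_cast at h3 ⊢
      rw [h3, mul_div_cancel₀ _ hp0']
    exact_mod_cast h2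
  exact Int.Prime.dvd_pow' hp ⟨z, hzn⟩

end Cfsg.Agent.S1495
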