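import Cfsg.Statements.S1497
import Cfsg.Agent.OddOrderChar.Dade

set_option autoImplicit false
open Cfsg

namespace Cfsg.Agent.S1497

/-- Let A be a nonempty subset of the finite group G not containing 1 and L a subgroup. Then A is a TI-subset whose normaliser is L if and only if the Dade hypothesis holds for A, L and the constant choice H(a) = ⊥. -/
theorem result {G : Type*} [Group G] [Finite G] (A : Set G) (hA : A.Nonempty) (h1 : (1 : G) ∉ A) (L : Subgroup G) : (Cfsg.IsTISubset A ∧ Subgroup.normalizer A = L) ↔ Cfsg.DadeHypothesis A L (fun _ => ⊥) := by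
  classical
  constructor
  · rintro ⟨hTI, rfl⟩
    have hN : ∀ g : G, ∀ a ∈ A, g * a * g⁻¹ ∈ A → g ∈ Subgroup.normalizer A := by
      intro g a ha hga
      by_contra hg
      exact h1 (hTI g hg a ha hga ▸ ha)
    have hc : ∀ a ∈ A, Subgroup.centralizer ({a} : Set G) ≤ Subgroup.normalizer A := by
      intro a ha c hc
      refine hN c a ha ?_
      rw [CfsgLib.OddOrderChar.mem_centralizer_singleton'] at hc
      rw [← hc]; simpa using ha
    refine ⟨h1, fun a ha => hc a ha (CfsgLib.OddOrderChar.mem_centralizer_singleton'.mpr rfl), ?_, ?_,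
      fun a _ => bot_le, ?_, fun a _ => bot_inf_eq _, fun a ha => ?_, ?_⟩
    · intro x hx a ha; exact (Subgroup.mem_set_normalizer_iff.mp hx a).mp ha
    · exact fun a ha g hg => ⟨g, hN g a ha hg, rfl⟩
    · intro a _ c _ u hu
      rw [Subgroup.mem_bot] at hu ⊢
      subst hu; group
    · rw [bot_sup_eq, inf_eq_right]; exact hc a ha
    · intro a _ b _; simp
  · intro hD
    have hle : L ≤ Subgroup.normalizer A := by
      intro x hx
      refine Subgroup.mem_set_normalizer_iff.mpr fun n => ⟨fun hn => hD.conj_mem x hx n hn, fun hn => ?_⟩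
      have := hD.conj_mem x⁻¹ (L.inv_mem hx) _ hn
      simpa [mul_assoc] using this
    have hkey : ∀ g : G, ∀ a ∈ A, g * a * g⁻¹ ∈ A → g ∈ L := by
      intro g a ha hga
      obtain ⟨x, hx, he⟩ := hD.fusion a ha g hga
      have hc : x⁻¹ * g ∈ Subgroup.centralizer ({a} : Set G) := by
        rw [CfsgLib.OddOrderChar.mem_centralizer_singleton']
        calc a * (x⁻¹ * g) = x⁻¹ * (x * a * x⁻¹) * g := by group
          _ = x⁻¹ * (g * a * g⁻¹) * g := by rw [he]
          _ = x⁻¹ * g * a := by group
      have := hD.sup_eq a ha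
      rw [bot_sup_eq] at this
      rw [← this] at hc
      simpa using L.mul_mem hx hc.1
    refine ⟨fun g hg a ha hga => absurd (hle (hkey g a ha hga)) hg, le_antisymm (fun g hg => ?_) hle⟩
    obtain ⟨a, ha⟩ := hA
    exact hkey g a ha ((Subgroup.mem_set_normalizer_iff.mp hg a).mp ha)

end Cfsg.Agent.S1497
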