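import Cfsg.Statements.S1504
import Cfsg.Agent.OddOrderChar.CyclicTISpan

set_option autoImplicit false
open Cfsg

namespace Cfsg.Agent.S1504

/-- Let W₁, W₂ be subgroups of a finite group with W₁ ⊓ W₂ = ⊥ whose elements commute, and W = W₁ ⊔ W₂. For linear characters φ, ψ of W with φ trivial on W₂ and ψ trivial on W₁, the function (1 − φ)(1 − ψ) vanishes on W₁ ∪ W₂; and the family of these functions, indexed by pairs (φ, ψ) with φ ≠ 1 ≠ ψ, is linearly independent over ℂ. -/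
theorem result {G : Type*} [Group G] [Finite G] (W₁ W₂ : Subgroup G) (hdisj : W₁ ⊓ W₂ = ⊥) (hcomm : ∀ a ∈ W₁, ∀ b ∈ W₂, a * b = b * a) : (∀ φ ψ : ↥(W₁ ⊔ W₂) →* ℂˣ, (∀ w : ↥(W₁ ⊔ W₂), (w : G) ∈ W₂ → φ w = 1) → (∀ w : ↥(W₁ ⊔ W₂), (w : G) ∈ W₁ → ψ w = 1) → ∀ w : ↥(W₁ ⊔ W₂), ((w : G) ∈ W₁ ∨ (w : G) ∈ W₂) → (1 - (φ w : ℂ) - (ψ w : ℂ) + (φ w : ℂ) * (ψ w : ℂ)) = 0) ∧ LinearIndependent ℂ (fun p : {p : (↥(W₁ ⊔ W₂) →* ℂˣ) × (↥(W₁ ⊔ W₂) →* ℂˣ) // p.1 ≠ 1 ∧ p.2 ≠ 1 ∧ (∀ w : ↥(W₁ ⊔ W₂), (w : G) ∈ W₂ → p.1 w = 1) ∧ (∀ w : ↥(W₁ ⊔ W₂), (w : G) ∈ W₁ → p.2 w = 1)} => fun w : ↥(W₁ ⊔ W₂) => 1 - (p.1.1 w : ℂ) - (p.1.2 w : ℂ) + (p.1.1 w : ℂ) * (p.1.2 w : ℂ)) := by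
  classical
  refine ⟨fun φ ψ hφ hψ w hw => ?_, ?_⟩
  · rcases hw with hw | hw
    · simp [hψ w hw]
    · simp [hφ w hw]
  rw [linearIndependent_iff']
  intro s g hg p hp
  have huniq : ∀ φ φ' ψ ψ' : ↥(W₁ ⊔ W₂) →* ℂˣ,
      (∀ w : ↥(W₁ ⊔ W₂), (w : G) ∈ W₂ → φ w = 1) → (∀ w : ↥(W₁ ⊔ W₂), (w : G) ∈ W₂ → φ' w = 1) →
      (∀ w : ↥(W₁ ⊔ W₂), (w : G) ∈ W₁ → ψ w = 1) → (∀ w : ↥(W₁ ⊔ W₂), (w : G) ∈ W₁ → ψ' w = 1) →
      φ * ψ = φ' * ψ' → φ = φ' ∧ ψ = ψ' := by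
    intro φ φ' ψ ψ' h1 h2 h3 h4 h
    have e1 : φ * φ'⁻¹ = 1 := CfsgLib.OddOrderChar.hom_eq_one_of_trivial W₁ W₂ hcomm _
      (fun w hw => by
        have := DFunLike.congr_fun h w
        rw [MonoidHom.mul_apply, MonoidHom.mul_apply, h3 w hw, h4 w hw, mul_one, mul_one] at this
        simp [this])
      (fun w hw => by simp [h1 w hw, h2 w hw])
    have e2 : φ = φ' := mul_inv_eq_one.mp e1
    exact ⟨e2, mul_left_cancel (e2 ▸ h : φ' * ψ = φ' * ψ')⟩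
  let m : (↥(W₁ ⊔ W₂) →* ℂˣ) →₀ ℂ := ∑ q ∈ s, g q •
    (Finsupp.single 1 1 - Finsupp.single q.1.1 1 - Finsupp.single q.1.2 1 + Finsupp.single (q.1.1 * q.1.2) 1)
  have hm : m = 0 := by
    refine linearIndependent_iff.mp (CfsgLib.OddOrderChar.linearIndependent_unitsHom ↥(W₁ ⊔ W₂)) m ?_
    rw [← hg]
    simp only [m, map_sum, map_smul, map_sub, map_add, Finsupp.linearCombination_single, one_smul]
    refine Finset.sum_congr rfl fun q _ => ?_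
    funext w
    simp
  obtain ⟨hp1, hp2, hp3, hp4⟩ := p.2
  have h := DFunLike.congr_fun hm (p.1.1 * p.1.2)
  simp only [m, Finsupp.coe_finset_sum, Finset.sum_apply, Finsupp.smul_apply, Finsupp.add_apply,
    Finsupp.sub_apply, Finsupp.coe_zero, Pi.zero_apply, smul_eq_mul] at h
  have one_triv1 : ∀ w : ↥(W₁ ⊔ W₂), (w : G) ∈ W₁ → (1 : ↥(W₁ ⊔ W₂) →* ℂˣ) w = 1 := fun w _ => rfl
  have one_triv2 : ∀ w : ↥(W₁ ⊔ W₂), (w : G) ∈ W₂ → (1 : ↥(W₁ ⊔ W₂) →* ℂˣ) w = 1 := fun w _ => rfl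
  rw [Finset.sum_eq_single p] at h
  · rw [Finsupp.single_eq_of_ne, Finsupp.single_eq_of_ne, Finsupp.single_eq_of_ne, Finsupp.single_eq_same] at h
    · simpa using h
    · intro e
      exact hp1 (huniq _ 1 _ p.1.2 hp3 one_triv2 hp4 hp4 (e.trans (MonoidHom.ext fun w => (one_mul _).symm))).1
    · intro e
      exact hp2 (huniq _ p.1.1 _ 1 hp3 hp3 hp4 one_triv1 (e.trans (MonoidHom.ext fun w => (mul_one _).symm))).2
    · intro e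
      exact hp1 (huniq _ 1 _ 1 hp3 one_triv2 hp4 one_triv1 (e.trans (MonoidHom.ext fun w => (one_mul _).symm))).1
  · intro q _ hq
    obtain ⟨hq1, hq2, hq3, hq4⟩ := q.2
    rw [Finsupp.single_eq_of_ne, Finsupp.single_eq_of_ne, Finsupp.single_eq_of_ne, Finsupp.single_eq_of_ne]
    · ring
    · intro e
      exact hq (Subtype.ext (Prod.ext (huniq _ _ _ _ hq3 hp3 hq4 hp4 e.symm).1
        (huniq _ _ _ _ hq3 hp3 hq4 hp4 e.symm).2))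
    · intro e
      exact hp1 (huniq _ 1 _ q.1.2 hp3 one_triv2 hp4 hq4 (e.trans (MonoidHom.ext fun w => (one_mul _).symm))).1
    · intro e
      exact hp2 (huniq _ q.1.1 _ 1 hp3 hq3 hp4 one_triv1 (e.trans (MonoidHom.ext fun w => (mul_one _).symm))).2
    · intro e
      exact hp1 (huniq _ 1 _ 1 hp3 one_triv2 hp4 one_triv1 (e.trans (MonoidHom.ext fun w => (one_mul _).symm))).1
  · intro hps; exact absurd hp hps

end Cfsg.Agent.S1504
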