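import Cfsg.Statements.S1507
import Cfsg.Agent.OddOrderChar.AdditiveTable

set_option autoImplicit false
open Cfsg

namespace Cfsg.Agent.S1507

open Classical in
/-- Let W₁, W₂ ≤ G form a self-normalising cyclic subgroup W = W₁ ⊔ W₂ of odd order with Nat.card W₁ < Nat.card W₂, and χ an orthonormal family of irreducible characters of G up to sign, indexed by the linear characters ω of W, with χ_1 = 1, χ_ω = ω on W outside W₁ ∪ W₂, and the induction identity for (1 − φ)(1 − ψ). Let θ be a class function of G vanishing on W outside W₁ ∪ W₂, and suppose fewer than 2 · Nat.card W₁ linear characters ω of W have ⟨θ, χ ω⟩ ≠ 0. Then one of: all ⟨θ, χ ω⟩ vanish; or there are ψ₀ and a with ⟨θ, χ ω⟩ = a when ω ψ₀⁻¹ is trivial on W₂ and 0 otherwise; or there are φ₀ and a with ⟨θ, χ ω⟩ = a when ω φ₀⁻¹ is trivial on W₁ and 0 otherwise. -/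
theorem result {G : Type*} [Group G] [Fintype G] (W₁ W₂ : Subgroup G) (hW : Cfsg.IsSelfNormalizingCyclic W₁ W₂) (hodd : Odd (Nat.card ↥(W₁ ⊔ W₂))) (χ : (↥(W₁ ⊔ W₂) →* ℂˣ) → (G → ℂ)) (hχ : Cfsg.IsCyclicTIFamily W₁ W₂ χ) (hlt : Nat.card W₁ < Nat.card W₂) (θ : G → ℂ) (hθ : Cfsg.IsClassFunction G θ) (hθV : ∀ w : ↥(W₁ ⊔ W₂), (w : G) ∉ W₁ → (w : G) ∉ W₂ → θ w = 0) (hfew : Nat.card {ω : ↥(W₁ ⊔ W₂) →* ℂˣ // Cfsg.classInner θ (χ ω) ≠ 0} < 2 * Nat.card W₁) : (∀ ω, Cfsg.classInner θ (χ ω) = 0) ∨ (∃ (ψ₀ : ↥(W₁ ⊔ W₂) →* ℂˣ) (a : ℂ), ∀ ω, Cfsg.classInner θ (χ ω) = if (∀ w : ↥(W₁ ⊔ W₂), (w : G) ∈ W₂ → (ω * ψ₀⁻¹) w = 1) then a else 0) ∨ (∃ (φ₀ : ↥(W₁ ⊔ W₂) →* ℂˣ) (a : ℂ), ∀ ω, Cfsg.classInner θ (χ ω) = if (∀ w : ↥(W₁ ⊔ W₂), (w : G) ∈ W₁ → (ω * φ₀⁻¹) w = 1) then a else 0) := by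
  classical
  letI : Fintype ↥(W₁ ⊔ W₂) := Fintype.ofFinite _
  have hP := CfsgLib.OddOrderChar.factorPair_of_snc hW
  haveI := hP.finite_hom
  letI : Fintype (↥(W₁ ⊔ W₂) →* ℂˣ) := Fintype.ofFinite _
  letI : Fintype (CfsgLib.OddOrderChar.leftHat W₁ W₂) := Fintype.ofFinite _
  letI : Fintype (CfsgLib.OddOrderChar.rightHat W₁ W₂) := Fintype.ofFinite _
  let A := CfsgLib.OddOrderChar.leftHat W₁ W₂
  let B := CfsgLib.OddOrderChar.rightHat W₁ W₂
  let e := hP.hatEquiv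
  let F : A → ℂ := fun φ => Cfsg.classInner θ (χ φ.1) - Cfsg.classInner θ (χ 1)
  let G' : B → ℂ := fun ψ => Cfsg.classInner θ (χ ψ.1)
  have hFG : ∀ (φ : A) (ψ : B), F φ + G' ψ = Cfsg.classInner θ (χ (φ.1 * ψ.1)) := by
    intro φ ψ
    have h := CfsgLib.OddOrderChar.tiFamily_relation hW hχ hθ hθV φ ψ
    simp only [F, G']
    linear_combination -h
  have hAc : Fintype.card A = Nat.card W₁ := by rw [Fintype.card_eq_nat_card]; exact hP.card_leftHat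
  have hBc : Fintype.card B = Nat.card W₂ := by rw [Fintype.card_eq_nat_card]; exact hP.card_rightHat
  have hodd1 : Odd (Nat.card W₁) := hodd.of_dvd_nat (Subgroup.card_dvd_of_le le_sup_left)
  have hodd2 : Odd (Nat.card W₂) := hodd.of_dvd_nat (Subgroup.card_dvd_of_le le_sup_right)
  have h2 : Nat.card W₁ ≠ 1 := fun h => hW.1 (Subgroup.card_eq_one.mp h)
  obtain ⟨a, ha⟩ := id hodd1
  obtain ⟨b, hb⟩ := id hodd2
  have hcount : ((Finset.univ : Finset (A × B)).filter fun p => F p.1 + G' p.2 ≠ 0).card <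
      2 * Fintype.card A := by
    rw [hAc]
    refine lt_of_le_of_lt (le_of_eq ?_) hfew
    rw [← Fintype.card_subtype, ← Nat.card_eq_fintype_card]
    refine Nat.card_congr (e.subtypeEquiv fun p => ?_)
    show F p.1 + G' p.2 ≠ 0 ↔ Cfsg.classInner θ (χ (p.1.1 * p.2.1)) ≠ 0
    rw [hFG]
  have hrep : ∀ ω, Cfsg.classInner θ (χ ω) = F (e.symm ω).1 + G' (e.symm ω).2 := by
    intro ω
    rw [hFG, ← hP.hatEquiv_apply]
    exact congrArg (fun v => Cfsg.classInner θ (χ v)) (e.apply_symm_apply ω).symm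
  rcases CfsgLib.OddOrderChar.additive_table_few F G' (by omega) (by omega) hcount with
    h | ⟨j₀, c, h⟩ | ⟨i₀, c, h⟩
  · exact Or.inl fun ω => by rw [hrep, h]
  · refine Or.inr (Or.inl ⟨j₀.1, c, fun ω => ?_⟩)
    rw [hrep, h]
    refine @if_congr _ _ _ (_) (_) _ _ _ _ ⟨fun hj w hw => ?_, fun hj => ?_⟩ rfl rfl
    · obtain ⟨⟨p, q⟩, rfl⟩ := e.surjective ω
      rw [Equiv.symm_apply_apply] at hj
      subst hj
      show ((p.1 * q.1) * q.1⁻¹) w = 1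
      simp [p.2 w hw]
    · obtain ⟨⟨p, q⟩, rfl⟩ := e.surjective ω
      rw [Equiv.symm_apply_apply]
      refine Subtype.ext ?_
      have hq : q.1 * j₀.1⁻¹ = 1 := CfsgLib.OddOrderChar.hom_eq_one_of_trivial W₁ W₂ hW.2.2.2.1 _
        (fun w hw => by simp [q.2 w hw, j₀.2 w hw])
        (fun w hw => by
          have := hj w hw
          rw [show e (p, q) = p.1 * q.1 from rfl] at this
          simpa [p.2 w hw] using this)
      exact mul_inv_eq_one.mp hq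
  · refine Or.inr (Or.inr ⟨i₀.1, c, fun ω => ?_⟩)
    rw [hrep, h]
    refine @if_congr _ _ _ (_) (_) _ _ _ _ ⟨fun hj w hw => ?_, fun hj => ?_⟩ rfl rfl
    · obtain ⟨⟨p, q⟩, rfl⟩ := e.surjective ω
      rw [Equiv.symm_apply_apply] at hj
      subst hj
      show ((p.1 * q.1) * p.1⁻¹) w = 1
      simp [q.2 w hw]
    · obtain ⟨⟨p, q⟩, rfl⟩ := e.surjective ω
      rw [Equiv.symm_apply_apply]
      refine Subtype.ext ?_
      have hq : p.1 * i₀.1⁻¹ = 1 := CfsgLib.OddOrderChar.hom_eq_one_of_trivial W₁ W₂ hW.2.2.2.1 _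
        (fun w hw => by
          have := hj w hw
          rw [show e (p, q) = p.1 * q.1 from rfl] at this
          simpa [q.2 w hw] using this)
        (fun w hw => by simp [p.2 w hw, i₀.2 w hw])
      exact mul_inv_eq_one.mp hq

end Cfsg.Agent.S1507
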