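import Cfsg.Statements.S1509
import Cfsg.Agent.Characters.Orthogonality

set_option autoImplicit false
open Cfsg

namespace Cfsg.Agent.S1509

/-- Let α, β, γ, δ be functions on a finite group X each of which is an irreducible character or the negative of one, and u, v nonzero real numbers. Suppose ⟨α, β⟩ = ⟨γ, δ⟩ = 0, ⟨α − β, uγ − vδ⟩ = 0, α 1 = β 1 and u γ 1 = v δ 1. Then also ⟨α, γ⟩ = ⟨α, δ⟩ = ⟨β, γ⟩ = ⟨β, δ⟩ = 0. -/
theorem result {X : Type*} [Group X] [Fintype X] (α β γ δ : X → ℂ) (hα : Cfsg.IsIrrCharacter X α ∨ Cfsg.IsIrrCharacter X (-α)) (hβ : Cfsg.IsIrrCharacter X β ∨ Cfsg.IsIrrCharacter X (-β)) (hγ : Cfsg.IsIrrCharacter X γ ∨ Cfsg.IsIrrCharacter X (-γ)) (hδ : Cfsg.IsIrrCharacter X δ ∨ Cfsg.IsIrrCharacter X (-δ)) (u v : ℝ) (hu : u ≠ 0) (hv : v ≠ 0) (hab : Cfsg.classInner α β = 0) (hcd : Cfsg.classInner γ δ = 0) (hmix : Cfsg.classInner (α - β) ((u : ℂ) • γ - (v : ℂ) • δ) = 0) (h1 : α 1 = β 1) (h2 : (u : ℂ) * γ 1 = (v : ℂ) * δ 1) : Cfsg.classInner α γ = 0 ∧ Cfsg.classInner α δ = 0 ∧ Cfsg.classInner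 β γ = 0 ∧ Cfsg.classInner β δ = 0 := by
  classical
  let P : (X → ℂ) → Prop := fun a => Cfsg.IsIrrCharacter X a ∨ Cfsg.IsIrrCharacter X (-a)
  have hnorm : ∀ a, P a → Cfsg.classInner a a = 1 := by
    rintro a (h | h)
    · exact CfsgLib.Characters.classInner_isIrr_self h
    · have := CfsgLib.Characters.classInner_isIrr_self h
      rw [← neg_one_smul ℂ a, CfsgLib.Characters.classInner_smul_left,
        CfsgLib.Characters.classInner_smul_right] at this
      simpa using this
  have hpair : ∀ a c, P a → P c → Cfsg.classInner a c ≠ 0 → ∃ e : ℂ, (e = 1 ∨ e = -1) ∧ a = e • c := by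
    intro a c ha hc h
    rcases ha with ha | ha <;> rcases hc with hc | hc
    · exact ⟨1, Or.inl rfl, by
        by_contra hne
        exact h (CfsgLib.Characters.classInner_isIrr_ne ha hc (by simpa using hne))⟩
    · refine ⟨-1, Or.inr rfl, ?_⟩
      by_contra hne
      have := CfsgLib.Characters.classInner_isIrr_ne ha hc (by simpa using hne)
      rw [← neg_one_smul ℂ c, CfsgLib.Characters.classInner_smul_right] at this
      exact h (by simpa using this)
    · refine ⟨-1, Or.inr rfl, ?_⟩
      by_contra hne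
      have := CfsgLib.Characters.classInner_isIrr_ne ha hc (fun e => hne (by rw [← e]; simp))
      rw [← neg_one_smul ℂ a, CfsgLib.Characters.classInner_smul_left] at this
      exact h (by simpa using this)
    · refine ⟨1, Or.inl rfl, ?_⟩
      by_contra hne
      have := CfsgLib.Characters.classInner_isIrr_ne ha hc (fun e => hne (by simpa using e))
      rw [← neg_one_smul ℂ c, ← neg_one_smul ℂ a, CfsgLib.Characters.classInner_smul_left,
        CfsgLib.Characters.classInner_smul_right] at this
      exact h (by simpa using this)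
  have hdeg : ∀ a, P a → a 1 ≠ 0 := by
    rintro a (h | h)
    · exact CfsgLib.Characters.irr_one_ne_zero h
    · have := CfsgLib.Characters.irr_one_ne_zero h
      simpa using this
  have key : ∀ (a b c d : X → ℂ) (r s : ℝ), P a → P b → P c → P d → r ≠ 0 → s ≠ 0 →
      Cfsg.classInner a b = 0 → Cfsg.classInner c d = 0 →
      Cfsg.classInner a ((r : ℂ) • c) - Cfsg.classInner a ((s : ℂ) • d) - Cfsg.classInner b ((r : ℂ) • c)
        + Cfsg.classInner b ((s : ℂ) • d) = 0 →
      a 1 = b 1 → (r : ℂ) * c 1 = (s : ℂ) * d 1 → Cfsg.classInner a c = 0 := by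
    intro a b c d r s ha hb hc hd hr hs hab hcd hmix h1 h2
    by_contra hne
    obtain ⟨e, he, rfl⟩ := hpair a c ha hc hne
    have hconj : (starRingEnd ℂ) e = e := by rcases he with rfl | rfl <;> simp
    have he0 : e ≠ 0 := by rcases he with rfl | rfl <;> norm_num
    have hcb : Cfsg.classInner c b = 0 := by
      rw [CfsgLib.Characters.classInner_smul_left] at hab
      exact (mul_eq_zero.mp hab).resolve_left he0
    have hbc : Cfsg.classInner b c = 0 := by
      rw [CfsgLib.Characters.classInner_conj_symm, hcb, map_zero]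
    simp only [CfsgLib.Characters.classInner_smul_right, CfsgLib.Characters.classInner_smul_left,
      hcd, hbc, hnorm c hc] at hmix
    have hbd : Cfsg.classInner b d ≠ 0 := by
      intro h
      rw [h] at hmix
      simp [he0, hr] at hmix
    obtain ⟨f, hf, rfl⟩ := hpair b d hb hd hbd
    have hf0 : f ≠ 0 := by rcases hf with rfl | rfl <;> norm_num
    simp only [CfsgLib.Characters.classInner_smul_left, hnorm d hd, mul_zero, mul_one, sub_zero] at hmix
    simp only [Pi.smul_apply, smul_eq_mul] at h1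
    have hd1 := hdeg d hd
    rw [Complex.conj_ofReal, Complex.conj_ofReal] at hmix
    have h3 : 2 * (r : ℂ) * c 1 = 0 := by
      rcases he with rfl | rfl <;> rcases hf with rfl | rfl
      · linear_combination h2 + d 1 * hmix + (r : ℂ) * h1
      · linear_combination h2 - d 1 * hmix + (r : ℂ) * h1
      · linear_combination h2 + d 1 * hmix - (r : ℂ) * h1
      · linear_combination h2 - d 1 * hmix - (r : ℂ) * h1
    simp [hr, he0, hdeg c hc] at h3
  have hu' : (u : ℂ) ≠ 0 := Complex.ofReal_ne_zero.mpr hu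
  have hv' : (v : ℂ) ≠ 0 := Complex.ofReal_ne_zero.mpr hv
  rw [CfsgLib.Characters.classInner_sub_left, CfsgLib.Characters.classInner_sub_right,
    CfsgLib.Characters.classInner_sub_right] at hmix
  have hba : Cfsg.classInner β α = 0 := by
    rw [CfsgLib.Characters.classInner_conj_symm, hab, map_zero]
  have hdc : Cfsg.classInner δ γ = 0 := by
    rw [CfsgLib.Characters.classInner_conj_symm, hcd, map_zero]
  refine ⟨key α β γ δ u v hα hβ hγ hδ hu hv hab hcd (by linear_combination hmix) h1 h2,
    key α β δ γ v u hα hβ hδ hγ hv hu hab hdc (by linear_combination -hmix) h1 h2.symm,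
    key β α γ δ u v hβ hα hγ hδ hu hv hba hcd (by linear_combination -hmix) h1.symm h2,
    key β α δ γ v u hβ hα hδ hγ hv hu hba hdc (by linear_combination hmix) h1.symm h2.symm⟩

end Cfsg.Agent.S1509
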