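import Cfsg.Statements.S1512
import Cfsg.Agent.OddOrderChar.CoprimeCoset

set_option autoImplicit false
open Cfsg

namespace Cfsg.Agent.S1512

/-- Let K be a normal subgroup of the finite group L and x a non-identity element whose order is coprime to the order of K, such that K ⊓ C_L(y) = W₂ for every non-identity element y of the cyclic group generated by x. Then the number of conjugacy classes of K mapped to themselves by conjugation by x is at most Nat.card W₂. -/
theorem result {L : Type*} [Group L] [Finite L] (K W₂ : Subgroup L) [hK : K.Normal] (x : L) (hx1 : x ≠ 1) (hx : Nat.Coprime (orderOf x) (Nat.card K)) (hC : ∀ y ∈ Subgroup.zpowers x, y ≠ 1 → K ⊓ Subgroup.centralizer ({y} : Set L) = W₂) : Nat.card {C : ConjClasses K // ConjClasses.map (MulEquiv.toMonoidHom ((MulAut.conjNormal x : MulAut K))) C = C} ≤ Nat.card W₂ := by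
  classical
  set W := K ⊓ Subgroup.centralizer ({x} : Set L) with hWdef
  have hW : W = W₂ := hC x (Subgroup.mem_zpowers x) hx1
  rw [← hW]
  obtain ⟨k, hk⟩ := CfsgLib.OddOrderChar.exists_pow_extract hx
  let f : ↥W → ConjClasses ↥K := fun c => ConjClasses.mk ⟨c, c.2.1⟩
  have hmem : ∀ C : ConjClasses ↥K,
      ConjClasses.map (MulEquiv.toMonoidHom ((MulAut.conjNormal x : MulAut K))) C = C →
        C ∈ Set.range f := by
    intro C
    induction C using Quotient.inductionOn with
    | h a =>
      intro hfix
      have hfix' : IsConj ((MulAut.conjNormal x : MulAut K) a) a :=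
        ConjClasses.mk_eq_mk_iff_isConj.mp hfix
      obtain ⟨y, hy⟩ := isConj_iff.mp hfix'
      have hy' : (y : L) * (x * a * x⁻¹) * (y : L)⁻¹ = a := by
        have := congrArg Subtype.val hy
        simpa using this
      have hcomm : (y : L) * x * a = a * ((y : L) * x) := by
        calc (y : L) * x * a = (y : L) * (x * a * x⁻¹) * (y : L)⁻¹ * ((y : L) * x) := by group
          _ = a * ((y : L) * x) := by rw [hy']
      obtain ⟨z, hz, c, hc, hcx, hze⟩ := CfsgLib.OddOrderChar.exists_conj_coset_fixed K x
        (Subgroup.mem_normalizer_iff.mpr fun n => ⟨fun hn => hK.conj_mem n hn x,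
          fun hn => by simpa [mul_assoc] using hK.conj_mem _ hn x⁻¹⟩) hx y y.2
      have hcomm' : (c * x) * (z * a * z⁻¹) = (z * a * z⁻¹) * (c * x) := by
        rw [← hze]
        calc z * ((y : L) * x) * z⁻¹ * (z * a * z⁻¹) = z * ((y : L) * x * a) * z⁻¹ := by group
          _ = z * (a * ((y : L) * x)) * z⁻¹ := by rw [hcomm]
          _ = z * a * z⁻¹ * (z * ((y : L) * x) * z⁻¹) := by group
      have hck : (c * x) ^ k = x := by
        rw [hcx]
        refine hk L x c hcx.symm (pow_orderOf_eq_one x) ?_
        have := pow_card_eq_one' (G := K) (x := ⟨c, hc⟩)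
        exact congrArg Subtype.val this
      have hxz : x * (z * a * z⁻¹) = (z * a * z⁻¹) * x := by
        have : Commute ((c * x) ^ k) (z * a * z⁻¹) := Commute.pow_left hcomm' k
        rwa [hck] at this
      refine ⟨⟨z * a * z⁻¹, hK.conj_mem _ a.2 z, by simpa [Subgroup.mem_centralizer_iff] using hxz⟩, ?_⟩
      refine ConjClasses.mk_eq_mk_iff_isConj.mpr (isConj_iff.mpr ⟨⟨z, hz⟩⁻¹, Subtype.ext ?_⟩)
      simp [mul_assoc]
  calc Nat.card _ ≤ Nat.card (Set.range f) :=
        Nat.card_mono (Set.toFinite _) fun C hC' => hmem C hC'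
    _ ≤ Nat.card ↥W := Finite.card_range_le f

end Cfsg.Agent.S1512
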