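import Cfsg.Statements.S1516
import Cfsg.Agent.Coherence.System

set_option autoImplicit false
open Cfsg

namespace Cfsg.Agent.S1516

open CfsgLib.Coherence CfsgLib.Characters

/-- Let (S, τ, R) be a coherence system from L to G with degrees φ 1 = d φ and squared norms ⟨φ, φ⟩ = n φ for φ ∈ S. Let S₁ ⊆ S be a finite subset closed under complex conjugation such that (S₁, L minus 1, τ) is coherent, let χ ∈ S with χ ∉ S₁ and conj χ ∉ S₁, and let χ₁ ∈ S₁ with d χ₁ dividing d χ and 2 d χ d χ₁ < Σ_{φ ∈ S₁} (d φ)² / n φ. Then S₁ together with χ and conj χ is coherent. -/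
theorem result {L : Type*} [Group L] [Fintype L] {G : Type*} [Group G] [Fintype G] (S : Set (L → ℂ)) (τ : (L → ℂ) → (G → ℂ)) (R : (L → ℂ) → Finset (G → ℂ)) (hS : Cfsg.IsCoherenceSystem S τ R) (d n : (L → ℂ) → ℕ) (hd : ∀ φ ∈ S, φ 1 = (d φ : ℂ)) (hn : ∀ φ ∈ S, Cfsg.classInner φ φ = (n φ : ℂ)) (S₁ : Finset (L → ℂ)) (hS₁ : ↑S₁ ⊆ S) (hS₁c : ∀ φ ∈ S₁, Cfsg.conjFun φ ∈ S₁) (hcoh : Cfsg.IsCoherent (↑S₁ : Set (L → ℂ)) {1}ᶜ τ) (χ : L → ℂ) (hχ : χ ∈ S) (hχ₁ : χ ∉ S₁) (hχ₂ : Cfsg.conjFun χ ∉ S₁) (χ₁ : L → ℂ) (hχ₁S : χ₁ ∈ S₁) (hdvd : d χ₁ ∣ d χ) (hineq : (2 * d χ * d χ₁ : ℝ) < ∑ φ ∈ S₁, ((d φ : ℝ) ^ 2 / (n φ : ℝ))) : Cfsg.IsCoherent (↑S₁ ∪ {χ, Cfsg.conjFun χ} : Set (L → ℂ)) {1}ᶜ τ := by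
  classical
  obtain ⟨F, T, rfl, hF, hT⟩ := exists_sys hS
  obtain ⟨⟨α, hα, hα0⟩, τ₁, h₁, h₂⟩ := hcoh
  rw [Finset.coe_subset] at hS₁
  have hf := isExt_of_isCoherent (hF.deg.subset hS₁)
    (fun a ha => hT a (zspanOn_mono (Finset.coe_subset.2 hS₁) _ ha)) h₁ h₂
  obtain ⟨k, hk⟩ := hdvd
  obtain ⟨g, hg⟩ := hF.extend_pair hS₁ hS₁c hf hχ hχ₁ hχ₂ hχ₁S
    ⟨k, by rw [hd χ hχ, hd χ₁ (hS₁ hχ₁S), hk]; push_cast; ring⟩ (by
    rw [hd χ hχ, hd χ₁ (hS₁ hχ₁S), Complex.natCast_re, Complex.natCast_re]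
    refine hineq.trans_le (le_of_eq (Finset.sum_congr rfl fun φ hφ => ?_))
    rw [hd φ (hS₁ hφ), sqNorm, hn φ (hS₁ hφ), Complex.natCast_re, Complex.natCast_re])
  have hsub : S₁ ∪ {χ, conjFun χ} ⊆ F := by
    intro x hx
    simp only [Finset.mem_union, Finset.mem_insert, Finset.mem_singleton] at hx
    rcases hx with hx | rfl | rfl
    · exact hS₁ hx
    · exact hχ
    · exact hF.conj_mem χ hχ
  have hset : (↑(S₁ ∪ {χ, conjFun χ}) : Set (L → ℂ)) = ↑S₁ ∪ {χ, conjFun χ} := by simp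
  rw [← hset]
  exact hg.isCoherent (hF.deg.subset hsub)
    (fun a ha => hT a (zspanOn_mono (Finset.coe_subset.2 hsub) _ ha))
    ((hF.deg.subset hsub).exists_ne_zero (Finset.mem_union_right _ (Finset.mem_insert_self _ _))
      (Finset.mem_union_right _ (Finset.mem_insert_of_mem (Finset.mem_singleton_self _)))
      (hF.conj_ne χ hχ).symm)

end Cfsg.Agent.S1516
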