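import Cfsg.Statements.S1522
import Cfsg.Agent.Coherence.IrrAbove

set_option autoImplicit false
open Cfsg

namespace Cfsg.Agent.S1522

open CfsgLib.Coherence CfsgLib.Characters

/-- Let K be a nilpotent normal subgroup of the finite group L of odd order with [K,K] < K < L and L/[K,K] a Frobenius group with kernel K/[K,K] (elements of K outside [K,K] are centralised modulo [K,K] only from inside K); let (S, τ, R) be a coherence system from L to G with S the functions induced from non-principal irreducible characters of K. Let Z be a nontrivial normal subgroup of L contained in the centre of K, and suppose every member of S outside S(Z) is an irreducible character of L. Then S minus S(Z) is the set of irreducible characters χ of L with χ z ≠ χ 1 for some z ∈ Z, and it is coherent. -/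
theorem result {L : Type*} [Group L] [Fintype L] {G : Type*} [Group G] [Fintype G] (K : Subgroup L) [hK : K.Normal] (hsolv : Group.IsSolvable K) (τ : (L → ℂ) → (G → ℂ)) (R : (L → ℂ) → Finset (G → ℂ)) (hS : Cfsg.IsCoherenceSystem (Cfsg.inducedIrrAbove K ⊥) τ R) (hodd : Odd (Nat.card L)) (hnil : Group.IsNilpotent K) (hH₁K : ⁅K, K⁆ < K) (hKL : K < ⊤) (hfrob : ∀ k ∈ K, k ∉ ⁅K, K⁆ → ∀ x : L, x * k * x⁻¹ * k⁻¹ ∈ ⁅K, K⁆ → x ∈ K) (Z : Subgroup L) [Z.Normal] (hZ1 : Z ≠ ⊥) (hZK : Z ≤ K) (hZc : ∀ z ∈ Z, ∀ k ∈ K, z * k = k * z) (hirr : ∀ χ ∈ Cfsg.inducedIrrAbove K ⊥ \ Cfsg.inducedIrrAbove K Z, Cfsg.IsIrrCharacter L χ) : Cfsg.inducedIrrAbove K ⊥ \ Cfsg.inducedIrrAbove K Z = {χ | Cfsg.IsIrrCharacter L χ ∧ ∃ z ∈ Z, χ z ≠ χ 1} ∧ Cfsg.IsCoherent (Cfsg.inducedIrrAbove K ⊥ \ Cfsg.inducedIrrAbove K Z) {1}ᶜ τ := by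
  classical
  obtain ⟨F, T, hF, hSys, hT⟩ := exists_sys hS
  refine ⟨diff_eq_nontrivial Z hZK hirr, ?_⟩
  obtain ⟨g, hg⟩ := irr_nontrivial_coherence hsolv hSys hF hodd hnil hH₁K hKL hfrob Z hZK hZc hirr
  have hcoe : (↑(F \ above K F Z) : Set (L → ℂ)) =
      Cfsg.inducedIrrAbove K ⊥ \ Cfsg.inducedIrrAbove K Z := by
    rw [Finset.coe_sdiff, coe_above hF, hF]
  obtain ⟨χ, hχ⟩ : (F \ above K F Z).Nonempty := by
    by_contra h
    rw [Finset.not_nonempty_iff_eq_empty, Finset.sdiff_eq_empty_iff_subset] at h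
    have h1 := sum_re_above hF Z
    have h2 := sum_re_above hF (⊥ : Subgroup L)
    have e1 : above K F Z = above K F ⊥ := by
      ext φ
      rw [mem_above hF, mem_above hF, ← hF, Finset.mem_coe, ← mem_above hF]
      exact ⟨fun hx => above_subset Z hx, fun hx => h hx⟩
    rw [e1, h2, mul_right_inj' (Nat.cast_ne_zero.2 K.index_ne_zero_of_finite), sub_left_inj,
      Nat.cast_inj, ← Subgroup.relIndex_mul_relIndex ⊥ Z K bot_le hZK] at h1
    have h3 : 0 < Z.relIndex K := Nat.pos_of_ne_zero Subgroup.index_ne_zero_of_finite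
    have h4 : (⊥ : Subgroup L).relIndex Z = 1 :=
      Nat.eq_of_mul_eq_mul_right h3 (h1.trans (one_mul _).symm)
    exact hZ1 (le_bot_iff.1 (Subgroup.relIndex_eq_one.1 h4))
  rw [← hcoe]
  exact hg.isCoherent (hSys.deg.subset Finset.sdiff_subset)
    (fun a ha => hT a (zspanOn_mono (Finset.coe_subset.2 Finset.sdiff_subset) _ ha))
    ((hSys.deg.subset Finset.sdiff_subset).exists_ne_zero hχ
      (Finset.mem_sdiff.2 ⟨hSys.conj_mem χ (Finset.mem_sdiff.1 hχ).1,
        fun h => (Finset.mem_sdiff.1 hχ).2 (by simpa using above_conj hF _ h)⟩)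
      (hSys.conj_ne χ (Finset.mem_sdiff.1 hχ).1).symm)

end Cfsg.Agent.S1522
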