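import Cfsg.Statements.S1524
import Cfsg.Agent.Coherence.Sibley

set_option autoImplicit false
open Cfsg

namespace Cfsg.Agent.S1524

/-- Let G be a finite group and H ≤ L subgroups with L of odd order, H ≠ ⊥ nilpotent and normal in L with a nontrivial complement W₁ in L (H ⊓ W₁ = ⊥, H ⊔ W₁ = L) acting on H without non-identity fixed points (L is a Frobenius group with kernel H), and suppose the underlying set of H is a TI-subset of G whose normaliser is L. Let S be the set of functions on L induced from the non-principal irreducible characters of H. Then (S, L minus 1, induction to G) is coherent. -/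
theorem result {G : Type*} [Group G] [Fintype G] (H L W₁ : Subgroup G) [Fintype L] (hodd : Odd (Nat.card L)) (hHL : H ≤ L) (hW₁L : W₁ ≤ L) (hH1 : H ≠ ⊥) (hW1 : W₁ ≠ ⊥) (hnil : Group.IsNilpotent H) (hHn : ∀ x ∈ L, ∀ h ∈ H, x * h * x⁻¹ ∈ H) (hinf : H ⊓ W₁ = ⊥) (hsup : H ⊔ W₁ = L) (hfpf : ∀ w ∈ W₁, w ≠ 1 → ∀ h ∈ H, w * h = h * w → h = 1) (hTI : Cfsg.IsTISubset (H : Set G)) (hN : Subgroup.normalizer (H : Set G) = L) : Cfsg.IsCoherent (Cfsg.inducedIrrAbove (H.subgroupOf L) ⊥) {1}ᶜ (fun α : L → ℂ => Cfsg.indFun L α) := by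
  classical
  set K := H.subgroupOf L with hKdef
  have hKn : K.Normal := ⟨fun k hk x => Subgroup.mem_subgroupOf.2
    (hHn x x.2 k (Subgroup.mem_subgroupOf.1 hk))⟩
  have hK1 : K ≠ ⊥ := by
    rw [hKdef, ne_eq, Subgroup.subgroupOf_eq_bot, disjoint_iff, inf_eq_left.2 hHL]
    exact hH1
  have hKL : K < ⊤ := by
    refine lt_top_iff_ne_top.2 fun h => hW1 ?_
    rw [← hinf, inf_eq_right.2 (hW₁L.trans (Subgroup.subgroupOf_eq_top.1 h))]
  have hnilK : Group.IsNilpotent K :=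
    Group.nilpotent_of_mulEquiv (Subgroup.subgroupOfEquivOfLe hHL).symm
  refine CfsgLib.Coherence.sibley hTI hN hodd hnilK hK1 hKL ?_
  rintro ⟨k, hkL⟩ hk hk1 ⟨x, hxL⟩ hx
  rw [Subgroup.mem_centralizer_singleton_iff] at hx
  have hc : x * k = k * x := congrArg Subtype.val hx
  rw [Subgroup.mem_subgroupOf] at hk ⊢
  change k ∈ H at hk
  have hle : W₁ ≤ Subgroup.normalizer (H : Set G) := hN ▸ hW₁L
  have hmem : x ∈ ((H ⊔ W₁ : Subgroup G) : Set G) := by rw [hsup]; exact hxL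
  rw [Subgroup.coe_mul_of_right_le_normalizer_left H W₁ hle, Set.mem_mul] at hmem
  obtain ⟨h, hh, w, hw, rfl⟩ := hmem
  show h * w ∈ H
  by_cases hw1 : w = 1
  · rw [hw1, mul_one]; exact hh
  exfalso
  let f : H → H := fun a => ⟨(a : G)⁻¹ * (w * a * w⁻¹),
    mul_mem (inv_mem a.2) (hHn w (hW₁L hw) a a.2)⟩
  have hf : Function.Surjective f := Finite.injective_iff_surjective.1 fun a b e => by
    have he : (a : G)⁻¹ * (w * a * w⁻¹) = (b : G)⁻¹ * (w * b * w⁻¹) := congrArg Subtype.val e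
    have h1 := hfpf w hw hw1 ((b : G) * (a : G)⁻¹) (mul_mem b.2 (inv_mem a.2)) ?_
    · exact Subtype.ext (mul_inv_eq_one.1 h1).symm
    · calc w * ((b : G) * (a : G)⁻¹) = b * ((b : G)⁻¹ * (w * b * w⁻¹)) * w * (a : G)⁻¹ := by group
        _ = b * ((a : G)⁻¹ * (w * a * w⁻¹)) * w * (a : G)⁻¹ := by rw [he]
        _ = b * (a : G)⁻¹ * w := by group
  obtain ⟨a, ha⟩ := hf ⟨h, hh⟩
  have hha : (a : G)⁻¹ * (w * a * w⁻¹) = h := congrArg Subtype.val ha
  have h2 := hfpf w hw hw1 ((a : G) * k * (a : G)⁻¹)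
    (mul_mem (mul_mem a.2 hk) (inv_mem a.2)) ?_
  · apply hk1
    apply Subtype.ext
    calc k = (a : G)⁻¹ * ((a : G) * k * (a : G)⁻¹) * a := by group
      _ = 1 := by rw [h2]; group
  · calc w * ((a : G) * k * (a : G)⁻¹) = a * ((a : G)⁻¹ * (w * a * w⁻¹) * w * k) * (a : G)⁻¹ := by group
      _ = a * (h * w * k) * (a : G)⁻¹ := by rw [hha]
      _ = a * (k * (h * w)) * (a : G)⁻¹ := by rw [hc]
      _ = a * (k * ((a : G)⁻¹ * (w * a * w⁻¹) * w)) * (a : G)⁻¹ := by rw [hha]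
      _ = a * k * (a : G)⁻¹ * w := by group

end Cfsg.Agent.S1524
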