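import Cfsg.Statements.S1527
-- import your own Cfsg.Agent.* helpers here

set_option autoImplicit false
open Cfsg

namespace Cfsg.Agent.S1527

/-- Let G be a finite group and H i (i in a finite index type) subgroups of pairwise coprime orders, each of whose underlying sets is a TI-subset of G, such that every non-identity element of G is conjugate to an element of some H i. Then Nat.card G − 1 = Σ_i [G : N_G(H i)] · (Nat.card (H i) − 1). -/
theorem result {G : Type*} [Group G] [Finite G] {ι : Type*} [Fintype ι] (H : ι → Subgroup G) (hcop : ∀ i j, i ≠ j → Nat.Coprime (Nat.card (H i)) (Nat.card (H j))) (hTI : ∀ i, Cfsg.IsTISubset (H i : Set G)) (hcover : ∀ g : G, g ≠ 1 → ∃ i, ∃ x : G, x * g * x⁻¹ ∈ H i) : Nat.card G - 1 = ∑ i, (Subgroup.normalizer (H i : Set G)).index * (Nat.card (H i) - 1) := by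
  classical
  have : Fintype G := Fintype.ofFinite G
  set N : ι → Subgroup G := fun i => Subgroup.normalizer (H i : Set G) with hN
  let T := Σ i, (G ⧸ N i) × {h : H i // h ≠ 1}
  let f : T → {g : G // g ≠ 1} := fun t =>
    ⟨Quotient.out t.2.1 * ((t.2.2.1 : H t.1) : G) * (Quotient.out t.2.1)⁻¹, by
      intro h
      have h2 : ((t.2.2.1 : H t.1) : G) = 1 := by
        have h3 := congrArg (fun z => (Quotient.out t.2.1)⁻¹ * z * Quotient.out t.2.1) h
        simpa [mul_assoc] using h3
      exact t.2.2.2 (Subtype.ext h2)⟩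
  have hinj : Function.Injective f := by
    rintro ⟨i, c, h⟩ ⟨j, d, k⟩ he
    have he' : Quotient.out c * ((h.1 : H i) : G) * (Quotient.out c)⁻¹
        = Quotient.out d * ((k.1 : H j) : G) * (Quotient.out d)⁻¹ := congrArg Subtype.val he
    have hk : ((k.1 : H j) : G) = (Quotient.out d)⁻¹ * Quotient.out c * ((h.1 : H i) : G) *
        ((Quotient.out d)⁻¹ * Quotient.out c)⁻¹ := by
      have h3 := congrArg (fun z => (Quotient.out d)⁻¹ * z * Quotient.out d) he'
      simp only [mul_assoc, inv_mul_cancel_left, mul_inv_rev, inv_inv] at h3 ⊢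
      simp only [inv_mul_cancel, mul_one] at h3
      exact h3.symm
    have hij : i = j := by
      by_contra hne
      have h1 : orderOf ((h.1 : H i) : G) ∣ Nat.card (H i) := by
        rw [Subgroup.orderOf_coe]; exact orderOf_dvd_natCard _
      have h2 : orderOf ((h.1 : H i) : G) ∣ Nat.card (H j) := by
        have h4 : orderOf ((k.1 : H j) : G) = orderOf ((h.1 : H i) : G) :=
          (hk ▸ MulEquiv.orderOf_eq (MulAut.conj ((Quotient.out d)⁻¹ * Quotient.out c)) _)
        rw [← h4, Subgroup.orderOf_coe]; exact orderOf_dvd_natCard _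
      have h5 := Nat.eq_one_of_dvd_coprimes (hcop i j hne) h1 h2
      exact h.2 (Subtype.ext (orderOf_eq_one_iff.1 h5))
    subst hij
    have hmem : (Quotient.out d)⁻¹ * Quotient.out c ∈ N i := by
      by_contra hnot
      exact h.2 (Subtype.ext (hTI i _ hnot _ h.1.2 (hk ▸ k.1.2)))
    have hdc : d = c := by
      have := QuotientGroup.eq.2 hmem
      simpa using this
    subst hdc
    have hkh : k = h := by
      apply Subtype.ext; apply Subtype.ext
      simpa using hk
    subst hkh
    rfl
  have hsurj : Function.Surjective f := by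
    rintro ⟨g, hg⟩
    obtain ⟨i, x, hx⟩ := hcover g hg
    set c : G ⧸ N i := QuotientGroup.mk x⁻¹ with hc
    have hn : (Quotient.out c)⁻¹ * x⁻¹ ∈ N i := QuotientGroup.eq.1 (by simp [hc])
    set n := (Quotient.out c)⁻¹ * x⁻¹ with hnd
    have hmem : n * (x * g * x⁻¹) * n⁻¹ ∈ H i := (Subgroup.mem_normalizer_iff.1 hn _).1 hx
    refine ⟨⟨i, c, ⟨⟨_, hmem⟩, ?_⟩⟩, ?_⟩
    · intro h
      have h2 : n * (x * g * x⁻¹) * n⁻¹ = 1 := congrArg Subtype.val h
      exact hg (by simpa using h2)
    · apply Subtype.ext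
      show Quotient.out c * (n * (x * g * x⁻¹) * n⁻¹) * (Quotient.out c)⁻¹ = g
      simp [hnd, mul_assoc]
  have hcard := Nat.card_eq_of_bijective f ⟨hinj, hsurj⟩
  have hne : ∀ {K : Type _} [Group K] [Finite K], Nat.card {h : K // h ≠ 1} = Nat.card K - 1 := by
    intro K _ _
    have : Fintype K := Fintype.ofFinite K
    rw [Nat.card_eq_fintype_card, Nat.card_eq_fintype_card, Fintype.card_subtype_compl,
      Fintype.card_subtype_eq]
  rw [← hne, ← hcard, Nat.card_sigma]
  refine Finset.sum_congr rfl fun i _ => ?_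
  rw [Nat.card_prod, hne]
  rfl

end Cfsg.Agent.S1527
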