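import Cfsg.Statements.S1529
import Cfsg.Agent.Coherence.Irr

set_option autoImplicit false
open Cfsg

namespace Cfsg.Agent.S1529

open CfsgLib.Coherence CfsgLib.Characters

/-- Let N be a subgroup of the finite group G, S a set of irreducible characters of N with at least two members, and τ₁ a linear isometry on the integer combinations of S with virtual-character values such that τ₁ α vanishes at 1 whenever α ∈ ℤ[S] does. Then there is ε ∈ {1, −1} such that ε • τ₁ χ is an irreducible character of G for every χ ∈ S, and distinct members of S give distinct characters. -/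
theorem result {G : Type*} [Group G] [Fintype G] (N : Subgroup G) [Fintype N] (S : Set (N → ℂ)) (hirr : ∀ χ ∈ S, Cfsg.IsIrrCharacter N χ) (htwo : ∃ χ ∈ S, ∃ ψ ∈ S, χ ≠ ψ) (τ₁ : (N → ℂ) → (G → ℂ)) (hτ₁ : Cfsg.IsLinearIsometryOn (Cfsg.zspan S) τ₁) (h0 : ∀ α ∈ Cfsg.zspan S, α 1 = 0 → τ₁ α 1 = 0) : ∃ ε : ℂ, (ε = 1 ∨ ε = -1) ∧ (∀ χ ∈ S, Cfsg.IsIrrCharacter G (ε • τ₁ χ)) ∧ (∀ χ ∈ S, ∀ ψ ∈ S, τ₁ χ = τ₁ ψ → χ = ψ) := by
  classical
  obtain ⟨F, rfl⟩ : ∃ F : Finset (N → ℂ), (↑F : Set (N → ℂ)) = S :=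
    ⟨_, (finite_irr_set hirr).coe_toFinset⟩
  have hS := degSet_irr hirr
  have hiso : IsLinearIsometryOn (zspanOn (↑F : Set (N → ℂ)) {1}ᶜ) τ₁ :=
    ⟨fun a ha b hb => hτ₁.1 a ha.1 b hb.1, fun a ha n => hτ₁.2.1 a ha.1 n,
      fun a ha b hb => hτ₁.2.2.1 a ha.1 b hb.1, fun a ha => hτ₁.2.2.2 a ha.1⟩
  obtain ⟨T, hT, hTτ⟩ := exists_isom hS hiso
    (fun a ha => h0 a ha.1 (mem_zspanOn_one.1 ha).2)
  have hf := isExt_of_isCoherent hS hTτ hτ₁ fun _ _ => rfl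
  obtain ⟨ε, hε, hεf⟩ := hf.exists_sign hirr hT
  exact ⟨ε, hε, hεf, fun χ hχ ψ hψ => hf.inj hS hχ hψ⟩

end Cfsg.Agent.S1529
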