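import Cfsg.Statements.S1530
import Cfsg.Agent.Coherence.Irr

set_option autoImplicit false
open Cfsg

namespace Cfsg.Agent.S1530

open CfsgLib.Coherence CfsgLib.Characters

/-- Let N be a subgroup of the finite group G and S₀ a finite set of irreducible characters of N, χ an irreducible character of N not in S₀, with degrees ξ 1 = d ξ. Let τ be a linear isometry on the integer combinations of S₀ ∪ {χ} vanishing at 1, with values virtual characters of G vanishing at 1, such that (S₀, N minus 1, τ) is coherent. If some ψ ∈ S₀ has d ψ dividing d χ and 2 · d ψ · d χ < Σ_{ξ ∈ S₀} (d ξ)², then (S₀ ∪ {χ}, N minus 1, τ) is coherent. -/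
theorem result {G : Type*} [Group G] [Fintype G] (N : Subgroup G) [Fintype N] (S₀ : Finset (N → ℂ)) (χ : N → ℂ) (hirr : ∀ ξ ∈ S₀, Cfsg.IsIrrCharacter N ξ) (hχ : Cfsg.IsIrrCharacter N χ) (hχS : χ ∉ S₀) (d : (N → ℂ) → ℕ) (hd : ∀ ξ ∈ insert χ S₀, ξ 1 = (d ξ : ℂ)) (τ : (N → ℂ) → (G → ℂ)) (hτ : Cfsg.IsLinearIsometryOn (Cfsg.zspanOn (↑(insert χ S₀) : Set (N → ℂ)) {1}ᶜ) τ) (hτ1 : ∀ α ∈ Cfsg.zspanOn (↑(insert χ S₀) : Set (N → ℂ)) {1}ᶜ, τ α 1 = 0) (hcoh : Cfsg.IsCoherent (↑S₀ : Set (N → ℂ)) {1}ᶜ τ) (ψ : N → ℂ) (hψ : ψ ∈ S₀) (hdvd : d ψ ∣ d χ) (hlt : 2 * d ψ * d χ < ∑ ξ ∈ S₀, d ξ ^ 2) : Cfsg.IsCoherent (↑(insert χ S₀) : Set (N → ℂ)) {1}ᶜ τ := by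
  classical
  have hS := degSet_irr (S := insert χ S₀) fun ξ hξ => by
    rcases Finset.mem_insert.1 hξ with rfl | h
    · exact hχ
    · exact hirr ξ h
  have hirr' : ∀ ξ ∈ insert χ S₀, IsIrrCharacter N ξ := fun ξ hξ => by
    rcases Finset.mem_insert.1 hξ with rfl | h
    · exact hχ
    · exact hirr ξ h
  have hsub := Finset.coe_subset.2 (Finset.subset_insert χ S₀)
  obtain ⟨T, hT, hTτ⟩ := exists_isom hS hτ hτ1
  obtain ⟨-, τ₁, h₁, h₂⟩ := hcoh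
  have hf := isExt_of_isCoherent (hS.subset (Finset.subset_insert χ S₀))
    (fun a ha => hTτ a (zspanOn_mono hsub _ ha)) h₁ h₂
  obtain ⟨k, hk⟩ := hdvd
  have hdχ := hd χ (Finset.mem_insert_self _ _)
  have hdψ := hd ψ (Finset.mem_insert_of_mem hψ)
  obtain ⟨g, hg⟩ := feit_extend hirr' hχS hT hf hψ ⟨k, by rw [hdχ, hdψ, hk]; push_cast; ring⟩ (by
    rw [hdχ, hdψ, Complex.natCast_re, Complex.natCast_re]
    have h1 : ∑ ξ ∈ S₀, (ξ 1).re ^ 2 = ((∑ ξ ∈ S₀, d ξ ^ 2 : ℕ) : ℝ) := by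
      push_cast
      exact Finset.sum_congr rfl fun ξ hξ => by
        rw [hd ξ (Finset.mem_insert_of_mem hξ), Complex.natCast_re]
    have h2 : ((2 * d ψ * d χ : ℕ) : ℝ) < ((∑ ξ ∈ S₀, d ξ ^ 2 : ℕ) : ℝ) := by exact_mod_cast hlt
    rw [h1]; push_cast at h2 ⊢; linarith)
  exact hg.isCoherent hS hTτ (hS.exists_ne_zero (Finset.mem_insert_self _ _)
    (Finset.mem_insert_of_mem hψ) fun h => hχS (h ▸ hψ))

end Cfsg.Agent.S1530
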