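import Cfsg.Statements.S1531
import Cfsg.Agent.Coherence.Irr

set_option autoImplicit false
open Cfsg

namespace Cfsg.Agent.S1531

open CfsgLib.Coherence CfsgLib.Characters

/-- Let N be a subgroup of the finite group G, S a set of irreducible characters of N, and α a linear isometry on the integer combinations of S vanishing at 1 with values virtual characters of G vanishing at 1. Let X, Y ⊆ S be disjoint, each with at least two members, and σ, τ linear isometries on ℤ[X], ℤ[Y] into virtual characters agreeing with α on the members vanishing at 1. Then ⟨σ χ, τ η⟩ = 0 for χ ∈ X, η ∈ Y; and if for some χ₀ ∈ X, η₀ ∈ Y with degrees c = χ₀ 1, e = η₀ 1 one has α (c • η₀ − e • χ₀) = c • τ η₀ − e • σ χ₀, then (X ∪ Y, N minus 1, α) is coherent. -/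
theorem result {G : Type*} [Group G] [Fintype G] (N : Subgroup G) [Fintype N] (S X Y : Set (N → ℂ)) (hirr : ∀ ξ ∈ S, Cfsg.IsIrrCharacter N ξ) (hXS : X ⊆ S) (hYS : Y ⊆ S) (hXY : Disjoint X Y) (hX2 : ∃ a ∈ X, ∃ b ∈ X, a ≠ b) (hY2 : ∃ a ∈ Y, ∃ b ∈ Y, a ≠ b) (α : (N → ℂ) → (G → ℂ)) (hα : Cfsg.IsLinearIsometryOn (Cfsg.zspanOn S {1}ᶜ) α) (hα1 : ∀ θ ∈ Cfsg.zspanOn S {1}ᶜ, α θ 1 = 0) (σ τ : (N → ℂ) → (G → ℂ)) (hσ : Cfsg.IsLinearIsometryOn (Cfsg.zspan X) σ) (hσα : ∀ θ ∈ Cfsg.zspanOn X {1}ᶜ, σ θ = α θ) (hτ : Cfsg.IsLinearIsometryOn (Cfsg.zspan Y) τ) (hτα : ∀ θ ∈ Cfsg.zspanOn Y {1}ᶜ, τ θ = α θ) : (∀ χ ∈ X, ∀ η ∈ Y, Cfsg.classInner (σ χ) (τ η) = 0) ∧ ((∃ χ₀ ∈ X, ∃ η₀ ∈ Y, α (χ₀ 1 • η₀ - η₀ 1 • χ₀) = χ₀ 1 • τ η₀ - η₀ 1 • σ χ₀) → Cfsg.IsCoherent (X ∪ Y) {1}ᶜ α) := by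
  classical
  obtain ⟨F, rfl⟩ : ∃ F : Finset (N → ℂ), (↑F : Set (N → ℂ)) = S :=
    ⟨_, (finite_irr_set hirr).coe_toFinset⟩
  obtain ⟨A, rfl⟩ : ∃ A : Finset (N → ℂ), (↑A : Set (N → ℂ)) = X :=
    ⟨_, (finite_irr_set fun ξ hξ => hirr ξ (hXS hξ)).coe_toFinset⟩
  obtain ⟨B, rfl⟩ : ∃ B : Finset (N → ℂ), (↑B : Set (N → ℂ)) = Y :=
    ⟨_, (finite_irr_set fun ξ hξ => hirr ξ (hYS hξ)).coe_toFinset⟩
  rw [Finset.coe_subset] at hXS hYS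
  rw [Finset.disjoint_coe] at hXY
  have hS := degSet_irr hirr
  obtain ⟨T, hT, hTα⟩ := exists_isom hS hα hα1
  have hsX := Finset.coe_subset.2 hXS
  have hsY := Finset.coe_subset.2 hYS
  have hfσ := isExt_of_isCoherent (hS.subset hXS)
    (fun a ha => hTα a (zspanOn_mono hsX _ ha)) hσ hσα
  have hfτ := isExt_of_isCoherent (hS.subset hYS)
    (fun a ha => hTα a (zspanOn_mono hsY _ ha)) hτ hτα
  have h2 : ∀ Z : Finset (N → ℂ), (∃ a ∈ Z, ∃ b ∈ Z, a ≠ b) → ∀ c ∈ Z, ∃ e ∈ Z, e ≠ c := by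
    rintro Z ⟨a, ha, b, hb, hab⟩ c -
    by_cases hac : a = c
    · exact ⟨b, hb, hac ▸ hab.symm⟩
    · exact ⟨a, ha, hac⟩
  have horth : ∀ χ ∈ A, ∀ η ∈ B, classInner (σ χ) (τ η) = 0 := fun χ hχ η hη =>
    cross_orth hirr hXS hYS hXY (h2 A hX2) (h2 B hY2) hT hfσ hfτ hχ hη
  refine ⟨horth, ?_⟩
  rintro ⟨χ₀, hχ₀, η₀, hη₀, hlink⟩
  have hsU : A ∪ B ⊆ F := Finset.union_subset hXS hYS
  have hlink' : T (edge η₀ χ₀) = χ₀ 1 • τ η₀ - η₀ 1 • σ χ₀ := by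
    rw [hTα _ (hS.edge_mem (hYS hη₀) (hXS hχ₀))]
    exact hlink
  obtain ⟨g, hg⟩ := isExt_union (hS.subset hsU) hfσ hfτ horth hχ₀ hη₀ hlink'
  rw [← Finset.coe_union]
  exact hg.isCoherent (hS.subset hsU)
    (fun a ha => hTα a (zspanOn_mono (Finset.coe_subset.2 hsU) _ ha))
    ((hS.subset hsU).exists_ne_zero (Finset.mem_union_left _ hχ₀) (Finset.mem_union_right _ hη₀)
      fun h => Finset.disjoint_left.1 hXY hχ₀ (h ▸ hη₀))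

end Cfsg.Agent.S1531
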