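import Cfsg.Statements.S1532
import Cfsg.Agent.Coherence.TIKernel

set_option autoImplicit false
open Cfsg

namespace Cfsg.Agent.S1532

/-- Let G be a finite group, p an odd prime and P a Sylow p-subgroup that is non-abelian, whose underlying set is a TI-subset of G, with P properly contained in its set normaliser N and C_G(x) ≤ P for every non-identity x ∈ P. Let Z be a nontrivial subgroup of the centre of P normalised by N. Then the set of irreducible characters χ of N with χ z ≠ χ 1 for some z ∈ Z is coherent for the map induced by induction from N to G. -/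
theorem result {G : Type*} [Group G] [Fintype G] (p : ℕ) [Fact p.Prime] (hp : p ≠ 2) (P : Sylow p G) (hna : ¬ IsMulCommutative (P : Subgroup G)) (hTI : Cfsg.IsTISubset ((P : Subgroup G) : Set G)) (hlt : (P : Subgroup G) < Subgroup.normalizer ((P : Subgroup G) : Set G)) (hC : ∀ k ∈ (P : Subgroup G), k ≠ 1 → Subgroup.centralizer ({k} : Set G) ≤ (P : Subgroup G)) [Fintype ↥(Subgroup.normalizer ((P : Subgroup G) : Set G))] (Z : Subgroup G) (hZ1 : Z ≠ ⊥) (hZP : ∀ z ∈ Z, z ∈ (P : Subgroup G) ∧ ∀ y ∈ (P : Subgroup G), z * y = y * z) (hZn : ∀ x ∈ Subgroup.normalizer ((P : Subgroup G) : Set G), ∀ z ∈ Z, x * z * x⁻¹ ∈ Z) : Cfsg.IsCoherent {χ : ↥(Subgroup.normalizer ((P : Subgroup G) : Set G)) → ℂ | Cfsg.IsIrrCharacter ↥(Subgroup.normalizer ((P : Subgroup G) : Set G)) χ ∧ ∃ z : ↥(Subgroup.normalizer ((P : Subgroup G) : Set G)), (z : G) ∈ Z ∧ χ z ≠ χ 1} {1}ᶜ (fun α => Cfsg.indFun (Subgroup.normalizer ((P : Subgroup G) : Set G)) α) := by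
  classical
  set K := (P : Subgroup G).subgroupOf (Subgroup.normalizer ((P : Subgroup G) : Set G)) with hKdef
  have : K.Normal := Subgroup.normal_in_normalizer
  have hPN : (P : Subgroup G) ≤ (Subgroup.normalizer ((P : Subgroup G) : Set G)) := Subgroup.le_normalizer
  have hfix : ∀ k ∈ K, k ≠ 1 → Subgroup.centralizer ({k} : Set (Subgroup.normalizer ((P : Subgroup G) : Set G))) ≤ K :=
    CfsgLib.Coherence.ti_hfix hC
  have hnilP : Group.IsNilpotent (P : Subgroup G) := P.isPGroup'.isNilpotent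
  have hnilK : Group.IsNilpotent K :=
    Group.nilpotent_of_mulEquiv (Subgroup.subgroupOfEquivOfLe hPN).symm
  have hsolv : Group.IsSolvable K := inferInstance
  have hnab : ¬ ∀ a ∈ K, ∀ b ∈ K, a * b = b * a := fun h => hna ⟨⟨fun a b => Subtype.ext
    (congrArg (fun x : (Subgroup.normalizer ((P : Subgroup G) : Set G)) => (x : G)) (h ⟨a, hPN a.2⟩ (Subgroup.mem_subgroupOf.2 a.2) ⟨b, hPN b.2⟩
      (Subgroup.mem_subgroupOf.2 b.2)))⟩⟩
  have hK1 : K ≠ ⊥ := fun h => hnab fun a ha b hb => by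
    rw [h, Subgroup.mem_bot] at ha hb; rw [ha, hb]
  have hKL : K < ⊤ := lt_top_iff_ne_top.2 fun h => hlt.not_ge (Subgroup.subgroupOf_eq_top.1 h)
  have hodd : Odd (Nat.card (Subgroup.normalizer ((P : Subgroup G) : Set G))) := by
    rw [← K.index_mul_card]
    refine Odd.mul (Nat.not_even_iff_odd.1 fun h => hnab (CfsgLib.Coherence.frob_comm_of_even hfix h)) ?_
    obtain ⟨m, hm⟩ := P.isPGroup'.exists_card_eq
    rw [hKdef, Nat.card_congr (Subgroup.subgroupOfEquivOfLe hPN).toEquiv, hm]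
    exact ((Fact.out : p.Prime).odd_of_ne_two hp).pow
  have hH₁K : ⁅K, K⁆ < K := by
    have : Nontrivial K := (Subgroup.nontrivial_iff_ne_bot K).2 hK1
    have h := (Subgroup.map_lt_map_iff_of_injective K.subtype_injective).2
      (Group.IsSolvable.commutator_lt_top_of_nontrivial K)
    rwa [Subgroup.map_subtype_commutator, ← MonoidHom.range_eq_map, Subgroup.range_subtype] at h
  obtain ⟨hiso, hiso1⟩ := CfsgLib.Coherence.ti_isometry (H := (P : Subgroup G)) (L := (Subgroup.normalizer ((P : Subgroup G) : Set G))) hTI rfl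
  obtain ⟨F, T, R, hF, hS, hTτ⟩ :=
    CfsgLib.Coherence.frob_exists_sys hfix hsolv hK1 hiso hiso1 hodd hKL
  set Z' := Z.subgroupOf (Subgroup.normalizer ((P : Subgroup G) : Set G)) with hZ'
  have : Z'.Normal := ⟨fun z hz x => Subgroup.mem_subgroupOf.2
    (hZn x x.2 z (Subgroup.mem_subgroupOf.1 hz))⟩
  have hZK : Z' ≤ K := fun z hz =>
    Subgroup.mem_subgroupOf.2 (hZP z (Subgroup.mem_subgroupOf.1 hz)).1
  obtain ⟨g, hg⟩ := CfsgLib.Coherence.irr_nontrivial_coherence hsolv hS hF hodd hnilK hH₁K hKL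
    (CfsgLib.Coherence.frob_quot hfix _) Z' hZK
    (fun z hz k hk => Subtype.ext ((hZP z (Subgroup.mem_subgroupOf.1 hz)).2 k
      (Subgroup.mem_subgroupOf.1 hk)))
    (fun χ hχ => CfsgLib.Coherence.frob_irr hfix χ hχ.1)
  have hmem : ∀ χ : (Subgroup.normalizer ((P : Subgroup G) : Set G)) → ℂ, χ ∈ F \ CfsgLib.Coherence.above K F Z' ↔
      Cfsg.IsIrrCharacter (Subgroup.normalizer ((P : Subgroup G) : Set G)) χ ∧ ∃ z : (Subgroup.normalizer ((P : Subgroup G) : Set G)), (z : G) ∈ Z ∧ χ z ≠ χ 1 := by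
    intro χ
    have h := Set.ext_iff.1 (CfsgLib.Coherence.diff_eq_nontrivial Z' hZK
      fun χ hχ => CfsgLib.Coherence.frob_irr hfix χ hχ.1) χ
    rw [Finset.mem_sdiff, CfsgLib.Coherence.mem_above hF, ← Finset.mem_coe, hF]
    exact h
  have hset : {χ : (Subgroup.normalizer ((P : Subgroup G) : Set G)) → ℂ | Cfsg.IsIrrCharacter (Subgroup.normalizer ((P : Subgroup G) : Set G)) χ ∧ ∃ z : (Subgroup.normalizer ((P : Subgroup G) : Set G)), (z : G) ∈ Z ∧ χ z ≠ χ 1} =
      (↑(F \ CfsgLib.Coherence.above K F Z') : Set ((Subgroup.normalizer ((P : Subgroup G) : Set G)) → ℂ)) :=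
    Set.ext fun χ => ((hmem χ).symm.trans Finset.mem_coe.symm)
  rw [hset]
  obtain ⟨χ, hχ⟩ : ∃ χ, χ ∈ F \ CfsgLib.Coherence.above K F Z' := by
    obtain ⟨z, hz, hz1⟩ := (Subgroup.bot_or_exists_ne_one _).resolve_left hZ1
    have hzN : z ∈ (Subgroup.normalizer ((P : Subgroup G) : Set G)) := hPN (hZP z hz).1
    by_contra h
    push Not at h
    have h0 := CfsgLib.Characters.sum_degree_mul (⟨z, hzN⟩ : (Subgroup.normalizer ((P : Subgroup G) : Set G)))
    rw [if_neg fun e => hz1 (congrArg Subtype.val e)] at h0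
    rw [Finset.sum_congr rfl (g := fun χ : Cfsg.IrrCharacter (Subgroup.normalizer ((P : Subgroup G) : Set G)) => (χ : (Subgroup.normalizer ((P : Subgroup G) : Set G)) → ℂ) 1 ^ 2) (fun ψ _ => by
      have : ψ.1 ⟨z, hzN⟩ = ψ.1 1 := by
        by_contra hne
        exact h ψ.1 ((hmem _).2 ⟨ψ.2, ⟨z, hzN⟩, hz, hne⟩)
      rw [this, sq]), CfsgLib.Characters.sum_degree_sq] at h0
    exact Nat.card_pos.ne' (Nat.cast_eq_zero.1 h0)
  have hsub : F \ CfsgLib.Coherence.above K F Z' ⊆ F := Finset.sdiff_subset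
  refine hg.isCoherent (hS.deg.subset hsub)
    (fun a ha => hTτ a (CfsgLib.Coherence.zspanOn_mono (Finset.coe_subset.2 hsub) _ ha))
    ((hS.deg.subset hsub).exists_ne_zero hχ ?_ (hS.conj_ne χ (hsub hχ)).symm)
  obtain ⟨h1, h2⟩ := Finset.mem_sdiff.1 hχ
  exact Finset.mem_sdiff.2 ⟨hS.conj_mem χ h1, fun h =>
    h2 (by simpa using CfsgLib.Coherence.above_conj hF _ h)⟩

end Cfsg.Agent.S1532
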