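import Cfsg.Statements.S1538
import Cfsg.Agent.OddOrder.PF8.Dade
import Cfsg.Agent.OddOrder.BG16.AssembleFacts

set_option autoImplicit false
set_option linter.style.haveILetI false
open Cfsg

namespace Cfsg.Agent.S1538

/-- The `p'`-core of a normal subgroup of a group with cyclic `p'`-core is cyclic. -/
theorem isCyclic_pPrimeCore_of_normal {M : Type*} [Group M] [Finite M] (p : ℕ) (N : Subgroup M)
    [N.Normal] (h : IsCyclic ↥(Cfsg.pPrimeCore p M)) : IsCyclic ↥(Cfsg.pPrimeCore p ↥N) := by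
  have hle : (Cfsg.pPrimeCore p ↥N).map N.subtype ≤ Cfsg.pPrimeCore p M := by
    haveI : ((Cfsg.pPrimeCore p ↥N).map N.subtype).Normal :=
      CfsgLib.PLocal.normal_map_subtype N _
    refine CfsgLib.PLocal.le_pPrimeCore ?_
    rw [Subgroup.card_map_of_injective N.subtype_injective]
    exact CfsgLib.PLocal.coprime_card_pPrimeCore p ↥N
  let f : ↥(Cfsg.pPrimeCore p ↥N) →* ↥(Cfsg.pPrimeCore p M) :=
    (N.subtype.comp (Cfsg.pPrimeCore p ↥N).subtype).codRestrict _
      fun x => hle (Subgroup.mem_map_of_mem _ x.2)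
  exact isCyclic_of_injective f fun x y hxy =>
    Subtype.ext (N.subtype_injective
      (by have h := Subtype.ext_iff.1 hxy; exact h))

/-- Let G be a minimal simple group of odd order and M a maximal subgroup of Type II. Then each of A₀(M), A(M), A₁(M) is a TI-subset of G whose set normaliser is M. -/
theorem result {G : Type*} [Group G] [Finite G] (hG : Cfsg.IsMinSimpleOddOrder G) (M : Subgroup G) (hM : IsCoatom M) (hII : Cfsg.IsOfTypeII M) : (Cfsg.IsTISubset (Cfsg.typeA0 M) ∧ Subgroup.normalizer (Cfsg.typeA0 M) = M) ∧ (Cfsg.IsTISubset (Cfsg.typeA M) ∧ Subgroup.normalizer (Cfsg.typeA M) = M) ∧ (Cfsg.IsTISubset (Cfsg.typeA1 M) ∧ Subgroup.normalizer (Cfsg.typeA1 M) = M) := by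
  have F := CfsgLib.OddOrder.bg16Facts hG
  have hI' : ¬ CfsgLib.OddOrder.IsTypeI M := F.not_I_of_II hM hII
  have hI : ¬ Cfsg.IsOfTypeI M := by
    intro h
    obtain ⟨hF, hcase⟩ := h
    refine hI' ⟨hF, ?_⟩
    rcases hcase with h1 | h2 | ⟨hexp, p, hp, hpd, hc⟩
    · exact Or.inl h1
    · exact Or.inr (Or.inl h2)
    · refine Or.inr (Or.inr ⟨hexp, p, hp, hpd, ?_⟩)
      haveI := isCyclic_pPrimeCore_of_normal p (Cfsg.fittingHall M) hc
      have e : ↥(Cfsg.fittingHall M) ≃* ↥(Cfsg.fittingHallOf M) :=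
        Subgroup.equivMapOfInjective (Cfsg.fittingHall M) M.subtype M.subtype_injective
      rw [← CfsgLib.PLocal.map_pPrimeCore_equiv (p := p) e]
      exact isCyclic_of_surjective _ (MonoidHom.subgroupMap_surjective e.toMonoidHom _)
  have hA : Cfsg.typeA M = CfsgLib.OddOrder.supportA M := by
    rw [Cfsg.typeA, CfsgLib.OddOrder.supportA, if_neg hI, if_neg hI']
  have hA0 : Cfsg.typeA0 M = CfsgLib.OddOrder.supportA0 M := by
    rw [Cfsg.typeA0, CfsgLib.OddOrder.supportA0, hA]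
    simp only [hI, hI', not_false_eq_true, true_and]
  rw [hA0, hA]
  exact ⟨F.typeII_ti hG hM hII (Or.inr (Or.inr rfl)), F.typeII_ti hG hM hII (Or.inr (Or.inl rfl)),
    F.typeII_ti hG hM hII (Or.inl rfl)⟩

end Cfsg.Agent.S1538
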