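import Cfsg.Statements.S1541
import Cfsg.Agent.OddOrder.PF12.TypeIBridge
import Cfsg.Agent.OddOrder.PF10.NotAllI

set_option autoImplicit false
open Cfsg

namespace Cfsg.Agent.S1541

/-- Let G be a minimal simple group of odd order. Then some maximal subgroup of G is not of Type I. -/
theorem result {G : Type*} [Group G] [Finite G] (hG : Cfsg.IsMinSimpleOddOrder G) : ∃ M : Subgroup G, IsCoatom M ∧ ¬ Cfsg.IsOfTypeI M := by
  classical
  haveI : Fintype G := Fintype.ofFinite G
  have h := CfsgLib.OddOrder.FTFacts.not_all_typeI hG (CfsgLib.OddOrder.ftFacts hG)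
  push Not at h
  obtain ⟨M, hM, hI⟩ := h
  exact ⟨M, hM, fun h' => hI (CfsgLib.OddOrder.isTypeI_of_isOfTypeI h')⟩

end Cfsg.Agent.S1541
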