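import Cfsg.Statements.S1546
import Mathlib.Algebra.BigOperators.ModEq
-- import your own Cfsg.Agent.* helpers here

set_option autoImplicit false
open Cfsg

namespace Cfsg.Agent.S1546

/-- Let p and q be odd primes and N = (p ^ q − 1) / (p − 1) = 1 + p + ⋯ + p^(q−1). Then N is odd; if p ≡ 1 (mod q) then q ∣ N; and if p is not ≡ 1 (mod q) then N is coprime to p − 1 and every divisor of N is ≡ 1 (mod q). -/
theorem result (p q : ℕ) (hp : p.Prime) (hq : q.Prime) (hp2 : p ≠ 2) (hq2 : q ≠ 2) : Odd ((p ^ q - 1) / (p - 1)) ∧ (p % q = 1 → q ∣ (p ^ q - 1) / (p - 1)) ∧ (p % q ≠ 1 → Nat.Coprime ((p ^ q - 1) / (p - 1)) (p - 1) ∧ ∀ x : ℕ, x ∣ (p ^ q - 1) / (p - 1) → x % q = 1) := by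
  have hp1 : 2 ≤ p := hp.two_le
  have hq1 : 2 ≤ q := hq.two_le
  rw [← Nat.geomSum_eq hp1 q]
  set N := ∑ k ∈ Finset.range q, p ^ k with hN
  have hpodd : Odd p := hp.odd_of_ne_two hp2
  have hqodd : Odd q := hq.odd_of_ne_two hq2
  -- congruence modulo any divisor of p - 1
  have hmod : ∀ d : ℕ, d ∣ p - 1 → N ≡ q [MOD d] := by
    intro d hd
    have h1 : p ≡ 1 [MOD d] := ((Nat.modEq_iff_dvd' (by omega)).2 hd).symm
    have h2 : N ≡ ∑ _k ∈ Finset.range q, 1 [MOD d] :=
      Nat.ModEq.sum (s := Finset.range q) (fun k _ => by simpa using h1.pow k)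
    simpa using h2
  refine ⟨?_, ?_, ?_⟩
  · have h := hmod 2 (by obtain ⟨k, hk⟩ := hpodd; exact ⟨k, by omega⟩)
    rw [Nat.odd_iff] at hqodd ⊢
    have h' : N % 2 = q % 2 := h
    omega
  · intro h
    have h1 : q ∣ p - 1 := (Nat.modEq_iff_dvd' (by omega)).1 (by
      unfold Nat.ModEq; rw [h, Nat.mod_eq_of_lt hq1])
    exact Nat.modEq_zero_iff_dvd.1 ((hmod q h1).trans (Nat.modEq_zero_iff_dvd.2 dvd_rfl))
  · intro h
    have hcop : Nat.Coprime N (p - 1) := by
      refine Nat.coprime_of_dvd fun r hr h1 h2 => ?_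
      have h3 : r ∣ q := Nat.modEq_zero_iff_dvd.1 ((hmod r h2).symm.trans (Nat.modEq_zero_iff_dvd.2 h1))
      rw [(Nat.prime_dvd_prime_iff_eq hr hq).1 h3] at h2
      have h4 : p % q = 1 % q := ((Nat.modEq_iff_dvd' (by omega)).2 h2).symm
      rw [Nat.mod_eq_of_lt hq1] at h4
      exact h h4
    refine ⟨hcop, fun x hx => ?_⟩
    have hN0 : N ≠ 0 := by
      have : 0 < N := Finset.sum_pos (fun k _ => by positivity) (by simp; omega)
      omega
    have hfq : Fact q.Prime := ⟨hq⟩
    have key : ∀ r : ℕ, r.Prime → r ∣ N → (r : ZMod q) = 1 := by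
      intro r hr hrN
      have hfr : Fact r.Prime := ⟨hr⟩
      have h5 : ((N : ZMod r)) * ((p : ZMod r) - 1) = (p : ZMod r) ^ q - 1 := by
        rw [hN]; push_cast; exact geom_sum_mul _ _
      have h6 : (N : ZMod r) = 0 := (ZMod.natCast_eq_zero_iff _ _).2 hrN
      rw [h6, zero_mul, eq_comm, sub_eq_zero] at h5
      have hne : (p : ZMod r) ≠ 1 := by
        intro h7
        have h8 : r ∣ p - 1 := by
          rw [← ZMod.natCast_eq_zero_iff]
          push_cast [show 1 ≤ p by omega]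
          rw [h7, sub_self]
        have := Nat.eq_one_of_dvd_coprimes hcop hrN h8
        exact hr.ne_one this
      have hord : orderOf (p : ZMod r) = q :=
        orderOf_eq_prime h5 hne
      have hp0 : (p : ZMod r) ≠ 0 := by
        intro h0; rw [h0, zero_pow hq.ne_zero] at h5; exact zero_ne_one h5
      have hdvd : q ∣ r - 1 := hord ▸ ZMod.orderOf_dvd_card_sub_one hp0
      have := (ZMod.natCast_eq_zero_iff (r - 1) q).2 hdvd
      rw [Nat.cast_sub hr.one_le, Nat.cast_one, sub_eq_zero] at this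
      exact this
    have hall : ∀ x : ℕ, x ∣ N → (x : ZMod q) = 1 := by
      intro x
      induction x using Nat.recOnMul with
      | zero => intro h0; exact absurd (Nat.eq_zero_of_zero_dvd h0) hN0
      | one => intro _; simp
      | prime r hr => exact key r hr
      | mul a b iha ihb =>
        intro hab
        push_cast
        rw [iha (dvd_of_mul_right_dvd hab), ihb (dvd_of_mul_left_dvd hab), one_mul]
    have := (ZMod.natCast_eq_natCast_iff' x 1 q).1 (by simpa using hall x hx)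
    rwa [Nat.mod_eq_of_lt hq1] at this

end Cfsg.Agent.S1546
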