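import Cfsg.Statements.S1553
-- import your own Cfsg.Agent.* helpers here

import Cfsg.Agent.GolayOrbits.OctadAction

set_option autoImplicit false
open scoped Pointwise
open Cfsg

namespace Cfsg.Agent.S1553

/-- The stabiliser of an octad in the group of the length-24 code induces on the octad exactly its alternating group. -/
theorem result (o : Finset Cfsg.GolayPt) (ho : o ∈ Cfsg.octads) : {e : Equiv.Perm ↥o | ∃ g : Equiv.Perm Cfsg.GolayPt, g ∈ Cfsg.M24 ∧ ∃ h : (∀ x, g x ∈ o ↔ x ∈ o), g.subtypePerm h = e} = (alternatingGroup ↥o : Set (Equiv.Perm ↥o)) := by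
  rw [← CfsgLib.GolayOrbits.restrictO_range ho]
  ext e
  constructor
  · rintro ⟨g, hg, h, rfl⟩
    refine ⟨⟨g, hg, Finset.ext fun x => ?_⟩, rfl⟩
    rw [Finset.mem_smul_finset]
    exact ⟨fun ⟨y, hy, e⟩ => e ▸ (h y).2 hy,
      fun hx => ⟨g⁻¹ x, (h (g⁻¹ x)).1 (by simpa using hx), by simp⟩⟩
  · rintro ⟨g, rfl⟩
    exact ⟨g.1, g.2.1, CfsgLib.GolayOrbits.apply_mem_iff o g.2.2, rfl⟩

end Cfsg.Agent.S1553
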