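import Cfsg.Statements.S1555
-- import your own Cfsg.Agent.* helpers here

import Cfsg.Agent.GolayConfig.OctadOrbits
import Cfsg.Agent.Mathieu.M24Actions

set_option autoImplicit false
open scoped Pointwise
open Cfsg

namespace Cfsg.Agent.S1555

/-- Bottom row of the Leech triangle: an octad is met in a prescribed pair of its points by exactly 16 octads and in a prescribed 4-subset by exactly 4 octads. -/
theorem result (o : Finset Cfsg.GolayPt) (ho : o ∈ Cfsg.octads) (s : Finset Cfsg.GolayPt) (hs : s ⊆ o) : (s.card = 2 → {o' : Finset Cfsg.GolayPt | o' ∈ Cfsg.octads ∧ o ∩ o' = s}.ncard = 16) ∧ (s.card = 4 → {o' : Finset Cfsg.GolayPt | o' ∈ Cfsg.octads ∧ o ∩ o' = s}.ncard = 4) := by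
  classical
  open CfsgLib.Mathieu CfsgLib.GolayConfig Cfsg in
  have main : ∀ S₀ n : ℕ, S₀ &&& cOctX = S₀ → s.card = (setOf24 S₀).card → (setOf24 S₀).card ≤ 5 →
      (codeSel fun M => wt M == 8 && cOctX &&& M == S₀).length = n →
      {o' : Finset GolayPt | o' ∈ octads ∧ o ∩ o' = s}.ncard = n := by
    intro S₀ n hS₀ hcard hle hn
    have hS : setOf24 S₀ ⊆ setOf24 cOctX := by
      conv_lhs => rw [← hS₀, setOf24_and]
      exact Finset.inter_subset_right
    have hX : setOf24 cOctX ∈ octads :=
      setOf24_mem_wordsOfWeight (by decide +kernel) (by decide +kernel)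
    obtain ⟨A, hA1, hA2, hA5⟩ := Finset.exists_subsuperset_card_eq hS hle (by rw [hX.2]; norm_num)
    obtain ⟨B, hB1, hB2, hB5⟩ := Finset.exists_subsuperset_card_eq hs (hcard ▸ hle) (by rw [ho.2]; norm_num)
    let lx := (setOf24 S₀).toList ++ (A \ setOf24 S₀).toList
    let ly := s.toList ++ (B \ s).toList
    have hlx : lx.length = 5 := by
      simp only [lx, List.length_append, Finset.length_toList, Finset.card_sdiff_of_subset hA1, hA5]
      omega
    have hly : ly.length = 5 := by
      simp only [ly, List.length_append, Finset.length_toList, Finset.card_sdiff_of_subset hB1, hB5]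
      omega
    have ndx : lx.Nodup := (Finset.nodup_toList _).append (Finset.nodup_toList _) (by
      intro x h1 h2
      rw [Finset.mem_toList] at h1 h2
      exact (Finset.mem_sdiff.1 h2).2 h1)
    have ndy : ly.Nodup := (Finset.nodup_toList _).append (Finset.nodup_toList _) (by
      intro x h1 h2
      rw [Finset.mem_toList] at h1 h2
      exact (Finset.mem_sdiff.1 h2).2 h1)
    obtain ⟨σ, hσ, hmap⟩ := M24_map_five (fun i : Fin 5 => lx[i.val]'(by omega))
      (fun i : Fin 5 => ly[i.val]'(by omega))
      (fun i j h => Fin.ext ((ndx.getElem_inj_iff).1 h))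
      (fun i j h => Fin.ext ((ndy.getElem_inj_iff).1 h))
    have hlist : lx.map σ = ly := by
      refine List.ext_getElem (by simp [hlx, hly]) fun i h1 h2 => ?_
      rw [List.getElem_map]
      exact hmap ⟨i, by omega⟩
    have hσS : σ • setOf24 S₀ = s := by
      have h1 : (setOf24 S₀).toList.map σ = s.toList := by
        have := congrArg (List.take s.card) hlist
        rw [← List.map_take, List.take_left' (by rw [Finset.length_toList, hcard]),
          List.take_left' (Finset.length_toList s)] at this
        exact this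
      ext x
      rw [← image_eq_smul, ← Finset.mem_toList (s := s), ← h1]
      simp
    have hσA : σ • A = B := by
      ext x
      have e1 : x ∈ lx.map σ ↔ x ∈ ly := by rw [hlist]
      simp only [lx, ly, List.map_append, List.mem_append, List.mem_map, Finset.mem_toList,
        Finset.mem_sdiff] at e1
      rw [← image_eq_smul, Finset.mem_image]
      constructor
      · rintro ⟨y, hy, rfl⟩
        by_cases hyS : y ∈ setOf24 S₀
        · exact (e1.1 (Or.inl ⟨y, hyS, rfl⟩)).elim (fun h => hB1 h) (fun h => h.1)
        · exact (e1.1 (Or.inr ⟨y, ⟨hy, hyS⟩, rfl⟩)).elim (fun h => hB1 h) (fun h => h.1)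
      · intro hx
        by_cases hxs : x ∈ s
        · exact (e1.2 (Or.inl hxs)).elim (fun ⟨y, hy, e⟩ => ⟨y, hA1 hy, e⟩)
            (fun ⟨y, hy, e⟩ => ⟨y, hy.1, e⟩)
        · exact (e1.2 (Or.inr ⟨hx, hxs⟩)).elim (fun ⟨y, hy, e⟩ => ⟨y, hA1 hy, e⟩)
            (fun ⟨y, hy, e⟩ => ⟨y, hy.1, e⟩)
    have hσo : σ • setOf24 cOctX = o := by
      refine octads_eq_of_five_le (octad_image hσ hX) ho ?_
      rw [← hB5, ← hσA]
      exact Finset.card_le_card (Finset.subset_inter (Finset.smul_finset_subset_smul_finset hA2)
        (hσA ▸ hB2))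
    rw [ncard_transport σ (fun s' => s' ∈ octads ∧ setOf24 cOctX ∩ s' = setOf24 S₀) _ fun s' =>
      and_congr (smul_mem_wordsOfWeight_iff hσ 8 s') (by
        rw [← hσo, ← Finset.smul_finset_inter, ← hσS]
        exact (MulAction.injective σ).eq_iff)]
    rw [setOf_octads_eq]
    refine ncard_codeSet (fun M => ?_) hn
    rw [Bool.and_eq_true, beq_iff_eq, beq_iff_eq, ← card_setOf24]
    refine and_congr Iff.rfl ⟨fun h => by rw [← h, setOf24_and], fun h => ?_⟩
    refine setOf24_inj (Nat.lt_of_le_of_lt Nat.and_le_left (by decide +kernel)) ?_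
      (by rw [setOf24_and, h])
    rw [← hS₀]
    exact Nat.lt_of_le_of_lt Nat.and_le_right (by decide +kernel)
  open CfsgLib.Mathieu CfsgLib.GolayConfig in
  exact ⟨fun h => main 5 16 (by decide +kernel) (by rw [h]; decide +kernel) (by decide +kernel)
    (by decide +kernel), fun h => main 53 4 (by decide +kernel) (by rw [h]; decide +kernel)
    (by decide +kernel) (by decide +kernel)⟩

end Cfsg.Agent.S1555
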