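import Cfsg.Statements.S1560
-- import your own Cfsg.Agent.* helpers here

import Cfsg.Agent.GolayConfig.Std

set_option autoImplicit false
open scoped Pointwise
open Cfsg

namespace Cfsg.Agent.S1560

/-- Intersection numbers of dodecads: a dodecad meets every other dodecad in 0, 4, 6 or 8 points, meeting 495 of them in 4 points, 1584 in 6 points and 495 in 8 points. -/
theorem result (d : Finset Cfsg.GolayPt) (hd : d ∈ Cfsg.dodecads) : (∀ d' ∈ Cfsg.dodecads, d' ≠ d → (d ∩ d').card = 0 ∨ (d ∩ d').card = 4 ∨ (d ∩ d').card = 6 ∨ (d ∩ d').card = 8) ∧ {d' : Finset Cfsg.GolayPt | d' ∈ Cfsg.dodecads ∧ (d ∩ d').card = 4}.ncard = 495 ∧ {d' : Finset Cfsg.GolayPt | d' ∈ Cfsg.dodecads ∧ (d ∩ d').card = 6}.ncard = 1584 ∧ {d' : Finset Cfsg.GolayPt | d' ∈ Cfsg.dodecads ∧ (d ∩ d').card = 8}.ncard = 495 := by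
  open CfsgLib.GolayConfig CfsgLib.Mathieu in
  obtain ⟨σ, hσ, rfl⟩ := exists_dodecad hd
  open CfsgLib.GolayConfig CfsgLib.Mathieu Cfsg in
  have hcnt : ∀ k n : ℕ, (codeSel fun M => wt M == 12 && wt (cD &&& M) == k).length = n →
      {d' : Finset GolayPt | d' ∈ dodecads ∧ (σ • setOf24 cD ∩ d').card = k}.ncard = n := by
    intro k n hn
    rw [ncard_transport σ (fun s => s ∈ dodecads ∧ (setOf24 cD ∩ s).card = k) _ fun s =>
      and_congr (smul_mem_wordsOfWeight_iff hσ 12 s) (by rw [card_smul_inter])]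
    have e : {s | s ∈ dodecads ∧ (setOf24 cD ∩ s).card = k} =
        {s | s ∈ supports (golayCode : Set (GolayPt → ZMod 2)) ∧
          (s.card = 12 ∧ (setOf24 cD ∩ s).card = k)} := by
      ext s; exact and_assoc
    rw [e]
    exact ncard_codeSet (fun M => by
      rw [Bool.and_eq_true, beq_iff_eq, beq_iff_eq, ← card_setOf24, ← card_setOf24, setOf24_and]) hn
  refine ⟨fun d' hd' hne => ?_, hcnt 4 495 (by decide +kernel), hcnt 6 1584 (by decide +kernel),
    hcnt 8 495 (by decide +kernel)⟩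
  open CfsgLib.GolayConfig CfsgLib.Mathieu in
  have key : (codeSel fun M => wt M == 12).all (fun M => M == cD || wt (cD &&& M) == 0 ||
      wt (cD &&& M) == 4 || wt (cD &&& M) == 6 || wt (cD &&& M) == 8) = true := by decide +kernel
  open CfsgLib.GolayConfig CfsgLib.Mathieu in
  obtain ⟨hs, hc⟩ := smul_inv_mem_dodecads hσ hd'
  open CfsgLib.GolayConfig CfsgLib.Mathieu in
  have h := List.all_eq_true.1 key _ (mem_codeSel hs (by rw [beq_iff_eq, wt_maskOf]; exact hc))
  simp only [Bool.or_eq_true, beq_iff_eq, CfsgLib.GolayConfig.wt_and_maskOf] at h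
  rw [← CfsgLib.GolayConfig.card_smul_inter σ, smul_inv_smul] at h
  rcases h with (((h | h) | h) | h) | h
  · refine absurd ?_ hne
    conv_lhs => rw [← smul_inv_smul σ d']
    rw [← CfsgLib.Mathieu.setOf24_maskOf (σ⁻¹ • d'), h]
  · exact Or.inl h
  · exact Or.inr (Or.inl h)
  · exact Or.inr (Or.inr (Or.inl h))
  · exact Or.inr (Or.inr (Or.inr h))

end Cfsg.Agent.S1560
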