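import Cfsg.Statements.S1568
import Cfsg.Agent.Leech.Count

set_option autoImplicit false
open scoped Pointwise
open Cfsg

namespace Cfsg.Agent.S1568

open CfsgLib.Leech

theorem parity_eq {x : GolayPt → ℤ} (hx : x ∈ leechLattice) (p q : GolayPt) :
    (2 : ℤ) ∣ x p - x q := by
  obtain ⟨m, a, ha, -, -⟩ := mem_leech.mp hx
  rw [ha p, ha q]
  exact ⟨a p - a q, by ring⟩

theorem sq_le {x : GolayPt → ℤ} (h : sqNorm x = 48) (p : GolayPt) : x p ^ 2 ≤ 48 := by
  rw [← h]
  exact Finset.single_le_sum (f := fun q => x q ^ 2) (fun q _ => sq_nonneg _) (Finset.mem_univ p)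

theorem abs_le_six {x : GolayPt → ℤ} (h : sqNorm x = 48) (p : GolayPt) : |x p| ≤ 6 := by
  have h1 : x p ^ 2 < 7 ^ 2 := by have := sq_le h p; omega
  rw [sq_lt_sq, abs_of_nonneg (by norm_num : (0 : ℤ) ≤ 7)] at h1
  omega

theorem one_le_sq {v : ℤ} (h : v ≠ 0) : 1 ≤ v ^ 2 := by
  have := pow_ne_zero 2 h
  have := sq_nonneg v
  omega

def qA (v : ℤ) : Bool := decide (v = 0 ∨ v = 2 ∨ v = -2)
def qB (v : ℤ) : Bool := decide (v = 1 ∨ v = -1 ∨ v = 3 ∨ v = -3)
def qE (v : ℤ) : Bool := decide (v = 0 ∨ v = 2 ∨ v = -2 ∨ v = 4 ∨ v = -4)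
def qD (v : ℤ) : Bool := decide (v = 1 ∨ v = -1 ∨ v = 5 ∨ v = -5)

theorem count_eq {Q : ℤ → Bool} {c : ℕ}
    (h : countVal 8 [] (List.range 24) (fun _ => Q) Q 48 0 keys0 +
      countVal 8 [] (List.range 24) (fun _ => Q) Q 48 4 keys0 = c) :
    {x : GolayPt → ℤ | x ∈ leechLattice ∧ sqNorm x = 48 ∧ ∀ p, Q (x p) = true}.ncard = c := by
  have := ncard_shell Q 48 (by norm_num)
  rw [h] at this
  simpa using this

theorem sum_split (f : GolayPt → ℤ) (s : Finset GolayPt) :
    ∑ p, f p = ∑ p ∈ s, f p + ∑ p ∈ Finset.univ \ s, f p :=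
  (add_comm _ _).trans (Finset.sum_sdiff (Finset.subset_univ s)) |>.symm

theorem three_shape {x : GolayPt → ℤ} (hx : x ∈ leechLattice) (hn : sqNorm x = 48) :
    (∃ i j k, i ≠ j ∧ j ≠ k ∧ i ≠ k ∧ |x i| = 3 ∧ |x j| = 3 ∧ |x k| = 3) ↔
      ∀ p, qB (x p) = true := by
  have h24 : (Finset.univ : Finset GolayPt).card = 24 := by simp [ZMod.card]
  constructor
  · rintro ⟨i, j, k, hij, hjk, hik, hi, hj, hk⟩
    have hodd : ∀ p, x p ≠ 0 := fun p e => by
      obtain ⟨c, hc⟩ := parity_eq hx p i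
      have := abs_eq (by norm_num : (0 : ℤ) ≤ 3) |>.mp hi
      omega
    have hsplit := sum_split (fun p => x p ^ 2) {i, j, k}
    have e3 : ∑ p ∈ ({i, j, k} : Finset GolayPt), x p ^ 2 = 27 := by
      rw [Finset.sum_insert (by simp [hij, hik]), Finset.sum_insert (by simp [hjk]),
        Finset.sum_singleton, ← sq_abs (x i), ← sq_abs (x j), ← sq_abs (x k), hi, hj, hk]
      norm_num
    have hcard : (Finset.univ \ ({i, j, k} : Finset GolayPt)).card = 21 := by
      rw [Finset.card_sdiff_of_subset (Finset.subset_univ _), h24,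
        Finset.card_eq_three.mpr ⟨i, j, k, hij, hik, hjk, rfl⟩]
    have hzero : ∑ p ∈ Finset.univ \ ({i, j, k} : Finset GolayPt), (x p ^ 2 - 1) = 0 := by
      simp only [Finset.sum_sub_distrib, Finset.sum_const, hcard, nsmul_eq_mul]
      simp only [sqNorm] at hn
      omega
    intro p
    by_cases hp : p ∈ ({i, j, k} : Finset GolayPt)
    · have h3 : |x p| = 3 := by
        simp only [Finset.mem_insert, Finset.mem_singleton] at hp
        rcases hp with rfl | rfl | rfl <;> assumption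
      rcases (abs_eq (by norm_num : (0 : ℤ) ≤ 3)).mp h3 with e | e <;> simp [qB, e]
    · have := (Finset.sum_eq_zero_iff_of_nonneg fun q _ => sub_nonneg.mpr (one_le_sq (hodd q))).mp
        hzero p (by simp only [Finset.mem_sdiff, Finset.mem_univ, true_and]; exact hp)
      have e1 : x p ^ 2 = 1 := by omega
      rcases sq_eq_one_iff.mp e1 with e | e <;> simp [qB, e]
  · intro h
    have hv : ∀ p, x p ^ 2 = if |x p| = 3 then 9 else 1 := fun p => by
      have := h p
      simp only [qB, decide_eq_true_eq] at this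
      rcases this with e | e | e | e <;> simp [e]
    have h3 : (Finset.univ.filter fun p => |x p| = 3).card = 3 := by
      simp only [sqNorm, hv, Finset.sum_ite, Finset.sum_const, nsmul_eq_mul] at hn
      have := Finset.card_filter_add_card_filter_not
        (s := (Finset.univ : Finset GolayPt)) fun p => |x p| = 3
      omega
    obtain ⟨i, j, k, hij, hik, hjk, e⟩ := Finset.card_eq_three.mp h3
    have hm : ∀ p ∈ ({i, j, k} : Finset GolayPt), |x p| = 3 := fun p hp => by
      rw [← e] at hp; exact (Finset.mem_filter.mp hp).2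
    exact ⟨i, j, k, hij, hjk, hik, hm i (by simp), hm j (by simp), hm k (by simp)⟩

theorem five_shape {x : GolayPt → ℤ} (hx : x ∈ leechLattice) (hn : sqNorm x = 48) :
    (∃ i, |x i| = 5) ↔ ∀ p, qD (x p) = true := by
  have h24 : (Finset.univ : Finset GolayPt).card = 24 := by simp [ZMod.card]
  constructor
  · rintro ⟨i, hi⟩
    have hodd : ∀ p, x p ≠ 0 := fun p e => by
      obtain ⟨c, hc⟩ := parity_eq hx p i
      have := abs_eq (by norm_num : (0 : ℤ) ≤ 5) |>.mp hi
      omega
    have hzero : ∑ p ∈ Finset.univ.erase i, (x p ^ 2 - 1) = 0 := by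
      have e := Finset.add_sum_erase Finset.univ (fun p => x p ^ 2) (Finset.mem_univ i)
      simp only [Finset.sum_sub_distrib, Finset.sum_const, Finset.card_erase_of_mem (Finset.mem_univ i),
        h24, nsmul_eq_mul]
      simp only [sqNorm] at hn
      have : x i ^ 2 = 25 := by rw [← sq_abs, hi]; norm_num
      omega
    intro p
    by_cases hp : p = i
    · subst hp
      rcases (abs_eq (by norm_num : (0 : ℤ) ≤ 5)).mp hi with e | e <;> simp [qD, e]
    · have := (Finset.sum_eq_zero_iff_of_nonneg fun q _ => sub_nonneg.mpr (one_le_sq (hodd q))).mp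
        hzero p (by simp [hp])
      have e1 : x p ^ 2 = 1 := by omega
      rcases sq_eq_one_iff.mp e1 with e | e <;> simp [qD, e]
  · intro h
    by_contra hne
    push Not at hne
    have hv : ∀ p, x p ^ 2 = 1 := fun p => by
      have := h p
      simp only [qD, decide_eq_true_eq] at this
      rcases this with e | e | e | e
      · simp [e]
      · simp [e]
      · exact absurd (by simp [e]) (hne p)
      · exact absurd (by simp [e]) (hne p)
    simp [sqNorm, hv, ZMod.card] at hn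

theorem four_shape {x : GolayPt → ℤ} (hx : x ∈ leechLattice) (hn : sqNorm x = 48) :
    (∃ i, |x i| = 4) ↔ (∀ p, qE (x p) = true) ∧ ¬ ∀ p, qA (x p) = true := by
  constructor
  · rintro ⟨i, hi⟩
    have hi' := (abs_eq (by norm_num : (0 : ℤ) ≤ 4)).mp hi
    refine ⟨fun p => ?_, fun h => ?_⟩
    · obtain ⟨c, hc⟩ := parity_eq hx p i
      simp only [qE, decide_eq_true_eq]
      by_cases hp : p = i
      · subst hp; omega
      · have h2 : x p ^ 2 + x i ^ 2 ≤ 48 := by
          rw [← hn, ← Finset.sum_pair (f := fun q => x q ^ 2) hp]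
          exact Finset.sum_le_univ_sum_of_nonneg fun q => sq_nonneg _
        have h6 := abs_le_six hn p
        rw [← sq_abs (x i), hi] at h2
        rw [abs_le] at h6
        have h6' : x p ≠ 6 ∧ x p ≠ -6 := ⟨fun e => by rw [e] at h2; omega, fun e => by rw [e] at h2; omega⟩
        omega
    · have := h i
      simp only [qA, decide_eq_true_eq] at this
      omega
  · rintro ⟨hE, hA⟩
    push Not at hA
    obtain ⟨p, hp⟩ := hA
    have := hE p
    simp only [qE, qA, decide_eq_true_eq] at this hp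
    exact ⟨p, by rcases this with e | e | e | e | e <;> simp_all⟩

/-- Norm 48 vectors by shape. -/
theorem result : {x : Cfsg.GolayPt → ℤ | x ∈ Cfsg.leechLattice ∧ Cfsg.sqNorm x = 48 ∧ ∀ i, x i = 0 ∨ x i = 2 ∨ x i = -2}.ncard = 5275648 ∧ {x : Cfsg.GolayPt → ℤ | x ∈ Cfsg.leechLattice ∧ Cfsg.sqNorm x = 48 ∧ ∃ i j k, i ≠ j ∧ j ≠ k ∧ i ≠ k ∧ |x i| = 3 ∧ |x j| = 3 ∧ |x k| = 3}.ncard = 8290304 ∧ {x : Cfsg.GolayPt → ℤ | x ∈ Cfsg.leechLattice ∧ Cfsg.sqNorm x = 48 ∧ ∃ i, |x i| = 4}.ncard = 3108864 ∧ {x : Cfsg.GolayPt → ℤ | x ∈ Cfsg.leechLattice ∧ Cfsg.sqNorm x = 48 ∧ ∃ i, |x i| = 5}.ncard = 98304 := by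
  have cA := count_eq (Q := qA) (c := 5275648) (by decide +kernel)
  have cB := count_eq (Q := qB) (c := 8290304) (by decide +kernel)
  have cE := count_eq (Q := qE) (c := 8384512) (by decide +kernel)
  have cD := count_eq (Q := qD) (c := 98304) (by decide +kernel)
  refine ⟨?_, ?_, ?_, ?_⟩
  · rw [← cA]
    congr 1
    ext x
    simp only [Set.mem_setOf_eq, qA, decide_eq_true_eq]
  · rw [← cB]
    congr 1
    ext x
    simp only [Set.mem_setOf_eq]
    exact and_congr_right fun hx => and_congr_right fun hn => three_shape hx hn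
  · have hfin : {x : GolayPt → ℤ | x ∈ leechLattice ∧ sqNorm x = 48 ∧ ∀ p, qE (x p) = true}.Finite :=
      Set.finite_of_ncard_ne_zero (by rw [cE]; norm_num)
    have hsub : {x : GolayPt → ℤ | x ∈ leechLattice ∧ sqNorm x = 48 ∧ ∀ p, qA (x p) = true} ⊆
        {x : GolayPt → ℤ | x ∈ leechLattice ∧ sqNorm x = 48 ∧ ∀ p, qE (x p) = true} := by
      rintro x ⟨hx, hn, h⟩
      refine ⟨hx, hn, fun p => ?_⟩
      have := h p
      simp only [qA, qE, decide_eq_true_eq] at this ⊢
      omega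
    have h := Set.ncard_diff hsub (hfin.subset hsub)
    rw [cE, cA] at h
    refine (congrArg Set.ncard ?_).trans (h.trans (by norm_num))
    ext x
    simp only [Set.mem_setOf_eq, Set.mem_diff]
    constructor
    · rintro ⟨hx, hn, h4⟩
      obtain ⟨h1, h2⟩ := (four_shape hx hn).mp h4
      exact ⟨⟨hx, hn, h1⟩, fun h3 => h2 h3.2.2⟩
    · rintro ⟨⟨hx, hn, h1⟩, h2⟩
      exact ⟨hx, hn, (four_shape hx hn).mpr ⟨h1, fun h3 => h2 ⟨hx, hn, h3⟩⟩⟩
  · rw [← cD]
    congr 1
    ext x
    simp only [Set.mem_setOf_eq]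
    exact and_congr_right fun hx => and_congr_right fun hn => five_shape hx hn

end Cfsg.Agent.S1568
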