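import Cfsg.Statements.S1578
import Cfsg.Agent.Leech.InnerCounts

set_option autoImplicit false
open Cfsg

namespace Cfsg.Agent.S1578

/-- A lattice vector of customary norm 6 is the sum of an unordered pair of minimal vectors in exactly 276 ways (552 ordered summands). -/
theorem result (u : ↥Cfsg.leechLattice) (hu : Cfsg.sqNorm (u : Cfsg.GolayPt → ℤ) = 48) : {v : ↥Cfsg.leechLattice | Cfsg.sqNorm (v : Cfsg.GolayPt → ℤ) = 32 ∧ Cfsg.sqNorm ((u - v) : Cfsg.GolayPt → ℤ) = 32}.ncard = 552 := by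
  have key := (CfsgLib.Leech.ncard_dot48 u.2 hu 32 (by norm_num) 24 (by norm_num)
    (by norm_num)).trans CfsgLib.Leech.dotCount48_24
  rw [← key, ← Set.ncard_image_of_injective _ Subtype.val_injective]
  have hexp : ∀ x : GolayPt → ℤ, sqNorm ((u : GolayPt → ℤ) - x) =
      sqNorm (u : GolayPt → ℤ) - 2 * dotInt (u : GolayPt → ℤ) x + sqNorm x := by
    intro x
    simp only [sqNorm, dotInt, Pi.sub_apply, Finset.mul_sum, ← Finset.sum_sub_distrib,
      ← Finset.sum_add_distrib]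
    exact Finset.sum_congr rfl fun i _ => by ring
  congr 1
  ext x
  simp only [Set.mem_image, Set.mem_setOf_eq]
  constructor
  · rintro ⟨v, ⟨h1, h2⟩, rfl⟩
    rw [hexp, hu, h1] at h2
    exact ⟨v.2, h1, by omega⟩
  · rintro ⟨hx, h1, h2⟩
    refine ⟨⟨x, hx⟩, ⟨h1, ?_⟩, rfl⟩
    rw [hexp, hu, h1, h2]; norm_num

end Cfsg.Agent.S1578
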