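import Cfsg.Statements.S1581
import Cfsg.Agent.Leech.ConfigMain

set_option autoImplicit false
open Cfsg

namespace Cfsg.Agent.S1581

/-- The McLaughlin group acts with rank 3 and subdegrees 1, 112, 162 on its 275 points: the point stabiliser has two orbits on the remaining points, distinguished by customary inner product 1 or 2 with the fixed point. -/
theorem result (u v x : ↥Cfsg.leechLattice) (hu : Cfsg.sqNorm (u : Cfsg.GolayPt → ℤ) = 48) (hv : Cfsg.sqNorm (v : Cfsg.GolayPt → ℤ) = 32 ∧ Cfsg.sqNorm ((u - v) : Cfsg.GolayPt → ℤ) = 32) (hx : x ∈ {x : ↥Cfsg.leechLattice | Cfsg.sqNorm (x : Cfsg.GolayPt → ℤ) = 32 ∧ Cfsg.sqNorm ((u - x) : Cfsg.GolayPt → ℤ) = 32 ∧ Cfsg.dotInt (v : Cfsg.GolayPt → ℤ) (x : Cfsg.GolayPt → ℤ) = 16}) : {y : ↥Cfsg.leechLattice | y ∈ {x : ↥Cfsg.leechLattice | Cfsg.sqNorm (x : Cfsg.GolayPt → ℤ) = 32 ∧ Cfsg.sqNorm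 ((u - x) : Cfsg.GolayPt → ℤ) = 32 ∧ Cfsg.dotInt (v : Cfsg.GolayPt → ℤ) (x : Cfsg.GolayPt → ℤ) = 16} ∧ Cfsg.dotInt (x : Cfsg.GolayPt → ℤ) (y : Cfsg.GolayPt → ℤ) = 8}.ncard = 112 ∧ {y : ↥Cfsg.leechLattice | y ∈ {x : ↥Cfsg.leechLattice | Cfsg.sqNorm (x : Cfsg.GolayPt → ℤ) = 32 ∧ Cfsg.sqNorm ((u - x) : Cfsg.GolayPt → ℤ) = 32 ∧ Cfsg.dotInt (v : Cfsg.GolayPt → ℤ) (x : Cfsg.GolayPt → ℤ) = 16} ∧ y ≠ x ∧ Cfsg.dotInt (x : Cfsg.GolayPt → ℤ) (y : Cfsg.GolayPt → ℤ) = 16}.ncard = 162 ∧ ∀ y ∈ {x : ↥Cfsg.leechLattice | Cfsg.sqNorm (x : Cfsg.GolayPt → ℤ) = 32 ∧ Cfsg.sqNorm ((u - x) : Cfsg.GolayPt → ℤ) = 32 ∧ Cfsg.dotInt (v : Cfsg.GolayPt → ℤ) (x : Cfsg.GolayPt → ℤ) = 16}, ∀ y' ∈ {x : ↥Cfsg.leechLattice | Cfsg.sqNorm (x : Cfsg.GolayPt → ℤ) = 32 ∧ Cfsg.sqNorm ((u - x) : Cfsg.GolayPt → ℤ) = 32 ∧ Cfsg.dotInt (v : Cfsg.GolayPt → ℤ) (x : Cfsg.GolayPt →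 ℤ) = 16}, y ≠ x → y' ≠ x → Cfsg.dotInt (x : Cfsg.GolayPt → ℤ) (y : Cfsg.GolayPt → ℤ) = Cfsg.dotInt (x : Cfsg.GolayPt → ℤ) (y' : Cfsg.GolayPt → ℤ) → ∃ g : ↥Cfsg.Co0, g • u = u ∧ g • v = v ∧ g • x = x ∧ g • y = y' := by
  obtain ⟨g, gu, gv, gx, hset, hdot⟩ := CfsgLib.Leech.mcl_rank3 u v x hu hv hx
  have hxv : ((g • x : ↥Cfsg.leechLattice) : Cfsg.GolayPt → ℤ) = CfsgLib.Leech.baseX := by rw [gx]; rfl
  refine ⟨?_, ?_, fun y hy y' hy' hne hne' he => ?_⟩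
  · refine (CfsgLib.Leech.ncard_transport g _ (fun z : ↥Cfsg.leechLattice =>
        (z : Cfsg.GolayPt → ℤ) ∈ CfsgLib.Leech.set275 ∧
          Cfsg.dotInt CfsgLib.Leech.baseX (z : Cfsg.GolayPt → ℤ) = 8)
        (fun y => and_congr (hset y) (by rw [hdot y]))).trans
      ((CfsgLib.Leech.ncard_val (fun z => z ∈ CfsgLib.Leech.set275 ∧
        Cfsg.dotInt CfsgLib.Leech.baseX z = 8) fun z hz => hz.1.1.1).trans ?_)
    exact CfsgLib.Leech.ncard_mcl_8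
  · refine (CfsgLib.Leech.ncard_transport g _ (fun z : ↥Cfsg.leechLattice =>
        (z : Cfsg.GolayPt → ℤ) ∈ CfsgLib.Leech.set275 ∧
          Cfsg.dotInt CfsgLib.Leech.baseX (z : Cfsg.GolayPt → ℤ) = 16)
        (fun y => ?_)).trans
      ((CfsgLib.Leech.ncard_val (fun z => z ∈ CfsgLib.Leech.set275 ∧
        Cfsg.dotInt CfsgLib.Leech.baseX z = 16) fun z hz => hz.1.1.1).trans ?_)
    swap
    · exact CfsgLib.Leech.ncard_mcl_16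
    constructor
    · rintro ⟨h1, -, h3⟩
      exact ⟨(hset y).1 h1, (hdot y).symm.trans h3⟩
    · rintro ⟨h1, h2⟩
      refine ⟨(hset y).2 h1, fun e => ?_, (hdot y).trans h2⟩
      rw [e, hxv] at h2
      revert h2
      decide +kernel
  · obtain ⟨h, hD, hA, hX, e⟩ := CfsgLib.Leech.within_mcl ((hset y).1 hy) ((hset y').1 hy')
      (fun e => hne (smul_left_cancel g (Subtype.ext (e.trans hxv.symm))))
      (by rw [← hdot y, ← hdot y']; exact he)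
    exact ⟨g⁻¹ * h * g, by rw [mul_smul, mul_smul, gu, hD, ← gu, inv_smul_smul],
      by rw [mul_smul, mul_smul, gv, hA, ← gv, inv_smul_smul],
      by rw [mul_smul, mul_smul, gx, hX, ← gx, inv_smul_smul],
      by rw [mul_smul, mul_smul, e, inv_smul_smul]⟩

end Cfsg.Agent.S1581
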