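import Cfsg.Statements.S1584
import Cfsg.Agent.Leech.ConfigMain

set_option autoImplicit false
open Cfsg

namespace Cfsg.Agent.S1584

/-- The Higman–Sims group acts with rank 3 and subdegrees 1, 22, 77 on its 100 points, the orbits of a point stabiliser being distinguished by customary inner product 1 with the fixed point. -/
theorem result (v w x : ↥Cfsg.leechLattice) (hv : Cfsg.sqNorm (v : Cfsg.GolayPt → ℤ) = 48) (hw : Cfsg.sqNorm (w : Cfsg.GolayPt → ℤ) = 48) (hvw : Cfsg.dotInt (v : Cfsg.GolayPt → ℤ) (w : Cfsg.GolayPt → ℤ) = -32) (hx : x ∈ {x : ↥Cfsg.leechLattice | Cfsg.sqNorm (x : Cfsg.GolayPt → ℤ) = 32 ∧ Cfsg.dotInt (v : Cfsg.GolayPt → ℤ) (x : Cfsg.GolayPt → ℤ) = 24 ∧ Cfsg.dotInt (w : Cfsg.GolayPt → ℤ) (x : Cfsg.GolayPt → ℤ) = -24}) : {y : ↥Cfsg.leechLattice | y ∈ {x : ↥Cfsg.leechLattice | Cfsg.sqNorm (x : Cfsg.GolayPt → ℤ)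 = 32 ∧ Cfsg.dotInt (v : Cfsg.GolayPt → ℤ) (x : Cfsg.GolayPt → ℤ) = 24 ∧ Cfsg.dotInt (w : Cfsg.GolayPt → ℤ) (x : Cfsg.GolayPt → ℤ) = -24} ∧ Cfsg.dotInt (x : Cfsg.GolayPt → ℤ) (y : Cfsg.GolayPt → ℤ) = 8}.ncard = 22 ∧ {y : ↥Cfsg.leechLattice | y ∈ {x : ↥Cfsg.leechLattice | Cfsg.sqNorm (x : Cfsg.GolayPt → ℤ) = 32 ∧ Cfsg.dotInt (v : Cfsg.GolayPt → ℤ) (x : Cfsg.GolayPt → ℤ) = 24 ∧ Cfsg.dotInt (w : Cfsg.GolayPt → ℤ) (x : Cfsg.GolayPt → ℤ) = -24} ∧ y ≠ x ∧ Cfsg.dotInt (x : Cfsg.GolayPt → ℤ) (y : Cfsg.GolayPt → ℤ) ≠ 8}.ncard = 77 ∧ ∀ y ∈ {x : ↥Cfsg.leechLattice | Cfsg.sqNorm (x : Cfsg.GolayPt → ℤ) = 32 ∧ Cfsg.dotInt (v : Cfsg.GolayPt → ℤ) (x : Cfsg.GolayPt → ℤ) = 24 ∧ Cfsg.dotInt (w : Cfsg.GolayPt → ℤ) (x : Cfsg.GolayPt → ℤ) = -24}, ∀ y' ∈ {x : ↥Cfsg.leechLattice | Cfsg.sqNorm (x : Cfsg.GolayPt → ℤ) = 32 ∧ Cfsg.dotInt (v : Cfsg.GolayPt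 → ℤ) (x : Cfsg.GolayPt → ℤ) = 24 ∧ Cfsg.dotInt (w : Cfsg.GolayPt → ℤ) (x : Cfsg.GolayPt → ℤ) = -24}, y ≠ x → y' ≠ x → (Cfsg.dotInt (x : Cfsg.GolayPt → ℤ) (y : Cfsg.GolayPt → ℤ) = 8 ↔ Cfsg.dotInt (x : Cfsg.GolayPt → ℤ) (y' : Cfsg.GolayPt → ℤ) = 8) → ∃ g : ↥Cfsg.Co0, g • v = v ∧ g • w = w ∧ g • x = x ∧ g • y = y' := by
  obtain ⟨g, gv, gw, gx, hset, hdot⟩ := CfsgLib.Leech.hs_rank3 v w x hv hw hvw hx
  have hxv : ((g • x : ↥Cfsg.leechLattice) : Cfsg.GolayPt → ℤ) = CfsgLib.Leech.baseA := by rw [gx]; rfl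
  refine ⟨?_, ?_, fun y hy y' hy' hne hne' he => ?_⟩
  · refine (CfsgLib.Leech.ncard_transport g _ (fun z : ↥Cfsg.leechLattice =>
        (z : Cfsg.GolayPt → ℤ) ∈ CfsgLib.Leech.set100 ∧
          Cfsg.dotInt CfsgLib.Leech.baseA (z : Cfsg.GolayPt → ℤ) = 8)
        (fun y => and_congr (hset y) (by rw [hdot y]))).trans
      ((CfsgLib.Leech.ncard_val (fun z => z ∈ CfsgLib.Leech.set100 ∧
        Cfsg.dotInt CfsgLib.Leech.baseA z = 8) fun z hz => hz.1.1.1).trans ?_)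
    exact CfsgLib.Leech.ncard_hs_8
  · refine (CfsgLib.Leech.ncard_transport g _ (fun z : ↥Cfsg.leechLattice =>
        (z : Cfsg.GolayPt → ℤ) ∈ CfsgLib.Leech.set100 ∧
          (Cfsg.dotInt CfsgLib.Leech.baseA (z : Cfsg.GolayPt → ℤ) ≠ 8 ∧
            Cfsg.dotInt CfsgLib.Leech.baseA (z : Cfsg.GolayPt → ℤ) ≠ 32))
        (fun y => ?_)).trans
      ((CfsgLib.Leech.ncard_val (fun z => z ∈ CfsgLib.Leech.set100 ∧
        (Cfsg.dotInt CfsgLib.Leech.baseA z ≠ 8 ∧ Cfsg.dotInt CfsgLib.Leech.baseA z ≠ 32))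
        fun z hz => hz.1.1.1).trans ?_)
    swap
    · exact CfsgLib.Leech.ncard_hs_other
    constructor
    · rintro ⟨h1, h2, h3⟩
      refine ⟨(hset y).1 h1, by rw [← hdot y]; exact h3, fun e => h2 ?_⟩
      refine smul_left_cancel g (Subtype.ext (Eq.trans ?_ hxv.symm))
      exact (CfsgLib.Leech.eq_of_dot32 CfsgLib.Leech.base_facts.2.1.2 ((hset y).1 h1).1.2.1 e).symm
    · rintro ⟨h1, h2, h3⟩
      refine ⟨(hset y).2 h1, fun e => ?_, by rw [hdot y]; exact h2⟩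
      rw [e, hxv] at h3
      revert h3
      decide +kernel
  · obtain ⟨h, hD, hW, hA, e⟩ := CfsgLib.Leech.within_hs ((hset y).1 hy) ((hset y').1 hy')
      (fun e => hne (smul_left_cancel g (Subtype.ext (e.trans hxv.symm))))
      (fun e => hne' (smul_left_cancel g (Subtype.ext (e.trans hxv.symm))))
      (by rw [← hdot y, ← hdot y']; exact he)
    exact ⟨g⁻¹ * h * g, by rw [mul_smul, mul_smul, gv, hD, ← gv, inv_smul_smul],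
      by rw [mul_smul, mul_smul, gw, hW, ← gw, inv_smul_smul],
      by rw [mul_smul, mul_smul, gx, hA, ← gx, inv_smul_smul],
      by rw [mul_smul, mul_smul, e, inv_smul_smul]⟩

end Cfsg.Agent.S1584
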