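import Cfsg.Statements.S1586
-- import your own Cfsg.Agent.* helpers here

import Cfsg.Agent.Mathieu.HigmanSims

set_option autoImplicit false
open Cfsg

namespace Cfsg.Agent.S1586

/-- The Higman–Sims graph built from an S(3, 6, 22) has exactly 88704000 automorphisms. -/
theorem result {α : Type*} [Fintype α] [DecidableEq α] (hα : Fintype.card α = 22) {B : Set (Finset α)} (hB : Cfsg.IsSteinerSystem 3 6 B) : Nat.card (Cfsg.pointBlockGraph B ≃g Cfsg.pointBlockGraph B) = 88704000 := by
  classical
  obtain ⟨e, he⟩ := CfsgLib.Mathieu.S22.unique22 hα (Fintype.card_fin 22) hB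
    CfsgLib.Mathieu.HigmanSims.stdBlocks_isSteinerSystem
  obtain ⟨f, -, -, hf⟩ := CfsgLib.Mathieu.HigmanSims.exists_vertexEquiv e he
  let A := CfsgLib.Mathieu.HigmanSims.autGraph
  let E : (Cfsg.pointBlockGraph B ≃g Cfsg.pointBlockGraph B) ≃ A :=
    { toFun := fun φ => ⟨f.symm.trans (φ.toEquiv.trans f), fun u v => by
        apply Bool.eq_iff_iff.2
        simp only [Equiv.trans_apply]
        rw [hf, ← (show f (f.symm u) = u from f.apply_symm_apply u),
          ← (show f (f.symm v) = v from f.apply_symm_apply v), hf, f.symm_apply_apply,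
          f.symm_apply_apply]
        exact φ.map_adj_iff⟩
      invFun := fun σ => ⟨f.trans (σ.1.trans f.symm), fun {v w} => by
        rw [← hf, ← hf]
        simp only [Equiv.trans_apply, Equiv.apply_symm_apply]
        rw [σ.2]⟩
      left_inv := fun φ => RelIso.ext fun v => by simp
      right_inv := fun σ => Subtype.ext (Equiv.ext fun v => by simp) }
  rw [Nat.card_congr E]
  let s : A →* ℤˣ := Equiv.Perm.sign.comp A.subtype
  have hk : Nat.card s.ker = Nat.card CfsgLib.Mathieu.HigmanSims.hs := by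
    refine Nat.card_congr ⟨fun x => ⟨x.1.1, x.1.2, Equiv.Perm.mem_alternatingGroup.2 x.2⟩,
      fun x => ⟨⟨x.1, x.2.1⟩, Equiv.Perm.mem_alternatingGroup.1 x.2.2⟩, fun _ => rfl, fun _ => rfl⟩
  have hs : s.range = ⊤ := by
    refine eq_top_iff.2 fun u _ => ?_
    obtain ⟨hA, hsgn, -⟩ := CfsgLib.Mathieu.HigmanSims.oddFix_mem
    rcases Int.units_eq_one_or u with rfl | rfl
    · exact one_mem _
    · refine MonoidHom.mem_range.2 ⟨⟨_, hA⟩, ?_⟩
      simp only [s, MonoidHom.comp_apply, Subgroup.coe_subtype]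
      exact hsgn
  have h := Subgroup.index_mul_card s.ker
  rw [Subgroup.index_ker, hs, Subgroup.card_top, hk, CfsgLib.Mathieu.HigmanSims.card_hs] at h
  rw [← h, Nat.card_eq_fintype_card, Fintype.card_units_int]

end Cfsg.Agent.S1586
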