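import Cfsg.Statements.S1595
import Cfsg.Agent.Leech.Steiner12

set_option autoImplicit false
open Cfsg

namespace Cfsg.Agent.S1595

/-- Leech triangle of S(5, 6, 12): blocks meet in 0, 2, 3 or 4 points, and a block is met exactly in a given 2-, 3- or 4-subset by 3, 2, 3 blocks respectively. -/
theorem result {α : Type*} [Fintype α] [DecidableEq α] (hα : Fintype.card α = 12) {B : Set (Finset α)} (hB : Cfsg.IsSteinerSystem 5 6 B) (b : Finset α) (hb : b ∈ B) : (∀ c ∈ B, c ≠ b → (b ∩ c).card = 0 ∨ (b ∩ c).card = 2 ∨ (b ∩ c).card = 3 ∨ (b ∩ c).card = 4) ∧ ∀ s ⊆ b, (s.card = 2 → {c : Finset α | c ∈ B ∧ b ∩ c = s}.ncard = 3) ∧ (s.card = 3 → {c : Finset α | c ∈ B ∧ b ∩ c = s}.ncard = 2) ∧ (s.card = 4 → {c : Finset α | c ∈ B ∧ b ∩ c = s}.ncard = 3) := by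
  refine ⟨fun c hc hne => ?_, fun s hs => ?_⟩
  · obtain ⟨h5, -, -, -, h1⟩ := CfsgLib.Leech.Steiner12.block_inter hα hB hb (b ∩ c)
      Finset.inter_subset_left
    have hmem : c ∈ {c' : Finset α | c' ∈ B ∧ b ∩ c' = b ∩ c} := ⟨hc, rfl⟩
    have hpos : 0 < {c' : Finset α | c' ∈ B ∧ b ∩ c' = b ∩ c}.ncard :=
      (Set.ncard_pos (Set.toFinite _)).mpr ⟨c, hmem⟩
    have hle : (b ∩ c).card ≤ b.card := Finset.card_le_card Finset.inter_subset_left
    have h6 : (b ∩ c).card ≠ 6 := by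
      intro h
      have hb6 := hB.1 b hb
      have hc6 := hB.1 c hc
      have e1 := Finset.eq_of_subset_of_card_le (Finset.inter_subset_left : b ∩ c ⊆ b) (by omega)
      have e2 := Finset.eq_of_subset_of_card_le (Finset.inter_subset_right : b ∩ c ⊆ c) (by omega)
      exact hne (e2.symm.trans e1)
    rw [hB.1 b hb] at hle
    have h5' : (b ∩ c).card ≠ 5 := fun h => by rw [h5 h] at hpos; omega
    have h1' : (b ∩ c).card ≠ 1 := fun h => by rw [h1 h] at hpos; omega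
    omega
  · obtain ⟨-, h4, h3, h2, -⟩ := CfsgLib.Leech.Steiner12.block_inter hα hB hb s hs
    exact ⟨h2, h3, h4⟩

end Cfsg.Agent.S1595
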