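import Cfsg.Statements.S1596
-- import your own Cfsg.Agent.* helpers here

import Cfsg.Agent.GolayConfig.QuartetClasses
import Cfsg.Agent.GolayConfig.ThreePoints

set_option autoImplicit false
open scoped Pointwise
open Cfsg

namespace Cfsg.Agent.S1596

/-- A quartet of a dodecad is determined by any two of its triples: two disjoint triples uniting to a hexad extend to exactly one quartet. -/
theorem result (d : Finset Cfsg.GolayPt) (hd : d ∈ Cfsg.dodecads) (t u : Finset Cfsg.GolayPt) (ht : t.card = 3) (hu : u.card = 3) (htu : Disjoint t u) (hh : t ∪ u ∈ Cfsg.hexadsOn d) : ∃! Q : Finset (Finset Cfsg.GolayPt), Q ∈ Cfsg.quartets d ∧ t ∈ Q ∧ u ∈ Q := by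
  classical
  obtain ⟨a, b, c, hab, hac, hbc, rfl⟩ := Finset.card_eq_three.1 ht
  obtain ⟨h6, o, ho, hod⟩ := hh
  have hsub : ∀ x ∈ ({a, b, c} : Finset Cfsg.GolayPt) ∪ u, x ∈ d := fun x hx => by
    rw [← hod] at hx
    exact (Finset.mem_inter.1 hx).2
  obtain ⟨σ, hσ, rfl, rfl, rfl, rfl⟩ := CfsgLib.GolayConfig.exists_dodecad_three hd
    (hsub a (by simp)) (hsub b (by simp)) (hsub c (by simp)) hab hac hbc
  open CfsgLib.GolayConfig CfsgLib.Mathieu in
  have htt : ({σ (pt 0), σ (pt cQd), σ (pt cRd)} : Finset Cfsg.GolayPt) = σ • setOf24 7 := by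
    have e : setOf24 7 = ({pt 0, pt cQd, pt cRd} : Finset Cfsg.GolayPt) := by decide +kernel
    rw [e, ← image_eq_smul]
    simp [Finset.image_insert]
  open CfsgLib.GolayConfig CfsgLib.Mathieu in
  have main : ∀ u' : Finset Cfsg.GolayPt, u'.card = 3 → Disjoint (setOf24 7) u' →
      setOf24 7 ∪ u' ∈ Cfsg.hexadsOn (setOf24 cD) →
      ∃! Q : Finset (Finset Cfsg.GolayPt), Q ∈ Cfsg.quartets (setOf24 cD) ∧ setOf24 7 ∈ Q ∧ u' ∈ Q := by
    intro u' h3 hdis hhex
    obtain ⟨h6', o', ho', hod'⟩ := hhex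
    have hu'd : u' ⊆ setOf24 cD := fun x hx =>
      (Finset.mem_inter.1 (hod'.symm ▸ Finset.mem_union_right _ hx : x ∈ o' ∩ setOf24 cD)).2
    have htri := maskOf_mem_triples h3 hu'd
    have hhx := maskOf_mem_hexList (h := setOf24 7 ∪ u') ⟨h6', o', ho', hod'⟩
    have hor : 7 ||| maskOf u' = maskOf (setOf24 7 ∪ u') := setOf24_inj
      (Nat.or_lt_two_pow (by norm_num) (maskOf_lt _)) (maskOf_lt _)
      (by rw [setOf24_or, setOf24_maskOf, setOf24_maskOf])
    have hand : 7 &&& maskOf u' = 0 := setOf24_inj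
      (Nat.lt_of_le_of_lt Nat.and_le_left (by norm_num)) (Nat.two_pow_pos _)
      (by rw [setOf24_and, setOf24_maskOf, setOf24_zero, Finset.disjoint_iff_inter_eq_empty.1 hdis])
    have hdec : tripleData.all (fun M => !((7 &&& M == 0) && hexData.contains (7 ||| M)) ||
        (quartetData.filter fun L => L.contains 7 && L.contains M).length == 1) = true := by
      decide +kernel
    rw [triples_eq] at htri
    rw [hexList_eq, ← hor] at hhx
    have h1 := List.all_eq_true.1 hdec _ htri
    rw [hand, beq_self_eq_true, Bool.true_and, List.contains_iff_mem.2 hhx, Bool.not_true,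
      Bool.false_or, beq_iff_eq, List.length_eq_one_iff] at h1
    obtain ⟨L, hL⟩ := h1
    have hLmem : L ∈ quartetData ∧ 7 ∈ L ∧ maskOf u' ∈ L := by
      have := List.mem_filter.1 (hL ▸ List.mem_singleton.2 rfl :
        L ∈ quartetData.filter fun L => L.contains 7 && L.contains (maskOf u'))
      simp only [Bool.and_eq_true, List.contains_iff_mem] at this
      exact this
    refine ⟨famCoding.dec L, ⟨(isQuartetCode_sound (List.all_eq_true.1 quartetData_code L hLmem.1)).1,
      List.mem_toFinset.2 (List.mem_map.2 ⟨_, hLmem.2.1, rfl⟩),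
      List.mem_toFinset.2 (List.mem_map.2 ⟨_, hLmem.2.2, setOf24_maskOf _⟩)⟩, ?_⟩
    rintro Q ⟨hQ, h7, hu'⟩
    obtain ⟨L', hL', rfl⟩ := exists_mem_qSearch hQ
    have hlt := (isQuartetCode_sound (List.all_eq_true.1 quartetData_code L' hL')).2
    obtain ⟨N, hN, hN7⟩ := List.mem_map.1 (List.mem_toFinset.1 h7)
    obtain ⟨N', hN', hNu⟩ := List.mem_map.1 (List.mem_toFinset.1 hu')
    rw [setOf24_inj (hlt N hN) (by norm_num) hN7] at hN
    rw [setOf24_inj (hlt N' hN') (maskOf_lt u') (hNu.trans (setOf24_maskOf u').symm)] at hN'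
    have : L' ∈ quartetData.filter fun L => L.contains 7 && L.contains (maskOf u') :=
      List.mem_filter.2 ⟨hL', by simp [List.contains_iff_mem, hN, hN']⟩
    rw [hL, List.mem_singleton] at this
    rw [this]
  rw [htt] at hod h6 htu ⊢
  have hu' := main (σ⁻¹ • u) ((Finset.card_smul_finset _ _).trans hu)
    (by
      have := (Finset.disjoint_image (f := fun x => σ⁻¹ • x) (MulAction.injective σ⁻¹)).2 htu
      rw [← Finset.smul_finset_def, ← Finset.smul_finset_def, inv_smul_smul] at this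
      exact this)
    ⟨by rw [← Finset.card_smul_finset σ, Finset.smul_finset_union, smul_inv_smul]; exact h6,
      σ⁻¹ • o, (CfsgLib.GolayConfig.smul_mem_wordsOfWeight_iff (inv_mem hσ) 8 o).2 ho, by
      rw [← MulAction.injective σ |>.eq_iff (a := _ ∩ _), Finset.smul_finset_inter,
        Finset.smul_finset_union, smul_inv_smul, smul_inv_smul]
      exact hod⟩
  obtain ⟨Q, ⟨hQ, h7, hq⟩, huniq⟩ := hu'
  refine ⟨σ • Q, ⟨CfsgLib.GolayConfig.smul_mem_quartets hσ hQ, Finset.smul_mem_smul_finset h7,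
    ?_⟩, ?_⟩
  · have := Finset.smul_mem_smul_finset (a := σ) hq
    rwa [smul_inv_smul] at this
  · rintro R ⟨hR, h7', hq'⟩
    rw [← smul_inv_smul σ R]
    congr 1
    refine huniq _ ⟨?_, ?_, ?_⟩
    · rw [← CfsgLib.GolayConfig.smul_mem_quartets_iff hσ, smul_inv_smul]; exact hR
    · have := Finset.smul_mem_smul_finset (a := σ⁻¹) h7'
      rwa [inv_smul_smul] at this
    · exact Finset.smul_mem_smul_finset hq'

end Cfsg.Agent.S1596
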