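import Cfsg.Statements.S1597
import Cfsg.Agent.GolayConfig.QuartetOrbits

set_option autoImplicit false
open scoped Pointwise
open Cfsg

open CfsgLib.Mathieu CfsgLib.GolayConfig

namespace Cfsg.Agent.S1597

/-- A dodecad has 220 quartets and its stabiliser is transitive on them. -/
theorem result (d : Finset Cfsg.GolayPt) (hd : d ∈ Cfsg.dodecads) : (Cfsg.quartets d).ncard = 220 ∧ ∀ Q ∈ Cfsg.quartets d, ∀ Q' ∈ Cfsg.quartets d, ∃ g : Equiv.Perm Cfsg.GolayPt, g ∈ Cfsg.M24 ∧ g • d = d ∧ g • Q = Q' := by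
  refine ⟨ncard_quartets_of_mem hd, fun Q hQ Q' hQ' => ?_⟩
  obtain ⟨σ, hσ, hσd, hσQ⟩ := exists_dodecad_quartet hd hQ
  obtain ⟨τ, hτ, hτd, hτQ⟩ := exists_dodecad_quartet hd hQ'
  refine ⟨τ * σ⁻¹, mul_mem hτ (inv_mem hσ), ?_, ?_⟩
  · rw [mul_smul, show σ⁻¹ • d = setOf24 cD by rw [← hσd, inv_smul_smul], hτd]
  · rw [mul_smul, show σ⁻¹ • Q = famCoding.dec cQuartet by rw [← hσQ, inv_smul_smul], hτQ]

end Cfsg.Agent.S1597
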