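import Cfsg.Statements.S1598
import Cfsg.Agent.GolayConfig.QuartetStab

set_option autoImplicit false
open scoped Pointwise
open Cfsg

open CfsgLib.Mathieu CfsgLib.GolayConfig

namespace Cfsg.Agent.S1598

/-- A quartet stabiliser inside the dodecad stabiliser has order 432, a normal subgroup of order 9 with quotient GL(2, 3), and is transitive on the dodecad. -/
theorem result (d : Finset Cfsg.GolayPt) (hd : d ∈ Cfsg.dodecads) (Q : Finset (Finset Cfsg.GolayPt)) (hQ : Q ∈ Cfsg.quartets d) : Nat.card ↥(MulAction.stabilizer Cfsg.M24 d ⊓ MulAction.stabilizer Cfsg.M24 Q) = 432 ∧ (∃ (N : Subgroup ↥(MulAction.stabilizer Cfsg.M24 d ⊓ MulAction.stabilizer Cfsg.M24 Q)) (_ : N.Normal), Nat.card N = 9 ∧ Nonempty (↥(MulAction.stabilizer Cfsg.M24 d ⊓ MulAction.stabilizer Cfsg.M24 Q) ⧸ N ≃* GL (Fin 2) (ZMod 3))) ∧ ∀ p ∈ d, ∀ q ∈ d, ∃ g ∈ (MulAction.stabilizer Cfsg.M24 d ⊓ MulAction.stabilizer Cfsg.M24 Q),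 ((g : ↥Cfsg.M24) : Equiv.Perm Cfsg.GolayPt) p = q := by
  obtain ⟨σ, hσ, hσd, hσQ⟩ := exists_dodecad_quartet hd hQ
  let e := subConj hσ HQ_le (quartet_conj_mem hσ hσd hσQ)
  obtain ⟨φ, hφ⟩ := exists_HQ_onto
  let ψ := φ.comp e.toMonoidHom
  have hψ : Function.Surjective ψ := hφ.comp e.surjective
  have hA := (Nat.card_congr e.toEquiv).trans card_HQ
  refine ⟨hA, ⟨ψ.ker, inferInstance, ?_, ⟨QuotientGroup.quotientKerEquivOfSurjective ψ hψ⟩⟩,
    fun p hp q hq => ?_⟩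
  · have h := Subgroup.index_mul_card ψ.ker
    rw [hA, Subgroup.index_ker, MonoidHom.range_eq_top.2 hψ, Subgroup.card_top, card_GL23] at h
    omega
  · have hmem : ∀ x ∈ d, Moves HQ (pt 0) (σ⁻¹ x) := fun x hx =>
      moves_pointSet gensQ 0 trQpt (fun i => hasPt i cD) (by decide +kernel)
        (by rw [hasPt_iff (idx_lt _), pt_idx, ← smul_mem_iff σ, perm_apply_inv, hσd]; exact hx)
    obtain ⟨τ, hτ, hτe⟩ := moves_conj ((hmem p hp).symm.trans (hmem q hq) :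
      Moves HQ (σ⁻¹ • p) (σ⁻¹ • q))
    exact ⟨(e.symm ⟨τ, hτ⟩).1, (e.symm ⟨τ, hτ⟩).2, hτe⟩

end Cfsg.Agent.S1598
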