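import Cfsg.Statements.S1599
import Cfsg.Agent.GolayConfig.QuartetClasses

set_option autoImplicit false
open scoped Pointwise
open Cfsg

open CfsgLib.Mathieu CfsgLib.GolayConfig

namespace Cfsg.Agent.S1599

/-- A quartet stabiliser has five orbits on the quartets of its dodecad, of sizes 1, 12, 27, 72, 108. -/
theorem result (d : Finset Cfsg.GolayPt) (hd : d ∈ Cfsg.dodecads) (Q : Finset (Finset Cfsg.GolayPt)) (hQ : Q ∈ Cfsg.quartets d) : ∃ X₁ ∈ Cfsg.quartets d, ∃ X₂ ∈ Cfsg.quartets d, ∃ X₃ ∈ Cfsg.quartets d, ∃ X₄ ∈ Cfsg.quartets d, (MulAction.orbit ↥(MulAction.stabilizer Cfsg.M24 d ⊓ MulAction.stabilizer Cfsg.M24 Q) X₁).ncard = 12 ∧ (MulAction.orbit ↥(MulAction.stabilizer Cfsg.M24 d ⊓ MulAction.stabilizer Cfsg.M24 Q) X₂).ncard = 27 ∧ (MulAction.orbit ↥(MulAction.stabilizer Cfsg.M24 d ⊓ MulAction.stabilizer Cfsg.M24 Q) X₃).ncard = 72 ∧ (MulAction.orbit ↥(MulAction.stabilizer Cfsg.M24 d ⊓ MulAction.stabilizer Cfsg.M24 Q)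 X₄).ncard = 108 ∧ Cfsg.quartets d = {Q} ∪ MulAction.orbit ↥(MulAction.stabilizer Cfsg.M24 d ⊓ MulAction.stabilizer Cfsg.M24 Q) X₁ ∪ MulAction.orbit ↥(MulAction.stabilizer Cfsg.M24 d ⊓ MulAction.stabilizer Cfsg.M24 Q) X₂ ∪ MulAction.orbit ↥(MulAction.stabilizer Cfsg.M24 d ⊓ MulAction.stabilizer Cfsg.M24 Q) X₃ ∪ MulAction.orbit ↥(MulAction.stabilizer Cfsg.M24 d ⊓ MulAction.stabilizer Cfsg.M24 Q) X₄ := by
  obtain ⟨σ, hσ, hσd, hσQ⟩ := exists_dodecad_quartet hd hQ
  let A := MulAction.stabilizer M24 d ⊓ MulAction.stabilizer M24 Q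
  have horb : ∀ y : Finset (Finset GolayPt), MulAction.orbit ↥A (σ • y) = (fun z => σ • z) '' MulAction.orbit ↥HQ y :=
    orbit_subConj hσ HQ_le (quartet_conj_mem hσ hσd hσQ)
  have hmem : ∀ {c}, c ∈ qClasses → σ • famCoding.dec c.2.1 ∈ quartets d := fun hc =>
    hσd ▸ smul_mem_quartets hσ (qClass_rep hc).1
  have hn : ∀ {c}, c ∈ qClasses →
      (MulAction.orbit ↥A (σ • famCoding.dec c.2.1)).ncard = c.2.2.2 := fun hc => by
    rw [horb, Set.ncard_image_of_injective _ (MulAction.injective σ), ncard_orbit_HQ hc]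
  have c1 : (90, r1599_1, tr1599_1, 12) ∈ qClasses := by simp [qClasses]
  have c2 : (68, r1599_2, tr1599_2, 27) ∈ qClasses := by simp [qClasses]
  have c3 : (54, r1599_3, tr1599_3, 72) ∈ qClasses := by simp [qClasses]
  have c4 : (26, r1599_4, tr1599_4, 108) ∈ qClasses := by simp [qClasses]
  refine ⟨_, hmem c1, _, hmem c2, _, hmem c3, _, hmem c4, hn c1, hn c2, hn c3, hn c4, ?_⟩
  ext R
  constructor
  · intro hR
    have hR' : σ⁻¹ • R ∈ quartets (setOf24 cD) :=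
      (smul_mem_quartets_iff hσ).1 (by rw [smul_inv_smul, hσd]; exact hR)
    obtain ⟨c, hc, ho⟩ := qClass_total hR'
    have h : R ∈ MulAction.orbit ↥A (σ • famCoding.dec c.2.1) := by
      rw [horb]; exact ⟨_, ho, smul_inv_smul σ R⟩
    simp only [qClasses, List.mem_cons, List.not_mem_nil, or_false] at hc
    rcases hc with rfl | rfl | rfl | rfl | rfl
    · rw [orbit_HQ_self, Set.mem_singleton_iff] at ho
      exact Or.inl (Or.inl (Or.inl (Or.inl (by
        rw [Set.mem_singleton_iff, ← hσQ, ← ho, smul_inv_smul]))))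
    · exact Or.inl (Or.inl (Or.inl (Or.inr h)))
    · exact Or.inl (Or.inl (Or.inr h))
    · exact Or.inl (Or.inr h)
    · exact Or.inr h
  · have key : ∀ {c}, c ∈ qClasses →
        R ∈ MulAction.orbit ↥A (σ • famCoding.dec c.2.1) → R ∈ quartets d := fun hc h => by
      rw [horb, orbit_HQ hc] at h
      obtain ⟨R', hR', rfl⟩ := h
      exact hσd ▸ smul_mem_quartets hσ hR'.1
    rintro ((((rfl | h) | h) | h) | h)
    · exact hQ
    · exact key c1 h
    · exact key c2 h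
    · exact key c3 h
    · exact key c4 h

end Cfsg.Agent.S1599
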