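import Cfsg.Statements.S1600
import Cfsg.Agent.GolayConfig.ThreePoints

set_option autoImplicit false
open scoped Pointwise
open Cfsg

open CfsgLib.Mathieu CfsgLib.GolayConfig

namespace Cfsg.Agent.S1600

/-- The pointwise stabiliser of three points of a dodecad inside the dodecad stabiliser (order 72) is transitive on the complementary dodecad. -/
theorem result (d : Finset Cfsg.GolayPt) (hd : d ∈ Cfsg.dodecads) (p q r : Cfsg.GolayPt) (hp : p ∈ d) (hq : q ∈ d) (hr : r ∈ d) (hpq : p ≠ q) (hpr : p ≠ r) (hqr : q ≠ r) : Nat.card ↥(MulAction.stabilizer Cfsg.M24 d ⊓ MulAction.stabilizer Cfsg.M24 p ⊓ MulAction.stabilizer Cfsg.M24 q ⊓ MulAction.stabilizer Cfsg.M24 r) = 72 ∧ ∀ x ∉ d, ∀ y ∉ d, ∃ g ∈ (MulAction.stabilizer Cfsg.M24 d ⊓ MulAction.stabilizer Cfsg.M24 p ⊓ MulAction.stabilizer Cfsg.M24 q ⊓ MulAction.stabilizer Cfsg.M24 r), ((g : ↥Cfsg.M24) : Equiv.Perm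 Cfsg.GolayPt) x = y := by
  obtain ⟨σ, hσ, hσd, hσp, hσq, hσr⟩ := exists_dodecad_three hd hp hq hr hpq hpr hqr
  have h : ∀ g : ↥M24, g ∈ MulAction.stabilizer M24 d ⊓ MulAction.stabilizer M24 p ⊓
      MulAction.stabilizer M24 q ⊓ MulAction.stabilizer M24 r ↔
      σ⁻¹ * (g : Equiv.Perm GolayPt) * σ ∈ H9 := fun g => by
    constructor
    · rintro ⟨⟨⟨h1, h2⟩, h3⟩, h4⟩
      exact ⟨⟨⟨⟨M24.mul_mem (M24.mul_mem (M24.inv_mem hσ) g.2) hσ, (stab_conj_iff hσd).2 h1⟩,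
        (stab_conj_iff (x := pt 0) hσp).2 h2⟩, (stab_conj_iff (x := pt cQd) hσq).2 h3⟩,
        (stab_conj_iff (x := pt cRd) hσr).2 h4⟩
    · rintro ⟨⟨⟨⟨-, h1⟩, h2⟩, h3⟩, h4⟩
      exact ⟨⟨⟨(stab_conj_iff hσd).1 h1, (stab_conj_iff (x := pt 0) hσp).1 h2⟩,
        (stab_conj_iff (x := pt cQd) hσq).1 h3⟩, (stab_conj_iff (x := pt cRd) hσr).1 h4⟩
  refine ⟨(Nat.card_congr (subConj hσ H9_le h).toEquiv).trans card_H9, fun x hx y hy => ?_⟩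
  have hout : ∀ z ∉ d, σ⁻¹ z ∉ setOf24 cD := fun z hz => by
    rw [← smul_mem_iff σ, perm_apply_inv, hσd]; exact hz
  obtain ⟨τ, hτ, hτe⟩ := moves_conj (((moves_H9_out (hout x hx)).symm.trans
    (moves_H9_out (hout y hy))) : Moves H9 (σ⁻¹ • x) (σ⁻¹ • y))
  exact ⟨((subConj hσ H9_le h).symm ⟨τ, hτ⟩).1, ((subConj hσ H9_le h).symm ⟨τ, hτ⟩).2, hτe⟩

end Cfsg.Agent.S1600
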