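import Cfsg.Statements.S1601
import Cfsg.Agent.GolayConfig.PairStab

set_option autoImplicit false
open scoped Pointwise
open Cfsg

open CfsgLib.Mathieu CfsgLib.GolayConfig

namespace Cfsg.Agent.S1601

/-- In the 3-transitive action of the smallest Mathieu group on the complementary dodecad, a point stabiliser is isomorphic to PSL(2, 11). -/
theorem result (d : Finset Cfsg.GolayPt) (hd : d ∈ Cfsg.dodecads) (p q : Cfsg.GolayPt) (hp : p ∈ d) (hq : q ∉ d) : Nonempty (↥(MulAction.stabilizer Cfsg.M24 d ⊓ MulAction.stabilizer Cfsg.M24 p ⊓ MulAction.stabilizer Cfsg.M24 q) ≃* Matrix.ProjectiveSpecialLinearGroup (Fin 2) (ZMod 11)) := by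
  obtain ⟨σ, hσ, hσd, hσp⟩ := exists_dodecad_point hd hp
  have hq' : σ⁻¹ q ∉ setOf24 cD := by
    rw [← smul_mem_iff σ, perm_apply_inv, hσd]; exact hq
  obtain ⟨τ, hτ, hτq⟩ := moves_H11_out hq'
  obtain ⟨e⟩ := exists_HL_iso
  have hd' : (σ * τ) • setOf24 cD = d := by
    rw [mul_smul, show τ • setOf24 cD = setOf24 cD from hτ.1.2, hσd]
  have hp' : (σ * τ) (pt 0) = p := by
    rw [Equiv.Perm.mul_apply, show τ (pt 0) = pt 0 from hτ.2, hσp]
  have hy : (σ * τ) • ptCoding.dec (23 : ℕ) = q := by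
    show σ (τ (pt 23)) = q
    rw [show τ (pt 23) = σ⁻¹ q from hτq, perm_apply_inv]
  exact ⟨(subConj (mul_mem hσ hτ.1.1) (K := HL) (inf_le_left.trans H11_le)
    (fun g => out_conj_mem ptCoding (23 : ℕ) (mul_mem hσ hτ.1.1) hd' hp' hy g)).trans e⟩

end Cfsg.Agent.S1601
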