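import Cfsg.Statements.S1602
import Cfsg.Agent.GolayConfig.PairStab

set_option autoImplicit false
open scoped Pointwise
open Cfsg

open CfsgLib.Mathieu CfsgLib.GolayConfig

namespace Cfsg.Agent.S1602

/-- In the 12-point action of the smallest Mathieu group the setwise stabiliser of a pair is isomorphic to the symmetric group of degree 5. -/
theorem result (d : Finset Cfsg.GolayPt) (hd : d ∈ Cfsg.dodecads) (p q q' : Cfsg.GolayPt) (hp : p ∈ d) (hq : q ∉ d) (hq' : q' ∉ d) (hqq' : q ≠ q') : Nonempty (↥(MulAction.stabilizer Cfsg.M24 d ⊓ MulAction.stabilizer Cfsg.M24 p ⊓ MulAction.stabilizer Cfsg.M24 ({q, q'} : Finset Cfsg.GolayPt)) ≃* Equiv.Perm (Fin 5)) := by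
  obtain ⟨σ, hσ, hσd, hσp⟩ := exists_dodecad_point hd hp
  have hs : (σ⁻¹ • ({q, q'} : Finset GolayPt)).card = 2 := by
    rw [Finset.card_smul_finset, Finset.card_pair hqq']
  have hout : ∀ x ∈ σ⁻¹ • ({q, q'} : Finset GolayPt), x ∉ setOf24 cD := by
    intro x hx
    rw [← smul_mem_iff σ, smul_inv_smul] at hx
    rw [← smul_mem_iff σ, hσd]
    rcases Finset.mem_insert.1 hx with h | h
    · rw [h]; exact hq
    · rw [Finset.mem_singleton.1 h]; exact hq'
  obtain ⟨τ, hτ, hτq⟩ := moves_H11_pair hs hout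
  obtain ⟨e⟩ := exists_HS_iso
  have hd' : (σ * τ) • setOf24 cD = d := by
    rw [mul_smul, show τ • setOf24 cD = setOf24 cD from hτ.1.2, hσd]
  have hp' : (σ * τ) (pt 0) = p := by
    rw [Equiv.Perm.mul_apply, show τ (pt 0) = pt 0 from hτ.2, hσp]
  have hy : (σ * τ) • setCoding.dec cOut2 = ({q, q'} : Finset GolayPt) := by
    rw [mul_smul, show τ • setCoding.dec cOut2 = σ⁻¹ • ({q, q'} : Finset GolayPt) from hτq,
      smul_inv_smul]
  exact ⟨(subConj (mul_mem hσ hτ.1.1) (K := HS) (inf_le_left.trans H11_le)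
    (fun g => out_conj_mem setCoding cOut2 (mul_mem hσ hτ.1.1) hd' hp' hy g)).trans e⟩

end Cfsg.Agent.S1602
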