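import Cfsg.Statements.S1603
import Cfsg.Agent.GolayConfig.InvolutionCentralizer

set_option autoImplicit false
open scoped Pointwise
open Cfsg

open CfsgLib.Mathieu CfsgLib.GolayConfig

namespace Cfsg.Agent.S1603

/-- Involution centralisers in the smallest Mathieu group are isomorphic to GL(2, 3). -/
theorem result (d : Finset Cfsg.GolayPt) (hd : d ∈ Cfsg.dodecads) (p : Cfsg.GolayPt) (hp : p ∈ d) (x : ↥(MulAction.stabilizer Cfsg.M24 d ⊓ MulAction.stabilizer Cfsg.M24 p)) (hx : orderOf x = 2) : Nonempty (↥(Subgroup.centralizer ({x} : Set ↥(MulAction.stabilizer Cfsg.M24 d ⊓ MulAction.stabilizer Cfsg.M24 p))) ≃* GL (Fin 2) (ZMod 3)) := by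
  obtain ⟨σ, hσ, hσd, hσp⟩ := exists_dodecad_point hd hp
  have h : ∀ g : ↥M24, g ∈ MulAction.stabilizer M24 d ⊓ MulAction.stabilizer M24 p ↔
      σ⁻¹ * (g : Equiv.Perm GolayPt) * σ ∈ H11 := fun g => by
    constructor
    · rintro ⟨h1, h2⟩
      exact ⟨⟨M24.mul_mem (M24.mul_mem (M24.inv_mem hσ) g.2) hσ, (stab_conj_iff hσd).2 h1⟩,
        (stab_conj_iff (x := pt 0) hσp).2 h2⟩
    · rintro ⟨⟨-, h1⟩, h2⟩
      exact ⟨(stab_conj_iff hσd).1 h1, (stab_conj_iff (x := pt 0) hσp).1 h2⟩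
  exact centralizer_iso_GL23 ((subConj hσ H11_le h).trans (MulEquiv.subgroupCongr H11_eq)) x hx

end Cfsg.Agent.S1603
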