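import Cfsg.Statements.S1604
import Cfsg.Agent.GolayConfig.OctadOrbits

set_option autoImplicit false
open scoped Pointwise
open Cfsg

open CfsgLib.Mathieu CfsgLib.GolayConfig

namespace Cfsg.Agent.S1604

/-- A hexad stabiliser in the two-point stabiliser has orbits of sizes 1, 16, 60 on the 77 hexads: the 16 hexads disjoint from it and the 60 meeting it in two points. -/
theorem result (p q : Cfsg.GolayPt) (hpq : p ≠ q) (o o' o'' : Finset Cfsg.GolayPt) (ho : o ∈ Cfsg.octads) (ho' : o' ∈ Cfsg.octads) (ho'' : o'' ∈ Cfsg.octads) (hp : p ∈ o ∧ p ∈ o' ∧ p ∈ o'') (hq : q ∈ o ∧ q ∈ o' ∧ q ∈ o'') (h : (o ∩ o').card = (o ∩ o'').card) : {x : Finset Cfsg.GolayPt | x ∈ Cfsg.octads ∧ p ∈ x ∧ q ∈ x ∧ (o ∩ x).card = 2}.ncard = 16 ∧ {x : Finset Cfsg.GolayPt | x ∈ Cfsg.octads ∧ p ∈ x ∧ q ∈ x ∧ (o ∩ x).card = 4}.ncard = 60 ∧ ∃ g : Equiv.Perm Cfsg.GolayPt, g ∈ Cfsg.M24 ∧ g p = p ∧ g q = q ∧ g • o = o ∧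 g • o' = o'' := by
  obtain ⟨σ, hσ, hp', hq', hoo⟩ := exists_pair_octad hpq ho hp.1 hq.1
  have hcount : ∀ k n : ℕ, (codeSel fun M =>
      isOct M && (hasPt 23 M && (hasPt 0 M && wt (cOctPQ &&& M) == k))).length = n →
      {x : Finset GolayPt | x ∈ octads ∧ p ∈ x ∧ q ∈ x ∧ (o ∩ x).card = k}.ncard = n := by
    intro k n hn
    rw [ncard_transport σ
      (fun s => s ∈ octads ∧ pt 23 ∈ s ∧ pt 0 ∈ s ∧ (setOf24 cOctPQ ∩ s).card = k) _
      (fun s => by rw [← hp', ← hq', ← hoo, smul_mem_iff, smul_mem_iff, card_smul_inter, octads,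
        smul_mem_wordsOfWeight_iff hσ]), setOf_octads_eq]
    exact ncard_codeSet (fun M => by
      simp only [Bool.and_eq_true, beq_iff_eq, isOct_iff, hasPt_iff (by norm_num : 23 < 24),
        hasPt_iff (by norm_num : 0 < 24), ← card_setOf24, setOf24_and]) hn
  refine ⟨hcount 2 16 (by decide +kernel), hcount 4 60 (by decide +kernel), ?_⟩
  have key : ∀ u ∈ octads, p ∈ u → q ∈ u →
      (isOct (maskOf (σ⁻¹ • u)) && (hasPt 23 (maskOf (σ⁻¹ • u)) && hasPt 0 (maskOf (σ⁻¹ • u)))) = true ∧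
        wt (cOctPQ &&& maskOf (σ⁻¹ • u)) = (o ∩ u).card := by
    intro u hu hpu hqu
    simp only [Bool.and_eq_true]
    refine ⟨⟨isOct_maskOf ((smul_mem_wordsOfWeight_iff (inv_mem hσ) 8 u).2 hu),
      (hasPt_maskOf (by norm_num) _).2 ?_, (hasPt_maskOf (by norm_num) _).2 ?_⟩, ?_⟩
    · rw [← smul_mem_iff σ, smul_inv_smul, hp']; exact hpu
    · rw [← smul_mem_iff σ, smul_inv_smul, hq']; exact hqu
    · rw [wt_and_maskOf, ← card_smul_inter σ, hoo, smul_inv_smul]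
  obtain ⟨τ, hτ, e⟩ := moves_conj (moves_classes hO22
    [(r1604_2, tr1604_2), (r1604_4, tr1604_4), (r1604_8, tr1604_8)]
    (fun M => isOct M && (hasPt 23 M && hasPt 0 M)) (fun M => wt (cOctPQ &&& M)) (by decide +kernel)
    (by decide +kernel) (smul_mem_supports (inv_mem hσ) ho'.1) (smul_mem_supports (inv_mem hσ) ho''.1)
    (key o' ho' hp.2.1 hq.2.1).1 (key o'' ho'' hp.2.2 hq.2.2).1
    ((key o' ho' hp.2.1 hq.2.1).2.trans (h.trans (key o'' ho'' hp.2.2 hq.2.2).2.symm)))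
  exact ⟨σ * τ * σ⁻¹, mul_mem (mul_mem hσ hτ.1.1.1) (inv_mem hσ),
    conj_fix (α := GolayPt) hp' hτ.1.1.2, conj_fix (α := GolayPt) hq' hτ.1.2, conj_fix hoo hτ.2, e⟩

end Cfsg.Agent.S1604
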