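import Cfsg.Statements.S1605
import Cfsg.Agent.GolayConfig.OctadOrbits

set_option autoImplicit false
open scoped Pointwise
open Cfsg

open CfsgLib.Mathieu CfsgLib.GolayConfig

namespace Cfsg.Agent.S1605

/-- The two-point stabiliser acts on the 176 octads through the first point avoiding the second with rank 3 and subdegrees 1, 70, 105 (intersections 8, 2, 4). -/
theorem result (p q : Cfsg.GolayPt) (hpq : p ≠ q) : {x : Finset Cfsg.GolayPt | (x ∈ Cfsg.octads ∧ p ∈ x ∧ q ∉ x)}.ncard = 176 ∧ (∀ o o' : Finset Cfsg.GolayPt, (o ∈ Cfsg.octads ∧ p ∈ o ∧ q ∉ o) → (o' ∈ Cfsg.octads ∧ p ∈ o' ∧ q ∉ o') → ∃ g : Equiv.Perm Cfsg.GolayPt, g ∈ Cfsg.M24 ∧ g p = p ∧ g q = q ∧ g • o = o') ∧ ∀ o : Finset Cfsg.GolayPt, (o ∈ Cfsg.octads ∧ p ∈ o ∧ q ∉ o) → {x : Finset Cfsg.GolayPt | (x ∈ Cfsg.octads ∧ p ∈ x ∧ q ∉ x) ∧ (o ∩ x).card = 2}.ncard = 70 ∧ {x : Finset Cfsg.GolayPt | (x ∈ Cfsg.octads ∧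 p ∈ x ∧ q ∉ x) ∧ (o ∩ x).card = 4}.ncard = 105 ∧ ∀ o' o'' : Finset Cfsg.GolayPt, (o' ∈ Cfsg.octads ∧ p ∈ o' ∧ q ∉ o') → (o'' ∈ Cfsg.octads ∧ p ∈ o'' ∧ q ∉ o'') → (o ∩ o').card = (o ∩ o'').card → ∃ g : Equiv.Perm Cfsg.GolayPt, g ∈ Cfsg.M24 ∧ g p = p ∧ g q = q ∧ g • o = o ∧ g • o' = o'' := by
  refine ⟨?_, ?_, ?_⟩
  · obtain ⟨σ, hσ, hp', hq'⟩ := exists_point_pair hpq
    rw [ncard_transport σ (fun s => s ∈ octads ∧ pt 23 ∈ s ∧ pt 0 ∉ s) _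
      (fun s => by rw [← hp', ← hq', smul_mem_iff, smul_mem_iff, octads,
        smul_mem_wordsOfWeight_iff hσ]), setOf_octads_eq]
    exact ncard_codeSet (pred := fun M => isOct M && (hasPt 23 M && !hasPt 0 M)) (fun M => by
      simp only [Bool.and_eq_true, Bool.not_eq_true', ← Bool.not_eq_true, isOct_iff,
        hasPt_iff (by norm_num : 23 < 24), hasPt_iff (by norm_num : 0 < 24)]) (by decide +kernel)
  · intro o o' ho ho'
    obtain ⟨σ, hσ, hp1, hq1, ho1⟩ := exists_pair_not_octad hpq ho.1 ho.2.1 ho.2.2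
    obtain ⟨τ, hτ, hp2, hq2, ho2⟩ := exists_pair_not_octad hpq ho'.1 ho'.2.1 ho'.2.2
    have e : ∀ {a b : GolayPt}, σ a = b → σ⁻¹ b = a := fun h => by rw [← h, perm_inv_apply]
    refine ⟨τ * σ⁻¹, mul_mem hτ (inv_mem hσ), ?_, ?_, ?_⟩
    · show τ (σ⁻¹ p) = p; rw [e hp1, hp2]
    · show τ (σ⁻¹ q) = q; rw [e hq1, hq2]
    · rw [← ho1, mul_smul, inv_smul_smul, ho2]
  intro o ho
  obtain ⟨σ, hσ, hp', hq', hoo⟩ := exists_pair_not_octad hpq ho.1 ho.2.1 ho.2.2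
  have hcount : ∀ k n : ℕ, (codeSel fun M =>
      isOct M && (hasPt 23 M && (!hasPt 0 M && wt (cOctPnQ &&& M) == k))).length = n →
      {x : Finset GolayPt | (x ∈ octads ∧ p ∈ x ∧ q ∉ x) ∧ (o ∩ x).card = k}.ncard = n := by
    intro k n hn
    simp only [and_assoc]
    rw [ncard_transport σ
      (fun s => s ∈ octads ∧ pt 23 ∈ s ∧ pt 0 ∉ s ∧ (setOf24 cOctPnQ ∩ s).card = k) _
      (fun s => by rw [← hp', ← hq', ← hoo, smul_mem_iff, smul_mem_iff, card_smul_inter, octads,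
        smul_mem_wordsOfWeight_iff hσ]), setOf_octads_eq]
    exact ncard_codeSet (fun M => by
      simp only [Bool.and_eq_true, Bool.not_eq_true', ← Bool.not_eq_true, beq_iff_eq, isOct_iff,
        hasPt_iff (by norm_num : 23 < 24), hasPt_iff (by norm_num : 0 < 24), ← card_setOf24,
        setOf24_and]) hn
  refine ⟨hcount 2 70 (by decide +kernel), hcount 4 105 (by decide +kernel), ?_⟩
  intro o' o'' h' h'' hcard
  have key : ∀ u ∈ octads, p ∈ u → q ∉ u →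
      (isOct (maskOf (σ⁻¹ • u)) && (hasPt 23 (maskOf (σ⁻¹ • u)) && !hasPt 0 (maskOf (σ⁻¹ • u)))) = true ∧
        wt (cOctPnQ &&& maskOf (σ⁻¹ • u)) = (o ∩ u).card := by
    intro u hu hpu hqu
    simp only [Bool.and_eq_true, Bool.not_eq_true']
    refine ⟨⟨isOct_maskOf ((smul_mem_wordsOfWeight_iff (inv_mem hσ) 8 u).2 hu),
      (hasPt_maskOf (by norm_num) _).2 ?_, Bool.eq_false_iff.2 fun h => hqu ?_⟩, ?_⟩
    · rw [← smul_mem_iff σ, smul_inv_smul, hp']; exact hpu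
    · have := (smul_mem_iff σ _ _).2 ((hasPt_maskOf (by norm_num) _).1 h)
      rwa [smul_inv_smul, hq'] at this
    · rw [wt_and_maskOf, ← card_smul_inter σ, hoo, smul_inv_smul]
  obtain ⟨τ, hτ, e⟩ := moves_conj (moves_classes hN22
    [(r1605_2, tr1605_2), (r1605_4, tr1605_4), (r1605_8, tr1605_8)]
    (fun M => isOct M && (hasPt 23 M && !hasPt 0 M)) (fun M => wt (cOctPnQ &&& M)) (by decide +kernel)
    (by decide +kernel) (smul_mem_supports (inv_mem hσ) h'.1.1) (smul_mem_supports (inv_mem hσ) h''.1.1)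
    (key o' h'.1 h'.2.1 h'.2.2).1 (key o'' h''.1 h''.2.1 h''.2.2).1
    ((key o' h'.1 h'.2.1 h'.2.2).2.trans (hcard.trans (key o'' h''.1 h''.2.1 h''.2.2).2.symm)))
  exact ⟨σ * τ * σ⁻¹, mul_mem (mul_mem hσ hτ.1.1.1) (inv_mem hσ),
    conj_fix (α := GolayPt) hp' hτ.1.1.2, conj_fix (α := GolayPt) hq' hτ.1.2, conj_fix hoo hτ.2, e⟩

end Cfsg.Agent.S1605
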