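import Cfsg.Statements.S1607
import Cfsg.Agent.GolayConfig.OctadOrbits

set_option autoImplicit false
open scoped Pointwise
open Cfsg

open CfsgLib.Mathieu CfsgLib.GolayConfig

namespace Cfsg.Agent.S1607

/-- The point stabiliser acts on the 253 heptads of its S(4, 7, 23) with rank 3 and subdegrees 1, 112, 140 (intersections 8, 2, 4). -/
theorem result (x : Cfsg.GolayPt) (o : Finset Cfsg.GolayPt) (ho : o ∈ Cfsg.octads) (hx : x ∈ o) : {o' : Finset Cfsg.GolayPt | o' ∈ Cfsg.octads ∧ x ∈ o' ∧ (o ∩ o').card = 2}.ncard = 112 ∧ {o' : Finset Cfsg.GolayPt | o' ∈ Cfsg.octads ∧ x ∈ o' ∧ (o ∩ o').card = 4}.ncard = 140 ∧ ∀ o' o'' : Finset Cfsg.GolayPt, o' ∈ Cfsg.octads → o'' ∈ Cfsg.octads → x ∈ o' → x ∈ o'' → (o ∩ o').card = (o ∩ o'').card → ∃ g : Equiv.Perm Cfsg.GolayPt, g ∈ Cfsg.M24 ∧ g x = x ∧ g • o = o ∧ g • o' = o'' := by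
  obtain ⟨σ, hσ, hx', ho'⟩ := exists_point_octad ho hx
  have hcount : ∀ k n : ℕ, (codeSel fun M => isOct M && (hasPt 23 M && wt (cOctX &&& M) == k)).length = n →
      {o' : Finset GolayPt | o' ∈ octads ∧ x ∈ o' ∧ (o ∩ o').card = k}.ncard = n := by
    intro k n hn
    rw [ncard_transport σ (fun s => s ∈ octads ∧ pt 23 ∈ s ∧ (setOf24 cOctX ∩ s).card = k) _
      (fun s => by rw [← hx', ← ho', smul_mem_iff, card_smul_inter, octads,
        smul_mem_wordsOfWeight_iff hσ]), setOf_octads_eq]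
    exact ncard_codeSet (fun M => by
      simp only [Bool.and_eq_true, beq_iff_eq, isOct_iff, hasPt_iff (by norm_num : 23 < 24),
        ← card_setOf24, setOf24_and]) hn
  refine ⟨hcount 2 112 (by decide +kernel), hcount 4 140 (by decide +kernel), ?_⟩
  intro o' o'' h' h'' hx1 hx2 hcard
  have key : ∀ u ∈ octads, x ∈ u →
      (isOct (maskOf (σ⁻¹ • u)) && hasPt 23 (maskOf (σ⁻¹ • u))) = true ∧
        wt (cOctX &&& maskOf (σ⁻¹ • u)) = (o ∩ u).card := by
    intro u hu hxu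
    rw [Bool.and_eq_true]
    refine ⟨⟨isOct_maskOf ((smul_mem_wordsOfWeight_iff (inv_mem hσ) 8 u).2 hu),
      (hasPt_maskOf (by norm_num) _).2 ?_⟩, ?_⟩
    · rw [← smul_mem_iff σ, smul_inv_smul, hx']; exact hxu
    · rw [wt_and_maskOf, ← card_smul_inter σ, ho', smul_inv_smul]
  obtain ⟨τ, hτ, e⟩ := moves_conj (moves_classes hO23
    [(r1607_2, tr1607_2), (r1607_4, tr1607_4), (r1607_8, tr1607_8)]
    (fun M => isOct M && hasPt 23 M) (fun M => wt (cOctX &&& M)) (by decide +kernel)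
    (by decide +kernel) (smul_mem_supports (inv_mem hσ) h'.1) (smul_mem_supports (inv_mem hσ) h''.1)
    (key o' h' hx1).1 (key o'' h'' hx2).1
    ((key o' h' hx1).2.trans (hcard.trans (key o'' h'' hx2).2.symm)))
  exact ⟨σ * τ * σ⁻¹, mul_mem (mul_mem hσ hτ.1.1) (inv_mem hσ),
    conj_fix (α := GolayPt) hx' hτ.1.2, conj_fix ho' hτ.2, e⟩

end Cfsg.Agent.S1607
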