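import Cfsg.Statements.S1608
import Cfsg.Agent.GolayConfig.OctadOrbits

set_option autoImplicit false
open scoped Pointwise
open Cfsg

open CfsgLib.Mathieu CfsgLib.GolayConfig

namespace Cfsg.Agent.S1608

/-- The point stabiliser acts on the 506 octads avoiding the point with rank 4 and subdegrees 1, 15, 210, 280, the suborbits being given by intersection size with the fixed octad. -/
theorem result (x : Cfsg.GolayPt) (o : Finset Cfsg.GolayPt) (ho : o ∈ Cfsg.octads) (hx : x ∉ o) : {o' : Finset Cfsg.GolayPt | o' ∈ Cfsg.octads ∧ x ∉ o' ∧ (o ∩ o').card = 0}.ncard = 15 ∧ {o' : Finset Cfsg.GolayPt | o' ∈ Cfsg.octads ∧ x ∉ o' ∧ (o ∩ o').card = 4}.ncard = 210 ∧ {o' : Finset Cfsg.GolayPt | o' ∈ Cfsg.octads ∧ x ∉ o' ∧ (o ∩ o').card = 2}.ncard = 280 ∧ ∀ o' o'' : Finset Cfsg.GolayPt, o' ∈ Cfsg.octads → o'' ∈ Cfsg.octads → x ∉ o' → x ∉ o'' → (o ∩ o').card = (o ∩ o'').card → ∃ g : Equiv.Perm Cfsg.GolayPt, g ∈ Cfsg.M24 ∧ g x = x ∧ g •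 o = o ∧ g • o' = o'' := by
  obtain ⟨σ, hσ, hx', ho'⟩ := exists_point_not_octad ho hx
  have hcount : ∀ k n : ℕ, (codeSel fun M => isOct M && (!hasPt 23 M && wt (cOctN &&& M) == k)).length = n →
      {o' : Finset GolayPt | o' ∈ octads ∧ x ∉ o' ∧ (o ∩ o').card = k}.ncard = n := by
    intro k n hn
    rw [ncard_transport σ (fun s => s ∈ octads ∧ pt 23 ∉ s ∧ (setOf24 cOctN ∩ s).card = k) _
      (fun s => by rw [← hx', ← ho', smul_mem_iff, card_smul_inter, octads,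
        smul_mem_wordsOfWeight_iff hσ]), setOf_octads_eq]
    exact ncard_codeSet (fun M => by
      simp only [Bool.and_eq_true, Bool.not_eq_true', ← Bool.not_eq_true, beq_iff_eq, isOct_iff,
        hasPt_iff (by norm_num : 23 < 24), ← card_setOf24, setOf24_and]) hn
  refine ⟨hcount 0 15 (by decide +kernel), hcount 4 210 (by decide +kernel),
    hcount 2 280 (by decide +kernel), ?_⟩
  intro o' o'' h' h'' hx1 hx2 hcard
  have key : ∀ u ∈ octads, x ∉ u →
      (isOct (maskOf (σ⁻¹ • u)) && !hasPt 23 (maskOf (σ⁻¹ • u))) = true ∧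
        wt (cOctN &&& maskOf (σ⁻¹ • u)) = (o ∩ u).card := by
    intro u hu hxu
    rw [Bool.and_eq_true, Bool.not_eq_true']
    refine ⟨⟨isOct_maskOf ((smul_mem_wordsOfWeight_iff (inv_mem hσ) 8 u).2 hu),
      Bool.eq_false_iff.2 fun h => hxu ?_⟩, ?_⟩
    · have := (smul_mem_iff σ _ _).2 ((hasPt_maskOf (by norm_num) _).1 h)
      rwa [smul_inv_smul, hx'] at this
    · rw [wt_and_maskOf, ← card_smul_inter σ, ho', smul_inv_smul]
  obtain ⟨τ, hτ, e⟩ := moves_conj (moves_classes hN23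
    [(r1608_0, tr1608_0), (r1608_2, tr1608_2), (r1608_4, tr1608_4), (r1608_8, tr1608_8)]
    (fun M => isOct M && !hasPt 23 M) (fun M => wt (cOctN &&& M)) (by decide +kernel)
    (by decide +kernel) (smul_mem_supports (inv_mem hσ) h'.1) (smul_mem_supports (inv_mem hσ) h''.1)
    (key o' h' hx1).1 (key o'' h'' hx2).1
    ((key o' h' hx1).2.trans (hcard.trans (key o'' h'' hx2).2.symm)))
  exact ⟨σ * τ * σ⁻¹, mul_mem (mul_mem hσ hτ.1.1) (inv_mem hσ),
    conj_fix (α := GolayPt) hx' hτ.1.2, conj_fix ho' hτ.2, e⟩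

end Cfsg.Agent.S1608
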