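import Cfsg.Statements.S1609
import Cfsg.Agent.GolayConfig.IndexM23

set_option autoImplicit false
open scoped Pointwise
open Cfsg

open CfsgLib.Mathieu CfsgLib.GolayConfig

namespace Cfsg.Agent.S1609

/-- Subgroups of index 253 in the Mathieu group of degree 23 are exactly the duad stabilisers and the heptad stabilisers. -/
theorem result (x : Cfsg.GolayPt) (H : Subgroup ↥(MulAction.stabilizer Cfsg.M24 x)) (hH : H.index = 253) : (∃ s : Finset Cfsg.GolayPt, s.card = 2 ∧ x ∉ s ∧ H = (MulAction.stabilizer Cfsg.M24 s).subgroupOf (MulAction.stabilizer Cfsg.M24 x)) ∨ ∃ o ∈ Cfsg.octads, x ∈ o ∧ H = (MulAction.stabilizer Cfsg.M24 o).subgroupOf (MulAction.stabilizer Cfsg.M24 x) := by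
  classical
  obtain ⟨π, hπ, hπx⟩ := moves_point x
  have hπx' : π (pt 23) = x := hπx
  let A := MulAction.stabilizer M24 x
  have hA : ∀ a : ↥M24, a ∈ A ↔ π⁻¹ * (a : Equiv.Perm GolayPt) * π ∈ H23 := fun a =>
    ⟨fun h => ⟨M24.mul_mem (M24.mul_mem (M24.inv_mem hπ) a.2) hπ,
      (stab_conj_iff (x := pt 23) hπx').2 h⟩, fun h => (stab_conj_iff (x := pt 23) hπx').1 h.2⟩
  let e := subConj (K := H23) hπ (inf_le_left) hA
  let f : ↥A →* Equiv.Perm GolayPt := H23.subtype.comp e.toMonoidHom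
  have hf : Function.Injective f := H23.subtype_injective.comp e.injective
  let K := H.map f
  have hKle : K ≤ Spor.M23 := by
    rintro _ ⟨a, -, rfl⟩
    exact H23_eq ▸ (e a).2
  have hKcard : Nat.card K = 40320 := by
    have h := Subgroup.index_mul_card H
    rw [hH, Nat.card_congr e.toEquiv, H23_eq, card_SporM23] at h
    rw [← Nat.card_congr (Subgroup.equivMapOfInjective H f hf).toEquiv]
    omega
  obtain ⟨σ, τ, hσ, hτ, ho, hN, hτN⟩ := m23_norm7
  obtain ⟨g, hg⟩ := exists_conj_mem (p := 7) (by norm_num) ho (m23_card_sq (by simp))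
    (H := K.subgroupOf Spor.M23) (by
      rw [Nat.card_congr (Subgroup.subgroupOfEquivOfLe hKle).toEquiv, hKcard]; norm_num)
  let H' := K.comap (MulAut.conj (g : Equiv.Perm GolayPt)).toMonoidHom
  have hH'le : H' ≤ Spor.M23 := fun h hh => by
    have h1 : (g : Equiv.Perm GolayPt) * h * (g : Equiv.Perm GolayPt)⁻¹ ∈ Spor.M23 := hKle hh
    have := mul_mem (mul_mem (inv_mem g.2) h1) g.2
    simpa [mul_assoc] using this
  have hH'card : Nat.card H' = 40320 := (comap_conj_card K _).trans hKcard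
  have hσH : σ ∈ H'.subgroupOf Spor.M23 := hg
  obtain ⟨m, hmN, hpm, hmH, hmod, hfull⟩ := exists_sylow_number (by norm_num) ho
    (m23_card_sq (by simp)) hN hσH
  rw [Nat.card_congr (Subgroup.subgroupOfEquivOfLe hH'le).toEquiv, hH'card] at hmH hmod
  have hle := Nat.le_of_dvd (by norm_num) hmN
  have hm : m = 42 := by interval_cases m <;> omega
  have hg23 : (g : Equiv.Perm GolayPt) (pt 23) = pt 23 := (mem_SporM23.1 g.2).2
  have hπg : (π * (g : Equiv.Perm GolayPt)) ∈ M24 := mul_mem hπ (SporM23_le g.2)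
  have final : ∀ c : ℕ, H' = cut H23 setCoding c →
      H = (MulAction.stabilizer M24 ((π * (g : Equiv.Perm GolayPt)) • setOf24 c)).subgroupOf A := by
    intro c hc
    ext a
    rw [Subgroup.mem_subgroupOf, MulAction.mem_stabilizer_iff]
    show a ∈ H ↔ (a.1 : Equiv.Perm GolayPt) • ((π * (g : Equiv.Perm GolayPt)) • setOf24 c) =
      (π * (g : Equiv.Perm GolayPt)) • setOf24 c
    rw [← stab_conj_iff (g := (a.1 : Equiv.Perm GolayPt))
      (rfl : (π * (g : Equiv.Perm GolayPt)) • setOf24 c = _)]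
    have key : a ∈ H ↔ (π * (g : Equiv.Perm GolayPt))⁻¹ * (a.1 : Equiv.Perm GolayPt) *
        (π * (g : Equiv.Perm GolayPt)) ∈ H' := by
      have e1 : (MulAut.conj (g : Equiv.Perm GolayPt)).toMonoidHom
          ((π * (g : Equiv.Perm GolayPt))⁻¹ * (a.1 : Equiv.Perm GolayPt) *
            (π * (g : Equiv.Perm GolayPt))) = f a := by
        show _ = π⁻¹ * (a.1 : Equiv.Perm GolayPt) * π
        simp [mul_assoc]
      rw [Subgroup.mem_comap, e1, Subgroup.mem_map_iff_mem hf]
    rw [key, hc]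
    refine ⟨fun h => h.2, fun h => ⟨⟨M24.mul_mem (M24.mul_mem (M24.inv_mem hπg) a.1.2) hπg, ?_⟩, h⟩⟩
    refine (stab_conj_iff (x := pt 23) ?_).2 a.2
    show π ((g : Equiv.Perm GolayPt) (pt 23)) = x
    rw [hg23, hπx']
  have hx : x ∉ (π * (g : Equiv.Perm GolayPt)) • setOf24 cP2 := by
    rw [← show (π * (g : Equiv.Perm GolayPt)) (pt 23) = x by
      rw [Equiv.Perm.mul_apply, hg23, hπx'], smul_mem_iff]
    decide +kernel
  rcases index_253_cases hH'le hH'card hσ hτ hσH (hfull hm hτN) with hc | hc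
  · exact Or.inl ⟨_, by rw [Finset.card_smul_finset]; decide +kernel, hx, final _ hc⟩
  · refine Or.inr ⟨_, (smul_mem_wordsOfWeight_iff hπg 8 _).2 cO7_spec.1, ?_, final _ hc⟩
    rw [← show (π * (g : Equiv.Perm GolayPt)) (pt 23) = x by
      rw [Equiv.Perm.mul_apply, hg23, hπx'], smul_mem_iff]
    exact cO7_spec.2

end Cfsg.Agent.S1609
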