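import Cfsg.Statements.S1610
import Cfsg.Agent.GolayConfig.Hexacode

set_option autoImplicit false
open Cfsg

open CfsgLib.GolayConfig

namespace Cfsg.Agent.S1610

/-- The hexacode has 64 words, minimum weight 4, and weight distribution 0^1 4^45 6^18. -/
theorem result (F : Type*) [Field F] [Fintype F] [DecidableEq F] (hF : Fintype.card F = 4) (ω : F) (hω : ω ^ 2 + ω + 1 = 0) : Nat.card ↥(Cfsg.hexacode F ω) = 64 ∧ (∀ x ∈ Cfsg.hexacode F ω, x ≠ 0 → (Finset.univ.filter fun i => x i ≠ 0).card = 4 ∨ (Finset.univ.filter fun i => x i ≠ 0).card = 6) ∧ {x : Fin 6 → F | x ∈ Cfsg.hexacode F ω ∧ (Finset.univ.filter fun i => x i ≠ 0).card = 4}.ncard = 45 ∧ {x : Fin 6 → F | x ∈ Cfsg.hexacode F ω ∧ (Finset.univ.filter fun i => x i ≠ 0).card = 6}.ncard = 18 := by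
  have hb := toF4_bijective hF hω
  have hinj : Function.Injective fun w : Fin 6 → Fin 4 => toF4 ω ∘ w := hb.1.comp_left
  have hwt : ∀ w : Fin 6 → Fin 4, (Finset.univ.filter fun i => (toF4 ω ∘ w) i ≠ 0).card =
      (Finset.univ.filter fun i => w i ≠ 0).card := by
    intro w
    congr 1
    exact Finset.filter_congr fun i _ => (toF4_eq_zero_iff hF hω (w i)).not
  let S : Finset (Fin 6 → Fin 4) := (Finset.univ : Finset (Fin 4 × Fin 4 × Fin 4)).image
    fun p => hexComb p.1 p.2.1 p.2.2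
  have hS : (Cfsg.hexacode F ω : Set (Fin 6 → F)) = (fun w => toF4 ω ∘ w) '' ↑S := by
    ext x
    simp only [SetLike.mem_coe, mem_hexacode_iff hF hω, S, Finset.coe_image, Finset.coe_univ,
      Set.image_univ, Set.mem_image, Set.mem_range]
    constructor
    · rintro ⟨w, hw, rfl⟩
      obtain ⟨a, b, c, rfl⟩ := exists_hexComb hw
      exact ⟨_, ⟨(a, b, c), rfl⟩, rfl⟩
    · rintro ⟨_, ⟨p, rfl⟩, rfl⟩
      exact ⟨_, hexComb_isHex _ _ _, rfl⟩
  have hk : ∀ k : ℕ, {x : Fin 6 → F | x ∈ Cfsg.hexacode F ω ∧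
      (Finset.univ.filter fun i => x i ≠ 0).card = k}.ncard =
      (S.filter fun w => (Finset.univ.filter fun i => w i ≠ 0).card = k).card := by
    intro k
    rw [← Set.ncard_coe_finset, ← Set.ncard_image_of_injective _ hinj]
    congr 1
    ext x
    simp only [Finset.coe_filter, Set.mem_ofPred_eq, Set.mem_image]
    constructor
    · rintro ⟨hx, hx'⟩
      rw [← SetLike.mem_coe, hS] at hx
      obtain ⟨w, hw, rfl⟩ := hx
      exact ⟨w, ⟨hw, (hwt w).symm.trans hx'⟩, rfl⟩
    · rintro ⟨w, ⟨hw, hw'⟩, rfl⟩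
      exact ⟨by rw [← SetLike.mem_coe, hS]; exact ⟨w, hw, rfl⟩, (hwt w).trans hw'⟩
  have hweights : ∀ a b c : Fin 4, hexComb a b c = 0 ∨
      (Finset.univ.filter fun i => hexComb a b c i ≠ 0).card = 4 ∨
      (Finset.univ.filter fun i => hexComb a b c i ≠ 0).card = 6 := by decide +kernel
  refine ⟨?_, ?_, (hk 4).trans (by decide +kernel), (hk 6).trans (by decide +kernel)⟩
  · show Nat.card (Cfsg.hexacode F ω : Set (Fin 6 → F)) = 64
    rw [hS, Nat.card_coe_set_eq, Set.ncard_image_of_injective _ hinj, Set.ncard_coe_finset]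
    decide +kernel
  · intro x hx h0
    obtain ⟨w, hw, rfl⟩ := (mem_hexacode_iff hF hω x).1 hx
    obtain ⟨a, b, c, rfl⟩ := exists_hexComb hw
    rcases hweights a b c with h | h | h
    · refine absurd ?_ h0
      funext i
      exact (toF4_eq_zero_iff hF hω _).2 (congrFun h i)
    · exact Or.inl ((hwt _).trans h)
    · exact Or.inr ((hwt _).trans h)

end Cfsg.Agent.S1610
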