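import Cfsg.Statements.S1611
import Cfsg.Agent.GolayConfig.Hexacode

set_option autoImplicit false
open Cfsg

open CfsgLib.GolayConfig

namespace Cfsg.Agent.S1611

/-- The model condition: the monomial map sends the three spanning words into the code. -/
def realises (σ : Fin 6 → Fin 6) (c : Fin 6 → Fin 4) : Bool :=
  isHex (fun i => mul4 (c i) (hexRow 0 (σ i))) && isHex (fun i => mul4 (c i) (hexRow 1 (σ i))) &&
    isHex (fun i => mul4 (c i) (hexRow 2 (σ i)))

/-- Scalar vectors realising the three-cycles. -/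
def cycleVecs : List (Fin 6 → Fin 4) :=
  [![1, 3, 2, 2, 2, 2], ![1, 2, 3, 3, 3, 3], ![1, 1, 1, 1, 2, 3], ![1, 3, 2, 1, 3, 2],
    ![1, 2, 3, 2, 3, 1], ![1, 1, 3, 2, 1, 1], ![1, 1, 2, 3, 1, 1], ![1, 3, 1, 2, 2, 3],
    ![1, 2, 1, 3, 2, 3], ![1, 1, 1, 1, 3, 2], ![1, 3, 2, 3, 1, 2], ![1, 2, 2, 3, 1, 3],
    ![1, 3, 3, 2, 2, 1], ![1, 2, 3, 1, 3, 2]]

/-- The inverse of the three-cycle `a ↦ b ↦ c ↦ a`. -/
def cycleInv (a b c x : Fin 6) : Fin 6 := if x = a then c else if x = b then a else if x = c then b else x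

theorem cycleVecs_spec : ∀ a b c : Fin 6, a ≠ b → b ≠ c → a ≠ c →
    cycleVecs.any (fun v => realises (cycleInv a b c) v) = true ∧
      cycleVecs.all (fun v => (List.finRange 6).all fun i => v i != 0) = true := by decide +kernel

theorem diag_model : ∀ a b c d e : Fin 4, realises id ![1, a, b, c, d, e] = true →
    a = 1 ∧ b = 1 ∧ c = 1 ∧ d = 1 ∧ e = 1 := by decide +kernel

theorem swap_model : ∀ a : Fin 4, a ≠ 0 → ∀ b : Fin 4, b ≠ 0 → ∀ c : Fin 4, c ≠ 0 →
    ∀ d : Fin 4, d ≠ 0 → ∀ e : Fin 4, e ≠ 0 →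
    realises ![1, 0, 2, 3, 4, 5] ![1, a, b, c, d, e] = false := by decide +kernel

/-- The monomial automorphism group of the hexacode has order 1080: its diagonal part is the scalars and its permutation parts form the alternating group of degree 6. -/
theorem result (F : Type*) [Field F] [Fintype F] [DecidableEq F] (hF : Fintype.card F = 4) (ω : F) (hω : ω ^ 2 + ω + 1 = 0) : Nat.card {f : Equiv.Perm (Fin 6) × (Fin 6 → Fˣ) // (∀ x ∈ Cfsg.hexacode F ω, Cfsg.monomialMap f.1 f.2 x ∈ Cfsg.hexacode F ω)} = 1080 ∧ (∀ c : Fin 6 → Fˣ, (∀ x ∈ Cfsg.hexacode F ω, Cfsg.monomialMap 1 c x ∈ Cfsg.hexacode F ω) → ∀ i j, c i = c j) ∧ {σ : Equiv.Perm (Fin 6) | ∃ c : Fin 6 → Fˣ, (∀ x ∈ Cfsg.hexacode F ω, Cfsg.monomialMap σ c x ∈ Cfsg.hexacode F ω)} = (alternatingGroup (Fin 6) : Set (Equiv.Perm (Fin 6))) := by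
  have hb := toF4_bijective hF hω
  let e : Fin 4 ≃ F := Equiv.ofBijective _ hb
  have he : ∀ a, e a = toF4 ω a := fun _ => rfl
  let P : Equiv.Perm (Fin 6) → (Fin 6 → Fˣ) → Prop := fun σ c =>
    ∀ x ∈ Cfsg.hexacode F ω, Cfsg.monomialMap σ c x ∈ Cfsg.hexacode F ω
  have hmodel : ∀ (σ : Equiv.Perm (Fin 6)) (c : Fin 6 → Fˣ) (v : Fin 6 → Fin 4),
      (∀ i, toF4 ω (v i) = (c i : F)) → (P σ c ↔ realises σ.symm v = true) := by
    intro σ c v hv
    have hrow : ∀ w : Fin 6 → Fin 4, Cfsg.monomialMap σ c (toF4 ω ∘ w) =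
        toF4 ω ∘ fun i => mul4 (v i) (w (σ.symm i)) := by
      intro w; funext i
      simp only [Cfsg.monomialMap, Function.comp_apply, toF4_mul hF hω, hv]
    have hmem : ∀ w : Fin 6 → Fin 4, toF4 ω ∘ w ∈ Cfsg.hexacode F ω ↔ isHex w = true := by
      intro w
      rw [mem_hexacode_iff hF hω]
      exact ⟨fun ⟨u, hu, h⟩ => by rwa [hb.1.comp_left h], fun h => ⟨w, h, rfl⟩⟩
    have hr : ∀ r, isHex (hexRow r) = true := by decide +kernel
    constructor
    · intro h
      simp only [realises, Bool.and_eq_true]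
      have := fun r => (hmem _).1 (hrow (hexRow r) ▸ h _ ((hmem _).2 (hr r)))
      exact ⟨⟨this 0, this 1⟩, this 2⟩
    · intro h x hx
      simp only [realises, Bool.and_eq_true] at h
      obtain ⟨w, hw, rfl⟩ := (mem_hexacode_iff hF hω x).1 hx
      obtain ⟨a, b, d, rfl⟩ := exists_hexComb hw
      have e3 : toF4 ω ∘ hexComb a b d = toF4 ω a • (toF4 ω ∘ hexRow 0) +
          toF4 ω b • (toF4 ω ∘ hexRow 1) + toF4 ω d • (toF4 ω ∘ hexRow 2) := by
        funext i; simp [hexComb, toF4_add hF hω, toF4_mul hF hω]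
      have e4 : ∀ (a : F) (y z : Fin 6 → F), Cfsg.monomialMap σ c (a • y + z) =
          a • Cfsg.monomialMap σ c y + Cfsg.monomialMap σ c z := by
        intro a y z; funext i; simp [Cfsg.monomialMap]; ring
      rw [e3, add_assoc, e4, e4]
      have e5 : Cfsg.monomialMap σ c (toF4 ω d • (toF4 ω ∘ hexRow 2)) =
          toF4 ω d • Cfsg.monomialMap σ c (toF4 ω ∘ hexRow 2) := by
        funext i; simp [Cfsg.monomialMap]; ring
      rw [e5]
      simp only [hrow]
      exact add_mem (Submodule.smul_mem _ _ ((hmem _).2 h.1.1))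
        (add_mem (Submodule.smul_mem _ _ ((hmem _).2 h.1.2)) (Submodule.smul_mem _ _ ((hmem _).2 h.2)))
  -- closure properties
  have hone : P 1 1 := fun x hx => by
    have : Cfsg.monomialMap (1 : Equiv.Perm (Fin 6)) (1 : Fin 6 → Fˣ) x = x := by
      funext i
      show ((1 : Fˣ) : F) * x i = x i
      simp
    rwa [this]
  have hmul : ∀ σ τ c d, P σ c → P τ d → P (σ * τ) (fun i => c i * d (σ.symm i)) := by
    intro σ τ c d hσ hτ x hx
    have : Cfsg.monomialMap (σ * τ) (fun i => c i * d (σ.symm i)) x =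
        Cfsg.monomialMap σ c (Cfsg.monomialMap τ d x) := by
      funext i
      simp [Cfsg.monomialMap, mul_assoc]
      rfl
    rw [this]; exact hσ _ (hτ x hx)
  have hscal : ∀ (σ : Equiv.Perm (Fin 6)) c (u : Fˣ), P σ c → P σ (fun i => u * c i) := by
    intro σ c u h x hx
    have : Cfsg.monomialMap σ (fun i => u * c i) x = (u : F) • Cfsg.monomialMap σ c x := by
      funext i; simp [Cfsg.monomialMap, mul_assoc]
    rw [this]; exact Submodule.smul_mem _ _ (h x hx)
  have hinv : ∀ (σ : Equiv.Perm (Fin 6)) c, P σ c → P σ⁻¹ (fun i => (c (σ i))⁻¹) := by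
    intro σ c h x hx
    have hinj : Function.Injective (Cfsg.monomialMap σ c : (Fin 6 → F) → Fin 6 → F) := by
      intro y z hyz; funext i
      have := congrFun hyz (σ i)
      simpa [Cfsg.monomialMap] using this
    have hsur : Set.SurjOn (Cfsg.monomialMap σ c) (Cfsg.hexacode F ω : Set (Fin 6 → F))
        (Cfsg.hexacode F ω : Set (Fin 6 → F)) := by
      intro y hy
      have := Set.eq_of_subset_of_ncard_le
        (Set.image_subset_iff.2 fun z hz => h z hz : Cfsg.monomialMap σ c '' _ ⊆ _)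
        (Set.ncard_image_of_injective _ hinj).ge (Set.toFinite _)
      rwa [this]
    obtain ⟨y, hy, rfl⟩ := hsur hx
    have : Cfsg.monomialMap σ⁻¹ (fun i => (c (σ i))⁻¹) (Cfsg.monomialMap σ c y) = y := by
      funext i
      simp [Cfsg.monomialMap, Equiv.Perm.inv_def]
    rwa [this]
  have hdiag : ∀ c : Fin 6 → Fˣ, P 1 c → ∀ i j, c i = c j := by
    intro c hc
    suffices h : ∀ i, c i = c 0 by intro i j; rw [h i, h j]
    have hc' := hscal 1 c (c 0)⁻¹ hc
    have := (hmodel 1 _ (fun i => e.symm ((((c 0)⁻¹ * c i : Fˣ)) : F))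
      (fun i => by rw [← he, Equiv.apply_symm_apply])).1 hc'
    have e0 : e.symm ((((c 0)⁻¹ * c 0 : Fˣ)) : F) = 1 := by
      rw [Equiv.symm_apply_eq, inv_mul_cancel, Units.val_one, he]; simp [toF4]
    have hv : (fun i => e.symm ((((c 0)⁻¹ * c i : Fˣ)) : F)) =
        ![1, e.symm ((((c 0)⁻¹ * c 1 : Fˣ)) : F), e.symm ((((c 0)⁻¹ * c 2 : Fˣ)) : F),
          e.symm ((((c 0)⁻¹ * c 3 : Fˣ)) : F), e.symm ((((c 0)⁻¹ * c 4 : Fˣ)) : F),
          e.symm ((((c 0)⁻¹ * c 5 : Fˣ)) : F)] := by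
      funext i; fin_cases i <;> first | exact e0 | rfl
    rw [hv] at this
    obtain ⟨h1, h2, h3, h4, h5⟩ := diag_model _ _ _ _ _ this
    intro i
    have hi : e.symm ((((c 0)⁻¹ * c i : Fˣ)) : F) = 1 := by
      fin_cases i
      · exact e0
      · exact h1
      · exact h2
      · exact h3
      · exact h4
      · exact h5
    rw [Equiv.symm_apply_eq, he] at hi
    have : (c 0)⁻¹ * c i = 1 := Units.ext (by simpa [toF4] using hi)
    exact (inv_mul_eq_one.1 this).symm
  -- the permutations occurring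
  let S : Subgroup (Equiv.Perm (Fin 6)) :=
    { carrier := {σ | ∃ c, P σ c}
      one_mem' := ⟨1, hone⟩
      mul_mem' := fun ⟨c, hc⟩ ⟨d, hd⟩ => ⟨_, hmul _ _ c d hc hd⟩
      inv_mem' := fun ⟨c, hc⟩ => ⟨_, hinv _ c hc⟩ }
  have hge : alternatingGroup (Fin 6) ≤ S := by
    rw [← Equiv.Perm.closure_three_cycles_eq_alternating, Subgroup.closure_le]
    intro σ hσ
    obtain ⟨a, -, b, -, d, -, hab, had, hbd, hsa, hsb, hsd, hfix⟩ :
        ∃ a, True ∧ ∃ b, True ∧ ∃ d, True ∧ a ≠ b ∧ a ≠ d ∧ b ≠ d ∧ σ a = b ∧ σ b = d ∧ σ d = a ∧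
          ∀ x, x ≠ a → x ≠ b → x ≠ d → σ x = x := by
      have h3 := Equiv.Perm.IsThreeCycle.card_support hσ
      obtain ⟨a, ha⟩ := Finset.card_pos.1 (by omega : 0 < σ.support.card)
      have hne : σ a ≠ a := Equiv.Perm.mem_support.1 ha
      have hp : σ (σ (σ a)) = a := by
        have := Equiv.Perm.IsThreeCycle.orderOf hσ
        have h := congrArg (fun τ : Equiv.Perm (Fin 6) => τ a) (this ▸ pow_orderOf_eq_one σ)
        simpa [pow_succ] using h
      have hne2 : σ (σ a) ≠ a := by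
        intro h; exact hne (by simpa [h] using hp)
      refine ⟨a, trivial, σ a, trivial, σ (σ a), trivial, hne.symm, hne2.symm,
        fun h => hne (σ.injective h).symm, rfl, rfl, hp, fun x hxa hxb hxd => ?_⟩
      by_contra hx
      have hsub : ({x, a, σ a, σ (σ a)} : Finset (Fin 6)) ⊆ σ.support := by
        intro y hy
        simp only [Finset.mem_insert, Finset.mem_singleton] at hy
        rcases hy with rfl | rfl | rfl | rfl
        · exact Equiv.Perm.mem_support.2 hx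
        · exact ha
        · exact Equiv.Perm.apply_mem_support.2 ha
        · exact Equiv.Perm.apply_mem_support.2 (Equiv.Perm.apply_mem_support.2 ha)
      have h4 : ({x, a, σ a, σ (σ a)} : Finset (Fin 6)).card = 4 := by
        rw [Finset.card_insert_of_notMem (by simp [hxa, hxb, hxd]), Finset.card_insert_of_notMem
          (by simp [hne.symm, hne2.symm]), Finset.card_pair (fun h => hne (σ.injective h).symm)]
      have := Finset.card_le_card hsub
      omega
    obtain ⟨hv, hnz⟩ := cycleVecs_spec a b d hab hbd had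
    obtain ⟨v, hvm, hreal⟩ := List.any_eq_true.1 hv
    have hnz' : ∀ i, toF4 ω (v i) ≠ 0 := fun i h => by
      have := List.all_eq_true.1 (List.all_eq_true.1 hnz v hvm) i (List.mem_finRange i)
      rw [(toF4_eq_zero_iff hF hω _).1 h] at this
      exact absurd this (by decide)
    refine ⟨fun i => Units.mk0 _ (hnz' i), (hmodel σ _ v (fun i => rfl)).2 ?_⟩
    have : (σ.symm : Fin 6 → Fin 6) = cycleInv a b d := by
      funext x
      rw [Equiv.symm_apply_eq]
      simp only [cycleInv]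
      split_ifs with h1 h2 h3
      · rw [hsd, h1]
      · rw [hsa, h2]
      · rw [hsb, h3]
      · rw [hfix x h1 h2 h3]
    rw [this]; exact hreal
  have hswap : Equiv.swap (0 : Fin 6) 1 ∉ S := by
    rintro ⟨c, hc⟩
    have hc' := hscal _ c (c 0)⁻¹ hc
    let v : Fin 6 → Fin 4 := fun i => e.symm ((((c 0)⁻¹ * c i : Fˣ)) : F)
    have := (hmodel _ _ v (fun i => by rw [← he, Equiv.apply_symm_apply])).1 hc'
    have hnz : ∀ i, v i ≠ 0 := fun i h => by
      rw [Equiv.symm_apply_eq, he] at h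
      exact Units.ne_zero _ (h.trans (by simp [toF4]))
    have e0 : v 0 = 1 := by
      show e.symm _ = 1
      rw [Equiv.symm_apply_eq, inv_mul_cancel, Units.val_one, he]; simp [toF4]
    have h1 : ((Equiv.swap (0 : Fin 6) 1).symm : Fin 6 → Fin 6) = ![1, 0, 2, 3, 4, 5] := by decide
    have h2 : v = ![1, v 1, v 2, v 3, v 4, v 5] := by
      funext i; fin_cases i <;> first | exact e0 | rfl
    rw [h1, h2, swap_model _ (hnz 1) _ (hnz 2) _ (hnz 3) _ (hnz 4) _ (hnz 5)] at this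
    exact Bool.false_ne_true this
  have hSA : S = alternatingGroup (Fin 6) := by
    refine le_antisymm (fun σ hσ => ?_) hge
    rw [Equiv.Perm.mem_alternatingGroup]
    rcases Int.units_eq_one_or (Equiv.Perm.sign σ) with h | h
    · exact h
    · exfalso
      refine hswap ?_
      have : Equiv.swap (0 : Fin 6) 1 * σ⁻¹ ∈ alternatingGroup (Fin 6) := by
        rw [Equiv.Perm.mem_alternatingGroup, map_mul, map_inv, h, Equiv.Perm.sign_swap (by decide)]
        rfl
      have := mul_mem (hge this) hσ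
      simpa using this
  refine ⟨?_, hdiag, congrArg (fun H : Subgroup (Equiv.Perm (Fin 6)) => (H : Set (Equiv.Perm (Fin 6)))) hSA⟩
  have hex : ∀ σ : alternatingGroup (Fin 6), ∃ c, P σ.1 c := fun σ => hge σ.2
  choose cσ hcσ using hex
  let f : ↥(alternatingGroup (Fin 6)) × Fˣ →
      {f : Equiv.Perm (Fin 6) × (Fin 6 → Fˣ) // P f.1 f.2} :=
    fun p => ⟨(p.1.1, fun i => p.2 * cσ p.1 i), hscal _ _ _ (hcσ p.1)⟩
  have hf : Function.Bijective f := by
    constructor
    · rintro ⟨σ, u⟩ ⟨σ', u'⟩ h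
      have h1 : (σ : Equiv.Perm (Fin 6)) = σ' := congrArg (fun g => g.1.1) h
      obtain rfl := Subtype.ext h1
      have h2 := congrFun (congrArg (fun g => g.1.2) h) 0
      exact Prod.ext rfl (mul_right_cancel (h2 : u * cσ σ 0 = u' * cσ σ 0))
    · rintro ⟨⟨σ, c⟩, hc⟩
      have hσ : σ ∈ alternatingGroup (Fin 6) := hSA ▸ (⟨c, hc⟩ : σ ∈ S)
      have hd : P 1 (fun i => c i * (cσ ⟨σ, hσ⟩ i)⁻¹) := by
        have := hmul _ _ _ _ hc (hinv _ _ (hcσ ⟨σ, hσ⟩))
        simpa using this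
      refine ⟨(⟨σ, hσ⟩, c 0 * (cσ ⟨σ, hσ⟩ 0)⁻¹), Subtype.ext (Prod.ext rfl (funext fun i => ?_))⟩
      show c 0 * (cσ ⟨σ, hσ⟩ 0)⁻¹ * cσ ⟨σ, hσ⟩ i = c i
      rw [hdiag _ hd 0 i, inv_mul_cancel_right]
  change Nat.card {f : Equiv.Perm (Fin 6) × (Fin 6 → Fˣ) // P f.1 f.2} = 1080
  rw [← Nat.card_eq_of_bijective f hf, Nat.card_prod, nat_card_alternatingGroup,
    Nat.card_units, Nat.card_eq_fintype_card, Nat.card_eq_fintype_card, hF, Fintype.card_fin]
  decide

end Cfsg.Agent.S1611
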