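import Cfsg.Statements.S1612
import Cfsg.Agent.FischerTransitivity.Transitivity

set_option autoImplicit false
open Cfsg

namespace Cfsg.Agent.S1612

open CfsgLib.FischerTransitivity
open scoped Pointwise

theorem commute_of_mem_twoGroup {G : Type*} [Group G] {D : Set G}
    (hD : Cfsg.IsThreeTranspositionClass D) {S : Subgroup G} (hS : IsPGroup 2 S) {a b : G}
    (ha : a ∈ D) (hb : b ∈ D) (haS : a ∈ S) (hbS : b ∈ S) : Commute a b := by
  by_contra hc
  rcases hD.1.2 a ha b hb with h | h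
  · exact hc (commute_of_sq (by rw [pow_two, sq_one hD ha]) (by rw [pow_two, sq_one hD hb]) h)
  · obtain ⟨k, hk⟩ := hS ⟨a * b, mul_mem haS hbS⟩
    have hk' : (a * b) ^ 2 ^ k = 1 := by simpa using congrArg Subtype.val hk
    have h1 : (a * b) ^ Nat.gcd 3 (2 ^ k) = 1 := pow_gcd_eq_one.2 ⟨h, hk'⟩
    rw [Nat.Coprime.pow_right k (by norm_num : Nat.Coprime 3 2), pow_one] at h1
    exact hc (by rw [eq_inv_of_mul_eq_one_left h1]; exact (Commute.refl b).inv_left)

theorem isPGroup_closure {G : Type*} [Group G] {D : Set G}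
    (hD : Cfsg.IsThreeTranspositionClass D) {E : Set G} (hE : E ⊆ D)
    (hc : ∀ a ∈ E, ∀ b ∈ E, Commute a b) : IsPGroup 2 (Subgroup.closure E) := by
  have hsq : ∀ g ∈ Subgroup.closure E, g * g = 1 ∧ ∀ e ∈ E, Commute g e := by
    intro g hg
    induction hg using Subgroup.closure_induction'' with
    | one => exact ⟨one_mul 1, fun e _ => Commute.one_left e⟩
    | mem g hg => exact ⟨sq_one hD (hE hg), hc g hg⟩
    | inv_mem g hg => rw [inv_self hD (hE hg)]; exact ⟨sq_one hD (hE hg), hc g hg⟩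
    | mul a b ha hb iha ihb =>
      refine ⟨?_, fun e he => (iha.2 e he).mul_left (ihb.2 e he)⟩
      have hab : Commute a b := by
        have : Subgroup.closure E ≤ Subgroup.centralizer {b} := by
          rw [Subgroup.closure_le]
          intro e he
          rw [SetLike.mem_coe, Subgroup.mem_centralizer_singleton_iff]
          exact (ihb.2 e he).symm
        exact Subgroup.mem_centralizer_singleton_iff.1 (this ha)
      rw [hab.symm.mul_mul_mul_comm, iha.1, ihb.1, one_mul]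
  intro g
  exact ⟨1, Subtype.ext (by simpa [pow_two] using (hsq g g.2).1)⟩

/-- In a 3-transposition group (no solvable normal subgroup, perfect derived group), the normaliser of a commuting set of transpositions of maximum size contains a Sylow 2-subgroup and is doubly transitive on the set. -/
theorem result {G : Type*} [Group G] [Finite G] (hsol : ∀ N : Subgroup G, N.Normal → Group.IsSolvable ↥N → N = ⊥) (hperf : ⁅commutator G, commutator G⁆ = commutator G) {D : Set G} (hD : Cfsg.IsThreeTranspositionClass D) {E : Set G} (hE : E ⊆ D) (hc : ∀ a ∈ E, ∀ b ∈ E, Commute a b) (hmax : ∀ E' : Set G, E' ⊆ D → (∀ a ∈ E', ∀ b ∈ E', Commute a b) → E'.ncard ≤ E.ncard) : (∃ P : Sylow 2 G, (P : Subgroup G) ≤ Subgroup.normalizer E) ∧ ∀ a ∈ E, ∀ b ∈ E, ∀ c ∈ E, ∀ d ∈ E, a ≠ b → c ≠ d → ∃ g ∈ Subgroup.normalizer E, g * a * g⁻¹ = c ∧ g * b * g⁻¹ = d := by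
  have hmaxeq : ∀ E' : Set G, E' ⊆ D → E'.ncard = E.ncard → ∀ S : Subgroup G, IsPGroup 2 S →
      E' ⊆ (S : Set G) → E' = D ∩ (S : Set G) := by
    intro E' hE' hn S hS hsub
    refine Set.eq_of_subset_of_ncard_le (Set.subset_inter hE' hsub) ?_ (Set.toFinite _)
    rw [hn]
    exact hmax _ Set.inter_subset_left
      (fun a ha b hb => commute_of_mem_twoGroup hD hS ha.1 hb.1 ha.2 hb.2)
  have hnorm : ∀ g : G, (∀ e ∈ E, g * e * g⁻¹ ∈ E) → g ∈ Subgroup.normalizer E := by
    intro g hg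
    have himg : (fun t => g * t * g⁻¹) '' E = E := by
      refine Set.eq_of_subset_of_ncard_le ?_ ?_ (Set.toFinite _)
      · rintro _ ⟨e, he, rfl⟩; exact hg e he
      · rw [Set.ncard_image_of_injective _ (fun a b h => mul_left_cancel (mul_right_cancel h))]
    intro n
    refine ⟨hg n, fun h => ?_⟩
    rw [← himg] at h
    obtain ⟨e, he, heq⟩ := h
    exact mul_left_cancel (mul_right_cancel heq) ▸ he
  constructor
  · obtain ⟨P, hP⟩ := (isPGroup_closure hD hE hc).exists_le_sylow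
    refine ⟨P, fun g hg => hnorm g ?_⟩
    intro e he
    have heq := hmaxeq E hE rfl P P.isPGroup' (fun a ha => hP (Subgroup.subset_closure ha))
    rw [heq] at he ⊢
    exact ⟨conj_mem hD g he.1, mul_mem (mul_mem hg he.2) (inv_mem hg)⟩
  intro a ha b hb c hc' d hd hab hcd
  -- some element carries the first pair to the second
  obtain ⟨g₁, hg₁⟩ := exists_conj hD (hE ha) (hE hc')
  have hb1 : g₁ * b * g₁⁻¹ ∈ commSet D c :=
    hg₁ ▸ (conj_commSet hD a g₁).subset ⟨b, ⟨hE hb, fun h => hab h.symm, hc a ha b hb⟩, rfl⟩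
  obtain ⟨l, hl, hlb⟩ := transitive_on_commSet hsol hD (hE hc') hb1
    ⟨hE hd, fun h => hcd h.symm, hc c hc' d hd⟩
  have hlc : l * c = c * l :=
    Subgroup.mem_centralizer_singleton_iff.1 (closure_commSet_le_centralizer c hl)
  obtain ⟨g, hga, hgb⟩ : ∃ g : G, g * a * g⁻¹ = c ∧ g * b * g⁻¹ = d := by
    refine ⟨l * g₁, ?_, ?_⟩
    · calc l * g₁ * a * (l * g₁)⁻¹ = l * (g₁ * a * g₁⁻¹) * l⁻¹ := by group
      _ = c := by rw [hg₁, hlc, mul_assoc, mul_inv_cancel, mul_one]
    · rw [← hlb]; group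
  -- Sylow in the centralizer of the second pair
  let E' : Set G := (fun t => g * t * g⁻¹) '' E
  have hE' : E' ⊆ D := by rintro _ ⟨t, ht, rfl⟩; exact conj_mem hD g (hE ht)
  have hcE' : ∀ p ∈ E', ∀ q ∈ E', Commute p q := by
    rintro _ ⟨p, hp, rfl⟩ _ ⟨q, hq, rfl⟩; exact (Commute.conj_iff g).2 (hc p hp q hq)
  have hn' : E'.ncard = E.ncard :=
    Set.ncard_image_of_injective _ (fun a b h => mul_left_cancel (mul_right_cancel h))
  let H : Subgroup G := Subgroup.centralizer {c, d}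
  have memH : ∀ F : Set G, (∀ p ∈ F, ∀ q ∈ F, Commute p q) → c ∈ F → d ∈ F →
      Subgroup.closure F ≤ H := by
    intro F hF hcF hdF
    rw [Subgroup.closure_le]
    intro e he
    rw [SetLike.mem_coe, Subgroup.mem_centralizer_iff]
    rintro k (rfl | rfl)
    · exact hF _ hcF e he
    · exact hF _ hdF e he
  have hcE : Subgroup.closure E ≤ H := memH E hc hc' hd
  have hcE'H : Subgroup.closure E' ≤ H := memH E' hcE' ⟨a, ha, hga⟩ ⟨b, hb, hgb⟩
  obtain ⟨P, hP⟩ := ((isPGroup_closure hD hE hc).comap_of_injective H.subtype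
    H.subtype_injective).exists_le_sylow
  obtain ⟨P', hP'⟩ := ((isPGroup_closure hD hE' hcE').comap_of_injective H.subtype
    H.subtype_injective).exists_le_sylow
  obtain ⟨h, hh⟩ := MulAction.exists_smul_eq H P P'
  have e1 : E = D ∩ ((P : Subgroup H).map H.subtype : Set G) := by
    refine hmaxeq E hE rfl _ (P.isPGroup'.map _) (fun e he => ?_)
    exact ⟨⟨e, hcE (Subgroup.subset_closure he)⟩, hP (Subgroup.subset_closure he), rfl⟩
  have e2 : E' = D ∩ ((P' : Subgroup H).map H.subtype : Set G) := by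
    refine hmaxeq E' hE' hn' _ (P'.isPGroup'.map _) (fun e he => ?_)
    exact ⟨⟨e, hcE'H (Subgroup.subset_closure he)⟩, hP' (Subgroup.subset_closure he), rfl⟩
  have hhc : ∀ t ∈ ({c, d} : Set G), (h : G)⁻¹ * t * h = t := by
    intro t ht
    rw [mul_assoc, Subgroup.mem_centralizer_iff.1 h.2 t ht, ← mul_assoc, inv_mul_cancel, one_mul]
  refine ⟨(h : G)⁻¹ * g, hnorm _ ?_, ?_, ?_⟩
  · intro e he
    have he' : g * e * g⁻¹ ∈ E' := ⟨e, he, rfl⟩
    rw [e2] at he'
    obtain ⟨hD', k, hk, hke⟩ := he'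
    rw [← hh] at hk
    rw [e1]
    refine ⟨conj_mem hD _ (hE he), ?_⟩
    have hk' : h⁻¹ * k * h ∈ (P : Subgroup H) := by
      have : k ∈ ((MulAut.conj h) • (P : Subgroup H)) := hk
      rw [Subgroup.mem_pointwise_smul_iff_inv_smul_mem] at this
      simpa using this
    refine ⟨_, hk', ?_⟩
    show (h : G)⁻¹ * (k : G) * h = _
    rw [show (k : G) = g * e * g⁻¹ from hke]
    group
  · calc (h : G)⁻¹ * g * a * ((h : G)⁻¹ * g)⁻¹ = (h : G)⁻¹ * (g * a * g⁻¹) * h := by group
    _ = c := by rw [hga]; exact hhc c (Or.inl rfl)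
  · calc (h : G)⁻¹ * g * b * ((h : G)⁻¹ * g)⁻¹ = (h : G)⁻¹ * (g * b * g⁻¹) * h := by group
    _ = d := by rw [hgb]; exact hhc d (Or.inr rfl)

end Cfsg.Agent.S1612
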