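import Cfsg.Statements.S1617
import Cfsg.Agent.RankThreeInvol.Top

set_option autoImplicit false
open Cfsg

namespace Cfsg.Agent.S1617

/-- A generating conjugacy class of involutions on which the group (with trivial solvable radical) acts with rank 3 is a class of 3-transpositions. -/
theorem result {G : Type*} [Group G] [Finite G] (hsol : ∀ N : Subgroup G, N.Normal → Group.IsSolvable ↥N → N = ⊥) {D : Set G} (hinv : ∀ d ∈ D, orderOf d = 2) (hconj : ∃ d ∈ D, D = conjugatesOf d) (hgen : Subgroup.closure D = ⊤) (hrank : ∀ x ∈ D, ∃ y ∈ D, ∃ z ∈ D, {w : G | ∃ g : G, Commute g x ∧ g * y * g⁻¹ = w} ≠ {w : G | ∃ g : G, Commute g x ∧ g * x * g⁻¹ = w} ∧ {w : G | ∃ g : G, Commute g x ∧ g * z * g⁻¹ = w} ≠ {w : G | ∃ g : G, Commute g x ∧ g * x * g⁻¹ = w} ∧ {w : G | ∃ g : G, Commute g x ∧ g * y * g⁻¹ = w} ≠ {w : G | ∃ g : G, Commute g x ∧ g * z * g⁻¹ = w} ∧ D = {w : G | ∃ g : G, Commute g x ∧ g * x * g⁻¹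 = w} ∪ {w : G | ∃ g : G, Commute g x ∧ g * y * g⁻¹ = w} ∪ {w : G | ∃ g : G, Commute g x ∧ g * z * g⁻¹ = w}) : Cfsg.IsThreeTranspositionClass D := by
  obtain ⟨x₀, hx₀, hD⟩ := hconj
  have hcls : ∀ x ∈ D, ∀ y ∈ D, IsConj x y := by
    intro x hx y hy
    rw [hD] at hx hy
    exact (IsConj.symm hx).trans hy
  have hclosed : ∀ g : G, ∀ d ∈ D, g * d * g⁻¹ ∈ D := by
    intro g d hd
    rw [hD] at hd ⊢
    exact IsConj.trans hd (isConj_iff.2 ⟨g, rfl⟩)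
  obtain ⟨y, -, z, -, -, -, -, hsplit⟩ := hrank x₀ hx₀
  have hord : ∀ u ∈ D, ∀ v ∈ D, orderOf (u * v) = 1 ∨ orderOf (u * v) = orderOf (x₀ * y) ∨
      orderOf (u * v) = orderOf (x₀ * z) := by
    intro u hu v hv
    obtain ⟨g, hg⟩ := isConj_iff.1 (hcls x₀ hx₀ u hu)
    have huv : orderOf (u * v) = orderOf (x₀ * (g⁻¹ * v * g)) := by
      have e : u * v = g * (x₀ * (g⁻¹ * v * g)) * g⁻¹ := by rw [← hg]; group
      rw [e]
      exact (orderOf_injective (MulAut.conj g).toMonoidHom (MulAut.conj g).injective _)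
    have hfix : ∀ k t : G, Commute k x₀ → orderOf (x₀ * (k * t * k⁻¹)) = orderOf (x₀ * t) := by
      intro k t hk
      have e : x₀ * (k * t * k⁻¹) = k * (x₀ * t) * k⁻¹ := by
        rw [← mul_assoc, ← mul_assoc, ← hk.eq, mul_assoc k x₀ t]
      rw [e]
      exact (orderOf_injective (MulAut.conj k).toMonoidHom (MulAut.conj k).injective _)
    have hw : g⁻¹ * v * g ∈ D := by simpa using hclosed g⁻¹ v hv
    rw [hsplit] at hw
    rcases hw with (⟨k, hk, hkw⟩ | ⟨k, hk, hkw⟩) | ⟨k, hk, hkw⟩ <;> rw [huv, ← hkw, hfix k _ hk]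
    · left
      rw [orderOf_eq_one_iff, ← sq, ← hinv x₀ hx₀, pow_orderOf_eq_one]
    · exact Or.inr (Or.inl rfl)
    · exact Or.inr (Or.inr rfl)
  exact ⟨⟨hinv, CfsgLib.RankThreeInvol.sq_or_cube hsol hinv hcls hclosed hgen hord⟩,
    ⟨x₀, hx₀, hD⟩, hgen⟩

end Cfsg.Agent.S1617
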