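import Cfsg.Statements.S1618
import Cfsg.Agent.ZStar.PowerProduct
import Cfsg.Agent.PLocal.Cores

set_option autoImplicit false
open Cfsg
open scoped commutatorElement

namespace Cfsg.Agent.S1618

/-- A group generated by a class of involutions whose pairwise products (of distinct members) have p-power order for a fixed odd prime p has nilpotent derived subgroup. -/
theorem result {G : Type*} [Group G] [Finite G] (p : ℕ) (hp : p.Prime) (hodd : p ≠ 2) {D : Set G} (hinv : ∀ d ∈ D, orderOf d = 2) (hconj : ∃ d ∈ D, D = conjugatesOf d) (hgen : Subgroup.closure D = ⊤) (hprod : ∀ x ∈ D, ∀ y ∈ D, x ≠ y → ∃ k : ℕ, orderOf (x * y) = p ^ k) : Group.IsNilpotent ↥(commutator G) := by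
  haveI : Fact p.Prime := ⟨hp⟩
  obtain ⟨d, hd, rfl⟩ := hconj
  have hd2 := hinv d hd
  have hprod' : ∀ a ∈ conjugatesOf d, ∀ b ∈ conjugatesOf d, ∃ k : ℕ, orderOf (a * b) = p ^ k := by
    intro a ha b hb
    by_cases hab : a = b
    · exact ⟨0, by rw [hab, CfsgLib.Small.mul_self_of_orderOf_two (hinv b hb), orderOf_one, pow_zero]⟩
    · exact hprod a ha b hb hab
  set O := Cfsg.pCore p G with hO
  have hOp : IsPGroup p O := CfsgLib.PLocal.isPGroup_pCore p G
  haveI : O.Characteristic := CfsgLib.PLocal.pCoreCharacteristic p G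
  haveI : O.Normal := inferInstance
  set π := QuotientGroup.mk' O with hπ
  have hall : ∀ g : G, π g ∈ Subgroup.zpowers (π d) := by
    intro g
    have hg : g ∈ Subgroup.closure (conjugatesOf d) := hgen ▸ Subgroup.mem_top g
    refine (Subgroup.closure_le ((Subgroup.zpowers (π d)).comap π)).2 (fun a ha => ?_) hg
    have h1 : π (a * d) = 1 := (QuotientGroup.eq_one_iff _).2
      (CfsgLib.ZStar.PowerProduct.mul_mem_pCore hodd hp hd2 hprod' ha (IsConj.refl d))
    rw [map_mul, mul_eq_one_iff_eq_inv] at h1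
    rw [SetLike.mem_coe, Subgroup.mem_comap, h1]
    exact inv_mem (Subgroup.mem_zpowers _)
  have hle : commutator G ≤ O := by
    rw [commutator_def, Subgroup.commutator_le]
    intro a _ b _
    rw [← QuotientGroup.eq_one_iff]
    show π ⁅a, b⁆ = 1
    rw [map_commutatorElement, commutatorElement_eq_one_iff_mul_comm]
    obtain ⟨i, hi⟩ := Subgroup.mem_zpowers_iff.1 (hall a)
    obtain ⟨j, hj⟩ := Subgroup.mem_zpowers_iff.1 (hall b)
    rw [← hi, ← hj, ← zpow_add, ← zpow_add, add_comm]
  exact (hOp.to_le hle).isNilpotent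

end Cfsg.Agent.S1618
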