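import Cfsg.Statements.S1621
import Cfsg.Agent.IcoLeech.Reflections

set_option autoImplicit false
open Quaternion
open Cfsg

namespace Cfsg.Agent.S1621

/-- The icosian Leech lattice has 37800 minimal vectors giving 315 distinct reflections. -/
theorem result : {r : Fin 3 → ℍ[ℝ] | r ∈ Cfsg.Spor.icoLeech ∧ Cfsg.Spor.qip r r = 4}.ncard = 37800 ∧ {f : Equiv.Perm ↥Cfsg.Spor.icoLeech | Cfsg.Spor.IsIcoReflection f}.ncard = 315 := by
  refine ⟨?_, ?_⟩
  · rw [show {r : Fin 3 → ℍ[ℝ] | r ∈ Cfsg.Spor.icoLeech ∧ Cfsg.Spor.qip r r = 4} =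
      (fun p : {u // u ∈ Cfsg.IcoLeech.Data.units} × {l // l ∈ Cfsg.IcoLeech.Data.lines} =>
        Cfsg.IcoLeech.toV (Cfsg.IcoLeech.V3.lmul p.1.1 p.2.1)) '' Set.univ from ?_]
    · rw [Set.ncard_image_of_injective _ ?_, Set.ncard_univ, Nat.card_prod,
        Nat.card_eq_fintype_card, Nat.card_eq_fintype_card]
      · decide +kernel
      · rintro ⟨⟨u, hu⟩, l, hl⟩ ⟨⟨u', hu'⟩, l', hl'⟩ h
        obtain ⟨rfl, rfl⟩ := Cfsg.IcoLeech.toV_lmul_inj hu hu' hl hl'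
          (Cfsg.IcoLeech.toV_injective h)
        rfl
    · ext r
      constructor
      · rintro ⟨hr, h4⟩
        obtain ⟨u, hu, l, hl, rfl⟩ := Cfsg.IcoLeech.exists_line hr h4
        exact ⟨(⟨u, hu⟩, ⟨l, hl⟩), Set.mem_univ _, rfl⟩
      · rintro ⟨⟨⟨u, hu⟩, l, hl⟩, -, rfl⟩
        exact Cfsg.IcoLeech.lmul_line_mem hu hl
  · rw [Cfsg.IcoLeech.set_reflections_eq]
    refine (Set.ncard_range_of_injective Cfsg.IcoLeech.lineRefl_injective).trans ?_
    rw [Nat.card_eq_fintype_card]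
    decide +kernel

end Cfsg.Agent.S1621
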