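import Cfsg.Statements.S1628
import Cfsg.Agent.Ru.MinVectors
-- import your own Cfsg.Agent.* helpers here

set_option autoImplicit false
open Cfsg

namespace Cfsg.Agent.S1628

/-- The Conway–Wales lattice as stored is even with no vectors of true norm 2: stored norms are multiples of 8, never equal to 8, and the minimum over nonzero vectors is 16. -/
theorem result : (∀ x ∈ Cfsg.Spor.ruLattice, (8 : ℤ) ∣ Cfsg.Spor.ruNorm x) ∧ (∀ x ∈ Cfsg.Spor.ruLattice, Cfsg.Spor.ruNorm x ≠ 8) ∧ (∀ x ∈ Cfsg.Spor.ruLattice, x ≠ 0 → 16 ≤ Cfsg.Spor.ruNorm x) ∧ ∃ x ∈ Cfsg.Spor.ruLattice, Cfsg.Spor.ruNorm x = 16 := by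
  refine ⟨fun x hx => ?_, fun x hx h8 => ?_, fun x hx h0 => ?_,
    ⟨CfsgLib.Ru.vec 0, CfsgLib.Ru.vec_mem (by norm_num), ?_⟩⟩
  · rw [CfsgLib.Ru.ruNorm_eq]; exact CfsgLib.Ru.eight_dvd_rdot hx
  · rw [CfsgLib.Ru.ruNorm_eq] at h8
    by_cases h0 : x = 0
    · rw [h0, CfsgLib.Ru.rdot_zero_left] at h8; norm_num at h8
    · have := CfsgLib.Ru.norm_ge hx h0; omega
  · rw [CfsgLib.Ru.ruNorm_eq]; exact CfsgLib.Ru.norm_ge hx h0
  · rw [CfsgLib.Ru.ruNorm_eq]; exact CfsgLib.Ru.rdot_vec_self 0 (by norm_num)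

end Cfsg.Agent.S1628
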