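import Cfsg.Statements.S1631
import Cfsg.Agent.FormTranspositions.Unitary

set_option autoImplicit false
open scoped MatrixGroups
open Cfsg

open CfsgLib CfsgLib.RepBounds.Unit

namespace Cfsg.Agent.S1631

/-- The unitary transvections of SU(n, 2), n ≥ 4, form a generating conjugacy class of 3-transpositions. -/
theorem result (F : Type) [Field F] [Fintype F] [DecidableEq F] (hF : Fintype.card F = 4) (n : ℕ) (hn : 4 ≤ n) : Cfsg.IsThreeTranspositionClass {g : ↥(Cfsg.SU n F 2) | (((g : Matrix.SpecialLinearGroup (Fin n) F) : Matrix (Fin n) (Fin n) F) - 1).rank = 1} := by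
  obtain ⟨C, hC⟩ := exists_conjField (F := F) 2 (by rw [hF]; norm_num)
  have h := FormTranspositions.unitary_three_transposition_class C hC
    (ι := Fin n) (by rwa [Fintype.card_fin])
  have e : suG C (Fin n) = Cfsg.SU n F 2 := hC ▸ suG_fin_eq C n
  revert h
  rw [e]
  exact id

end Cfsg.Agent.S1631
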