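import Cfsg.Statements.S1633
import Cfsg.Agent.Leech.U35.Graph

set_option autoImplicit false
open Cfsg

namespace Cfsg.Agent.S1633

/-- The Higman–Sims group acts transitively on 352 vectors, a set closed under x ↦ −w − x, with vector stabiliser isomorphic to PSU(3, 5). -/
theorem result (v w : ↥Cfsg.leechLattice) (hv : Cfsg.sqNorm (v : Cfsg.GolayPt → ℤ) = 48) (hw : Cfsg.sqNorm (w : Cfsg.GolayPt → ℤ) = 48) (hvw : Cfsg.dotInt (v : Cfsg.GolayPt → ℤ) (w : Cfsg.GolayPt → ℤ) = -32) (F : Type) [Field F] [Fintype F] (hF : Fintype.card F = 25) : {x : ↥Cfsg.leechLattice | Cfsg.sqNorm (x : Cfsg.GolayPt → ℤ) = 32 ∧ Cfsg.dotInt (v : Cfsg.GolayPt → ℤ) (x : Cfsg.GolayPt → ℤ) = 16 ∧ Cfsg.dotInt (w : Cfsg.GolayPt → ℤ) (x : Cfsg.GolayPt → ℤ) = -24}.ncard = 352 ∧ (∀ x ∈ {x : ↥Cfsg.leechLattice | Cfsg.sqNorm (x : Cfsg.GolayPt → ℤ) = 32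 ∧ Cfsg.dotInt (v : Cfsg.GolayPt → ℤ) (x : Cfsg.GolayPt → ℤ) = 16 ∧ Cfsg.dotInt (w : Cfsg.GolayPt → ℤ) (x : Cfsg.GolayPt → ℤ) = -24}, -w - x ∈ {x : ↥Cfsg.leechLattice | Cfsg.sqNorm (x : Cfsg.GolayPt → ℤ) = 32 ∧ Cfsg.dotInt (v : Cfsg.GolayPt → ℤ) (x : Cfsg.GolayPt → ℤ) = 16 ∧ Cfsg.dotInt (w : Cfsg.GolayPt → ℤ) (x : Cfsg.GolayPt → ℤ) = -24}) ∧ (∀ x ∈ {x : ↥Cfsg.leechLattice | Cfsg.sqNorm (x : Cfsg.GolayPt → ℤ) = 32 ∧ Cfsg.dotInt (v : Cfsg.GolayPt → ℤ) (x : Cfsg.GolayPt → ℤ) = 16 ∧ Cfsg.dotInt (w : Cfsg.GolayPt → ℤ) (x : Cfsg.GolayPt → ℤ) = -24}, ∀ x' ∈ {x : ↥Cfsg.leechLattice | Cfsg.sqNorm (x : Cfsg.GolayPt → ℤ) = 32 ∧ Cfsg.dotInt (v : Cfsg.GolayPt → ℤ) (x : Cfsg.GolayPt → ℤ) = 16 ∧ Cfsg.dotInt (w : Cfsg.GolayPt → ℤ) (x : Cfsg.GolayPt → ℤ) = -24}, ∃ g : ↥Cfsg.Co0, g • v = v ∧ g • w = w ∧ g • x = x') ∧ ∀ x ∈ {x : ↥Cfsg.leechLattice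 | Cfsg.sqNorm (x : Cfsg.GolayPt → ℤ) = 32 ∧ Cfsg.dotInt (v : Cfsg.GolayPt → ℤ) (x : Cfsg.GolayPt → ℤ) = 16 ∧ Cfsg.dotInt (w : Cfsg.GolayPt → ℤ) (x : Cfsg.GolayPt → ℤ) = -24}, Nonempty (↥(MulAction.stabilizer ↥Cfsg.Co0 v ⊓ MulAction.stabilizer ↥Cfsg.Co0 w ⊓ MulAction.stabilizer ↥Cfsg.Co0 x) ≃* Cfsg.PSU 3 F 5) := by
  obtain ⟨g, gv, gw⟩ := CfsgLib.Leech.canonHS v w hv hw hvw
  have htr := CfsgLib.Leech.U35.transport352 gv gw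
  have hto : ∀ x : ↥Cfsg.leechLattice, (Cfsg.sqNorm (x : Cfsg.GolayPt → ℤ) = 32 ∧
      Cfsg.dotInt (v : Cfsg.GolayPt → ℤ) (x : Cfsg.GolayPt → ℤ) = 16 ∧
      Cfsg.dotInt (w : Cfsg.GolayPt → ℤ) (x : Cfsg.GolayPt → ℤ) = -24) →
      ∃ h : ↥Cfsg.Co0, h • v = CfsgLib.Leech.bD ∧ h • w = CfsgLib.Leech.bW ∧ h • x = CfsgLib.Leech.U35.bT := by
    intro x hx
    obtain ⟨a, aD, aW, ax⟩ := CfsgLib.Leech.U35.to352 ((htr x).1 hx)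
    exact ⟨a * g, by rw [mul_smul, gv, aD], by rw [mul_smul, gw, aW], by rw [mul_smul, ax]⟩
  refine ⟨?_, ?_, ?_, ?_⟩
  · rw [CfsgLib.Leech.ncard_transport g _
      (fun z : ↥Cfsg.leechLattice => (z : Cfsg.GolayPt → ℤ) ∈ CfsgLib.Leech.U35.set352) htr,
      CfsgLib.Leech.ncard_val (fun z => z ∈ CfsgLib.Leech.U35.set352) fun z hz => hz.1.1]
    exact CfsgLib.Leech.U35.ncard_set352
  · rintro x ⟨h1, h2, h3⟩
    have hvw' := hvw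
    have hw' := hw
    have e1 : Cfsg.sqNorm (((-w - x : ↥Cfsg.leechLattice)) : Cfsg.GolayPt → ℤ) =
        Cfsg.sqNorm (w : Cfsg.GolayPt → ℤ) + 2 * Cfsg.dotInt (w : Cfsg.GolayPt → ℤ) (x : Cfsg.GolayPt → ℤ) +
          Cfsg.sqNorm (x : Cfsg.GolayPt → ℤ) := by
      simp only [Cfsg.sqNorm, Cfsg.dotInt, AddSubgroup.coe_sub, AddSubgroup.coe_neg, Pi.sub_apply,
        Pi.neg_apply, Finset.mul_sum, ← Finset.sum_add_distrib]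
      exact Finset.sum_congr rfl fun i _ => by ring
    have e2 : ∀ u : Cfsg.GolayPt → ℤ, Cfsg.dotInt u (((-w - x : ↥Cfsg.leechLattice)) : Cfsg.GolayPt → ℤ) =
        -Cfsg.dotInt u (w : Cfsg.GolayPt → ℤ) - Cfsg.dotInt u (x : Cfsg.GolayPt → ℤ) := by
      intro u
      simp only [Cfsg.dotInt, AddSubgroup.coe_sub, AddSubgroup.coe_neg, Pi.sub_apply,
        Pi.neg_apply, ← Finset.sum_neg_distrib, ← Finset.sum_sub_distrib]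
      exact Finset.sum_congr rfl fun i _ => by ring
    have e3 : Cfsg.dotInt (w : Cfsg.GolayPt → ℤ) (w : Cfsg.GolayPt → ℤ) = Cfsg.sqNorm (w : Cfsg.GolayPt → ℤ) :=
      Finset.sum_congr rfl fun i _ => by ring
    refine ⟨?_, ?_, ?_⟩
    · rw [e1, hw, h1, h3]; norm_num
    · rw [e2, hvw, h2]; norm_num
    · rw [e2, e3, hw, h3]; norm_num
  · intro x hx x' hx'
    obtain ⟨a, av, aw, ax⟩ := hto x hx
    obtain ⟨b, bv, bw, bx⟩ := hto x' hx'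
    exact ⟨b⁻¹ * a, by rw [mul_smul, av, ← bv, inv_smul_smul], by rw [mul_smul, aw, ← bw, inv_smul_smul],
      by rw [mul_smul, ax, ← bx, inv_smul_smul]⟩
  · intro x hx
    obtain ⟨a, av, aw, ax⟩ := hto x hx
    obtain ⟨e⟩ := CfsgLib.Leech.U35.pointGroup_iso (F := F) hF
    refine ⟨MulEquiv.trans ?_ e⟩
    refine ((MulAction.stabilizer ↥Cfsg.Co0 v ⊓ MulAction.stabilizer ↥Cfsg.Co0 w ⊓
      MulAction.stabilizer ↥Cfsg.Co0 x).equivMapOfInjective (MulAut.conj a).toMonoidHom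
      (MulAut.conj a).injective).trans (MulEquiv.subgroupCongr ?_)
    ext h
    rw [Subgroup.mem_map_equiv, CfsgLib.Leech.U35.mem_pointGroup]
    simp only [Subgroup.mem_inf, MulAction.mem_stabilizer_iff, MulAut.conj_symm_apply, and_assoc,
      mul_smul, inv_smul_eq_iff, av, aw, ax]

end Cfsg.Agent.S1633
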