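import Cfsg.Statements.S1635
import Cfsg.Agent.GolayConfig.Punctured

set_option autoImplicit false
open Cfsg

open CfsgLib.Mathieu CfsgLib.GolayConfig

namespace Cfsg.Agent.S1635

/-- Coset leaders of the length-24 code: a coset contains a unique word of weight ≤ 3, or else exactly six words of weight 4 and none lighter. -/
theorem result (w : Cfsg.GolayPt → ZMod 2) : ({v : Cfsg.GolayPt → ZMod 2 | hammingNorm v ≤ 4 ∧ w - v ∈ Cfsg.golayCode}.ncard = 1 ∧ ∃ v : Cfsg.GolayPt → ZMod 2, hammingNorm v ≤ 3 ∧ w - v ∈ Cfsg.golayCode) ∨ ({v : Cfsg.GolayPt → ZMod 2 | hammingNorm v ≤ 4 ∧ w - v ∈ Cfsg.golayCode}.ncard = 6 ∧ ∀ v : Cfsg.GolayPt → ZMod 2, w - v ∈ Cfsg.golayCode → hammingNorm v ≤ 4 → hammingNorm v = 4) := by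
  have hsupp : ∀ v v' : GolayPt → ZMod 2, v ≠ v' → w - v ∈ golayCode → w - v' ∈ golayCode →
      hammingNorm v ≤ 4 → hammingNorm v' ≤ 4 →
      hammingNorm v = 4 ∧ hammingNorm v' = 4 ∧ Disjoint (support₂ v) (support₂ v') := by
    intro v v' hne hv hv' hn hn'
    have hc : v' - v ∈ golayCode := by simpa using sub_mem hv hv'
    have h8 := hammingNorm_code hc (sub_ne_zero.2 hne.symm)
    rw [hammingNorm_eq_card_support] at h8 hn hn' ⊢
    rw [hammingNorm_eq_card_support]
    have hle : (support₂ (v' - v)).card ≤ (support₂ v ∪ support₂ v').card := by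
      refine Finset.card_le_card fun p hp => ?_
      simp only [support₂, Finset.mem_filter, Finset.mem_univ, true_and, Finset.mem_union,
        Pi.sub_apply] at hp ⊢
      by_contra h
      push Not at h
      exact hp (by rw [h.1, h.2, sub_zero])
    have hu := Finset.card_union_add_card_inter (support₂ v) (support₂ v')
    refine ⟨by omega, by omega, Finset.disjoint_iff_inter_eq_empty.2 (Finset.card_eq_zero.1 (by omega))⟩
  by_cases hsmall : ∃ v : GolayPt → ZMod 2, hammingNorm v ≤ 3 ∧ w - v ∈ golayCode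
  · obtain ⟨v, hv, hvc⟩ := hsmall
    refine Or.inl ⟨?_, v, hv, hvc⟩
    rw [Set.ncard_eq_one]
    refine ⟨v, Set.eq_singleton_iff_unique_mem.2 ⟨⟨by omega, hvc⟩, fun v' hv' => ?_⟩⟩
    by_contra hne
    have := (hsupp v v' (Ne.symm hne) hvc hv'.2 (by omega) hv'.1).1
    omega
  · push Not at hsmall
    have hfour : ∀ v : GolayPt → ZMod 2, w - v ∈ golayCode → hammingNorm v ≤ 4 →
        hammingNorm v = 4 := fun v hc hn => by
      by_contra h
      exact hsmall v (by omega) hc
    refine Or.inr ⟨?_, hfour⟩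
    -- some word of weight four lies in the coset
    obtain ⟨v₀, hv₀, hv₀c⟩ : ∃ v : GolayPt → ZMod 2, hammingNorm v ≤ 4 ∧ w - v ∈ golayCode := by
      obtain ⟨c, ⟨c', hc', hcc⟩, hd⟩ := code23_cover (restr w)
      refine ⟨w - c', ?_, by simpa using hc'⟩
      have : restr c' = c := funext fun x => (hcc x).symm
      have h := hammingNorm_le_restr (w - c')
      rw [restr_sub, this, ← dist_eq_norm_sub] at h
      omega
    have hfin : {v : GolayPt → ZMod 2 | hammingNorm v ≤ 4 ∧ w - v ∈ golayCode}.Finite :=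
      Set.toFinite _
    have hcover : (Finset.univ : Finset GolayPt) = hfin.toFinset.biUnion support₂ := by
      symm
      rw [Finset.eq_univ_iff_forall]
      intro i
      simp only [Finset.mem_biUnion, Set.Finite.mem_toFinset, Set.mem_ofPred_eq]
      by_cases hi : i ∈ support₂ v₀
      · exact ⟨v₀, ⟨hv₀, hv₀c⟩, hi⟩
      have h4 : (support₂ v₀).card = 4 := by rw [← hammingNorm_eq_card_support]; exact hfour _ hv₀c hv₀
      obtain ⟨o, ⟨ho, hsub⟩, -⟩ := octads_isSteinerSystem.2 (insert i (support₂ v₀))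
        (by rw [Finset.card_insert_of_notMem hi, h4])
      obtain ⟨c, hc, hco⟩ := ho.1
      have hs : support₂ (v₀ + c) = o \ support₂ v₀ := by
        ext p
        rw [← hco]
        have hp : p ∈ support₂ v₀ → p ∈ support₂ c := fun h => hco.symm ▸ hsub (Finset.mem_insert_of_mem h)
        simp only [support₂, Finset.mem_filter, Finset.mem_univ, true_and, Finset.mem_sdiff,
          Pi.add_apply] at hp ⊢
        revert hp
        generalize v₀ p = a
        generalize c p = b
        revert a b
        decide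
      refine ⟨v₀ + c, ⟨?_, ?_⟩, ?_⟩
      · rw [hammingNorm_eq_card_support, hs, Finset.card_sdiff_of_subset
          (fun p hp => hsub (Finset.mem_insert_of_mem hp)), ho.2, h4]
      · rw [sub_add_eq_sub_sub]; exact sub_mem hv₀c hc
      · rw [hs, Finset.mem_sdiff]; exact ⟨hsub (Finset.mem_insert_self _ _), hi⟩
    have hcard := congrArg Finset.card hcover
    rw [Finset.card_biUnion (fun a ha b hb hab => ?_), Finset.sum_congr rfl (g := fun _ => 4) ?_,
      Finset.sum_const, smul_eq_mul, Finset.card_univ] at hcard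
    · rw [Set.ncard_eq_toFinset_card _ hfin]
      simp only [Fintype.card_option, ZMod.card] at hcard
      omega
    · intro v hv
      rw [Set.Finite.mem_toFinset] at hv
      rw [← hammingNorm_eq_card_support]
      exact hfour v hv.2 hv.1
    · rw [Finset.mem_coe, Set.Finite.mem_toFinset] at ha hb
      exact (hsupp a b hab ha.2 hb.2 ha.1 hb.1).2.2

end Cfsg.Agent.S1635
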