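import Cfsg.Statements.S1638
import Cfsg.Agent.GolayConfig.Std

set_option autoImplicit false
open scoped Pointwise
open Cfsg

open CfsgLib.Mathieu CfsgLib.GolayConfig

namespace Cfsg.Agent.S1638

theorem card_pairMasks_nodup : pairMasks.Nodup := by decide +kernel

theorem pairMasks_wt : pairMasks.all (fun M => wt M == 2 && M % 16777216 == M) = true := by
  decide +kernel

theorem ncard_pairSet {P : Finset GolayPt → Prop} {pred : ℕ → Bool} {n : ℕ}
    (hP : ∀ M, wt M = 2 → (pred M = true ↔ P (setOf24 M))) (h2 : ∀ s, P s → s.card = 2)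
    (hn : (pairMasks.filter pred).length = n) : {s | P s}.ncard = n := by
  have hmem : ∀ M ∈ pairMasks, wt M = 2 ∧ M < 2 ^ 24 := by
    intro M hM
    have := List.all_eq_true.1 pairMasks_wt M hM
    simp only [Bool.and_eq_true, beq_iff_eq] at this
    exact ⟨this.1, by rw [← this.2]; exact Nat.mod_lt _ (by norm_num)⟩
  have e : {s | P s} = ↑((pairMasks.filter pred).map setOf24).toFinset := by
    ext s
    simp only [Set.mem_ofPred_eq, List.coe_toFinset, List.mem_map]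
    constructor
    · intro hs
      have hM := maskOf_mem_pairMasks (h2 s hs)
      exact ⟨maskOf s, List.mem_filter.2 ⟨hM, (hP _ (hmem _ hM).1).2 (by rwa [setOf24_maskOf])⟩,
        setOf24_maskOf s⟩
    · rintro ⟨M, hM, rfl⟩
      obtain ⟨h1, h3⟩ := List.mem_filter.1 hM
      exact (hP M (hmem M h1).1).1 h3
  rw [e, Set.ncard_coe_finset, List.toFinset_card_of_nodup, List.length_map, hn]
  refine List.Nodup.map_on (fun a ha b hb h => ?_) (List.Nodup.filter pred card_pairMasks_nodup)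
  exact setOf24_inj (hmem a (List.mem_filter.1 ha).1).2 (hmem b (List.mem_filter.1 hb).1).2 h

/-- The octads through the two standard points and the standard pair. -/
def octsAround : List ℕ :=
  codeSel fun M => wt M == 8 && (hasPt 23 M && (hasPt 0 M && wt (cPair &&& M) == 2))

/-- Whether a pair lies in such an octad. -/
def inOct (T : ℕ) : Bool := octsAround.any fun o => wt (o &&& T) == wt T

theorem subset_iff_inter_card (s t : Finset GolayPt) : s ⊆ t ↔ (t ∩ s).card = s.card :=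
  ⟨fun h => by rw [Finset.inter_eq_right.2 h],
   fun h => Finset.inter_eq_right.1 (Finset.eq_of_subset_of_card_le Finset.inter_subset_right h.ge)⟩

theorem inOct_iff (T : Finset GolayPt) : inOct (maskOf T) = true ↔
    ∃ o ∈ octads, pt 23 ∈ o ∧ pt 0 ∈ o ∧ setOf24 cPair ∪ T ⊆ o := by
  have hc : (setOf24 cPair).card = 2 := by rw [card_setOf24]; decide +kernel
  have hf : ∀ M, (wt M == 8 && (hasPt 23 M && (hasPt 0 M && wt (cPair &&& M) == 2))) = true ↔
      (setOf24 M).card = 8 ∧ pt 23 ∈ setOf24 M ∧ pt 0 ∈ setOf24 M ∧ setOf24 cPair ⊆ setOf24 M := by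
    intro M
    rw [subset_iff_inter_card, hc, Finset.inter_comm, ← setOf24_and, card_setOf24, card_setOf24]
    simp only [Bool.and_eq_true, beq_iff_eq, hasPt_iff (by norm_num : 23 < 24),
      hasPt_iff (by norm_num : 0 < 24)]
  simp only [inOct, octsAround, List.any_eq_true, beq_iff_eq]
  constructor
  · rintro ⟨M, hM, hT⟩
    obtain ⟨hM, hp⟩ := List.mem_filter.1 hM
    obtain ⟨h8, h1, h2, h3⟩ := (hf M).1 hp
    refine ⟨setOf24 M, ⟨setOf24_mem_supports (mem_codeWords.1 hM), h8⟩, h1, h2,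
      Finset.union_subset h3 ((subset_iff_inter_card _ _).2 ?_)⟩
    rw [← wt_and_maskOf, hT, wt_maskOf]
  · rintro ⟨o, ho, h1, h2, h3⟩
    refine ⟨maskOf o, mem_codeSel ho.1 ((hf _).2 ?_), ?_⟩
    · rw [setOf24_maskOf]; exact ⟨ho.2, h1, h2, (Finset.union_subset_iff.1 h3).1⟩
    · rw [wt_and_maskOf, setOf24_maskOf, wt_maskOf,
        (subset_iff_inter_card _ _).1 (Finset.union_subset_iff.1 h3).2]

/-- Fix two points p ≠ q and a pair s of two further points. Among the pairs avoiding p, q and disjoint from s, exactly 30 lie in an octad together with p, q and s and exactly 160 do not; and any two pairs other than s that meet s in equally many points and agree on that octad property are carried to one another by an element of the group of the length-24 code fixing p, q and s. -/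
theorem result (p q : Cfsg.GolayPt) (hpq : p ≠ q) (s : Finset Cfsg.GolayPt) (hs : (s.card = 2 ∧ p ∉ s ∧ q ∉ s)) : {t : Finset Cfsg.GolayPt | (t.card = 2 ∧ p ∉ t ∧ q ∉ t) ∧ Disjoint s t ∧ (∃ o ∈ Cfsg.octads, p ∈ o ∧ q ∈ o ∧ s ∪ t ⊆ o)}.ncard = 30 ∧ {t : Finset Cfsg.GolayPt | (t.card = 2 ∧ p ∉ t ∧ q ∉ t) ∧ Disjoint s t ∧ ¬ (∃ o ∈ Cfsg.octads, p ∈ o ∧ q ∈ o ∧ s ∪ t ⊆ o)}.ncard = 160 ∧ ∀ t t' : Finset Cfsg.GolayPt, (t.card = 2 ∧ p ∉ t ∧ q ∉ t) → (t'.card = 2 ∧ p ∉ t' ∧ q ∉ t') → t ≠ s → t' ≠ s → (s ∩ t).card = (s ∩ t').card → ((∃ o ∈ Cfsg.octads, p ∈ o ∧ q ∈ o ∧ s ∪ t ⊆ o) ↔ (∃ o ∈ Cfsg.octads, p ∈ o ∧ q ∈ o ∧ s ∪ t' ⊆ o)) → ∃ g : Equiv.Perm Cfsg.GolayPt, g ∈ Cfsg.M24 ∧ g p = p ∧ g q = q ∧ g • s = s ∧ g • t = t' := by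
  obtain ⟨σ, hσ, hp', hq', hs'⟩ : ∃ σ ∈ M24, σ (pt 23) = p ∧ σ (pt 0) = q ∧
      σ • setOf24 cPair = s := by
    obtain ⟨σ, hσ, rfl, rfl⟩ := exists_point_pair hpq
    have hc : (σ⁻¹ • s).card = 2 := by rw [Finset.card_smul_finset]; exact hs.1
    have h1 : pt 23 ∉ σ⁻¹ • s := by rw [← smul_mem_iff σ, smul_inv_smul]; exact hs.2.1
    have h2 : pt 0 ∉ σ⁻¹ • s := by rw [← smul_mem_iff σ, smul_inv_smul]; exact hs.2.2
    obtain ⟨τ, hτ, hto⟩ := moves_pairSet gens22 cPair trPair (fun M => !hasPt 23 M && !hasPt 0 M)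
      (by decide +kernel) hc (by
        simp only [Bool.and_eq_true, Bool.not_eq_true']
        exact ⟨Bool.eq_false_iff.2 fun h => h1 ((hasPt_maskOf (by norm_num) _).1 h),
          Bool.eq_false_iff.2 fun h => h2 ((hasPt_maskOf (by norm_num) _).1 h)⟩)
    exact ⟨σ * τ, mul_mem hσ hτ.1.1, congrArg σ hτ.1.2, congrArg σ hτ.2,
      by rw [mul_smul, hto, smul_inv_smul]⟩
  have hR : ∀ t : Finset GolayPt, (∃ o ∈ octads, p ∈ o ∧ q ∈ o ∧ s ∪ σ • t ⊆ o) ↔
      inOct (maskOf t) = true := by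
    intro t
    rw [inOct_iff]
    constructor
    · rintro ⟨o, ho, h1, h2, h3⟩
      refine ⟨σ⁻¹ • o, (smul_mem_wordsOfWeight_iff (inv_mem hσ) 8 o).2 ho, ?_, ?_, ?_⟩
      · rw [← smul_mem_iff σ, smul_inv_smul, hp']; exact h1
      · rw [← smul_mem_iff σ, smul_inv_smul, hq']; exact h2
      · rw [← Finset.smul_finset_subset_smul_finset_iff (a := σ), Finset.smul_finset_union, hs',
          smul_inv_smul]
        exact h3
    · rintro ⟨o, ho, h1, h2, h3⟩
      refine ⟨σ • o, (smul_mem_wordsOfWeight_iff hσ 8 o).2 ho, ?_, ?_, ?_⟩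
      · rw [← hp', smul_mem_iff]; exact h1
      · rw [← hq', smul_mem_iff]; exact h2
      · rw [← hs', ← Finset.smul_finset_union]; exact Finset.smul_finset_subset_smul_finset h3
  have hbase : ∀ t : Finset GolayPt, ((σ • t).card = 2 ∧ p ∉ σ • t ∧ q ∉ σ • t) ↔
      (t.card = 2 ∧ pt 23 ∉ t ∧ pt 0 ∉ t) := by
    intro t; rw [← hp', ← hq', smul_mem_iff, smul_mem_iff, Finset.card_smul_finset]
  have hdisj : ∀ t : Finset GolayPt, Disjoint s (σ • t) ↔ (setOf24 cPair ∩ t).card = 0 := by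
    intro t
    rw [Finset.disjoint_iff_inter_eq_empty, ← Finset.card_eq_zero, ← hs', card_smul_inter]
  have hkey : ∀ (M : ℕ), wt M = 2 →
      (((!hasPt 23 M && !hasPt 0 M) && wt (cPair &&& M) == 0) = true ↔
        ((setOf24 M).card = 2 ∧ pt 23 ∉ setOf24 M ∧ pt 0 ∉ setOf24 M) ∧
          (setOf24 cPair ∩ setOf24 M).card = 0) := by
    intro M hM
    rw [← setOf24_and, card_setOf24, card_setOf24]
    simp only [hM, true_and, Bool.and_eq_true, Bool.not_eq_true', ← Bool.not_eq_true,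
      hasPt_iff (by norm_num : 23 < 24), hasPt_iff (by norm_num : 0 < 24), beq_iff_eq, and_assoc]
  have hmod : ∀ M ∈ pairMasks, maskOf (setOf24 M) = M := by
    intro M hM
    have := List.all_eq_true.1 pairMasks_wt M hM
    simp only [Bool.and_eq_true, beq_iff_eq] at this
    exact setOf24_inj (maskOf_lt _) (by rw [← this.2]; exact Nat.mod_lt _ (by norm_num))
      (setOf24_maskOf _)
  refine ⟨?_, ?_, ?_⟩
  · rw [ncard_transport σ (fun t => (t.card = 2 ∧ pt 23 ∉ t ∧ pt 0 ∉ t) ∧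
      (setOf24 cPair ∩ t).card = 0 ∧ inOct (maskOf t) = true) _
      (fun t => by rw [hbase, hdisj, hR])]
    refine ncard_pairSet (pred := fun M => ((!hasPt 23 M && !hasPt 0 M) && wt (cPair &&& M) == 0) &&
      inOct (maskOf (setOf24 M))) (fun M hM => ?_) (fun t h => h.1.1) ?_
    · rw [Bool.and_eq_true, hkey M hM, and_assoc]
    · rw [List.filter_congr (fun M hM => by rw [hmod M hM]) ]
      decide +kernel
  · rw [ncard_transport σ (fun t => (t.card = 2 ∧ pt 23 ∉ t ∧ pt 0 ∉ t) ∧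
      (setOf24 cPair ∩ t).card = 0 ∧ ¬ inOct (maskOf t) = true) _
      (fun t => by rw [hbase, hdisj, hR])]
    refine ncard_pairSet (pred := fun M => ((!hasPt 23 M && !hasPt 0 M) && wt (cPair &&& M) == 0) &&
      !inOct (maskOf (setOf24 M))) (fun M hM => ?_) (fun t h => h.1.1) ?_
    · rw [Bool.and_eq_true, hkey M hM, and_assoc, Bool.not_eq_true', Bool.not_eq_true]
    · rw [List.filter_congr (fun M hM => by rw [hmod M hM]) ]
      decide +kernel
  intro t t' ht ht' hts ht's hcard hiff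
  have hP22 : ∀ u ∈ gP22, InGroup enc (cut H22 setCoding cPair) u :=
    inGroup_of_checks (inGroup_of_checks (inGroup_of_checks (inGroup_of_isM24 (by decide +kernel))
      (by decide +kernel)) (by decide +kernel)) (by decide +kernel)
  have key : ∀ u : Finset GolayPt, (u.card = 2 ∧ p ∉ u ∧ q ∉ u) → u ≠ s →
      (!hasPt 23 (maskOf (σ⁻¹ • u)) && !hasPt 0 (maskOf (σ⁻¹ • u)) &&
        wt (cPair &&& maskOf (σ⁻¹ • u)) != 2) = true ∧
      wt (cPair &&& maskOf (σ⁻¹ • u)) = (s ∩ u).card ∧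
      ((∃ o ∈ octads, p ∈ o ∧ q ∈ o ∧ s ∪ u ⊆ o) ↔ inOct (maskOf (σ⁻¹ • u)) = true) := by
    intro u hu hne
    have hw : wt (cPair &&& maskOf (σ⁻¹ • u)) = (s ∩ u).card := by
      rw [wt_and_maskOf, ← card_smul_inter σ, hs', smul_inv_smul]
    refine ⟨?_, hw, by rw [← hR, smul_inv_smul]⟩
    have h' := (hbase (σ⁻¹ • u)).1 (by rw [smul_inv_smul]; exact hu)
    simp only [Bool.and_eq_true, Bool.not_eq_true', bne_iff_ne]
    refine ⟨⟨Bool.eq_false_iff.2 fun h => h'.2.1 ((hasPt_maskOf (by norm_num) _).1 h),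
      Bool.eq_false_iff.2 fun h => h'.2.2 ((hasPt_maskOf (by norm_num) _).1 h)⟩, fun h2 => hne ?_⟩
    have e1 : s ∩ u = u :=
      Finset.eq_of_subset_of_card_le Finset.inter_subset_right (by rw [← hw, h2, hu.1])
    exact Finset.eq_of_subset_of_card_le (Finset.inter_eq_right.1 e1) (by rw [hs.1, hu.1])
  obtain ⟨a1, a2, a3⟩ := key t ht hts
  obtain ⟨b1, b2, b3⟩ := key t' ht' ht's
  -- the three classes
  have cls : ∀ u : Finset GolayPt, u.card = 2 →
      (!hasPt 23 (maskOf u) && !hasPt 0 (maskOf u) && wt (cPair &&& maskOf u) != 2) = true →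
      (wt (cPair &&& maskOf u) = 0 ∧ inOct (maskOf u) = true ∧
          Moves (cut H22 setCoding cPair) (setOf24 r1638_0i) u) ∨
      (wt (cPair &&& maskOf u) = 0 ∧ inOct (maskOf u) = false ∧
          Moves (cut H22 setCoding cPair) (setOf24 r1638_0o) u) ∨
      (wt (cPair &&& maskOf u) = 1 ∧ Moves (cut H22 setCoding cPair) (setOf24 r1638_1i) u) := by
    intro u hu hpre
    have hle : wt (cPair &&& maskOf u) ≤ 2 := by
      rw [wt_and_maskOf]; exact hu ▸ Finset.card_le_card Finset.inter_subset_right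
    have hne : wt (cPair &&& maskOf u) ≠ 2 := by
      simp only [Bool.and_eq_true, bne_iff_ne] at hpre; exact hpre.2
    rcases (by omega : wt (cPair &&& maskOf u) = 0 ∨ wt (cPair &&& maskOf u) = 1) with h | h
    · cases hi : inOct (maskOf u)
      · exact Or.inr (Or.inl ⟨h, rfl, moves_pairSet hP22 r1638_0o tr1638_0o
          (fun M => ((!hasPt 23 M && !hasPt 0 M && wt (cPair &&& M) != 2) && wt (cPair &&& M) == 0) &&
            !inOct M) (by decide +kernel) hu
          (by rw [Bool.and_eq_true, Bool.and_eq_true, beq_iff_eq, hi]; exact ⟨⟨hpre, h⟩, rfl⟩)⟩)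
      · exact Or.inl ⟨h, rfl, moves_pairSet hP22 r1638_0i tr1638_0i
          (fun M => ((!hasPt 23 M && !hasPt 0 M && wt (cPair &&& M) != 2) && wt (cPair &&& M) == 0) &&
            inOct M) (by decide +kernel) hu
          (by rw [Bool.and_eq_true, Bool.and_eq_true, beq_iff_eq]; exact ⟨⟨hpre, h⟩, hi⟩)⟩
    · exact Or.inr (Or.inr ⟨h, moves_pairSet hP22 r1638_1i tr1638_1i
        (fun M => (!hasPt 23 M && !hasPt 0 M && wt (cPair &&& M) != 2) && wt (cPair &&& M) == 1)
        (by decide +kernel) hu (by rw [Bool.and_eq_true, beq_iff_eq]; exact ⟨hpre, h⟩)⟩)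
  have hkcard : wt (cPair &&& maskOf (σ⁻¹ • t)) = wt (cPair &&& maskOf (σ⁻¹ • t')) := by
    rw [a2, b2, hcard]
  have hkoct : inOct (maskOf (σ⁻¹ • t)) = inOct (maskOf (σ⁻¹ • t')) :=
    Bool.eq_iff_iff.2 (a3.symm.trans (hiff.trans b3))
  have hmv : Moves (cut H22 setCoding cPair) (σ⁻¹ • t) (σ⁻¹ • t') := by
    rcases cls _ (by rw [Finset.card_smul_finset]; exact ht.1) a1 with
        ⟨c1, c2, c3⟩ | ⟨c1, c2, c3⟩ | ⟨c1, c3⟩ <;>
      rcases cls _ (by rw [Finset.card_smul_finset]; exact ht'.1) b1 with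
        ⟨d1, d2, d3⟩ | ⟨d1, d2, d3⟩ | ⟨d1, d3⟩ <;>
      first
      | exact c3.symm.trans d3
      | omega
      | (rw [c2, d2] at hkoct; exact absurd hkoct (by decide))
  obtain ⟨τ, hτ, e⟩ := moves_conj hmv
  exact ⟨σ * τ * σ⁻¹, mul_mem (mul_mem hσ hτ.1.1.1) (inv_mem hσ),
    conj_fix (α := GolayPt) hp' hτ.1.1.2, conj_fix (α := GolayPt) hq' hτ.1.2, conj_fix hs' hτ.2, e⟩

end Cfsg.Agent.S1638
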