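import Cfsg.Statements.S1639
import Cfsg.Agent.GolayConfig.Std

set_option autoImplicit false
open scoped Pointwise
open Cfsg

open CfsgLib.Mathieu CfsgLib.GolayConfig

namespace Cfsg.Agent.S1639

/-- The point stabiliser acts on the 1288 dodecads through the point with rank 4 and subdegrees 1, 165, 330, 792, distinguished by intersection 4, 8, 6 with the fixed dodecad. -/
theorem result (x : Cfsg.GolayPt) (d : Finset Cfsg.GolayPt) (hd : d ∈ Cfsg.dodecads) (hx : x ∈ d) : {d' : Finset Cfsg.GolayPt | d' ∈ Cfsg.dodecads ∧ x ∈ d' ∧ (d ∩ d').card = 4}.ncard = 165 ∧ {d' : Finset Cfsg.GolayPt | d' ∈ Cfsg.dodecads ∧ x ∈ d' ∧ (d ∩ d').card = 8}.ncard = 330 ∧ {d' : Finset Cfsg.GolayPt | d' ∈ Cfsg.dodecads ∧ x ∈ d' ∧ (d ∩ d').card = 6}.ncard = 792 ∧ ∀ d' d'' : Finset Cfsg.GolayPt, d' ∈ Cfsg.dodecads → d'' ∈ Cfsg.dodecads → x ∈ d' → x ∈ d'' → (d ∩ d').card = (d ∩ d'').card → ∃ g : Equiv.Perm Cfsg.GolayPt, g ∈ Cfsg.M24 ∧ g x =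 x ∧ g • d = d ∧ g • d' = d'' := by
  have hD23 : ∀ t ∈ gD23, InGroup enc (cut H23 setCoding cDodX) t :=
    inGroup_of_checks (inGroup_of_checks (inGroup_of_isM24 (by decide +kernel)) (by decide +kernel))
      (by decide +kernel)
  obtain ⟨σ, hσ, hx', hd'⟩ : ∃ σ ∈ M24, σ (pt 23) = x ∧ σ • setOf24 cDodX = d := by
    obtain ⟨σ, hσ, rfl⟩ := moves_point x
    have ho' : σ⁻¹ • d ∈ dodecads := smul_inv_mem_dodecads hσ hd
    have hm : pt 23 ∈ σ⁻¹ • d := by rw [← smul_mem_iff σ, smul_inv_smul]; exact hx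
    obtain ⟨τ, hτ, hto⟩ := moves_codeSet gens23 cDodX trDod (fun M => wt M == 12 && hasPt 23 M)
      (by decide +kernel) (by decide +kernel) ho'.1
      (by rw [Bool.and_eq_true, beq_iff_eq, wt_maskOf]
          exact ⟨ho'.2, (hasPt_maskOf (by norm_num) _).2 hm⟩)
    exact ⟨σ * τ, mul_mem hσ hτ.1, congrArg σ hτ.2, by rw [mul_smul, hto, smul_inv_smul]⟩
  have hcount : ∀ k n : ℕ,
      (codeSel fun M => wt M == 12 && (hasPt 23 M && wt (cDodX &&& M) == k)).length = n →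
      {d' : Finset GolayPt | d' ∈ dodecads ∧ x ∈ d' ∧ (d ∩ d').card = k}.ncard = n := by
    intro k n hn
    rw [ncard_transport σ (fun s => s ∈ dodecads ∧ pt 23 ∈ s ∧ (setOf24 cDodX ∩ s).card = k) _
      (fun s => by rw [← hx', ← hd', smul_mem_iff, card_smul_inter, dodecads,
        smul_mem_wordsOfWeight_iff hσ])]
    simp only [dodecads, wordsOfWeight, Set.mem_ofPred_eq, and_assoc]
    exact ncard_codeSet (fun M => by
      simp only [Bool.and_eq_true, beq_iff_eq, hasPt_iff (by norm_num : 23 < 24),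
        ← card_setOf24, setOf24_and]) hn
  refine ⟨hcount 4 165 (by decide +kernel), hcount 8 330 (by decide +kernel),
    hcount 6 792 (by decide +kernel), ?_⟩
  intro d' d'' h' h'' hx1 hx2 hcard
  have key : ∀ u ∈ dodecads, x ∈ u →
      ((wt (maskOf (σ⁻¹ • u)) == 12) && hasPt 23 (maskOf (σ⁻¹ • u))) = true ∧
        wt (cDodX &&& maskOf (σ⁻¹ • u)) = (d ∩ u).card := by
    intro u hu hxu
    rw [Bool.and_eq_true, beq_iff_eq, wt_maskOf]
    refine ⟨⟨(smul_inv_mem_dodecads hσ hu).2, (hasPt_maskOf (by norm_num) _).2 ?_⟩, ?_⟩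
    · rw [← smul_mem_iff σ, smul_inv_smul, hx']; exact hxu
    · rw [wt_and_maskOf, ← card_smul_inter σ, hd', smul_inv_smul]
  obtain ⟨τ, hτ, e⟩ := moves_conj (moves_classes hD23
    [(r1639_4, tr1639_4), (r1639_6, tr1639_6), (r1639_8, tr1639_8), (r1639_12, tr1639_12)]
    (fun M => wt M == 12 && hasPt 23 M) (fun M => wt (cDodX &&& M)) (by decide +kernel)
    (by decide +kernel) (smul_mem_supports (inv_mem hσ) h'.1) (smul_mem_supports (inv_mem hσ) h''.1)
    (key d' h' hx1).1 (key d'' h'' hx2).1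
    ((key d' h' hx1).2.trans (hcard.trans (key d'' h'' hx2).2.symm)))
  exact ⟨σ * τ * σ⁻¹, mul_mem (mul_mem hσ hτ.1.1) (inv_mem hσ),
    conj_fix (α := GolayPt) hx' hτ.1.2, conj_fix hd' hτ.2, e⟩

end Cfsg.Agent.S1639
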