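import Cfsg.Statements.S1642
import Cfsg.Agent.Leech.HsInvolution

set_option autoImplicit false
open Cfsg

namespace Cfsg.Agent.S1642

/-- Some involution of the Higman–Sims group acts without fixed points on its 100 points. -/
theorem result (v w : ↥Cfsg.leechLattice) (hv : Cfsg.sqNorm (v : Cfsg.GolayPt → ℤ) = 48) (hw : Cfsg.sqNorm (w : Cfsg.GolayPt → ℤ) = 48) (hvw : Cfsg.dotInt (v : Cfsg.GolayPt → ℤ) (w : Cfsg.GolayPt → ℤ) = -32) : ∃ g : ↥Cfsg.Co0, g • v = v ∧ g • w = w ∧ orderOf g = 2 ∧ ∀ x ∈ {x : ↥Cfsg.leechLattice | Cfsg.sqNorm (x : Cfsg.GolayPt → ℤ) = 32 ∧ Cfsg.dotInt (v : Cfsg.GolayPt → ℤ) (x : Cfsg.GolayPt → ℤ) = 24 ∧ Cfsg.dotInt (w : Cfsg.GolayPt → ℤ) (x : Cfsg.GolayPt → ℤ) = -24}, g • x ≠ x := by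
  obtain ⟨g, gv, gw⟩ := CfsgLib.Leech.canonHS v w hv hw hvw
  obtain ⟨h, hD, hW, h2, hmove⟩ := CfsgLib.Leech.exists_hs_involution
  refine ⟨g⁻¹ * h * g, ?_, ?_, ?_, fun x hx e => ?_⟩
  · rw [mul_smul, mul_smul, gv, hD, ← gv, inv_smul_smul]
  · rw [mul_smul, mul_smul, gw, hW, ← gw, inv_smul_smul]
  · have h1 : h ≠ 1 := by
      rintro rfl
      simp at h2
    have h22 : h ^ 2 = 1 := h2 ▸ pow_orderOf_eq_one h
    have he : g⁻¹ * h * g = MulAut.conj g⁻¹ h := by rw [MulAut.conj_apply, inv_inv]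
    rw [he]
    exact (orderOf_injective (MulAut.conj g⁻¹).toMonoidHom (MulEquiv.injective _) h).trans h2
  · refine hmove (g • x) ((CfsgLib.Leech.hs_transport gv gw x).1 hx) ?_
    rw [mul_smul, mul_smul] at e
    conv_rhs => rw [← e]
    rw [smul_inv_smul]

end Cfsg.Agent.S1642
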