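import Cfsg.Statements.S1644
import Cfsg.Agent.JOneUnique.Main
import Cfsg.Agent.J1Local.Centralizer
import Cfsg.Agent.SporB.J1Simple

set_option autoImplicit false
open Cfsg

namespace Cfsg.Agent.S1644

/-- The first Janko group recognised by an involution centraliser, at the level of isomorphism: a finite simple group with abelian Sylow 2-subgroups of order 8 and an involution whose centraliser is isomorphic to Z/2 × A₅ is isomorphic to the subgroup of GL(7, 11) generated by the two explicit Janko matrices. -/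
theorem result {G : Type*} [Group G] [Finite G] [IsSimpleGroup G] (S : Sylow 2 G) (hS : IsMulCommutative (S : Subgroup G)) (h8 : Nat.card S = 8) (t : G) (ht : orderOf t = 2) (e : (Subgroup.centralizer ({t} : Set G)) ≃* Multiplicative (ZMod 2) × alternatingGroup (Fin 5)) : Cfsg.Spor.IsoJ1 G := by
  haveI : Fact (Nat.Prime 2) := ⟨Nat.prime_two⟩
  have hP : ∃ P : Sylow 2 G, t ∈ P ∧ ∀ x ∈ P, x * t = t * x := by
    obtain ⟨P, hP⟩ := (IsPGroup.of_card (p := 2) (n := 1) (G := Subgroup.zpowers t)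
      (by rw [Nat.card_zpowers, ht, pow_one])).exists_le_sylow
    have htP : t ∈ P := hP (Subgroup.mem_zpowers t)
    refine ⟨P, htP, fun x hx => ?_⟩
    let E : (P : Subgroup G) ≃* (S : Subgroup G) := P.equiv S
    exact congrArg Subtype.val (E.injective (a₁ := ⟨x, hx⟩ * ⟨t, htP⟩) (a₂ := ⟨t, htP⟩ * ⟨x, hx⟩)
      (by rw [map_mul, map_mul]; exact hS.is_comm.comm _ _))
  obtain ⟨T, -⟩ := CfsgLib.J1Order.Setting.exists_of_iso ht hP e
  haveI : IsSimpleGroup Cfsg.Spor.J1 := CfsgLib.SporB.J1.isSimpleGroup_J1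
  haveI : Finite Cfsg.Spor.J1 := Nat.finite_of_card_ne_zero (by rw [CfsgLib.J1.card_J1]; norm_num)
  obtain ⟨u, hu, ⟨f⟩⟩ := CfsgLib.J1Local.exists_centralizer (G := Cfsg.Spor.J1) CfsgLib.J1.card_J1
  obtain ⟨U, -⟩ := CfsgLib.J1Order.Setting.exists_of_iso hu.1 hu.2 f
  exact CfsgLib.JOneUnique.nonempty_mulEquiv T U

end Cfsg.Agent.S1644
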