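import Cfsg.Statements.S1668
import Cfsg.Agent.SuzRank.Recognition
import Cfsg.Agent.GTwoFour.Main
import Mathlib.FieldTheory.Finite.GaloisField

set_option autoImplicit false
open Cfsg

namespace Cfsg.Agent.S1668

/-- Recognition of the sporadic Suzuki group as a rank 3 permutation group: a transitive permutation group on 1782 points in which the stabiliser of a point is isomorphic to the Chevalley group G₂(4) and has two further orbits, of sizes 416 and 1365, is isomorphic to the sporadic Suzuki group. -/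
theorem result {Ω : Type*} [Fintype Ω] [DecidableEq Ω] (hΩ : Fintype.card Ω = 1782) (G : Subgroup (Equiv.Perm Ω)) [MulAction.IsPretransitive G Ω] (a : Ω) (K : Type) [Field K] [Fintype K] (hK : Fintype.card K = 4) (e : MulAction.stabilizer G a ≃* Cfsg.Lie.chevG2.group K) (b c : Ω) (hb : (MulAction.orbit (MulAction.stabilizer G a) b).ncard = 416) (hc : (MulAction.orbit (MulAction.stabilizer G a) c).ncard = 1365) : Cfsg.Spor.IsoSuz G := by
  classical
  let E24 : CfsgLib.SuzRank.P6 ≃* CfsgLib.SuzG2.G24 :=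
    MulEquiv.ofBijective CfsgLib.SuzG2.hom CfsgLib.SuzRank.hom_bijective
  let eG : MulAction.stabilizer G a ≃* CfsgLib.SuzRank.P6 :=
    e.trans ((CfsgLib.GTwoFour.groupEquiv (FiniteField.ringEquivOfCardEq
      (hK.trans CfsgLib.CriticalFive.F4.card_eq.symm))).trans E24.symm)
  obtain ⟨τ, hτ, hτa, hτr, hτs, hτc⟩ := CfsgLib.SuzRank.exists_tau hΩ a b c eG hb hc
  -- the sporadic group on the cosets of the subgroup on `a, …, f`
  obtain ⟨hidx, q₁, q₂, h1, h2⟩ := Cfsg.Agent.S1680.result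
  obtain ⟨E⟩ := CfsgLib.SuzG2.nonempty_equiv_sub
  haveI : IsSimpleGroup Cfsg.Spor.Suz := CfsgLib.CosetEnum.Suz.isSimpleGroup_Suz
  haveI : Finite Cfsg.Spor.Suz := CfsgLib.CosetEnum.Suz.finite_grp
  generalize hH : ((Subgroup.closure ({Cfsg.Spor.Suz.a, Cfsg.Spor.Suz.b, Cfsg.Spor.Suz.c, Cfsg.Spor.Suz.d,
    Cfsg.Spor.Suz.e, Cfsg.Spor.Suz.f} : Set (FreeGroup Cfsg.Spor.Suz.Gen))).map (PresentedGroup.mk
      (Cfsg.Spor.coxRelators Cfsg.Spor.Suz.edges ∪ {r | r ∈ Cfsg.Spor.Suz.extra}))) = H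
    at hidx q₁ q₂ h1 h2 E
  letI : Fintype (Cfsg.Spor.Suz ⧸ H) := Fintype.ofFinite _
  have hcard : Fintype.card (Cfsg.Spor.Suz ⧸ H) = 1782 := by
    rw [← Nat.card_eq_fintype_card, ← Subgroup.index_eq_card, hidx]
  haveI : FaithfulSMul Cfsg.Spor.Suz (Cfsg.Spor.Suz ⧸ H) := by
    constructor
    intro x y hxy
    rcases (MulAction.toPermHom Cfsg.Spor.Suz (Cfsg.Spor.Suz ⧸ H)).normal_ker.eq_bot_or_eq_top with hk | hk
    · exact (MonoidHom.ker_eq_bot_iff _).1 hk (Equiv.ext hxy)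
    · exfalso
      have hsub : Subsingleton (Cfsg.Spor.Suz ⧸ H) := ⟨fun p q => by
        obtain ⟨g, rfl⟩ := MulAction.exists_smul_eq Cfsg.Spor.Suz p q
        have hg : g ∈ (MulAction.toPermHom Cfsg.Spor.Suz (Cfsg.Spor.Suz ⧸ H)).ker := hk ▸ Subgroup.mem_top g
        exact (Equiv.ext_iff.1 (MonoidHom.mem_ker.1 hg) p).symm⟩
      have := Fintype.card_le_one_iff_subsingleton.2 hsub
      omega
  have hst : MulAction.stabilizer Cfsg.Spor.Suz ((1 : Cfsg.Spor.Suz) : Cfsg.Spor.Suz ⧸ H) = H :=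
    MulAction.stabilizer_quotient H
  have horb : ∀ q : Cfsg.Spor.Suz ⧸ H,
      (MulAction.orbit (MulAction.stabilizer Cfsg.Spor.Suz ((1 : Cfsg.Spor.Suz) : Cfsg.Spor.Suz ⧸ H)) q).ncard =
        (MulAction.orbit H q).ncard := fun q => by
    congr 1
    ext z
    exact ⟨fun ⟨g, hg⟩ => ⟨⟨g.1, hst.le g.2⟩, hg⟩, fun ⟨g, hg⟩ => ⟨⟨g.1, hst.ge g.2⟩, hg⟩⟩
  let eS := (MulEquiv.subgroupCongr hst).trans (E.trans E24.symm)
  obtain ⟨σ, hσ, hσa, hσr, -, hσc⟩ := CfsgLib.SuzRank.exists_tau hcard _ q₁ q₂ eS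
    ((horb q₁).trans h1) ((horb q₂).trans h2)
  have heq := CfsgLib.SuzRank.eq_of_reps hτa hσa hτr hσr hτs hτc hσc
  exact ⟨(MonoidHom.ofInjective hτ).trans
    ((MulEquiv.subgroupCongr heq).trans (MonoidHom.ofInjective hσ).symm)⟩

end Cfsg.Agent.S1668
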