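import Cfsg.Statements.S1691

set_option autoImplicit false
open Cfsg

namespace Cfsg.Agent.S1691

/-- The commutator subgroup of the presented group Fi₂₄ has index 2 (the presented group is Fi₂₄′:2 with Fi₂₄′ its derived subgroup). -/
theorem result : (commutator Cfsg.Spor.Fi24).index = 2 := by
  let φ : Cfsg.Spor.Fi24 →* Multiplicative (ZMod 2) :=
    PresentedGroup.toGroup (f := fun _ => Multiplicative.ofAdd 1) (by
      intro r hr
      rcases hr with ⟨x, -, y, -, rfl⟩ | hr
      · rw [map_pow, map_mul, FreeGroup.lift_apply_of, FreeGroup.lift_apply_of,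
          show Multiplicative.ofAdd (1 : ZMod 2) * Multiplicative.ofAdd 1 = 1 by decide, one_pow]
      · simp only [Cfsg.Spor.Fi24.extra, List.mem_cons, List.mem_nil_iff, or_false,
          Set.mem_ofPred_eq] at hr
        rcases hr with rfl | rfl
        · simp only [map_pow, map_mul, map_inv, FreeGroup.lift_apply_of]; decide
        · simp only [map_pow, map_mul, FreeGroup.lift_apply_of]; decide)
  rw [Subgroup.index_eq_card]
  let q : Cfsg.Spor.Fi24 →* Abelianization Cfsg.Spor.Fi24 := Abelianization.of
  let s := fun x : Cfsg.Spor.Fi24.Gen => q (PresentedGroup.of x)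
  have hrel : ∀ x y, x ∈ Cfsg.Spor.coxNodes Cfsg.Spor.Fi24.edges → y ∈ Cfsg.Spor.coxNodes Cfsg.Spor.Fi24.edges →
      (s x * s y) ^ Cfsg.Spor.coxLabel Cfsg.Spor.Fi24.edges x y = 1 := by
    intro x y hx hy
    have h := congrArg q (PresentedGroup.one_of_mem
      (rels := Cfsg.Spor.coxRelators Cfsg.Spor.Fi24.edges ∪ {r | r ∈ Cfsg.Spor.Fi24.extra})
      (x := (FreeGroup.of x * FreeGroup.of y) ^ Cfsg.Spor.coxLabel Cfsg.Spor.Fi24.edges x y)
      (Or.inl ⟨x, hx, y, hy, rfl⟩))
    simp only [map_pow, map_mul, map_one] at h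
    exact h
  have hmem : ∀ x, x ∈ Cfsg.Spor.coxNodes Cfsg.Spor.Fi24.edges := fun x => by cases x <;> decide
  have hsq : ∀ x, s x * s x = 1 := fun x => by
    have := hrel x x (hmem x) (hmem x)
    simpa [Cfsg.Spor.coxLabel] using this
  have hedge : ∀ x y, Cfsg.Spor.coxLabel Cfsg.Spor.Fi24.edges x y = 3 → s x = s y := fun x y h => by
    have h1 := hrel x y (hmem x) (hmem y)
    rw [h, mul_pow, pow_succ (s x), pow_succ (s y), pow_two, pow_two, hsq, hsq, one_mul, one_mul] at h1
    rw [eq_inv_of_mul_eq_one_left h1, ← eq_inv_of_mul_eq_one_left (hsq y)]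
  have hall : ∀ x, s x = s Cfsg.Spor.Fi24.Gen.d := by
    open Cfsg.Spor.Fi24.Gen in
    have e1 := hedge c d (by decide)
    have e2 := (hedge b c (by decide)).trans e1
    have e3 := (hedge a b (by decide)).trans e2
    have e4 := (hedge k a (by decide)).trans e3
    have e5 := (hedge l k (by decide)).trans e4
    have e6 := hedge e d (by decide)
    have e7 := (hedge f e (by decide)).trans e6
    have e8 := (hedge g f (by decide)).trans e7
    have e9 := (hedge j g (by decide)).trans e8
    have e10 := hedge h d (by decide)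
    have e11 := (hedge i h (by decide)).trans e10
    intro x; cases x <;> first | rfl | assumption
  have hsurj : ∀ w : Abelianization Cfsg.Spor.Fi24, w = 1 ∨ w = s Cfsg.Spor.Fi24.Gen.d := by
    intro w
    obtain ⟨g, rfl⟩ := QuotientGroup.mk'_surjective (commutator _) w
    change q g = 1 ∨ q g = _
    have hg : g ∈ Subgroup.closure (Set.range (PresentedGroup.of (rels :=
      Cfsg.Spor.coxRelators Cfsg.Spor.Fi24.edges ∪ {r | r ∈ Cfsg.Spor.Fi24.extra}))) :=
      PresentedGroup.closure_range_of _ ▸ Subgroup.mem_top g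
    induction hg using Subgroup.closure_induction with
    | mem x hx => obtain ⟨i, rfl⟩ := hx; exact Or.inr (hall i)
    | one => exact Or.inl (map_one _)
    | mul x y _ _ h1 h2 =>
      rw [map_mul]
      rcases h1 with h1 | h1 <;> rcases h2 with h2 | h2 <;> simp [h1, h2, hsq]
    | inv x _ h1 =>
      rw [map_inv]
      rcases h1 with h1 | h1
      · simp [h1]
      · exact Or.inr (by rw [h1]; exact inv_eq_of_mul_eq_one_right (hsq _))
  have hne : s Cfsg.Spor.Fi24.Gen.d ≠ 1 := fun h => by
    have := congrArg (Abelianization.lift φ) h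
    simp only [s, q, Abelianization.lift_apply_of, map_one, φ, PresentedGroup.toGroup.of] at this
    exact absurd this (by decide)
  rw [Nat.card_eq_two_iff]
  exact ⟨(1 : Abelianization Cfsg.Spor.Fi24), s Cfsg.Spor.Fi24.Gen.d, hne.symm,
    Set.eq_univ_iff_forall.mpr fun w => by rcases hsurj w with h | h <;> [left; right] <;> exact h⟩

end Cfsg.Agent.S1691
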