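import Cfsg.Statements.S1708
-- import your own Cfsg.Agent.* helpers here
import Cfsg.Agent.HNMult.Cover
import Cfsg.Agent.HNCert.Bound

set_option autoImplicit false
open Cfsg

namespace Cfsg.Agent.S1708

/-- In the presented Harada–Norton group, the subgroup N generated by the images of x, y, z has a normal subgroup of index 2 which is a non-split double cover of the Higman–Sims group. -/
theorem result : ∃ K : Subgroup (((Subgroup.closure ({Cfsg.Spor.HN.x, Cfsg.Spor.HN.y, Cfsg.Spor.HN.z} : Set (FreeGroup Cfsg.Spor.HN.Gen))).map (PresentedGroup.mk (Cfsg.Spor.coxRelators Cfsg.Spor.HN.edges ∪ {r | r ∈ Cfsg.Spor.HN.extra})))), K.Normal ∧ K.index = 2 ∧ Cfsg.IsNonsplitDoubleCover K Cfsg.Spor.HS := by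
  have hB := CfsgLib.HNCert.bound
  obtain ⟨hidx, hcov⟩ := CfsgLib.HNMult.cover hB
  have hrange : ((Subgroup.closure ({Cfsg.Spor.HN.x, Cfsg.Spor.HN.y, Cfsg.Spor.HN.z} :
      Set (FreeGroup Cfsg.Spor.HN.Gen))).map (PresentedGroup.mk (Cfsg.Spor.coxRelators
      Cfsg.Spor.HN.edges ∪ {r | r ∈ Cfsg.Spor.HN.extra}))) = CfsgLib.HNCert.emb.range := by
    rw [MonoidHom.map_closure, MonoidHom.range_eq_map, ← PresentedGroup.closure_range_of,
      MonoidHom.map_closure]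
    congr 1
    ext a
    simp only [Set.mem_image, Set.mem_insert_iff, Set.mem_singleton_iff, Set.mem_range]
    constructor
    · rintro ⟨w, rfl | rfl | rfl, rfl⟩
      · exact ⟨_, ⟨CfsgLib.HNCert.PGen.x, rfl⟩, CfsgLib.HNCert.emb_pg (i := 0) (by norm_num)⟩
      · exact ⟨_, ⟨CfsgLib.HNCert.PGen.y, rfl⟩, CfsgLib.HNCert.emb_pg (i := 2) (by norm_num)⟩
      · exact ⟨_, ⟨CfsgLib.HNCert.PGen.z, rfl⟩, CfsgLib.HNCert.emb_pg (i := 4) (by norm_num)⟩
    · rintro ⟨_, ⟨j, rfl⟩, rfl⟩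
      cases j
      · exact ⟨_, Or.inl rfl, (CfsgLib.HNCert.emb_pg (i := 0) (by norm_num)).symm⟩
      · exact ⟨_, Or.inr (Or.inl rfl), (CfsgLib.HNCert.emb_pg (i := 2) (by norm_num)).symm⟩
      · exact ⟨_, Or.inr (Or.inr rfl), (CfsgLib.HNCert.emb_pg (i := 4) (by norm_num)).symm⟩
  rw [hrange]
  let e : CfsgLib.HNCert.P ≃* CfsgLib.HNCert.emb.range :=
    MonoidHom.ofInjective (CfsgLib.HNCert.emb_injective hB)
  have hQ : (CfsgLib.HNMult.Q).Normal := inferInstance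
  refine ⟨CfsgLib.HNMult.Q.map e.toMonoidHom, hQ.map _ e.surjective, ?_, ?_⟩
  · exact (Subgroup.index_map_equiv CfsgLib.HNMult.Q e).trans hidx
  · exact CfsgLib.HNMult.isNonsplitDoubleCover_congr
      (e.subgroupMap CfsgLib.HNMult.Q) hcov

end Cfsg.Agent.S1708
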