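import Cfsg.Statements.S5517
import Cfsg.Agent.Transpositions.M22Unique
import Cfsg.Agent.Fi22O7.Main
import Cfsg.Agent.FischerTypes.M22Mu

set_option autoImplicit false
open Cfsg

namespace Cfsg.Agent.S5517

/-- Adjacent generators are conjugate to each other. -/
theorem conj_adjacent {K : Type*} [Group K] {x y : K} (hx : x * x = 1) (hy : y * y = 1) (h : (x * y) ^ 3 = 1) :
    IsConj x y := by
  refine isConj_iff.2 ⟨x * y, ?_⟩
  have h' : x * y * x * y * x * y = 1 := by rw [← h]; simp [pow_succ, mul_assoc]
  calc x * y * x * (x * y)⁻¹ = x * y * x * y * x := by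
        rw [_root_.mul_inv_rev, inv_eq_of_mul_eq_one_right hx, inv_eq_of_mul_eq_one_right hy, ← mul_assoc]
    _ = x * y * x * y * x * (y * y) := by rw [hy, mul_one]
    _ = x * y * x * y * x * y * y := by rw [← mul_assoc _ y y]
    _ = y := by rw [h', one_mul]

/-- All generators of the presented group are conjugate. -/
theorem conj_gen : ∀ x : Spor.Fi22.Gen,
    IsConj (PresentedGroup.of Spor.Fi22.Gen.a : Spor.Fi22) (PresentedGroup.of x) := by
  have key : ∀ x y : Spor.Fi22.Gen, x ∈ Spor.coxNodes Spor.Fi22.edges → y ∈ Spor.coxNodes Spor.Fi22.edges →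
      Spor.coxLabel Spor.Fi22.edges x x = 1 → Spor.coxLabel Spor.Fi22.edges y y = 1 →
      Spor.coxLabel Spor.Fi22.edges x y = 3 →
      IsConj (PresentedGroup.of x : Spor.Fi22) (PresentedGroup.of y) := by
    intro x y hx hy hxx hyy hxy
    have rel : ∀ u v, u ∈ Spor.coxNodes Spor.Fi22.edges → v ∈ Spor.coxNodes Spor.Fi22.edges →
        ((PresentedGroup.of u : Spor.Fi22) * PresentedGroup.of v) ^ Spor.coxLabel Spor.Fi22.edges u v = 1 := by
      intro u v hu hv
      have := PresentedGroup.one_of_mem (rels := Spor.coxRelators Spor.Fi22.edges ∪ {r | r ∈ Spor.Fi22.extra})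
        (x := (FreeGroup.of u * FreeGroup.of v) ^ Spor.coxLabel Spor.Fi22.edges u v)
        (Or.inl ⟨_, hu, _, hv, rfl⟩)
      rwa [map_pow, map_mul] at this
    have e1 := rel x x hx hx
    have e2 := rel y y hy hy
    have e3 := rel x y hx hy
    rw [hxx, pow_one] at e1
    rw [hyy, pow_one] at e2
    rw [hxy] at e3
    exact conj_adjacent e1 e2 e3
  have ab := key .a .b (by decide) (by decide) (by decide) (by decide) (by decide)
  have bc := ab.trans (key .b .c (by decide) (by decide) (by decide) (by decide) (by decide))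
  have cd := bc.trans (key .c .d (by decide) (by decide) (by decide) (by decide) (by decide))
  have de := cd.trans (key .d .e (by decide) (by decide) (by decide) (by decide) (by decide))
  have ef := de.trans (key .e .f (by decide) (by decide) (by decide) (by decide) (by decide))
  have fg := ef.trans (key .f .g (by decide) (by decide) (by decide) (by decide) (by decide))
  have dh := cd.trans (key .d .h (by decide) (by decide) (by decide) (by decide) (by decide))
  have hi := dh.trans (key .h .i (by decide) (by decide) (by decide) (by decide) (by decide))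
  intro x
  cases x
  exacts [IsConj.refl _, ab, bc, cd, de, ef, fg, dh, hi]

/-- Let G be a finite group with trivial centre generated by a conjugation-invariant set D of 3-transpositions on which it acts primitively, such that for some d in D the subgroup generated by the members of D other than d commuting with d has central largest normal 2- and 3-subgroups, and suppose G with D is of type M(22). Then G has a subgroup L generated by the members of D it contains and isomorphic to Ω(7, 3) (the commutator subgroup of the isometry group of a non-degenerate 7-dimensional quadratic form over the field with three elements, modulo its centre), and every Sylow 3-subgroup of L is a Sylow 3-subgroup of G. -/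
theorem result {G : Type*} [Group G] [Finite G] {D : Set G} (hD : Cfsg.IsThreeTranspositionGroup D) (hprim : Cfsg.IsPrimitiveUnderConj D) (d₀ : G) (hd₀ : d₀ ∈ D) (h3 : Cfsg.pCore 3 ↥(Subgroup.closure {y : G | y ∈ D ∧ y ≠ d₀ ∧ Commute d₀ y}) ≤ Subgroup.center ↥(Subgroup.closure {y : G | y ∈ D ∧ y ≠ d₀ ∧ Commute d₀ y})) (h2 : Cfsg.pCore 2 ↥(Subgroup.closure {y : G | y ∈ D ∧ y ≠ d₀ ∧ Commute d₀ y}) ≤ Subgroup.center ↥(Subgroup.closure {y : G | y ∈ D ∧ y ≠ d₀ ∧ Commute d₀ y})) (h22 : Cfsg.IsOfTypeM22 G D) : ∃ L : Subgroup G, Cfsg.IsDSubgroup D L ∧ Nonempty (↥L ≃* Cfsg.POmega (ZMod 3) (Cfsg.quadFormOdd 3 (ZMod 3))) ∧ ∀ P : Sylow 3 ↥L, ∃ P' : Sylow 3 G, (P : Subgroup ↥L).map L.subtype = (P' : Subgroup G) := by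
  obtain ⟨e, he⟩ := CfsgLib.Transpositions.M22Unique.exists_equiv hD hprim h22
  obtain ⟨ι⟩ := CfsgLib.Fi22O7.nonempty_equiv_sub
  set S : Set (FreeGroup Spor.Fi22.Gen) := {Spor.Fi22.b, Spor.Fi22.c, Spor.Fi22.d, Spor.Fi22.e, Spor.Fi22.f,
    Spor.Fi22.g, Spor.Fi22.h, Spor.Fi22.i} with hS
  set H₀ := (Subgroup.closure S).map
    (PresentedGroup.mk (Spor.coxRelators Spor.Fi22.edges ∪ {r | r ∈ Spor.Fi22.extra})) with hH₀
  set L := H₀.map e.toMonoidHom with hL
  have iso : Nonempty (↥L ≃* Cfsg.POmega (ZMod 3) (Cfsg.quadFormOdd 3 (ZMod 3))) :=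
    ⟨(H₀.equivMapOfInjective e.toMonoidHom e.injective).symm.trans ι⟩
  have hcardL : Nat.card ↥L = 4585351680 := by
    obtain ⟨j⟩ := iso
    rw [Nat.card_congr j.toEquiv]
    exact CfsgLib.Fi22O7.card_target
  refine ⟨L, le_antisymm ((Subgroup.closure_le _).2 fun z hz => hz.2) ?_, iso, fun P => ?_⟩
  · rw [hL, hH₀, MonoidHom.map_closure, MonoidHom.map_closure]
    refine Subgroup.closure_mono ?_
    rintro _ ⟨_, ⟨w, hw, rfl⟩, rfl⟩
    refine ⟨?_, Subgroup.subset_closure ⟨_, ⟨w, hw, rfl⟩, rfl⟩⟩
    rw [← he]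
    simp only [hS, Set.mem_insert_iff, Set.mem_singleton_iff] at hw
    rcases hw with rfl | rfl | rfl | rfl | rfl | rfl | rfl | rfl <;> exact ⟨_, conj_gen _, rfl⟩
  · haveI : Fact (Nat.Prime 3) := ⟨Nat.prime_three⟩
    have hG : Nat.card G = 64561751654400 := CfsgLib.FischerTypes.card_group hD hprim h22
    have hf : ∀ M : ℕ, ¬ 3 ∣ M → (3 ^ 9 * M).factorization 3 = 9 := by
      intro M hM
      rw [Nat.factorization_mul (by norm_num) (fun h0 => hM (by rw [h0]; exact dvd_zero 3)), Finsupp.add_apply,
        Nat.prime_three.factorization_pow, Finsupp.single_eq_same, Nat.factorization_eq_zero_of_not_dvd hM, add_zero]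
    have hP : Nat.card ↥((P : Subgroup ↥L).map L.subtype) = 3 ^ (Nat.card G).factorization 3 := by
      rw [Subgroup.card_map_of_injective Subtype.val_injective, P.card_eq_multiplicity, hcardL, hG,
        show (4585351680 : ℕ) = 3 ^ 9 * 232960 by norm_num, hf _ (by norm_num),
        show (64561751654400 : ℕ) = 3 ^ 9 * 3280076800 by norm_num, hf _ (by norm_num)]
    exact ⟨Sylow.ofCard _ hP, rfl⟩

end Cfsg.Agent.S5517
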