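import Cfsg.Statements.S1714
import Cfsg.Agent.SporFischer.CentralizerM23
import Cfsg.Agent.SporFischer.Fi22Model
import Cfsg.Agent.Fi23Three.Iso

set_option autoImplicit false
open Cfsg

namespace Cfsg.Agent.S1714

/-- The Fischer group Fi₂₃ from a transposition centraliser: let G be a finite group with an involution d such that the centraliser C of d is quasisimple, C modulo the subgroup generated by d is isomorphic to the presented Fischer group Fi₂₂, and some conjugate of d different from d commutes with d. Then G is isomorphic to the presented Fischer group Fi₂₃. -/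
theorem result {G : Type*} [Group G] [Finite G] (d : G) (hd : orderOf d = 2) (hq : Cfsg.IsQuasisimple (Subgroup.centralizer ({d} : Set G))) [((Subgroup.zpowers d).subgroupOf (Subgroup.centralizer ({d} : Set G))).Normal] (e : Cfsg.Spor.IsoFi22 ((Subgroup.centralizer ({d} : Set G)) ⧸ (Subgroup.zpowers d).subgroupOf (Subgroup.centralizer ({d} : Set G)))) (hnwc : ∃ g : G, g * d * g⁻¹ ∈ Subgroup.centralizer ({d} : Set G) ∧ g * d * g⁻¹ ≠ d) : Cfsg.Spor.IsoFi23 G := by
  obtain ⟨e⟩ := e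
  obtain ⟨D, ⟨hD1, ⟨a, ha, hDa⟩, hgen⟩, h22⟩ := CfsgLib.SporFischer.exists_class_M22
  set E := e.symm '' D with hE
  have himg : e '' E = D := by rw [hE, ← Set.image_comp]; simp
  have hmem : ∀ {x}, x ∈ E ↔ e x ∈ D := by
    intro x
    rw [hE]
    exact ⟨fun ⟨y, hy, hyx⟩ => by rw [← hyx, e.apply_symm_apply]; exact hy,
      fun h => ⟨e x, h, e.symm_apply_apply x⟩⟩
  have hEclass : Cfsg.IsThreeTranspositionClass E := by
    refine ⟨?_, ⟨e.symm a, ⟨a, ha, rfl⟩, ?_⟩, ?_⟩
    · refine ⟨?_, ?_⟩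
      · rintro _ ⟨x, hx, rfl⟩
        exact (e.symm.orderOf_eq x).trans (hD1.1 x hx)
      · rintro _ ⟨x, hx, rfl⟩ _ ⟨y, hy, rfl⟩
        rw [← map_mul, ← map_pow, ← map_pow]
        exact (hD1.2 x hx y hy).imp (fun h => by rw [h, map_one]) (fun h => by rw [h, map_one])
    · ext x
      rw [hmem, hDa]; change IsConj a (e x) ↔ IsConj (e.symm a) x; rw [isConj_iff, isConj_iff]
      constructor
      · rintro ⟨c, hc⟩
        exact ⟨e.symm c, e.injective (by simp [hc])⟩
      · rintro ⟨c, hc⟩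
        exact ⟨e c, by simp [← hc]⟩
    · rw [hE]
      show Subgroup.closure (e.symm.toMonoidHom '' D) = ⊤
      rw [← MonoidHom.map_closure, hgen, Subgroup.map_top_of_surjective _ e.symm.surjective]
  obtain ⟨⟨hset, ⟨a', -, hca⟩, hgen'⟩, h23⟩ := CfsgLib.SporFischer.conclusion_m23 hd hq hEclass
    (CfsgLib.SporFischer.isOfTypeM22_of_equiv e himg h22) hnwc
  have h : Cfsg.IsThreeTranspositionGroup (conjugatesOf d) :=
    ⟨hset, fun g x hx => IsConj.trans hx (isConj_iff.2 ⟨g, rfl⟩), hgen'⟩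
  have H : CfsgLib.FischerTypes.M23.Hyp G (conjugatesOf d) :=
    ⟨h, CfsgLib.FischerTypes.isPrimitive_of_M23 h h23, h23⟩
  obtain ⟨-, d₁, hd₁, e₁, he₁, n₁, -⟩ := id h23
  obtain ⟨F, hF⟩ := CfsgLib.Transpositions.M23Unique.exists_conf H hd₁ he₁ n₁
  obtain ⟨f, -⟩ := CfsgLib.Fi23Three.exists_iso hF H
  exact ⟨f.symm⟩

end Cfsg.Agent.S1714
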