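import Cfsg.Statements.S1717
import Cfsg.Agent.SporB.SL5
import Cfsg.Agent.SporB.Sylow

set_option autoImplicit false
open Cfsg

namespace Cfsg.Agent.S1717

open CfsgLib.SporB

/-- Let G be a finite group with an involution z whose centraliser C is isomorphic to the centraliser of a transvection of SL(5, 2). Then a Sylow 2-subgroup of C, viewed in G, is a Sylow 2-subgroup of G (its index in G is odd). -/
theorem result {G : Type*} [Group G] [Finite G] (s : Matrix.SpecialLinearGroup (Fin 5) (ZMod 2)) (hs : (s : Matrix (Fin 5) (Fin 5) (ZMod 2)) = Matrix.transvection 0 1 1) (z : G) (hz : orderOf z = 2) (e : (Subgroup.centralizer ({z} : Set G)) ≃* Subgroup.centralizer ({s} : Set (Matrix.SpecialLinearGroup (Fin 5) (ZMod 2)))) (T : Sylow 2 (Subgroup.centralizer ({z} : Set G))) : ¬ 2 ∣ ((T : Subgroup (Subgroup.centralizer ({z} : Set G))).map (Subgroup.subtype (Subgroup.centralizer ({z} : Set G)))).index := by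
  haveI : Fact (Nat.Prime 2) := ⟨Nat.prime_two⟩
  have hs2 : orderOf s = 2 := orderOf_eq_prime (Subtype.ext (by
      rw [Matrix.SpecialLinearGroup.coe_pow, hs, Matrix.SpecialLinearGroup.coe_one]; decide +kernel))
    (fun h => by
      have := congrArg (fun g : Matrix.SpecialLinearGroup (Fin 5) (ZMod 2) =>
        (g : Matrix (Fin 5) (Fin 5) (ZMod 2))) h
      rw [hs, Matrix.SpecialLinearGroup.coe_one] at this; exact absurd this (by decide +kernel))
  let zC : (Subgroup.centralizer ({z} : Set G)) := ⟨z, Subgroup.mem_centralizer_singleton_iff.mpr rfl⟩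
  let Q : Subgroup (Subgroup.centralizer ({z} : Set G)) := (SL5.blkHom hs).ker.comap e.toMonoidHom
  haveI : Q.Normal := (MonoidHom.normal_ker _).comap _
  have hQT : Q ≤ (T : Subgroup (Subgroup.centralizer ({z} : Set G))) := by
    obtain ⟨P, hP⟩ := ((SL5.isPGroup_ker hs).comap_of_injective e.toMonoidHom e.injective).exists_le_sylow
    obtain ⟨g, hg⟩ := MulAction.exists_smul_eq (Subgroup.centralizer ({z} : Set G)) P T
    intro q hq
    rw [← hg, Sylow.coe_subgroup_smul, Subgroup.mem_pointwise_smul_iff_inv_smul_mem]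
    apply hP
    rw [← map_inv, MulAut.smul_def, MulAut.conj_apply, inv_inv]
    exact Subgroup.Normal.conj_mem' (inferInstance : Q.Normal) q hq g
  have huniq : ∀ x : (Subgroup.centralizer ({z} : Set G)), orderOf (x : G) = 2 → (∀ y ∈ Q, y * x = x * y) → ((e x : _) : Matrix.SpecialLinearGroup (Fin 5) (ZMod 2)) = s := by
    intro x hx hy
    rcases SL5.centre_of_ker hs (x := e x) (fun y hy' => by
      have := hy (e.symm y) (by simpa [Q] using hy')
      have := congrArg e this
      simpa only [map_mul, MulEquiv.apply_symm_apply] using this) with h | h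
    · exfalso
      have h1 : x = 1 := e.injective (by rw [map_one]; exact Subtype.ext (Subtype.ext h))
      rw [h1, OneMemClass.coe_one, orderOf_one] at hx
      omega
    · exact h
  have hzo : orderOf (zC : G) = 2 := hz
  have hez := huniq zC hzo (fun y _ => Subtype.ext (Subgroup.mem_centralizer_singleton_iff.mp y.2))
  have hzT : zC ∈ (T : Subgroup (Subgroup.centralizer ({z} : Set G))) := mem_sylow_of_centralizes (n := 1)
    (by rw [pow_one, ← Subgroup.orderOf_coe]; exact hzo) T
    (fun y _ => Subgroup.mem_centralizer_singleton_iff.mpr (Subtype.ext (Subgroup.mem_centralizer_singleton_iff.mp y.2)))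
  obtain ⟨P, hP⟩ := sylow_of_centre_le (z := z) (T := (T : Subgroup (Subgroup.centralizer ({z} : Set G))).map (Subgroup.centralizer ({z} : Set G)).subtype)
    (T.isPGroup'.map (Subgroup.centralizer ({z} : Set G)).subtype) (Subgroup.map_subtype_le _) ⟨zC, hzT, rfl⟩
    (fun U hU hUC hTU => by
      have h3 : U.comap (Subgroup.centralizer ({z} : Set G)).subtype = (T : Subgroup (Subgroup.centralizer ({z} : Set G))) := T.is_maximal'
        (hU.comap_of_injective (Subgroup.centralizer ({z} : Set G)).subtype (Subgroup.centralizer ({z} : Set G)).subtype_injective) (Subgroup.map_le_iff_le_comap.mp hTU)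
      exact le_antisymm (fun u hu => ⟨⟨u, hUC hu⟩, h3 ▸ hu, rfl⟩) hTU)
    (by
      rintro _ ⟨x, hxT, rfl⟩ hox hy
      have := huniq x (hox.trans hz) (fun y hyQ => Subtype.ext (hy y ⟨y, hQT hyQ, rfl⟩))
      exact congrArg Subtype.val (e.injective (Subtype.ext (this.trans hez.symm))))
  rw [← hP]
  exact P.not_dvd_index

end Cfsg.Agent.S1717
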