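import Cfsg.Statements.S1753


set_option autoImplicit false
universe u
open Cfsg
open scoped Pointwise

namespace Cfsg.Agent.S1753

/-- Let K be any property of groups. (1) If G is a minimal counterexample relative to K — a finite non-abelian simple group not satisfying K such that every finite non-abelian simple group of smaller order satisfies K — then every proper subgroup of G is a K-group (all its non-abelian simple sections satisfy K), since such sections have smaller order than G. (2) Consequently (induction on the order), if every finite non-abelian simple group all of whose proper subgroups are K-groups satisfies K, then every finite non-abelian simple group satisfies K. -/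
theorem result (K : ∀ (X : Type u) [Group X], Prop) :
    (∀ (G : Type u) [Group G], Cfsg.IsMinCounterexampleWith K G → Cfsg.IsKProperWith K G) ∧
      ((∀ (X : Type u) [Group X] [Finite X], IsSimpleGroup X → ¬ IsMulCommutative X → Cfsg.IsKProperWith K X → K X) →
        ∀ (G : Type u) [Group G] [Finite G], IsSimpleGroup G → ¬ IsMulCommutative G → K G) := by
  refine ⟨?_, ?_⟩
  · rintro G _ ⟨hfin, -, -, -, hmin⟩ H hH S N _ hs hc
    have := hfin
    refine hmin _ hs hc (lt_of_le_of_lt ?_ (lt_of_le_of_ne (Subgroup.card_le_card_group H)
      fun h => hH (Subgroup.eq_top_of_card_eq H h)))
    exact (Nat.card_le_card_of_surjective _ (QuotientGroup.mk'_surjective N)).trans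
      (Subgroup.card_le_card_group S)
  · intro h G _ _ hs hc
    obtain ⟨n, hn⟩ : ∃ n, Nat.card G ≤ n := ⟨_, le_rfl⟩
    induction n using Nat.strong_induction_on generalizing G with
    | _ n ih =>
      refine h G hs hc fun H hH S N _ hs' hc' => ?_
      have hlt : Nat.card (S ⧸ N) < Nat.card G :=
        lt_of_le_of_lt ((Nat.card_le_card_of_surjective _ (QuotientGroup.mk'_surjective N)).trans
          (Subgroup.card_le_card_group S))
          (lt_of_le_of_ne (Subgroup.card_le_card_group H)
            fun h => hH (Subgroup.eq_top_of_card_eq H h))
      exact ih _ (lt_of_lt_of_le hlt hn) _ hs' hc' le_rfl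

end Cfsg.Agent.S1753
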