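import Cfsg.Statements.S1754


set_option autoImplicit false
open Cfsg
open scoped Pointwise

namespace Cfsg.Agent.S1754

/-- Let A be a standard subgroup of the finite group G (A quasisimple, C_G(A) tightly embedded of even order, A commuting elementwise with no other conjugate of itself, and N_G(A) = N_G(C_G(A))), and let t be an involution of G centralizing A. Then the centralizer of t lies in the normalizer of A; in particular A, viewed inside C_G(t), is a component of C_G(t). -/
theorem result {G : Type*} [Group G] [Finite G]
    (A : Subgroup G) (hA : Cfsg.IsStandardSubgroup A) (t : G) (ht : orderOf t = 2) (htA : t ∈ Subgroup.centralizer (A : Set G)) :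
    Subgroup.centralizer ({t} : Set G) ≤ Subgroup.normalizer (A : Set G) ∧
      Cfsg.IsComponent (A.subgroupOf (Subgroup.centralizer ({t} : Set G))) := by
  obtain ⟨hq, ⟨-, htight⟩, -, hnorm⟩ := hA
  have hle : Subgroup.centralizer ({t} : Set G) ≤ Subgroup.normalizer (A : Set G) := by
    intro c hc
    rw [hnorm]
    by_contra hcn
    have hodd := htight c hcn
    have hct : c * t * c⁻¹ = t := by
      rw [mul_inv_eq_iff_eq_mul]; exact Subgroup.mem_centralizer_singleton_iff.mp hc
    have hmem : t ∈ Subgroup.centralizer (A : Set G) ⊓
        (Subgroup.centralizer (A : Set G)).map (MulAut.conj c).toMonoidHom :=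
      ⟨htA, ⟨t, htA, by simpa using hct⟩⟩
    have h2 := orderOf_dvd_natCard (⟨t, hmem⟩ : ↥(Subgroup.centralizer (A : Set G) ⊓
      (Subgroup.centralizer (A : Set G)).map (MulAut.conj c).toMonoidHom))
    rw [Subgroup.orderOf_mk, ht] at h2
    exact (Nat.not_even_iff_odd.mpr hodd) (even_iff_two_dvd.mpr h2)
  refine ⟨hle, ?_, ?_⟩
  · have hAC : A ≤ Subgroup.centralizer ({t} : Set G) := fun a ha =>
      Subgroup.mem_centralizer_singleton_iff.mpr (htA a ha)
    exact ((Subgroup.normal_subgroupOf_iff_le_normalizer hAC).mpr hle).isSubnormal
  · have hAC : A ≤ Subgroup.centralizer ({t} : Set G) := fun a ha =>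
      Subgroup.mem_centralizer_singleton_iff.mpr (htA a ha)
    let e := (Subgroup.subgroupOfEquivOfLe hAC).symm
    obtain ⟨hperf, hsimp⟩ := hq
    have := hperf
    refine ⟨?_, ?_⟩
    · exact Group.IsPerfect.ofSurjective (f := e.toMonoidHom) e.surjective
    · have hmap : (Subgroup.center A).map e.toMonoidHom = Subgroup.center _ :=
        by
        ext x
        obtain ⟨y, rfl⟩ := e.surjective x
        simp only [Subgroup.mem_map, MulEquiv.coe_toMonoidHom, EmbeddingLike.apply_eq_iff_eq,
          exists_eq_right, Subgroup.mem_center_iff]
        constructor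
        · intro h g
          obtain ⟨z, rfl⟩ := e.surjective g
          rw [← map_mul, ← map_mul, h z]
        · intro h g
          exact e.injective (by rw [map_mul, map_mul, h (e g)])
      exact (QuotientGroup.congr _ _ e hmap).symm.isSimpleGroup

end Cfsg.Agent.S1754
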