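import Cfsg.Statements.S1755
import Cfsg.Agent.Classification.GFSNormal

set_option autoImplicit false
open Cfsg
open scoped Pointwise

namespace Cfsg.Agent.S1755

theorem aux {G : Type*} [Group G] [Finite G] (z : G) (hz : orderOf z = 2) (C : Subgroup G)
    (hC : C = Subgroup.centralizer ({z} : Set G)) (Q : Subgroup ↥C) [Q.Normal]
    (hQc : Subgroup.center ↥C ≤ Q) (hQ : Cfsg.IsOfSymplecticType ↥Q) (B : Subgroup ↥Q)
    (hBc : B.Characteristic) (hBa : IsMulCommutative ↥B) (g : G) :
    ((B.map Q.subtype).map C.subtype).map (MulAut.conj g).toMonoidHom =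
        (B.map Q.subtype).map C.subtype ∨
      ((B.map Q.subtype).map C.subtype).map (MulAut.conj g).toMonoidHom ⊓
        (B.map Q.subtype).map C.subtype = ⊥ := by
  classical
  have uniq : ∀ {K : Type _} [Group K] [Finite K], IsCyclic K → ∀ x y : K,
      x ≠ 1 → x ^ 2 = 1 → y ≠ 1 → y ^ 2 = 1 → x = y := by
    intro K _ _ hK x y hx hx2 hy hy2
    by_contra hne
    cases nonempty_fintype K
    have hle := IsCyclic.card_pow_eq_one_le (α := K) (n := 2) (by norm_num)
    have hsub : ({1, x, y} : Finset K) ⊆ Finset.univ.filter (fun a => a ^ 2 = 1) := by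
      intro a ha
      simp only [Finset.mem_insert, Finset.mem_singleton] at ha
      rcases ha with rfl | rfl | rfl <;> simp [*]
    have h3 : ({1, x, y} : Finset K).card = 3 := by
      rw [Finset.card_insert_of_notMem (by simp [Ne.symm hx, Ne.symm hy]),
        Finset.card_insert_of_notMem (by simp [hne]), Finset.card_singleton]
    have := (Finset.card_le_card hsub).trans hle
    omega
  let zC : ↥C := ⟨z, hC ▸ Subgroup.mem_centralizer_singleton_iff.mpr rfl⟩
  have hzc : zC ∈ Subgroup.center ↥C := by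
    rw [Subgroup.mem_center_iff]
    intro c
    exact Subtype.ext (Subgroup.mem_centralizer_singleton_iff.mp (hC ▸ c.2))
  have hzQ : zC ∈ Q := hQc hzc
  let zQ : ↥Q := ⟨zC, hzQ⟩
  have hzQc : zQ ∈ Subgroup.center ↥Q := by
    rw [Subgroup.mem_center_iff]
    intro q
    exact Subtype.ext (Subgroup.mem_center_iff.mp hzc q)
  have hz1 : zQ ≠ 1 := by
    intro h
    have : z = 1 := congrArg (fun q : ↥Q => ((q : ↥C) : G)) h
    rw [this, orderOf_one] at hz
    omega
  have hz2 : zQ ^ 2 = 1 := Subtype.ext (Subtype.ext (hz ▸ pow_orderOf_eq_one z))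
  have hBcyc : IsCyclic ↥B := hQ.2 B hBc hBa
  have := hBc
  have hinv : ∀ b ∈ B, b ≠ 1 → b ^ 2 = 1 → b = zQ := by
    intro b hb hb1 hb2
    have hbZ : b ∈ Subgroup.center ↥Q := by
      rw [Subgroup.mem_center_iff]
      intro q
      have hq : q * b * q⁻¹ ∈ B := Subgroup.Normal.conj_mem inferInstance b hb q
      have := uniq hBcyc ⟨q * b * q⁻¹, hq⟩ ⟨b, hb⟩
        (fun h => hb1 (by simpa using congrArg Subtype.val h))
        (Subtype.ext (by simp [conj_pow, hb2]))
        (fun h => hb1 (congrArg Subtype.val h)) (Subtype.ext (by simp [hb2]))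
      have h' : q * b * q⁻¹ = b := congrArg Subtype.val this
      exact mul_inv_eq_iff_eq_mul.mp h'
    have hZcyc : IsCyclic ↥(Subgroup.center ↥Q) := hQ.2 _ inferInstance inferInstance
    exact congrArg Subtype.val (uniq hZcyc ⟨b, hbZ⟩ ⟨zQ, hzQc⟩
        (fun h => hb1 (congrArg Subtype.val h)) (Subtype.ext (by simp [hb2]))
        (fun h => hz1 (congrArg Subtype.val h)) (Subtype.ext (by simp [hz2])))
  set B' := (B.map Q.subtype).map C.subtype with hB'
  by_contra hne
  rw [not_or] at hne
  obtain ⟨x, hx, hx1⟩ := (Subgroup.ne_bot_iff_exists_ne_one.mp hne.2 |> fun ⟨x, hx⟩ =>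
    ⟨(x : G), x.2, fun h => hx (Subtype.ext h)⟩ : ∃ x : G,
      x ∈ B'.map (MulAut.conj g).toMonoidHom ⊓ B' ∧ x ≠ 1)
  obtain ⟨k, hk⟩ : ∃ k : ℕ, orderOf x = 2 ^ k := by
    obtain ⟨_, ⟨q, _, rfl⟩, rfl⟩ := hx.2
    obtain ⟨k, hk⟩ := (IsPGroup.iff_orderOf (p := 2)).mp hQ.1 q
    exact ⟨k, by simpa using hk⟩
  have hk0 : k ≠ 0 := fun h => hx1 (orderOf_eq_one_iff.mp (by simp [hk, h]))
  let y := x ^ (2 ^ (k - 1))
  have hy : orderOf y = 2 := by
    rw [orderOf_pow' x (by positivity), hk, Nat.gcd_eq_right (pow_dvd_pow 2 (Nat.sub_le k 1)),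
      Nat.pow_div (Nat.sub_le k 1) (by norm_num), show k - (k - 1) = 1 by omega, pow_one]
  have hyz : ∀ u : G, u ∈ B' → orderOf u = 2 → u = z := by
    rintro u ⟨_, ⟨q, hq, rfl⟩, rfl⟩ hu
    have h := hinv q hq (fun h => by subst h; simp at hu) (by
      have : orderOf q = 2 := by simpa using hu
      exact this ▸ pow_orderOf_eq_one q)
    rw [h]; rfl
  have hymem : y ∈ B'.map (MulAut.conj g).toMonoidHom ⊓ B' := Subgroup.pow_mem _ hx _
  have hyz' := hyz y hymem.2 hy
  obtain ⟨u, hu, huy⟩ := hymem.1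
  have huy' : g * u * g⁻¹ = y := by simpa using huy
  have huz : u = z := hyz u hu (by rw [← hy, ← huy]; exact (MulEquiv.orderOf_eq (MulAut.conj g) u).symm)
  rw [huz, hyz'] at huy'
  have hgC : g ∈ C := hC ▸ Subgroup.mem_centralizer_singleton_iff.mpr (mul_inv_eq_iff_eq_mul.mp huy')
  have hB'n : (B.map Q.subtype).Normal := by
    exact ConjAct.normal_of_characteristic_of_normal
  apply hne.1
  have hc : (B.map Q.subtype).map (MulAut.conj (⟨g, hgC⟩ : ↥C)).toMonoidHom = B.map Q.subtype :=
    Subgroup.normal_iff_map_conj_eq.mp hB'n _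
  conv_rhs => rw [hB', ← hc]
  rw [hB']; simp only [Subgroup.map_map]
  rfl


/-- Let G be a finite group and let z be an involution of G such that Q, the generalized Fitting subgroup of the centralizer C of z, is a 2-group of symplectic type (every characteristic abelian subgroup of Q is cyclic). Let B be a characteristic abelian subgroup of Q, viewed as a subgroup of G. Then for every g in G, the conjugate of B by g either equals B or meets B trivially. -/
theorem result {G : Type*} [Group G] [Finite G] (z : G) (hz : orderOf z = 2) (hQ : Cfsg.IsOfSymplecticType ↥(Cfsg.generalizedFittingSubgroup ↥(Subgroup.centralizer ({z} : Set G))))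
    (B : Subgroup ↥(Cfsg.generalizedFittingSubgroup ↥(Subgroup.centralizer ({z} : Set G)))) (hBc : B.Characteristic) (hBa : IsMulCommutative ↥B) (g : G) :
    ((B.map (Cfsg.generalizedFittingSubgroup ↥(Subgroup.centralizer ({z} : Set G))).subtype).map (Subgroup.centralizer ({z} : Set G)).subtype).map (MulAut.conj g).toMonoidHom =
        (B.map (Cfsg.generalizedFittingSubgroup ↥(Subgroup.centralizer ({z} : Set G))).subtype).map (Subgroup.centralizer ({z} : Set G)).subtype ∨
      ((B.map (Cfsg.generalizedFittingSubgroup ↥(Subgroup.centralizer ({z} : Set G))).subtype).map (Subgroup.centralizer ({z} : Set G)).subtype).map (MulAut.conj g).toMonoidHom ⊓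
        (B.map (Cfsg.generalizedFittingSubgroup ↥(Subgroup.centralizer ({z} : Set G))).subtype).map (Subgroup.centralizer ({z} : Set G)).subtype = ⊥ := by
  have := CfsgLib.Classification.gfs_normal ↥(Subgroup.centralizer ({z} : Set G))
  exact aux z hz _ rfl _ (CfsgLib.Classification.center_le_gfs _) hQ B hBc hBa g

end Cfsg.Agent.S1755
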