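import Cfsg.Statements.S1756
import Cfsg.Agent.Classification.Extraspecial

set_option autoImplicit false
open Cfsg CfsgLib.Classification
open scoped Pointwise commutatorElement

namespace Cfsg.Agent.S1756

/-- Let Q be an extraspecial 2-subgroup of the finite group G (special with centre of order 2) and t an involution of G normalizing Q such that the centralizer of t in Q has index at most 2 in Q. Then t lies in the product of Q with the centralizer of Q. -/
theorem result {G : Type*} [Group G] [Finite G] (Q : Subgroup G)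
    (hQ : Cfsg.IsExtraspecial 2 ↥Q) (t : G) (ht : orderOf t = 2) (htN : t ∈ Subgroup.normalizer (Q : Set G))
    (hi : (Subgroup.centralizer ({t} : Set G) ⊓ Q).relIndex Q ≤ 2) :
    t ∈ Q ⊔ Subgroup.centralizer (Q : Set G) := by
  have ht2 : t * t = 1 := by rw [← sq, ← ht]; exact pow_orderOf_eq_one t
  have hti : t⁻¹ = t := inv_eq_of_mul_eq_one_left ht2
  let α : MulAut Q :=
    { toFun := fun q => ⟨t * q * t⁻¹, (Subgroup.mem_normalizer_iff.mp htN q).mp q.2⟩
      invFun := fun q => ⟨t * q * t⁻¹, (Subgroup.mem_normalizer_iff.mp htN q).mp q.2⟩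
      left_inv := fun q => Subtype.ext (by
        show t * (t * q * t⁻¹) * t⁻¹ = q
        calc t * (t * q * t⁻¹) * t⁻¹ = t * t * q * (t * t)⁻¹ := by group
          _ = q := by rw [ht2]; simp)
      right_inv := fun q => Subtype.ext (by
        show t * (t * q * t⁻¹) * t⁻¹ = q
        calc t * (t * q * t⁻¹) * t⁻¹ = t * t * q * (t * t)⁻¹ := by group
          _ = q := by rw [ht2]; simp)
      map_mul' := fun a b => Subtype.ext (by
        show t * (a * b) * t⁻¹ = (t * a * t⁻¹) * (t * b * t⁻¹)
        group) }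
  obtain ⟨⟨-, -, hcommeq⟩, hZ⟩ := hQ
  have hcomm : ∀ a b : Q, ⁅a, b⁆ ∈ Subgroup.center Q := fun a b => by
    rw [← hcommeq]; exact Subgroup.commutator_mem_commutator trivial trivial
  have hα : ∀ q, α (α q) = q := fun q => α.left_inv q
  obtain ⟨y, hy⟩ := exists_inner_of_fixed_index_le_two hZ hcomm α hα
    ((Subgroup.centralizer ({t} : Set G) ⊓ Q).subgroupOf Q) (fun m hm => Subtype.ext (by
      show t * m * t⁻¹ = m
      rw [← Subgroup.mem_centralizer_singleton_iff.mp (Subgroup.mem_subgroupOf.mp hm).1, mul_inv_cancel_right])) hi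
  have hc : (y : G)⁻¹ * t ∈ Subgroup.centralizer (Q : Set G) := fun q hq => by
    have h : t * q * t⁻¹ = y * q * (y : G)⁻¹ := congrArg Subtype.val (hy ⟨q, hq⟩)
    calc q * ((y : G)⁻¹ * t) = (y : G)⁻¹ * (y * q * (y : G)⁻¹) * t := by group
      _ = (y : G)⁻¹ * t * q := by rw [← h]; group
  have := (Q ⊔ Subgroup.centralizer (Q : Set G)).mul_mem (Subgroup.mem_sup_left y.2) (Subgroup.mem_sup_right hc)
  rwa [mul_inv_cancel_left] at this

end Cfsg.Agent.S1756
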