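import Cfsg.Statements.S1757


set_option autoImplicit false
open Cfsg
open scoped Pointwise

namespace Cfsg.Agent.S1757

/-- Let p be a prime and A, B p-subgroups of the finite group G, each of which meets every conjugate of itself other than itself trivially. Suppose the order of A is at most that of B, A and B intersect trivially, and B normalizes A. Then A and B commute elementwise. -/
theorem result {G : Type*} [Group G] [Finite G] (p : ℕ) [Fact p.Prime] (A B : Subgroup G)
    (hA : IsPGroup p ↥A) (hB : IsPGroup p ↥B)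
    (hAti : ∀ g : G, A.map (MulAut.conj g).toMonoidHom = A ∨ A.map (MulAut.conj g).toMonoidHom ⊓ A = ⊥)
    (hBti : ∀ g : G, B.map (MulAut.conj g).toMonoidHom = B ∨ B.map (MulAut.conj g).toMonoidHom ⊓ B = ⊥)
    (hle : Nat.card ↥A ≤ Nat.card ↥B) (hAB : A ⊓ B = ⊥) (hN : B ≤ Subgroup.normalizer (A : Set G)) : ⁅A, B⁆ = ⊥ := by
  have hBA : B ≤ Subgroup.normalizer (A : Set G) := hN
  suffices hA' : A ≤ Subgroup.normalizer (B : Set G) by
    rw [eq_bot_iff, ← hAB]
    refine le_inf (Subgroup.le_normalizer_iff_commutator_le_left.mp hBA) ?_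
    exact Subgroup.le_normalizer_iff_commutator_le_right.mp hA'
  intro a ha
  by_contra hna
  have hB' : B.map (MulAut.conj a).toMonoidHom ⊓ B = ⊥ := by
    refine (hBti a).resolve_left fun h => hna ?_
    rw [Subgroup.mem_normalizer_iff]
    intro x
    constructor
    · intro hx
      exact h ▸ Subgroup.mem_map_of_mem _ hx
    · intro hx
      rw [← h] at hx
      obtain ⟨y, hy, hyx⟩ := Subgroup.mem_map.mp hx
      have : y = x := by simpa using hyx
      exact this ▸ hy
  let P : Subgroup G := A ⊔ B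
  let f : B × B → P := fun p => ⟨a * p.1 * a⁻¹ * p.2,
    P.mul_mem (P.mul_mem (P.mul_mem (Subgroup.mem_sup_left ha) (Subgroup.mem_sup_right p.1.2))
      (P.inv_mem (Subgroup.mem_sup_left ha))) (Subgroup.mem_sup_right p.2.2)⟩
  have finj : Function.Injective f := by
    rintro ⟨b, c⟩ ⟨b', c'⟩ h
    have h1 : a * b * a⁻¹ * c = a * b' * a⁻¹ * (c' : G) := congrArg Subtype.val h
    have h2 : a * ((b' : G)⁻¹ * b) * a⁻¹ ∈ B.map (MulAut.conj a).toMonoidHom ⊓ B := by
      refine ⟨⟨_, B.mul_mem (B.inv_mem b'.2) b.2, by simp⟩, ?_⟩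
      have : a * ((b' : G)⁻¹ * b) * a⁻¹ = c' * (c : G)⁻¹ := by
        rw [eq_mul_inv_iff_mul_eq]
        calc a * ((b' : G)⁻¹ * b) * a⁻¹ * c
            = (a * b' * a⁻¹)⁻¹ * (a * b * a⁻¹ * c) := by group
          _ = c' := by rw [h1]; group
      exact this ▸ B.mul_mem c'.2 (B.inv_mem c.2)
    rw [hB', Subgroup.mem_bot, conj_eq_one_iff, inv_mul_eq_one] at h2
    have hb : b = b' := Subtype.ext h2.symm
    subst hb
    exact Prod.ext rfl (Subtype.ext (mul_left_cancel h1))
  let m : A × B → P := fun p => ⟨p.1 * p.2,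
    P.mul_mem (Subgroup.mem_sup_left p.1.2) (Subgroup.mem_sup_right p.2.2)⟩
  have msurj : Function.Surjective m := by
    rintro ⟨x, hx⟩
    have hx' : x ∈ ((A : Set G) * (B : Set G)) := by
      rw [← Subgroup.coe_mul_of_right_le_normalizer_left A B hBA]; exact hx
    obtain ⟨u, hu, v, hv, rfl⟩ := Set.mem_mul.mp hx'
    exact ⟨(⟨u, hu⟩, ⟨v, hv⟩), rfl⟩
  have hcard : Nat.card P ≤ Nat.card (B × B) := by
    refine (Nat.card_le_card_of_surjective m msurj).trans ?_
    rw [Nat.card_prod, Nat.card_prod]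
    exact Nat.mul_le_mul_right _ hle
  have fsurj : Function.Surjective f :=
    (Function.Injective.bijective_of_nat_card_le finj hcard).2
  obtain ⟨⟨b, c⟩, hbc⟩ := fsurj ⟨a, Subgroup.mem_sup_left ha⟩
  have h1 : a * b * a⁻¹ * c = a := congrArg Subtype.val hbc
  have h2 : a = (c : G) * b := by
    have : (b : G) * a⁻¹ * c = 1 := by
      apply mul_left_cancel (a := a); simpa [mul_assoc] using h1
    calc a = (c : G) * ((b : G) * a⁻¹ * c)⁻¹ * b := by group
      _ = c * b := by rw [this]; group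
  exact hna (Subgroup.le_normalizer (h2 ▸ B.mul_mem c.2 b.2))

end Cfsg.Agent.S1757
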