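import Cfsg.Statements.S1774
import Cfsg.Agent.Classification.SymplecticFour
import Cfsg.Agent.Classification.SymplecticConjugate
import Cfsg.Agent.Classification.GFSNormal
import Cfsg.Agent.Components.FStar

set_option autoImplicit false
open Cfsg

namespace Cfsg.Agent.S1774

open scoped commutatorElement
open CfsgLib.Classification

theorem move {G : Type*} [Group G] {z : G} {Q : Subgroup G} (h : SymData z Q) {w : G} (hw : w ∈ Q)
    (h2 : w * w = 1) (h1 : w ≠ 1) (hne : w ≠ z) :
    ∃ q ∈ Q, q * w * q⁻¹ = z * w ∧ q * z * q⁻¹ = z := by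
  by_contra hcon
  push Not at hcon
  have hcen : ∀ x ∈ Q, w * x = x * w := fun x hx => by
    rcases h.comm x hx w hw with e | e
    · exact (commutatorElement_eq_one_iff_mul_comm.mp e).symm
    · rw [commutatorElement_def] at e
      exact absurd (mul_inv_eq_iff_eq_mul.mpr (h.cz x hx)) (hcon x hx (mul_inv_eq_iff_eq_mul.mp e))
  rcases h.inv w hw hcen h2 with e | e
  · exact h1 e
  · exact hne e

/-- Let G be a finite group and let z be an involution of G such that Q, the generalized Fitting subgroup of the centralizer C of z, is a 2-group of symplectic type (every characteristic abelian subgroup of Q is cyclic); suppose every element of Q has order dividing 4. Let g ∈ G with z' = g z g⁻¹ ≠ z and z' ∈ Q. Then z lies in the conjugate g Q g⁻¹, and the subgroup X generated by Q and g Q g⁻¹ induces every automorphism of the four-group generated by z and z': for any two distinct non-identity elements u, v of that four-group there is x ∈ X with x z x⁻¹ = u and x z' x⁻¹ = v. -/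
theorem result {G : Type*} [Group G] [Finite G] (z : G) (hz : orderOf z = 2) (hQ : Cfsg.IsOfSymplecticType ↥(Cfsg.generalizedFittingSubgroup ↥(Subgroup.centralizer ({z} : Set G))))
    (h4 : ∀ q ∈ (Cfsg.generalizedFittingSubgroup ↥(Subgroup.centralizer ({z} : Set G))).map (Subgroup.centralizer ({z} : Set G)).subtype, q ^ 4 = 1) (g : G) (hne : g * z * g⁻¹ ≠ z) (hin : g * z * g⁻¹ ∈ (Cfsg.generalizedFittingSubgroup ↥(Subgroup.centralizer ({z} : Set G))).map (Subgroup.centralizer ({z} : Set G)).subtype) :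
    z ∈ ((Cfsg.generalizedFittingSubgroup ↥(Subgroup.centralizer ({z} : Set G))).map (Subgroup.centralizer ({z} : Set G)).subtype).map (MulAut.conj g).toMonoidHom ∧
      ∀ u ∈ Subgroup.closure ({z, g * z * g⁻¹} : Set G), ∀ v ∈ Subgroup.closure ({z, g * z * g⁻¹} : Set G),
        u ≠ 1 → v ≠ 1 → u ≠ v →
          ∃ x ∈ (Cfsg.generalizedFittingSubgroup ↥(Subgroup.centralizer ({z} : Set G))).map (Subgroup.centralizer ({z} : Set G)).subtype ⊔ ((Cfsg.generalizedFittingSubgroup ↥(Subgroup.centralizer ({z} : Set G))).map (Subgroup.centralizer ({z} : Set G)).subtype).map (MulAut.conj g).toMonoidHom, x * z * x⁻¹ = u ∧ x * (g * z * g⁻¹) * x⁻¹ = v := by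
  classical
  set C := Subgroup.centralizer ({z} : Set G) with hC
  set F := Cfsg.generalizedFittingSubgroup C with hF
  set Q := F.map C.subtype with hQdef
  have hzC : z ∈ C := Subgroup.mem_centralizer_singleton_iff.mpr rfl
  have hz1 : z ≠ 1 := fun e => by simp [e] at hz
  have hz2 : z * z = 1 := by rw [← pow_two, ← hz]; exact pow_orderOf_eq_one z
  have hzF : (⟨z, hzC⟩ : C) ∈ F := center_le_gfs C (Subgroup.mem_center_iff.mpr fun c =>
    Subtype.ext (Subgroup.mem_centralizer_singleton_iff.mp c.2))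
  let zF : F := ⟨⟨z, hzC⟩, hzF⟩
  have hzFc : zF ∈ Subgroup.center F := Subgroup.mem_center_iff.mpr fun c =>
    Subtype.ext (Subtype.ext (Subgroup.mem_centralizer_singleton_iff.mp c.1.2))
  have hcyc : IsCyclic (Subgroup.center F) := hQ.2 _ inferInstance inferInstance
  have hzF1 : zF ≠ 1 := fun e => hz1 (congrArg (fun c : F => ((c : C) : G)) e)
  have hzF2 : zF * zF = 1 := Subtype.ext (Subtype.ext hz2)
  have hmem : ∀ {x : G}, x ∈ Q → ∃ c : F, ((c : C) : G) = x := fun hx => by
    obtain ⟨c, hc, rfl⟩ := hx; exact ⟨⟨c, hc⟩, rfl⟩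
  have hmk : ∀ c : F, ((c : C) : G) ∈ Q := fun c => ⟨c.1, c.2, rfl⟩
  have h4' : ∀ a : F, a ^ 4 = 1 := fun a =>
    Subtype.ext (Subtype.ext (by simpa using h4 _ (hmk a)))
  have hd : SymData z Q := by
    refine ⟨hz2, hz1, hmk zF, ?_, ?_, h4, ?_, ?_, ?_⟩
    · intro q hq; obtain ⟨c, rfl⟩ := hmem hq
      exact Subgroup.mem_centralizer_singleton_iff.mp c.1.2
    · intro a ha b hb; obtain ⟨a, rfl⟩ := hmem ha; obtain ⟨b, rfl⟩ := hmem hb
      rcases SymplecticFour.commutator_eq hQ h4' hzFc hzF1 hzF2 a b with e | e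
      · exact Or.inl (congrArg (fun c : F => ((c : C) : G)) e)
      · exact Or.inr (congrArg (fun c : F => ((c : C) : G)) e)
    · intro c hc hcen h2
      obtain ⟨c, rfl⟩ := hmem hc
      refine or_iff_not_imp_left.mpr fun h1 => ?_
      have hcc : c ∈ Subgroup.center F := Subgroup.mem_center_iff.mpr fun x =>
        Subtype.ext (Subtype.ext (hcen _ (hmk x)).symm)
      have := SymplecticFour.involution_unique hcyc hcc hzFc
        (Subtype.ext (Subtype.ext h2)) hzF2 (fun e => h1 (by rw [e]; rfl)) hzF1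
      rw [this]
    · intro h hh q hq
      obtain ⟨c, rfl⟩ := hmem hq
      exact ⟨⟨h, Subgroup.mem_centralizer_singleton_iff.mpr hh⟩ * c.1 *
        (⟨h, Subgroup.mem_centralizer_singleton_iff.mpr hh⟩ : C)⁻¹, (gfs_normal C).conj_mem _ c.2 _, rfl⟩
    · intro h hh hcen
      refine ⟨⟨h, Subgroup.mem_centralizer_singleton_iff.mpr hh⟩,
        CfsgLib.Components.centralizer_generalizedFitting_le_self ?_, rfl⟩
      rw [Subgroup.mem_centralizer_iff]
      intro c hc
      exact Subtype.ext (hcen _ (hmk ⟨c, hc⟩)).symm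
  have hzP : z ∈ Q.map (MulAut.conj g).toMonoidHom := hd.mem_conj g hne hin
  refine ⟨hzP, ?_⟩
  set P := Q.map (MulAut.conj g).toMonoidHom with hPdef
  set w := g * z * g⁻¹ with hw
  have hd' : SymData w P := hd.conj g
  obtain ⟨q, hq, hqw, hqz⟩ := move hd hin hd'.sq1 hd'.ne hne
  obtain ⟨p, hp, hpz, hpw⟩ := move hd' hzP hz2 hz1 (Ne.symm hne)
  have hzw : w * z = z * w := hd.cz w hin
  rw [hzw] at hpz
  have hQX : ∀ {x}, x ∈ Q → x ∈ Q ⊔ P := fun hx => Subgroup.mem_sup_left hx
  have hPX : ∀ {x}, x ∈ P → x ∈ Q ⊔ P := fun hx => Subgroup.mem_sup_right hx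
  have hcl : ∀ u ∈ Subgroup.closure ({z, w} : Set G), u = 1 ∨ u = z ∨ u = w ∨ u = z * w := by
    intro u hu
    induction hu using Subgroup.closure_induction with
    | mem x hx => rcases hx with rfl | rfl <;> simp
    | one => simp
    | mul a b _ _ ha hb =>
      have e1 : ∀ x : G, z * (z * x) = x := fun x => by rw [← mul_assoc, hz2, one_mul]
      have e2 : ∀ x : G, w * (z * x) = z * (w * x) := fun x => by rw [← mul_assoc, hzw, mul_assoc]
      rcases ha with rfl | rfl | rfl | rfl <;> rcases hb with rfl | rfl | rfl | rfl <;>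
        simp [mul_assoc, hz2, hd'.sq1, hzw, e1, e2]
    | inv a _ ha =>
      have ew : w⁻¹ = w := inv_eq_of_mul_eq_one_left hd'.sq1
      have ez : z⁻¹ = z := inv_eq_of_mul_eq_one_left hz2
      rcases ha with rfl | rfl | rfl | rfl
      · simp
      · exact Or.inr (Or.inl ez)
      · exact Or.inr (Or.inr (Or.inl ew))
      · exact Or.inr (Or.inr (Or.inr (by rw [mul_inv_rev, ew, ez, hzw])))
  have comp : ∀ (x y : G) {a b c : G}, y * a * y⁻¹ = b → x * b * x⁻¹ = c →
      x * y * a * (x * y)⁻¹ = c := fun x y a b c e1 e2 => by rw [← e2, ← e1]; group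
  have hqzw : q * (z * w) * q⁻¹ = w := by
    rw [← conj_mul, hqz, hqw, ← mul_assoc, hz2, one_mul]
  have hpzw : p * (z * w) * p⁻¹ = z := by
    rw [← conj_mul, hpz, hpw, mul_assoc, hd'.sq1, mul_one]
  have one_conj : ∀ x : G, 1 * x * 1⁻¹ = x := fun x => by group
  intro u hu v hv hu1 hv1 huv
  rcases hcl u hu with eu | eu | eu | eu <;> rcases hcl v hv with ev | ev | ev | ev <;>
    rw [eu, ev] at huv <;> rw [eu] at hu1 <;> rw [ev] at hv1 <;> rw [eu, ev] <;>
    first
    | exact absurd rfl hu1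
    | exact absurd rfl hv1
    | exact absurd rfl huv
    | exact ⟨1, one_mem _, one_conj z, one_conj w⟩
    | exact ⟨q, hQX hq, hqz, hqw⟩
    | exact ⟨p, hPX hp, hpz, hpw⟩
    | exact ⟨q * p, mul_mem (hQX hq) (hPX hp), comp _ _ hpz hqzw, comp _ _ hpw hqw⟩
    | exact ⟨p * q, mul_mem (hPX hp) (hQX hq), comp _ _ hqz hpz, comp _ _ hqw hpzw⟩
    | exact ⟨p * q * p, mul_mem (mul_mem (hPX hp) (hQX hq)) (hPX hp),
        comp _ _ hpz (comp _ _ hqzw hpw), comp _ _ hpw (comp _ _ hqw hpzw)⟩

end Cfsg.Agent.S1774
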