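import Cfsg.Statements.S1775
import Cfsg.Agent.Balance.PComp
import Cfsg.Agent.Components.FStar
import Cfsg.Agent.PLocal.Constraint

set_option autoImplicit false
open Cfsg

namespace Cfsg.Agent.S1775

open Subgroup
open scoped commutatorElement
open CfsgLib.Components (pElems IsPComponent.isQuasisimple_quotient IsPComponent.pElems_eq_self
  IsPComponent.dvd_card IsPComponent.isComponent_iff IsComponent.le_or_commutator_eq_bot_of_le_normalizer)

/-- An involution is not central when the generalized Fitting subgroup is non-abelian simple. -/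
theorem centralizer_ne_top {G : Type*} [Group G] [Finite G]
    (hF : IsSimpleGroup ↥(Cfsg.generalizedFittingSubgroup G))
    (hF' : ¬ IsMulCommutative ↥(Cfsg.generalizedFittingSubgroup G)) {y : G} (hy : orderOf y = 2) :
    Subgroup.centralizer ({y} : Set G) ≠ ⊤ := by
  intro h
  have hyc : Subgroup.zpowers y ≤ Subgroup.center G := by
    rw [Subgroup.zpowers_le, Subgroup.mem_center_iff]
    intro g
    exact Subgroup.mem_centralizer_singleton_iff.1 (h ▸ Subgroup.mem_top g)
  haveI : (Subgroup.zpowers y).Normal := ⟨fun n hn g => by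
    rw [Subgroup.mem_center_iff.1 (hyc hn) g, mul_inv_cancel_right]; exact hn⟩
  have hle : Subgroup.zpowers y ≤ Cfsg.generalizedFittingSubgroup G :=
    (CfsgLib.Components.le_fittingSubgroup
      (haveI : Fact (Nat.Prime 2) := ⟨Nat.prime_two⟩
       (IsPGroup.of_card (p := 2) (n := 1) (by rw [Nat.card_zpowers, hy, pow_one])).isNilpotent)).trans
      CfsgLib.Components.fitting_le_generalizedFitting
  haveI := (Subgroup.normal_subgroupOf_iff_le_normalizer hle).2
    ((le_top : Cfsg.generalizedFittingSubgroup G ≤ ⊤).trans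
      (Subgroup.normalizer_eq_top_iff.2 (inferInstance : (Subgroup.zpowers y).Normal)).ge)
  rcases Subgroup.Normal.eq_bot_or_eq_top
    (inferInstance : ((Subgroup.zpowers y).subgroupOf (Cfsg.generalizedFittingSubgroup G)).Normal) with e | e
  · rw [Subgroup.subgroupOf_eq_bot, disjoint_iff, inf_eq_left.2 hle, Subgroup.zpowers_eq_bot] at e
    rw [e, orderOf_one] at hy
    omega
  · refine hF' ⟨⟨fun a b => Subtype.ext ?_⟩⟩
    have ha := hyc (Subgroup.subgroupOf_eq_top.1 e a.2)
    exact (Subgroup.mem_center_iff.1 ha b).symm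

/-- The image of a 2-component of a subgroup mapping onto a normal subgroup. -/
theorem isPComponent_image {D : Type*} [Group D] [Finite D] {Z : Type*} [Group Z] [Finite Z]
    (ψ : D →* Z) (hn : ψ.range.Normal) {J : Subgroup D} (hJ : Cfsg.IsPComponent 2 J)
    (hne : J.map ψ ≠ ⊥) : Cfsg.IsPComponent 2 (J.map ψ) := by
  have hr : (ψ.comp J.subtype).range = J.map ψ := by
    rw [MonoidHom.range_eq_map, ← Subgroup.map_map, ← MonoidHom.range_eq_map, Subgroup.range_subtype]
  rw [← hr] at hne ⊢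
  refine (CfsgLib.Balance.isPComponent_range (ψ.comp J.subtype)
    (IsPComponent.isQuasisimple_quotient hJ) ?_ ?_).resolve_left hne
  · refine Subgroup.map_injective J.subtype_injective ?_
    rw [CfsgLib.Components.pElems_map_eq, ← MonoidHom.range_eq_map, Subgroup.range_subtype,
      IsPComponent.pElems_eq_self hJ]
  · rw [hr]
    have h := ((Subgroup.IsSubnormal.map (f := ψ.rangeRestrict) ψ.rangeRestrict_surjective hJ.1).trans'
      hn.isSubnormal)
    rwa [Subgroup.map_map, MonoidHom.subtype_comp_rangeRestrict] at h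

/-- The statement for a subgroup `D` normalised by `C(x) ∩ C(y)`. -/
theorem core {G : Type*} [Group G] [Finite G] (x y : G) (hx : orderOf x = 2)
    (hxy : x * y = y * x)
    (hB : Cfsg.HasBProperty (↥(Subgroup.centralizer ({y} : Set G)) ⧸ Cfsg.oddCore ↥(Subgroup.centralizer ({y} : Set G))))
    (D : Subgroup G) (hDx : D ≤ Subgroup.centralizer ({x} : Set G))
    (hDy : D ≤ Subgroup.centralizer ({y} : Set G))
    (hDn : ∀ g ∈ Subgroup.centralizer ({x} : Set G), g ∈ Subgroup.centralizer ({y} : Set G) →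
      ∀ d ∈ D, g * d * g⁻¹ ∈ D)
    (J : Subgroup ↥D) (hJ : Cfsg.IsPComponent 2 J) :
    Cfsg.IsComponent
        ((((J.map (Subgroup.subtype _)).subgroupOf (Subgroup.centralizer ({y} : Set G))).map (QuotientGroup.mk' (Cfsg.oddCore ↥(Subgroup.centralizer ({y} : Set G))))).subgroupOf
          (Subgroup.centralizer ({(QuotientGroup.mk' (Cfsg.oddCore ↥(Subgroup.centralizer ({y} : Set G))) ⟨x, Subgroup.mem_centralizer_singleton_iff.mpr hxy⟩ : ↥(Subgroup.centralizer ({y} : Set G)) ⧸ Cfsg.oddCore ↥(Subgroup.centralizer ({y} : Set G)))} : Set _))) ∧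
      ∀ E : Subgroup G, E ≤ Subgroup.centralizer ({x} : Set G) ⊓ Subgroup.centralizer ({y} : Set G) → Odd (Nat.card ↥E) →
        (∀ j ∈ J.map (Subgroup.subtype _), ∀ e ∈ E, j * e * j⁻¹ ∈ E) →
          ⁅J.map (Subgroup.subtype _), E⁆ ≤ (Cfsg.oddCore ↥(Subgroup.centralizer ({y} : Set G))).map (Subgroup.centralizer ({y} : Set G)).subtype := by
  haveI : Fact (Nat.Prime 2) := ⟨Nat.prime_two⟩
  set Cx := Subgroup.centralizer ({x} : Set G) with hCx
  set Cy := Subgroup.centralizer ({y} : Set G) with hCy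
  set N := Cfsg.oddCore ↥Cy with hN
  set x' : ↥Cy := ⟨x, Subgroup.mem_centralizer_singleton_iff.mpr hxy⟩ with hx'
  set C := Subgroup.centralizer ({QuotientGroup.mk' N x'} : Set (↥Cy ⧸ N)) with hC
  have hNodd : (Nat.card N).Coprime 2 := CfsgLib.PLocal.coprime_card_pPrimeCore 2 ↥Cy
  -- elements of `C_G(x) ∩ C_G(y)` map into `C`
  have hmemC : ∀ (g : G) (hgy : g ∈ Cy), g ∈ Cx → QuotientGroup.mk' N ⟨g, hgy⟩ ∈ C := by
    intro g hgy hgx
    rw [hC, Subgroup.mem_centralizer_singleton_iff, ← map_mul, ← map_mul]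
    exact congrArg _ (Subtype.ext (Subgroup.mem_centralizer_singleton_iff.1 hgx))
  -- and every element of `C` comes from there
  have hlift : ∀ z ∈ C, ∃ (g : G) (hgy : g ∈ Cy), g ∈ Cx ∧ QuotientGroup.mk' N ⟨g, hgy⟩ = z := by
    intro z hz
    have hP : IsPGroup 2 (Subgroup.zpowers x') := IsPGroup.of_card (n := 1) (by
      rw [Nat.card_zpowers, pow_one, ← Subgroup.orderOf_coe]; exact hx)
    have h := CfsgLib.PLocal.centralizer_map_mk'_eq N hNodd hP
    have hz' : z ∈ Subgroup.centralizer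
        ((Subgroup.zpowers x').map (QuotientGroup.mk' N) : Set (↥Cy ⧸ N)) := by
      rw [Subgroup.mem_centralizer_iff]
      rintro _ ⟨a, ha, rfl⟩
      obtain ⟨k, rfl⟩ := Subgroup.mem_zpowers_iff.1 ha
      rw [map_zpow]
      exact ((show Commute z (QuotientGroup.mk' N x') from
        Subgroup.mem_centralizer_singleton_iff.1 hz).zpow_right k).symm.eq
    rw [h] at hz'
    obtain ⟨g, hg, rfl⟩ := hz'
    refine ⟨g, g.2, ?_, rfl⟩
    exact Subgroup.mem_centralizer_singleton_iff.2
      (congrArg Subtype.val (Subgroup.mem_centralizer_iff.1 hg x' (Subgroup.mem_zpowers x'))).symm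
  let ψ : ↥D →* ↥C := MonoidHom.codRestrict
    ((QuotientGroup.mk' N).comp (Subgroup.inclusion (hDy))) C
    fun d => hmemC d (hDy d.2) (hDx d.2)
  have hn : ψ.range.Normal := by
    refine ⟨fun _ hd z => ?_⟩
    obtain ⟨d, rfl⟩ := hd
    obtain ⟨g, hgy, hgx, hgz⟩ := hlift z z.2
    have hd' : g * d * g⁻¹ ∈ D := hDn g hgx hgy d d.2
    refine ⟨⟨g * d * g⁻¹, hd'⟩, Subtype.ext ?_⟩
    show QuotientGroup.mk' N ⟨g * d * g⁻¹, _⟩ = (z : ↥Cy ⧸ N) * _ * (z : ↥Cy ⧸ N)⁻¹
    rw [← hgz]
    rfl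
  -- the subgroup in the statement
  have himg : (((J.map D.subtype).subgroupOf Cy).map (QuotientGroup.mk' N)).subgroupOf C
      = J.map ψ := by
    ext z
    constructor
    · rintro ⟨g, ⟨d, hd, hdg⟩, hgz⟩
      exact ⟨d, hd, Subtype.ext ((congrArg (QuotientGroup.mk' N) (Subtype.ext hdg)).trans hgz)⟩
    · rintro ⟨d, hd, rfl⟩
      exact ⟨⟨d, (hDy d.2)⟩, ⟨d, hd, rfl⟩, rfl⟩
  have heven : J.map ψ ≠ ⊥ := by
    intro h
    have h2 : (Nat.card ↥J).Coprime 2 := by
      refine hNodd.coprime_dvd_left ?_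
      rw [← Subgroup.card_map_of_injective (K := J) (Subgroup.inclusion_injective (hDy))]
      refine Subgroup.card_dvd_of_le ?_
      rintro _ ⟨d, hd, rfl⟩
      have h3 : ψ d = 1 := Subgroup.mem_bot.1 (h ▸ Subgroup.mem_map_of_mem ψ hd)
      exact (QuotientGroup.eq_one_iff _).1 (congrArg Subtype.val h3)
    exact (Nat.Prime.coprime_iff_not_dvd Nat.prime_two).1 h2.symm (IsPComponent.dvd_card hJ)
  have hK := isPComponent_image ψ hn hJ heven
  -- the B-property of the quotient
  have hxQ : orderOf (QuotientGroup.mk' N x') = 2 := by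
    refine orderOf_eq_prime ?_ fun e => ?_
    · rw [← map_pow, show x' ^ 2 = 1 from Subtype.ext (by
        rw [← hx]; exact pow_orderOf_eq_one x), map_one]
    · have h1 : x' ∈ N := (QuotientGroup.eq_one_iff _).1 e
      have h2 := Subgroup.orderOf_dvd_natCard N h1
      rw [← Subgroup.orderOf_coe, show orderOf (x' : G) = 2 from hx] at h2
      exact (Nat.Prime.coprime_iff_not_dvd Nat.prime_two).1 hNodd.symm h2
  have hcomm : ⁅J.map ψ, Cfsg.pPrimeCore 2 ↥C⁆ = ⊥ := by
    have h := hB _ hxQ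
    have hO : Cfsg.oddCore (↥Cy ⧸ N) = ⊥ :=
      CfsgLib.PLocal.pPrimeCore_quotient_pPrimeCore_eq_bot 2 ↥Cy
    rw [hO, le_bot_iff, Subgroup.map_eq_bot_iff, Subgroup.ker_subtype, le_bot_iff] at h
    exact eq_bot_iff.2 ((Subgroup.commutator_mono (le_sSup hK) le_rfl).trans h.le)
  have hcomp : Cfsg.IsComponent (J.map ψ) :=
    ⟨hK.1, (IsPComponent.isComponent_iff hK).2
      (eq_bot_iff.2 ((Subgroup.commutator_mono le_rfl inf_le_right).trans hcomm.le))⟩
  refine ⟨himg ▸ hcomp, fun E hE hEodd hJE => ?_⟩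
  -- a component centralises the odd order subgroups it normalises
  set EC := ((E.subgroupOf Cy).map (QuotientGroup.mk' N)).subgroupOf C with hEC
  have hECodd : Nat.card EC ∣ Nat.card E := by
    have hle : (E.subgroupOf Cy).map (QuotientGroup.mk' N) ≤ C := by
      rintro _ ⟨e, he, rfl⟩
      exact hmemC e e.2 (hE he).1
    rw [hEC, Nat.card_congr (Subgroup.subgroupOfEquivOfLe hle).toEquiv]
    exact (Subgroup.card_map_dvd _ _).trans
      (dvd_of_eq (Nat.card_congr (Subgroup.subgroupOfEquivOfLe (hE.trans inf_le_right)).toEquiv))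
  have hnorm : J.map ψ ≤ Subgroup.normalizer (EC : Set ↥C) := by
    have hconj : ∀ d ∈ J, ∀ e ∈ EC, ψ d * e * (ψ d)⁻¹ ∈ EC := by
      rintro d hd e ⟨g, hg, hge⟩
      refine ⟨⟨(d : G) * g * (d : G)⁻¹, mul_mem (mul_mem (hDy d.2) g.2) (inv_mem (hDy d.2))⟩,
        hJE d (Subgroup.mem_map_of_mem _ hd) g hg, ?_⟩
      show _ = ((ψ d * e * (ψ d)⁻¹ : ↥C) : ↥Cy ⧸ N)
      rw [Subgroup.coe_mul, Subgroup.coe_mul, Subgroup.coe_inv]
      rw [show (e : ↥Cy ⧸ N) = QuotientGroup.mk' N g from hge.symm]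
      rfl
    rintro _ ⟨d, hd, rfl⟩
    refine Subgroup.mem_normalizer_iff.2 fun e => ⟨hconj d hd e, fun he => ?_⟩
    have := hconj d⁻¹ (inv_mem hd) _ he
    simpa [mul_assoc] using this
  have hJE0 : ⁅J.map ψ, EC⁆ = ⊥ := by
    refine (IsComponent.le_or_commutator_eq_bot_of_le_normalizer hcomp le_sup_left le_sup_right
      (sup_le hnorm Subgroup.le_normalizer)).resolve_left fun hle => ?_
    have h2 : 2 ∣ Nat.card E :=
      (IsPComponent.dvd_card hK).trans ((Subgroup.card_dvd_of_le hle).trans hECodd)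
    exact (Nat.not_even_iff_odd.2 hEodd) (even_iff_two_dvd.2 h2)
  rw [Subgroup.commutator_le]
  rintro _ ⟨d, hd, rfl⟩ e he
  have h1 : (⟨QuotientGroup.mk' N ⟨e, (hE he).2⟩, hmemC e (hE he).2 (hE he).1⟩ : ↥C) ∈ EC :=
    ⟨⟨e, (hE he).2⟩, he, rfl⟩
  have h2 := Subgroup.commutator_mem_commutator (Subgroup.mem_map_of_mem ψ hd) h1
  rw [hJE0, Subgroup.mem_bot] at h2
  refine ⟨⁅(⟨d, (hDy d.2)⟩ : ↥Cy), (⟨e, (hE he).2⟩ : ↥Cy)⁆, ?_, rfl⟩
  show _ ∈ N
  rw [← QuotientGroup.ker_mk' N, MonoidHom.mem_ker, map_commutatorElement]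
  exact congrArg Subtype.val h2

/-- Let G be a finite group whose generalized Fitting subgroup is a non-abelian simple group and in which every proper section (every quotient H/N of a proper subgroup H, or of G by a nontrivial normal subgroup) has the B-property. Let x, y be commuting involutions, let D be the intersection of the 2-layer of C_G(x) with C_G(y), and let J be a 2-component of D. Write Q for the quotient of C_G(y) by its largest normal odd-order subgroup. Then (i) the image of J in Q is a component of the centralizer in Q of the image of x; and (ii) for every J-invariant subgroup E of odd order of C_G(x) ∩ C_G(y), the commutator subgroup [J, E] lies in the largest normal odd-order subgroup of C_G(y). -/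
theorem result {G : Type*} [Group G] [Finite G]
    (hF : IsSimpleGroup ↥(Cfsg.generalizedFittingSubgroup G)) (hF' : ¬ IsMulCommutative ↥(Cfsg.generalizedFittingSubgroup G))
    (hsec : ∀ (H : Subgroup G) (N : Subgroup ↥H) [N.Normal], (H ≠ ⊤ ∨ N ≠ ⊥) → Cfsg.HasBProperty (↥H ⧸ N))
    (x y : G) (hx : orderOf x = 2) (hy : orderOf y = 2) (hxy : x * y = y * x)
    (J : Subgroup ↥((Cfsg.pLayer 2 ↥(Subgroup.centralizer ({x} : Set G))).map (Subgroup.centralizer ({x} : Set G)).subtype ⊓ Subgroup.centralizer ({y} : Set G)))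
    (hJ : Cfsg.IsPComponent 2 J) :
    Cfsg.IsComponent
        ((((J.map (Subgroup.subtype _)).subgroupOf (Subgroup.centralizer ({y} : Set G))).map (QuotientGroup.mk' (Cfsg.oddCore ↥(Subgroup.centralizer ({y} : Set G))))).subgroupOf
          (Subgroup.centralizer ({(QuotientGroup.mk' (Cfsg.oddCore ↥(Subgroup.centralizer ({y} : Set G))) ⟨x, Subgroup.mem_centralizer_singleton_iff.mpr hxy⟩ : ↥(Subgroup.centralizer ({y} : Set G)) ⧸ Cfsg.oddCore ↥(Subgroup.centralizer ({y} : Set G)))} : Set _))) ∧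
      ∀ E : Subgroup G, E ≤ Subgroup.centralizer ({x} : Set G) ⊓ Subgroup.centralizer ({y} : Set G) → Odd (Nat.card ↥E) →
        (∀ j ∈ J.map (Subgroup.subtype _), ∀ e ∈ E, j * e * j⁻¹ ∈ E) →
          ⁅J.map (Subgroup.subtype _), E⁆ ≤ (Cfsg.oddCore ↥(Subgroup.centralizer ({y} : Set G))).map (Subgroup.centralizer ({y} : Set G)).subtype := by
  haveI : Fact (Nat.Prime 2) := ⟨Nat.prime_two⟩
  refine core x y hx hxy (hsec _ _ (Or.inl (centralizer_ne_top hF hF' hy))) _
    (inf_le_left.trans (Subgroup.map_subtype_le _)) inf_le_right (fun g hgx hgy d hd => ?_) J hJ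
  refine ⟨?_, (mul_mem (mul_mem hgy hd.2) (inv_mem hgy) :
    g * d * g⁻¹ ∈ Subgroup.centralizer ({y} : Set G))⟩
  obtain ⟨a, ha, had⟩ := hd.1
  exact ⟨⟨g, hgx⟩ * a * ⟨g, hgx⟩⁻¹, Subgroup.Normal.conj_mem inferInstance a ha _, by
    rw [← had]; rfl⟩

end Cfsg.Agent.S1775
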