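import Cfsg.Statements.S3199
import Cfsg.Agent.J2Type.Main
import Cfsg.Agent.HallJankoSpectrum.CoreHJ
import Cfsg.Agent.J2Cent.Glue

set_option autoImplicit false
set_option linter.style.haveILetI false
open Cfsg

namespace Cfsg.Agent.S3199

/-- Let G be a finite group with no normal subgroup of index 2 whose Sylow 2-subgroups are isomorphic to those of the Hall–Janko group J₂, and let z be an involution central in a Sylow 2-subgroup of G. Then the centralizer of z modulo its largest normal subgroup of odd order is isomorphic to the centralizer of a 2-central involution in J₂ or to the centralizer of a 2-central involution in the third Janko group J₃. -/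
theorem result {G : Type*} [Group G] [Finite G]
    (S : Sylow 2 G) (P : Sylow 2 Cfsg.Spor.J2) (hS : Nonempty (↥(S : Subgroup G) ≃* ↥(P : Subgroup Cfsg.Spor.J2)))
    (h2 : ∀ H : Subgroup G, H.Normal → H.index ≠ 2)
    (z : G) (hz : orderOf z = 2) (hzS : z ∈ (S : Subgroup G)) (hzc : ∀ s ∈ (S : Subgroup G), s * z = z * s) :
    (∃ (z' : Cfsg.Spor.J2) (Q : Sylow 2 Cfsg.Spor.J2), orderOf z' = 2 ∧ z' ∈ (Q : Subgroup Cfsg.Spor.J2) ∧
        (∀ s ∈ (Q : Subgroup Cfsg.Spor.J2), s * z' = z' * s) ∧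
        Nonempty ((↥(Subgroup.centralizer ({z} : Set G)) ⧸ Cfsg.oddCore ↥(Subgroup.centralizer ({z} : Set G))) ≃*
          ↥(Subgroup.centralizer ({z'} : Set Cfsg.Spor.J2)))) ∨
      (∃ (F : Type) (_ : Field F) (_ : Fintype F) (ω : F), Fintype.card F = 4 ∧ ω ^ 2 + ω + 1 = 0 ∧
        ∃ (z' : Cfsg.Spor.J3 F ω) (Q : Sylow 2 (Cfsg.Spor.J3 F ω)), orderOf z' = 2 ∧ z' ∈ (Q : Subgroup (Cfsg.Spor.J3 F ω)) ∧
          (∀ s ∈ (Q : Subgroup (Cfsg.Spor.J3 F ω)), s * z' = z' * s) ∧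
          Nonempty ((↥(Subgroup.centralizer ({z} : Set G)) ⧸ Cfsg.oddCore ↥(Subgroup.centralizer ({z} : Set G))) ≃*
            ↥(Subgroup.centralizer ({z'} : Set (Cfsg.Spor.J3 F ω))))) := by
  haveI : Fact (Nat.Prime 2) := ⟨Nat.prime_two⟩
  obtain ⟨z₀, Q₀, h⟩ := CfsgLib.HallJankoSpectrum.exists_core_hj
  let e : Cfsg.Spor.J2 ≃* CfsgLib.Mathieu.HallJanko.hj := CfsgLib.J2.equivHJ
  haveI : Finite Cfsg.Spor.J2 := Finite.of_equiv _ e.symm.toEquiv
  have hodd : ¬ 2 ∣ (Subgroup.centralizer ({z₀} : Set CfsgLib.Mathieu.HallJanko.hj)).index := by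
    have hm := (Subgroup.centralizer ({z₀} : Set CfsgLib.Mathieu.HallJanko.hj)).card_mul_index
    rw [h.toPreCore.card_centralizer, CfsgLib.Mathieu.HallJanko.card_hj] at hm
    omega
  obtain ⟨eS⟩ := hS
  let P₀ : Sylow 2 CfsgLib.Mathieu.HallJanko.hj := P.mapSurjective (f := e.toMonoidHom) e.surjective
  have hP₀ : (P₀ : Subgroup CfsgLib.Mathieu.HallJanko.hj) = (P : Subgroup Cfsg.Spor.J2).map e.toMonoidHom :=
    Sylow.coe_mapSurjective _ _
  obtain ⟨⟨P', hzP, hcP⟩, ⟨i⟩⟩ := CfsgLib.J2Type.main h hodd S P₀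
    ⟨eS.trans ((e.subgroupMap (P : Subgroup Cfsg.Spor.J2)).trans (MulEquiv.subgroupCongr hP₀.symm))⟩ h2 z hz hzS hzc
  have hsurj : Function.Surjective e.symm.toMonoidHom := e.symm.surjective
  obtain ⟨P'', hP''⟩ : ∃ P'' : Sylow 2 Cfsg.Spor.J2, (P'' : Subgroup Cfsg.Spor.J2) =
      (P' : Subgroup CfsgLib.Mathieu.HallJanko.hj).map e.symm.toMonoidHom :=
    ⟨P'.mapSurjective hsurj, Sylow.coe_mapSurjective _ _⟩
  refine Or.inl ⟨e.symm z₀, P'', ?_, ?_, ?_,
    ⟨i.trans (CfsgLib.J2Cent.centralizerCongr e.symm rfl)⟩⟩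
  · rw [orderOf_eq_prime_iff]
    refine ⟨?_, fun hh => h.toPreCore.z_ne_one (e.symm.injective (hh.trans (map_one e.symm).symm))⟩
    rw [← map_pow, pow_two, h.toPreCore.zz, map_one]
  · rw [hP'']
    exact ⟨z₀, hzP, rfl⟩
  · intro s hs
    rw [hP''] at hs
    obtain ⟨x, hx, rfl⟩ := hs
    show e.symm x * e.symm z₀ = e.symm z₀ * e.symm x
    rw [← map_mul, ← map_mul, hcP x hx]

end Cfsg.Agent.S3199
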