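import Cfsg.Statements.S1776
import Cfsg.Agent.J2Sylow.Final
import Cfsg.Agent.S3199

set_option autoImplicit false
open Cfsg

namespace Cfsg.Agent.S1776

/-- Let G be a finite simple group whose Sylow 2-subgroups are isomorphic to a Sylow 2-subgroup of the second Janko group. Then G is isomorphic to the second Janko group or to the third Janko group. -/
theorem result {G : Type*} [Group G] [Finite G] [IsSimpleGroup G]
    (S : Sylow 2 G) (P : Sylow 2 Cfsg.Spor.J2) (hS : Nonempty (↥(S : Subgroup G) ≃* ↥(P : Subgroup Cfsg.Spor.J2))) :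
    Cfsg.Spor.IsoJ2 G ∨ Cfsg.Spor.IsoJ3 G := by
  haveI : Fact (Nat.Prime 2) := ⟨Nat.prime_two⟩
  obtain ⟨z₀, Q₀, h⟩ := CfsgLib.HallJankoSpectrum.exists_core_hj
  let e : Cfsg.Spor.J2 ≃* CfsgLib.Mathieu.HallJanko.hj := CfsgLib.J2.equivHJ
  haveI : Finite Cfsg.Spor.J2 := Finite.of_equiv _ e.symm.toEquiv
  have hodd : ¬ 2 ∣ (Subgroup.centralizer ({z₀} : Set CfsgLib.Mathieu.HallJanko.hj)).index := by
    have hm := (Subgroup.centralizer ({z₀} : Set CfsgLib.Mathieu.HallJanko.hj)).card_mul_index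
    rw [h.toPreCore.card_centralizer, CfsgLib.Mathieu.HallJanko.card_hj] at hm
    omega
  obtain ⟨eS⟩ := hS
  let P₀ : Sylow 2 CfsgLib.Mathieu.HallJanko.hj := P.mapSurjective (f := e.toMonoidHom) e.surjective
  have hP₀ : (P₀ : Subgroup CfsgLib.Mathieu.HallJanko.hj) = (P : Subgroup Cfsg.Spor.J2).map e.toMonoidHom :=
    Sylow.coe_mapSurjective _ _
  obtain ⟨z, ⟨D⟩⟩ := CfsgLib.J2Sylow.exists_data_of_iso h hodd S P₀
    ⟨eS.trans ((e.subgroupMap (P : Subgroup Cfsg.Spor.J2)).trans (MulEquiv.subgroupCongr hP₀.symm))⟩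
  have h2 : ∀ K : Subgroup G, K.Normal → K.index ≠ 2 := by
    intro K hK hi
    haveI := hK
    rcases IsSimpleGroup.eq_bot_or_eq_top_of_normal K inferInstance with rfl | rfl
    · rw [Subgroup.index_bot] at hi
      have hd := Subgroup.card_subgroup_dvd_card (S : Subgroup G)
      rw [D.cardS, hi] at hd
      exact absurd hd (by decide)
    · rw [Subgroup.index_top] at hi
      exact absurd hi (by decide)
  exact (CfsgLib.J2Sylow.Hyp.mk (z := z) D inferInstance (D.exists_preCore h2)).iso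

end Cfsg.Agent.S1776
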