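import Cfsg.Statements.S1780
-- import your own Cfsg.Agent.* helpers here

set_option autoImplicit false
open Cfsg

namespace Cfsg.Agent.S1780

/-- Let A be a finite abelian 2-group and t an automorphism of A whose order is a power of 2. If every element of A fixed by t² is fixed by t, then t fixes every element of A. -/
theorem result {A : Type*} [CommGroup A] [Finite A]
    (hA : IsPGroup 2 A) (t : MulAut A) (ht : ∃ k : ℕ, orderOf t = 2 ^ k) (hC : ∀ a : A, t (t a) = a → t a = a) :
    ∀ a : A, t a = a := by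
  obtain ⟨k, hk⟩ := ht
  have : Fact (Nat.Prime 2) := ⟨Nat.prime_two⟩
  -- the subgroup of fixed points of `t`
  let C : Subgroup A :=
    { carrier := {a | t a = a}
      mul_mem' := fun {a b} (ha : t a = a) (hb : t b = b) => show t (a * b) = a * b by
        rw [map_mul, ha, hb]
      one_mem' := map_one t
      inv_mem' := fun {a} (ha : t a = a) => show t a⁻¹ = a⁻¹ by rw [map_inv, ha] }
  have hCmem : ∀ a, a ∈ C ↔ t a = a := fun a => Iff.rfl
  by_contra hne
  push_neg at hne
  obtain ⟨a₀, ha₀⟩ := hne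
  have hmap : C.map (t : A ≃* A).toMonoidHom = C := by
    ext a
    constructor
    · rintro ⟨b, hb, rfl⟩
      have hb' : t b = b := hb
      show t (t b) = t b
      rw [hb']
      exact hb'
    · intro ha
      exact ⟨a, ha, ha⟩
  let σ : MulAut (A ⧸ C) := QuotientGroup.congr C C (t : A ≃* A) hmap
  have hσ : ∀ a : A, σ (a : A ⧸ C) = ((t a : A) : A ⧸ C) := fun a => rfl
  have hσpow : ∀ (n : ℕ) (a : A), (σ ^ n) (a : A ⧸ C) = (((t ^ n) a : A) : A ⧸ C) := by
    intro n
    induction n with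
    | zero => intro a; simp
    | succ n ih => intro a; rw [pow_succ, pow_succ, MulAut.mul_apply, MulAut.mul_apply, hσ, ih]
  have hσord : σ ^ 2 ^ k = 1 := by
    ext x
    induction x using QuotientGroup.induction_on with
    | H a => rw [hσpow, ← hk, pow_orderOf_eq_one]; rfl
  have hP : IsPGroup 2 ↥(Subgroup.zpowers σ) := by
    obtain ⟨m, -, hm⟩ := (Nat.dvd_prime_pow Nat.prime_two).1 (orderOf_dvd_of_pow_eq_one hσord)
    exact IsPGroup.of_card (by rw [Nat.card_zpowers, hm])
  have hnt : Nontrivial (A ⧸ C) := ⟨⟨(a₀ : A ⧸ C), 1, fun h => ha₀ ((hCmem a₀).1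
    ((QuotientGroup.eq_one_iff a₀).1 h))⟩⟩
  have hdvd : 2 ∣ Nat.card (A ⧸ C) := by
    rcases (hA.to_quotient C).card_eq_or_dvd with h | h
    · exact absurd h (Finite.one_lt_card).ne'
    · exact h
  obtain ⟨x, hx, hx1⟩ := hP.exists_fixed_point_of_prime_dvd_card_of_fixed_point (A ⧸ C) hdvd
    (a := (1 : A ⧸ C)) (fun g => map_one (g : MulAut (A ⧸ C)))
  obtain ⟨a, rfl⟩ := QuotientGroup.mk_surjective x
  have hfix : σ (a : A ⧸ C) = (a : A ⧸ C) := hx ⟨σ, Subgroup.mem_zpowers σ⟩
  have haC : t a ≠ a := fun h => hx1 ((QuotientGroup.eq_one_iff a).2 h).symm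
  have hcC : t (a⁻¹ * t a) = a⁻¹ * t a := by
    rw [hσ] at hfix
    exact (hCmem _).1 (QuotientGroup.eq.1 hfix.symm)
  set c := a⁻¹ * t a with hc
  have hta : t a = a * c := by rw [hc]; group
  obtain ⟨m, hm⟩ := IsPGroup.iff_orderOf.1 hA c
  rcases m with _ | m
  · rw [pow_zero, orderOf_eq_one_iff] at hm
    exact haC (by rw [hta, hm, mul_one])
  · -- `a ^ 2 ^ m` is fixed by `t ^ 2`, hence by `t`, so `c` has smaller order
    have h1 : t (a ^ 2 ^ m) = a ^ 2 ^ m * c ^ 2 ^ m := by rw [map_pow, hta, mul_pow]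
    have h2 : t (t (a ^ 2 ^ m)) = a ^ 2 ^ m := by
      rw [h1, map_mul, h1, map_pow, hcC, mul_assoc, ← pow_add, ← mul_two, ← pow_succ]
      rw [← hm, pow_orderOf_eq_one, mul_one]
    have h3 : c ^ 2 ^ m = 1 := by
      have := hC _ h2
      rw [h1] at this
      exact mul_eq_left.1 this
    have h4 := Nat.le_of_dvd (by positivity) (orderOf_dvd_of_pow_eq_one h3)
    rw [hm, pow_succ] at h4
    have : 0 < 2 ^ m := by positivity
    omega

end Cfsg.Agent.S1780
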