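import Cfsg.Statements.S1781
import Cfsg.Agent.S1780
-- import your own Cfsg.Agent.* helpers here

set_option autoImplicit false
open Cfsg

namespace Cfsg.Agent.S1781

/-- If `a` normalizes the abelian 2-group `B`, `a ^ 2 ≠ 1`, and centralizers of nontrivial
elements of the abelian group `A` normalize `A`, where `A ⊓ B = ⊥`, then `a` centralizes `B`. -/
theorem le_centralizer_of_sq_ne_one {G : Type*} [Group G] [Finite G] (A B : Subgroup G)
    (hA2 : IsPGroup 2 ↥A) (hAa : IsMulCommutative ↥A) (hB2 : IsPGroup 2 ↥B)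
    (hBa : IsMulCommutative ↥B) (hAB : A ⊓ B = ⊥)
    (hA : ∀ a ∈ A, a ≠ 1 → ∀ x : G, x * a = a * x → x ∈ Subgroup.normalizer (A : Set G))
    (a : G) (ha : a ∈ A) (haB : a ∈ Subgroup.normalizer (B : Set G)) (ha2 : a ^ 2 ≠ 1) :
    (B : Subgroup G) ≤ Subgroup.centralizer ({a} : Set G) ∧
      B ≤ Subgroup.normalizer (A : Set G) := by
  have : Fact (Nat.Prime 2) := ⟨Nat.prime_two⟩
  letI : CommGroup ↥B := { (inferInstance : Group ↥B) with mul_comm := hBa.is_comm.comm }
  let f : ↥(Subgroup.normalizer (B : Set G)) →* MulAut ↥B := Subgroup.normalizerMonoidHom B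
  let a' : ↥(Subgroup.normalizer (B : Set G)) := ⟨a, haB⟩
  have hf : ∀ b : ↥B, ((f a' b : ↥B) : G) = a * b * a⁻¹ := fun b => rfl
  have hord : ∃ k, orderOf (f a') = 2 ^ k := by
    obtain ⟨k, hk⟩ := IsPGroup.iff_orderOf.1 hA2 ⟨a, ha⟩
    rw [Subgroup.orderOf_mk] at hk
    have hd : orderOf (f a') ∣ 2 ^ k := by
      refine (orderOf_map_dvd f a').trans ?_
      rw [Subgroup.orderOf_mk, hk]
    obtain ⟨m, -, hm⟩ := (Nat.dvd_prime_pow Nat.prime_two).1 hd
    exact ⟨m, hm⟩
  have hC : ∀ b : ↥B, f a' (f a' b) = b → f a' b = b := by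
    intro b hb
    have h1 : a * (a * b * a⁻¹) * a⁻¹ = (b : G) := by
      rw [← hf b, ← hf (f a' b), hb]
    have h2 : (b : G) * a ^ 2 = a ^ 2 * b := by
      calc (b : G) * a ^ 2 = a * (a * b * a⁻¹) * a⁻¹ * a ^ 2 := by rw [h1]
        _ = a ^ 2 * b := by rw [pow_two]; group
    have hbA : (b : G) ∈ Subgroup.normalizer (A : Set G) :=
      hA (a ^ 2) (pow_mem ha 2) ha2 _ h2
    have hk : (b : G) * a * (b : G)⁻¹ * a⁻¹ = 1 := by
      rw [← Subgroup.mem_bot, ← hAB, Subgroup.mem_inf]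
      refine ⟨mul_mem ((Subgroup.mem_normalizer_iff.1 hbA a).1 ha) (inv_mem ha), ?_⟩
      have := (Subgroup.mem_normalizer_iff.1 haB (b : G)⁻¹).1 (inv_mem b.2)
      simpa [mul_assoc] using mul_mem b.2 this
    have hab : (b : G) * a = a * b := by
      rw [mul_inv_eq_one, mul_inv_eq_iff_eq_mul] at hk
      exact hk
    apply Subtype.ext
    rw [hf, ← hab]
    group
  have hall := Cfsg.Agent.S1780.result hB2 (f a') hord hC
  have hcent : B ≤ Subgroup.centralizer ({a} : Set G) := by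
    intro b hb
    rw [Subgroup.mem_centralizer_singleton_iff]
    have := congrArg (fun t : ↥B => (t : G)) (hall ⟨b, hb⟩)
    simp only [hf] at this
    rw [mul_inv_eq_iff_eq_mul] at this
    exact this.symm
  refine ⟨hcent, fun b hb => hA a ha ?_ b (Subgroup.mem_centralizer_singleton_iff.1 (hcent hb))⟩
  intro h
  exact ha2 (by rw [h, one_pow])

/-- Let A be an abelian 2-subgroup of the finite group G such that every conjugate of A equals A or meets A trivially, and let g ∈ G with g A g⁻¹ ≠ A. Then either the subgroup of those elements of A that normalize g A g⁻¹ is an elementary abelian 2-group, or A and g A g⁻¹ commute elementwise. -/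
theorem result {G : Type*} [Group G] [Finite G] (A : Subgroup G)
    (hA2 : IsPGroup 2 ↥A) (hAa : IsMulCommutative ↥A)
    (hti : ∀ h : G, A.map (MulAut.conj h).toMonoidHom = A ∨ A.map (MulAut.conj h).toMonoidHom ⊓ A = ⊥)
    (g : G) (hg : A.map (MulAut.conj g).toMonoidHom ≠ A) :
    Cfsg.IsElementaryAbelian 2 (A ⊓ Subgroup.normalizer ((A.map (MulAut.conj g).toMonoidHom : Subgroup G) : Set G)) ∨
      ⁅A, A.map (MulAut.conj g).toMonoidHom⁆ = ⊥ := by
  rw [or_iff_not_imp_left]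
  intro hne
  set B := A.map (MulAut.conj g).toMonoidHom with hB
  have hAB : A ⊓ B = ⊥ := by
    rw [inf_comm]
    exact (hti g).resolve_left hg
  have hBa : IsMulCommutative ↥B := by
    constructor; constructor
    rintro ⟨x, hx⟩ ⟨y, hy⟩
    obtain ⟨u, hu, rfl⟩ := Subgroup.mem_map.1 hx
    obtain ⟨v, hv, rfl⟩ := Subgroup.mem_map.1 hy
    apply Subtype.ext
    show _ * _ = _ * _
    rw [← map_mul, ← map_mul]
    exact congrArg _ (congrArg Subtype.val (hAa.is_comm.comm (⟨u, hu⟩ : A) ⟨v, hv⟩))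
  have hNA : ∀ a ∈ A, a ≠ 1 → ∀ x : G, x * a = a * x → x ∈ Subgroup.normalizer (A : Set G) := by
    intro a ha ha1 x hx
    have h1 : A.map (MulAut.conj x).toMonoidHom = A := by
      rcases hti x with h | h
      · exact h
      · exfalso
        apply ha1
        rw [← Subgroup.mem_bot, ← h]
        refine ⟨⟨a, ha, ?_⟩, ha⟩
        show x * a * x⁻¹ = a
        rw [hx]
        group
    exact (Subgroup.mem_normalizer_iff_map_conj_eq).2 h1
  have hNB : ∀ b ∈ B, b ≠ 1 → ∀ x : G, x * b = b * x → x ∈ Subgroup.normalizer (B : Set G) := by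
    intro b hb hb1 x hx
    obtain ⟨u, hu, rfl⟩ := Subgroup.mem_map.1 hb
    have hb1' : u ≠ 1 := fun h => hb1 (by rw [h, map_one])
    have h2 := hNA u hu hb1' (g⁻¹ * x * g) (by
      change x * (g * u * g⁻¹) = g * u * g⁻¹ * x at hx
      calc g⁻¹ * x * g * u = g⁻¹ * (x * (g * u * g⁻¹)) * g := by group
        _ = g⁻¹ * (g * u * g⁻¹ * x) * g := by rw [hx]
        _ = u * (g⁻¹ * x * g) := by group)
    rw [Subgroup.mem_normalizer_iff] at h2 ⊢
    intro y
    have hmem : ∀ z : G, z ∈ B ↔ g⁻¹ * z * g ∈ A := by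
      intro z
      constructor
      · rintro ⟨w, hw, rfl⟩
        show g⁻¹ * (g * w * g⁻¹) * g ∈ A
        rw [show g⁻¹ * (g * w * g⁻¹) * g = w by group]
        exact hw
      · intro hz
        refine ⟨_, hz, ?_⟩
        show g * (g⁻¹ * z * g) * g⁻¹ = z
        group
    rw [hmem, hmem, h2 (g⁻¹ * y * g)]
    simp [mul_assoc]
  -- an element of `A` of order at least four normalizing `B`
  obtain ⟨a, ⟨ha, haB⟩, ha2⟩ : ∃ a, (a ∈ A ∧ a ∈ Subgroup.normalizer (B : Set G)) ∧ a ^ 2 ≠ 1 := by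
    by_contra hcon
    push Not at hcon
    refine hne ⟨?_, fun a ha => hcon a ha⟩
    constructor; constructor
    rintro ⟨x, hx⟩ ⟨y, hy⟩
    exact Subtype.ext (congrArg (fun t : A => (t : G)) (hAa.is_comm.comm ⟨x, hx.1⟩ ⟨y, hy.1⟩))
  have hB2 : IsPGroup 2 ↥B := hA2.map _
  obtain ⟨-, hBA⟩ := le_centralizer_of_sq_ne_one A B hA2 hAa hB2 hBa hAB hNA a ha haB ha2
  have hgB : MulAut.conj g a ∈ B := Subgroup.mem_map_of_mem _ ha
  have hgB2 : (MulAut.conj g a) ^ 2 ≠ 1 := by
    rw [← map_pow, ne_eq, map_eq_one_iff _ (MulAut.conj g).injective]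
    exact ha2
  obtain ⟨-, hAB'⟩ := le_centralizer_of_sq_ne_one B A hB2 hBa hA2 hAa (by rw [inf_comm, hAB])
    hNB _ hgB (hBA hgB) hgB2
  rw [eq_bot_iff, Subgroup.commutator_le, ← hAB]
  intro x hx y hy
  rw [commutatorElement_def]
  refine Subgroup.mem_inf.2 ⟨?_, mul_mem ((Subgroup.mem_normalizer_iff.1 (hAB' hx) y).1 hy) (inv_mem hy)⟩
  have := (Subgroup.mem_normalizer_iff.1 (hBA hy) x⁻¹).1 (inv_mem hx)
  simpa [mul_assoc] using mul_mem hx this

end Cfsg.Agent.S1781
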