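import Cfsg.Statements.S1782
-- import your own Cfsg.Agent.* helpers here

set_option autoImplicit false
open Cfsg

namespace Cfsg.Agent.S1782

open Subgroup

variable {S : Type*} [Group S] [Finite S]

omit [Finite S] in
theorem commute_of_commutator {A B : Subgroup S} (h : ⁅A, B⁆ = ⊥) {a b : S} (ha : a ∈ A)
    (hb : b ∈ B) : a * b = b * a :=
  (mem_centralizer_iff.1 (commutator_eq_bot_iff_le_centralizer.1 h ha) b hb).symm

omit [Finite S] in
theorem mem_conj_map {A : Subgroup S} {g a : S} (ha : a ∈ A) :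
    g * a * g⁻¹ ∈ A.map (MulAut.conj g).toMonoidHom := ⟨a, ha, rfl⟩

omit [Finite S] in
theorem eq_one_of_mem_both {Δ : Set (Subgroup S)}
    (hti : ∀ R ∈ Δ, ∀ T ∈ Δ, R = T ∨ R ⊓ T = ⊥) {R T : Subgroup S} (hR : R ∈ Δ) (hT : T ∈ Δ)
    (hne : R ≠ T) {x : S} (hxR : x ∈ R) (hxT : x ∈ T) : x = 1 := by
  rcases hti R hR T hT with h | h
  · exact absurd h hne
  · exact mem_bot.1 (h ▸ ⟨hxR, hxT⟩)

omit [Finite S] in
theorem commute_of_both_normalize {R T : Subgroup S} (hTI : R ⊓ T = ⊥)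
    (h1 : R ≤ normalizer (T : Set S)) (h2 : T ≤ normalizer (R : Set S)) : ⁅R, T⁆ = ⊥ := by
  rw [eq_bot_iff, ← hTI]
  exact le_inf (le_normalizer_iff_commutator_le_left.1 h2)
    (le_normalizer_iff_commutator_le_right.1 h1)

/-- If one member normalizes another and the distinct conjugates of either commute with it, the two
commute. -/
theorem commute_of_normalize {Δ : Set (Subgroup S)}
    (hinv : ∀ s : S, ∀ R ∈ Δ, R.map (MulAut.conj s).toMonoidHom ∈ Δ)
    (hord : ∀ R ∈ Δ, ∀ T ∈ Δ, Nat.card R = Nat.card T)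
    (hti : ∀ R ∈ Δ, ∀ T ∈ Δ, R = T ∨ R ⊓ T = ⊥)
    {R T : Subgroup S} (hR : R ∈ Δ) (hT : T ∈ Δ) (hne : R ≠ T)
    (hTR : T ≤ normalizer (R : Set S))
    (hTT : ∀ r ∈ R, r ∉ normalizer (T : Set S) → ⁅T, T.map (MulAut.conj r).toMonoidHom⁆ = ⊥) :
    ⁅R, T⁆ = ⊥ := by
  have hTI : R ⊓ T = ⊥ := (hti R hR T hT).resolve_left hne
  by_cases hall : R ≤ normalizer (T : Set S)
  · exact commute_of_both_normalize hTI hall hTR
  exfalso
  obtain ⟨r, hr, hrN⟩ := SetLike.not_le_iff_exists.1 hall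
  have hcom := hTT r hr hrN
  have hne' : T.map (MulAut.conj r).toMonoidHom ≠ T := fun h =>
    hrN (mem_normalizer_iff_map_conj_eq.2 h)
  have hcR : ∀ t ∈ T, t⁻¹ * (r * t * r⁻¹) ∈ R := by
    intro t ht
    have h1 := (mem_normalizer_iff.1 (inv_mem (hTR ht)) r).1 hr
    simpa [mul_assoc] using mul_mem h1 (inv_mem hr)
  -- the element `t⁻¹ (r t r⁻¹)` centralizes `T`, and `T` is abelian
  have hcT : ∀ t ∈ T, ∀ u ∈ T, t⁻¹ * (r * t * r⁻¹) * u = u * (t⁻¹ * (r * t * r⁻¹)) := by
    intro t ht u hu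
    set c := t⁻¹ * (r * t * r⁻¹) with hc
    have h1 : u * (r * t * r⁻¹) = r * t * r⁻¹ * u :=
      commute_of_commutator hcom hu (mem_conj_map ht)
    have h2 : c * u * c⁻¹ * u⁻¹ = t⁻¹ * u * t * u⁻¹ := by
      rw [hc]
      calc t⁻¹ * (r * t * r⁻¹) * u * (t⁻¹ * (r * t * r⁻¹))⁻¹ * u⁻¹
          = t⁻¹ * (r * t * r⁻¹ * u) * (t⁻¹ * (r * t * r⁻¹))⁻¹ * u⁻¹ := by group
        _ = t⁻¹ * (u * (r * t * r⁻¹)) * (t⁻¹ * (r * t * r⁻¹))⁻¹ * u⁻¹ := by rw [h1]
        _ = t⁻¹ * u * t * u⁻¹ := by group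
    have hmem1 : c * u * c⁻¹ * u⁻¹ ∈ R := by
      have := (mem_normalizer_iff.1 (hTR hu) c⁻¹).1 (inv_mem (hcR t ht))
      simpa [mul_assoc] using mul_mem (show c ∈ R from hcR t ht) this
    have hmem2 : c * u * c⁻¹ * u⁻¹ ∈ T := h2 ▸
      mul_mem (mul_mem (mul_mem (inv_mem ht) hu) ht) (inv_mem hu)
    have h3 : c * u * c⁻¹ * u⁻¹ = 1 := eq_one_of_mem_both hti hR hT hne hmem1 hmem2
    rw [mul_inv_eq_one, mul_inv_eq_iff_eq_mul] at h3
    exact h3
  -- an injection of `T` into the part of `R` normalizing `T`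
  let f : T → ↥(R ⊓ normalizer (T : Set S) : Subgroup S) := fun t =>
    ⟨(t : S)⁻¹ * (r * t * r⁻¹), mem_inf.2 ⟨hcR t t.2, centralizer_le_normalizer _
      (mem_centralizer_iff.2 fun u hu => (hcT t t.2 u hu).symm)⟩⟩
  have hinj : Function.Injective f := by
    intro t u h
    have h' : (t : S)⁻¹ * (r * t * r⁻¹) = (u : S)⁻¹ * (r * u * r⁻¹) := congrArg Subtype.val h
    have h1 : (u : S) * (t : S)⁻¹ = r * ((u : S) * (t : S)⁻¹) * r⁻¹ := by
      calc (u : S) * (t : S)⁻¹
          = u * ((t : S)⁻¹ * (r * t * r⁻¹)) * (r * t * r⁻¹)⁻¹ := by group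
        _ = u * ((u : S)⁻¹ * (r * u * r⁻¹)) * (r * t * r⁻¹)⁻¹ := by rw [h']
        _ = r * (u * (t : S)⁻¹) * r⁻¹ := by group
    have h2 : (u : S) * (t : S)⁻¹ = 1 :=
      eq_one_of_mem_both hti (hinv r T hT) hT hne'
        (by rw [h1]; exact mem_conj_map (mul_mem u.2 (inv_mem t.2))) (mul_mem u.2 (inv_mem t.2))
    exact Subtype.ext (mul_inv_eq_one.1 h2).symm
  have hle := Nat.card_le_card_of_injective f hinj
  have heq : R ⊓ normalizer (T : Set S) = R :=
    Subgroup.eq_of_le_of_card_ge inf_le_left (by rw [hord R hR T hT]; exact hle)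
  exact hrN (heq.ge hr).2

omit [Finite S] in
/-- If distinct conjugates commute, elements of `R` outside the normalizer of `T` square to one. -/
theorem sq_eq_one_of_not_mem {Δ : Set (Subgroup S)}
    (hinv : ∀ s : S, ∀ R ∈ Δ, R.map (MulAut.conj s).toMonoidHom ∈ Δ)
    (hti : ∀ R ∈ Δ, ∀ T ∈ Δ, R = T ∨ R ⊓ T = ⊥)
    {R T : Subgroup S} (hR : R ∈ Δ) {r t : S} (hr : r ∈ R) (ht : t ∈ T)
    (htN : t ∉ normalizer (R : Set S)) (ht2 : t ^ 2 ∈ normalizer (R : Set S))
    (hRR : ⁅R, R.map (MulAut.conj t).toMonoidHom⁆ = ⊥)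
    (hTT : ⁅T, T.map (MulAut.conj r).toMonoidHom⁆ = ⊥) : r ^ 2 = 1 := by
  set r' := t * r⁻¹ * t⁻¹ with hr'
  have hr'm : r' ∈ R.map (MulAut.conj t).toMonoidHom := mem_conj_map (inv_mem hr)
  have hct : t * (r * r') = (r * r') * t := by
    have h1 : t * (r * t * r⁻¹) = r * t * r⁻¹ * t :=
      commute_of_commutator hTT ht (mem_conj_map ht)
    calc t * (r * r') = t * (r * t * r⁻¹) * t⁻¹ := by rw [hr']; group
      _ = r * t * r⁻¹ * t * t⁻¹ := by rw [h1]
      _ = (r * r') * t := by rw [hr']; group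
  have h2 : r * t ^ 2 * r⁻¹ * (t ^ 2)⁻¹ = r ^ 2 * r' ^ 2 := by
    have e : (r * r') * (r * r') = r ^ 2 * r' ^ 2 := by
      rw [pow_two, pow_two]
      calc r * r' * (r * r') = r * (r' * r) * r' := by group
        _ = r * (r * r') * r' := by rw [commute_of_commutator hRR hr hr'm]
        _ = r * r * (r' * r') := by group
    rw [← e]
    calc r * t ^ 2 * r⁻¹ * (t ^ 2)⁻¹ = (r * r' * t) * (r * r' * t) * (t ^ 2)⁻¹ := by
          rw [hr', pow_two]; group
      _ = (r * r') * (t * (r * r')) * t * (t ^ 2)⁻¹ := by group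
      _ = (r * r') * ((r * r') * t) * t * (t ^ 2)⁻¹ := by rw [hct]
      _ = (r * r') * (r * r') := by rw [pow_two]; group
  have h3 : r ^ 2 * r' ^ 2 ∈ R := by
    rw [← h2]
    have := (mem_normalizer_iff.1 ht2 r⁻¹).1 (inv_mem hr)
    simpa [mul_assoc] using mul_mem hr this
  have h4 : r' ^ 2 ∈ R := (mul_mem_cancel_left (pow_mem hr 2)).1 h3
  have h5 : r' ^ 2 = 1 :=
    eq_one_of_mem_both hti (hinv t R hR) hR
      (fun h => htN (mem_normalizer_iff_map_conj_eq.2 h)) (pow_mem hr'm 2) h4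
  rw [hr', ← MulAut.conj_apply, ← map_pow, map_eq_one_iff _ (MulAut.conj t).injective,
    inv_pow, inv_eq_one] at h5
  exact h5

omit [Finite S] in
theorem exists_sq_mem_of_not_le {T N : Subgroup S} (hT : IsPGroup 2 T) (h : ¬ T ≤ N) :
    ∃ t ∈ T, t ∉ N ∧ t ^ 2 ∈ N := by
  obtain ⟨t, ht, htN⟩ := SetLike.not_le_iff_exists.1 h
  obtain ⟨k, hk⟩ := hT ⟨t, ht⟩
  have hk' : t ^ 2 ^ k = 1 := by simpa using congrArg Subtype.val hk
  classical
  have hex : ∃ i, t ^ 2 ^ i ∈ N := ⟨k, hk' ▸ one_mem N⟩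
  obtain ⟨i, hi⟩ : ∃ i, Nat.find hex = i + 1 := by
    refine ⟨Nat.find hex - 1, ?_⟩
    have : Nat.find hex ≠ 0 := fun h0 => htN (by simpa [h0] using Nat.find_spec hex)
    omega
  refine ⟨t ^ 2 ^ i, pow_mem ht _, Nat.find_min hex (by omega), ?_⟩
  rw [← pow_mul, ← pow_succ, ← hi]
  exact Nat.find_spec hex

omit [Finite S] in
theorem exists_sq_ne_one {R : Subgroup S} [Finite R] (h : IsPGroup 2 R) (hΦ : frattini ↥R ≠ ⊥) :
    ∃ x ∈ R, x ^ 2 ≠ 1 := by
  by_contra hcon
  push Not at hcon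
  have hsq : ∀ a : R, a * a = 1 := fun a => Subtype.ext (by
    simpa [pow_two] using hcon a a.2)
  -- every element outside the trivial subgroup is omitted by a maximal subgroup
  apply hΦ
  rw [eq_bot_iff]
  intro a ha
  by_contra ha1
  rw [mem_bot] at ha1
  obtain ⟨M, hMa, hMmax⟩ := WellFounded.has_min (wellFounded_gt (α := Subgroup R))
    {M : Subgroup R | a ∉ M} ⟨⊥, by simpa using ha1⟩
  have hcomm : ∀ u v : R, u * v = v * u := fun u v => by
    calc u * v = (v * v) * (u * v) * (u * u) := by rw [hsq, hsq, one_mul, mul_one]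
      _ = v * ((v * u) * (v * u)) * u := by group
      _ = v * u := by rw [hsq (v * u), mul_one]
  have hco : IsCoatom M := by
    refine ⟨fun htop => hMa (htop ▸ mem_top a), fun N hN => ?_⟩
    by_contra hne
    -- `a ∈ N`, and every `x` outside `N` gives `a ∈ M ⊔ ⟨x⟩`
    have haN : a ∈ N := by
      by_contra h
      exact hMmax N h hN
    obtain ⟨x, -, hx⟩ := SetLike.not_le_iff_exists.1 (fun h : (⊤ : Subgroup R) ≤ N =>
      hne (top_le_iff.1 h))
    let W : Subgroup R :=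
      { carrier := {w | w ∈ M ∨ x * w ∈ M}
        one_mem' := Or.inl M.one_mem
        mul_mem' := by
          rintro u v (hu | hu) (hv | hv)
          · exact Or.inl (mul_mem hu hv)
          · refine Or.inr ?_
            rw [← mul_assoc, hcomm x u, mul_assoc]
            exact mul_mem hu hv
          · refine Or.inr ?_
            rw [← mul_assoc]
            exact mul_mem hu hv
          · refine Or.inl ?_
            have : u * v = (x * u) * (x * v) := by
              rw [hcomm x u, mul_assoc, ← mul_assoc x x, hsq x, one_mul]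
            rw [this]
            exact mul_mem hu hv
        inv_mem' := by
          intro u hu
          rwa [inv_eq_of_mul_eq_one_left (hsq u)] }
    have hWM : M < W := lt_of_le_not_ge (fun u hu => Or.inl hu) fun h =>
      hx (hN.le (h (show x ∈ W from Or.inr (by rw [hsq]; exact M.one_mem))))
    have haW : a ∈ W := by
      by_contra h
      exact hMmax W h hWM
    rcases haW with h | h
    · exact hMa h
    · exact hx (by
        have := mul_mem (hN.le h) (inv_mem haN)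
        simpa [mul_assoc] using this)
  exact hMa (frattini_le_coatom hco ha)

/-- Distinct members inside a subgroup `H` commute, by induction on the order of `H`. -/
theorem commute_members {Δ : Set (Subgroup S)} (hS : IsPGroup 2 S)
    (hinv : ∀ s : S, ∀ R ∈ Δ, R.map (MulAut.conj s).toMonoidHom ∈ Δ)
    (hΦ : ∀ R ∈ Δ, frattini ↥R ≠ ⊥) (hord : ∀ R ∈ Δ, ∀ T ∈ Δ, Nat.card R = Nat.card T)
    (hti : ∀ R ∈ Δ, ∀ T ∈ Δ, R = T ∨ R ⊓ T = ⊥) :
    ∀ (n : ℕ) (R T : Subgroup S), R ∈ Δ → T ∈ Δ → R ≠ T → Nat.card ↥(R ⊔ T) ≤ n → ⁅R, T⁆ = ⊥ := by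
  intro n
  induction n with
  | zero => intro R T _ _ _ hn; exact absurd hn (by simp [Nat.card_pos.ne'])
  | succ n ih =>
    intro R T hR hT hne hn
    -- conjugates of `R` under `T` commute with it
    have key : ∀ A B : Subgroup S, A ∈ Δ → B ∈ Δ → A ≠ B → Nat.card ↥(A ⊔ B) ≤ n + 1 →
        ∀ b ∈ B, b ∉ normalizer (A : Set S) → ⁅A, A.map (MulAut.conj b).toMonoidHom⁆ = ⊥ := by
      intro A B hA hB hAB hcard b hb hbN
      set H := A ⊔ B with hH
      have hne' : A.subgroupOf H ≠ ⊤ := by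
        rw [ne_eq, subgroupOf_eq_top, hH]
        intro h
        have hBA : B ≤ A := le_sup_right.trans h
        have hbot : B = ⊥ := le_bot_iff.1 (((hti A hA B hB).resolve_left hAB) ▸ le_inf hBA le_rfl)
        apply hΦ B hB
        subst hbot
        exact Subsingleton.elim _ _
      obtain ⟨M, hM, hAM⟩ := (IsCoatomic.eq_top_or_exists_le_coatom _).resolve_left hne'
      have : Fact (Nat.Prime 2) := ⟨Nat.prime_two⟩
      have hnil : Group.IsNilpotent ↥H := (hS.to_subgroup H).isNilpotent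
      have hMn : M.Normal := Group.normalizerCondition_of_isNilpotent.normal_of_coatom M hM
      set M' := M.map H.subtype
      have hAM' : A ≤ M' := fun x hx => ⟨⟨x, le_sup_left (b := B) hx⟩, hAM hx, rfl⟩
      have hbM : A.map (MulAut.conj b).toMonoidHom ≤ M' := by
        rintro _ ⟨x, hx, rfl⟩
        exact ⟨⟨b, le_sup_right (a := A) hb⟩ * ⟨x, le_sup_left (b := B) hx⟩ *
          ⟨b, le_sup_right (a := A) hb⟩⁻¹, hMn.conj_mem _ (hAM hx) _, rfl⟩
      have hlt : Nat.card M' < Nat.card H := by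
        rw [card_map_of_injective H.subtype_injective]
        exact lt_of_le_of_ne (Nat.le_of_dvd Nat.card_pos (card_subgroup_dvd_card M)) fun h =>
          hM.1 (eq_top_of_card_eq M h)
      refine ih _ _ hA (hinv b A hA) (fun h => hbN (mem_normalizer_iff_map_conj_eq.2 h.symm)) ?_
      have := Nat.le_of_dvd Nat.card_pos (card_dvd_of_le (sup_le hAM' hbM))
      omega
    have kR := key R T hR hT hne hn
    have kT := key T R hT hR hne.symm (by rwa [sup_comm])
    by_cases hTR : T ≤ normalizer (R : Set S)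
    · exact commute_of_normalize hinv hord hti hR hT hne hTR kT
    by_cases hRT : R ≤ normalizer (T : Set S)
    · rw [commutator_comm]
      exact commute_of_normalize hinv hord hti hT hR hne.symm hRT kR
    exfalso
    obtain ⟨t, ht, htN, ht2⟩ := exists_sq_mem_of_not_le (hS.to_subgroup T) hTR
    obtain ⟨r, hr, hrN⟩ := SetLike.not_le_iff_exists.1 hRT
    have hinvol : ∀ u ∈ R, u ∉ normalizer (T : Set S) → u ^ 2 = 1 := fun u hu huN =>
      sq_eq_one_of_not_mem hinv hti hR hu ht htN ht2 (kR t ht htN) (kT u hu huN)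
    obtain ⟨w, hw, hw2⟩ := exists_sq_ne_one (hS.to_subgroup R) (hΦ R hR)
    -- an element of order four normalizing `T`
    obtain ⟨k, hk⟩ := IsPGroup.iff_orderOf.1 (hS.to_subgroup R) ⟨w, hw⟩
    rw [Subgroup.orderOf_mk] at hk
    obtain ⟨j, rfl⟩ : ∃ j, k = j + 2 := by
      refine ⟨k - 2, ?_⟩
      rcases k with _ | _ | k
      · exact absurd (orderOf_eq_one_iff.1 hk) fun h => hw2 (by simp [h])
      · exact absurd (by simpa using pow_orderOf_eq_one w ▸ hk ▸ rfl : w ^ 2 = 1) hw2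
      · omega
    set x := w ^ 2 ^ j with hx
    have hxR : x ∈ R := pow_mem hw _
    have hx2 : x ^ 2 ≠ 1 := by
      rw [hx, ← pow_mul, ← pow_succ]
      intro h
      have := Nat.le_of_dvd (by positivity) (orderOf_dvd_of_pow_eq_one h)
      rw [hk, pow_succ 2 (j + 1)] at this
      have : 0 < 2 ^ (j + 1) := by positivity
      omega
    have hx4 : x ^ 2 * x ^ 2 = 1 := by
      rw [hx, ← pow_add, ← pow_mul, show 2 ^ j * (2 + 2) = orderOf w by rw [hk]; ring,
        pow_orderOf_eq_one]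
    have hxN : x ∈ normalizer (T : Set S) := by
      by_contra h
      exact hx2 (hinvol x hxR h)
    have hrx : r * x * r⁻¹ = x⁻¹ := by
      have h1 : r * x ∉ normalizer (T : Set S) := fun h => hrN (by
        simpa [mul_assoc] using mul_mem h (inv_mem hxN))
      have h2 := hinvol (r * x) (mul_mem hr hxR) h1
      have h3 := hinvol r hr hrN
      rw [pow_two] at h2 h3
      rw [inv_eq_of_mul_eq_one_left h3]
      exact eq_inv_of_mul_eq_one_left (by rw [mul_assoc]; exact h2)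
    set x' := t * x⁻¹ * t⁻¹ with hx'
    have hx'm : x' ∈ R.map (MulAut.conj t).toMonoidHom := mem_conj_map (inv_mem hxR)
    have hyT : x * x' ∈ T := by
      have := mul_mem ((mem_normalizer_iff.1 hxN t).1 ht) (inv_mem ht)
      simpa [hx', mul_assoc] using this
    have hconj : r * (x * x') * r⁻¹ = x⁻¹ * x' := by
      have hc := commute_of_commutator (kR t ht htN) hr hx'm
      calc r * (x * x') * r⁻¹ = (r * x * r⁻¹) * (r * x' * r⁻¹) := by group
        _ = x⁻¹ * x' := by rw [hrx, hc]; group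
    have hsq : ∀ u ∈ R, (u * x') ^ 2 = u ^ 2 * x' ^ 2 := fun u hu =>
      Commute.mul_pow (commute_of_commutator (kR t ht htN) hu hx'm) 2
    have h5 : x ^ 2 * x' ^ 2 = 1 := by
      have hne' : T.map (MulAut.conj r).toMonoidHom ≠ T := fun h =>
        hrN (mem_normalizer_iff_map_conj_eq.2 h)
      refine eq_one_of_mem_both hti (hinv r T hT) hT hne' ?_ ((hsq x hxR) ▸ pow_mem hyT 2)
      have h := pow_mem (mem_conj_map (g := r) hyT) 2
      rw [hconj, hsq _ (inv_mem hxR), inv_pow, inv_eq_of_mul_eq_one_left hx4] at h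
      exact h
    apply hx2
    refine eq_one_of_mem_both hti hR (hinv t R hR)
      (fun h => htN (mem_normalizer_iff_map_conj_eq.2 h.symm)) (pow_mem hxR 2) ?_
    rw [eq_inv_of_mul_eq_one_left h5]
    exact inv_mem (pow_mem hx'm 2)

/-- Let S be a finite 2-group and Δ a set of subgroups of S closed under conjugation by S, all of the same order, each with nontrivial Frattini subgroup, and such that two distinct members of Δ meet trivially. Then any two distinct members of Δ commute elementwise. -/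
theorem result {S : Type*} [Group S] [Finite S] (hS : IsPGroup 2 S)
    (Δ : Set (Subgroup S)) (hinv : ∀ s : S, ∀ R ∈ Δ, R.map (MulAut.conj s).toMonoidHom ∈ Δ)
    (hΦ : ∀ R ∈ Δ, frattini ↥R ≠ ⊥) (hord : ∀ R ∈ Δ, ∀ T ∈ Δ, Nat.card ↥R = Nat.card ↥T)
    (hti : ∀ R ∈ Δ, ∀ T ∈ Δ, R = T ∨ R ⊓ T = ⊥) :
    ∀ R ∈ Δ, ∀ T ∈ Δ, R ≠ T → ⁅R, T⁆ = ⊥ := by
  intro R hR T hT hne
  exact commute_members hS hinv hΦ hord hti _ R T hR hT hne le_rfl

end Cfsg.Agent.S1782
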