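import Cfsg.Statements.S1783
import Cfsg.Agent.S1782
import Cfsg.Agent.CharPLocal.Two
-- import your own Cfsg.Agent.* helpers here

set_option autoImplicit false
open Cfsg

namespace Cfsg.Agent.S1783

open Subgroup

/-- The square of an element of a 2-group lies in the Frattini subgroup. -/
theorem sq_mem_frattini {P : Type*} [Group P] [Finite P] (hP : IsPGroup 2 P) (x : P) :
    x ^ 2 ∈ frattini P := by
  have : Fact (Nat.Prime 2) := ⟨Nat.prime_two⟩
  have hnil : Group.IsNilpotent P := hP.isNilpotent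
  rw [frattini, Order.radical]
  simp only [Subgroup.mem_iInf]
  intro M hM
  have hMn : M.Normal := Group.normalizerCondition_of_isNilpotent.normal_of_coatom M hM
  by_contra hx
  have hlt : M < (zpowers ((x : P ⧸ M) ^ 2)).comap (QuotientGroup.mk' M) := by
    refine lt_of_le_not_ge (fun m hm => ?_) fun h => hx (h ?_)
    · rw [mem_comap, QuotientGroup.mk'_apply, (QuotientGroup.eq_one_iff m).2 hm]
      exact one_mem _
    · rw [mem_comap, QuotientGroup.mk'_apply, QuotientGroup.mk_pow]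
      exact mem_zpowers _
  have htop := hM.2 _ hlt
  obtain ⟨i, hi⟩ : (x : P ⧸ M) ∈ zpowers ((x : P ⧸ M) ^ 2) := by
    have : x ∈ (zpowers ((x : P ⧸ M) ^ 2)).comap (QuotientGroup.mk' M) := htop ▸ mem_top x
    exact this
  -- so `x` has odd order modulo `M`
  obtain ⟨k, hk⟩ := IsPGroup.iff_orderOf.1 (hP.to_quotient M) (x : P ⧸ M)
  rcases k with _ | k
  · apply hx
    rw [pow_zero, orderOf_eq_one_iff] at hk
    exact pow_mem ((QuotientGroup.eq_one_iff x).1 hk) 2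
  · have h1 : (x : P ⧸ M) ^ (2 ^ k) = 1 := by
      have hz : ((x : P ⧸ M) ^ 2) ^ i = (x : P ⧸ M) := hi
      calc (x : P ⧸ M) ^ (2 ^ k) = (((x : P ⧸ M) ^ 2) ^ i) ^ (2 ^ k) := by rw [hz]
        _ = (((x : P ⧸ M) ^ 2) ^ (2 ^ k)) ^ i := by
            rw [← zpow_natCast (((x : P ⧸ M) ^ 2) ^ i), ← zpow_mul, mul_comm, zpow_mul, zpow_natCast]
        _ = 1 := by rw [← pow_mul, ← pow_succ', ← hk, pow_orderOf_eq_one, one_zpow]
    have h2 := Nat.le_of_dvd (by positivity) (orderOf_dvd_of_pow_eq_one h1)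
    rw [hk, pow_succ] at h2
    have : 0 < 2 ^ k := by positivity
    omega

variable {X : Type*} [Group X] [Finite X]

/-- Conjugates of a TI subgroup which is not elementary abelian commute elementwise inside a
2-subgroup. -/
theorem conjugates_commute {P A : Subgroup X} (hP : IsPGroup 2 ↥P) (hAP : A ≤ P)
    (hAa : IsMulCommutative ↥A)
    (hti : ∀ h : X, A.map (MulAut.conj h).toMonoidHom = A ∨ A.map (MulAut.conj h).toMonoidHom ⊓ A = ⊥)
    {b : X} (hb : b ∈ A) (hb2 : b ^ 2 ≠ 1) {x : X} (hx : A.map (MulAut.conj x).toMonoidHom ≤ P) :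
    ∀ a ∈ A, ∀ c ∈ A, a * (x * c * x⁻¹) = x * c * x⁻¹ * a := by
  intro a ha c hc
  have hcomp : ∀ g h : X, (A.map (MulAut.conj g).toMonoidHom).map (MulAut.conj h).toMonoidHom =
      A.map (MulAut.conj (h * g)).toMonoidHom := by
    intro g h
    rw [map_map]
    congr 1
    ext z
    simp
  let Δ : Set (Subgroup ↥P) := {R | ∃ g : X, A.map (MulAut.conj g).toMonoidHom ≤ P ∧
    R = (A.map (MulAut.conj g).toMonoidHom).subgroupOf P}
  have hinv : ∀ s : ↥P, ∀ R ∈ Δ, R.map (MulAut.conj s).toMonoidHom ∈ Δ := by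
    rintro s R ⟨g, hg, rfl⟩
    refine ⟨(s : X) * g, ?_, ?_⟩
    · rw [← hcomp]
      rintro z ⟨y, hy, rfl⟩
      exact mul_mem (mul_mem s.2 (hg hy)) (inv_mem s.2)
    · rw [← hcomp]
      ext z
      constructor
      · rintro ⟨y, hy, rfl⟩
        exact ⟨(y : X), hy, rfl⟩
      · rintro ⟨y, hy, he⟩
        exact ⟨⟨y, hg hy⟩, hy, Subtype.ext he⟩
  have hcard : ∀ R ∈ Δ, Nat.card R = Nat.card A := by
    rintro R ⟨g, hg, rfl⟩
    rw [Nat.card_congr (Subgroup.subgroupOfEquivOfLe hg).toEquiv,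
      card_map_of_injective (MulEquiv.injective _)]
  have hΦ : ∀ R ∈ Δ, frattini ↥R ≠ ⊥ := by
    rintro R ⟨g, hg, rfl⟩ h0
    have hm : g * b * g⁻¹ ∈ A.map (MulAut.conj g).toMonoidHom := ⟨b, hb, rfl⟩
    let w : ↥((A.map (MulAut.conj g).toMonoidHom).subgroupOf P) := ⟨⟨_, hg hm⟩, hm⟩
    have h2 := sq_mem_frattini (hP.to_subgroup _) w
    rw [h0, mem_bot] at h2
    have h3 : (g * b * g⁻¹) ^ 2 = 1 :=
      congrArg (fun t : ↥((A.map (MulAut.conj g).toMonoidHom).subgroupOf P) => ((t : ↥P) : X)) h2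
    rw [← MulAut.conj_apply, ← map_pow, map_eq_one_iff _ (MulAut.conj g).injective] at h3
    exact hb2 h3
  have htiΔ : ∀ R ∈ Δ, ∀ T ∈ Δ, R = T ∨ R ⊓ T = ⊥ := by
    rintro R ⟨g, hg, rfl⟩ T ⟨h, hh, rfl⟩
    rcases hti (h⁻¹ * g) with h1 | h1
    · left
      have h2 := congrArg (Subgroup.map (MulAut.conj h).toMonoidHom) h1
      rw [hcomp, mul_inv_cancel_left] at h2
      rw [h2]
    · right
      rw [eq_bot_iff]
      rintro ⟨z, hz⟩ ⟨hz1, hz2⟩
      obtain ⟨y, hy, rfl⟩ : z ∈ A.map (MulAut.conj h).toMonoidHom := hz2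
      rw [mem_bot]
      have hy1 : y = 1 := by
        rw [← mem_bot, ← h1]
        refine ⟨?_, hy⟩
        obtain ⟨u, hu, he⟩ := hz1
        refine ⟨u, hu, ?_⟩
        change g * u * g⁻¹ = h * y * h⁻¹ at he
        show h⁻¹ * g * u * (h⁻¹ * g)⁻¹ = y
        calc h⁻¹ * g * u * (h⁻¹ * g)⁻¹ = h⁻¹ * (g * u * g⁻¹) * h := by group
          _ = y := by rw [he]; group
      exact Subtype.ext (by simp [hy1])
  have h1A : A.map (MulAut.conj (1 : X)).toMonoidHom = A := by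
    ext z; simp
  by_cases heq : (A.map (MulAut.conj x).toMonoidHom).subgroupOf P = A.subgroupOf P
  · have hm : x * c * x⁻¹ ∈ A := by
      have h2 : (⟨x * c * x⁻¹, hx ⟨c, hc, rfl⟩⟩ : ↥P) ∈
          (A.map (MulAut.conj x).toMonoidHom).subgroupOf P := ⟨c, hc, rfl⟩
      rw [heq] at h2
      exact h2
    exact congrArg Subtype.val (hAa.is_comm.comm ⟨a, ha⟩ ⟨_, hm⟩)
  · have hA : A.subgroupOf P ∈ Δ := ⟨1, h1A.symm ▸ hAP, by rw [h1A]⟩
    have h3 := Cfsg.Agent.S1782.result hP Δ hinv hΦ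
      (fun R hR T hT => by rw [hcard R hR, hcard T hT]) htiΔ
      _ hA _ ⟨x, hx, rfl⟩ (Ne.symm heq)
    exact (congrArg Subtype.val (Cfsg.Agent.S1782.commute_of_commutator h3
      (a := (⟨a, hAP ha⟩ : ↥P)) (b := (⟨x * c * x⁻¹, hx ⟨c, hc, rfl⟩⟩ : ↥P)) ha ⟨c, hc, rfl⟩) :)

/-- Let X be a finite group whose generalized Fitting subgroup equals its largest normal 2-subgroup Q, and let A be an abelian 2-subgroup of X such that every conjugate of A equals A or meets A trivially. Let B be the subgroup generated by the squares of the elements of A. Then B lies in Q, and if B is not an elementary abelian 2-group then the normal closure of B in X is commutative. -/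
theorem result {X : Type*} [Group X] [Finite X]
    (hX : Cfsg.generalizedFittingSubgroup X = Cfsg.pCore 2 X) (A : Subgroup X) (hA2 : IsPGroup 2 ↥A) (hAa : IsMulCommutative ↥A)
    (hti : ∀ h : X, A.map (MulAut.conj h).toMonoidHom = A ∨ A.map (MulAut.conj h).toMonoidHom ⊓ A = ⊥) :
    Subgroup.closure ((fun a : X => a ^ 2) '' (A : Set X)) ≤ Cfsg.pCore 2 X ∧
      (¬ Cfsg.IsElementaryAbelian 2 (Subgroup.closure ((fun a : X => a ^ 2) '' (A : Set X))) →
        IsMulCommutative ↥(Subgroup.normalClosure ((fun a : X => a ^ 2) '' (A : Set X)))) := by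
  have : Fact (Nat.Prime 2) := ⟨Nat.prime_two⟩
  set Q := Cfsg.pCore 2 X with hQ
  have hchar := CfsgLib.CharPLocal.centralizer_pCore_le_of_generalizedFitting_eq hX
  have hQ2 : IsPGroup 2 ↥Q := CfsgLib.PLocal.isPGroup_pCore 2 X
  set Φ := (frattini ↥Q).map Q.subtype with hΦ
  have hΦn : Φ.Normal := CfsgLib.PLocal.normal_map_subtype Q (frattini ↥Q)
  -- elements centralizing `Q` modulo its Frattini subgroup
  let K : Subgroup X :=
    { carrier := {x | ∀ q ∈ Q, x * q * x⁻¹ * q⁻¹ ∈ Φ}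
      one_mem' := fun q _ => by simp
      mul_mem' := fun {x y} hx hy q hq => by
        have h1 := hΦn.conj_mem _ (hy q hq) x
        have h2 := hx q hq
        have e : x * y * q * (x * y)⁻¹ * q⁻¹ = x * (y * q * y⁻¹ * q⁻¹) * x⁻¹ * (x * q * x⁻¹ * q⁻¹) := by
          group
        rw [e]; exact mul_mem h1 h2
      inv_mem' := fun {x} hx q hq => by
        have h1 := hΦn.conj_mem _ (inv_mem (hx q hq)) x⁻¹
        have e : x⁻¹ * q * x⁻¹⁻¹ * q⁻¹ = x⁻¹ * (x * q * x⁻¹ * q⁻¹)⁻¹ * x⁻¹⁻¹ := by group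
        rw [e]; exact h1 }
  have hKn : K.Normal := ⟨fun n hn g q hq => by
    have hq' : g⁻¹ * q * g ∈ Q := by
      simpa using (inferInstance : Q.Normal).conj_mem q hq g⁻¹
    have h1 := hΦn.conj_mem _ (hn _ hq') g
    have e : g * n * g⁻¹ * q * (g * n * g⁻¹)⁻¹ * q⁻¹ =
        g * (n * (g⁻¹ * q * g) * n⁻¹ * (g⁻¹ * q * g)⁻¹) * g⁻¹ := by group
    rw [e]; exact h1⟩
  have hKQ : K ≤ Q := by
    refine CfsgLib.PLocal.le_pCore (IsPGroup.iff_orderOf.2 fun g => ?_)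
    obtain ⟨a, b, ha, hb, ⟨k, hk⟩, hcop, hab⟩ :=
      CfsgLib.LocalStructure.exists_pPart_mul (p := 2) (g : X)
    refine ⟨k, ?_⟩
    have hbK : b ∈ K := Subgroup.zpowers_le.2 g.2 hb
    obtain ⟨j, hj⟩ := IsPGroup.iff_card.1 hQ2
    have hb1 : b = 1 := by
      refine CfsgLib.LocalStructure.eq_one_of_coprime_of_mem hQ2 (hchar ?_) hcop
      refine CfsgLib.Coprime.le_centralizer_of_commutator_le_frattini
        (A := Subgroup.zpowers b) (G := Q) ?_ ?_ ?_ (Subgroup.mem_zpowers b)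
      · rw [Subgroup.normalizer_eq_top (H := Q)]; exact le_top
      · rw [Nat.card_zpowers]
        obtain ⟨i, -, hi⟩ := (Nat.dvd_prime_pow Nat.prime_two).1
          (hj ▸ Subgroup.card_subgroup_dvd_card (frattini ↥Q))
        rw [hi]
        exact Nat.Coprime.pow_right i hcop
      · rw [Subgroup.commutator_le]
        intro q hq y hy
        have h1 : y ∈ K := Subgroup.zpowers_le.2 hbK hy
        have h2 := inv_mem (h1 q hq)
        rw [commutatorElement_def]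
        have e : q * y * q⁻¹ * y⁻¹ = (y * q * y⁻¹ * q⁻¹)⁻¹ := by group
        rw [e]
        exact h2
    rw [hb1, mul_one] at hab
    rw [← Subgroup.orderOf_coe, ← hab, hk]
  -- squares lie in `Q`
  have hsq : ∀ a ∈ A, a ^ 2 ∈ Q := by
    intro a ha
    by_cases ha2 : a ^ 2 = 1
    · rw [ha2]; exact one_mem _
    refine hKQ fun q hq => ?_
    have hP : IsPGroup 2 ↥(Q ⊔ A) := hQ2.to_sup_of_normal_left' hA2
      (by rw [Subgroup.normalizer_eq_top (H := Q)]; exact le_top)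
    have hmap : A.map (MulAut.conj q).toMonoidHom ≤ Q ⊔ A := by
      rintro _ ⟨u, hu, rfl⟩
      exact mul_mem (mul_mem (Subgroup.mem_sup_left hq) (Subgroup.mem_sup_right hu))
        (inv_mem (Subgroup.mem_sup_left hq))
    have hcom := conjugates_commute hP le_sup_right hAa hti ha ha2 hmap a ha a⁻¹ (inv_mem ha)
    set c := a * q * a⁻¹ * q⁻¹ with hc
    have hcQ : c ∈ Q := mul_mem ((inferInstance : Q.Normal).conj_mem q hq a) (inv_mem hq)
    have hca : a * c = c * a := by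
      rw [hc]
      calc a * (a * q * a⁻¹ * q⁻¹) = a * (a * (q * a⁻¹ * q⁻¹)) := by group
        _ = a * (q * a⁻¹ * q⁻¹ * a) := by rw [hcom]
        _ = a * q * a⁻¹ * q⁻¹ * a := by group
    have he : a ^ 2 * q * (a ^ 2)⁻¹ * q⁻¹ = c ^ 2 := by
      calc a ^ 2 * q * (a ^ 2)⁻¹ * q⁻¹ = a * c * q * a⁻¹ * q⁻¹ := by rw [hc, pow_two]; group
        _ = c * (a * q * a⁻¹ * q⁻¹) := by rw [hca]; group
        _ = c ^ 2 := by rw [← hc, pow_two]
    rw [he]
    exact ⟨⟨c, hcQ⟩ ^ 2, sq_mem_frattini hQ2 _, rfl⟩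
  set B := Subgroup.closure ((fun a : X => a ^ 2) '' (A : Set X)) with hB
  have hBQ : B ≤ Q := by
    rw [hB, Subgroup.closure_le]
    rintro _ ⟨a, ha, rfl⟩
    exact hsq a ha
  refine ⟨hBQ, fun hne => ?_⟩
  have hBA : B ≤ A ⊓ Q := le_inf (by
    rw [hB, Subgroup.closure_le]
    rintro _ ⟨a, ha, rfl⟩
    exact pow_mem ha 2) hBQ
  obtain ⟨b, hb, hb2⟩ : ∃ b ∈ B, b ^ 2 ≠ 1 := by
    by_contra hcon
    push Not at hcon
    refine hne ⟨?_, hcon⟩
    exact ⟨⟨fun u v => Subtype.ext ((congrArg Subtype.val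
      (hAa.is_comm.comm ⟨(u : X), (hBA u.2).1⟩ ⟨(v : X), (hBA v.2).1⟩)) :)⟩⟩
  have hti' : ∀ h : X, (A ⊓ Q).map (MulAut.conj h).toMonoidHom = A ⊓ Q ∨
      (A ⊓ Q).map (MulAut.conj h).toMonoidHom ⊓ (A ⊓ Q) = ⊥ := by
    intro h
    rcases hti h with h1 | h1
    · left
      rw [Subgroup.map_inf _ _ _ (MulEquiv.injective _)]
      refine congrArg₂ (· ⊓ ·) h1 ?_
      exact Subgroup.mem_normalizer_iff_map_conj_eq.1
        (by rw [Subgroup.normalizer_eq_top (H := Q)]; exact Subgroup.mem_top h)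
    · right
      rw [eq_bot_iff, ← h1]
      exact inf_le_inf (Subgroup.map_mono inf_le_left) inf_le_left
  have hcommAQ : IsMulCommutative ↥(A ⊓ Q) :=
    ⟨⟨fun u v => Subtype.ext ((congrArg Subtype.val
      (hAa.is_comm.comm ⟨(u : X), u.2.1⟩ ⟨(v : X), v.2.1⟩)) :)⟩⟩
  have key : ∀ (x : X) (a : X), a ∈ A → ∀ c ∈ A,
      a ^ 2 * (x * c ^ 2 * x⁻¹) = x * c ^ 2 * x⁻¹ * a ^ 2 := by
    intro x a ha c hc
    refine conjugates_commute hQ2 inf_le_right hcommAQ hti' (hBA hb) hb2 ?_ _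
      (hBA (Subgroup.subset_closure ⟨a, ha, rfl⟩)) _ (hBA (Subgroup.subset_closure ⟨c, hc, rfl⟩))
    rintro _ ⟨u, hu, rfl⟩
    exact (inferInstance : Q.Normal).conj_mem u hu.2 x
  set S' := Group.conjugatesOfSet ((fun a : X => a ^ 2) '' (A : Set X)) with hS'
  have hpair : ∀ u ∈ S', ∀ v ∈ S', u * v = v * u := by
    intro u hu v hv
    obtain ⟨_, ⟨a, ha, rfl⟩, hau⟩ := Group.mem_conjugatesOfSet_iff.1 hu
    obtain ⟨_, ⟨c, hc, rfl⟩, hcv⟩ := Group.mem_conjugatesOfSet_iff.1 hv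
    obtain ⟨g, rfl⟩ := isConj_iff.1 hau
    obtain ⟨h, rfl⟩ := isConj_iff.1 hcv
    have := key (g⁻¹ * h) a ha c hc
    calc g * a ^ 2 * g⁻¹ * (h * c ^ 2 * h⁻¹)
        = g * (a ^ 2 * (g⁻¹ * h * c ^ 2 * (g⁻¹ * h)⁻¹)) * g⁻¹ := by group
      _ = g * (g⁻¹ * h * c ^ 2 * (g⁻¹ * h)⁻¹ * a ^ 2) * g⁻¹ := by rw [this]
      _ = h * c ^ 2 * h⁻¹ * (g * a ^ 2 * g⁻¹) := by group
  exact Subgroup.isMulCommutative_closure hpair

end Cfsg.Agent.S1783
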