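import Cfsg.Statements.S1784
import Cfsg.Agent.CharPLocal.Two
import Cfsg.Agent.Classification.GFSNormal
import Cfsg.Agent.ExtraspecialBasic.DoubleCentralizer

set_option autoImplicit false
open Cfsg

namespace Cfsg.Agent.S1784

open Subgroup CfsgLib.CharPLocal
open scoped commutatorElement

/-- Let G be a finite group and let z be an involution of G such that Q, the generalized Fitting subgroup of the centralizer C of z, is a 2-group of symplectic type (every characteristic abelian subgroup of Q is cyclic); suppose Q is extraspecial, and view Q inside G. Let α be an involution of C that is not in Q, and let Q₀ be the subgroup of those q ∈ Q whose commutator with α lies in the subgroup generated by z. Then (a) the subgroup generated by the commutators α q α⁻¹ q⁻¹, q ∈ Q, equals the centre of Q₀; and (b) if Q₀ is not contained in the product of the centralizer of α in Q with the subgroup generated by z, then some element of Q conjugates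 α to α z. -/
theorem result {G : Type*} [Group G] [Finite G] (z : G) (hz : orderOf z = 2) (hQ : Cfsg.IsOfSymplecticType ↥(Cfsg.generalizedFittingSubgroup ↥(Subgroup.centralizer ({z} : Set G)))) (hE : Cfsg.IsExtraspecial 2 ↥(Cfsg.generalizedFittingSubgroup ↥(Subgroup.centralizer ({z} : Set G))))
    (α : G) (hα : orderOf α = 2) (hαC : α ∈ Subgroup.centralizer ({z} : Set G)) (hαQ : α ∉ (Cfsg.generalizedFittingSubgroup ↥(Subgroup.centralizer ({z} : Set G))).map (Subgroup.centralizer ({z} : Set G)).subtype)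
    (Q₀ : Subgroup G) (hQ₀ : ∀ q : G, q ∈ Q₀ ↔ (q ∈ (Cfsg.generalizedFittingSubgroup ↥(Subgroup.centralizer ({z} : Set G))).map (Subgroup.centralizer ({z} : Set G)).subtype ∧ α * q * α⁻¹ * q⁻¹ ∈ Subgroup.zpowers z)) :
    Subgroup.closure ((fun q : G => α * q * α⁻¹ * q⁻¹) '' ((Cfsg.generalizedFittingSubgroup ↥(Subgroup.centralizer ({z} : Set G))).map (Subgroup.centralizer ({z} : Set G)).subtype : Set G)) = (Subgroup.center ↥Q₀).map Q₀.subtype ∧
      (¬ Q₀ ≤ ((Cfsg.generalizedFittingSubgroup ↥(Subgroup.centralizer ({z} : Set G))).map (Subgroup.centralizer ({z} : Set G)).subtype ⊓ Subgroup.centralizer ({α} : Set G)) ⊔ Subgroup.zpowers z →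
        ∃ q ∈ (Cfsg.generalizedFittingSubgroup ↥(Subgroup.centralizer ({z} : Set G))).map (Subgroup.centralizer ({z} : Set G)).subtype, q * α * q⁻¹ = α * z) := by
  have : Fact (Nat.Prime 2) := ⟨Nat.prime_two⟩
  set C := Subgroup.centralizer ({z} : Set G) with hCdef
  set Q := Cfsg.generalizedFittingSubgroup ↥C with hQdef
  set j : ↥Q →* G := C.subtype.comp Q.subtype with hjdef
  have hjinj : Function.Injective j := C.subtype_injective.comp Q.subtype_injective
  have hjr : j.range = Q.map C.subtype := by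
    rw [hjdef, MonoidHom.range_comp, Subgroup.range_subtype]
  set P := Q.map C.subtype with hPdef
  -- `Q = O_2(C)`, so `C_C(Q) ≤ Q`
  have hQ2 : Cfsg.generalizedFittingSubgroup ↥C = pCore 2 ↥C := by
    have : Q.Normal := CfsgLib.Classification.gfs_normal ↥C
    refine le_antisymm (CfsgLib.PLocal.le_pCore hQ.1) ?_
    have hF : pCore 2 ↥C ≤ fittingSubgroup ↥C :=
      le_sSup ⟨inferInstance, (CfsgLib.PLocal.isPGroup_pCore 2 ↥C).isNilpotent⟩
    exact hF.trans le_sup_right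
  have hCC : ∀ x : G, x ∈ C → (∀ q ∈ P, x * q = q * x) → x ∈ P := by
    intro x hx hcom
    have h1 : (⟨x, hx⟩ : ↥C) ∈ centralizer (pCore 2 ↥C : Set ↥C) := by
      rw [mem_centralizer_iff]
      intro q hq
      exact Subtype.ext (hcom q ⟨q, hQ2.ge hq, rfl⟩).symm
    exact ⟨⟨x, hx⟩, hQ2.ge (centralizer_pCore_le_of_generalizedFitting_eq hQ2 h1), rfl⟩
  have hPC : P ≤ C := map_subtype_le _
  have hzC : z ∈ C := mem_centralizer_singleton_iff.2 rfl
  have hzc : ∀ x ∈ C, x * z = z * x := fun x hx => mem_centralizer_singleton_iff.1 hx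
  have hzP : z ∈ P := hCC z hzC fun q hq => (hzc q (hPC hq)).symm
  have hz1 : z ≠ 1 := fun h => by simp [h] at hz
  obtain ⟨zz, hzz⟩ : ∃ zz : ↥Q, j zz = z := by
    rw [← hjr] at hzP; exact hzP
  have hzzc : zz ∈ center ↥Q := mem_center_iff.2 fun q => hjinj (by
    rw [map_mul, map_mul, hzz]; exact hzc _ (hPC (hjr.le ⟨q, rfl⟩)))
  have hzz1 : zz ≠ 1 := fun h => hz1 (by rw [← hzz, h, map_one])
  have hcen : ∀ w : ↥Q, w ∈ center ↥Q → j w ∈ zpowers z := by
    intro w hw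
    obtain ⟨i, hi⟩ := mem_zpowers_iff.1 (mem_zpowers_of_prime_card (g := (⟨zz, hzzc⟩ : center ↥Q))
      (g' := (⟨w, hw⟩ : center ↥Q)) hE.2 (fun h => hzz1 (congrArg Subtype.val h)))
    refine mem_zpowers_iff.2 ⟨i, ?_⟩
    rw [← hzz, ← map_zpow]
    exact congrArg j (congrArg Subtype.val hi)
  have hZP : zpowers z ≤ P := zpowers_le.2 hzP
  have hzcZ : ∀ u ∈ zpowers z, ∀ x ∈ C, x * u = u * x := by
    intro u hu x hx
    obtain ⟨i, rfl⟩ := mem_zpowers_iff.1 hu
    exact (Commute.zpow_right (hzc x hx) i).eq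
  have hcomm : ∀ x ∈ P, ∀ y ∈ P, ⁅x, y⁆ ∈ zpowers z := by
    intro x hx y hy
    rw [← hjr] at hx hy
    obtain ⟨a, rfl⟩ := hx
    obtain ⟨b, rfl⟩ := hy
    rw [← map_commutatorElement]
    exact hcen _ (CfsgLib.ExtraspecialBasic.commutator_mem_center hE a b)
  have hsq : ∀ x ∈ P, x ^ 2 ∈ zpowers z := by
    intro x hx
    rw [← hjr] at hx
    obtain ⟨a, rfl⟩ := hx
    rw [← map_pow]
    exact hcen _ (CfsgLib.ExtraspecialBasic.pow_mem_center hE a)
  have hnd : ∀ x ∈ P, (∀ y ∈ P, x * y = y * x) → x ∈ zpowers z := by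
    intro x hx h
    rw [← hjr] at hx
    obtain ⟨a, rfl⟩ := hx
    refine hcen a (mem_center_iff.2 fun b => hjinj ?_)
    rw [map_mul, map_mul]
    exact (h _ (hjr.le ⟨b, rfl⟩)).symm
  have hαP : ∀ x ∈ P, α * x * α⁻¹ ∈ P := by
    have hn : Q.Normal := CfsgLib.Classification.gfs_normal ↥C
    rintro _ ⟨q, hq, rfl⟩
    exact ⟨⟨α, hαC⟩ * q * (⟨α, hαC⟩)⁻¹, hn.conj_mem q hq _, rfl⟩
  have hαinv : α⁻¹ = α := by
    have := pow_orderOf_eq_one α
    rw [hα, pow_two] at this
    exact inv_eq_of_mul_eq_one_right this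
  have hαz : α * z * α⁻¹ = z := mul_inv_eq_of_eq_mul (hzc α hαC)
  set c : G → G := fun q => α * q * α⁻¹ * q⁻¹ with hcdef
  set K := Subgroup.closure (c '' (P : Set G)) with hKdef
  have hcP : ∀ q ∈ P, c q ∈ P := fun q hq => mul_mem (hαP q hq) (inv_mem hq)
  have hcK : ∀ q ∈ P, c q ∈ K := fun q hq => subset_closure ⟨q, hq, rfl⟩
  have hKP : K ≤ P := (closure_le _).2 (Set.image_subset_iff.2 fun q hq => hcP q hq)
  -- conjugation by `α` fixes commutators
  have hαcomm : ∀ x ∈ P, ∀ y ∈ P, ⁅α * x * α⁻¹, α * y * α⁻¹⁆ = ⁅x, y⁆ := by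
    intro x hx y hy
    have hmem : ⁅x, y⁆ ∈ C := hPC (hZP (hcomm x hx y hy))
    have h1 := hzcZ _ (hcomm x hx y hy) α hαC
    calc ⁅α * x * α⁻¹, α * y * α⁻¹⁆ = α * ⁅x, y⁆ * α⁻¹ := by
          simp only [commutatorElement_def]; group
      _ = ⁅x, y⁆ := mul_inv_eq_of_eq_mul h1
  have hQ₀P : Q₀ ≤ P := fun q hq => ((hQ₀ q).1 hq).1
  -- `c q` commutes with `r` iff `[α q α⁻¹, r] = [q, r]`
  have hiff : ∀ q ∈ P, ∀ r ∈ P, (c q * r = r * c q ↔ ⁅α * q * α⁻¹, r⁆ = ⁅q, r⁆) := by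
    intro q hq r hr
    have hs : ∀ u ∈ zpowers z, c q * u = u * c q := fun u hu => hzcZ u hu _ (hPC (hcP q hq))
    have e1 : α * q * α⁻¹ = c q * q := by simp [hcdef]
    have e2 : ⁅c q * q, r⁆ = c q * ⁅q, r⁆ * (r * (c q)⁻¹ * r⁻¹) := by
      simp only [commutatorElement_def]; group
    have key : ⁅α * q * α⁻¹, r⁆ = ⁅q, r⁆ * ⁅c q, r⁆ := by
      rw [e1, e2, hs _ (hcomm q hq r hr), commutatorElement_def (c q)]
      group
    rw [key, mul_eq_left, commutatorElement_eq_one_iff_mul_comm]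
  -- `K` commutes with `Q₀`
  have hKQ₀c : ∀ r ∈ Q₀, ∀ k ∈ K, r * k = k * r := by
    intro r hr k hk
    refine (mem_centralizer_singleton_iff.1 ((closure_le (centralizer ({r} : Set G))).2 ?_ hk)).symm
    rintro _ ⟨q, hq, rfl⟩
    rw [SetLike.mem_coe, mem_centralizer_singleton_iff]
    obtain ⟨hrP, hrz⟩ := (hQ₀ r).1 hr
    refine (hiff q hq r hrP).2 ?_
    set u := α * r * α⁻¹ * r⁻¹ with hu
    have e1 : α * r * α⁻¹ = u * r := by rw [hu]; group
    have e2 := hαcomm q hq r hrP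
    rw [e1] at e2
    rw [← e2]
    have e3 : ∀ x ∈ C, ⁅x, u * r⁆ = ⁅x, r⁆ := by
      intro x hx
      have h1 := hzcZ u hrz x hx
      have h2 := hzcZ u hrz _ (mul_mem (mul_mem hx (hPC hrP)) (inv_mem hx))
      calc ⁅x, u * r⁆ = x * u * x⁻¹ * (x * r * x⁻¹) * (r⁻¹ * u⁻¹) := by
            simp only [commutatorElement_def]; group
        _ = u * (x * r * x⁻¹) * (r⁻¹ * u⁻¹) := by rw [h1]; group
        _ = x * r * x⁻¹ * u * (r⁻¹ * u⁻¹) := by rw [h2]
        _ = x * r * x⁻¹ * (r⁻¹ * u⁻¹ * u) := by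
            have h3 := hzcZ u hrz _ (inv_mem (hPC hrP))
            rw [mul_assoc _ u, ← mul_assoc u, ← h3]; group
        _ = ⁅x, r⁆ := by simp only [commutatorElement_def]; group
    exact (e3 _ (hPC (hαP q hq))).symm
  -- `C_P(K) ≤ Q₀`
  have hCK : ∀ r ∈ P, (∀ k ∈ K, r * k = k * r) → r ∈ Q₀ := by
    intro r hr h
    refine (hQ₀ r).2 ⟨hr, hnd _ (hcP r hr) fun q hq => ?_⟩
    refine (hiff r hr q hq).2 ?_
    have h1 : ⁅α * q * α⁻¹, r⁆ = ⁅q, r⁆ := (hiff q hq r hr).1 (h _ (hcK q hq)).symm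
    have h2 := hαcomm q hq (α * r * α⁻¹) (hαP r hr)
    have h3 : α * (α * r * α⁻¹) * α⁻¹ = r := by
      calc α * (α * r * α⁻¹) * α⁻¹ = α⁻¹ * (α * r * α⁻¹) * α := by rw [hαinv]
        _ = r := by group
    rw [h3, h1] at h2
    rw [← commutatorElement_inv q (α * r * α⁻¹), ← h2, commutatorElement_inv]
  have hKQ₀ : K ≤ Q₀ := by
    refine (closure_le _).2 ?_
    rintro _ ⟨q, hq, rfl⟩
    refine (hQ₀ _).2 ⟨hcP q hq, ?_⟩
    have e : α * c q * α⁻¹ = (c q)⁻¹ := by
      calc α * c q * α⁻¹ = α * α * q * α⁻¹ * q⁻¹ * α⁻¹ := by simp only [hcdef]; group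
        _ = q * α * q⁻¹ * α⁻¹ := by
            rw [show α * α = 1 from by simpa [hαinv] using mul_inv_cancel α, hαinv, one_mul]
        _ = (c q)⁻¹ := by simp only [hcdef]; group
    rw [e, ← mul_inv_rev, ← pow_two]
    exact inv_mem (hsq _ (hcP q hq))
  -- `z ∈ K`
  have hzmem : ∀ u ∈ zpowers z, u ≠ 1 → u = z := by
    intro u hu h1
    obtain ⟨n, hn, rfl⟩ : ∃ n < 2, z ^ n = u := by
      obtain ⟨n, hn⟩ := (orderOf_pos_iff.1 (by omega : 0 < orderOf z)).mem_powers_iff_mem_zpowers.2 hu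
      exact ⟨n % 2, Nat.mod_lt _ two_pos, by rw [← hz, pow_mod_orderOf]; exact hn⟩
    interval_cases n <;> simp at h1 ⊢
  have hzK : z ∈ K := by
    by_cases hall : K ≤ zpowers z
    · obtain ⟨q, hq, hq1⟩ : ∃ q ∈ P, c q ≠ 1 := by
        by_contra h
        push Not at h
        refine hαQ (hCC α hαC fun q hq => ?_)
        have := h q hq
        rw [hcdef] at this
        simp only [mul_inv_eq_one] at this
        exact mul_inv_eq_iff_eq_mul.1 this
      exact hzmem _ (hall (hcK q hq)) hq1 ▸ hcK q hq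
    · obtain ⟨w, hw, hwz⟩ := SetLike.not_le_iff_exists.1 hall
      obtain ⟨y, hy, hyw⟩ : ∃ y ∈ P, w * y ≠ y * w := by
        by_contra h
        push Not at h
        exact hwz (hnd w (hKP hw) h)
      have hnorm : y * w * y⁻¹ ∈ K := by
        have hle : K.map (MulAut.conj y).toMonoidHom ≤ K := by
          rw [hKdef, MonoidHom.map_closure, closure_le]
          rintro _ ⟨_, ⟨q, hq, rfl⟩, rfl⟩
          have e : y * c q * y⁻¹ = (c y)⁻¹ * c (y * q) := by simp only [hcdef]; group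
          show y * c q * y⁻¹ ∈ K
          rw [e]
          exact mul_mem (inv_mem (hcK y hy)) (hcK _ (mul_mem hy hq))
        exact hle ⟨w, hw, rfl⟩
      have hcw : ⁅y, w⁆ = z := hzmem _ (hcomm y hy w (hKP hw)) fun h =>
        hyw ((commutatorElement_eq_one_iff_mul_comm.1 h).symm)
      rw [← hcw, commutatorElement_def]
      exact mul_mem hnorm (inv_mem hw)
  refine ⟨le_antisymm (fun k hk => ?_) ?_, ?_⟩
  · exact ⟨⟨k, hKQ₀ hk⟩, mem_center_iff.2 fun r => Subtype.ext (hKQ₀c r r.2 k hk), rfl⟩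
  · rintro _ ⟨⟨x, hx⟩, hxc, rfl⟩
    obtain ⟨a, ha⟩ : x ∈ j.range := hjr.ge (hQ₀P hx)
    have hZK : center ↥Q ≤ K.comap j := fun w hw =>
      (zpowers_le.2 hzK : zpowers z ≤ K) (hcen w hw)
    have h := (CfsgLib.ExtraspecialBasic.centralizer_centralizer hE hZK).le (show a ∈ centralizer
      ((centralizer ((K.comap j : Subgroup ↥Q) : Set ↥Q) : Subgroup ↥Q) : Set ↥Q) from ?_)
    · show x ∈ K
      rw [← ha]; exact h
    rw [mem_centralizer_iff]
    intro b hb
    apply hjinj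
    rw [map_mul, map_mul, ha]
    have hbQ₀ : j b ∈ Q₀ := hCK _ (hjr.le ⟨b, rfl⟩) fun k hk => by
      obtain ⟨k', rfl⟩ : k ∈ j.range := hjr.ge (hKP hk)
      rw [← map_mul, ← map_mul, (mem_centralizer_iff.1 hb k' hk).symm]
    exact congrArg Subtype.val (mem_center_iff.1 hxc ⟨j b, hbQ₀⟩)
  · intro hnle
    obtain ⟨q, hq, hqn⟩ := SetLike.not_le_iff_exists.1 hnle
    obtain ⟨hqP, hqz⟩ := (hQ₀ q).1 hq
    refine ⟨q, hqP, ?_⟩
    have hne : c q ≠ 1 := by
      intro h
      refine hqn (mem_sup_left ⟨hqP, mem_centralizer_singleton_iff.2 ?_⟩)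
      simp only [hcdef, mul_inv_eq_one] at h
      exact (mul_inv_eq_iff_eq_mul.1 h).symm
    have h := hzmem _ hqz hne
    calc q * α * q⁻¹ = α * (α * q * α⁻¹ * q⁻¹) := by
          rw [← mul_assoc, ← mul_assoc, ← mul_assoc,
            show α * α = 1 from by simpa [hαinv] using mul_inv_cancel α, hαinv, one_mul]
      _ = α * z := by rw [h]

end Cfsg.Agent.S1784
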