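import Cfsg.Statements.S1785
import Mathlib.Algebra.Group.Pointwise.Set.Card

set_option autoImplicit false
open Cfsg

namespace Cfsg.Agent.S1785

open Subgroup
open scoped Pointwise

variable {X : Type*} [Group X] [Finite X]

omit [Finite X] in
theorem comm_of_elementary {A : Subgroup X} (hA : Cfsg.IsElementaryAbelian 2 A) {B' : Subgroup X} {a b : X}
    (ha : a ∈ A) (hb : b ∈ B') (hB : B' = A) : a * b = b * a := by
  subst hB
  exact congrArg Subtype.val (hA.1.is_comm.comm ⟨a, ha⟩ ⟨b, hb⟩)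

omit [Finite X] in
theorem elementary_mono {A B : Subgroup X} (hA : Cfsg.IsElementaryAbelian 2 A) (hBA : B ≤ A) :
    Cfsg.IsElementaryAbelian 2 B :=
  ⟨⟨⟨fun a b => Subtype.ext (comm_of_elementary hA (hBA a.2) (hBA b.2) rfl)⟩⟩,
    fun b hb => hA.2 b (hBA hb)⟩

omit [Finite X] in
theorem inv_eq_of_sq {a : X} (h : a ^ 2 = 1) : a⁻¹ = a := by
  rw [pow_two] at h
  exact inv_eq_of_mul_eq_one_right h

/-- An involution fixes at least the square root of an elementary abelian group it normalizes. -/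
theorem card_le_sq_card_inf_centralizer {S : Subgroup X} (hS : Cfsg.IsElementaryAbelian 2 S)
    {a : X} (ha : a ^ 2 = 1) (hnorm : ∀ s ∈ S, a * s * a⁻¹ ∈ S) :
    Nat.card S ≤ Nat.card (S ⊓ centralizer ({a} : Set X) : Subgroup X) ^ 2 := by
  have hainv := inv_eq_of_sq ha
  let d : ↥S →* ↥S := MonoidHom.mk'
    (fun s => ⟨a * s * a⁻¹ * s, mul_mem (hnorm s s.2) s.2⟩) fun s t => Subtype.ext (by
      show a * ((s : X) * t) * a⁻¹ * ((s : X) * t) = a * s * a⁻¹ * s * (a * t * a⁻¹ * t)
      have h := comm_of_elementary hS (hnorm t t.2) s.2 rfl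
      calc a * ((s : X) * t) * a⁻¹ * ((s : X) * t)
          = a * s * a⁻¹ * ((a * t * a⁻¹) * s) * t := by group
        _ = a * s * a⁻¹ * ((s : X) * (a * t * a⁻¹)) * t := by rw [h]
        _ = _ := by group)
  have hker : Nat.card d.ker ≤ Nat.card (S ⊓ centralizer ({a} : Set X) : Subgroup X) := by
    refine Nat.card_le_card_of_injective (fun s => ⟨s.1.1, mem_inf.2 ⟨s.1.2, ?_⟩⟩)
      fun s t h => Subtype.ext (Subtype.ext (congrArg Subtype.val h :))
    rw [mem_centralizer_singleton_iff]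
    have h : a * s.1.1 * a⁻¹ * s.1.1 = 1 := congrArg Subtype.val (MonoidHom.mem_ker.1 s.2)
    have h' := mul_eq_one_iff_eq_inv.1 h
    rw [inv_eq_of_sq (hS.2 _ s.1.2), mul_inv_eq_iff_eq_mul] at h'
    exact h'.symm
  have hran : Nat.card d.range ≤ Nat.card (S ⊓ centralizer ({a} : Set X) : Subgroup X) := by
    refine card_le_of_le (show d.range.map S.subtype ≤ S ⊓ centralizer ({a} : Set X) from ?_)
      |>.trans' (card_map_of_injective S.subtype_injective).ge
    rintro _ ⟨_, ⟨s, rfl⟩, rfl⟩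
    refine mem_inf.2 ⟨(d s).2, mem_centralizer_singleton_iff.2 ?_⟩
    show a * s * a⁻¹ * s * a = a * (a * s * a⁻¹ * s)
    rw [hainv]
    calc a * (s : X) * a * s * a = a * s * (a * s * a⁻¹) := by rw [hainv]; group
      _ = a * ((a * s * a⁻¹) * s) := by
        rw [mul_assoc, comm_of_elementary hS s.2 (hnorm s s.2) rfl]
      _ = a * (a * s * a * s) := by rw [hainv]
  have h := d.ker.card_mul_index
  rw [index_ker] at h
  rw [← h, pow_two]
  exact Nat.mul_le_mul hker hran

/-- If `C_E(A) ≤ A` then `|E|^|A ∩ E| ≤ |A ∩ E|^|A|`. -/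
theorem card_pow_le {E A : Subgroup X} [E.Normal] (hE : Cfsg.IsElementaryAbelian 2 E)
    (hA : Cfsg.IsElementaryAbelian 2 A) (hCA : E ⊓ centralizer (A : Set X) ≤ A) :
    Nat.card E ^ Nat.card (A ⊓ E : Subgroup X) ≤
      Nat.card (A ⊓ E : Subgroup X) ^ Nat.card A := by
  set f := Nat.card (A ⊓ E : Subgroup X) with hf
  suffices key : ∀ n (W : Subgroup X), A ⊓ E ≤ W → W ≤ A → Nat.card A - Nat.card W = n →
      Nat.card E ^ f ≤ Nat.card (E ⊓ centralizer (W : Set X) : Subgroup X) ^ Nat.card W →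
      Nat.card E ^ f ≤ Nat.card (E ⊓ centralizer (A : Set X) : Subgroup X) ^ Nat.card A by
    refine (key _ (A ⊓ E) le_rfl inf_le_left rfl ?_).trans
      (Nat.pow_le_pow_left (card_le_of_le (le_inf hCA inf_le_left)) _)
    refine Nat.pow_le_pow_left (card_le_of_le (le_inf le_rfl fun e he => ?_)) _
    exact mem_centralizer_iff.2 fun w hw => comm_of_elementary hE (mem_inf.1 hw).2 he rfl
  intro n
  induction n using Nat.strong_induction_on with
  | _ n ih =>
    intro W hFW hWA hn hW
    rcases hWA.eq_or_lt with rfl | hlt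
    · exact hW
    obtain ⟨a, haA, haW⟩ := SetLike.exists_of_lt hlt
    set W' := W ⊔ zpowers a with hW'
    have hW'A : W' ≤ A := sup_le hWA (zpowers_le.2 haA)
    have hWW' : W < W' := lt_of_le_of_ne le_sup_left fun h =>
      haW (h.symm ▸ mem_sup_right (mem_zpowers a))
    have h2 : 2 * Nat.card W ≤ Nat.card W' := by
      obtain ⟨m, hm⟩ := card_dvd_of_le hWW'.le
      have hpos : 0 < Nat.card W' := Nat.card_pos
      have hm0 : m ≠ 0 := fun h => by rw [h, mul_zero] at hm; omega
      have hm1 : m ≠ 1 := fun h => hWW'.ne (eq_of_le_of_card_ge hWW'.le (by rw [hm, h, mul_one]))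
      rw [hm, mul_comm 2]
      exact Nat.mul_le_mul_left _ (by omega)
    have hnorm : ∀ s ∈ E ⊓ centralizer (W : Set X),
        a * s * a⁻¹ ∈ E ⊓ centralizer (W : Set X) := by
      intro s hs
      obtain ⟨hsE, hsW⟩ := mem_inf.1 hs
      refine mem_inf.2 ⟨Subgroup.Normal.conj_mem ‹_› s hsE a, mem_centralizer_iff.2 fun w hw => ?_⟩
      have h1 : w * a = a * w := comm_of_elementary hA (hWA hw) haA rfl
      have h2 : w * s = s * w := mem_centralizer_iff.1 hsW w hw
      calc w * (a * s * a⁻¹) = w * a * s * a⁻¹ := by group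
        _ = a * w * s * a⁻¹ := by rw [h1]
        _ = a * (w * s) * a⁻¹ := by group
        _ = a * (s * w) * a⁻¹ := by rw [h2]
        _ = a * s * (a⁻¹ * (a * w)) * a⁻¹ := by group
        _ = a * s * (a⁻¹ * (w * a)) * a⁻¹ := by rw [h1]
        _ = a * s * a⁻¹ * w := by group
    have hsq := card_le_sq_card_inf_centralizer
      (elementary_mono hE (inf_le_left (b := centralizer (W : Set X)))) (hA.2 a haA) hnorm
    have hle : (E ⊓ centralizer (W : Set X)) ⊓ centralizer ({a} : Set X) ≤
        E ⊓ centralizer (W' : Set X) := by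
      intro s hs
      obtain ⟨hs1, hsa⟩ := mem_inf.1 hs
      obtain ⟨hsE, hsW⟩ := mem_inf.1 hs1
      refine mem_inf.2 ⟨hsE, mem_centralizer_iff.2 fun w hw => ?_⟩
      have hle : W' ≤ centralizer ({s} : Set X) := sup_le
        (fun v hv => mem_centralizer_singleton_iff.2 (mem_centralizer_iff.1 hsW v hv))
        (zpowers_le.2 (mem_centralizer_singleton_iff.2 (mem_centralizer_singleton_iff.1 hsa).symm))
      exact mem_centralizer_singleton_iff.1 (hle hw)
    refine ih _ ?_ W' (hFW.trans hWW'.le) hW'A rfl ?_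
    · have := card_le_of_le hW'A
      have h3 : 0 < Nat.card W := Nat.card_pos
      omega
    · have hpos : 1 ≤ Nat.card (E ⊓ centralizer (W' : Set X) : Subgroup X) := Nat.card_pos
      calc Nat.card E ^ f ≤ _ := hW
        _ ≤ (Nat.card (E ⊓ centralizer (W' : Set X) : Subgroup X) ^ 2) ^ Nat.card W :=
          Nat.pow_le_pow_left (hsq.trans (Nat.pow_le_pow_left (card_le_of_le hle) _)) _
        _ = Nat.card (E ⊓ centralizer (W' : Set X) : Subgroup X) ^ (2 * Nat.card W) :=
          (pow_mul _ _ _).symm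
        _ ≤ _ := Nat.pow_le_pow_right hpos h2

/-- An elementary abelian subgroup of order at most 8 not inside `E` can be shifted towards `E`. -/
theorem exists_mem_centralizer {E A : Subgroup X} [E.Normal] (hE : Cfsg.IsElementaryAbelian 2 E)
    (hE32 : 32 ≤ Nat.card E) (hA : Cfsg.IsElementaryAbelian 2 A) (hA8 : Nat.card A ∣ 8)
    (hne : Nat.card A = 4 ∨ ¬ A ≤ E) :
    ∃ e ∈ E, e ∈ centralizer (A : Set X) ∧ e ∉ A := by
  by_contra hcon
  push Not at hcon
  have h := card_pow_le hE hA fun e he => hcon e (mem_inf.1 he).1 (mem_inf.1 he).2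
  have h32 := (Nat.pow_le_pow_left hE32 (Nat.card (A ⊓ E : Subgroup X))).trans h
  have hdvd : Nat.card (A ⊓ E : Subgroup X) ∣ 8 := (card_dvd_of_le inf_le_left).trans hA8
  have hA8' : Nat.card A ≤ 8 := Nat.le_of_dvd (by norm_num) hA8
  rcases hne with h4 | hnot
  · rw [h4] at h32
    have h1 : Nat.card (A ⊓ E : Subgroup X) ≤ 4 := h4 ▸ card_le_of_le inf_le_left
    have h0 : 0 < Nat.card (A ⊓ E : Subgroup X) := Nat.card_pos
    interval_cases h5 : Nat.card (A ⊓ E : Subgroup X) <;> norm_num at h32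
  · have h1 : Nat.card (A ⊓ E : Subgroup X) ≠ Nat.card A := fun h =>
      hnot ((eq_of_le_of_card_ge inf_le_left h.ge).ge.trans inf_le_right)
    have h2 : Nat.card (A ⊓ E : Subgroup X) ∣ Nat.card A := card_dvd_of_le inf_le_left
    have h0 : 0 < Nat.card (A ⊓ E : Subgroup X) := Nat.card_pos
    have h3 : Nat.card (A ⊓ E : Subgroup X) ≤ Nat.card A := card_le_of_le inf_le_left
    have hA0 : 0 < Nat.card A := Nat.card_pos
    interval_cases h6 : Nat.card A <;>
      interval_cases h5 : Nat.card (A ⊓ E : Subgroup X) <;> norm_num at *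

omit [Finite X] in
/-- Adjoining a central involution. -/
theorem elementary_sup_zpowers {A : Subgroup X} (hA : Cfsg.IsElementaryAbelian 2 A) {e : X}
    (he : e ∈ centralizer (A : Set X)) (he2 : e ^ 2 = 1) :
    Cfsg.IsElementaryAbelian 2 (A ⊔ zpowers e) ∧ Nat.card (A ⊔ zpowers e : Subgroup X) ≤ Nat.card A * 2 := by
  have hn : zpowers e ≤ normalizer (A : Set X) :=
    zpowers_le.2 (centralizer_le_normalizer _ he)
  have hmem : ∀ x ∈ A ⊔ zpowers e, ∃ a ∈ A, ∃ u ∈ zpowers e, x = a * u := by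
    intro x hx
    rw [← SetLike.mem_coe, coe_mul_of_right_le_normalizer_left A (zpowers e) hn] at hx
    obtain ⟨a, ha, u, hu, rfl⟩ := hx
    exact ⟨a, ha, u, hu, rfl⟩
  have hu2 : ∀ u ∈ zpowers e, u ^ 2 = 1 := by
    intro u hu
    obtain ⟨i, rfl⟩ := mem_zpowers_iff.1 hu
    rw [← zpow_natCast, ← zpow_mul, mul_comm, zpow_mul, zpow_natCast, he2, one_zpow]
  have hau : ∀ a ∈ A, ∀ u ∈ zpowers e, u * a = a * u := by
    intro a ha u hu
    obtain ⟨i, rfl⟩ := mem_zpowers_iff.1 hu
    exact ((show Commute a e from mem_centralizer_iff.1 he a ha).zpow_right i).eq.symm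
  refine ⟨⟨⟨⟨fun x y => ?_⟩⟩, fun x hx => ?_⟩, ?_⟩
  · obtain ⟨a, ha, u, hu, hx⟩ := hmem x x.2
    obtain ⟨b, hb, v, hv, hy⟩ := hmem y y.2
    apply Subtype.ext
    show (x : X) * y = y * x
    rw [hx, hy]
    have huv : u * v = v * u := by
      obtain ⟨i, rfl⟩ := mem_zpowers_iff.1 hu
      obtain ⟨j, rfl⟩ := mem_zpowers_iff.1 hv
      exact (Commute.zpow_zpow_self e i j).eq
    calc a * u * (b * v) = a * (u * b) * v := by group
      _ = (a * b) * (u * v) := by rw [hau b hb u hu]; group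
      _ = (b * a) * (v * u) := by rw [huv, comm_of_elementary hA ha hb rfl]
      _ = b * (a * v) * u := by group
      _ = b * (v * a) * u := by rw [hau a ha v hv]
      _ = b * v * (a * u) := by group
  · obtain ⟨a, ha, u, hu, rfl⟩ := hmem x hx
    rw [(show Commute a u from (hau a ha u hu).symm).mul_pow, hA.2 a ha, hu2 u hu, one_mul]
  · show Nat.card ↑((A ⊔ zpowers e : Subgroup X) : Set X) ≤ _
    rw [coe_mul_of_right_le_normalizer_left A (zpowers e) hn]
    refine le_trans Set.natCard_mul_le ?_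
    exact Nat.mul_le_mul_left _ ((Nat.card_zpowers e).trans_le
      (Nat.le_of_dvd two_pos (orderOf_dvd_of_pow_eq_one he2)))

/-- Let X be a finite 2-group having a normal elementary abelian subgroup of order at least 32. Then (a) for any two elementary abelian subgroups A, B of X of order 8 there is a chain A = A₁, A₂, …, Aₙ = B of elementary abelian subgroups of order 8 in which consecutive members commute elementwise; and (b) every elementary abelian subgroup of X of order 4 is contained in an elementary abelian subgroup of order 8. -/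
theorem result {X : Type*} [Group X] [Finite X]
    (hX : IsPGroup 2 X) (E : Subgroup X) [E.Normal] (hE : Cfsg.IsElementaryAbelian 2 E) (hE32 : 32 ≤ Nat.card ↥E) :
    (∀ A B : Subgroup X, Cfsg.IsElementaryAbelian 2 A → Nat.card ↥A = 8 → Cfsg.IsElementaryAbelian 2 B → Nat.card ↥B = 8 →
        Relation.ReflTransGen
          (fun C D : Subgroup X => Cfsg.IsElementaryAbelian 2 C ∧ Nat.card ↥C = 8 ∧ Cfsg.IsElementaryAbelian 2 D ∧ Nat.card ↥D = 8 ∧ ⁅C, D⁆ = ⊥)
          A B) ∧
      (∀ V : Subgroup X, Cfsg.IsElementaryAbelian 2 V → Nat.card ↥V = 4 →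
        ∃ A : Subgroup X, V ≤ A ∧ Cfsg.IsElementaryAbelian 2 A ∧ Nat.card ↥A = 8) := by
  have : Fact (Nat.Prime 2) := ⟨Nat.prime_two⟩
  set R : Subgroup X → Subgroup X → Prop := fun C D =>
    Cfsg.IsElementaryAbelian 2 C ∧ Nat.card ↥C = 8 ∧ Cfsg.IsElementaryAbelian 2 D ∧
      Nat.card ↥D = 8 ∧ ⁅C, D⁆ = ⊥ with hR
  have hsymm : ∀ C D, Relation.ReflTransGen R C D → Relation.ReflTransGen R D C := by
    intro C D h
    induction h with
    | refl => exact Relation.ReflTransGen.refl
    | tail _ hbc ih =>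
      obtain ⟨h1, h2, h3, h4, h5⟩ := hbc
      exact Relation.ReflTransGen.head ⟨h3, h4, h1, h2, by rw [commutator_comm]; exact h5⟩ ih
  have hbot : ∀ {M C D : Subgroup X}, Cfsg.IsElementaryAbelian 2 M → C ≤ M → D ≤ M →
      ⁅C, D⁆ = ⊥ := by
    intro M C D hM hC hD
    rw [commutator_eq_bot_iff_le_centralizer]
    exact fun c hc => mem_centralizer_iff.2 fun d hd => comm_of_elementary hM (hD hd) (hC hc) rfl
  constructor
  · have reach : ∀ n (A : Subgroup X), Cfsg.IsElementaryAbelian 2 A → Nat.card ↥A = 8 →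
        8 - Nat.card (A ⊓ E : Subgroup X) = n →
        ∃ B ≤ E, Cfsg.IsElementaryAbelian 2 B ∧ Nat.card ↥B = 8 ∧ Relation.ReflTransGen R A B := by
      intro n
      induction n using Nat.strong_induction_on with
      | _ n ih =>
        intro A hA hA8 hn
        by_cases hAE : A ≤ E
        · exact ⟨A, hAE, hA, hA8, Relation.ReflTransGen.refl⟩
        obtain ⟨e, heE, heA, henA⟩ :=
          exists_mem_centralizer hE hE32 hA (by rw [hA8]) (Or.inr hAE)
        obtain ⟨hM, -⟩ := elementary_sup_zpowers hA heA (hE.2 e heE)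
        have hF := elementary_sup_zpowers (elementary_mono hA (inf_le_left : A ⊓ E ≤ A))
          (centralizer_le (SetLike.coe_subset_coe.2 inf_le_left) heA) (hE.2 e heE)
        set M := A ⊔ zpowers e
        set F' := (A ⊓ E) ⊔ zpowers e with hF'
        have hFlt : Nat.card (A ⊓ E : Subgroup X) < 8 := by
          rw [← hA8]
          refine lt_of_le_of_ne (card_le_of_le inf_le_left) fun h => hAE ?_
          exact (eq_of_le_of_card_ge inf_le_left h.ge).ge.trans inf_le_right
        have h8 : (2 : ℕ) ^ 3 = Nat.card ↥A := by rw [hA8]; norm_num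
        have hFdvd : Nat.card (A ⊓ E : Subgroup X) ∣ 2 ^ 3 := by
          rw [h8]; exact card_dvd_of_le inf_le_left
        have hF'M : F' ≤ M := sup_le (inf_le_left.trans le_sup_left) le_sup_right
        obtain ⟨j, hj⟩ := IsPGroup.iff_card.1 (hX.to_subgroup F')
        have hF'8 : Nat.card F' ≤ 8 := by
          obtain ⟨i, hi, hi'⟩ := (Nat.dvd_prime_pow Nat.prime_two).1 hFdvd
          have : i ≤ 2 := by
            by_contra h
            have : i = 3 := by omega
            rw [this] at hi'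
            omega
          refine hF.2.trans ?_
          rw [hi']
          interval_cases i <;> norm_num
        have hj3 : j ≤ 3 := (Nat.pow_le_pow_iff_right (le_refl 2)).1 (hj ▸ hF'8)
        have hM8 : 2 ^ 3 ∣ Nat.card ↥M := by rw [h8]; exact card_dvd_of_le (le_sup_left : A ≤ M)
        obtain ⟨K, hK, hFK⟩ := Sylow.exists_subgroup_card_pow_prime_le 2 hM8 (F'.subgroupOf M)
          (by rw [Nat.card_congr (subgroupOfEquivOfLe hF'M).toEquiv, hj]) hj3
        set A' := K.map M.subtype with hA'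
        have hA'M : A' ≤ M := map_subtype_le _
        have hA'8 : Nat.card ↥A' = 8 := by
          rw [hA', card_map_of_injective M.subtype_injective, hK]; norm_num
        have hF'A' : F' ≤ A' := fun x hx => ⟨⟨x, hF'M hx⟩, hFK hx, rfl⟩
        have hle : F' ≤ A' ⊓ E := le_inf hF'A' (sup_le inf_le_right (zpowers_le.2 heE))
        have hlt : Nat.card (A ⊓ E : Subgroup X) < Nat.card (A' ⊓ E : Subgroup X) := by
          refine lt_of_lt_of_le ?_ (card_le_of_le hle)
          refine lt_of_le_of_ne (card_le_of_le le_sup_left) fun h => henA ?_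
          exact (mem_inf.1 ((eq_of_le_of_card_ge (le_sup_left : A ⊓ E ≤ F') h.ge).ge
            (mem_sup_right (mem_zpowers e)))).1
        have hlt8 : Nat.card (A' ⊓ E : Subgroup X) ≤ 8 := hA'8 ▸ card_le_of_le inf_le_left
        obtain ⟨B, hBE, hB, hB8, hpath⟩ :=
          ih _ (by omega) A' (elementary_mono hM hA'M) hA'8 rfl
        exact ⟨B, hBE, hB, hB8, Relation.ReflTransGen.head
          ⟨hA, hA8, elementary_mono hM hA'M, hA'8, hbot hM le_sup_left hA'M⟩ hpath⟩
    intro A B hA hA8 hB hB8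
    obtain ⟨A0, hA0E, hA0, hA08, hpA⟩ := reach _ A hA hA8 rfl
    obtain ⟨B0, hB0E, hB0, hB08, hpB⟩ := reach _ B hB hB8 rfl
    exact (hpA.tail ⟨hA0, hA08, hB0, hB08, hbot hE hA0E hB0E⟩).trans (hsymm _ _ hpB)
  · intro V hV hV4
    obtain ⟨e, heE, heV, henV⟩ :=
      exists_mem_centralizer hE hE32 hV (by rw [hV4]; norm_num) (Or.inl hV4)
    obtain ⟨hM, hM8⟩ := elementary_sup_zpowers hV heV (hE.2 e heE)
    refine ⟨V ⊔ zpowers e, le_sup_left, hM, ?_⟩
    have h4 : 4 ∣ Nat.card (V ⊔ zpowers e : Subgroup X) := hV4 ▸ card_dvd_of_le le_sup_left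
    have hne : Nat.card (V ⊔ zpowers e : Subgroup X) ≠ 4 := fun h =>
      henV ((eq_of_le_of_card_ge le_sup_left (hV4.symm ▸ h.le)).ge
        (mem_sup_right (mem_zpowers e)))
    have hpos : 0 < Nat.card (V ⊔ zpowers e : Subgroup X) := Nat.card_pos
    omega

end Cfsg.Agent.S1785
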