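import Cfsg.Statements.S1786
import Cfsg.Agent.Stages.TISpreadSL2
import Cfsg.Agent.Solvable.Frattini

set_option autoImplicit false
open Cfsg

namespace Cfsg.Agent.S1786

open Subgroup CfsgLib.TISpread
open scoped commutatorElement

/-- Let G be a finite group, V an elementary abelian 2-subgroup of G and M the normalizer of V; write Q for the largest normal 2-subgroup of M. Suppose (1) the generalized Fitting subgroup of M equals Q; (2) V is a maximal abelian normal subgroup of M; (3) every conjugate of V equals V or meets V trivially, and for some g ∈ G the conjugate V' = g V g⁻¹ is different from V and contained in Q. Let P be the centralizer of V in Q, W the subgroup generated by V and V', and H the subgroup generated by P and g P g⁻¹. Then: (a) V is contained in g Q g⁻¹; (b) every non-identity element of W lies in exactly one conjugate of V contained in W, H normalizes W, and H modulo the centralizer of W in H is isomorphic to the special linear group of dimension 2 over the field with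 |V| elements; (c) P = Q, and V equals the Frattini subgroup, the centre and the commutator subgroup of Q. -/
theorem result {G : Type*} [Group G] [Finite G] (V : Subgroup G)
    (hV : Cfsg.IsElementaryAbelian 2 V)
    (h1 : (Cfsg.generalizedFittingSubgroup ↥(Subgroup.normalizer (V : Set G))).map (Subgroup.normalizer (V : Set G)).subtype =
      (Cfsg.pCore 2 ↥(Subgroup.normalizer (V : Set G))).map (Subgroup.normalizer (V : Set G)).subtype)
    (h2 : ∀ A : Subgroup G, V ≤ A → A ≤ Subgroup.normalizer (V : Set G) → IsMulCommutative ↥A →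
      (∀ m ∈ Subgroup.normalizer (V : Set G), ∀ a ∈ A, m * a * m⁻¹ ∈ A) → A = V)
    (hti : ∀ x : G, V.map (MulAut.conj x).toMonoidHom = V ∨ V.map (MulAut.conj x).toMonoidHom ⊓ V = ⊥)
    (g : G) (hg : V.map (MulAut.conj g).toMonoidHom ≠ V)
    (hgQ : V.map (MulAut.conj g).toMonoidHom ≤ (Cfsg.pCore 2 ↥(Subgroup.normalizer (V : Set G))).map (Subgroup.normalizer (V : Set G)).subtype) :
    let Q : Subgroup G := (Cfsg.pCore 2 ↥(Subgroup.normalizer (V : Set G))).map (Subgroup.normalizer (V : Set G)).subtype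
    let P : Subgroup G := Q ⊓ Subgroup.centralizer (V : Set G)
    let W : Subgroup G := V ⊔ V.map (MulAut.conj g).toMonoidHom
    let H : Subgroup G := P ⊔ P.map (MulAut.conj g).toMonoidHom
    V ≤ Q.map (MulAut.conj g).toMonoidHom ∧
      (∀ w ∈ W, w ≠ 1 → ∃! U : Subgroup G, (∃ x : G, U = V.map (MulAut.conj x).toMonoidHom) ∧ U ≤ W ∧ w ∈ U) ∧
      H ≤ Subgroup.normalizer (W : Set G) ∧
      (∀ hN : ((Subgroup.centralizer (W : Set G)).subgroupOf H).Normal, ∃ (F : Type) (_ : Field F) (_ : Fintype F), Fintype.card F = Nat.card ↥V ∧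
        Nonempty (↥H ⧸ (Subgroup.centralizer (W : Set G)).subgroupOf H ≃* Matrix.SpecialLinearGroup (Fin 2) F)) ∧
      P = Q ∧ (frattini ↥Q).map Q.subtype = V ∧ (Subgroup.center ↥Q).map Q.subtype = V ∧ (commutator ↥Q).map Q.subtype = V := by
  intro Q P W H
  have : Fact (Nat.Prime 2) := ⟨Nat.prime_two⟩
  have hmap : Cfsg.generalizedFittingSubgroup ↥(normalizer (V : Set G)) =
      Cfsg.pCore 2 ↥(normalizer (V : Set G)) :=
    Subgroup.map_injective (normalizer (V : Set G)).subtype_injective h1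
  have hcfg : IsConfig V := ⟨hV, fun c hc hcen =>
    ⟨⟨c, hc⟩, CfsgLib.CharPLocal.centralizer_pCore_le_of_generalizedFitting_eq hmap
      (mem_centralizer_iff.2 fun q hq => Subtype.ext (hcen q ⟨q, hq, rfl⟩).symm), rfl⟩, h2, hti⟩
  set U := cj g V with hU_def
  have hUQ : U ≤ qOf V := hgQ
  have hcomm := commute_of_normalizes hcfg hg (hUQ.trans (qOf_le V))
  have hU : IsMember V U := ⟨⟨g, rfl⟩, hg, le_inf hUQ fun u hu =>
    mem_centralizer_iff.2 fun v hv => hcomm v hv u hu⟩
  have hPQ : P = Q := le_antisymm inf_le_left (qOf_le_pOf hcfg hU)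
  have hQP : Q ≤ pOf V := qOf_le_pOf hcfg hU
  have hVQ : V ≤ Q := le_qOf hcfg
  have hg' : pOf U = P.map (MulAut.conj g).toMonoidHom := (cj_pOf g V).symm
  have hqg : qOf U = Q.map (MulAut.conj g).toMonoidHom := (cj_qOf g V).symm
  obtain ⟨Y, hpair⟩ := exists_pair hcfg hU
  obtain ⟨w, hw, hw1⟩ := hU.exists_ne_one
  refine ⟨hqg ▸ (member_symm hcfg hU).trans inf_le_left,
    fun a ha ha1 => exists_unique_member hcfg hU ha ha1, ?_, ?_, hPQ, ?_, ?_, ?_⟩
  · show P ⊔ P.map (MulAut.conj g).toMonoidHom ≤ _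
    rw [← hg']
    exact sup_le_normalizer hcfg hU
  · intro hN
    have key : ∀ K : Subgroup G, K = pOf U →
        ∀ _hN : ((centralizer (W : Set G)).subgroupOf (P ⊔ K)).Normal,
          ∃ (F : Type) (_ : Field F) (_ : Fintype F), Fintype.card F = Nat.card ↥V ∧
            Nonempty (↥(P ⊔ K) ⧸ (centralizer (W : Set G)).subgroupOf (P ⊔ K) ≃*
              Matrix.SpecialLinearGroup (Fin 2) F) := by
      rintro K rfl hN'
      exact exists_quotient_equiv_SL2 hcfg hU hN'
    exact key _ hg'.symm hN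
  · refine le_antisymm (fun x hx => ?_) fun v hv => ?_
    · obtain ⟨q, hq, rfl⟩ := hx
      exact mem_subgroupOf.1 (CfsgLib.Solvable.frattini_le_of_elementary (p := 2)
        (N := V.subgroupOf Q) (commutator_le.2 fun a _ b _ => mem_subgroupOf.2
          (commutator_mem hcfg (hQP a.2) (hQP b.2)))
        (fun a => mem_subgroupOf.2 (by
          rw [SubmonoidClass.coe_pow, pow_two]; exact (pOf_special hcfg).1 _ (hQP a.2))) hq)
    · obtain ⟨y, hy, hyv⟩ := hpair.exists_eq hcfg hw hw1 hv
      have hwy : w * y ∈ Q := mem_inf.1 (mul_mem (hU.le hw) (hpair.right.le hy)) |>.1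
      refine ⟨(⟨w * y, hwy⟩ : ↥Q) ^ 2, CfsgLib.Solvable.pow_mem_frattini (isPGroup_qOf V) _, ?_⟩
      show ((⟨w * y, hwy⟩ : ↥Q) ^ 2 : ↥Q).1 = v
      rw [SubmonoidClass.coe_pow, pow_two]
      show w * y * (w * y) = v
      rw [← hyv, commutatorElement_def, inv_eq_of_mul_eq_one_right (hU.sq hcfg hw),
        inv_eq_of_mul_eq_one_right (hpair.right.sq hcfg hy), mul_assoc (w * y)]
  · refine le_antisymm (fun x hx => ?_) fun v hv => ?_
    · obtain ⟨q, hq, rfl⟩ := hx
      exact mem_of_central hcfg (hQP q.2) fun p hp =>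
        (congrArg Subtype.val (mem_center_iff.1 hq ⟨p, (mem_inf.1 hp).1⟩)).symm
    · exact ⟨⟨v, hVQ hv⟩, mem_center_iff.2 fun q =>
        Subtype.ext (pOf_commute (hQP q.2) hv), rfl⟩
  · refine le_antisymm ?_ fun v hv => ?_
    · rw [commutator_def, map_commutator, commutator_le]
      rintro _ ⟨a, -, rfl⟩ _ ⟨b, -, rfl⟩
      exact commutator_mem hcfg (hQP a.2) (hQP b.2)
    · obtain ⟨y, hy, hyv⟩ := hpair.exists_eq hcfg hw hw1 hv
      refine ⟨⁅(⟨w, (mem_inf.1 (hU.le hw)).1⟩ : ↥Q), ⟨y, (mem_inf.1 (hpair.right.le hy)).1⟩⁆,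
        commutator_mem_commutator (mem_top _) (mem_top _), ?_⟩
      rw [← hyv]; rfl

end Cfsg.Agent.S1786
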