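import Cfsg.Statements.S1823
import Cfsg.Agent.PushAut85.Select

set_option autoImplicit false
open Cfsg

namespace Cfsg.Agent.S1823

open Subgroup CfsgLib CfsgLib.PushAut85 CfsgLib.FFCells CfsgLib.PushParabolic85
open scoped commutatorElement

/-- A common nontrivial normal 2-subgroup for a pair of 2-local-type subgroups over a Sylow 2-subgroup of a simple QTKE-group. Let G be a non-abelian finite simple QTKE-group and T a Sylow 2-subgroup of G. Let M₀ and H be subgroups of G containing T with O₂(M₀) ≠ 1 and O₂(H) ≠ 1, such that T lies in a unique maximal subgroup of H. Let R be a nontrivial subgroup of T that is a Sylow 2-subgroup of O²(H)R and is normalized by M₀. Then some nontrivial subgroup R₀ of R is normalized by both M₀ and H (that is, R₀ is normal in ⟨M₀, H⟩). -/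
theorem result {G : Type*} [Group G] [Finite G] [IsSimpleGroup G]
    (hG : ¬ IsMulCommutative G) (hQ : Cfsg.IsQTKE G) (T : Sylow 2 G) (M₀ H : Subgroup G)
    (hM₀ : M₀ ∈ Cfsg.calHOver (T : Subgroup G)) (hH : H ∈ Cfsg.calHOver (T : Subgroup G))
    (hU : ∃! K : Subgroup ↥H, IsCoatom K ∧ (T : Subgroup G).subgroupOf H ≤ K)
    (R : Subgroup G) (hR : R ≠ ⊥) (hRT : R ≤ (T : Subgroup G))
    (hRS : ∃ P : Sylow 2 ↥(Cfsg.oddGenerated H ⊔ R),
      (P : Subgroup ↥(Cfsg.oddGenerated H ⊔ R)) = R.subgroupOf (Cfsg.oddGenerated H ⊔ R))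
    (hRM : M₀ ≤ Subgroup.normalizer (R : Set G)) :
    ∃ R₀ : Subgroup G, R₀ ≠ ⊥ ∧ R₀ ≤ R ∧ M₀ ⊔ H ≤ Subgroup.normalizer (R₀ : Set G) := by
  haveI : Fact (Nat.Prime 2) := ⟨Nat.prime_two⟩
  obtain ⟨hM₀0, hTM₀⟩ := hM₀
  obtain ⟨hH0, hTH⟩ := hH
  have hE : IsOfEvenCharacteristic G := hQ.2.2
  have hTR : (T : Subgroup G) ≤ normalizer (R : Set G) := hTM₀.trans hRM
  rw [oddGenerated_eq] at hRS
  set O2H := LocalStructure.pResOf 2 H with hO2H
  set H₁ := O2H ⊔ R
  have hO2HH : O2H ≤ H := LocalStructure.pResOf_le H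
  have hH₁H : H₁ ≤ H := sup_le hO2HH (hRT.trans hTH)
  have hRH₁ : R ≤ H₁ := le_sup_right
  -- `H = O²(H) T`
  have hgen : O2H ⊔ (T : Subgroup G) = H := by
    obtain ⟨S, hS⟩ := LocalStructure.exists_sylow_eq T.isPGroup' hTH (fun h =>
      T.not_dvd_index' (index_ne_zero_of_finite)
        (h.trans ⟨H.index, (relIndex_mul_index hTH).symm⟩))
    have h1 := congrArg (Subgroup.map H.subtype) (LocalStructure.sylow_sup_pResidual S)
    rw [Subgroup.map_sup, hS, subgroupOf_map_subtype, inf_eq_left.2 hTH,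
      LocalStructure.map_pResidual, ← MonoidHom.range_eq_map, H.range_subtype, sup_comm] at h1
    exact h1
  have hO2n : H ≤ normalizer (O2H : Set G) := by
    rw [hO2H, ← LocalStructure.map_pResidual]
    exact le_normalizer_map_subtype LocalStructure.pResidual_normal
  have hH₁n : H ≤ normalizer (H₁ : Set G) := hgen.ge.trans (sup_le
    (le_sup_left.trans le_normalizer)
    fun t ht => mem_normalizer_of_cj_le (by
      rw [cj_sup]
      exact sup_le_sup (cj_eq_self.2 (hO2n (hTH ht))).le (cj_eq_self.2 (hTR ht)).le))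
  -- the Sylow subgroup of `H₁`
  obtain ⟨P₁, hP₁⟩ := hRS
  have hsylH₁ : ∀ X : Subgroup G, X ≤ H₁ → IsPGroup 2 X → R ≤ X → X = R := fun X hX hXp hRX => by
    refine le_antisymm (fun x hx => ?_) hRX
    have h1 : X.subgroupOf H₁ = (P₁ : Subgroup ↥H₁) :=
      P₁.is_maximal' hXp.comap_subtype (hP₁ ▸ comap_mono hRX)
    have h2 : (⟨x, hX hx⟩ : ↥H₁) ∈ X.subgroupOf H₁ := mem_subgroupOf.2 hx
    rw [h1, hP₁] at h2
    exact h2
  have hTH₁ : (T : Subgroup G) ⊓ H₁ = R :=
    hsylH₁ _ inf_le_right (T.isPGroup'.to_le inf_le_left) (le_inf hRT hRH₁)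
  -- the maximal subgroup over `T`
  obtain ⟨K, ⟨hK, hTK⟩, hKu⟩ := hU
  set K' := K.map H.subtype
  have hTK' : (T : Subgroup G) ≤ K' := by
    have := map_mono (f := H.subtype) hTK
    rwa [subgroupOf_map_subtype, inf_eq_left.2 hTH] at this
  have hsup : ∀ X : Subgroup G, X ≤ H → ¬ X ≤ K' → X ⊔ (T : Subgroup G) = H := fun X hX hXK => by
    refine le_antisymm (sup_le hX hTH) ?_
    by_contra hne
    set Y := (X ⊔ (T : Subgroup G)).subgroupOf H
    have hY : Y ≠ ⊤ := fun e => hne (subgroupOf_eq_top.1 e)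
    obtain ⟨M', hM', hle⟩ := (eq_top_or_exists_le_coatom Y).resolve_left hY
    have hMK := hKu M' ⟨hM', (comap_mono le_sup_right).trans hle⟩
    refine hXK fun x hx => ⟨⟨x, hX hx⟩, ?_, rfl⟩
    exact hMK ▸ hle (mem_subgroupOf.2 (mem_sup_left hx))
  have hH₁K : ¬ H₁ ≤ K' := fun h => hK.1 (eq_top_iff.2 fun x _ => by
    have h1 : H ≤ K' := hgen.ge.trans (sup_le (le_sup_left.trans h) hTK')
    obtain ⟨y, hy, e⟩ := h1 x.2
    rwa [← Subtype.ext e])
  obtain ⟨P, ⟨hRP, hPH₁, hPK⟩, hPmin⟩ := wellFounded_lt.has_min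
    {X : Subgroup G | R ≤ X ∧ X ≤ H₁ ∧ ¬ X ≤ K'} ⟨H₁, hRH₁, le_rfl, hH₁K⟩
  have hPH : P ≤ H := hPH₁.trans hH₁H
  have hsub : ∀ X : Subgroup G, R ≤ X → X ≤ P → X ≠ P → X ≤ K' := fun X h1 h2 h3 => by
    by_contra h4
    exact hPmin X ⟨h1, h2.trans hPH₁, h4⟩ (lt_of_le_of_ne h2 h3)
  -- a subgroup invariant under `N(R)` and `P` will do
  have hdone : ∀ C : Subgroup G, C ≠ ⊥ → C ≤ R → M₀ ≤ normalizer (C : Set G) →
      P ≤ normalizer (C : Set G) →
      ∃ R₀ : Subgroup G, R₀ ≠ ⊥ ∧ R₀ ≤ R ∧ M₀ ⊔ H ≤ normalizer (R₀ : Set G) :=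
    fun C h1 h2 h3 h4 => ⟨C, h1, h2, sup_le h3
      ((hsup P hPH hPK).ge.trans (sup_le h4 (hTM₀.trans h3)))⟩
  by_cases hPR : P ≤ normalizer (R : Set G)
  · exact hdone R hR le_rfl hRM hPR
  have hRPne : P ≠ R := fun e => hPR (e ▸ le_normalizer)
  have hBn : normalizer (R : Set G) ≤ normalizer (baumannSubgroupOf 2 R : Set G) :=
    LocalEven50.normalizer_le_normalizer_baumann R
  by_cases hc : ∃ C : Subgroup G, C ≤ baumannSubgroupOf 2 R ∧ C ≠ ⊥ ∧
      (C.subgroupOf (baumannSubgroupOf 2 R)).Characteristic ∧ P ≤ normalizer (C : Set G)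
  · obtain ⟨C, h1, h2, h3, h4⟩ := hc
    exact hdone C h2 (h1.trans inf_le_left)
      (hRM.trans (hBn.trans (normalizer_le_of_characteristic h1 h3))) h4
  by_cases hz : P ≤ normalizer (omegaOneCenter 2 R : Set G)
  · refine hdone _ (fun e => ?_) (LocalEven50.omegaOneCenter_le _)
      (hRM.trans (LocalEven50.normalizer_le_normalizer_omegaOneCenter _)) hz
    exact (PushAut85.omegaOneCenter_ne_bot (T.isPGroup'.to_le hRT) hR) e
  -- `P` is `2`-minimal of characteristic two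
  obtain ⟨S, hS⟩ : ∃ S : Sylow 2 ↥P, (S : Subgroup ↥P) = R.subgroupOf P := by
    obtain ⟨S, hS⟩ := ((T.isPGroup'.to_le hRT).comap_subtype :
      IsPGroup 2 (R.subgroupOf P)).exists_le_sylow
    refine ⟨S, le_antisymm (fun x hx => ?_) hS⟩
    refine mem_subgroupOf.2 ?_
    rw [← hsylH₁ ((S : Subgroup ↥P).map P.subtype) ((map_subtype_le _).trans hPH₁)
      (S.isPGroup'.map _) (by
        have := map_mono (f := P.subtype) (show R.subgroupOf P ≤ (S : Subgroup ↥P) from hS)
        rwa [subgroupOf_map_subtype, inf_eq_left.2 hRP] at this)]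
    exact mem_map_of_mem _ hx
  have hgenP : ∀ X : Subgroup G, R ≤ X → X ≤ P → P ≤ normalizer (X : Set G) → X = P := by
    intro X hRX hXP hXn
    by_contra hne
    haveI : (X.subgroupOf P).Normal := (normal_subgroupOf_iff_le_normalizer hXP).2 hXn
    have h1 := Sylow.normalizer_sup_eq_top' (N := X.subgroupOf P) S (hS.le.trans (comap_mono hRX))
    set NP := P ⊓ normalizer (R : Set G)
    have h2 : NP ≤ K' := hsub NP (le_inf hRP le_normalizer) inf_le_left
      fun e => hPR (inf_eq_left.1 e)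
    have h3 : normalizer ((S : Subgroup ↥P) : Set ↥P) ≤ NP.subgroupOf P := fun x hx => by
      refine mem_subgroupOf.2 (mem_inf.2 ⟨x.2, mem_normalizer_of_cj_le ?_⟩)
      rintro _ ⟨r, hr, rfl⟩
      have h4 := (mem_normalizer_iff.1 hx ⟨r, hRP hr⟩).1 (hS ▸ mem_subgroupOf.2 hr)
      rw [hS] at h4
      exact h4
    refine hPK fun y hy => ?_
    have h5 : (⟨y, hy⟩ : ↥P) ∈ K'.subgroupOf P :=
      (sup_le (h3.trans (comap_mono h2)) (comap_mono (hsub X hRX hXP hne))) (h1.ge (mem_top _))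
    exact h5
  have hcoat : IsCoatom (K'.subgroupOf P) := by
    refine ⟨fun e => hPK (subgroupOf_eq_top.1 e), fun X hX => ?_⟩
    by_contra hne
    have hRX : R ≤ X.map P.subtype := fun r hr =>
      ⟨⟨r, hRP hr⟩, hX.le (mem_subgroupOf.2 (hTK' (hRT hr))), rfl⟩
    have h2 := hsub _ hRX (map_subtype_le _) fun e => hne (Subgroup.map_injective
      P.subtype_injective (e.trans (by rw [← MonoidHom.range_eq_map, P.range_subtype])))
    exact hX.not_ge fun x hx => mem_subgroupOf.2 (h2 (mem_map_of_mem _ hx))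
  have hpmin : IsPMinimal 2 ↥P := by
    refine isPMinimal_of_unique S (fun hn => hPR ?_) hcoat
      (hS.le.trans (comap_mono (hRT.trans hTK'))) (fun M' hM' hSM' => ?_)
    · exact (normal_subgroupOf_iff_le_normalizer hRP).1 (hS ▸ hn)
    · refine hM'.le_iff_eq hcoat.1 |>.1 ?_ |>.symm
      intro x hx
      refine mem_subgroupOf.2 (hsub (M'.map P.subtype) (fun r hr =>
        ⟨⟨r, hRP hr⟩, hSM' (hS ▸ mem_subgroupOf.2 hr), rfl⟩) (map_subtype_le _) (fun e => hM'.1
          (Subgroup.map_injective P.subtype_injective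
            (e.trans (by rw [← MonoidHom.range_eq_map, P.range_subtype])))) (mem_map_of_mem _ hx))
  -- `O₂(H₁) = O₂(H) ∩ H₁` is self-centralising in `H₁`
  set O := pCoreOf 2 H
  have hOp : IsPGroup 2 O := LocalStructure.pCore_isPGroup.map _
  have hHO : H ≤ normalizer (O : Set G) := le_normalizer_map_subtype (pCore_normal 2 _)
  have hOT : O ≤ (T : Subgroup G) := le_sup_left.trans
    (T.is_maximal' (hOp.to_sup_of_normal_left' T.isPGroup' (hTH.trans hHO)) le_sup_right).le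
  set O₁ := O ⊓ H₁
  have hO₁R : O₁ ≤ R := hTH₁ ▸ inf_le_inf_right _ hOT
  have hHO₁ : H ≤ normalizer (O₁ : Set G) := fun x hx => mem_normalizer_of_cj_le
    (le_inf ((cj_mono inf_le_left).trans (cj_eq_self.2 (hHO hx)).le)
      ((cj_mono inf_le_right).trans (cj_eq_self.2 (hH₁n hx)).le))
  have hC1 : H₁ ⊓ centralizer (O₁ : Set G) ≤ O₁ := by
    set C := H₁ ⊓ centralizer (O₁ : Set G)
    have hCH : H ≤ normalizer (C : Set G) := fun x hx => mem_normalizer_of_cj_le
      (le_inf ((cj_mono inf_le_left).trans (cj_eq_self.2 (hH₁n hx)).le)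
        ((cj_mono inf_le_right).trans
          (cj_eq_self.2 (CharPLocal.normalizer_le_normalizer_centralizer _ (hHO₁ hx))).le))
    have hCp : IsPGroup 2 C := LocalStructure.isPGroup_of_coprime_eq_one fun x hx hxo => by
      obtain ⟨hxH₁, hxc⟩ := mem_inf.1 hx
      have hxO : x ∈ centralizer (O : Set G) :=
        BlockNormal85.coprime_centralizes_of_series hOp hxo (hHO (hH₁H hxH₁))
          (P := O₁) (V := ⊥)
          (le_inf (Coprime.commutator_le_of_le_normalizer ((zpowers_le.2 (hH₁H hxH₁)).trans hHO))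
            (by
              rw [commutator_comm]
              exact Coprime.commutator_le_of_le_normalizer ((hOT.trans hTH).trans hH₁n) |>.trans'
                (commutator_mono (zpowers_le.2 hxH₁) le_rfl)))
          (by
            rw [le_bot_iff, commutator_eq_bot_iff_le_centralizer, le_centralizer_iff, zpowers_le]
            exact hxc)
          (commutator_bot_left _)
      exact LocalStructure.eq_one_of_coprime_of_mem hOp
        (inf_centralizer_core_le hE T hTH hH0 (mem_inf.2 ⟨hH₁H hxH₁, hxO⟩)) hxo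
    have hn : (C.subgroupOf H).Normal :=
      (normal_subgroupOf_iff_le_normalizer (inf_le_left.trans hH₁H)).2 hCH
    have h1 := map_mono (f := H.subtype) (LocalStructure.le_pCore
      (N := C.subgroupOf H) hCp.comap_subtype)
    rw [subgroupOf_map_subtype, inf_eq_left.2 (inf_le_left.trans hH₁H)] at h1
    exact le_inf h1 inf_le_left
  have hO₁P : O₁ ≤ pCoreOf 2 P := by
    have hn : (O₁.subgroupOf P).Normal :=
      (normal_subgroupOf_iff_le_normalizer (hO₁R.trans hRP)).2 (hPH.trans hHO₁)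
    have h1 := map_mono (f := P.subtype) (LocalStructure.le_pCore
      (N := O₁.subgroupOf P) (hOp.to_le inf_le_left : IsPGroup 2 O₁).comap_subtype)
    rwa [subgroupOf_map_subtype, inf_eq_left.2 (hO₁R.trans hRP)] at h1
  have hcharP : centralizer (pCore 2 ↥P : Set ↥P) ≤ pCore 2 ↥P := fun x hx => by
    have h1 : (x : G) ∈ O₁ := hC1 (mem_inf.2 ⟨hPH₁ x.2, mem_centralizer_iff.2 fun y hy => by
      obtain ⟨z, hz, rfl⟩ := hO₁P hy
      exact congrArg Subtype.val (mem_centralizer_iff.1 hx z hz)⟩)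
    obtain ⟨z, hz, e⟩ := hO₁P h1
    rwa [← Subtype.ext e]
  obtain ⟨V, hV0, d⟩ := exists_pushData hRP ⟨S, hS⟩ hpmin hcharP
    (fun C h1 h2 h3 h4 => hc ⟨C, h1, h2, h3, h4⟩) hz
  -- `V ≤ O₂(H₁)`
  have hVP : V ≤ P := d.V_le.trans (d.O_le.trans hRP)
  have hVO₁ : V ≤ O₁ := fun v hv => hC1 (mem_inf.2 ⟨hPH₁ (hVP hv), mem_centralizer_iff.2
    fun y hy => (mem_centralizer_iff.1
      ((d.cent y (hRP (hO₁R hy))).2 (hO₁P hy)) v hv).symm⟩)
  have hTV : ∀ t ∈ (T : Subgroup G), cj t V ≤ pCoreOf 2 P := fun t ht =>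
    ((cj_mono hVO₁).trans (cj_eq_self.2 (hHO₁ (hTH ht))).le).trans hO₁P
  have hPE : R ⊔ LocalStructure.pResOf 2 P = P := by
    have h1 := congrArg (Subgroup.map P.subtype) (LocalStructure.sylow_sup_pResidual S)
    rwa [Subgroup.map_sup, hS, subgroupOf_map_subtype, inf_eq_left.2 hRP,
      LocalStructure.map_pResidual, ← MonoidHom.range_eq_map, P.range_subtype] at h1
  have hall := cj_le_of_even hE T d hgenP hPE hRPne hRT hTM₀ hRM hTV
  -- the subgroup generated by the conjugates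
  set R₀ : Subgroup G := ⨆ x : ↥M₀, cj (x : G) V
  have hR₀O : R₀ ≤ pCoreOf 2 P := iSup_le fun x => hall x x.2
  have hVR₀ : V ≤ R₀ := (cj_one V).ge.trans (le_iSup (fun x : ↥M₀ => cj (x : G) V) 1)
  have hMR₀ : M₀ ≤ normalizer (R₀ : Set G) := fun x hx => mem_normalizer_of_cj_le (by
    rw [cj, Subgroup.map_iSup]
    exact iSup_le fun y => (cj_cj x (y : G) V).le.trans
      (le_iSup (fun z : ↥M₀ => cj (z : G) V) ⟨x * y, mul_mem hx y.2⟩))
  refine hdone R₀ (fun e => hV0 (le_bot_iff.1 (e ▸ hVR₀))) (hR₀O.trans d.O_le) hMR₀ ?_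
  rw [← hPE]
  refine sup_le ((hRT.trans hTM₀).trans hMR₀) fun e he => mem_normalizer_of_cj_le ?_
  rintro _ ⟨u, hu, rfl⟩
  rw [MulEquiv.coe_toMonoidHom, MulAut.conj_apply,
    show e * u * e⁻¹ = ⁅u, e⁆⁻¹ * u by simp only [commutatorElement_def]; group]
  exact mul_mem (inv_mem (hVR₀ (d.comm (commutator_mem_commutator (hR₀O hu) he)))) hu

end Cfsg.Agent.S1823
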