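import Cfsg.Statements.S1824
import Cfsg.Agent.Qrc85.Push
import Cfsg.Agent.Qrc85.Cubic
import Cfsg.Agent.Qrc85.Inner

set_option autoImplicit false
open Cfsg CfsgLib

namespace Cfsg.Agent.S1824

/-- The qrc-lemma in the form used for simple QTKE-groups. Let G be a non-abelian finite simple QTKE-group, T a Sylow 2-subgroup of G and M a maximal 2-local subgroup of G containing T. Let T ≤ M₀ ≤ M, let H be a minimal member of the set of subgroups of G with nontrivial 2-core that contain T and are not contained in M, and let V be a 2-reduced elementary abelian normal 2-subgroup of M₀ with O₂(M₀) = C_T(V). Suppose H ∩ M normalizes O²(M₀) or normalizes V. Then one of the following holds: (1) some nontrivial subgroup of O₂(M₀) is normalized by both M₀ and H; (2) V ≰ O₂(H) and q̂(M₀/C_{M₀}(V), V) ≤ 2; (3) q(M₀/C_{M₀}(V), V) ≤ 2. Here q (resp. q̂) ≤ 2 means that some subgroup of M₀ inducing a nontrivial elementary abelian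 2-group A on V acts quadratically (resp. cubically) on V with |V : C_V(A)| ≤ |A|². -/
theorem result {G : Type*} [Group G] [Finite G] [IsSimpleGroup G]
    (hG : ¬ IsMulCommutative G) (hQ : Cfsg.IsQTKE G) (T : Sylow 2 G) (M M₀ H V : Subgroup G)
    (hM : M ∈ Cfsg.maxTwoLocalsContaining (T : Subgroup G))
    (hTM₀ : (T : Subgroup G) ≤ M₀) (hM₀M : M₀ ≤ M) (hH : H ∈ Cfsg.calHMin (T : Subgroup G) M)
    (hV : V ∈ Cfsg.calR2 M₀)
    (hR : (Cfsg.pCore 2 ↥M₀).map M₀.subtype = (T : Subgroup G) ⊓ Subgroup.centralizer (V : Set G))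
    (hI : H ⊓ M ≤ Subgroup.normalizer (Cfsg.oddGenerated M₀ : Set G) ∨
      H ⊓ M ≤ Subgroup.normalizer (V : Set G)) :
    (∃ R₀ : Subgroup G, R₀ ≠ ⊥ ∧ R₀ ≤ (Cfsg.pCore 2 ↥M₀).map M₀.subtype ∧
        M₀ ⊔ H ≤ Subgroup.normalizer (R₀ : Set G)) ∨
      (¬ V ≤ (Cfsg.pCore 2 ↥H).map H.subtype ∧ Cfsg.CubicParamLE M₀ V 2) ∨
      Cfsg.QuadParamLE M₀ V 2 := by
  haveI : Fact (Nat.Prime 2) := ⟨Nat.prime_two⟩
  obtain ⟨hVM₀, hnV, hVe, -⟩ := hV
  obtain ⟨⟨⟨hH0, hTH⟩, hHM⟩, hmin⟩ := hH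
  have hE : IsOfEvenCharacteristic G := hQ.2.2
  set R : Subgroup G := (T : Subgroup G) ⊓ Subgroup.centralizer (V : Set G) with hRdef
  set Q := pCoreOf 2 H with hQdef
  have hQT : Q ≤ (T : Subgroup G) := le_sup_left.trans (T.is_maximal'
    ((LocalStructure.pCoreOf_isPGroup H).to_sup_of_normal_left' T.isPGroup'
      (hTH.trans (LocalStructure.le_normalizer_pCoreOf H))) le_sup_right).le
  have hQ0 : Q ≠ ⊥ := fun e => hH0 (Subgroup.map_injective H.subtype_injective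
    (e.trans (Subgroup.map_bot _).symm))
  have hVT : V ≤ (T : Subgroup G) := le_sup_left.trans (T.is_maximal'
    ((PLocal.isPGroup_of_isElementaryAbelian hVe).to_sup_of_normal_left' T.isPGroup'
      (hTM₀.trans hnV)) le_sup_right).le
  have hnorm : H ⊓ M ≤ Subgroup.normalizer (LocalStructure.pResOf 2 M₀ : Set G) ∨
      H ⊓ M ≤ Subgroup.normalizer (V : Set G) := by
    rwa [PushAut85.oddGenerated_eq] at hI
  have h : Qrc85.Hyp T M M₀ H V R := by
    refine ⟨hE, hTM₀, hM₀M, hTH, hH0, hHM, fun X hTX hXH hXM => hmin X ⟨⟨?_, hTX⟩, hXM⟩ hXH,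
      hVe, hnV, hVT, rfl, hR.symm, hnorm⟩
    intro e
    refine hQ0 (le_bot_iff.1 ?_)
    have h1 := LocalStructure.le_pCoreOf (hQT.trans hTX)
      (hXH.trans (LocalStructure.le_normalizer_pCoreOf H)) (LocalStructure.pCoreOf_isPGroup H)
    rwa [pCoreOf, e, Subgroup.map_bot] at h1
  have hgoal : Qrc85.Goal M₀ H V R →
      ((∃ R₀ : Subgroup G, R₀ ≠ ⊥ ∧ R₀ ≤ (Cfsg.pCore 2 ↥M₀).map M₀.subtype ∧
        M₀ ⊔ H ≤ Subgroup.normalizer (R₀ : Set G)) ∨
      (¬ V ≤ (Cfsg.pCore 2 ↥H).map H.subtype ∧ Cfsg.CubicParamLE M₀ V 2) ∨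
      Cfsg.QuadParamLE M₀ V 2) := by
    rintro (⟨R₀, h1, h2, h3⟩ | h2 | h3)
    · exact Or.inl ⟨R₀, h1, hR.symm ▸ h2, h3⟩
    · exact Or.inr (Or.inl h2)
    · exact Or.inr (Or.inr h3)
  refine hgoal ?_
  set J := thompsonSubgroupOf 2 (T : Subgroup G) with hJdef
  rcases h.quad_or_J_le with hq | hJR
  · exact Or.inr (Or.inr hq)
  by_cases hq : QuadParamLE M₀ V 2
  · exact Or.inr (Or.inr hq)
  have hJ0 : J ≠ ⊥ := fun e => hQ0 (by
    obtain ⟨A, hA⟩ := PLocal.maxEAIn_nonempty 2 (T : Subgroup G)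
    have hA0 : A = ⊥ := le_bot_iff.1 ((PLocal.le_thompsonSubgroupOf hA).trans e.le)
    have hZ := hA.2.2 _ ((LocalEven50.omegaOneCenter_le Q).trans hQT)
      (LocalEven50.isElementaryAbelian_omegaOneCenter Q)
    rw [hA0, Subgroup.card_bot] at hZ
    by_contra hne
    exact PushAut85.omegaOneCenter_ne_bot (LocalStructure.pCoreOf_isPGroup H) hne
      (Subgroup.eq_bot_of_card_le _ hZ))
  have hM₀J : M₀ ≤ Subgroup.normalizer (J : Set G) := by
    refine h.M₀_normR.trans ?_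
    rw [hJdef, ← PLocal.thompsonSubgroupOf_eq_of_le h.R_T hJR]
    exact PLocal.normalizer_le_normalizer_thompsonSubgroupOf 2 R
  by_cases hHJ : H ≤ Subgroup.normalizer (J : Set G)
  · exact Or.inl ⟨J, hJ0, hJR, sup_le hM₀J hHJ⟩
  have hNJ := h.inf_normalizer_le hHJ
  have hR0 : R ≠ ⊥ := fun e => hJ0 (le_bot_iff.1 (hJR.trans e.le))
  by_cases hV0 : V = ⊥
  · obtain ⟨K, m⟩ := h.exists_min hJR hNJ
    refine Or.inl (Qrc85.push h m hR0 (inf_le_left.trans ?_))
    refine le_inf le_rfl ?_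
    intro x _
    rw [hV0, Subgroup.mem_centralizer_iff]
    intro y hy
    rw [Subgroup.mem_bot.1 hy, one_mul, mul_one]
  by_cases hHV : H ≤ Subgroup.normalizer (V : Set G)
  · exact Or.inl ⟨V, hV0, h.V_R, sup_le hnV hHV⟩
  obtain ⟨K, m⟩ := h.exists_min hJR hNJ
  by_cases hVP : V ≤ pCoreOf 2 K
  · exact Or.inl (Qrc85.push h m hR0
      (m.inf_pResOf_le h hVP (h.inf_centralizer_le hHV) hNJ hJR hq))
  · exact Or.inr (Or.inl (Qrc85.cubic_of_not_le h m hVP))

end Cfsg.Agent.S1824
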