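import Cfsg.Statements.S1850
import Cfsg.Agent.CharPLocal.Two
-- import your own Cfsg.Agent.* helpers here

set_option autoImplicit false
open Cfsg

namespace Cfsg.Agent.S1850

/-- Let G be a non-abelian finite simple QTKE-group and T a Sylow 2-subgroup of G. If U is a nontrivial 2-subgroup of G with U ∩ Z(T) ≠ 1, then F*(N_G(U)) = O₂(N_G(U)). -/
theorem result {G : Type*} [Group G] [Finite G] [IsSimpleGroup G]
    (hG : ¬ IsMulCommutative G) (hQ : Cfsg.IsQTKE G) (T : Sylow 2 G) (U : Subgroup G)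
    (hU : IsPGroup 2 ↥U) (hZ : U ⊓ ((T : Subgroup G) ⊓ Subgroup.centralizer ((T : Subgroup G) : Set G)) ≠ ⊥) :
    Subgroup.normalizer (U : Set G) ∈ Cfsg.calHe G := by
  have : Fact (Nat.Prime 2) := ⟨Nat.prime_two⟩
  obtain ⟨z, hz, hz2, -⟩ := CfsgLib.CharPLocal.exists_involution_center_of_ne_bot
    (hU.to_le inf_le_left) hZ
  rw [Subgroup.mem_inf, Subgroup.mem_inf] at hz
  obtain ⟨hzU, -, hzc⟩ := hz
  -- a central involution of `U` commuting with `T`: use `z`, then a central one inside `N_G(U)`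
  set H := Subgroup.normalizer (U : Set G) with hH
  have hC : CfsgLib.CharPLocal.IsCharP 2 (Subgroup.centralizer ({z} : Set G)) := by
    have h2l : Cfsg.IsTwoLocal (Subgroup.centralizer ({z} : Set G)) :=
      ⟨Subgroup.zpowers z, CfsgLib.CharPLocal.isPGroup_two_zpowers_of_orderOf hz2,
        by rw [ne_eq, Subgroup.zpowers_eq_bot]; intro h; simp [h] at hz2,
        CfsgLib.CharPLocal.centralizer_singleton_eq_normalizer hz2⟩
    rw [CfsgLib.CharPLocal.isCharP_iff_type]
    exact hQ.2.2 _ h2l ⟨T, fun t ht => Subgroup.mem_centralizer_singleton_iff.2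
      (Subgroup.mem_centralizer_iff.1 hzc t ht)⟩
  show Cfsg.generalizedFittingSubgroup ↥H = Cfsg.pCore 2 ↥H
  refine CfsgLib.CharPLocal.generalizedFittingSubgroup_eq_pCore
    ((CfsgLib.CharPLocal.isCharP_iff_type H).1 ?_)
  exact CfsgLib.CharPLocal.isCharP_normalizer_of_mem hU hzU hC

end Cfsg.Agent.S1850
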