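import Cfsg.Statements.S1851
import Cfsg.Agent.CharPLocal.Two
-- import your own Cfsg.Agent.* helpers here

set_option autoImplicit false
open Cfsg

namespace Cfsg.Agent.S1851

/-- Let G be a non-abelian finite simple QTKE-group and T a Sylow 2-subgroup of G, and let L be a member of ℒ_f(G, T) (a member of ℒ(G, T) that lies in 𝒳 — L ≠ 1, L = O²(L), F*(L) = O₂(L) — and acts nontrivially on Ω₁(Z(O₂(L)))). Then (1) every member K of ℒ(G, T) containing L is again in ℒ_f(G, T) (a sharper form of (1) also compares the modules [Ω₁(Z(R)), L] and [Ω₁(Z(R')), K] for suitable 2-subgroups R, R'; that comparison is not included); and (2) if L is maximal under inclusion among the members of ℒ_f(G, T), then L is a maximal member of ℒ(G, T), hence a member of ℒ_f*(G, T). -/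
theorem result {G : Type*} [Group G] [Finite G] [IsSimpleGroup G]
    (hG : ¬ IsMulCommutative G) (hQ : Cfsg.IsQTKE G) (T : Sylow 2 G) (L : Subgroup G)
    (hL : L ∈ Cfsg.calLf (T : Subgroup G)) :
    (∀ K ∈ Cfsg.calL (T : Subgroup G), L ≤ K → K ∈ Cfsg.calLf (T : Subgroup G)) ∧
    ((∀ K ∈ Cfsg.calLf (T : Subgroup G), L ≤ K → K = L) → L ∈ Cfsg.calLfMax (T : Subgroup G)) := by
  have : Fact (Nat.Prime 2) := ⟨Nat.prime_two⟩
  suffices h1 : ∀ K ∈ Cfsg.calL (T : Subgroup G), L ≤ K → K ∈ Cfsg.calLf (T : Subgroup G) from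
    ⟨h1, fun hmax => ⟨⟨hL.1, fun K hK hLK => hmax K (h1 K hK hLK) hLK⟩, hL.2⟩⟩
  intro K hK hLK
  set H := K ⊔ (T : Subgroup G) with hH
  set HL := L ⊔ (T : Subgroup G) with hHL
  have hKH : K ≤ H := le_sup_left
  have hTH : (T : Subgroup G) ≤ H := le_sup_right
  have hLH : L ≤ HL := le_sup_left
  have hTHL : (T : Subgroup G) ≤ HL := le_sup_right
  have hHLH : HL ≤ H := sup_le_sup_right hLK _
  -- perfect subgroups
  have perf : ∀ M : Subgroup G, M.subgroupOf (M ⊔ (T : Subgroup G)) ∈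
      Cfsg.calC ↥(M ⊔ (T : Subgroup G)) → M ≠ ⊥ ∧ ⁅M, M⁆ = M := by
    intro M hM
    refine ⟨fun hb => hM.1 (by subst hb; exact Subgroup.bot_subgroupOf _), ?_⟩
    have := congrArg (Subgroup.map (M ⊔ (T : Subgroup G)).subtype) hM.2.1
    rwa [Subgroup.map_commutator, Subgroup.map_subgroupOf_eq_of_le le_sup_left] at this
  obtain ⟨hKne, hKperf⟩ := perf K hK.1
  obtain ⟨hLne, hLperf⟩ := perf L hL.1.1
  -- `H = KT` is of characteristic 2
  have hOne : Cfsg.pCoreOf 2 H ≠ ⊥ := by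
    rw [Cfsg.pCoreOf, ne_eq, Subgroup.map_eq_bot_iff_of_injective _ H.subtype_injective]
    exact hK.2.2
  have hnormT : ∀ U : Subgroup G, IsPGroup 2 ↥U → (T : Subgroup G) ≤ Subgroup.normalizer (U : Set G) →
      U ≤ (T : Subgroup G) := by
    intro U hU hTU
    have := T.3 (hU.to_sup_of_normal_left' T.isPGroup' hTU) le_sup_right
    exact this ▸ le_sup_left
  have hOT : Cfsg.pCoreOf 2 H ≤ (T : Subgroup G) :=
    hnormT _ (CfsgLib.LocalStructure.pCoreOf_isPGroup H)
      (hTH.trans (CfsgLib.LocalStructure.le_normalizer_pCoreOf H))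
  obtain ⟨z₀, hz₀, hz₀1, hz₀c⟩ := CfsgLib.CharPLocal.exists_ne_one_central_of_normal T.isPGroup'
    hOT (hTH.trans (CfsgLib.LocalStructure.le_normalizer_pCoreOf H)) hOne
  have hZne : Cfsg.pCoreOf 2 H ⊓ Subgroup.centralizer ((T : Subgroup G) : Set G) ≠ ⊥ := fun h =>
    hz₀1 (Subgroup.mem_bot.1 (h ▸ ⟨hz₀, Subgroup.mem_centralizer_iff.2 hz₀c⟩))
  obtain ⟨z, hz, hz2, -⟩ := CfsgLib.CharPLocal.exists_involution_center_of_ne_bot
    ((CfsgLib.LocalStructure.pCoreOf_isPGroup H).to_le inf_le_left) hZne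
  rw [Subgroup.mem_inf] at hz
  have hCz : CfsgLib.CharPLocal.IsCharP 2 (Subgroup.centralizer ({z} : Set G)) := by
    have h2l : Cfsg.IsTwoLocal (Subgroup.centralizer ({z} : Set G)) :=
      ⟨Subgroup.zpowers z, CfsgLib.CharPLocal.isPGroup_two_zpowers_of_orderOf hz2,
        by rw [ne_eq, Subgroup.zpowers_eq_bot]; intro h; simp [h] at hz2,
        CfsgLib.CharPLocal.centralizer_singleton_eq_normalizer hz2⟩
    rw [CfsgLib.CharPLocal.isCharP_iff_type]
    exact hQ.2.2 _ h2l ⟨T, fun t ht => Subgroup.mem_centralizer_singleton_iff.2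
      (Subgroup.mem_centralizer_iff.1 hz.2 t ht)⟩
  have hNc := CfsgLib.CharPLocal.isCharP_normalizer_of_mem
    (CfsgLib.LocalStructure.pCoreOf_isPGroup H) hz.1 hCz
  have hHc : CfsgLib.CharPLocal.IsCharP 2 H := by
    refine hNc.of_le (CfsgLib.LocalStructure.le_normalizer_pCoreOf H) ((hnormT _
      (CfsgLib.LocalStructure.pCoreOf_isPGroup _) ?_).trans hTH)
    exact (hTH.trans (CfsgLib.LocalStructure.le_normalizer_pCoreOf H)).trans
      (CfsgLib.LocalStructure.le_normalizer_pCoreOf _)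
  have hKsn : (K.subgroupOf H).IsSubnormal := hK.1.2.2.1
  have hKc := hHc.of_isSubnormal_subgroupOf hKH hKsn
  have hres := CfsgLib.CharPLocal.pResOf_eq_self_of_perfect (p := 2) hKperf
  have hodd : Cfsg.oddGenerated K = K := by
    refine le_antisymm ((Subgroup.closure_le K).2 fun x hx => hx.1) ?_
    conv_lhs => rw [← hres]
    exact CfsgLib.LocalStructure.pResOf_le_of_forall fun g hg hc =>
      Subgroup.subset_closure ⟨hg, Nat.coprime_two_right.1 hc⟩
  have hKhe : K ∈ Cfsg.calHe G :=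
    CfsgLib.CharPLocal.generalizedFittingSubgroup_eq_pCore
      ((CfsgLib.CharPLocal.isCharP_iff_type K).1 hKc)
  refine ⟨hK, ⟨hKne, hodd, hKhe⟩, fun hV => hL.2.2 ?_⟩
  -- the two layers `Ω₁(Z(O₂(KT)))` and `Ω₁(Z(O₂(LT)))`
  set P := Cfsg.pCoreOf 2 H with hP
  set R := Cfsg.pCoreOf 2 HL with hR
  set W := Cfsg.omegaOne 2 (P ⊓ Subgroup.centralizer (P : Set G)) with hW
  have hPR : P ≤ R := CfsgLib.LocalStructure.le_pCoreOf (hOT.trans hTHL)
    (hHLH.trans (CfsgLib.LocalStructure.le_normalizer_pCoreOf H))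
    (CfsgLib.LocalStructure.pCoreOf_isPGroup H)
  have hRT : R ≤ (T : Subgroup G) :=
    hnormT _ (CfsgLib.LocalStructure.pCoreOf_isPGroup HL)
      (hTHL.trans (CfsgLib.LocalStructure.le_normalizer_pCoreOf HL))
  have hWle : W ≤ P ⊓ Subgroup.centralizer (P : Set G) :=
    (Subgroup.closure_le _).2 fun x hx => hx.1
  have hKW : K ≤ Subgroup.normalizer (W : Set G) := by
    intro k hk
    rw [Subgroup.mem_normalizer_iff_map_conj_eq]
    have hkP := Subgroup.mem_normalizer_iff_map_conj_eq.1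
      (CfsgLib.LocalStructure.le_normalizer_pCoreOf (p := 2) H (hKH hk))
    have hkC := Subgroup.mem_normalizer_iff_map_conj_eq.1
      (CfsgLib.CharPLocal.normalizer_le_normalizer_centralizer P
        (CfsgLib.LocalStructure.le_normalizer_pCoreOf (p := 2) H (hKH hk)))
    have hkI : (P ⊓ Subgroup.centralizer (P : Set G)).map (MulAut.conj k).toMonoidHom =
        P ⊓ Subgroup.centralizer (P : Set G) := by
      rw [Subgroup.map_inf _ _ _ (MulEquiv.injective _)]
      exact congrArg₂ (· ⊓ ·) hkP hkC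
    rw [hW, Cfsg.omegaOne, MonoidHom.map_closure]
    congr 1
    ext x
    constructor
    · rintro ⟨y, ⟨hy, hy2⟩, rfl⟩
      exact ⟨hkI.le ⟨y, hy, rfl⟩, by rw [← map_pow, hy2, map_one]⟩
    · rintro ⟨hx, hx2⟩
      obtain ⟨y, hy, rfl⟩ := hkI.ge hx
      exact ⟨y, ⟨hy, (MulEquiv.injective (MulAut.conj k)) (by
        rw [map_pow, map_one]; exact hx2)⟩, rfl⟩
  have hWsq : ∀ x ∈ W, x ^ 2 = 1 := by
    intro x hx
    refine (Subgroup.closure_induction (p := fun y _ => y ^ 2 = 1 ∧ y ∈ P ⊓ Subgroup.centralizer (P : Set G))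
      (fun y hy => ⟨hy.2, hy.1⟩) ⟨one_pow 2, one_mem _⟩ ?_ ?_ hx).1
    · rintro a b - - ⟨ha, ha'⟩ ⟨hb, hb'⟩
      refine ⟨?_, mul_mem ha' hb'⟩
      rw [Commute.mul_pow (Subgroup.mem_centralizer_iff.1 hb'.2 a ha'.1), ha, hb, one_mul]
    · rintro a - ⟨ha, ha'⟩
      exact ⟨by rw [inv_pow, ha, inv_one], inv_mem ha'⟩
  -- `[W, K]` lies in `Ω₁(Z(O₂(K)))`
  have hKPN : P ≤ Subgroup.normalizer (K : Set G) :=
    CfsgLib.CharPLocal.pCoreOf_le_normalizer_of_isSubnormal hKH hKsn hres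
  have hcomm : ⁅W, K⁆ ≤ Cfsg.omegaOne 2
      (Cfsg.pCoreTwoOf K ⊓ Subgroup.centralizer (Cfsg.pCoreTwoOf K : Set G)) := by
    have h1 : ⁅W, K⁆ ≤ W := CfsgLib.Coprime.commutator_le_of_le_normalizer hKW
    have h2 : ⁅W, K⁆ ≤ K := by
      rw [Subgroup.commutator_comm]
      exact CfsgLib.Coprime.commutator_le_of_le_normalizer ((hWle.trans inf_le_left).trans hKPN)
    have h3 : P ⊓ K ≤ Cfsg.pCoreTwoOf K :=
      CfsgLib.LocalStructure.le_pCoreOf inf_le_right
        ((le_inf (hKH.trans (CfsgLib.LocalStructure.le_normalizer_pCoreOf H))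
          Subgroup.le_normalizer).trans Subgroup.inf_normalizer_le_normalizer_inf)
        (CfsgLib.LocalStructure.pCoreOf_isPGroup H).to_inf_left
    intro x hx
    refine Subgroup.subset_closure ⟨Subgroup.mem_inf.2 ⟨h3 ⟨(hWle (h1 hx)).1, h2 hx⟩, ?_⟩,
      hWsq x (h1 hx)⟩
    exact Subgroup.centralizer_le (SetLike.coe_subset_coe.2
      (CfsgLib.CharPLocal.pCoreOf_le_of_isSubnormal_subgroupOf hKH hKsn)) (hWle (h1 hx)).2
  have hKcW : W ≤ Subgroup.centralizer (K : Set G) := by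
    have e1 : ⁅⁅W, K⁆, K⁆ = ⊥ := le_bot_iff.1 ((Subgroup.commutator_mono hcomm le_rfl).trans hV.le)
    have e2 : ⁅⁅K, W⁆, K⁆ = ⊥ := by rw [Subgroup.commutator_comm K W]; exact e1
    have e3 : ⁅⁅K, K⁆, W⁆ = ⊥ := Subgroup.commutator_commutator_eq_bot_of_rotate e2 e1
    rw [hKperf] at e3
    rw [Subgroup.le_centralizer_iff, ← Subgroup.commutator_eq_bot_iff_le_centralizer]
    exact e3
  -- conclusion for `L`
  have hLsn : (L.subgroupOf HL).IsSubnormal := hL.1.1.2.2.1
  have hresL := CfsgLib.CharPLocal.pResOf_eq_self_of_perfect (p := 2) hLperf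
  set U := Cfsg.omegaOne 2 (Cfsg.pCoreTwoOf L ⊓ Subgroup.centralizer (Cfsg.pCoreTwoOf L : Set G))
    with hU
  have hUle : U ≤ Cfsg.pCoreTwoOf L ⊓ Subgroup.centralizer (Cfsg.pCoreTwoOf L : Set G) :=
    (Subgroup.closure_le _).2 fun x hx => hx.1
  have hNU : Subgroup.normalizer (L : Set G) ≤ Subgroup.normalizer (U : Set G) := by
    intro k hk
    rw [Subgroup.mem_normalizer_iff_map_conj_eq]
    have hkP := Subgroup.mem_normalizer_iff_map_conj_eq.1
      (CfsgLib.LocalStructure.normalizer_le_normalizer_pCoreOf (p := 2) L hk)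
    have hkC := Subgroup.mem_normalizer_iff_map_conj_eq.1
      (CfsgLib.CharPLocal.normalizer_le_normalizer_centralizer (Cfsg.pCoreTwoOf L)
        (CfsgLib.LocalStructure.normalizer_le_normalizer_pCoreOf (p := 2) L hk))
    have hkI : (Cfsg.pCoreTwoOf L ⊓ Subgroup.centralizer (Cfsg.pCoreTwoOf L : Set G)).map
        (MulAut.conj k).toMonoidHom =
        Cfsg.pCoreTwoOf L ⊓ Subgroup.centralizer (Cfsg.pCoreTwoOf L : Set G) := by
      rw [Subgroup.map_inf _ _ _ (MulEquiv.injective _)]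
      exact congrArg₂ (· ⊓ ·) hkP hkC
    rw [hU, Cfsg.omegaOne, MonoidHom.map_closure]
    congr 1
    ext x
    constructor
    · rintro ⟨y, ⟨hy, hy2⟩, rfl⟩
      exact ⟨hkI.le ⟨y, hy, rfl⟩, by rw [← map_pow, hy2, map_one]⟩
    · rintro ⟨hx, hx2⟩
      obtain ⟨y, hy, rfl⟩ := hkI.ge hx
      exact ⟨y, ⟨hy, (MulEquiv.injective (MulAut.conj k)) (by
        rw [map_pow, map_one]; exact hx2)⟩, rfl⟩
  have hRL : ⁅R, L⁆ ≤ Cfsg.pCoreTwoOf L := by
    have h1 : ⁅R, L⁆ ≤ R :=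
      CfsgLib.Coprime.commutator_le_of_le_normalizer
        (hLH.trans (CfsgLib.LocalStructure.le_normalizer_pCoreOf HL))
    have h2 : ⁅R, L⁆ ≤ L := by
      rw [Subgroup.commutator_comm]
      exact CfsgLib.Coprime.commutator_le_of_le_normalizer
        (CfsgLib.CharPLocal.pCoreOf_le_normalizer_of_isSubnormal hLH hLsn hresL)
    exact (le_inf h1 h2).trans (CfsgLib.LocalStructure.le_pCoreOf inf_le_right
      ((le_inf (hLH.trans (CfsgLib.LocalStructure.le_normalizer_pCoreOf HL))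
        Subgroup.le_normalizer).trans Subgroup.inf_normalizer_le_normalizer_inf)
      (CfsgLib.LocalStructure.pCoreOf_isPGroup HL).to_inf_left)
  have hfix : U ⊓ Subgroup.centralizer (R : Set G) ≤ Subgroup.centralizer (L : Set G) := by
    intro u hu
    have huW : u ∈ W := by
      have huH : u ∈ H := hKH (hLK (CfsgLib.LocalStructure.pCoreOf_le L (hUle hu.1).1))
      have huC : u ∈ Subgroup.centralizer (P : Set G) :=
        Subgroup.centralizer_le (SetLike.coe_subset_coe.2 hPR) hu.2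
      refine Subgroup.subset_closure ⟨Subgroup.mem_inf.2 ⟨hHc ⟨huH, huC⟩, huC⟩, ?_⟩
      have : ∀ x ∈ U, x ^ 2 = 1 := by
        intro x hx
        refine (Subgroup.closure_induction (p := fun y _ => y ^ 2 = 1 ∧
            y ∈ Cfsg.pCoreTwoOf L ⊓ Subgroup.centralizer (Cfsg.pCoreTwoOf L : Set G))
          (fun y hy => ⟨hy.2, hy.1⟩) ⟨one_pow 2, one_mem _⟩ ?_ ?_ hx).1
        · rintro a b - - ⟨ha, ha'⟩ ⟨hb, hb'⟩
          refine ⟨?_, mul_mem ha' hb'⟩
          rw [Commute.mul_pow (Subgroup.mem_centralizer_iff.1 hb'.2 a ha'.1), ha, hb, one_mul]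
        · rintro a - ⟨ha, ha'⟩
          exact ⟨by rw [inv_pow, ha, inv_one], inv_mem ha'⟩
      exact this u hu.1
    exact Subgroup.centralizer_le (SetLike.coe_subset_coe.2 hLK) (hKcW huW)
  have hfin := CfsgLib.CharPLocal.centralize_of_centralize_fixed (p := 2)
    (CfsgLib.LocalStructure.pCoreOf_isPGroup HL) hLperf
    (hLH.trans (CfsgLib.LocalStructure.le_normalizer_pCoreOf HL)) _ U le_rfl
    ((CfsgLib.LocalStructure.pCoreOf_isPGroup L).to_le (hUle.trans inf_le_left))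
    (Subgroup.le_normalizer.trans hNU)
    ((CfsgLib.CharPLocal.pCoreOf_le_normalizer_of_isSubnormal hLH hLsn hresL).trans hNU)
    (hRL.trans (Subgroup.le_centralizer_iff.1 (hUle.trans inf_le_right))) hfix
  exact Subgroup.commutator_eq_bot_iff_le_centralizer.2 hfin

end Cfsg.Agent.S1851
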