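import Cfsg.Statements.S1892
import Cfsg.Agent.PLocal.PSolvable
import Cfsg.Agent.PLocal.Cores
import Cfsg.Agent.Coprime.Action

set_option autoImplicit false
open Cfsg
open scoped commutatorElement

namespace Cfsg.Agent.S1892

theorem result {S : Type*} [Group S] [Finite S] {p : ℕ} [Fact p.Prime]
    (hS : Cfsg.IsPSolvable p S) (hred : Cfsg.pPrimeCore p S = ⊥)
    (A Q : Subgroup S) (hA : IsPGroup p A) (hQ : ¬ p ∣ Nat.card Q) (hQ1 : Q ≠ ⊥)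
    (hinv : ∀ a ∈ A, ∀ x ∈ Q, a * x * a⁻¹ ∈ Q) (hAQ : ⁅A, Q⁆ = Q) :
    ⁅⁅Cfsg.pCore p S, A⁆, Q⁆ ≠ ⊥ := by
  intro h0
  set P := Cfsg.pCore p S with hP
  have hPn : P.Normal := Subgroup.sSup_normal _ fun _ h => h.1
  set W := ⁅P, A⁆ with hW
  have hWQ : ∀ w ∈ W, ∀ q ∈ Q, q * w * q⁻¹ = w := by
    intro w hw q hq
    have := (Subgroup.commutator_eq_bot_iff_le_centralizer.mp h0) hw q hq
    rw [this, mul_inv_cancel_right]
  have hWP : ∀ d ∈ P, ∀ w ∈ W, d * w * d⁻¹ ∈ W := fun d hd w hw =>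
    (Subgroup.mem_normalizer_iff.mp (Subgroup.normalizer_commutator_ge_left P A hd) w).mp hw
  have hWA : ∀ a ∈ A, ∀ w ∈ W, a * w * a⁻¹ ∈ W := fun a ha w hw =>
    (Subgroup.mem_normalizer_iff.mp (Subgroup.normalizer_commutator_ge_right P A ha) w).mp hw
  -- the elements acting trivially on P/W
  let T : Subgroup S :=
    { carrier := {x | (∀ w, w ∈ W ↔ x * w * x⁻¹ ∈ W) ∧ ∀ d ∈ P, x * d * x⁻¹ * d⁻¹ ∈ W}
      one_mem' := ⟨fun w => by simp, fun d _ => by simp [one_mem]⟩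
      mul_mem' := by
        rintro x y ⟨hx1, hx2⟩ ⟨hy1, hy2⟩
        refine ⟨fun w => ?_, fun d hd => ?_⟩
        · rw [show x * y * w * (x * y)⁻¹ = x * (y * w * y⁻¹) * x⁻¹ by group, ← hx1]
          exact hy1 w
        · rw [show x * y * d * (x * y)⁻¹ * d⁻¹ =
            (x * (y * d * y⁻¹ * d⁻¹) * x⁻¹) * (x * d * x⁻¹ * d⁻¹) by group]
          exact W.mul_mem ((hx1 _).mp (hy2 d hd)) (hx2 d hd)
      inv_mem' := by
        rintro x ⟨hx1, hx2⟩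
        refine ⟨fun w => ?_, fun d hd => ?_⟩
        · rw [hx1 (x⁻¹ * w * x⁻¹⁻¹)]; simp [mul_assoc]
        · rw [hx1]
          rw [show x * (x⁻¹ * d * x⁻¹⁻¹ * d⁻¹) * x⁻¹ = (x * d * x⁻¹ * d⁻¹)⁻¹ by group]
          exact W.inv_mem (hx2 d hd) }
  have hAT : A ≤ T := fun a ha => by
    refine ⟨fun w => ⟨hWA a ha w, fun h => ?_⟩, fun d hd => ?_⟩
    · have := hWA a⁻¹ (A.inv_mem ha) _ h
      simpa [mul_assoc] using this
    · have := W.inv_mem (Subgroup.commutator_mem_commutator hd ha)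
      rwa [commutatorElement_inv, commutatorElement_def] at this
  have hQW : ∀ q ∈ Q, ∀ w : S, w ∈ W ↔ q * w * q⁻¹ ∈ W := by
    intro q hq w
    refine ⟨fun hw => by rw [hWQ w hw q hq]; exact hw, fun h => ?_⟩
    have h1 := hWQ _ h q⁻¹ (Q.inv_mem hq)
    simp [mul_assoc] at h1
    rw [h1]; simpa [mul_assoc] using h
  have hconj : ∀ q ∈ Q, ∀ x ∈ T, q * x * q⁻¹ ∈ T := by
    rintro q hq x ⟨hx1, hx2⟩
    refine ⟨fun w => ?_, fun d hd => ?_⟩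
    · rw [show q * x * q⁻¹ * w * (q * x * q⁻¹)⁻¹ = q * (x * (q⁻¹ * w * q⁻¹⁻¹) * x⁻¹) * q⁻¹ by group,
        ← hQW q hq, ← hx1, ← hQW q⁻¹ (Q.inv_mem hq)]
    · rw [show q * x * q⁻¹ * d * (q * x * q⁻¹)⁻¹ * d⁻¹ =
        q * (x * (q⁻¹ * d * q⁻¹⁻¹) * x⁻¹ * (q⁻¹ * d * q⁻¹⁻¹)⁻¹) * q⁻¹ by group, ← hQW q hq]
      exact hx2 _ (hPn.conj_mem d hd q⁻¹)
  have hQT : Q ≤ T := by
    rw [← hAQ, Subgroup.commutator_le]
    intro a ha q hq
    rw [commutatorElement_def, show a * q * a⁻¹ * q⁻¹ = a * (q * a⁻¹ * q⁻¹) by group]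
    exact T.mul_mem (hAT ha) (hconj q hq _ (T.inv_mem (hAT ha)))
  have hPQ : ⁅P, Q⁆ ≤ W := by
    rw [Subgroup.commutator_le]
    intro d hd q hq
    have := W.inv_mem ((hQT hq).2 d hd)
    rw [commutatorElement_def]
    convert this using 1; group
  have hcop : (Nat.card Q).Coprime (Nat.card P) := by
    obtain ⟨k, hk⟩ := IsPGroup.iff_card.mp (CfsgLib.PLocal.isPGroup_pCore p S)
    rw [hP, hk]
    exact Nat.Coprime.pow_right k ((Nat.Prime.coprime_iff_not_dvd Fact.out).mpr hQ).symm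
  have hQN : Q ≤ Subgroup.normalizer (P : Set S) := by
    rw [Subgroup.normalizer_eq_top]; exact le_top
  have hbot : ⁅⁅P, Q⁆, Q⁆ = ⊥ := le_bot_iff.mp (h0 ▸ Subgroup.commutator_mono hPQ le_rfl)
  have hQC := CfsgLib.Coprime.le_centralizer_of_commutator_commutator_eq_bot hQN hcop hbot
  have hQP : Q ≤ P := hQC.trans (CfsgLib.PLocal.centralizer_pCore_le hS hred)
  apply hQ1
  exact CfsgLib.PLocal.eq_bot_of_isPGroup_of_coprime
    ((CfsgLib.PLocal.isPGroup_pCore p S).to_le hQP) ((CfsgLib.PLocal.not_dvd_iff_coprime).mpr hQ)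

end Cfsg.Agent.S1892
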