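import Cfsg.Statements.S1893
import Cfsg.Agent.HallSCN.Basic

set_option autoImplicit false
open Cfsg

namespace Cfsg.Agent.S1893

/-- Let S be a finite solvable group, π a set of primes containing neither 2 nor 3, H a Hall π-subgroup of S, and A a self-centralizing normal subgroup of the Fitting subgroup F(H). Then C_S(A) = A × D for a normal subgroup D of C_S(A) whose order has no prime divisor in π. -/
theorem result {S : Type*} [Group S] [Finite S] [Group.IsSolvable S]
    (π : Set ℕ) (h2 : 2 ∉ π) (h3 : 3 ∉ π) (H : Subgroup S) (hH : Cfsg.IsPiHall π H)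
    (A : Subgroup S) (hA : Cfsg.IsSCN ((Cfsg.fittingSubgroup H).map H.subtype) A) :
    ∃ D : Subgroup S, D ≤ Subgroup.centralizer (A : Set S) ∧
      (∀ c ∈ Subgroup.centralizer (A : Set S), ∀ d ∈ D, c * d * c⁻¹ ∈ D) ∧
      A ⊓ D = ⊥ ∧ A ⊔ D = Subgroup.centralizer (A : Set S) ∧
      ∀ q : ℕ, q.Prime → q ∣ Nat.card D → q ∉ π := by
  obtain ⟨hle, hinf, hAC⟩ := CfsgLib.HallSCN.centralizer_le_sup h2 h3 hH hA
  set O := Cfsg.piCore {q | q ∉ π} S
  refine ⟨O ⊓ Subgroup.centralizer (A : Set S), inf_le_right, fun c hc d hd => ?_,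
    le_bot_iff.mp ((inf_le_inf_left A inf_le_left).trans hinf.le), ?_, fun q hq hd =>
    CfsgLib.OddOrder.isPiSubgroup_piCore {q | q ∉ π} S q hq
      (hd.trans (Subgroup.card_dvd_of_le inf_le_left))⟩
  · exact Subgroup.mem_inf.mpr ⟨(inferInstance : O.Normal).conj_mem d hd.1 c,
      mul_mem (mul_mem hc hd.2) (inv_mem hc)⟩
  · refine le_antisymm (sup_le hAC inf_le_right) fun c hc => ?_
    have h := hle hc
    rw [← SetLike.mem_coe, Subgroup.mul_normal] at h
    obtain ⟨a, ha, o, ho, rfl⟩ := h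
    have hoC : o ∈ Subgroup.centralizer (A : Set S) := by
      have h' := mul_mem (inv_mem (hAC ha)) hc
      simpa using h'
    exact Subgroup.mul_mem_sup ha (Subgroup.mem_inf.mpr ⟨ho, hoC⟩)

end Cfsg.Agent.S1893
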