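import Cfsg.Statements.S1894
import Mathlib.GroupTheory.PGroup

set_option autoImplicit false
open Cfsg

namespace Cfsg.Agent.S1894

theorem result {P : Type*} [Group P] [Finite P] {p : ℕ} [Fact p.Prime] (hP : IsPGroup p P)
    (A : Subgroup P) [A.Normal] (B : Subgroup P) [B.Normal] (hBA : B ≤ A) (hB : IsMulCommutative B) :
    ∃ C : Subgroup P, C.Normal ∧ B ≤ C ∧ Cfsg.IsSCN A C := by
  set s : Set (Subgroup P) := {C | C.Normal ∧ B ≤ C ∧ C ≤ A ∧ IsMulCommutative C}
  obtain ⟨C, hC⟩ := Set.Finite.exists_maximal (s := s) (Set.toFinite s) ⟨B, inferInstance, le_rfl, hBA, hB⟩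
  obtain ⟨hCn, hBC, hCA, hCc⟩ := hC.prop
  refine ⟨C, hCn, hBC, hCA, ?_, ?_⟩
  · rw [Subgroup.normalizer_eq_top]; exact le_top
  · have hle : C ≤ A ⊓ Subgroup.centralizer (C : Set P) := le_inf hCA fun x hx y hy =>
      congrArg Subtype.val (hCc.is_comm.comm ⟨y, hy⟩ ⟨x, hx⟩)
    refine le_antisymm ?_ hle
    by_contra hne
    have hDn : (A ⊓ Subgroup.centralizer (C : Set P)).Normal := inferInstance
    set D := A ⊓ Subgroup.centralizer (C : Set P) with hD
    set D' := D.map (QuotientGroup.mk' C)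
    have hD'n : D'.Normal := hDn.map _ (QuotientGroup.mk'_surjective C)
    have hD'ne : D' ≠ ⊥ := by
      intro h
      apply hne
      rwa [Subgroup.map_eq_bot_iff, QuotientGroup.ker_mk'] at h
    obtain ⟨z, hz, hz1⟩ : ∃ z, z ∈ D' ⊓ Subgroup.center (P ⧸ C) ∧ z ≠ 1 := by
      have hQ : IsPGroup p (P ⧸ C) := hP.to_quotient C
      have hPc : IsPGroup p (ConjAct (P ⧸ C)) := hQ
      have hpd : p ∣ Nat.card D' := by
        obtain ⟨k, hk⟩ := IsPGroup.iff_card.mp (hQ.to_subgroup D')
        rw [hk]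
        refine dvd_pow_self _ fun h => hD'ne ?_
        rw [h, pow_zero] at hk
        exact Subgroup.card_eq_one.mp hk
      obtain ⟨z, hz, hz1⟩ := hPc.exists_fixed_point_of_prime_dvd_card_of_fixed_point D' hpd
        (a := (1 : D')) (fun g => Subtype.ext (by simp [ConjAct.Subgroup.val_conj_smul, ConjAct.smul_def]))
      refine ⟨z, ⟨z.2, ?_⟩, fun h => hz1 (Subtype.ext h.symm)⟩
      refine Subgroup.mem_center_iff.mpr fun g => ?_
      have h := congrArg Subtype.val (hz (ConjAct.toConjAct g))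
      simp only [ConjAct.Subgroup.val_conj_smul, ConjAct.smul_def, ConjAct.ofConjAct_toConjAct] at h
      exact mul_inv_eq_iff_eq_mul.mp h
    obtain ⟨⟨x, hx, rfl⟩, hzc⟩ := hz
    have hxC : x ∉ C := fun h => hz1 ((QuotientGroup.eq_one_iff x).mpr h)
    set C1 := Subgroup.closure (insert x (C : Set P)) with hC1
    have hCC1 : C ≤ C1 := fun y hy => Subgroup.subset_closure (Set.mem_insert_of_mem _ hy)
    have hC1n : C1.Normal := by
      have hc : ∀ g : P, g * x * g⁻¹ * x⁻¹ ∈ C := by
        intro g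
        have h := Subgroup.mem_center_iff.mp hzc (g : P ⧸ C)
        rw [← QuotientGroup.eq_one_iff (N := C)]
        have h' : (g : P ⧸ C) * (x : P ⧸ C) = (x : P ⧸ C) * (g : P ⧸ C) := h
        simp only [QuotientGroup.mk_mul, QuotientGroup.mk_inv, h']
        group
      refine ⟨fun y hy g => ?_⟩
      induction hy using Subgroup.closure_induction with
      | mem a ha =>
        rcases ha with rfl | ha
        · have := C1.mul_mem (hCC1 (hc g)) (Subgroup.subset_closure (Set.mem_insert _ _))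
          simpa [mul_assoc] using this
        · exact hCC1 (hCn.conj_mem a ha g)
      | one => simp
      | mul a b _ _ ha hb =>
        rw [show g * (a * b) * g⁻¹ = (g * a * g⁻¹) * (g * b * g⁻¹) by group]
        exact C1.mul_mem ha hb
      | inv a _ ha =>
        rw [show g * a⁻¹ * g⁻¹ = (g * a * g⁻¹)⁻¹ by group]
        exact C1.inv_mem ha
    have hC1s : C1 ∈ s := by
      refine ⟨hC1n, hBC.trans hCC1, ?_, ?_⟩
      · rw [hC1, Subgroup.closure_le]
        exact Set.insert_subset hx.1 hCA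
      · apply Subgroup.isMulCommutative_closure
        rintro a (rfl | ha) b (rfl | hb)
        · rfl
        · exact (hx.2 b hb).symm
        · exact hx.2 a ha
        · exact congrArg Subtype.val (hCc.is_comm.comm ⟨a, ha⟩ ⟨b, hb⟩)
    exact hxC (hC.le_of_ge hC1s hCC1 (Subgroup.subset_closure (Set.mem_insert _ _)))

end Cfsg.Agent.S1894
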