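import Cfsg.Statements.S1896
import Cfsg.Agent.FusionMetacyclic.Structure

set_option autoImplicit false
open Cfsg

namespace Cfsg.Agent.S1896

/-- A finite metacyclic 2-group whose automorphism group is not a 2-group is isomorphic to the quaternion group of order 8 or to a homocyclic abelian group Z_{2^n} × Z_{2^n}. -/
theorem result {X : Type*} [Group X] [Finite X] (hX : IsPGroup 2 X)
    (hm : Cfsg.IsMetacyclic X) (hA : ¬ IsPGroup 2 (MulAut X)) :
    Nonempty (X ≃* QuaternionGroup 2) ∨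
      ∃ n : ℕ, Nonempty (X ≃* Multiplicative (ZMod (2 ^ n)) × Multiplicative (ZMod (2 ^ n))) := by
  haveI : Fact (Nat.Prime 2) := ⟨Nat.prime_two⟩
  haveI : Finite (MulAut X) := Finite.of_injective (fun α => (α : X → X)) DFunLike.coe_injective
  by_contra hne
  apply hA
  intro α
  obtain ⟨k, m, hmodd, hkm⟩ := Nat.exists_eq_two_pow_mul_odd (orderOf_pos α).ne'
  refine ⟨k, ?_⟩
  by_contra hα
  have hodd : Odd (orderOf (α ^ (2 ^ k))) := by
    rw [orderOf_pow, hkm, Nat.gcd_eq_right (dvd_mul_right _ _),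
      Nat.mul_div_cancel_left _ (pow_pos two_pos k)]
    exact hmodd
  apply hne
  by_cases hc : IsMulCommutative X
  · obtain ⟨n, ⟨h⟩⟩ := CfsgLib.FusionMetacyclic.homocyclic_of_comm hX hm hodd hα hc.is_comm.comm
    exact Or.inr ⟨n, ⟨h.trans ((AddEquiv.toMultiplicative
      (LinearEquiv.finTwoArrow (ZMod (2 ^ n)) (ZMod (2 ^ n))).toAddEquiv).trans
      (MulEquiv.prodMultiplicative (ZMod (2 ^ n)) (ZMod (2 ^ n))))⟩⟩
  · exact Or.inl (CfsgLib.FusionMetacyclic.quaternion_of_not_comm hX hm hodd hα hc)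

end Cfsg.Agent.S1896
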