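import Cfsg.Statements.S1897
import Cfsg.Agent.UThree.LinearTwoSeven

set_option autoImplicit false
open Cfsg

namespace Cfsg.Agent.S1897

/-- The projective special unitary group PSU₃(3) (realised over the field with 9 elements) has a subgroup isomorphic to PSL₂(7). -/
theorem result {F : Type*} [Field F] [Fintype F] (hF : Fintype.card F = 9)
    {K : Type*} [Field K] [Fintype K] (hK : Fintype.card K = 7) :
    ∃ H : Subgroup (Cfsg.PSU 3 F 3), Nonempty (H ≃* Matrix.ProjectiveSpecialLinearGroup (Fin 2) K) := by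
  haveI : Fact (Nat.Prime 3) := ⟨by norm_num⟩
  haveI : Fact (Nat.Prime 7) := ⟨by norm_num⟩
  haveI : CharP F 3 := charP_of_card_eq_prime_pow (p := 3) (f := 2) (by rw [hF]; norm_num)
  obtain ⟨ι, hι⟩ := CfsgLib.UThree.exists_iota hF
  obtain ⟨φ, hφ⟩ := CfsgLib.UThree.exists_hom_SL_two_seven hι
  let e : K ≃+* ZMod 7 :=
    (ZMod.ringEquivOfPrime K (by norm_num) (by rw [hK])).symm
  let ε : Matrix.SpecialLinearGroup (Fin 2) K ≃* Matrix.SpecialLinearGroup (Fin 2) (ZMod 7) :=
    { Matrix.SpecialLinearGroup.map (n := Fin 2) e.toRingHom with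
      invFun := Matrix.SpecialLinearGroup.map (n := Fin 2) e.symm.toRingHom
      left_inv := fun g => Subtype.ext (by ext i j; exact e.symm_apply_apply _)
      right_inv := fun g => Subtype.ext (by ext i j; exact e.apply_symm_apply _) }
  have hc : Subgroup.center (Cfsg.SU 3 F 3) = ⊥ := by
    apply Subgroup.eq_bot_of_card_eq
    rw [CfsgLib.Forms4.card_center_SU (by rw [hF]; norm_num) (by norm_num)]
    norm_num
  let π := QuotientGroup.mk' (Subgroup.center (Cfsg.SU 3 F 3))
  have hinj : Function.Injective π := (MonoidHom.ker_eq_bot_iff _).1 (by rw [QuotientGroup.ker_mk', hc])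
  let ψ : Matrix.SpecialLinearGroup (Fin 2) K →* Cfsg.PSU 3 F 3 :=
    π.comp (φ.comp ε.toMonoidHom)
  have hker : ψ.ker = Subgroup.center (Matrix.SpecialLinearGroup (Fin 2) K) := by
    ext g
    rw [MonoidHom.mem_ker, Subgroup.mem_center_iff]
    show π (φ (ε g)) = 1 ↔ _
    rw [map_eq_one_iff π hinj, ← MonoidHom.mem_ker, hφ, Subgroup.mem_center_iff]
    constructor
    · intro h x
      exact ε.injective (by rw [map_mul, map_mul]; exact h (ε x))
    · intro h x
      obtain ⟨y, rfl⟩ := ε.surjective x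
      rw [← map_mul, h y, map_mul]
  exact ⟨ψ.range, ⟨((QuotientGroup.quotientMulEquivOfEq hker.symm).trans
    (QuotientGroup.quotientKerEquivRange ψ)).symm⟩⟩

end Cfsg.Agent.S1897
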