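import Cfsg.Statements.S1898

set_option autoImplicit false
open Cfsg
open scoped commutatorElement

namespace Cfsg.Agent.S1898

variable {X : Type*} [Group X]

lemma sq_mul {x y : X} (hc : ⁅y, x⁆ ∈ Subgroup.center X) :
    (x * y) * (x * y) = (x * x) * (y * y) * ⁅y, x⁆ := by
  have h := Subgroup.mem_center_iff.mp hc
  calc (x * y) * (x * y) = x * (⁅y, x⁆ * (x * y * y)) := by rw [commutatorElement_def]; group
    _ = x * (x * y * y * ⁅y, x⁆) := by rw [← h]
    _ = (x * x) * (y * y) * ⁅y, x⁆ := by group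

theorem result {X : Type*} [Group X] [Finite X] (hX : IsPGroup 2 X)
    (hel : Cfsg.IsElementaryAbelian 2 (commutator X)) (hcen : commutator X ≤ Subgroup.center X) :
    (∀ x ∈ Subgroup.closure {g : X | g ^ 4 = 1}, x ^ 4 = 1) ∧
      ∀ φ : MulAut X, (∀ g : X, g ^ 4 = 1 → φ g = g) → ∃ k : ℕ, φ ^ (2 ^ k) = 1 := by
  have hcomm : ∀ a b : X, ⁅a, b⁆ ∈ commutator X := fun a b =>
    Subgroup.commutator_mem_commutator (Subgroup.mem_top a) (Subgroup.mem_top b)
  have hc2 : ∀ c ∈ commutator X, c * c = 1 := by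
    intro c hc
    have := hel.2 c hc
    rwa [pow_two] at this
  have h4 : ∀ a : X, a ^ 4 = (a * a) * (a * a) := fun a => by
    simp [pow_succ, mul_assoc]
  have hmul4 : ∀ a b : X, a ^ 4 = 1 → b ^ 4 = 1 → (a * b) ^ 4 = 1 := by
    intro a b ha hb
    rw [h4, sq_mul (hcen (hcomm b a))]
    have hd := Subgroup.mem_center_iff.mp (hcen (hcomm b a))
    have : a * a * (b * b) * ⁅b, a⁆ * (a * a * (b * b) * ⁅b, a⁆)
        = (a * a * (b * b)) * (a * a * (b * b)) * (⁅b, a⁆ * ⁅b, a⁆) := by
      rw [mul_assoc (a * a * (b * b)) ⁅b, a⁆, ← hd (a * a * (b * b) * ⁅b, a⁆)]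
      group
    rw [this, hc2 _ (hcomm b a), mul_one, sq_mul (hcen (hcomm _ _)), ← h4, ← h4, ha, hb]
    -- squares commute modulo a central involution
    have h1 : ⁅b * b, a * a⁆ = 1 := by
      have e1 : ∀ u v : X, ⁅v, u * u⁆ = 1 := by
        intro u v
        have h := Subgroup.mem_center_iff.mp (hcen (hcomm v u))
        have : ⁅v, u * u⁆ = ⁅v, u⁆ * ⁅v, u⁆ := by
          have e : ⁅v, u * u⁆ = ⁅v, u⁆ * (u * ⁅v, u⁆ * u⁻¹) := by simp only [commutatorElement_def]; group
          rw [e, h u, mul_assoc, mul_inv_cancel, mul_one]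
        rw [this, hc2 _ (hcomm v u)]
      exact e1 a (b * b)
    rw [h1]; simp
  refine ⟨?_, ?_⟩
  · intro x hx
    induction hx using Subgroup.closure_induction with
    | mem g hg => exact hg
    | one => simp
    | mul a b _ _ ha hb => exact hmul4 a b ha hb
    | inv a _ ha => rw [inv_pow, ha, inv_one]
  · intro φ hφ
    obtain ⟨k, m, hm, hkm⟩ := Nat.exists_eq_two_pow_mul_odd (isOfFinOrder_of_finite φ).orderOf_pos.ne'
    refine ⟨k, ?_⟩
    set ψ := φ ^ (2 ^ k) with hψ
    have hψm : ψ ^ m = 1 := by rw [hψ, ← pow_mul, ← hkm, pow_orderOf_eq_one]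
    have hψfix : ∀ j : ℕ, ∀ g : X, g ^ 4 = 1 → (φ ^ j) g = g := by
      intro j
      induction j with
      | zero => simp
      | succ j ih => intro g hg; rw [pow_succ', MulAut.mul_apply, ih g hg, hφ g hg]
    have key : ∀ n : ℕ, ∀ x : X, x ^ (2 ^ n) = 1 → ψ x = x := by
      intro n
      induction n with
      | zero => intro x hx; rw [pow_zero, pow_one] at hx; simp [hx]
      | succ n ih =>
        intro x hx
        have hsq : ψ (x * x) = x * x := ih _ (by rw [← pow_two, ← pow_mul, ← pow_succ']; exact hx)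
        set z := x⁻¹ * ψ x with hz
        have hψx : ψ x = x * z := by rw [hz]; group
        have e : (x * x) * ((z * z) * ⁅z, x⁆) = (x * x) * 1 := by
          rw [← mul_assoc, ← sq_mul (hcen (hcomm z x)), ← hψx, ← map_mul, hsq, mul_one]
        have hzz : z * z = ⁅z, x⁆⁻¹ := eq_inv_of_mul_eq_one_left (mul_left_cancel e)
        have hz4 : z ^ 4 = 1 := by rw [h4, hzz, ← mul_inv_rev, hc2 _ (hcomm z x), inv_one]
        have hzf : ψ z = z := hψfix _ z hz4
        have hpow : ∀ j : ℕ, (ψ ^ j) x = x * z ^ j := by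
          intro j
          induction j with
          | zero => simp
          | succ j ihj =>
            rw [pow_succ', MulAut.mul_apply, ihj, map_mul, map_pow, hzf, hψx, mul_assoc, ← pow_succ']
        have hzm : z ^ m = 1 := by
          have := hpow m
          rw [hψm, MulAut.one_apply] at this
          exact mul_left_cancel (a := x) (by rw [← this, mul_one])
        have hz1 : z = 1 := by
          have hcop : Nat.Coprime m 4 := by
            rw [show (4 : ℕ) = 2 ^ 2 by norm_num]
            exact Nat.Coprime.pow_right 2 ((Nat.coprime_two_right).mpr hm)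
          exact orderOf_eq_one_iff.mp (Nat.eq_one_of_dvd_coprimes hcop (orderOf_dvd_of_pow_eq_one hzm)
            (orderOf_dvd_of_pow_eq_one hz4))
        rw [hψx, hz1, mul_one]
    ext x
    obtain ⟨n, hn⟩ := hX x
    exact key n x hn

end Cfsg.Agent.S1898
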