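import Cfsg.Statements.S1899

set_option autoImplicit false
open Cfsg

namespace Cfsg.Agent.S1899

theorem result {A : Type*} [CommGroup A] [Finite A] (hA : IsPGroup 2 A)
    {n : ℕ} (hn : Odd n) (hn1 : 1 < n) (d t : MulAut A) (hd : d ^ n = 1) (ht : t ^ 2 = 1) (hdt : t * d * t⁻¹ = d⁻¹)
    (hfix : ∀ a : A, d a = a → a = 1) :
    (MulEquiv.toMonoidHom t).eqLocus (MonoidHom.id A) ⊓ ((MulEquiv.toMonoidHom t).eqLocus (MonoidHom.id A)).map d.toMonoidHom = ⊥ ∧
      (MulEquiv.toMonoidHom t).eqLocus (MonoidHom.id A) ⊔ ((MulEquiv.toMonoidHom t).eqLocus (MonoidHom.id A)).map d.toMonoidHom = ⊤ := by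
  set B := (MulEquiv.toMonoidHom t).eqLocus (MonoidHom.id A) with hB
  have hmemB : ∀ a, a ∈ B ↔ t a = a := fun a => Iff.rfl
  have htt : ∀ a, t (t a) = a := fun a => by
    have := DFunLike.congr_fun ht a; rwa [pow_two, MulAut.mul_apply] at this
  have htd : ∀ a, t (d a) = d⁻¹ (t a) := fun a => by
    rw [← MulAut.mul_apply, ← MulAut.mul_apply, ← hdt, inv_mul_cancel_right]
  have hdi : ∀ a, d⁻¹ (d a) = a := fun a => by rw [← MulAut.mul_apply, inv_mul_cancel, MulAut.one_apply]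
  have hid : ∀ a, d (d⁻¹ a) = a := fun a => by rw [← MulAut.mul_apply, mul_inv_cancel, MulAut.one_apply]
  have htdi : ∀ a, t (d⁻¹ a) = d (t a) := fun a => by
    have h := congrArg d (htd (d⁻¹ a))
    rw [hid, hid] at h
    exact h.symm
  have hd2 : ∀ a, d (d a) = a → a = 1 := by
    intro a ha
    apply hfix
    obtain ⟨k, rfl⟩ := hn
    have hk : ∀ j : ℕ, (d ^ (2 * j)) a = a := by
      intro j
      induction j with
      | zero => simp
      | succ j ih =>
        rw [show 2 * (j + 1) = 2 + 2 * j by ring, pow_add, MulAut.mul_apply, ih, pow_two, MulAut.mul_apply, ha]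
    have h := DFunLike.congr_fun hd a
    rwa [pow_succ', MulAut.mul_apply, hk, MulAut.one_apply] at h
  -- the map `b ↦ d b / d⁻¹ b`
  let φ : A →* A := d.toMonoidHom / (d⁻¹).toMonoidHom
  have hφ : ∀ a, φ a = d a / d⁻¹ a := fun a => rfl
  have hφinj : Function.Injective φ := by
    rw [injective_iff_map_eq_one]
    intro a ha
    apply hd2
    rw [hφ, div_eq_one] at ha
    rw [ha, ← MulAut.mul_apply, mul_inv_cancel, MulAut.one_apply]
  have htφ : ∀ a, t (φ a) = (φ (t a))⁻¹ := fun a => by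
    rw [hφ, hφ, map_div, htd, htdi, inv_div]
  refine ⟨?_, ?_⟩
  · rw [eq_bot_iff]
    rintro _ ⟨hxB, b, hb, rfl⟩
    have h1 : t (d b) = d b := hxB
    rw [htd, (hmemB b).mp hb] at h1
    have : d (d b) = b := by rw [← h1, hid]
    rw [hd2 b this]; exact Subgroup.mem_bot.mpr (map_one _)
  · rw [eq_top_iff]
    intro a _
    -- `φ ∘ φ` is bijective on `B`
    have hBB : ∀ b : B, φ (φ b) ∈ B := fun b => by
      rw [hmemB, htφ, htφ, map_inv, inv_inv, (hmemB _).mp b.2]
    let ψ : B → B := fun b => ⟨φ (φ b), hBB b⟩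
    have hψ : Function.Surjective ψ := Finite.surjective_of_injective fun x y h =>
      Subtype.ext (hφinj (hφinj (congrArg Subtype.val h)))
    -- a / t a is of the form φ b
    have hin : φ (a / t a) ∈ B := by
      rw [hmemB, htφ, map_div, htt, map_div, map_div, inv_div]
    obtain ⟨b, hb⟩ := hψ ⟨_, hin⟩
    have hb' : φ b = a / t a := hφinj (congrArg Subtype.val hb)
    refine Subgroup.mem_sup.mpr ⟨a / d b, ?_, d b, ⟨b, b.2, rfl⟩, div_mul_cancel _ _⟩
    rw [hmemB, map_div, htd, (hmemB _).mp b.2, div_eq_div_iff_mul_eq_mul]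
    rw [hφ, div_eq_div_iff_mul_eq_mul] at hb'
    rw [mul_comm, hb', mul_comm]

end Cfsg.Agent.S1899
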