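import Cfsg.Statements.S1900
import Cfsg.Agent.PLocal.Cores
import Cfsg.Agent.Coprime.Action
import Cfsg.Agent.Coprime.Generation

set_option autoImplicit false
open Cfsg
open scoped commutatorElement

namespace Cfsg.Agent.S1900

variable {S : Type*} [Group S]

/-- The inductive step. -/
lemma step (C₁ C₂ X₁ X₂ W' L : Subgroup S) (hLC : L ≤ C₂)
    (hX1 : ∀ x ∈ X₁, ∀ c ∈ C₁, x * c = c * x) (hX2 : ∀ x ∈ X₂, ∀ d ∈ C₂, x * d = d * x)
    (hC1 : ∀ x ∈ X₂, ∀ c ∈ C₁, x * c * x⁻¹ ∈ C₁) (hL : ∀ x ∈ X₁, ∀ d ∈ L, x * d * x⁻¹ ∈ L)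
    (hW'X : ∀ x ∈ X₂, ∀ z ∈ W', x * z * x⁻¹ ∈ W') (hW'C : ∀ c ∈ C₁, ∀ z ∈ W', c * z * c⁻¹ ∈ W')
    (hdisj : C₁ ⊓ C₂ = ⊥)
    (hgen1 : ⁅C₁, X₂⁆ = C₁) (hgenL : ⁅L, X₁⁆ = L)
    (hz : ∀ c ∈ C₁, ∀ d ∈ L, c * d * c⁻¹ * d⁻¹ ∈ W')
    (hdec : ∀ z ∈ W', ∃ z₁ ∈ C₁ ⊓ W', ∃ z₂ ∈ C₂ ⊓ W', z₁ * z₂ = z)
    (hcomm1 : ∀ c ∈ C₁, ∀ z ∈ C₂ ⊓ W', c * z = z * c)
    (hcomm2 : ∀ d ∈ C₂, ∀ z ∈ C₁ ⊓ W', d * z = z * d) :
    ∀ c ∈ C₁, ∀ d ∈ L, c * d = d * c := by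
  -- the commutators lie in `C₁`
  have h1 : ∀ c ∈ C₁, ∀ d ∈ L, c * d * c⁻¹ * d⁻¹ ∈ C₁ ⊓ W' := by
    intro c hc d hd
    let K : Subgroup S :=
      { carrier := {c | c ∈ C₁ ∧ c * d * c⁻¹ * d⁻¹ ∈ C₁}
        one_mem' := ⟨one_mem _, by simp⟩
        mul_mem' := by
          rintro a b ⟨ha, ha'⟩ ⟨hb, hb'⟩
          refine ⟨C₁.mul_mem ha hb, ?_⟩
          rw [show a * b * d * (a * b)⁻¹ * d⁻¹ =
            a * (b * d * b⁻¹ * d⁻¹) * a⁻¹ * (a * d * a⁻¹ * d⁻¹) by group]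
          exact C₁.mul_mem (C₁.mul_mem (C₁.mul_mem ha hb') (C₁.inv_mem ha)) ha'
        inv_mem' := by
          rintro a ⟨ha, ha'⟩
          refine ⟨C₁.inv_mem ha, ?_⟩
          rw [show a⁻¹ * d * a⁻¹⁻¹ * d⁻¹ = a⁻¹ * (a * d * a⁻¹ * d⁻¹)⁻¹ * a by group]
          exact C₁.mul_mem (C₁.mul_mem (C₁.inv_mem ha) (C₁.inv_mem ha')) ha }
    refine ⟨((?_ : C₁ ≤ K) hc).2, hz c hc d hd⟩
    conv_lhs => rw [← hgen1]
    rw [Subgroup.commutator_le]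
    intro a ha x hx
    rw [commutatorElement_def]
    refine ⟨?_, ?_⟩
    · rw [show a * x * a⁻¹ * x⁻¹ = a * (x * a⁻¹ * x⁻¹) by group]
      exact C₁.mul_mem ha (hC1 x hx _ (C₁.inv_mem ha))
    · obtain ⟨z₁, hz₁, z₂, hz₂, hzz⟩ := hdec _ (hz a ha d hd)
      have hxd : x * d = d * x := hX2 x hx d (hLC hd)
      have e1 : a * z₂ = z₂ * a := hcomm1 a ha z₂ hz₂
      have e2 : x * z₂ = z₂ * x := hX2 x hx z₂ hz₂.1
      have ha' : x * a⁻¹ * x⁻¹ ∈ C₁ := hC1 x hx _ (C₁.inv_mem ha)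
      have e3 : (x * a⁻¹ * x⁻¹) * z₂⁻¹ = z₂⁻¹ * (x * a⁻¹ * x⁻¹) :=
        hcomm1 _ ha' z₂⁻¹ ((C₂ ⊓ W').inv_mem hz₂)
      -- commutator of `a⁻¹`
      have hm : (x * a⁻¹ * x⁻¹) * d * (x * a⁻¹ * x⁻¹)⁻¹ * d⁻¹ =
          x * (a⁻¹ * (z₁ * z₂)⁻¹ * a) * x⁻¹ := by
        rw [hzz]
        calc (x * a⁻¹ * x⁻¹) * d * (x * a⁻¹ * x⁻¹)⁻¹ * d⁻¹
            = x * a⁻¹ * (x⁻¹ * (d * x)) * a * x⁻¹ * d⁻¹ := by group
          _ = x * a⁻¹ * d * a * x⁻¹ * d⁻¹ := by rw [← hxd, inv_mul_cancel_left]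
          _ = x * a⁻¹ * d * a * (d * x)⁻¹ := by group
          _ = x * a⁻¹ * d * a * (x * d)⁻¹ := by rw [hxd]
          _ = x * (a⁻¹ * (a * d * a⁻¹ * d⁻¹)⁻¹ * a) * x⁻¹ := by group
      rw [show a * x * a⁻¹ * x⁻¹ * d * (a * x * a⁻¹ * x⁻¹)⁻¹ * d⁻¹ =
          a * ((x * a⁻¹ * x⁻¹) * d * (x * a⁻¹ * x⁻¹)⁻¹ * d⁻¹) * a⁻¹ * (a * d * a⁻¹ * d⁻¹) by group,
        hm, ← hzz]
      set w := x * (a⁻¹ * z₁⁻¹ * a) * x⁻¹ with hw
      have hwC : w ∈ C₁ ⊓ W' := by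
        have hz1' : z₁⁻¹ ∈ C₁ ⊓ W' := (C₁ ⊓ W').inv_mem hz₁
        refine ⟨hC1 x hx _ (C₁.mul_mem (C₁.mul_mem (C₁.inv_mem ha) hz1'.1) ha), hW'X x hx _ ?_⟩
        have := hW'C a⁻¹ (C₁.inv_mem ha) _ hz1'.2
        rwa [inv_inv] at this
      have hinner : x * (a⁻¹ * (z₁ * z₂)⁻¹ * a) * x⁻¹ = z₂⁻¹ * w := by
        have f1 : a⁻¹ * z₂⁻¹ = z₂⁻¹ * a⁻¹ := by
          rw [← mul_inv_rev, ← mul_inv_rev, e1]
        have f2 : x * z₂⁻¹ = z₂⁻¹ * x := by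
          calc x * z₂⁻¹ = z₂⁻¹ * (z₂ * x) * z₂⁻¹ := by group
            _ = z₂⁻¹ * x := by rw [← e2]; group
        calc x * (a⁻¹ * (z₁ * z₂)⁻¹ * a) * x⁻¹ = x * (a⁻¹ * z₂⁻¹) * z₁⁻¹ * a * x⁻¹ := by group
          _ = x * z₂⁻¹ * a⁻¹ * z₁⁻¹ * a * x⁻¹ := by rw [f1]; group
          _ = z₂⁻¹ * w := by rw [f2, hw]; group
      rw [hinner]
      have e4 : a * z₂⁻¹ = z₂⁻¹ * a := hcomm1 a ha _ ((C₂ ⊓ W').inv_mem hz₂)
      have e5 : (a * w * a⁻¹ * z₁) * z₂ = z₂ * (a * w * a⁻¹ * z₁) :=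
        hcomm1 _ (C₁.mul_mem (C₁.mul_mem (C₁.mul_mem ha hwC.1) (C₁.inv_mem ha)) hz₁.1) z₂ hz₂
      rw [show a * (z₂⁻¹ * w) * a⁻¹ * (z₁ * z₂) = (a * z₂⁻¹) * w * a⁻¹ * z₁ * z₂ by group, e4,
        show z₂⁻¹ * a * w * a⁻¹ * z₁ * z₂ = z₂⁻¹ * ((a * w * a⁻¹ * z₁) * z₂) by group, e5,
        inv_mul_cancel_left]
      exact C₁.mul_mem (C₁.mul_mem (C₁.mul_mem ha hwC.1) (C₁.inv_mem ha)) hz₁.1
  intro c hc d hd
  -- `d ↦ [c, d]` is a homomorphism trivial on `[L, X₁]`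
  have hhom : ∀ a ∈ L, ∀ b ∈ L, c * (a * b) * c⁻¹ * (a * b)⁻¹ =
      (c * a * c⁻¹ * a⁻¹) * (c * b * c⁻¹ * b⁻¹) := by
    intro a ha b hb
    have e := hcomm2 a (hLC ha) _ (h1 c hc b hb)
    calc c * (a * b) * c⁻¹ * (a * b)⁻¹
        = (c * a * c⁻¹ * a⁻¹) * (a * (c * b * c⁻¹ * b⁻¹)) * a⁻¹ := by group
      _ = _ := by rw [e]; group
  let K : Subgroup S :=
    { carrier := {a | a ∈ L ∧ c * a * c⁻¹ * a⁻¹ = 1}
      one_mem' := ⟨one_mem _, by group⟩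
      mul_mem' := by
        rintro a b ⟨ha, ha'⟩ ⟨hb, hb'⟩
        exact ⟨L.mul_mem ha hb, by rw [hhom a ha b hb, ha', hb', one_mul]⟩
      inv_mem' := by
        rintro a ⟨ha, ha'⟩
        refine ⟨L.inv_mem ha, ?_⟩
        have := hhom a ha a⁻¹ (L.inv_mem ha)
        rw [ha', one_mul] at this
        rw [← this]; group }
  have hK : L ≤ K := by
    conv_lhs => rw [← hgenL]
    rw [Subgroup.commutator_le]
    intro a ha x hx
    rw [commutatorElement_def]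
    refine ⟨?_, ?_⟩
    · rw [show a * x * a⁻¹ * x⁻¹ = a * (x * a⁻¹ * x⁻¹) by group]
      exact L.mul_mem ha (hL x hx _ (L.inv_mem ha))
    · rw [show a * x * a⁻¹ * x⁻¹ = a * (x * a⁻¹ * x⁻¹) by group,
        hhom a ha _ (hL x hx _ (L.inv_mem ha))]
      have hxc : x * c = c * x := hX1 x hx c hc
      have hxz : x * (c * a⁻¹ * c⁻¹ * a⁻¹⁻¹) = (c * a⁻¹ * c⁻¹ * a⁻¹⁻¹) * x :=
        hX1 x hx _ (h1 c hc _ (L.inv_mem ha)).1
      have e : c * (x * a⁻¹ * x⁻¹) * c⁻¹ * (x * a⁻¹ * x⁻¹)⁻¹ =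
          x * (c * a⁻¹ * c⁻¹ * a⁻¹⁻¹) * x⁻¹ := by
        calc c * (x * a⁻¹ * x⁻¹) * c⁻¹ * (x * a⁻¹ * x⁻¹)⁻¹
            = (c * x) * a⁻¹ * (c * x)⁻¹ * (x * a⁻¹ * x⁻¹)⁻¹ := by group
          _ = x * c * a⁻¹ * (x * c)⁻¹ * (x * a⁻¹ * x⁻¹)⁻¹ := by rw [hxc]
          _ = _ := by group
      rw [e, hxz, mul_inv_cancel_right, ← hhom a ha _ (L.inv_mem ha)]
      group
  have := (hK hd).2
  calc c * d = (c * d * c⁻¹ * d⁻¹) * (d * c) := by group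
    _ = d * c := by rw [this, one_mul]

theorem result {S : Type*} [Group S] [Finite S] {p q : ℕ} [Fact p.Prime] [Fact q.Prime] (hpq : p ≠ q)
    (P : Sylow p S) [(P : Subgroup S).Normal] (Q : Subgroup S) (hQ : Cfsg.IsElementaryAbelian q Q) (hQc : Nat.card Q = q ^ 2)
    (hS : (P : Subgroup S) ⊔ Q = ⊤)
    (X₁ X₂ : Subgroup S) (h₁ : X₁ ≤ Q) (h₂ : X₂ ≤ Q) (h₁₂ : X₁ ≠ X₂) (hc₁ : Nat.card X₁ = q) (hc₂ : Nat.card X₂ = q)
    (hf₁ : (P : Subgroup S) ⊓ Subgroup.centralizer (X₁ : Set S) ≠ ⊥)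
    (hf₂ : (P : Subgroup S) ⊓ Subgroup.centralizer (X₂ : Set S) ≠ ⊥)
    (honly : ∀ X : Subgroup S, X ≤ Q → Nat.card X = q →
      (P : Subgroup S) ⊓ Subgroup.centralizer (X : Set S) ≠ ⊥ → X = X₁ ∨ X = X₂) :
    ⁅(P : Subgroup S) ⊓ Subgroup.centralizer (X₁ : Set S), (P : Subgroup S) ⊓ Subgroup.centralizer (X₂ : Set S)⁆ = ⊥ ∧
      ((P : Subgroup S) ⊓ Subgroup.centralizer (X₁ : Set S)) ⊓ ((P : Subgroup S) ⊓ Subgroup.centralizer (X₂ : Set S)) = ⊥ ∧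
      ((P : Subgroup S) ⊓ Subgroup.centralizer (X₁ : Set S)) ⊔ ((P : Subgroup S) ⊓ Subgroup.centralizer (X₂ : Set S)) = P := by
  set PP : Subgroup S := (P : Subgroup S) with hPP
  set C₁ := PP ⊓ Subgroup.centralizer (X₁ : Set S) with hC1
  set C₂ := PP ⊓ Subgroup.centralizer (X₂ : Set S) with hC2
  have hQab : ∀ a ∈ Q, ∀ b ∈ Q, a * b = b * a := fun a ha b hb =>
    congrArg Subtype.val (hQ.1.is_comm.comm ⟨a, ha⟩ ⟨b, hb⟩)
  have hCQ : ∀ X : Subgroup S, X ≤ Q → ∀ x ∈ Q, ∀ c ∈ PP ⊓ Subgroup.centralizer (X : Set S),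
      x * c * x⁻¹ ∈ PP ⊓ Subgroup.centralizer (X : Set S) := by
    intro X hX x hx c hc
    refine ⟨(inferInstance : PP.Normal).conj_mem c hc.1 x, fun y hy => ?_⟩
    have h1 : Commute y x := hQab y (hX hy) x hx
    exact ((h1.mul_right (hc.2 y hy)).mul_right h1.inv_right)
  have hqp : q.Prime := Fact.out
  have hcopU : ∀ (U X : Subgroup S), U ≤ PP → X ≤ Q → (Nat.card X).Coprime (Nat.card U) := by
    intro U X hU hX
    obtain ⟨k, hk⟩ := IsPGroup.iff_card.mp (P.isPGroup'.to_le hU)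
    rw [hk]
    have : (Nat.card Q).Coprime (p ^ k) := by
      rw [hQc]; exact ((Nat.coprime_primes hqp Fact.out).mpr hpq.symm).pow 2 k
    exact this.coprime_dvd_left (Subgroup.card_dvd_of_le hX)
  have hsolv : ∀ X : Subgroup S, X ≤ Q → Group.IsSolvable X := by
    intro X hX
    exact Group.isSolvable_of_comm fun a b => Subtype.ext (hQab a (hX a.2) b (hX b.2))
  -- a third subgroup
  have hdisj : C₁ ⊓ C₂ = ⊥ := by
    obtain ⟨⟨x₁, hx₁X⟩, hx₁⟩ := (isCyclic_of_prime_card hc₁).exists_generator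
    obtain ⟨⟨x₂, hx₂X⟩, hx₂⟩ := (isCyclic_of_prime_card hc₂).exists_generator
    have hz1 : Subgroup.zpowers x₁ = X₁ := by
      refine le_antisymm (Subgroup.zpowers_le.mpr hx₁X) fun y hy => ?_
      obtain ⟨k, hk⟩ := Subgroup.mem_zpowers_iff.mp (hx₁ ⟨y, hy⟩)
      exact ⟨k, congrArg Subtype.val hk⟩
    have hz2 : Subgroup.zpowers x₂ = X₂ := by
      refine le_antisymm (Subgroup.zpowers_le.mpr hx₂X) fun y hy => ?_
      obtain ⟨k, hk⟩ := Subgroup.mem_zpowers_iff.mp (hx₂ ⟨y, hy⟩)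
      exact ⟨k, congrArg Subtype.val hk⟩
    have hne : x₁ * x₂ ≠ 1 := fun h => h₁₂ (by
      rw [← hz1, ← hz2, eq_inv_of_mul_eq_one_left h, Subgroup.zpowers_inv])
    have hX3 : Nat.card (Subgroup.zpowers (x₁ * x₂)) = q := by
      rw [Nat.card_zpowers, orderOf_eq_prime (hQ.2 _ (Q.mul_mem (h₁ hx₁X) (h₂ hx₂X))) hne]
    by_contra hne'
    have hfix : PP ⊓ Subgroup.centralizer (Subgroup.zpowers (x₁ * x₂) : Set S) ≠ ⊥ := by
      refine ne_bot_of_le_ne_bot hne' ?_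
      rintro z ⟨⟨hzP, hz₁⟩, -, hz₂⟩
      refine ⟨hzP, ?_⟩
      rintro y ⟨k, rfl⟩
      exact ((show Commute x₁ z from hz₁ x₁ hx₁X).mul_left (hz₂ x₂ hx₂X)).zpow_left k
    rcases honly _ (Subgroup.zpowers_le.mpr (Q.mul_mem (h₁ hx₁X) (h₂ hx₂X))) hX3 hfix with h | h
    · apply h₁₂
      refine Subgroup.eq_of_le_of_card_ge ?_ (by rw [hc₁, hc₂]) |>.symm
      have h' : x₁ * x₂ ∈ X₁ := h ▸ Subgroup.mem_zpowers _
      have : x₂ ∈ X₁ := by simpa using X₁.mul_mem (X₁.inv_mem hx₁X) h'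
      rw [← hz2]; exact Subgroup.zpowers_le.mpr this
    · apply h₁₂
      refine Subgroup.eq_of_le_of_card_ge ?_ (by rw [hc₁, hc₂])
      have h' : x₁ * x₂ ∈ X₂ := h ▸ Subgroup.mem_zpowers _
      have : x₁ ∈ X₂ := by simpa using X₂.mul_mem h' (X₂.inv_mem hx₂X)
      rw [← hz1]; exact Subgroup.zpowers_le.mpr this
  -- generation
  have hgen : ∀ U : Subgroup S, U ≤ PP → (∀ x ∈ Q, ∀ u ∈ U, x * u * x⁻¹ ∈ U) →
      U ≤ (C₁ ⊓ U) ⊔ (C₂ ⊓ U) := by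
    intro U hU hUQ
    have : IsMulCommutative Q := hQ.1
    have hncyc : ¬ IsCyclic Q := by
      intro h
      obtain ⟨g, hg⟩ := h.exists_generator
      have := orderOf_eq_card_of_forall_mem_zpowers hg
      have h2 : orderOf g ∣ q := orderOf_dvd_of_pow_eq_one (Subtype.ext (hQ.2 g g.2))
      rw [this, hQc] at h2
      have := Nat.le_of_dvd hqp.pos h2
      nlinarith [hqp.two_le]
    refine CfsgLib.Coprime.le_of_forall_inf_centralizer_le hncyc ?_ (hcopU U Q hU le_rfl) ?_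
    · intro x hx
      rw [Subgroup.mem_normalizer_iff]
      refine fun u => ⟨hUQ x hx u, fun h => ?_⟩
      have := hUQ x⁻¹ (Q.inv_mem hx) _ h
      simpa [mul_assoc] using this
    · intro a ha ha1 z hz
      by_cases hz1 : z = 1
      · rw [hz1]; exact one_mem _
      have hza : z ∈ Subgroup.centralizer (Subgroup.zpowers a : Set S) := by
        rintro y ⟨k, rfl⟩
        exact (show Commute a z from (Subgroup.mem_centralizer_singleton_iff.mp hz.2).symm).zpow_left k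
      have hca : Nat.card (Subgroup.zpowers a) = q := by
        rw [Nat.card_zpowers, orderOf_eq_prime (hQ.2 a ha) ha1]
      have hne : PP ⊓ Subgroup.centralizer (Subgroup.zpowers a : Set S) ≠ ⊥ := fun h =>
        hz1 (Subgroup.mem_bot.mp (h ▸ (⟨hU hz.1, hza⟩ : z ∈ PP ⊓ Subgroup.centralizer (Subgroup.zpowers a : Set S))))
      rcases honly _ (Subgroup.zpowers_le.mpr ha) hca hne with h | h
      · rw [h] at hza; exact Subgroup.mem_sup_left ⟨⟨hU hz.1, hza⟩, hz.1⟩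
      · rw [h] at hza; exact Subgroup.mem_sup_right ⟨⟨hU hz.1, hza⟩, hz.1⟩
  -- the descending central series of P inside S
  let W : ℕ → Subgroup S := fun n => Nat.rec PP (fun _ V => ⁅V, PP⁆) n
  have hW0 : W 0 = PP := rfl
  have hWs : ∀ n, W (n + 1) = ⁅W n, PP⁆ := fun n => rfl
  have hWn : ∀ n, (W n).Normal ∧ W n ≤ PP := by
    intro n
    induction n with
    | zero => exact ⟨(inferInstance : PP.Normal), le_rfl⟩
    | succ n ih =>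
      obtain ⟨h1, h2⟩ := ih
      refine ⟨?_, ?_⟩
      · change (⁅W n, PP⁆).Normal
        exact @Subgroup.commutator_normal S _ (W n) PP h1 inferInstance
      · change ⁅W n, PP⁆ ≤ PP
        exact @Subgroup.commutator_le_right S _ (W n) PP inferInstance
  obtain ⟨N, hN⟩ : ∃ N, W N = ⊥ := by
    have hnil : Group.IsNilpotent PP := P.isPGroup'.isNilpotent
    obtain ⟨N, hN⟩ := Subgroup.nilpotent_iff_lowerCentralSeries.mp hnil
    refine ⟨N, ?_⟩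
    have : ∀ n, W n ≤ ((⊤ : Subgroup PP).lowerCentralSeries n).map PP.subtype := by
      intro n
      induction n with
      | zero => rw [hW0, Subgroup.lowerCentralSeries_zero, ← MonoidHom.range_eq_map, Subgroup.range_subtype]
      | succ n ih =>
        rw [hWs, Subgroup.lowerCentralSeries_succ, Subgroup.map_commutator, ← MonoidHom.range_eq_map,
          Subgroup.range_subtype]
        exact Subgroup.commutator_mono ih le_rfl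
    exact le_bot_iff.mp ((this N).trans (by rw [hN, Subgroup.map_bot]))
  have hgen1 : ∀ (U X : Subgroup S), U ≤ PP → X ≤ Q → (∀ x ∈ X, ∀ u ∈ U, x * u * x⁻¹ ∈ U) →
      U ⊓ Subgroup.centralizer (X : Set S) = ⊥ → ⁅U, X⁆ = U := by
    intro U X hU hX hUX hbot
    have hN : X ≤ Subgroup.normalizer (U : Set S) := by
      intro x hx
      rw [Subgroup.mem_normalizer_iff]
      refine fun u => ⟨hUX x hx u, fun h => ?_⟩
      have := hUX x⁻¹ (X.inv_mem hx) _ h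
      simpa [mul_assoc] using this
    have := CfsgLib.Coprime.commutator_sup_centralizer hN (hcopU U X hU hX) (Or.inl (hsolv X hX))
    rwa [hbot, sup_bot_eq] at this
  have hdisj' : C₂ ⊓ C₁ = ⊥ := inf_comm C₁ C₂ ▸ hdisj
  suffices H : ∀ m n, m + n = N → ∀ c ∈ C₁, ∀ d ∈ C₂, (d ∈ W n → c * d = d * c) ∧ (c ∈ W n → c * d = d * c) by
    have h0 := H N 0 rfl
    refine ⟨?_, hdisj, ?_⟩
    · rw [Subgroup.commutator_eq_bot_iff_le_centralizer]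
      intro c hc d hd
      exact ((h0 c hc d hd).1 hd.1).symm
    · refine le_antisymm (sup_le inf_le_left inf_le_left) ?_
      refine (hgen PP le_rfl fun x _ u hu => (inferInstance : PP.Normal).conj_mem u hu x).trans ?_
      exact sup_le_sup inf_le_left inf_le_left
  intro m
  induction m with
  | zero =>
    intro n hn c hc d hd
    rw [zero_add] at hn; subst hn
    rw [hN]
    exact ⟨fun h => by rw [Subgroup.mem_bot.mp h]; simp, fun h => by rw [Subgroup.mem_bot.mp h]; simp⟩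
  | succ m ih =>
    intro n hn
    have ih := ih (n + 1) (by omega)
    obtain ⟨hn1, hle1⟩ := hWn (n + 1)
    obtain ⟨hn0, hle0⟩ := hWn n
    have hdec : ∀ z ∈ W (n + 1), ∃ z₁ ∈ C₁ ⊓ W (n + 1), ∃ z₂ ∈ C₂ ⊓ W (n + 1), z₁ * z₂ = z := by
      intro z hz
      have h := hgen (W (n + 1)) hle1 (fun x _ u hu => hn1.conj_mem u hu x) hz
      have hcc : C₁ ⊓ W (n + 1) ≤ Subgroup.normalizer ((C₂ ⊓ W (n + 1) : Subgroup S) : Set S) := by
        intro a ha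
        rw [Subgroup.mem_normalizer_iff]
        intro u
        constructor
        · intro hu
          rw [(ih a ha.1 u hu.1).2 ha.2, mul_inv_cancel_right]; exact hu
        · intro hu
          have := (ih a ha.1 _ hu.1).2 ha.2
          have e : a * u * a⁻¹ = u := mul_left_cancel (a := a) (by rw [this]; group)
          rwa [e] at hu
      rw [← SetLike.mem_coe, Subgroup.coe_mul_of_left_le_normalizer_right _ _ hcc] at h
      exact h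
    have hzW : ∀ c ∈ PP, ∀ d ∈ W n, c * d * c⁻¹ * d⁻¹ ∈ W (n + 1) := by
      intro c hc d hd
      rw [hWs, Subgroup.commutator_comm, ← commutatorElement_def]
      exact Subgroup.commutator_mem_commutator hc hd
    have hA : ∀ c ∈ C₁, ∀ d ∈ C₂ ⊓ W n, c * d = d * c := by
      refine step C₁ C₂ X₁ X₂ (W (n + 1)) (C₂ ⊓ W n) inf_le_left
        (fun x hx c hc => hc.2 x hx) (fun x hx d hd => hd.2 x hx)
        (fun x hx => hCQ X₁ h₁ x (h₂ hx))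
        (fun x hx d hd => ⟨hCQ X₂ h₂ x (h₁ hx) d hd.1, hn0.conj_mem d hd.2 x⟩)
        (fun x _ z hz => hn1.conj_mem z hz x) (fun c _ z hz => hn1.conj_mem z hz c)
        hdisj ?_ ?_ (fun c hc d hd => hzW c hc.1 d hd.2) hdec
        (fun c hc z hz => (ih c hc z hz.1).1 hz.2) (fun d hd z hz => ((ih z hz.1 d hd).2 hz.2).symm)
      · exact hgen1 _ _ inf_le_left h₂ (fun x hx => hCQ X₁ h₁ x (h₂ hx)) (le_bot_iff.mp
          (hdisj ▸ fun z hz => ⟨hz.1, hz.1.1, hz.2⟩))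
      · refine hgen1 _ _ (inf_le_left.trans inf_le_left) h₁
          (fun x hx d hd => ⟨hCQ X₂ h₂ x (h₁ hx) d hd.1, hn0.conj_mem d hd.2 x⟩) (le_bot_iff.mp ?_)
        exact hdisj' ▸ fun z hz => ⟨hz.1.1, hz.1.1.1, hz.2⟩
    have hB : ∀ d ∈ C₂, ∀ c ∈ C₁ ⊓ W n, d * c = c * d := by
      refine step C₂ C₁ X₂ X₁ (W (n + 1)) (C₁ ⊓ W n) inf_le_left
        (fun x hx d hd => hd.2 x hx) (fun x hx c hc => hc.2 x hx)
        (fun x hx => hCQ X₂ h₂ x (h₁ hx))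
        (fun x hx d hd => ⟨hCQ X₁ h₁ x (h₂ hx) d hd.1, hn0.conj_mem d hd.2 x⟩)
        (fun x _ z hz => hn1.conj_mem z hz x) (fun c _ z hz => hn1.conj_mem z hz c)
        hdisj' ?_ ?_ (fun c hc d hd => hzW c hc.1 d hd.2) ?_
        (fun d hd z hz => ((ih z hz.1 d hd).2 hz.2).symm) (fun c hc z hz => (ih c hc z hz.1).1 hz.2)
      · exact hgen1 _ _ inf_le_left h₁ (fun x hx => hCQ X₂ h₂ x (h₁ hx)) (le_bot_iff.mp
          (hdisj' ▸ fun z hz => ⟨hz.1, hz.1.1, hz.2⟩))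
      · refine hgen1 _ _ (inf_le_left.trans inf_le_left) h₂
          (fun x hx d hd => ⟨hCQ X₁ h₁ x (h₂ hx) d hd.1, hn0.conj_mem d hd.2 x⟩) (le_bot_iff.mp ?_)
        exact hdisj ▸ fun z hz => ⟨hz.1.1, hz.1.1.1, hz.2⟩
      · intro z hz
        obtain ⟨z₁, hz₁, z₂, hz₂, rfl⟩ := hdec z hz
        exact ⟨z₂, hz₂, z₁, hz₁, ((ih z₁ hz₁.1 z₂ hz₂.1).2 hz₁.2).symm⟩
    exact fun c hc d hd => ⟨fun h => hA c hc d ⟨hd, h⟩, fun h => (hB d hd c ⟨hc, h⟩).symm⟩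

end Cfsg.Agent.S1900
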