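import Cfsg.Statements.S1901
import Cfsg.Agent.PLocal.PSolvable

set_option autoImplicit false
open Cfsg

namespace Cfsg.Agent.S1901

universe u

open Subgroup in
/-- In a `p`-solvable group, a `p'`-subgroup normalising a Sylow `p`-subgroup is centralised by each
`p`-element normalising it. -/
theorem mem_centralizer_of_le_normalizer_sylow {p : ℕ} [Fact p.Prime] {G : Type u} [Group G] [Finite G]
    (hG : Cfsg.IsPSolvable p G) (Q : Subgroup G) (hQ : (Nat.card Q).Coprime p) (P : Sylow p G)
    (hQP : Q ≤ normalizer ((P : Subgroup G) : Set G)) (x : G) (hx : x ∈ normalizer (Q : Set G))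
    (hxp : ∃ k : ℕ, x ^ p ^ k = 1) : x ∈ centralizer (Q : Set G) := by
  induction hn : Nat.card G using Nat.strong_induction_on generalizing G with
  | _ n ih =>
  obtain ⟨k, hk⟩ := hxp
  by_cases hT : Subsingleton G
  · intro q _; exact Subsingleton.elim _ _
  have : Nontrivial G := not_subsingleton_iff_nontrivial.mp hT
  have key : ∀ (N : Subgroup G) [N.Normal], N ≠ ⊥ → ∀ q ∈ Q, x * q * x⁻¹ * q⁻¹ ∈ Q ⊓ N := by
    intro N _ hN q hq
    refine mem_inf.mpr ⟨mul_mem ((mem_normalizer_iff.mp hx q).mp hq) (inv_mem hq), ?_⟩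
    have hlt : Nat.card (G ⧸ N) < n := by
      rw [← hn, Subgroup.card_eq_card_quotient_mul_card_subgroup N]
      exact lt_mul_of_one_lt_right Nat.card_pos (Finite.one_lt_card_iff_nontrivial.mpr
        ((nontrivial_iff_ne_bot _).mpr hN))
    have h := ih _ hlt (CfsgLib.PLocal.isPSolvable_quotient hG N) (Q.map (QuotientGroup.mk' N))
      (hQ.coprime_dvd_left (card_map_dvd _ _)) (P.mapSurjective (QuotientGroup.mk'_surjective N))
      (by rw [Sylow.coe_mapSurjective]; exact (map_mono hQP).trans (le_normalizer_map _))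
      (QuotientGroup.mk' N x) (le_normalizer_map _ (mem_map_of_mem _ hx))
      ⟨k, by rw [← map_pow, hk, map_one]⟩ rfl (QuotientGroup.mk' N q) (mem_map_of_mem _ hq)
    rw [← QuotientGroup.eq_one_iff]
    show QuotientGroup.mk' N (x * q * x⁻¹ * q⁻¹) = 1
    rw [map_mul, map_mul, map_mul, map_inv, map_inv, ← h]
    group
  intro q hq
  rcases CfsgLib.PLocal.pCore_ne_bot_or_of_isPSolvable hG with hU | hN
  · have := key _ hU q hq
    rw [inf_comm, CfsgLib.PLocal.disjoint_of_isPGroup_of_coprime (CfsgLib.PLocal.isPGroup_pCore p G) hQ] at this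
    exact (mul_inv_eq_iff_eq_mul.mp (mul_inv_eq_one.mp (mem_bot.mp this))).symm
  · set N := Cfsg.pPrimeCore p G
    have hD := key N hN
    set D := Q ⊓ N with hDdef
    have hPD : (P : Subgroup G) ≤ centralizer (D : Set G) := by
      intro r hr d hd
      have h1 : d * r * d⁻¹ * r⁻¹ ∈ (P : Subgroup G) ⊓ N := by
        refine mem_inf.mpr ⟨mul_mem ((mem_normalizer_iff.mp (hQP hd.1) r).mp hr) (inv_mem hr), ?_⟩
        rw [show d * r * d⁻¹ * r⁻¹ = d * (r * d⁻¹ * r⁻¹) by group]
        exact mul_mem hd.2 ((inferInstance : N.Normal).conj_mem _ (inv_mem hd.2) r)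
      rw [(CfsgLib.PLocal.disjoint_of_isPGroup_of_coprime P.isPGroup'
        (CfsgLib.PLocal.coprime_card_pPrimeCore p G))] at h1
      exact mul_inv_eq_iff_eq_mul.mp (mul_inv_eq_one.mp (mem_bot.mp h1))
    have hxD : x ∈ normalizer (D : Set G) := by
      refine inf_normalizer_le_normalizer_inf ⟨hx, ?_⟩
      rw [normalizer_eq_top]; exact mem_top x
    set M := normalizer (D : Set G)
    have hPM : (P : Subgroup G) ≤ M := hPD.trans (centralizer_le_normalizer _)
    have hxM : IsPGroup p (zpowers (⟨x, hxD⟩ : M)) := by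
      obtain ⟨j, -, hj⟩ := (Nat.dvd_prime_pow (Fact.out : p.Prime)).mp
        (orderOf_dvd_of_pow_eq_one (show (⟨x, hxD⟩ : M) ^ p ^ k = 1 from Subtype.ext hk))
      exact IsPGroup.of_card ((Nat.card_zpowers _).trans hj)
    obtain ⟨R, hR⟩ := hxM.exists_le_sylow
    obtain ⟨g, hg⟩ := MulAction.exists_smul_eq M (P.subtype hPM) R
    have hxC : x ∈ centralizer (D : Set G) := by
      have h1 : (⟨x, hxD⟩ : M) ∈ (R : Subgroup M) := hR (mem_zpowers _)
      rw [← hg, Sylow.smul_def, Sylow.pointwise_smul_def] at h1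
      obtain ⟨r, hr, hrx⟩ := h1
      intro d hd
      have hd' : (g : G)⁻¹ * d * g ∈ D := (mem_normalizer_iff''.mp g.2 d).mp hd
      have h2 := hPD (show (r : G) ∈ (P : Subgroup G) from hr) _ hd'
      have hxe : x = (g : G) * r * (g : G)⁻¹ := congrArg Subtype.val hrx.symm
      calc d * x = g * (((g : G)⁻¹ * d * g) * r) * (g : G)⁻¹ := by rw [hxe]; group
        _ = g * (r * ((g : G)⁻¹ * d * g)) * (g : G)⁻¹ := by rw [h2]
        _ = x * d := by rw [hxe]; group
    obtain ⟨c, hc⟩ : ∃ c, c = x * q * x⁻¹ * q⁻¹ := ⟨_, rfl⟩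
    have hcD : c ∈ D := hc ▸ hD q hq
    have hcx : c * x = x * c := hxC c hcD
    have hpow : ∀ j : ℕ, x ^ j * q = c ^ j * q * x ^ j := by
      intro j
      induction j with
      | zero => simp
      | succ j ihj =>
        have h1 : x * c ^ j = c ^ j * x := ((show Commute c x from hcx).pow_left j).eq.symm
        have h2 : x * q = c * q * x := by rw [hc]; group
        calc x ^ (j + 1) * q = x * (x ^ j * q) := by rw [pow_succ', mul_assoc]
          _ = (x * c ^ j) * q * x ^ j := by rw [ihj]; group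
          _ = c ^ j * (x * q) * x ^ j := by rw [h1]; group
          _ = c ^ j * c * q * (x * x ^ j) := by rw [h2]; group
          _ = c ^ (j + 1) * q * x ^ (j + 1) := by rw [pow_succ, ← pow_succ']
    have h1 := hpow (p ^ k)
    rw [hk, one_mul, mul_one] at h1
    have hc1 : c ^ p ^ k = 1 := mul_right_cancel (b := q) (by rw [one_mul]; exact h1.symm)
    have hc2 : c = 1 := orderOf_eq_one_iff.mp (Nat.eq_one_of_dvd_coprimes (hQ.pow_right k)
      (Subgroup.orderOf_dvd_natCard _ hcD.1) (orderOf_dvd_of_pow_eq_one hc1))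
    exact (mul_inv_eq_iff_eq_mul.mp (mul_inv_eq_one.mp (hc.symm.trans hc2))).symm

/-- Let G be a finite p-solvable group and Q a subgroup of order prime to p such that p divides the index of C_G(Q) in N_G(Q). Then Q normalizes no Sylow p-subgroup of G. -/
theorem result {G : Type*} [Group G] [Finite G] {p : ℕ} [Fact p.Prime]
    (hG : Cfsg.IsPSolvable p G) (Q : Subgroup G) (hQ : ¬ p ∣ Nat.card Q)
    (hA : p ∣ (Subgroup.centralizer (Q : Set G)).relIndex (Subgroup.normalizer (Q : Set G)))
    (P : Sylow p G) : ¬ Q ≤ Subgroup.normalizer ((P : Subgroup G) : Set G) := by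
  intro hQP
  obtain ⟨R⟩ : Nonempty (Sylow p ↥(Subgroup.normalizer (Q : Set G))) := inferInstance
  have hle : (R : Subgroup ↥(Subgroup.normalizer (Q : Set G))) ≤
      (Subgroup.centralizer (Q : Set G)).subgroupOf (Subgroup.normalizer (Q : Set G)) := by
    intro r hr
    obtain ⟨k, hk⟩ := R.isPGroup' ⟨r, hr⟩
    exact mem_centralizer_of_le_normalizer_sylow hG Q (CfsgLib.PLocal.not_dvd_iff_coprime.mpr hQ) P hQP
      r r.2 ⟨k, congrArg (fun y : (R : Subgroup ↥(Subgroup.normalizer (Q : Set G))) =>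
        ((y : ↥(Subgroup.normalizer (Q : Set G))) : G)) hk⟩
  exact R.not_dvd_index (hA.trans (Subgroup.index_dvd_of_le hle))

end Cfsg.Agent.S1901
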