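import Cfsg.Statements.S1902
import Cfsg.Agent.PLocal.PSolvable
import Cfsg.Agent.PLocal.Constraint
import Cfsg.Agent.OddOrder.BG1Stab
import Cfsg.Agent.Coprime.PTimesQ
import Cfsg.Agent.Solvable.Frattini

set_option autoImplicit false
open Cfsg

namespace Cfsg.Agent.S1902

open Subgroup
open scoped commutatorElement

section Linear

variable {p : ℕ} [Fact p.Prime] {V : Type*} [AddCommGroup V] [Module (ZMod p) V] [Finite V]

/-- A `p`-element acting fixed point freely on a `p'`-group `Q`, both acting on `V` with `C_V(Q) = 0`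
and with at most one Jordan block, leaves no nonzero alternating invariant form. -/
theorem form_eq_zero (hp : p ≠ 2) {Q : Type*} [Group Q] [Finite Q] (hQ : (Nat.card Q).Coprime p)
    (ρ : Q →* Module.End (ZMod p) V) (T : Module.End (ZMod p) V) (σ : Q →* Q)
    (hT : T ^ p = 1) (hcompat : ∀ q, T * ρ q = ρ (σ q) * T)
    (hfpf : ∀ i, 0 < i → i < p → ∀ q, (⇑σ)^[i] q = q → q = 1)
    (hfix : ∀ v : V, (∀ q, ρ q v = v) → v = 0)
    (hker : Module.finrank (ZMod p) (LinearMap.ker (T - 1)) ≤ 1)
    (β : LinearMap.BilinForm (ZMod p) V) (halt : ∀ v, β v v = 0)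
    (hρ : ∀ q v w, β (ρ q v) (ρ q w) = β v w) (hTβ : ∀ v w, β (T v) (T w) = β v w) : β = 0 := by
  classical
  have hpr : p.Prime := Fact.out
  have : Module.Finite (ZMod p) V := Module.Finite.of_finite
  have : Fintype Q := Fintype.ofFinite Q
  have hTi : ∀ (i : ℕ) (q : Q), T ^ i * ρ q = ρ ((⇑σ)^[i] q) * T ^ i := by
    intro i
    induction i with
    | zero => intro q; simp
    | succ i ih =>
      intro q
      calc T ^ (i + 1) * ρ q = T ^ i * (T * ρ q) := by rw [pow_succ, mul_assoc]
        _ = (T ^ i * ρ (σ q)) * T := by rw [hcompat, mul_assoc]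
        _ = ρ ((⇑σ)^[i + 1] q) * T ^ (i + 1) := by
          rw [ih, mul_assoc, ← pow_succ, Function.iterate_succ_apply]
  have hsum : ∑ q, ρ q = 0 := by
    ext v
    apply hfix
    intro r
    rw [LinearMap.sum_apply, map_sum]
    refine Fintype.sum_equiv (Equiv.mulLeft r) _ _ fun q => ?_
    rw [← Module.End.mul_apply, ← map_mul]
    rfl
  have hN : ∑ q, ρ q * (∑ i ∈ Finset.range p, T ^ i) * ρ q⁻¹ =
      (Nat.card Q : Module.End (ZMod p) V) := by
    simp_rw [Finset.mul_sum, Finset.sum_mul]
    rw [Finset.sum_comm, Finset.sum_eq_single 0]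
    · simp [← map_mul, Nat.card_eq_fintype_card]
    · intro i hi hi0
      have hinj : Function.Injective fun q : Q => q * (⇑σ)^[i] q⁻¹ := by
        intro a b h
        simp only at h
        have h1 : (⇑σ)^[i] (b⁻¹ * a) = b⁻¹ * a := by
          rw [iterate_map_mul, iterate_map_inv]
          rw [iterate_map_inv, iterate_map_inv, mul_inv_eq_iff_eq_mul] at h
          conv_rhs => rw [h]
          group
        exact (inv_mul_eq_one.mp (hfpf i (Nat.pos_of_ne_zero hi0) (Finset.mem_range.mp hi) _ h1)).symm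
      calc ∑ q, ρ q * T ^ i * ρ q⁻¹ = ∑ q, ρ (q * (⇑σ)^[i] q⁻¹) * T ^ i := by
            refine Finset.sum_congr rfl fun q _ => ?_
            rw [mul_assoc, hTi, map_mul, mul_assoc]
        _ = (∑ q, ρ q) * T ^ i := by
            rw [Finset.sum_mul]
            exact Fintype.sum_equiv (Equiv.ofBijective _ (Finite.injective_iff_bijective.mp hinj)) _ _
              fun q => rfl
        _ = 0 := by rw [hsum, zero_mul]
    · intro h; exact absurd (Finset.mem_range.mpr hpr.pos) h
  set L := T - 1 with hL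
  have hLN : L ^ (p - 1) = ∑ i ∈ Finset.range p, T ^ i := by
    have h1 : (Polynomial.X - 1 : Polynomial (ZMod p)) ^ (p - 1) =
        ∑ i ∈ Finset.range p, Polynomial.X ^ i := by
      refine mul_right_cancel₀ (Polynomial.X_sub_C_ne_zero 1) ?_
      rw [map_one, geom_sum_mul, ← pow_succ, Nat.sub_add_cancel hpr.one_le, sub_pow_char, one_pow]
    simpa [hL] using congrArg (Polynomial.aeval T) h1
  have hLp : L ^ p = 0 := by
    have h1 : (Polynomial.X - 1 : Polynomial (ZMod p)) ^ p = Polynomial.X ^ p - 1 := by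
      rw [sub_pow_char, one_pow]
    have h2 := congrArg (Polynomial.aeval T) h1
    simp only [map_pow, map_sub, Polynomial.aeval_X, map_one, hT, sub_self] at h2
    exact h2
  have hkerle : ∀ k, Module.finrank (ZMod p) (LinearMap.ker (L ^ k)) ≤ k := by
    intro k
    induction k with
    | zero => simp [Module.End.one_eq_id, LinearMap.ker_id]
    | succ k ih =>
      let f : LinearMap.ker (L ^ (k + 1)) →ₗ[ZMod p] V := (L ^ k).domRestrict _
      have h1 := f.finrank_range_add_finrank_ker
      have h2 : Module.finrank (ZMod p) (LinearMap.range f) ≤ 1 := by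
        refine (Submodule.finrank_mono ?_).trans hker
        rintro _ ⟨⟨v, hv⟩, rfl⟩
        rw [LinearMap.mem_ker, pow_succ', Module.End.mul_apply] at hv
        exact hv
      have h3 : Module.finrank (ZMod p) (LinearMap.ker f) ≤
          Module.finrank (ZMod p) (LinearMap.ker (L ^ k)) :=
        LinearMap.finrank_le_finrank_of_injective
          (f := ((LinearMap.ker (L ^ (k + 1))).subtype.comp (LinearMap.ker f).subtype).codRestrict
            (LinearMap.ker (L ^ k)) fun v => v.2)
          fun a b h => Subtype.ext (Subtype.ext (congrArg (fun z : LinearMap.ker (L ^ k) => (z : V)) h))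
      omega
  have hV : Module.finrank (ZMod p) V ≤ p := by
    have := hkerle p
    rwa [hLp, LinearMap.ker_zero, finrank_top] at this
  have hW : ∀ W : Submodule (ZMod p) V, (∀ q, ∀ w ∈ W, ρ q w ∈ W) → (∀ w ∈ W, T w ∈ W) → W ≠ ⊥ →
      p ≤ Module.finrank (ZMod p) W := by
    intro W hWq hWT hW0
    obtain ⟨w, hw, hw1⟩ : ∃ w ∈ W, (L ^ (p - 1)) w ≠ 0 := by
      by_contra! hall
      obtain ⟨w, hw, hw0⟩ := W.ne_bot_iff.mp hW0
      apply hw0
      have h1 := LinearMap.congr_fun hN w
      rw [← hLN, LinearMap.sum_apply] at h1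
      simp only [Module.End.mul_apply] at h1
      rw [Finset.sum_eq_zero (fun q _ => by rw [hall _ (hWq _ _ hw), map_zero]),
        Module.End.natCast_apply, ← Nat.cast_smul_eq_nsmul (ZMod p)] at h1
      exact (smul_eq_zero.mp h1.symm).resolve_left fun h =>
        CfsgLib.PLocal.not_dvd_iff_coprime.mp hQ ((ZMod.natCast_eq_zero_iff _ _).mp h)
    have hWL : ∀ i, (L ^ i) w ∈ W := by
      intro i
      induction i with
      | zero => simpa using hw
      | succ i ih =>
        rw [pow_succ', Module.End.mul_apply, hL, LinearMap.sub_apply, Module.End.one_apply]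
        exact W.sub_mem (hWT _ ih) ih
    have hchain : ∀ k, k ≤ p → k ≤ Module.finrank (ZMod p) ↥(W ⊓ LinearMap.ker (L ^ k)) := by
      intro k
      induction k with
      | zero => intro _; exact Nat.zero_le _
      | succ k ih =>
        intro hk
        refine lt_of_le_of_lt (ih (by omega)) (Submodule.finrank_lt_finrank_of_lt ?_)
        refine lt_of_le_of_ne (inf_le_inf_left W fun v hv => ?_) fun he => ?_
        · rw [LinearMap.mem_ker, pow_succ', Module.End.mul_apply, LinearMap.mem_ker.mp hv, map_zero]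
        · have hmem : (L ^ (p - 1 - k)) w ∈ W ⊓ LinearMap.ker (L ^ (k + 1)) := by
            refine ⟨hWL _, ?_⟩
            show (L ^ (k + 1)) ((L ^ (p - 1 - k)) w) = 0
            rw [← Module.End.mul_apply, ← pow_add, show k + 1 + (p - 1 - k) = p by omega, hLp,
              LinearMap.zero_apply]
          rw [← he] at hmem
          have h2 := LinearMap.mem_ker.mp hmem.2
          rw [← Module.End.mul_apply, ← pow_add, show k + (p - 1 - k) = p - 1 by omega] at h2
          exact hw1 h2
    exact (hchain p le_rfl).trans (Submodule.finrank_mono inf_le_left)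
  by_cases hK : LinearMap.ker β = ⊥
  · by_cases htriv : Subsingleton V
    · ext v w; simp [Subsingleton.elim v 0]
    have : Nontrivial V := not_subsingleton_iff_nontrivial.mp htriv
    have hdim : Module.finrank (ZMod p) V = p := by
      refine le_antisymm hV ?_
      have := hW ⊤ (fun _ _ _ => Submodule.mem_top) (fun _ _ => Submodule.mem_top) top_ne_bot
      rwa [finrank_top] at this
    exfalso
    let b := Module.finBasisOfFinrankEq (ZMod p) V hdim
    set A := LinearMap.BilinForm.toMatrix b β with hA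
    have hnd : A.det ≠ 0 :=
      (LinearMap.BilinForm.nondegenerate_iff_det_ne_zero b).mp
        (LinearMap.BilinForm.nondegenerate_iff_ker_eq_bot.mpr hK)
    have hsk : A.transpose = -A := by
      ext i j
      simp only [hA, Matrix.transpose_apply, Matrix.neg_apply, LinearMap.BilinForm.toMatrix_apply]
      have h := halt (b i + b j)
      simp only [map_add, LinearMap.add_apply, halt, zero_add, add_zero] at h
      exact eq_neg_of_add_eq_zero_left h
    have hdet : A.det = -A.det := by
      conv_lhs => rw [← Matrix.det_transpose, hsk, Matrix.det_neg, Fintype.card_fin,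
        (hpr.odd_of_ne_two hp).neg_one_pow, neg_one_mul]
    have h2 : (2 : ZMod p) * A.det = 0 := by rw [two_mul]; exact eq_neg_iff_add_eq_zero.mp hdet
    rcases mul_eq_zero.mp h2 with h | h
    · have : p ∣ 2 := (ZMod.natCast_eq_zero_iff 2 p).mp (by exact_mod_cast h)
      exact hp ((Nat.prime_dvd_prime_iff_eq hpr Nat.prime_two).mp this)
    · exact hnd h
  · have hdim := hW (LinearMap.ker β)
      (fun q v hv => LinearMap.mem_ker.mpr (LinearMap.ext fun w => by
        have h1 := hρ q v (ρ q⁻¹ w)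
        rw [← Module.End.mul_apply, ← map_mul, mul_inv_cancel, map_one, Module.End.one_apply] at h1
        rw [h1, LinearMap.mem_ker.mp hv, LinearMap.zero_apply, LinearMap.zero_apply]))
      (fun v hv => LinearMap.mem_ker.mpr (LinearMap.ext fun w => by
        have hw : T ((T ^ (p - 1)) w) = w := by
          rw [← Module.End.mul_apply, ← pow_succ', Nat.sub_add_cancel hpr.one_le, hT, Module.End.one_apply]
        rw [← hw, hTβ, LinearMap.mem_ker.mp hv, LinearMap.zero_apply, LinearMap.zero_apply])) hK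
    have := Submodule.eq_top_of_finrank_eq (K := ZMod p) (S := LinearMap.ker β)
      (le_antisymm (Submodule.finrank_le _) (hV.trans hdim))
    exact LinearMap.ker_eq_top.mp this

end Linear

universe u

variable {G : Type u} [Group G] [Finite G] {p : ℕ} [Fact p.Prime]

/-- For odd `p`, a product of two elements of order dividing `p` with central commutator has order
dividing `p`. -/
theorem mul_pow_eq_one_of_class_two (hp : p ≠ 2) {x y : G} (hx : x ^ p = 1) (hy : y ^ p = 1)
    (hcx : Commute ⁅y, x⁆ x) (hcy : Commute ⁅y, x⁆ y) : (x * y) ^ p = 1 := by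
  obtain ⟨c, hc⟩ : ∃ c, c = ⁅y, x⁆ := ⟨_, rfl⟩
  rw [← hc] at hcx hcy
  have h1 : y * x * y⁻¹ = c * x := by rw [hc, commutatorElement_def]; group
  have hy' : ∀ n : ℕ, y ^ n * x = c ^ n * x * y ^ n := fun n => by
    have := CfsgLib.OddOrder.Stab.commutator_pow_eq hcy.symm h1 n
    rw [← this]; group
  have hcp : c ^ p = 1 := by
    have := hy' p
    rw [hy, one_mul, mul_one] at this
    exact right_eq_mul.mp this
  have h : ∀ n : ℕ, (x * y) ^ n = c ^ n.choose 2 * x ^ n * y ^ n := by
    intro n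
    induction n with
    | zero => simp
    | succ n ih =>
      calc (x * y) ^ (n + 1) = c ^ n.choose 2 * x ^ n * (y ^ n * x) * y := by
            rw [pow_succ, ih]; group
        _ = c ^ n.choose 2 * (x ^ n * c ^ n) * x * (y ^ n * y) := by rw [hy']; group
        _ = c ^ n.choose 2 * (c ^ n * x ^ n) * x * (y ^ n * y) := by rw [(hcx.symm.pow_pow n n).eq]
        _ = c ^ (n + 1).choose 2 * x ^ (n + 1) * y ^ (n + 1) := by
          rw [Nat.choose_succ_succ n 1, Nat.choose_one_right, pow_add, ← pow_succ y,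
            (Commute.pow_pow_self c n (n.choose 2)).eq, pow_succ x]
          group
  obtain ⟨m, hm⟩ := (Fact.out : p.Prime).dvd_choose_self (k := 2) (by omega)
    (lt_of_le_of_ne (Fact.out : p.Prime).two_le (Ne.symm hp))
  rw [h, hx, hy, hm, pow_mul, hcp, one_pow, one_mul, one_mul]

/-- The conjugation action on the abelianisation. -/
noncomputable def abConj (S : Subgroup G) (g : ↥(normalizer (S : Set G))) :
    Abelianization ↥S →* Abelianization ↥S :=
  Abelianization.map (S.normalizerMonoidHom g).toMonoidHom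

omit [Finite G] [Fact p.Prime] in
theorem abConj_of (S : Subgroup G) (g : ↥(normalizer (S : Set G))) (s : ↥S) :
    abConj S g (Abelianization.of s) =
      Abelianization.of ⟨(g : G) * s * (g : G)⁻¹, (mem_normalizer_iff.mp g.2 s).mp s.2⟩ := rfl

/-- The main configuration: `b` of order `p` with small centraliser in `S`. -/
theorem class_two_false (hp : p ≠ 2) {S Q : Subgroup G} {b : G} (hS : IsPGroup p S)
    (hQ : (Nat.card Q).Coprime p) (hQS : Q ≤ normalizer (S : Set G)) (hbS : b ∈ normalizer (S : Set G))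
    (hbQ : b ∈ normalizer (Q : Set G)) (hbp : b ^ p = 1)
    (hfpf : ∀ q ∈ Q, b * q = q * b → q = 1)
    (hexp : ∀ x ∈ S, x ^ p = 1) (hgen : ⁅S, Q⁆ = S) (hS1 : S ≠ ⊥)
    (hcent : ⁅⁅S, S⁆, S⁆ = ⊥) (hQc : Q ≤ centralizer ((⁅S, S⁆ : Subgroup G) : Set G))
    (hsmall : Nat.card ↥(S ⊓ centralizer ({b} : Set G)) ≤ p)
    (hQz : Q ≤ centralizer ((S ⊓ centralizer ({b} : Set G) : Subgroup G) : Set G)) : False := by
  classical
  have hpr : p.Prime := Fact.out
  have hpowV : ∀ v : Abelianization ↥S, v ^ p = 1 := by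
    intro v
    obtain ⟨s, rfl⟩ := QuotientGroup.mk_surjective v
    exact (map_pow Abelianization.of s p).symm.trans
      (by rw [show s ^ p = 1 from Subtype.ext (hexp s s.2), map_one])
  have hexpV : ∀ v : Additive (Abelianization ↥S), p • v = 0 := fun v =>
    Additive.toMul.injective (by rw [toMul_nsmul]; exact hpowV _)
  have : Module (ZMod p) (Additive (Abelianization ↥S)) := AddCommGroup.zmodModule hexpV
  let Φ : ↥(normalizer (S : Set G)) →* Module.End (ZMod p) (Additive (Abelianization ↥S)) :=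
    { toFun := fun g => AddMonoidHom.toZModLinearMap p (MonoidHom.toAdditive (abConj S g))
      map_one' := by
        ext v
        obtain ⟨s, hs⟩ := QuotientGroup.mk_surjective v.toMul
        obtain rfl : v = Additive.ofMul (Abelianization.of s) := congrArg Additive.ofMul hs.symm
        show abConj S 1 (Abelianization.of s) = Abelianization.of s
        rw [abConj_of]
        refine congrArg _ (Subtype.ext ?_)
        simp
      map_mul' := fun g h => by
        ext v
        obtain ⟨s, hs⟩ := QuotientGroup.mk_surjective v.toMul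
        obtain rfl : v = Additive.ofMul (Abelianization.of s) := congrArg Additive.ofMul hs.symm
        show Additive.ofMul (abConj S (g * h) (Abelianization.of s)) =
          Additive.ofMul (abConj S g (abConj S h (Abelianization.of s)))
        rw [abConj_of, abConj_of, abConj_of]
        refine congrArg Additive.ofMul (congrArg _ (Subtype.ext ?_))
        simp [mul_assoc] }
  let ρ : ↥Q →* Module.End (ZMod p) (Additive (Abelianization ↥S)) := Φ.comp (inclusion hQS)
  let T : Module.End (ZMod p) (Additive (Abelianization ↥S)) := Φ ⟨b, hbS⟩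
  let σ : ↥Q →* ↥Q := (Q.normalizerMonoidHom ⟨b, hbQ⟩).toMonoidHom
  have hσ : ∀ (i : ℕ) (q : Q), (((⇑σ)^[i] q : Q) : G) = b ^ i * q * (b ^ i)⁻¹ := by
    intro i
    induction i with
    | zero => intro q; simp
    | succ i ih =>
      intro q
      rw [Function.iterate_succ_apply']
      show b * (((⇑σ)^[i] q : Q) : G) * b⁻¹ = _
      rw [ih, pow_succ']; group
  have hT : T ^ p = 1 := by
    rw [← map_pow, show (⟨b, hbS⟩ : ↥(normalizer (S : Set G))) ^ p = 1 from Subtype.ext hbp, map_one]
  have hcompat : ∀ q, T * ρ q = ρ (σ q) * T := by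
    intro q
    rw [show ρ (σ q) = Φ (inclusion hQS (σ q)) from rfl, show ρ q = Φ (inclusion hQS q) from rfl,
      ← map_mul, ← map_mul]
    refine congrArg Φ (Subtype.ext ?_)
    show b * (q : G) = b * q * b⁻¹ * b
    rw [inv_mul_cancel_right]
  have hfpf' : ∀ i, 0 < i → i < p → ∀ q, (⇑σ)^[i] q = q → q = 1 := by
    intro i hi hip q hq
    have h1 := congrArg Subtype.val hq
    rw [hσ, mul_inv_eq_iff_eq_mul] at h1
    refine Subtype.ext (hfpf q q.2 ?_)
    obtain ⟨j, hj⟩ := Nat.exists_mul_mod_eq_one_of_coprime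
      (show i.Coprime p from (Nat.coprime_comm.mp ((hpr.coprime_iff_not_dvd).mpr
        (Nat.not_dvd_of_pos_of_lt hi hip)))) hpr.one_lt
    have h2 : (b ^ i) ^ j = b := by
      rw [← pow_mul, pow_eq_pow_mod _ hbp, hj.2, pow_one]
    have h3 := ((show Commute (b ^ i) q from h1).pow_left j).eq
    rwa [h2] at h3
  -- no fixed points of `Q` on the abelianisation
  have hfix : ∀ v, (∀ q, ρ q v = v) → v = 0 := by
    have : Fintype ↥Q := Fintype.ofFinite _
    let e := ∑ q, ρ q
    have he : e = 0 := by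
      let K : Subgroup ↥S :=
        ((AddMonoidHom.toMultiplicativeRight e.toAddMonoidHom).comp Abelianization.of).ker
      have hK : S ≤ K.map S.subtype := by
        conv_lhs => rw [← hgen]
        refine commutator_le.mpr fun s hs q hq => ?_
        have hm : q * s⁻¹ * q⁻¹ ∈ S := (mem_normalizer_iff.mp (hQS hq) _).mp (inv_mem hs)
        refine ⟨⟨s, hs⟩ * ⟨_, hm⟩, ?_, by rw [commutatorElement_def]; simp [mul_assoc]⟩
        show e (Additive.ofMul (Abelianization.of (⟨s, hs⟩ * ⟨_, hm⟩ : ↥S))) = 0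
        rw [map_mul, ofMul_mul, map_add]
        have h1 : Additive.ofMul (Abelianization.of (⟨_, hm⟩ : ↥S)) =
            ρ ⟨q, hq⟩ (-Additive.ofMul (Abelianization.of ⟨s, hs⟩)) := by
          rw [← ofMul_inv, ← map_inv]
          rfl
        have h2 : ∀ v, e (ρ ⟨q, hq⟩ v) = e v := by
          intro v
          simp only [e, LinearMap.sum_apply]
          refine Fintype.sum_equiv (Equiv.mulRight ⟨q, hq⟩) _ _ fun r => ?_
          rw [← Module.End.mul_apply, ← map_mul]
          rfl
        rw [h1, h2, map_neg, add_neg_cancel]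
      ext v
      obtain ⟨s, hs⟩ := QuotientGroup.mk_surjective v.toMul
      obtain rfl : v = Additive.ofMul (Abelianization.of s) := congrArg Additive.ofMul hs.symm
      obtain ⟨k, hk, hks⟩ := hK s.2
      obtain rfl : k = s := Subtype.ext hks
      exact hk
    intro v hv
    have h1 := LinearMap.congr_fun he v
    simp only [e, LinearMap.sum_apply, hv, Finset.sum_const, Finset.card_univ, LinearMap.zero_apply] at h1
    rw [← Nat.cast_smul_eq_nsmul (ZMod p)] at h1
    exact (smul_eq_zero.mp h1).resolve_left fun h => CfsgLib.PLocal.not_dvd_iff_coprime.mp hQ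
      (by rw [Nat.card_eq_fintype_card]; exact (ZMod.natCast_eq_zero_iff _ _).mp h)
  set K := ⁅S, S⁆ with hKdef
  have hKS : K ≤ S := (commutator_le_sup S S).trans (sup_idem S).le
  have hKn : ∀ g ∈ normalizer (S : Set G), g ∈ normalizer (K : Set G) := fun g hg =>
    mem_normalizer_iff_map_conj_eq.mpr (by
      rw [hKdef, map_commutator, mem_normalizer_iff_map_conj_eq.mp hg])
  have hKc : ∀ c ∈ K, ∀ s ∈ S, s * c = c * s := fun c hc s hs =>
    (commutator_eq_bot_iff_le_centralizer.mp hcent) hc s hs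
  have hker' : ∀ s : ↥S, Abelianization.of s = 1 ↔ (s : G) ∈ K := by
    intro s
    rw [← MonoidHom.mem_ker, Abelianization.ker_of, ← mem_map_iff_mem S.subtype_injective,
      _root_.commutator_def, map_commutator, ← MonoidHom.range_eq_map, range_subtype, hKdef]
    rfl
  have hker : Module.finrank (ZMod p) (LinearMap.ker (T - 1)) ≤ 1 := by
    let C : Subgroup ↥S :=
      (MonoidHom.eqLocus (abConj S ⟨b, hbS⟩) (MonoidHom.id _)).comap Abelianization.of
    have hC : ∀ s : ↥S, s ∈ C → b * s * b⁻¹ * (s : G)⁻¹ ∈ K := by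
      intro s hs
      have h1 : Abelianization.of (⟨b * s * b⁻¹, (mem_normalizer_iff.mp hbS s).mp s.2⟩ * s⁻¹ : ↥S) = 1 := by
        rw [map_mul, map_inv, mul_inv_eq_one]; exact hs
      exact (hker' _).mp h1
    let F : ↥C → ↥K := fun s => ⟨_, hC s.1 s.2⟩
    have hcardC : Nat.card C ≤ Nat.card K * p := by
      refine le_trans ?_ (Nat.mul_le_mul_left _ hsmall)
      rw [← Nat.card_prod]
      refine Nat.card_le_card_of_injective (fun s : ↥C => (F s,
        (⟨((Function.invFun F (F s)).1 : G)⁻¹ * (s.1 : G), ?_⟩ : ↥(S ⊓ centralizer ({b} : Set G))))) ?_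
      · refine mem_inf.mpr ⟨mul_mem (inv_mem (Function.invFun F (F s)).1.2) s.1.2,
          mem_centralizer_singleton_iff.mpr ?_⟩
        have h1 : F (Function.invFun F (F s)) = F s := Function.invFun_eq ⟨s, rfl⟩
        set t := Function.invFun F (F s)
        have h2 : b * (t.1 : G) * b⁻¹ * (t.1 : G)⁻¹ = b * s.1 * b⁻¹ * (s.1 : G)⁻¹ :=
          congrArg Subtype.val h1
        have h3 : (s.1 : G) =
            (b * (t.1 : G) * b⁻¹ * (t.1 : G)⁻¹)⁻¹ * (b * s.1 * b⁻¹) := by rw [h2]; group
        conv_lhs => rw [h3]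
        group
      · intro a a' h
        simp only [Prod.mk.injEq, Subtype.mk.injEq] at h
        obtain ⟨h1, h2⟩ := h
        rw [h1] at h2
        exact Subtype.ext (Subtype.ext (mul_left_cancel h2))
    have hle : Nat.card ↥(LinearMap.ker (T - 1)) * Nat.card K ≤ Nat.card C := by
      let f : ↥C →* Abelianization ↥S := Abelianization.of.comp C.subtype
      have h1 : Nat.card f.range * Nat.card f.ker = Nat.card C := by
        rw [← index_ker, index_mul_card]
      rw [← h1]
      refine Nat.mul_le_mul ?_ ?_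
      · refine Nat.card_le_card_of_injective (fun v => (⟨v.1.toMul, ?_⟩ : f.range))
          fun a a' h => Subtype.ext (Additive.toMul.injective (congrArg (fun z : f.range => (z : Abelianization ↥S)) h))
        obtain ⟨s, hs⟩ := QuotientGroup.mk_surjective v.1.toMul
        refine ⟨⟨s, ?_⟩, hs⟩
        have h2 := LinearMap.mem_ker.mp v.2
        rw [LinearMap.sub_apply, Module.End.one_apply, sub_eq_zero] at h2
        show abConj S ⟨b, hbS⟩ (Abelianization.of s) = Abelianization.of s
        rw [show Abelianization.of s = v.1.toMul from hs]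
        exact congrArg Additive.toMul h2
      · have hmem : ∀ c : K, (⟨c, hKS c.2⟩ : ↥S) ∈ C := fun c => by
          show abConj S ⟨b, hbS⟩ (Abelianization.of _) = Abelianization.of _
          rw [(hker' ⟨c, hKS c.2⟩).mpr c.2, map_one]
        refine Nat.card_le_card_of_injective (fun c : K => (⟨⟨_, hmem c⟩, (hker' _).mpr c.2⟩ : f.ker))
          fun a a' h => Subtype.ext (congrArg (fun z : f.ker => ((z.1.1 : ↥S) : G)) h)
    have h2 := Nat.le_of_mul_le_mul_right ((hle.trans hcardC).trans (Nat.mul_comm _ _).le) Nat.card_pos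
    rw [Module.natCard_eq_pow_finrank (K := ZMod p), Nat.card_zmod] at h2
    exact (Nat.pow_le_pow_iff_right hpr.one_lt).mp (by rwa [pow_one])
  have hK1 : K ≠ ⊥ := by
    intro hK0
    have hinj : ∀ s : ↥S, Abelianization.of s = 1 → s = 1 := fun s hs =>
      Subtype.ext (mem_bot.mp (hK0 ▸ (hker' s).mp hs))
    have hne : S ⊓ centralizer ({b} : Set G) ≠ ⊥ := by
      intro h0
      have hlt := CfsgLib.Coprime.commutator_lt_of_isPGroup (U := S) (P := zpowers b) hS
        (IsPGroup.of_card (n := 1) (by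
          rw [Nat.card_zpowers, pow_one]
          refine orderOf_eq_prime hbp fun hb1 => hS1 ?_
          rwa [hb1, inf_eq_left.mpr fun x _ => mem_centralizer_singleton_iff.mpr
            (by rw [one_mul, mul_one])] at h0))
        (zpowers_le.mpr hbS) hS1
      have hinj' : Function.Injective (fun s : ↥S =>
          (⟨⁅(s : G), b⁆, commutator_mem_commutator s.2 (mem_zpowers b)⟩ : ↥⁅S, zpowers b⁆)) := by
        intro s t h
        have h1 : ⁅(s : G), b⁆ = ⁅(t : G), b⁆ := congrArg Subtype.val h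
        have h2 : (t : G)⁻¹ * s ∈ S ⊓ centralizer ({b} : Set G) := by
          refine mem_inf.mpr ⟨mul_mem (inv_mem t.2) s.2, mem_centralizer_singleton_iff.mpr ?_⟩
          rw [commutatorElement_def, commutatorElement_def, mul_left_inj, mul_inv_eq_iff_eq_mul] at h1
          rw [mul_assoc, h1]; group
        rw [h0, mem_bot, inv_mul_eq_one] at h2
        exact Subtype.ext h2.symm
      exact absurd (Nat.card_le_card_of_injective _ hinj')
        (Nat.not_le.mpr (Set.Finite.card_lt_card (Set.toFinite _) hlt))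
    obtain ⟨z, hz, hz1⟩ := (bot_or_exists_ne_one _).resolve_left hne
    refine hz1 (congrArg Subtype.val (hinj ⟨z, hz.1⟩ ?_))
    exact congrArg Additive.toMul (hfix (Additive.ofMul (Abelianization.of ⟨z, hz.1⟩)) fun q => by
      refine congrArg Additive.ofMul ((abConj_of S _ _).trans (congrArg _ (Subtype.ext ?_)))
      show (q : G) * z * (q : G)⁻¹ = z
      rw [← hQz q.2 z hz, mul_inv_cancel_right])
  -- an invariant functional on the commutator subgroup
  have hKp : IsPGroup p K := hS.to_le hKS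
  have hlt := CfsgLib.Coprime.commutator_lt_of_isPGroup (U := K) (P := zpowers b) hKp
    (IsPGroup.iff_orderOf.mpr fun x => by
      obtain ⟨i, hi⟩ := x.2
      obtain ⟨k, -, hk⟩ := (Nat.dvd_prime_pow hpr).mp (orderOf_dvd_of_pow_eq_one
        (show x ^ p ^ 1 = 1 from Subtype.ext (by
          rw [pow_one, SubmonoidClass.coe_pow, ← hi, ← zpow_natCast, ← zpow_mul, mul_comm, zpow_mul,
            zpow_natCast, hbp, one_zpow, OneMemClass.coe_one])))
      exact ⟨k, hk⟩)
    (zpowers_le.mpr (hKn b hbS)) hK1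
  obtain ⟨M, hM, hMle⟩ := (eq_top_or_exists_le_coatom ((⁅K, zpowers b⁆).subgroupOf K)).resolve_left
    fun h => hlt.not_ge (subgroupOf_eq_top.mp h)
  have : IsMulCommutative ↥K := ⟨⟨fun x y => Subtype.ext (hKc y y.2 x (hKS x.2))⟩⟩
  have hMn : M.Normal := ⟨fun m hm g => by rwa [mul_comm' g m, mul_inv_cancel_right]⟩
  have hMi : Nat.card (↥K ⧸ M) = p :=
    (index_eq_card M).symm.trans (CfsgLib.Solvable.index_coatom hKp hM)
  have : IsCyclic (↥K ⧸ M) := isCyclic_of_prime_card hMi
  let eM : ↥K ⧸ M ≃* Multiplicative (ZMod p) := (hMi ▸ zmodCyclicMulEquiv (G := ↥K ⧸ M) this).symm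
  let δ : ↥K →* Multiplicative (ZMod p) := eM.toMonoidHom.comp (QuotientGroup.mk' M)
  have hmem : ∀ s t : ↥S, ⁅(s : G), (t : G)⁆ ∈ K := fun s t => commutator_mem_commutator s.2 t.2
  have hlin : ∀ s t u : ↥S, ⁅(s : G) * t, (u : G)⁆ = ⁅(s : G), (u : G)⁆ * ⁅(t : G), (u : G)⁆ := by
    intro s t u
    rw [show ⁅(s : G) * t, (u : G)⁆ = s * ⁅(t : G), (u : G)⁆ * (s : G)⁻¹ * ⁅(s : G), (u : G)⁆ by
      simp only [commutatorElement_def]; group, hKc _ (hmem t u) _ s.2, mul_inv_cancel_right,
      hKc _ (hmem s u) _ (hKS (hmem t u))]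
  have hlin' : ∀ s t u : ↥S, ⁅(s : G), (t : G) * u⁆ = ⁅(s : G), (t : G)⁆ * ⁅(s : G), (u : G)⁆ := by
    intro s t u
    rw [show ⁅(s : G), (t : G) * u⁆ = ⁅(s : G), (t : G)⁆ * ((t : G) * ⁅(s : G), (u : G)⁆ * (t : G)⁻¹) by
      simp only [commutatorElement_def]; group, hKc _ (hmem s u) _ t.2, mul_inv_cancel_right]
  let β0 : ↥S → ↥S → Multiplicative (ZMod p) := fun s t => δ ⟨_, hmem s t⟩
  let β1 : ↥S →* (↥S →* Multiplicative (ZMod p)) :=
    { toFun := fun s => MonoidHom.mk' (β0 s) fun t u => by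
        rw [← map_mul]; exact congrArg δ (Subtype.ext (hlin' s t u))
      map_one' := MonoidHom.ext fun t => (congrArg δ (Subtype.ext (by simp))).trans δ.map_one
      map_mul' := fun s t => MonoidHom.ext fun u => by
        show β0 (s * t) u = β0 s u * β0 t u
        rw [← map_mul]; exact congrArg δ (Subtype.ext (hlin s t u)) }
  let β2 : Abelianization ↥S →* (Abelianization ↥S →* Multiplicative (ZMod p)) :=
    Abelianization.lift
      { toFun := fun s => Abelianization.lift (β1 s)
        map_one' := Abelianization.hom_ext _ _ (MonoidHom.ext fun t => by simp)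
        map_mul' := fun s t => Abelianization.hom_ext _ _ (MonoidHom.ext fun u => by simp) }
  let β : LinearMap.BilinForm (ZMod p) (Additive (Abelianization ↥S)) :=
    AddMonoidHom.toZModLinearMap p (AddMonoidHom.mk'
      (fun v => AddMonoidHom.toZModLinearMap p (AddMonoidHom.mk'
        (fun w => (β2 v.toMul w.toMul).toAdd) fun w w' => by simp))
      fun v v' => by ext w; simp)
  have hβ : ∀ s t : ↥S, β (Additive.ofMul (Abelianization.of s)) (Additive.ofMul (Abelianization.of t)) =
      (β0 s t).toAdd := fun s t => rfl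
  have hinvb : ∀ c : ↥K, δ ⟨b * c * b⁻¹, (mem_normalizer_iff.mp (hKn b hbS) c).mp c.2⟩ = δ c := by
    intro c
    show eM _ = eM _
    refine congrArg eM (QuotientGroup.eq.mpr (hMle ?_))
    show ((⟨_, _⟩ : ↥K)⁻¹ * c : ↥K).1 ∈ ⁅K, zpowers b⁆
    simp only [Subgroup.coe_mul, InvMemClass.coe_inv]
    rw [show (b * (c : G) * b⁻¹)⁻¹ * c = ⁅b, (c : G)⁻¹⁆ by simp only [commutatorElement_def]; group,
      commutator_comm]
    exact commutator_mem_commutator (mem_zpowers b) (inv_mem c.2)
  have hall : ∀ (g : ↥(normalizer (S : Set G))),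
      (∀ c : ↥K, δ ⟨(g : G) * c * (g : G)⁻¹, (mem_normalizer_iff.mp (hKn g g.2) c).mp c.2⟩ = δ c) →
      ∀ v w, β (Φ g v) (Φ g w) = β v w := by
    intro g hg v w
    obtain ⟨s, hs⟩ := QuotientGroup.mk_surjective v.toMul
    obtain rfl : v = Additive.ofMul (Abelianization.of s) := congrArg Additive.ofMul hs.symm
    obtain ⟨t, ht⟩ := QuotientGroup.mk_surjective w.toMul
    obtain rfl : w = Additive.ofMul (Abelianization.of t) := congrArg Additive.ofMul ht.symm
    show β (Additive.ofMul (abConj S g (Abelianization.of s)))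
      (Additive.ofMul (abConj S g (Abelianization.of t))) = _
    rw [abConj_of, abConj_of, hβ, hβ]
    exact congrArg Multiplicative.toAdd
      ((congrArg δ (Subtype.ext (conjugate_commutatorElement _ _ _).symm)).trans (hg ⟨_, hmem s t⟩))
  have h0 : β = 0 := form_eq_zero hp hQ ρ T σ hT hcompat hfpf' hfix hker β
    (fun v => by
      obtain ⟨s, hs⟩ := QuotientGroup.mk_surjective v.toMul
      obtain rfl : v = Additive.ofMul (Abelianization.of s) := congrArg Additive.ofMul hs.symm
      rw [hβ]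
      exact congrArg Multiplicative.toAdd
        ((congrArg δ (Subtype.ext (commutatorElement_self _))).trans δ.map_one))
    (fun q => hall _ fun c => congrArg δ (Subtype.ext (by
      show (q : G) * c * (q : G)⁻¹ = c
      rw [← hQc q.2 c c.2, mul_inv_cancel_right])))
    (hall _ hinvb)
  have hδ : ∀ c : ↥K, δ c = 1 := by
    intro c
    have : (K : Subgroup G) ≤ δ.ker.map K.subtype := by
      refine commutator_le.mpr fun s hs t ht => ⟨⟨_, hmem ⟨s, hs⟩ ⟨t, ht⟩⟩, ?_, rfl⟩
      have := hβ ⟨s, hs⟩ ⟨t, ht⟩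
      rw [h0] at this
      exact Multiplicative.toAdd.injective this.symm
    obtain ⟨k, hk, hkc⟩ := this c.2
    obtain rfl : k = c := Subtype.ext hkc
    exact hk
  apply hM.1
  rw [eq_top_iff]
  exact fun c _ => (QuotientGroup.eq_one_iff c).mp (eM.injective ((hδ c).trans (map_one eM).symm))

/-- The case `C(O_p(G)) ≤ O_p(G)`. -/
theorem eq_bot_of_constrained (hp : p ≠ 2)
    (hU : centralizer (Cfsg.pCore p G : Set G) ≤ Cfsg.pCore p G) {B : Subgroup G}
    (hB : Cfsg.IsElementaryAbelian p B) (hBc : Nat.card B = p ^ 2) {b : G} (hb : b ∈ B) (hb1 : b ≠ 1)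
    (hΩ : ∀ R : Subgroup G, IsPGroup p R → B ≤ R → R ≤ centralizer ({b} : Set G) →
      ∀ x ∈ R, x ^ p = 1 → x ∈ B)
    {Q : Subgroup G} (hQ : (Nat.card Q).Coprime p) (hinv : B ≤ normalizer (Q : Set G)) : Q = ⊥ := by
  have hpr : p.Prime := Fact.out
  have hBab : IsMulCommutative B := hB.1
  have hBp : ∀ x ∈ B, x ^ p = 1 := hB.2
  have hBcomm : ∀ x ∈ B, ∀ y ∈ B, x * y = y * x := fun x hx y hy =>
    congrArg Subtype.val (mul_comm' (⟨x, hx⟩ : B) ⟨y, hy⟩)
  have hBg : IsPGroup p B := IsPGroup.of_card hBc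
  set U := Cfsg.pCore p G with hUdef
  have hUp : IsPGroup p U := CfsgLib.PLocal.isPGroup_pCore p G
  have hUn : U.Normal := inferInstance
  have hUN : ∀ H : Subgroup G, H ≤ normalizer (U : Set G) := fun H => le_normalizer_of_normal
  have hQU : ∀ q ∈ Q, ∀ u ∈ U, u ∈ normalizer (Q : Set G) → q * u = u * q := by
    intro q hq u hu hun
    have h1 : u * q * u⁻¹ * q⁻¹ ∈ Q ⊓ U := by
      refine mem_inf.mpr ⟨mul_mem ((mem_normalizer_iff.mp hun q).mp hq) (inv_mem hq), ?_⟩
      rw [show u * q * u⁻¹ * q⁻¹ = u * (q * u⁻¹ * q⁻¹) by group]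
      exact mul_mem hu (hUn.conj_mem _ (inv_mem hu) q)
    rw [inf_comm, CfsgLib.PLocal.disjoint_of_isPGroup_of_coprime hUp hQ, mem_bot, mul_inv_eq_one,
      mul_inv_eq_iff_eq_mul] at h1
    exact h1.symm
  have hQfaith : ∀ D : Subgroup G, D ≤ Q → D ≤ centralizer (U : Set G) → D = ⊥ := fun D h1 h2 =>
    le_bot_iff.mp ((CfsgLib.PLocal.disjoint_of_isPGroup_of_coprime hUp hQ).le.trans' (le_inf (h2.trans hU) h1))
  have hW : ∀ x ∈ U, b * x = x * b → x ^ p = 1 → x ∈ B := by
    intro x hx hxb hxp
    set U0 := U ⊓ centralizer ({b} : Set G)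
    have hBc' : B ≤ centralizer ({b} : Set G) := fun a ha =>
      mem_centralizer_singleton_iff.mpr (hBcomm a ha b hb)
    have hBU0 : B ≤ normalizer (U0 : Set G) := le_trans
      (le_inf (hUN B) (hBc'.trans le_normalizer)) inf_normalizer_le_normalizer_inf
    exact hΩ (U0 ⊔ B) ((hUp.to_le inf_le_left).to_sup_of_normal_left' hBg hBU0) le_sup_right
      (sup_le inf_le_right hBc') x
      ((le_sup_left : U0 ≤ U0 ⊔ B) (mem_inf.mpr ⟨hx, mem_centralizer_singleton_iff.mpr hxb.symm⟩)) hxp
  set A := Q ⊓ centralizer ({b} : Set G) with hA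
  have hA1 : A = ⊥ := by
    refine hQfaith A inf_le_left (CfsgLib.Coprime.le_centralizer_of_inf_centralizer_le
      (P := zpowers b) (hBg.to_le (zpowers_le.mpr hb)) (hQ.coprime_dvd_left (card_dvd_of_le inf_le_left))
      hUp (zpowers_le.mpr ?_) (hUN _) (hUN _) ?_)
    · intro a ha; exact mem_centralizer_singleton_iff.mp ha.2
    · intro x hx a ha
      obtain ⟨hxU, hxb⟩ := mem_inf.mp hx
      rw [zpowers_eq_closure, centralizer_closure] at hxb
      refine (CfsgLib.OddOrder.Stab.commute_of_fix_prime_order hp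
        (P := U ⊓ centralizer ({b} : Set G)) (hUp.to_le inf_le_left)
        ((hQ.coprime_dvd_left (Subgroup.orderOf_dvd_natCard Q ha.1))) ?_ ?_ x (mem_inf.mpr ⟨hxU, hxb⟩)).eq
      · exact inf_normalizer_le_normalizer_inf ⟨hUN ⊤ (mem_top a), le_normalizer ha.2⟩
      · rintro y hy hyp
        exact hQU a ha.1 y hy.1
          (hinv (hW y hy.1 (mem_centralizer_singleton_iff.mp hy.2).symm hyp))
  by_contra hQ1
  have hbU : b ∉ U := by
    intro hbU
    refine hQ1 (le_bot_iff.mp (le_trans (le_inf le_rfl fun q hq => ?_) hA1.le))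
    exact mem_centralizer_singleton_iff.mpr (hQU q hq b hbU (hinv hb))
  have hBU : Nat.card ↥(B ⊓ U) ≤ p := by
    obtain ⟨k, hk2, hk⟩ := (Nat.dvd_prime_pow hpr).mp (hBc ▸ card_dvd_of_le (inf_le_left : B ⊓ U ≤ B))
    rw [hk]
    rcases Nat.lt_or_ge k 2 with h | h
    · exact (Nat.pow_le_pow_right hpr.pos (by omega : k ≤ 1)).trans (pow_one p).le
    · exfalso
      have := eq_of_le_of_card_ge (inf_le_left : B ⊓ U ≤ B) (by rw [hk, hBc]; exact Nat.pow_le_pow_right hpr.pos h)
      exact hbU (this.ge hb).2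
  obtain ⟨S, ⟨hSU, hQS, hbS, hSn⟩, hmin⟩ := wellFounded_lt.has_min
    {S : Subgroup G | S ≤ U ∧ Q ≤ normalizer (S : Set G) ∧ b ∈ normalizer (S : Set G) ∧
      ¬ Q ≤ centralizer (S : Set G)}
    ⟨U, le_rfl, hUN Q, hUN ⊤ (mem_top b), fun h => hQ1 (hQfaith Q le_rfl h)⟩
  have hlow : ∀ T : Subgroup G, T < S → Q ≤ normalizer (T : Set G) → b ∈ normalizer (T : Set G) →
      Q ≤ centralizer (T : Set G) := by
    intro T hT h1 h2
    by_contra h3
    exact hmin T ⟨hT.le.trans hSU, h1, h2, h3⟩ hT
  have hSp : IsPGroup p S := hUp.to_le hSU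
  have hcop : (Nat.card Q).Coprime (Nat.card S) := by
    obtain ⟨k, hk⟩ := hSp.exists_card_eq
    rw [hk]; exact hQ.pow_right k
  have hgen : ⁅S, Q⁆ = S := by
    by_contra hne
    have hlt : ⁅S, Q⁆ < S := lt_of_le_of_ne (CfsgLib.Coprime.commutator_le_of_le_normalizer hQS) hne
    refine hSn (CfsgLib.Coprime.le_centralizer_of_commutator_commutator_eq_bot hQS hcop ?_)
    rw [commutator_eq_bot_iff_le_centralizer, ← le_centralizer_iff]
    refine hlow _ hlt (normalizer_commutator_ge_right S Q) (mem_normalizer_iff_map_conj_eq.mpr ?_)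
    rw [map_commutator, mem_normalizer_iff_map_conj_eq.mp hbS, mem_normalizer_iff_map_conj_eq.mp (hinv hb)]
  have hS1 : S ≠ ⊥ := by
    rintro rfl
    exact hSn fun q _ x hx => by rw [mem_bot.mp hx, one_mul, mul_one]
  have hSS : ⁅S, S⁆ < S := CfsgLib.Coprime.commutator_lt_of_isPGroup hSp hSp le_normalizer hS1
  have hQc : Q ≤ centralizer ((⁅S, S⁆ : Subgroup G) : Set G) := by
    refine hlow _ hSS (fun q hq => mem_normalizer_iff_map_conj_eq.mpr ?_)
      (mem_normalizer_iff_map_conj_eq.mpr ?_)
    · rw [map_commutator, mem_normalizer_iff_map_conj_eq.mp (hQS hq)]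
    · rw [map_commutator, mem_normalizer_iff_map_conj_eq.mp hbS]
  have hcent : ⁅⁅S, S⁆, S⁆ = ⊥ := by
    have h1 : ⁅⁅⁅S, S⁆, S⁆, Q⁆ = ⊥ := by
      rw [eq_bot_iff]
      refine le_trans (commutator_mono ((commutator_mono hSS.le le_rfl).trans le_rfl) le_rfl) ?_
      rw [le_bot_iff, commutator_eq_bot_iff_le_centralizer]
      exact le_centralizer_iff.mp hQc
    have h2 : ⁅⁅Q, ⁅S, S⁆⁆, S⁆ = ⊥ := by
      rw [commutator_eq_bot_iff_le_centralizer.mpr hQc, commutator_bot_left]
    have := commutator_commutator_eq_bot_of_rotate (H₁ := S) (H₂ := Q) (H₃ := ⁅S, S⁆) h2 h1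
    rwa [hgen, commutator_comm] at this
  let Ω : Subgroup G :=
    { carrier := {x | x ∈ S ∧ x ^ p = 1}
      one_mem' := ⟨one_mem S, one_pow p⟩
      mul_mem' := fun {x y} hx hy => ⟨mul_mem hx.1 hy.1, by
        have hz := commutator_eq_bot_iff_le_centralizer.mp hcent (commutator_mem_commutator hy.1 hx.1)
        exact mul_pow_eq_one_of_class_two hp hx.2 hy.2 (hz x hx.1).symm (hz y hy.1).symm⟩
      inv_mem' := fun {x} hx => ⟨inv_mem hx.1, by rw [inv_pow, hx.2, inv_one]⟩ }
  have hΩn : ∀ g ∈ normalizer (S : Set G), g ∈ normalizer (Ω : Set G) := by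
    have key : ∀ g ∈ normalizer (S : Set G), ∀ x ∈ Ω, g * x * g⁻¹ ∈ Ω := fun g hg x hx =>
      ⟨(mem_normalizer_iff.mp hg x).mp hx.1, by rw [conj_pow, hx.2, mul_one, mul_inv_cancel]⟩
    intro g hg
    exact mem_normalizer_iff.mpr fun x => ⟨key g hg x, fun h => by
      simpa [mul_assoc] using key g⁻¹ (inv_mem hg) _ h⟩
  have hexp : ∀ x ∈ S, x ^ p = 1 := by
    by_contra hne
    push Not at hne
    obtain ⟨x, hx, hxp⟩ := hne
    have hlt : Ω < S := lt_of_le_of_ne (fun x hx => hx.1) fun h => hxp (h.ge hx).2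
    have hc := hlow Ω hlt (fun q hq => hΩn q (hQS hq)) (hΩn b hbS)
    refine hSn fun q hq y hy => ?_
    exact (CfsgLib.OddOrder.Stab.commute_of_fix_prime_order hp hSp
      (hQ.coprime_dvd_left (Subgroup.orderOf_dvd_natCard Q hq)) (hQS hq)
      (fun z hz hzp => (hc hq z (show z ∈ Ω from ⟨hz, hzp⟩)).symm) y hy).eq.symm
  have hsub : S ⊓ centralizer ({b} : Set G) ≤ B ⊓ U := fun x hx =>
    mem_inf.mpr ⟨hW x (hSU hx.1) (mem_centralizer_singleton_iff.mp hx.2).symm (hexp x hx.1), hSU hx.1⟩
  refine class_two_false hp hSp hQ hQS hbS (hinv hb) (hBp b hb) (fun q hq h => ?_) hexp hgen hS1 hcent hQc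
    ((Nat.le_of_dvd Nat.card_pos (card_dvd_of_le hsub)).trans hBU) ?_
  · exact mem_bot.mp (hA1 ▸ mem_inf.mpr ⟨hq, mem_centralizer_singleton_iff.mpr h.symm⟩)
  · intro q hq x hx
    exact (hQU q hq x (hsub hx).2 (hinv (hsub hx).1)).symm

/-- Let p be an odd prime, G a finite p-solvable group, and B an elementary abelian subgroup of order p² such that B is the subgroup generated by the elements of order p of some Sylow p-subgroup of C_G(b₀), for some nontrivial b₀ ∈ B. Then every B-invariant subgroup of G of order prime to p lies in O_{p'}(G). -/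
theorem result {G : Type*} [Group G] [Finite G] {p : ℕ} [Fact p.Prime] (hp : p ≠ 2)
    (hG : Cfsg.IsPSolvable p G) (B : Subgroup G) (hB : Cfsg.IsElementaryAbelian p B) (hBc : Nat.card B = p ^ 2)
    (b₀ : G) (hb₀ : b₀ ∈ B) (hb₁ : b₀ ≠ 1) (P : Sylow p ↥(Subgroup.centralizer ({b₀} : Set G)))
    (hBP : B = Subgroup.closure {x : G | x ∈ ((P : Subgroup ↥(Subgroup.centralizer ({b₀} : Set G))).map
      (Subgroup.centralizer ({b₀} : Set G)).subtype : Subgroup G) ∧ orderOf x = p})
    (Q : Subgroup G) (hQ : ¬ p ∣ Nat.card Q) (hinv : ∀ b ∈ B, ∀ x ∈ Q, b * x * b⁻¹ ∈ Q) :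
    Q ≤ Cfsg.pPrimeCore p G := by
  set N := Cfsg.pPrimeCore p G
  set f := QuotientGroup.mk' N with hf
  have hBg : IsPGroup p B := IsPGroup.of_card hBc
  have hker : ∀ R : Subgroup G, IsPGroup p R → ∀ x ∈ R, f x = 1 → x = 1 := by
    intro R hR x hx hfx
    have : x ∈ R ⊓ N := ⟨hx, (QuotientGroup.eq_one_iff x).mp hfx⟩
    rwa [CfsgLib.PLocal.disjoint_of_isPGroup_of_coprime hR (CfsgLib.PLocal.coprime_card_pPrimeCore p G),
      mem_bot] at this
  have hb₀z : IsPGroup p (zpowers b₀) := hBg.to_le (zpowers_le.mpr hb₀)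
  have hCmap : centralizer ({f b₀} : Set (G ⧸ N)) = (Subgroup.centralizer ({b₀} : Set G)).map f := by
    have := CfsgLib.PLocal.centralizer_map_mk'_eq N (CfsgLib.PLocal.coprime_card_pPrimeCore p G) hb₀z
    rwa [MonoidHom.map_zpowers, zpowers_eq_closure, centralizer_closure, zpowers_eq_closure,
      centralizer_closure] at this
  -- elements of order `p` of a `p`-subgroup of `(Subgroup.centralizer ({b₀} : Set G))` containing `B` lie in `B`
  have hΩ : ∀ R : Subgroup G, IsPGroup p R → B ≤ R → R ≤ (Subgroup.centralizer ({b₀} : Set G)) → ∀ x ∈ R, x ^ p = 1 → x ∈ B := by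
    intro R hR hBR hRC x hx hxp
    obtain ⟨S, hS⟩ := (hR.comap_of_injective (Subgroup.centralizer ({b₀} : Set G)).subtype (Subgroup.centralizer ({b₀} : Set G)).subtype_injective).exists_le_sylow
    obtain ⟨g, hg⟩ := MulAction.exists_smul_eq (Subgroup.centralizer ({b₀} : Set G)) P S
    have hconj : ∀ r ∈ R, r ^ p = 1 → (g : G)⁻¹ * r * g ∈ B := by
      intro r hr hrp
      have h1 : (⟨r, hRC hr⟩ : (Subgroup.centralizer ({b₀} : Set G))) ∈ (S : Subgroup (Subgroup.centralizer ({b₀} : Set G))) := hS hr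
      rw [← hg, Sylow.smul_def, Sylow.pointwise_smul_def] at h1
      obtain ⟨w, hw, hwr⟩ := h1
      have hw' : (g : G)⁻¹ * r * g = w := by
        rw [show r = (g : G) * w * (g : G)⁻¹ from congrArg Subtype.val hwr.symm]; group
      rw [hw']
      by_cases hw1 : (w : G) = 1
      · rw [hw1]; exact one_mem B
      · rw [hBP]
        refine Subgroup.subset_closure ⟨⟨w, hw, rfl⟩, orderOf_eq_prime ?_ hw1⟩
        rw [← hw']
        have := conj_pow (i := p) (a := (g : G)⁻¹) (b := r)
        rw [inv_inv] at this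
        rw [this, hrp, mul_one, inv_mul_cancel]
    have hle : B.map (MulAut.conj (g : G)⁻¹).toMonoidHom ≤ B := by
      rintro _ ⟨r, hr, rfl⟩
      have := hconj r (hBR hr) (hB.2 r hr)
      simpa using this
    have heq := eq_of_le_of_card_ge hle
      (Nat.card_congr (B.equivMapOfInjective _ (MulAut.conj (g : G)⁻¹).injective).toEquiv).le
    have h2 := hconj x hx hxp
    rw [← heq] at h2
    obtain ⟨y, hy, hyx⟩ := h2
    have : y = x := (MulAut.conj (g : G)⁻¹).injective (hyx.trans (by simp))
    rwa [← this]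
  have hbar := CfsgLib.PLocal.pPrimeCore_quotient_pPrimeCore_eq_bot p G
  have hU := CfsgLib.PLocal.centralizer_pCore_le (CfsgLib.PLocal.isPSolvable_quotient hG N) hbar
  have hcard : Nat.card (B.map f) = Nat.card B := by
    refine (Nat.card_congr (Equiv.ofBijective
      (fun x : B => (⟨f x, mem_map_of_mem f x.2⟩ : B.map f)) ⟨fun a b h => ?_, ?_⟩)).symm
    · have := hker B hBg _ (mul_mem (inv_mem a.2) b.2) (by
        rw [map_mul, map_inv, show f a = f b from congrArg Subtype.val h, inv_mul_cancel])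
      exact Subtype.ext (inv_mul_eq_one.mp this)
    · rintro ⟨_, x, hx, rfl⟩; exact ⟨⟨x, hx⟩, rfl⟩
  have hQbot := eq_bot_of_constrained (p := p) hp hU (B := B.map f) (b := f b₀) (Q := Q.map f)
    ⟨⟨⟨by
      rintro ⟨_, x, hx, rfl⟩ ⟨_, y, hy, rfl⟩
      have := hB.1
      refine Subtype.ext ?_
      show f x * f y = f y * f x
      rw [← map_mul, ← map_mul]
      exact congrArg f (congrArg Subtype.val (mul_comm' (⟨x, hx⟩ : B) ⟨y, hy⟩))⟩⟩, by
      rintro _ ⟨x, hx, rfl⟩
      rw [← map_pow, hB.2 x hx, map_one]⟩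
    (hcard.trans hBc) (mem_map_of_mem f hb₀) (fun h => hb₁ (hker B hBg b₀ hb₀ h))
    (fun R hR hBR hRC x hx hxp => by
      rw [hCmap] at hRC
      set M := (Subgroup.centralizer ({b₀} : Set G)) ⊓ R.comap f
      obtain ⟨S, hS⟩ := (hBg.comap_of_injective M.subtype M.subtype_injective).exists_le_sylow
      have hBM : B ≤ M := by
        refine le_inf (fun a ha => mem_centralizer_singleton_iff.mpr ?_) (map_le_iff_le_comap.mp hBR)
        have := hB.1
        exact congrArg Subtype.val (mul_comm' (⟨a, ha⟩ : B) ⟨b₀, hb₀⟩)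
      let φ := (f.comp M.subtype).codRestrict R fun m => m.2.2
      have hφ : Function.Surjective φ := by
        rintro ⟨r, hr⟩
        obtain ⟨c, hc, rfl⟩ := hRC hr
        exact ⟨⟨c, hc, hr⟩, rfl⟩
      obtain ⟨k, hk⟩ := hR.exists_card_eq
      have htop : (S : Subgroup M).map φ = ⊤ := by
        have hd : ((S : Subgroup M).map φ).index ∣ (S : Subgroup M).index :=
          index_map_dvd _ hφ
        refine index_eq_one.mp (Nat.eq_one_of_dvd_coprimes ?_ hd
          (index_dvd_card ((S : Subgroup M).map φ)))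
        rw [hk]
        exact (((Fact.out : p.Prime).coprime_iff_not_dvd.mpr S.not_dvd_index).symm).pow_right k
      obtain ⟨y, hy, hyx⟩ := htop.ge (mem_top (⟨x, hx⟩ : R))
      have hSp : IsPGroup p ((S : Subgroup M).map M.subtype) := S.isPGroup'.map _
      have hyfx : f (y : G) = x := congrArg Subtype.val hyx
      have hyp : (y : G) ^ p = 1 :=
        hker _ hSp _ (pow_mem (mem_map_of_mem M.subtype hy) p) (by rw [map_pow]; show f (y : G) ^ p = 1; rw [hyfx, hxp])
      rw [← hyfx]
      exact mem_map_of_mem f (hΩ _ hSp (fun a ha => ⟨⟨a, hBM ha⟩, hS ha, rfl⟩)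
        ((map_subtype_le _).trans inf_le_left) _ (mem_map_of_mem M.subtype hy) hyp))
    ((CfsgLib.PLocal.not_dvd_iff_coprime.mpr hQ).coprime_dvd_left (card_map_dvd _ _))
    ((map_mono (show B ≤ Subgroup.normalizer (Q : Set G) from fun b hb =>
      mem_normalizer_iff.mpr fun x => ⟨hinv b hb x, fun h => by
        simpa [mul_assoc] using hinv b⁻¹ (inv_mem hb) _ h⟩)).trans (le_normalizer_map f))
  rw [Subgroup.map_eq_bot_iff, hf, QuotientGroup.ker_mk'] at hQbot
  exact hQbot

end Cfsg.Agent.S1902
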