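import Cfsg.Statements.S1903
import Cfsg.Agent.ThreeTwenty.Abstract
import Cfsg.Agent.ThreeTwenty.Unitary

set_option autoImplicit false
open Cfsg

namespace Cfsg.Agent.S1903

/-- A finite group of order 320 whose derived subgroup has order 64 and has centre a Klein four-group is isomorphic to the centralizer of an involution in PSU₃(4). -/
theorem result {G : Type*} [Group G] [Finite G] (hG : Nat.card G = 320) (hD : Nat.card (commutator G) = 64)
    (hZ : IsKleinFour (Subgroup.center (commutator G)))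
    {F : Type*} [Field F] [Fintype F] (hF : Fintype.card F = 16) :
    ∃ t : Cfsg.PSU 3 F 4, orderOf t = 2 ∧ Nonempty (G ≃* Subgroup.centralizer ({t} : Set (Cfsg.PSU 3 F 4))) := by
  have h : CfsgLib.UThreeSylow.Good F 2 4 := ⟨by norm_num, by norm_num, by rw [hF]; norm_num⟩
  obtain ⟨D, hDb⟩ := CfsgLib.ThreeTwenty.exists_data hG hD hZ
  obtain ⟨t, ht, E, hEb⟩ := CfsgLib.ThreeTwenty.exists_data_centralizer h
  obtain ⟨e⟩ := CfsgLib.ThreeTwenty.nonempty_mulEquiv D E hDb hEb
  have hbot : Subgroup.center (Cfsg.SU 3 F 4) = ⊥ :=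
    Subgroup.eq_bot_of_card_eq _ (by
      rw [CfsgLib.Forms4.card_center_SU h.card_eq (by norm_num)]; rfl)
  let π : Cfsg.SU 3 F 4 ≃* Cfsg.PSU 3 F 4 :=
    MulEquiv.ofBijective (QuotientGroup.mk' (Subgroup.center (Cfsg.SU 3 F 4)))
      ⟨by rw [← MonoidHom.ker_eq_bot_iff, QuotientGroup.ker_mk', hbot],
        QuotientGroup.mk'_surjective _⟩
  refine ⟨π t, (π.orderOf_eq t).trans ht, ⟨(e.trans (π.subgroupMap _)).trans
    (MulEquiv.subgroupCongr ?_)⟩⟩
  ext y
  obtain ⟨g, rfl⟩ := π.surjective y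
  refine (Subgroup.mem_map_iff_mem (f := π.toMonoidHom) π.injective).trans ?_
  rw [Subgroup.mem_centralizer_singleton_iff,
    Subgroup.mem_centralizer_singleton_iff, ← map_mul, ← map_mul, π.injective.eq_iff]

end Cfsg.Agent.S1903
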