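import Cfsg.Statements.S1904
import Cfsg.Agent.OddAutTwoGroup.CountTwo
import Cfsg.Agent.OddAutTwoGroup.CountFour
import Cfsg.Agent.PLocal.Thompson

set_option autoImplicit false
open Cfsg

namespace Cfsg.Agent.S1904

/-- Let X be a finite nonabelian 2-group with no normal abelian subgroup that is self-centralizing and contains an elementary abelian subgroup of order 8. Suppose a group A of automorphisms of X of odd order satisfies [X, A] = X. Then X is the quaternion group of order 8, or X is special of order 64 with exactly three involutions, all central, or X is extraspecial of order 32 with exactly eleven involutions (the central product of a quaternion group and a dihedral group of order 8). -/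
theorem result {X : Type*} [Group X] [Finite X] (hX : IsPGroup 2 X) (hna : ¬ IsMulCommutative X)
    (hscn : ¬ ∃ A : Subgroup X, A.Normal ∧ Subgroup.centralizer (A : Set X) = A ∧
      ∃ E : Subgroup X, E ≤ A ∧ Cfsg.IsElementaryAbelian 2 E ∧ Nat.card E = 8)
    (A : Subgroup (MulAut X)) (hA : Odd (Nat.card A))
    (hXA : Subgroup.closure {g : X | ∃ φ ∈ A, ∃ x : X, g = x⁻¹ * φ x} = ⊤) :
    Nonempty (X ≃* QuaternionGroup 2) ∨
      (Cfsg.IsSpecial 2 X ∧ Nat.card X = 64 ∧ Nat.card {x : X // orderOf x = 2} = 3 ∧
        ∀ x : X, orderOf x = 2 → x ∈ Subgroup.center X) ∨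
      (Cfsg.IsExtraspecial 2 X ∧ Nat.card X = 32 ∧ Nat.card {x : X // orderOf x = 2} = 11) := by
  classical
  have : Fact (Nat.Prime 2) := ⟨Nat.prime_two⟩
  have hnil : Group.IsNilpotent X := hX.isNilpotent
  have hrank : ∀ N : Subgroup X, N.Normal → IsElementaryAbelian 2 N → Nat.card N ≤ 4 := by
    intro N hN hNe
    by_contra hlt
    rw [not_le] at hlt
    obtain ⟨B, ⟨hBn, hBc, hNB⟩, hBmax⟩ := Set.Finite.exists_maximal
      (s := {B : Subgroup X | B.Normal ∧ IsMulCommutative B ∧ N ≤ B}) (Set.toFinite _)
      ⟨N, hN, hNe.1, le_rfl⟩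
    have hself : Subgroup.centralizer (B : Set X) = B :=
      CfsgLib.Solvable.centralizer_eq_of_maximal_abelian_normal fun M hMn hMc hBM =>
        le_antisymm (hBmax ⟨hMn, hMc, hNB.trans hBM⟩ hBM) hBM
    obtain ⟨k, hk⟩ := IsPGroup.iff_card.mp (hX.to_subgroup N)
    have h3 : 3 ≤ k := by
      by_contra hk3
      have := Nat.pow_le_pow_right two_pos (show k ≤ 2 by omega)
      omega
    obtain ⟨E, hE⟩ := Sylow.exists_subgroup_card_pow_prime (G := N) 2 (n := 3)
      (hk ▸ pow_dvd_pow 2 h3)
    refine hscn ⟨B, hBn, hself, E.map N.subtype, (Subgroup.map_subtype_le E).trans hNB, ?_, ?_⟩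
    · exact ⟨CfsgLib.PLocal.isMulCommutative_of_le hNe.1 (Subgroup.map_subtype_le E),
        fun a ha => hNe.2 a (Subgroup.map_subtype_le E ha)⟩
    · rw [Subgroup.card_map_of_injective N.subtype_injective, hE]; norm_num
  have h : CfsgLib.OddAutTwoGroup.Setting A :=
    { pg := hX
      odd := hA
      rank := hrank
      gen := fun K hK => eq_top_iff.mpr (by
        rw [← hXA, Subgroup.closure_le]
        rintro _ ⟨φ, hφ, x, rfl⟩
        exact hK φ hφ x) }
  have hna' : ∃ a b : X, a * b ≠ b * a := by
    by_contra hne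
    push Not at hne
    exact hna ⟨⟨hne⟩⟩
  have hsp := h.isSpecial hna'
  rcases h.card_invCenter hna' with h2 | h4
  · obtain ⟨z, hz, hz1⟩ : ∃ z ∈ CfsgLib.OddAutTwoGroup.invCenter X, z ≠ 1 := by
      by_contra hne
      push Not at hne
      rw [(Subgroup.eq_bot_iff_forall _).mpr hne, Subgroup.card_bot] at h2
      omega
    have T : CfsgLib.OddAutTwoGroup.TwoData A z :=
      { toSetting := h
        mem := hz
        ne_one := hz1
        cases := fun e he => by
          rw [Nat.card_eq_two_iff' (⟨1, one_mem _⟩ : CfsgLib.OddAutTwoGroup.invCenter X)] at h2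
          obtain ⟨w, -, hw⟩ := h2
          by_cases he1 : e = 1
          · exact Or.inl he1
          · refine Or.inr ?_
            have e1 := hw ⟨e, he⟩ fun hh => he1 (congrArg Subtype.val hh)
            have e2 := hw ⟨z, hz⟩ fun hh => hz1 (congrArg Subtype.val hh)
            exact congrArg Subtype.val (e1.trans e2.symm)
        sq := h.sq_mem hna'
        center_le := h.center_le_invCenter hna' }
    rcases T.classify (h.commutator_eq hna') hna' with hQ | ⟨hc, hi⟩
    · exact Or.inl hQ
    · exact Or.inr (Or.inr ⟨⟨hsp, by rw [h.center_eq hna', h2]⟩, hc, hi⟩)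
  · have T : CfsgLib.OddAutTwoGroup.FourData A :=
      { toSetting := h
        card_E := h4
        sq := h.sq_mem hna'
        center_le := h.center_le_invCenter hna'
        comm_eq := h.commutator_eq hna' }
    obtain ⟨hc, hi, hcen⟩ := T.classify
    exact Or.inr (Or.inl ⟨hsp, hc, hi, hcen⟩)

end Cfsg.Agent.S1904
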