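import Cfsg.Statements.S1905
import Cfsg.Agent.SEmbed.Cosets
import Cfsg.Agent.Small.Dihedral

set_option autoImplicit false
open Cfsg

open scoped Pointwise

namespace Cfsg.Agent.S1905

/-- Let M be a subgroup of even order of a finite group S such that M contains the centralizer in S of each of its involutions and the normal core of M in S has odd order. Then all involutions of S are conjugate. If moreover N_S(X) ≤ M for a Sylow 2-subgroup X of M and I is an involution in the centre of X, then all involutions of M are conjugate in M and M = M₀ C_M(I) for some subgroup M₀ of M of odd order. -/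
theorem result {S : Type*} [Group S] [Finite S] (M : Subgroup S) (hM : Even (Nat.card M))
    (hC : ∀ i ∈ M, orderOf i = 2 → Subgroup.centralizer ({i} : Set S) ≤ M) (hcore : Odd (Nat.card M.normalCore)) :
    (∀ x y : S, orderOf x = 2 → orderOf y = 2 → IsConj x y) ∧
      ∀ (X : Sylow 2 M) (I : M), I ∈ (Subgroup.center ↥(X : Subgroup ↥M)).map (X : Subgroup ↥M).subtype → orderOf I = 2 →
        Subgroup.normalizer (((X : Subgroup M).map M.subtype : Subgroup S) : Set S) ≤ M →
        (∀ x y : M, orderOf x = 2 → orderOf y = 2 → IsConj x y) ∧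
          ∃ M₀ : Subgroup M, Odd (Nat.card M₀) ∧
            ∀ m : M, ∃ a ∈ M₀, ∃ c ∈ Subgroup.centralizer ({I} : Set M), m = a * c := by
  have : Fact (Nat.Prime 2) := ⟨Nat.prime_two⟩
  have conj_ord : ∀ (g x : S), orderOf (g * x * g⁻¹) = orderOf x := fun g x =>
    (MulAut.conj g).orderOf_eq x
  obtain ⟨t, htM, ht⟩ := CfsgLib.Small.exists_invol_mem hM
  -- an involution outside the class of an involution of `M` lies in `M`
  have key : ∀ a ∈ M, orderOf a = 2 → ∀ b : S, orderOf b = 2 → ¬ IsConj a b → b ∈ M := by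
    intro a haM ha b hb hne
    obtain ⟨z, hz, hza, hzb⟩ : ∃ z : S, orderOf z = 2 ∧ Commute z a ∧ Commute z b := by
      have hev : Even (orderOf (a * b)) := by
        by_contra hodd
        obtain ⟨k, hk⟩ := CfsgLib.Small.conj_pow_eq_of_odd ha hb (Nat.not_even_iff_odd.mp hodd)
        exact hne (isConj_iff.mpr ⟨_, hk⟩)
      obtain ⟨m, hm⟩ := hev
      rw [← two_mul] at hm
      have hm0 : m ≠ 0 := fun h => by
        have := orderOf_pos (a * b); omega
      have haa : a * a = 1 := by rw [← sq, ← ha, pow_orderOf_eq_one]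
      have hbb : b * b = 1 := by rw [← sq, ← hb, pow_orderOf_eq_one]
      have hainv : a⁻¹ = a := inv_eq_of_mul_eq_one_right haa
      have hbinv : b⁻¹ = b := inv_eq_of_mul_eq_one_right hbb
      have hzo : orderOf ((a * b) ^ m) = 2 := by
        refine orderOf_eq_prime ?_ ?_
        · rw [← pow_mul, mul_comm, ← hm, pow_orderOf_eq_one]
        · intro h
          have := Nat.le_of_dvd (by omega) (orderOf_dvd_of_pow_eq_one h)
          omega
      have hzinv : ((a * b) ^ m)⁻¹ = (a * b) ^ m :=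
        inv_eq_of_mul_eq_one_right (by rw [← sq, ← hzo, pow_orderOf_eq_one])
      have hconj : a * (a * b) ^ m * a⁻¹ = (a * b) ^ m := by
        rw [← conj_pow, show a * (a * b) * a⁻¹ = (a * b)⁻¹ by
          rw [mul_inv_rev, hbinv, hainv, ← mul_assoc a a, haa, one_mul], inv_pow, hzinv]
      have hca : Commute ((a * b) ^ m) a := (mul_inv_eq_iff_eq_mul.mp hconj).symm
      refine ⟨(a * b) ^ m, hzo, hca, ?_⟩
      have hab : b = a * (a * b) := by rw [← mul_assoc, haa, one_mul]
      have h3 : Commute ((a * b) ^ m) (a * (a * b)) := hca.mul_right (Commute.pow_self _ _)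
      rwa [← hab] at h3
    have hzM : z ∈ M := hC a haM ha (Subgroup.mem_centralizer_singleton_iff.mpr hza.eq)
    exact hC z hzM hz (Subgroup.mem_centralizer_singleton_iff.mpr hzb.symm.eq)
  have hall : ∀ x y : S, orderOf x = 2 → orderOf y = 2 → IsConj x y := by
    have ht1 : ∀ b : S, orderOf b = 2 → IsConj t b := by
      intro b hb
      by_contra hne
      have hbM : b ∈ M := key t htM ht b hb hne
      have hsub : ∀ u : S, orderOf u = 2 → u ∈ M := by
        intro u hu
        by_cases hc : IsConj t u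
        · exact key b hbM hb u hu fun h => hne (hc.trans h.symm)
        · exact key t htM ht u hu hc
      have htc : t ∈ M.normalCore := fun g => hsub _ ((conj_ord g t).trans ht)
      exact absurd (hcore.of_dvd_nat (ht ▸ Subgroup.orderOf_dvd_natCard _ htc)) (by decide)
    exact fun x y hx hy => (ht1 x hx).symm.trans (ht1 y hy)
  refine ⟨hall, fun X I hI hIo hN => ?_⟩
  have hIS : orderOf (I : S) = 2 := by rw [Subgroup.orderOf_coe, hIo]
  obtain ⟨⟨I', hI'X⟩, hI'c, hII'⟩ := hI
  have hXI : ∀ u ∈ (X : Subgroup M), (u : S) * I = I * u := by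
    intro u hu
    rw [← hII']
    exact congrArg (fun w : ↥(X : Subgroup M) => ((w : M) : S))
      (Subgroup.mem_center_iff.mp hI'c ⟨u, hu⟩)
  -- fusion is controlled by `M`
  have hfus : ∀ g : S, g * (I : S) * g⁻¹ ∈ M → g ∈ M := by
    intro g hg
    have hle : ∀ u ∈ (X : Subgroup M), g * (u : S) * g⁻¹ ∈ M := fun u hu => by
      refine hC _ hg ((conj_ord g _).trans hIS) (Subgroup.mem_centralizer_singleton_iff.mpr ?_)
      calc g * u * g⁻¹ * (g * I * g⁻¹) = g * ((u : S) * I) * g⁻¹ := by group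
        _ = g * ((I : S) * u) * g⁻¹ := by rw [hXI u hu]
        _ = g * I * g⁻¹ * (g * u * g⁻¹) := by group
    let f : ↥(X : Subgroup M) →* M :=
      (((MulAut.conj g).toMonoidHom.comp M.subtype).comp (X : Subgroup M).subtype).codRestrict M
        fun u => hle u u.2
    have hf : Function.Injective f := fun u v h => by
      have h1 := (MulAut.conj g).injective (congrArg Subtype.val h)
      exact Subtype.ext (Subtype.ext h1)
    have hcard : Nat.card f.range = 2 ^ (Nat.card M).factorization 2 := by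
      rw [← Nat.card_congr (MonoidHom.ofInjective hf).toEquiv, X.card_eq_multiplicity]
    obtain ⟨m, hm⟩ := MulAction.exists_smul_eq M (Sylow.ofCard f.range hcard) X
    have hsub : ∀ w ∈ f.range, m * w * m⁻¹ ∈ (X : Subgroup M) := fun w hw => by
      rw [← hm, Sylow.coe_subgroup_smul, Subgroup.mem_pointwise_smul_iff_inv_smul_mem]
      simpa [MulAut.smul_def, mul_assoc] using hw
    have hmem : ∀ u ∈ (X : Subgroup M), (m : S) * (g * u * g⁻¹) * (m : S)⁻¹ ∈
        (X : Subgroup M).map M.subtype := fun u hu =>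
      ⟨m * f ⟨u, hu⟩ * m⁻¹, hsub _ ⟨_, rfl⟩, rfl⟩
    have hmg : (m : S) * g ∈ Subgroup.normalizer (((X : Subgroup M).map M.subtype : Subgroup S) : Set S) := by
      refine Subgroup.mem_normalizer_fintype ?_
      rintro _ ⟨u, hu, rfl⟩
      have := hmem u hu
      rwa [show (m : S) * g * (M.subtype u) * ((m : S) * g)⁻¹ =
        (m : S) * (g * u * g⁻¹) * (m : S)⁻¹ by simp [mul_assoc]]
    have := hN hmg
    simpa using mul_mem (inv_mem m.2) this
  have hconjM : ∀ x : M, orderOf x = 2 → ∃ g : M, g * I * g⁻¹ = x := by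
    intro x hx
    obtain ⟨g, hg⟩ := isConj_iff.mp (hall (I : S) x hIS (by rw [Subgroup.orderOf_coe, hx]))
    exact ⟨⟨g, hfus g (by rw [hg]; exact x.2)⟩, Subtype.ext hg⟩
  refine ⟨fun x y hx hy => ?_, ?_⟩
  · obtain ⟨g, hg⟩ := hconjM x hx
    obtain ⟨k, hk⟩ := hconjM y hy
    exact (isConj_iff.mpr ⟨g, hg⟩).symm.trans (isConj_iff.mpr ⟨k, hk⟩)
  -- `M` is strongly embedded
  have hne : M ≠ ⊤ := by
    rintro rfl
    have htc : t ∈ (⊤ : Subgroup S).normalCore := fun _ => Subgroup.mem_top _
    exact absurd (hcore.of_dvd_nat (ht ▸ Subgroup.orderOf_dvd_natCard _ htc)) (by decide)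
  have hse : Cfsg.IsStronglyEmbedded M := by
    rw [CfsgLib.Small.isStronglyEmbedded_iff hne hM]
    intro a ha hao g hg
    obtain ⟨k, hk⟩ := hconjM ⟨a, ha⟩ (by rw [Subgroup.orderOf_mk, hao])
    have hk' : (k : S) * I * (k : S)⁻¹ = a := congrArg Subtype.val hk
    have h1 := hfus (g⁻¹ * k) (by
      rw [← hk'] at hg
      simpa [mul_assoc] using hg)
    simpa using mul_mem k.2 (inv_mem h1)
  obtain ⟨u, hu⟩ : ∃ u : S, u ∉ M := by
    by_contra! h
    exact hne (eq_top_iff.mpr fun x _ => h x)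
  have huniq := CfsgLib.SEmbed.uniqueFix hse
  have hxy : ((1 : S) : S ⧸ M) ≠ (u : S ⧸ M) := fun e => hu (by
    simpa using QuotientGroup.eq.mp e)
  refine ⟨(M ⊓ M.map (MulAut.conj u).toMonoidHom).subgroupOf M, ?_, fun m => ?_⟩
  · rw [Nat.card_congr (Subgroup.subgroupOfEquivOfLe inf_le_left).toEquiv]
    exact hse.2.2 u hu
  · have hfix : ∀ w : S, w ∈ M → orderOf w = 2 →
        w ∈ CfsgLib.SEmbed.invMap (G := S) ((1 : S) : S ⧸ M) ((1 : S) : S ⧸ M) := fun w hw hwo =>
      ⟨hwo, (CfsgLib.SEmbed.smul_one_eq_iff M w).mpr hw⟩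
    obtain ⟨d, hd, hdI⟩ := CfsgLib.SEmbed.exists_conj_fix huniq hxy (hfix I I.2 hIS)
      (hfix _ (mul_mem (mul_mem m.2 I.2) (inv_mem m.2)) ((conj_ord _ _).trans hIS))
    rw [CfsgLib.SEmbed.pairStab_one] at hd
    have hdM : d ∈ M := (Subgroup.mem_inf.mp hd).1
    refine ⟨⟨d, hdM⟩, hd, ⟨d, hdM⟩⁻¹ * m, Subgroup.mem_centralizer_singleton_iff.mpr ?_,
      (mul_inv_cancel_left _ _).symm⟩
    apply Subtype.ext
    show d⁻¹ * (m : S) * I = I * (d⁻¹ * m)
    calc d⁻¹ * (m : S) * I = d⁻¹ * ((m : S) * I * (m : S)⁻¹) * m := by group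
      _ = d⁻¹ * (d * I * d⁻¹) * m := by rw [hdI]
      _ = I * (d⁻¹ * m) := by group

end Cfsg.Agent.S1905
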