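import Cfsg.Statements.S1906
import Cfsg.Agent.GLThreeTwo.Basic

set_option autoImplicit false
open Cfsg

namespace Cfsg.Agent.S1906

/-- Let G be a finite group with no subgroup of index 2 whose Sylow 2-subgroup X embeds in GL₃(F) for a finite field F of odd order. If X contains an elementary abelian subgroup of order 8, then X is abelian. -/
theorem result {G : Type*} [Group G] [Finite G] (hG : ∀ H : Subgroup G, H.index ≠ 2) (X : Sylow 2 G)
    {F : Type*} [Field F] [Fintype F] (hF : Odd (Fintype.card F))
    (f : ↥(X : Subgroup G) →* GL (Fin 3) F) (hf : Function.Injective f)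
    (E : Subgroup G) (hE : E ≤ (X : Subgroup G)) (hEa : Cfsg.IsElementaryAbelian 2 E) (hE8 : Nat.card E = 8) :
    IsMulCommutative (X : Subgroup G) := by
  haveI : Fact (Nat.Prime 2) := ⟨Nat.prime_two⟩
  have h2 : (2 : F) ≠ 0 := by
    intro h
    have hc : ringChar F = 2 :=
      CharP.ringChar_of_prime_eq_zero Nat.prime_two (by exact_mod_cast h)
    have := FiniteField.even_card_of_char_two hc
    rw [Nat.odd_iff] at hF
    omega
  by_contra hna
  obtain ⟨z, hz2, hzc, hzdet⟩ := CfsgLib.GLThreeTwo.central_involution h2 X.2 f hf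
    (E.subgroupOf (X : Subgroup G))
    ⟨⟨fun a b => Subtype.ext (Subtype.ext
      (congrArg Subtype.val (hEa.1.is_comm.comm (⟨a.1.1, a.2⟩ : E) ⟨b.1.1, b.2⟩) :))⟩⟩
    (fun a ha => Subtype.ext (by simpa using hEa.2 _ ha))
    (by rw [Nat.card_congr (Subgroup.subgroupOfEquivOfLe hE).toEquiv, hE8]) hna
  set χ := Matrix.GeneralLinearGroup.det.comp f with hχ
  have hA : IsPGroup 2 χ.range := by
    have h := X.2.of_surjective χ.rangeRestrict χ.rangeRestrict_surjective
    exact h
  have hχz : χ z = -1 := hzdet 1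
  refine Exists.elim (CfsgLib.GLThreeTwo.exists_index_two_of_central X hA χ.rangeRestrict
    (ε := χ.rangeRestrict z) ?_ ?_ ?_ z.2 (by simpa using congrArg Subtype.val hz2)
    (fun x hx => congrArg Subtype.val (hzc ⟨x, hx⟩)) ?_) hG
  · intro h
    have h' : (-1 : Fˣ) = 1 := hχz ▸ congrArg Subtype.val h
    have h'' : (-1 : F) = 1 := by simpa using congrArg Units.val h'
    exact h2 (by linear_combination -h'')
  · rw [← map_pow, hz2, map_one]
  · intro x hx
    have h : χ x * χ x = 1 := by rw [← pow_two, ← map_pow, hx, map_one]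
    have h' : ((χ x : Fˣ) : F) = 1 ∨ ((χ x : Fˣ) : F) = -1 :=
      mul_self_eq_one_iff.mp (by simpa using congrArg Units.val h)
    rcases h' with h' | h'
    · exact Or.inl (Subtype.ext (Units.ext h'))
    · exact Or.inr (Subtype.ext ((Units.ext (by simpa using h') : χ x = -1).trans hχz.symm))
  · intro g hg hgz
    have hconj : ∀ a : (X : Subgroup G), g⁻¹ * a * g ∈ (X : Subgroup G) := fun a => by
      have := (Subgroup.mem_normalizer_iff.mp (inv_mem hg) a).mp a.2
      rwa [inv_inv] at this
    have hconj' : ∀ a : (X : Subgroup G), g * a * g⁻¹ ∈ (X : Subgroup G) := fun a =>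
      (Subgroup.mem_normalizer_iff.mp hg a).mp a.2
    let σ : MulAut (X : Subgroup G) :=
      { toFun := fun a => ⟨g⁻¹ * a * g, hconj a⟩
        invFun := fun a => ⟨g * a * g⁻¹, hconj' a⟩
        left_inv := fun a => Subtype.ext (by simp [mul_assoc])
        right_inv := fun a => Subtype.ext (by simp [mul_assoc])
        map_mul' := fun a b => Subtype.ext (by simp [mul_assoc]) }
    exact Subtype.ext ((hzdet σ).trans hχz.symm)

end Cfsg.Agent.S1906
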