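import Cfsg.Statements.S1910

set_option autoImplicit false
open Cfsg

namespace Cfsg.Agent.S1910

open Subgroup

variable {G : Type*} [Group G] [Finite G]

theorem card_le_of_syl {T X Y : Subgroup G} (hT : T ≤ X) (hT2 : IsPGroup 2 T)
    (hTi : ¬ 2 ∣ T.relIndex X) (hY : Y ≤ X) (hY2 : IsPGroup 2 Y) :
    Nat.card Y ≤ Nat.card T := by
  haveI : Fact (Nat.Prime 2) := ⟨Nat.prime_two⟩
  have hTp : IsPGroup 2 (T.subgroupOf X) := hT2.of_equiv (subgroupOfEquivOfLe hT).symm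
  obtain ⟨P, hP⟩ := IsPGroup.exists_le_sylow
    (hY2.of_equiv (subgroupOfEquivOfLe hY).symm : IsPGroup 2 (Y.subgroupOf X))
  rw [← Nat.card_congr (subgroupOfEquivOfLe hY).toEquiv,
    ← Nat.card_congr (subgroupOfEquivOfLe hT).toEquiv]
  calc Nat.card (Y.subgroupOf X) ≤ Nat.card (P : Subgroup X) :=
        Nat.le_of_dvd Nat.card_pos (Subgroup.card_dvd_of_le hP)
    _ = Nat.card (T.subgroupOf X) := by
        rw [P.card_eq_multiplicity, ← (hTp.toSylow hTi).card_eq_multiplicity]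
        rfl

theorem exists_syl {R B : Subgroup G} (hR : R ≤ B) (hR2 : IsPGroup 2 R) :
    ∃ W : Subgroup G, R ≤ W ∧ W ≤ B ∧ IsPGroup 2 W ∧ ¬ 2 ∣ W.relIndex B := by
  haveI : Fact (Nat.Prime 2) := ⟨Nat.prime_two⟩
  obtain ⟨P, hP⟩ := IsPGroup.exists_le_sylow
    (hR2.of_equiv (subgroupOfEquivOfLe hR).symm : IsPGroup 2 (R.subgroupOf B))
  refine ⟨(P : Subgroup B).map B.subtype, ?_, map_subtype_le _, P.2.map _, ?_⟩
  · intro r hr
    exact ⟨⟨r, hR hr⟩, hP hr, rfl⟩
  · rw [Subgroup.relIndex, subgroupOf, comap_map_eq_self_of_injective B.subtype_injective]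
    exact P.not_dvd_index

theorem mem_conj_map {Q : Subgroup G} {g x : G} :
    x ∈ Q.map (MulAut.conj g).toMonoidHom ↔ g⁻¹ * x * g ∈ Q := by
  rw [Subgroup.mem_map_equiv, MulAut.conj_symm_apply]

theorem card_conj_map (Q : Subgroup G) (g : G) :
    Nat.card ↥(Q.map (MulAut.conj g).toMonoidHom) = Nat.card Q :=
  Subgroup.card_map_of_injective (MulAut.conj g).injective

/-- A nontrivial 2-group lies in at most one conjugate of `Q`. -/
theorem tight_eq {Q : Subgroup G} (hQ : Cfsg.IsTightlyEmbedded Q) {R : Subgroup G}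
    (hR2 : IsPGroup 2 R) (hR1 : R ≠ ⊥) {a b : G}
    (ha : R ≤ Q.map (MulAut.conj a).toMonoidHom) (hb : R ≤ Q.map (MulAut.conj b).toMonoidHom) :
    a⁻¹ * b ∈ normalizer (Q : Set G) := by
  haveI : Fact (Nat.Prime 2) := ⟨Nat.prime_two⟩
  by_contra h
  have hodd := hQ.2 _ h
  have hle : R.map (MulAut.conj a⁻¹).toMonoidHom ≤
      Q ⊓ Q.map (MulAut.conj (a⁻¹ * b)).toMonoidHom := by
    rintro _ ⟨r, hr, rfl⟩
    refine ⟨?_, ?_⟩
    · simpa [MulAut.conj_apply] using mem_conj_map.mp (ha hr)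
    · show (MulAut.conj a⁻¹) r ∈ Q.map _
      have := mem_conj_map.mp (hb hr)
      rw [mem_conj_map, MulAut.conj_apply, inv_inv]
      convert this using 1
      group
  have h1 := Subgroup.card_dvd_of_le hle
  rw [card_conj_map] at h1
  obtain ⟨n, hn⟩ := IsPGroup.iff_card.mp hR2
  have hn0 : n ≠ 0 := by
    rintro rfl
    exact hR1 (Subgroup.card_eq_one.mp (by rw [hn, pow_zero]))
  exact Nat.not_even_iff_odd.mpr hodd
    (even_iff_two_dvd.mpr (((hn ▸ dvd_pow_self 2 hn0) : 2 ∣ Nat.card R).trans h1))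

theorem key {Q : Subgroup G} (hQ : Cfsg.IsTightlyEmbedded Q) {g : G}
    (hg : g ∉ normalizer (Q : Set G)) {T : Subgroup G} (hT1 : T ≠ ⊥)
    (hT : T ≤ Q.map (MulAut.conj g).toMonoidHom ⊓ normalizer (Q : Set G))
    (hT2 : IsPGroup 2 T)
    (hTi : ¬ 2 ∣ T.relIndex (Q.map (MulAut.conj g).toMonoidHom ⊓ normalizer (Q : Set G)))
    {S : Subgroup G} (hTS : T ≤ S) (hS : S ≤ Q ⊔ T) (hS2 : IsPGroup 2 S)
    (hSi : ¬ 2 ∣ S.relIndex (Q ⊔ T)) :
    T ⊓ Q = ⊥ ∧
    ⁅T, S ⊓ normalizer (T : Set G) ⊓ Q⁆ = ⊥ ∧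
    T ⊔ (S ⊓ normalizer (T : Set G) ⊓ Q) = S ⊓ normalizer (T : Set G) ∧
    S ⊓ normalizer (T : Set G) ⊓ Q ≠ ⊥ ∧
    (∀ u ∈ S ⊓ normalizer (T : Set G) ⊓ Q, g⁻¹ * u * g ∈ normalizer (Q : Set G)) ∧
    Nat.card T ≤ Nat.card ↥(S ⊓ normalizer (T : Set G) ⊓ Q : Subgroup G) ∧
    (Nat.card T = Nat.card ↥(S ⊓ normalizer (T : Set G) ⊓ Q : Subgroup G) →
      Nonempty (↥(S ⊓ normalizer (T : Set G) ⊓ Q : Subgroup G) ≃* T)) := by
  haveI : Fact (Nat.Prime 2) := ⟨Nat.prime_two⟩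
  have hTN : T ≤ normalizer (Q : Set G) := hT.trans inf_le_right
  have hTQg : T ≤ Q.map (MulAut.conj g).toMonoidHom := hT.trans inf_le_left
  have hTQ : T ⊓ Q = ⊥ := by
    by_contra h
    have h1 := tight_eq hQ (a := 1) (b := g) (hT2.to_le inf_le_left) h
      (fun x hx => by rw [mem_conj_map]; simpa using hx.2) (inf_le_left.trans hTQg)
    exact hg (by simpa using h1)
  have hdec : ∀ R : Subgroup G, T ≤ R → R ≤ Q ⊔ T →
      T ⊔ (R ⊓ Q) = R ∧ Nat.card R = Nat.card T * Nat.card ↥(R ⊓ Q : Subgroup G) := by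
    intro R hTR hR
    have hmem : ∀ r ∈ R, ∃ t ∈ T, ∃ q ∈ R ⊓ Q, t * q = r := by
      intro r hr
      have h1 : r ∈ T ⊔ Q := sup_comm Q T ▸ hR hr
      rw [← SetLike.mem_coe, coe_mul_of_left_le_normalizer_right T Q hTN] at h1
      obtain ⟨t, ht, q, hq, rfl⟩ := h1
      refine ⟨t, ht, q, ⟨?_, hq⟩, rfl⟩
      simpa using R.mul_mem (R.inv_mem (hTR ht)) hr
    refine ⟨le_antisymm (sup_le hTR inf_le_left) fun r hr => ?_, ?_⟩
    · obtain ⟨t, ht, q, hq, rfl⟩ := hmem r hr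
      exact Subgroup.mul_mem_sup ht hq
    · rw [← Nat.card_prod]
      refine (Nat.card_eq_of_bijective (fun p : T × ↥(R ⊓ Q : Subgroup G) =>
        (⟨(p.1 : G) * p.2, R.mul_mem (hTR p.1.2) p.2.2.1⟩ : R)) ⟨?_, ?_⟩).symm
      · intro p q h
        exact Subgroup.mul_injective_of_disjoint (disjoint_iff.mpr (le_bot_iff.mp
          (hTQ ▸ inf_le_inf_left T inf_le_right))) (congrArg Subtype.val h)
      · rintro ⟨r, hr⟩
        obtain ⟨t, ht, q, hq, rfl⟩ := hmem r hr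
        exact ⟨(⟨t, ht⟩, ⟨q, hq⟩), rfl⟩
  set R := S ⊓ normalizer (T : Set G) with hR
  set U := R ⊓ Q with hU
  have hTR : T ≤ R := le_inf hTS le_normalizer
  have hUR : U ≤ R := inf_le_left
  obtain ⟨hsup, hRcard⟩ := hdec R hTR (inf_le_left.trans hS)
  obtain ⟨-, hScard⟩ := hdec S hTS hS
  have hQTcard : Nat.card ↥(Q ⊔ T : Subgroup G) = Nat.card T * Nat.card Q := by
    have h := (hdec (Q ⊔ T) le_sup_right le_rfl).2
    rwa [inf_eq_right.mpr (le_sup_left : Q ≤ Q ⊔ T)] at h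
  have hSQ : Nat.card Q = Nat.card ↥(S ⊓ Q : Subgroup G) * S.relIndex (Q ⊔ T) := by
    refine Nat.eq_of_mul_eq_mul_left (Nat.card_pos (α := T)) ?_
    rw [← hQTcard, ← mul_assoc, ← hScard, ← relIndex_bot_left, ← relIndex_bot_left,
      relIndex_mul_relIndex _ _ _ bot_le hS]
  have hcomm : ∀ t ∈ T, ∀ u ∈ U, t * u = u * t := by
    intro t ht u hu
    apply commutatorElement_eq_one_iff_mul_comm.mp
    rw [← Subgroup.mem_bot, ← hTQ]
    refine ⟨?_, ?_⟩
    · have : u * t⁻¹ * u⁻¹ ∈ T := (mem_normalizer_iff.mp hu.1.2 _).mp (T.inv_mem ht)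
      simpa [commutatorElement_def, mul_assoc] using T.mul_mem ht this
    · have : t * u * t⁻¹ ∈ Q := (mem_normalizer_iff.mp (hTN ht) _).mp hu.2
      exact Q.mul_mem this (Q.inv_mem hu.2)
  have hUne : U ≠ ⊥ := by
    intro hU1
    have hRT : R = T := by rw [← hsup, ← hU, hU1, sup_bot_eq]
    have hST : S = T := by
      by_contra hne
      have hlt : T.subgroupOf S < ⊤ :=
        lt_top_iff_ne_top.mpr fun h => hne (le_antisymm (subgroupOf_eq_top.mp h) hTS)
      haveI := hS2.isNilpotent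
      obtain ⟨x, hx, hxT⟩ := SetLike.exists_of_lt
        (Group.normalizerCondition_of_isNilpotent (T.subgroupOf S) hlt)
      apply hxT
      rw [mem_subgroupOf, ← hRT]
      refine ⟨x.2, ?_⟩
      refine Subgroup.mem_normalizer_fintype fun t ht => ?_
      exact (mem_normalizer_iff.mp hx ⟨t, hTS ht⟩).mp ht
    have hSQ1 : S ⊓ Q = ⊥ := by rw [hST, hTQ]
    rw [hSQ1, Subgroup.card_bot, one_mul] at hSQ
    exact hSi (hSQ ▸ even_iff_two_dvd.mp hQ.1)
  have hUg : ∀ u ∈ U, g⁻¹ * u * g ∈ normalizer (Q : Set G) := by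
    intro u hu
    have := tight_eq hQ hT2 hT1 (a := g) (b := u * g) hTQg (fun t ht => by
      rw [mem_conj_map]
      have h1 := mem_conj_map.mp (hTQg ht)
      have h2 : (u * g)⁻¹ * t * (u * g) = g⁻¹ * t * g := by
        calc (u * g)⁻¹ * t * (u * g) = g⁻¹ * u⁻¹ * (t * u) * g := by group
          _ = g⁻¹ * u⁻¹ * (u * t) * g := by rw [hcomm t ht u hu]
          _ = g⁻¹ * t * g := by group
      rwa [h2])
    simpa [mul_assoc] using this
  refine ⟨hTQ, ?_, hsup, hUne, hUg, ?_⟩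
  · rw [eq_bot_iff, commutator_le]
    intro t ht u hu
    rw [mem_bot, commutatorElement_eq_one_iff_mul_comm]
    exact hcomm t ht u hu
  by_cases hST : S ≤ normalizer (T : Set G)
  · have hRS : R = S := inf_eq_left.mpr hST
    have hUS : U = S ⊓ Q := by rw [hU, hRS]
    have hUi : ¬ 2 ∣ U.relIndex Q := by
      have h := relIndex_mul_relIndex (⊥ : Subgroup G) U Q bot_le (hU ▸ inf_le_right)
      rw [relIndex_bot_left, relIndex_bot_left] at h
      rw [hSQ, ← hUS] at h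
      rwa [Nat.eq_of_mul_eq_mul_left Nat.card_pos h]
    have hU2 : IsPGroup 2 U := hS2.to_le (hUS ▸ inf_le_left)
    have hUQ : U ≤ Q := hU ▸ inf_le_right
    set T0 := T.map (MulAut.conj g⁻¹).toMonoidHom with hT0
    have hT0Q : T0 ≤ Q := by
      rintro _ ⟨t, ht, rfl⟩
      simpa [MulAut.conj_apply] using mem_conj_map.mp (hTQg ht)
    have hT02 : IsPGroup 2 T0 := hT2.map _
    refine ⟨?_, fun heq => ?_⟩
    · rw [← card_conj_map T g⁻¹]
      exact card_le_of_syl hUQ hU2 hUi hT0Q hT02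
    · have hT0i : ¬ 2 ∣ T0.relIndex Q := by
        have h1 := relIndex_mul_relIndex (⊥ : Subgroup G) T0 Q bot_le hT0Q
        have h2 := relIndex_mul_relIndex (⊥ : Subgroup G) U Q bot_le hUQ
        rw [relIndex_bot_left, relIndex_bot_left] at h1 h2
        rw [hT0, card_conj_map, heq, ← h2] at h1
        rwa [Nat.eq_of_mul_eq_mul_left Nat.card_pos h1]
      have hp1 : IsPGroup 2 (U.subgroupOf Q) := hU2.of_equiv (subgroupOfEquivOfLe hUQ).symm
      have hp2 : IsPGroup 2 (T0.subgroupOf Q) := hT02.of_equiv (subgroupOfEquivOfLe hT0Q).symm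
      exact ⟨((subgroupOfEquivOfLe hUQ).symm.trans
        (((hp1.toSylow hUi).equiv (hp2.toSylow hT0i)).trans (subgroupOfEquivOfLe hT0Q))).trans
        (T.equivMapOfInjective _ (MulAut.conj g⁻¹).injective).symm⟩
  · have hlt : R.subgroupOf S < ⊤ :=
      lt_top_iff_ne_top.mpr fun h => hST ((subgroupOf_eq_top.mp h).trans inf_le_right)
    haveI := hS2.isNilpotent
    obtain ⟨x, hx, hxR⟩ := SetLike.exists_of_lt
      (Group.normalizerCondition_of_isNilpotent (R.subgroupOf S) hlt)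
    have hxn : ∀ r ∈ R, (x : G) * r * (x : G)⁻¹ ∈ R := fun r hr =>
      (mem_normalizer_iff.mp hx ⟨r, hr.1⟩).mp hr
    have hxT : (x : G) ∉ normalizer (T : Set G) := fun h => hxR ⟨x.2, h⟩
    have hxQ : (x : G) ∈ normalizer (Q : Set G) := by
      have : Q ⊔ T ≤ normalizer (Q : Set G) := sup_le le_normalizer hTN
      exact this (hS x.2)
    have hxg : g⁻¹ * (x : G) * g ∉ normalizer (Q : Set G) := by
      intro h
      apply hxT
      refine Subgroup.mem_normalizer_fintype fun t ht => ?_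
      set X := Q.map (MulAut.conj g).toMonoidHom ⊓ normalizer (Q : Set G) with hX
      have htX : (x : G) * t * (x : G)⁻¹ ∈ R ⊓ X := by
        refine ⟨hxn t (hTR ht), ?_, ?_⟩
        · show _ ∈ Q.map _
          rw [mem_conj_map]
          have := (mem_normalizer_iff.mp h _).mp (mem_conj_map.mp (hTQg ht))
          convert this using 1
          group
        · exact (normalizer (Q : Set G)).mul_mem ((normalizer (Q : Set G)).mul_mem hxQ (hTN ht))
            ((normalizer (Q : Set G)).inv_mem hxQ)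
      have hle : R ⊓ X ≤ T := by
        have hTle : T ≤ R ⊓ X := le_inf hTR hT
        have := card_le_of_syl hT hT2 hTi (inf_le_right : R ⊓ X ≤ X)
          (hS2.to_le (inf_le_left.trans inf_le_left))
        exact (eq_of_le_of_card_ge hTle this).ge
      exact hle htX
    -- `T ^ x` meets `T` trivially
    have hinter : ∀ t ∈ T, (x : G) * t * (x : G)⁻¹ ∈ T → t = 1 := by
      intro t ht htx
      by_contra hne
      apply hxg
      have hr1 : zpowers ((x : G) * t * (x : G)⁻¹) ≠ ⊥ := by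
        rw [ne_eq, zpowers_eq_bot, conj_eq_one_iff]; exact hne
      have := tight_eq hQ (R := zpowers ((x : G) * t * (x : G)⁻¹))
        (hT2.to_le (zpowers_le.mpr htx)) hr1 (a := g) (b := (x : G) * g)
        (zpowers_le.mpr (hTQg htx))
        (zpowers_le.mpr (by
          rw [mem_conj_map]
          convert mem_conj_map.mp (hTQg ht) using 1
          group))
      simpa [mul_assoc] using this
    haveI hTn : (T.subgroupOf R).Normal :=
      (normal_subgroupOf_iff_le_normalizer hTR).mpr inf_le_right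
    let qm := QuotientGroup.mk' (T.subgroupOf R)
    let f1 : U →* R ⧸ T.subgroupOf R := qm.comp (Subgroup.inclusion hUR)
    let cx : T →* R :=
      { toFun := fun t => ⟨(x : G) * t * (x : G)⁻¹, hxn t (hTR t.2)⟩
        map_one' := Subtype.ext (by simp)
        map_mul' := fun a b => Subtype.ext (by simp [mul_assoc]) }
    let f2 : T →* R ⧸ T.subgroupOf R := qm.comp cx
    have hf1 : Function.Injective f1 := by
      rw [← MonoidHom.ker_eq_bot_iff, eq_bot_iff]
      intro u hu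
      have h0 : Subgroup.inclusion hUR u ∈ T.subgroupOf R := (QuotientGroup.eq_one_iff _).mp hu
      have h1 : (u : G) ∈ T := h0
      exact Subtype.ext (mem_bot.mp (hTQ ▸ (⟨h1, u.2.2⟩ : (u : G) ∈ T ⊓ Q)))
    have hf2 : Function.Injective f2 := by
      rw [← MonoidHom.ker_eq_bot_iff, eq_bot_iff]
      intro t ht
      have h0 : cx t ∈ T.subgroupOf R := (QuotientGroup.eq_one_iff _).mp ht
      have h1 : (x : G) * t * (x : G)⁻¹ ∈ T := h0
      exact Subtype.ext (hinter t t.2 h1)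
    have hqcard : Nat.card (R ⧸ T.subgroupOf R) = Nat.card U := by
      have h := Subgroup.card_eq_card_quotient_mul_card_subgroup (T.subgroupOf R)
      rw [Nat.card_congr (subgroupOfEquivOfLe hTR).toEquiv, hRcard, mul_comm] at h
      exact (Nat.eq_of_mul_eq_mul_right Nat.card_pos h).symm
    refine ⟨hqcard ▸ Nat.card_le_card_of_injective f2 hf2, fun heq => ?_⟩
    exact ⟨(MulEquiv.ofBijective f1 (hf1.bijective_of_nat_card_le hqcard.le)).trans
      (MulEquiv.ofBijective f2 (hf2.bijective_of_nat_card_le (by rw [hqcard, heq]))).symm⟩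


/-- Let Q be a tightly embedded subgroup of a finite group G, g an element outside N_G(Q), T a nontrivial Sylow 2-subgroup of Q^g ∩ N_G(Q), and S a Sylow 2-subgroup of QT containing T. Then T ∩ Q = 1, and N_S(T) is the direct product of T and N_S(T) ∩ Q, with N_S(T) ∩ Q isomorphic to T. -/
theorem result {G : Type*} [Group G] [Finite G] (Q : Subgroup G) (hQ : Cfsg.IsTightlyEmbedded Q)
    (g : G) (hg : g ∉ Subgroup.normalizer (Q : Set G))
    (T : Subgroup G) (hT1 : T ≠ ⊥) (hT : T ≤ Q.map (MulAut.conj g).toMonoidHom ⊓ Subgroup.normalizer (Q : Set G))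
    (hTsyl : IsPGroup 2 T ∧ ¬ 2 ∣ T.relIndex (Q.map (MulAut.conj g).toMonoidHom ⊓ Subgroup.normalizer (Q : Set G)))
    (S : Subgroup G) (hTS : T ≤ S) (hS : S ≤ Q ⊔ T) (hSsyl : IsPGroup 2 S ∧ ¬ 2 ∣ S.relIndex (Q ⊔ T)) :
    T ⊓ Q = ⊥ ∧
      T ⊓ (S ⊓ Subgroup.normalizer (T : Set G) ⊓ Q) = ⊥ ∧
      ⁅T, S ⊓ Subgroup.normalizer (T : Set G) ⊓ Q⁆ = ⊥ ∧
      T ⊔ (S ⊓ Subgroup.normalizer (T : Set G) ⊓ Q) = S ⊓ Subgroup.normalizer (T : Set G) ∧
      Nonempty (↥(S ⊓ Subgroup.normalizer (T : Set G) ⊓ Q) ≃* T) := by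
  haveI : Fact (Nat.Prime 2) := ⟨Nat.prime_two⟩
  obtain ⟨hTQ, hcom, hsup, hUne, hUg, hle, hiso⟩ :=
    key hQ hg hT1 hT hTsyl.1 hTsyl.2 hTS hS hSsyl.1 hSsyl.2
  refine ⟨hTQ, ?_, hcom, hsup, hiso ?_⟩
  · exact le_bot_iff.mp (hTQ ▸ inf_le_inf_left T inf_le_right)
  refine le_antisymm hle ?_
  set U := S ⊓ Subgroup.normalizer (T : Set G) ⊓ Q with hU
  set B := Q ⊓ (Subgroup.normalizer (Q : Set G)).map (MulAut.conj g).toMonoidHom with hB
  have hUB : U ≤ B := fun u hu => ⟨hu.2, mem_conj_map.mpr (hUg u hu)⟩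
  obtain ⟨W, hUW, hWB, hW2, hWi⟩ := exists_syl hUB
    (hSsyl.1.to_le (inf_le_left.trans inf_le_left))
  set T' := W.map (MulAut.conj g⁻¹).toMonoidHom with hT'
  have hg' : g⁻¹ ∉ Subgroup.normalizer (Q : Set G) := fun h => hg (by simpa using inv_mem h)
  have hB' : B.map (MulAut.conj g⁻¹).toMonoidHom =
      Q.map (MulAut.conj g⁻¹).toMonoidHom ⊓ Subgroup.normalizer (Q : Set G) := by
    ext y
    simp only [hB, Subgroup.mem_inf, mem_conj_map, inv_inv]
    constructor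
    · rintro ⟨h1, h2⟩
      exact ⟨h1, by simpa [mul_assoc] using h2⟩
    · rintro ⟨h1, h2⟩
      exact ⟨h1, by simpa [mul_assoc] using h2⟩
  have hT'1 : T' ≠ ⊥ := by
    rw [hT', ne_eq, Subgroup.map_eq_bot_iff_of_injective _ (MulAut.conj g⁻¹).injective]
    exact fun h => hUne (le_bot_iff.mp (h ▸ hUW))
  have hT'le : T' ≤ Q.map (MulAut.conj g⁻¹).toMonoidHom ⊓ Subgroup.normalizer (Q : Set G) :=
    hB' ▸ Subgroup.map_mono hWB
  have hT'2 : IsPGroup 2 T' := hW2.map _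
  have hT'i : ¬ 2 ∣ T'.relIndex
      (Q.map (MulAut.conj g⁻¹).toMonoidHom ⊓ Subgroup.normalizer (Q : Set G)) := by
    rw [← hB', hT', Subgroup.relIndex_map_map_of_injective _ _ (MulAut.conj g⁻¹).injective]
    exact hWi
  obtain ⟨S', hT'S', hS'le, hS'2, hS'i⟩ :=
    exists_syl (le_sup_right : T' ≤ Q ⊔ T') hT'2
  obtain ⟨-, -, -, -, hUg', hle', -⟩ :=
    key hQ hg' hT'1 hT'le hT'2 hT'i hT'S' hS'le hS'2 hS'i
  set U' := S' ⊓ Subgroup.normalizer (T' : Set G) ⊓ Q with hU'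
  calc Nat.card U ≤ Nat.card W := Nat.le_of_dvd Nat.card_pos (Subgroup.card_dvd_of_le hUW)
    _ = Nat.card T' := (card_conj_map W g⁻¹).symm
    _ ≤ Nat.card U' := hle'
    _ = Nat.card ↥(U'.map (MulAut.conj g).toMonoidHom) := (card_conj_map U' g).symm
    _ ≤ Nat.card T := by
      refine card_le_of_syl hT hTsyl.1 hTsyl.2 ?_
        ((hS'2.to_le (inf_le_left.trans inf_le_left)).map _)
      rintro _ ⟨u, hu, rfl⟩
      refine ⟨Subgroup.mem_map_of_mem _ hu.2, ?_⟩
      simpa [MulAut.conj_apply, mul_assoc] using hUg' u hu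

end Cfsg.Agent.S1910
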