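import Cfsg.Statements.S1914
import Cfsg.Agent.CyclicFour.CaseOne
import Cfsg.Agent.CyclicFour.CaseTwo
import Cfsg.Agent.RankOneFour.Main
import Cfsg.Agent.Components.Layer
-- import your own Cfsg.Agent.* helpers here

set_option autoImplicit false
open Cfsg

namespace Cfsg.Agent.S1914

open Subgroup CfsgLib.RankOneFour CfsgLib.CyclicFour in
/-- No two commuting involutions of `A`. -/
theorem rank_one {G : Type*} [Group G] [Finite G] (A : Subgroup G)
    (hperf : ∀ H : Subgroup A, H.index ≠ 2) (hns : ¬ Group.IsSolvable ↥A)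
    {t y : G} (htt : t * t = 1) (ht1 : t ≠ 1) (htA : t ∈ normalizer (A : Set G))
    (hyA : y ∈ A) (hty : t * y = y * t) (hy4 : orderOf y = 4)
    (huniq : ∀ f ∈ A, ∀ f' ∈ A, f * f = 1 → f' * f' = 1 → f ≠ 1 → f' ≠ 1 → f * f' = f' * f →
      t * f = f * t → t * f' = f' * t → f = f')
    (hfix : ∀ P : Subgroup G, IsPGroup 2 P → P ≤ A → (∀ x ∈ P, t * x = x * t) → zpowers y ≤ P →
      P = zpowers y)
    {a₁ b₁ : G} (ha : a₁ ∈ A) (hb : b₁ ∈ A) (haa : a₁ * a₁ = 1) (hbb : b₁ * b₁ = 1)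
    (ha1 : a₁ ≠ 1) (hb1 : b₁ ≠ 1) (hab : a₁ ≠ b₁) (hcomm : a₁ * b₁ = b₁ * a₁) : False := by
  classical
  haveI : Fact (Nat.Prime 2) := ⟨Nat.prime_two⟩
  have hord : ∀ {x : G}, orderOf x = 2 → x * x = 1 ∧ x ≠ 1 := fun {x} hx =>
    ⟨by rw [← sq, ← hx, pow_orderOf_eq_one], fun h => by rw [h, orderOf_one] at hx; norm_num at hx⟩
  have hinv : ∀ {x : G}, x * x = 1 → x ≠ 1 → orderOf x = 2 := fun {x} h h' =>
    orderOf_eq_prime (by rw [sq]; exact h) h'
  -- the subgroup generated by two commuting elements of two-power order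
  have hpair : ∀ p q : G, p * q = q * p → IsPGroup 2 (zpowers p) → IsPGroup 2 (zpowers q) →
      IsPGroup 2 (zpowers p ⊔ zpowers q : Subgroup G) := fun p q hpq hp hq =>
    hp.to_sup_of_normal_left' hq (zpowers_le.2 (mem_normalizer_of_forall_conj fun c hc => by
      obtain ⟨k, rfl⟩ := mem_zpowers_iff.1 hc
      rw [((show Commute q p from hpq.symm).zpow_right k).eq, mul_inv_cancel_right]
      exact zpow_mem (mem_zpowers p) k))
  have hP2 : ∀ {x : G}, x * x = 1 → IsPGroup 2 (zpowers x) := fun {x} hx => by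
    intro p
    obtain ⟨k, hk⟩ := mem_zpowers_iff.1 p.2
    refine ⟨1, Subtype.ext ?_⟩
    rw [pow_one, sq, Subgroup.coe_mul, ← hk, ← (Commute.refl x).mul_zpow, hx, one_zpow,
      Subgroup.coe_one]
  have hy2 : IsPGroup 2 (zpowers y) :=
    IsPGroup.of_card (n := 2) (by rw [Nat.card_zpowers, hy4]; norm_num)
  set K := A ⊔ zpowers t with hK
  have hKA : K ≤ normalizer (A : Set G) := sup_le le_normalizer (zpowers_le.2 htA)
  obtain ⟨T, hTK, hP₀T, hT, hTmax⟩ := exists_max_pGroup (K := K) (hpair y t hty.symm hy2 (hP2 htt))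
    (sup_le ((zpowers_le.2 hyA).trans le_sup_left) le_sup_right)
  have htT : t ∈ T := hP₀T (mem_sup_right (mem_zpowers t))
  have hyT : y ∈ T := hP₀T (mem_sup_left (mem_zpowers y))
  -- fixed points of `t` in `A ⊓ T`
  have hfixed : ∀ x ∈ A ⊓ T, t * x = x * t → x ∈ zpowers y := by
    intro x hx htx
    have h1 := hfix (A ⊓ T ⊓ centralizer ({t} : Set G)) (hT.to_le (inf_le_left.trans inf_le_right))
      (inf_le_left.trans inf_le_left)
      (fun p hp => (mem_centralizer_singleton_iff.1 hp.2).symm)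
      (zpowers_le.2 ⟨⟨hyA, hyT⟩, mem_centralizer_singleton_iff.2 hty.symm⟩)
    exact h1 ▸ ⟨hx, mem_centralizer_singleton_iff.2 htx.symm⟩
  -- two commuting involutions in `A ⊓ T`
  have hrk : ∃ a ∈ A ⊓ T, ∃ b ∈ A ⊓ T, orderOf a = 2 ∧ orderOf b = 2 ∧ a ≠ b ∧ a * b = b * a := by
    obtain ⟨k, hk, hkP⟩ := exists_conj_into hT hTK hTmax (hpair a₁ b₁ hcomm (hP2 haa) (hP2 hbb))
      ((sup_le (zpowers_le.2 ha) (zpowers_le.2 hb)).trans le_sup_left)
    have hkA := hKA hk
    refine ⟨k * a₁ * k⁻¹,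
      ⟨((mem_normalizer_iff.1 hkA) a₁).1 ha, hkP _ (mem_sup_left (mem_zpowers a₁))⟩,
      k * b₁ * k⁻¹,
      ⟨((mem_normalizer_iff.1 hkA) b₁).1 hb, hkP _ (mem_sup_right (mem_zpowers b₁))⟩,
      ?_, ?_, fun h => hab (conj_cancel.1 h), conj_commute hcomm⟩
    · exact hinv (conj_sq_one haa) (fun h => ha1 (conj_eq_one_iff.1 h))
    · exact hinv (conj_sq_one hbb) (fun h => hb1 (conj_eq_one_iff.1 h))
  obtain ⟨hy2o, hyy, hyy1⟩ := pow_four_of_orderOf hy4
  by_cases htA' : t ∈ A
  · -- `t` is central in `T`, so `A ⊓ T` is cyclic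
    have hTA : T ≤ A := hTK.trans (sup_le le_rfl (zpowers_le.2 htA'))
    have hty2 : t * (y * y) = y * y * t := ((show Commute t y from hty).mul_right hty).eq
    have htyy : t = y * y :=
      huniq t htA' _ (mul_mem hyA hyA) htt hyy ht1 hyy1 hty2 rfl hty2
    haveI : Nontrivial T := (nontrivial_iff_exists_ne_one T).2 ⟨t, htT, ht1⟩
    obtain ⟨n, hn⟩ := IsPGroup.iff_card.1 (hT.to_subgroup (center T))
    have hn0 : n ≠ 0 := by
      rintro rfl
      haveI := hT.center_nontrivial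
      have := Finite.one_lt_card (α := center T)
      omega
    obtain ⟨c, hc⟩ := exists_prime_orderOf_dvd_card' (G := center T) 2
      (hn ▸ dvd_pow_self 2 hn0)
    have hco : orderOf ((c : T) : G) = 2 := by rw [Subgroup.orderOf_coe, Subgroup.orderOf_coe, hc]
    obtain ⟨hcc, hc1⟩ := hord hco
    have hcT : ∀ p ∈ T, p * ((c : T) : G) = ((c : T) : G) * p := fun p hp =>
      congrArg Subtype.val (mem_center_iff.1 c.2 ⟨p, hp⟩)
    have hct : ((c : T) : G) = t :=
      huniq _ (hTA (c : T).2) t htA' hcc htt hc1 ht1 (hcT t htT).symm (hcT t htT) rfl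
    obtain ⟨a, haS, b, hbS, ha2, hb2, hne, -⟩ := hrk
    have hmem : ∀ p ∈ A ⊓ T, orderOf p = 2 → p = y * y := fun p hp hpo =>
      (eq_of_involution (mul_mem (mem_zpowers y) (mem_zpowers y)) hy2o
        (hfixed p hp (by have := hcT p hp.2; rw [hct] at this; exact this.symm))
        (hord hpo).1).resolve_left (hord hpo).2
    exact hne ((hmem a haS ha2).trans (hmem b hbS hb2).symm)
  have h : Setting A T t y := ⟨hperf, htt, htA', htA, ⟨hyA, hyT⟩, hty, hy4, htT, hTK, hT, hTmax,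
    hfixed, huniq⟩
  by_cases hsplit : ∃ z ∈ A ⊓ T, ∃ e ∈ A ⊓ T, orderOf z = 2 ∧ orderOf e = 2 ∧ z ≠ e ∧
      (∀ p ∈ T, p * z = z * p) ∧ (∀ p ∈ T, p * e * p⁻¹ = e ∨ p * e * p⁻¹ = z * e)
  · obtain ⟨z, hzS, e, heS, hzo, heo, hze, hzc, hconj⟩ := hsplit
    exact h.false_of_normal_four hns hzS heS hzo heo hze hzc hconj
  have hTS : T ≤ normalizer ((A ⊓ T : Subgroup G) : Set G) := fun p hp =>
    mem_normalizer_of_forall_conj fun q hq => h.conj_mem hp hq
  obtain ⟨g, z, hC⟩ := exists_cyclicMax hT inf_le_right hTS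
    (fun z hz e he hzo heo hze hzc hconj =>
      hsplit ⟨z, hz, e, he, hzo, heo, hze, hzc, hconj⟩) hrk
  obtain ⟨a, haS, b, hbS, ha2, hb2, hne, -⟩ := hrk
  obtain ⟨h1, h2⟩ := hord ha2
  obtain ⟨h3, h4⟩ := hord hb2
  by_cases haC : a ∈ zpowers g
  · refine h.false_of_cyclicMax hC hbS h3 fun hbC => hne ?_
    exact ((eq_of_involution hC.z_mem hC.z_ord haC h1).resolve_left h2).trans
      ((eq_of_involution hC.z_mem hC.z_ord hbC h3).resolve_left h4).symm
  · exact h.false_of_cyclicMax hC haS h1 haC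

open Subgroup CfsgLib.RankOneFour CfsgLib.CyclicFour in
/-- Let A be a semisimple subgroup (a central product of quasisimple groups, A = E(A)) of a finite group and t an involution normalizing A such that the Sylow 2-subgroups of C_A(t) are cyclic of order 4. Then A has 2-rank exactly 1. -/
theorem result {G : Type*} [Group G] [Finite G] (A : Subgroup G) (hA : Cfsg.layer ↥A = ⊤)
    (t : G) (ht : orderOf t = 2) (htA : t ∈ Subgroup.normalizer (A : Set G))
    (hC : ∀ R : Sylow 2 ↥(A ⊓ Subgroup.centralizer ({t} : Set G)), IsCyclic R ∧ Nat.card R = 4) :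
    Cfsg.PRankLE 2 1 A ∧ ¬ Cfsg.PRankLE 2 0 A := by
  haveI : Fact (Nat.Prime 2) := ⟨Nat.prime_two⟩
  have htt : t * t = 1 := by rw [← sq, ← ht, pow_orderOf_eq_one]
  have ht1 : t ≠ 1 := fun h => by rw [h, orderOf_one] at ht; norm_num at ht
  set C : Subgroup G := A ⊓ centralizer ({t} : Set G) with hCdef
  have hCt : ∀ x ∈ C, t * x = x * t := fun x hx => (mem_centralizer_singleton_iff.1 hx.2).symm
  -- Sylow subgroups of `C` inside `G`
  have hgen : ∀ R : Sylow 2 C, ∃ r : G, r ∈ C ∧ orderOf r = 4 ∧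
      (R : Subgroup C).map C.subtype = zpowers r := by
    intro R
    obtain ⟨hcyc, hcard⟩ := hC R
    obtain ⟨r, hr⟩ := hcyc.exists_generator
    refine ⟨((r : C) : G), (r : C).2, ?_, le_antisymm ?_ (zpowers_le.2 ⟨_, r.2, rfl⟩)⟩
    · rw [Subgroup.orderOf_coe, Subgroup.orderOf_coe, orderOf_eq_card_of_forall_mem_zpowers hr,
        hcard]
    · rintro _ ⟨p, hp, rfl⟩
      obtain ⟨k, hk⟩ := mem_zpowers_iff.1 (hr ⟨p, hp⟩)
      refine ⟨k, ?_⟩
      have := congrArg (fun q : R => ((q : C) : G)) hk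
      simpa using this
  have hinto : ∀ P : Subgroup G, IsPGroup 2 P → P ≤ C →
      ∃ r : G, orderOf r = 4 ∧ P ≤ zpowers r := by
    intro P hP hPC
    obtain ⟨R, hR⟩ := (hP.comap_subtype (K := C)).exists_le_sylow
    obtain ⟨r, -, hr4, hr⟩ := hgen R
    exact ⟨r, hr4, hr ▸ fun p hp => ⟨⟨p, hPC hp⟩, hR hp, rfl⟩⟩
  obtain ⟨R₀⟩ : Nonempty (Sylow 2 C) := inferInstance
  obtain ⟨y, hyC, hy4, -⟩ := hgen R₀
  obtain ⟨hy2o, hyy, hyy1⟩ := pow_four_of_orderOf hy4
  have hperf : ∀ H : Subgroup A, H.index ≠ 2 := by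
    intro H hH
    haveI : H.Normal := normal_of_index_eq_two hH
    have h1 : ⁅(⊤ : Subgroup A), (⊤ : Subgroup A)⁆ ≤ H := by
      haveI : IsCyclic (↥A ⧸ H) := isCyclic_of_prime_card (p := 2) hH
      haveI : IsMulCommutative (↥A ⧸ H) := IsCyclic.isMulCommutative
      rw [← commutator_def]
      exact Subgroup.Normal.quotient_commutative_iff_commutator_le.1 inferInstance
    have h2 := CfsgLib.Components.layer_commutator_self (G := A)
    rw [hA] at h2
    rw [h2, top_le_iff] at h1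
    rw [h1, index_top] at hH
    norm_num at hH
  haveI : Nontrivial A := (nontrivial_iff_exists_ne_one A).2 ⟨y * y, mul_mem hyC.1 hyC.1, hyy1⟩
  have hns : ¬ Group.IsSolvable ↥A := fun hs => by
    have h1 := Group.IsSolvable.commutator_lt_top_of_nontrivial A
    have h2 := CfsgLib.Components.layer_commutator_self (G := A)
    rw [hA] at h2
    rw [commutator_def, h2] at h1
    exact lt_irrefl _ h1
  refine ⟨fun B hBc hB2 => ?_, fun h0 => ?_⟩
  · by_contra hcard
    classical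
    haveI := Fintype.ofFinite B
    rw [pow_one, not_le, Nat.card_eq_fintype_card] at hcard
    obtain ⟨a, b, c, hab, hac, hbc⟩ := Fintype.two_lt_card_iff.1 hcard
    obtain ⟨p, q, hp1, hq1, hpq⟩ : ∃ p q : B, p ≠ 1 ∧ q ≠ 1 ∧ p ≠ q := by
      by_cases ha : a = 1
      · exact ⟨b, c, fun h => hab (ha.trans h.symm), fun h => hac (ha.trans h.symm), hbc⟩
      by_cases hb : b = 1
      · exact ⟨a, c, ha, fun h => hbc (hb.trans h.symm), hac⟩
      exact ⟨a, b, ha, hb, hab⟩
    have hsq : ∀ s : B, ((s : A) : G) * ((s : A) : G) = 1 := fun s => by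
      have := congrArg Subtype.val (hB2 s s.2)
      simpa [sq] using this
    refine rank_one A hperf hns htt ht1 htA hyC.1 (hCt y hyC) hy4 ?_ ?_
      (p : A).2 (q : A).2 (hsq p) (hsq q) (fun h => hp1 (Subtype.ext (Subtype.ext h)))
      (fun h => hq1 (Subtype.ext (Subtype.ext h))) (fun h => hpq (Subtype.ext (Subtype.ext h)))
      (congrArg (fun s : B => ((s : A) : G)) (hBc.is_comm.comm p q))
    · intro f hf f' hf' hff hff' hf1 hf'1 hc htf htf'
      have h2 : ∀ {x : G}, x * x = 1 → x ≠ 1 → IsPGroup 2 (zpowers x) := fun {x} hx hx1 =>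
        IsPGroup.of_card (n := 1) (by
          rw [Nat.card_zpowers, orderOf_eq_prime (by rw [sq]; exact hx) hx1, pow_one])
      obtain ⟨r, hr4, hr⟩ := hinto (zpowers f ⊔ zpowers f')
        ((h2 hff hf1).to_sup_of_normal_left' (h2 hff' hf'1)
          (zpowers_le.2 (mem_normalizer_of_forall_conj fun c hc' => by
            obtain ⟨k, rfl⟩ := mem_zpowers_iff.1 hc'
            rw [((show Commute f' f from hc.symm).zpow_right k).eq, mul_inv_cancel_right]
            exact zpow_mem (mem_zpowers f) k)))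
        (sup_le (zpowers_le.2 ⟨hf, mem_centralizer_singleton_iff.2 htf.symm⟩)
          (zpowers_le.2 ⟨hf', mem_centralizer_singleton_iff.2 htf'.symm⟩))
      have hz := mul_mem (mem_zpowers r) (mem_zpowers r)
      have hzo := (pow_four_of_orderOf hr4).1
      exact ((eq_of_involution hz hzo (hr (mem_sup_left (mem_zpowers f))) hff).resolve_left hf1).trans
        ((eq_of_involution hz hzo (hr (mem_sup_right (mem_zpowers f'))) hff').resolve_left hf'1).symm
    · intro P hP hPA hPt hyP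
      obtain ⟨r, hr4, hr⟩ := hinto P hP (fun x hx =>
        ⟨hPA hx, mem_centralizer_singleton_iff.2 (hPt x hx).symm⟩)
      refine (eq_of_le_of_card_ge hyP ?_).symm
      rw [Nat.card_zpowers, hy4, ← hr4, ← Nat.card_zpowers]
      exact card_le_of_le hr
  · have h1 := h0 (zpowers ⟨y * y, mul_mem hyC.1 hyC.1⟩) inferInstance (by
      rintro _ ⟨k, rfl⟩
      refine Subtype.ext ?_
      simp only [Subgroup.coe_pow, SubgroupClass.coe_zpow, Subgroup.coe_one]
      rw [sq, ← (Commute.refl (y * y)).mul_zpow, hyy, one_zpow])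
    rw [Nat.card_zpowers, ← Subgroup.orderOf_coe] at h1
    simp only [pow_zero] at h1
    rw [hy2o] at h1
    norm_num at h1

end Cfsg.Agent.S1914
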