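import Cfsg.Statements.S1915
import Cfsg.Agent.RankOneFour.Main
import Cfsg.Agent.Components.Layer
-- import your own Cfsg.Agent.* helpers here

set_option autoImplicit false
open Cfsg

namespace Cfsg.Agent.S1915

/-- Let A be a semisimple subgroup (A = E(A)) of a finite group and U a Klein four-group normalizing A. If the subgroup of A generated by the normalizers N_A(V) of the nontrivial subgroups V of U has 2-rank exactly 1, then A has 2-rank exactly 1. -/
theorem result {G : Type*} [Group G] [Finite G] (A : Subgroup G) (hA : Cfsg.layer ↥A = ⊤)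
    (U : Subgroup G) (hU : IsKleinFour U) (hUA : U ≤ Subgroup.normalizer (A : Set G))
    (hΓ : Cfsg.PRankLE 2 1 ↥(⨆ V : {V : Subgroup G // V ≤ U ∧ V ≠ ⊥}, A ⊓ Subgroup.normalizer ((V : Subgroup G) : Set G)) ∧
      ¬ Cfsg.PRankLE 2 0 ↥(⨆ V : {V : Subgroup G // V ≤ U ∧ V ≠ ⊥}, A ⊓ Subgroup.normalizer ((V : Subgroup G) : Set G))) :
    Cfsg.PRankLE 2 1 A ∧ ¬ Cfsg.PRankLE 2 0 A := by
  haveI : Fact (Nat.Prime 2) := ⟨Nat.prime_two⟩
  set Γ : Subgroup G := ⨆ V : {V : Subgroup G // V ≤ U ∧ V ≠ ⊥},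
    A ⊓ Subgroup.normalizer ((V : Subgroup G) : Set G) with hΓdef
  have hΓA : Γ ≤ A := iSup_le fun V => inf_le_left
  -- elementary abelian subgroups of `Γ` have order at most `2`
  have hΓ' : ∀ u ∈ U, u ≠ 1 → ∀ x ∈ A, ∀ y ∈ A, x * x = 1 → y * y = 1 → x ≠ 1 → y ≠ 1 → x ≠ y →
      x * y = y * x → u * x = x * u → u * y = y * u → False := by
    intro u hu hu1 x hx y hy hxx hyy hx1 hy1 hxy hc hux huy
    have hV : Subgroup.zpowers u ≤ U ∧ Subgroup.zpowers u ≠ ⊥ :=
      ⟨Subgroup.zpowers_le.2 hu, fun h => hu1 (Subgroup.zpowers_eq_bot.1 h)⟩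
    have hmem : ∀ a ∈ A, u * a = a * u → a ∈ Γ := by
      intro a ha hua
      refine le_iSup (fun V : {V : Subgroup G // V ≤ U ∧ V ≠ ⊥} =>
        A ⊓ Subgroup.normalizer ((V : Subgroup G) : Set G)) ⟨_, hV⟩ ⟨ha, ?_⟩
      exact Subgroup.mem_normalizer_iff.2 fun k => by
        constructor
        · intro hk
          obtain ⟨i, rfl⟩ := Subgroup.mem_zpowers_iff.1 hk
          rw [((show Commute a u from hua.symm).zpow_right i).eq, mul_inv_cancel_right]
          exact Subgroup.zpow_mem _ (Subgroup.mem_zpowers u) i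
        · intro hk
          obtain ⟨i, hi⟩ := Subgroup.mem_zpowers_iff.1 hk
          have : k = a⁻¹ * u ^ i * a := by rw [hi]; group
          rw [this, mul_assoc, ((show Commute u a from hua).zpow_left i).eq, inv_mul_cancel_left]
          exact Subgroup.zpow_mem _ (Subgroup.mem_zpowers u) i
    have hxΓ := hmem x hx hux
    have hyΓ := hmem y hy huy
    have hgen : ∀ a ∈ ({⟨x, hxΓ⟩, ⟨y, hyΓ⟩} : Set Γ), ∀ b ∈ ({⟨x, hxΓ⟩, ⟨y, hyΓ⟩} : Set Γ),
        a * b = b * a := by
      rintro a (rfl | rfl) b (rfl | rfl) <;>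
        first | rfl | exact Subtype.ext hc | exact Subtype.ext hc.symm
    haveI hcm := Subgroup.isMulCommutative_closure hgen
    have h2 : ∀ a ∈ Subgroup.closure ({⟨x, hxΓ⟩, ⟨y, hyΓ⟩} : Set Γ), a ^ 2 = 1 := by
      intro a ha
      induction ha using Subgroup.closure_induction with
      | mem a ha =>
        rcases ha with rfl | rfl
        · exact Subtype.ext (by simpa [sq] using hxx)
        · exact Subtype.ext (by simpa [sq] using hyy)
      | one => exact one_pow 2
      | mul a b ha hb e1 e2 =>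
        have : Commute a b := congrArg Subtype.val (hcm.is_comm.comm ⟨a, ha⟩ ⟨b, hb⟩)
        rw [this.mul_pow, e1, e2, mul_one]
      | inv a _ e1 => rw [inv_pow, e1, inv_one]
    have h3 := hΓ.1 _ hcm h2
    classical
    haveI := Fintype.ofFinite (Subgroup.closure ({⟨x, hxΓ⟩, ⟨y, hyΓ⟩} : Set Γ))
    rw [Nat.card_eq_fintype_card, pow_one] at h3
    have h4 : 2 < Fintype.card (Subgroup.closure ({⟨x, hxΓ⟩, ⟨y, hyΓ⟩} : Set Γ)) := by
      refine Fintype.two_lt_card_iff.2 ⟨⟨⟨x, hxΓ⟩, Subgroup.subset_closure (by simp)⟩,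
        ⟨⟨y, hyΓ⟩, Subgroup.subset_closure (by simp)⟩, 1, ?_, ?_, ?_⟩
      · exact fun h => hxy (congrArg Subtype.val (Subtype.mk.inj h))
      · exact fun h => hx1 (congrArg Subtype.val (congrArg Subtype.val h))
      · exact fun h => hy1 (congrArg Subtype.val (congrArg Subtype.val h))
    omega
  have hperf : ∀ H : Subgroup A, H.index ≠ 2 := by
    intro H hH
    haveI : H.Normal := Subgroup.normal_of_index_eq_two hH
    have h1 : ⁅(⊤ : Subgroup A), (⊤ : Subgroup A)⁆ ≤ H := by
      haveI : Fact (Nat.Prime 2) := ⟨Nat.prime_two⟩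
      haveI : IsCyclic (↥A ⧸ H) := isCyclic_of_prime_card (p := 2) hH
      haveI : IsMulCommutative (↥A ⧸ H) := IsCyclic.isMulCommutative
      rw [← commutator_def]
      exact Subgroup.Normal.quotient_commutative_iff_commutator_le.1 inferInstance
    have h2 := CfsgLib.Components.layer_commutator_self (G := A)
    rw [hA] at h2
    rw [h2, top_le_iff] at h1
    rw [h1, Subgroup.index_top] at hH
    norm_num at hH
  refine ⟨?_, fun h0 => hΓ.2 fun B hBc hB2 => ?_⟩
  · intro B hBc hB2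
    by_contra hcard
    classical
    haveI := Fintype.ofFinite B
    rw [pow_one, not_le, Nat.card_eq_fintype_card] at hcard
    obtain ⟨a, b, c, hab, hac, hbc⟩ := Fintype.two_lt_card_iff.1 hcard
    obtain ⟨x, y, hx1, hy1, hxy⟩ : ∃ x y : B, x ≠ 1 ∧ y ≠ 1 ∧ x ≠ y := by
      by_cases ha : a = 1
      · exact ⟨b, c, fun h => hab (ha.trans h.symm), fun h => hac (ha.trans h.symm), hbc⟩
      by_cases hb : b = 1
      · exact ⟨a, c, ha, fun h => hbc (hb.trans h.symm), hac⟩
      exact ⟨a, b, ha, hb, hab⟩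
    have hsq : ∀ t : B, ((t : A) : G) * ((t : A) : G) = 1 := fun t => by
      have := congrArg Subtype.val (hB2 t t.2)
      simpa [sq] using this
    exact CfsgLib.RankOneFour.rank_le_one_of_four A hperf U hU hUA hΓ'
      (x : A).2 (y : A).2 (hsq x) (hsq y) (fun h => hx1 (Subtype.ext (Subtype.ext h)))
      (fun h => hy1 (Subtype.ext (Subtype.ext h))) (fun h => hxy (Subtype.ext (Subtype.ext h)))
      (congrArg (fun t : B => ((t : A) : G)) (hBc.is_comm.comm x y))
  · haveI := hBc
    have h := h0 (B.map (Subgroup.inclusion hΓA)) inferInstance (by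
      rintro _ ⟨q, hq, rfl⟩
      rw [← map_pow, hB2 q hq, map_one])
    rwa [Subgroup.card_map_of_injective (Subgroup.inclusion_injective hΓA)] at h

end Cfsg.Agent.S1915
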