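import Cfsg.Statements.S1921
import Cfsg.Agent.Components.Basic

set_option autoImplicit false
open Cfsg

namespace Cfsg.Agent.S1921

/-- Let a be an involution of a finite group H and L a component of H with a L a⁻¹ ≠ L; put M = ⟨L, aLa⁻¹⟩ and let J be the subgroup generated by the elements x · a x a⁻¹ with x ∈ L (the diagonal). Then every element of M outside J·Z(M) generates M together with J. -/
theorem result {H : Type*} [Group H] [Finite H] (a : H) (ha : orderOf a = 2) (L : Subgroup H) (hL : Cfsg.IsComponent L)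
    (hLa : L.map (MulAut.conj a).toMonoidHom ≠ L) (x : H) (hxM : x ∈ L ⊔ L.map (MulAut.conj a).toMonoidHom)
    (hxJ : x ∉ Subgroup.closure {y : H | ∃ l ∈ L, y = l * (a * l * a⁻¹)} ⊔
      ((L ⊔ L.map (MulAut.conj a).toMonoidHom) ⊓ Subgroup.centralizer ((L ⊔ L.map (MulAut.conj a).toMonoidHom : Subgroup H) : Set H))) :
    Subgroup.closure {y : H | ∃ l ∈ L, y = l * (a * l * a⁻¹)} ⊔ Subgroup.zpowers x = L ⊔ L.map (MulAut.conj a).toMonoidHom := by
  set L' := L.map (MulAut.conj a).toMonoidHom with hL'def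
  set J := Subgroup.closure {y : H | ∃ l ∈ L, y = l * (a * l * a⁻¹)} with hJdef
  set M := L ⊔ L' with hMdef
  have hL' : Cfsg.IsComponent L' := CfsgLib.Components.IsComponent.conj hL a
  have hcom : ⁅L, L'⁆ = ⊥ := CfsgLib.Components.IsComponent.commutator_eq_bot_of_ne hL hL' (Ne.symm hLa)
  have hcomm : ∀ l ∈ L, ∀ k ∈ L', l * k = k * l := fun l hl k hk =>
    commutatorElement_eq_one_iff_mul_comm.mp (Subgroup.mem_bot.mp
      (hcom ▸ Subgroup.commutator_mem_commutator hl hk))
  have hcL : L' ≤ Subgroup.centralizer (L : Set H) := fun k hk =>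
    Subgroup.mem_centralizer_iff.mpr fun l hl => hcomm l hl k hk
  have hJM : J ≤ M := by
    rw [hJdef, Subgroup.closure_le]
    rintro y ⟨l, hl, rfl⟩
    exact M.mul_mem (Subgroup.mem_sup_left hl)
      (Subgroup.mem_sup_right (Subgroup.mem_map_of_mem _ hl))
  have hjmem : ∀ l ∈ L, l * (a * l * a⁻¹) ∈ J := fun l hl => Subgroup.subset_closure ⟨l, hl, rfl⟩
  -- decompose `x`
  have hnorm : L ≤ Subgroup.normalizer (L' : Set H) := by
    intro l hl
    rw [Subgroup.mem_normalizer_iff]
    intro k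
    constructor
    · intro hk
      rw [hcomm l hl k hk]; simpa using hk
    · intro hk
      have := hcomm l hl _ hk
      have hk' : k = l * k * l⁻¹ := by
        calc k = l⁻¹ * (l * k * l⁻¹ * l) := by group
          _ = l⁻¹ * (l * (l * k * l⁻¹)) := by rw [this]
          _ = l * k * l⁻¹ := by group
      rw [hk']; exact hk
  have hxM' : x ∈ L ⊔ L' := hxM
  rw [← SetLike.mem_coe, Subgroup.coe_mul_of_left_le_normalizer_right L L' hnorm] at hxM'
  obtain ⟨l, hl, l', hl', hx⟩ := hxM'
  obtain ⟨k, hk, hk'⟩ := hl'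
  simp only [MulEquiv.coe_toMonoidHom, MulAut.conj_apply] at hk'
  set u := l * k⁻¹ with hu
  have huL : u ∈ L := L.mul_mem hl (L.inv_mem hk)
  set X := J ⊔ Subgroup.zpowers x with hXdef
  have hxX : x ∈ X := Subgroup.mem_sup_right (Subgroup.mem_zpowers x)
  have hxeq : x = u * (k * (a * k * a⁻¹)) := by
    rw [← hx, hu, ← hk']; group
  have huX : u ∈ X := by
    have : u = x * (k * (a * k * a⁻¹))⁻¹ := by rw [hxeq]; group
    rw [this]
    exact X.mul_mem hxX (X.inv_mem (Subgroup.mem_sup_left (hjmem k hk)))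
  -- `X ⊓ L` is normal in `L`
  have hNn : ((X ⊓ L).subgroupOf L).Normal := by
    refine ⟨fun n hn g => ?_⟩
    rw [Subgroup.mem_subgroupOf] at hn ⊢
    have h1 : ((g * n * g⁻¹ : L) : H) =
        ((g : H) * (a * g * a⁻¹)) * n * ((g : H) * (a * g * a⁻¹))⁻¹ := by
      have hc : a * (g : H) * a⁻¹ * (n : H) = n * (a * g * a⁻¹) :=
        (hcomm _ n.2 _ (Subgroup.mem_map_of_mem (MulAut.conj a).toMonoidHom g.2)).symm
      simp only [Subgroup.coe_mul, Subgroup.coe_inv]
      rw [mul_assoc (g : H) (a * g * a⁻¹) (n : H), hc]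
      group
    refine ⟨?_, (g * n * g⁻¹).2⟩
    rw [h1]
    exact X.mul_mem (X.mul_mem (Subgroup.mem_sup_left (hjmem g g.2)) hn.1)
      (X.inv_mem (Subgroup.mem_sup_left (hjmem g g.2)))
  have hLX : L ≤ X := by
    rcases CfsgLib.Components.IsQuasisimple.normal_eq_top_or_le_center hL.2
      ((X ⊓ L).subgroupOf L) with h | h
    · exact fun m hm => ((Subgroup.subgroupOf_eq_top.mp h) hm).1
    · exfalso
      apply hxJ
      have huc := h (show (⟨u, huL⟩ : L) ∈ (X ⊓ L).subgroupOf L from ⟨huX, huL⟩)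
      rw [Subgroup.mem_center_iff] at huc
      have huM : u ∈ Subgroup.centralizer (M : Set H) := by
        have hs : M ≤ Subgroup.centralizer ({u} : Set H) := by
          refine sup_le (fun m hm => ?_) (fun m hm => ?_)
          · rw [Subgroup.mem_centralizer_singleton_iff]
            exact congrArg Subtype.val (huc ⟨m, hm⟩)
          · rw [Subgroup.mem_centralizer_singleton_iff]
            exact (hcomm u huL m hm).symm
        rw [Subgroup.mem_centralizer_iff]
        intro m hm
        exact Subgroup.mem_centralizer_singleton_iff.mp (hs hm)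
      rw [hxeq]
      exact (J ⊔ (M ⊓ Subgroup.centralizer (M : Set H))).mul_mem
        (Subgroup.mem_sup_right ⟨Subgroup.mem_sup_left huL, huM⟩)
        (Subgroup.mem_sup_left (hjmem k hk))
  apply le_antisymm (sup_le hJM (Subgroup.zpowers_le.mpr hxM))
  refine sup_le hLX ?_
  rintro m ⟨w, hw, rfl⟩
  have : (MulAut.conj a).toMonoidHom w = w⁻¹ * (w * (a * w * a⁻¹)) := by
    simp [MulAut.conj_apply]
  rw [this]
  exact X.mul_mem (X.inv_mem (hLX hw)) (Subgroup.mem_sup_left (hjmem w hw))

end Cfsg.Agent.S1921
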