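import Cfsg.Statements.S1924
import Cfsg.Agent.Techniques.SemiregularSign
import Mathlib.GroupTheory.SpecificGroups.Dihedral

set_option autoImplicit false
open Cfsg

namespace Cfsg.Agent.S1924

theorem dihedral_aux {D' : Type*} [Group D'] [Finite D'] {n : ℕ} (hn : 2 ≤ n)
    (e : D' ≃* DihedralGroup n) (C : Subgroup D') (hC : IsCyclic C) (hCi : C.index = 2)
    {x : D'} (hx : x ∉ C) : x ^ 2 = 1 := by
  obtain ⟨c, hc⟩ := hC.exists_zpow_surjective
  have hcard : Nat.card C = n := by
    have h := C.card_mul_index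
    rw [hCi, Nat.card_congr e.toEquiv, DihedralGroup.nat_card] at h
    omega
  have hoc : orderOf (c : D') = n := by
    rw [Subgroup.orderOf_coe, orderOf_eq_card_of_forall_mem_zpowers
      (fun y => Subgroup.mem_zpowers_iff.mpr (hc y)), hcard]
  have hsr : ∀ i : ZMod n, (DihedralGroup.sr i) ^ 2 = 1 := fun i => by
    rw [sq, DihedralGroup.sr_mul_self]
  apply e.injective
  rw [map_pow, map_one]
  cases hex : e x with
  | sr i => exact hsr i
  | r i =>
    cases hec : e (c : D') with
    | r j =>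
      exfalso
      apply hx
      haveI : NeZero n := ⟨by omega⟩
      have hord : orderOf (DihedralGroup.r j : DihedralGroup n) = n := by
        rw [← hec, MulEquiv.orderOf_eq, hoc]
      have hmem : e x ∈ Subgroup.zpowers (DihedralGroup.r j : DihedralGroup n) := by
        have hle : Subgroup.zpowers (DihedralGroup.r j : DihedralGroup n) ≤
            Subgroup.zpowers (DihedralGroup.r (1 : ZMod n)) := by
          rw [Subgroup.zpowers_le, Subgroup.mem_zpowers_iff]
          exact ⟨(j.val : ℤ), by simp⟩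
        have heq := Subgroup.eq_of_le_of_card_ge hle (by
          rw [Nat.card_zpowers, Nat.card_zpowers, hord, DihedralGroup.orderOf_r_one])
        rw [heq, hex, Subgroup.mem_zpowers_iff]
        exact ⟨(i.val : ℤ), by simp⟩
      rw [← hec, Subgroup.mem_zpowers_iff] at hmem
      obtain ⟨k, hk⟩ := hmem
      rw [← map_zpow] at hk
      rw [← e.injective hk]
      exact C.zpow_mem c.2 k
    | sr j =>
      have h2 : orderOf (DihedralGroup.sr j : DihedralGroup n) = 2 := DihedralGroup.orderOf_sr j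
      rw [← hec, MulEquiv.orderOf_eq, hoc] at h2
      subst h2
      rw [DihedralGroup.r_pow, DihedralGroup.one_def]
      congr 1


/-- A consequence of Thompson's transfer lemma. Let G be a finite group, L a subgroup with O²(L) = L, T a Sylow 2-subgroup of L and S a Sylow 2-subgroup of G containing T. Suppose D ≤ S is a dihedral subgroup of order at least 4 (the four-group counts) with D ∩ T = 1 and S = TD as a set of products (so |S| = |T|·|D|), and C ≤ D is cyclic of index 2 in D. If no involution of D outside C is G-conjugate to an involution of the subgroup generated by T and C, and the involution of C is not G-conjugate to any involution of T, then G has a normal subgroup K, containing every Sylow 2-subgroup of L as a Sylow 2-subgroup, with G = KD. -/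
theorem result {G : Type*} [Group G] [Finite G] (L T S D C : Subgroup G) (hL : Cfsg.pResidual 2 ↥L = ⊤)
    (hTL : T ≤ L) (hT2 : IsPGroup 2 T) (hTsyl : ¬ 2 ∣ T.relIndex L)
    (hS2 : IsPGroup 2 S) (hSsyl : ¬ 2 ∣ S.index) (hTS : T ≤ S)
    (hDS : D ≤ S) (hDih : ∃ n : ℕ, 2 ≤ n ∧ Nonempty (↥D ≃* DihedralGroup n)) (hDT : D ⊓ T = ⊥) (hTD : T ⊔ D = S) (hTDc : Nat.card T * Nat.card D = Nat.card S)
    (hCD : C ≤ D) (hC : IsCyclic ↥C) (hCi : C.relIndex D = 2)
    (h1 : ∀ x ∈ D, x ∉ C → orderOf x = 2 → ∀ g : G, g * x * g⁻¹ ∈ T ⊔ C → False)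
    (h2 : ∀ c ∈ C, orderOf c = 2 → ∀ g : G, g * c * g⁻¹ ∈ T → False) :
    ∃ K : Subgroup G, K.Normal ∧ K ⊔ D = ⊤ ∧
      ∀ T' : Subgroup G, T' ≤ L → IsPGroup 2 T' → ¬ 2 ∣ T'.relIndex L → T' ≤ K ∧ ¬ 2 ∣ T'.relIndex K := by
  classical
  haveI : Fact (Nat.Prime 2) := ⟨Nat.prime_two⟩
  set K := Cfsg.pResidual 2 G with hK
  have hLK : L ≤ K := by
    have h := CfsgLib.Transfer.map_subtype_pResidual_le (p := 2) L
    rwa [hL, ← MonoidHom.range_eq_map, Subgroup.range_subtype] at h
  obtain ⟨n, hn, ⟨e⟩⟩ := hDih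
  -- `S` is the product set `T * D`
  have hprod : ∀ s ∈ S, ∃ t ∈ T, ∃ d ∈ D, t * d = s := by
    have hinj : Function.Injective (fun p : T × D =>
        (⟨(p.1 : G) * p.2, S.mul_mem (hTS p.1.2) (hDS p.2.2)⟩ : S)) := by
      intro p q h
      exact Subgroup.mul_injective_of_disjoint
        (disjoint_iff.mpr ((inf_comm T D).trans hDT)) (congrArg Subtype.val h)
    have hbij := hinj.bijective_of_nat_card_le (by rw [Nat.card_prod, hTDc])
    intro s hs
    obtain ⟨⟨t, d⟩, htd⟩ := hbij.2 ⟨s, hs⟩
    exact ⟨t, t.2, d, d.2, congrArg Subtype.val htd⟩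
  have hinv : ∀ x ∈ D, x ∉ C → orderOf x = 2 := by
    intro x hxD hxC
    have h := dihedral_aux hn e (C.subgroupOf D)
      ((Subgroup.subgroupOfEquivOfLe hCD).isCyclic.mpr hC) hCi
      (x := ⟨x, hxD⟩) (by rwa [Subgroup.mem_subgroupOf])
    refine orderOf_eq_prime (congrArg Subtype.val h) ?_
    rintro rfl
    exact hxC C.one_mem
  set M := T ⊔ C with hM
  have hMS : M ≤ S := sup_le hTS (hCD.trans hDS)
  have hSodd : Odd S.index := Nat.not_even_iff_odd.mp (fun h => hSsyl (even_iff_two_dvd.mp h))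
  have hnotK : ∀ x ∈ D, x ∉ C → x ∉ K := by
    intro x hxD hxC
    have hx2 := hinv x hxD hxC
    have hxM : ∀ g : G, g * x * g⁻¹ ∉ M := h1 x hxD hxC hx2
    have hMrel : M.relIndex S = 2 := by
      have hpos : 0 < M.relIndex S := Nat.pos_of_ne_zero Subgroup.index_ne_zero_of_finite
      have hne : M.relIndex S ≠ 1 := by
        rw [ne_eq, Subgroup.relIndex_eq_one]
        intro hle
        exact hxM 1 (by simpa using hle (hDS hxD))
      have hTC : Nat.card T * Nat.card C ≤ Nat.card M := by
        rw [← Nat.card_prod]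
        refine Nat.card_le_card_of_injective
          (fun p : T × C => (⟨(p.1 : G) * p.2,
            M.mul_mem (Subgroup.mem_sup_left p.1.2) (Subgroup.mem_sup_right p.2.2)⟩ : M)) ?_
        intro p q h
        exact Subgroup.mul_injective_of_disjoint
          (disjoint_iff.mpr (le_bot_iff.mp (hDT ▸ le_inf (inf_le_right.trans hCD) inf_le_left)))
          (congrArg Subtype.val h)
      have hDcard : Nat.card C * 2 = Nat.card D := by
        have := Subgroup.relIndex_mul_relIndex (⊥ : Subgroup G) C D bot_le hCD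
        simpa [Subgroup.relIndex_bot_left, hCi] using this
      have hSc : Nat.card M * M.relIndex S = Nat.card S := by
        have := Subgroup.relIndex_mul_relIndex (⊥ : Subgroup G) M S bot_le hMS
        simpa [Subgroup.relIndex_bot_left] using this
      have h3 : Nat.card M * M.relIndex S ≤ Nat.card M * 2 := by
        rw [hSc, ← hTDc, ← hDcard, ← mul_assoc]
        exact Nat.mul_le_mul_right 2 hTC
      have := Nat.le_of_mul_le_mul_left h3 Nat.card_pos
      omega
    refine CfsgLib.Techniques.not_mem_pResidual_two_of_semiregular M hSodd ?_ ?_ ?_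
    · rw [hx2, ← Subgroup.relIndex_mul_index hMS, hMrel]
    · rw [hx2]; exact even_two
    · intro i a ha
      rw [← pow_mod_orderOf, hx2] at ha ⊢
      rcases Nat.mod_two_eq_zero_or_one i with h | h
      · rw [h, pow_zero]
      · exfalso
        rw [h, pow_one] at ha
        exact hxM a⁻¹ (by simpa using ha)
  have hSK : S ⊓ K ≤ T ⊔ (C ⊓ K) := by
    rintro s ⟨hs, hsK⟩
    obtain ⟨t, ht, d, hd, rfl⟩ := hprod s hs
    have hdK : d ∈ K := by
      have := K.mul_mem (K.inv_mem (hLK (hTL ht))) hsK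
      simpa using this
    refine Subgroup.mul_mem_sup ht ⟨?_, hdK⟩
    by_contra hdC
    exact hnotK d hd hdC hdK
  obtain ⟨Syl, hSyl⟩ : ∃ P : Sylow 2 G, (P : Subgroup G) = S := ⟨hS2.toSylow hSsyl, rfl⟩
  have hSKodd : ¬ 2 ∣ S.relIndex K := hSyl ▸ CfsgLib.Transfer.not_dvd_relIndex_of_normal Syl K
  -- `C ⊓ K` is trivial
  have hCK : C ⊓ K = ⊥ := by
    by_contra hne
    haveI : IsCyclic ↥(C ⊓ K : Subgroup G) := Subgroup.isCyclic_of_le inf_le_left
    obtain ⟨c, hc⟩ := IsCyclic.exists_zpow_surjective (G := ↥(C ⊓ K : Subgroup G))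
    have hoc : orderOf (c : G) = Nat.card ↥(C ⊓ K : Subgroup G) := by
      rw [Subgroup.orderOf_coe, orderOf_eq_card_of_forall_mem_zpowers
        (fun y => Subgroup.mem_zpowers_iff.mpr (hc y))]
    have hCK2 : IsPGroup 2 ↥(C ⊓ K : Subgroup G) :=
      hS2.to_le (inf_le_left.trans (hCD.trans hDS))
    have heven : Even (Nat.card ↥(C ⊓ K : Subgroup G)) := by
      obtain ⟨m, hm⟩ := IsPGroup.iff_card.mp hCK2
      rw [hm]
      refine Nat.even_pow.mpr ⟨even_two, fun h0 => hne ?_⟩
      rw [h0, pow_zero] at hm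
      exact Subgroup.card_eq_one.mp hm
    set c' : K := ⟨c, c.2.2⟩
    have hoc' : orderOf c' = Nat.card ↥(C ⊓ K : Subgroup G) := by
      rw [← hoc, ← Subgroup.orderOf_coe c']
    have hTK : T ≤ K := hTL.trans hLK
    have hTcard : Nat.card T * T.relIndex K = Nat.card K := by
      simpa [Subgroup.relIndex_bot_left] using
        Subgroup.relIndex_mul_relIndex (⊥ : Subgroup G) T K bot_le hTK
    have hinf : Nat.card ↥(S ⊓ K : Subgroup G) =
        Nat.card T * Nat.card ↥(C ⊓ K : Subgroup G) := by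
      apply le_antisymm
      · rw [← Nat.card_prod]
        refine Nat.card_le_card_of_surjective
          (fun p : T × ↥(C ⊓ K : Subgroup G) => (⟨(p.1 : G) * p.2,
            S.mul_mem (hTS p.1.2) (hDS (hCD p.2.2.1)),
            K.mul_mem (hTK p.1.2) p.2.2.2⟩ : ↥(S ⊓ K : Subgroup G))) ?_
        rintro ⟨s, hs, hsK⟩
        obtain ⟨t, ht, d, hd, rfl⟩ := hprod s hs
        have hdK : d ∈ K := by
          have := K.mul_mem (K.inv_mem (hTK ht)) hsK
          simpa using this
        refine ⟨(⟨t, ht⟩, ⟨d, ?_, hdK⟩), rfl⟩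
        by_contra hdC
        exact hnotK d hd hdC hdK
      · rw [← Nat.card_prod]
        refine Nat.card_le_card_of_injective
          (fun p : T × ↥(C ⊓ K : Subgroup G) => (⟨(p.1 : G) * p.2,
            S.mul_mem (hTS p.1.2) (hDS (hCD p.2.2.1)),
            K.mul_mem (hTK p.1.2) p.2.2.2⟩ : ↥(S ⊓ K : Subgroup G))) ?_
        intro p q h
        exact Subgroup.mul_injective_of_disjoint
          (disjoint_iff.mpr (le_bot_iff.mp
            (hDT ▸ le_inf (inf_le_right.trans (inf_le_left.trans hCD)) inf_le_left)))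
          (congrArg Subtype.val h)
    have hind : (T.subgroupOf K).index = orderOf c' * S.relIndex K := by
      refine Nat.eq_of_mul_eq_mul_left (Nat.card_pos (α := T)) ?_
      rw [hoc', ← mul_assoc, ← hinf, CfsgLib.Transfer.card_sylow_inf_mul_relIndex]
      exact hTcard
    have hmem : c' ∈ Cfsg.pResidual 2 K := by
      rw [CfsgLib.Transfer.pResidual_pResidual]; exact Subgroup.mem_top _
    refine CfsgLib.Techniques.not_mem_pResidual_two_of_semiregular (T.subgroupOf K)
      (Nat.not_even_iff_odd.mp (fun h => hSKodd (even_iff_two_dvd.mp h))) hind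
      (hoc' ▸ heven) ?_ hmem
    intro i a ha
    rw [Subgroup.mem_subgroupOf] at ha
    by_contra hne1
    -- the involution of `⟨c ^ i⟩`
    have hne1' : (c : G) ^ i ≠ 1 := fun h => hne1 (Subtype.ext (by simpa using h))
    have h2dvd : 2 ∣ orderOf ((c : G) ^ i) := by
      have := hCK2.dvd_orderOf (g := c ^ i) (fun h => hne1' (by simpa using congrArg Subtype.val h))
      rwa [← Subgroup.orderOf_coe, SubmonoidClass.coe_pow] at this
    set j := orderOf ((c : G) ^ i) / 2
    have hjord : orderOf (((c : G) ^ i) ^ j) = 2 :=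
      orderOf_pow_orderOf_div (orderOf_pos _).ne' h2dvd
    refine h2 _ (C.pow_mem (C.pow_mem c.2.1 i) j) hjord (a : G)⁻¹ ?_
    have := T.pow_mem ha j
    simp only [Subgroup.coe_mul, Subgroup.coe_inv, SubmonoidClass.coe_pow] at this
    have hconj : ((a : G)⁻¹ * (c : G) ^ i * (a : G)) ^ j =
        (a : G)⁻¹ * ((c : G) ^ i) ^ j * (a : G) := by
      conv_lhs => rw [show (a : G)⁻¹ * (c : G) ^ i * (a : G) = (a : G)⁻¹ * (c : G) ^ i * ((a : G)⁻¹)⁻¹ by rw [inv_inv]]
      rw [conj_pow, inv_inv]
    rw [hconj] at this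
    simpa using this
  have hT : S ⊓ K = T := le_antisymm (hSK.trans (by simp [hCK]))
    (le_inf hTS (hTL.trans hLK))
  refine ⟨K, inferInstance, ?_, fun T' hT'L hT'2 hT'syl => ⟨hT'L.trans hLK, ?_⟩⟩
  · refine top_unique ?_
    rw [← CfsgLib.Transfer.sylow_sup_pResidual Syl, hSyl, ← hTD]
    exact sup_le (sup_le ((hTL.trans hLK).trans le_sup_left) le_sup_right) le_sup_left
  · have hcards : Nat.card T' = Nat.card T := by
      have key : ∀ U : Subgroup G, U ≤ L → IsPGroup 2 U → ¬ 2 ∣ U.relIndex L →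
          Nat.card U = 2 ^ (Nat.card L).factorization 2 := by
        intro U hUL hU hUi
        have hp : IsPGroup 2 (U.subgroupOf L) :=
          hU.of_equiv (Subgroup.subgroupOfEquivOfLe hUL).symm
        rw [← Nat.card_congr (Subgroup.subgroupOfEquivOfLe hUL).toEquiv]
        exact (hp.toSylow hUi).card_eq_multiplicity
      rw [key T' hT'L hT'2 hT'syl, key T hTL hT2 hTsyl]
    have hc1 : Nat.card T' * T'.relIndex K = Nat.card K := by
      simpa [Subgroup.relIndex_bot_left] using
        Subgroup.relIndex_mul_relIndex (⊥ : Subgroup G) T' K bot_le (hT'L.trans hLK)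
    have hc2 : Nat.card T * S.relIndex K = Nat.card K := by
      rw [← hT]; exact CfsgLib.Transfer.card_sylow_inf_mul_relIndex S K
    rw [hcards] at hc1
    rw [Nat.eq_of_mul_eq_mul_left Nat.card_pos (hc1.trans hc2.symm)]
    exact hSKodd

end Cfsg.Agent.S1924
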