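import Cfsg.Statements.S1930
import Cfsg.Agent.Flavell73.Reduction

set_option autoImplicit false
open Cfsg

namespace Cfsg.Agent.S1930

/-- Inside a finite group let G be a nontrivial subgroup and R an r-subgroup (r a prime) normalizing G, with the order of G prime to r. Let p > 3 be a prime with F*(G) = O_p(G), and let P be the intersection of all R-invariant Sylow p-subgroups of G. Then P has a nontrivial characteristic subgroup that is normalized by G. -/
theorem result {X : Type*} [Group X] [Finite X] (G R : Subgroup X) (r : ℕ) [Fact r.Prime] (hR : IsPGroup r ↥R) (hcop : (Nat.card ↥G).Coprime r) (hnorm : R ≤ Subgroup.normalizer (G : Set X)) (hG : G ≠ ⊥) (p : ℕ) [Fact p.Prime] (hp : 3 < p) (hF : Cfsg.generalizedFittingSubgroup ↥G = Cfsg.pCore p ↥G) (P : Subgroup X) (hP : P = ⨅ S : {S : Sylow p ↥G // ∀ a ∈ R, ((S : Subgroup ↥G).map G.subtype).map (MulAut.conj a).toMonoidHom = (S : Subgroup ↥G).map G.subtype}, ((S : Sylow p ↥G) : Subgroup ↥G).map G.subtype) : ∃ C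 : Subgroup ↥P, C.Characteristic ∧ C ≠ ⊥ ∧ G ≤ Subgroup.normalizer ((C.map P.subtype : Subgroup X) : Set X) := by
  have hR' : CfsgLib.Flavell73.CAct r R G := ⟨hnorm, hR, hcop⟩
  have hP' := CfsgLib.Flavell73.eq_invCore hR' hP
  have hPp : IsPGroup p ↥P := hP' ▸ CfsgLib.Flavell73.isPGroup_invCore hR'
  have hP0 : P ≠ ⊥ := fun h => hG (eq_bot_iff.2 fun g hg => by
    have hQ : CfsgLib.Flavell73.rad p G = ⊥ :=
      le_bot_iff.1 ((CfsgLib.Flavell73.rad_le_invCore hR').trans (hP' ▸ h).le)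
    rw [← hQ]
    exact CfsgLib.Flavell73.mem_rad_of_commute hF hg fun q hq => by
      rw [hQ, Subgroup.mem_bot] at hq
      rw [hq, mul_one, one_mul])
  refine ⟨Cfsg.kInfLower ↥P, Subgroup.characteristic_iff_map_eq.2 fun φ =>
    (CfsgLib.ConjFunctor.map_kInf_equiv φ).1, ?_, ?_⟩
  · have : Nontrivial ↥P := (Subgroup.nontrivial_iff_ne_bot P).2 hP0
    exact CfsgLib.ConjFunctor.isCharPFunctor_kInfLower.1 ↥P hPp this
  · exact CfsgLib.Flavell73.le_normalizer_kInf_iInf hnorm hR hcop hp hF hP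

end Cfsg.Agent.S1930
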