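import Cfsg.Statements.S1932
import Cfsg.Agent.Techniques.QuadS4.Thompson
import Cfsg.Agent.Inv53.Constrained
import Cfsg.Agent.ConjFunctor.Sections
import Cfsg.Agent.PLocal.Constraint

set_option autoImplicit false
open Cfsg

namespace Cfsg.Agent.S1932

/-- Let G be a finite group that is 2-constrained and has no section isomorphic to the symmetric group of degree 4, and let S be a Sylow 2-subgroup of G of nilpotency class at most 2. Then G = N_G(J(S))·O_{2'}(G), where J(S) is the Thompson subgroup generated by the elementary abelian subgroups of S of largest order. -/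
theorem result {G : Type*} [Group G] [Finite G] (hcon : Cfsg.IsPConstrained 2 G) (hS4 : ¬ Cfsg.Involves (Equiv.Perm (Fin 4)) G) (S : Sylow 2 G) (hcl : Subgroup.lowerCentralSeries (S : Subgroup G) 2 = ⊥) : Subgroup.normalizer ((Cfsg.thompsonSubgroupOf 2 (S : Subgroup G)) : Set G) ⊔ Cfsg.pPrimeCore 2 G = ⊤ := by
  classical
  haveI : Fact (Nat.Prime 2) := ⟨Nat.prime_two⟩
  set K := Cfsg.pPrimeCore 2 G with hK
  let f := QuotientGroup.mk' K
  have hKc := CfsgLib.PLocal.coprime_card_pPrimeCore 2 G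
  have hinj : Function.Injective (f.comp (S : Subgroup G).subtype) :=
    CfsgLib.PLocal.injective_comp_subtype_of_coprime S.isPGroup' (by rw [QuotientGroup.ker_mk']; exact hKc)
  let T := S.mapSurjective (QuotientGroup.mk'_surjective K)
  have hT : (T : Subgroup (G ⧸ K)) = (S : Subgroup G).map f := rfl
  have hclT : ⁅⁅(T : Subgroup (G ⧸ K)), (T : Subgroup (G ⧸ K))⁆, (T : Subgroup (G ⧸ K))⁆ = ⊥ := by
    rw [hT, ← Subgroup.map_commutator, ← Subgroup.map_commutator,
      show ⁅⁅(S : Subgroup G), (S : Subgroup G)⁆, (S : Subgroup G)⁆ = ⊥ from hcl, Subgroup.map_bot]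
  have hle : ∀ A ∈ CfsgLib.PLocal.maxEAIn 2 (T : Subgroup (G ⧸ K)), A ≤ Cfsg.pCore 2 (G ⧸ K) :=
    fun A hA => CfsgLib.Techniques.QuadS4.maxEA_le_pCore
      (fun h => hS4 (CfsgLib.ConjFunctor.involves_trans (CfsgLib.ConjFunctor.involves_quotient K) h))
      (CfsgLib.Inv53.centralizer_pCore_le_quotient hcon) hclT hA
  have hn : (Cfsg.thompsonSubgroupOf 2 (T : Subgroup (G ⧸ K))).Normal := by
    refine Subgroup.normalizer_eq_top_iff.mp (eq_top_iff.mpr fun g _ =>
      CfsgLib.ConjFunctor.mem_normalizer_of_cj_le ?_)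
    rw [CfsgLib.PLocal.thompsonSubgroupOf_eq, Subgroup.map_le_iff_le_comap]
    refine sSup_le fun A hA => Subgroup.map_le_iff_le_comap.mp (le_sSup ⟨?_, ?_, ?_⟩)
    · refine ((CfsgLib.ConjFunctor.cj_mono g (hle A hA)).trans ?_).trans (CfsgLib.PLocal.pCore_le_sylow T)
      exact (CfsgLib.ConjFunctor.cj_eq_of_mem_normalizer ((Subgroup.normalizer_eq_top _).ge (Subgroup.mem_top g))).le
    · exact CfsgLib.PLocal.isElementaryAbelian_map hA.2.1 _
    · intro B hB hBe
      rw [CfsgLib.ConjFunctor.card_cj]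
      exact hA.2.2 B hB hBe
  have h1 := Subgroup.normalizer_eq_top_iff.mpr hn
  have hJ : (Cfsg.thompsonSubgroupOf 2 (S : Subgroup G)).map f = Cfsg.thompsonSubgroupOf 2 (T : Subgroup (G ⧸ K)) := by
    rw [hT]; exact CfsgLib.PLocal.map_thompsonSubgroupOf_of_injOn hinj
  rw [← hJ, CfsgLib.PLocal.normalizer_map_mk'_eq K hKc
    (S.isPGroup'.to_le (CfsgLib.PLocal.thompsonSubgroupOf_le 2 _))] at h1
  have h2 := congrArg (Subgroup.comap f) h1
  rwa [Subgroup.comap_map_eq, QuotientGroup.ker_mk', Subgroup.comap_top] at h2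

end Cfsg.Agent.S1932
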