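import Cfsg.Statements.S1935
import Cfsg.Agent.Techniques.QuadOffender.Main
import Cfsg.Agent.PLocal.Offender

set_option autoImplicit false
open Cfsg

namespace Cfsg.Agent.S1935

open scoped commutatorElement IsMulCommutative

/-- Let p ≥ 5 be a prime and, inside an ambient finite group, let G be a p-subgroup acting faithfully by conjugation on an elementary abelian p-subgroup V that it normalizes (only the identity of G centralizes V). Suppose V is an F-module for G: some nontrivial elementary abelian subgroup E of G satisfies #E · #C_V(E) ≥ #V. Then G contains such an offender A that moreover acts quadratically on V ([V, A, A] = 1) and is normal in its normal closure in G. -/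
theorem result {Ω : Type*} [Group Ω] [Finite Ω] (p : ℕ) [Fact p.Prime] (hp : 5 ≤ p) (V G : Subgroup Ω) (hV : Cfsg.IsElementaryAbelian p V) (hG : IsPGroup p ↥G) (hGV : G ≤ Subgroup.normalizer (V : Set Ω)) (hfaith : G ⊓ Subgroup.centralizer (V : Set Ω) = ⊥) (hF : ∃ E : Subgroup Ω, E ≤ G ∧ E ≠ ⊥ ∧ Cfsg.IsElementaryAbelian p E ∧ Nat.card ↥V ≤ Nat.card ↥E * Nat.card ↥(V ⊓ Subgroup.centralizer (E : Set Ω))) : ∃ A : Subgroup Ω, A ≤ G ∧ A ≠ ⊥ ∧ Cfsg.IsElementaryAbelian p A ∧ Nat.card ↥V ≤ Nat.card ↥A * Nat.card ↥(V ⊓ Subgroup.centralizer (A : Set Ω)) ∧ ⁅⁅V, A⁆, A⁆ = ⊥ ∧ ∀ g ∈ Subgroup.closure {x : Ω | ∃ h ∈ G, ∃ a ∈ A, x = h * a * h⁻¹}, ∀ a ∈ A, g * a * g⁻¹ ∈ A := by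
  obtain ⟨hcomm, hexp⟩ := hV
  haveI := hcomm
  haveI := CfsgLib.Techniques.QuadOffender.finite_end (p := p) (V := V)
  obtain ⟨E₀, hE⟩ := hF
  let S : Set (Subgroup Ω) := {E | E ≤ G ∧ E ≠ ⊥ ∧ IsElementaryAbelian p E ∧
    Nat.card V ≤ Nat.card E * Nat.card ↥(V ⊓ Subgroup.centralizer (E : Set Ω))}
  obtain ⟨E, ⟨hEG, hE1, hEe, hEw⟩, hmin⟩ :=
    Set.exists_min_image S (fun E => Nat.card E) (Set.toFinite _) ⟨E₀, hE⟩
  have hmax : ∀ B : Subgroup Ω, B ≤ E →
      CfsgLib.PLocal.offenderWeight V B ≤ CfsgLib.PLocal.offenderWeight V E := by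
    intro B hB
    by_contra hlt
    have hB1 : B ≠ ⊥ := by
      rintro rfl
      rw [CfsgLib.PLocal.Offender.offenderWeight_bot] at hlt
      exact hlt hEw
    have hBS : B ∈ S := ⟨hB.trans hEG, hB1,
      ⟨Subgroup.le_centralizer_iff_isMulCommutative.mp (hB.trans
        ((Subgroup.le_centralizer_iff_isMulCommutative.mpr hEe.1).trans (Subgroup.centralizer_le hB))),
        fun a ha => hEe.2 a (hB ha)⟩, hEw.trans (le_of_not_ge hlt)⟩
    exact hlt (Subgroup.eq_of_le_of_card_ge hB (hmin B hBS) ▸ le_rfl)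
  have hab : ⁅E, E⁆ ≤ Subgroup.centralizer (V : Set Ω) := by
    rw [Subgroup.commutator_eq_bot_iff_le_centralizer.mpr
      (Subgroup.le_centralizer_iff_isMulCommutative.mpr hEe.1)]
    exact bot_le
  obtain ⟨hw, hC⟩ := CfsgLib.PLocal.replacement hcomm (hEG.trans hGV) hab hmax le_rfl
  set E' := E ⊓ Subgroup.centralizer ((⁅V, E⁆ : Subgroup Ω) : Set Ω) with hE'
  have hq : ⁅⁅V, E⁆, E⁆ = ⊥ := by
    have hne : E' ≠ ⊥ := by
      intro h0
      rw [h0] at hC
      have hVC : V ≤ ⁅V, E⁆ ⊔ (V ⊓ Subgroup.centralizer (E : Set Ω)) := by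
        intro v hv
        rw [← hC]
        exact ⟨hv, Subgroup.mem_centralizer_iff.mpr fun g hg => by simp [Subgroup.mem_bot.mp hg]⟩
      have hXV : ⁅V, E⁆ ≤ V := Subgroup.commutator_le.mpr fun v hv e he =>
        CfsgLib.PLocal.commutatorElement_mem hv (hGV (hEG he))
      have key : ⁅V, E⁆ ≤ ⁅⁅V, E⁆, E⁆ := by
        refine Subgroup.commutator_le.mpr fun v hv e he => ?_
        have hv' := hVC hv
        rw [Subgroup.sup_eq_closure] at hv'
        have hcj : ∀ x y : Ω, x ∈ V → y ∈ V → ⁅x * y, e⁆ = ⁅y, e⁆ * ⁅x, e⁆ := by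
          intro x y hx hy
          have h1 := CfsgLib.PLocal.comm_of_isMulCommutative hcomm hx
            (CfsgLib.PLocal.commutatorElement_mem hy (hGV (hEG he)))
          calc ⁅x * y, e⁆ = x * ⁅y, e⁆ * x⁻¹ * ⁅x, e⁆ := by simp [commutatorElement_def, mul_assoc]
            _ = _ := by rw [h1]; simp [mul_assoc]
        have : ∀ w ∈ Subgroup.closure (((⁅V, E⁆ : Subgroup Ω) : Set Ω) ∪ (V ⊓ Subgroup.centralizer (E : Set Ω) : Subgroup Ω)),
            w ∈ V ∧ ⁅w, e⁆ ∈ ⁅⁅V, E⁆, E⁆ := by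
          intro w hw
          induction hw using Subgroup.closure_induction with
          | mem x hx =>
            rcases hx with hx | hx
            · exact ⟨hXV hx, Subgroup.commutator_mem_commutator hx he⟩
            · refine ⟨hx.1, ?_⟩
              rw [commutatorElement_eq_one_iff_mul_comm.mpr (Subgroup.mem_centralizer_iff.mp hx.2 e he).symm]
              exact one_mem _
          | one => exact ⟨one_mem _, by simp⟩
          | mul x y _ _ hx hy => exact ⟨mul_mem hx.1 hy.1, by rw [hcj x y hx.1 hy.1]; exact mul_mem hy.2 hx.2⟩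
          | inv x _ hx =>
            refine ⟨inv_mem hx.1, ?_⟩
            have h1 := hcj x x⁻¹ hx.1 (inv_mem hx.1)
            rw [mul_inv_cancel, commutatorElement_one_left, eq_comm, mul_eq_one_iff_eq_inv] at h1
            rw [h1]
            exact inv_mem hx.2
        exact (this v hv').2
      have hbot : ⁅V, E⁆ = ⊥ := by
        refine CfsgLib.PLocal.eq_bot_of_le_commutator
          (fun x => ⟨1, Subtype.ext (by simpa using hexp _ (hXV x.2))⟩) ?_ ?_ key
        · intro g hg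
          refine Subgroup.mem_normalizer_fintype fun n hn => ?_
          have hle : (⁅V, E⁆).map (MulAut.conj g).toMonoidHom ≤ ⁅V, E⁆ := by
            rw [Subgroup.map_commutator]
            refine Subgroup.commutator_mono ?_ ?_
            · rintro _ ⟨v, hv, rfl⟩
              exact (Subgroup.mem_normalizer_iff.mp (hGV (hEG hg)) v).mp hv
            · rintro _ ⟨a, ha, rfl⟩
              exact mul_mem (mul_mem hg ha) (inv_mem hg)
          exact hle ⟨n, hn, rfl⟩
        · intro a ha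
          rw [hEe.2 a ha]
          exact one_mem _
      rw [hbot] at hE'
      apply hE1
      rw [← h0, hE', show Subgroup.centralizer (((⊥ : Subgroup Ω)) : Set Ω) = ⊤ from
        top_unique fun x _ => Subgroup.mem_centralizer_iff.mpr fun g hg => by simp [Subgroup.mem_bot.mp hg],
        inf_top_eq]
    have hS : E' ∈ S := ⟨inf_le_left.trans hEG, hne,
      ⟨Subgroup.le_centralizer_iff_isMulCommutative.mp ((inf_le_left : E' ≤ E).trans
        ((Subgroup.le_centralizer_iff_isMulCommutative.mpr hEe.1).trans (Subgroup.centralizer_le inf_le_left))),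
        fun a ha => hEe.2 a ha.1⟩, hEw.trans hw.ge⟩
    have heq : E' = E := Subgroup.eq_of_le_of_card_ge inf_le_left (hmin _ hS)
    rw [Subgroup.commutator_comm, Subgroup.commutator_eq_bot_iff_le_centralizer]
    have h2 : E' ≤ Subgroup.centralizer ((⁅V, E⁆ : Subgroup Ω) : Set Ω) := inf_le_right
    rw [heq] at h2
    exact h2
  -- transfer to the representation
  have hp2 : p ≠ 2 := by omega
  set ρ := CfsgLib.Techniques.QuadOffender.rep p V G hGV
  set C := CfsgLib.Techniques.QuadOffender.col (p := p) hexp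
  set A₀ := E.subgroupOf G
  have hmap : A₀.map G.subtype = E := by
    rw [Subgroup.subgroupOf_map_subtype, inf_eq_left.mpr hEG]
  have hcard : ∀ A : Subgroup G, Nat.card (A.map G.subtype) = Nat.card A := fun A =>
    Subgroup.card_map_of_injective G.subtype_injective
  have hq0 : CfsgLib.Techniques.QuadOffender.Quad ρ A₀ := by
    rw [CfsgLib.Techniques.QuadOffender.quad_iff, hmap]; exact hq
  have hne0 : A₀ ≠ ⊥ := fun h => hE1 (by rw [← hmap, h, Subgroup.map_bot])
  have hw0 : Nat.card V ≤ Nat.card A₀ * Nat.card (CfsgLib.Techniques.QuadOffender.fixCol ρ C A₀) := by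
    rw [← hcard A₀, CfsgLib.Techniques.QuadOffender.card_fixCol, hmap]; exact hEw
  obtain ⟨A, hA, hA1, hAw, hAn⟩ := CfsgLib.Techniques.QuadOffender.exists_conj_invariant
    (CfsgLib.Techniques.QuadOffender.rep_injective p V G hGV hfaith) hp2
    (CfsgLib.Techniques.QuadOffender.natCast_eq_zero hexp) hG
    (fun g x hx => by
      obtain ⟨v, rfl⟩ := hx
      exact ⟨_, (CfsgLib.Techniques.QuadOffender.rep_conj_col hGV hexp g v).symm⟩)
    hq0 hne0 hw0
  obtain ⟨hAc, hAp⟩ := CfsgLib.Techniques.QuadOffender.elementary_of_quad hGV hexp hfaith hA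
  refine ⟨A.map G.subtype, Subgroup.map_subtype_le A, fun h => hA1 ?_,
    ⟨Subgroup.le_centralizer_iff_isMulCommutative.mp ?_, ?_⟩, ?_, ?_, ?_⟩
  · rw [Subgroup.map_eq_bot_iff_of_injective _ G.subtype_injective] at h; exact h
  · rintro _ ⟨a, ha, rfl⟩
    rw [Subgroup.mem_centralizer_iff]
    rintro _ ⟨b, hb, rfl⟩
    exact congrArg G.subtype (hAc b hb a ha)
  · rintro _ ⟨a, ha, rfl⟩
    exact congrArg G.subtype (hAp a ha)
  · rw [hcard, ← CfsgLib.Techniques.QuadOffender.card_fixCol hGV hexp]; exact hAw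
  · exact (CfsgLib.Techniques.QuadOffender.quad_iff hGV A).mp hA
  · intro g hg a ha
    obtain ⟨a, ha, rfl⟩ := ha
    have hle : Subgroup.closure {x : Ω | ∃ h ∈ G, ∃ b ∈ A.map G.subtype, x = h * b * h⁻¹} ≤
        (CfsgLib.Techniques.QuadOffender.cl ⊤ A).map G.subtype := by
      rw [Subgroup.closure_le]
      rintro _ ⟨h, hh, _, ⟨b, hb, rfl⟩, rfl⟩
      exact ⟨⟨h, hh⟩ * b * ⟨h, hh⟩⁻¹,
        Subgroup.subset_closure ⟨⟨h, hh⟩, Subgroup.mem_top _, b, hb, rfl⟩, rfl⟩
    obtain ⟨g, hg', rfl⟩ := hle hg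
    exact ⟨g * a * g⁻¹, (Subgroup.mem_normalizer_iff.mp (hAn hg') a).mp ha, rfl⟩

end Cfsg.Agent.S1935
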