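import Cfsg.Statements.S1939
import Cfsg.Agent.Techniques.SylowTools

set_option autoImplicit false
open Cfsg

namespace Cfsg.Agent.S1939

/-- Let S be a Sylow p-subgroup of the finite group G and a an element of S that is the only G-conjugate of a lying in S. Then every power of a has the same property: for every n, the only G-conjugate of a^n lying in S is a^n. -/
theorem result {G : Type*} [Group G] [Finite G] {p : ℕ} [Fact p.Prime] (S : Sylow p G) (a : G)
    (haS : a ∈ (S : Subgroup G)) (hwc : ∀ g : G, g * a * g⁻¹ ∈ (S : Subgroup G) → g * a * g⁻¹ = a) (n : ℕ) :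
    ∀ g : G, g * a ^ n * g⁻¹ ∈ (S : Subgroup G) → g * a ^ n * g⁻¹ = a ^ n := by
  intro g hg
  have huniq : ∀ (R : Sylow p G) (u v : G), u * a * u⁻¹ ∈ (R : Subgroup G) → v * a * v⁻¹ ∈ (R : Subgroup G) →
      u * a * u⁻¹ = v * a * v⁻¹ := by
    intro R u v hu hv
    obtain ⟨x, hx⟩ := MulAction.exists_smul_eq G S R
    have key : ∀ w : G, w * a * w⁻¹ ∈ (R : Subgroup G) → w * a * w⁻¹ = x * a * x⁻¹ := by
      intro w hw
      rw [← hx] at hw
      have h1 : x⁻¹ * (w * a * w⁻¹) * x ∈ (S : Subgroup G) := by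
        obtain ⟨s, hs, hsx⟩ := hw
        simp at hsx
        rw [← hsx]
        have e : x⁻¹ * (x * s * x⁻¹) * x = s := by group
        rw [e]; exact hs
      have h2 := hwc (x⁻¹ * w) (by simpa [mul_assoc] using h1)
      have h3 : x * (x⁻¹ * w * a * (x⁻¹ * w)⁻¹) * x⁻¹ = x * a * x⁻¹ := by rw [h2]
      simpa [mul_assoc] using h3
    rw [key u hu, key v hv]
  have hcen : ∀ y ∈ (S : Subgroup G), a * y = y * a := fun y hy => by
    have h := hwc y (mul_mem (mul_mem hy haS) (inv_mem hy))
    calc a * y = y * a * y⁻¹ * y := by rw [h]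
      _ = y * a := by group
  obtain ⟨c, hc, R, hR1, hR2⟩ := CfsgLib.Techniques.exists_conj_common_sylow (p := p)
    (C := Subgroup.centralizer ({g * a ^ n * g⁻¹} : Set G))
    (CfsgLib.Techniques.isPGroup_zpowers_of_mem S.2 haS)
    ((CfsgLib.Techniques.isPGroup_zpowers_of_mem S.2 haS).map (MulAut.conj g).toMonoidHom)
    (Subgroup.zpowers_le.2 (Subgroup.mem_centralizer_singleton_iff.2 (hcen _ hg)))
    (by
      rw [MonoidHom.map_zpowers, Subgroup.zpowers_le]
      apply Subgroup.mem_centralizer_singleton_iff.2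
      simp
      group)
  have h1 : 1 * a * 1⁻¹ ∈ (R : Subgroup G) := by simpa using hR1 (Subgroup.mem_zpowers a)
  have h2 : c * g * a * (c * g)⁻¹ ∈ (R : Subgroup G) := by
    have := hR2 (Subgroup.mem_map_of_mem _ (Subgroup.mem_map_of_mem _ (Subgroup.mem_zpowers a)))
    simpa [mul_assoc] using this
  have h3 := huniq R _ _ h2 h1
  simp only [one_mul, inv_one, mul_one] at h3
  have hcb : c * (g * a ^ n * g⁻¹) = (g * a ^ n * g⁻¹) * c := Subgroup.mem_centralizer_singleton_iff.1 hc
  calc g * a ^ n * g⁻¹ = c * (g * a ^ n * g⁻¹) * c⁻¹ := by rw [hcb]; group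
    _ = (c * g * a * (c * g)⁻¹) ^ n := by rw [conj_pow]; group
    _ = a ^ n := by rw [h3]

end Cfsg.Agent.S1939
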