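import Cfsg.Statements.S1940

set_option autoImplicit false
open Cfsg

namespace Cfsg.Agent.S1940

/-- Let the finite group L act by automorphisms on the finite abelian group M, and let N be an L-invariant subgroup of M such that M/N is a p-group on which L acts trivially (every l • m lies in the coset mN). If every element of M is a product of an element of N and an element fixed by a Sylow p-subgroup T of L, then every element of M is a product of an element of N and an element fixed by all of L. -/
theorem result {L : Type*} [Group L] [Finite L] {M : Type*} [CommGroup M] [Finite M] [MulDistribMulAction L M]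
    {p : ℕ} [Fact p.Prime] (N : Subgroup M) (hN : ∀ (l : L) (m : M), m ∈ N → l • m ∈ N)
    (hquot : IsPGroup p (M ⧸ N)) (htriv : ∀ (l : L) (m : M), (l • m) * m⁻¹ ∈ N) (T : Sylow p L)
    (hT : ∀ m : M, ∃ n ∈ N, ∃ c : M, (∀ t ∈ (T : Subgroup L), t • c = c) ∧ m = n * c) :
    ∀ m : M, ∃ n ∈ N, ∃ c : M, (∀ l : L, l • c = c) ∧ m = n * c := by
  intro m
  obtain ⟨n, hn, c, hc, hm⟩ := hT m
  classical
  have : Fintype (L ⧸ (T : Subgroup L)) := Fintype.ofFinite _
  set f : L ⧸ (T : Subgroup L) → M := fun q => q.out • c with hf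
  have hfl : ∀ (l : L) (q : L ⧸ (T : Subgroup L)), l • f q = f (l • q) := by
    intro l q
    have h1 : ((l * q.out : L) : L ⧸ (T : Subgroup L)) = l • q := by
      conv_rhs => rw [← QuotientGroup.out_eq' q]
      rw [MulAction.Quotient.smul_coe]; rfl
    obtain ⟨t, ht⟩ := QuotientGroup.mk_out_eq_mul (T : Subgroup L) (l * q.out)
    simp only [hf]
    rw [← h1, ht, mul_smul (l * q.out), hc _ t.2, mul_smul]
  set c' := ∏ q, f q with hc'
  have hfix : ∀ l : L, l • c' = c' := by
    intro l
    rw [hc', Finset.smul_prod']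
    simp only [hfl]
    exact Equiv.prod_comp (MulAction.toPerm l) f
  set π := QuotientGroup.mk' N
  have htriv' : ∀ (l : L) (x : M), π (l • x) = π x := fun l x => by
    rw [QuotientGroup.mk'_apply, QuotientGroup.mk'_apply, QuotientGroup.eq_iff_div_mem]
    simpa [div_eq_mul_inv] using htriv l x
  set k := (T : Subgroup L).index
  have hk : π c' = π m ^ k := by
    have hmc : π m = π c := by
      rw [hm, map_mul, show π n = 1 from (QuotientGroup.eq_one_iff n).2 hn, one_mul]
    rw [hc', map_prod]
    simp only [hf, htriv', Finset.prod_const, Finset.card_univ]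
    rw [← Nat.card_eq_fintype_card, hmc]
    rfl
  obtain ⟨e, he⟩ := hquot (π m)
  have hcop : Nat.Coprime k (p ^ e) :=
    ((Nat.Prime.coprime_iff_not_dvd Fact.out).2 T.not_dvd_index).symm.pow_right e
  obtain ⟨j, hj⟩ : ∃ j, π (c' ^ j) = π m := by
    have h1 : orderOf (π m) ∣ p ^ e := orderOf_dvd_of_pow_eq_one he
    obtain ⟨j, hj⟩ := exists_pow_eq_self_of_coprime (hcop.coprime_dvd_right h1)
    exact ⟨j, by rw [map_pow, hk, hj]⟩
  refine ⟨m * (c' ^ j)⁻¹, ?_, c' ^ j, fun l => by rw [smul_pow', hfix], by group⟩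
  rw [← QuotientGroup.eq_one_iff, QuotientGroup.mk_mul, QuotientGroup.mk_inv]
  rw [QuotientGroup.mk'_apply, QuotientGroup.mk'_apply] at hj
  rw [hj, mul_inv_cancel]

end Cfsg.Agent.S1940
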