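import Cfsg.Statements.S1941
import Cfsg.Agent.Components.FStar
import Cfsg.Agent.Balance.Core

set_option autoImplicit false
open Cfsg

namespace Cfsg.Agent.S1941

/-- Let G be a finite group with no nontrivial normal subgroup of order prime to p, T a Sylow p-subgroup of G and E(G) the layer of G (the subgroup generated by its components). An automorphism of G of p-power order that fixes T and E(G) elementwise is inner. -/
theorem result {G : Type*} [Group G] [Finite G] {p : ℕ} [Fact p.Prime] (hcore : Cfsg.pPrimeCore p G = ⊥)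
    (T : Sylow p G) (α : MulAut G) (hα : ∃ j : ℕ, orderOf α = p ^ j) (hfixT : ∀ x ∈ (T : Subgroup G), α x = x)
    (hfixE : ∀ x ∈ Cfsg.layer G, α x = x) : ∃ g : G, ∀ x : G, α x = g * x * g⁻¹ := by
  classical
  have hF : Cfsg.fittingSubgroup G = Cfsg.pCore p G := CfsgLib.Balance.fittingSubgroup_eq_pCore hcore
  have hOT : Cfsg.pCore p G ≤ (T : Subgroup G) := CfsgLib.PLocal.pCore_le_sylow T
  haveI hFsn : (Cfsg.generalizedFittingSubgroup G).Normal := by
    have : (Cfsg.fittingSubgroup G).Normal := by rw [hF]; exact CfsgLib.Solvable.pCore_normal p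
    exact Subgroup.sup_normal _ _
  have hfixF : ∀ x ∈ Cfsg.generalizedFittingSubgroup G, α x = x := by
    have hle : Cfsg.generalizedFittingSubgroup G ≤ α.toMonoidHom.eqLocus (MonoidHom.id G) :=
      sup_le (fun x hx => hfixE x hx) (fun x hx => hfixT x (hOT (hF ▸ hx)))
    exact fun x hx => hle hx
  set Z : Subgroup G := Subgroup.centralizer (Cfsg.generalizedFittingSubgroup G : Set G) with hZdef
  haveI hZn : Z.Normal := Subgroup.normal_centralizer
  have hZF : Z ≤ Cfsg.fittingSubgroup G := CfsgLib.Components.centralizer_generalizedFitting_le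
  have hZp : IsPGroup p Z := (CfsgLib.Components.isPGroup_pCore p).to_le (hF ▸ hZF)
  haveI hZc : IsMulCommutative Z := by
    refine ⟨⟨fun a b => Subtype.ext ?_⟩⟩
    exact (Subgroup.mem_centralizer_iff.mp a.2 b
      (CfsgLib.Components.fitting_le_generalizedFitting (hZF b.2))).symm
  letI hcg : CommGroup Z := { (inferInstance : Group Z) with mul_comm := fun a b => hZc.1.comm a b }
  have hd : ∀ g : G, α g * g⁻¹ ∈ Z := by
    intro g
    have hmem : g⁻¹ * α g ∈ Z := by
      rw [Subgroup.mem_centralizer_iff]
      intro f hf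
      have h1 := hfixF _ (hFsn.conj_mem f hf g)
      rw [map_mul, map_mul, map_inv, hfixF f hf] at h1
      calc f * (g⁻¹ * α g) = g⁻¹ * (g * f * g⁻¹) * α g := by group
        _ = g⁻¹ * (α g * f * (α g)⁻¹) * α g := by rw [h1]
        _ = g⁻¹ * α g * f := by group
    have := hZn.conj_mem _ hmem g
    simpa [mul_assoc] using this
  set d : G → Z := fun g => ⟨α g * g⁻¹, hd g⟩ with hddef
  have hdT : ∀ g : G, ∀ t ∈ (T : Subgroup G), d (g * t) = d g := by
    intro g t ht
    apply Subtype.ext
    simp only [hddef, map_mul, hfixT t ht, mul_inv_rev]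
    group
  have hdmul : ∀ g h : G, d (g * h) = d g * MulAut.conjNormal g (d h) := by
    intro g h
    apply Subtype.ext
    simp only [hddef, map_mul, mul_inv_rev, Subgroup.coe_mul, MulAut.conjNormal_apply]
    group
  haveI := Fintype.ofFinite (G ⧸ (T : Subgroup G))
  set d' : G ⧸ (T : Subgroup G) → Z := fun q => d q.out with hd'
  have hd'mk : ∀ g : G, d' (g : G ⧸ (T : Subgroup G)) = d g := by
    intro g
    obtain ⟨t, ht⟩ := QuotientGroup.mk_out_eq_mul (T : Subgroup G) g
    rw [hd']
    simp only
    rw [ht, hdT g t t.2]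
  let P : Z := ∏ q, d' q
  set n := Fintype.card (G ⧸ (T : Subgroup G)) with hn
  have hkey : ∀ g : G, P = d g ^ n * MulAut.conjNormal g P := by
    intro g
    calc P = ∏ q, d' (g • q) := (Equiv.prod_comp (MulAction.toPerm g) d').symm
      _ = ∏ q, d g * MulAut.conjNormal g (d' q) := by
          refine Finset.prod_congr rfl fun q _ => ?_
          induction q using QuotientGroup.induction_on with
          | _ h =>
            rw [hd'mk h]
            show d' ((g * h : G) : G ⧸ (T : Subgroup G)) = _
            rw [hd'mk, hdmul]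
      _ = d g ^ n * MulAut.conjNormal g P := by
          rw [Finset.prod_mul_distrib, Finset.prod_const, Finset.card_univ, map_prod]
  have hcop : (Nat.card Z).Coprime n := by
    obtain ⟨k, hk⟩ := IsPGroup.iff_card.mp hZp
    rw [hk]
    apply Nat.Coprime.pow_left
    rw [Nat.Prime.coprime_iff_not_dvd Fact.out, hn, ← Nat.card_eq_fintype_card,
      ← Subgroup.index_eq_card]
    exact T.not_dvd_index
  obtain ⟨z, hz⟩ := (powCoprime hcop).surjective P
  replace hz : z ^ n = P := hz
  refine ⟨(z : G), fun g => ?_⟩
  have h1 := hkey g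
  rw [← hz, map_pow, ← mul_pow] at h1
  have h2 : z = d g * MulAut.conjNormal g z := (powCoprime hcop).injective h1
  have h3 := congrArg Subtype.val h2
  simp only [hddef, Subgroup.coe_mul, MulAut.conjNormal_apply] at h3
  calc α g = (α g * g⁻¹ * (g * (z : G) * g⁻¹)) * g * (z : G)⁻¹ := by group
    _ = (z : G) * g * (z : G)⁻¹ := by rw [← h3]

end Cfsg.Agent.S1941
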