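import Cfsg.Statements.S1944
import Cfsg.Agent.Techniques.PPrimePFusion
import Cfsg.Agent.Techniques.RelativeNorm

set_option autoImplicit false
open Cfsg

namespace Cfsg.Agent.S1944

/-- Let S be a Sylow p-subgroup of the finite group G and suppose that the centre Z(S) lies in O_{p',p}(G). The elements of S each of which is its only G-conjugate in S form a subgroup W of Z(S); W is then a direct factor of Z(S): there is a subgroup K of Z(S) with W ∩ K = 1 and WK = Z(S). -/
theorem result {G : Type*} [Group G] [Finite G] {p : ℕ} [Fact p.Prime] (S : Sylow p G)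
    (hZ : ((S : Subgroup G) ⊓ Subgroup.centralizer ((S : Subgroup G) : Set G)) ≤ Cfsg.pPrimePCore p G) :
    ∃ W K : Subgroup G, (∀ x : G, x ∈ W ↔ (x ∈ (S : Subgroup G) ∧ ∀ g : G, g * x * g⁻¹ ∈ (S : Subgroup G) → g * x * g⁻¹ = x)) ∧
      K ≤ ((S : Subgroup G) ⊓ Subgroup.centralizer ((S : Subgroup G) : Set G)) ∧ W ⊓ K = ⊥ ∧ W ⊔ K = ((S : Subgroup G) ⊓ Subgroup.centralizer ((S : Subgroup G) : Set G)) := by
  set T := Cfsg.pPrimePCore p G
  set H := (S : Subgroup G) ⊓ T with hH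
  set N := Subgroup.normalizer (H : Set G) with hN
  set Z := (S : Subgroup G) ⊓ Subgroup.centralizer ((S : Subgroup G) : Set G) with hZdef
  set A := H ⊓ Subgroup.centralizer (H : Set G) with hA
  have hSN : (S : Subgroup G) ≤ N := CfsgLib.Techniques.sylow_le_normalizer_inf S
  have hAcomm : IsMulCommutative A := ⟨⟨fun a b => Subtype.ext (b.2.2 _ a.2.1)⟩⟩
  have hNA : N ≤ Subgroup.normalizer (A : Set G) := by
    intro n hn
    rw [Subgroup.mem_normalizer_iff_map_conj_eq]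
    have hn' := Subgroup.mem_normalizer_iff_map_conj_eq.1 hn
    have key : ∀ (m : G), H.map (MulAut.conj m).toMonoidHom = H →
        A.map (MulAut.conj m).toMonoidHom ≤ A := by
      rintro m hm _ ⟨a, ha, rfl⟩
      refine ⟨hm.le ⟨a, ha.1, rfl⟩, fun h hh => ?_⟩
      obtain ⟨h', hh', rfl⟩ := hm.ge hh
      show MulAut.conj m h' * MulAut.conj m a = MulAut.conj m a * MulAut.conj m h'
      rw [← map_mul, ha.2 _ hh', map_mul]
    refine le_antisymm (key n hn') fun a ha => ?_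
    have := key n⁻¹ (Subgroup.mem_normalizer_iff_map_conj_eq.1 (inv_mem hn)) ⟨a, ha, rfl⟩
    exact ⟨_, this, by simp [mul_assoc]⟩
  let : CommGroup A := { (inferInstance : Group A) with mul_comm := hAcomm.is_comm.comm }
  let : MulDistribMulAction N A := MulDistribMulAction.compHom A
    (A.normalizerMonoidHom.comp (Subgroup.inclusion hNA))
  have hsmul : ∀ (n : N) (a : A), ((n • a : A) : G) = (n : G) * a * (n : G)⁻¹ := fun _ _ => rfl
  have hZA : Z ≤ A := fun z hz => ⟨⟨hz.1, hZ hz⟩, fun h hh => hz.2 h hh.1⟩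
  obtain ⟨K, hK1, hK2, hK3⟩ := CfsgLib.Techniques.exists_complement_fixed (M := A)
    ((S : Subgroup G).subgroupOf N) (fun m => by
      obtain ⟨k, hk⟩ := IsPGroup.iff_orderOf.1
        ((S.2.to_le inf_le_left).to_le inf_le_left : IsPGroup p A) m
      rw [hk]
      exact (((Nat.Prime.coprime_iff_not_dvd Fact.out).2 fun h => S.not_dvd_index
        (h.trans (Subgroup.relIndex_dvd_index_of_le hSN))).symm).pow_right k)
  have hfix : ∀ (a : A), ((∀ t ∈ (S : Subgroup G).subgroupOf N, t • a = a) ↔ (a : G) ∈ Z) := by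
    intro a
    constructor
    · intro h
      refine ⟨a.2.1.1, fun s hs => ?_⟩
      have := congrArg Subtype.val (h ⟨s, hSN hs⟩ hs)
      rw [hsmul] at this
      exact mul_inv_eq_iff_eq_mul.1 this
    · intro h t ht
      apply Subtype.ext
      rw [hsmul]
      exact mul_inv_eq_iff_eq_mul.2 (h.2 _ ht)
  refine ⟨A ⊓ Subgroup.centralizer (N : Set G), K.map A.subtype, ?_, ?_, ?_, ?_⟩
  · intro x
    constructor
    · intro hx
      refine ⟨hx.1.1.1, fun g hg => ?_⟩
      obtain ⟨n, hn, h⟩ := CfsgLib.Techniques.exists_normalizer_inf_conj S x g hx.1.1.1 hg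
      rw [← h, hx.2 n hn, mul_inv_cancel_right]
    · rintro ⟨hxS, hx⟩
      have hxZ : x ∈ Z := ⟨hxS, fun s hs =>
        mul_inv_eq_iff_eq_mul.1 (hx s (mul_mem (mul_mem hs hxS) (inv_mem hs)))⟩
      refine ⟨hZA hxZ, fun n hn => mul_inv_eq_iff_eq_mul.1 (hx n ?_)⟩
      exact ((Subgroup.mem_normalizer_iff.1 hn x).1 (hZA hxZ).1).1
  · rintro _ ⟨a, ha, rfl⟩
    exact (hfix a).1 (hK1 a ha)
  · rw [eq_bot_iff]
    rintro x ⟨⟨hxA, hxN⟩, a, ha, rfl⟩
    have : a = 1 := hK2 a ha fun n => Subtype.ext (by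
      rw [hsmul]; exact mul_inv_eq_iff_eq_mul.2 (hxN n n.2))
    simp [this]
  · refine le_antisymm (sup_le ?_ ?_) fun x hx => ?_
    · rintro x ⟨hxA, hxN⟩
      exact ⟨hxA.1.1, fun s hs => hxN s (hSN hs)⟩
    · rintro _ ⟨a, ha, rfl⟩
      exact (hfix a).1 (hK1 a ha)
    · obtain ⟨w, hw, k, hk, hxwk⟩ := hK3 ⟨x, hZA hx⟩ ((hfix ⟨x, hZA hx⟩).2 hx)
      have : x = (w : G) * k := congrArg Subtype.val hxwk
      rw [this]
      refine Subgroup.mul_mem_sup ⟨w.2, fun n hn => ?_⟩ ⟨k, hk, rfl⟩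
      have := congrArg Subtype.val (hw ⟨n, hn⟩)
      rw [hsmul] at this
      exact mul_inv_eq_iff_eq_mul.1 this

end Cfsg.Agent.S1944
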