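import Cfsg.Statements.S1945
import Cfsg.Agent.WeakClosed.FusionFixed
import Cfsg.Agent.FusionPStable.Basic
import Cfsg.Agent.PLocal.Constraint
import Cfsg.Agent.PLocal.ZJTheorem
import Cfsg.Agent.LocalEven.ZJLocallyFree

set_option autoImplicit false
open Cfsg

namespace Cfsg.Agent.S1945

open Subgroup

variable {G : Type*} [Group G] [Finite G] {p : ℕ} [Fact p.Prime]

omit [Finite G] in
theorem normalizer_le_normalizer_inf_centralizer (A : Subgroup G) :
    normalizer (A : Set G) ≤
      normalizer ((A ⊓ centralizer (A : Set G) : Subgroup G) : Set G) := by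
  have key : ∀ n ∈ normalizer (A : Set G), ∀ y ∈ A ⊓ centralizer (A : Set G),
      n * y * n⁻¹ ∈ A ⊓ centralizer (A : Set G) := by
    intro n hn y hy
    refine ⟨(mem_normalizer_iff.mp hn y).mp hy.1, mem_centralizer_iff.mpr fun a ha => ?_⟩
    have ha' : n⁻¹ * a * n ∈ A := by
      simpa using (mem_normalizer_iff.mp (inv_mem hn) a).mp ha
    have he := mem_centralizer_iff.mp hy.2 _ ha'
    calc a * (n * y * n⁻¹) = n * ((n⁻¹ * a * n) * y) * n⁻¹ := by group
      _ = n * (y * (n⁻¹ * a * n)) * n⁻¹ := by rw [he]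
      _ = n * y * n⁻¹ * a := by group
  intro n hn
  refine mem_normalizer_iff.mpr fun y => ⟨key n hn y, fun hy => ?_⟩
  have h := key n⁻¹ (inv_mem hn) _ hy
  simpa [mul_assoc] using h

omit [Fact p.Prime] in
/-- Fixed points of `H` split off the fixed points of a Sylow subgroup on an abelian `p`-group:
the kernel of the trace is a complement. -/
theorem exists_complement_fixed [Fact p.Prime] (S : Sylow p G) {H M : Subgroup G}
    (hSH : (S : Subgroup G) ≤ H) (hHM : H ≤ normalizer (M : Set G)) (hM : IsPGroup p M)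
    (hMc : IsMulCommutative M) :
    ∃ K : Subgroup G, K ≤ M ⊓ centralizer ((S : Subgroup G) : Set G) ∧
      (M ⊓ centralizer (H : Set G)) ⊓ K = ⊥ ∧
      (M ⊓ centralizer (H : Set G)) ⊔ K = M ⊓ centralizer ((S : Subgroup G) : Set G) := by
  classical
  letI : CommGroup M := { (inferInstance : Group M) with mul_comm := hMc.is_comm.comm }
  set SH : Subgroup H := (S : Subgroup G).subgroupOf H with hSHdef
  haveI : Fintype (H ⧸ SH) := Fintype.ofFinite _
  set Z : Subgroup G := M ⊓ centralizer ((S : Subgroup G) : Set G) with hZ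
  let f : H ⧸ SH → Z →* M := fun q =>
    { toFun := fun z => ⟨(q.out : G) * z * (q.out : G)⁻¹,
        (mem_normalizer_iff.mp (hHM q.out.2) z).mp z.2.1⟩
      map_one' := Subtype.ext (by simp)
      map_mul' := fun a b => Subtype.ext (by simp [mul_assoc]) }
  have hf : ∀ (h : H) (q : H ⧸ SH) (z : Z),
      ((f (h • q) z : M) : G) = (h : G) * (f q z : M) * (h : G)⁻¹ := by
    intro h q z
    have hs : (h • q).out⁻¹ * (h * q.out) ∈ SH := by
      rw [← QuotientGroup.eq, QuotientGroup.out_eq']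
      conv_lhs => rw [← QuotientGroup.out_eq' q]
      rfl
    have hc := mem_centralizer_iff.mp z.2.2 _ (mem_subgroupOf.mp hs)
    simp only [coe_mul, coe_inv] at hc
    show ((h • q).out : G) * z * ((h • q).out : G)⁻¹ =
      (h : G) * ((q.out : G) * z * (q.out : G)⁻¹) * (h : G)⁻¹
    calc ((h • q).out : G) * z * ((h • q).out : G)⁻¹
        = ((h • q).out : G) * ((z : G) *
            (((h • q).out : G)⁻¹ * ((h : G) * q.out))) * ((q.out : G)⁻¹ * (h : G)⁻¹) := by group
      _ = ((h • q).out : G) * ((((h • q).out : G)⁻¹ * ((h : G) * q.out)) * z) *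
            ((q.out : G)⁻¹ * (h : G)⁻¹) := by rw [hc]
      _ = _ := by group
  let τ : Z →* M :=
    { toFun := fun z => ∏ q : H ⧸ SH, f q z
      map_one' := by simp
      map_mul' := fun a b => by simp [Finset.prod_mul_distrib] }
  have hτfix : ∀ z : Z, ((τ z : M) : G) ∈ centralizer (H : Set G) := by
    intro z
    refine mem_centralizer_iff.mpr fun h hh => ?_
    let c : M →* M :=
      { toFun := fun m => ⟨h * m * h⁻¹, (mem_normalizer_iff.mp (hHM hh) m).mp m.2⟩
        map_one' := Subtype.ext (by simp)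
        map_mul' := fun a b => Subtype.ext (by simp [mul_assoc]) }
    have hc : c (τ z) = τ z := by
      show c (∏ q, f q z) = ∏ q, f q z
      rw [map_prod]
      refine Fintype.prod_equiv (MulAction.toPerm (⟨h, hh⟩ : H)) _ _ fun q => ?_
      exact Subtype.ext (hf ⟨h, hh⟩ q z).symm
    have := congrArg Subtype.val hc
    change h * ((τ z : M) : G) * h⁻¹ = _ at this
    exact mul_inv_eq_iff_eq_mul.mp this
  set W : Subgroup G := M ⊓ centralizer (H : Set G) with hW
  have hWZ : W ≤ Z := inf_le_inf_left _ (centralizer_le hSH)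
  set m := Nat.card (H ⧸ SH) with hm
  have hτW : ∀ z : Z, (z : G) ∈ W → ((τ z : M) : G) = (z : G) ^ m := by
    intro z hz
    have hconst : ∀ q, f q z = ⟨(z : G), z.2.1⟩ := fun q => Subtype.ext (by
      show (q.out : G) * z * (q.out : G)⁻¹ = z
      rw [mem_centralizer_iff.mp hz.2 _ q.out.2, mul_inv_cancel_right])
    show ((∏ q, f q z : M) : G) = _
    rw [Finset.prod_congr rfl fun q _ => hconst q, Finset.prod_const, Finset.card_univ,
      hm, Nat.card_eq_fintype_card]
    rfl
  have hmp : ¬ p ∣ m := by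
    intro hd
    apply S.not_dvd_index
    rw [← relIndex_mul_index hSH]
    exact Dvd.dvd.mul_right hd _
  have hco : (Nat.card W).Coprime m := by
    obtain ⟨k, hk⟩ := IsPGroup.iff_card.mp (hM.to_inf_left : IsPGroup p W)
    rw [hk]
    exact (((Fact.out : p.Prime).coprime_iff_not_dvd).mpr hmp).pow_left _
  refine ⟨τ.ker.map Z.subtype, map_subtype_le _, ?_, le_antisymm (sup_le hWZ (map_subtype_le _)) ?_⟩
  · refine eq_bot_iff.mpr fun x hx => ?_
    obtain ⟨hxW, z, hz, rfl⟩ := hx
    have hzm : (⟨(z : G), hxW⟩ : W) ^ m = 1 := Subtype.ext (by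
      rw [SubgroupClass.coe_pow, ← hτW z hxW, (MonoidHom.mem_ker.mp hz)]; rfl)
    have h1 : (⟨(z : G), hxW⟩ : W) = 1 := (powCoprime hco).injective (by
      simp only [powCoprime_apply, one_pow]; exact hzm)
    exact mem_bot.mpr (congrArg Subtype.val h1)
  · intro x hx
    obtain ⟨w, hw⟩ := (powCoprime hco).surjective
      ⟨((τ ⟨x, hx⟩ : M) : G), (τ ⟨x, hx⟩).2, hτfix _⟩
    have hw' : (w : G) ^ m = ((τ ⟨x, hx⟩ : M) : G) := congrArg Subtype.val hw
    let w' : Z := ⟨w, hWZ w.2⟩
    have hk : w'⁻¹ * ⟨x, hx⟩ ∈ τ.ker := by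
      rw [MonoidHom.mem_ker, map_mul, map_inv, inv_mul_eq_one]
      exact Subtype.ext ((hτW w' w.2).trans hw')
    have := mul_mem_sup (w.2 : (w : G) ∈ W)
      (mem_map_of_mem Z.subtype hk : Z.subtype (w'⁻¹ * ⟨x, hx⟩) ∈ τ.ker.map Z.subtype)
    simpa [w'] using this

/-- Let S be a Sylow p-subgroup of the finite group G, and assume that p is odd or that G is solvable. The elements of S each of which is its only G-conjugate in S form a subgroup W of Z(S); W is then a direct factor of Z(S): there is a subgroup K of Z(S) with W ∩ K = 1 and WK = Z(S). (For p = 2 and G not solvable this can fail.) -/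
theorem result {G : Type*} [Group G] [Finite G] {p : ℕ} [Fact p.Prime] (S : Sylow p G) (h : p ≠ 2 ∨ Group.IsSolvable G) :
    ∃ W K : Subgroup G, (∀ x : G, x ∈ W ↔ (x ∈ (S : Subgroup G) ∧ ∀ g : G, g * x * g⁻¹ ∈ (S : Subgroup G) → g * x * g⁻¹ = x)) ∧
      K ≤ ((S : Subgroup G) ⊓ Subgroup.centralizer ((S : Subgroup G) : Set G)) ∧ W ⊓ K = ⊥ ∧ W ⊔ K = ((S : Subgroup G) ⊓ Subgroup.centralizer ((S : Subgroup G) : Set G)) := by
  classical
  suffices h' : ∃ H M : Subgroup G, (S : Subgroup G) ≤ H ∧ H ≤ normalizer (M : Set G) ∧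
      M ≤ S ∧ IsMulCommutative M ∧
      (S : Subgroup G) ⊓ centralizer ((S : Subgroup G) : Set G) ≤ M ∧
      ∀ x ∈ M ⊓ centralizer (H : Set G), ∀ g : G, g * x * g⁻¹ ∈ (S : Subgroup G) →
        g * x * g⁻¹ = x by
    obtain ⟨H, M, hSH, hHM, hMS, hMc, hZM, hfix⟩ := h'
    obtain ⟨K, hK, hd, hs⟩ :=
      exists_complement_fixed S hSH hHM (IsPGroup.to_le S.2 hMS) hMc
    have hZ : M ⊓ centralizer ((S : Subgroup G) : Set G) =
        (S : Subgroup G) ⊓ centralizer ((S : Subgroup G) : Set G) :=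
      le_antisymm (inf_le_inf_right _ hMS) (le_inf hZM inf_le_right)
    rw [hZ] at hK hs
    refine ⟨M ⊓ centralizer (H : Set G), K, fun x => ⟨fun hx => ⟨hMS hx.1, hfix x hx⟩, fun ⟨hxS, hxu⟩ => ?_⟩, hK, hd, hs⟩
    have hxZ : x ∈ (S : Subgroup G) ⊓ centralizer ((S : Subgroup G) : Set G) :=
      ⟨hxS, mem_centralizer_iff.mpr fun s hs => mul_inv_eq_iff_eq_mul.mp
        (hxu s ((S : Subgroup G).mul_mem (mul_mem hs hxS) (inv_mem hs)))⟩
    exact ⟨hZM hxZ, mem_centralizer_iff.mpr fun n hn => mul_inv_eq_iff_eq_mul.mp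
      (hxu n (hMS ((mem_normalizer_iff.mp (hHM hn) x).mp (hZM hxZ))))⟩
  rcases h with hp | hsol
  · refine ⟨normalizer (thompsonSubgroupAOf (S : Subgroup G) : Set G),
      centerThompsonAOf (S : Subgroup G),
      le_normalizer.trans (CfsgLib.PLocal.normalizer_le_normalizer_thompsonSubgroupAOf _),
      normalizer_le_normalizer_inf_centralizer _, CfsgLib.PLocal.centerThompsonAOf_le _,
      le_centralizer_iff_isMulCommutative.mp (inf_le_right.trans
        (centralizer_le (SetLike.coe_subset_coe.mpr inf_le_left))),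
      CfsgLib.LocalEven.LocallyFree.inf_centralizer_le_centerThompsonAOf _, ?_⟩
    intro x hx g hg
    have hxS : x ∈ (S : Subgroup G) := CfsgLib.PLocal.centerThompsonAOf_le _ hx.1
    have hxz : x ∈ (S : Subgroup G) ⊓ centralizer ((S : Subgroup G) : Set G) :=
      ⟨hxS, centralizer_le (le_normalizer.trans
        (CfsgLib.PLocal.normalizer_le_normalizer_thompsonSubgroupAOf (S : Subgroup G))) hx.2⟩
    have hfixes := CfsgLib.WeakClosed.fixes_of_thompson S.2
      (CfsgLib.Fusion.isSaturated_groupFusion S) (Or.inl hp) hxz ?_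
    · refine hfixes (zpowers x) ((MulAut.conj g).toMonoidHom.comp (zpowers x).subtype)
        ⟨zpowers_le.mpr hxS, ?_, g, fun y => rfl⟩ ⟨x, mem_zpowers x⟩ rfl
      rintro ⟨y, hy⟩
      obtain ⟨k, rfl⟩ := mem_zpowers_iff.mp hy
      show g * x ^ k * g⁻¹ ∈ (S : Subgroup G)
      rw [← conj_zpow]
      exact zpow_mem hg k
    · intro α hα y hy
      rw [CfsgLib.FusionPStable.autGroup_groupFusion
        (CfsgLib.PLocal.thompsonSubgroupAOf_le (S : Subgroup G))] at hα
      obtain ⟨n, rfl⟩ := hα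
      rw [CfsgLib.FusionPStable.normalizerMonoidHom_coe, hy,
        mem_centralizer_iff.mp hx.2 _ n.2, mul_inv_cancel_right]
  · set T := pPrimePCore p G with hT
    have hQ : CfsgLib.ConjFunctor.IsSylowIn p ((S : Subgroup G) ⊓ T) T :=
      (CfsgLib.ConjFunctor.isSylowIn_top S).inf_of_normal le_top
        (Subgroup.normalizer_eq_top_iff.mpr (inferInstance : T.Normal)).ge
    set Q := (S : Subgroup G) ⊓ T with hQdef
    let P : Sylow p T := (hQ.2.1.comap_subtype (K := T)).toSylow hQ.2.2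
    have hP : (P : Subgroup T).map T.subtype = Q := map_subgroupOf_eq_of_le hQ.1
    have hcen := CfsgLib.PLocal.isPConstrained_of_isPSolvable
      (CfsgLib.PLocal.isPSolvable_of_isSolvable (G := G) (p := p)) P
    have hsup := CfsgLib.PLocal.normalizer_sylow_pPrimePCore_sup P
    rw [hP] at hcen hsup
    have hZT : (S : Subgroup G) ⊓ centralizer ((S : Subgroup G) : Set G) ≤ T :=
      inf_le_right.trans ((centralizer_le (SetLike.coe_subset_coe.mpr inf_le_left)).trans hcen)
    refine ⟨normalizer (Q : Set G), Q ⊓ centralizer (Q : Set G), ?_,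
      normalizer_le_normalizer_inf_centralizer Q, inf_le_left.trans inf_le_left,
      le_centralizer_iff_isMulCommutative.mp (inf_le_right.trans
        (centralizer_le (SetLike.coe_subset_coe.mpr inf_le_left))),
      le_inf (le_inf inf_le_left hZT) (inf_le_right.trans
        (centralizer_le (SetLike.coe_subset_coe.mpr inf_le_left))), ?_⟩
    · intro s hs
      exact CfsgLib.ConjFunctor.mem_normalizer_of_forall_conj_mem fun y hy =>
        ⟨(S : Subgroup G).mul_mem ((S : Subgroup G).mul_mem hs hy.1) ((S : Subgroup G).inv_mem hs),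
          (inferInstance : T.Normal).conj_mem y hy.2 s⟩
    intro x hx g hg
    have hgm : g ∈ pPrimeCore p G ⊔ normalizer (Q : Set G) := by
      rw [sup_comm, hsup]; exact mem_top g
    obtain ⟨k, hk, n, hn, rfl⟩ := mem_sup_of_normal_left.mp hgm
    have e : k * n * x * (k * n)⁻¹ = k * x * k⁻¹ := by
      calc k * n * x * (k * n)⁻¹ = k * (n * x) * n⁻¹ * k⁻¹ := by group
        _ = k * (x * n) * n⁻¹ * k⁻¹ := by rw [mem_centralizer_iff.mp hx.2 n hn]
        _ = k * x * k⁻¹ := by group
    rw [e] at hg ⊢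
    have hd : k * x * k⁻¹ * x⁻¹ ∈ (S : Subgroup G) ⊓ pPrimeCore p G := by
      refine ⟨(S : Subgroup G).mul_mem hg ((S : Subgroup G).inv_mem hx.1.1.1), ?_⟩
      rw [show k * x * k⁻¹ * x⁻¹ = k * (x * k⁻¹ * x⁻¹) by group]
      exact mul_mem hk ((inferInstance : (pPrimeCore p G).Normal).conj_mem _ (inv_mem hk) x)
    rw [CfsgLib.PLocal.disjoint_of_isPGroup_of_coprime S.2
      (CfsgLib.PLocal.coprime_card_pPrimeCore p G), mem_bot, mul_inv_eq_one] at hd
    exact hd

end Cfsg.Agent.S1945
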