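import Cfsg.Statements.S1946
import Cfsg.Agent.Techniques.SmallOrderFusion

set_option autoImplicit false
open Cfsg

namespace Cfsg.Agent.S1946

/-- Let P be a Sylow p-subgroup of the finite group G. Then G has a normal p-complement if and only if P controls the fusion of its elements of order dividing p (dividing 4 when p = 2): whenever such an element a of P has a G-conjugate g a g⁻¹ in P, that conjugate is already x a x⁻¹ for some x in P. -/
theorem result {G : Type*} [Group G] [Finite G] {p : ℕ} [Fact p.Prime] (P : Sylow p G) :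
    Cfsg.HasNormalPComplement p G ↔
      ∀ a ∈ (P : Subgroup G), (a ^ p = 1 ∨ (p = 2 ∧ a ^ 4 = 1)) → ∀ g : G, g * a * g⁻¹ ∈ (P : Subgroup G) →
        ∃ x ∈ (P : Subgroup G), g * a * g⁻¹ = x * a * x⁻¹ := by
  constructor
  · intro h a ha _ g hg
    obtain ⟨x, hx, he⟩ := CfsgLib.Transfer.controlsFusion_self_of_hasNormalPComplement h P a ha g hg
    exact ⟨x, hx, he.symm⟩
  · intro h
    refine CfsgLib.Transfer.hasNormalPComplement_of_local P fun Q hQ g hg hgp => ?_
    have : Group.IsNilpotent ↥(P : Subgroup G) := P.2.isNilpotent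
    obtain ⟨c, hc⟩ := Group.IsNilpotent.nilpotent ↥(P : Subgroup G)
    refine CfsgLib.Techniques.mem_centralizer_of_small_series (P.2.to_le hQ) hg hgp
      (fun i => (Subgroup.upperCentralSeries ↥(P : Subgroup G) i).map (P : Subgroup G).subtype) (by simp) ?_
      fun d hd _ => ⟨c, ⟨⟨d, hQ hd⟩, by rw [hc]; trivial, rfl⟩⟩
    intro i d hd hsmall hdi
    obtain ⟨u, hu, hud⟩ := hdi
    obtain ⟨x, hx, he⟩ := h d (hQ hd) hsmall g (hQ ((Subgroup.mem_normalizer_iff.1 hg d).1 hd))
    have hcomm := (Subgroup.mem_upperCentralSeries_succ_iff).1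
      ((Subgroup.upperCentralSeries ↥(P : Subgroup G) (i + 1)).inv_mem hu) ⟨x, hx⟩
    refine ⟨_, hcomm, ?_⟩
    rw [he, ← hud]
    simp [commutatorElement_def, mul_assoc]

end Cfsg.Agent.S1946
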