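import Cfsg.Statements.S1948
import Cfsg.Agent.Techniques.PPrimePFusion

set_option autoImplicit false
open Cfsg

namespace Cfsg.Agent.S1948

/-- Let S be a Sylow p-subgroup of the finite group G. Then G = N_G(S)·O_{p'}(G) if and only if G is p-constrained and N_G(S) controls fusion in S, in the sense that whenever a subgroup Q of S has a conjugate g Q g⁻¹ inside S, the element g is a product n c with n normalizing S and c centralizing Q. -/
theorem result {G : Type*} [Group G] [Finite G] {p : ℕ} [Fact p.Prime] (S : Sylow p G) :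
    Subgroup.normalizer ((S : Subgroup G) : Set G) ⊔ Cfsg.pPrimeCore p G = ⊤ ↔
      (Cfsg.IsPConstrained p G ∧
        ∀ Q : Subgroup G, Q ≤ (S : Subgroup G) → ∀ g : G, Q.map (MulAut.conj g).toMonoidHom ≤ (S : Subgroup G) →
          ∃ n ∈ Subgroup.normalizer ((S : Subgroup G) : Set G), ∃ c ∈ Subgroup.centralizer (Q : Set G), g = n * c) := by
  set D := Cfsg.pPrimeCore p G with hD
  set T := Cfsg.pPrimePCore p G with hT
  set N := Subgroup.normalizer ((S : Subgroup G) : Set G) with hN
  have hDn : D.Normal := inferInstance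
  constructor
  · intro h
    have hST : (S : Subgroup G) ≤ T := by
      rw [hT, Cfsg.pPrimePCore, ← Subgroup.map_le_iff_le_comap]
      have : ((S : Subgroup G).map (QuotientGroup.mk' D)).Normal := by
        rw [← Subgroup.normalizer_eq_top_iff, ← top_le_iff,
          ← Subgroup.map_top_of_surjective _ (QuotientGroup.mk'_surjective D), ← h, Subgroup.map_sup]
        refine sup_le (Subgroup.le_normalizer_map _) ?_
        rw [QuotientGroup.map_mk'_self]
        exact bot_le
      exact CfsgLib.PLocal.le_pCore (S.2.map _)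
    have hH : (S : Subgroup G) ⊓ T = (S : Subgroup G) := inf_eq_left.2 hST
    refine ⟨?_, fun Q hQ g hg => ?_⟩
    · refine CfsgLib.PLocal.isPConstrained_of_isPSolvable
        (CfsgLib.PLocal.isPSolvable_of_extension D
          (CfsgLib.PLocal.isPSolvable_of_coprime (CfsgLib.PLocal.coprime_card_pPrimeCore p G))
          (CfsgLib.PLocal.isPSolvable_of_extension (Cfsg.pCore p (G ⧸ D))
            (CfsgLib.PLocal.isPSolvable_of_isPGroup (CfsgLib.PLocal.isPGroup_pCore p _))
            (CfsgLib.PLocal.isPSolvable_of_coprime ?_)))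
      rw [CfsgLib.PLocal.not_dvd_iff_coprime, ← Subgroup.index_eq_card]
      have hidx : (Cfsg.pCore p (G ⧸ D)).index = T.index :=
        (Subgroup.index_comap_of_surjective _ (QuotientGroup.mk'_surjective D)).symm
      rw [hidx]
      exact fun hdvd => S.not_dvd_index (hdvd.trans (Subgroup.index_dvd_of_le hST))
    · obtain ⟨n, hn, d, hd, rfl⟩ := Subgroup.mem_sup_of_normal_right.1
        (show g ∈ N ⊔ D by rw [h]; trivial)
      refine ⟨n, hn, d, fun q hq => ?_, rfl⟩
      have h1 : n * d * q * (n * d)⁻¹ ∈ (S : Subgroup G) := hg ⟨q, hq, rfl⟩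
      have h2 : d * q * d⁻¹ ∈ (S : Subgroup G) := by
        have := (Subgroup.mem_normalizer_iff.1 hn (d * q * d⁻¹)).2
        exact this (by simpa [mul_assoc] using h1)
      have h3 : d * q * d⁻¹ * q⁻¹ ∈ (S : Subgroup G) ⊓ D := by
        refine ⟨mul_mem h2 ((S : Subgroup G).inv_mem (hQ hq)), ?_⟩
        rw [mul_assoc, mul_assoc]
        exact D.mul_mem hd (by simpa [mul_assoc] using hDn.conj_mem _ (D.inv_mem hd) q)
      rw [CfsgLib.PLocal.disjoint_of_isPGroup_of_coprime S.2
        (CfsgLib.PLocal.coprime_card_pPrimeCore p G), Subgroup.mem_bot, mul_inv_eq_one,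
        mul_inv_eq_iff_eq_mul] at h3
      exact h3.symm
  · rintro ⟨hcon, hctrl⟩
    rw [eq_top_iff]
    intro g _
    set H := (S : Subgroup G) ⊓ T with hH
    obtain ⟨m, hm, d, hd, rfl⟩ := Subgroup.mem_sup_of_normal_right.1
      (show g ∈ Subgroup.normalizer (H : Set G) ⊔ D by
        rw [hH, hT, hD, CfsgLib.Techniques.normalizer_inf_pPrimePCore_sup]; trivial)
    obtain ⟨n, hn, c, hc, rfl⟩ := hctrl H inf_le_left m
      ((Subgroup.mem_normalizer_iff_map_conj_eq.1 hm).le.trans inf_le_left)
    refine mul_mem (mul_mem (Subgroup.mem_sup_left hn) ?_) (Subgroup.mem_sup_right hd)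
    -- `C_G(H) ≤ O_{p',p}(G) ≤ S O_{p'}(G)`
    have hp : IsPGroup p (H.subgroupOf T) :=
      (S.2.to_le inf_le_left).comap_of_injective _ (Subgroup.subtype_injective _)
    have hcT : c ∈ T := hcon (hp.toSylow (CfsgLib.Techniques.not_dvd_relIndex_inf_of_normal S T))
      (by
        show c ∈ Subgroup.centralizer (((H.subgroupOf T).map T.subtype : Subgroup G) : Set G)
        rw [Subgroup.subgroupOf_map_subtype, inf_eq_left.2 inf_le_right]
        exact hc)
    rw [hT, ← CfsgLib.Techniques.sylow_inf_pPrimePCore_sup S] at hcT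
    exact sup_le_sup_right (inf_le_left.trans Subgroup.le_normalizer) D hcT

end Cfsg.Agent.S1948
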