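import Cfsg.Statements.S1949
import Cfsg.Agent.Techniques.SmallExponent

set_option autoImplicit false
open Cfsg
open scoped commutatorElement

namespace Cfsg.Agent.S1949

/-- Let P be a finite p-group and G a group of automorphisms of P containing the inner automorphisms. Then there is a G-invariant subgroup D of P, contained in the subgroup generated by the elements x⁻¹α(x) with x in P and α in O^p(G), of exponent dividing p when p is odd and dividing 4 when p = 2, with [D, P] ≤ Z(D), such that every automorphism in G of order prime to p that fixes D elementwise is the identity; moreover every maximal abelian subgroup A of D is normal in P and every automorphism in G fixing A elementwise has p-power order. -/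
theorem result {P : Type*} [Group P] [Finite P] {p : ℕ} [Fact p.Prime] (hP : IsPGroup p P)
    (G : Subgroup (MulAut P)) (hG : Cfsg.Inn P ≤ G) :
    ∃ D : Subgroup P,
      (∀ α ∈ G, D.map α.toMonoidHom = D) ∧
      D ≤ Subgroup.closure {y : P | ∃ α ∈ Cfsg.pResidual p ↥G, ∃ x : P, y = x⁻¹ * (α : MulAut P) x} ∧
      (∀ d ∈ D, d ^ p = 1 ∨ (p = 2 ∧ d ^ 4 = 1)) ∧
      ⁅D, (⊤ : Subgroup P)⁆ ≤ D ⊓ Subgroup.centralizer (D : Set P) ∧
      (∀ α ∈ G, (orderOf α).Coprime p → (∀ d ∈ D, α d = d) → α = 1) ∧
      ∀ A : Subgroup P, A ≤ D → IsMulCommutative ↥A →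
        (∀ B : Subgroup P, A ≤ B → B ≤ D → IsMulCommutative ↥B → B = A) →
        A.Normal ∧ ∀ α ∈ G, (∀ a ∈ A, α a = a) → ∃ k : ℕ, orderOf α = p ^ k := by
  obtain ⟨D, hinv, hDQ, hexp, hcomm, hdet⟩ := CfsgLib.Techniques.exists_small_detecting hP G hG
  have hmap : ∀ α ∈ G, D.map α.toMonoidHom = D := fun α hα => le_antisymm
    (by rintro _ ⟨d, hd, rfl⟩; exact hinv α hα d hd)
    fun d hd => ⟨α⁻¹ d, hinv _ (G.inv_mem hα) d hd, by simp⟩
  refine ⟨D, hmap, hDQ, fun d hd => CfsgLib.Techniques.pow_smallExp_eq_one_iff.1 (hexp d hd), hcomm, hdet, ?_⟩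
  intro A hAD hAab hAmax
  have hmax : ∀ e ∈ D, (∀ a ∈ A, a * e = e * a) → e ∈ A := by
    intro e he hcen
    have hle : A ⊔ Subgroup.zpowers e ≤
        Subgroup.centralizer ((A ⊔ Subgroup.zpowers e : Subgroup P) : Set P) := by
      have hA : A ≤ Subgroup.centralizer ((A ⊔ Subgroup.zpowers e : Subgroup P) : Set P) := by
        rw [Subgroup.le_centralizer_iff]
        refine sup_le ?_ (Subgroup.zpowers_le.2 hcen)
        exact fun x hx b hb => congrArg Subtype.val (hAab.is_comm.comm ⟨b, hb⟩ ⟨x, hx⟩)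
      refine sup_le hA ?_
      rw [Subgroup.le_centralizer_iff]
      refine sup_le ?_ ?_
      · rw [Subgroup.le_centralizer_iff]
        exact Subgroup.zpowers_le.2 hcen
      · intro x hx b hb
        obtain ⟨i, rfl⟩ := Subgroup.mem_zpowers_iff.1 hx
        obtain ⟨j, rfl⟩ := Subgroup.mem_zpowers_iff.1 hb
        exact Commute.zpow_zpow_self e j i
    have hab : IsMulCommutative ↥(A ⊔ Subgroup.zpowers e) :=
      ⟨⟨fun a b => Subtype.ext (hle b.2 _ a.2)⟩⟩
    exact (hAmax _ le_sup_left (sup_le hAD (Subgroup.zpowers_le.2 he)) hab) ▸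
      Subgroup.mem_sup_right (Subgroup.mem_zpowers e)
  have hZA : D ⊓ Subgroup.centralizer (D : Set P) ≤ A := fun z hz => hmax z hz.1 fun a ha => hz.2 a (hAD ha)
  refine ⟨⟨fun a ha x => ?_⟩, ?_⟩
  · have := hZA (hcomm (Subgroup.commutator_mem_commutator (hAD ha) (Subgroup.mem_top x)))
    rw [commutatorElement_def] at this
    have h2 : x * a * x⁻¹ = (a⁻¹ * (a * x * a⁻¹ * x⁻¹))⁻¹ := by group
    rw [h2]
    exact A.inv_mem (A.mul_mem (A.inv_mem ha) this)
  · intro α hα hfixA
    obtain ⟨k, m, hm, hkm⟩ : ∃ k m, ¬ p ∣ m ∧ orderOf α = p ^ k * m := by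
      have : Finite (MulAut P) := Finite.of_injective (fun f => (f : P → P)) DFunLike.coe_injective
      exact Nat.exists_eq_pow_mul_and_not_dvd (orderOf_pos α).ne' p (Fact.out : p.Prime).ne_one
    set β := α ^ p ^ k with hβ
    have hβG : β ∈ G := G.pow_mem hα _
    have hβm : orderOf β = m := by
      rw [hβ, orderOf_pow' _ (pow_ne_zero _ (Fact.out : p.Prime).ne_zero), hkm, Nat.gcd_mul_right_left,
        Nat.mul_div_cancel_left _ (pow_pos (Fact.out : p.Prime).pos k)]
    have hβc : (orderOf β).Coprime p := by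
      rw [hβm]; exact ((Fact.out : p.Prime).coprime_iff_not_dvd.2 hm).symm
    have hβA : ∀ a ∈ A, β a = a := by
      intro a ha
      rw [hβ]
      generalize p ^ k = n
      induction n with
      | zero => rfl
      | succ n ih => rw [pow_succ', MulAut.mul_apply, ih, hfixA a ha]
    have hβ1 : β = 1 := hdet β hβG hβc fun d hd => by
      refine CfsgLib.Techniques.eq_of_fix_quotient hP hβc (hβA _ (hmax _
        (D.mul_mem (D.inv_mem hd) (hinv β hβG d hd)) fun a ha => ?_))
      have hc : ⁅a, d⁆ ∈ A := hZA (hcomm (Subgroup.commutator_mem_commutator (hAD ha) (Subgroup.mem_top d)))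
      have h1 : ⁅a, β d⁆ = ⁅a, d⁆ := by
        have := hβA _ hc
        rwa [map_commutatorElement, hβA a ha] at this
      have h2 : a * β d * a⁻¹ * (β d)⁻¹ = a * d * a⁻¹ * d⁻¹ := by
        rwa [commutatorElement_def, commutatorElement_def] at h1
      have hz : ⁅a, d⁆ ∈ Subgroup.centralizer (D : Set P) :=
        (hcomm (Subgroup.commutator_mem_commutator (hAD ha) (Subgroup.mem_top d))).2
      set c := ⁅a, d⁆ with hcdef
      have hca : a * d = c * d * a := by rw [hcdef, commutatorElement_def]; group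
      have hcb : a * β d = c * β d * a := by
        rw [hcdef, commutatorElement_def, ← h2]; group
      have hcd : d⁻¹ * c = c * d⁻¹ := hz _ (D.inv_mem hd)
      calc a * (d⁻¹ * β d) = (a * d⁻¹ * a⁻¹) * (a * β d) := by group
        _ = (a * d⁻¹ * a⁻¹) * (c * β d * a) := by rw [hcb]
        _ = (a * d * a⁻¹)⁻¹ * c * β d * a := by group
        _ = d⁻¹ * β d * a := by
          rw [hca]
          group
    refine ⟨k, ?_⟩
    have hm1 : m = 1 := by rw [← hβm, hβ1, orderOf_one]
    rw [hkm, hm1, mul_one]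

end Cfsg.Agent.S1949
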