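import Cfsg.Statements.S1950
import Cfsg.Agent.PSolvablePairs.Cyclic
-- import your own Cfsg.Agent.* helpers here

set_option autoImplicit false
set_option linter.style.haveILetI false
open Cfsg
open CfsgLib CfsgLib.PSolvablePairs CfsgLib.BlocksFrobenius

namespace Cfsg.Agent.S1950

universe u

theorem isPSolvable_of_pairs (p : ℕ) [hpf : Fact p.Prime] : ∀ (n : ℕ) (G : Type u) [Group G] [Finite G],
    Nat.card G ≤ n → (∀ A : Subgroup G, IsPGroup p A → IsCyclic A) →
    (∀ x y : G, orderOf x = p → orderOf y = p →
      Cfsg.IsPSolvable p ↥(Subgroup.closure ({x, y} : Set G))) → Cfsg.IsPSolvable p G := by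
  have hp : p.Prime := Fact.out
  intro n
  induction n with
  | zero => intro G _ _ hn; exact absurd (Nat.card_pos (α := G)) (by omega)
  | succ n ih =>
    intro G _ _ hn hcyc hpair
    classical
    haveI := Fintype.ofFinite G
    have hsub : ∀ H : Subgroup G, H ≠ ⊤ → Cfsg.IsPSolvable p H := by
      intro H hH
      refine ih H ?_ (fun A hA => ?_) (fun x y hx hy => ?_)
      · have h1 : Nat.card H < Nat.card G := lt_of_le_of_ne
          (Nat.card_le_card_of_injective _ H.subtype_injective)
          fun e => hH ((Subgroup.card_eq_iff_eq_top H).1 e)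
        omega
      · exact (MulEquiv.isCyclic (A.equivMapOfInjective H.subtype H.subtype_injective)).2
          (hcyc _ (hA.map H.subtype))
      · have h1 := hpair (x : G) (y : G) (by rw [Subgroup.orderOf_coe, hx])
          (by rw [Subgroup.orderOf_coe, hy])
        have h2 : (Subgroup.closure ({x, y} : Set H)).map H.subtype =
            Subgroup.closure ({(x : G), (y : G)} : Set G) := by
          rw [MonoidHom.map_closure, Set.image_pair]; rfl
        exact PLocal.isPSolvable_congr h1 ((MulEquiv.subgroupCongr h2.symm).trans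
          ((Subgroup.closure ({x, y} : Set H)).equivMapOfInjective H.subtype
            H.subtype_injective).symm)
    obtain ⟨P⟩ : Nonempty (Sylow p G) := inferInstance
    have hP : IsCyclic (P : Subgroup G) := hcyc _ P.2
    by_cases hdvd : ¬ p ∣ Nat.card G
    · exact PLocal.isPSolvable_of_coprime (hp.coprime_iff_not_dvd.2 hdvd).symm
    push Not at hdvd
    have hPne : (P : Subgroup G) ≠ ⊥ := P.ne_bot_of_dvd_card hdvd
    set N := Cfsg.pPrimeCore p G with hN
    by_cases hO : N ≠ ⊥
    · refine PLocal.isPSolvable_of_extension N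
        (PLocal.isPSolvable_of_coprime (PLocal.coprime_card_pPrimeCore p G)) ?_
      have hlt : Nat.card (G ⧸ N) < Nat.card G := by
        rw [Subgroup.card_eq_card_quotient_mul_card_subgroup N]
        exact lt_mul_of_one_lt_right Nat.card_pos ((Subgroup.one_lt_card_iff_ne_bot N).2 hO)
      set π := QuotientGroup.mk' N with hπ
      have hsurj := QuotientGroup.mk'_surjective N
      refine ih (G ⧸ N) (by omega) (fun A hA => ?_) (fun x y hx hy => ?_)
      · obtain ⟨Q, hQ⟩ := hA.exists_le_sylow
        obtain ⟨T, rfl⟩ := Sylow.mapSurjective_surjective hsurj p Q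
        haveI : IsCyclic (T : Subgroup G) := hcyc _ T.2
        haveI : IsCyclic ((T.mapSurjective hsurj : Sylow p (G ⧸ N)) : Subgroup (G ⧸ N)) := by
          rw [Sylow.coe_mapSurjective]
          exact isCyclic_of_surjective _ (π.subgroupMap_surjective (T : Subgroup G))
        exact isCyclic_of_injective _ (Subgroup.inclusion_injective hQ)
      · have hlift : ∀ z : G ⧸ N, orderOf z = p → ∃ a : G, orderOf a = p ∧ π a = z := by
          intro z hz
          obtain ⟨z₀, rfl⟩ := hsurj z
          obtain ⟨a, b, haz, hbz, ⟨k, hk⟩, hb, hab⟩ := LocalStructure.exists_pPart_mul (p := p) z₀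
          have hzp : π z₀ ^ p = 1 := orderOf_dvd_iff_pow_eq_one.1 hz.dvd
          have hb1 : π b = 1 := by
            refine orderOf_eq_one_iff.1 ((Nat.dvd_prime hp).1 ?_ |>.resolve_right fun e => ?_)
            · refine orderOf_dvd_of_pow_eq_one ?_
              obtain ⟨i, hi⟩ := Subgroup.mem_zpowers_iff.1 hbz
              rw [← hi, map_zpow, ← zpow_natCast, ← zpow_mul, mul_comm, zpow_mul, zpow_natCast,
                hzp, one_zpow]
            · exact (hp.coprime_iff_not_dvd.1 hb.symm) (e ▸ orderOf_map_dvd π b)
          have haz1 : π a = π z₀ := by rw [← hab, map_mul, hb1, mul_one]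
          refine ⟨a, orderOf_eq_prime ?_ fun e => ?_, haz1⟩
          · have hmem : a ^ p ∈ N := by
              rw [← QuotientGroup.eq_one_iff, ← QuotientGroup.mk'_apply, ← hπ, map_pow, haz1, hzp]
            have h1 : orderOf (a ^ p) ∣ Nat.card N := by
              rw [← Subgroup.orderOf_mk (a ^ p) hmem]; exact orderOf_dvd_natCard _
            have h2 : orderOf (a ^ p) ∣ p ^ k := hk ▸ orderOf_pow_dvd p
            exact orderOf_eq_one_iff.1 (Nat.eq_one_of_dvd_coprimes
              ((PLocal.coprime_card_pPrimeCore p G).symm.pow_left k) h2 h1)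
          · rw [e, map_one] at haz1
            rw [← haz1, orderOf_one] at hz
            exact hp.ne_one hz.symm
        obtain ⟨a, ha, rfl⟩ := hlift x hx
        obtain ⟨b, hb, rfl⟩ := hlift y hy
        have h2 : (Subgroup.closure ({a, b} : Set G)).map π =
            Subgroup.closure ({π a, π b} : Set (G ⧸ N)) := by
          rw [MonoidHom.map_closure, Set.image_pair]
        exact PLocal.isPSolvable_congr (PLocal.isPSolvable_of_surjective (hpair a b ha hb)
          (π.subgroupMap_surjective _)) (MulEquiv.subgroupCongr h2)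
    push Not at hO
    haveI := (semireg_of_cyclic hP).comm
    have hcomm : IsMulCommutative (P : Subgroup G) := inferInstance
    by_cases hsimp : IsSimpleGroup G
    · by_cases hab : IsMulCommutative G
      · haveI : Group.IsSolvable G := Group.isSolvable_of_comm fun a b => hab.is_comm.comm a b
        exact PLocal.isPSolvable_of_isSolvable
      exfalso
      rcases eq_or_ne p 2 with h2 | h2
      · subst h2
        exact eq_of_normalizer_le hab hcomm hPne (hP.normalizer_le_centralizer
          (((Nat.minFac_eq_two_iff _).2 hdvd)))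
      · exact false_of_cyclic hab (by have := hp.two_le; omega) hP hPne hpair
    haveI : Nontrivial G := by
      rw [← Finite.one_lt_card_iff_nontrivial]
      exact lt_of_lt_of_le hp.one_lt (Nat.le_of_dvd Nat.card_pos hdvd)
    obtain ⟨H, hHn, hHb, hHt⟩ : ∃ H : Subgroup G, H.Normal ∧ H ≠ ⊥ ∧ H ≠ ⊤ := by
      by_contra hno
      push Not at hno
      exact hsimp ⟨fun H hH => (or_iff_not_imp_left.2 (hno H hH))⟩
    haveI := hHn
    haveI : Nontrivial H := (Subgroup.nontrivial_iff_ne_bot H).2 hHb
    have hR : Cfsg.pCore p G ≠ ⊥ := by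
      rcases PLocal.pCore_ne_bot_or_of_isPSolvable (hsub H hHt) with h | h
      · intro hbot
        have := PLocal.pCore_map_subtype_le (p := p) H
        rw [hbot, le_bot_iff, Subgroup.map_eq_bot_iff_of_injective _ H.subtype_injective] at this
        exact h this
      · exfalso
        have := PLocal.pPrimeCore_map_subtype_le (p := p) H
        rw [← hN, hO, le_bot_iff, Subgroup.map_eq_bot_iff_of_injective _ H.subtype_injective] at this
        exact h this
    set R := Cfsg.pCore p G with hRdef
    have hRp : p ∣ Nat.card R := by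
      obtain ⟨k, hk⟩ := (PLocal.isPGroup_pCore p G).exists_card_eq
      rcases k with _ | k
      · exact absurd (Subgroup.card_eq_one.1 (by rw [hk, pow_zero])) hR
      · exact hk ▸ dvd_pow_self p k.succ_ne_zero
    obtain ⟨x', hx'⟩ := exists_prime_orderOf_dvd_card' p hRp
    set x : G := (x' : G) with hx
    have hxo : orderOf x = p := by rw [hx, Subgroup.orderOf_coe, hx']
    have hxP : x ∈ (P : Subgroup G) := PLocal.pCore_le_sylow P x'.2
    have hRcyc : IsCyclic R := hcyc _ (PLocal.isPGroup_pCore p G)
    have hRn : R.Normal := inferInstance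
    haveI hV : (Subgroup.zpowers x).Normal := by
      refine ⟨fun v hv g => ?_⟩
      obtain ⟨i, rfl⟩ := Subgroup.mem_zpowers_iff.1 hv
      rw [← conj_zpow]
      refine zpow_mem (mem_zpowers_of_mem hp.pos hRcyc x'.2 (hRn.conj_mem _ x'.2 g) hxo ?_) i
      rw [conj_pow, ← hxo, pow_orderOf_eq_one, mul_one, mul_inv_cancel]
    set C := Subgroup.centralizer ((Subgroup.zpowers x : Subgroup G) : Set G) with hC
    have hPC : (P : Subgroup G) ≤ C := fun g hg => Subgroup.mem_centralizer_iff.2 fun v hv =>
      congrArg Subtype.val (hcomm.is_comm.comm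
        (⟨v, Subgroup.zpowers_le.2 hxP hv⟩ : (P : Subgroup G)) ⟨g, hg⟩)
    by_cases hCt : C ≠ ⊤
    · refine PLocal.isPSolvable_of_extension C (hsub C hCt) (PLocal.isPSolvable_of_coprime ?_)
      rw [← Subgroup.index]
      exact ((hp.coprime_iff_not_dvd.2 P.not_dvd_index).coprime_dvd_right
        (Subgroup.index_dvd_of_le hPC)).symm
    push Not at hCt
    have hNC : Subgroup.normalizer ((P : Subgroup G) : Set G) ≤
        Subgroup.centralizer ((P : Subgroup G) : Set G) := by
      intro g hg
      rw [← (semireg_of_cyclic hP).free x hxP (fun e => hp.one_lt.ne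
        ((orderOf_one (G := G)).symm.trans (e ▸ hxo)))]
      refine ⟨Subgroup.mem_centralizer_singleton_iff.2 ?_, hg⟩
      exact (Subgroup.mem_centralizer_iff.1 (show g ∈ C from hCt ▸ Subgroup.mem_top g) x
        (Subgroup.mem_zpowers x)).symm
    have hcompl := MonoidHom.ker_transferSylow_isComplement' P hNC
    refine PLocal.isPSolvable_of_extension (MonoidHom.transferSylow P hNC).ker
      (PLocal.isPSolvable_of_coprime (hp.coprime_iff_not_dvd.2
        (MonoidHom.not_dvd_card_ker_transferSylow P hNC)).symm) ?_
    obtain ⟨k, hk⟩ := P.2.exists_card_eq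
    exact PLocal.isPSolvable_of_isPGroup (IsPGroup.of_card (n := k) (by
      rw [← Subgroup.index, hcompl.symm.index_eq_card, hk]))

/-- Let G be a finite group whose Sylow p-subgroups are cyclic. Then G is p-solvable if and only if every two elements of order p of G generate a p-solvable subgroup. -/
theorem result {G : Type*} [Group G] [Finite G] {p : ℕ} [Fact p.Prime] (P : Sylow p G) (hP : IsCyclic ↥(P : Subgroup G)) :
    Cfsg.IsPSolvable p G ↔ ∀ x y : G, orderOf x = p → orderOf y = p → Cfsg.IsPSolvable p ↥(Subgroup.closure ({x, y} : Set G)) := by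
  constructor
  · exact fun hG x y _ _ => PLocal.isPSolvable_subgroup hG _
  · intro hpair
    refine isPSolvable_of_pairs p (Nat.card G) G le_rfl (fun A hA => ?_) hpair
    obtain ⟨Q, hQ⟩ := hA.exists_le_sylow
    haveI := hP
    haveI : IsCyclic (Q : Subgroup G) := (MulEquiv.isCyclic (Sylow.equiv P Q)).1 inferInstance
    exact isCyclic_of_injective _ (Subgroup.inclusion_injective hQ)

end Cfsg.Agent.S1950
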