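import Cfsg.Statements.S1951
import Cfsg.Agent.PairPSolvable.Basic
import Cfsg.Agent.BlocksLocal.PrincipalSection
import Cfsg.Agent.Characters.Linear

set_option autoImplicit false
open Cfsg

namespace Cfsg.Agent.S1951

set_option linter.style.haveILetI false
set_option linter.unusedSectionVars false

open CfsgLib CfsgLib.Characters CfsgLib.CharactersDeep.ClassPairs
open scoped ComplexConjugate Classical

universe u

variable {G : Type u} [Group G] [Fintype G] {p : ℕ} [hp : Fact p.Prime]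

/-- All nontrivial `p`-elements are conjugate to `x`, of order `p`, whose centralizer has the normal
`p`-complement `K`, and the Sylow `p`-subgroup `P` is abelian. -/
structure Setting (P : Sylow p G) (x : G) (K : Subgroup ↥(Subgroup.centralizer ({x} : Set G))) :
    Prop where
  ord : orderOf x = p
  mem : x ∈ (P : Subgroup G)
  comm : IsMulCommutative (P : Subgroup G)
  conjx : ∀ z : G, (∃ k, orderOf z = p ^ k) → z ≠ 1 → IsConj x z
  nK : K.Normal
  pK : ¬ p ∣ Nat.card K
  iK : K.index = Nat.card (P : Subgroup G)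

open Classical in
/-- The indicator of the p-singular elements. -/
noncomputable def sing (p : ℕ) (g : G) : ℂ := if p ∣ orderOf g then 1 else 0

theorem sing_class : Cfsg.IsClassFunction G (sing p : G → ℂ) := by
  intro g h
  unfold sing
  rw [show h * g * h⁻¹ = MulAut.conj h g from rfl, MulEquiv.orderOf_eq]

variable {P : Sylow p G} {x : G} {K : Subgroup ↥(Subgroup.centralizer ({x} : Set G))}

open Classical in
/-- The average over the section of `x`. -/
noncomputable def psi (K : Subgroup ↥(Subgroup.centralizer ({x} : Set G))) (χ : G → ℂ) : ℂ :=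
  (Nat.card K : ℂ)⁻¹ * ∑ k : K, χ (x * ((k : ↥(Subgroup.centralizer ({x} : Set G))) : G))

namespace Setting

variable (S : Setting P x K)
include S

theorem mem_K {c : ↥(Subgroup.centralizer ({x} : Set G))} (hc : ¬ p ∣ orderOf c) : c ∈ K := by
  haveI := S.nK
  obtain ⟨n, hn⟩ := IsPGroup.iff_card.1 P.isPGroup'
  have hd : orderOf (QuotientGroup.mk' K c) ∣ p ^ n := by
    rw [← hn, ← S.iK, Subgroup.index_eq_card]
    exact orderOf_dvd_natCard _
  rw [← QuotientGroup.eq_one_iff, ← orderOf_eq_one_iff]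
  exact Nat.eq_one_of_dvd_coprimes ((hp.out.coprime_iff_not_dvd.2 hc).pow_left n) hd
    (orderOf_map_dvd (QuotientGroup.mk' K) c)

theorem K_regular (k : K) : ¬ p ∣ orderOf (k : ↥(Subgroup.centralizer ({x} : Set G))) := by
  rw [Subgroup.orderOf_coe]
  exact fun h => S.pK (h.trans (orderOf_dvd_natCard k))

theorem K_commute (k : K) : Commute x ((k : ↥(Subgroup.centralizer ({x} : Set G))) : G) :=
  (Subgroup.mem_centralizer_singleton_iff.1 (k : ↥(Subgroup.centralizer ({x} : Set G))).2).symm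

theorem xk_ppart (k : K) :
    Cfsg.IsPPart p (x * ((k : ↥(Subgroup.centralizer ({x} : Set G))) : G)) x :=
  Blocks.isPPart_of_mul (S.K_commute k) ⟨1, by rw [pow_one, S.ord]⟩
    (by rw [Subgroup.orderOf_coe]; exact S.K_regular k)

theorem x_ne : x ≠ 1 := fun h => hp.out.ne_one (by rw [← S.ord, h, orderOf_one])

theorem ord_class {z : G} (hz : IsConj x z) : orderOf z = p := by
  obtain ⟨c, rfl⟩ := isConj_iff.1 hz
  rw [show c * x * c⁻¹ = MulAut.conj c x from rfl, MulEquiv.orderOf_eq, S.ord]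

theorem x_inv : IsConj x x⁻¹ := S.conjx _ ⟨1, by rw [orderOf_inv, S.ord, pow_one]⟩
  (inv_ne_one.2 S.x_ne)

theorem singular_conj {g : G} (hg : p ∣ orderOf g) :
    ∃ (h : G) (k : K), h * (x * ((k : ↥(Subgroup.centralizer ({x} : Set G))) : G)) * h⁻¹ = g := by
  obtain ⟨u, hu⟩ := Blocks.exists_isPPart hp.out g
  obtain ⟨w, huw, hc, hpu, hw⟩ := hu
  have hu1 : u ≠ 1 := by
    rintro rfl
    rw [one_mul] at huw
    exact hw (huw ▸ hg)
  obtain ⟨h, hh⟩ := isConj_iff.1 (S.conjx u hpu hu1)
  have hmem : h⁻¹ * w * h ∈ Subgroup.centralizer ({x} : Set G) := by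
    rw [Subgroup.mem_centralizer_singleton_iff]
    have := hc.eq
    rw [← hh] at this
    calc h⁻¹ * w * h * x = h⁻¹ * (w * (h * x * h⁻¹)) * h := by group
      _ = h⁻¹ * ((h * x * h⁻¹) * w) * h := by rw [this]
      _ = x * (h⁻¹ * w * h) := by group
  refine ⟨h, ⟨⟨_, hmem⟩, S.mem_K ?_⟩, ?_⟩
  · rw [← Subgroup.orderOf_coe]
    show ¬ p ∣ orderOf (h⁻¹ * w * h)
    rwa [show h⁻¹ * w * h = MulAut.conj h⁻¹ w by simp, MulEquiv.orderOf_eq]
  · show h * (x * (h⁻¹ * w * h)) * h⁻¹ = g
    rw [← huw, ← hh]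
    group

theorem sum_sing {φ : G → ℂ} (hφ : Cfsg.IsClassFunction G φ) :
    (Nat.card (Subgroup.centralizer ({x} : Set G)) : ℂ) * ∑ g : G, sing p g * φ g =
      (Nat.card G : ℂ) * ∑ k : K, φ (x * ((k : ↥(Subgroup.centralizer ({x} : Set G))) : G)) := by
  classical
  haveI := S.nK
  let Φ : G × K → G := fun w =>
    w.1 * (x * ((w.2 : ↥(Subgroup.centralizer ({x} : Set G))) : G)) * w.1⁻¹
  have h1 : ∑ w : G × K, φ (Φ w) =
      (Nat.card G : ℂ) * ∑ k : K, φ (x * ((k : ↥(Subgroup.centralizer ({x} : Set G))) : G)) := by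
    rw [Fintype.sum_prod_type]
    simp only [Φ, hφ _ _, Finset.sum_const, Finset.card_univ, nsmul_eq_mul,
      Nat.card_eq_fintype_card]
  have hcard : ∀ g : G, ((Finset.univ.filter fun w => Φ w = g).card : ℂ) =
      (Nat.card (Subgroup.centralizer ({x} : Set G)) : ℂ) * sing p g := by
    intro g
    unfold sing
    split_ifs with hg
    · rw [mul_one]
      obtain ⟨h₀, k₀, hh⟩ := S.singular_conj hg
      norm_cast
      rw [← Fintype.card_subtype, ← Nat.card_eq_fintype_card]
      refine (Nat.card_congr (Equiv.ofBijective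
        (fun c : ↥(Subgroup.centralizer ({x} : Set G)) => (⟨(h₀ * (c : G),
          ⟨c⁻¹ * k₀ * c, S.nK.conj_mem' _ k₀.2 c⟩), ?_⟩ : {w // Φ w = g})) ⟨?_, ?_⟩)).symm
      · simp only [Φ, Subgroup.coe_mul, Subgroup.coe_inv]
        rw [← hh]
        have := Subgroup.mem_centralizer_singleton_iff.1 c.2
        calc _ = h₀ * ((c : G) * x) * (c : G)⁻¹ *
              ((k₀ : ↥(Subgroup.centralizer ({x} : Set G))) : G) * h₀⁻¹ := by group
          _ = _ := by rw [this]; group
      · intro c d hcd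
        exact Subtype.ext (mul_left_cancel (congrArg (fun w => w.1.1) hcd))
      · rintro ⟨⟨h, k⟩, hw⟩
        have e : h * x * h⁻¹ = h₀ * x * h₀⁻¹ := by
          have a1 := Blocks.isPPart_conj (S.xk_ppart k) h
          have a2 := Blocks.isPPart_conj (S.xk_ppart k₀) h₀
          rw [hh] at a2
          rw [show h * _ * h⁻¹ = g from hw] at a1
          exact Blocks.isPPart_unique hp.out a1 a2
        have hm : h₀⁻¹ * h ∈ Subgroup.centralizer ({x} : Set G) := by
          rw [Subgroup.mem_centralizer_singleton_iff]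
          calc h₀⁻¹ * h * x = h₀⁻¹ * (h * x * h⁻¹) * h := by group
            _ = x * (h₀⁻¹ * h) := by rw [e]; group
        refine ⟨⟨_, hm⟩, Subtype.ext (Prod.ext (by simp) (Subtype.ext (Subtype.ext ?_)))⟩
        simp only [Subgroup.coe_mul, Subgroup.coe_inv]
        have e2 : h * (x * ((k : ↥(Subgroup.centralizer ({x} : Set G))) : G)) * h⁻¹ =
            h₀ * (x * ((k₀ : ↥(Subgroup.centralizer ({x} : Set G))) : G)) * h₀⁻¹ := hw.trans hh.symm
        have e3 : h⁻¹ * h₀ * x = x * (h⁻¹ * h₀) := by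
          calc h⁻¹ * h₀ * x = h⁻¹ * (h₀ * x * h₀⁻¹) * h₀ := by group
            _ = x * (h⁻¹ * h₀) := by rw [← e]; group
        calc _ = h⁻¹ * h₀ * ((k₀ : ↥(Subgroup.centralizer ({x} : Set G))) : G) * h₀⁻¹ * h := by
              group
          _ = x⁻¹ * (x * (h⁻¹ * h₀) * ((k₀ : ↥(Subgroup.centralizer ({x} : Set G))) : G) *
              h₀⁻¹ * h) := by group
          _ = x⁻¹ * (h⁻¹ * h₀ * x * ((k₀ : ↥(Subgroup.centralizer ({x} : Set G))) : G) *
              h₀⁻¹ * h) := by rw [e3]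
          _ = x⁻¹ * (h⁻¹ * (h₀ * (x * ((k₀ : ↥(Subgroup.centralizer ({x} : Set G))) : G)) * h₀⁻¹)
                * h) := by group
          _ = _ := by rw [← e2]; group
    · rw [mul_zero, Nat.cast_eq_zero, Finset.card_eq_zero, Finset.filter_eq_empty_iff]
      intro w _ hw
      apply hg
      rw [← hw, show Φ w = MulAut.conj w.1
        (x * ((w.2 : ↥(Subgroup.centralizer ({x} : Set G))) : G)) from rfl, MulEquiv.orderOf_eq,
        (S.K_commute w.2).orderOf_mul_eq_mul_orderOf_of_coprime ?_, S.ord]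
      · exact dvd_mul_right _ _
      · rw [S.ord, hp.out.coprime_iff_not_dvd, Subgroup.orderOf_coe]
        exact S.K_regular w.2
  have h2 : ∑ w : G × K, φ (Φ w) =
      ∑ g : G, ((Finset.univ.filter fun w => Φ w = g).card : ℂ) * φ g := by
    rw [← Finset.sum_fiberwise Finset.univ Φ]
    refine Finset.sum_congr rfl fun g _ => ?_
    rw [Finset.sum_congr rfl fun w hw => congrArg φ (Finset.mem_filter.1 hw).2, Finset.sum_const,
      nsmul_eq_mul]
  rw [← h1, h2, Finset.mul_sum]
  exact Finset.sum_congr rfl fun g _ => by rw [hcard]; ring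

theorem card_C : Nat.card (Subgroup.centralizer ({x} : Set G)) =
    Nat.card K * Nat.card (P : Subgroup G) := by
  rw [← S.iK, Subgroup.card_mul_index]

theorem inner_sing (χ : IrrCharacter G) :
    Cfsg.classInner (sing p) (χ : G → ℂ) =
      conj (psi K (χ : G → ℂ)) / (Nat.card (P : Subgroup G) : ℂ) := by
  have h := S.sum_sing (φ := fun g => conj ((χ : G → ℂ) g)) (fun g h =>
    congrArg conj (isClassFunction_of_isIrr χ.2 g h))
  rw [S.card_C, Nat.cast_mul, ← map_sum] at h
  simp only [Cfsg.classInner, psi, map_mul, map_inv₀, map_natCast]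
  have h1 : (Nat.card K : ℂ) ≠ 0 := Nat.cast_ne_zero.2 Nat.card_pos.ne'
  have h2 : (Nat.card (P : Subgroup G) : ℂ) ≠ 0 := Nat.cast_ne_zero.2 Nat.card_pos.ne'
  have h3 : (Nat.card G : ℂ) ≠ 0 := Nat.cast_ne_zero.2 Nat.card_pos.ne'
  field_simp
  linear_combination h

theorem psi_cases (χ : IrrCharacter G) :
    psi K (χ : G → ℂ) = 0 ∨ psi K (χ : G → ℂ) = (χ : G → ℂ) x := by
  classical
  haveI := S.nK
  obtain ⟨M, hM⟩ := Blocks.exists_isPModular p hp.out
  haveI : M.IsPrime := hM.2.1.isPrime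
  set b₀ := Cfsg.principalBlock M ↥(Subgroup.centralizer ({x} : Set G))
  set f : ↥(Subgroup.centralizer ({x} : Set G)) → ℂ := fun c => (χ : G → ℂ) (x * (c : G))
  have hx : ∃ k, orderOf x = p ^ k := ⟨1, by rw [pow_one, S.ord]⟩
  have h1 : ¬ p ∣ orderOf (1 : ↥(Subgroup.centralizer ({x} : Set G))) := by
    rw [orderOf_one]; exact hp.out.not_dvd_one
  have t1 := BlocksLocal.blockPart_principal_translate hM hx χ h1
  by_cases hB : χ ∈ Cfsg.principalBlock M G
  · right
    have hval : ∀ k : K, f k = f 1 := by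
      intro k
      have tk := BlocksLocal.blockPart_principal_translate hM hx χ (S.K_regular k)
      rw [if_pos hB] at tk t1
      rw [show f k = _ from tk.symm, show f 1 = _ from t1.symm, Cfsg.blockPart, Cfsg.blockPart]
      refine finsum_mem_congr rfl fun ξ hξ => congrArg _ ?_
      exact PrincipalBlock.mem_charKer.1 (PrincipalBlock.le_charKer_of_mem hM K S.pK hξ k.2)
    simp only [psi]
    rw [Finset.sum_congr rfl fun k _ => hval k, Finset.sum_const, Finset.card_univ, nsmul_eq_mul,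
      ← Nat.card_eq_fintype_card, ← mul_assoc,
      inv_mul_cancel₀ (Nat.cast_ne_zero.2 Nat.card_pos.ne'), one_mul]
    simp [f]
  · left
    rw [if_neg hB, Cfsg.blockPart, Blocks.finsum_irr_mem] at t1
    have hidx : ∃ k, K.index = p ^ k := by
      rw [S.iK]; exact IsPGroup.iff_card.1 P.isPGroup'
    have hc := fun c => BlocksLocal.blockCoeff_principal_of_normal_complement hM K S.pK hidx c
    have e : ∑ c, f c * ((Nat.card ↥(Subgroup.centralizer ({x} : Set G)) : ℂ) *
        Cfsg.blockCoeff b₀ c) = (0 : ℂ) := by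
      have t2 : (Nat.card ↥(Subgroup.centralizer ({x} : Set G)) : ℂ) *
          (∑ ξ : IrrCharacter ↥(Subgroup.centralizer ({x} : Set G)),
            if ξ ∈ b₀ then Cfsg.classInner f (ξ : ↥(Subgroup.centralizer ({x} : Set G)) → ℂ) *
              (ξ : ↥(Subgroup.centralizer ({x} : Set G)) → ℂ) 1 else 0) = 0 := by
        rw [mul_eq_zero]
        right
        convert t1 using 6
      refine Eq.trans ?_ t2
      simp only [Blocks.blockCoeff_eq_sum, Cfsg.classInner, Finset.mul_sum]
      rw [Finset.sum_comm]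
      refine Finset.sum_congr rfl fun ξ _ => ?_
      split_ifs
      · rw [Finset.sum_mul, Finset.mul_sum]
        exact Finset.sum_congr rfl fun c _ => by ring
      all_goals simp
    simp only [b₀, hc, Set.indicator_apply, mul_ite, mul_one, mul_zero, SetLike.mem_coe] at e
    rw [← Finset.sum_filter, ← Finset.sum_mul,
      Finset.sum_subtype (p := fun c => c ∈ K) (Finset.univ.filter (· ∈ K))
        (fun c => by simp) f] at e
    have hi : (K.index : ℂ) ≠ 0 := Nat.cast_ne_zero.2 Subgroup.index_ne_zero_of_finite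
    simp only [psi]
    rw [show ∑ k : K, (χ : G → ℂ) (x * ((k : ↥(Subgroup.centralizer ({x} : Set G))) : G)) = 0 from
      (mul_eq_zero.1 e).resolve_right hi, mul_zero]

theorem apply_eq {χ : IrrCharacter G} {z : G} (hz : z ∈ (P : Subgroup G)) (h1 : z ≠ 1) :
    (χ : G → ℂ) z = (χ : G → ℂ) x := by
  refine (classFunction_isConj (isClassFunction_of_isIrr χ.2) (S.conjx z ?_ h1)).symm
  obtain ⟨k, hk⟩ := P.isPGroup' ⟨z, hz⟩
  have hd : orderOf z ∣ p ^ k := orderOf_dvd_of_pow_eq_one (congrArg Subtype.val hk)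
  obtain ⟨i, -, hi⟩ := (Nat.dvd_prime_pow hp.out).1 hd
  exact ⟨i, hi⟩

/-- The value at `x` is an integer congruent to the degree modulo `|P|`. -/
theorem value_spec [IsSimpleGroup G] (χ : IrrCharacter G) :
    ∃ (a : ℤ) (d n : ℕ), (χ : G → ℂ) x = (a : ℂ) ∧ (χ : G → ℂ) 1 = (d : ℂ) ∧ 0 < d ∧
      (d : ℤ) = a + (n : ℤ) * (Nat.card (P : Subgroup G) : ℤ) ∧
      (χ ≠ PrincipalBlock.trivChar G → 0 < n) := by
  classical
  haveI := S.comm
  letI : CommGroup (P : Subgroup G) :=
    { (inferInstance : Group (P : Subgroup G)) with mul_comm := IsMulCommutative.is_comm.comm }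
  obtain ⟨d, hd1, hd⟩ := exists_degree_pos χ.2
  have hres : Cfsg.IsCharacter (P : Subgroup G) (fun u : (P : Subgroup G) => (χ : G → ℂ) (u : G)) :=
    isCharacter_restrict _ (isCharacter_of_isIrr χ.2)
  let x' : (P : Subgroup G) := ⟨x, S.mem⟩
  have hx' : x' ≠ 1 := fun h => S.x_ne (congrArg Subtype.val h)
  obtain ⟨φ, hφ⟩ := CommGroup.exists_apply_ne_one_of_hasEnoughRootsOfUnity
    (P : Subgroup G) ℂ hx'
  obtain ⟨m, hm⟩ := classInner_character_irr hres (isIrr_one (G := ↥(P : Subgroup G)))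
  obtain ⟨n, hn⟩ := classInner_character_irr hres (isIrr_linChar φ)
  have hsum : ∀ g : ↥(P : Subgroup G) → ℂ, ∑ u : (P : Subgroup G), (χ : G → ℂ) (u : G) * g u =
      (χ : G → ℂ) x * (∑ u : (P : Subgroup G), g u) + ((χ : G → ℂ) 1 - (χ : G → ℂ) x) * g 1 := by
    intro g
    rw [Finset.mul_sum, ← sub_eq_iff_eq_add', ← Finset.sum_sub_distrib,
      Finset.sum_eq_single (1 : (P : Subgroup G))]
    · rw [OneMemClass.coe_one]; ring
    · intro u _ hu
      rw [S.apply_eq u.2 (fun h => hu (Subtype.ext h)), sub_self]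
    · exact fun h => absurd (Finset.mem_univ _) h
  have hzero : ∑ u : (P : Subgroup G), conj (φ u : ℂ) = 0 := by
    have h0 : ∑ u : (P : Subgroup G), (φ u : ℂ) = 0 :=
      sum_hom_units_eq_zero (f := (Units.coeHom ℂ).comp φ) (fun h => hφ (Units.ext
        (by simpa using DFunLike.congr_fun h x')))
    rw [← map_sum, h0, map_zero]
  have hq : (Nat.card (P : Subgroup G) : ℂ) ≠ 0 := Nat.cast_ne_zero.2 Nat.card_pos.ne'
  simp only [Cfsg.classInner] at hm hn
  rw [hsum] at hm hn
  simp only [map_one, Units.val_one, mul_one, hzero, mul_zero, zero_add,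
    Finset.sum_const, Finset.card_univ, nsmul_eq_mul, ← Nat.card_eq_fintype_card] at hm hn
  rw [inv_mul_eq_iff_eq_mul₀ hq] at hm hn
  have hxv : (χ : G → ℂ) x = (m : ℂ) - n := by
    apply mul_left_cancel₀ hq
    linear_combination hm - hn
  refine ⟨(m : ℤ) - n, d, n, by rw [hxv]; push_cast; ring, hd ▸ rfl, hd1, ?_, fun hχ => ?_⟩
  · have : ((d : ℤ) : ℂ) = (((m : ℤ) - n + (n : ℤ) * (Nat.card (P : Subgroup G) : ℤ) : ℤ) : ℂ) := by
      push_cast
      rw [← hd]
      linear_combination hn + hxv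
    exact_mod_cast this
  · rw [Nat.pos_iff_ne_zero]
    rintro rfl
    have hker : x ∈ PrincipalBlock.charKer χ := by
      rw [PrincipalBlock.mem_charKer]
      linear_combination -hn
    rcases (PrincipalBlock.charKer_normal χ).eq_bot_or_eq_top with h | h
    · exact S.x_ne (by rwa [h, Subgroup.mem_bot] at hker)
    · exact hχ (PrincipalBlock.eq_trivChar_of_charKer_eq_top h)

theorem psi_trivChar : psi K ((PrincipalBlock.trivChar G : IrrCharacter G) : G → ℂ) = 1 := by
  simp only [psi, PrincipalBlock.trivChar_apply, Finset.sum_const, Finset.card_univ,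
    nsmul_eq_mul, mul_one, ← Nat.card_eq_fintype_card]
  exact inv_mul_cancel₀ (Nat.cast_ne_zero.2 Nat.card_pos.ne')

theorem column_x :
    ∑ χ : IrrCharacter G, psi K (χ : G → ℂ) * conj ((χ : G → ℂ) x) =
      (Nat.card (P : Subgroup G) : ℂ) := by
  classical
  simp only [psi, Finset.mul_sum, Finset.sum_mul]
  rw [Finset.sum_comm, Finset.sum_eq_single (1 : K)]
  · rw [Finset.sum_congr rfl fun χ _ => by rw [mul_assoc], ← Finset.mul_sum]
    simp only [OneMemClass.coe_one, mul_one]
    rw [sum_irr_mul_conj_of_isConj (IsConj.refl x), S.card_C, Nat.cast_mul, ← mul_assoc,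
      inv_mul_cancel₀ (Nat.cast_ne_zero.2 Nat.card_pos.ne'), one_mul]
  · intro k _ hk
    rw [Finset.sum_congr rfl fun χ _ => by rw [mul_assoc], ← Finset.mul_sum,
      sum_irr_mul_conj_of_not_isConj, mul_zero]
    intro hcj
    obtain ⟨c, hc⟩ := isConj_iff.1 hcj
    have a1 := Blocks.isPPart_conj (S.xk_ppart k) c
    rw [hc] at a1
    have a2 := S.xk_ppart 1
    rw [OneMemClass.coe_one, OneMemClass.coe_one, mul_one] at a2
    have e := Blocks.isPPart_unique hp.out a1 a2
    refine hk (Subtype.ext (Subtype.ext ?_))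
    have hh : c * x * c⁻¹ * (c * ((k : ↥(Subgroup.centralizer ({x} : Set G))) : G) * c⁻¹) = x := by
      calc _ = c * (x * ((k : ↥(Subgroup.centralizer ({x} : Set G))) : G)) * c⁻¹ := by group
        _ = x := hc
    rw [e] at hh
    simpa using hh
  · exact fun h => absurd (Finset.mem_univ _) h

theorem column_one :
    ∑ χ : IrrCharacter G, psi K (χ : G → ℂ) * (χ : G → ℂ) 1 = 0 := by
  classical
  simp only [psi, Finset.mul_sum, Finset.sum_mul]
  rw [Finset.sum_comm]
  refine Finset.sum_eq_zero fun k _ => ?_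
  rw [Finset.sum_congr rfl fun χ _ => by rw [mul_assoc, mul_comm _ ((χ : G → ℂ) 1)],
    ← Finset.mul_sum, sum_degree_mul, if_neg, mul_zero]
  intro h
  have := (S.K_commute k).orderOf_mul_eq_mul_orderOf_of_coprime (by
    rw [S.ord, hp.out.coprime_iff_not_dvd, Subgroup.orderOf_coe]; exact S.K_regular k)
  rw [h, orderOf_one, S.ord] at this
  exact hp.out.ne_one (Nat.dvd_one.1 (Dvd.intro _ this.symm))

/-- The weighted sum of the cubes of the values is small. -/
theorem cube_bound [IsSimpleGroup G] (hp2 : p ≠ 2) :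
    ∃ T : ℝ, ∑ χ : IrrCharacter G, conj (psi K (χ : G → ℂ)) * ((χ : G → ℂ) x ^ 2 / (χ : G → ℂ) 1)
        = (T : ℂ) ∧
      T * ((p : ℝ) - 1) < (Nat.card (P : Subgroup G) : ℝ) * ((p : ℝ) - 2) := by
  classical
  choose a d n ha hd hd0 hdn hn0 using fun χ => S.value_spec χ
  let B : Finset (IrrCharacter G) := Finset.univ.filter fun χ => psi K (χ : G → ℂ) ≠ 0
  have hpsi : ∀ χ ∈ B, psi K (χ : G → ℂ) = (a χ : ℂ) := fun χ hχ => by
    rw [← ha χ]
    exact (S.psi_cases χ).resolve_left (Finset.mem_filter.1 hχ).2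
  have hout : ∀ χ, χ ∉ B → psi K (χ : G → ℂ) = 0 := fun χ hχ => by simpa [B] using hχ
  set q : ℕ := Nat.card (P : Subgroup G) with hq
  set t := PrincipalBlock.trivChar G
  have htB : t ∈ B := by simp [B, t, S.psi_trivChar]
  have hat : a t = 1 := by
    have := hpsi t htB
    rw [S.psi_trivChar] at this
    exact_mod_cast this.symm
  have hdt : d t = 1 := by
    have := hd t
    rw [PrincipalBlock.trivChar_apply] at this
    exact_mod_cast this.symm
  have hsq : ∑ χ ∈ B, a χ ^ 2 = (q : ℤ) := by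
    have h := S.column_x
    rw [← Finset.sum_subset (Finset.subset_univ B) fun χ _ hχ => by rw [hout χ hχ, zero_mul],
      Finset.sum_congr rfl (g := fun χ => (a χ : ℂ) ^ 2) fun χ hχ => by
        rw [hpsi χ hχ, ha χ, map_intCast, ← sq]] at h
    exact_mod_cast h
  have hdeg : ∑ χ ∈ B, a χ * (d χ : ℤ) = 0 := by
    have h := S.column_one
    rw [← Finset.sum_subset (Finset.subset_univ B) fun χ _ hχ => by rw [hout χ hχ, zero_mul],
      Finset.sum_congr rfl (g := fun χ => (a χ : ℂ) * (d χ : ℂ)) fun χ hχ => by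
        rw [hpsi χ hχ, hd χ]] at h
    exact_mod_cast h
  refine ⟨∑ χ ∈ B, (a χ : ℝ) * ((a χ : ℝ) ^ 2 / (d χ : ℝ)), ?_, ?_⟩
  · rw [← Finset.sum_subset (Finset.subset_univ B) fun χ _ hχ => by
      rw [hout χ hχ, map_zero, zero_mul]]
    push_cast
    exact Finset.sum_congr rfl fun χ hχ => by
      rw [hpsi χ hχ, ha χ, hd χ, map_intCast]
  have hp3 : 3 ≤ p := by have := hp.out.two_le; omega
  have hq3 : p = 3 → q = 3 ∨ 9 ≤ q := by
    intro h3
    obtain ⟨k, hk⟩ := IsPGroup.iff_card.1 P.isPGroup'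
    rw [← hq, h3] at hk
    rcases k with _ | _ | k
    · have hP : (P : Subgroup G) = ⊥ := Subgroup.card_eq_one.1 hk
      exact absurd (by simpa [hP] using S.mem) S.x_ne
    · exact Or.inl hk
    · exact Or.inr (hk ▸ (by
        calc 9 = 3 ^ 2 := rfl
          _ ≤ 3 ^ (k + 2) := Nat.pow_le_pow_right (by norm_num) (by omega)))
  have hqp : p ≤ q := Nat.le_of_dvd Nat.card_pos (S.ord ▸ Subgroup.orderOf_dvd_natCard _ S.mem)
  have hT : (∑ χ ∈ B.erase t, a χ ^ 2) = (q : ℤ) - 1 := by
    have := Finset.add_sum_erase B (fun χ => a χ ^ 2) htB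
    simp only [hat, hsq, one_pow] at this
    omega
  obtain ⟨c, hc0, hca, hcq⟩ : ∃ c : ℝ, 0 < c ∧
      (∀ b : ℤ, 0 < b → b ^ 2 ≤ (q : ℤ) - 1 → (b : ℝ) * (1 - c) ≤ c * q) ∧
      (1 + c * ((q : ℝ) - 1)) * ((p : ℝ) - 1) ≤ (q : ℝ) * ((p : ℝ) - 2) := by
    by_cases h3 : p = 3
    · refine ⟨1 / 4, by norm_num, fun b hb hb2 => ?_, ?_⟩
      · have : 3 * b ≤ (q : ℤ) := by
          rcases hq3 h3 with h | h
          · rw [h] at hb2 ⊢; push_cast at hb2 ⊢
            have : b < 2 := by nlinarith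
            omega
          · nlinarith
        have : (3 : ℝ) * b ≤ q := by exact_mod_cast this
        linarith
      · have : (3 : ℝ) ≤ q := by exact_mod_cast h3 ▸ hqp
        subst h3
        norm_num
        linarith
    · refine ⟨1 / 3, by norm_num, fun b hb hb2 => ?_, ?_⟩
      · have : 2 * b ≤ (q : ℤ) := by nlinarith [sq_nonneg ((q : ℤ) - 2)]
        have : (2 : ℝ) * b ≤ q := by exact_mod_cast this
        linarith
      · have h5 : 5 ≤ p := by
          have h4 : p ≠ 4 := fun h => absurd (h ▸ hp.out) (by norm_num)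
          omega
        have h5' : (5 : ℝ) ≤ p := by exact_mod_cast h5
        have hqp' : (p : ℝ) ≤ q := by exact_mod_cast hqp
        nlinarith
  obtain ⟨χ₀, hχ₀, hneg⟩ : ∃ χ ∈ B.erase t, a χ < 0 := by
    by_contra hne
    push Not at hne
    have h1 := Finset.add_sum_erase B (fun χ => a χ * (d χ : ℤ)) htB
    simp only [hat, hdt, hdeg, Nat.cast_one, mul_one] at h1
    have : 0 ≤ ∑ χ ∈ B.erase t, a χ * (d χ : ℤ) :=
      Finset.sum_nonneg fun χ hχ => mul_nonneg (hne χ hχ) (by positivity)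
    omega
  have hlt : ∑ χ ∈ B.erase t, (a χ : ℝ) * ((a χ : ℝ) ^ 2 / (d χ : ℝ)) <
      ∑ χ ∈ B.erase t, c * (a χ : ℝ) ^ 2 := by
    refine Finset.sum_lt_sum (fun χ hχ => ?_) ⟨χ₀, hχ₀, ?_⟩
    · have hd' : (0 : ℝ) < d χ := by exact_mod_cast hd0 χ
      rw [mul_div, div_le_iff₀ hd']
      suffices (a χ : ℝ) ≤ c * d χ by nlinarith [sq_nonneg (a χ : ℝ)]
      by_cases hpos : 0 < a χ
      · have hb : a χ ^ 2 ≤ (q : ℤ) - 1 :=
          hT ▸ Finset.single_le_sum (f := fun χ => a χ ^ 2) (fun _ _ => sq_nonneg _) hχ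
        have h1 := hca _ hpos hb
        have hn : (1 : ℝ) ≤ n χ := by exact_mod_cast hn0 χ (Finset.ne_of_mem_erase hχ)
        have h2 : (d χ : ℝ) = a χ + n χ * q := by exact_mod_cast hdn χ
        have : (0 : ℝ) ≤ q := by positivity
        rw [h2]
        have h6 : c * (q : ℝ) ≤ c * ((n χ : ℝ) * q) :=
          mul_le_mul_of_nonneg_left (le_mul_of_one_le_left this hn) hc0.le
        linarith
      · have h0 : (a χ : ℝ) ≤ 0 := by exact_mod_cast not_lt.1 hpos
        nlinarith
    · have hd' : (0 : ℝ) < d χ₀ := by exact_mod_cast hd0 χ₀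
      have hn' : (a χ₀ : ℝ) < 0 := by exact_mod_cast hneg
      have hp' : (0 : ℝ) < (a χ₀ : ℝ) ^ 2 := sq_pos_of_ne_zero hn'.ne
      exact lt_trans (mul_neg_of_neg_of_pos hn' (div_pos hp' hd')) (mul_pos hc0 hp')
  rw [← Finset.mul_sum, show ∑ χ ∈ B.erase t, (a χ : ℝ) ^ 2 = (q : ℝ) - 1 by exact_mod_cast hT]
    at hlt
  rw [← Finset.add_sum_erase B _ htB, hat, hdt]
  have : (0 : ℝ) < (p : ℝ) - 1 := by
    have : (3 : ℝ) ≤ p := by exact_mod_cast hp3
    linarith
  push_cast
  nlinarith

/-- The pairs from the class of `x` with `p`-regular product are at most `1 / (p - 1)` of all. -/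
theorem pairs_bound (hpair : ∀ u v : G, IsConj x u → IsConj x v → ∀ i j : ℕ,
      ¬ p ∣ orderOf (u ^ i * v) → ¬ p ∣ orderOf (u ^ j * v) → i ≡ j [MOD p]) :
    ((classSet x ×ˢ classSet x).filter fun w => ¬ p ∣ orderOf (w.1 * w.2)).card * (p - 1) ≤
      (classSet x).card ^ 2 := by
  classical
  let A : ℕ → Finset (G × G) := fun i =>
    (classSet x ×ˢ classSet x).filter fun w => ¬ p ∣ orderOf (w.1 ^ i * w.2)
  have hdisj : ((Finset.Icc 1 (p - 1) : Finset ℕ) : Set ℕ).PairwiseDisjoint A := by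
    intro i hi j hj hij
    rw [Function.onFun, Finset.disjoint_left]
    intro w hw hw'
    simp only [A, Finset.mem_filter, Finset.mem_product, mem_classSet] at hw hw'
    simp only [Finset.coe_Icc, Set.mem_Icc] at hi hj
    exact hij (Nat.ModEq.eq_of_lt_of_lt (hpair _ _ hw.1.1 hw.1.2 i j hw.2 hw'.2)
      (by omega) (by omega))
  have hle : ∀ i ∈ Finset.Icc 1 (p - 1),
      ((classSet x ×ˢ classSet x).filter fun w => ¬ p ∣ orderOf (w.1 * w.2)).card ≤ (A i).card := by
    intro i hi
    rw [Finset.mem_Icc] at hi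
    have hco : Nat.Coprime i p := (hp.out.coprime_iff_not_dvd.2
      (fun h => absurd (Nat.le_of_dvd (by omega) h) (by omega))).symm
    obtain ⟨j, hj⟩ := Nat.exists_mul_mod_eq_one_of_coprime hco hp.out.one_lt
    have hji : ∀ u : G, IsConj x u → (u ^ j) ^ i = u := by
      intro u hu
      rw [← pow_mul, mul_comm j i, ← pow_mod_orderOf, S.ord_class hu, hj.2, pow_one]
    refine Finset.card_le_card_of_injOn (fun w => (w.1 ^ j, w.2)) ?_ ?_
    · intro w hw
      simp only [Finset.coe_filter, Finset.mem_product, mem_classSet, Set.mem_ofPred_eq] at hw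
      simp only [A, Finset.coe_filter, Finset.mem_product, mem_classSet, Set.mem_ofPred_eq,
        hji _ hw.1.1]
      refine ⟨⟨S.conjx _ ?_ ?_, hw.1.2⟩, hw.2⟩
      · have : orderOf (w.1 ^ j) ∣ p ^ 1 := by
          rw [pow_one, ← S.ord_class hw.1.1]; exact orderOf_pow_dvd j
        obtain ⟨k, -, hk⟩ := (Nat.dvd_prime_pow hp.out).1 this
        exact ⟨k, hk⟩
      · intro h
        have := hji _ hw.1.1
        rw [h, one_pow] at this
        exact hp.out.ne_one (by rw [← S.ord_class hw.1.1, ← this, orderOf_one])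
    · intro w hw w' hw' h
      simp only [Finset.coe_filter, Finset.mem_product, mem_classSet, Set.mem_ofPred_eq] at hw hw'
      simp only [Prod.mk.injEq] at h
      exact Prod.ext (by rw [← hji _ hw.1.1, h.1, hji _ hw'.1.1]) h.2
  have hunion : ((Finset.Icc 1 (p - 1)).biUnion A).card ≤ (classSet x).card ^ 2 := by
    rw [sq, ← Finset.card_product]
    refine Finset.card_le_card (Finset.biUnion_subset.2 fun i _ => Finset.filter_subset _ _)
  rw [Finset.card_biUnion hdisj] at hunion
  refine le_trans ?_ hunion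
  refine le_trans (le_of_eq ?_) (Finset.card_nsmul_le_sum _ _ _ hle)
  rw [Nat.card_Icc, smul_eq_mul, Nat.add_sub_cancel, mul_comm]

theorem contradiction [IsSimpleGroup G] (hp2 : p ≠ 2)
    (hpair : ∀ u v : G, IsConj x u → IsConj x v → ∀ i j : ℕ,
      ¬ p ∣ orderOf (u ^ i * v) → ¬ p ∣ orderOf (u ^ j * v) → i ≡ j [MOD p]) : False := by
  classical
  obtain ⟨T, hT, hTlt⟩ := S.cube_bound hp2
  set C : ℕ := (classSet x).card
  set N : ℕ := ((classSet x ×ˢ classSet x).filter fun w => ¬ p ∣ orderOf (w.1 * w.2)).card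
  set q : ℕ := Nat.card (P : Subgroup G)
  have h := PairPSolvable.sum_pairs_classFun (sing_class (G := G) (p := p)) x
  have hinner : ∑ χ : IrrCharacter G, Cfsg.classInner (sing p) (χ : G → ℂ) *
      ((χ : G → ℂ) x ^ 2 / (χ : G → ℂ) 1) = (T : ℂ) / (q : ℂ) := by
    rw [← hT, Finset.sum_div]
    exact Finset.sum_congr rfl fun χ _ => by rw [S.inner_sing χ, div_mul_eq_mul_div]
  rw [hinner] at h
  have hsplit : (∑ w ∈ classSet x ×ˢ classSet x, sing p (w.1 * w.2)) = (C : ℂ) ^ 2 - N := by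
    have : ∀ g : G, sing p g = 1 - (if ¬ p ∣ orderOf g then (1 : ℂ) else 0) := by
      intro g; unfold sing; split_ifs <;> simp_all
    simp only [this, Finset.sum_sub_distrib, Finset.sum_boole, Finset.sum_const, nsmul_eq_mul,
      mul_one, Finset.card_product, N]
    push_cast
    rw [sq]
  rw [hsplit] at h
  have hN : (C : ℝ) ^ 2 - N = (C : ℝ) ^ 2 * (T / q) := by exact_mod_cast h
  have hb : (N : ℝ) * ((p : ℝ) - 1) ≤ (C : ℝ) ^ 2 := by
    have := S.pairs_bound hpair
    have h2 := (Nat.cast_le (α := ℝ)).2 this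
    push_cast [Nat.cast_sub hp.out.one_le] at h2
    exact h2
  have hC : (0 : ℝ) < (C : ℝ) ^ 2 := by
    have : 0 < C := Finset.card_pos.2 ⟨x, mem_classSet.2 (IsConj.refl x)⟩
    positivity
  have hq : (0 : ℝ) < q := by exact_mod_cast Nat.card_pos
  have key : ((p : ℝ) - 2) * q ≤ T * ((p : ℝ) - 1) := by
    have e : (N : ℝ) = (C : ℝ) ^ 2 * (1 - T / q) := by linarith
    rw [e, mul_assoc] at hb
    have : (1 - T / q) * ((p : ℝ) - 1) ≤ 1 := (mul_le_iff_le_one_right hC).1 hb
    have hm : (T / q) * q = T := div_mul_cancel₀ _ hq.ne'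
    nlinarith
  linarith

end Setting

/-- Let p be a prime and P a nontrivial elementary abelian Sylow p-subgroup of a finite nonabelian simple group G whose nonidentity elements are all conjugate in G. Suppose that two elements of P are conjugate in G only if they are conjugate in N_G(P), that the centralizer of every element of order p of P has a normal p-complement, and that every two elements of order p of G generate a p-solvable subgroup. Then p = 2. -/
theorem result {G : Type*} [Group G] [Finite G] [IsSimpleGroup G] (hG : ¬ IsMulCommutative G) {p : ℕ} [Fact p.Prime] (P : Sylow p G)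
    (hP1 : (P : Subgroup G) ≠ ⊥) (hPe : Cfsg.IsElementaryAbelian p (P : Subgroup G))
    (hconj : ∀ x ∈ (P : Subgroup G), ∀ y ∈ (P : Subgroup G), x ≠ 1 → y ≠ 1 → ∃ g : G, g * x * g⁻¹ = y)
    (ha : ∀ x ∈ (P : Subgroup G), ∀ y ∈ (P : Subgroup G), (∃ g : G, g * x * g⁻¹ = y) →
      ∃ n ∈ Subgroup.normalizer ((P : Subgroup G) : Set G), n * x * n⁻¹ = y)
    (hb : ∀ x ∈ (P : Subgroup G), orderOf x = p → Cfsg.HasNormalPComplement p ↥(Subgroup.centralizer ({x} : Set G)))
    (hc : ∀ x y : G, orderOf x = p → orderOf y = p → Cfsg.IsPSolvable p ↥(Subgroup.closure ({x, y} : Set G))) :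
    p = 2 := by
  classical
  haveI := Fintype.ofFinite G
  by_contra hp2
  have hp : p.Prime := Fact.out
  haveI hPc : IsMulCommutative (P : Subgroup G) := hPe.1
  obtain ⟨x, hxP, hx1⟩ := (Subgroup.bot_or_exists_ne_one (P : Subgroup G)).resolve_left hP1
  have hox : orderOf x = p :=
    orderOf_eq_prime (hPe.2 x hxP) hx1
  have hconjx : ∀ z : G, (∃ k, orderOf z = p ^ k) → z ≠ 1 → IsConj x z := by
    rintro z ⟨k, hk⟩ hz
    obtain ⟨Q, hQ⟩ := (IsPGroup.of_card (n := k) (by rw [Nat.card_zpowers, hk]) :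
      IsPGroup p (Subgroup.zpowers z)).exists_le_sylow
    obtain ⟨g, hg⟩ := MulAction.exists_smul_eq G P Q
    have hm : z ∈ ((g • P : Sylow p G) : Subgroup G) := hg ▸ hQ (Subgroup.mem_zpowers z)
    rw [Sylow.coe_subgroup_smul, Subgroup.mem_pointwise_smul_iff_inv_smul_mem] at hm
    obtain ⟨h, hh⟩ := hconj x hxP _ hm hx1 (fun e => hz (by
      simp only [← map_inv, MulAut.smul_def, MulAut.conj_apply, inv_inv] at e
      calc z = g * (g⁻¹ * z * g) * g⁻¹ := by group
        _ = 1 := by rw [e]; group))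
    exact isConj_iff.2 ⟨g * h, by
      simp only [← map_inv, MulAut.smul_def, MulAut.conj_apply, inv_inv] at hh
      calc g * h * x * (g * h)⁻¹ = g * (h * x * h⁻¹) * g⁻¹ := by group
        _ = z := by rw [hh]; group⟩
  have hab : ∀ A : Subgroup G, IsPGroup p A → IsMulCommutative A := by
    intro A hA
    obtain ⟨Q, hQ⟩ := hA.exists_le_sylow
    let e : (P : Subgroup G) ≃* (Q : Subgroup G) := P.equiv Q
    exact ⟨⟨fun a b => Subtype.ext (show (a : G) * b = b * a from by
      obtain ⟨a', ha'⟩ := e.surjective ⟨a, hQ a.2⟩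
      obtain ⟨b', hb'⟩ := e.surjective ⟨b, hQ b.2⟩
      have h := congrArg (fun u => ((e u : (Q : Subgroup G)) : G))
        (IsMulCommutative.is_comm.comm a' b')
      simpa [map_mul, ha', hb'] using h)⟩⟩
  obtain ⟨PC, K, hKn, hKc⟩ := hb x hxP hox
  have hPle : (P : Subgroup G) ≤ Subgroup.centralizer ({x} : Set G) := fun u hu =>
    Subgroup.mem_centralizer_singleton_iff.2
      (congrArg Subtype.val (IsMulCommutative.is_comm.comm (⟨u, hu⟩ : (P : Subgroup G)) ⟨x, hxP⟩))
  have hcardPC : Nat.card (PC : Subgroup ↥(Subgroup.centralizer ({x} : Set G))) = Nat.card (P : Subgroup G) := by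
    rw [show Nat.card (P : Subgroup G) = Nat.card ((P.subtype hPle : Sylow p ↥(Subgroup.centralizer ({x} : Set G))) :
      Subgroup ↥(Subgroup.centralizer ({x} : Set G))) from
      (Nat.card_congr (Subgroup.subgroupOfEquivOfLe hPle).toEquiv).symm]
    exact Nat.card_congr (PC.equiv (P.subtype hPle)).toEquiv
  have S : Setting P x K := by
    refine ⟨hox, hxP, hPc, hconjx, hKn, ?_, ?_⟩
    · rw [← hKc.index_eq_card]
      exact PC.not_dvd_index
    · rw [← hcardPC]
      exact hKc.symm.index_eq_card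
  refine S.contradiction hp2 fun u v hu hv i j hi hj => ?_
  exact CfsgLib.PairPSolvable.regular_unique (S.ord_class hu) ⟨1, by rw [pow_one, S.ord_class hv]⟩
    hab (hc u v (S.ord_class hu) (S.ord_class hv)) hi hj

end Cfsg.Agent.S1951
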