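import Cfsg.Statements.S1952
import Mathlib.Algebra.Polynomial.Expand
import Mathlib.NumberTheory.Padics.PadicVal.Basic
import Mathlib.LinearAlgebra.FiniteDimensional.Defs
import Mathlib.Tactic
import Mathlib.LinearAlgebra.Dual.Lemmas

set_option autoImplicit false
open Cfsg

namespace Cfsg.Agent.S1952

open Polynomial in
/-- A shift-invariant subspace with a vector of nonzero sum is everything. -/
theorem shift_span {p : ℕ} [Fact p.Prime] (S : Submodule (ZMod p) (ZMod p → ZMod p))
    (hS : ∀ f ∈ S, (fun k => f (k + 1)) ∈ S) {v : ZMod p → ZMod p} (hv : v ∈ S)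
    (hsum : ∑ i, v i ≠ 0) : S = ⊤ := by
  haveI : NeZero p := ⟨(Fact.out : p.Prime).ne_zero⟩
  let σ : Module.End (ZMod p) (ZMod p → ZMod p) := LinearMap.funLeft (ZMod p) (ZMod p) (· + 1)
  have hσ : ∀ (n : ℕ) f k, (σ ^ n) f k = f (k + (n : ZMod p)) := by
    intro n
    induction n with
    | zero => intro f k; simp
    | succ n ih =>
      intro f k
      rw [pow_succ, Module.End.mul_apply, ih]
      show f (k + (n : ZMod p) + 1) = _
      push_cast
      rw [add_assoc]
  have hσp : σ ^ p = 1 := by
    refine LinearMap.ext fun f => funext fun k => ?_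
    rw [hσ]; simp
  let q : (ZMod p)[X] := ∑ i : ZMod p, C (v (-i)) * X ^ i.val
  have hev : q.eval 1 = ∑ i, v i := by
    simp only [q, eval_finsetSum, eval_mul, eval_C, eval_pow, eval_X, one_pow, mul_one]
    exact Equiv.sum_comp (Equiv.neg (ZMod p)) v
  obtain ⟨r, hr⟩ := X_sub_C_dvd_sub_C_eval (a := (1 : ZMod p)) (p := q)
  have hnil : IsNilpotent (aeval σ (X - C (1 : ZMod p))) := by
    refine ⟨p, ?_⟩
    rw [← map_pow, sub_pow_char, ← C_pow, one_pow, map_sub, map_pow, aeval_X, aeval_C, map_one,
      hσp, sub_self]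
  have hU : IsUnit (aeval σ q) := by
    have hq : q = C (q.eval 1) + (X - C 1) * r := by rw [← hr]; ring
    rw [hq, map_add, map_mul, aeval_C]
    refine IsNilpotent.isUnit_add_left_of_commute ?_ ?_ ?_
    · exact ((Commute.all _ r).map (aeval σ)).isNilpotent_mul_right hnil
    · exact (hev ▸ isUnit_iff_ne_zero.mpr hsum).map _
    · exact ((Algebra.commutes _ _).symm)
  have hq0 : ∀ z : ZMod p → ZMod p, z = ∑ i : ZMod p, z (-i) • (σ ^ i.val) (Pi.single 0 1) := by
    intro z
    ext k
    rw [Finset.sum_apply, Finset.sum_eq_single (-k)]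
    · rw [Pi.smul_apply, hσ]; simp
    · intro b _ hb
      rw [Pi.smul_apply, hσ, ZMod.natCast_zmod_val, Pi.single_eq_of_ne, smul_zero]
      intro h
      exact hb (eq_neg_of_add_eq_zero_right h)
    · simp
  have hU0 : aeval σ q (Pi.single 0 1) = v := by
    conv_rhs => rw [hq0 v]
    simp only [q, map_sum, map_mul, aeval_C, map_pow, aeval_X, LinearMap.sum_apply,
      Module.End.mul_apply, Module.algebraMap_end_apply]
  have hmem : ∀ n : ℕ, (σ ^ n) v ∈ S := by
    intro n
    induction n with
    | zero => simpa using hv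
    | succ n ih => rw [pow_succ', Module.End.mul_apply]; exact hS _ ih
  rw [eq_top_iff]
  intro w _
  obtain ⟨z, hz⟩ := ((Module.End.isUnit_iff _).mp hU).2 w
  rw [← hz, hq0 z, map_sum]
  refine S.sum_mem fun i _ => ?_
  rw [map_smul]
  refine S.smul_mem _ ?_
  have hc : Commute (aeval σ q) (σ ^ i.val) := by
    have := (Commute.all q (X ^ i.val)).map (aeval σ)
    simpa using this
  rw [← Module.End.mul_apply, hc.eq, Module.End.mul_apply, hU0]
  exact hmem _


/-- Let P be a finite p-group with a normal elementary abelian subgroup A of index p, and let x ∈ A and y ∈ P with y outside A. If the product of the p conjugates y^(-i) x y^i (i = 0, …, p−1) is not the identity, then the wreath product Z_p ≀ Z_p, realised as a Sylow p-subgroup of the symmetric group of degree p², is a homomorphic image of P. -/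
theorem result {P : Type*} [Group P] [Finite P] {p : ℕ} [Fact p.Prime] (hP : IsPGroup p P) (A : Subgroup P) [A.Normal]
    (hA : Cfsg.IsElementaryAbelian p A) (hidx : A.index = p) (x y : P) (hx : x ∈ A) (hy : y ∉ A)
    (hprod : ((List.range p).map (fun i => (y ^ i)⁻¹ * x * y ^ i)).prod ≠ 1) :
    ∃ (Q : Sylow p (Equiv.Perm (Fin (p ^ 2)))) (f : P →* ↥(Q : Subgroup (Equiv.Perm (Fin (p ^ 2))))), Function.Surjective f := by
  classical
  have hp : p.Prime := Fact.out
  haveI : NeZero p := ⟨hp.ne_zero⟩
  letI : CommGroup A := { (inferInstance : Group A) with mul_comm := fun a b => hA.1.1.comm a b }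
  obtain ⟨modA⟩ : Nonempty (Module (ZMod p) (Additive A)) :=
    ⟨AddCommGroup.zmodModule (n := p) (fun a => by
      apply Additive.toMul.injective
      rw [toMul_nsmul, toMul_zero]
      exact Subtype.ext (by simpa using hA.2 _ (Additive.toMul a).2))⟩
  have hyp : y ^ p ∈ A := by
    exact hidx ▸ A.pow_index_mem y
  let θ : MulAut A := MulAut.conjNormal y⁻¹
  have hθp : θ ^ p = 1 := by
    apply MulEquiv.ext
    intro a
    rw [← map_pow]
    apply Subtype.ext
    rw [MulAut.conjNormal_apply, MulAut.one_apply]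
    have h := congrArg Subtype.val (hA.1.1.comm ⟨_, A.inv_mem hyp⟩ a)
    simp only [Subgroup.coe_mul] at h
    rw [inv_pow, h]; group
  -- choose a functional not vanishing on the norm of `x`
  let Nx : A := ((List.range p).map (fun i => (θ ^ i) ⟨x, hx⟩)).prod
  have hNx : (Nx : P) = ((List.range p).map (fun i => (y ^ i)⁻¹ * x * y ^ i)).prod := by
    simp only [Nx, SubmonoidClass.coe_list_prod, List.map_map]
    congr 1
    refine List.map_congr_left fun i _ => ?_
    simp only [Function.comp_apply, θ, ← map_pow, MulAut.conjNormal_apply, inv_pow, inv_inv]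
  have hNne : (Additive.ofMul Nx) ≠ 0 := fun h => hprod (hNx ▸ congrArg Subtype.val
    (show Nx = 1 from congrArg Additive.toMul h))
  obtain ⟨lam, hlam⟩ : ∃ l : Additive A →ₗ[ZMod p] ZMod p, l (Additive.ofMul Nx) ≠ 0 := by
    by_contra h
    push Not at h
    exact hNne ((Module.forall_dual_apply_eq_zero_iff (ZMod p) _).mp h)
  -- the map to `F_p^p`
  let Φ : Additive A →+ (ZMod p → ZMod p) :=
    { toFun := fun a i => lam (Additive.ofMul ((θ ^ i.val) (Additive.toMul a)))
      map_zero' := by ext i; simp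
      map_add' := fun a b => by ext i; simp }
  have hΦtop : (Φ.toZModLinearMap p).range = ⊤ := by
    refine shift_span _ ?_ ⟨Additive.ofMul ⟨x, hx⟩, rfl⟩ ?_
    · rintro f ⟨a, rfl⟩
      refine ⟨Additive.ofMul (θ (Additive.toMul a)), ?_⟩
      ext i
      show lam (Additive.ofMul ((θ ^ i.val) (θ (Additive.toMul a)))) =
        lam (Additive.ofMul ((θ ^ (i + 1).val) (Additive.toMul a)))
      rw [← MulAut.mul_apply, ← pow_succ, ZMod.val_add, ZMod.val_one, ← pow_eq_pow_mod _ hθp]
    · show ∑ i : ZMod p, lam (Additive.ofMul ((θ ^ i.val) ⟨x, hx⟩)) ≠ 0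
      convert hlam using 1
      rw [← map_sum]
      congr 1
      have hN : Nx = ∏ i ∈ Finset.range p, (θ ^ i) ⟨x, hx⟩ := rfl
      rw [hN, ofMul_prod]
      refine Finset.sum_bij (fun i _ => i.val) (fun i _ => Finset.mem_range.mpr i.val_lt)
        (fun i _ j _ h => ZMod.val_injective p h) (fun n hn => ⟨(n : ZMod p), Finset.mem_univ _,
          ZMod.val_cast_of_lt (Finset.mem_range.mp hn)⟩) (fun i _ => rfl)
  -- the permutation action
  let ψ : A →* Multiplicative (ZMod p) :=
    { toFun := fun a => Multiplicative.ofAdd (lam (Additive.ofMul a))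
      map_one' := by simp
      map_mul' := fun a b => by simp }
  let M : Subgroup P := ψ.ker.map A.subtype
  have hψs : Function.Surjective ψ := by
    intro t
    set c := Multiplicative.toAdd t / lam (Additive.ofMul Nx) with hc
    refine ⟨Additive.toMul (c • Additive.ofMul Nx), ?_⟩
    show Multiplicative.ofAdd (lam (c • Additive.ofMul Nx)) = t
    rw [map_smul, smul_eq_mul, hc, div_mul_cancel₀ _ hlam]
    rfl
  have hMindex : M.index = p ^ 2 := by
    rw [Subgroup.index_map_of_injective _ A.subtype_injective, Subgroup.range_subtype, hidx,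
      Subgroup.index_ker, MonoidHom.range_eq_top.mpr hψs, Subgroup.card_top,
      Nat.card_congr Multiplicative.toAdd, Nat.card_zmod, sq]
  let e : P ⧸ M ≃ Fin (p ^ 2) := Finite.equivFinOfCardEq (by rw [← Subgroup.index_eq_card, hMindex])
  let f0 : P →* Equiv.Perm (Fin (p ^ 2)) :=
    e.permCongrHom.toMonoidHom.comp (MulAction.toPermHom P (P ⧸ M))
  have hker : ∀ g ∈ f0.ker, ∀ b : P, b⁻¹ * g * b ∈ M := by
    intro g hg b
    rw [MonoidHom.mem_ker] at hg
    have h0 : MulAction.toPermHom P (P ⧸ M) g = 1 := e.permCongrHom.injective (by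
      rw [map_one]; exact hg)
    have h1 : ((g * b : P) : P ⧸ M) = (b : P ⧸ M) :=
      congrArg (fun σ : Equiv.Perm (P ⧸ M) => σ (b : P ⧸ M)) h0
    rw [eq_comm, QuotientGroup.eq, ← mul_assoc] at h1
    exact h1
  let g0 : A →* Equiv.Perm (Fin (p ^ 2)) := f0.comp A.subtype
  let Φm : A →* Multiplicative (ZMod p → ZMod p) :=
    { toFun := fun a => Multiplicative.ofAdd (Φ (Additive.ofMul a))
      map_one' := by simp
      map_mul' := fun a b => by simp }
  have hle : g0.ker ≤ Φm.ker := by
    intro a ha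
    rw [MonoidHom.mem_ker]
    show Multiplicative.ofAdd (Φ (Additive.ofMul a)) = 1
    rw [← ofAdd_zero]
    congr 1
    ext i
    obtain ⟨m, hm, hm'⟩ := hker (a : P) ha (y ^ i.val)
    have : m = (θ ^ i.val) a := Subtype.ext (by
      rw [show (m : P) = A.subtype m from rfl, hm']
      simp [θ, ← map_pow])
    show lam (Additive.ofMul ((θ ^ i.val) a)) = 0
    rw [← this]
    exact Multiplicative.ofAdd.injective (by simpa [ψ] using hm)
  have hΦc : Φm.ker.index = p ^ p := by
    have hsurj : Function.Surjective Φm := by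
      intro t
      obtain ⟨a, ha⟩ := (LinearMap.range_eq_top.mp hΦtop) (Multiplicative.toAdd t)
      exact ⟨Additive.toMul a, congrArg Multiplicative.ofAdd ha⟩
    rw [Subgroup.index_ker, MonoidHom.range_eq_top.mpr hsurj, Subgroup.card_top,
      Nat.card_congr Multiplicative.toAdd, Nat.card_fun, Nat.card_zmod]
  have hge : p ^ p ≤ Nat.card g0.range := by
    rw [← Subgroup.index_ker, ← hΦc]
    exact Nat.le_of_dvd (Nat.pos_of_ne_zero Subgroup.index_ne_zero_of_finite)
      (Subgroup.index_dvd_of_le hle)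
  have hlt : g0.range < f0.range := by
    refine lt_of_le_of_ne ?_ fun h => ?_
    · rintro _ ⟨a, rfl⟩; exact ⟨a, rfl⟩
    · obtain ⟨a, ha⟩ : f0 y ∈ g0.range := h ▸ ⟨y, rfl⟩
      have hk : (a : P)⁻¹ * y ∈ f0.ker := by
        rw [MonoidHom.mem_ker, map_mul, map_inv]
        show (g0 a)⁻¹ * f0 y = 1
        rw [ha, inv_mul_cancel]
      have := hker _ hk 1
      rw [inv_one, one_mul, mul_one] at this
      obtain ⟨m, -, hm⟩ := this
      apply hy
      have : (a : P)⁻¹ * y ∈ A := hm ▸ m.2
      simpa using A.mul_mem a.2 this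
  have hcard : p ^ p < Nat.card f0.range := lt_of_le_of_lt hge (by
    by_contra h
    exact hlt.ne (Subgroup.eq_of_le_of_card_ge hlt.le (not_lt.mp h)))
  have hfp : IsPGroup p f0.range := hP.of_surjective f0.rangeRestrict f0.rangeRestrict_surjective
  obtain ⟨Q, hQ⟩ := hfp.exists_le_sylow
  have hQc : Nat.card (Q : Subgroup (Equiv.Perm (Fin (p ^ 2)))) = p ^ (p + 1) := by
    rw [Q.card_eq_multiplicity, Nat.card_eq_fintype_card, Fintype.card_perm, Fintype.card_fin,
      Nat.factorization_def _ hp, sq, padicValNat_factorial_mul]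
    congr 1
    have := padicValNat_factorial_mul (p := p) 1
    rw [mul_one, Nat.factorial_one, padicValNat.one] at this
    omega
  have heq : f0.range = (Q : Subgroup (Equiv.Perm (Fin (p ^ 2)))) := by
    refine Subgroup.eq_of_le_of_card_ge hQ ?_
    obtain ⟨k, hk⟩ := IsPGroup.iff_card.mp hfp
    rw [hk] at hcard ⊢
    rw [hQc]
    exact Nat.pow_le_pow_right hp.pos ((Nat.pow_lt_pow_iff_right hp.one_lt).mp hcard)
  refine ⟨Q, f0.codRestrict _ (fun g => by rw [← heq]; exact ⟨g, rfl⟩), fun q => ?_⟩
  obtain ⟨g, hg⟩ : (q : Equiv.Perm (Fin (p ^ 2))) ∈ f0.range := by rw [heq]; exact q.2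
  exact ⟨g, Subtype.ext hg⟩

end Cfsg.Agent.S1952
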