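import Cfsg.Statements.S1956
import Cfsg.Agent.Techniques.SylowTools

set_option autoImplicit false
open Cfsg

namespace Cfsg.Agent.S1956

/-- Let P be a Sylow p-subgroup of the finite group G such that every element of P of order dividing p (dividing 4 when p = 2) is central in P. Then the fusion of these elements is controlled by N_G(P): if such an element a of P has g a g⁻¹ in P, then g = n c with n normalizing P and c commuting with a. -/
theorem result {G : Type*} [Group G] [Finite G] {p : ℕ} [Fact p.Prime] (P : Sylow p G)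
    (hcen : ∀ a ∈ (P : Subgroup G), (a ^ p = 1 ∨ (p = 2 ∧ a ^ 4 = 1)) → ∀ y ∈ (P : Subgroup G), a * y = y * a) :
    ∀ a ∈ (P : Subgroup G), (a ^ p = 1 ∨ (p = 2 ∧ a ^ 4 = 1)) → ∀ g : G, g * a * g⁻¹ ∈ (P : Subgroup G) →
      ∃ n ∈ Subgroup.normalizer ((P : Subgroup G) : Set G), ∃ c : G, c * a = a * c ∧ g = n * c := by
  intro a ha hsmall g hg
  have hbsmall : (g * a * g⁻¹) ^ p = 1 ∨ (p = 2 ∧ (g * a * g⁻¹) ^ 4 = 1) := by
    rcases hsmall with h | ⟨h, h'⟩
    · left; simp [conj_pow, h]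
    · right; exact ⟨h, by simp [conj_pow, h']⟩
  obtain ⟨c, hc, R, hR1, hR2⟩ := CfsgLib.Techniques.exists_conj_common_sylow (p := p)
    (C := Subgroup.centralizer ({g * a * g⁻¹} : Set G)) (A := (P : Subgroup G))
    (B := (P : Subgroup G).map (MulAut.conj g).toMonoidHom) P.2 (P.2.map _)
    (fun y hy => Subgroup.mem_centralizer_singleton_iff.2 (hcen _ hg hbsmall y hy).symm)
    (by
      rintro _ ⟨y, hy, rfl⟩
      apply Subgroup.mem_centralizer_singleton_iff.2
      have h := hcen a ha hsmall y hy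
      calc g * y * g⁻¹ * (g * a * g⁻¹) = g * (y * a) * g⁻¹ := by group
        _ = g * (a * y) * g⁻¹ := by rw [h]
        _ = g * a * g⁻¹ * (g * y * g⁻¹) := by group)
  have hPR : (R : Subgroup G) = (P : Subgroup G) := (P.3 R.2 hR1)
  have hcb : c * (g * a * g⁻¹) = (g * a * g⁻¹) * c := Subgroup.mem_centralizer_singleton_iff.1 hc
  refine ⟨c * g, ?_, (c * g)⁻¹ * g, ?_, by group⟩
  · rw [Subgroup.mem_normalizer_iff_map_conj_eq]
    refine Subgroup.eq_of_le_of_card_ge ?_ ?_
    · rintro _ ⟨y, hy, rfl⟩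
      have := hR2 (Subgroup.mem_map_of_mem _ (Subgroup.mem_map_of_mem _ hy))
      rw [hPR] at this
      simpa [mul_assoc] using this
    · rw [Subgroup.card_map_of_injective (MulEquiv.injective _)]
  · calc (c * g)⁻¹ * g * a = g⁻¹ * (c⁻¹ * (g * a * g⁻¹)) * g := by group
      _ = g⁻¹ * ((g * a * g⁻¹) * c⁻¹) * g := by
        rw [show c⁻¹ * (g * a * g⁻¹) = (g * a * g⁻¹) * c⁻¹ from (Commute.inv_left hcb).eq]
      _ = a * ((c * g)⁻¹ * g) := by group

end Cfsg.Agent.S1956
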