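import Cfsg.Statements.S1957
import Cfsg.Agent.Coprime.Generation
import Cfsg.Agent.PLocal.Cores
import Cfsg.Agent.LocalEvenBasic.DStar
import Mathlib.GroupTheory.SpecificGroups.KleinFour

set_option autoImplicit false
open Cfsg

namespace Cfsg.Agent.S1957

open Subgroup
open scoped commutatorElement

theorem four {G : Type*} [Group G] [Finite G] {U : Subgroup G} (hU : IsKleinFour U) :
    Nat.card U = 4 ∧ ¬ IsCyclic U ∧ (∀ w ∈ U, w * w = 1) ∧ (∀ v ∈ U, ∀ w ∈ U, v * w = w * v) ∧
    ∀ u ∈ U, u ≠ 1 → ∀ v ∈ U, v ≠ 1 → v ≠ u → ∀ w ∈ U, w = 1 ∨ w = u ∨ w = v ∨ w = u * v := by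
  classical
  have hsq : ∀ w ∈ U, w * w = 1 := fun w hw => congrArg Subtype.val (IsKleinFour.mul_self ⟨w, hw⟩)
  have hcomm : ∀ v ∈ U, ∀ w ∈ U, v * w = w * v := by
    intro v hv w hw
    have h := hsq _ (U.mul_mem hv hw)
    calc v * w = (v * w)⁻¹ := eq_inv_of_mul_eq_one_left h
      _ = w⁻¹ * v⁻¹ := mul_inv_rev v w
      _ = w * v := by
        rw [inv_eq_of_mul_eq_one_right (hsq v hv), inv_eq_of_mul_eq_one_right (hsq w hw)]
  refine ⟨hU.card_four, ?_, hsq, hcomm, fun u hu hu1 v hv hv1 hvu w hw => ?_⟩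
  · exact IsKleinFour.not_isCyclic
  · haveI := Fintype.ofFinite U
    let s : Finset U := {1, ⟨u, hu⟩, ⟨v, hv⟩, ⟨u, hu⟩ * ⟨v, hv⟩}
    have hs : s.card = 4 := by
      have h1 : u * v ≠ 1 := fun h => hvu (by
        rw [eq_inv_of_mul_eq_one_right h, inv_eq_of_mul_eq_one_right (hsq u hu)])
      have h2 : u * v ≠ u := fun h => hv1 (mul_eq_left.mp h)
      have h3 : u * v ≠ v := fun h => hu1 (mul_eq_right.mp h)
      simp [s, Subtype.ext_iff, hu1.symm, hv1.symm, Ne.symm hvu, h1.symm, h2.symm, h3.symm]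
    have : s = Finset.univ := Finset.eq_univ_of_card s (by
      rw [hs, ← Nat.card_eq_fintype_card, hU.card_four])
    have h := Finset.mem_univ (⟨w, hw⟩ : U)
    rw [← this] at h
    simpa [s, Subtype.ext_iff] using h


/-- Let `G` be a finite non-abelian simple group in which every local subgroup is solvable and which is of characteristic 2 type. Let `P` be a Sylow 2-subgroup of `G` and `U` a normal subgroup of `P` that is a four-group, with `U` central in `P` if the centre of `P` is not cyclic. Then `U` centralizes every subgroup of odd order of `G` that it normalizes. -/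
theorem result {G : Type*} [Group G] [Finite G]
    [IsSimpleGroup G] (hna : ¬ IsMulCommutative G) (hN : Cfsg.IsNGroup G) (h2 : Cfsg.IsCharacteristicTwoType G)
    (P : Sylow 2 G) (U : Subgroup G) (hUP : U ≤ (P : Subgroup G)) (hUn : (P : Subgroup G) ≤ Subgroup.normalizer (U : Set G))
    (hU4 : IsKleinFour ↥U)
    (hUZ : ¬ IsCyclic ↥((P : Subgroup G) ⊓ Subgroup.centralizer ((P : Subgroup G) : Set G)) →
      U ≤ Subgroup.centralizer ((P : Subgroup G) : Set G))
    (K : Subgroup G) (hK : Odd (Nat.card K)) (hUK : U ≤ Subgroup.normalizer (K : Set G)) :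
    U ≤ Subgroup.centralizer (K : Set G) := by
  classical
  haveI : Fact (Nat.Prime 2) := ⟨Nat.prime_two⟩
  obtain ⟨hU4c, hUnc, hsq, hcomm, hfour⟩ := four hU4
  haveI : IsMulCommutative U := ⟨⟨fun a b => Subtype.ext (hcomm a a.2 b b.2)⟩⟩
  suffices h : ∀ u ∈ U, u ≠ 1 → K ⊓ Subgroup.centralizer ({u} : Set G) ≤
      Subgroup.centralizer (U : Set G) by
    have hgen := CfsgLib.Coprime.iSup_inf_centralizer_eq hUnc hUK (by
      rw [hU4c]; exact (Nat.Coprime.pow_left 2 (Nat.coprime_two_left.mpr hK) :))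
    rw [Subgroup.le_centralizer_iff, ← hgen]
    exact iSup₂_le fun a ha => h a ha.1 ha.2
  intro u hu hu1 d hd
  have hu2 : u * u = 1 := hsq u hu
  have hord : orderOf u = 2 := orderOf_eq_prime (by rw [sq]; exact hu2) hu1
  have hzu : ∀ e ∈ Subgroup.zpowers u, e = 1 ∨ e = u := by
    intro e he
    rw [mem_zpowers_iff] at he
    obtain ⟨k, rfl⟩ := he
    rw [← zpow_mod_orderOf, hord]
    rcases Int.emod_two_eq_zero_or_one k with h | h
    · left; rw [show ((2 : ℕ) : ℤ) = 2 from rfl, h, zpow_zero]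
    · right; rw [show ((2 : ℕ) : ℤ) = 2 from rfl, h, zpow_one]
  set H := Subgroup.normalizer (Subgroup.zpowers u : Set G) with hH
  have hHc : ∀ x ∈ H, x * u * x⁻¹ = u := by
    intro x hx
    rcases hzu _ ((mem_normalizer_iff.mp hx u).mp (mem_zpowers u)) with h | h
    · exact absurd (conj_eq_one_iff.mp h) hu1
    · exact h
  have hcH : ∀ x, x * u = u * x → x ∈ H := by
    intro x hx
    have h1 : x ∈ Subgroup.centralizer ({u} : Set G) := mem_centralizer_singleton_iff.mpr hx
    refine Subgroup.mem_normalizer_fintype fun e he => ?_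
    rcases hzu e he with rfl | rfl
    · simp
    · rw [hx, mul_inv_cancel_right]; exact mem_zpowers _
  have hzp2 : IsPGroup 2 (Subgroup.zpowers u) := IsPGroup.of_card (n := 1) (by
    rw [Nat.card_zpowers, hord, pow_one])
  have hchar := h2.2 (Subgroup.zpowers u) hzp2 (by rwa [ne_eq, zpowers_eq_bot])
  set T := (P : Subgroup G) ⊓ Subgroup.centralizer (U : Set G) with hT
  have hUT : U ≤ T := le_inf hUP fun x hx => mem_centralizer_iff.mpr fun y hy => hcomm y hy x hx
  have hTH : T ≤ H := fun x hx => hcH x (mem_centralizer_iff.mp hx.2 u hu).symm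
  obtain ⟨RS, hRS⟩ := IsPGroup.exists_le_sylow
    ((P.2.to_le inf_le_left).of_equiv (subgroupOfEquivOfLe hTH).symm : IsPGroup 2 (T.subgroupOf H))
  set R := (RS : Subgroup H).map H.subtype with hR
  have hTR : T ≤ R := fun x hx => ⟨⟨x, hTH hx⟩, hRS hx, rfl⟩
  have hR2 : IsPGroup 2 R := RS.2.map _
  set Q := (Cfsg.pCore 2 H).map H.subtype with hQ
  have hQR : Q ≤ R := Subgroup.map_mono (CfsgLib.PLocal.pCore_le_sylow RS)
  -- every element of `Q` moves `U` modulo `u`
  have hQU : ∀ q ∈ R, ∀ v ∈ U, q * v * q⁻¹ * v⁻¹ ∈ Subgroup.zpowers u := by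
    intro q hq v hv
    by_cases hRT : R ≤ T
    · have h := mem_centralizer_iff.mp (hRT hq).2 v hv
      rw [← h, mul_inv_cancel_right, mul_inv_cancel]
      exact one_mem _
    -- `U` is not central in `P`
    obtain ⟨m, hm⟩ := IsPGroup.iff_card.mp (P.2.to_le (inf_le_left : T ≤ P))
    obtain ⟨k, hk⟩ := IsPGroup.iff_card.mp hR2
    have hRP : Nat.card R ≤ Nat.card (P : Subgroup G) := by
      obtain ⟨P', hP'⟩ := hR2.exists_le_sylow
      calc Nat.card R ≤ Nat.card (P' : Subgroup G) :=
            Nat.le_of_dvd Nat.card_pos (card_dvd_of_le hP')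
        _ = Nat.card (P : Subgroup G) := by rw [P'.card_eq_multiplicity, P.card_eq_multiplicity]
    have hlt : Nat.card T < Nat.card R := by
      by_contra h
      exact hRT (eq_of_le_of_card_ge hTR (not_lt.mp h)).ge
    have hPT : ¬ (P : Subgroup G) ≤ T := fun h =>
      absurd (Nat.le_of_dvd Nat.card_pos (card_dvd_of_le h)) (not_le.mpr (hlt.trans_le hRP))
    have hcyc : IsCyclic ↥((P : Subgroup G) ⊓ Subgroup.centralizer ((P : Subgroup G) : Set G)) := by
      by_contra h
      exact hPT (le_inf le_rfl (le_centralizer_iff.mp (hUZ h)))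
    -- an involution `z` of `U` central in `P`
    haveI : (U.subgroupOf (P : Subgroup G)).Normal :=
      (normal_subgroupOf_iff_le_normalizer hUP).mpr hUn
    obtain ⟨z', ⟨hzU, hzc⟩, hz1'⟩ := CfsgLib.LocalEvenBasic.exists_mem_center_of_normal P.2
      (U.subgroupOf (P : Subgroup G)) (fun h => hu1 (by
        have : (⟨u, hUP hu⟩ : (P : Subgroup G)) ∈ U.subgroupOf (P : Subgroup G) := hu
        rw [h, mem_bot] at this
        exact congrArg Subtype.val this))
    set z : G := (z' : G) with hz
    have hz1 : z ≠ 1 := fun h => hz1' (Subtype.ext h)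
    have hzP : ∀ g ∈ (P : Subgroup G), g * z = z * g := fun g hg =>
      congrArg Subtype.val (mem_center_iff.mp hzc ⟨g, hg⟩)
    have hcent2 : ∀ w ∈ (P : Subgroup G), (∀ g ∈ (P : Subgroup G), g * w = w * g) → w * w = 1 →
        w = 1 ∨ w = z := by
      intro w hwP hw hw2
      by_contra hne
      push Not at hne
      set Z := (P : Subgroup G) ⊓ Subgroup.centralizer ((P : Subgroup G) : Set G)
      haveI := Fintype.ofFinite Z
      have hwZ : w ∈ Z := ⟨hwP, mem_centralizer_iff.mpr hw⟩
      have hzZ : z ∈ Z := ⟨hUP hzU, mem_centralizer_iff.mpr hzP⟩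
      have h3 := IsCyclic.card_pow_eq_one_le (α := Z) (n := 2) (by norm_num)
      have hsub : ({1, ⟨w, hwZ⟩, ⟨z, hzZ⟩} : Finset Z) ⊆
          Finset.univ.filter (fun a : Z => a ^ 2 = 1) := by
        intro a ha
        simp only [Finset.mem_insert, Finset.mem_singleton] at ha
        simp only [Finset.mem_filter, Finset.mem_univ, true_and]
        rcases ha with rfl | rfl | rfl
        · simp
        · exact Subtype.ext (by rw [sq]; exact hw2)
        · exact Subtype.ext (by rw [sq]; exact hsq z hzU)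
      have hc : ({1, ⟨w, hwZ⟩, ⟨z, hzZ⟩} : Finset Z).card = 3 := by
        simp [Subtype.ext_iff, Ne.symm hne.1, hne.2, Ne.symm hz1]
      exact absurd ((Finset.card_le_card hsub).trans h3) (by omega)
    obtain ⟨a, ha, ha1, haz⟩ : ∃ a ∈ U, a ≠ 1 ∧ a ≠ z := by
      by_contra h
      push Not at h
      have hsub : (U : Set G) ⊆ ({1, z} : Set G) := fun w hw => by
        by_cases h1 : w = 1
        · exact Or.inl h1
        · exact Or.inr (h w hw h1)
      have h4 := Set.ncard_le_ncard hsub
      rw [← Nat.card_coe_set_eq, SetLike.coe_sort_coe, hU4c] at h4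
      have := h4.trans (Set.ncard_insert_le 1 {z})
      rw [Set.ncard_singleton] at this
      omega
    have hT_of : ∀ g ∈ (P : Subgroup G), g * a = a * g → g ∈ T := by
      intro g hg h
      refine ⟨hg, mem_centralizer_iff.mpr fun w hw => ?_⟩
      rcases hfour z hzU hz1 a ha ha1 haz w hw with rfl | rfl | rfl | rfl
      · simp
      · exact (hzP g hg).symm
      · exact h.symm
      · rw [mul_assoc, ← h, ← mul_assoc, ← hzP g hg, mul_assoc]
    have hmove : ∀ g ∈ (P : Subgroup G), g ∉ T → g * a * g⁻¹ = z * a := by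
      intro g hg hgT
      have hga : g * a * g⁻¹ ∈ U := (mem_normalizer_iff.mp (hUn hg) a).mp ha
      rcases hfour z hzU hz1 a ha ha1 haz _ hga with h | h | h | h
      · exact absurd (conj_eq_one_iff.mp h) ha1
      · exfalso
        apply haz
        have : g * a = g * z := by rw [hzP g hg, ← h, inv_mul_cancel_right]
        exact mul_left_cancel this
      · exact absurd (hT_of g hg (mul_inv_eq_iff_eq_mul.mp h)) hgT
      · exact h
    obtain ⟨s, hs, hsT⟩ := SetLike.not_le_iff_exists.mp hPT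
    have hsT2 : ∀ g ∈ (P : Subgroup G), g ∉ T → s * g ∈ T := by
      intro g hg hgT
      refine hT_of _ ((P : Subgroup G).mul_mem hs hg) ?_
      have h1 := hmove g hg hgT
      have h2 := hmove s hs hsT
      have : s * g * a * (s * g)⁻¹ = a := by
        calc s * g * a * (s * g)⁻¹ = s * (g * a * g⁻¹) * s⁻¹ := by group
          _ = s * (z * a) * s⁻¹ := by rw [h1]
          _ = z * (s * a * s⁻¹) := by rw [← mul_assoc, hzP s hs]; group
          _ = a := by rw [h2, ← mul_assoc, hsq z hzU, one_mul]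
      exact mul_inv_eq_iff_eq_mul.mp this
    have hPcard : Nat.card (P : Subgroup G) = Nat.card T * 2 := by
      have hi : (T.subgroupOf (P : Subgroup G)).index = 2 := by
        rw [index_eq_two_iff]
        refine ⟨⟨s, hs⟩, fun b => ?_⟩
        by_cases hb : (b : G) ∈ T
        · refine Or.inr ⟨hb, fun h => hsT ?_⟩
          simpa using T.mul_mem (T.inv_mem hb) (show (b : G) * s ∈ T from h)
        · refine Or.inl ⟨?_, hb⟩
          have hbi : (b : G)⁻¹ ∉ T := fun h => hb (by simpa using T.inv_mem h)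
          have hsi : s⁻¹ ∉ T := fun h => hsT (by simpa using T.inv_mem h)
          have h1 := hsT2 _ ((P : Subgroup G).inv_mem hs) hsi
          -- `b * s` is the inverse of `s⁻¹ * b⁻¹`
          have h2 := hsT2 _ b.2 hb
          have h3 : (b : G) * s ∈ T := by
            refine hT_of _ ((P : Subgroup G).mul_mem b.2 hs) ?_
            have e1 := hmove _ b.2 hb
            have e2 := hmove s hs hsT
            have : (b : G) * s * a * ((b : G) * s)⁻¹ = a := by
              calc (b : G) * s * a * ((b : G) * s)⁻¹ = (b : G) * (s * a * s⁻¹) * (b : G)⁻¹ := by group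
                _ = z * ((b : G) * a * (b : G)⁻¹) := by rw [e2, ← mul_assoc, hzP _ b.2]; group
                _ = a := by rw [e1, ← mul_assoc, hsq z hzU, one_mul]
            exact mul_inv_eq_iff_eq_mul.mp this
          exact h3
      have := (T.subgroupOf (P : Subgroup G)).card_mul_index
      rw [hi, Nat.card_congr (subgroupOfEquivOfLe (inf_le_left : T ≤ P)).toEquiv] at this
      exact this.symm
    have hidx : (T.subgroupOf R).index = 2 := by
      have hle := hRP
      rw [hPcard, hm, hk, ← pow_succ] at hle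
      have hlt' := hlt
      rw [hm, hk] at hlt'
      have h1 := (Nat.pow_lt_pow_iff_right (by norm_num : 1 < 2)).mp hlt'
      have h2 := (Nat.pow_le_pow_iff_right (by norm_num : 1 < 2)).mp hle
      have h3 := (T.subgroupOf R).card_mul_index
      rw [Nat.card_congr (subgroupOfEquivOfLe hTR).toEquiv, hm, hk,
        show k = m + 1 by omega, pow_succ] at h3
      exact Nat.eq_of_mul_eq_mul_left (pow_pos (by norm_num) m) h3
    haveI hTn := normal_of_index_eq_two hidx
    have hW : ∀ w ∈ T, w * w = 1 → (∀ t ∈ T, t * w = w * t) → w ∈ U := by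
      intro w hw hw2 hwc
      have hsn : ∀ x ∈ T, s * x * s⁻¹ ∈ T := fun x hx => by
        refine ⟨(P : Subgroup G).mul_mem ((P : Subgroup G).mul_mem hs hx.1) ((P : Subgroup G).inv_mem hs), mem_centralizer_iff.mpr fun y hy => ?_⟩
        have hy' : s⁻¹ * y * s ∈ U := (mem_normalizer_iff''.mp (hUn hs) y).mp hy
        calc y * (s * x * s⁻¹) = s * ((s⁻¹ * y * s) * x) * s⁻¹ := by group
          _ = s * (x * (s⁻¹ * y * s)) * s⁻¹ := by rw [mem_centralizer_iff.mp hx.2 _ hy']
          _ = s * x * s⁻¹ * y := by group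
      set ws := s * w * s⁻¹ with hws
      have hwsT : ws ∈ T := hsn w hw
      have hss : s * s ∈ T := hsT2 s hs hsT
      have hwsw : s * ws * s⁻¹ = w := by
        calc s * ws * s⁻¹ = (s * s) * w * (s * s)⁻¹ := by rw [hws]; group
          _ = w := by rw [hwc _ hss, mul_inv_cancel_right]
      have hwsc : ∀ t ∈ T, t * ws = ws * t := by
        intro t ht
        have ht' : s * t * s⁻¹ ∈ T := hsn t ht
        have h1 := hwc (s * s * (s⁻¹ * t * s) * (s * s)⁻¹)
        calc t * ws = s * ((s⁻¹ * t * s) * w) * s⁻¹ := by rw [hws]; group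
          _ = s * (w * (s⁻¹ * t * s)) * s⁻¹ := by
              rw [hwc]
              have h5 : s⁻¹ * t * s = (s * s)⁻¹ * (s * t * s⁻¹) * (s * s) := by group
              rw [h5]
              exact T.mul_mem (T.mul_mem (T.inv_mem hss) ht') hss
          _ = ws * t := by rw [hws]; group
      have hgen : ∀ v, (∀ t ∈ T, t * v = v * t) → s * v * s⁻¹ = v →
          ∀ g ∈ (P : Subgroup G), g * v = v * g := by
        intro v hvT hvs g hg
        have hvs' : s * v = v * s := mul_inv_eq_iff_eq_mul.mp hvs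
        by_cases hgT : g ∈ T
        · exact hvT g hgT
        · have h := hvT _ (hsT2 g hg hgT)
          refine mul_left_cancel (a := s) ?_
          calc s * (g * v) = v * (s * g) := by rw [← mul_assoc, h]
            _ = s * (v * g) := by rw [← mul_assoc, ← hvs', mul_assoc]
      have hcT : ∀ t ∈ T, t * (w * ws) = (w * ws) * t := fun t ht => by
        rw [← mul_assoc, hwc t ht, mul_assoc, hwsc t ht, ← mul_assoc]
      have hwcom : ws * w = w * ws := hwc ws hwsT
      have hws2 : ws * ws = 1 := by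
        calc ws * ws = s * (w * w) * s⁻¹ := by rw [hws]; group
          _ = 1 := by rw [hw2]; group
      have hcs : s * (w * ws) * s⁻¹ = w * ws := by
        calc s * (w * ws) * s⁻¹ = ws * (s * ws * s⁻¹) := by rw [hws]; group
          _ = w * ws := by rw [hwsw, hwcom]
      have hc2 : w * ws * (w * ws) = 1 := by
        rw [mul_assoc, ← mul_assoc ws, hwcom, mul_assoc w ws, hws2, mul_one, hw2]
      rcases hcent2 _ ((P : Subgroup G).mul_mem hw.1 hwsT.1) (hgen _ hcT hcs) hc2 with h | h
      · have : ws = w := by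
          rw [eq_inv_of_mul_eq_one_right h, inv_eq_of_mul_eq_one_right hw2]
        rcases hcent2 w hw.1 (hgen w hwc this) hw2 with rfl | rfl
        · exact U.one_mem
        · exact hzU
      · have haT : a ∈ T := hUT ha
        have hac : ∀ t ∈ T, t * a = a * t := fun t ht => (mem_centralizer_iff.mp ht.2 a ha).symm
        have hwa : s * (w * a) * s⁻¹ = w * a := by
          have h2 : ws = w * z := by
            calc ws = (w * w) * ws := by rw [hw2, one_mul]
              _ = w * z := by rw [mul_assoc, h]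
          calc s * (w * a) * s⁻¹ = ws * (s * a * s⁻¹) := by rw [hws]; group
            _ = w * a := by rw [h2, hmove s hs hsT, mul_assoc, ← mul_assoc z, hsq z hzU, one_mul]
        have hwa2 : w * a * (w * a) = 1 := by
          rw [mul_assoc, ← mul_assoc a, hwc a haT, mul_assoc w a a, hsq a ha, mul_one, hw2]
        have hmem : w * a ∈ U := by
          rcases hcent2 _ ((P : Subgroup G).mul_mem hw.1 haT.1) (hgen _ (fun t ht => by
            rw [← mul_assoc, hwc t ht, mul_assoc, hac t ht, mul_assoc]) hwa) hwa2 with h' | h'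
          · rw [h']; exact U.one_mem
          · rw [h']; exact hzU
        simpa using U.mul_mem hmem (U.inv_mem ha)
    have hqv : q * v * q⁻¹ ∈ U := by
      have hconj : ∀ x ∈ T, q⁻¹ * x * q ∈ T := fun x hx => by
        have := mem_subgroupOf.mp (hTn.conj_mem ⟨x, hTR hx⟩ hx ⟨q, hq⟩⁻¹)
        simpa using this
      have hqvT : q * v * q⁻¹ ∈ T := by
        exact mem_subgroupOf.mp (hTn.conj_mem ⟨v, hTR (hUT hv)⟩ (hUT hv) ⟨q, hq⟩)
      refine hW _ hqvT ?_ fun t ht => ?_
      · calc q * v * q⁻¹ * (q * v * q⁻¹) = q * (v * v) * q⁻¹ := by group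
          _ = 1 := by rw [hsq v hv]; group
      · have h := mem_centralizer_iff.mp (hconj t ht).2 v hv
        calc t * (q * v * q⁻¹) = q * ((q⁻¹ * t * q) * v) * q⁻¹ := by group
          _ = q * (v * (q⁻¹ * t * q)) * q⁻¹ := by rw [h]
          _ = q * v * q⁻¹ * t := by group
    have hqu : q * u * q⁻¹ = u := hHc q (map_subtype_le _ hq)
    by_cases hv0 : v = 1
    · subst hv0; simp
    by_cases hvu : v = u
    · subst hvu; rw [hqu, mul_inv_cancel]; exact one_mem _
    rcases hfour u hu hu1 v hv hv0 hvu _ hqv with h | h | h | h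
    · exact absurd (conj_eq_one_iff.mp h) hv0
    · exact absurd (conj_injective (h.trans hqu.symm)) hvu
    · rw [h, mul_inv_cancel]; exact one_mem _
    · rw [h, mul_inv_cancel_right]; exact mem_zpowers u
  -- conclusion
  obtain ⟨hdK, hdu⟩ := hd
  rw [mem_centralizer_iff]
  intro v hv
  have hdu' : d * u = u * d := mem_centralizer_singleton_iff.mp hdu
  have hdH : d ∈ H := hcH d hdu'
  have hvH : v ∈ H := hTH (hUT hv)
  have hQn : ∀ x ∈ H, ∀ q ∈ Q, x * q * x⁻¹ ∈ Q := by
    rintro x hx _ ⟨q, hq, rfl⟩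
    exact ⟨⟨x, hx⟩ * q * ⟨x, hx⟩⁻¹, (Subgroup.normal_of_characteristic _).conj_mem q hq ⟨x, hx⟩, rfl⟩
  have hA : ∀ w ∈ U, ∀ q ∈ Q, q⁻¹ * (w * q * w⁻¹) ∈ Subgroup.zpowers u := by
    intro w hw q hq
    have h := hQU _ (R.inv_mem (hQR hq)) w hw
    simpa [mul_assoc] using h
  have hB : ∀ w ∈ U, ∀ q ∈ Q, q⁻¹ * ((d * w * d⁻¹) * q * (d * w * d⁻¹)⁻¹) ∈ Subgroup.zpowers u := by
    intro w hw q hq
    have h := hA w hw _ (hQn _ (H.inv_mem hdH) q hq)
    have := (mem_normalizer_iff.mp hdH _).mp h
    simpa [mul_assoc] using this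
  set c := d * v * d⁻¹ * v⁻¹ with hc
  have hcK : c ∈ K := by
    have := (mem_normalizer_iff.mp (hUK hv) _).mp (K.inv_mem hdK)
    simpa [hc, mul_assoc] using K.mul_mem hdK this
  have hcH' : c ∈ H := H.mul_mem (H.mul_mem (H.mul_mem hdH hvH) (H.inv_mem hdH)) (H.inv_mem hvH)
  have hcodd : Odd (orderOf c) := hK.of_dvd_nat (K.orderOf_dvd_natCard hcK)
  have hcQ : ∀ q ∈ Q, c * q * c⁻¹ = q := by
    intro q hq
    have h1 := hA v⁻¹ (U.inv_mem hv) q hq
    set e1 := q⁻¹ * (v⁻¹ * q * v⁻¹⁻¹) with he1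
    have h2 := hB v hv q hq
    set e2 := q⁻¹ * (d * v * d⁻¹ * q * (d * v * d⁻¹)⁻¹) with he2
    have hdv : d * v * d⁻¹ ∈ H := H.mul_mem (H.mul_mem hdH hvH) (H.inv_mem hdH)
    have he1c : (d * v * d⁻¹) * e1 * (d * v * d⁻¹)⁻¹ = e1 := by
      rcases hzu e1 h1 with h | h <;> rw [h]
      · simp
      · exact hHc _ hdv
    have he : c * q * c⁻¹ = q * (e2 * e1) := by
      calc c * q * c⁻¹ = (d * v * d⁻¹) * q * (d * v * d⁻¹)⁻¹ *
            ((d * v * d⁻¹) * e1 * (d * v * d⁻¹)⁻¹) := by rw [hc, he1]; group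
        _ = q * (e2 * e1) := by rw [he1c, he2]; group
    have hemem := mul_mem h2 h1
    set e := e2 * e1
    have hce : c * e * c⁻¹ = e := by
      rcases hzu e hemem with h | h <;> rw [h]
      · simp
      · exact hHc c hcH'
    have hpow : ∀ k : ℕ, c ^ k * q * (c ^ k)⁻¹ = q * e ^ k := by
      intro k
      induction k with
      | zero => simp
      | succ k ih =>
        calc c ^ (k + 1) * q * (c ^ (k + 1))⁻¹ = c * (c ^ k * q * (c ^ k)⁻¹) * c⁻¹ := by
              rw [pow_succ']; group
          _ = c * q * c⁻¹ * (c * e ^ k * c⁻¹) := by rw [ih]; group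
          _ = q * e ^ (k + 1) := by rw [← conj_pow, hce, he, mul_assoc, ← pow_succ']
    have h := hpow (orderOf c)
    rw [pow_orderOf_eq_one, one_mul, inv_one, mul_one, left_eq_mul] at h
    rcases hzu e hemem with h' | h'
    · rw [he, h', mul_one]
    · exfalso
      rw [h'] at h
      have := orderOf_dvd_of_pow_eq_one h
      rw [hord] at this
      exact Nat.not_even_iff_odd.mpr hcodd (even_iff_two_dvd.mpr this)
  have hcQmem : (⟨c, hcH'⟩ : H) ∈ Cfsg.pCore 2 H := hchar (by
    rw [mem_centralizer_iff]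
    intro q hq
    exact Subtype.ext (mul_inv_eq_iff_eq_mul.mp (hcQ q (mem_map_of_mem _ hq))).symm)
  have hc1 : c = 1 := by
    obtain ⟨k, hk⟩ := CfsgLib.PLocal.isPGroup_pCore 2 H ⟨_, hcQmem⟩
    have h2 : c ^ (2 ^ k) = 1 := congrArg (fun x : Cfsg.pCore 2 H => ((x : H) : G)) hk
    have h3 := orderOf_dvd_of_pow_eq_one h2
    rw [← orderOf_eq_one_iff]
    exact (Nat.dvd_one.mp ((Nat.Coprime.pow_right k (Nat.coprime_two_right.mpr hcodd)).dvd_of_dvd_mul_left
      (by simpa using h3)))
  have := mul_inv_eq_one.mp (hc ▸ hc1)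
  exact (mul_inv_eq_iff_eq_mul.mp this).symm

end Cfsg.Agent.S1957
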