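import Cfsg.Statements.S1958
import Cfsg.Agent.Transitivity.Basic
import Cfsg.Agent.Components.PLocal

set_option autoImplicit false
open Cfsg

namespace Cfsg.Agent.S1958

theorem half {G : Type*} [Group G] [Finite G] {p : ℕ} [Fact p.Prime] {a b : G} (ha : a ^ p = 1)
    (hab : a * b = b * a)
    (hsX : Group.IsSolvable ↥(Subgroup.centralizer ({b} : Set G))) :
    Cfsg.centralizerPPrimeCore p a ⊓ Subgroup.centralizer {b} ≤ Cfsg.centralizerPPrimeCore p b := by
  set X := Subgroup.centralizer ({b} : Set G)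
  have haX : a ∈ X := Subgroup.mem_centralizer_singleton_iff.mpr hab
  have hconstr := CfsgLib.PLocal.centralizer_pCore_le
    (CfsgLib.PLocal.isPSolvable_quotient (CfsgLib.PLocal.isPSolvable_of_isSolvable (p := p) (G := ↥X))
      (Cfsg.pPrimeCore p ↥X)) (CfsgLib.PLocal.pPrimeCore_quotient_pPrimeCore_eq_bot p ↥X)
  set R := Cfsg.centralizerPPrimeCore p a ⊓ X with hR
  have hle : R.subgroupOf X ≤ Cfsg.pPrimeCore p ↥X := by
    refine CfsgLib.Components.le_pPrimeCore_of_le_centralizer hconstr
      (P := Subgroup.zpowers (⟨a, haX⟩ : ↥X)) ?_ ?_ ?_ ?_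
    · intro x
      refine ⟨1, Subtype.ext (Subtype.ext ?_)⟩
      obtain ⟨k, hk⟩ := Subgroup.mem_zpowers_iff.mp x.2
      simp only [SubmonoidClass.coe_pow, pow_one, OneMemClass.coe_one]
      rw [← hk, SubgroupClass.coe_zpow, ← zpow_natCast, ← zpow_mul, mul_comm, zpow_mul,
        zpow_natCast, ha, one_zpow]
    · rw [Nat.card_congr (Subgroup.subgroupOfEquivOfLe (inf_le_right : R ≤ X)).toEquiv]
      refine Nat.Coprime.coprime_dvd_left ((Subgroup.card_dvd_of_le inf_le_left).trans ?_)
        (CfsgLib.PLocal.coprime_card_pPrimeCore p ↥(Subgroup.centralizer ({a} : Set G)))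
      exact Subgroup.card_map_dvd _ _
    · rw [← CfsgLib.Transitivity.centralizer_singleton_eq]
      intro x hx
      rw [Subgroup.mem_centralizer_singleton_iff]
      exact Subtype.ext (Subgroup.mem_centralizer_singleton_iff.mp
        (Subgroup.map_subtype_le _ (Subgroup.mem_inf.mp hx).1))
    · rw [← CfsgLib.Transitivity.centralizer_singleton_eq]
      intro x hx
      have hxa : (x : G) ∈ Subgroup.centralizer ({a} : Set G) :=
        Subgroup.mem_centralizer_singleton_iff.mpr
          (congrArg Subtype.val (Subgroup.mem_centralizer_singleton_iff.mp hx))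
      exact Subgroup.le_normalizer_comap X.subtype (Subgroup.inf_normalizer_le_normalizer_inf
        ⟨CfsgLib.Components.le_normalizer_map_subtype_of_normal _ _ hxa, Subgroup.le_normalizer x.2⟩)
  intro x hx
  exact ⟨⟨x, hx.2⟩, hle (show (⟨x, hx.2⟩ : ↥X) ∈ R.subgroupOf X from hx), rfl⟩


/-- Let `G` be a finite group, `p` a prime, and `x, y` commuting elements of order `p` whose centralizers `C_G(x)` and `C_G(y)` are both solvable. Then `O_{p'}(C_G(x)) ∩ C_G(y) = O_{p'}(C_G(y)) ∩ C_G(x)` (balance). -/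
theorem result {G : Type*} [Group G] [Finite G]
    (p : ℕ) [Fact p.Prime] (x y : G) (hx : orderOf x = p) (hy : orderOf y = p) (hxy : x * y = y * x)
    (hCx : Group.IsSolvable ↥(Subgroup.centralizer ({x} : Set G))) (hCy : Group.IsSolvable ↥(Subgroup.centralizer ({y} : Set G))) :
    Cfsg.centralizerPPrimeCore p x ⊓ Subgroup.centralizer {y} = Cfsg.centralizerPPrimeCore p y ⊓ Subgroup.centralizer {x} := by
  have hxp : x ^ p = 1 := hx ▸ pow_orderOf_eq_one x
  have hyp : y ^ p = 1 := hy ▸ pow_orderOf_eq_one y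
  apply le_antisymm
  · exact le_inf (half hxp hxy hCy) (inf_le_left.trans (Subgroup.map_subtype_le _))
  · exact le_inf (half hyp hxy.symm hCx) (inf_le_left.trans (Subgroup.map_subtype_le _))

end Cfsg.Agent.S1958
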