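import Cfsg.Statements.S1962
import Cfsg.Agent.ConjFunctor.WellPlaced

set_option autoImplicit false
open Cfsg CfsgLib.ConjFunctor

namespace Cfsg.Agent.S1962

/-- Local-to-global control of transfer through well-placed subgroups. Let p be a prime, G a finite group with Sylow p-subgroup S, and W a conjugacy functor for p on G. If W controls transfer in N_G(T) for every nonidentity subgroup T of S that is well placed in S with respect to W, then W controls transfer in G: S ∩ G' = S ∩ (N_G(W(S)))'. -/
theorem result {G : Type*} [Group G] [Finite G] {p : ℕ} [Fact p.Prime] (S : Sylow p G) (W : Subgroup G → Subgroup G) (hW : Cfsg.IsConjugacyFunctor p W) (hloc : ∀ T : Subgroup G, T ≠ ⊥ → Cfsg.IsWellPlaced p W (S : Subgroup G) T → Cfsg.ControlsTransferIn p W (Subgroup.normalizer ((T : Subgroup G) : Set G))) : Cfsg.ControlsTransferIn p W ⊤ := by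
  rw [controlsTransferIn_iff_family, familyControlsTransferIn_iff]
  have hS := isSylowIn_top S
  refine ⟨_, hS, ?_⟩
  rw [← commutator_def]
  refine inf_commutator_le_of_climb hS (climb_wellPlaced hS hW) ?_ fun U hU hne => ?_
  · rintro _ ⟨V, hV, rfl⟩
    rw [Set.mem_singleton_iff] at hV
    subst hV
    simp [transferGen]
  · refine (inf_commutator_le_transferGen (by simpa using hW)
      ((controlsTransferIn_iff_family W).mp (hloc U hne hU))
      ((extremal_iff hS.2.1).mp (hU.2 0))).trans ?_
    simp only [transferGen, famIn_singleton, iSup_singleton]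
    exact inf_le_inf_left _
      (Subgroup.commutator_mono (inf_le_inf_right _ le_top) (inf_le_inf_right _ le_top))

end Cfsg.Agent.S1962
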