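import Cfsg.Statements.S1966
import Cfsg.Agent.ConjFunctor.WellPlaced

set_option autoImplicit false
open Cfsg CfsgLib.ConjFunctor

namespace Cfsg.Agent.S1966

/-- Let p be a prime, G a finite group with Sylow p-subgroup S and 𝓕 a conjugation family for S in G. Then the members of 𝓕 containing O_p(G) still form a conjugation family for S in G. -/
theorem result {G : Type*} [Group G] [Finite G] {p : ℕ} [Fact p.Prime] (S : Sylow p G) (𝓕 : Set (Subgroup G)) (h : Cfsg.IsConjugationFamily 𝓕 (S : Subgroup G)) : Cfsg.IsConjugationFamily {T : Subgroup G | T ∈ 𝓕 ∧ Cfsg.pCore p G ≤ T} (S : Subgroup G) := by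
  refine ⟨fun T hT => h.1 T hT.1, fun A g _ hA hgA => ?_⟩
  have hQ : pCore p G ≤ (S : Subgroup G) := CfsgLib.PLocal.pCore_le_sylow S
  obtain ⟨n, T, x, hp, hT, hx, h0, hstep⟩ := h.2 (A ∪ (pCore p G : Set G)) g
    ⟨1, Or.inr (one_mem _)⟩ (Set.union_subset hA hQ) (by
      rintro _ ⟨a, ha | ha, rfl⟩
      · exact hgA ⟨a, ha, rfl⟩
      · exact hQ (by simpa using Subgroup.Normal.conj_mem inferInstance a ha g⁻¹))
  refine ⟨n, T, x, hp, fun i => ⟨hT i, ?_⟩, hx,
    fun h => Set.subset_union_left.trans (h0 h),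
    fun i h => (Set.image_mono Set.subset_union_left).trans (hstep i h)⟩
  obtain ⟨i, hi⟩ := i
  rcases Nat.eq_zero_or_pos i with rfl | hpos
  · exact fun q hq => h0 hi (Or.inr hq)
  · obtain ⟨k, rfl⟩ := Nat.exists_eq_add_one.mpr hpos
    intro q hq
    have := hstep ⟨k, by omega⟩ hi
    refine this ⟨((List.ofFn x).take (k + 1)).prod * q * ((List.ofFn x).take (k + 1)).prod⁻¹,
      Or.inr (Subgroup.Normal.conj_mem inferInstance q hq _), by simp [mul_assoc]⟩

end Cfsg.Agent.S1966
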