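import Cfsg.Statements.S1967
import Cfsg.Agent.ConjFunctor.WellPlaced

set_option autoImplicit false
open Cfsg CfsgLib.ConjFunctor

namespace Cfsg.Agent.S1967

/-- Let p be a prime, G a finite group with Sylow p-subgroup S and W a conjugacy functor for p on G. Then W controls strong fusion in G if and only if, whenever T ≤ S and g ∈ G satisfy gTg⁻¹ ≤ S, one can write g = n c with n ∈ N_G(W(S)) and c ∈ C_G(T). -/
theorem result {G : Type*} [Group G] [Finite G] {p : ℕ} [Fact p.Prime] (S : Sylow p G) (W : Subgroup G → Subgroup G) (hW : Cfsg.IsConjugacyFunctor p W) : Cfsg.ControlsStrongFusionIn p W ⊤ ↔ ∀ (T : Subgroup G) (g : G), T ≤ (S : Subgroup G) → T.map (MulAut.conj g).toMonoidHom ≤ (S : Subgroup G) → ∃ n ∈ Subgroup.normalizer ((W (S : Subgroup G) : Subgroup G) : Set G), ∃ c ∈ Subgroup.centralizer (T : Set G), g = n * c := by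
  have hS := isSylowIn_top S
  rw [controlsStrongFusionIn_iff_family]
  constructor
  · intro h T g hT hgT
    have hc := fusControls_of_family (by simpa using hW) h hS (T : Set G) g trivial hT hgT
    rw [famIn_singleton] at hc
    obtain ⟨n, hn, hnT⟩ := hc.exists_mem_of_singleton
    refine ⟨n, hn.2, n⁻¹ * g, ?_, by simp⟩
    rw [Subgroup.mem_centralizer_iff]
    intro t ht
    have e := hnT t ht
    have e2 : n⁻¹ * g * t * (n⁻¹ * g)⁻¹ = t := by
      calc n⁻¹ * g * t * (n⁻¹ * g)⁻¹ = n⁻¹ * (g * t * g⁻¹) * n := by group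
        _ = t := by rw [← e]; group
    calc t * (n⁻¹ * g) = n⁻¹ * g * t * (n⁻¹ * g)⁻¹ * (n⁻¹ * g) := by rw [e2]
      _ = n⁻¹ * g * t := by group
  · intro h
    rw [familyControlsStrongFusionIn_iff]
    refine ⟨_, hS, fusControls_of_subgroups fun T g _ hT hgT => ?_⟩
    obtain ⟨n, hn, c, hc, rfl⟩ := h T g hT hgT
    have e : ∀ t ∈ T, n * c * t * (n * c)⁻¹ = n * t * n⁻¹ := fun t ht => by
      calc n * c * t * (n * c)⁻¹ = n * (c * t) * c⁻¹ * n⁻¹ := by group
        _ = n * (t * c) * c⁻¹ * n⁻¹ := by rw [Subgroup.mem_centralizer_iff.mp hc t ht]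
        _ = n * t * n⁻¹ := by group
    refine (Fus.single hT (M := ⊤ ⊓ Subgroup.normalizer ((W (S : Subgroup G) : Subgroup G) : Set G))
      (by rw [famIn_singleton]; rfl) ⟨trivial, hn⟩ fun t ht => ?_).congr' fun t ht => (e t ht).symm
    rw [← e t ht]
    exact hgT (conj_mem_cj _ ht)

end Cfsg.Agent.S1967
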