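import Cfsg.Statements.S1968
import Cfsg.Agent.ConjFunctor.WellPlaced

set_option autoImplicit false
open Cfsg CfsgLib.ConjFunctor

namespace Cfsg.Agent.S1968

/-- Let p be a prime, G a finite group with Sylow p-subgroup S and W a conjugacy functor for p on G with Z(P) ≤ W(P) for every p-subgroup P. Let A be a subgroup of Z(S) normalized by N_G(W(S)) that is not weakly closed in S with respect to G. Then there is a subgroup T of S, well placed in S with respect to W, such that: A ≤ T; N_G(W(N_S(T))) normalizes A; N_S(T) is a Sylow p-subgroup of N_G(T); A ≤ Z(N_S(T)); and A is not weakly closed in N_S(T) with respect to N_G(T), that is, some N_G(T)-conjugate of A other than A lies in N_S(T). -/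
theorem result {G : Type*} [Group G] [Finite G] {p : ℕ} [Fact p.Prime] (S : Sylow p G) (W : Subgroup G → Subgroup G) (hW : Cfsg.IsConjugacyFunctor p W) (hWZ : ∀ P : Subgroup G, IsPGroup p ↥P → P ⊓ Subgroup.centralizer (P : Set G) ≤ W P) (A : Subgroup G) (hAZ : A ≤ (S : Subgroup G) ⊓ Subgroup.centralizer ((S : Subgroup G) : Set G)) (hAN : Subgroup.normalizer ((W (S : Subgroup G) : Subgroup G) : Set G) ≤ Subgroup.normalizer ((A : Subgroup G) : Set G)) (hnwc : ¬ Cfsg.IsWeaklyClosed A (S : Subgroup G)) : ∃ T : Subgroup G, Cfsg.IsWellPlaced p W (S : Subgroup G) T ∧ A ≤ T ∧ Subgroup.normalizer ((W ((S : Subgroup G) ⊓ Subgroup.normalizer ((T : Subgroup G) : Set G)) : Subgroup G) : Set G) ≤ Subgroup.normalizer ((A : Subgroup G) : Set G) ∧ ¬ p ∣ ((S : Subgroup G) ⊓ Subgroup.normalizer ((T : Subgroup G) : Set G)).relIndex (Subgroup.normalizer ((T : Subgroup G) : Set G)) ∧ A ≤ Subgroup.centralizer (((S : Subgroup G) ⊓ Subgroup.normalizer ((T : Subgroup G) : Set G) : Subgroup G) : Set G) ∧ ∃ g ∈ Subgroup.normalizer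 ((T : Subgroup G) : Set G), A.map (MulAut.conj g).toMonoidHom ≤ (S : Subgroup G) ⊓ Subgroup.normalizer ((T : Subgroup G) : Set G) ∧ A.map (MulAut.conj g).toMonoidHom ≠ A := by
  classical
  have hS := isSylowIn_top S
  have hAS : A ≤ (S : Subgroup G) := hAZ.trans inf_le_left
  obtain ⟨g, hg, hne⟩ : ∃ g : G, g *• A ≤ S ∧ g *• A ≠ A := by
    by_contra h
    push Not at h
    exact hnwc ⟨hAS, h⟩
  obtain ⟨T, hT, hAT, x, hx, hxA⟩ :=
    exists_moved_of_family (wellPlaced_conjugationFamily hS hW) hAS hg hne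
  have hWT : Cfsg.IsWellPlaced p W (S : Subgroup G) T := hT
  have hAtow : ∀ i, A ≤ functorTower W (S : Subgroup G) T i := by
    intro i
    induction i with
    | zero => exact hAT
    | succ m ih =>
      have hPp : IsPGroup p ↥(nrm (S : Subgroup G) (functorTower W (S : Subgroup G) T m)) :=
        hS.2.1.to_inf_left
      refine le_trans ?_ (hWZ _ hPp)
      exact le_inf (le_inf hAS (ih.trans Subgroup.le_normalizer))
        ((hAZ.trans inf_le_right).trans (Subgroup.centralizer_le (fun y hy => hy.1)))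
  let N : ℕ → Prop := fun i =>
    Subgroup.normalizer ((functorTower W (S : Subgroup G) T (i + 1) : Subgroup G) : Set G) ≤
      Subgroup.normalizer ((A : Subgroup G) : Set G)
  have hex : ∃ i, N i := by
    obtain ⟨i, hi⟩ := exists_tower_eq hW hS.2.1 (T := T)
    exact ⟨i, by show Subgroup.normalizer _ ≤ _; simp only [functorTower]; rw [show _ ⊓ _ = (S : Subgroup G) from hi]; exact hAN⟩
  let i := Nat.find hex
  have hi : N i := Nat.find_spec hex
  refine ⟨functorTower W (S : Subgroup G) T i, wellPlaced_tower hW hS.2.1 hWT i, hAtow i, hi,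
    hWT.2 i, (hAZ.trans inf_le_right).trans (Subgroup.centralizer_le (fun y hy => hy.1)), ?_⟩
  have hnot : ¬ Subgroup.normalizer ((functorTower W (S : Subgroup G) T i : Subgroup G) : Set G) ≤
      Subgroup.normalizer ((A : Subgroup G) : Set G) := by
    rcases Nat.eq_zero_or_pos i with h0 | hpos
    · rw [h0]
      exact fun hle => hxA (cj_eq_of_mem_normalizer (hle hx))
    · have := Nat.find_min hex (show i - 1 < i by omega)
      simpa [N, Nat.sub_add_cancel hpos] using this
  obtain ⟨y, hy, hyA⟩ := SetLike.not_le_iff_exists.mp hnot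
  refine ⟨y, hy, le_inf ((cj_mono y (hAtow i)).trans ?_) ((cj_mono y (hAtow i)).trans ?_),
    fun h => hyA (mem_normalizer_iff_cj.mpr h)⟩
  · exact (cj_eq_of_mem_normalizer hy).le.trans (functorTower_le hW hS.2.1 hWT.1 i)
  · exact (cj_eq_of_mem_normalizer hy).le.trans Subgroup.le_normalizer

end Cfsg.Agent.S1968
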