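import Cfsg.Statements.S1969
import Cfsg.Agent.ConjFunctor.MainCor

set_option autoImplicit false
universe u
open Cfsg CfsgLib.ConjFunctor

namespace Cfsg.Agent.S1969

/-- Let p be a prime, G a finite group and W an isomorphism-invariant p-group functor (W assigns to every group Q a subgroup W(Q), nontrivial whenever Q is a nontrivial finite p-group, and every isomorphism from a finite p-group Q onto a group R carries W(Q) onto W(R)). Suppose that W(S*) is normal in G* whenever G* = K/R is a section of G with C_{G*}(O_p(G*)) ≤ O_p(G*) and S* is a Sylow p-subgroup of G*. Then W controls strong fusion in every section of G: for every section K/R and every Sylow p-subgroup T of K/R, the subgroup W(T) controls strong fusion in K/R. -/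
theorem result {G : Type u} [Group G] [Finite G] {p : ℕ} [Fact p.Prime] (W : ∀ (Q : Type u) [Group Q], Subgroup Q) (hW : Cfsg.IsCharPFunctor.{u} p W) (hloc : ∀ (K R : Subgroup G) [hR : (R.subgroupOf K).Normal], Subgroup.centralizer ((Cfsg.pCore p (↥K ⧸ R.subgroupOf K) : Subgroup (↥K ⧸ R.subgroupOf K)) : Set (↥K ⧸ R.subgroupOf K)) ≤ Cfsg.pCore p (↥K ⧸ R.subgroupOf K) → ∀ T : Sylow p (↥K ⧸ R.subgroupOf K), (Cfsg.inducedFunctor (G := (↥K ⧸ R.subgroupOf K)) W ((T : Subgroup (↥K ⧸ R.subgroupOf K)))).Normal) : ∀ (K R : Subgroup G) [hR : (R.subgroupOf K).Normal], ∀ T : Sylow p (↥K ⧸ R.subgroupOf K), Cfsg.ControlsStrongFusion p (Cfsg.inducedFunctor (G := (↥K ⧸ R.subgroupOf K)) W ((T : Subgroup (↥K ⧸ R.subgroupOf K)))) := by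
  have h𝓦 : ∀ V ∈ ({W} : Set (∀ (Q : Type u) [Group Q], Subgroup Q)), Cfsg.IsCharPFunctor.{u} p V := by
    intro V hV; rw [Set.mem_singleton_iff] at hV; subst hV; exact hW
  intro K R hR T
  have h := familyFusion_section h𝓦 (G := G) (fun K R hR hc => ?_) (↥K ⧸ R.subgroupOf K)
    (involves_section K R)
  · rw [show indFam {W} (↥K ⧸ R.subgroupOf K) = {inducedFunctor W} from Set.image_singleton] at h
    exact controlsStrongFusion_of_family (isConjugacyFunctor_induced hW) h T
  · obtain ⟨S⟩ := (inferInstance : Nonempty (Sylow p (↥K ⧸ R.subgroupOf K)))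
    refine familyControlsStrongFusionIn_iff.mpr ⟨_, isSylowIn_top S, fun A g _ hA hgA => ?_⟩
    have hn := hloc K R hc S
    refine Fus.single hA (M := ⊤ ⊓ Subgroup.normalizer
      ((inducedFunctor W (S : Subgroup (↥K ⧸ R.subgroupOf K)) : Subgroup _) : Set (↥K ⧸ R.subgroupOf K)))
      ⟨_, ⟨W, rfl, rfl⟩, rfl⟩ ?_ (cjSet_subset_iff.mp hgA)
    exact ⟨trivial, (Subgroup.normalizer_eq_top_iff.mpr hn).symm ▸ Subgroup.mem_top g⟩

end Cfsg.Agent.S1969
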