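import Cfsg.Statements.S1985
import Cfsg.Agent.ConjFunctor.Corollaries
import Cfsg.Agent.S1973

set_option autoImplicit false
universe u
open Cfsg CfsgLib.ConjFunctor
open scoped commutatorElement

namespace Cfsg.Agent.S1985

/-- Let p be an odd prime and G a finite group. Then the lower K-infinity subgroup controls weak closure of elements in G: the lower K-infinity subgroup of every p-subgroup P of G contains Z(P), and for some (equivalently, every) Sylow p-subgroup S of G, with K the lower K-infinity subgroup of S, every element of S commuting with all of N_G(K) is weakly closed in S with respect to G (every G-conjugate of it lying in S equals it). -/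
theorem result {G : Type u} [Group G] [Finite G] {p : ℕ} [Fact p.Prime] (hp : p ≠ 2) : Cfsg.ControlsWeakClosureOfElementsIn p (Cfsg.inducedFunctor (G := G) Cfsg.kInfLower) ⊤ := by
  refine Cfsg.Agent.S1973.result _ (isConjugacyFunctor_induced isCharPFunctor_kInfLower)
    (fun P hP => (center_le_inducedFunctor_kInf hP).1) (fun H T h1 h2 h3 hn => ?_) ⊤
  obtain ⟨g, hg, hgQ, hz⟩ := exists_quadratic_center_of_not_le ⟨h1, h2, h3⟩ hn
  refine ⟨g, hg, hgQ, fun U V hUV hU => ?_⟩
  have hUn := hUV.2.1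
  have hVn := hUV.2.2.1
  have h2p : 2 ≤ p - 1 := by have := (Fact.out : p.Prime).two_le; omega
  have hUQ : U ≤ Cfsg.pCore p ↥H := fun u hu => by
    obtain ⟨q, hq, hqu⟩ := (hU ⟨u, hu, rfl⟩).1
    rwa [← Subtype.ext hqu]
  have hab := (chiefFactor_elementary hUV ((CfsgLib.PLocal.isPGroup_pCore p ↥H).to_le hUQ)).1
  have hgH : g ∈ H := h1 hg
  have key := Subgroup.map_mono (f := H.subtype) ((iterCommutator_le_iff hab (⟨g, hgH⟩ : ↥H) (p - 1)).mpr fun u hu => by
    refine iterate_commutator_mem_of_le (m := 2) h2p ?_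
    show ⁅(⟨g, hgH⟩ : ↥H), ⁅(⟨g, hgH⟩ : ↥H), u⁆⁆ ∈ V
    rw [show ⁅(⟨g, hgH⟩ : ↥H), ⁅(⟨g, hgH⟩ : ↥H), u⁆⁆ = 1 from Subtype.ext (hz (u : G) (hU ⟨u, hu, rfl⟩))]
    exact V.one_mem)
  rwa [map_iterCommutator, MonoidHom.map_zpowers] at key

end Cfsg.Agent.S1985
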