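import Cfsg.Statements.S1986
import Cfsg.Agent.ConjFunctor.Corollaries
import Cfsg.Agent.S1974

set_option autoImplicit false
universe u
open Cfsg CfsgLib.ConjFunctor

namespace Cfsg.Agent.S1986

/-- Let p be a prime, G a finite group with Sylow p-subgroup S, K the lower K-infinity subgroup of S, and Z the subgroup of p-th powers of elements of Z(S). Then every element of Z commuting with all of N_G(K) is weakly closed in S with respect to G, and every subgroup of Z that is normal in N_G(K) is weakly closed in S with respect to G. -/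
theorem result {G : Type u} [Group G] [Finite G] {p : ℕ} [Fact p.Prime] (S : Sylow p G) (Z : Subgroup G) (hZ : Z = Subgroup.closure ((fun z : G => z ^ p) '' (((S : Subgroup G) ⊓ Subgroup.centralizer (((S : Subgroup G) : Subgroup G) : Set G) : Subgroup G) : Set G))) : (∀ x ∈ Z ⊓ Subgroup.centralizer ((Subgroup.normalizer ((Cfsg.inducedFunctor Cfsg.kInfLower (S : Subgroup G) : Subgroup G) : Set G) : Subgroup G) : Set G), ∀ g : G, g * x * g⁻¹ ∈ (S : Subgroup G) → g * x * g⁻¹ = x) ∧ ∀ A : Subgroup G, A ≤ Z → Subgroup.normalizer ((Cfsg.inducedFunctor Cfsg.kInfLower (S : Subgroup G) : Subgroup G) : Set G) ≤ Subgroup.normalizer ((A : Subgroup G) : Set G) → Cfsg.IsWeaklyClosed A (S : Subgroup G) := by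
  refine Cfsg.Agent.S1974.result S _ (isConjugacyFunctor_induced isCharPFunctor_kInfLower)
    (fun P hP => (center_le_inducedFunctor_kInf hP).1) (fun H T h1 h2 h3 hn => ?_) Z hZ
  obtain ⟨g, hg, hgQ, hz⟩ := exists_quadratic_center_of_not_le ⟨h1, h2, h3⟩ hn
  refine ⟨g, hg, hgQ, ?_⟩
  let Zc := Cfsg.pCoreOf p H ⊓ Subgroup.centralizer ((Cfsg.pCoreOf p H : Subgroup G) : Set G)
  have : IsMulCommutative ↥Zc :=
    Subgroup.le_centralizer_iff_isMulCommutative.mp (inf_le_right.trans (Subgroup.centralizer_le inf_le_left))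
  refine iterCommutator_eq_bot_of_forall (A := Zc) (n := 2) ?_ hz
  refine mem_normalizer_of_forall_conj_mem fun z hzz => ?_
  obtain ⟨⟨q, hq, rfl⟩, hzC⟩ := hzz
  let g0 : ↥H := ⟨g, h1 hg⟩
  refine Subgroup.mem_inf.mpr ⟨⟨g0 * q * g0⁻¹, Subgroup.Normal.conj_mem inferInstance q hq g0, rfl⟩, ?_⟩
  rw [Subgroup.mem_centralizer_iff]
  rintro _ ⟨r, hr, rfl⟩
  have h4 := Subgroup.mem_centralizer_iff.mp hzC ((g0⁻¹ * r * g0 : ↥H) : G) ⟨_, by simpa using (inferInstance : (Cfsg.pCore p ↥H).Normal).conj_mem r hr g0⁻¹, rfl⟩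
  have h5 := congrArg (fun x => g * x * g⁻¹) h4
  simpa [mul_assoc, g0] using h5

end Cfsg.Agent.S1986
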