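import Cfsg.Statements.S2007
import Cfsg.Agent.Transfer.NormalPComplement
import Mathlib.GroupTheory.Transfer
import Cfsg.Agent.LocalEvenBasic.SylowNormal

set_option autoImplicit false
open Cfsg

namespace Cfsg.Agent.S2007

/-- Let p be a prime, G a finite group with Sylow p-subgroup S, and T a normal subgroup of S containing C_S(T). If N_G(T)/C_G(T) is a p-group (every element of N_G(T) of order prime to p centralizes T), then N_G(T) has a normal p-complement. -/
theorem result {G : Type*} [Group G] [Finite G] {p : ℕ} [Fact p.Prime] (S : Sylow p G) (T : Subgroup G) (hTS : T ≤ (S : Subgroup G)) (hTn : (S : Subgroup G) ≤ Subgroup.normalizer ((T : Subgroup G) : Set G)) (hC : (S : Subgroup G) ⊓ Subgroup.centralizer ((T : Subgroup G) : Set G) ≤ T) (hN : ∀ g ∈ Subgroup.normalizer ((T : Subgroup G) : Set G), (orderOf g).Coprime p → g ∈ Subgroup.centralizer ((T : Subgroup G) : Set G)) : Cfsg.HasNormalPComplement p ↥(Subgroup.normalizer ((T : Subgroup G) : Set G)) := by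
  set N := Subgroup.normalizer ((T : Subgroup G) : Set G) with hNdef
  set C := Subgroup.centralizer ((T : Subgroup G) : Set G) with hCdef
  let C0 : Subgroup N := C.subgroupOf N
  have hC0n : C0.Normal := by
    refine ⟨fun x hx n => ?_⟩
    simp only [C0, Subgroup.mem_subgroupOf, hCdef, Subgroup.mem_centralizer_iff] at hx ⊢
    intro t ht
    have ht2 : (n : G)⁻¹ * t * n ∈ T := by
      have := (Subgroup.mem_normalizer_iff.1 (N.inv_mem n.2) t).1 ht
      simpa using this
    have h1 := hx _ ht2
    show t * ((n : G) * x * (n : G)⁻¹) = (n : G) * x * (n : G)⁻¹ * t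
    calc t * ((n : G) * x * (n : G)⁻¹) = n * (((n : G)⁻¹ * t * n) * x) * (n : G)⁻¹ := by group
      _ = n * (x * ((n : G)⁻¹ * t * n)) * (n : G)⁻¹ := by rw [h1]
      _ = _ := by group
  let S0 : Sylow p N := S.subtype hTn
  obtain ⟨P, hPmap⟩ := CfsgLib.LocalEvenBasic.exists_sylow_map_eq_inf S0 C0
  have hP : Subgroup.normalizer ((P : Subgroup C0) : Set C0) ≤
      Subgroup.centralizer ((P : Subgroup C0) : Set C0) := by
    intro c _
    rw [Subgroup.mem_centralizer_iff]
    intro x hx
    have hxS : ((x : N) : G) ∈ (S : Subgroup G) := by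
      have : (x : N) ∈ (S0 : Subgroup N) :=
        ((hPmap ▸ Subgroup.mem_map_of_mem C0.subtype hx : (x : N) ∈ (S0 : Subgroup N) ⊓ C0)).1
      simpa [S0, Sylow.coe_subtype, Subgroup.mem_subgroupOf] using this
    have hxT : ((x : N) : G) ∈ T := hC ⟨hxS, x.2⟩
    exact Subtype.ext (Subtype.ext (Subgroup.mem_centralizer_iff.1 c.2 _ hxT))
  have hpC : Cfsg.HasNormalPComplement p C0 :=
    ⟨P, _, inferInstance, MonoidHom.ker_transferSylow_isComplement' P hP⟩
  have hres : Cfsg.pResidual p N ≤ (Cfsg.pResidual p C0).map C0.subtype := by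
    refine (Subgroup.closure_le _).2 fun g hg => ?_
    have hgC : g ∈ C0 := Subgroup.mem_subgroupOf.2 (hN g g.2 (by rwa [Subgroup.orderOf_coe]))
    exact ⟨⟨g, hgC⟩, CfsgLib.Transfer.mem_pResidual_of_coprime (by rwa [← Subgroup.orderOf_coe]), rfl⟩
  rw [CfsgLib.Transfer.hasNormalPComplement_iff] at hpC ⊢
  intro hd
  refine hpC (hd.trans ?_)
  rw [← Subgroup.card_map_of_injective C0.subtype_injective]
  exact Subgroup.card_dvd_of_le hres

end Cfsg.Agent.S2007
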