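import Cfsg.Statements.S1988
import Cfsg.Agent.ConjFunctor.PComplementCrit
import Cfsg.Agent.ConjFunctor.FourEngel
import Cfsg.Agent.ConjFunctor.Corollaries
import Cfsg.Agent.S2007

set_option autoImplicit false
universe u
open Cfsg CfsgLib.ConjFunctor

namespace Cfsg.Agent.S1988

/-- Let p be an odd prime, G a finite group with Sylow p-subgroup S and K the lower K-infinity subgroup of S. If N_G(K) has a normal p-complement, or if N_G(K)/C_G(K) is a p-group (every element of N_G(K) of order prime to p centralizes K), then G has a normal p-complement. -/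
theorem result {G : Type u} [Group G] [Finite G] {p : ℕ} [Fact p.Prime] (hp : p ≠ 2) (S : Sylow p G) (h : Cfsg.HasNormalPComplement p ↥(Subgroup.normalizer ((Cfsg.inducedFunctor Cfsg.kInfLower (S : Subgroup G) : Subgroup G) : Set G)) ∨ ∀ g ∈ Subgroup.normalizer ((Cfsg.inducedFunctor Cfsg.kInfLower (S : Subgroup G) : Subgroup G) : Set G), (orderOf g).Coprime p → g ∈ Subgroup.centralizer ((Cfsg.inducedFunctor Cfsg.kInfLower (S : Subgroup G) : Subgroup G) : Set G)) : Cfsg.HasNormalPComplement p G := by
  have hW := isCharPFunctor_kInfLower.{u} (p := p)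
  have hN : Cfsg.HasNormalPComplement p ↥(Subgroup.normalizer ((Cfsg.inducedFunctor Cfsg.kInfLower (S : Subgroup G) : Subgroup G) : Set G)) := by
    rcases h with h | h
    · exact h
    refine Cfsg.Agent.S2007.result S _ (inducedFunctor_le _)
      (le_normalizer_functor (isConjugacyFunctor_induced hW) S.isPGroup') ?_ h
    have := S.isPGroup'.isNilpotent
    intro x hx
    refine ⟨⟨x, hx.1⟩, centralizer_kInf_le.1 (Subgroup.mem_centralizer_iff.mpr fun y hy => Subtype.ext ?_), rfl⟩
    exact Subgroup.mem_centralizer_iff.mp hx.2 _ (Subgroup.mem_map_of_mem _ hy)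
  refine hasNormalPComplement_of_functor hW S hN fun G' _ _ S' hcr => ?_
  obtain ⟨A, hd, -⟩ := exists_criticalData (G := G') (p := p)
  obtain ⟨g, hg, hgQ, -, -, hUV⟩ := exists_cubicElt (isSylowIn_top S') hd (Or.inl (not_normal_of_critical hcr))
  obtain ⟨U, V, hUV, hUA, h2, u, hu, hmov⟩ := hUV hcr.constrained
  refine hmov (false_of_engel_factor hcr.abelian hcr.quotient hg hUV (hUA.trans hd.le) (fun x hx => ?_) hu)
  have hUn := hUV.2.1
  have hVn := hUV.2.2.1
  have h2p : 2 ≤ p - 1 := by have := (Fact.out : p.Prime).two_le; omega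
  exact iterate_commutator_mem_of_le (m := 2) h2p (h2 x hx)

end Cfsg.Agent.S1988
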