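import Cfsg.Statements.S1989
import Cfsg.Agent.ConjFunctor.QdKInf
import Cfsg.Agent.ConjFunctor.Corollaries
import Cfsg.Agent.LocalEven.QdSection

set_option autoImplicit false
universe u
open Cfsg CfsgLib.ConjFunctor

namespace Cfsg.Agent.S1989

/-- Let p be an odd prime and G a finite group. Then Qd(p) (the natural semidirect product of an elementary abelian group of order p² by SL₂(p)) is not involved in G if and only if, in every section K/R of G and for every Sylow p-subgroup T of K/R, the lower K-infinity subgroup of T controls strong fusion in K/R. -/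
theorem result {G : Type u} [Group G] [Finite G] {p : ℕ} [Fact p.Prime] (hp : p ≠ 2) : ¬ Cfsg.Involves ↥(Cfsg.qd p) G ↔ ∀ (K R : Subgroup G) [hR : (R.subgroupOf K).Normal], ∀ T : Sylow p (↥K ⧸ R.subgroupOf K), Cfsg.ControlsStrongFusion p (Cfsg.inducedFunctor (G := (↥K ⧸ R.subgroupOf K)) Cfsg.kInfLower (T : Subgroup (↥K ⧸ R.subgroupOf K))) := by
  constructor
  · intro hfree K R hR T
    have hW : (fun (Q : Type u) [Group Q] => Cfsg.kInfLower Q) = (fun (Q : Type u) [Group Q] => Cfsg.kInfLower Q) := rfl
    refine controlsStrongFusion_kInf (p := p) (Or.inl hW) (fun K' R' _ => ?_) T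
    exact CfsgLib.LocalEven.isNormalizerPStable_of_qdFree hp fun h =>
      hfree (involves_trans (involves_trans (involves_section K R) (involves_section K' R')) h)
  · intro h hinv
    obtain ⟨K, R, hR, ⟨e⟩⟩ := hinv
    obtain ⟨T, hT⟩ := exists_not_controlsStrongFusion_qd e
    exact hT (h K R T)

end Cfsg.Agent.S1989
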