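import Cfsg.Statements.S1990
import Cfsg.Agent.ConjFunctor.SeriesStable
import Cfsg.Agent.Transfer.Tate

set_option autoImplicit false
universe u
open Cfsg CfsgLib.ConjFunctor

namespace Cfsg.Agent.S1990

/-- Let p be an odd prime, G a finite group with Sylow p-subgroup S, and W an isomorphism-invariant p-group functor (W assigns to every group Q a subgroup W(Q), nontrivial whenever Q is a nontrivial finite p-group, and every isomorphism from a finite p-group Q onto a group R carries W(Q) onto W(R)). Suppose N_G(W(S)) has a normal p-complement, and W(T) controls strong fusion in every section G* = K/R of G all of whose sections are p-stable in the normalizer form, for every Sylow p-subgroup T of G*. Then G has a normal p-complement. -/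
theorem result {G : Type u} [Group G] [Finite G] {p : ℕ} [Fact p.Prime] (hp : p ≠ 2) (W : ∀ (Q : Type u) [Group Q], Subgroup Q) (hW : Cfsg.IsCharPFunctor.{u} p W) (S : Sylow p G) (hN : Cfsg.HasNormalPComplement p ↥(Subgroup.normalizer ((Cfsg.inducedFunctor (G := G) W (S : Subgroup G) : Subgroup G) : Set G))) (hctl : ∀ (K R : Subgroup G) [hR : (R.subgroupOf K).Normal], (∀ (K' R' : Subgroup (↥K ⧸ R.subgroupOf K)) [hR' : (R'.subgroupOf K').Normal], Cfsg.IsNormalizerPStable p (↥K' ⧸ R'.subgroupOf K')) → ∀ T : Sylow p (↥K ⧸ R.subgroupOf K), Cfsg.ControlsStrongFusion p (Cfsg.inducedFunctor (G := (↥K ⧸ R.subgroupOf K)) W (T : Subgroup (↥K ⧸ R.subgroupOf K)))) : Cfsg.HasNormalPComplement p G := by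
  refine hasNormalPComplement_of_functor hW S hN fun G' _ _ S' hcr => ?_
  obtain ⟨K, R, hR, ⟨e⟩⟩ := hcr.ok
  have hser : HasPAbelianPSeries p (↥K ⧸ R.subgroupOf K) :=
    (hasPAbelianPSeries_of_quotient hcr.quotient hcr.abelian).of_injective e.toMonoidHom e.injective
  have hsy := isSylowIn_map (isSylowIn_top S') e.symm.toMonoidHom e.symm.surjective
  let T : Sylow p (↥K ⧸ R.subgroupOf K) := hsy.toSylowTop
  have hmapT : (T : Subgroup (↥K ⧸ R.subgroupOf K)).map e.toMonoidHom = (S' : Subgroup G') := by
    show (((S' : Subgroup G').map e.symm.toMonoidHom).map e.toMonoidHom) = _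
    rw [Subgroup.map_map]
    simp
  set U := Cfsg.inducedFunctor (G := (↥K ⧸ R.subgroupOf K)) W (T : Subgroup (↥K ⧸ R.subgroupOf K))
  have hX : Cfsg.HasNormalPComplement p ↥(Subgroup.normalizer (U : Set (↥K ⧸ R.subgroupOf K))) := by
    have h1 : NormalizerPNil p W G' (S' : Subgroup G') := hcr.cond
    unfold NormalizerPNil at h1
    rw [← hmapT, inducedFunctor_map hW e.toMonoidHom T.2 e.injective.injOn] at h1
    exact CfsgLib.Transfer.GlaubermanThompson.pnil_normalizer_of_map e.toMonoidHom e.injective
      (CfsgLib.Transfer.hasNormalPComplement_of_injective h1 (e.toMonoidHom.subgroupComap _)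
        fun a b hab => Subtype.ext (e.injective (congrArg Subtype.val hab :)))
  obtain ⟨T', hUT, hctlT⟩ := hctl K R (fun K' R' _ => isNormalizerPStable_of_series hp
    ((hser.of_injective K'.subtype K'.subtype_injective).of_surjective
      (QuotientGroup.mk' _) (QuotientGroup.mk'_surjective _))) T
  set X := Subgroup.normalizer (U : Set (↥K ⧸ R.subgroupOf K)) with hXdef
  have hTX : (T' : Subgroup (↥K ⧸ R.subgroupOf K)) ≤ X := fun t ht => by
    obtain ⟨n, hn, hne⟩ := (hctlT _ subset_rfl).2 t (Set.image_subset_iff.mpr fun a ha =>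
      Subgroup.mul_mem _ (Subgroup.mul_mem _ ht ha) (Subgroup.inv_mem _ ht))
    refine Subgroup.mem_normalizer_fintype fun u hu => ?_
    rw [hne u (hUT hu)]
    exact (Subgroup.mem_normalizer_iff.mp hn u).mp hu
  have hY : Cfsg.HasNormalPComplement p (↥K ⧸ R.subgroupOf K) := by
    refine CfsgLib.Transfer.hasNormalPComplement_of_controlsFusion_self T' fun x hx g hg => ?_
    obtain ⟨n, hn, hne⟩ := (hctlT {x} (Set.singleton_subset_iff.mpr hx)).2 g (by
      rw [Set.image_singleton]; exact Set.singleton_subset_iff.mpr hg)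
    have hne' := hne x rfl
    obtain ⟨t, ht, hte⟩ := CfsgLib.Transfer.controlsFusion_self_of_hasNormalPComplement hX
      (T'.subtype hTX) ⟨x, hTX hx⟩ hx ⟨n, hn⟩ (by
        rw [Sylow.coe_subtype, Subgroup.mem_subgroupOf]
        exact (hne' ▸ hg : n * x * n⁻¹ ∈ (T' : Subgroup (↥K ⧸ R.subgroupOf K))))
    rw [Sylow.coe_subtype, Subgroup.mem_subgroupOf] at ht
    exact ⟨t, ht, (congrArg Subtype.val hte).trans hne'.symm⟩
  exact hcr.not_pnil ((CfsgLib.Transfer.hasNormalPComplement_congr e).1 hY)

end Cfsg.Agent.S1990
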