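import Cfsg.Statements.S1992
import Cfsg.Agent.S1991
import Cfsg.Agent.Characters.Burnside
import Cfsg.Agent.Coprime.SchurZassenhaus

set_option autoImplicit false
open Cfsg CfsgLib.ConjFunctor

namespace Cfsg.Agent.S1992

/-- Let G be a finite group in which, for every prime q dividing the order of G, every Sylow q-subgroup is its own normalizer. Then the order of G is a power of a single prime (G is a q-group for some prime q; for G trivial any prime works). -/
theorem result {G : Type*} [Group G] [Finite G] (h : ∀ q : ℕ, q.Prime → q ∣ Nat.card G → ∀ Q : Sylow q G, Subgroup.normalizer ((Q : Subgroup G) : Set G) = Q) : ∃ q : ℕ, q.Prime ∧ IsPGroup q G := by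
  by_contra hcon
  push Not at hcon
  have hne : Nat.card G ≠ 1 := by
    intro h1
    refine hcon 2 Nat.prime_two ?_
    intro g
    refine ⟨0, ?_⟩
    have : Subsingleton G := (Nat.card_eq_one_iff_unique.mp h1).1
    exact Subsingleton.elim _ _
  -- a normal subgroup of prime index contradicts the Frattini argument
  have key : ∀ (N : Subgroup G), N.Normal → ∀ r : ℕ, r.Prime → N.index = r → False := by
    intro N hN r hr hidx
    obtain ⟨q, hq, hqd, hqr⟩ : ∃ q : ℕ, q.Prime ∧ q ∣ Nat.card G ∧ q ≠ r := by
      by_contra hh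
      push Not at hh
      refine hcon r hr (IsPGroup.of_card (n := (Nat.card G).primeFactorsList.length) ?_)
      exact Nat.eq_prime_pow_of_unique_prime_dvd Nat.card_pos.ne' fun {d} hd hdd => hh d hd hdd
    have := Fact.mk hq
    obtain ⟨Q⟩ := (inferInstance : Nonempty (Sylow q G))
    have hQN : (Q : Subgroup G) ≤ N := by
      intro x hx
      obtain ⟨k, hk⟩ := Q.2 ⟨x, hx⟩
      have hk' : x ^ q ^ k = 1 := congrArg Subtype.val hk
      have hxr : x ^ r ∈ N := hidx ▸ N.pow_index_mem x
      have hcop : (q ^ k).Coprime r := ((Nat.coprime_primes hq hr).mpr hqr).pow_left k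
      have e : x ^ ((q ^ k : ℕ) : ℤ) = 1 := by rw [zpow_natCast]; exact hk'
      have : x = (x ^ r) ^ (Nat.gcdB (q ^ k) r) := by
        have h2 := Nat.gcd_eq_gcd_ab (q ^ k) r
        rw [hcop] at h2
        calc x = x ^ ((1 : ℕ) : ℤ) := by simp
          _ = (x ^ r) ^ (Nat.gcdB (q ^ k) r) := by
            rw [h2, zpow_add, zpow_mul, e, one_zpow, one_mul, zpow_mul, zpow_natCast]
      rw [this]
      exact N.zpow_mem hxr _
    have hf := Sylow.normalizer_sup_eq_top' Q hQN
    rw [show Subgroup.normalizer (Q : Set G) = (Q : Subgroup G) from h q hq hqd Q, sup_eq_right.mpr hQN] at hf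
    rw [hf, Subgroup.index_top] at hidx
    exact hr.one_lt.ne hidx
  by_cases h5 : ∃ p : ℕ, p.Prime ∧ p ∣ Nat.card G ∧ 5 ≤ p
  · obtain ⟨p, hp, hpd, hp5⟩ := h5
    have := Fact.mk hp
    obtain ⟨S⟩ := (inferInstance : Nonempty (Sylow p G))
    obtain ⟨N, hN, hidx⟩ := Cfsg.Agent.S1991.result hp5 S (S.ne_bot_of_dvd_card hpd) fun g hg hgo => by
      rw [h p hp hpd S] at hg
      obtain ⟨k, hk⟩ := S.2 ⟨g, hg⟩
      have hk' : g ^ p ^ k = 1 := congrArg Subtype.val hk
      rw [orderOf_eq_one_iff.mp (Nat.eq_one_of_dvd_coprimes (hgo.pow_right k) dvd_rfl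
        (orderOf_dvd_of_pow_eq_one hk'))]
      exact Subgroup.one_mem _
    exact key N hN p hp hidx
  push Not at h5
  have : Group.IsSolvable G := by
    refine CfsgLib.Characters.isSolvable_of_card_eq_primePow_mul 2 3
      ((Nat.card G).factorization 2) ((Nat.card G).factorization 3) Nat.prime_two Nat.prime_three ?_
    rw [← Nat.factorization_le_iff_dvd Nat.card_pos.ne' (by positivity)]
    intro d
    rw [Nat.factorization_mul (by positivity) (by positivity), Nat.factorization_pow, Nat.factorization_pow,
      Nat.Prime.factorization Nat.prime_two, Nat.Prime.factorization Nat.prime_three]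
    simp only [Finsupp.coe_add, Finsupp.coe_smul, Pi.add_apply, Pi.smul_apply, smul_eq_mul]
    by_cases hd : d.Prime ∧ d ∣ Nat.card G
    · have hlt := h5 d hd.1 hd.2
      have h2 := hd.1.two_le
      interval_cases d
      · simp
      · simp
      · norm_num at hd
    · rw [Nat.factorization_eq_zero_iff _ d |>.mpr (by tauto)]
      exact Nat.zero_le _
  have : Nontrivial G := Finite.one_lt_card_iff_nontrivial.mp (by have := Nat.card_pos (α := G); omega)
  obtain ⟨N, hN, hr⟩ := CfsgLib.Coprime.exists_normal_index_prime G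
  exact key N hN N.index hr rfl

end Cfsg.Agent.S1992
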