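import Cfsg.Statements.S1997
import Cfsg.Agent.ConjFunctor.FactorPair

set_option autoImplicit false
universe u
open Cfsg CfsgLib.ConjFunctor

namespace Cfsg.Agent.S1997

/-- Let p be a prime, G a finite group with Sylow p-subgroup S, and W₁, W₂ two isomorphism-invariant p-group functors (W assigns to every group Q a subgroup W(Q), nontrivial whenever Q is a nontrivial finite p-group, and every isomorphism from a finite p-group Q onto a group R carries W(Q) onto W(R)). Suppose that G* = C_{G*}(Ω₁Z(S*)) N_{G*}(W₁(S*)) = C_{G*}(Ω₁Z(S*)) N_{G*}(W₂(S*)) = N_{G*}(W₁(S*)) N_{G*}(W₂(S*)) whenever G* = K/R is a section of G with C_{G*}(O_p(G*)) ≤ O_p(G*) and S* is a Sylow p-subgroup of G*, where Ω₁Z denotes the subgroup generated by the elements of order dividing p in the centre. Suppose also Ω₁Z(S) ≤ W₁(S) ∩ W₂(S), and let A be the normal closure of Ω₁Z(S) in N_G(W₁(S)). Then A is an elementary abelian subgroup of S, strongly closed in S with respect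 to G, and A controls strong fusion in G. -/
theorem result {G : Type u} [Group G] [Finite G] {p : ℕ} [Fact p.Prime] (S : Sylow p G) (W₁ W₂ : ∀ (Q : Type u) [Group Q], Subgroup Q) (hW₁ : Cfsg.IsCharPFunctor.{u} p W₁) (hW₂ : Cfsg.IsCharPFunctor.{u} p W₂) (hfac : ∀ (K R : Subgroup G) [hR : (R.subgroupOf K).Normal], Subgroup.centralizer ((Cfsg.pCore p (↥K ⧸ R.subgroupOf K) : Subgroup (↥K ⧸ R.subgroupOf K)) : Set (↥K ⧸ R.subgroupOf K)) ≤ Cfsg.pCore p (↥K ⧸ R.subgroupOf K) → ∀ T : Sylow p (↥K ⧸ R.subgroupOf K), (∀ x : (↥K ⧸ R.subgroupOf K), ∃ a ∈ Subgroup.centralizer ((Cfsg.omegaOne p ((T : Subgroup (↥K ⧸ R.subgroupOf K)) ⊓ Subgroup.centralizer (((T : Subgroup (↥K ⧸ R.subgroupOf K)) : Subgroup (↥K ⧸ R.subgroupOf K)) : Set (↥K ⧸ R.subgroupOf K))) : Subgroup (↥K ⧸ R.subgroupOf K)) : Set (↥K ⧸ R.subgroupOf K)), ∃ b ∈ Subgroup.normalizer ((Cfsg.inducedFunctor (G := (↥K ⧸ R.subgroupOf K)) W₁ (T : Subgroup (↥K ⧸ R.subgroupOf K)) : Subgroup (↥K ⧸ R.subgroupOf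 K)) : Set (↥K ⧸ R.subgroupOf K)), x = a * b) ∧ (∀ x : (↥K ⧸ R.subgroupOf K), ∃ a ∈ Subgroup.centralizer ((Cfsg.omegaOne p ((T : Subgroup (↥K ⧸ R.subgroupOf K)) ⊓ Subgroup.centralizer (((T : Subgroup (↥K ⧸ R.subgroupOf K)) : Subgroup (↥K ⧸ R.subgroupOf K)) : Set (↥K ⧸ R.subgroupOf K))) : Subgroup (↥K ⧸ R.subgroupOf K)) : Set (↥K ⧸ R.subgroupOf K)), ∃ b ∈ Subgroup.normalizer ((Cfsg.inducedFunctor (G := (↥K ⧸ R.subgroupOf K)) W₂ (T : Subgroup (↥K ⧸ R.subgroupOf K)) : Subgroup (↥K ⧸ R.subgroupOf K)) : Set (↥K ⧸ R.subgroupOf K)), x = a * b) ∧ (∀ x : (↥K ⧸ R.subgroupOf K), ∃ a ∈ Subgroup.normalizer ((Cfsg.inducedFunctor (G := (↥K ⧸ R.subgroupOf K)) W₁ (T : Subgroup (↥K ⧸ R.subgroupOf K)) : Subgroup (↥K ⧸ R.subgroupOf K)) : Set (↥K ⧸ R.subgroupOf K)), ∃ b ∈ Subgroup.normalizer ((Cfsg.inducedFunctor (G := (↥K ⧸ R.subgroupOf K)) W₂ (T : Subgroup (↥K ⧸ R.subgroupOf K)) : Subgroup (↥K ⧸ R.subgroupOf K)) : Set (↥K ⧸ R.subgroupOf K)), x = a * b)) (hZ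 : Cfsg.omegaOne p ((S : Subgroup G) ⊓ Subgroup.centralizer (((S : Subgroup G) : Subgroup G) : Set G)) ≤ Cfsg.inducedFunctor (G := G) W₁ (S : Subgroup G) ⊓ Cfsg.inducedFunctor (G := G) W₂ (S : Subgroup G)) (N₁ : Subgroup G) (hN₁ : N₁ = Subgroup.normalizer ((Cfsg.inducedFunctor (G := G) W₁ (S : Subgroup G) : Subgroup G) : Set G)) (A : Subgroup G) (hA : A = (Subgroup.normalClosure (((Cfsg.omegaOne p ((S : Subgroup G) ⊓ Subgroup.centralizer (((S : Subgroup G) : Subgroup G) : Set G))).subgroupOf N₁ : Subgroup ↥N₁) : Set ↥N₁)).map N₁.subtype) : A ≤ (S : Subgroup G) ∧ Cfsg.IsElementaryAbelian p A ∧ Cfsg.IsStronglyClosed A (S : Subgroup G) ∧ Cfsg.ControlsStrongFusion p A := by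
  classical
  set Z0 := Cfsg.omegaOne p ((S : Subgroup G) ⊓ Subgroup.centralizer (((S : Subgroup G) : Subgroup G) : Set G)) with hZ0
  have hS := isSylowIn_top S
  let N₂ : Subgroup G := Subgroup.normalizer ((Cfsg.inducedFunctor (G := G) W₂ (S : Subgroup G) : Subgroup G) : Set G)
  subst hN₁
  set N₁ := Subgroup.normalizer ((Cfsg.inducedFunctor (G := G) W₁ (S : Subgroup G) : Subgroup G) : Set G)
  have hSN1 : (S : Subgroup G) ≤ N₁ := le_normalizer_functor (isConjugacyFunctor_induced hW₁) S.2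
  have hSN2 : (S : Subgroup G) ≤ N₂ := le_normalizer_functor (isConjugacyFunctor_induced hW₂) S.2
  have hf1 := fun (K R : Subgroup G) [hR : (R.subgroupOf K).Normal] (hc : IsConstrained p (↥K ⧸ R.subgroupOf K)) (T : Sylow p (↥K ⧸ R.subgroupOf K)) => (hfac K R hc T).1
  have hf2 := fun (K R : Subgroup G) [hR : (R.subgroupOf K).Normal] (hc : IsConstrained p (↥K ⧸ R.subgroupOf K)) (T : Sylow p (↥K ⧸ R.subgroupOf K)) => (hfac K R hc T).2.1
  have key : ∀ (n : ℕ) (H : Subgroup G), Nat.card H ≤ n → (S : Subgroup G) ≤ H →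
      conjClosure (H ⊓ N₁) Z0 = conjClosure (H ⊓ N₂) Z0 := by
    intro n
    induction n with
    | zero => intro H h _; exact absurd h (Nat.not_le.2 Nat.card_pos)
    | succ n ih =>
      intro H hH hSH
      have side : ∀ (W W' : ∀ (Q : Type u) [Group Q], Subgroup Q), Cfsg.IsCharPFunctor.{u} p W' →
          (∀ (K R : Subgroup G) [hR : (R.subgroupOf K).Normal],
            IsConstrained p (↥K ⧸ R.subgroupOf K) → ∀ (T : Sylow p (↥K ⧸ R.subgroupOf K))
              (x : ↥K ⧸ R.subgroupOf K),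
              ∃ a ∈ Subgroup.centralizer ((Cfsg.omegaOne p ((T : Subgroup (↥K ⧸ R.subgroupOf K)) ⊓
                Subgroup.centralizer ((T : Subgroup (↥K ⧸ R.subgroupOf K)) : Set _)) :
                  Subgroup (↥K ⧸ R.subgroupOf K)) : Set (↥K ⧸ R.subgroupOf K)),
              ∃ b ∈ Subgroup.normalizer ((Cfsg.inducedFunctor W' (T : Subgroup (↥K ⧸ R.subgroupOf K)) :
                Subgroup (↥K ⧸ R.subgroupOf K)) : Set (↥K ⧸ R.subgroupOf K)), x = a * b) →
          Z0 ≤ Cfsg.inducedFunctor W (S : Subgroup G) →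
          (S : Subgroup G) ≤ Subgroup.normalizer ((Cfsg.inducedFunctor W (S : Subgroup G) : Subgroup G) : Set G) →
          (∀ R : Subgroup G, R < H → (S : Subgroup G) ≤ R →
            conjClosure (R ⊓ Subgroup.normalizer ((Cfsg.inducedFunctor W (S : Subgroup G) : Subgroup G) : Set G)) Z0 =
            conjClosure (R ⊓ Subgroup.normalizer ((Cfsg.inducedFunctor W' (S : Subgroup G) : Subgroup G) : Set G)) Z0) →
          conjClosure (H ⊓ Subgroup.normalizer ((Cfsg.inducedFunctor W (S : Subgroup G) : Subgroup G) : Set G)) Z0 ≤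
            conjClosure (H ⊓ Subgroup.normalizer ((Cfsg.inducedFunctor W' (S : Subgroup G) : Subgroup G) : Set G)) Z0 := by
        intro W W' hW' hf hZW hSW hlow
        set N := Subgroup.normalizer ((Cfsg.inducedFunctor W (S : Subgroup G) : Subgroup G) : Set G) with hN
        by_cases hle : H ≤ N
        · refine (conjClosure_mono inf_le_left).trans (conjClosure_le_of_normalized hW' S hf hSH hle hZW fun R hR hSR => ?_)
          have h1 := hlow R hR hSR
          rw [inf_eq_left.mpr (hR.le.trans hle)] at h1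
          exact h1.le
        · have h1 := hlow (H ⊓ N) (inf_lt_left.mpr hle) (le_inf hSH hSW)
          rw [inf_eq_left.mpr (inf_le_right : H ⊓ N ≤ N)] at h1
          rw [h1]
          exact conjClosure_mono (inf_le_inf_right _ inf_le_left)
      have hsmall : ∀ R : Subgroup G, R < H → (S : Subgroup G) ≤ R →
          conjClosure (R ⊓ N₁) Z0 = conjClosure (R ⊓ N₂) Z0 := fun R hR hSR =>
        ih R (by have := card_lt_of_lt hR; omega) hSR
      exact le_antisymm (side W₁ W₂ hW₂ hf2 (hZ.trans inf_le_left) hSN1 hsmall)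
        (side W₂ W₁ hW₁ hf1 (hZ.trans inf_le_right) hSN2 fun R hR hSR => (hsmall R hR hSR).symm)
  have h12 := key _ ⊤ le_rfl le_top
  rw [top_inf_eq, top_inf_eq] at h12
  have hAcl : A = conjClosure N₁ Z0 := by
    rw [hA]
    refine le_antisymm (Subgroup.map_le_iff_le_comap.mpr ?_) ((Subgroup.closure_le _).mpr ?_)
    · have hn : ((conjClosure N₁ Z0).subgroupOf N₁).Normal :=
        Subgroup.normal_subgroupOf_of_le_normalizer le_normalizer_conjClosure
      refine Subgroup.normalClosure_le_normal (N := (conjClosure N₁ Z0).subgroupOf N₁) ?_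
      intro z hz
      have := mem_conjClosure (Z := Z0) (H := N₁) N₁.one_mem (Subgroup.mem_subgroupOf.mp hz)
      rw [one_mul, inv_one, mul_one] at this
      exact this
    · rintro _ ⟨h, hh, z, hz, rfl⟩
      have hzN : z ∈ N₁ := hSN1 (((Subgroup.closure_le _).mpr fun x hx => hx.1.1) hz)
      exact ⟨⟨h, hh⟩ * ⟨z, hzN⟩ * (⟨h, hh⟩)⁻¹, Subgroup.normalClosure_normal.conj_mem _
        (Subgroup.subset_normalClosure (show (⟨z, hzN⟩ : N₁) ∈ Z0.subgroupOf N₁ from hz)) _, rfl⟩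
  -- `A` is elementary abelian inside `W₁ S`
  set U := Cfsg.inducedFunctor (G := G) W₁ (S : Subgroup G)
  have hUS : U ≤ (S : Subgroup G) := inducedFunctor_le _
  have hZs : ∀ z ∈ Z0, z ∈ U ⊓ Subgroup.centralizer (U : Set G) ∧ z ^ p = 1 := by
    have hpow : ∀ z ∈ Z0, z ∈ Subgroup.centralizer ((S : Subgroup G) : Set G) ∧ z ^ p = 1 ∧ z ∈ (S : Subgroup G) := by
      intro z hz
      induction hz using Subgroup.closure_induction with
      | mem x hx => exact ⟨hx.1.2, hx.2, hx.1.1⟩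
      | one => exact ⟨one_mem _, one_pow _, one_mem _⟩
      | mul x y _ _ hx hy =>
        exact ⟨mul_mem hx.1 hy.1, by rw [(show Commute x y from (Subgroup.mem_centralizer_iff.mp hx.1 y hy.2.2).symm).mul_pow, hx.2.1, hy.2.1, one_mul], mul_mem hx.2.2 hy.2.2⟩
      | inv x _ hx => exact ⟨inv_mem hx.1, by rw [inv_pow, hx.2.1, inv_one], inv_mem hx.2.2⟩
    exact fun z hz => ⟨Subgroup.mem_inf.mpr ⟨(hZ hz).1, Subgroup.centralizer_le hUS (hpow z hz).1⟩, (hpow z hz).2.1⟩
  have hAp : ∀ a ∈ A, a ∈ U ⊓ Subgroup.centralizer (U : Set G) ∧ a ^ p = 1 := by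
    intro a ha
    rw [hAcl] at ha
    induction ha using Subgroup.closure_induction with
    | mem x hx =>
      obtain ⟨h, hh, z, hz, rfl⟩ := hx
      obtain ⟨hzU, hzp⟩ := hZs z hz
      refine ⟨?_, by rw [conj_pow, hzp]; group⟩
      have e : h *• (U ⊓ Subgroup.centralizer (U : Set G)) = U ⊓ Subgroup.centralizer (U : Set G) := by
        rw [cj_inf]
        congr 1
        · exact cj_eq_of_mem_normalizer hh
        · exact mem_normalizer_iff_cj.mp (Subgroup.mem_normalizer_fintype fun y hy => by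
            refine Subgroup.mem_centralizer_iff.mpr fun u hu => ?_
            have h1 := Subgroup.mem_centralizer_iff.mp hy _ ((Subgroup.mem_normalizer_iff.mp (inv_mem hh) u).mp hu)
            rw [inv_inv] at h1
            calc u * (h * y * h⁻¹) = h * (h⁻¹ * u * h * y) * h⁻¹ := by group
              _ = h * (y * (h⁻¹ * u * h)) * h⁻¹ := by rw [h1]
              _ = _ := by group)
      rw [← e]
      exact conj_mem_cj h hzU
    | one => exact ⟨one_mem _, one_pow _⟩
    | mul x y _ _ hx hy =>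
      exact ⟨mul_mem hx.1 hy.1, by rw [(show Commute x y from Subgroup.mem_centralizer_iff.mp hy.1.2 x hx.1.1).mul_pow, hx.2, hy.2, one_mul]⟩
    | inv x _ hx => exact ⟨inv_mem hx.1, by rw [inv_pow, hx.2, inv_one]⟩
  have hAS : A ≤ (S : Subgroup G) := fun a ha => hUS (hAp a ha).1.1
  have hel : Cfsg.IsElementaryAbelian p A :=
    ⟨⟨⟨fun a b => Subtype.ext (Subgroup.mem_centralizer_iff.mp (hAp b b.2).1.2 a (hAp a a.2).1.1)⟩⟩, fun a ha => (hAp a ha).2⟩
  -- fusion
  have hM1 : N₁ ≤ Subgroup.normalizer (A : Set G) := hAcl ▸ le_normalizer_conjClosure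
  have hM2 : N₂ ≤ Subgroup.normalizer (A : Set G) := by rw [hAcl, h12]; exact le_normalizer_conjClosure
  let 𝓦 : Set (∀ (Q : Type u) [Group Q], Subgroup Q) := {W₁, W₂}
  have h𝓦 : ∀ W ∈ 𝓦, Cfsg.IsCharPFunctor.{u} p W := by
    rintro W (rfl | rfl)
    exacts [hW₁, hW₂]
  have hfus := familyFusion_section h𝓦 (G := G) (fun K R _ hc => by
    let T : Sylow p (↥K ⧸ R.subgroupOf K) := default
    refine familyControlsStrongFusionIn_iff.mpr ⟨_, isSylowIn_top T, ?_⟩
    refine (fusControls_of_factor (isSylowIn_top T)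
      (le_normalizer_functor (isConjugacyFunctor_induced hW₁) T.2)
      (le_normalizer_functor (isConjugacyFunctor_induced hW₂) T.2) (hfac K R hc T).2.2).mono ?_
    rintro M (rfl | hM)
    · exact ⟨_, ⟨_, ⟨W₁, Or.inl rfl, rfl⟩, rfl⟩, le_inf le_top le_rfl⟩
    · rw [Set.mem_singleton_iff] at hM
      subst hM
      exact ⟨_, ⟨_, ⟨W₂, Or.inr rfl, rfl⟩, rfl⟩, le_inf le_top le_rfl⟩) G (involves_equiv (MulEquiv.refl G))
  have hctl : FusControls {Subgroup.normalizer (A : Set G)} (S : Subgroup G) ⊤ := by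
    refine (fusControls_of_family (isConjugacyFunctor_induced_image h𝓦) hfus hS).mono ?_
    rintro _ ⟨_, ⟨W, hW, rfl⟩, rfl⟩
    refine ⟨_, rfl, ?_⟩
    rcases hW with rfl | hW
    · exact inf_le_right.trans hM1
    · rw [Set.mem_singleton_iff] at hW
      subst hW
      exact inf_le_right.trans hM2
  refine ⟨hAS, hel, ⟨hAS, fun a ha g hg => ?_⟩, ⟨S, hAS, fun B hB => ⟨hB, fun g hg => ?_⟩⟩⟩
  · obtain ⟨x, hx, hxa⟩ := (hctl {a} g trivial (Set.singleton_subset_iff.mpr (hAS ha))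
      (by rintro _ ⟨b, rfl, rfl⟩; exact hg)).exists_mem_of_singleton
    rw [← hxa a rfl]
    exact (Subgroup.mem_normalizer_iff.mp hx a).mp ha
  · obtain ⟨x, hx, hxa⟩ := (hctl B g trivial hB hg).exists_mem_of_singleton
    exact ⟨x, hx, fun b hb => (hxa b hb).symm⟩

end Cfsg.Agent.S1997
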