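import Cfsg.Statements.S1999
import Cfsg.Agent.NoOffender.Main

set_option autoImplicit false
universe u
open Cfsg Equiv CfsgLib.ConjFunctor

namespace Cfsg.Agent.S1999

/-- The facts about the symmetric group of degree 4 used below. -/
theorem s4_facts : ∃ z w g : Equiv.Perm (Fin 4), z * z = 1 ∧ z ≠ 1 ∧ w ≠ z ∧ w * z = z * w ∧
    g * z * g⁻¹ = w ∧
    Nat.card {x : Equiv.Perm (Fin 4) // x * z = z * x} = 8 ∧
    (∀ x, x * z = z * x → (∀ y, y * z = z * y → y * x = x * y) → x = 1 ∨ x = z) ∧
    (∀ x, x * z = z * x → ∃ a b, a * z = z * a ∧ b * z = z * b ∧ a * a = 1 ∧ b * b = 1 ∧ x = a * b) :=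
  ⟨c[0, 1] * c[2, 3], c[0, 2] * c[1, 3], c[1, 2], by decide, by decide, by decide, by decide,
    by decide, by rw [Nat.card_eq_fintype_card]; decide, by decide, by decide⟩

theorem not_control {Y : Type u} [Group Y] [Finite Y] (e : Y ≃* Equiv.Perm (Fin 4)) :
    ¬ FamilyControlsStrongFusionIn 2 (indFam CfsgLib.NoOffender.zjFam Y) ⊤ := by
  classical
  intro hctl
  obtain ⟨z₀, w₀, g₀, hzz, hz1, hwz, hcomm, hgz, hcard, hcen, hgen⟩ := s4_facts
  set z := e.symm z₀ with hz
  set T : Subgroup Y := Subgroup.centralizer ({z} : Set Y) with hT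
  have hmem : ∀ x : Y, x ∈ T ↔ e x * z₀ = z₀ * e x := fun x => by
    rw [hT, Subgroup.mem_centralizer_singleton_iff]
    refine ⟨fun h => ?_, fun h => e.injective ?_⟩
    · simpa [hz] using congrArg e h
    · simpa [hz] using h
  have hTcard : Nat.card T = 8 := by
    rw [← hcard]
    exact Nat.card_congr (e.toEquiv.subtypeEquiv hmem)
  have hTp : IsPGroup 2 T := IsPGroup.of_card (n := 3) (by rw [hTcard]; norm_num)
  have hTs : IsSylowIn 2 T ⊤ := by
    refine ⟨le_top, hTp, ?_⟩
    rw [Subgroup.relIndex_top_right]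
    have h1 := Subgroup.card_mul_index T
    rw [hTcard, Nat.card_congr e.toEquiv, Nat.card_eq_fintype_card, Fintype.card_perm,
      Fintype.card_fin, show Nat.factorial 4 = 24 from rfl] at h1
    omega
  have hzT : z ∈ T := Subgroup.mem_centralizer_singleton_iff.2 rfl
  have hTne : T ≠ ⊥ := fun h => by
    rw [h, Subgroup.card_bot] at hTcard
    omega
  -- the centre of `T`
  have hcenT : ∀ x ∈ T ⊓ Subgroup.centralizer (T : Set Y), x = 1 ∨ x = z := by
    intro x hx
    rcases hcen (e x) ((hmem x).1 hx.1) (fun y hy => by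
      have := congrArg e (Subgroup.mem_centralizer_iff.1 hx.2 (e.symm y)
        ((hmem _).2 (by simpa using hy)))
      simpa using this) with h | h
    · exact Or.inl (e.injective (h.trans (map_one e).symm))
    · exact Or.inr (by rw [hz, ← h, MulEquiv.symm_apply_apply])
  have hzcen : z ∈ T ⊓ Subgroup.centralizer (T : Set Y) :=
    ⟨hzT, Subgroup.mem_centralizer_iff.2 fun q hq => Subgroup.mem_centralizer_singleton_iff.1 hq⟩
  have hNle : ∀ x : Y, x ∈ Subgroup.normalizer ((T ⊓ Subgroup.centralizer (T : Set Y) : Subgroup Y) : Set Y) →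
      x ∈ T := by
    intro x hx
    rcases hcenT _ ((Subgroup.mem_normalizer_iff.1 hx z).1 hzcen) with h | h
    · refine absurd ?_ hz1
      have h2 : z = 1 := by simpa [mul_assoc] using congrArg (fun y => x⁻¹ * y * x) h
      simpa [hz] using congrArg e h2
    · exact Subgroup.mem_centralizer_singleton_iff.2 (mul_inv_eq_iff_eq_mul.1 h)
  have hJ : thompsonSubgroupOf 2 T = T := by
    refine le_antisymm (CfsgLib.PLocal.thompsonSubgroupOf_le 2 T) fun x hx => ?_
    have hle4 : ∀ E ≤ T, IsElementaryAbelian 2 E → Nat.card E ≤ 4 := by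
      intro E hE hEel
      have h1 : Nat.card E ∣ 8 := hTcard ▸ Subgroup.card_dvd_of_le hE
      by_contra h4
      have h8 : Nat.card E = 8 := by
        have := Nat.le_of_dvd (by norm_num) h1
        interval_cases h : Nat.card E <;> omega
      have hET : E = T := Subgroup.eq_of_le_of_card_ge hE (by rw [hTcard, h8])
      have := hEel.1
      have hc : T ≤ T ⊓ Subgroup.centralizer (T : Set Y) := fun y hy =>
        ⟨hy, Subgroup.mem_centralizer_iff.2 fun q hq => congrArg Subtype.val
          (mul_comm' (⟨q, hET.symm ▸ hq⟩ : E) ⟨y, hET.symm ▸ hy⟩)⟩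
      have h2 : Nat.card T ≤ Nat.card ({1, z} : Set Y) := by
        refine Nat.card_mono (Set.toFinite _) fun y hy => ?_
        rcases hcenT y (hc hy) with h | h <;> simp [h]
      have h3 : Nat.card ({1, z} : Set Y) ≤ 2 := by
        rw [Nat.card_coe_set_eq]
        exact (Set.ncard_insert_le _ _).trans (by simp)
      omega
    have hinv : ∀ a ∈ T, a * a = 1 → a ∈ thompsonSubgroupOf 2 T := by
      intro a ha haa
      by_cases hthm : ∀ E ≤ T, IsElementaryAbelian 2 E → Nat.card E ≤
          Nat.card ↥(Subgroup.zpowers a ⊔ Subgroup.zpowers z)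
      · refine CfsgLib.PLocal.le_thompsonSubgroupOf ⟨sup_le (Subgroup.zpowers_le.2 ha) (Subgroup.zpowers_le.2 hzT), ?_,
          hthm⟩ (Subgroup.mem_sup_left (Subgroup.mem_zpowers a))
        refine CfsgLib.PLocal.isElementaryAbelian_sup
          (CfsgLib.PLocal.isElementaryAbelian_zpowers (by rw [sq]; exact haa))
          (CfsgLib.PLocal.isElementaryAbelian_zpowers (by
            rw [sq]; exact e.injective (by simp [hz, hzz]))) ?_
        rw [Subgroup.zpowers_le, Subgroup.mem_centralizer_iff]
        rintro _ ⟨k, rfl⟩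
        exact ((Commute.zpow_left (Subgroup.mem_centralizer_singleton_iff.1 ha).symm k) :)
      · push Not at hthm
        obtain ⟨E, hE, hEel, hlt⟩ := hthm
        have h4 := hle4 E hE hEel
        have hzle : Nat.card (Subgroup.zpowers z) = 2 := by
          rw [Nat.card_zpowers]
          exact orderOf_eq_prime (by rw [sq]; exact e.injective (by simp [hz, hzz]))
            (fun h => hz1 (by simpa [hz] using congrArg e h))
        have h2 : 2 ∣ Nat.card ↥(Subgroup.zpowers a ⊔ Subgroup.zpowers z) :=
          hzle ▸ Subgroup.card_dvd_of_le le_sup_right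
        have h8 : Nat.card ↥(Subgroup.zpowers a ⊔ Subgroup.zpowers z) ∣ 8 := hTcard ▸
          Subgroup.card_dvd_of_le (sup_le (Subgroup.zpowers_le.2 ha) (Subgroup.zpowers_le.2 hzT))
        have heq : Nat.card ↥(Subgroup.zpowers a ⊔ Subgroup.zpowers z) = 2 := by
          have := Nat.le_of_dvd (by norm_num) h8
          interval_cases h : Nat.card ↥(Subgroup.zpowers a ⊔ Subgroup.zpowers z) <;> omega
        have heq' := Subgroup.eq_of_le_of_card_ge (le_sup_right : Subgroup.zpowers z ≤ _)
          (show Nat.card ↥(Subgroup.zpowers a ⊔ Subgroup.zpowers z) ≤ _ by rw [heq, hzle])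
        have haz : a ∈ Subgroup.zpowers z := heq'.symm ▸ Subgroup.mem_sup_left (Subgroup.mem_zpowers a)
        obtain ⟨A, hA⟩ := CfsgLib.PLocal.maxEAIn_nonempty 2 T
        refine CfsgLib.PLocal.le_thompsonSubgroupOf hA (?_ : a ∈ A)
        have hAz : IsElementaryAbelian 2 (A ⊔ Subgroup.zpowers z) :=
          CfsgLib.PLocal.isElementaryAbelian_sup hA.2.1
            (CfsgLib.PLocal.isElementaryAbelian_zpowers (x := z) (by
              rw [sq]; exact e.injective (by simp [hz, hzz])))
            fun y hy => Subgroup.mem_centralizer_iff.2 fun q hq => by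
              obtain ⟨k, rfl⟩ := hq
              exact ((Commute.zpow_left
                (Subgroup.mem_centralizer_singleton_iff.1 (hA.1 hy)).symm k) :)
        rw [Subgroup.eq_of_le_of_card_ge (le_sup_left : A ≤ A ⊔ Subgroup.zpowers z)
          (hA.2.2 _ (sup_le hA.1 (Subgroup.zpowers_le.2 hzT)) hAz)]
        exact Subgroup.mem_sup_right haz
    obtain ⟨a, b, ha, hb, haa, hbb, hab⟩ := hgen (e x) ((hmem x).1 hx)
    rw [show x = e.symm a * e.symm b by rw [← map_mul, ← hab, MulEquiv.symm_apply_apply]]
    exact mul_mem (hinv _ ((hmem _).2 (by simpa using ha)) (by rw [← map_mul, haa, map_one]))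
      (hinv _ ((hmem _).2 (by simpa using hb)) (by rw [← map_mul, hbb, map_one]))
  have hM : ∀ M ∈ famIn (indFam CfsgLib.NoOffender.zjFam Y) ⊤ T,
      ∃ M' ∈ ({T} : Set (Subgroup Y)), M ≤ M' := by
    rintro _ ⟨_, ⟨W, hW, rfl⟩, rfl⟩
    refine ⟨T, rfl, fun x hx => hNle x ?_⟩
    rcases hW with rfl | rfl
    · have h : x ∈ Subgroup.normalizer ((inducedFunctor (G := Y) (fun Q [Group Q] => Subgroup.center Q)
          T : Subgroup Y) : Set Y) := hx.2
      rwa [CfsgLib.NoOffender.inducedFunctor_center] at h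
    · have h : x ∈ Subgroup.normalizer ((thompsonSubgroupOf 2 T : Subgroup Y) : Set Y) := hx.2
      rw [hJ] at h
      rw [← CfsgLib.NoOffender.inducedFunctor_center T]
      exact (normalizer_le_normalizer_functor (isConjugacyFunctor_induced
        (CfsgLib.NoOffender.isCharPFunctor_center.{u} 2)) hTp) h
  have hgT : e.symm g₀ * z * (e.symm g₀)⁻¹ ∈ T := by
    rw [hmem]
    simp [hz, hgz, hcomm]
  obtain ⟨m, hm, hmz⟩ := ((fusControls_of_family
      (isConjugacyFunctor_induced_image CfsgLib.NoOffender.zjFam_char) hctl hTs {z} (e.symm g₀)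
      trivial (Set.singleton_subset_iff.2 hzT) (by rintro _ ⟨a, rfl, rfl⟩; exact hgT)).mono le_rfl
    hM).exists_mem_of_singleton
  have h := congrArg e (hmz z rfl)
  rw [Subgroup.mem_centralizer_singleton_iff.1 hm, mul_inv_cancel_right] at h
  simp [hz, hgz] at h
  exact hwz h.symm

theorem fam_eq (Y : Type u) [Group Y] :
    indFam CfsgLib.NoOffender.zjFam Y =
      {fun P : Subgroup Y => P ⊓ Subgroup.centralizer ((P : Subgroup Y) : Set Y),
        fun P : Subgroup Y => thompsonSubgroupOf 2 P} := by
  rw [indFam, CfsgLib.NoOffender.zjFam, Set.image_pair]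
  congr 1
  funext P
  exact CfsgLib.NoOffender.inducedFunctor_center P

/-- Let G be a finite group. The symmetric group of degree 4 is not involved in G if and only if, in every section K/R of G, the pair of conjugacy functors {Z, J_e} controls strong fusion (for the prime 2): here Z(P) is the centre and J_e(P) the subgroup generated by the elementary abelian subgroups of P of largest order, and control by the pair means that 2-fusion of tuples inside a Sylow 2-subgroup T of the section is generated, staying inside T, by conjugation inside N(Z(T)) and N(J_e(T)). -/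
theorem result {G : Type*} [Group G] [Finite G] : ¬ Cfsg.Involves (Equiv.Perm (Fin 4)) G ↔ ∀ (K R : Subgroup G) [hR : (R.subgroupOf K).Normal], Cfsg.FamilyControlsStrongFusionIn 2 ({fun P : Subgroup (↥K ⧸ R.subgroupOf K) => P ⊓ Subgroup.centralizer ((P : Subgroup (↥K ⧸ R.subgroupOf K)) : Set (↥K ⧸ R.subgroupOf K)), fun P : Subgroup (↥K ⧸ R.subgroupOf K) => Cfsg.thompsonSubgroupOf 2 P} : Set (Subgroup (↥K ⧸ R.subgroupOf K) → Subgroup (↥K ⧸ R.subgroupOf K))) ⊤ := by
  constructor
  · intro hfree K R hR
    have h := CfsgLib.NoOffender.familyFusion (G := ↥K ⧸ R.subgroupOf K)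
      fun h => hfree (involves_trans (involves_section K R) h)
    rwa [fam_eq] at h
  · intro h hinv
    obtain ⟨K, R, hR, ⟨e⟩⟩ := hinv
    exact not_control e (fam_eq (↥K ⧸ R.subgroupOf K) ▸ h K R)

end Cfsg.Agent.S1999
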