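import Cfsg.Statements.S2761
import Cfsg.Agent.LocalEven.QdOver
import Mathlib.Data.Fintype.Perm

set_option autoImplicit false
open Cfsg

namespace Cfsg.Agent.S2761

open Matrix

/-- Coordinates of the four points of the affine plane over the field with two elements. -/
def ptX (i : Fin 4) : ZMod 2 := ![0, 1, 0, 1] i

/-- Second coordinates of the four points. -/
def ptY (i : Fin 4) : ZMod 2 := ![0, 0, 1, 1] i

/-- The affine map inducing a permutation of the four points. -/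
def mat (σ : Equiv.Perm (Fin 4)) : Matrix (Fin 3) (Fin 3) (ZMod 2) :=
  !![ptX (σ 1) - ptX (σ 0), ptX (σ 2) - ptX (σ 0), ptX (σ 0);
     ptY (σ 1) - ptY (σ 0), ptY (σ 2) - ptY (σ 0), ptY (σ 0);
     0, 0, 1]

lemma mat_det : ∀ σ, (mat σ).det = 1 := by
  intro σ; rw [det_fin_three]; revert σ; decide +kernel

lemma mat_mul : ∀ σ τ, mat (σ * τ) = mat σ * mat τ := by decide +kernel

/-- The homomorphism from the symmetric group to the affine matrices. -/
def g : Equiv.Perm (Fin 4) →* SpecialLinearGroup (Fin 3) (ZMod 2) :=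
  MonoidHom.mk' (fun σ => ⟨mat σ, mat_det σ⟩) fun σ τ => Subtype.ext (mat_mul σ τ)

lemma g_mem : ∀ σ, g σ ∈ CfsgLib.LocalEven.QdOver.affine (ZMod 2) := fun σ =>
  ⟨rfl, rfl, rfl⟩

lemma g_inj (σ : Equiv.Perm (Fin 4)) (h : g σ = 1) : σ = 1 := by
  have key : ∀ σ : Equiv.Perm (Fin 4), mat σ = 1 → σ = 1 := by decide +kernel
  exact key σ (congrArg Subtype.val h)

lemma g_surj (a b c d x y : ZMod 2) (h : a * d - b * c = 1) :
    ∃ σ, (g σ).1 = !![a, b, x; c, d, y; 0, 0, 1] := by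
  have key : ∀ a b c d x y : ZMod 2, a * d - b * c = 1 →
      ∃ σ, mat σ = !![a, b, x; c, d, y; 0, 0, 1] := by decide +kernel
  exact key a b c d x y h

/-- The group Qd(2), the natural semidirect product of an elementary abelian group of order 4 by SL₂(2) (realised as the affine subgroup of SL₃(2)), is isomorphic to the symmetric group of degree 4. -/
theorem result : Nonempty (↥(Cfsg.qd 2) ≃* Equiv.Perm (Fin 4)) := by
  rw [CfsgLib.LocalEven.QdOver.qd_eq_qdOver, CfsgLib.LocalEven.QdOver.qdOver_eq]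
  let g' : Equiv.Perm (Fin 4) →* ↥(CfsgLib.LocalEven.QdOver.affine (ZMod 2)) :=
    g.codRestrict _ fun σ => g_mem σ
  refine ⟨(MulEquiv.ofBijective g' ⟨?_, ?_⟩).symm⟩
  · rw [injective_iff_map_eq_one]
    intro σ h
    exact g_inj σ (congrArg Subtype.val h)
  · rintro ⟨M, hM⟩
    rw [← CfsgLib.LocalEven.QdOver.qdOver_eq] at hM
    obtain ⟨a, b, c, d, x, y, h, e⟩ := CfsgLib.LocalEven.QdOver.exists_eq_mk
      (⟨M, hM⟩ : ↥(Cfsg.qdOver (ZMod 2)))
    obtain ⟨σ, hσ⟩ := g_surj a b c d x y h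
    refine ⟨σ, Subtype.ext (Subtype.ext ?_)⟩
    have e' : M.1 = !![a, b, x; c, d, y; 0, 0, 1] := congrArg (fun z => z.1.1) e
    show (g σ).1 = M.1
    rw [e', hσ]

end Cfsg.Agent.S2761
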