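import Cfsg.Statements.S2000
import Cfsg.Agent.NoOffender.Main
import Cfsg.Agent.ConjFunctor.QdKInf
import Cfsg.Agent.ConjFunctor.Corollaries
import Cfsg.Agent.LocalEven.QdSection
import Cfsg.Agent.S2761

set_option autoImplicit false
universe u
open Cfsg CfsgLib.ConjFunctor CfsgLib.LocalEven

namespace Cfsg.Agent.S2000

/-- Elements with lower left entry `0` normalise the unipotent Sylow subgroup. -/
theorem mem_normalizer_qdUni {p : ℕ} [Fact p.Prime] {a b c d x y : ZMod p} (h : a * d - b * c = 1)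
    (hc : c = 0) : QdOver.mk a b c d x y h ∈ Subgroup.normalizer ((qdUni p : Subgroup ↥(Cfsg.qdOver (ZMod p))) : Set ↥(Cfsg.qdOver (ZMod p))) := by
  refine mem_normalizer_of_forall_conj_mem fun M hM => ?_
  obtain ⟨b', x', y', rfl⟩ := exists_eq_mk_uni hM
  subst hc
  obtain ⟨u, v, w, huvw⟩ : ∃ u v w : ZMod p,
      QdOver.mk a b 0 d x y h * QdOver.mk 1 b' 0 1 x' y' (by ring) =
        QdOver.mk 1 u 0 1 v w (by ring) * QdOver.mk a b 0 d x y h := by
    have had : a * d = 1 := by linear_combination h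
    refine ⟨a * b' * a, a * x' + b * y' + x - x - a * b' * a * y, d * y', ?_⟩
    rw [QdOver.mk_mul, QdOver.mk_mul]
    exact QdOver.mk_congr (by ring) (by linear_combination (-(a * b')) * had) (by ring) (by ring)
      (by ring) (by ring)
  rw [huvw, mul_inv_cancel_right]
  exact mk_mem_qdUni u v w

theorem normalizer_le {p : ℕ} [Fact p.Prime] {U : Subgroup ↥(Cfsg.qdOver (ZMod p))}
    (hle : U ≤ qdUni p) (hne : U ≠ ⊥) (hn : qdUni p ≤ Subgroup.normalizer (U : Set ↥(Cfsg.qdOver (ZMod p))))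
    (hφ : ∀ b x y : ZMod p, QdOver.mk 1 b 0 1 x y (by ring) ∈ U →
      QdOver.mk 1 y 0 1 (b * y - x) b (by ring) ∈ U) :
    Subgroup.normalizer (U : Set ↥(Cfsg.qdOver (ZMod p))) ≤ Subgroup.normalizer ((qdUni p : Subgroup ↥(Cfsg.qdOver (ZMod p))) : Set ↥(Cfsg.qdOver (ZMod p))) := by
  -- commutators with elements of the Sylow subgroup
  have hcomm : ∀ b x y b' x' y' : ZMod p, QdOver.mk 1 b 0 1 x y (by ring) ∈ U →
      QdOver.tr (b' * y - b * y') 0 ∈ U := by
    intro b x y b' x' y' hM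
    have h1 : QdOver.mk 1 b' 0 1 x' y' (by ring) * QdOver.mk 1 b 0 1 x y (by ring) =
        (QdOver.tr (b' * y - b * y') 0 * QdOver.mk 1 b 0 1 x y (by ring)) *
          QdOver.mk 1 b' 0 1 x' y' (by ring) := by
      rw [QdOver.tr, QdOver.mk_mul, QdOver.mk_mul, QdOver.mk_mul]
      exact QdOver.mk_congr (by ring) (by ring) (by ring) (by ring) (by ring) (by ring)
    have h2 := (Subgroup.mem_normalizer_iff.1 (hn (mk_mem_qdUni b' x' y')) _).1 hM
    rw [h1, mul_inv_cancel_right] at h2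
    simpa using mul_mem h2 (inv_mem hM)
  have hscale : ∀ t : ZMod p, t ≠ 0 → QdOver.tr t 0 ∈ U → QdOver.tr 1 0 ∈ U := by
    intro t ht h
    have h1 := pow_mem h t⁻¹.val
    rwa [QdOver.tr_pow, ZMod.natCast_val, ZMod.cast_id, inv_mul_cancel₀ ht, mul_zero] at h1
  have htr1 : QdOver.tr (1 : ZMod p) 0 ∈ U := by
    obtain ⟨M, hM, hM1⟩ := (U.bot_or_exists_ne_one).resolve_left hne
    obtain ⟨b, x, y, rfl⟩ := exists_eq_mk_uni (hle hM)
    by_cases hy : y = 0
    · by_cases hb : b = 0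
      · subst hy hb
        exact hscale x (fun hx => hM1 (by subst hx; exact QdOver.mk_one)) hM
      · exact hscale _ (show (0 : ZMod p) * y - b * (-1) ≠ 0 by simpa using hb)
          (hcomm b x y 0 0 (-1) hM)
    · exact hscale _ (show (1 : ZMod p) * y - b * 0 ≠ 0 by simpa using hy) (hcomm b x y 1 0 0 hM)
  intro g hg
  obtain ⟨a, b, c, d, x, y, h, rfl⟩ := QdOver.exists_eq_mk g
  by_cases hc : c = 0
  · exact mem_normalizer_qdUni h hc
  exfalso
  have h1 := (Subgroup.mem_normalizer_iff.1 hg _).1 htr1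
  have h2 : QdOver.mk a b c d x y h * QdOver.tr 1 0 =
      QdOver.tr a c * QdOver.mk a b c d x y h := by
    rw [QdOver.tr, QdOver.tr, QdOver.mk_mul, QdOver.mk_mul]
    exact QdOver.mk_congr (by ring) (by ring) (by ring) (by ring) (by ring) (by ring)
  rw [h2, mul_inv_cancel_right] at h1
  have h3 : QdOver.tr (0 : ZMod p) 1 ∈ U := by
    have h4 := mul_mem (pow_mem htr1 (-a).val) h1
    rw [QdOver.tr_pow, QdOver.tr_mul, ZMod.natCast_val, ZMod.cast_id] at h4
    simp only [mul_one, neg_add_cancel, mul_zero, zero_add] at h4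
    have h5 := pow_mem h4 c⁻¹.val
    rwa [QdOver.tr_pow, ZMod.natCast_val, ZMod.cast_id, mul_zero, inv_mul_cancel₀ hc] at h5
  have h6 : QdOver.mk 1 (1 : ZMod p) 0 1 0 0 (by ring) ∈ U := by
    have := hφ 0 0 1 h3
    simpa using this
  have h7 := hle ((Subgroup.mem_normalizer_iff.1 hg _).1 h6)
  obtain ⟨u, v, w, hu⟩ := exists_eq_mk_uni h7
  rw [mul_inv_eq_iff_eq_mul, QdOver.mk_mul, QdOver.mk_mul] at hu
  obtain ⟨-, -, -, e4, -, -⟩ := QdOver.mk_inj hu
  exact hc (by linear_combination e4)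

/-- In a group isomorphic to `Qd(p)` no family of functors controls strong fusion. -/
theorem not_familyControls_qd {p : ℕ} [Fact p.Prime] {Y : Type u} [Group Y] [Finite Y]
    (e : Y ≃* ↥(Cfsg.qd p)) (𝓦 : Set (∀ (Q : Type u) [Group Q], Subgroup Q))
    (h𝓦 : ∀ W ∈ 𝓦, Cfsg.IsCharPFunctor.{u} p W) :
    ¬ FamilyControlsStrongFusionIn p (indFam 𝓦 Y) ⊤ := by
  intro hctl
  let e' : Y ≃* ↥(Cfsg.qdOver (ZMod p)) := e
  set T : Subgroup Y := (qdUni p).comap e'.toMonoidHom with hT
  have hmem : ∀ v : Y, v ∈ T ↔ e' v ∈ qdUni p := fun v => Iff.rfl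
  have hTp : IsPGroup p T := (isSylowIn_qdUni (p := p)).2.1.comap_of_injective _ e'.injective
  have hTs : IsSylowIn p T ⊤ := ⟨le_top, hTp, by
    rw [Subgroup.relIndex_top_right, hT, Subgroup.index_comap_of_surjective (f := e'.toMonoidHom) _ e'.surjective,
      ← Subgroup.relIndex_top_right]
    exact (isSylowIn_qdUni (p := p)).2.2⟩
  have hmapT : T.map e'.toMonoidHom = qdUni p :=
    Subgroup.map_comap_eq_self_of_surjective (f := e'.toMonoidHom) e'.surjective _
  have hTne : T ≠ ⊥ := fun h => by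
    rw [h, Subgroup.map_bot] at hmapT
    have h1 : QdOver.tr (1 : ZMod p) 0 = 1 :=
      Subgroup.mem_bot.1 (hmapT.symm ▸ mk_mem_qdUni (p := p) 0 1 0)
    rw [← QdOver.tr_zero] at h1
    exact one_ne_zero (QdOver.mk_inj h1).2.2.2.2.1
  -- an automorphism of `T`
  choose β ξ η hM using fun M : ↥(qdUni p) => exists_eq_mk_uni M.2
  let ω : ↥(qdUni p) → ↥(qdUni p) := fun M =>
    ⟨_, mk_mem_qdUni (η M) (β M * η M - ξ M) (β M)⟩
  have hco : ∀ (M : ↥(qdUni p)) (b x y : ZMod p),
      (M : ↥(Cfsg.qdOver (ZMod p))) = QdOver.mk 1 b 0 1 x y (by ring) → β M = b ∧ ξ M = x ∧ η M = y :=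
    fun M b x y h => by
      obtain ⟨-, h2, -, -, h5, h6⟩ := QdOver.mk_inj ((hM M).symm.trans h)
      exact ⟨h2, h5, h6⟩
  have hωmul : ∀ M N, ω (M * N) = ω M * ω N := fun M N => by
    have h : ((M * N : ↥(qdUni p)) : ↥(Cfsg.qdOver (ZMod p))) =
        QdOver.mk 1 (β M + β N) 0 1 (ξ M + ξ N + β M * η N) (η M + η N) (by ring) := by
      rw [Subgroup.coe_mul, hM M, hM N, QdOver.mk_mul]
      exact QdOver.mk_congr (by ring) (by ring) (by ring) (by ring) (by ring) (by ring)
    obtain ⟨h1, h2, h3⟩ := hco _ _ _ _ h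
    refine Subtype.ext ?_
    rw [Subgroup.coe_mul]
    simp only [ω]
    rw [QdOver.mk_mul]
    exact QdOver.mk_congr (by ring) (by rw [h3]; ring) (by ring) (by ring)
      (by rw [h1, h2, h3]; ring) (by rw [h1]; ring)
  have hωinv : ∀ M, ω (ω M) = M := fun M => by
    obtain ⟨h1, h2, h3⟩ := hco (ω M) _ _ _ rfl
    refine Subtype.ext (Eq.trans ?_ (hM M).symm)
    show QdOver.mk 1 (η (ω M)) 0 1 (β (ω M) * η (ω M) - ξ (ω M)) (β (ω M)) (by ring) = _
    exact QdOver.mk_congr rfl h3 rfl rfl (by rw [h1, h2, h3]; ring) h1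
  let κ : ↥T ≃* ↥(qdUni p) :=
    (T.equivMapOfInjective e'.toMonoidHom e'.injective).trans (MulEquiv.subgroupCongr hmapT)
  have hκ : ∀ v : ↥T, (κ v : ↥(Cfsg.qdOver (ZMod p))) = e' v := fun v => rfl
  let ψ : ↥T ≃* ↥T := κ.trans (MulEquiv.trans
    { toFun := ω, invFun := ω, left_inv := hωinv, right_inv := hωinv, map_mul' := hωmul } κ.symm)
  -- all the normalisers lie in `N(T)`
  have hN : ∀ M ∈ famIn (indFam 𝓦 Y) ⊤ T,
      ∃ M' ∈ ({Subgroup.normalizer (T : Set Y)} : Set (Subgroup Y)), M ≤ M' := by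
    rintro _ ⟨_, ⟨W, hW, rfl⟩, rfl⟩
    refine ⟨_, rfl, ?_⟩
    set U := inducedFunctor (G := Y) W T with hU
    show ⊤ ⊓ Subgroup.normalizer (U : Set Y) ≤ _
    rw [top_inf_eq]
    have hf := isConjugacyFunctor_induced (h𝓦 W hW) (G := Y)
    have key := normalizer_le (U := U.map e'.toMonoidHom)
      ((Subgroup.map_mono (functor_le hf hTp)).trans hmapT.le)
      (fun h => (hf T hTp).2.1 hTne ((Subgroup.map_eq_bot_iff_of_injective _ e'.injective).1 h))
      (by
        rw [← hmapT]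
        exact (Subgroup.map_mono (le_normalizer_functor hf hTp)).trans (Subgroup.le_normalizer_map _))
      (fun b x y h => by
        obtain ⟨v, hv, hve⟩ := h
        obtain ⟨v₀, hv₀, rfl⟩ := hv
        have hψ : ψ v₀ ∈ W ↥T := by
          rw [← (h𝓦 W hW).2 ↥T ↥T hTp ψ]
          exact Subgroup.mem_map_of_mem _ hv₀
        refine ⟨_, ⟨ψ v₀, hψ, rfl⟩, ?_⟩
        obtain ⟨h1, h2, h3⟩ := hco (κ v₀) b x y ((hκ v₀).trans hve)
        have h4 : κ (ψ v₀) = ω (κ v₀) := κ.apply_symm_apply _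
        show e' ((ψ v₀ : ↥T) : Y) = _
        rw [← hκ, h4]
        show QdOver.mk 1 (η (κ v₀)) 0 1 (β (κ v₀) * η (κ v₀) - ξ (κ v₀)) (β (κ v₀)) (by ring) = _
        exact QdOver.mk_congr rfl h3 rfl rfl (by rw [h1, h2, h3]) h1)
    intro g hg
    have h1 : e' g ∈ Subgroup.normalizer ((qdUni p : Subgroup ↥(Cfsg.qdOver (ZMod p))) : Set ↥(Cfsg.qdOver (ZMod p))) :=
      key (Subgroup.le_normalizer_map e'.toMonoidHom ⟨g, hg, rfl⟩)
    refine mem_normalizer_of_forall_conj_mem fun t ht => ?_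
    rw [hmem, map_mul, map_mul, map_inv]
    exact (Subgroup.mem_normalizer_iff.1 h1 _).1 ((hmem t).1 ht)
  -- so `T` is normal
  have hQT : ∀ q : Y, e' q ∈ QdOver.transl (ZMod p) → q ∈ T := fun q hq =>
    (hmem q).mpr (by
      obtain ⟨x, y, hxy⟩ := QdOver.exists_eq_tr hq
      rw [hxy]; exact mk_mem_qdUni 0 x y)
  have hTn : ∀ v : Y, v ∈ Subgroup.normalizer (T : Set Y) := by
    intro v
    obtain ⟨w, hw, hwe⟩ := ((fusControls_of_family (isConjugacyFunctor_induced_image h𝓦) hctl hTs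
      {q | e' q ∈ QdOver.transl (ZMod p)} v trivial (fun q hq => hQT q hq) (by
        rintro _ ⟨q, hq, rfl⟩
        refine hQT _ ?_
        rw [map_mul, map_mul, map_inv]
        exact (inferInstance : (QdOver.transl (ZMod p)).Normal).conj_mem _ hq _)).mono le_rfl
      hN).exists_mem_of_singleton
    have hc : w⁻¹ * v ∈ T := hQT _ (centralizer_transl_le (by
      refine Subgroup.mem_centralizer_iff.mpr fun q hq => ?_
      have h1 := hwe (e'.symm q) (by simpa using hq)
      have h2 := congrArg e' h1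
      simp only [map_mul, map_inv, MulEquiv.apply_symm_apply] at h2 ⊢
      calc q * ((e' w)⁻¹ * e' v) = (e' w)⁻¹ * (e' w * q * (e' w)⁻¹) * e' v := by group
        _ = (e' w)⁻¹ * (e' v * q * (e' v)⁻¹) * e' v := by rw [h2]
        _ = _ := by group))
    rw [show v = w * (w⁻¹ * v) by group]
    exact mul_mem hw (Subgroup.le_normalizer hc)
  have hUn : (qdUni p).Normal := by
    refine ⟨fun m hm g => ?_⟩
    have := (hmem _).mp ((Subgroup.mem_normalizer_iff.1 (hTn (e'.symm g)) (e'.symm m)).1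
      ((hmem _).mpr (by simpa using hm)))
    simpa using this
  have h1 : QdOver.emb (CfsgLib.Linear.upperUni (1 : ZMod p)) ∈ QdOver.transl (ZMod p) := by
    rw [← QdOver.pCore_eq_transl (F := ZMod p) (p := p)]
    refine CfsgLib.PLocal.le_pCore (isSylowIn_qdUni (p := p)).2.1 ?_
    rw [qdUni, Subgroup.mem_comap, QdOver.block_emb]
    exact CfsgLib.Linear.upperUni_mem _
  rw [QdOver.transl, MonoidHom.mem_ker, QdOver.block_emb] at h1
  have h3 := congrArg (fun M : Matrix.SpecialLinearGroup (Fin 2) (ZMod p) => M.1 0 1) h1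
  simp [CfsgLib.Linear.upperUni_val] at h3

/-- Let p be a prime and G a finite group. Then Qd(p) (the natural semidirect product of an elementary abelian group of order p² by SL₂(p)) is not involved in G if and only if there is a set 𝓦 of isomorphism-invariant p-group functors (each nontrivial on nontrivial finite p-groups and carried onto W(R) by every isomorphism from a finite p-group Q onto R, hence with characteristic values on finite p-groups) whose induced conjugacy functors control strong fusion in every section of G. -/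
theorem result {G : Type u} [Group G] [Finite G] {p : ℕ} [Fact p.Prime] : ¬ Cfsg.Involves ↥(Cfsg.qd p) G ↔ ∃ 𝓦 : Set (∀ (Q : Type u) [Group Q], Subgroup Q), (∀ W ∈ 𝓦, Cfsg.IsCharPFunctor.{u} p W) ∧ ∀ (K R : Subgroup G) [hR : (R.subgroupOf K).Normal], Cfsg.FamilyControlsStrongFusionIn p ((fun W => Cfsg.inducedFunctor (G := (↥K ⧸ R.subgroupOf K)) W) '' 𝓦) ⊤ := by
  constructor
  · intro hfree
    by_cases hp : p = 2
    · subst hp
      refine ⟨CfsgLib.NoOffender.zjFam, CfsgLib.NoOffender.zjFam_char, fun K R hR => ?_⟩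
      obtain ⟨e⟩ := Cfsg.Agent.S2761.result
      exact CfsgLib.NoOffender.familyFusion fun h => hfree
        (involves_trans (involves_trans (involves_section K R) h) (involves_equiv e.symm))
    · let W : ∀ (Q : Type u) [Group Q], Subgroup Q := fun Q [Group Q] => Cfsg.kInfLower Q
      refine ⟨{W}, fun V hV => ?_, fun K R hR => ?_⟩
      · rw [Set.mem_singleton_iff] at hV; subst hV; exact isCharPFunctor_kInfLower
      refine familyFusion_section (𝓦 := {W}) (fun V hV => by
        rw [Set.mem_singleton_iff] at hV; subst hV; exact isCharPFunctor_kInfLower)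
        (G := ↥K ⧸ R.subgroupOf K) (fun K' R' hR' hc => ?_) _ (involves_equiv (MulEquiv.refl _))
      obtain ⟨T⟩ := (inferInstance : Nonempty (Sylow p (↥K' ⧸ R'.subgroupOf K')))
      refine familyControlsStrongFusionIn_iff.mpr ⟨_, isSylowIn_top T, fun A g _ hA hgA => ?_⟩
      have hn : (inducedFunctor (G := ↥K' ⧸ R'.subgroupOf K') W (T : Subgroup _)).Normal := by
        by_contra hn
        obtain ⟨g, -, -, -, -, hbad⟩ := exists_fourEngelElt (isSylowIn_top T) (Or.inl hn)
        obtain ⟨N, hN, hns⟩ := hbad hc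
        refine hns (stable_quotient_of_sections (fun K'' R'' _ => ?_) K' R' N)
        exact isNormalizerPStable_of_qdFree hp fun h =>
          hfree (involves_trans (involves_trans (involves_section K R) (involves_section K'' R'')) h)
      refine Fus.single hA (M := ⊤ ⊓ Subgroup.normalizer
        ((inducedFunctor W (T : Subgroup (↥K' ⧸ R'.subgroupOf K')) : Subgroup _) :
          Set (↥K' ⧸ R'.subgroupOf K')))
        ⟨_, ⟨W, rfl, rfl⟩, rfl⟩ ?_ (cjSet_subset_iff.mp hgA)
      exact ⟨trivial, (Subgroup.normalizer_eq_top_iff.mpr hn).symm ▸ Subgroup.mem_top g⟩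
  · rintro ⟨𝓦, h𝓦, h⟩ hinv
    obtain ⟨K, R, hR, ⟨e⟩⟩ := hinv
    exact not_familyControls_qd e 𝓦 h𝓦 (h K R)

end Cfsg.Agent.S2000
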