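import Cfsg.Statements.S2001
import Cfsg.Agent.ConjFunctor.NormCent

set_option autoImplicit false
open Cfsg CfsgLib.ConjFunctor

namespace Cfsg.Agent.S2001

/-- Let p be a prime dividing the order of the finite group G, P a Sylow p-subgroup, W a conjugacy functor for p on G with Z(H) ≤ W(H) for every nontrivial p-subgroup H, and V a central functor: a conjugacy functor with V(H) ≤ Z(H), and V(H) ≤ V(K) whenever Z(H) ≤ Z(K), for nontrivial p-subgroups H, K. Say that W with V controls transfer in a subgroup L when some Sylow p-subgroup Q of L satisfies Q ∩ L' = (Q ∩ (N_L(W(Q)))')·(Q ∩ (C_L(V(Q)))') as a product of two subgroups. If W with V controls transfer in N_G(H) for every subgroup H with Z(P) ≤ H ≤ P, then W with V controls transfer in G. -/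
theorem result {G : Type*} [Group G] [Finite G] {p : ℕ} [Fact p.Prime] (hdiv : p ∣ Nat.card G) (P : Sylow p G) (W V : Subgroup G → Subgroup G) (hW : Cfsg.IsConjugacyFunctor p W) (hV : Cfsg.IsConjugacyFunctor p V) (hWZ : ∀ H : Subgroup G, IsPGroup p ↥H → H ⊓ Subgroup.centralizer ((H : Subgroup G) : Set G) ≤ W H) (hVZ : ∀ H : Subgroup G, IsPGroup p ↥H → V H ≤ H ⊓ Subgroup.centralizer ((H : Subgroup G) : Set G)) (hVmono : ∀ H K : Subgroup G, IsPGroup p ↥H → IsPGroup p ↥K → H ≠ ⊥ → K ≠ ⊥ → H ⊓ Subgroup.centralizer ((H : Subgroup G) : Set G) ≤ K ⊓ Subgroup.centralizer ((K : Subgroup G) : Set G) → V H ≤ V K) (hloc : ∀ H : Subgroup G, (P : Subgroup G) ⊓ Subgroup.centralizer (((P : Subgroup G) : Subgroup G) : Set G) ≤ H → H ≤ (P : Subgroup G) → ∃ Q : Subgroup G, Q ≤ Subgroup.normalizer ((H : Subgroup G) : Set G) ∧ IsPGroup p ↥Q ∧ ¬ p ∣ (Q).relIndex (Subgroup.normalizer ((H : Subgroup G) : Set G)) ∧ ∀ x : G, x ∈ Q ⊓ ⁅Subgroup.normalizer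 ((H : Subgroup G) : Set G), Subgroup.normalizer ((H : Subgroup G) : Set G)⁆ ↔ ∃ a ∈ Q ⊓ ⁅Subgroup.normalizer ((H : Subgroup G) : Set G) ⊓ Subgroup.normalizer ((W Q : Subgroup G) : Set G), Subgroup.normalizer ((H : Subgroup G) : Set G) ⊓ Subgroup.normalizer ((W Q : Subgroup G) : Set G)⁆, ∃ b ∈ Q ⊓ ⁅Subgroup.normalizer ((H : Subgroup G) : Set G) ⊓ Subgroup.centralizer ((V Q : Subgroup G) : Set G), Subgroup.normalizer ((H : Subgroup G) : Set G) ⊓ Subgroup.centralizer ((V Q : Subgroup G) : Set G)⁆, x = a * b) : ∃ Q : Subgroup G, IsPGroup p ↥Q ∧ ¬ p ∣ Q.index ∧ ∀ x : G, x ∈ Q ⊓ commutator G ↔ ∃ a ∈ Q ⊓ ⁅Subgroup.normalizer ((W Q : Subgroup G) : Set G), Subgroup.normalizer ((W Q : Subgroup G) : Set G)⁆, ∃ b ∈ Q ⊓ ⁅Subgroup.centralizer ((V Q : Subgroup G) : Set G), Subgroup.centralizer ((V Q : Subgroup G) : Set G)⁆, x = a * b := by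
  have hS := isSylowIn_top P
  set A := (P : Subgroup G) ⊓ ⁅Subgroup.normalizer ((W (P : Subgroup G) : Subgroup G) : Set G), Subgroup.normalizer ((W (P : Subgroup G) : Subgroup G) : Set G)⁆
  set B := (P : Subgroup G) ⊓ ⁅Subgroup.centralizer ((V (P : Subgroup G) : Subgroup G) : Set G), Subgroup.centralizer ((V (P : Subgroup G) : Subgroup G) : Set G)⁆
  have hle : (P : Subgroup G) ⊓ commutator G ≤ A ⊔ B := by
    refine inf_commutator_le_of_climb hS (climb_normCent hS hW hWZ hVmono) ?_ fun U hU _ => ?_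
    · rintro M (rfl | hM)
      · exact le_sup_left
      · rw [Set.mem_singleton_iff] at hM
        subst hM
        exact le_sup_right
    obtain ⟨Q, hQN, hQp, hQi, hQ⟩ := hloc U hU.2 hU.1.1
    refine inf_commutator_normCent_local hW hV ((extremal_iff hS.2.1).mp (hU.1.2 0)) ⟨hQN, hQp, hQi⟩ ?_
    intro x hx
    obtain ⟨a, ha, b, hb, rfl⟩ := (hQ x).mp hx
    exact mul_mem
      (le_iSup₂ (f := fun M (_ : M ∈ normCentIn W V (Subgroup.normalizer (U : Set G)) Q) => Q ⊓ ⁅M, M⁆) _ (Or.inl rfl) ha)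
      (le_iSup₂ (f := fun M (_ : M ∈ normCentIn W V (Subgroup.normalizer (U : Set G)) Q) => Q ⊓ ⁅M, M⁆) _ (Or.inr rfl) hb)
  have hAB : A ≤ Subgroup.normalizer (B : Set G) := by
    intro a ha
    have haP : a ∈ (P : Subgroup G) := ha.1
    rw [mem_normalizer_iff_cj, cj_inf, cj_self_of_mem haP, Subgroup.map_commutator, ← centralizer_cj,
      cj_eq_of_mem_normalizer (le_normalizer_functor hV P.2 haP)]
  refine ⟨(P : Subgroup G), P.2, P.not_dvd_index, fun x => ⟨fun hx => ?_, ?_⟩⟩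
  · have h1 : x ∈ ((A ⊔ B : Subgroup G) : Set G) := hle hx
    rw [Subgroup.coe_mul_of_left_le_normalizer_right A B hAB, Set.mem_mul] at h1
    obtain ⟨a, ha, b, hb, rfl⟩ := h1
    exact ⟨a, ha, b, hb, rfl⟩
  · rintro ⟨a, ha, b, hb, rfl⟩
    refine mul_mem ⟨ha.1, ?_⟩ ⟨hb.1, ?_⟩
    · exact Subgroup.commutator_mono le_top le_top ha.2
    · exact Subgroup.commutator_mono le_top le_top hb.2

end Cfsg.Agent.S2001
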