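import Cfsg.Statements.S2002
import Cfsg.Agent.ConjFunctor.NormCent

set_option autoImplicit false
open Cfsg CfsgLib.ConjFunctor

namespace Cfsg.Agent.S2002

/-- Let p be a prime dividing the order of the finite group G, P a Sylow p-subgroup, W a conjugacy functor for p on G with Z(H) ≤ W(H) for every nontrivial p-subgroup H, and V a central functor (a conjugacy functor with V(H) ≤ Z(H), and V(H) ≤ V(K) whenever Z(H) ≤ Z(K)). Say that W with V controls strong fusion in a subgroup L when some Sylow p-subgroup Q of L has the property: whenever X ⊆ Q and a ∈ L with a⁻¹Xa ⊆ Q, then a = c b with c ∈ C_L(X) and b = b₁ ⋯ bₙ a product of elements each in N_L(W(Q)) or in C_L(V(Q)) such that every partial conjugate (b₁ ⋯ bₖ)⁻¹ X (b₁ ⋯ bₖ) lies in Q. If W with V controls strong fusion in N_G(H) for every subgroup H with Z(P) ≤ H ≤ P, then W with V controls strong fusion in G. -/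
theorem result {G : Type*} [Group G] [Finite G] {p : ℕ} [Fact p.Prime] (hdiv : p ∣ Nat.card G) (P : Sylow p G) (W V : Subgroup G → Subgroup G) (hW : Cfsg.IsConjugacyFunctor p W) (hV : Cfsg.IsConjugacyFunctor p V) (hWZ : ∀ H : Subgroup G, IsPGroup p ↥H → H ⊓ Subgroup.centralizer ((H : Subgroup G) : Set G) ≤ W H) (hVZ : ∀ H : Subgroup G, IsPGroup p ↥H → V H ≤ H ⊓ Subgroup.centralizer ((H : Subgroup G) : Set G)) (hVmono : ∀ H K : Subgroup G, IsPGroup p ↥H → IsPGroup p ↥K → H ≠ ⊥ → K ≠ ⊥ → H ⊓ Subgroup.centralizer ((H : Subgroup G) : Set G) ≤ K ⊓ Subgroup.centralizer ((K : Subgroup G) : Set G) → V H ≤ V K) (hloc : ∀ H : Subgroup G, (P : Subgroup G) ⊓ Subgroup.centralizer (((P : Subgroup G) : Subgroup G) : Set G) ≤ H → H ≤ (P : Subgroup G) → ∃ Q : Subgroup G, Q ≤ Subgroup.normalizer ((H : Subgroup G) : Set G) ∧ IsPGroup p ↥Q ∧ ¬ p ∣ (Q).relIndex (Subgroup.normalizer ((H : Subgroup G) : Set G)) ∧ ∀ (X : Set G)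 (a : G), X ⊆ Q → a ∈ Subgroup.normalizer ((H : Subgroup G) : Set G) → (fun x => a⁻¹ * x * a) '' X ⊆ Q → ∃ c ∈ Subgroup.normalizer ((H : Subgroup G) : Set G) ⊓ Subgroup.centralizer X, ∃ (n : ℕ) (b : Fin n → G), (∀ i, b i ∈ Subgroup.normalizer ((H : Subgroup G) : Set G) ⊓ Subgroup.normalizer ((W Q : Subgroup G) : Set G) ∨ b i ∈ Subgroup.normalizer ((H : Subgroup G) : Set G) ⊓ Subgroup.centralizer ((V Q : Subgroup G) : Set G)) ∧ a = c * (List.ofFn b).prod ∧ ∀ k : ℕ, k ≤ n → (fun x => (((List.ofFn b).take k).prod)⁻¹ * x * ((List.ofFn b).take k).prod) '' ((fun x => c⁻¹ * x * c) '' X) ⊆ Q) : ∃ Q : Subgroup G, IsPGroup p ↥Q ∧ ¬ p ∣ Q.index ∧ ∀ (X : Set G) (a : G), X ⊆ Q → (fun x => a⁻¹ * x * a) '' X ⊆ Q → ∃ c ∈ Subgroup.centralizer X, ∃ (n : ℕ) (b : Fin n → G), (∀ i, b i ∈ ⊤ ⊓ Subgroup.normalizer ((W Q : Subgroup G) : Set G) ∨ b i ∈ ⊤ ⊓ Subgroup.centralizer ((V Q : Subgroup G) : Set G)) ∧ a = c * (List.ofFn b).prod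 ∧ ∀ k : ℕ, k ≤ n → (fun x => (((List.ofFn b).take k).prod)⁻¹ * x * ((List.ofFn b).take k).prod) '' ((fun x => c⁻¹ * x * c) '' X) ⊆ Q := by
  have hS := isSylowIn_top P
  have hc : FusControls (normCent W V (P : Subgroup G)) (P : Subgroup G) ⊤ := by
    refine fusControls_of_climb hS (climb_normCent hS hW hWZ hVmono) fun U hU _ => ?_
    obtain ⟨Q, hQN, hQp, hQi, hQ⟩ := hloc U hU.2 hU.1.1
    refine fusControls_normCent_local hW hV ((extremal_iff hS.2.1).mp (hU.1.2 0)) ⟨hQN, hQp, hQi⟩ ?_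
    intro X g hg hX hgX
    obtain ⟨c, hc, n, b, hb, hab, hpre⟩ := hQ X g⁻¹ hX (inv_mem hg) (by
      rw [inv_inv]; exact hgX)
    have hcx : ∀ x ∈ X, c⁻¹ * x * c = x := fun x hx => by
      rw [mul_assoc, Subgroup.mem_centralizer_iff.mp hc.2 x hx, inv_mul_cancel_left]
    refine (Fus.of_right b (fun i => ?_) fun k hk x hx =>
      hpre k hk ⟨x, ⟨x, hx, hcx x hx⟩, rfl⟩).congr' fun x hx => ?_
    · rcases hb i with h | h
      exacts [⟨_, Or.inl rfl, h⟩, ⟨_, Or.inr rfl, h⟩]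
    · rw [show g = (c * (List.ofFn b).prod)⁻¹ by rw [← hab, inv_inv]]
      conv_lhs => rw [← hcx x hx]
      group
  refine ⟨(P : Subgroup G), P.2, P.not_dvd_index, fun X a hX haX => ?_⟩
  obtain ⟨n, b, hb, hpre, hlast⟩ := (hc X a⁻¹ trivial hX (by
    rintro _ ⟨x, hx, rfl⟩
    simpa using haX ⟨x, hx, rfl⟩)).exists_right
  have hcmem : a * ((List.ofFn b).prod)⁻¹ ∈ Subgroup.centralizer X := by
    refine Subgroup.mem_centralizer_iff.mpr fun x hx => ?_
    have h1 := hlast x hx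
    rw [inv_inv] at h1
    calc x * (a * ((List.ofFn b).prod)⁻¹) = a * (a⁻¹ * x * a) * ((List.ofFn b).prod)⁻¹ := by group
      _ = a * (((List.ofFn b).prod)⁻¹ * x * (List.ofFn b).prod) * ((List.ofFn b).prod)⁻¹ := by rw [h1]
      _ = _ := by group
  refine ⟨_, hcmem, n, b, fun i => ?_, (inv_mul_cancel_right a _).symm, fun k hk => ?_⟩
  · obtain ⟨M, hM, hbM⟩ := hb i
    rcases hM with rfl | hM
    · exact Or.inl ⟨trivial, hbM⟩
    · exact Or.inr ⟨trivial, (Set.mem_singleton_iff.mp hM) ▸ hbM⟩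
  · rintro _ ⟨_, ⟨x, hx, rfl⟩, rfl⟩
    have h1 : (a * ((List.ofFn b).prod)⁻¹)⁻¹ * x * (a * ((List.ofFn b).prod)⁻¹) = x := by
      rw [mul_assoc, Subgroup.mem_centralizer_iff.mp hcmem x hx, inv_mul_cancel_left]
    simp only [h1]
    exact hpre k hk x hx

end Cfsg.Agent.S2002
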