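import Cfsg.Statements.S2004
import Cfsg.Agent.ConjFunctor.Sections
import Cfsg.Agent.LocalEven.QdSection

set_option autoImplicit false
open Cfsg CfsgLib.ConjFunctor

namespace Cfsg.Agent.S2004

/-- Let p be an odd prime and G a finite group such that SL₂(p) is not involved in N_G(P) for any nonidentity p-subgroup P of G. Then every section of G is p-stable in the normalizer form: in each section, whenever an element of the normalizer of a p-subgroup Q acts quadratically on Q, its image in N(Q)/C(Q) lies in O_p(N(Q)/C(Q)). -/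
theorem result {G : Type*} [Group G] [Finite G] {p : ℕ} [Fact p.Prime] (hp : p ≠ 2) (h : ∀ P : Subgroup G, IsPGroup p ↥P → P ≠ ⊥ → ¬ Cfsg.Involves (Matrix.SpecialLinearGroup (Fin 2) (ZMod p)) ↥(Subgroup.normalizer ((P : Subgroup G) : Set G))) : ∀ (K R : Subgroup G) [hR : (R.subgroupOf K).Normal], Cfsg.IsNormalizerPStable p (↥K ⧸ R.subgroupOf K) := by
  intro K R hR
  refine CfsgLib.LocalEven.isNormalizerPStable_of_qdFree hp fun hK => ?_
  obtain ⟨L, f, hf⟩ := exists_hom_of_involves (involves_trans (involves_section K R) hK)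
  let f' : L →* ↥(Cfsg.qdOver (ZMod p)) := f
  let β : L →* Matrix.SpecialLinearGroup (Fin 2) (ZMod p) := CfsgLib.LocalEven.QdOver.block.comp f'
  let M : Subgroup L := (CfsgLib.LocalEven.QdOver.transl (ZMod p)).comap f'
  let P0 : Sylow p M := default
  let P1 : Subgroup L := (P0 : Subgroup M).map M.subtype
  have hM1 : ∀ m ∈ M, β m = 1 := fun m hm => hm
  have hP1 : P1 ≠ ⊥ := by
    intro hbot
    rw [Subgroup.map_eq_bot_iff_of_injective _ M.subtype_injective] at hbot
    have htrb : CfsgLib.LocalEven.QdOver.tr (1 : ZMod p) 0 ∈ CfsgLib.LocalEven.QdOver.transl (ZMod p) :=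
      CfsgLib.LocalEven.QdOver.tr_mem _ _
    obtain ⟨l, hl⟩ := hf (CfsgLib.LocalEven.QdOver.tr (1 : ZMod p) 0)
    have hlM : l ∈ M := show f' l ∈ _ from (show f' l = _ from hl) ▸ htrb
    have hd : p ∣ Nat.card M := by
      refine dvd_trans ?_ (Subgroup.orderOf_dvd_natCard _ hlM)
      refine dvd_trans (dvd_of_eq ?_) (orderOf_map_dvd f' l)
      rw [show f' l = _ from hl]
      refine (orderOf_eq_prime ?_ ?_).symm
      · rw [CfsgLib.LocalEven.QdOver.tr_pow, ← CfsgLib.LocalEven.QdOver.tr_zero]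
        simp
      · intro h1
        rw [← CfsgLib.LocalEven.QdOver.tr_zero, CfsgLib.LocalEven.QdOver.tr, CfsgLib.LocalEven.QdOver.tr] at h1
        exact one_ne_zero (CfsgLib.LocalEven.QdOver.mk_inj h1).2.2.2.2.1
    exact P0.ne_bot_of_dvd_card hd hbot
  let N1 : Subgroup L := Subgroup.normalizer (P1 : Set L)
  have hsurj : ∀ s : Matrix.SpecialLinearGroup (Fin 2) (ZMod p), ∃ n ∈ N1, β n = s := by
    intro s
    obtain ⟨q, rfl⟩ := CfsgLib.LocalEven.QdOver.block_surjective s
    obtain ⟨l, rfl⟩ := hf q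
    have hl : l ∈ N1 ⊔ M := by
      rw [show N1 ⊔ M = ⊤ from Sylow.normalizer_sup_eq_top P0]; trivial
    obtain ⟨n, hn, m, hm, rfl⟩ := Subgroup.mem_sup_of_normal_right.mp hl
    refine ⟨n, hn, ?_⟩
    show β n = β (n * m)
    rw [map_mul, hM1 m hm, mul_one]
  let P2 : Subgroup G := P1.map L.subtype
  refine h P2 ((P0.isPGroup'.map _).map _) (fun h0 => hP1 ((Subgroup.map_eq_bot_iff_of_injective _ L.subtype_injective).mp h0)) ?_
  let ι : N1 →* ↥(Subgroup.normalizer (P2 : Set G)) :=
    (L.subtype.comp N1.subtype).codRestrict _ fun n =>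
      Subgroup.le_normalizer_map L.subtype ⟨n, n.2, rfl⟩
  have hι : Function.Injective ι := fun a b hab =>
    Subtype.ext (Subtype.ext (congrArg (fun x : ↥(Subgroup.normalizer (P2 : Set G)) => (x : G)) hab))
  let L2 : Subgroup ↥(Subgroup.normalizer (P2 : Set G)) := ι.range
  refine involves_of_surjective_subgroup L2
    ((β.comp N1.subtype).comp (MonoidHom.ofInjective hι).symm.toMonoidHom) ?_
  intro s
  obtain ⟨n, hn, hns⟩ := hsurj s
  refine ⟨MonoidHom.ofInjective hι ⟨n, hn⟩, ?_⟩
  show β (((MonoidHom.ofInjective hι).symm (MonoidHom.ofInjective hι ⟨n, hn⟩) : N1) : L) = s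
  rw [MulEquiv.symm_apply_apply]
  exact hns

end Cfsg.Agent.S2004
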