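import Cfsg.Statements.S2005
import Cfsg.Agent.ConjFunctor.PComplementCrit

set_option autoImplicit false
universe u
open Cfsg CfsgLib.ConjFunctor

namespace Cfsg.Agent.S2005

/-- Thompson's normal p-complement criterion in functor form. Let p be a prime, G a finite group with Sylow p-subgroup S, and W an isomorphism-invariant p-group functor (W assigns to every group Q a subgroup W(Q), nontrivial whenever Q is a nontrivial finite p-group, and every isomorphism from a finite p-group Q onto a group R carries W(Q) onto W(R)). Suppose N_G(W(S)) has a normal p-complement, and that W(S*) is normal in G* whenever G* = K/R is a section of G with C_{G*}(O_p(G*)) ≤ O_p(G*) such that G*/O_p(G*) has a normal p-complement, and S* is a Sylow p-subgroup of G* that is a maximal subgroup of G*. Then G has a normal p-complement. -/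
theorem result {G : Type u} [Group G] [Finite G] {p : ℕ} [Fact p.Prime] (W : ∀ (Q : Type u) [Group Q], Subgroup Q) (hW : Cfsg.IsCharPFunctor.{u} p W) (S : Sylow p G) (hN : Cfsg.HasNormalPComplement p ↥(Subgroup.normalizer ((Cfsg.inducedFunctor (G := G) W (S : Subgroup G) : Subgroup G) : Set G))) (hloc : ∀ (K R : Subgroup G) [hR : (R.subgroupOf K).Normal], Subgroup.centralizer ((Cfsg.pCore p (↥K ⧸ R.subgroupOf K) : Subgroup (↥K ⧸ R.subgroupOf K)) : Set (↥K ⧸ R.subgroupOf K)) ≤ Cfsg.pCore p (↥K ⧸ R.subgroupOf K) → Cfsg.HasNormalPComplement p ((↥K ⧸ R.subgroupOf K) ⧸ Cfsg.pCore p (↥K ⧸ R.subgroupOf K)) → ∀ T : Sylow p (↥K ⧸ R.subgroupOf K), IsCoatom (T : Subgroup (↥K ⧸ R.subgroupOf K)) → (Cfsg.inducedFunctor (G := (↥K ⧸ R.subgroupOf K)) W ((T : Subgroup (↥K ⧸ R.subgroupOf K)))).Normal) : Cfsg.HasNormalPComplement p G := by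
  refine hasNormalPComplement_of_functor hW S hN fun G' _ _ S' hcr => not_normal_of_critical hcr ?_
  obtain ⟨K, R, hR, ⟨e⟩⟩ := hcr.ok
  have hsy := isSylowIn_map (isSylowIn_top S') e.symm.toMonoidHom e.symm.surjective
  let T : Sylow p (↥K ⧸ R.subgroupOf K) := hsy.toSylowTop
  have hmapT : (T : Subgroup (↥K ⧸ R.subgroupOf K)).map e.toMonoidHom = (S' : Subgroup G') := by
    show (((S' : Subgroup G').map e.symm.toMonoidHom).map e.toMonoidHom) = _
    rw [Subgroup.map_map]
    simp
  have hT : IsCoatom (T : Subgroup (↥K ⧸ R.subgroupOf K)) := by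
    refine (OrderIso.isCoatom_iff (MulEquiv.mapSubgroup e) _).mp ?_
    show IsCoatom ((T : Subgroup (↥K ⧸ R.subgroupOf K)).map e.toMonoidHom)
    rw [hmapT]
    exact hcr.coatom
  have hn := hloc K R (isConstrained_of_equiv e.symm hcr.constrained)
    (pnil_quotient_congr e.symm hcr.quotient) T hT
  rw [← hmapT, inducedFunctor_map hW e.toMonoidHom T.2 e.injective.injOn]
  exact hn.map _ e.surjective

end Cfsg.Agent.S2005
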