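import Cfsg.Statements.S2006
import Cfsg.Agent.ConjFunctor.PComplementCrit

set_option autoImplicit false
universe u
open Cfsg CfsgLib.ConjFunctor
open scoped commutatorElement

namespace Cfsg.Agent.S2006

/-- Let p be a prime, G a finite group with Sylow p-subgroup S, and W an isomorphism-invariant p-group functor (W assigns to every group Q a subgroup W(Q), nontrivial whenever Q is a nontrivial finite p-group, and every isomorphism from a finite p-group Q onto a group R carries W(Q) onto W(R)). Suppose N_G(W(S)) has a normal p-complement, and that whenever G* = K/R is a section of G with C_{G*}(O_p(G*)) ≤ O_p(G*) and S* is a Sylow p-subgroup of G* with W(S*) not normal in G*, there are an element g of S* outside O_p(G*) and a chief factor X/Y of G* with X ≤ O_p(G*) such that [X, g, …, g] ≤ Y with p − 1 entries g but [X, g] ≰ Y. Then G has a normal p-complement. -/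
theorem result {G : Type u} [Group G] [Finite G] {p : ℕ} [Fact p.Prime] (W : ∀ (Q : Type u) [Group Q], Subgroup Q) (hW : Cfsg.IsCharPFunctor.{u} p W) (S : Sylow p G) (hN : Cfsg.HasNormalPComplement p ↥(Subgroup.normalizer ((Cfsg.inducedFunctor (G := G) W (S : Subgroup G) : Subgroup G) : Set G))) (hloc : ∀ (K R : Subgroup G) [hR : (R.subgroupOf K).Normal], Subgroup.centralizer ((Cfsg.pCore p (↥K ⧸ R.subgroupOf K) : Subgroup (↥K ⧸ R.subgroupOf K)) : Set (↥K ⧸ R.subgroupOf K)) ≤ Cfsg.pCore p (↥K ⧸ R.subgroupOf K) → ∀ T : Sylow p (↥K ⧸ R.subgroupOf K), ¬ (Cfsg.inducedFunctor (G := (↥K ⧸ R.subgroupOf K)) W ((T : Subgroup (↥K ⧸ R.subgroupOf K)))).Normal → ∃ g : (↥K ⧸ R.subgroupOf K), g ∈ (T : Subgroup (↥K ⧸ R.subgroupOf K)) ∧ g ∉ Cfsg.pCore p (↥K ⧸ R.subgroupOf K) ∧ ∃ U V : Subgroup (↥K ⧸ R.subgroupOf K), Cfsg.IsChiefFactor U V ∧ U ≤ Cfsg.pCore p (↥K ⧸ R.subgroupOf K) ∧ Cfsg.iterCommutator U (Subgroup.zpowers g) (p - 1) ≤ V ∧ ¬ ⁅U, Subgroup.zpowers g⁆ ≤ V) : Cfsg.HasNormalPComplement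 p G := by
  refine hasNormalPComplement_of_functor hW S hN fun G' _ _ S' hcr => ?_
  obtain ⟨K, R, hR, ⟨e⟩⟩ := hcr.ok
  have hsy := isSylowIn_map (isSylowIn_top S') e.symm.toMonoidHom e.symm.surjective
  let T : Sylow p (↥K ⧸ R.subgroupOf K) := hsy.toSylowTop
  have hmapT : (T : Subgroup (↥K ⧸ R.subgroupOf K)).map e.toMonoidHom = (S' : Subgroup G') := by
    show (((S' : Subgroup G').map e.symm.toMonoidHom).map e.toMonoidHom) = _
    rw [Subgroup.map_map]
    simp
  obtain ⟨g, hg, -, U, V, hUV, hU, hE, hmov⟩ := hloc K R (isConstrained_of_equiv e.symm hcr.constrained) T fun hn =>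
    not_normal_of_critical hcr (by
      rw [← hmapT, inducedFunctor_map hW e.toMonoidHom T.2 e.injective.injOn]
      exact hn.map _ e.surjective)
  have hUn := hUV.2.1
  have hVn := hUV.2.2.1
  have hab := (chiefFactor_elementary hUV ((CfsgLib.PLocal.isPGroup_pCore p _).to_le hU)).1
  refine hmov ((iterCommutator_le_iff hab g 1).mpr fun u hu => ?_)
  have hce := isChiefFactor_comap e.symm hUV
  have hgS : e g ∈ (S' : Subgroup G') := hmapT ▸ Subgroup.mem_map_of_mem e.toMonoidHom hg
  have := false_of_engel_factor hcr.abelian hcr.quotient hgS hce (fun x hx => by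
      have h1 := hU hx
      rw [← CfsgLib.PLocal.map_pCore_equiv e.symm] at h1
      obtain ⟨x', hx', hxx⟩ := h1
      rwa [← e.symm.injective hxx])
    (fun x hx => by
      show e.symm.toMonoidHom ((fun y => ⁅e g, y⁆)^[p - 1] x) ∈ V
      rw [map_iterate_commutator]
      show (fun y => ⁅e.symm (e g), y⁆)^[p - 1] (e.symm x) ∈ V
      rw [MulEquiv.symm_apply_apply]
      exact (iterCommutator_le_iff hab g (p - 1)).mp hE _ hx)
    (u := e u) (show e.symm (e u) ∈ U by rw [MulEquiv.symm_apply_apply]; exact hu)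
  have h2 : e.symm ⁅e g, e u⁆ ∈ V := this
  rwa [map_commutatorElement, MulEquiv.symm_apply_apply, MulEquiv.symm_apply_apply] at h2

end Cfsg.Agent.S2006
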