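import Cfsg.Statements.S2008
import Cfsg.Agent.ConjFunctor.KleinFree

set_option autoImplicit false
open Cfsg CfsgLib.ConjFunctor

namespace Cfsg.Agent.S2008

/-- Let H be a finite group and z an involution such that every proper normal subgroup of H meets the centralizer of z trivially, and suppose z lies in a Klein four-subgroup E of H all three of whose involutions are conjugate to z in H. Then H has no non-trivial abelian normal subgroup. -/
theorem result {H : Type*} [Group H] [Finite H] (z : H) (hz : orderOf z = 2) (hN : ∀ N : Subgroup H, N.Normal → N ≠ ⊤ → N ⊓ Subgroup.centralizer ({z} : Set H) = ⊥) (E : Subgroup H) (hE : IsKleinFour ↥E) (hzE : z ∈ E) (hc : ∀ e ∈ E, e ≠ 1 → IsConj z e) (N : Subgroup H) [N.Normal] (hab : IsMulCommutative ↥N) : N = ⊥ := by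
  have hz1 : z ≠ 1 := fun h => by simp [h] at hz
  refine (normal_eq_bot_or_top z hN E hE hzE hz1 hc N).resolve_right fun h => ?_
  subst h
  have : ∀ e ∈ E, e ≠ 1 → e = z := fun e he he1 => by
    obtain ⟨c, hc'⟩ := isConj_iff.mp (hc e he he1)
    have h0 : c * z = z * c := congrArg Subtype.val (hab.is_comm.comm (⟨c, Subgroup.mem_top c⟩ : (⊤ : Subgroup H)) ⟨z, Subgroup.mem_top z⟩)
    rw [← hc', h0, mul_inv_cancel_right]
  have hle : (E : Set H) ⊆ {1, z} := fun x hx => or_iff_not_imp_left.mpr fun h1 => this x hx h1
  have h4 := Set.ncard_le_ncard hle (Set.toFinite _)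
  rw [show (E : Set H).ncard = Nat.card E from rfl, IsKleinFour.card_four, Set.ncard_pair (Ne.symm hz1)] at h4
  omega

end Cfsg.Agent.S2008
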