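import Cfsg.Statements.S2011
import Cfsg.Agent.ConjFunctor.Basic
import Cfsg.Agent.Transfer.NormalPComplement
import Mathlib.GroupTheory.Transfer

set_option autoImplicit false
open Cfsg CfsgLib.ConjFunctor

namespace Cfsg.Agent.S2011

/-- Let G be a finite group with Sylow p-subgroup P and Q ≤ P. Then Q is centric in the fusion system of G on P (C_P(R) ≤ R for every G-conjugate R of Q lying in P) if and only if C_G(Q) is the internal direct product of Z(Q) = Q ∩ C_G(Q) and the largest normal subgroup of C_G(Q) of order prime to p. -/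
theorem result {G : Type*} [Group G] [Finite G] (p : ℕ) [Fact p.Prime] (P : Sylow p G) (Q : Subgroup G) (hQ : Q ≤ P) : (Cfsg.groupFusionSystem (P : Subgroup G)).IsCentric Q ↔ Cfsg.IsInternalDirectProduct (Q ⊓ Subgroup.centralizer (Q : Set G)) ((Cfsg.pPrimeCore p ↥(Subgroup.centralizer (Q : Set G))).map (Subgroup.centralizer (Q : Set G)).subtype) (Subgroup.centralizer (Q : Set G)) := by
  set C := Subgroup.centralizer (Q : Set G) with hC
  have hQp : IsPGroup p Q := P.2.to_le hQ
  have hK := CfsgLib.PLocal.coprime_card_pPrimeCore p C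
  set Z : Subgroup C := (Q ⊓ C).subgroupOf C with hZ
  have hZp : IsPGroup p Z := (hQp.to_inf_left).comap_subtype
  have hZmap : Z.map C.subtype = Q ⊓ C := Subgroup.map_subgroupOf_eq_of_le inf_le_right
  have hcomm : ∀ z ∈ Z, ∀ c : C, z * c = c * z := fun z hz c =>
    Subtype.ext (Subgroup.mem_centralizer_iff.mp c.2 _ hz.1)
  have hinf : Z ⊓ Cfsg.pPrimeCore p C = ⊥ := by
    rw [inf_comm]
    exact CfsgLib.Transfer.inf_eq_bot_of_not_dvd_card (CfsgLib.Transfer.coprime_prime_iff.mp hK) hZp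
  constructor
  · intro h
    obtain ⟨T, hT⟩ : ∃ T : Sylow p C, Z = (T : Subgroup C) := by
      let T : Sylow p C := default
      refine ⟨T, T.3 hZp fun t ht => ?_⟩
      let T' := (T : Subgroup C).map C.subtype
      have hTN : T' ≤ Subgroup.normalizer (Q : Set G) :=
        (Subgroup.map_subtype_le _).trans (centralizer_le_normalizer' Q)
      obtain ⟨R, hR⟩ := (hQp.to_sup_of_normal_left' (T.2.map C.subtype) hTN).exists_le_sylow
      obtain ⟨g, -, hg⟩ := (isSylowIn_top P).exists_cj_le (le_top : (R : Subgroup G) ≤ ⊤) R.2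
      have hQ' : ∀ x ∈ Q, g * x * g⁻¹ ∈ (P : Subgroup G) := fun x hx =>
        hg (conj_mem_cj g (hR (Subgroup.mem_sup_left hx)))
      have hconj : (Cfsg.groupFusionSystem (P : Subgroup G)).IsConj Q (Q.map (MulAut.conj g).toMonoidHom) := by
        refine ⟨Cfsg.conjHom Q g, ⟨hQ, fun x => hQ' x x.2, g, fun x => rfl⟩, ?_⟩
        ext y
        constructor
        · rintro ⟨x, rfl⟩; exact ⟨x, x.2, rfl⟩
        · rintro ⟨x, hx, rfl⟩; exact ⟨⟨x, hx⟩, rfl⟩
      have h1 := h.2 _ hconj (show g * (t : G) * g⁻¹ ∈ (P : Subgroup G) ⊓ Subgroup.centralizer ((Q.map (MulAut.conj g).toMonoidHom : Subgroup G) : Set G) from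
        Subgroup.mem_inf.mpr ⟨hg (conj_mem_cj g (hR (Subgroup.mem_sup_right ⟨t, ht, rfl⟩))), by
          rw [Subgroup.mem_centralizer_iff]
          rintro _ ⟨x, hx, rfl⟩
          have := Subgroup.mem_centralizer_iff.mp t.2 x hx
          show g * x * g⁻¹ * (g * t * g⁻¹) = g * t * g⁻¹ * (g * x * g⁻¹)
          calc g * x * g⁻¹ * (g * t * g⁻¹) = g * (x * t) * g⁻¹ := by group
            _ = g * (t * x) * g⁻¹ := by rw [this]
            _ = _ := by group⟩)
      have h2 : (t : G) ∈ Q := by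
        have h3 := mem_cj.mp h1
        simpa [mul_assoc] using h3
      exact Subgroup.mem_subgroupOf.mpr (Subgroup.mem_inf.mpr ⟨h2, t.2⟩)
    have hcen : Subgroup.normalizer ((T : Subgroup C) : Set C) ≤ Subgroup.centralizer ((T : Subgroup C) : Set C) :=
      fun c _ => Subgroup.mem_centralizer_iff.mpr fun z hz => hcomm z (hT ▸ hz) c
    have hcompl := MonoidHom.ker_transferSylow_isComplement' T hcen
    have hker := CfsgLib.Transfer.not_dvd_card_of_isComplement' hcompl
    have hsup : Z ⊔ Cfsg.pPrimeCore p C = ⊤ := by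
      rw [hT, eq_top_iff, ← hcompl.sup_eq_top, sup_comm]
      exact sup_le_sup_left (CfsgLib.PLocal.le_pPrimeCore (CfsgLib.Transfer.coprime_prime_iff.mpr hker)) _
    refine ⟨inf_le_right, Subgroup.map_subtype_le _, ?_, ?_, ?_⟩
    · rintro a ha _ ⟨b, -, rfl⟩
      exact congrArg Subtype.val (hcomm ⟨a, ha.2⟩ (Subgroup.mem_subgroupOf.mpr ha) b)
    · rw [← hZmap, ← Subgroup.map_inf _ _ _ C.subtype_injective, hinf, Subgroup.map_bot]
    · rw [← hZmap, ← Subgroup.map_sup, hsup, ← MonoidHom.range_eq_map, Subgroup.range_subtype]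
  · rintro ⟨-, -, -, -, hsup⟩
    have hsup' : Z ⊔ Cfsg.pPrimeCore p C = ⊤ := by
      refine Subgroup.map_injective C.subtype_injective ?_
      rw [Subgroup.map_sup, hZmap, hsup, ← MonoidHom.range_eq_map, Subgroup.range_subtype]
    refine ⟨hQ, ?_⟩
    rintro _ ⟨φ, ⟨-, hφ, g, hg⟩, rfl⟩ x ⟨hxP, hxC⟩
    have hc : g⁻¹ * x * g ∈ C := Subgroup.mem_centralizer_iff.mpr fun q hq => by
      have h1 := Subgroup.mem_centralizer_iff.mp hxC _ ⟨⟨q, hq⟩, hg ⟨q, hq⟩⟩
      calc q * (g⁻¹ * x * g) = g⁻¹ * (g * q * g⁻¹ * x) * g := by group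
        _ = g⁻¹ * (x * (g * q * g⁻¹)) * g := by rw [h1]
        _ = _ := by group
    have hmem : (⟨_, hc⟩ : C) ∈ ((Z ⊔ Cfsg.pPrimeCore p C : Subgroup C) : Set C) := by rw [hsup']; trivial
    rw [Subgroup.coe_mul_of_right_le_normalizer_left Z _ (fun k _ => mem_normalizer_of_forall_conj_mem fun z hz => by
      rwa [← hcomm z hz k, mul_inv_cancel_right]), Set.mem_mul] at hmem
    obtain ⟨z, hz, k, hk, hzk⟩ := hmem
    obtain ⟨i, hi⟩ := P.2 ⟨x, hxP⟩
    obtain ⟨j, hj⟩ := hZp ⟨z, hz⟩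
    have hi' : (z * k) ^ p ^ i = 1 := by
      rw [hzk]
      refine Subtype.ext ?_
      show (g⁻¹ * x * g) ^ p ^ i = 1
      have := conj_pow (i := p ^ i) (a := g⁻¹) (b := x)
      rw [inv_inv] at this
      rw [this, show x ^ p ^ i = 1 from congrArg Subtype.val hi]
      group
    have hj' : z ^ p ^ (i + j) = 1 := by
      rw [add_comm, pow_add, pow_mul, show z ^ p ^ j = 1 from congrArg Subtype.val hj, one_pow]
    have hk' : k ^ p ^ (i + j) = 1 := by
      have h2 : (z * k) ^ p ^ (i + j) = 1 := by rw [pow_add, pow_mul, hi', one_pow]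
      rw [(show Commute z k from hcomm z hz k).mul_pow, hj', one_mul] at h2
      exact h2
    have hk1 : k = 1 := orderOf_eq_one_iff.mp (Nat.eq_one_of_dvd_coprimes
      (hK.pow_right (i + j)) (Subgroup.orderOf_dvd_natCard _ hk) (orderOf_dvd_of_pow_eq_one hk'))
    rw [hk1, mul_one] at hzk
    subst hzk
    exact ⟨⟨g⁻¹ * x * g, hz.1⟩, by rw [hg]; group⟩

end Cfsg.Agent.S2011
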