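import Cfsg.Statements.S2014
import Cfsg.Agent.ConjFunctor.Basic
import Cfsg.Agent.Transfer.Residual

set_option autoImplicit false
open Cfsg CfsgLib.ConjFunctor

namespace Cfsg.Agent.S2014

/-- Let P be a Sylow p-subgroup of a finite group G and A, C ≤ P subgroups conjugate in G, with C extremal: N_P(C) is a Sylow p-subgroup of N_G(C). Then there is g with gAg⁻¹ = C and g N_P(A) g⁻¹ ≤ N_P(C); moreover, given any h with hAh⁻¹ = C, g can be chosen so that h g⁻¹ lies in O^p(N_G(C)), the subgroup of N_G(C) generated by its elements of order prime to p. -/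
theorem result {G : Type*} [Group G] [Finite G] (p : ℕ) [Fact p.Prime] (P : Sylow p G) (A C : Subgroup G) (hA : A ≤ P) (hC : C ≤ P) (hext : ¬ p ∣ ((P : Subgroup G) ⊓ Subgroup.normalizer ((C : Subgroup G) : Set G)).relIndex (Subgroup.normalizer ((C : Subgroup G) : Set G))) (h : G) (hh : A.map (MulAut.conj h).toMonoidHom = C) : ∃ g : G, A.map (MulAut.conj g).toMonoidHom = C ∧ ((P : Subgroup G) ⊓ Subgroup.normalizer ((A : Subgroup G) : Set G)).map (MulAut.conj g).toMonoidHom ≤ (P : Subgroup G) ⊓ Subgroup.normalizer ((C : Subgroup G) : Set G) ∧ h * g⁻¹ ∈ (Cfsg.pResidual p ↥(Subgroup.normalizer ((C : Subgroup G) : Set G))).map (Subgroup.normalizer ((C : Subgroup G) : Set G)).subtype := by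
  have hSy := (extremal_iff P.2).mp hext
  set N := Subgroup.normalizer ((C : Subgroup G) : Set G)
  set X := h *• ((P : Subgroup G) ⊓ Subgroup.normalizer (A : Set G))
  have hXN : X ≤ N := by
    show h *• _ ≤ Subgroup.normalizer (C : Set G)
    rw [← hh, normalizer_cj]
    exact cj_mono h inf_le_right
  obtain ⟨b, hb, hbX⟩ := hSy.exists_cj_le hXN (isPGroup_cj h P.2.to_inf_left)
  let S0 : Sylow p N := (hSy.2.1.comap_subtype (K := N)).toSylow hSy.2.2
  have hbs : (⟨b, hb⟩ : N) ∈ (S0 : Subgroup N) ⊔ Cfsg.pResidual p N := by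
    rw [CfsgLib.Transfer.sylow_sup_pResidual S0]; trivial
  obtain ⟨s, hs, k, hk, hsk⟩ := Subgroup.mem_sup_of_normal_right.mp hbs
  have hsP : (s : G) ∈ (P : Subgroup G) ⊓ N := hs
  refine ⟨(k : G) * h, ?_, ?_, ⟨k⁻¹, inv_mem hk, by simp⟩⟩
  · rw [← cj_cj, hh, cj_eq_of_mem_normalizer k.2]
  · rw [← cj_cj]
    have e : (k : G) = (s : G)⁻¹ * b := by
      rw [show b = (s : G) * k from (congrArg Subtype.val hsk).symm, inv_mul_cancel_left]
    rw [e, ← cj_cj]
    exact (cj_mono _ hbX).trans (cj_self_of_mem (inv_mem hsP)).le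

end Cfsg.Agent.S2014
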