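import Cfsg.Statements.S2015
import Cfsg.Agent.ConjFunctor.Corollaries

set_option autoImplicit false
universe u
open Cfsg CfsgLib.ConjFunctor

namespace Cfsg.Agent.S2015

/-- For p ≥ 5, every finite p-group P has a characteristic subgroup K containing Z(P), depending only on P, whose normalizer controls transfer wherever P is a Sylow subgroup: for every finite group G and every embedding ι of P onto a Sylow p-subgroup of G, the intersection of ι(P) with the derived subgroup of G equals its intersection with the derived subgroup of N_G(ι(K)). -/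
theorem result (p : ℕ) [Fact p.Prime] (hp : 5 ≤ p) (P : Type u) [Group P] [Finite P] (hP : IsPGroup p P) : ∃ K : Subgroup P, K.Characteristic ∧ Subgroup.center P ≤ K ∧ ∀ (G : Type u) [Group G] [Finite G] (ι : P →* G), Function.Injective ι → (∃ T : Sylow p G, (T : Subgroup G) = ι.range) → ι.range ⊓ commutator G = ι.range ⊓ (commutator ↥(Subgroup.normalizer ((K.map ι : Subgroup G) : Set G))).map (Subgroup.normalizer ((K.map ι : Subgroup G) : Set G)).subtype := by
  have := hP.isNilpotent
  refine ⟨Cfsg.kInfLower P, Subgroup.characteristic_iff_map_eq.mpr fun φ => (map_kInf_equiv φ).1,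
    center_le_kInf.1, ?_⟩
  intro G _ _ ι hι hT
  obtain ⟨T, hT⟩ := hT
  have hS : IsSylowIn p ι.range ⊤ := hT ▸ isSylowIn_top T
  have htop : Cfsg.inducedFunctor (G := P) Cfsg.kInfLower ⊤ = Cfsg.kInfLower P :=
    (map_kInf_equiv (Subgroup.topEquiv : (⊤ : Subgroup P) ≃* P)).1
  have h := inf_commutator_eq_kInf hp (W := fun Q [Group Q] => Cfsg.kInfLower Q) (Or.inl rfl) hS
  have hm := inducedFunctor_map (isCharPFunctor_kInfLower (p := p)) ι (P := (⊤ : Subgroup P))
    (hP.to_subgroup ⊤) hι.injOn
  rw [← MonoidHom.range_eq_map] at hm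
  rw [hm, htop] at h
  rw [Subgroup.map_subtype_commutator]
  exact h

end Cfsg.Agent.S2015
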