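import Cfsg.Statements.S2035
import Cfsg.Agent.MTwelveCover.Cover
import Cfsg.Agent.MTwelveCover.Tables
import Cfsg.Agent.MTwelveCover.SylowTwo
import Cfsg.Agent.MTwelveCover.SylowThree
import Cfsg.Agent.Schur.MathieuMult
import Cfsg.Agent.Schur.M11Data
-- import your own Cfsg.Agent.* helpers here

set_option autoImplicit false
open Cfsg

namespace Cfsg.Agent.S2035

open CfsgLib.Schur CfsgLib.Schur.Pc CfsgLib.Mathieu CfsgLib.MTwelveCover in
/-- The Schur multiplier of the Mathieu group M₁₂ (the stabiliser of a dodecad in the automorphism group of the length-24 binary code) is cyclic of order 2; here the Schur multiplier is described through stem extensions, as in the definitions: surjective homomorphisms onto the group from a finite group, whose kernel is central in that finite group and contained in that finite group's commutator subgroup. -/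
theorem result : Cfsg.HasCyclicSchurMultiplier ↥Cfsg.Spor.M12 2 := by
  have hord : Nat.card ↥Cfsg.Spor.M12 = 95040 := card_SporM12
  refine ⟨⟨↥cover, inferInstance, inferInstance, proj, isStemExtension_proj, ?_⟩, ?_⟩
  · haveI : Fact (Nat.Prime 2) := ⟨Nat.prime_two⟩
    exact ⟨mulEquivOfPrimeCardEq (p := 2) card_ker (by simp)⟩
  intro Γ _ _ σ hσ
  obtain ⟨W, hW, hW2, hWz⟩ := ker_pow_mem_zpowers_of_tables SylowTwo.cert SylowTwo.span 2
    SylowTwo.gens SylowTwo.conjs SylowTwo.base
    (forall_inGroup inGroup_of_inM12 (by decide +kernel))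
    (forall_inGroup inGroup_of_inM12 (by decide +kernel)) (by decide +kernel) Nat.prime_two
    (N := 1485) (by rw [hord]; rfl) σ hσ
  obtain ⟨V, -, hV1, hVz⟩ := ker_pow_mem_zpowers_of_tables SylowThree.cert SylowThree.span 1
    SylowThree.gens SylowThree.conjs SylowThree.base
    (forall_inGroup inGroup_of_inM12 (by decide +kernel))
    (forall_inGroup inGroup_of_inM12 (by decide +kernel)) (by decide +kernel) Nat.prime_three
    (N := 3520) (by rw [hord]; rfl) σ hσ
  rw [pow_one] at hV1
  have h55 : ∀ (p : ℕ) (hp : p.Prime) (t : ℕ) (N : ℕ), InGroup enc Spor.M12 t →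
      (wordEq [t] (List.replicate p 0) [] && !(wordEq [t] [0] [])) = true →
      95040 = p * N → ¬ p ∣ N → ¬ p ∣ Nat.card σ.ker := by
    intro p hp t N ht hok hN hNp
    haveI : Fact p.Prime := ⟨hp⟩
    refine not_dvd_card_ker_of_exponent_p (fun Γ' _ _ σ' hσ' hexp => ?_) σ hσ
    exact ker_eq_bot_of_table hp t ht hok (by rw [hord, hN]) hNp σ' hσ' hexp
  have h5 : ¬ 5 ∣ Nat.card σ.ker := h55 5 (by norm_num) (M11Data.cycXs.getD 0 0) 19008
    (inGroup_of_inM12 (by decide +kernel)) (by decide +kernel) (by norm_num) (by norm_num)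
  have h11 : ¬ 11 ∣ Nat.card σ.ker := h55 11 (by norm_num) (M11Data.cycXs.getD 1 0) 8640
    (inGroup_of_inM12 (by decide +kernel)) (by decide +kernel) (by norm_num) (by norm_num)
  have h3 : ¬ 3 ∣ Nat.card σ.ker := by
    intro h
    haveI : Fact (Nat.Prime 3) := ⟨Nat.prime_three⟩
    obtain ⟨y, hy⟩ := exists_prime_orderOf_dvd_card' (G := σ.ker) 3 h
    have := hVz y.1 y.2
    rw [hV1, Subgroup.zpowers_one_eq_bot, Subgroup.mem_bot] at this
    have hd : orderOf y ∣ 3520 := orderOf_dvd_of_pow_eq_one (Subtype.ext this)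
    rw [hy] at hd
    norm_num at hd
  have hall : ∀ z ∈ σ.ker, z ∈ Subgroup.zpowers W := by
    intro z hz
    have hcop : (orderOf z).Coprime 1485 := by
      have hd : orderOf z ∣ Nat.card σ.ker := by
        rw [show orderOf z = orderOf (⟨z, hz⟩ : σ.ker) from Subgroup.orderOf_coe ⟨z, hz⟩]
        exact orderOf_dvd_natCard _
      refine Nat.Coprime.coprime_dvd_left hd ?_
      rw [show 1485 = 3 ^ 3 * (5 * 11) from rfl]
      exact Nat.Coprime.mul_right ((Nat.prime_three.coprime_iff_not_dvd.2 h3).symm.pow_right 3)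
        (Nat.Coprime.mul_right
          ((by norm_num : Nat.Prime 5).coprime_iff_not_dvd.2 h5).symm
          ((by norm_num : Nat.Prime 11).coprime_iff_not_dvd.2 h11).symm)
    obtain ⟨m, hm⟩ := exists_pow_eq_self_of_coprime hcop.symm
    have := Subgroup.pow_mem _ (hWz z hz) m
    rwa [hm] at this
  have hWk : (⟨W, hW⟩ : σ.ker) ^ 2 = 1 := Subtype.ext hW2
  let f : ZMod 2 →+ Additive σ.ker := ZMod.lift 2
    ⟨zmultiplesHom (Additive σ.ker) (Additive.ofMul ⟨W, hW⟩), by
      rw [zmultiplesHom_apply, ← ofMul_zpow, zpow_natCast, hWk, ofMul_one]⟩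
  refine ⟨AddMonoidHom.toMultiplicativeLeft f, fun z => ?_⟩
  obtain ⟨j, hj⟩ := Subgroup.mem_zpowers_iff.1 (hall z.1 z.2)
  refine ⟨Multiplicative.ofAdd (j : ZMod 2), ?_⟩
  change Additive.toMul (f (j : ZMod 2)) = z
  rw [ZMod.lift_coe]
  simp only [zmultiplesHom_apply, ← ofMul_zpow]
  exact Subtype.ext (by simpa using hj)

end Cfsg.Agent.S2035
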