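import Cfsg.Statements.S2036
import Cfsg.Agent.MTwentyTwoCover.Cover
import Cfsg.Agent.MTwentyTwoCover.Cyclic
import Cfsg.Agent.MTwentyTwoCover.SylowTwo
import Cfsg.Agent.MTwentyTwoCover.SylowThree
import Cfsg.Agent.MTwelveCover.Tables
import Cfsg.Agent.Schur.MathieuMult
-- import your own Cfsg.Agent.* helpers here

set_option autoImplicit false
open Cfsg

namespace Cfsg.Agent.S2036

open CfsgLib.Schur CfsgLib.Schur.Pc CfsgLib.Mathieu CfsgLib.MTwelveCover CfsgLib.MTwentyTwoCover in
/-- The Schur multiplier of the Mathieu group M₂₂ (the permutations in the automorphism group of the length-24 binary code that fix each of two given points) is cyclic of order 12; here the Schur multiplier is described through stem extensions, as in the definitions: surjective homomorphisms onto the group from a finite group, whose kernel is central in that finite group and contained in that finite group's commutator subgroup. -/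
theorem result : Cfsg.HasCyclicSchurMultiplier ↥Cfsg.Spor.M22 12 := by
  have hord : Nat.card ↥Cfsg.Spor.M22 = 443520 := card_SporM22
  refine ⟨⟨↥CfsgLib.MTwentyTwoCover.cover, inferInstance, inferInstance,
    CfsgLib.MTwentyTwoCover.proj, CfsgLib.MTwentyTwoCover.isStemExtension_proj,
    ⟨CfsgLib.MTwentyTwoCover.kerEquiv⟩⟩, ?_⟩
  intro Γ _ _ σ hσ
  obtain ⟨A, hA, hA4, hAz⟩ := ker_pow_mem_zpowers_of_tables
    CfsgLib.MTwentyTwoCover.SylowTwo.cert CfsgLib.MTwentyTwoCover.SylowTwo.span 4
    CfsgLib.MTwentyTwoCover.SylowTwo.gens CfsgLib.MTwentyTwoCover.SylowTwo.conjs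
    CfsgLib.MTwentyTwoCover.SylowTwo.base
    (forall_inGroup inGroup_of_inM22 (by decide +kernel))
    (forall_inGroup inGroup_of_inM22 (by decide +kernel)) (by decide +kernel) Nat.prime_two
    (N := 3465) (by rw [hord]; rfl) σ hσ
  obtain ⟨B, hB, hB3, hBz⟩ := ker_pow_mem_zpowers_of_tables
    CfsgLib.MTwentyTwoCover.SylowThree.cert CfsgLib.MTwentyTwoCover.SylowThree.span 3
    CfsgLib.MTwentyTwoCover.SylowThree.gens CfsgLib.MTwentyTwoCover.SylowThree.conjs
    CfsgLib.MTwentyTwoCover.SylowThree.base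
    (forall_inGroup inGroup_of_inM22 (by decide +kernel))
    (forall_inGroup inGroup_of_inM22 (by decide +kernel)) (by decide +kernel) Nat.prime_three
    (N := 49280) (by rw [hord]; rfl) σ hσ
  have hcyc : ∀ (p : ℕ) (hp : p.Prime) (t : ℕ) (N : ℕ), InGroup enc Spor.M22 t →
      (wordEq [t] (List.replicate p 0) [] && !(wordEq [t] [0] [])) = true →
      443520 = p * N → ¬ p ∣ N → ¬ p ∣ Nat.card σ.ker := by
    intro p hp t N ht hok hN hNp
    haveI : Fact p.Prime := ⟨hp⟩
    refine not_dvd_card_ker_of_exponent_p (fun Γ' _ _ σ' hσ' hexp => ?_) σ hσ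
    exact ker_eq_bot_of_table hp t ht hok (by rw [hord, hN]) hNp σ' hσ' hexp
  have h5 : ¬ 5 ∣ Nat.card σ.ker := hcyc 5 (by norm_num) (cycTables.getD 0 0) 88704
    (inGroup_of_inM22 (by decide +kernel)) (by decide +kernel) (by norm_num) (by norm_num)
  have h7 : ¬ 7 ∣ Nat.card σ.ker := hcyc 7 (by norm_num) (cycTables.getD 1 0) 63360
    (inGroup_of_inM22 (by decide +kernel)) (by decide +kernel) (by norm_num) (by norm_num)
  have h11 : ¬ 11 ∣ Nat.card σ.ker := hcyc 11 (by norm_num) (cycTables.getD 2 0) 40320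
    (inGroup_of_inM22 (by decide +kernel)) (by decide +kernel) (by norm_num) (by norm_num)
  have hcomm : Commute A B := ((Subgroup.mem_center_iff.1 (hσ.2.1 hA)) B).symm
  have hW12 : (A * B) ^ 12 = 1 := by
    rw [hcomm.mul_pow, show 12 = 4 * 3 from rfl, pow_mul A, hA4, one_pow, one_mul,
      show 4 * 3 = 3 * 4 from rfl, pow_mul B, hB3, one_pow]
  have hAW : A ∈ Subgroup.zpowers (A * B) := by
    have : (A * B) ^ 9 = A := by
      rw [hcomm.mul_pow, show 9 = 4 * 2 + 1 from rfl, pow_succ A, pow_mul A, hA4, one_pow, one_mul,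
        show 4 * 2 + 1 = 3 * 3 from rfl, pow_mul B, hB3, one_pow, mul_one]
    exact Subgroup.mem_zpowers_iff.2 ⟨((9 : ℕ) : ℤ), by rw [zpow_natCast, this]⟩
  have hBW : B ∈ Subgroup.zpowers (A * B) := by
    have : (A * B) ^ 4 = B := by
      rw [hcomm.mul_pow, hA4, one_mul, pow_succ B, hB3, one_mul]
    exact Subgroup.mem_zpowers_iff.2 ⟨((4 : ℕ) : ℤ), by rw [zpow_natCast, this]⟩
  have hall : ∀ z ∈ σ.ker, z ∈ Subgroup.zpowers (A * B) := by
    intro z hz
    have hcop : (orderOf z).Coprime 385 := by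
      have hd : orderOf z ∣ Nat.card σ.ker := by
        rw [show orderOf z = orderOf (⟨z, hz⟩ : σ.ker) from Subgroup.orderOf_coe ⟨z, hz⟩]
        exact orderOf_dvd_natCard _
      refine Nat.Coprime.coprime_dvd_left hd ?_
      rw [show 385 = 5 * (7 * 11) from rfl]
      exact Nat.Coprime.mul_right
        ((by norm_num : Nat.Prime 5).coprime_iff_not_dvd.2 h5).symm
        (Nat.Coprime.mul_right
          ((by norm_num : Nat.Prime 7).coprime_iff_not_dvd.2 h7).symm
          ((by norm_num : Nat.Prime 11).coprime_iff_not_dvd.2 h11).symm)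
    obtain ⟨m, hm⟩ := exists_pow_eq_self_of_coprime hcop.symm
    have h1 : z ^ 385 ∈ Subgroup.zpowers (A * B) := by
      have e : z ^ 385 = (z ^ 3465) ^ (57 : ℤ) * (z ^ 49280) ^ (-4 : ℤ) := by
        rw [← zpow_natCast, ← zpow_natCast z 3465, ← zpow_natCast z 49280, ← zpow_mul, ← zpow_mul,
          ← zpow_add]
        norm_num
      rw [e]
      exact Subgroup.mul_mem _
        (Subgroup.zpow_mem _ ((Subgroup.zpowers_le.2 hAW) (hAz z hz)) _)
        (Subgroup.zpow_mem _ ((Subgroup.zpowers_le.2 hBW) (hBz z hz)) _)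
    have := Subgroup.pow_mem _ h1 m
    rwa [hm] at this
  have hW : A * B ∈ σ.ker := mul_mem hA hB
  have hWk : (⟨A * B, hW⟩ : σ.ker) ^ 12 = 1 := Subtype.ext hW12
  let f : ZMod 12 →+ Additive σ.ker := ZMod.lift 12
    ⟨zmultiplesHom (Additive σ.ker) (Additive.ofMul ⟨A * B, hW⟩), by
      rw [zmultiplesHom_apply, ← ofMul_zpow, zpow_natCast, hWk, ofMul_one]⟩
  refine ⟨AddMonoidHom.toMultiplicativeLeft f, fun z => ?_⟩
  obtain ⟨j, hj⟩ := Subgroup.mem_zpowers_iff.1 (hall z.1 z.2)
  refine ⟨Multiplicative.ofAdd (j : ZMod 12), ?_⟩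
  change Additive.toMul (f (j : ZMod 12)) = z
  rw [ZMod.lift_coe]
  simp only [zmultiplesHom_apply, ← ofMul_zpow]
  exact Subtype.ext (by simpa using hj)

end Cfsg.Agent.S2036
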