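import Cfsg.Statements.S2043
import Cfsg.Agent.CoOneMult.Main

set_option autoImplicit false
set_option linter.style.haveILetI false
open Cfsg

namespace Cfsg.Agent.S2043

/-- The Schur multiplier of the Conway group Co₁ (the automorphism group of the rank-24 lattice modulo its centre) is cyclic of order 2; here the Schur multiplier is described through stem extensions, as in the definitions: surjective homomorphisms onto the group from a finite group, whose kernel is central in that finite group and contained in that finite group's commutator subgroup. -/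
theorem result : Cfsg.HasCyclicSchurMultiplier Cfsg.Spor.Co1 2 := by
  open CfsgLib CfsgLib.Leech CfsgLib.CoOneMult in
  haveI : Finite Co0 := co0_finite
  have hperf := isPerfect_Co0
  have htop : commutator Co0 = ⊤ := Group.isPerfect_def.mp hperf
  have hG : Group.IsPerfect Cfsg.Spor.Co1 := by
    rw [Group.isPerfect_def, commutator_def,
      ← Subgroup.map_top_of_surjective _ (QuotientGroup.mk'_surjective (Subgroup.center Co0)),
      ← Subgroup.map_commutator, ← commutator_def, htop]
  let τ : Co0 →* Cfsg.Spor.Co1 := QuotientGroup.mk' (Subgroup.center Co0)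
  have hτ : Function.Surjective τ := QuotientGroup.mk'_surjective _
  have hker : τ.ker = Subgroup.center Co0 := QuotientGroup.ker_mk' _
  have hcard : Nat.card τ.ker = 2 := by rw [hker]; exact card_center
  haveI : Fact (Nat.Prime 2) := ⟨Nat.prime_two⟩
  refine ⟨⟨Co0, inferInstance, co0_finite, τ, ⟨hτ, hker.le, by rw [htop]; exact le_top⟩,
    ⟨mulEquivOfPrimeCardEq (p := 2) hcard (by simp)⟩⟩, ?_⟩
  intro Γ _ _ σ hσ
  have hno : ∀ (Δ : Type) [Group Δ] [Finite Δ] (ρ : Δ →* commutator Co0),
      Cfsg.IsStemExtension ρ → ρ.ker = ⊥ := by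
    intro Δ _ _ ρ hρ
    have hk : ((commutator Co0).subtype.comp ρ).ker = ρ.ker := by
      ext x; simp [MonoidHom.mem_ker]
    rw [← hk]
    refine ker_eq_bot_Co0 _ ⟨fun g => ?_, hk.le.trans hρ.2.1, hk.le.trans hρ.2.2⟩
    obtain ⟨x, hx⟩ := hρ.1 ⟨g, htop ▸ Subgroup.mem_top g⟩
    exact ⟨x, by simp [hx]⟩
  obtain ⟨π, hπ⟩ := Schur.exists_ker_surjective τ hτ hker.le hG hno σ hσ
  have hc2 : Nat.card (τ.comp (commutator Co0).subtype).ker = 2 := by
    rw [← hcard]
    refine Nat.card_congr ⟨fun x => ⟨x.1.1, x.2⟩, fun x => ⟨⟨x.1, htop ▸ Subgroup.mem_top _⟩, x.2⟩,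
      fun _ => rfl, fun _ => rfl⟩
  let e : Multiplicative (ZMod 2) ≃* (τ.comp (commutator Co0).subtype).ker :=
    mulEquivOfPrimeCardEq (p := 2) (by simp) hc2
  exact ⟨π.comp e.toMonoidHom, hπ.comp e.surjective⟩

end Cfsg.Agent.S2043
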