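import Cfsg.Statements.S2053
import Cfsg.Agent.FiTwentyTwoCover.Bound
import Cfsg.Agent.FiTwentyTwoCover.SixCover
-- import your own Cfsg.Agent.* helpers here

set_option autoImplicit false
open Cfsg

namespace Cfsg.Agent.S2053

/-- The Schur multiplier of the Fischer group Fi₂₂ (the finitely presented group of the definitions) is cyclic of order 6; here the Schur multiplier is described through stem extensions, as in the definitions: surjective homomorphisms onto the group from a finite group, whose kernel is central in that finite group and contained in that finite group's commutator subgroup. -/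
theorem result : Cfsg.HasCyclicSchurMultiplier Cfsg.Spor.Fi22 6 := by
  have hfin : Finite Cfsg.Spor.Fi22 := CfsgLib.CosetEnum.Fi22.finite_grp
  refine ⟨⟨↥CfsgLib.FiTwentyTwoCover.cover6, inferInstance, inferInstance,
    CfsgLib.FiTwentyTwoCover.proj6, CfsgLib.FiTwentyTwoCover.isStemExtension_proj6,
    ⟨CfsgLib.FiTwentyTwoCover.kerEquiv6⟩⟩, ?_⟩
  intro Γ _ _ σ hσ
  obtain ⟨W, hW6, hker⟩ := CfsgLib.FiTwentyTwoCover.stem_bound σ hσ
  have hW : W ∈ σ.ker := by rw [hker]; exact Subgroup.mem_zpowers W
  have hWk : (⟨W, hW⟩ : σ.ker) ^ 6 = 1 := Subtype.ext hW6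
  let f : ZMod 6 →+ Additive σ.ker := ZMod.lift 6
    ⟨zmultiplesHom (Additive σ.ker) (Additive.ofMul ⟨W, hW⟩), by
      rw [zmultiplesHom_apply, ← ofMul_zpow, zpow_natCast, hWk, ofMul_one]⟩
  refine ⟨AddMonoidHom.toMultiplicativeLeft f, fun z => ?_⟩
  have hz : z.1 ∈ Subgroup.zpowers W := hker ▸ z.2
  obtain ⟨j, hj⟩ := Subgroup.mem_zpowers_iff.1 hz
  refine ⟨Multiplicative.ofAdd (j : ZMod 6), ?_⟩
  change Additive.toMul (f (j : ZMod 6)) = z
  rw [ZMod.lift_coe]
  simp only [zmultiplesHom_apply, ← ofMul_zpow]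
  exact Subtype.ext (by simpa using hj)

end Cfsg.Agent.S2053
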