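import Cfsg.Statements.S2063
import Cfsg.Agent.SporadicOut.MathieuGlue
import Cfsg.Agent.SporadicOut.M23Data
-- import your own Cfsg.Agent.* helpers here

set_option autoImplicit false
open Cfsg

namespace Cfsg.Agent.S2063

open CfsgLib.Mathieu CfsgLib.Schur.Pc CfsgLib.SporadicOut CfsgLib.SporadicOut.M23Data in
/-- The outer automorphism group of the Mathieu group M₂₃ (the stabiliser of a point in the automorphism group of the length-24 binary code) is trivial: every automorphism is inner. -/
theorem result : Nat.card (Cfsg.Out ↥Cfsg.Spor.M23) = 1 := by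
  obtain ⟨σa, ha, ra⟩ := (inGroup_of_inM23 (show _ = true from (by decide +kernel : inM23 rigid.a = true)))
  obtain ⟨σb, hb, rb⟩ := (inGroup_of_inM23 (show _ = true from (by decide +kernel : inM23 rigid.b = true)))
  obtain ⟨σc, hc, rc⟩ := (inGroup_of_inM23 (show _ = true from (by decide +kernel : inM23 rigid.c = true)))
  have hgen := trip_generates (H := Spor.M23) (G := M24) SporM23_le ⟨σa, ha⟩ ⟨σb, hb⟩ ⟨σc, hc⟩ ra rb rc steps strong (by decide +kernel) (m24Levels.drop 1) [pt 23] (le_of_eq SporM23_eq) (H' := m24Gen) m24Levels_tail1 (le_of_eq SporM23_eq.symm) trees (by decide +kernel)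
  exact out_eq_one_of_check rigid fixes (by decide +kernel) SporM23_le fixM23 (N := 443520) (by rw [card_SporM23]; rfl) (by decide +kernel)
    (forall_inGroup inGroup_of_inM23 (by decide +kernel)) (by decide +kernel) _ _ _ ra rb rc ⟨rfl, rfl, rfl⟩ hgen (by decide +kernel)

end Cfsg.Agent.S2063
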