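import Cfsg.Statements.S2071
import Cfsg.Agent.Leech.Co3Out
import Cfsg.Agent.Leech.StabConj
import Cfsg.Agent.AutSuzuki.Basic

set_option autoImplicit false
open Cfsg

namespace Cfsg.Agent.S2071

/-- The outer automorphism group of the Conway group Co₃ (the stabiliser of a vector of the second shortest length in the rank-24 lattice) is trivial: every automorphism is inner. -/
theorem result : Nat.card (Cfsg.Out ↥Cfsg.Spor.Co3) = 1 := by
  obtain ⟨g, hg⟩ := CfsgLib.Leech.transitive_norm48 Spor.leechV CfsgLib.Leech.bD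
    (by decide +kernel) CfsgLib.Leech.base_facts.1.2
  let e : ↥Spor.Co3 ≃* ↥(MulAction.stabilizer Co0 Spor.leechV) :=
    { toFun := fun x => ⟨⟨x.1, x.2.1⟩, x.2.2⟩
      invFun := fun x => ⟨x.1.1, x.1.2, x.2⟩
      left_inv := fun _ => rfl
      right_inv := fun _ => rfl
      map_mul' := fun _ _ => rfl }
  rw [CfsgLib.AutSuzuki.card_out_congr (e.trans (CfsgLib.Leech.stabEquiv hg))]
  exact CfsgLib.Leech.Co3Out.out_stab

end Cfsg.Agent.S2071
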