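import Cfsg.Statements.S2087
import Cfsg.Agent.MultPSL.Main
import Cfsg.Agent.S0255

set_option autoImplicit false
open Cfsg

namespace Cfsg.Agent.S2087

/-- Exceptional Schur multiplier: over the field with 2 elements, PSL₃ has Schur multiplier cyclic of order 2 (here the Schur multiplier is described through stem extensions, as in the definitions). -/
theorem result {F : Type*} [Field F] [Fintype F] (hF : Fintype.card F = 2) : Cfsg.HasCyclicSchurMultiplier (Matrix.ProjectiveSpecialLinearGroup (Fin 3) F) 2 := by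
  haveI : Fact (Nat.Prime 7) := ⟨by norm_num⟩
  obtain ⟨e⟩ := Cfsg.Agent.S0255.result (F := ZMod 7) (K := F) (ZMod.card 7) hF
  have h5 : 5 ≤ Fintype.card (ZMod 7) := by rw [ZMod.card]; norm_num
  have h9 : Fintype.card (ZMod 7) ≠ 9 := by rw [ZMod.card]; norm_num
  let C := Subgroup.center (Matrix.SpecialLinearGroup (Fin 2) (ZMod 7))
  let σ : Matrix.SpecialLinearGroup (Fin 2) (ZMod 7) →* Matrix.ProjectiveSpecialLinearGroup (Fin 3) F :=
    e.toMonoidHom.comp (QuotientGroup.mk' C)
  have hker : σ.ker = C := by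
    rw [← MonoidHom.comap_ker, e.toMonoidHom.ker_eq_bot e.injective, MonoidHom.comap_bot,
      QuotientGroup.ker_mk']
  have hstem : Cfsg.IsStemExtension σ :=
    ⟨e.surjective.comp (QuotientGroup.mk'_surjective C), hker.le,
      by rw [CfsgLib.WordLaws.commutator_SL2 (by omega)]; exact le_top⟩
  haveI : IsCyclic C :=
    (Matrix.SpecialLinearGroup.center_equiv_rootsOfUnity' (R := ZMod 7) (0 : Fin 2)).isCyclic.2
      inferInstance
  haveI : IsCyclic σ.ker := by rw [hker]; infer_instance
  refine CfsgLib.MultPSL.hasCyclicSchurMultiplier_of_bound σ hstem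
    (by rw [hker, CfsgLib.Linear.card_center_SL, Fintype.card_fin, ZMod.card]; rfl)
    fun Δ _ _ τ hτ => ?_
  refine CfsgLib.MultPSL.card_stem_le_two h5 h9 (e.symm.toMonoidHom.comp τ)
    ⟨e.symm.surjective.comp hτ.1, ?_, ?_⟩
  · rw [← MonoidHom.comap_ker, e.symm.toMonoidHom.ker_eq_bot e.symm.injective, MonoidHom.comap_bot]
    exact hτ.2.1
  · rw [← MonoidHom.comap_ker, e.symm.toMonoidHom.ker_eq_bot e.symm.injective, MonoidHom.comap_bot]
    exact hτ.2.2

end Cfsg.Agent.S2087
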