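import Cfsg.Statements.S2098
import Cfsg.Agent.OPlusEightTwo.Mult
import Cfsg.Agent.OPlusEightTwo.Field
import Cfsg.Agent.CoverTab.Transfer

set_option autoImplicit false
set_option linter.style.haveILetI false
open Cfsg

namespace Cfsg.Agent.S2098

/-- Exceptional Schur multiplier: over the field with 2 elements, PΩ⁺₈ (for the form Σ xᵢyᵢ) has Schur multiplier a four-group, the product of two cyclic groups of order 2 (here the Schur multiplier is described through stem extensions, as in the definitions). -/
theorem result {F : Type*} [Field F] [Fintype F] (hF : Fintype.card F = 2) : Cfsg.HasSchurMultiplier (Cfsg.POmega F (Cfsg.quadFormPlus 4 F)) (Multiplicative (ZMod 2 × ZMod 2)) := by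
  obtain ⟨e⟩ := CfsgLib.OPlusEightTwo.pOmega_equiv (ZMod.ringEquivOfPrime F Nat.prime_two hF)
    (QK := Cfsg.quadFormPlus 4 (ZMod 2)) (QF := Cfsg.quadFormPlus 4 F)
    (CfsgLib.OPlusEightTwo.quadFormPlus_map _ 4)
  exact CfsgLib.CoverTab.hasSchurMultiplier_transfer e CfsgLib.OPlusEightTwo.multiplier_two

end Cfsg.Agent.S2098
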