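import Cfsg.Statements.S2107
import Cfsg.Agent.ChevMult.Main
import Cfsg.Agent.SteinbergPres.CenterData

set_option autoImplicit false
open Cfsg

namespace Cfsg.Agent.S2107

/-- Schur multipliers of the Chevalley groups of type E₈: over every finite field the Schur multiplier of E₈(q) is trivial (here the Schur multiplier is described through stem extensions, as in the definitions). -/
theorem result {F : Type*} [Field F] [Fintype F] : Cfsg.HasCyclicSchurMultiplier ↥(Cfsg.Lie.chevE8.group F) 1 := by
  have hc := CfsgLib.SteinbergPres.center_trivial (K := F) Cfsg.Lie.chevE8 (by simp)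
  refine CfsgLib.ChevMult.hasCyclicSchurMultiplier (show Cfsg.Lie.chevE8 ∈ [Cfsg.Lie.chevG2, Cfsg.Lie.chevB2, Cfsg.Lie.chevD4, Cfsg.Lie.chevF4, Cfsg.Lie.chevE6, Cfsg.Lie.chevE7, Cfsg.Lie.chevE8] by simp)
    (Or.inl (by simp)) ?_ ?_
  · rw [hc, Subgroup.card_bot]
  · rw [hc]
    infer_instance

end Cfsg.Agent.S2107
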