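import Cfsg.Statements.S2110
import Cfsg.Agent.SchurBN.TwoD4

set_option autoImplicit false
open Cfsg

namespace Cfsg.Agent.S2110

/-- Schur multipliers of the triality-twisted groups ³D₄: for every prime power q, with the group realised over the field with q³ elements, the Schur multiplier of ³D₄(q) is trivial (here the Schur multiplier is described through stem extensions, as in the definitions). -/
theorem result {K : Type*} [Field K] [Fintype K] {q : ℕ} (hq : IsPrimePow q) (hK : Fintype.card K = q ^ 3) : Cfsg.HasCyclicSchurMultiplier ↥(Cfsg.Lie.twistedD4 K q) 1 := by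
  obtain ⟨p, hp⟩ := CharP.exists K
  haveI : Fact p.Prime := ⟨(CharP.char_is_prime_or_zero K p).resolve_right
    (CharP.char_ne_zero_of_finite K p)⟩
  refine CfsgLib.GraphTwist.hasCyclicSchurMultiplier_twistedD4 (p := p) hq hK
    fun h2 Φ hf _ hK' Γ _ _ σ hσ hexp hidx => ?_
  subst h2
  have hK8 : Nat.card K = 8 := by
    rw [Nat.card_eq_fintype_card, hK]
    norm_num
  have hp2 : p = 2 := (Nat.prime_dvd_prime_iff_eq (Fact.out : p.Prime) Nat.prime_two).1
    (CfsgLib.GraphTwist.dvd_q_D4 (K := K) (p := p) (q := 2) hK8)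
  subst hp2
  exact CfsgLib.GraphTwist.ker_eq_bot_D4_two Φ hf hK8 σ hσ hexp hidx

end Cfsg.Agent.S2110
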