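import Cfsg.Statements.S2122
import Cfsg.Agent.ChevAut.OutCount

set_option autoImplicit false
open Cfsg

namespace Cfsg.Agent.S2122

/-- Outer automorphisms of the Chevalley groups of type F₄: over a field with q = p^f (p prime) elements, the outer automorphism group of F₄(q) has order gcd(2, p) · f (field automorphisms, and in characteristic 2 also the exceptional graph automorphism). -/
theorem result {F : Type*} [Field F] [Fintype F] (p f : ℕ) [Fact p.Prime] [CharP F p] (hF : Fintype.card F = p ^ f) : Nat.card (Cfsg.Out ↥(Cfsg.Lie.chevF4.group F)) = Nat.gcd 2 p * f := by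
  have hmem : Cfsg.Lie.chevF4 ∈ [Cfsg.Lie.chevG2, Cfsg.Lie.chevB2, Cfsg.Lie.chevD4, Cfsg.Lie.chevF4, Cfsg.Lie.chevE6, Cfsg.Lie.chevE7, Cfsg.Lie.chevE8] := by simp
  have hW := CfsgLib.Chevalley.goodWeyl_of_mem hmem
  obtain ⟨C, M, R, h⟩ := CfsgLib.Chevalley.exists_rootGood_of_mem hmem
  have hN : Nat.card F = p ^ f := Nat.card_eq_fintype_card.trans hF
  have hd := Cfsg.Agent.S1035.result (F := F) hF (Cfsg.Lie.chevF4, 1) (by simp)
  rw [← hN] at hd
  rw [CfsgLib.ChevAut.natCard_out_eq hmem hW h hd hN (CfsgLib.ChevAut.range_F4 hW h)]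
  rw [ringChar.eq F p]
  split_ifs with hp
  · subst hp; simp [mul_comm]
  · rw [Nat.coprime_iff_gcd_eq_one.1 ((Nat.coprime_primes Nat.prime_two Fact.out).2 (Ne.symm hp))]
    ring

end Cfsg.Agent.S2122
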