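import Cfsg.Statements.S2125
import Cfsg.Agent.ChevAut.OutCount

set_option autoImplicit false
open Cfsg

namespace Cfsg.Agent.S2125

/-- Outer automorphisms of the Chevalley groups of type E₈: over a field with p^f elements, p prime, the outer automorphism group of E₈(p^f) has order f (field automorphisms only). -/
theorem result {F : Type*} [Field F] [Fintype F] (p f : ℕ) [Fact p.Prime] [CharP F p] (hF : Fintype.card F = p ^ f) : Nat.card (Cfsg.Out ↥(Cfsg.Lie.chevE8.group F)) = f := by
  have hmem : Cfsg.Lie.chevE8 ∈ [Cfsg.Lie.chevG2, Cfsg.Lie.chevB2, Cfsg.Lie.chevD4, Cfsg.Lie.chevF4, Cfsg.Lie.chevE6, Cfsg.Lie.chevE7, Cfsg.Lie.chevE8] := by simp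
  have hW := CfsgLib.Chevalley.goodWeyl_of_mem hmem
  obtain ⟨C, M, R, h⟩ := CfsgLib.Chevalley.exists_rootGood_of_mem hmem
  have hN : Nat.card F = p ^ f := Nat.card_eq_fintype_card.trans hF
  have hd := Cfsg.Agent.S1035.result (F := F) hF (Cfsg.Lie.chevE8, 1) (by simp)
  rw [← hN] at hd
  rw [CfsgLib.ChevAut.natCard_out_eq hmem hW h hd hN (CfsgLib.ChevAut.range_card_one hW h hmem (by decide +kernel))]
  ring

end Cfsg.Agent.S2125
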