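import Cfsg.Statements.S2140
import Cfsg.Agent.MinDegree.Linear

set_option autoImplicit false
open Cfsg CfsgLib.MinDegree

namespace Cfsg.Agent.S2140

/-- Minimal index of a proper subgroup of the linear groups: for n ≥ 3 and a field F with q elements, (n, q) ≠ (4, 2), every proper subgroup of PSL_n(F) has index at least (q^n − 1)/(q − 1), and some subgroup has exactly that index (the stabiliser of a point of the projective space). -/
theorem result {F : Type*} [Field F] [Fintype F] {q : ℕ} (hF : Fintype.card F = q) (n : ℕ) (hn : 3 ≤ n) (hexc : ¬ (n = 4 ∧ q = 2)) : (∀ H : Subgroup (Matrix.ProjectiveSpecialLinearGroup (Fin n) F), H ≠ ⊤ → (q ^ n - 1) / (q - 1) ≤ H.index) ∧ (∃ H : Subgroup (Matrix.ProjectiveSpecialLinearGroup (Fin n) F), H.index = (q ^ n - 1) / (q - 1)) := by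
  subst hF
  set q := Fintype.card F
  have hq : 2 ≤ q := Fintype.one_lt_card
  have hι : Fintype.card (Fin n) = n := Fintype.card_fin n
  rw [numPoints_eq_div hq n]
  refine ⟨fun H hH => ?_, ?_⟩
  · let π := QuotientGroup.mk' (Subgroup.center (Matrix.SpecialLinearGroup (Fin n) F))
    have hπ : Function.Surjective π := QuotientGroup.mk'_surjective _
    let M : Subgroup (Matrix.SpecialLinearGroup (Fin n) F) := H.comap π
    have hM : M ≠ ⊤ := fun h => hH (by
      rw [← Subgroup.map_comap_eq_self_of_surjective hπ H]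
      change M.map π = ⊤
      rw [h, Subgroup.map_top_of_surjective π hπ])
    rw [← Subgroup.index_comap_of_surjective (f := π) H hπ]
    change numPoints q n ≤ Nat.card (Matrix.SpecialLinearGroup (Fin n) F ⧸ M)
    have key := numPoints_le_card (ι := Fin n) (F := F)
      (Ω := Matrix.SpecialLinearGroup (Fin n) F ⧸ M) (by omega) (by rw [hι]; exact hexc) ?_
    · rwa [hι] at key
    · intro x
      obtain ⟨g, rfl⟩ := QuotientGroup.mk_surjective x
      intro htop
      refine hM (eq_top_iff.2 fun m _ => ?_)
      have hmem : g * m * g⁻¹ ∈ MulAction.stabilizer (Matrix.SpecialLinearGroup (Fin n) F)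
          (QuotientGroup.mk g : _ ⧸ M) := htop ▸ Subgroup.mem_top _
      rw [MulAction.mem_stabilizer_iff, MulAction.Quotient.smul_mk, QuotientGroup.eq] at hmem
      have : m⁻¹ ∈ M := by simpa [smul_eq_mul, mul_assoc] using hmem
      simpa using M.inv_mem this
  · have : Nonempty (Fin n) := ⟨⟨0, by omega⟩⟩
    obtain ⟨p⟩ : Nonempty (Projectivization F (Fin n → F)) :=
      ⟨Projectivization.mk F (Pi.single ⟨0, by omega⟩ 1) (by simp)⟩
    refine ⟨MulAction.stabilizer (Matrix.ProjectiveSpecialLinearGroup (Fin n) F) p, ?_⟩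
    rw [MulAction.index_stabilizer_of_transitive, card_projectivization n hι]

end Cfsg.Agent.S2140
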