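import Cfsg.Statements.S2141
import Cfsg.Agent.MinDegree.SympOdd
import Cfsg.Agent.MinDegree.SympEven
import Cfsg.Agent.MinDegree.SympFourOdd
import Cfsg.Agent.MinDegree.SympFourEven
import Cfsg.Agent.MinDegree.SubspaceBound

set_option autoImplicit false
open Cfsg CfsgLib.MinDegree CfsgLib.Forms4
open scoped LinearAlgebra.Projectivization

namespace Cfsg.Agent.S2141

theorem le_card_sp {F : Type*} [Field F] [Fintype F] {m : ℕ} (hm : 2 ≤ m)
    (hq : 3 ≤ Fintype.card F) (hexc : ¬ (m = 2 ∧ Fintype.card F = 3)) {Ω : Type*} [Finite Ω]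
    [Nonempty Ω] [MulAction (Matrix.symplecticGroup (Fin m) F) Ω]
    (hno : ∀ x : Ω, MulAction.stabilizer (Matrix.symplecticGroup (Fin m) F) x ≠ ⊤) :
    Fintype.card F ^ (2 * m) - 1 ≤ (Fintype.card F - 1) * Nat.card Ω := by
  rcases Nat.even_or_odd (Fintype.card F) with he | ho
  · have : CharP F 2 := by
      have h : ringChar F = 2 := FiniteField.even_card_iff_char_two.2 (Nat.even_iff.1 he)
      exact ringChar.of_eq h
    have hq4 : 4 ≤ Fintype.card F := by obtain ⟨j, hj⟩ := he; omega
    rcases eq_or_lt_of_le hm with rfl | hm3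
    · exact le_card_sp_four_even hq4 hno
    · exact le_card_sp_even hm3 hq4 hno
  · rcases eq_or_lt_of_le hm with rfl | hm3
    · refine le_card_sp_four_odd ?_ ho hno
      rcases eq_or_ne (Fintype.card F) 3 with h | h
      · exact absurd ⟨rfl, h⟩ hexc
      · omega
    · exact le_card_sp_odd hm3 ho hno

attribute [local instance] spAction

/-- Minimal index of a proper subgroup of the symplectic groups over fields with at least 3 elements: for m ≥ 2 and a field F with q ≥ 3 elements, (m, q) ≠ (2, 3), every proper subgroup of PSp_2m(F) has index at least (q^(2m) − 1)/(q − 1), and that index is attained. -/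
theorem result {F : Type*} [Field F] [Fintype F] {q : ℕ} (hF : Fintype.card F = q) (m : ℕ) (hm : 2 ≤ m) (hq : 3 ≤ q) (hexc : ¬ (m = 2 ∧ q = 3)) : (∀ H : Subgroup (Cfsg.PSp m F), H ≠ ⊤ → (q ^ (2 * m) - 1) / (q - 1) ≤ H.index) ∧ (∃ H : Subgroup (Cfsg.PSp m F), H.index = (q ^ (2 * m) - 1) / (q - 1)) := by
  subst hF
  obtain ⟨q, hq'⟩ : ∃ q, Fintype.card F = q := ⟨_, rfl⟩
  rw [hq'] at hq hexc ⊢
  let π := QuotientGroup.mk' (Subgroup.center (Matrix.symplecticGroup (Fin m) F))
  have hπ : Function.Surjective π := QuotientGroup.mk'_surjective _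
  refine ⟨fun H hH => ?_, ?_⟩
  · let M : Subgroup (Matrix.symplecticGroup (Fin m) F) := H.comap π
    have hM : M ≠ ⊤ := fun h => hH (by
      rw [← Subgroup.map_comap_eq_self_of_surjective hπ H]
      change M.map π = ⊤
      rw [h, Subgroup.map_top_of_surjective π hπ])
    rw [← Subgroup.index_comap_of_surjective (f := π) H hπ]
    have key := le_card_sp (Ω := Matrix.symplecticGroup (Fin m) F ⧸ M) hm (hq' ▸ hq)
      (by rw [hq']; exact hexc) ?_
    · rw [hq'] at key
      exact Nat.div_le_of_le_mul key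
    · intro x htop
      obtain ⟨g, rfl⟩ := QuotientGroup.mk_surjective x
      refine hM (eq_top_iff.2 fun a _ => ?_)
      have hmem : g * a * g⁻¹ ∈ MulAction.stabilizer (Matrix.symplecticGroup (Fin m) F)
          (QuotientGroup.mk g : _ ⧸ M) := htop ▸ Subgroup.mem_top _
      rw [MulAction.mem_stabilizer_iff, MulAction.Quotient.smul_mk, QuotientGroup.eq] at hmem
      have : a⁻¹ ∈ M := by simpa [smul_eq_mul, mul_assoc] using hmem
      simpa using M.inv_mem this
  · have : Nonempty (Fin m ⊕ Fin m) := ⟨Sum.inl ⟨0, by omega⟩⟩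
    obtain ⟨p⟩ : Nonempty (ℙ F (Fin m ⊕ Fin m → F)) :=
      ⟨Projectivization.mk F (Pi.single (Sum.inl ⟨0, by omega⟩) 1) (by simp)⟩
    refine ⟨(MulAction.stabilizer (Matrix.symplecticGroup (Fin m) F) p).map π, ?_⟩
    have hker : π.ker ≤ MulAction.stabilizer (Matrix.symplecticGroup (Fin m) F) p := by
      intro A hA
      rw [QuotientGroup.ker_mk', mem_center_iff] at hA
      obtain ⟨r, hr⟩ := hA
      induction p using Projectivization.ind with
      | h x hx =>
        rw [MulAction.mem_stabilizer_iff, sp_smul_mk A hx (mulVec_ne_zero A hx),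
          Projectivization.mk_eq_mk_iff']
        exact ⟨r, by rw [hr, Matrix.smul_mulVec, Matrix.one_mulVec]⟩
    have : MulAction.IsPretransitive (Matrix.symplecticGroup (Fin m) F)
        (ℙ F (Fin m ⊕ Fin m → F)) := (sp_isPreprimitive (by omega)).toIsPretransitive
    rw [Subgroup.index_map_eq _ hπ hker, MulAction.index_stabilizer_of_transitive,
      card_projectivization (2 * m) (by rw [Fintype.card_sum, Fintype.card_fin]; omega), hq',
      numPoints_eq_div (by omega)]

end Cfsg.Agent.S2141
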