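import Cfsg.Statements.S2142
import Cfsg.Agent.MinDegree.SympTwo
import Cfsg.Agent.MinDegree.SympTwoAttained

set_option autoImplicit false
open CfsgLib.MinDegree CfsgLib.Forms4
-- import your own Cfsg.Agent.* helpers here

set_option autoImplicit false
open Cfsg

namespace Cfsg.Agent.S2142

/-- Minimal index of a proper subgroup of the symplectic groups over the field with 2 elements: for m ≥ 3, every proper subgroup of Sp_2m(2) has index at least 2^(m−1)(2^m − 1), and that index is attained. -/
theorem result {F : Type*} [Field F] [Fintype F] (hF : Fintype.card F = 2) (m : ℕ) (hm : 3 ≤ m) : (∀ H : Subgroup (Cfsg.PSp m F), H ≠ ⊤ → 2 ^ (m - 1) * (2 ^ m - 1) ≤ H.index) ∧ (∃ H : Subgroup (Cfsg.PSp m F), H.index = 2 ^ (m - 1) * (2 ^ m - 1)) := by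
  obtain ⟨k, rfl⟩ : ∃ k, m = k + 1 := ⟨m - 1, by omega⟩
  simp only [Nat.add_sub_cancel]
  let π := QuotientGroup.mk' (Subgroup.center (Matrix.symplecticGroup (Fin (k + 1)) F))
  have hπ : Function.Surjective π := QuotientGroup.mk'_surjective _
  refine ⟨fun H hH => ?_, ?_⟩
  · let M : Subgroup (Matrix.symplecticGroup (Fin (k + 1)) F) := H.comap π
    have hM : M ≠ ⊤ := fun h => hH (by
      rw [← Subgroup.map_comap_eq_self_of_surjective hπ H]
      change M.map π = ⊤
      rw [h, Subgroup.map_top_of_surjective π hπ])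
    rw [← Subgroup.index_comap_of_surjective (f := π) H hπ]
    change _ ≤ Nat.card (Matrix.symplecticGroup (Fin (k + 1)) F ⧸ M)
    refine le_card_sp_two hF rfl (by omega) fun x htop => ?_
    obtain ⟨g, rfl⟩ := QuotientGroup.mk_surjective x
    refine hM (eq_top_iff.2 fun a _ => ?_)
    have hmem : g * a * g⁻¹ ∈ MulAction.stabilizer (Matrix.symplecticGroup (Fin (k + 1)) F)
        (QuotientGroup.mk g : _ ⧸ M) := htop ▸ Subgroup.mem_top _
    rw [MulAction.mem_stabilizer_iff, MulAction.Quotient.smul_mk, QuotientGroup.eq] at hmem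
    have : a⁻¹ ∈ M := by simpa [smul_eq_mul, mul_assoc] using hmem
    simpa using M.inv_mem this
  · obtain ⟨Q, hQ, hell⟩ := exists_elliptic hF (m := k + 1) (by omega)
    refine ⟨(formStab Q).map π, ?_⟩
    have hcen : π.ker ≤ formStab Q := by
      intro A hA x
      rw [QuotientGroup.ker_mk', mem_center_iff] at hA
      obtain ⟨r, hr⟩ := hA
      have h1 := sq_eq_one_of_scalar (m := k + 1) (by omega) hr
      rcases zero_or_one hF r with rfl | rfl
      · simp at h1
      · rw [hr, one_smul, Matrix.one_mulVec]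
    rw [Subgroup.index_map_eq _ hπ hcen]
    have h := index_formStab hF (by omega) hQ hell
    rw [pow_succ, Nat.mul_sub, mul_one] at *
    generalize 2 ^ k = P at h ⊢
    generalize (formStab Q).index = i at h ⊢
    rw [show (P * 2) ^ 2 = 4 * (P * P) by ring] at h
    rw [show P * (P * 2) = 2 * (P * P) by ring]
    omega

end Cfsg.Agent.S2142
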