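import Cfsg.Statements.S2143
import Cfsg.Agent.MinDegree.OrthStd

set_option autoImplicit false
open Cfsg

namespace Cfsg.Agent.S2143

/-- Minimal index of a proper subgroup of the odd-dimensional orthogonal groups: for m ≥ 3 and a field F with q elements, q odd and q ≥ 5, every proper subgroup of PΩ_(2m+1)(F) (for the form x₀² + Σ xᵢyᵢ) has index at least (q^(2m) − 1)/(q − 1), and that index is attained. -/
theorem result {F : Type*} [Field F] [Fintype F] {q : ℕ} (hF : Fintype.card F = q) (hodd : Odd q) (h5 : 5 ≤ q) (m : ℕ) (hm : 3 ≤ m) : (∀ H : Subgroup (Cfsg.POmega F (Cfsg.quadFormOdd m F)), H ≠ ⊤ → (q ^ (2 * m) - 1) / (q - 1) ≤ H.index) ∧ (∃ H : Subgroup (Cfsg.POmega F (Cfsg.quadFormOdd m F)), H.index = (q ^ (2 * m) - 1) / (q - 1)) := by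
  subst hF
  have h2 : (2 : F) ≠ 0 := fun h =>
    (Nat.not_even_iff_odd.2 hodd) ((CfsgLib.Forms4.two_eq_zero_iff_even rfl).1 h)
  rw [← CfsgLib.StdForms.coe_oddQ]
  refine (CfsgLib.MinDegree.Orth.oddFrame m hm).min_index (CfsgLib.StdForms.oddQ_nondegenerate h2 m)
    (by simp; omega) (by omega) ?_
  rw [CfsgLib.StdForms.coe_oddQ, CfsgLib.Forms4.card_zero_quadFormOdd rfl]
  exact (Nat.sub_add_cancel (Nat.one_le_pow _ _ (by omega))).symm

end Cfsg.Agent.S2143
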