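import Cfsg.Statements.S2151
import Cfsg.Agent.MinDegree.SUMinIndex

set_option autoImplicit false
open Cfsg

namespace Cfsg.Agent.S2151

/-- Minimal index of a proper subgroup of the unitary groups of odd dimension n ≥ 5: for a field F with q² elements, every proper subgroup of PSU_n(q) has index at least (q^n + 1)(q^(n−1) − 1)/(q² − 1), and that index is attained. -/
theorem result {F : Type*} [Field F] [Fintype F] (q : ℕ) (hF : Fintype.card F = q ^ 2) (hq : 2 ≤ q) (n : ℕ) (hn : 5 ≤ n) (hodd : Odd n) : (∀ H : Subgroup (Cfsg.PSU n F q), H ≠ ⊤ → (q ^ n + 1) * (q ^ (n - 1) - 1) / (q ^ 2 - 1) ≤ H.index) ∧ (∃ H : Subgroup (Cfsg.PSU n F q), H.index = (q ^ n + 1) * (q ^ (n - 1) - 1) / (q ^ 2 - 1)) := by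
  obtain ⟨C, rfl⟩ := CfsgLib.RepBounds.Unit.exists_conjField q hF
  have h2 : 1 ≤ C.q ^ 2 := Nat.one_le_pow _ _ (by omega)
  have h1 : 1 ≤ C.q ^ (n - 1) := Nat.one_le_pow _ _ (by omega)
  have hpos : 0 < C.q ^ 2 - 1 := by
    have := Nat.pow_le_pow_left hq 2
    omega
  have hval : (C.q ^ n + 1) * (C.q ^ (n - 1) - 1) / (C.q ^ 2 - 1) =
      CfsgLib.MinDegree.SUSpace.pts C.q n := by
    refine Nat.div_eq_of_eq_mul_right hpos ?_
    have h := CfsgLib.MinDegree.SUSpace.pts_closed C.q n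
    rw [hodd.neg_one_pow, (Nat.Odd.sub_odd hodd odd_one).neg_one_pow, sub_neg_eq_add] at h
    zify [h1, h2]
    exact h.symm
  have hmin : CfsgLib.MinDegree.SUSpace.minIdx C.q n = CfsgLib.MinDegree.SUSpace.pts C.q n :=
    CfsgLib.MinDegree.SUSpace.minIdx_of_not fun h => Nat.not_even_iff_odd.2 hodd h.2
  rw [hval]
  refine ⟨fun H hH => ?_, CfsgLib.MinDegree.SUSpace.exists_index_pts C (by omega)⟩
  rw [← hmin]
  exact CfsgLib.MinDegree.SUSpace.le_index_PSU C hn H hH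

end Cfsg.Agent.S2151
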