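import Cfsg.Statements.S2157
import Cfsg.Agent.ChevTorus.Basic

set_option autoImplicit false
open Cfsg

namespace Cfsg.Agent.S2157

theorem result {F : Type*} [Field F] (D : Cfsg.Lie.ChevalleyDatum) (hD : D ∈ [Cfsg.Lie.chevG2, Cfsg.Lie.chevB2, Cfsg.Lie.chevD4, Cfsg.Lie.chevF4, Cfsg.Lie.chevE6, Cfsg.Lie.chevE7, Cfsg.Lie.chevE8]) (χ : ℕ → Fˣ) (hχ : D.IsRootCharacter χ) (r : ℕ) (hr : r < D.nroots) (t : F) :
    D.charDiag F χ * D.x F r t * D.charDiag F (fun s => (χ s)⁻¹) = D.x F r ((χ r : F) * t) := by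
  exact CfsgLib.ChevTorus.charDiag_conj_x D (CfsgLib.ChevTorus.chainOK_of_mem hD) χ hχ r hr t

end Cfsg.Agent.S2157
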