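import Cfsg.Statements.S2162
import Cfsg.Agent.CharTwo.SquareZero
import Cfsg.Agent.CharTwo.RankCriterion

set_option autoImplicit false
open Cfsg

namespace Cfsg.Agent.S2162

open Matrix

/-- An element of order two of SL_n in characteristic two is one plus a square-zero map. -/
theorem sq_zero_aux {F : Type*} [Field F] [CharP F 2] {n : ℕ} (a : Matrix.SpecialLinearGroup (Fin n) F) (ha : orderOf a = 2) :
    ((a : Matrix (Fin n) (Fin n) F) - 1) * ((a : Matrix (Fin n) (Fin n) F) - 1) = 0 ∧ (a : Matrix (Fin n) (Fin n) F) ≠ 1 := by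
  obtain ⟨h1, h2⟩ := orderOf_eq_prime_iff.1 ha
  constructor
  · have h : (a : Matrix (Fin n) (Fin n) F) * (a : Matrix (Fin n) (Fin n) F) = 1 := by
      rw [← Matrix.SpecialLinearGroup.coe_mul, ← pow_two, h1, Matrix.SpecialLinearGroup.coe_one]
    rw [sub_mul, mul_sub, mul_sub, h, one_mul, mul_one, one_mul]
    ext i j
    simp only [Matrix.add_apply, Matrix.sub_apply, Matrix.zero_apply, CharTwo.sub_eq_add]
    linear_combination CharTwo.add_self_eq_zero ((1 : Matrix (Fin n) (Fin n) F) i j) +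
      CharTwo.add_self_eq_zero ((a : Matrix (Fin n) (Fin n) F) i j)
  · exact fun h => h2 (Subtype.ext h)

theorem result {F : Type*} [Field F] [Fintype F] [CharP F 2] {n : ℕ} (hn : 3 ≤ n) (a b : Matrix.SpecialLinearGroup (Fin n) F) (ha : orderOf a = 2) (hb : orderOf b = 2) :
    IsConj a b ↔ ((a : Matrix (Fin n) (Fin n) F) - 1).rank = ((b : Matrix (Fin n) (Fin n) F) - 1).rank := by
  classical
  constructor
  · intro h
    obtain ⟨c, hc⟩ := isConj_iff.1 h
    have hc' : (c : Matrix (Fin n) (Fin n) F) * a * ((c⁻¹ : Matrix.SpecialLinearGroup (Fin n) F) : Matrix (Fin n) (Fin n) F) = b := by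
      rw [← hc]; simp [Matrix.mul_assoc]
    have hcd : (c : Matrix (Fin n) (Fin n) F) * ((c⁻¹ : Matrix.SpecialLinearGroup (Fin n) F) : Matrix (Fin n) (Fin n) F) = 1 := by
      rw [← Matrix.SpecialLinearGroup.coe_mul, mul_inv_cancel, Matrix.SpecialLinearGroup.coe_one]
    have he : (b : Matrix (Fin n) (Fin n) F) - 1 =
        (c : Matrix (Fin n) (Fin n) F) * ((a : Matrix (Fin n) (Fin n) F) - 1) * ((c⁻¹ : Matrix.SpecialLinearGroup (Fin n) F) : Matrix (Fin n) (Fin n) F) := by
      rw [mul_sub, sub_mul, mul_one, hc', hcd]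
    rw [he, Matrix.rank_mul_eq_left_of_isUnit_det _ _ (by rw [Matrix.SpecialLinearGroup.det_coe (c⁻¹)]; exact isUnit_one),
      Matrix.rank_mul_eq_right_of_isUnit_det _ _ (by rw [Matrix.SpecialLinearGroup.det_coe c]; exact isUnit_one)]
  · intro h
    obtain ⟨hNa, hane⟩ := sq_zero_aux a ha
    obtain ⟨hNb, hbne⟩ := sq_zero_aux b hb
    have hsq : ∀ d : F, ∃ e, e * e = d := fun d =>
      ⟨(frobeniusEquiv F 2).symm d, by rw [← pow_two]; exact frobeniusEquiv_symm_pow_p (R := F) 2 d⟩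
    obtain ⟨g, hg, hgN⟩ := CfsgLib.CharTwo.exists_conj_of_finrank_range_eq hsq
      (Matrix.toLin' ((a : Matrix (Fin n) (Fin n) F) - 1)) (Matrix.toLin' ((b : Matrix (Fin n) (Fin n) F) - 1))
      (fun v => by rw [← LinearMap.comp_apply, ← Matrix.toLin'_mul, hNa]; simp)
      (fun v => by rw [← LinearMap.comp_apply, ← Matrix.toLin'_mul, hNb]; simp)
      (fun h0 => hane (sub_eq_zero.1 (Matrix.toLin'.map_eq_zero_iff.1 h0)))
      h 1 one_ne_zero
    set M : Matrix (Fin n) (Fin n) F := LinearMap.toMatrix' (g : (Fin n → F) →ₗ[F] (Fin n → F)) with hM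
    have hdet : M.det = 1 := by rw [hM, LinearMap.det_toMatrix', hg]
    have hcomm : M * ((a : Matrix (Fin n) (Fin n) F) - 1) = ((b : Matrix (Fin n) (Fin n) F) - 1) * M := by
      apply Matrix.toLin'.injective
      rw [Matrix.toLin'_mul, Matrix.toLin'_mul, hM, Matrix.toLin'_toMatrix']
      exact LinearMap.ext hgN
    rw [mul_sub, sub_mul, mul_one, one_mul, sub_left_inj] at hcomm
    let c : Matrix.SpecialLinearGroup (Fin n) F := ⟨M, hdet⟩
    exact isConj_iff.2 ⟨c, mul_inv_eq_iff_eq_mul.2 (Subtype.ext (hcomm : M * _ = _ * M))⟩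

end Cfsg.Agent.S2162
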