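import Cfsg.Statements.S2163
import Cfsg.Agent.CharTwo.RankCriterion

set_option autoImplicit false
open Cfsg

namespace Cfsg.Agent.S2163

theorem result {F : Type*} [Field F] [Fintype F] [CharP F 2] {n : ℕ} (hn : 3 ≤ n) (ℓ : ℕ) (h1 : 1 ≤ ℓ) (h2 : 2 * ℓ ≤ n) :
    ∃ a : Matrix.SpecialLinearGroup (Fin n) F, (a : Matrix (Fin n) (Fin n) F) = 1 + Matrix.of (fun i j : Fin n => if j.val < ℓ ∧ i.val = j.val + (n - ℓ) then (1 : F) else 0) ∧ orderOf a = 2 ∧ ((a : Matrix (Fin n) (Fin n) F) - 1).rank = ℓ := by
  set N : Matrix (Fin n) (Fin n) F := Matrix.of (fun i j : Fin n => if j.val < ℓ ∧ i.val = j.val + (n - ℓ) then (1 : F) else 0) with hN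
  have hsq : N * N = 0 := by
    ext i j
    rw [Matrix.mul_apply, Matrix.zero_apply]
    apply Finset.sum_eq_zero
    intro k _
    simp only [hN, Matrix.of_apply]
    split_ifs <;> first | (simp; done) | (exfalso; omega)
  have hdet : (1 + N).det = 1 := by
    rw [Matrix.det_of_isLowerTriangular _ (fun i j hij => by
      have hlt : i.val < j.val := hij
      simp only [hN, Matrix.add_apply, Matrix.of_apply, Matrix.one_apply]
      rw [if_neg (by omega : ¬ i = j), if_neg (by omega), add_zero])]
    apply Finset.prod_eq_one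
    intro i _
    simp only [hN, Matrix.add_apply, Matrix.of_apply, Matrix.one_apply_eq]
    rw [if_neg (by omega), add_zero]
  have hrank : N.rank = ℓ := by
    refine CfsgLib.CharTwo.rank_eq_of_factor_of_submatrix N
      (Matrix.of fun (i : Fin n) (k : Fin ℓ) => if i.val = k.val + (n - ℓ) then (1 : F) else 0)
      (Matrix.of fun (k : Fin ℓ) (j : Fin n) => if j.val = k.val then (1 : F) else 0) ?_
      (fun k => ⟨k.val + (n - ℓ), by omega⟩) (fun k => ⟨k.val, by omega⟩) ?_
    · ext i j
      simp only [hN, Matrix.of_apply, Matrix.mul_apply]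
      by_cases hj : j.val < ℓ
      · rw [Finset.sum_eq_single (⟨j.val, hj⟩ : Fin ℓ)]
        · simp [hj]
        · intro k _ hk
          have : j.val ≠ k.val := fun h => hk (Fin.ext h.symm)
          simp [this]
        · simp
      · rw [if_neg (by omega)]
        symm
        apply Finset.sum_eq_zero
        intro k _
        have : j.val ≠ k.val := by omega
        simp [this]
    · ext i j
      simp only [hN, Matrix.submatrix_apply, Matrix.of_apply, Matrix.one_apply, Fin.ext_iff]
      split_ifs <;> first | rfl | omega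
  have key : ∀ a : Matrix.SpecialLinearGroup (Fin n) F, (a : Matrix (Fin n) (Fin n) F) = 1 + N →
      orderOf a = 2 ∧ ((a : Matrix (Fin n) (Fin n) F) - 1).rank = ℓ := by
    intro a ha
    refine ⟨orderOf_eq_prime ?_ ?_, by rw [ha, add_sub_cancel_left, hrank]⟩
    · apply Subtype.ext
      rw [Matrix.SpecialLinearGroup.coe_pow, ha, pow_two, Matrix.SpecialLinearGroup.coe_one]
      exact CfsgLib.CharTwo.mul_self_eq_one_of_sq_zero N hsq
    · intro h
      rw [h, Matrix.SpecialLinearGroup.coe_one, left_eq_add] at ha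
      rw [ha, Matrix.rank_zero] at hrank
      omega
  exact ⟨⟨1 + N, hdet⟩, rfl, key _ rfl⟩

end Cfsg.Agent.S2163
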