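import Cfsg.Statements.S2164
import Cfsg.Agent.CharTwo.UnitaryInvolution
import Cfsg.Agent.S2162

set_option autoImplicit false
open Cfsg

namespace Cfsg.Agent.S2164

open Matrix CfsgLib.CharTwo

theorem result {F : Type*} [Field F] [Fintype F] [CharP F 2] {n q : ℕ} (hF : Fintype.card F = q ^ 2) (hn : 3 ≤ n) (a b : ↥(Cfsg.SU n F q)) (ha : orderOf a = 2) (hb : orderOf b = 2) :
    (IsConj a b ↔ IsConj (a : Matrix.SpecialLinearGroup (Fin n) F) (b : Matrix.SpecialLinearGroup (Fin n) F)) ∧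
    (IsConj a b ↔ (((a : Matrix.SpecialLinearGroup (Fin n) F) : Matrix (Fin n) (Fin n) F) - 1).rank = (((b : Matrix.SpecialLinearGroup (Fin n) F) : Matrix (Fin n) (Fin n) F) - 1).rank) := by
  classical
  haveI : Fact (Nat.Prime 2) := ⟨Nat.prime_two⟩
  obtain ⟨j, hj⟩ : ∃ j : ℕ, q = 2 ^ j := by
    obtain ⟨k, -, hk⟩ := FiniteField.card F 2
    have : q ∣ 2 ^ (k : ℕ) := by rw [← hk, hF]; exact dvd_pow_self q two_ne_zero
    obtain ⟨j, -, hj⟩ := (Nat.dvd_prime_pow Nat.prime_two).1 this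
    exact ⟨j, hj⟩
  let σ : F →+* F := iterateFrobenius F 2 j
  have hσx : ∀ x : F, σ x = x ^ q := fun x => by rw [hj]; exact iterateFrobenius_def (R := F) 2 j x
  have hσ2 : ∀ x : F, σ (σ x) = x := fun x => by
    rw [hσx, hσx, ← pow_mul, ← pow_two, ← hF, FiniteField.pow_card]
  have hq2 : 2 ≤ q := by
    have h1 : 1 < Fintype.card F := Fintype.one_lt_card
    rw [hF] at h1
    by_contra h
    interval_cases q <;> simp at h1
  have hσ : σ ≠ RingHom.id F := by
    intro h
    have h1 : ∀ x : Fˣ, x ^ (q - 1) = 1 := fun x => by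
      apply Units.ext
      have hx : (x : F) ^ q = x := by rw [← hσx, h]; rfl
      have : (x : F) ^ (q - 1) * x = 1 * x := by rw [← pow_succ, Nat.sub_add_cancel (by omega), hx, one_mul]
      simpa using mul_right_cancel₀ x.ne_zero this
    have hd := Nat.le_of_dvd (by omega) ((FiniteField.forall_pow_eq_one_iff F (q - 1)).1 h1)
    rw [hF] at hd
    have : 2 * q ≤ q ^ 2 := by rw [pow_two]; exact Nat.mul_le_mul_right q hq2
    omega
  have hpres : ∀ c : ↥(Cfsg.SU n F q), ∀ u v,
      hermSesq n σ ((((c : Matrix.SpecialLinearGroup (Fin n) F)) : Matrix (Fin n) (Fin n) F) *ᵥ u)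
        ((((c : Matrix.SpecialLinearGroup (Fin n) F)) : Matrix (Fin n) (Fin n) F) *ᵥ v) = hermSesq n σ u v := fun c u v => by
    have h := c.2 v u
    simp only [Cfsg.hermForm, ← hσx] at h
    exact h
  have hord : ∀ c : ↥(Cfsg.SU n F q), orderOf c = 2 → orderOf (c : Matrix.SpecialLinearGroup (Fin n) F) = 2 :=
    fun c hc => by rw [Subgroup.orderOf_coe, hc]
  have hsl := Cfsg.Agent.S2162.result hn (a : Matrix.SpecialLinearGroup (Fin n) F)
    (b : Matrix.SpecialLinearGroup (Fin n) F) (hord a ha) (hord b hb)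
  have h12 : IsConj a b → IsConj (a : Matrix.SpecialLinearGroup (Fin n) F) (b : Matrix.SpecialLinearGroup (Fin n) F) :=
    fun h => MonoidHom.map_isConj (Cfsg.SU n F q).subtype h
  have h31 : (((a : Matrix.SpecialLinearGroup (Fin n) F) : Matrix (Fin n) (Fin n) F) - 1).rank =
      (((b : Matrix.SpecialLinearGroup (Fin n) F) : Matrix (Fin n) (Fin n) F) - 1).rank → IsConj a b := by
    intro hr
    have hsq : ∀ c : ↥(Cfsg.SU n F q), orderOf c = 2 →
        ((c : Matrix.SpecialLinearGroup (Fin n) F) : Matrix (Fin n) (Fin n) F) *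
          ((c : Matrix.SpecialLinearGroup (Fin n) F) : Matrix (Fin n) (Fin n) F) = 1 := fun c hc => by
      have h : c * c = 1 := by rw [← pow_two, ← hc, pow_orderOf_eq_one]
      exact congrArg (fun g : ↥(Cfsg.SU n F q) => ((g : Matrix.SpecialLinearGroup (Fin n) F) : Matrix (Fin n) (Fin n) F)) h
    obtain ⟨M, hdet, hcomm, hM⟩ := exists_unitary_conj σ hσ hσ2 _ _ (hpres a) (hpres b) (hsq a ha) (hsq b hb)
      (fun h => by
        have := hord a ha
        rw [show (a : Matrix.SpecialLinearGroup (Fin n) F) = 1 from Subtype.ext h, orderOf_one] at this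
        omega) hr
    let c : Matrix.SpecialLinearGroup (Fin n) F := ⟨M, hdet⟩
    have hc : c ∈ Cfsg.SU n F q := fun u v => by
      have h := hM v u
      simp only [hermSesq_apply, hσx] at h
      exact h
    refine isConj_iff.2 ⟨⟨c, hc⟩, mul_inv_eq_iff_eq_mul.2 (Subtype.ext (Subtype.ext hcomm))⟩
  exact ⟨⟨h12, fun h => h31 (hsl.1 h)⟩, ⟨fun h => hsl.1 (h12 h), h31⟩⟩

end Cfsg.Agent.S2164
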