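import Cfsg.Statements.S2165
import Cfsg.Agent.CharTwo.RankCriterion

set_option autoImplicit false
open Cfsg

namespace Cfsg.Agent.S2165

open Matrix in
theorem result {F : Type*} [Field F] [Fintype F] [CharP F 2] {n q : ℕ} (hF : Fintype.card F = q ^ 2) (hn : 3 ≤ n) (ℓ : ℕ) (h1 : 1 ≤ ℓ) (h2 : 2 * ℓ ≤ n) :
    ∃ a : ↥(Cfsg.SU n F q), (((a : Matrix.SpecialLinearGroup (Fin n) F) : Matrix (Fin n) (Fin n) F) = Matrix.of (fun i j : Fin n => if (j.val < ℓ ∧ i.val = j.val + (n - ℓ)) ∨ (i.val < ℓ ∧ j.val = i.val + (n - ℓ)) ∨ (i = j ∧ ℓ ≤ i.val ∧ i.val < n - ℓ) then (1 : F) else 0)) ∧ orderOf a = 2 ∧ ((((a : Matrix.SpecialLinearGroup (Fin n) F) : Matrix (Fin n) (Fin n) F)) - 1).rank = ℓ := by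
  classical
  set M : Matrix (Fin n) (Fin n) F := Matrix.of (fun i j : Fin n => if (j.val < ℓ ∧ i.val = j.val + (n - ℓ)) ∨ (i.val < ℓ ∧ j.val = i.val + (n - ℓ)) ∨ (i = j ∧ ℓ ≤ i.val ∧ i.val < n - ℓ) then (1 : F) else 0) with hM
  let s : Fin n → Fin n := fun i => if h : i.val < ℓ then ⟨i.val + (n - ℓ), by omega⟩
    else if h' : n - ℓ ≤ i.val then ⟨i.val - (n - ℓ), by omega⟩ else i
  have hs : ∀ i, (i.val < ℓ → (s i).val = i.val + (n - ℓ)) ∧ (n - ℓ ≤ i.val → (s i).val = i.val - (n - ℓ)) ∧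
      (ℓ ≤ i.val → i.val < n - ℓ → (s i).val = i.val) := by
    intro i
    simp only [s]
    split_ifs with h h'
    · refine ⟨fun _ => rfl, fun _ => ?_, fun _ _ => ?_⟩ <;> (simp only; omega)
    · refine ⟨fun _ => ?_, fun _ => rfl, fun _ _ => ?_⟩ <;> (simp only; omega)
    · refine ⟨fun _ => ?_, fun _ => ?_, fun _ _ => rfl⟩ <;> omega
  have hinv : Function.Involutive s := by
    intro i
    apply Fin.ext
    obtain ⟨a1, a2, a3⟩ := hs i
    obtain ⟨b1, b2, b3⟩ := hs (s i)
    omega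
  let σ : Equiv.Perm (Fin n) := hinv.toPerm
  have hMσ : M = σ.permMatrix F := by
    ext i j
    obtain ⟨a1, a2, a3⟩ := hs i
    simp only [hM, Matrix.of_apply, PEquiv.toMatrix_apply, Equiv.toPEquiv_apply, Option.mem_def,
      Option.some.injEq, Function.Involutive.coe_toPerm, σ]
    have : s i = j ↔ (s i).val = j.val := Fin.ext_iff
    simp only [this, Fin.ext_iff]
    split_ifs <;> first | rfl | omega
  have hdet : M.det = 1 := by
    rw [hMσ, Matrix.det_permutation]
    rcases Int.units_eq_one_or (Equiv.Perm.sign σ) with h | h <;> simp [h, CharTwo.neg_eq]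
  have hmv : ∀ (u : Fin n → F) i, (M *ᵥ u) i = u (s i) := by
    intro u i
    rw [hMσ, Matrix.permMatrix_mulVec]
    rfl
  have hSU : (⟨M, hdet⟩ : Matrix.SpecialLinearGroup (Fin n) F) ∈ Cfsg.SU n F q := by
    intro u v
    show Cfsg.hermForm n F q (M *ᵥ u) (M *ᵥ v) = _
    simp only [Cfsg.hermForm, hmv]
    exact Equiv.sum_comp σ (fun i => u i * v i ^ q)
  have hrank : (M - 1).rank = ℓ := by
    let A : Matrix (Fin n) (Fin ℓ) F := Matrix.of fun i k => if i.val = k.val ∨ i.val = k.val + (n - ℓ) then 1 else 0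
    refine CfsgLib.CharTwo.rank_eq_of_factor_of_submatrix (M - 1) A A.transpose ?_
      (fun k => ⟨k.val + (n - ℓ), by omega⟩) (fun k => ⟨k.val, by omega⟩) ?_
    · ext i j
      simp only [hM, A, Matrix.mul_apply, Matrix.sub_apply, Matrix.of_apply, Matrix.one_apply,
        Matrix.transpose_apply, Fin.ext_iff, ite_mul, one_mul, zero_mul]
      by_cases hi : i.val < ℓ ∨ n - ℓ ≤ i.val
      · have hk : (if i.val < ℓ then i.val else i.val - (n - ℓ)) < ℓ := by split_ifs <;> omega
        rw [Finset.sum_eq_single (⟨_, hk⟩ : Fin ℓ)]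
        · simp only
          split_ifs <;> first | (exfalso; omega) | simp [CharTwo.sub_eq_add, CharTwo.add_self_eq_zero]
        · intro k _ hne
          rw [Ne, Fin.ext_iff] at hne
          simp only at hne
          split_ifs at hne ⊢ <;> first | rfl | (exfalso; omega)
        · simp
      · rw [Finset.sum_eq_zero (fun k _ => by rw [if_neg (by omega)])]
        split_ifs <;> first | (exfalso; omega) | simp
    · ext i j
      simp only [hM, Matrix.submatrix_apply, Matrix.sub_apply, Matrix.of_apply, Matrix.one_apply, Fin.ext_iff]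
      split_ifs <;> first | (exfalso; omega) | simp
  have key : ∀ a : ↥(Cfsg.SU n F q), ((a : Matrix.SpecialLinearGroup (Fin n) F) : Matrix (Fin n) (Fin n) F) = M →
      orderOf a = 2 := by
    intro a ha
    refine orderOf_eq_prime ?_ ?_
    · apply Subtype.ext
      apply Subtype.ext
      rw [SubgroupClass.coe_pow, Matrix.SpecialLinearGroup.coe_pow, ha, pow_two]
      refine Matrix.toLin'.injective (LinearMap.ext fun u => funext fun i => ?_)
      simp [← Matrix.mulVec_mulVec, hmv, hinv i]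
    · intro h
      rw [h] at ha
      simp only [OneMemClass.coe_one, Matrix.SpecialLinearGroup.coe_one] at ha
      rw [← ha, sub_self, Matrix.rank_zero] at hrank
      omega
  exact ⟨⟨⟨M, hdet⟩, hSU⟩, rfl, key _ rfl, hrank⟩

end Cfsg.Agent.S2165
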