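import Cfsg.Statements.S2166
import Cfsg.Agent.CharTwo.SympInvolution
import Cfsg.Agent.CharTwo.AlternatingForm

set_option autoImplicit false
open Cfsg

namespace Cfsg.Agent.S2166

open Matrix CfsgLib.CharTwo

theorem result {F : Type*} [Field F] [Fintype F] [CharP F 2] {m : ℕ} (hm : 2 ≤ m) (a b : ↥(Matrix.symplecticGroup (Fin m) F)) (ha : orderOf a = 2) (hb : orderOf b = 2) :
    IsConj a b ↔ ((((a : ↥(Matrix.symplecticGroup (Fin m) F)) : Matrix (Fin m ⊕ Fin m) (Fin m ⊕ Fin m) F) - 1).rank = (((b : ↥(Matrix.symplecticGroup (Fin m) F)) : Matrix (Fin m ⊕ Fin m) (Fin m ⊕ Fin m) F) - 1).rank ∧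
      (Even (((a : ↥(Matrix.symplecticGroup (Fin m) F)) : Matrix (Fin m ⊕ Fin m) (Fin m ⊕ Fin m) F) - 1).rank → Nat.card {v : Fin m ⊕ Fin m → F // Cfsg.sympForm m F v (Matrix.mulVec ((a : ↥(Matrix.symplecticGroup (Fin m) F)) : Matrix (Fin m ⊕ Fin m) (Fin m ⊕ Fin m) F) v) = 0} = Nat.card {v : Fin m ⊕ Fin m → F // Cfsg.sympForm m F v (Matrix.mulVec ((b : ↥(Matrix.symplecticGroup (Fin m) F)) : Matrix (Fin m ⊕ Fin m) (Fin m ⊕ Fin m) F) v) = 0})) := by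
  classical
  have hpow : ∀ c : ↥(Matrix.symplecticGroup (Fin m) F), orderOf c = 2 → c * c = 1 := fun c hc => by
    rw [← pow_two, ← hc, pow_orderOf_eq_one]
  constructor
  · intro h
    obtain ⟨c, hc⟩ := isConj_iff.1 h
    have hcb : (c : Matrix (Fin m ⊕ Fin m) (Fin m ⊕ Fin m) F) * (a : Matrix (Fin m ⊕ Fin m) (Fin m ⊕ Fin m) F) =
        (b : Matrix (Fin m ⊕ Fin m) (Fin m ⊕ Fin m) F) * c :=
      congrArg Subtype.val (mul_inv_eq_iff_eq_mul.1 hc)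
    have hdet : IsUnit ((c : Matrix (Fin m ⊕ Fin m) (Fin m ⊕ Fin m) F)).det := SymplecticGroup.symplectic_det c.2
    have hu : IsUnit (c : Matrix (Fin m ⊕ Fin m) (Fin m ⊕ Fin m) F) := (Matrix.isUnit_iff_isUnit_det _).2 hdet
    refine ⟨?_, fun _ => ?_⟩
    · have he : (c : Matrix (Fin m ⊕ Fin m) (Fin m ⊕ Fin m) F) * ((a : Matrix (Fin m ⊕ Fin m) (Fin m ⊕ Fin m) F) - 1) =
          ((b : Matrix (Fin m ⊕ Fin m) (Fin m ⊕ Fin m) F) - 1) * c := by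
        rw [mul_sub, sub_mul, mul_one, one_mul, hcb]
      rw [← Matrix.rank_mul_eq_right_of_isUnit_det _ ((a : Matrix (Fin m ⊕ Fin m) (Fin m ⊕ Fin m) F) - 1) hdet, he,
        Matrix.rank_mul_eq_left_of_isUnit_det _ _ hdet]
    · let e : (Fin m ⊕ Fin m → F) ≃ (Fin m ⊕ Fin m → F) :=
        Equiv.ofBijective (fun v => (c : Matrix (Fin m ⊕ Fin m) (Fin m ⊕ Fin m) F) *ᵥ v)
          ⟨Matrix.mulVec_injective_iff_isUnit.2 hu, Matrix.mulVec_surjective_iff_isUnit.2 hu⟩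
      refine Nat.card_congr (e.subtypeEquiv fun v => ?_)
      show _ ↔ Cfsg.sympForm m F ((c : Matrix (Fin m ⊕ Fin m) (Fin m ⊕ Fin m) F) *ᵥ v)
        ((b : Matrix (Fin m ⊕ Fin m) (Fin m ⊕ Fin m) F) *ᵥ ((c : Matrix (Fin m ⊕ Fin m) (Fin m ⊕ Fin m) F) *ᵥ v)) = 0
      rw [Matrix.mulVec_mulVec, ← hcb, ← Matrix.mulVec_mulVec, ← sympBil_apply, ← sympBil_apply, sympBil_preserved]
  · rintro ⟨hr, hcard⟩
    refine exists_symplectic_conj a b (hpow a ha) (hpow b hb) hr ?_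
    have hodd : ∀ c : ↥(Matrix.symplecticGroup (Fin m) F), c * c = 1 →
        (∀ v, Cfsg.sympForm m F v ((c : Matrix (Fin m ⊕ Fin m) (Fin m ⊕ Fin m) F) *ᵥ v) = 0) →
        Even ((c : Matrix (Fin m ⊕ Fin m) (Fin m ⊕ Fin m) F) - 1).rank := by
      intro c hc hall
      obtain ⟨-, B, -, -, hBn, hBa⟩ := exists_induced _ (sympBil_preserved c) (congrArg Subtype.val hc)
      exact even_finrank_of_isAlt _ B rfl (hBa.2 hall) hBn
    have step : ∀ c d : ↥(Matrix.symplecticGroup (Fin m) F),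
        Nat.card {v : Fin m ⊕ Fin m → F // Cfsg.sympForm m F v ((c : Matrix (Fin m ⊕ Fin m) (Fin m ⊕ Fin m) F) *ᵥ v) = 0} =
        Nat.card {v : Fin m ⊕ Fin m → F // Cfsg.sympForm m F v ((d : Matrix (Fin m ⊕ Fin m) (Fin m ⊕ Fin m) F) *ᵥ v) = 0} →
        (∀ v, Cfsg.sympForm m F v ((c : Matrix (Fin m ⊕ Fin m) (Fin m ⊕ Fin m) F) *ᵥ v) = 0) →
        ∀ v, Cfsg.sympForm m F v ((d : Matrix (Fin m ⊕ Fin m) (Fin m ⊕ Fin m) F) *ᵥ v) = 0 := by
      intro c d hcd hall v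
      rw [Nat.card_congr (Equiv.subtypeUnivEquiv hall)] at hcd
      have hbij : Function.Bijective (Subtype.val :
          {v : Fin m ⊕ Fin m → F // Cfsg.sympForm m F v ((d : Matrix (Fin m ⊕ Fin m) (Fin m ⊕ Fin m) F) *ᵥ v) = 0} → _) :=
        (Nat.bijective_iff_injective_and_card _).2 ⟨Subtype.val_injective, hcd.symm⟩
      obtain ⟨w, rfl⟩ := hbij.2 v
      exact w.2
    exact ⟨fun h => step a b (hcard (hodd a (hpow a ha) h)) h,
      fun h => step b a (hcard (hr ▸ hodd b (hpow b hb) h)).symm h⟩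

end Cfsg.Agent.S2166
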