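import Cfsg.Statements.S2167
import Cfsg.Agent.CharTwo.SympBasic
import Cfsg.Agent.CharTwo.AlternatingForm

set_option autoImplicit false
open Cfsg

namespace Cfsg.Agent.S2167

open Matrix CfsgLib.CharTwo

theorem result {F : Type*} [Field F] [Fintype F] [CharP F 2] {m : ℕ} (hm : 2 ≤ m) (a : ↥(Matrix.symplecticGroup (Fin m) F)) (ha : orderOf a = 2) :
    (Nat.card {v : Fin m ⊕ Fin m → F // Cfsg.sympForm m F v (Matrix.mulVec ((a : ↥(Matrix.symplecticGroup (Fin m) F)) : Matrix (Fin m ⊕ Fin m) (Fin m ⊕ Fin m) F) v) = 0} = Fintype.card F ^ (2 * m) ∨ Nat.card {v : Fin m ⊕ Fin m → F // Cfsg.sympForm m F v (Matrix.mulVec ((a : ↥(Matrix.symplecticGroup (Fin m) F)) : Matrix (Fin m ⊕ Fin m) (Fin m ⊕ Fin m) F) v) = 0} * Fintype.card F = Fintype.card F ^ (2 * m)) ∧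
    ((∀ v : Fin m ⊕ Fin m → F, Cfsg.sympForm m F v (Matrix.mulVec ((a : ↥(Matrix.symplecticGroup (Fin m) F)) : Matrix (Fin m ⊕ Fin m) (Fin m ⊕ Fin m) F) v) = 0) → Even (((a : ↥(Matrix.symplecticGroup (Fin m) F)) : Matrix (Fin m ⊕ Fin m) (Fin m ⊕ Fin m) F) - 1).rank) := by
  classical
  set T : Matrix (Fin m ⊕ Fin m) (Fin m ⊕ Fin m) F := (a : Matrix (Fin m ⊕ Fin m) (Fin m ⊕ Fin m) F) with hT
  have hTT : T * T = 1 := by
    have h := congrArg (Subtype.val : ↥(Matrix.symplecticGroup (Fin m) F) → _) (ha ▸ pow_orderOf_eq_one a : a ^ 2 = 1)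
    rw [SubmonoidClass.coe_pow, pow_two] at h
    exact h
  have hinv : ∀ v, T *ᵥ (T *ᵥ v) = v := fun v => by rw [Matrix.mulVec_mulVec, hTT, Matrix.one_mulVec]
  let f := sympBil m F
  have hsym : ∀ u v, f u v = f v u := fun u v => by rw [sympBil_swap u v, CharTwo.neg_eq]
  have hsa : ∀ u v, f u (T *ᵥ v) = f (T *ᵥ u) v := fun u v => by
    conv_lhs => rw [show f u (T *ᵥ v) = f (T *ᵥ u) (T *ᵥ (T *ᵥ v)) from (sympBil_preserved a u (T *ᵥ v)).symm, hinv]
  simp only [← sympBil_apply]
  change (Nat.card {v : Fin m ⊕ Fin m → F // f v (T *ᵥ v) = 0} = _ ∨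
    Nat.card {v : Fin m ⊕ Fin m → F // f v (T *ᵥ v) = 0} * _ = _) ∧ ((∀ v, f v (T *ᵥ v) = 0) → Even (T - 1).rank)
  constructor
  · let r : F ≃+* F := (frobeniusEquiv F 2).symm
    have hr : ∀ c x : F, r (c ^ 2 * x) = c * r x := by
      intro c x
      apply (frobeniusEquiv F 2).injective
      simp only [map_mul, r, RingEquiv.apply_symm_apply, map_pow]
      simp [frobeniusEquiv_apply, frobenius_def]
    let g : (Fin m ⊕ Fin m → F) →ₗ[F] F :=
      { toFun := fun v => r (f v (T *ᵥ v))
        map_add' := fun u v => by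
          rw [← map_add]
          congr 1
          simp only [Matrix.mulVec_add, map_add, LinearMap.add_apply]
          have h : f v (T *ᵥ u) = f u (T *ᵥ v) := by rw [hsa v u, hsym]
          rw [h]
          linear_combination (CharTwo.add_self_eq_zero (f u (T *ᵥ v)))
        map_smul' := fun c v => by
          simp only [Matrix.mulVec_smul, map_smul, LinearMap.smul_apply, smul_eq_mul, RingHom.id_apply]
          rw [← hr]
          ring_nf }
    have hker : Nat.card {v : Fin m ⊕ Fin m → F // f v (T *ᵥ v) = 0} =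
        Fintype.card F ^ Module.finrank F (LinearMap.ker g) := by
      rw [← Nat.card_eq_fintype_card (α := F), ← Module.natCard_eq_pow_finrank]
      exact Nat.card_congr (Equiv.subtypeEquivRight fun v => by simp [g, LinearMap.mem_ker])
    have h1 := LinearMap.finrank_range_add_finrank_ker g
    have hle : Module.finrank F (LinearMap.range g) ≤ 1 :=
      le_trans (Submodule.finrank_le _) (Module.finrank_self F).le
    rw [Module.finrank_fintype_fun_eq_card, Fintype.card_sum, Fintype.card_fin] at h1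
    rw [hker, ← pow_succ]
    rcases Nat.le_one_iff_eq_zero_or_eq_one.1 hle with h | h
    · left; congr 1; omega
    · right; congr 1; omega
  · intro hall
    let N : (Fin m ⊕ Fin m → F) →ₗ[F] (Fin m ⊕ Fin m → F) := (T - 1).mulVecLin
    have hN : ∀ v, N v = T *ᵥ v - v := fun v => by simp [N, Matrix.sub_mulVec]
    have hNsa : ∀ u v, f u (N v) = f (N u) v := fun u v => by
      simp only [hN, map_sub, LinearMap.sub_apply, hsa]
    obtain ⟨sec, hsec⟩ := N.rangeRestrict.exists_rightInverse_of_surjective N.range_rangeRestrict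
    have hsec' : ∀ x, N (sec x) = x.1 := fun x =>
      congrArg Subtype.val (LinearMap.congr_fun hsec x)
    let B : LinearMap.range N →ₗ[F] LinearMap.range N →ₗ[F] F := f.compl₁₂ sec (LinearMap.range N).subtype
    refine CfsgLib.CharTwo.even_finrank_of_isAlt _ B rfl (fun x => ?_) (fun x hx => ?_)
    · show f (sec x) x.1 = 0
      rw [← hsec' x, hN, map_sub, hall, sympBil_self, sub_zero]
    · apply Subtype.ext
      apply sympBil_nondeg
      intro w
      have h : f (sec x) (N w) = 0 := hx ⟨N w, LinearMap.mem_range_self N w⟩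
      rw [hNsa, hsec'] at h
      exact h

end Cfsg.Agent.S2167
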