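import Cfsg.Statements.S2169
import Cfsg.Agent.Dickson.Matrix

set_option autoImplicit false
open Cfsg

namespace Cfsg.Agent.S2169

open CfsgLib.Dickson

theorem result {F : Type*} [Field F] [Fintype F] [CharP F 2] {m : ℕ} (hm : 4 ≤ m) (t : ↥(Cfsg.isometryGroup F (Cfsg.quadFormPlus m F))) (ht : orderOf t = 2) :
    t ∈ Cfsg.Omega F (Cfsg.quadFormPlus m F) ↔ Even ((((t : ↥(Cfsg.isometryGroup F (Cfsg.quadFormPlus m F))) : GL (Fin m ⊕ Fin m) F) : Matrix (Fin m ⊕ Fin m) (Fin m ⊕ Fin m) F) - 1).rank := by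
  revert t
  rw [← plusForm_coe]
  intro t ht
  exact mem_Omega_iff _ (plusForm_nondegenerate m) (by simp; omega) t

end Cfsg.Agent.S2169
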