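import Cfsg.Statements.S2173
import Cfsg.Agent.Dickson.Classes

set_option autoImplicit false
open Cfsg

namespace Cfsg.Agent.S2173

open CfsgLib.Dickson

theorem result {F : Type*} [Field F] [Fintype F] [CharP F 2] {m : ℕ} (hm : 4 ≤ m) (c d : F) (hcd : ∀ z₁ z₂ : F, z₁ ^ 2 + c * z₁ * z₂ + d * z₂ ^ 2 = 0 → z₁ = 0 ∧ z₂ = 0) (t s : ↥(Cfsg.isometryGroup F (Cfsg.quadFormMinus (m - 1) F c d))) (ht : orderOf t = 2) (hs : orderOf s = 2) (htO : t ∈ Cfsg.Omega F (Cfsg.quadFormMinus (m - 1) F c d)) (hsO : s ∈ Cfsg.Omega F (Cfsg.quadFormMinus (m - 1) F c d)) (hconj : IsConj t s) :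
    ∃ g ∈ Cfsg.Omega F (Cfsg.quadFormMinus (m - 1) F c d), g * t * g⁻¹ = s := by
  revert t s
  rw [← minusForm_coe]
  intro t s ht hs htO hsO hconj
  exact omega_conj_of_fixed _ (minusForm_nondegenerate (m - 1) hcd) (m := m) (by simp; omega) (by simp; omega) t s ht
    hconj (by
      rintro ⟨h1, h2⟩
      have h3 := minus_no_lag (m - 1) hcd (LinearMap.range (disp (toOrth _ t))) (fun v hv => by obtain ⟨u, rfl⟩ := hv; exact h2 u)
      omega)

end Cfsg.Agent.S2173
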