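import Cfsg.Statements.S2176
import Cfsg.Agent.InvClasses.DataE8
import Cfsg.Agent.InvClasses.Separation

set_option autoImplicit false
open Cfsg Cfsg.Lie CfsgLib CfsgLib.Chevalley CfsgLib.InvClasses

namespace Cfsg.Agent.S2176

theorem word_cases {F : Type*} [Field F] [CharP F 2] (hD : Good chevE8) {y : GL chevE8.Idx F}
    (hy : (y : Matrix chevE8.Idx chevE8.Idx F) ∈ [chevE8.x F 239 1,
      chevE8.x F 232 1 * chevE8.x F 233 1,
      chevE8.x F 228 1 * chevE8.x F 222 1 * chevE8.x F 218 1,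
      chevE8.x F 226 1 * chevE8.x F 220 1 * chevE8.x F 213 1 * chevE8.x F 216 1]) :
    y = word hD F [239] ∨ y = word hD F [232, 233] ∨ y = word hD F [228, 222, 218] ∨
      y = word hD F [226, 220, 213, 216] := by
  have hn : ∀ r < 240, r < chevE8.nroots := fun r hr => hr
  simp only [List.mem_cons, List.not_mem_nil, or_false] at hy
  rcases hy with e | e | e | e
  · exact .inl (Units.ext (by rw [coe_word_one hD F (hn 239 (by decide)), e]))
  · exact .inr (.inl (Units.ext (by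
      rw [coe_word_cons hD F (hn 232 (by decide)), coe_word_one hD F (hn 233 (by decide)), e])))
  · exact .inr (.inr (.inl (Units.ext (by
      rw [coe_word_cons hD F (hn 228 (by decide)), coe_word_cons hD F (hn 222 (by decide)),
        coe_word_one hD F (hn 218 (by decide)), e, mul_assoc]))))
  · exact .inr (.inr (.inr (Units.ext (by
      rw [coe_word_cons hD F (hn 226 (by decide)), coe_word_cons hD F (hn 220 (by decide)),
        coe_word_cons hD F (hn 213 (by decide)), coe_word_one hD F (hn 216 (by decide)), e,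
        mul_assoc, mul_assoc]))))

/-- Conjugacy classes of involutions in the Chevalley group of type E₈ over a finite field F of characteristic two (the matrix group generated by the root elements x_r(t)). In this problem's root numbering for type E₈ (the Chevalley data module; fundamental roots numbered so that p₁–p₃–p₄–p₅–p₆–p₇–p₈ is the long chain of the diagram and p₂ is joined to p₄; roots indexed by their coefficient vectors in increasing order) let r = 239 be the highest root (2,3,4,6,5,4,3,2), α = 232 = (2,2,4,5,4,3,2,1), β = 233 = (2,3,3,5,4,3,2,1), γ = 228 = (2,2,3,4,3,2,2,1), δ = 222 = (1,2,3,4,3,3,2,1), ε = 218 = (1,2,2,4,4,3,2,1), φ = 226 = (2,2,3,4,3,2,1,0), ψ = 220 = (1,2,3,4,3,2,1,1), θ = 213 = (1,2,2,3,3,3,2,1), ω = 216 = (1,2,2,4,3,2,2,1) (the roots within each of {α, β}, {γ, δ, ε}, {φ, ψ, θ, ω} pairwise orthogonal); consider x_r(1), x_α(1)x_β(1), x_γ(1)x_δ(1)x_ε(1) and x_φ(1)x_ψ(1)x_θ(1)x_ω(1). Then: each invertible matrix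 equal to one of these four products lies in the group and has order 2; every element of order 2 of the group is conjugate in the group to one of them; and no two of them are conjugate in the group (so, the four matrices being distinct, the group has exactly four conjugacy classes of involutions). -/
theorem result {F : Type*} [Field F] [Fintype F] [CharP F 2] :
    (∀ y : GL Cfsg.Lie.chevE8.Idx F, ((y : GL Cfsg.Lie.chevE8.Idx F) : Matrix Cfsg.Lie.chevE8.Idx Cfsg.Lie.chevE8.Idx F) ∈ [Cfsg.Lie.chevE8.x F 239 1, Cfsg.Lie.chevE8.x F 232 1 * Cfsg.Lie.chevE8.x F 233 1, Cfsg.Lie.chevE8.x F 228 1 * Cfsg.Lie.chevE8.x F 222 1 * Cfsg.Lie.chevE8.x F 218 1, Cfsg.Lie.chevE8.x F 226 1 * Cfsg.Lie.chevE8.x F 220 1 * Cfsg.Lie.chevE8.x F 213 1 * Cfsg.Lie.chevE8.x F 216 1] → y ∈ Cfsg.Lie.chevE8.group F ∧ orderOf y = 2) ∧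
    (∀ g ∈ Cfsg.Lie.chevE8.group F, orderOf g = 2 → ∃ y ∈ Cfsg.Lie.chevE8.group F, ((y : GL Cfsg.Lie.chevE8.Idx F) : Matrix Cfsg.Lie.chevE8.Idx Cfsg.Lie.chevE8.Idx F) ∈ [Cfsg.Lie.chevE8.x F 239 1, Cfsg.Lie.chevE8.x F 232 1 * Cfsg.Lie.chevE8.x F 233 1, Cfsg.Lie.chevE8.x F 228 1 * Cfsg.Lie.chevE8.x F 222 1 * Cfsg.Lie.chevE8.x F 218 1, Cfsg.Lie.chevE8.x F 226 1 * Cfsg.Lie.chevE8.x F 220 1 * Cfsg.Lie.chevE8.x F 213 1 * Cfsg.Lie.chevE8.x F 216 1] ∧ ∃ h ∈ Cfsg.Lie.chevE8.group F, h * g * h⁻¹ = y) ∧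
    (∀ y₁ ∈ Cfsg.Lie.chevE8.group F, ∀ y₂ ∈ Cfsg.Lie.chevE8.group F, ((y₁ : GL Cfsg.Lie.chevE8.Idx F) : Matrix Cfsg.Lie.chevE8.Idx Cfsg.Lie.chevE8.Idx F) ∈ [Cfsg.Lie.chevE8.x F 239 1, Cfsg.Lie.chevE8.x F 232 1 * Cfsg.Lie.chevE8.x F 233 1, Cfsg.Lie.chevE8.x F 228 1 * Cfsg.Lie.chevE8.x F 222 1 * Cfsg.Lie.chevE8.x F 218 1, Cfsg.Lie.chevE8.x F 226 1 * Cfsg.Lie.chevE8.x F 220 1 * Cfsg.Lie.chevE8.x F 213 1 * Cfsg.Lie.chevE8.x F 216 1] → ((y₂ : GL Cfsg.Lie.chevE8.Idx F) : Matrix Cfsg.Lie.chevE8.Idx Cfsg.Lie.chevE8.Idx F) ∈ [Cfsg.Lie.chevE8.x F 239 1, Cfsg.Lie.chevE8.x F 232 1 * Cfsg.Lie.chevE8.x F 233 1, Cfsg.Lie.chevE8.x F 228 1 * Cfsg.Lie.chevE8.x F 222 1 * Cfsg.Lie.chevE8.x F 218 1, Cfsg.Lie.chevE8.x F 226 1 * Cfsg.Lie.chevE8.x F 220 1 * Cfsg.Lie.chevE8.x F 213 1 * Cfsg.Lie.chevE8.x F 216 1] →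
      (∃ h ∈ Cfsg.Lie.chevE8.group F, h * y₁ * h⁻¹ = y₂) → ((y₁ : GL Cfsg.Lie.chevE8.Idx F) : Matrix Cfsg.Lie.chevE8.Idx Cfsg.Lie.chevE8.Idx F) = ((y₂ : GL Cfsg.Lie.chevE8.Idx F) : Matrix Cfsg.Lie.chevE8.Idx Cfsg.Lie.chevE8.Idx F)) := by
  have hW : GoodWeyl chevE8 := goodWeyl_of_mem (by simp)
  have hD : Good chevE8 := hW.good
  have h := Weyl.rootE8_good
  have r1 := rank_eq_of_ok hD F InvClasses.E8.rankLe0 InvClasses.E8.rankGe0
  have r2 := rank_eq_of_ok hD F InvClasses.E8.rankLe1 InvClasses.E8.rankGe1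
  have r3 := rank_eq_of_ok hD F InvClasses.E8.rankLe2 InvClasses.E8.rankGe2
  have r4 := rank_eq_of_ok hD F InvClasses.E8.rankLe3 InvClasses.E8.rankGe3
  refine ⟨fun y hy => ?_, fun g hg h2 => ?_, fun y₁ _ y₂ _ hy₁ hy₂ hc => ?_⟩
  · rcases word_cases hD hy with rfl | rfl | rfl | rfl
    · exact ⟨word_mem hD F _, orderOf_word hD F (by decide) (by decide +kernel) (by decide) r1⟩
    · exact ⟨word_mem hD F _, orderOf_word hD F (by decide) (by decide +kernel) (by decide) r2⟩
    · exact ⟨word_mem hD F _, orderOf_word hD F (by decide) (by decide +kernel) (by decide) r3⟩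
    · exact ⟨word_mem hD F _, orderOf_word hD F (by decide) (by decide +kernel) (by decide) r4⟩
  · obtain ⟨k, hk, x, hx, e⟩ := exists_conj_word h hW F InvClasses.E8.tableOk rfl rfl
      InvClasses.E8.certsOk hg h2
    refine ⟨_, word_mem hD F _, ?_, x, hx, e⟩
    have hn : ∀ r < 240, r < chevE8.nroots := fun r hr => hr
    have hmem : (InvClasses.E8.certs.getD k ([], [])).2 ∈
        [[239], [232, 233], [228, 222, 218], [226, 220, 213, 216]] :=
      (show ∀ k < InvClasses.E8.certs.length, (InvClasses.E8.certs.getD k ([], [])).2 ∈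
        [[239], [232, 233], [228, 222, 218], [226, 220, 213, 216]] by decide +kernel) k hk
    simp only [List.mem_cons, List.not_mem_nil, or_false] at hmem
    rcases hmem with e' | e' | e' | e' <;> rw [e']
    · rw [coe_word_one hD F (hn 239 (by decide))]; simp
    · rw [coe_word_cons hD F (hn 232 (by decide)), coe_word_one hD F (hn 233 (by decide))]; simp
    · rw [coe_word_cons hD F (hn 228 (by decide)), coe_word_cons hD F (hn 222 (by decide)),
        coe_word_one hD F (hn 218 (by decide)), ← mul_assoc]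
      simp
    · rw [coe_word_cons hD F (hn 226 (by decide)), coe_word_cons hD F (hn 220 (by decide)),
        coe_word_cons hD F (hn 213 (by decide)), coe_word_one hD F (hn 216 (by decide)),
        ← mul_assoc, ← mul_assoc]
      simp
  · obtain ⟨x, -, e⟩ := hc
    have hr := rank_sub_one_eq_of_conj F e
    rcases word_cases hD hy₁ with rfl | rfl | rfl | rfl <;>
      rcases word_cases hD hy₂ with rfl | rfl | rfl | rfl
    all_goals first
      | (rw [r1, r2] at hr; omega)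
      | (rw [r1, r3] at hr; omega)
      | (rw [r1, r4] at hr; omega)
      | (rw [r2, r3] at hr; omega)
      | (rw [r2, r4] at hr; omega)
      | (rw [r3, r4] at hr; omega)
      | exact rfl

end Cfsg.Agent.S2176
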