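import Cfsg.Statements.S2181
import Cfsg.Agent.InvClasses.DataE7
import Cfsg.Agent.InvClasses.Separation

set_option autoImplicit false
open Cfsg Cfsg.Lie CfsgLib CfsgLib.Chevalley CfsgLib.InvClasses

namespace Cfsg.Agent.S2181

/-- Root lists of five representatives. -/
def rootLists : Fin 5 → List ℕ :=
  ![[125], [125, 92], [125, 92, 63], [123, 114, 109], [123, 114, 109, 63]]

/-- The ranks of `g - 1` at the five representatives. -/
def ranks : Fin 5 → ℕ := ![34, 52, 53, 62, 63]

/-- The Chevalley group of type E₇ over a finite field of characteristic two (the matrix group generated by the root elements) has exactly five conjugacy classes of elements of order 2. -/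
theorem result {F : Type*} [Field F] [Fintype F] [CharP F 2] :
    (ConjClasses.mk '' {g : ↥(Cfsg.Lie.chevE7.group F) | orderOf g = 2}).ncard = 5 := by
  have hW : GoodWeyl chevE7 := goodWeyl_of_mem (by simp)
  have hD : Good chevE7 := hW.good
  have h := Weyl.rootE7_good
  have hr : ∀ i, (((word hD F (rootLists i) : GL chevE7.Idx F) :
      Matrix chevE7.Idx chevE7.Idx F) - 1).rank = ranks i := by
    intro i
    fin_cases i
    · exact rank_eq_of_ok hD F InvClasses.E7.rankLe0 InvClasses.E7.rankGe0
    · exact rank_eq_of_ok hD F InvClasses.E7.rankLe1 InvClasses.E7.rankGe1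
    · exact rank_eq_of_ok hD F InvClasses.E7.rankLe2 InvClasses.E7.rankGe2
    · exact rank_eq_of_ok hD F InvClasses.E7.rankLe3 InvClasses.E7.rankGe3
    · exact rank_eq_of_ok hD F InvClasses.E7.rankLe4 InvClasses.E7.rankGe4
  have hord : ∀ i, orderOf (word hD F (rootLists i)) = 2 := fun i =>
    orderOf_word hD F
      ((show ∀ i : Fin 5, (rootLists i ++ rootLists i).all (fun r => Nat.blt r chevE7.nroots) = true
        by decide +kernel) i)
      ((show ∀ i : Fin 5, (actWord chevE7 (rootLists i ++ rootLists i) == actWord chevE7 []) = true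
        by decide +kernel) i)
      ((show ∀ i : Fin 5, ranks i ≠ 0 by decide) i) (hr i)
  let c : Fin 5 → ConjClasses ↥(chevE7.group F) := fun i =>
    ConjClasses.mk ⟨word hD F (rootLists i), word_mem hD F _⟩
  have hinj : Function.Injective c := by
    intro i j e
    obtain ⟨x, hx⟩ := isConj_iff.1 (ConjClasses.mk_eq_mk_iff_isConj.1 e)
    have e2 := rank_sub_one_eq_of_conj F (congrArg Subtype.val hx)
    simp only at e2
    rw [hr, hr] at e2
    exact ((show ∀ i j : Fin 5, ranks j = ranks i → i = j by decide) i j e2)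
  have himg : ConjClasses.mk '' {g : ↥(chevE7.group F) | orderOf g = 2} = Set.range c := by
    ext q
    constructor
    · rintro ⟨⟨g, hg⟩, h2, rfl⟩
      have h2' : orderOf g = 2 := by rw [← Subgroup.orderOf_mk (a := g) (ha := hg)]; exact h2
      obtain ⟨k, hk, x, hx, e⟩ := exists_conj_word h hW F InvClasses.E7.tableOk rfl rfl
        InvClasses.E7.certsOk hg h2'
      obtain ⟨i, hi⟩ : ∃ i, rootLists i = (InvClasses.E7.certs.getD k ([], [])).2 :=
        (show ∀ k < InvClasses.E7.certs.length,
          ∃ i, rootLists i = (InvClasses.E7.certs.getD k ([], [])).2 by decide +kernel) k hk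
      refine ⟨i, ConjClasses.mk_eq_mk_iff_isConj.2 (isConj_iff.2 ⟨⟨x, hx⟩, Subtype.ext ?_⟩).symm⟩
      rw [← hi] at e
      simpa using e
    · rintro ⟨i, rfl⟩
      exact ⟨_, by rw [Set.mem_ofPred_eq, Subgroup.orderOf_mk]; exact hord i, rfl⟩
  rw [himg, Set.ncard_range_of_injective hinj, Nat.card_fin]

end Cfsg.Agent.S2181
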