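import Cfsg.Statements.S2182
import Cfsg.Agent.TwistInvol.E6

set_option autoImplicit false
open Cfsg

namespace Cfsg.Agent.S2182

/-- The twisted group ²E₆(q), q even, realised inside the Chevalley group of type E₆ over the field K with q² elements, has exactly three conjugacy classes of elements of order 2. -/
theorem result {K : Type*} [Field K] [Fintype K] [CharP K 2] (q : ℕ) (hK : Fintype.card K = q ^ 2) :
    (ConjClasses.mk '' {g : ↥(Cfsg.Lie.twistedE6 K q) | orderOf g = 2}).ncard = 3 := by
  obtain ⟨n, hp, hn⟩ := FiniteField.card K 2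
  have hq : IsPrimePow q := (isPrimePow_pow_iff two_ne_zero).1
    (hK ▸ hn ▸ ⟨2, n, Nat.prime_iff.1 hp, n.pos, rfl⟩)
  obtain ⟨Φ, hG, -, hfix, hcard, -⟩ := CfsgLib.GraphTwist.twistedE6_eq_tG hq hK
  have hne : ∃ x, Φ.f x ≠ x := by
    by_contra h
    push Not at h
    rw [Nat.card_congr (Equiv.subtypeUnivEquiv h), Nat.card_eq_fintype_card, hK] at hfix
    have := hq.two_le
    nlinarith
  rw [hG]
  exact CfsgLib.TwistInvol.E6.ncard_classes Φ hne

end Cfsg.Agent.S2182
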