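import Cfsg.Statements.S2183
import Cfsg.Agent.GraphTwist.FamilyD4
import Cfsg.Agent.TrialityInvol.Classes

set_option autoImplicit false
open Cfsg

namespace Cfsg.Agent.S2183

/-- The twisted group ³D₄(q), q even, realised inside the Chevalley group of type D₄ over the field K with q³ elements, has exactly two conjugacy classes of elements of order 2. -/
theorem result {K : Type*} [Field K] [Fintype K] [CharP K 2] (q : ℕ) (hK : Fintype.card K = q ^ 3) :
    (ConjClasses.mk '' {g : ↥(Cfsg.Lie.twistedD4 K q) | orderOf g = 2}).ncard = 2 := by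
  have hq : IsPrimePow q := by
    obtain ⟨n, -, hn⟩ := FiniteField.card K 2
    rcases eq_or_ne q 0 with rfl | hq0
    · simp at hK
    rcases eq_or_ne q 1 with rfl | hq1
    · have := Fintype.one_lt_card (α := K)
      rw [hK] at this
      simp at this
    obtain ⟨i, hi, rfl⟩ := (Nat.dvd_prime_pow Nat.prime_two).1
      (show q ∣ 2 ^ (n : ℕ) by rw [← hn, hK]; exact dvd_pow_self q three_ne_zero)
    exact ⟨2, i, Nat.prime_two.prime, Nat.pos_of_ne_zero fun h => hq1 (by rw [h]; rfl), rfl⟩
  obtain ⟨Φ, e, -, -, -, -⟩ := CfsgLib.GraphTwist.twistedD4_eq_tG hq hK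
  rw [e]
  exact CfsgLib.TrialityInvol.classes_ncard Φ

end Cfsg.Agent.S2183
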