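import Cfsg.Statements.S2189
import Cfsg.Agent.SubfieldOver.Interface

set_option autoImplicit false
open Cfsg

namespace Cfsg.Agent.S2189

/-- Finite subgroups of an adjoint Chevalley group over an algebraically closed field that contain the group over a finite subfield. Let k be an algebraically closed field of prime characteristic p, G the Chevalley group of type G₂, B₂, D₄, F₄, E₆, E₇ or E₈ over k (the matrix group generated by the root elements x_s(t), t ∈ k), and q = p^a with a ≥ 1. Let L be the subgroup generated by the root elements x_s(t) with t^q = t (the Chevalley group over the field of q elements inside G), and let M be a finite subgroup of G containing L. Then for some r ≥ 1, M contains every root element x_s(t) with t^(q^r) = t and every element of M is a matrix all of whose entries c satisfy c^(q^r) = c (so M lies between the Chevalley group over the field with q^r elements and the group of points of G fixed by the q^r-th power map). -/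
theorem result {k : Type*} [Field k] [IsAlgClosed k] (p : ℕ) [Fact p.Prime] [CharP k p] (D : Cfsg.Lie.ChevalleyDatum) (hD : D ∈ [Cfsg.Lie.chevG2, Cfsg.Lie.chevB2, Cfsg.Lie.chevD4, Cfsg.Lie.chevF4, Cfsg.Lie.chevE6, Cfsg.Lie.chevE7, Cfsg.Lie.chevE8]) (a : ℕ) (ha : 1 ≤ a) (M : Subgroup (GL D.Idx k)) (hMfin : Finite ↥M) (hMG : M ≤ D.group k)
    (hLM : Subgroup.closure {g : GL D.Idx k | ∃ (s : ℕ) (t : k), t ^ (p ^ a) = t ∧ (g : Matrix D.Idx D.Idx k) = D.x k s t} ≤ M) :
    ∃ r : ℕ, 1 ≤ r ∧ Subgroup.closure {g : GL D.Idx k | ∃ (s : ℕ) (t : k), t ^ ((p ^ a) ^ r) = t ∧ (g : Matrix D.Idx D.Idx k) = D.x k s t} ≤ M ∧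
      ∀ g ∈ M, ∀ i j : D.Idx, ((g : Matrix D.Idx D.Idx k) i j) ^ ((p ^ a) ^ r) = (g : Matrix D.Idx D.Idx k) i j := by
  classical
  have hW := CfsgLib.Chevalley.goodWeyl_of_mem hD
  have hp := (Fact.out : p.Prime)
  rw [CfsgLib.SubfieldOver.closure_x_le_iff hW.good (fun t => t ^ p ^ a = t)] at hLM
  obtain ⟨S, n, hn, -, -, hX, hfix⟩ := CfsgLib.SubfieldOver.exists_field_of_mem p hD hW M
    ⟨hMG, fun r => hLM r 1 (one_pow _)⟩ hMfin
  have hne : NeZero ((p ^ a - 1 : ℕ) : k) := ⟨by
    rw [Nat.cast_sub (Nat.one_le_pow a p hp.pos), Nat.cast_pow, CharP.cast_eq_zero, zero_pow (by omega)]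
    simp⟩
  obtain ⟨ζ, hζ⟩ := HasEnoughRootsOfUnity.exists_primitiveRoot k (p ^ a - 1)
  obtain ⟨r, rfl⟩ : a ∣ n := by
    refine CfsgLib.SubfieldOver.dvd_of_primitive p hζ ha hn ?_
    have hq : ζ ^ p ^ a = ζ := by
      rw [← Nat.sub_add_cancel (Nat.one_le_pow a p hp.pos), pow_succ, hζ.pow_eq_one, one_mul]
    have h1 := hfix _ (hLM ⟨D.simple 0, hW.good.simple_lt hW.good.rank_pos⟩ ζ hq)
    rw [CfsgLib.Chevalley.X_map, iterateFrobenius_def] at h1
    exact CfsgLib.Chevalley.X_injective hW.good _ h1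
  have hr : 1 ≤ r := by
    rcases Nat.eq_zero_or_pos r with h | h
    · subst h; simp at hn
    · exact h
  refine ⟨r, hr, ?_, ?_⟩
  · rw [← pow_mul, CfsgLib.SubfieldOver.closure_x_le_iff hW.good (fun t => t ^ p ^ (a * r) = t)]
    exact hX
  · intro g hg
    rw [← pow_mul]
    exact (CfsgLib.SubfieldOver.gmap_frobenius_iff p _ g).1 (hfix g hg)

end Cfsg.Agent.S2189
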