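import Cfsg.Statements.S2190
import Cfsg.Agent.SubfieldOver.Interface

set_option autoImplicit false
open Cfsg

namespace Cfsg.Agent.S2190

/-- Subfield subgroups of prime degree are maximal. Let K be a finite field with q^r elements, r a prime, q a power of the characteristic, and G the Chevalley group of type G₂, B₂, D₄, F₄, E₆, E₇ or E₈ over K (the matrix group generated by the root elements). Let M be the subgroup of G consisting of the matrices all of whose entries lie in the subfield with q elements (entries c with c^q = c). Then M is a proper subgroup of G and is maximal: every subgroup of G containing M is M or G. -/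
theorem result {K : Type*} [Field K] [Fintype K] (p : ℕ) [Fact p.Prime] [CharP K p] (D : Cfsg.Lie.ChevalleyDatum) (hD : D ∈ [Cfsg.Lie.chevG2, Cfsg.Lie.chevB2, Cfsg.Lie.chevD4, Cfsg.Lie.chevF4, Cfsg.Lie.chevE6, Cfsg.Lie.chevE7, Cfsg.Lie.chevE8]) (a r : ℕ) (ha : 1 ≤ a) (hr : r.Prime) (hK : Fintype.card K = (p ^ a) ^ r) (M : Subgroup (GL D.Idx K))
    (hM : ∀ g : GL D.Idx K, g ∈ M ↔ g ∈ D.group K ∧ ∀ i j : D.Idx, ((g : Matrix D.Idx D.Idx K) i j) ^ (p ^ a) = (g : Matrix D.Idx D.Idx K) i j) :
    M ≠ D.group K ∧ ∀ H : Subgroup (GL D.Idx K), M ≤ H → H ≤ D.group K → H = M ∨ H = D.group K := by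
  classical
  have hW := CfsgLib.Chevalley.goodWeyl_of_mem hD
  have hp := (Fact.out : p.Prime)
  obtain ⟨ζ, hζ⟩ : ∃ ζ : K, IsPrimitiveRoot ζ (p ^ a - 1) := by
    obtain ⟨g, hg⟩ := IsCyclic.exists_generator (α := Kˣ)
    have ho : orderOf g = Fintype.card K - 1 := by
      rw [orderOf_eq_card_of_forall_mem_zpowers hg, Nat.card_units, Nat.card_eq_fintype_card]
    have hdvd : p ^ a - 1 ∣ Fintype.card K - 1 := by
      rw [hK]; exact Nat.sub_one_dvd_pow_sub_one (p ^ a) r
    obtain ⟨m, hm⟩ := hdvd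
    have hpos : 0 < Fintype.card K - 1 := by have := Fintype.one_lt_card (α := K); omega
    refine ⟨((g ^ m : Kˣ) : K), ?_⟩
    rw [IsPrimitiveRoot.coe_units_iff]
    have h := IsPrimitiveRoot.orderOf g
    rw [ho] at h
    exact h.pow hpos (by rw [hm, mul_comm])
  have hq : ζ ^ p ^ a = ζ := by
    rw [← Nat.sub_add_cancel (Nat.one_le_pow a p hp.pos), pow_succ, hζ.pow_eq_one, one_mul]
  have hXM : ∀ s t, t ^ p ^ a = t → CfsgLib.Chevalley.X hW.good s t ∈ M := by
    intro s t ht
    refine (hM _).2 ⟨CfsgLib.Chevalley.X_mem_group hW.good s t, ?_⟩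
    exact (CfsgLib.SubfieldOver.gmap_frobenius_iff p a _).1
      (by rw [CfsgLib.Chevalley.X_map, iterateFrobenius_def, ht])
  set s0 : CfsgLib.Chevalley.Root D := ⟨D.simple 0, hW.good.simple_lt hW.good.rank_pos⟩
  constructor
  · intro e
    obtain ⟨t, ht⟩ : ∃ t : K, t ^ p ^ a ≠ t := by
      by_contra hall
      push Not at hall
      have h2 : 1 < p ^ a := Nat.one_lt_pow (by omega) hp.one_lt
      have hP := FiniteField.X_pow_card_sub_X_ne_zero K h2
      have hle : Fintype.card K ≤ p ^ a := by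
        rw [← Finset.card_univ, ← FiniteField.X_pow_card_sub_X_natDegree_eq K h2]
        refine Polynomial.card_le_degree_of_subset_roots fun x _ => ?_
        rw [Polynomial.mem_roots hP]
        simp [hall x]
      rw [hK] at hle
      have hlt : (p ^ a) ^ 1 < (p ^ a) ^ r := Nat.pow_lt_pow_right h2 hr.one_lt
      rw [pow_one] at hlt
      omega
    have hmem : CfsgLib.Chevalley.X hW.good s0 t ∈ M := e ▸ CfsgLib.Chevalley.X_mem_group hW.good _ t
    have h1 := (CfsgLib.SubfieldOver.gmap_frobenius_iff p a _).2 ((hM _).1 hmem).2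
    rw [CfsgLib.Chevalley.X_map, iterateFrobenius_def] at h1
    exact ht (CfsgLib.Chevalley.X_injective hW.good _ h1)
  intro H hMH hHG
  obtain ⟨S, n, hn, hS, hmem, hX, hfix⟩ := CfsgLib.SubfieldOver.exists_field_of_mem p hD hW H
    ⟨hHG, fun s => hMH (hXM s 1 (one_pow _))⟩ inferInstance
  obtain ⟨j, rfl⟩ : a ∣ n := by
    refine CfsgLib.SubfieldOver.dvd_of_primitive p hζ ha hn ?_
    have h1 := hfix _ (hMH (hXM s0 ζ hq))
    rw [CfsgLib.Chevalley.X_map, iterateFrobenius_def] at h1
    exact CfsgLib.Chevalley.X_injective hW.good _ h1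
  have hjr : j ∣ r := by
    have h1 := Module.natCard_eq_pow_finrank (K := S) (V := K)
    rw [Nat.card_eq_fintype_card, hK, hS, ← pow_mul, ← pow_mul] at h1
    have h2 := Nat.pow_right_injective hp.two_le h1
    rw [mul_assoc] at h2
    exact ⟨_, Nat.eq_of_mul_eq_mul_left (by omega) h2⟩
  rcases hr.eq_one_or_self_of_dvd j hjr with rfl | rfl
  · left
    refine le_antisymm (fun g hg => (hM g).2 ⟨hHG hg, ?_⟩) hMH
    have := (CfsgLib.SubfieldOver.gmap_frobenius_iff p _ g).1 (hfix g hg)
    simpa using this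
  · right
    refine le_antisymm hHG ?_
    rw [CfsgLib.Chevalley.group_eq_closure hW.good, Subgroup.closure_le]
    rintro _ ⟨s, t, rfl⟩
    exact hX s t (by rw [pow_mul, ← hK]; exact FiniteField.pow_card t)

end Cfsg.Agent.S2190
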