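import Cfsg.Statements.S2220
import Cfsg.Agent.NineTwoQSelf.Main
import Cfsg.Agent.NineTwoQ.Main
import Cfsg.Agent.CITAlmost.Arith
import Cfsg.Agent.S3341
import Cfsg.Agent.S0348
import Cfsg.Agent.S0254
import Cfsg.Agent.S1011
import Cfsg.Agent.S1020

set_option autoImplicit false
open Cfsg

namespace Cfsg.Agent.S2220

/-- Let G be a non-abelian finite simple group of order 9·2ᵃ·qᵇ for a prime q other than 2 and 3, and suppose a Sylow 3-subgroup R of G is strongly self-centralizing: C_G(k) = R for every nonidentity k ∈ R. Then G is isomorphic to the alternating group of degree 6, to PSL(2,8) or to PSL(2,17). -/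
theorem result {G : Type*} [Group G] [Finite G] [IsSimpleGroup G] (hG : ¬ IsMulCommutative G)
    (q a b : ℕ) (hq : q.Prime) (hq2 : q ≠ 2) (hq3 : q ≠ 3) (hcard : Nat.card G = 9 * 2 ^ a * q ^ b)
    (R : Sylow 3 G) (hR : ∀ k ∈ (R : Subgroup G), k ≠ 1 → Subgroup.centralizer ({k} : Set G) = R) :
    Nonempty (G ≃* ↥(alternatingGroup (Fin 6))) ∨
      (∃ (F : Type) (_ : Field F) (_ : Fintype F), Fintype.card F = 8 ∧
        Nonempty (G ≃* Matrix.ProjectiveSpecialLinearGroup (Fin 2) F)) ∨
      Nonempty (G ≃* Matrix.ProjectiveSpecialLinearGroup (Fin 2) (ZMod 17)) := by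
  haveI := Fintype.ofFinite G
  let n : CfsgLib.NineTwoQ.Ctx G :=
    { R := R
      m := 2 ^ a * q ^ b
      card_G := by rw [hcard]; ring
      not_dvd := fun h => (Nat.prime_three.dvd_mul.1 h).elim
        (fun h => absurd ((Nat.prime_dvd_prime_iff_eq Nat.prime_three Nat.prime_two).1
          (Nat.prime_three.dvd_of_dvd_pow h)) (by norm_num))
        (fun h => hq3 ((Nat.prime_dvd_prime_iff_eq Nat.prime_three hq).1
          (Nat.prime_three.dvd_of_dvd_pow h)).symm) }
  by_cases hexp : ∀ k ∈ (R : Subgroup G), k ^ 3 = 1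
  swap
  · push Not at hexp
    obtain ⟨k, hk, hk3⟩ := hexp
    rcases CfsgLib.NineTwoQ.card_of_three_classes hG hq hq2 hq3 hcard
      (CfsgLib.NineTwoQSelf.three_classes_of_exp_nine n hk hk3) with h | h
    · right; left
      letI := Fintype.ofFinite (GaloisField 2 3)
      have hF : Fintype.card (GaloisField 2 3) = 8 := by
        rw [← Nat.card_eq_fintype_card, GaloisField.card 2 3 (by norm_num)]
        norm_num
      exact ⟨GaloisField 2 3, inferInstance, inferInstance, hF, Cfsg.Agent.S1011.result h hF⟩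
    · right; right
      haveI : Fact (Nat.Prime 17) := ⟨by norm_num⟩
      exact Cfsg.Agent.S1020.result h (ZMod.card 17)
  by_cases hone : ∀ s t : G, orderOf s = 3 → orderOf t = 3 → IsConj s t
  swap
  · push Not at hone
    obtain ⟨s, t, hs, ht, hst⟩ := hone
    exact Or.inl (Cfsg.Agent.S3341.result R (R : Subgroup G) rfl n.isMulCommutative hexp n.card_R
      ⟨s, t, hs, ht, fun g hg => hst (isConj_iff.2 ⟨g, hg⟩)⟩ hR)
  let c : CfsgLib.NineTwoQSelf.Ctx G := ⟨q, a, b, hG, hq, hq2, hq3, hcard, R, hexp, hR⟩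
  have hnc : ∃ x y : G, x * y ≠ y * x := by
    by_contra! h
    exact hG ⟨⟨h⟩⟩
  rcases Cfsg.Agent.S0348.result hnc (fun t ht => c.isPGroup_involution hone ht) with
    ⟨F, hFf, hFt, hF, ⟨e⟩⟩ | ⟨F, hFf, hFt, hF, ⟨e⟩⟩ | ⟨-, m, -, hm⟩
  · rcases hF with h9 | ⟨i, hi⟩ | ⟨hp, k, hk⟩
    · obtain ⟨f⟩ := Cfsg.Agent.S0254.result (F := F) h9
      exact Or.inl ⟨e.trans f⟩
    · have hi1 : 1 ≤ i := by
        have := Fintype.one_lt_card (α := F)
        rcases Nat.eq_zero_or_pos i with rfl | h
        · rw [hi, pow_zero] at this; omega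
        · exact h
      have hP := CfsgLib.Linear.card_PSL_two_even (F := F)
        (by rw [hi]; exact (Nat.even_pow' (by omega)).2 even_two)
      rw [← Nat.card_congr e.toEquiv, hcard, hi] at hP
      have := CfsgLib.NineTwoQSelf.even_field hq hq2 hq3 hP.symm hi1
      subst this
      exact Or.inr (Or.inl ⟨F, hFf, hFt, by rw [hi]; norm_num, ⟨e⟩⟩)
    · by_cases hp2 : Fintype.card F = 2
      · exfalso
        have hP := CfsgLib.Linear.card_PSL_two_even (F := F) (by rw [hp2]; exact even_two)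
        rw [← Nat.card_congr e.toEquiv, hcard, hp2] at hP
        have hd : 9 ∣ 2 * (2 ^ 2 - 1) := hP ▸ (dvd_mul_right 9 _).mul_right _
        norm_num at hd
      have hP := CfsgLib.Linear.card_PSL_two_odd (F := F) (hp.odd_of_ne_two hp2)
      rw [← Nat.card_congr e.toEquiv, hcard] at hP
      have h17 := CfsgLib.NineTwoQSelf.prime_field hq hq2 hq3 hp hp2 ⟨k, hk⟩ hP.symm
      rw [h17] at hP
      haveI : Fact (Nat.Prime 17) := ⟨by norm_num⟩
      exact Or.inr (Or.inr (Cfsg.Agent.S1020.result (by rw [hcard]; omega) (ZMod.card 17)))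
  · exfalso
    have hSL := CfsgLib.Linear.card_SL_mul (n := Fin 3) (F := F)
    have hGL : Nat.card (GL (Fin 3) F) = 181440 := by
      rw [Matrix.card_GL_field, Fin.prod_univ_three, hF]
      decide
    rw [hGL, hF] at hSL
    have hPSL := CfsgLib.Linear.card_PSL_mul (n := Fin 3) (F := F)
    rw [← Nat.card_congr e.toEquiv, hcard, hF, Fintype.card_fin] at hPSL
    norm_num at hPSL
    have h20160 : 9 * 2 ^ a * q ^ b = 20160 := by omega
    have h5 : 5 ∣ 9 * 2 ^ a * q ^ b := h20160 ▸ (by norm_num)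
    have h7 : 7 ∣ 9 * 2 ^ a * q ^ b := h20160 ▸ (by norm_num)
    have key : ∀ r : ℕ, r.Prime → r ≠ 2 → r ≠ 3 → r ∣ 9 * 2 ^ a * q ^ b → r = q := by
      intro r hr h2 h3 hd
      rcases hr.dvd_mul.1 hd with hd | hd
      · rcases hr.dvd_mul.1 hd with hd | hd
        · exact absurd ((Nat.prime_dvd_prime_iff_eq hr Nat.prime_three).1
            (hr.dvd_of_dvd_pow (show r ∣ 3 ^ 2 from hd))) h3
        · exact absurd ((Nat.prime_dvd_prime_iff_eq hr Nat.prime_two).1 (hr.dvd_of_dvd_pow hd)) h2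
      · exact (Nat.prime_dvd_prime_iff_eq hr hq).1 (hr.dvd_of_dvd_pow hd)
    have := key 5 (by norm_num) (by norm_num) (by norm_num) h5
    have := key 7 (by norm_num) (by norm_num) (by norm_num) h7
    omega
  · exfalso
    apply CfsgLib.CITAlmost.not_three_dvd_suzuki m
    rw [← hm, hcard]
    exact ((show 3 ∣ 9 by norm_num).mul_right _).mul_right _

end Cfsg.Agent.S2220
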