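import Cfsg.Statements.S2222
import Cfsg.Agent.AltSylow.Basic

set_option autoImplicit false
open Cfsg

namespace Cfsg.Agent.S2222

open Equiv in
/-- For `n ≥ 6` a Sylow 2-subgroup of `A_n` is self-normalizing. -/
theorem normalizer_le {n : ℕ} (hn : 6 ≤ n) (S : Sylow 2 (alternatingGroup (Fin n))) :
    Subgroup.normalizer ((S : Subgroup (alternatingGroup (Fin n))) : Set _) ≤
      (S : Subgroup (alternatingGroup (Fin n))) := by
  obtain ⟨P, hP⟩ := Sylow.exists_comap_subtype_eq S
  have h := CfsgLib.AltSylow.normalizer_sylow_inf_alternating (by rwa [Fintype.card_fin]) P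
  intro g hg
  rw [← hP, Subgroup.mem_comap]
  apply h
  have hmap : (S : Subgroup (alternatingGroup (Fin n))).map (alternatingGroup (Fin n)).subtype =
      (P : Subgroup (Perm (Fin n))) ⊓ alternatingGroup (Fin n) := by
    rw [← hP, Subgroup.map_comap_eq, Subgroup.range_subtype, inf_comm]
  rw [← hmap]
  exact Subgroup.le_normalizer_map _ ⟨g, hg, rfl⟩

/-- In the alternating group of degree n ≥ 5 every subgroup H of odd index is pronormal: for every element g, the subgroups H and gHg⁻¹ are conjugate by an element of the subgroup they generate. -/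
theorem result (n : ℕ) (hn : 5 ≤ n)
    (H : Subgroup (alternatingGroup (Fin n))) (hH : Odd H.index) : Cfsg.IsPronormal H := by
  obtain ⟨S, hS⟩ : ∃ S : Sylow 2 (alternatingGroup (Fin n)),
      (S : Subgroup (alternatingGroup (Fin n))) ≤ H := by
    obtain ⟨S₀⟩ : Nonempty (Sylow 2 ↥H) := inferInstance
    obtain ⟨S, hS'⟩ := IsPGroup.exists_le_sylow (S₀.isPGroup'.map H.subtype)
    refine ⟨S, ?_⟩
    have e : (S₀ : Subgroup ↥H).map H.subtype = (S : Subgroup _) := by
      refine Subgroup.eq_of_le_of_card_ge hS' ?_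
      rw [Nat.card_congr ((S₀ : Subgroup ↥H).equivMapOfInjective H.subtype
        Subtype.val_injective).toEquiv.symm, S.card_eq_multiplicity, S₀.card_eq_multiplicity,
        ← H.card_mul_index, Nat.factorization_mul (Nat.card_pos).ne' H.index_ne_zero_of_finite,
        Finsupp.add_apply, Nat.factorization_eq_zero_of_not_dvd (p := 2)
          (fun h => Nat.not_even_iff_odd.2 hH (even_iff_two_dvd.2 h)), add_zero]
    rw [← e]
    exact Subgroup.map_subtype_le _
  intro g
  set H' := H.map (MulAut.conj g).toMonoidHom with hH'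
  have hgS : ↑(g • S) ≤ H' := by
    rw [Sylow.coe_subgroup_smul]
    exact Subgroup.map_mono hS
  have hL : (S : Subgroup _) ≤ H ⊔ H' := hS.trans le_sup_left
  rcases Nat.lt_or_ge n 6 with h6 | h6
  · -- degree five: Sylow subgroups, or subgroups of index at most five
    obtain rfl : n = 5 := by omega
    have hcard : Nat.card (alternatingGroup (Fin 5)) = 60 := by
      rw [nat_card_alternatingGroup]
      simp
      decide
    have hS4 : Nat.card (S : Subgroup (alternatingGroup (Fin 5))) = 4 := by
      rw [S.card_eq_multiplicity, hcard, show (60 : ℕ) = 2 ^ 2 * 15 from rfl,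
        Nat.factorization_mul (by norm_num) (by norm_num), Finsupp.add_apply,
        Nat.Prime.factorization_pow Nat.prime_two, Finsupp.single_eq_same,
        Nat.factorization_eq_zero_of_not_dvd (p := 2) (by norm_num : ¬ 2 ∣ 15)]
      norm_num
    by_cases hH4 : Nat.card H = 4
    · have hSH : (S : Subgroup _) = H := Subgroup.eq_of_le_of_card_ge hS (by omega)
      obtain ⟨x, hx⟩ := MulAction.exists_smul_eq ↥(H ⊔ H') (S.subtype hL)
        ((g • S).subtype (hgS.trans le_sup_right))
      rw [Sylow.smul_subtype] at hx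
      have hx' := congrArg Sylow.toSubgroup (Sylow.subtype_injective hx)
      rw [Sylow.coe_subgroup_smul, Subgroup.smul_def, Sylow.coe_subgroup_smul, hSH] at hx'
      exact ⟨x, x.2, hx'.symm⟩
    · have hd := (H ⊔ H').card_subgroup_dvd_card
      have hd1 := H.card_subgroup_dvd_card
      have hd2 : 4 ∣ Nat.card H := hS4 ▸ Subgroup.card_dvd_of_le hS
      have hd3 : Nat.card H ∣ Nat.card ↥(H ⊔ H') := Subgroup.card_dvd_of_le le_sup_left
      rw [hcard] at hd hd1
      have hor : Nat.card ↥(H ⊔ H') = Nat.card H ∨ Nat.card ↥(H ⊔ H') = 60 := by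
        have : Nat.card H ≤ 60 := Nat.le_of_dvd (by norm_num) hd1
        obtain ⟨a, ha⟩ := hd3
        obtain ⟨b, hb⟩ := hd2
        have hdiv : (4 * b * a) ∣ 60 := by rw [← hb, ← ha]; exact hd
        have hb' : b ∈ Nat.divisors 15 := Nat.mem_divisors.2 ⟨Nat.dvd_of_mul_dvd_mul_left (k := 4) (by norm_num : 0 < 4) (show 4 * b ∣ 4 * 15 from hb ▸ hd1), by norm_num⟩
        have ha' : a ∈ Nat.divisors 15 := Nat.mem_divisors.2 ⟨by
          have h4 : 4 * (b * a) ∣ 4 * 15 := by rw [← Nat.mul_assoc]; exact hdiv
          exact (dvd_mul_left a b).trans (Nat.dvd_of_mul_dvd_mul_left (by norm_num) h4),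
          by norm_num⟩
        rw [show Nat.divisors 15 = {1, 3, 5, 15} from rfl] at ha' hb'
        simp only [Finset.mem_insert, Finset.mem_singleton] at ha' hb'
        rcases ha' with rfl | rfl | rfl | rfl <;> rcases hb' with rfl | rfl | rfl | rfl <;> omega
      rcases hor with h | h
      · have e : H ⊔ H' = H := (Subgroup.eq_of_le_of_card_ge le_sup_left h.le).symm
        refine ⟨1, one_mem _, ?_⟩
        have hle : H' ≤ H := le_sup_right.trans_eq e
        have hc : Nat.card H' = Nat.card H :=
          (Nat.card_congr (H.equivMapOfInjective (MulAut.conj g).toMonoidHom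
            (MulAut.conj g).injective).toEquiv).symm
        rw [Subgroup.eq_of_le_of_card_ge hle hc.ge]
        ext y
        simp [Subgroup.mem_map]
      · exact ⟨g, by rw [Subgroup.eq_top_of_card_eq _ (h.trans hcard.symm)]; trivial, rfl⟩
  · obtain ⟨x, hx⟩ := MulAction.exists_smul_eq ↥(H ⊔ H')
      ((g • S).subtype (hgS.trans le_sup_right)) (S.subtype hL)
    simp_rw [Sylow.smul_subtype, Subgroup.smul_def, smul_smul] at hx
    have hxg : (x : alternatingGroup (Fin n)) * g ∈ H :=
      hS (normalizer_le h6 S (Sylow.smul_eq_iff_mem_normalizer.1 (Sylow.subtype_injective hx)))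
    refine ⟨(x : alternatingGroup (Fin n))⁻¹, inv_mem x.2, ?_⟩
    ext y
    simp only [hH', Subgroup.mem_map, MulEquiv.coe_toMonoidHom, MulAut.conj_apply]
    constructor
    · rintro ⟨a, ha, rfl⟩
      exact ⟨(x * g) * a * (x * g)⁻¹, mul_mem (mul_mem hxg ha) (inv_mem hxg), by group⟩
    · rintro ⟨a, ha, rfl⟩
      exact ⟨(x * g)⁻¹ * a * (x * g), mul_mem (mul_mem (inv_mem hxg) ha) hxg, by group⟩

end Cfsg.Agent.S2222
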