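import Cfsg.Statements.S2225
import Cfsg.Agent.PronormalPSL.Descent


set_option autoImplicit false
open Cfsg

namespace Cfsg.Agent.S2225

/-- Let F be a finite field and d = 2^w ≥ 2 a power of 2 such that PSL_d(F) is simple. Then every subgroup H of PSL_d(F) of odd index is pronormal: for every g, H and gHg⁻¹ are conjugate by an element of the subgroup they generate. -/
theorem result {F : Type*} [Field F] [Fintype F]
    (w : ℕ) (hw : 1 ≤ w) (hs : IsSimpleGroup (Matrix.ProjectiveSpecialLinearGroup (Fin (2 ^ w)) F))
    (H : Subgroup (Matrix.ProjectiveSpecialLinearGroup (Fin (2 ^ w)) F)) (hH : Odd H.index) : Cfsg.IsPronormal H := by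
  by_cases h2 : ringChar F = 2
  · haveI := ringChar.of_eq h2
    exact CfsgLib.PronormalPSL.pronormal_even_char H hH
  · have hodd : Odd (Fintype.card F) := Nat.odd_iff.2 (FiniteField.odd_card_of_char_ne_two h2)
    obtain ⟨v, rfl⟩ := Nat.exists_eq_succ_of_ne_zero (show w ≠ 0 by omega)
    rcases v with _ | v
    · exact CfsgLib.PronormalPSL.Two.pronormal hodd H hH
    · exact CfsgLib.PronormalPSL.pronormal_odd_char hodd (Nat.succ_pos v) H hH

end Cfsg.Agent.S2225
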