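import Cfsg.Statements.S2226
import Cfsg.Agent.PronormalPSU.Tower
import Cfsg.Agent.PronormalPSU.EvenChar
-- import your own Cfsg.Agent.* helpers here

set_option autoImplicit false
open Cfsg

namespace Cfsg.Agent.S2226

/-- Let F be a finite field with q² elements and d = 2^w ≥ 4 a power of 2 such that the unitary group PSU_d(q) (realised over F) is simple. Then every subgroup H of PSU_d(q) of odd index is pronormal: for every g, H and gHg⁻¹ are conjugate by an element of the subgroup they generate. -/
theorem result {F : Type*} [Field F] [Fintype F] (q : ℕ)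
    (hF : Fintype.card F = q ^ 2) (w : ℕ) (hw : 2 ≤ w) (hs : IsSimpleGroup (Cfsg.PSU (2 ^ w) F q))
    (H : Subgroup (Cfsg.PSU (2 ^ w) F q)) (hH : Odd H.index) : Cfsg.IsPronormal H := by
  by_cases h2 : ringChar F = 2
  · haveI := ringChar.of_eq h2
    exact CfsgLib.PronormalPSU.EvenChar.pronormal_PSU hF (by omega) H hH
  · have hodd : q % 2 = 1 := by
      have h := FiniteField.odd_card_of_char_ne_two h2
      rw [hF, Nat.pow_mod] at h
      rcases Nat.mod_two_eq_zero_or_one q with e | e
      · simp [e] at h
      · exact e
    obtain ⟨v, rfl⟩ := Nat.exists_eq_succ_of_ne_zero (show w ≠ 0 by omega)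
    exact CfsgLib.PronormalPSU.Tower.pronormal_PSU hF hodd (by omega) H hH

end Cfsg.Agent.S2226
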