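import Cfsg.Statements.S2231
import Cfsg.Agent.QdFree.Basic

set_option autoImplicit false
open Cfsg

namespace Cfsg.Agent.S2231

open Matrix in
/-- The `p`-subgroups of `PSL₂` in characteristic `p` are abelian. -/
theorem pGroup_commutative {p : ℕ} [Fact p.Prime] {K : Type*} [Field K] [Fintype K] [CharP K p]
    (Q : Subgroup (Matrix.ProjectiveSpecialLinearGroup (Fin 2) K)) (hQ : IsPGroup p Q) :
    ∀ a ∈ Q, ∀ b ∈ Q, a * b = b * a := by
  obtain ⟨P, hP, hPQ⟩ := CfsgLib.QdFree.exists_pGroup_map_eq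
    (QuotientGroup.mk' (Subgroup.center (Matrix.SpecialLinearGroup (Fin 2) K)))
    (QuotientGroup.mk'_surjective _) Q hQ
  rw [← hPQ]
  rintro _ ⟨a, ha, rfl⟩ _ ⟨b, hb, rfl⟩
  rw [← map_mul, ← map_mul]
  congr 1
  let : MulAction ↥P (Fin 2 → K) :=
    { smul := fun g v => g.1.1 *ᵥ v
      one_smul := fun v => Matrix.one_mulVec v
      mul_smul := fun g h v => (Matrix.mulVec_mulVec v g.1.1 h.1.1).symm }
  obtain ⟨v, hv, hv0⟩ := hP.exists_fixed_point_of_prime_dvd_card_of_fixed_point (Fin 2 → K)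
    (by
      rw [Nat.card_fun, Nat.card_fin, Nat.card_eq_fintype_card]
      obtain ⟨n, _, hn⟩ := FiniteField.card K p
      rw [hn, ← pow_mul]
      exact dvd_pow_self p (by positivity))
    (a := 0) (fun g => Matrix.mulVec_zero g.1.1)
  have fx : ∀ g ∈ P, g.1 0 0 * v 0 + g.1 0 1 * v 1 = v 0 ∧
      g.1 1 0 * v 0 + g.1 1 1 * v 1 = v 1 := by
    intro g hg
    have h : g.1 *ᵥ v = v := hv ⟨g, hg⟩
    have h0 := congrFun h 0
    have h1 := congrFun h 1
    simp only [Matrix.mulVec, dotProduct, Fin.sum_univ_two] at h0 h1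
    exact ⟨h0, h1⟩
  obtain ⟨a0, a1⟩ := fx a ha
  obtain ⟨b0, b1⟩ := fx b hb
  have da := a.2
  have db := b.2
  rw [Matrix.det_fin_two] at da db
  apply Subtype.ext
  simp only [Matrix.SpecialLinearGroup.coe_mul]
  have hA : ∀ g : Matrix (Fin 2) (Fin 2) K, g 0 0 * g 1 1 - g 0 1 * g 1 0 = 1 →
      g 0 0 * v 0 + g 0 1 * v 1 = v 0 → g 1 0 * v 0 + g 1 1 * v 1 = v 1 →
      (g 0 0 + g 1 1) = 2 := by
    intro g d e f
    rcases eq_or_ne (v 0) 0 with h | h
    · have h1 : v 1 ≠ 0 := fun h1 => hv0 (by ext i; fin_cases i <;> simp [h, h1])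
      simp only [h, mul_zero, zero_add] at e f
      have e' : g 0 1 = 0 := (mul_eq_zero.1 e).resolve_right h1
      have f' : g 1 1 = 1 := mul_right_cancel₀ h1 (by rw [f, one_mul])
      rw [e', f'] at d
      linear_combination d + f'
    · have : (g 0 0 + g 1 1 - 2) * v 0 = 0 := by
        linear_combination -(g 1 1 - 1) * e + g 0 1 * f + v 0 * d
      exact sub_eq_zero.1 ((mul_eq_zero.1 this).resolve_right h)
  have ta := hA a.1 da a0 a1
  have tb := hA b.1 db b0 b1
  rcases eq_or_ne (v 0) 0 with h | h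
  · have h1 : v 1 ≠ 0 := fun h1 => hv0 (by ext i; fin_cases i <;> simp [h, h1])
    simp only [h, mul_zero, zero_add] at a0 a1 b0 b1
    have ea : a.1 0 1 = 0 := (mul_eq_zero.1 a0).resolve_right h1
    have eb : b.1 0 1 = 0 := (mul_eq_zero.1 b0).resolve_right h1
    have fa : a.1 1 1 = 1 := mul_right_cancel₀ h1 (by rw [a1, one_mul])
    have fb : b.1 1 1 = 1 := mul_right_cancel₀ h1 (by rw [b1, one_mul])
    have ga : a.1 0 0 = 1 := by linear_combination ta - fa
    have gb : b.1 0 0 = 1 := by linear_combination tb - fb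
    ext i j
    fin_cases i <;> fin_cases j <;>
      simp [Matrix.mul_apply, Fin.sum_univ_two, ea, eb, fa, fb, ga, gb, add_comm]
  · obtain ⟨r, hr⟩ : ∃ r, r * v 0 = v 1 := ⟨v 1 / v 0, div_mul_cancel₀ _ h⟩
    have ga : a.1 0 0 = 1 - a.1 0 1 * r := mul_right_cancel₀ h (by
      linear_combination a0 + a.1 0 1 * hr)
    have gb : b.1 0 0 = 1 - b.1 0 1 * r := mul_right_cancel₀ h (by
      linear_combination b0 + b.1 0 1 * hr)
    have fa : a.1 1 1 = 1 + a.1 0 1 * r := by linear_combination ta - ga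
    have fb : b.1 1 1 = 1 + b.1 0 1 * r := by linear_combination tb - gb
    have ca : a.1 1 0 = -(a.1 0 1 * r * r) := mul_right_cancel₀ h (by
      linear_combination a1 - v 1 * fa + a.1 0 1 * r * hr)
    have cb : b.1 1 0 = -(b.1 0 1 * r * r) := mul_right_cancel₀ h (by
      linear_combination b1 - v 1 * fb + b.1 0 1 * r * hr)
    ext i j
    fin_cases i <;> fin_cases j <;>
      simp [Matrix.mul_apply, Fin.sum_univ_two, ga, gb, fa, fb, ca, cb] <;> ring

/-- Let p be an odd prime and K a finite field of characteristic p. Then Qd(p) (the natural semidirect product of an elementary abelian group of order p² by SL₂(p)) is not involved in the projective special linear group PSL₂(K). -/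
theorem result {p : ℕ} [Fact p.Prime] (hp : p ≠ 2) {K : Type*} [Field K] [Fintype K] [CharP K p] : ¬ Cfsg.Involves ↥(Cfsg.qd p) (Matrix.ProjectiveSpecialLinearGroup (Fin 2) K) :=
  CfsgLib.QdFree.not_involves_of_abelian hp pGroup_commutative

end Cfsg.Agent.S2231
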