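import Cfsg.Statements.S2232
import Cfsg.Agent.QdFree.Basic

set_option autoImplicit false
open scoped commutatorElement
open Cfsg

namespace Cfsg.Agent.S2232

open Matrix in
/-- In `SU₃(q)` the normalizer of a nontrivial `p`-subgroup has a `p`-group as commutator subgroup. -/
theorem locals {p : ℕ} [Fact p.Prime] {K : Type*} [Field K] [Fintype K] [CharP K p] (n : ℕ)
    (hK : Fintype.card K = (p ^ n) ^ 2) (Q N : Subgroup ↥(Cfsg.SU 3 K (p ^ n)))
    (hQ : IsPGroup p Q) (hne : Q ≠ ⊥) (hN : N ≤ Subgroup.normalizer (Q : Set _)) :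
    IsPGroup p ↥⁅N, N⁆ := by
  classical
  set h : (Fin 3 → K) → (Fin 3 → K) → K := Cfsg.hermForm 3 K (p ^ n) with hh
  let M : ↥(Cfsg.SU 3 K (p ^ n)) →* Matrix (Fin 3) (Fin 3) K :=
    (Cfsg.slToMat 3 K).comp (Subgroup.subtype _)
  have hinv : ∀ g u v, h (M g *ᵥ u) (M g *ᵥ v) = h u v := fun g u v => g.2 u v
  have hMdet : ∀ g, (M g).det = 1 := fun g => g.1.2
  have hMinj : ∀ g g', M g = M g' → g = g' := fun g g' e => Subtype.ext (Subtype.ext e)
  have hmv : ∀ a b v, M (a * b) *ᵥ v = M a *ᵥ (M b *ᵥ v) := fun a b v => by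
    rw [map_mul, Matrix.mulVec_mulVec]
  have hcan : ∀ a v, M a *ᵥ (M a⁻¹ *ᵥ v) = v := fun a v => by
    rw [← hmv, mul_inv_cancel, map_one, Matrix.one_mulVec]
  have hzero : ∀ u, h u 0 = 0 := fun u => by
    simp [hh, Cfsg.hermForm, zero_pow (pow_ne_zero n (Fact.out : p.Prime).ne_zero)]
  have hsymm : ∀ u v, (h u v) ^ (p ^ n) = h v u := fun u v => by
    simp only [hh, Cfsg.hermForm, sum_pow_char_pow, mul_pow]
    refine Finset.sum_congr rfl fun i _ => ?_
    rw [← pow_mul, ← pow_two (p ^ n), ← hK, FiniteField.pow_card, mul_comm]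
  have hlin : ∀ (w : Fin 3 → K), ∃ L : (Fin 3 → K) →ₗ[K] K, ∀ u, L u = h u w := fun w =>
    ⟨Fintype.linearCombination K (fun i => w i ^ (p ^ n)), fun u => by
      simp [Fintype.linearCombination_apply, hh, Cfsg.hermForm, smul_eq_mul]⟩
  have hnd : ∀ w, w ≠ 0 → ∃ u, h u w ≠ 0 := by
    intro w hw
    obtain ⟨i, hi⟩ := Function.ne_iff.1 hw
    refine ⟨Pi.single i 1, ?_⟩
    simpa [hh, Cfsg.hermForm, Pi.single_apply, (Fact.out : p.Prime).ne_zero] using hi
  let W : Submodule K (Fin 3 → K) :=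
    ⨅ g : ↥Q, LinearMap.ker (Matrix.mulVecLin (M g.1) - LinearMap.id)
  have memW : ∀ v, v ∈ W ↔ ∀ g ∈ Q, M g *ᵥ v = v := fun v => by
    simp [W, sub_eq_zero]
  -- a fixed nonzero vector in every nonzero invariant subspace
  have fixS : ∀ S : Submodule K (Fin 3 → K), S ≠ ⊥ → (∀ g ∈ Q, ∀ v ∈ S, M g *ᵥ v ∈ S) →
      ∃ v ∈ S, v ≠ 0 ∧ v ∈ W := by
    intro S hS hSinv
    let : MulAction ↥Q ↥S :=
      { smul := fun g v => ⟨M g.1 *ᵥ v.1, hSinv g.1 g.2 v.1 v.2⟩
        one_smul := fun v => Subtype.ext (by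
          show M 1 *ᵥ v.1 = v.1
          rw [map_one, Matrix.one_mulVec])
        mul_smul := fun g g' v => Subtype.ext (hmv g.1 g'.1 v.1) }
    have : Nontrivial ↥S := Submodule.nontrivial_iff_ne_bot.2 hS
    obtain ⟨v, hv, hv0⟩ := hQ.exists_fixed_point_of_prime_dvd_card_of_fixed_point ↥S
      (by
        obtain ⟨e, _, he⟩ := FiniteField.card K p
        rw [Module.natCard_eq_pow_finrank (K := K), Nat.card_eq_fintype_card, he, ← pow_mul]
        exact dvd_pow_self p (Nat.mul_ne_zero e.ne_zero Module.finrank_pos.ne'))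
      (a := (0 : ↥S)) (fun g => Subtype.ext (show M g.1 *ᵥ 0 = 0 from Matrix.mulVec_zero _))
    refine ⟨v.1, v.2, fun e => hv0 (Subtype.ext e.symm), (memW _).2 fun g hg => ?_⟩
    exact congrArg Subtype.val (hv ⟨g, hg⟩)
  -- `W` is proper
  have hWtop : W ≠ ⊤ := by
    intro e
    apply hne
    rw [eq_bot_iff]
    intro g hg
    refine Subgroup.mem_bot.2 (hMinj _ _ (Matrix.ext_of_mulVec_single fun i => ?_))
    rw [map_one, Matrix.one_mulVec]
    exact (memW _).1 (e ▸ Submodule.mem_top) g hg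
  choose L hL using hlin
  let Wp : Submodule K (Fin 3 → K) := ⨅ w : ↥W, LinearMap.ker (L w.1)
  have memWp : ∀ v, v ∈ Wp ↔ ∀ w ∈ W, h v w = 0 := fun v => by simp [Wp, hL]
  have hWp : Wp ≠ ⊥ := by
    intro e
    obtain ⟨φ, hφ, hker⟩ := Submodule.exists_le_ker_of_lt_top W (lt_top_iff_ne_top.2 hWtop)
    have hq2 : ∀ x : K, (x ^ (p ^ n)) ^ (p ^ n) = x := fun x => by
      rw [← pow_mul, ← pow_two, ← hK, FiniteField.pow_card]
    have hv : (fun i => (φ (Pi.single i 1)) ^ (p ^ n)) ∈ Wp := (memWp _).2 fun w hw => by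
      rw [← hsymm]
      have : h w (fun i => (φ (Pi.single i 1)) ^ (p ^ n)) = φ w := by
        simp only [hh, Cfsg.hermForm, hq2]
        conv_rhs => rw [← Finset.univ_sum_single w, map_sum]
        refine Finset.sum_congr rfl fun i _ => ?_
        rw [← smul_eq_mul, ← map_smul, ← Pi.single_smul, smul_eq_mul, mul_one]
      rw [this, LinearMap.mem_ker.1 (hker hw), zero_pow (pow_ne_zero n (Fact.out : p.Prime).ne_zero)]
    rw [e, Submodule.mem_bot] at hv
    apply hφ
    apply (Pi.basisFun K (Fin 3)).ext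
    intro i
    rw [Pi.basisFun_apply, LinearMap.zero_apply]
    exact (pow_eq_zero_iff (pow_ne_zero n (Fact.out : p.Prime).ne_zero)).1 (congrFun hv i)
  obtain ⟨w, hwp, hw0, hwW⟩ := fixS Wp hWp (fun g hg v hv => (memWp _).2 fun u hu => by
    have := (memWp v).1 hv u hu
    rwa [← hinv g v u, (memW u).1 hu g hg] at this)
  have hww : h w w = 0 := (memWp w).1 hwp w hwW
  -- everything in `W ⊓ Wp` is a multiple of `w`
  obtain ⟨z, hz⟩ := hnd w hw0
  have hU : Module.finrank K ↥(LinearMap.ker (L w)) = 2 := by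
    have h1 := LinearMap.finrank_range_add_finrank_ker (L w)
    have h2 : LinearMap.range (L w) = ⊤ := by
      refine LinearMap.range_eq_top.2 fun c => ⟨(c / h z w) • z, ?_⟩
      rw [map_smul, hL, smul_eq_mul, div_mul_cancel₀ _ hz]
    rw [h2, finrank_top, Module.finrank_self, Module.finrank_fin_fun] at h1
    omega
  obtain ⟨x, hxU, hxw⟩ : ∃ x, h x w = 0 ∧ x ∉ K ∙ w := by
    by_contra hc
    push Not at hc
    have h3 := Submodule.finrank_mono (R := K) (show LinearMap.ker (L w) ≤ K ∙ w from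
      fun x hx => hc x (by rwa [LinearMap.mem_ker, hL] at hx))
    rw [hU, finrank_span_singleton hw0] at h3
    omega
  have hline : ∀ u ∈ W, u ∈ Wp → u ∈ K ∙ w := by
    intro u hu hup
    by_contra hnot
    -- `w` and `u` span a totally isotropic plane, impossible in dimension three
    have huw : h u w = 0 := (memWp u).1 hup w hwW
    have hwu : h w u = 0 := (memWp w).1 hwp u hu
    have huu : h u u = 0 := (memWp u).1 hup u hu
    have hli : LinearIndependent K ![w, u] :=
      (LinearIndependent.pair_iff' hw0).2 fun a ha => hnot (Submodule.mem_span_singleton.2 ⟨a, ha⟩)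
    have hspan : Submodule.span K (Set.range ![w, u]) = LinearMap.ker (L w) := by
      refine Submodule.eq_of_le_of_finrank_eq (Submodule.span_le.2 ?_) ?_
      · rintro _ ⟨i, rfl⟩
        fin_cases i <;> simp [hL, huw, hww]
      · rw [finrank_span_eq_card hli, hU, Fintype.card_fin]
    have hspan' : Submodule.span K (Set.range ![w, u]) ≤ LinearMap.ker (L u) := by
      refine Submodule.span_le.2 ?_
      rintro _ ⟨i, rfl⟩
      fin_cases i <;> simp [hL, hwu, huu]
    rw [hspan] at hspan'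
    obtain ⟨c, hc⟩ : ∃ c : K, L u = c • L w := by
      refine ⟨h z u / h z w, ?_⟩
      apply LinearMap.ext
      intro v
      have : v - (h v w / h z w) • z ∈ LinearMap.ker (L w) := by
        rw [LinearMap.mem_ker, map_sub, map_smul, hL, hL, smul_eq_mul, div_mul_cancel₀ _ hz,
          sub_self]
      have h4 := LinearMap.mem_ker.1 (hspan' this)
      rw [map_sub, map_smul, hL, hL, smul_eq_mul, sub_eq_zero] at h4
      rw [LinearMap.smul_apply, hL, hL, smul_eq_mul, h4]
      ring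
    apply hnot
    rw [Submodule.mem_span_singleton]
    refine ⟨c ^ (p ^ n), funext fun i => ?_⟩
    have h5 : L u (Pi.single i 1) = c * L w (Pi.single i 1) := by rw [hc]; rfl
    rw [hL, hL] at h5
    simp only [hh, Cfsg.hermForm, Pi.single_apply, ite_mul, one_mul, zero_mul, Finset.sum_ite_eq',
      Finset.mem_univ, if_true] at h5
    have h6 := congrArg (· ^ (p ^ n)) h5
    simp only [mul_pow, ← pow_mul, ← pow_two, ← hK, FiniteField.pow_card] at h6
    rw [Pi.smul_apply, smul_eq_mul]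
    exact h6.symm
  have hNW : ∀ g ∈ N, ∀ v ∈ W, M g *ᵥ v ∈ W := by
    intro g hg v hv
    refine (memW _).2 fun k hk => ?_
    have hk' : g⁻¹ * k * g ∈ Q := ((Subgroup.mem_normalizer_iff''.1 (hN hg)) k).1 hk
    have := (memW v).1 hv _ hk'
    calc M k *ᵥ (M g *ᵥ v) = M (g * (g⁻¹ * k * g)) *ᵥ v := by rw [← hmv]; congr 2; group
      _ = M g *ᵥ v := by rw [hmv, this]
  have hNw : ∀ g ∈ N, ∃ c : K, c • w = M g *ᵥ w := by
    intro g hg
    refine Submodule.mem_span_singleton.1 (hline _ (hNW g hg w hwW) ((memWp _).2 fun u hu => ?_))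
    have h1 := hinv g w (M g⁻¹ *ᵥ u)
    rw [hcan g u] at h1
    rw [h1]
    exact (memWp w).1 hwp _ (hNW g⁻¹ (inv_mem hg) u hu)
  let S : Subgroup ↥(Cfsg.SU 3 K (p ^ n)) :=
    { carrier := {g | M g *ᵥ w = w}
      one_mem' := by
        show M 1 *ᵥ w = w
        rw [map_one, Matrix.one_mulVec]
      mul_mem' := fun {a b} (ha : M a *ᵥ w = w) (hb : M b *ᵥ w = w) => by
        show M (a * b) *ᵥ w = w
        rw [hmv, hb, ha]
      inv_mem' := fun {a} (ha : M a *ᵥ w = w) => by
        show M a⁻¹ *ᵥ w = w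
        conv_lhs => rw [← ha, ← hmv, inv_mul_cancel, map_one, Matrix.one_mulVec] }
  have hcomm : ⁅N, N⁆ ≤ S := by
    rw [Subgroup.commutator_le]
    intro a ha b hb
    obtain ⟨ca, hca⟩ := hNw a ha
    obtain ⟨cb, hcb⟩ := hNw b hb
    show M ⁅a, b⁆ *ᵥ w = w
    have e : M (a * b) *ᵥ w = M (b * a) *ᵥ w := by
      rw [hmv, hmv, ← hcb, ← hca, Matrix.mulVec_smul, Matrix.mulVec_smul, ← hca, ← hcb, smul_smul,
        smul_smul, mul_comm]
    rw [commutatorElement_def, show a * b * a⁻¹ * b⁻¹ = (a * b) * (b * a)⁻¹ by group]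
    have e2 := congrArg (fun v => M ((a * b) * (b * a)⁻¹) *ᵥ v) e
    rw [← hmv (a * b * (b * a)⁻¹) (b * a), inv_mul_cancel_right] at e2
    -- now `e2 : M (x (a b)) w = M (a b) w`
    have hab : ∃ c : K, c • w = M (a * b) *ᵥ w := hNw _ (mul_mem ha hb)
    obtain ⟨c, hc⟩ := hab
    have hc0 : c ≠ 0 := by
      rintro rfl
      rw [zero_smul] at hc
      have := congrArg (fun v => M (a * b)⁻¹ *ᵥ v) hc.symm
      simp only [← hmv, inv_mul_cancel, map_one, Matrix.one_mulVec, Matrix.mulVec_zero] at this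
      exact hw0 this
    rw [← hc, Matrix.mulVec_smul] at e2
    exact smul_right_injective _ hc0 e2
  -- every element of `S` fixes a flag
  rintro ⟨g, hg⟩
  have hgw : M g *ᵥ w = w := hcomm hg
  set P : Matrix (Fin 3) (Fin 3) K := Matrix.of fun i j => ![w i, x i, z i] j with hPdef
  have hPcol : ∀ v, P *ᵥ v = v 0 • w + v 1 • x + v 2 • z := fun v => by
    ext i
    simp [hPdef, Matrix.mulVec, dotProduct, Fin.sum_univ_three, mul_comm]
  have hLP : ∀ v, h (P *ᵥ v) w = v 2 * h z w := fun v => by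
    rw [← hL, hPcol, map_add, map_add, map_smul, map_smul, map_smul, hL, hL, hL, hww, hxU]
    simp
  have hPu : IsUnit P := Matrix.mulVec_injective_iff_isUnit.1 fun v v' e => by
    have hd : P *ᵥ (v - v') = 0 := by rw [Matrix.mulVec_sub, e, sub_self]
    have d2 : (v - v') 2 = 0 := by
      have := hLP (v - v')
      rw [hd, ← hL, map_zero] at this
      exact (mul_eq_zero.1 this.symm).resolve_right hz
    rw [hPcol, d2, zero_smul, add_zero] at hd
    have d1 : (v - v') 1 = 0 := by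
      by_contra d1
      refine hxw (Submodule.mem_span_singleton.2 ⟨-((v - v') 1)⁻¹ * (v - v') 0, ?_⟩)
      rw [mul_smul, eq_neg_of_add_eq_zero_left hd, neg_smul, smul_neg, neg_neg, smul_smul,
        inv_mul_cancel₀ d1, one_smul]
    rw [d1, zero_smul, add_zero] at hd
    have d0 : (v - v') 0 = 0 := (smul_eq_zero.1 hd).resolve_right hw0
    ext i
    fin_cases i <;> rw [← sub_eq_zero] <;> assumption
  have hPdet : IsUnit P.det := (Matrix.isUnit_iff_isUnit_det P).1 hPu
  set T := P⁻¹ * M g * P with hT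
  have hPT : P * T = M g * P := by
    rw [hT, ← Matrix.mul_assoc, ← Matrix.mul_assoc, Matrix.mul_nonsing_inv P hPdet, Matrix.one_mul]
  have hrow : ∀ j, T 2 j = (Pi.single j 1 : Fin 3 → K) 2 := by
    intro j
    have h1 := hLP (T *ᵥ Pi.single j 1)
    rw [Matrix.mulVec_mulVec, hPT, ← Matrix.mulVec_mulVec,
      ← hgw, hinv g, hgw, hLP, Matrix.mulVec_single_one] at h1
    exact (mul_right_cancel₀ hz h1).symm
  have hcol : ∀ i, T i 0 = (Pi.single 0 1 : Fin 3 → K) i := by
    intro i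
    have h1 : P *ᵥ (T *ᵥ Pi.single 0 1) = P *ᵥ Pi.single 0 1 := by
      rw [Matrix.mulVec_mulVec, hPT, ← Matrix.mulVec_mulVec]
      have : P *ᵥ Pi.single 0 1 = w := by rw [hPcol]; simp
      rw [this, hgw]
    have := congrFun (Matrix.mulVec_injective_iff_isUnit.2 hPu h1) i
    rwa [Matrix.mulVec_single_one] at this
  have hTdet : T.det = 1 := by
    rw [hT, Matrix.det_conj' hPu, hMdet]
  have t00 := hcol 0
  have t10 := hcol 1
  have t20 := hcol 2
  have t21 := hrow 1
  have t22 := hrow 2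
  simp [Pi.single_apply] at t00 t10 t20 t21 t22
  have t11 : T 1 1 = 1 := by
    rw [Matrix.det_fin_three, t00, t10, t20, t21, t22] at hTdet
    simpa using hTdet
  have hcube : (T - 1) ^ 3 = 0 := by
    have hN' : T - 1 = !![0, T 0 1, T 0 2; 0, 0, T 1 2; 0, 0, 0] := by
      ext i j
      fin_cases i <;> fin_cases j <;> simp [t00, t10, t20, t21, t22, t11]
    rw [hN', pow_three]
    ext i j
    fin_cases i <;> fin_cases j <;> simp [Matrix.mul_apply, Fin.sum_univ_three]
  have hp2 : 3 ≤ p ^ 2 := by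
    have h2 := (Fact.out : p.Prime).two_le
    nlinarith
  have hTp : T ^ p ^ 2 = 1 := by
    have hd : T ^ p ^ 2 - 1 = (T - 1) ^ p ^ 2 := by
      rw [sub_pow_char_pow_of_commute p 2 (Commute.one_right T), one_pow]
    rwa [pow_eq_zero_of_le hp2 hcube, sub_eq_zero] at hd
  refine ⟨2, Subtype.ext (hMinj _ _ ?_)⟩
  rw [SubgroupClass.coe_pow, map_pow, OneMemClass.coe_one, map_one]
  have hconj : ∀ k : ℕ, (M g) ^ k * P = P * T ^ k := by
    intro k
    induction k with
    | zero => simp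
    | succ k ih => rw [pow_succ, Matrix.mul_assoc, ← hPT, ← Matrix.mul_assoc, ih, Matrix.mul_assoc,
        ← pow_succ]
  have h7 := hconj (p ^ 2)
  rw [hTp, Matrix.mul_one] at h7
  calc (M g) ^ p ^ 2 = (M g) ^ p ^ 2 * P * P⁻¹ := by
        rw [Matrix.mul_assoc, Matrix.mul_nonsing_inv P hPdet, Matrix.mul_one]
    _ = 1 := by rw [h7, Matrix.mul_nonsing_inv P hPdet]

/-- Let p be an odd prime, q a power of p and K a finite field with q² elements. Then Qd(p) (the natural semidirect product of an elementary abelian group of order p² by SL₂(p)) is not involved in the projective special unitary group PSU₃(q) realised over K. -/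
theorem result {p : ℕ} [Fact p.Prime] (hp : p ≠ 2) {K : Type*} [Field K] [Fintype K] [CharP K p] (n : ℕ) (hn : 1 ≤ n) (hK : Fintype.card K = (p ^ n) ^ 2) : ¬ Cfsg.Involves ↥(Cfsg.qd p) (Cfsg.PSU 3 K (p ^ n)) := by
  intro h
  obtain ⟨L, f, hf⟩ := CfsgLib.QdFree.exists_surjective_of_involves_quotient _ h
  exact CfsgLib.QdFree.not_surjective_of_locals hp (fun Q N => locals n hK Q N) L f hf

end Cfsg.Agent.S2232
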