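import Cfsg.Statements.S2239
import Cfsg.Agent.SuzukiSub.Classification

set_option autoImplicit false
open Cfsg

namespace Cfsg.Agent.S2239

open CfsgLib.Suzuki CfsgLib.SuzukiLocal CfsgLib.SuzukiSub

/-- Subfield subgroups of the Suzuki group: let q = 2^(2m+1) and s = 2^(2k+1) with m, k ≥ 1 and 2k+1 dividing 2m+1 (so q is a power of s), both groups realised as stabilisers in SL₄ of the Suzuki–Tits ovoid. Then Sz(q) has a subgroup isomorphic to Sz(s), and any two subgroups of Sz(q) isomorphic to Sz(s) are conjugate. -/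
theorem result {F : Type*} [Field F] [Fintype F] {m : ℕ} (hm : 1 ≤ m) (hF : Fintype.card F = 2 ^ (2 * m + 1)) {K : Type*} [Field K] [Fintype K] {k : ℕ} (hk : 1 ≤ k) (hK : Fintype.card K = 2 ^ (2 * k + 1)) (hdiv : 2 * k + 1 ∣ 2 * m + 1) :
    (∃ S : Subgroup ↥(Cfsg.Sz F m), Nonempty (↥S ≃* ↥(Cfsg.Sz K k))) ∧
    ∀ S₁ S₂ : Subgroup ↥(Cfsg.Sz F m), Nonempty (↥S₁ ≃* ↥(Cfsg.Sz K k)) → Nonempty (↥S₂ ≃* ↥(Cfsg.Sz K k)) →
      ∃ g : ↥(Cfsg.Sz F m), S₂ = S₁.map (MulAut.conj g).toMonoidHom := by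
  classical
  have hS : SzField F m := ⟨hm, hF⟩
  have hKS : SzField K k := ⟨hk, hK⟩
  obtain ⟨ι⟩ := exists_ringHom hS hKS hdiv
  obtain ⟨A, hA⟩ := exists_tori hS
  refine ⟨⟨_, ⟨(MonoidHom.ofInjective (szHom_injective hS hKS ι)).symm⟩⟩, ?_⟩
  have hns : ¬ Group.IsSolvable ↥(Cfsg.Sz K k) := by
    intro h
    have := sz_nontrivial hKS
    exact (Group.IsSolvable.commutator_lt_top_of_nontrivial (↥(Cfsg.Sz K k))).ne
      (commutator_sz_eq_top hKS)
  have key : ∀ S : Subgroup ↥(Cfsg.Sz F m), Nonempty (↥S ≃* ↥(Cfsg.Sz K k)) →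
      ∃ g : ↥(Cfsg.Sz F m), S.map (MulAut.conj g).toMonoidHom = fldSub hS (2 ^ (2 * k + 1)) := by
    rintro S ⟨φ⟩
    have hsol : ∀ T : Subgroup ↥(Cfsg.Sz F m), Group.IsSolvable ↥T → ¬ S ≤ T := by
      intro T hT hle
      exact hns (Group.isSolvable_of_isSolvable_injective
        (f := (Subgroup.inclusion hle).comp φ.symm.toMonoidHom)
        ((Subgroup.inclusion_injective hle).comp φ.symm.injective))
    rcases subgroup_cases hA S with ⟨p, hp⟩ | ⟨x, hx⟩ | ⟨j, g, hj, hdivj, e⟩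
    · exact absurd hp (hsol _ (isSolvable_stabilizer hS p))
    · exact absurd (hx.trans (stab_eq_normalizer hA x).le)
        (hsol _ ((hA.good x.1).map_conj x.2.out).isSolvable_normalizer)
    · refine ⟨g, ?_⟩
      have hc := card_fldSub (F := F) hS hj hdivj
      rw [← e, ← Nat.card_congr (S.equivMapOfInjective _ (MulAut.conj g).injective).toEquiv,
        Nat.card_congr φ.toEquiv, card_sz hKS, hK] at hc
      have hmono : StrictMono fun i : ℕ =>
          (2 ^ (2 * i + 1)) ^ 2 * ((2 ^ (2 * i + 1)) ^ 2 + 1) * (2 ^ (2 * i + 1) - 1) := by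
        intro i i' h
        have h1 : 2 ^ (2 * i + 1) < 2 ^ (2 * i' + 1) := Nat.pow_lt_pow_right (by norm_num) (by omega)
        have h2 := Nat.two_pow_pos (2 * i + 1)
        have h3 : 2 ≤ 2 ^ (2 * i + 1) := Nat.le_self_pow (by omega) 2
        exact Nat.mul_lt_mul_of_lt_of_lt (Nat.mul_lt_mul_of_lt_of_lt
          (Nat.pow_lt_pow_left h1 two_ne_zero)
          (Nat.add_lt_add_right (Nat.pow_lt_pow_left h1 two_ne_zero) 1)) (by omega)
      rw [e, hmono.injective hc]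
  intro S₁ S₂ h₁ h₂
  obtain ⟨g₁, e₁⟩ := key S₁ h₁
  obtain ⟨g₂, e₂⟩ := key S₂ h₂
  refine ⟨g₂⁻¹ * g₁, ?_⟩
  rw [← CfsgLib.SuzukiSub.map_conj_conj, e₁, ← e₂, CfsgLib.SuzukiSub.map_conj_conj, inv_mul_cancel]
  ext y
  rw [mem_map_conj, inv_one, one_mul, mul_one]

end Cfsg.Agent.S2239
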