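import Cfsg.Statements.S2240
import Cfsg.Agent.SuzukiLocal.Basic

set_option autoImplicit false
open Cfsg

namespace Cfsg.Agent.S2240

open CfsgLib.Suzuki CfsgLib.SuzukiLocal

variable {F : Type*} [Field F] [Fintype F] {m : ℕ}

/-- Scalings preserving `A`, when any scaling with overlapping image preserves it, form a field. -/
theorem dvd_of_scaling [CharP F 2] (hcard : Fintype.card F = 2 ^ (2 * m + 1)) {n : ℕ}
    (A : AddSubgroup F) (hA : Nat.card A = 2 ^ n) {a : F} (ha : a ∈ A) (ha0 : a ≠ 0)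
    (hTI : ∀ t : F, t ≠ 0 → (∃ x ∈ A, x ≠ 0 ∧ t * x ∈ A) → ∀ x ∈ A, t * x ∈ A) :
    n ∣ 2 * m + 1 := by
  classical
  let R : Subring F :=
    { carrier := {t | ∀ x ∈ A, t * x ∈ A}
      one_mem' := fun x hx => by rwa [one_mul]
      mul_mem' := fun {s t} hs ht x hx => by rw [mul_assoc]; exact hs _ (ht x hx)
      zero_mem' := fun x _ => by rw [zero_mul]; exact A.zero_mem
      add_mem' := fun {s t} hs ht x hx => by rw [add_mul]; exact A.add_mem (hs x hx) (ht x hx)
      neg_mem' := fun {s} hs x hx => by rw [neg_mul]; exact A.neg_mem (hs x hx) }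
  have hR : Nat.card R = 2 ^ n := by
    rw [← hA]
    refine Nat.card_congr (Equiv.ofBijective (fun t => (⟨t.1 * a, t.2 a ha⟩ : A)) ⟨?_, ?_⟩)
    · intro s t h
      exact Subtype.ext (mul_right_cancel₀ ha0 (congrArg Subtype.val h))
    · rintro ⟨b, hb⟩
      refine ⟨⟨b / a, fun x hx => ?_⟩, Subtype.ext (div_mul_cancel₀ b ha0)⟩
      rcases eq_or_ne b 0 with rfl | hb0
      · rw [zero_div, zero_mul]; exact A.zero_mem
      · exact hTI _ (div_ne_zero hb0 ha0) ⟨a, ha, ha0, by rwa [div_mul_cancel₀ b ha0]⟩ x hx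
  let : Fintype R := Fintype.ofFinite R
  let : Field R := (Finite.isField_of_domain R).toField
  have h := Module.natCard_eq_pow_finrank (K := R) (V := F)
  rw [hR, Nat.card_eq_fintype_card, hcard, ← pow_mul] at h
  exact ⟨_, Nat.pow_right_injective le_rfl h⟩

/-- Elementary abelian TI-subgroups of the Suzuki group: let q = 2^(2m+1) with m ≥ 1, the group realised as the stabiliser in SL₄ of the Suzuki–Tits ovoid, and n ≥ 2. There is an elementary abelian 2-subgroup E of order 2^n that is a TI-subgroup (every conjugate of E meeting E nontrivially is E itself) if and only if n divides 2m + 1. -/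
theorem result {F : Type*} [Field F] [Fintype F] {m : ℕ} (hm : 1 ≤ m) (hF : Fintype.card F = 2 ^ (2 * m + 1)) (n : ℕ) (hn : 2 ≤ n) :
    (∃ E : Subgroup ↥(Cfsg.Sz F m), Cfsg.IsElementaryAbelian 2 E ∧ Nat.card ↥E = 2 ^ n ∧
      ∀ x : ↥(Cfsg.Sz F m), E ⊓ E.map (MulAut.conj x).toMonoidHom ≠ ⊥ → x ∈ Subgroup.normalizer (E : Set ↥(Cfsg.Sz F m))) ↔ n ∣ 2 * m + 1 := by
  classical
  have hS : SzField F m := ⟨hm, hF⟩
  have := hS.charP
  have : Fact (Nat.Prime 2) := ⟨Nat.prime_two⟩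
  have hθ : ∀ t : F, t ≠ 0 → ∃ μ : Fˣ, (μ : F) * θ m (μ : F) = t := by
    intro t ht
    obtain ⟨s, hs⟩ := self_mul_θ_surjective hS t
    refine ⟨Units.mk0 s fun h => ht ?_, hs⟩
    rw [← hs, h]
    exact zero_mul _
  constructor
  · rintro ⟨E, hE, hEcard, hTI⟩
    obtain ⟨hEcomm, hEsq⟩ := hE
    obtain ⟨P, hP⟩ := (IsPGroup.of_card hEcard : IsPGroup 2 E).exists_le_sylow
    obtain ⟨k, hk⟩ := exists_conj_sylow hS P
    have hcent : ∀ e ∈ E, ∃ b, k⁻¹ * e * k = uniEl hS 0 b := by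
      intro e he
      refine mem_uniCenter_of_sq hS ?_ ?_
      · obtain ⟨u, hu, rfl⟩ := hk ▸ hP he
        rw [MulEquiv.coe_toMonoidHom, MulAut.conj_apply, show k⁻¹ * (k * u * k⁻¹) * k = u by group]
        exact hu
      · rw [show k⁻¹ * e * k * (k⁻¹ * e * k) = k⁻¹ * (e * e) * k by group, ← pow_two, hEsq e he]
        group
    let A : AddSubgroup F :=
      { carrier := {b | k * uniEl hS 0 b * k⁻¹ ∈ E}
        zero_mem' := by
          show k * uniEl hS 0 0 * k⁻¹ ∈ E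
          rw [uniEl_zero, mul_one, mul_inv_cancel]
          exact E.one_mem
        add_mem' := fun {b d} (hb : k * uniEl hS 0 b * k⁻¹ ∈ E)
            (hd : k * uniEl hS 0 d * k⁻¹ ∈ E) => by
          show k * uniEl hS 0 (b + d) * k⁻¹ ∈ E
          have := E.mul_mem hb hd
          rwa [show k * uniEl hS 0 b * k⁻¹ * (k * uniEl hS 0 d * k⁻¹) =
            k * (uniEl hS 0 b * uniEl hS 0 d) * k⁻¹ by group, uniEl_mul,
            show uniEl hS (0 + 0) (b + d + θ m (0 : F) * 0) = uniEl hS 0 (b + d) by simp] at this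
        neg_mem' := fun {b} hb => by rwa [CharTwo.neg_eq] }
    have hA : Nat.card A = 2 ^ n := by
      rw [← hEcard]
      refine Nat.card_congr (Equiv.ofBijective
        (fun b => (⟨k * uniEl hS 0 b.1 * k⁻¹, b.2⟩ : E)) ⟨?_, ?_⟩)
      · intro b d h
        exact Subtype.ext ((uniEl_eq_iff hS).1
          (mul_left_cancel (mul_right_cancel (congrArg Subtype.val h)))).2
      · rintro ⟨e, he⟩
        obtain ⟨b, hb⟩ := hcent e he
        refine ⟨⟨b, ?_⟩, Subtype.ext ?_⟩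
        · show k * uniEl hS 0 b * k⁻¹ ∈ E
          rwa [← hb, show k * (k⁻¹ * e * k) * k⁻¹ = e by group]
        · show k * uniEl hS 0 b * k⁻¹ = e
          rw [← hb]; group
    obtain ⟨⟨a, ha⟩, ha0⟩ : ∃ a : A, a.1 ≠ 0 := by
      by_contra hcon
      push Not at hcon
      have : Subsingleton A := ⟨fun s t => Subtype.ext ((hcon s).trans (hcon t).symm)⟩
      have h2 : 1 < 2 ^ n := Nat.one_lt_two_pow (by omega)
      rw [Nat.card_of_subsingleton (0 : A)] at hA
      omega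
    refine dvd_of_scaling hF A hA ha ha0 fun t ht hex x hx => ?_
    obtain ⟨μ, hμ⟩ := hθ t ht
    set y := k * torSz hS μ * k⁻¹ with hy
    have hconj : ∀ b, y * (k * uniEl hS 0 b * k⁻¹) * y⁻¹ = k * uniEl hS 0 (t * b) * k⁻¹ := by
      intro b
      rw [hy, show k * torSz hS μ * k⁻¹ * (k * uniEl hS 0 b * k⁻¹) * (k * torSz hS μ * k⁻¹)⁻¹ =
        k * (torSz hS μ * uniEl hS 0 b * (torSz hS μ)⁻¹) * k⁻¹ by group, torSz_conj_uniEl,
        mul_zero, hμ]
    have hyN := hTI y (by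
      obtain ⟨b, hb, hb0, htb⟩ := hex
      intro hbot
      have h1 : k * uniEl hS 0 (t * b) * k⁻¹ ∈ E ⊓ E.map (MulAut.conj y).toMonoidHom :=
        ⟨htb, k * uniEl hS 0 b * k⁻¹, hb, hconj b⟩
      rw [hbot, Subgroup.mem_bot, mul_inv_eq_one, mul_eq_left, ← uniEl_zero hS, uniEl_eq_iff] at h1
      exact mul_ne_zero ht hb0 h1.2)
    show k * uniEl hS 0 (t * x) * k⁻¹ ∈ E
    rw [← hconj]
    exact (Subgroup.mem_normalizer_iff.1 hyN _).1 hx
  · intro hdvd
    let : Algebra (ZMod 2) F := ZMod.algebra F 2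
    have hfin : Module.finrank (ZMod 2) F = 2 * m + 1 := by
      apply Nat.pow_right_injective le_rfl
      have h := Module.natCard_eq_pow_finrank (K := ZMod 2) (V := F)
      rw [Nat.card_eq_fintype_card, hF, Nat.card_zmod] at h
      exact h.symm
    obtain ⟨φ⟩ := FiniteField.nonempty_algHom_of_finrank_dvd (F := ZMod 2) (K := GaloisField 2 n)
      (L := F) (by rw [GaloisField.finrank 2 (by omega), hfin]; exact hdvd)
    let E : Subgroup ↥(Cfsg.Sz F m) :=
      { carrier := {g | ∃ s, g = uniEl hS 0 (φ s)}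
        one_mem' := ⟨0, by rw [map_zero, uniEl_zero]⟩
        mul_mem' := by
          rintro _ _ ⟨s, rfl⟩ ⟨t, rfl⟩
          exact ⟨s + t, by simp [uniEl_mul, θ_def, map_add]⟩
        inv_mem' := by
          rintro _ ⟨s, rfl⟩
          exact ⟨s, by rw [uniEl_inv]; simp⟩ }
    refine ⟨E, ⟨⟨⟨?_⟩⟩, ?_⟩, ?_, ?_⟩
    · rintro ⟨_, s, rfl⟩ ⟨_, t, rfl⟩
      exact Subtype.ext (by simp [uniEl_mul, θ_def, add_comm])
    · rintro _ ⟨s, rfl⟩
      rw [pow_two, uniEl_sq, mul_zero, uniEl_zero]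
    · rw [← GaloisField.card 2 n (by omega)]
      exact (Nat.card_congr (Equiv.ofBijective
        (fun s => (⟨uniEl hS 0 (φ s), s, rfl⟩ : E))
        ⟨fun s t h => φ.injective ((uniEl_eq_iff hS).1 (congrArg Subtype.val h)).2,
          by rintro ⟨_, s, rfl⟩; exact ⟨s, rfl⟩⟩)).symm
    · intro x hx
      obtain ⟨⟨g, hg⟩, hg1'⟩ := Subgroup.ne_bot_iff_exists_ne_one.1 hx
      have hg1 : g ≠ 1 := fun h => hg1' (Subtype.ext h)
      obtain ⟨⟨s, rfl⟩, ⟨_, ⟨s₀, rfl⟩, hs⟩⟩ := hg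
      simp only [MulEquiv.coe_toMonoidHom, MulAut.conj_apply] at hs
      have hne : uniEl hS 0 (φ s₀) ≠ 1 := fun h => hg1 (by
        rw [← hs, h, mul_one, mul_inv_cancel])
      obtain ⟨c, d, μ, rfl⟩ := pointStab_eq hS
        (fix_infinity_of_conj_mem hS hne (hs ▸ uniEl_mem hS _ _))
      rw [conj_uniCenter, uniEl_eq_iff] at hs
      have hs0 : φ s₀ ≠ 0 := fun h => hne (by rw [h, uniEl_zero])
      have hlam : (μ : F) * θ m (μ : F) = φ (s / s₀) := by
        rw [map_div₀, eq_div_iff hs0, hs.2]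
      have hmap : ∀ g ∈ E, (uniEl hS c d * torSz hS μ) * g * (uniEl hS c d * torSz hS μ)⁻¹ ∈ E := by
        rintro _ ⟨t, rfl⟩
        rw [conj_uniCenter, hlam, ← map_mul]
        exact ⟨_, rfl⟩
      rw [Subgroup.mem_normalizer_iff]
      intro h
      refine ⟨hmap h, fun hh => ?_⟩
      have hs0' : s / s₀ ≠ 0 := by
        intro h0
        rw [h0, map_zero, mul_eq_zero] at hlam
        rcases hlam with h | h
        · exact μ.ne_zero h
        · exact μ.ne_zero (θ_eq_zero.1 h)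
      obtain ⟨t, ht⟩ := hh
      refine ⟨t / (s / s₀), ?_⟩
      set y := uniEl hS c d * torSz hS μ with hy
      have h2 : y * uniEl hS 0 (φ (t / (s / s₀))) * y⁻¹ = uniEl hS 0 (φ t) := by
        rw [hy, conj_uniCenter, hlam, ← map_mul, mul_div_cancel₀ _ hs0']
      rw [← ht] at h2
      exact (mul_left_cancel (mul_right_cancel h2)).symm

end Cfsg.Agent.S2240
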