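import Cfsg.Statements.S2241
import Cfsg.Agent.SuzukiLocal.Basic

set_option autoImplicit false
open Cfsg

namespace Cfsg.Agent.S2241

/-- Real 2-elements of the Suzuki group: with q = 2^(2m+1), m ≥ 1, and the group realised as the stabiliser in SL₄ of the Suzuki–Tits ovoid, a non-identity element of a Sylow 2-subgroup is conjugate to its inverse if and only if it is an involution; in particular no element of order 4 is conjugate to its inverse. -/
theorem result {F : Type*} [Field F] [Fintype F] {m : ℕ} (hm : 1 ≤ m) (hF : Fintype.card F = 2 ^ (2 * m + 1)) (P : Sylow 2 ↥(Cfsg.Sz F m)) (g : ↥(Cfsg.Sz F m)) (hg : g ∈ (P : Subgroup ↥(Cfsg.Sz F m))) (h1 : g ≠ 1) :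
    IsConj g g⁻¹ ↔ orderOf g = 2 := by
  classical

  have hS : CfsgLib.Suzuki.SzField F m := ⟨hm, hF⟩
  constructor
  · intro hc
    obtain ⟨k, hk⟩ := CfsgLib.SuzukiLocal.exists_conj_sylow hS P
    rw [hk] at hg
    obtain ⟨g₀, hg₀, rfl⟩ := hg
    obtain ⟨a, b, rfl⟩ := hg₀
    have hne : CfsgLib.Suzuki.uniEl hS a b ≠ 1 := fun h => h1 (by rw [h, map_one])
    rw [MulEquiv.coe_toMonoidHom, MulAut.conj_apply] at hc ⊢
    obtain ⟨c, hc'⟩ := isConj_iff.1 hc
    set l := k⁻¹ * c * k with hl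
    have hl' : l * CfsgLib.Suzuki.uniEl hS a b * l⁻¹ = (CfsgLib.Suzuki.uniEl hS a b)⁻¹ := by
      rw [hl]
      calc k⁻¹ * c * k * CfsgLib.Suzuki.uniEl hS a b * (k⁻¹ * c * k)⁻¹ =
          k⁻¹ * (c * (k * CfsgLib.Suzuki.uniEl hS a b * k⁻¹) * c⁻¹) * k := by group
        _ = _ := by rw [hc']; group
    obtain ⟨p, d, μ, hlpd⟩ := CfsgLib.Suzuki.pointStab_eq hS
      (CfsgLib.SuzukiLocal.fix_infinity_of_conj_mem hS hne
        (hl' ▸ Subgroup.inv_mem _ (CfsgLib.Suzuki.uniEl_mem hS a b)))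
    rw [hlpd, show ∀ u t g : ↥(Cfsg.Sz F m), u * t * g * (u * t)⁻¹ = u * (t * g * t⁻¹) * u⁻¹ from
      fun u t g => by group, CfsgLib.Suzuki.torSz_conj_uniEl, mul_inv_eq_iff_eq_mul,
      CfsgLib.Suzuki.uniEl_inv, CfsgLib.Suzuki.uniEl_mul, CfsgLib.Suzuki.uniEl_mul,
      CfsgLib.Suzuki.uniEl_eq_iff] at hl'
    obtain ⟨e1, e2⟩ := hl'
    rw [orderOf_eq_prime_iff]
    refine ⟨?_, fun h => h1 (by simpa using h)⟩
    rw [pow_two, show k * CfsgLib.Suzuki.uniEl hS a b * k⁻¹ *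
      (k * CfsgLib.Suzuki.uniEl hS a b * k⁻¹) = k * (CfsgLib.Suzuki.uniEl hS a b *
        CfsgLib.Suzuki.uniEl hS a b) * k⁻¹ by group, CfsgLib.Suzuki.uniEl_sq]
    suffices ha : a = 0 by
      rw [ha, mul_zero, CfsgLib.Suzuki.uniEl_zero, mul_one, mul_inv_cancel]
    by_contra ha
    have := hS.charP
    have hμ : (μ : F) = 1 := by
      have h3 : (μ : F) * a = a := by linear_combination e1
      exact mul_right_cancel₀ ha (by rw [h3, one_mul])
    rw [hμ] at e2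
    have e2' : CfsgLib.Suzuki.θ m p * a + CfsgLib.Suzuki.θ m a * p +
        CfsgLib.Suzuki.θ m a * a = 0 := by
      simp only [CfsgLib.Suzuki.θ_def, one_mul, mul_one, one_pow] at e2 ⊢
      grind [CharTwo.two_eq_zero (R := F)]
    have hθ : CfsgLib.Suzuki.θ m a ≠ 0 := fun h => ha (CfsgLib.Suzuki.θ_eq_zero.1 h)
    refine CfsgLib.Suzuki.θ_add_self_ne_one hS (p / a) ?_
    rw [div_eq_mul_inv, CfsgLib.Suzuki.θ_mul, CfsgLib.Suzuki.θ_inv]
    field_simp
    linear_combination e2'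
  · intro h2
    rw [inv_eq_of_mul_eq_one_right (by rw [← pow_two, ← h2, pow_orderOf_eq_one] : g * g = 1)]

end Cfsg.Agent.S2241
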