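import Cfsg.Statements.S2244
import Cfsg.Agent.ChevWeak.Main
import Cfsg.Agent.ChevWeak.Data
import Cfsg.Agent.Chevalley.WeylData

set_option autoImplicit false
open Cfsg

namespace Cfsg.Agent.S2244

open Cfsg.Lie CfsgLib.Chevalley CfsgLib.ChevWeak

theorem chevG2_excGcd : [(6, 10), (6, 11), (10, 11)].all
    (fun e : ℕ × ℕ => sepGcd chevG2 e.1 e.2 == 3) = true := by decide +kernel

/-- Weakly closed unipotent subgroups of Chevalley groups: let G be the Chevalley group of type G₂, B₂, D₄, F₄, E₆, E₇ or E₈ over a finite field F (the matrix group generated by the root elements), with |F| ≠ 2, and |F| ≠ 3 as well for the types G₂, B₂, D₄, F₄. Let U be the subgroup generated by the positive root subgroups. If X ≤ U is weakly closed in U with respect to G (every G-conjugate of X lying in U equals X), then X is the unipotent radical U_J of a standard parabolic subgroup for some set J of fundamental roots. -/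
theorem result {F : Type*} [Field F] [Fintype F] (D : Cfsg.Lie.ChevalleyDatum) (hD : D ∈ [Cfsg.Lie.chevG2, Cfsg.Lie.chevB2, Cfsg.Lie.chevD4, Cfsg.Lie.chevF4, Cfsg.Lie.chevE6, Cfsg.Lie.chevE7, Cfsg.Lie.chevE8])
    (h2 : Fintype.card F ≠ 2) (h3 : D ∈ [Cfsg.Lie.chevG2, Cfsg.Lie.chevB2, Cfsg.Lie.chevD4, Cfsg.Lie.chevF4] → Fintype.card F ≠ 3)
    (X : Subgroup (GL D.Idx F)) (hXU : X ≤ D.posUnipotent F)
    (hwc : ∀ g ∈ D.group F, X.map (MulAut.conj g).toMonoidHom ≤ D.posUnipotent F → X.map (MulAut.conj g).toMonoidHom = X) :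
    ∃ J : Set ℕ, (∀ j ∈ J, j < D.rank) ∧ X = D.unipotentRadical F J := by
  have hW := goodWeyl_of_mem hD
  have hq : 2 ≤ Fintype.card F := Fintype.one_lt_card
  -- the list of admissible gcds
  obtain ⟨ok, exc, hstep, hsepchk, hok, hexc⟩ : ∃ (ok : List ℕ) (exc : List (ℕ × ℕ)),
      chkStep D = true ∧ chkSep D ok exc = true ∧
      (∀ g ∈ ok, ¬ (Fintype.card F - 1 ∣ g)) ∧
      (exc = [] ∨ (D = chevG2 ∧ exc = [(6, 10), (6, 11), (10, 11)])) := by
    have dvd1 : ¬ (Fintype.card F - 1 ∣ 1) := fun h => by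
      have := Nat.dvd_one.1 h; omega
    have dvd2 : Fintype.card F ≠ 3 → ¬ (Fintype.card F - 1 ∣ 2) := fun h3' h => by
      have := Nat.le_of_dvd (by omega) h
      omega
    simp only [List.mem_cons, List.not_mem_nil, or_false] at hD
    rcases hD with rfl | rfl | rfl | rfl | rfl | rfl | rfl
    · exact ⟨_, _, chevG2_step, chevG2_sep, by simp [dvd1, dvd2 (h3 (by simp))], Or.inr ⟨rfl, rfl⟩⟩
    · exact ⟨_, _, chevB2_step, chevB2_sep, by simp [dvd1, dvd2 (h3 (by simp))], Or.inl rfl⟩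
    · exact ⟨_, _, chevD4_step, chevD4_sep, by simp [dvd1, dvd2 (h3 (by simp))], Or.inl rfl⟩
    · exact ⟨_, _, chevF4_step, chevF4_sep, by simp [dvd1, dvd2 (h3 (by simp))], Or.inl rfl⟩
    · exact ⟨_, _, chevE6_step, chevE6_sep, by simp [dvd1], Or.inl rfl⟩
    · exact ⟨_, _, chevE7_step, chevE7_sep, by simp [dvd1], Or.inl rfl⟩
    · exact ⟨_, _, chevE8_step, chevE8_sep, by simp [dvd1], Or.inl rfl⟩
  refine eq_unipotentRadical hW hstep (fun r s hr hrs => ?_) hXU hwc
  simp only [chkSep, List.all_eq_true, Bool.and_eq_true, Bool.or_eq_true, List.mem_range'_1,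
    List.elem_eq_mem, decide_eq_true_eq] at hsepchk
  have := hW.good.two_half
  have := r.isLt
  have := s.isLt
  obtain ⟨hp, hgcd⟩ := hsepchk r ⟨hr, by omega⟩
  rcases separated_or_dvd (F := F) hW r s hp with h | hdvd
  · exact Or.inl h
  rcases hgcd s ⟨hrs, by omega⟩ with h | h
  · exact absurd hdvd (hok _ h)
  rcases hexc with rfl | ⟨rfl, rfl⟩
  · simp at h
  right
  have h3' : Fintype.card F ≠ 3 := h3 (by simp)
  have hg := chevG2_excGcd
  simp only [List.all_eq_true, beq_iff_eq] at hg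
  have hg3 : sepGcd chevG2 r s = 3 := hg _ h
  rw [hg3] at hdvd
  have h4 : Fintype.card F = 4 := by
    rcases (Nat.dvd_prime Nat.prime_three).1 hdvd with h' | h' <;> omega
  have : CharP F 2 := by
    obtain ⟨n, hp, hn⟩ := FiniteField.card F (ringChar F)
    have : ringChar F = 2 := by
      rw [h4] at hn
      have h22 : ringChar F ∣ 2 ^ 2 := by
        rw [show 2 ^ 2 = 4 by norm_num, hn]; exact dvd_pow_self _ n.ne_zero
      exact (Nat.prime_dvd_prime_iff_eq hp Nat.prime_two).1 (hp.dvd_of_dvd_pow h22)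
    exact this ▸ ringChar.charP F
  have hex := chevG2_exc
  simp only [List.all_eq_true, List.mem_cons, List.not_mem_nil, or_false] at hex
  simp only [List.mem_cons, List.not_mem_nil, or_false, Prod.mk.injEq] at h
  rcases h with ⟨e1, e2⟩ | ⟨e1, e2⟩ | ⟨e1, e2⟩
  · exact rescued_of_chk hW (p := 7) hr hrs (by rw [e1, e2]; exact hex (6, 10, 7) (by simp))
  · exact rescued_of_chk hW (p := 7) hr hrs (by rw [e1, e2]; exact hex (6, 11, 7) (by simp))
  · exact rescued_of_chk hW (p := 6) hr hrs (by rw [e1, e2]; exact hex (10, 11, 6) (by simp))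

end Cfsg.Agent.S2244
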