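import Cfsg.Statements.S2245
import Cfsg.Agent.AltSylow.TwoOvergroups

set_option autoImplicit false
open Cfsg

namespace Cfsg.Agent.S2245

open Equiv CfsgLib.AltSylow

/-- If all proper overgroups of `R` lie in one proper overgroup, `R` is in exactly one maximal
subgroup. -/
theorem existsUnique_coatom {G : Type*} [Group G] [Finite G] {R M₀ : Subgroup G}
    (h0 : R ≤ M₀) (hne : M₀ ≠ ⊤) (hall : ∀ N, R ≤ N → N ≠ ⊤ → N ≤ M₀) :
    ∃! M : Subgroup G, IsCoatom M ∧ R ≤ M := by
  obtain ⟨M, hM, hle⟩ := (eq_top_or_exists_le_coatom M₀).resolve_left hne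
  refine ⟨M, ⟨hM, h0.trans hle⟩, ?_⟩
  rintro M' ⟨hM', hR'⟩
  rcases lt_or_eq_of_le ((hall M' hR' hM'.1).trans hle) with h | h
  · exact absurd (hM'.2 M h) hM.1
  · exact h

/-- Two proper overgroups generating everything give two maximal overgroups. -/
theorem not_existsUnique_coatom {G : Type*} [Group G] [Finite G] {R M₁ M₂ : Subgroup G}
    (h1 : R ≤ M₁) (h2 : R ≤ M₂) (hn1 : M₁ ≠ ⊤) (hn2 : M₂ ≠ ⊤) (htop : M₁ ⊔ M₂ = ⊤) :
    ¬ ∃! M : Subgroup G, IsCoatom M ∧ R ≤ M := by
  rintro ⟨M, -, huniq⟩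
  obtain ⟨C₁, hC₁, hle₁⟩ := (eq_top_or_exists_le_coatom M₁).resolve_left hn1
  obtain ⟨C₂, hC₂, hle₂⟩ := (eq_top_or_exists_le_coatom M₂).resolve_left hn2
  have e : C₂ = C₁ :=
    (huniq C₂ ⟨hC₂, h2.trans hle₂⟩).trans (huniq C₁ ⟨hC₁, h1.trans hle₁⟩).symm
  exact hC₁.1 (top_le_iff.1 (htop ▸ sup_le hle₁ (e ▸ hle₂)))

/-- The statement for one Sylow 2-subgroup of the symmetric group, degree `2^k + 1`. -/
theorem setup_pos {n k : ℕ} (hk : 2 ≤ k) (hn : n = 2 ^ k + 1) (P : Sylow 2 (Perm (Fin n))) :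
    ∃ S : Subgroup (Perm (Fin n)), (P : Subgroup (Perm (Fin n))) ≤ S ∧
      ¬ alternatingGroup (Fin n) ≤ S ∧ ∀ M : Subgroup (Perm (Fin n)),
        (P : Subgroup (Perm (Fin n))) ⊓ alternatingGroup (Fin n) ≤ M →
          alternatingGroup (Fin n) ≤ M ∨ M ≤ S := by
  classical
  obtain ⟨z, hz, hP⟩ := exists_pairing (P : Subgroup (Perm (Fin n))) P.isPGroup'
  have h4 : 4 ≤ 2 ^ k := (by norm_num : 2 ^ 2 = 4) ▸ Nat.pow_le_pow_right two_pos hk
  have hcard : Fintype.card (Fin n) = 2 ^ k + 1 := by rw [Fintype.card_fin, hn]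
  obtain ⟨p, hp⟩ : ∃ p, z p = p := by
    by_contra hcon
    push Not at hcon
    have h2 : orderOf z ∣ 2 := orderOf_dvd_iff_pow_eq_one.2 (Equiv.ext fun y => by
      simp [pow_two, Perm.mul_apply, hz.1])
    have hev' : 2 ∣ z.support.card := by
      rw [← Perm.sum_cycleType]
      refine Multiset.dvd_sum fun a ha => ?_
      exact (le_antisymm (Nat.le_of_dvd two_pos ((Perm.dvd_of_mem_cycleType ha).trans h2))
        (Perm.two_le_of_mem_cycleType ha)) ▸ dvd_rfl
    rw [Finset.eq_univ_iff_forall.2 fun x => Perm.mem_support.2 (hcon x), Finset.card_univ,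
      hcard] at hev'
    have : 2 ∣ 2 ^ k := dvd_pow_self 2 (by omega)
    omega
  have hPp : ∀ g ∈ (P : Subgroup (Perm (Fin n))), g p = p := fun g hg => by
    refine hz.2 _ _ ?_ hp
    rw [← Perm.mul_apply, ← Subgroup.mem_centralizer_singleton_iff.1 (hP hg), Perm.mul_apply, hp]
  refine ⟨MulAction.stabilizer (Perm (Fin n)) p, fun g hg => hPp g hg, ?_, ?_⟩
  · intro hle
    obtain ⟨q, hq⟩ := exists_notMem ({p} : Finset (Fin n)) (by
      rw [Finset.card_singleton, Fintype.card_fin]; omega)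
    obtain ⟨r, hr⟩ := exists_notMem ({p, q} : Finset (Fin n))
      (lt_of_le_of_lt Finset.card_le_two (by rw [Fintype.card_fin]; omega))
    simp only [Finset.mem_singleton] at hq
    simp only [Finset.mem_insert, Finset.mem_singleton, not_or] at hr
    have h1 : cyc3 p q r p = p :=
      hle (cyc3_mem_alternating (Ne.symm hq) (Ne.symm hr.2) (c := r))
    apply hq
    rw [← h1]
    simp only [cyc3, Perm.mul_apply, Equiv.swap_apply_def]
    grind
  · intro M hM
    by_cases hmove : ∃ g ∈ M, g p ≠ p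
    · obtain ⟨g, hg, hgp⟩ := hmove
      exact Or.inl (alternating_le_of_moves hk hcard hz P hP hp M hM hg hgp)
    · push Not at hmove
      exact Or.inr fun g hg => hmove g hg

/-- A Sylow 2-subgroup of the symmetric group is not in the alternating group. -/
theorem sylow_not_le_alternating {n : ℕ} (hn : 2 ≤ n) (P : Sylow 2 (Perm (Fin n))) :
    ¬ (P : Subgroup (Perm (Fin n))) ≤ alternatingGroup (Fin n) := by
  intro h
  have : Nontrivial (Fin n) := Fin.nontrivial_iff_two_le.2 hn
  have h1 := Subgroup.index_dvd_of_le h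
  rw [alternatingGroup.index_eq_two] at h1
  exact P.not_dvd_index h1

/-- For n ≥ 5 with n ≠ 6, a Sylow 2-subgroup of the alternating group A_n lies in exactly one maximal subgroup of A_n if and only if n = 2^k + 1 for some k ≥ 2; the same holds for the symmetric group S_n. -/
theorem result (n : ℕ) (hn : 5 ≤ n) (h6 : n ≠ 6) :
    ((∀ R : Sylow 2 ↥(alternatingGroup (Fin n)), (∃! M : Subgroup ↥(alternatingGroup (Fin n)), IsCoatom M ∧ (R : Subgroup ↥(alternatingGroup (Fin n))) ≤ M) ↔ ∃ k : ℕ, 2 ≤ k ∧ n = 2 ^ k + 1) ∧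
    (∀ R : Sylow 2 (Equiv.Perm (Fin n)), (∃! M : Subgroup (Equiv.Perm (Fin n)), IsCoatom M ∧ (R : Subgroup (Equiv.Perm (Fin n))) ≤ M) ↔ ∃ k : ℕ, 2 ≤ k ∧ n = 2 ^ k + 1)) := by
  classical
  have : Nontrivial (Fin n) := Fin.nontrivial_iff_two_le.2 (by omega)
  constructor
  · intro R
    obtain ⟨P, hP⟩ := Sylow.exists_comap_subtype_eq R
    constructor
    · intro hu
      by_contra hnot
      obtain ⟨M₁, M₂, h1, h2, hn1, hn2, hA⟩ :=
        exists_two_overgroups (Fintype.card_fin n) hn h6 hnot P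
      refine not_existsUnique_coatom (M₁ := M₁.subgroupOf (alternatingGroup (Fin n)))
        (M₂ := M₂.subgroupOf (alternatingGroup (Fin n))) ?_ ?_ ?_ ?_ ?_ hu
      · rw [← hP]; exact Subgroup.comap_mono h1
      · rw [← hP]; exact Subgroup.comap_mono h2
      · rwa [Ne, Subgroup.subgroupOf_eq_top]
      · rwa [Ne, Subgroup.subgroupOf_eq_top]
      · rw [← Subgroup.inf_subgroupOf_right M₁, ← Subgroup.inf_subgroupOf_right M₂,
          ← Subgroup.subgroupOf_sup inf_le_right inf_le_right, Subgroup.subgroupOf_eq_top]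
        exact hA
    · rintro ⟨k, hk, hkn⟩
      obtain ⟨S, hPS, hS, hall⟩ := setup_pos hk hkn P
      refine existsUnique_coatom (M₀ := S.subgroupOf (alternatingGroup (Fin n))) ?_ ?_ ?_
      · rw [← hP]; exact Subgroup.comap_mono hPS
      · rwa [Ne, Subgroup.subgroupOf_eq_top]
      · intro N hN hNtop
        have hle : (P : Subgroup (Perm (Fin n))) ⊓ alternatingGroup (Fin n) ≤
            N.map (alternatingGroup (Fin n)).subtype := by
          have := Subgroup.map_mono (f := (alternatingGroup (Fin n)).subtype) hN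
          rwa [← hP, Subgroup.map_comap_eq, Subgroup.range_subtype, inf_comm] at this
        rcases hall _ hle with h | h
        · refine absurd ?_ hNtop
          refine top_le_iff.1 fun x _ => ?_
          obtain ⟨y, hy, e⟩ := h x.2
          rwa [← Subtype.ext e]
        · intro x hx
          exact h ⟨x, hx, rfl⟩
  · intro R
    have hodd := sylow_not_le_alternating (by omega) R
    have htop : ∀ M : Subgroup (Perm (Fin n)), (R : Subgroup (Perm (Fin n))) ≤ M →
        alternatingGroup (Fin n) ≤ M → M = ⊤ := by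
      intro M hR hA
      have hlt : alternatingGroup (Fin n) < M :=
        lt_of_le_of_ne hA fun e => hodd (e ▸ hR)
      exact (Subgroup.index_eq_one.1 (by
        have h := Subgroup.relIndex_mul_index hA
        rw [alternatingGroup.index_eq_two] at h
        have h2 : (alternatingGroup (Fin n)).relIndex M ≠ 1 := fun e =>
          hlt.not_ge (Subgroup.relIndex_eq_one.1 e)
        rcases (Nat.dvd_prime Nat.prime_two).1 (Dvd.intro_left _ h) with h3 | h3
        · exact h3
        · rw [h3] at h; omega))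
    constructor
    · intro hu
      by_contra hnot
      obtain ⟨M₁, M₂, h1, h2, hn1, hn2, hA⟩ :=
        exists_two_overgroups (Fintype.card_fin n) hn h6 hnot R
      refine not_existsUnique_coatom h1 h2 (fun e => hn1 (e ▸ le_top)) (fun e => hn2 (e ▸ le_top))
        (htop _ (h1.trans le_sup_left) (hA.trans (sup_le_sup inf_le_left inf_le_left))) hu
    · rintro ⟨k, hk, hkn⟩
      obtain ⟨S, hPS, hS, hall⟩ := setup_pos hk hkn R
      refine existsUnique_coatom hPS (fun e => hS (e ▸ le_top)) fun N hN hNtop => ?_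
      rcases hall N (inf_le_left.trans hN) with h | h
      · exact absurd (htop N hN h) hNtop
      · exact h

end Cfsg.Agent.S2245
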