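import Cfsg.Statements.S2247
import Cfsg.Agent.SuzukiLocal.Basic

set_option autoImplicit false
open Cfsg

namespace Cfsg.Agent.S2247

open CfsgLib.Suzuki CfsgLib.SuzukiLocal

/-- A subgroup containing `uniSub` normalizes it or is everything. -/
theorem overgroup {F : Type*} [Field F] [Fintype F] {m : ℕ} (hS : SzField F m)
    (M : Subgroup ↥(Cfsg.Sz F m)) (hM : uniSub hS ≤ M) :
    M ≤ Subgroup.normalizer (uniSub hS : Set ↥(Cfsg.Sz F m)) ∨ M = ⊤ := by
  by_cases hle : M ≤ Subgroup.normalizer (uniSub hS : Set ↥(Cfsg.Sz F m))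
  · exact Or.inl hle
  right
  obtain ⟨g, hg, hgn⟩ := SetLike.not_le_iff_exists.1 hle
  rcases bruhat hS g with ⟨a, b, μ, rfl⟩ | ⟨x, y, a, b, μ, rfl⟩
  · exfalso
    apply hgn
    rw [normalizer_uniSub hS]
    show (uniEl hS a b * torSz hS μ) • Cfsg.suzukiPointInfinity F = _
    rw [mul_smul, torSz_smul_infinity, uniEl_smul_infinity]
  set w := weylEl hS
  set t := torSz hS μ with ht
  have hww : w * w = 1 := Subtype.ext weyl_mul_weyl
  have hwi : w⁻¹ = w := inv_eq_of_mul_eq_one_right hww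
  have hcancel : ∀ z : ↥(Cfsg.Sz F m), w * (w * z) = z := fun z => by
    rw [← mul_assoc, hww, one_mul]
  -- `w * v ∈ M` with `v` normalizing `uniSub`
  have hwv : w * (uniEl hS a b * t) ∈ M := by
    have := M.mul_mem (M.inv_mem (hM (uniEl_mem hS x y))) hg
    rwa [mul_assoc (uniEl hS x y), inv_mul_cancel_left] at this
  have hv : uniEl hS a b * t ∈ Subgroup.normalizer (uniSub hS : Set ↥(Cfsg.Sz F m)) := by
    rw [normalizer_uniSub hS]
    show (uniEl hS a b * t) • Cfsg.suzukiPointInfinity F = _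
    rw [mul_smul, ht, torSz_smul_infinity, uniEl_smul_infinity]
  set v := uniEl hS a b * t
  have hU' : ∀ u ∈ uniSub hS, w * u * w ∈ M := by
    intro u hu
    have h2 : v⁻¹ * u * v ∈ uniSub hS := (Subgroup.mem_normalizer_iff''.1 hv u).1 hu
    have h3 := M.mul_mem (M.mul_mem hwv (hM h2)) (M.inv_mem hwv)
    rw [show (w * v) * (v⁻¹ * u * v) * (w * v)⁻¹ = w * u * w⁻¹ by group, hwi] at h3
    exact h3
  -- `L = ⟨U, U^w⟩` is normal
  set L := Subgroup.closure ((uniSub hS : Set ↥(Cfsg.Sz F m)) ∪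
    (fun u => w * u * w) '' (uniSub hS : Set ↥(Cfsg.Sz F m))) with hL
  have hLM : L ≤ M := by
    rw [hL, Subgroup.closure_le]
    rintro z (hz | ⟨u, hu, rfl⟩)
    · exact hM hz
    · exact hU' u hu
  have hconj : ∀ k : ↥(Cfsg.Sz F m),
      (∀ u ∈ uniSub hS, k * u * k⁻¹ ∈ L ∧ k * (w * u * w) * k⁻¹ ∈ L) →
      ∀ z ∈ L, k * z * k⁻¹ ∈ L := by
    intro k hk z hz
    have : L.map (MulAut.conj k).toMonoidHom ≤ L := by
      rw [hL, MonoidHom.map_closure, Subgroup.closure_le]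
      rintro _ ⟨z', hz' | ⟨u, hu, rfl⟩, rfl⟩
      · exact (hk z' hz').1
      · exact (hk u hu).2
    exact this ⟨z, hz, rfl⟩
  have hLU : uniSub hS ≤ L := fun z hz => Subgroup.subset_closure (Or.inl hz)
  have hLW : ∀ u ∈ uniSub hS, w * u * w ∈ L := fun u hu =>
    Subgroup.subset_closure (Or.inr ⟨u, hu, rfl⟩)
  have hu : ∀ z ∈ L, ∀ k ∈ uniSub hS, k * z * k⁻¹ ∈ L := fun z hz k hk =>
    L.mul_mem (L.mul_mem (hLU hk) hz) (L.inv_mem (hLU hk))
  have hw : ∀ z ∈ L, w * z * w⁻¹ ∈ L := hconj w fun u hu => by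
    refine ⟨?_, ?_⟩
    · rw [hwi]; exact hLW u hu
    · rw [hwi, show w * (w * u * w) * w = (w * w) * u * (w * w) by group, hww, one_mul, mul_one]
      exact hLU hu
  have hT : ∀ (ν : Fˣ), ∀ z ∈ L, torSz hS ν * z * (torSz hS ν)⁻¹ ∈ L := fun ν =>
    hconj _ fun u hu => by
      obtain ⟨c, d, rfl⟩ := hu
      refine ⟨hLU ⟨_, _, torSz_conj_uniEl hS ν c d⟩, ?_⟩
      have hwt : w * torSz hS ν⁻¹ * w = torSz hS ν := Subtype.ext (by
        show weyl * tor m ν⁻¹ * weyl = tor m ν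
        rw [weyl_conj_tor, inv_inv])
      rw [show torSz hS ν * (w * uniEl hS c d * w) * (torSz hS ν)⁻¹ =
        w * (torSz hS ν⁻¹ * uniEl hS c d * (torSz hS ν⁻¹)⁻¹) * w by
          conv_lhs => rw [← hwt]
          rw [mul_inv_rev, mul_inv_rev, hwi]
          simp only [mul_assoc]
          simp only [hcancel], torSz_conj_uniEl]
      exact hLW _ (uniEl_mem hS _ _)
  have hnormal : L.Normal := by
    refine ⟨fun z hz k => ?_⟩
    rcases bruhat hS k with ⟨c, d, ν, rfl⟩ | ⟨x', y', c, d, ν, rfl⟩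
    · rw [show (uniEl hS c d * torSz hS ν) * z * (uniEl hS c d * torSz hS ν)⁻¹ =
        uniEl hS c d * (torSz hS ν * z * (torSz hS ν)⁻¹) * (uniEl hS c d)⁻¹ by group]
      exact hu _ (hT ν z hz) _ (uniEl_mem hS c d)
    · rw [show (uniEl hS x' y' * w * (uniEl hS c d * torSz hS ν)) * z *
        (uniEl hS x' y' * w * (uniEl hS c d * torSz hS ν))⁻¹ = uniEl hS x' y' *
          (w * (uniEl hS c d * (torSz hS ν * z * (torSz hS ν)⁻¹) * (uniEl hS c d)⁻¹) * w⁻¹) *
            (uniEl hS x' y')⁻¹ by group]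
      exact hu _ (hw _ (hu _ (hT ν z hz) _ (uniEl_mem hS c d))) _ (uniEl_mem hS x' y')
  rcases (isSimpleGroup_sz hS).eq_bot_or_eq_top_of_normal L hnormal with h | h
  · exfalso
    have h1 : uniEl hS 0 1 ∈ L := hLU (uniEl_mem hS 0 1)
    rw [h, Subgroup.mem_bot, ← uniEl_zero hS, uniEl_eq_iff] at h1
    exact one_ne_zero h1.2
  · exact top_le_iff.1 (h ▸ hLM)

/-- In the Suzuki group with q = 2^(2m+1), m ≥ 1 (realised as the stabiliser in SL₄ of the Suzuki–Tits ovoid), the normalizer of a Sylow 2-subgroup P is a maximal subgroup and is the only maximal subgroup containing P. -/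
theorem result {F : Type*} [Field F] [Fintype F] {m : ℕ} (hm : 1 ≤ m) (hF : Fintype.card F = 2 ^ (2 * m + 1)) (P : Sylow 2 ↥(Cfsg.Sz F m)) :
    IsCoatom (Subgroup.normalizer ((P : Subgroup ↥(Cfsg.Sz F m)) : Set ↥(Cfsg.Sz F m))) ∧
    ∀ M : Subgroup ↥(Cfsg.Sz F m), IsCoatom M → (P : Subgroup ↥(Cfsg.Sz F m)) ≤ M → M = Subgroup.normalizer ((P : Subgroup ↥(Cfsg.Sz F m)) : Set ↥(Cfsg.Sz F m)) := by
  have hS : SzField F m := ⟨hm, hF⟩
  obtain ⟨k, hk⟩ := exists_conj_sylow hS P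
  set σ := MulAut.conj k with hσ
  have hN : Subgroup.normalizer ((P : Subgroup ↥(Cfsg.Sz F m)) : Set ↥(Cfsg.Sz F m)) =
      (Subgroup.normalizer (uniSub hS : Set ↥(Cfsg.Sz F m))).map σ.toMonoidHom := by
    rw [hk, Subgroup.map_equiv_normalizer_eq]
  have hne : Subgroup.normalizer ((P : Subgroup ↥(Cfsg.Sz F m)) : Set ↥(Cfsg.Sz F m)) ≠ ⊤ := by
    intro h
    rw [hN, ← Subgroup.map_top_of_surjective σ.toMonoidHom σ.surjective] at h
    have h2 := Subgroup.map_injective σ.injective h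
    rw [normalizer_uniSub hS] at h2
    have h3 : weylEl hS ∈ MulAction.stabilizer (Cfsg.Sz F m) (Cfsg.suzukiPointInfinity F) :=
      h2 ▸ Subgroup.mem_top _
    exact infinity_ne_zero (weyl_smul_infinity.symm.trans h3).symm
  have key : ∀ M : Subgroup ↥(Cfsg.Sz F m), (P : Subgroup ↥(Cfsg.Sz F m)) ≤ M →
      M ≤ Subgroup.normalizer ((P : Subgroup ↥(Cfsg.Sz F m)) : Set ↥(Cfsg.Sz F m)) ∨ M = ⊤ := by
    intro M hM
    rcases overgroup hS (M.comap σ.toMonoidHom)
      (fun x hx => hM (hk ▸ ⟨x, hx, rfl⟩)) with h | h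
    · left
      intro x hx
      obtain ⟨y, rfl⟩ := σ.surjective x
      rw [hN]
      exact ⟨y, h hx, rfl⟩
    · right
      refine top_le_iff.1 fun x _ => ?_
      obtain ⟨y, rfl⟩ := σ.surjective x
      have : y ∈ M.comap σ.toMonoidHom := h ▸ Subgroup.mem_top _
      exact this
  refine ⟨⟨hne, fun M hlt => ?_⟩, fun M hM hPM => ?_⟩
  · rcases key M (Subgroup.le_normalizer.trans hlt.le) with h | h
    · exact absurd h hlt.not_ge
    · exact h
  · rcases key M hPM with h | h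
    · rcases lt_or_eq_of_le h with h' | h'
      · exact absurd (hM.2 _ h') hne
      · exact h'
    · exact absurd h hM.1

end Cfsg.Agent.S2247
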