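import Cfsg.Statements.S2250
import Cfsg.Agent.S2234
import Cfsg.Agent.Forms.SymplecticOrder
import Cfsg.Agent.Linear.Basic
-- import your own Cfsg.Agent.* helpers here

set_option autoImplicit false
open Cfsg

namespace Cfsg.Agent.S2250

open Matrix

variable {F : Type*} [Field F] {n : ℕ}

/-- Block diagonal sum of `n` copies of `SL₂`. -/
def pairMat (a : Fin n → Matrix.SpecialLinearGroup (Fin 2) F) :
    Matrix (Fin n ⊕ Fin n) (Fin n ⊕ Fin n) F :=
  fromBlocks (diagonal fun i => (a i).1 0 0) (diagonal fun i => (a i).1 0 1)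
    (diagonal fun i => (a i).1 1 0) (diagonal fun i => (a i).1 1 1)

theorem pairMat_mem (a : Fin n → Matrix.SpecialLinearGroup (Fin 2) F) :
    pairMat a ∈ Matrix.symplecticGroup (Fin n) F := by
  rw [SymplecticGroup.mem_iff, pairMat, Matrix.J, fromBlocks_transpose, fromBlocks_multiply,
    fromBlocks_multiply]
  simp only [diagonal_transpose, mul_zero, zero_mul, mul_one, mul_neg, add_zero, zero_add,
    neg_mul, diagonal_mul_diagonal]
  have hd : ∀ i, (a i).1 0 0 * (a i).1 1 1 - (a i).1 0 1 * (a i).1 1 0 = 1 := fun i => by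
    rw [← Matrix.det_fin_two]; exact (a i).2
  congr 1 <;> ext i j <;> rcases eq_or_ne i j with rfl | h <;> simp [Matrix.one_apply, *]
  all_goals first | ring1 | linear_combination hd i | linear_combination -hd i

/-- The homomorphism `SL₂ ^ n → Sp_{2n}`. -/
def pairHom : (Fin n → Matrix.SpecialLinearGroup (Fin 2) F) →* Matrix.symplecticGroup (Fin n) F where
  toFun a := ⟨pairMat a, pairMat_mem a⟩
  map_one' := Subtype.ext (by
    show pairMat 1 = 1
    simp [pairMat])
  map_mul' a b := Subtype.ext (by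
    show pairMat (a * b) = pairMat a * pairMat b
    simp only [pairMat, fromBlocks_multiply, diagonal_mul_diagonal, diagonal_add]
    congr 1 <;> congr 1 <;> funext i <;>
      simp [Matrix.mul_apply, Fin.sum_univ_two])

/-- Permutation matrix. -/
def pm (π : Equiv.Perm (Fin n)) : Matrix (Fin n) (Fin n) F :=
  Matrix.of fun i j => if i = π j then 1 else 0

theorem pm_mul (π ρ : Equiv.Perm (Fin n)) : pm (F := F) π * pm ρ = pm (π * ρ) := by
  ext i k
  simp [pm, Matrix.mul_apply] <;> congr

theorem pm_one : pm (F := F) (1 : Equiv.Perm (Fin n)) = 1 := by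
  ext i j
  simp [pm, Matrix.one_apply] <;> congr

theorem pm_diagonal (π : Equiv.Perm (Fin n)) (d : Fin n → F) :
    pm π * diagonal d = diagonal (fun i => d (π⁻¹ i)) * pm π := by
  ext i j
  rw [mul_diagonal, diagonal_mul]
  simp only [pm, Matrix.of_apply]
  split_ifs with h
  · subst h; simp
  · simp

theorem pm_transpose (π : Equiv.Perm (Fin n)) : (pm (F := F) π)ᵀ = pm π⁻¹ := by
  ext i j
  simp only [pm, transpose_apply, Matrix.of_apply]
  congr 1
  simp only [eq_iff_iff]
  constructor <;> rintro rfl <;> simp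

/-- The homomorphism `S_n → Sp_{2n}`. -/
def permHom : Equiv.Perm (Fin n) →* Matrix.symplecticGroup (Fin n) F where
  toFun π := ⟨fromBlocks (pm π) 0 0 (pm π), by
    rw [SymplecticGroup.mem_iff, Matrix.J, fromBlocks_transpose, fromBlocks_multiply,
      fromBlocks_multiply]
    simp [pm_transpose, pm_mul, pm_one]⟩
  map_one' := Subtype.ext (by simp [pm_one])
  map_mul' π ρ := Subtype.ext (by
    show _ = fromBlocks (pm π) 0 0 (pm π) * fromBlocks (pm ρ) 0 0 (pm ρ)
    simp [fromBlocks_multiply, pm_mul])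

/-- Permuting the factors. -/
def permAct : Equiv.Perm (Fin n) →* MulAut (Fin n → Matrix.SpecialLinearGroup (Fin 2) F) where
  toFun π :=
    { toFun := fun a i => a (π⁻¹ i)
      invFun := fun a i => a (π i)
      left_inv := fun a => by ext1 i; simp
      right_inv := fun a => by ext1 i; simp
      map_mul' := fun a b => rfl }
  map_one' := by ext1 a; rfl
  map_mul' π ρ := by ext1 a; rfl

/-- `SL₂ wr S_n → Sp_{2n}`. -/
def wreathHom : SemidirectProduct (Fin n → Matrix.SpecialLinearGroup (Fin 2) F)
    (Equiv.Perm (Fin n)) permAct →* Matrix.symplecticGroup (Fin n) F :=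
  SemidirectProduct.lift pairHom permHom fun π => MonoidHom.ext fun a => by
    show pairHom (permAct π a) = permHom π * pairHom a * (permHom π)⁻¹
    rw [eq_mul_inv_iff_mul_eq]
    apply Subtype.ext
    show pairMat (permAct π a) * fromBlocks (pm π) 0 0 (pm π) =
      fromBlocks (pm π) 0 0 (pm π) * pairMat a
    simp only [pairMat, fromBlocks_multiply, mul_zero, zero_mul, add_zero, zero_add, pm_diagonal]
    rfl

theorem wreathHom_injective : Function.Injective (wreathHom (F := F) (n := n)) := by
  rw [injective_iff_map_eq_one]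
  rintro ⟨a, π⟩ h
  have h' : pairMat a * fromBlocks (pm π) 0 0 (pm π) = 1 := congrArg Subtype.val h
  have hπ : π = 1 := by
    refine Equiv.ext fun k => ?_
    by_contra hk
    rw [pairMat, fromBlocks_multiply, ← fromBlocks_one, fromBlocks_inj] at h'
    have h1 := congrFun (congrFun h'.1 k) k
    rw [Matrix.add_apply, Matrix.mul_zero, Matrix.zero_apply, add_zero, diagonal_mul,
      Matrix.one_apply_eq, show pm (F := F) π k k = 0 from if_neg (Ne.symm hk), mul_zero] at h1
    exact zero_ne_one h1
  subst hπ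
  simp only [pm_one, fromBlocks_one, mul_one, pairMat] at h'
  rw [← fromBlocks_one, fromBlocks_inj] at h'
  obtain ⟨h1, h2, h3, h4⟩ := h'
  refine SemidirectProduct.ext (funext fun i => Subtype.ext ?_) rfl
  ext r c
  fin_cases r <;> fin_cases c
  · simpa using congrFun (congrFun h1 i) i
  · simpa using congrFun (congrFun h2 i) i
  · simpa using congrFun (congrFun h3 i) i
  · simpa using congrFun (congrFun h4 i) i

theorem range_le_normalizer :
    (wreathHom (F := F) (n := n)).range ≤
      Subgroup.normalizer ((Cfsg.Agent.S2234.diagSigns F n : Subgroup _) :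
        Set (Matrix.symplecticGroup (Fin n) F)) := by
  have key : ∀ x ∈ (wreathHom (F := F) (n := n)).range, ∀ e ∈ Cfsg.Agent.S2234.diagSigns F n,
      x * e * x⁻¹ ∈ Cfsg.Agent.S2234.diagSigns F n := by
    rintro _ ⟨⟨a, π⟩, rfl⟩ e ⟨d, hd, he⟩
    refine ⟨fun i => d (π⁻¹ i), fun i => hd _, ?_⟩
    set y : Matrix.symplecticGroup (Fin n) F := wreathHom ⟨a, π⟩
    have hy : y.1 * e.1 = diagonal (Sum.elim (fun i => d (π⁻¹ i)) fun i => d (π⁻¹ i)) * y.1 := by
      show pairMat a * fromBlocks (pm π) 0 0 (pm π) * e.1 =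
        _ * (pairMat a * fromBlocks (pm π) 0 0 (pm π))
      rw [he, ← fromBlocks_diagonal, ← fromBlocks_diagonal, pairMat]
      simp only [fromBlocks_multiply, mul_zero, zero_mul, add_zero, zero_add, mul_assoc, pm_diagonal]
      simp only [← mul_assoc, diagonal_mul_diagonal, mul_comm (d _)]
    show y.1 * e.1 * (y⁻¹).1 = _
    rw [hy, mul_assoc, ← Submonoid.coe_mul, mul_inv_cancel, Submonoid.coe_one, mul_one]
  intro x hx
  rw [Subgroup.mem_normalizer_iff]
  refine fun e => ⟨key x hx e, fun h => ?_⟩
  have := key x⁻¹ (Subgroup.inv_mem _ hx) _ h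
  simpa [mul_assoc] using this

theorem factorization_card_le [Fintype F] (hF : Odd (Fintype.card F)) :
    (Nat.card (Matrix.symplecticGroup (Fin n) F)).factorization 2 ≤
      (Nat.card (SemidirectProduct (Fin n → Matrix.SpecialLinearGroup (Fin 2) F)
        (Equiv.Perm (Fin n)) (permAct (F := F)))).factorization 2 := by
  set q := Fintype.card F with hq
  have h1q : 1 < q := Fintype.one_lt_card
  have hq2 : ¬ 2 ∣ q := by rw [Nat.odd_iff] at hF; omega
  have hpos : ∀ j, 1 ≤ j → q ^ (2 * j) - 1 ≠ 0 := fun j hj => by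
    have : 1 < q ^ (2 * j) := Nat.one_lt_pow (by omega) h1q
    omega
  have hv : ∀ j, 1 ≤ j → (q ^ (2 * j) - 1).factorization 2 =
      (q ^ 2 - 1).factorization 2 + j.factorization 2 := by
    intro j hj
    simp only [Nat.factorization_def _ Nat.prime_two]
    have e1 := padicValNat.pow_two_sub_one h1q hq2 (n := 2 * j) (by omega) (even_two_mul j)
    have e2 := padicValNat.pow_two_sub_one h1q hq2 (n := 2) (by omega) even_two
    rw [padicValNat.mul two_ne_zero (by omega), padicValNat.self one_lt_two] at e1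
    rw [padicValNat.self one_lt_two] at e2
    omega
  rw [CfsgLib.Forms.card_symplecticGroup, SemidirectProduct.card, Nat.card_perm, Nat.card_fin,
    Nat.card_fun, CfsgLib.Linear.card_SL_two, Nat.card_fin, ← hq,
    Nat.factorization_mul (by positivity) (Finset.prod_ne_zero_iff.2 fun i _ => hpos _ (by omega)),
    Nat.factorization_mul (pow_ne_zero _ (mul_ne_zero (by omega) (hpos 1 le_rfl)))
      (Nat.factorial_ne_zero n),
    Nat.factorization_pow, Nat.factorization_pow,
    Nat.factorization_mul (by omega) (hpos 1 le_rfl),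
    Nat.factorization_prod (fun i _ => hpos _ (by omega)), ← Finset.prod_range_add_one_eq_factorial,
    Nat.factorization_prod (fun i _ => by omega)]
  simp only [Finsupp.coe_add, Finsupp.coe_smul, Pi.add_apply, Pi.smul_apply, Finsupp.coe_finsetSum,
    Finset.sum_apply, smul_eq_mul, Nat.factorization_eq_zero_of_not_dvd hq2, mul_zero, zero_add]
  rw [Finset.sum_congr rfl fun i _ => hv (i + 1) (by omega), Finset.sum_add_distrib, Finset.sum_const,
    Finset.card_range, smul_eq_mul]

/-- The normal 2-rank of the symplectic group over a finite field of odd order: for n ≥ 1 and S a Sylow 2-subgroup of Sp_{2n}(F), the largest rank of an elementary abelian subgroup of S that is normal in S equals n. -/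
theorem result {F : Type*} [Field F] [Fintype F] (hF : Odd (Fintype.card F)) (n : ℕ) (hn : 1 ≤ n) (S : Sylow 2 ↥(Matrix.symplecticGroup (Fin n) F)) :
    ((∃ E : Subgroup ↥(S : Subgroup ↥(Matrix.symplecticGroup (Fin n) F)), E.Normal ∧ Cfsg.IsElementaryAbelian 2 E ∧ 2 ^ (n) ≤ Nat.card ↥E) ∧
      ∀ E : Subgroup ↥(S : Subgroup ↥(Matrix.symplecticGroup (Fin n) F)), E.Normal → Cfsg.IsElementaryAbelian 2 E → Nat.card ↥E ≤ 2 ^ (n)) := by
  classical
  have : Fact (Nat.Prime 2) := ⟨Nat.prime_two⟩
  obtain ⟨⟨A, hAc, hAe, hAn⟩, hle⟩ := Cfsg.Agent.S2234.result hF n hn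
  refine ⟨?_, fun E _ hE => ?_⟩
  · set G := Matrix.symplecticGroup (Fin n) F
    set E₀ := Cfsg.Agent.S2234.diagSigns F n with hE₀
    set N := Subgroup.normalizer ((E₀ : Subgroup G) : Set G) with hN
    have hdvd : (Nat.card G).factorization 2 ≤ (Nat.card N).factorization 2 := by
      refine (factorization_card_le hF).trans ?_
      rw [Nat.card_congr (MonoidHom.ofInjective wreathHom_injective).toEquiv]
      exact (Nat.factorization_le_iff_dvd Nat.card_pos.ne' Nat.card_pos.ne').2
        (Subgroup.card_dvd_of_le range_le_normalizer) 2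
    obtain ⟨Q⟩ : Nonempty (Sylow 2 N) := Sylow.nonempty
    set Q' : Subgroup G := (Q : Subgroup N).map N.subtype with hQ'
    have hQc : Nat.card Q' = 2 ^ (Nat.card G).factorization 2 := by
      rw [hQ', Subgroup.card_map_of_injective N.subtype_injective, Q.card_eq_multiplicity]
      congr 1
      exact le_antisymm ((Nat.factorization_le_iff_dvd Nat.card_pos.ne' Nat.card_pos.ne').2
        (Subgroup.card_subgroup_dvd_card N) 2) hdvd
    obtain ⟨g, hg⟩ := MulAction.exists_smul_eq G (Sylow.ofCard Q' hQc) S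
    have hab : IsMulCommutative E₀ := by
      refine ⟨⟨?_⟩⟩
      rintro ⟨x, d, -, hx⟩ ⟨y, e, -, hy⟩
      apply Subtype.ext
      apply Subtype.ext
      show x.1 * y.1 = y.1 * x.1
      rw [hx, hy, Matrix.diagonal_mul_diagonal, Matrix.diagonal_mul_diagonal]
      exact congrArg Matrix.diagonal (funext fun i => mul_comm _ _)
    have hexp : ∀ x ∈ E₀, x ^ 2 = 1 := by
      rintro x ⟨d, hd, hx⟩
      apply Subtype.ext
      rw [pow_two]
      show x.1 * x.1 = 1
      rw [hx, Matrix.diagonal_mul_diagonal, ← Matrix.diagonal_one]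
      exact congrArg Matrix.diagonal (funext fun i => by cases i <;> exact hd _)
    have hEQ : E₀ ≤ Q' := by
      have hp : IsPGroup 2 (E₀.subgroupOf N) := fun x => ⟨1, by
        rw [pow_one]; exact Subtype.ext (Subtype.ext (hexp _ x.2))⟩
      have hnorm : (E₀.subgroupOf N).Normal :=
        ⟨fun x hx y => (Subgroup.mem_normalizer_iff.1 y.2 x.1).1 hx⟩
      intro x hx
      obtain ⟨T, hT⟩ := hp.exists_le_sylow
      obtain ⟨k, hk⟩ := MulAction.exists_smul_eq N T Q
      have hxN : x ∈ N := Subgroup.le_normalizer hx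
      refine ⟨⟨x, hxN⟩, ?_, rfl⟩
      have h1 : k⁻¹ * ⟨x, hxN⟩ * k⁻¹⁻¹ ∈ E₀.subgroupOf N := hnorm.conj_mem _ hx k⁻¹
      rw [← hk, Sylow.coe_subgroup_smul]
      exact ⟨_, hT h1, by
        show MulAut.conj k (k⁻¹ * ⟨x, hxN⟩ * k⁻¹⁻¹) = ⟨x, hxN⟩
        simp [mul_assoc]⟩
    set E₁ : Subgroup G := E₀.map (MulAut.conj g).toMonoidHom with hE₁
    have hSeq : (S : Subgroup G) = Q'.map (MulAut.conj g).toMonoidHom := by
      rw [← hg, Sylow.coe_subgroup_smul, Sylow.coe_ofCard]
      rfl
    have hE₁S : E₁ ≤ (S : Subgroup G) := hSeq ▸ Subgroup.map_mono hEQ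
    refine ⟨E₁.subgroupOf (S : Subgroup G), ⟨fun x hx y => ?_⟩, ⟨⟨⟨?_⟩⟩, ?_⟩, ?_⟩
    · obtain ⟨e, he, hex⟩ := hx
      have hy' : (y : G) ∈ Q'.map (MulAut.conj g).toMonoidHom := hSeq ▸ y.2
      obtain ⟨z, ⟨z', -, rfl⟩, hzy⟩ := hy'
      refine ⟨(z' : G) * e * (z' : G)⁻¹, (Subgroup.mem_normalizer_iff.1 z'.2 e).1 he, ?_⟩
      show MulAut.conj g _ = (y : G) * x.1 * (y : G)⁻¹
      rw [map_mul, map_mul, map_inv, show MulAut.conj g e = x.1 from hex,
        show MulAut.conj g (z' : G) = y from hzy]
    · rintro ⟨x, e, he, hex⟩ ⟨y, e', he', hey⟩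
      apply Subtype.ext
      apply Subtype.ext
      show x.1 * y.1 = y.1 * x.1
      have hc : e * e' = e' * e := congrArg Subtype.val (hab.is_comm.comm ⟨e, he⟩ ⟨e', he'⟩)
      rw [← show MulAut.conj g e = x.1 from hex, ← show MulAut.conj g e' = y.1 from hey,
        ← map_mul, hc, map_mul]
    · rintro x ⟨e, he, hex⟩
      apply Subtype.ext
      show x.1 ^ 2 = 1
      rw [← show MulAut.conj g e = x.1 from hex, ← map_pow, hexp e he, map_one]
    · have hsign : 2 ^ n ≤ Nat.card E₀ := by
        let f : (Fin n → Bool) → E₀ := fun ε =>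
          ⟨⟨_, Cfsg.Agent.S2234.diag_mem (fun i => if ε i then (1 : F) else -1)
            fun i => by split_ifs <;> simp⟩, _, fun i => by split_ifs <;> simp, rfl⟩
        have hne : (1 : F) ≠ -1 := fun e => by
          have h2 : (2 : F) ≠ 0 := by
            refine Ring.two_ne_zero fun h => ?_
            have := FiniteField.even_card_of_char_two h
            rw [Nat.odd_iff] at hF
            omega
          exact h2 (by linear_combination e)
        have hf : Function.Injective f := by
          intro ε ε' h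
          funext i
          have h' := congrFun (Matrix.diagonal_injective
            (congrArg Subtype.val (congrArg Subtype.val h))) (Sum.inl i)
          simp only [Sum.elim_inl] at h'
          cases hi : ε i <;> cases hi' : ε' i <;> simp_all
        have := Nat.card_le_card_of_injective f hf
        simpa [Nat.card_eq_fintype_card, Fintype.card_bool] using this
      rwa [Nat.card_congr (Subgroup.subgroupOfEquivOfLe hE₁S).toEquiv, hE₁,
        Subgroup.card_map_of_injective (MulAut.conj g).injective]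
  · rw [← Subgroup.card_map_of_injective (K := E) (f := (S : Subgroup (Matrix.symplecticGroup (Fin n) F)).subtype) Subtype.val_injective]
    refine hle _ ⟨⟨?_⟩⟩ ?_
    · rintro ⟨_, x, hx, rfl⟩ ⟨_, y, hy, rfl⟩
      have hc : x * y = y * x := congrArg Subtype.val (hE.1.is_comm.comm ⟨x, hx⟩ ⟨y, hy⟩)
      apply Subtype.ext
      show (x * y).1 = (y * x).1
      rw [hc]
    · rintro _ ⟨x, hx, rfl⟩
      rw [← map_pow, hE.2 x hx, map_one]

end Cfsg.Agent.S2250
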