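import Cfsg.Statements.S2251
import Cfsg.Agent.SuzukiSub.Classification

set_option autoImplicit false
open Cfsg

namespace Cfsg.Agent.S2251

open CfsgLib.Suzuki CfsgLib.SuzukiLocal CfsgLib.SuzukiSub

/-- The subgroups of the Suzuki group: with q = 2^(2m+1), m ≥ 1, r = 2^m and the group realised as the stabiliser in SL₄ of the Suzuki–Tits ovoid, every proper subgroup is contained in the normalizer of a Sylow 2-subgroup, or in the normalizer of a cyclic subgroup of order q − 1, q + 2r + 1 or q − 2r + 1, or in a subgroup isomorphic to a smaller Suzuki group Sz(s) with s = 2^(2k+1) ≥ 8 and 2k+1 a proper divisor of 2m+1. -/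
theorem result {F : Type*} [Field F] [Fintype F] {m : ℕ} (hm : 1 ≤ m) (hF : Fintype.card F = 2 ^ (2 * m + 1)) (M : Subgroup ↥(Cfsg.Sz F m)) (hM : M ≠ ⊤) :
    (∃ P : Sylow 2 ↥(Cfsg.Sz F m), M ≤ Subgroup.normalizer ((P : Subgroup ↥(Cfsg.Sz F m)) : Set ↥(Cfsg.Sz F m))) ∨
    (∃ U : Subgroup ↥(Cfsg.Sz F m), IsCyclic ↥U ∧ Nat.card ↥U ∈ ({2 ^ (2 * m + 1) - 1, 2 ^ (2 * m + 1) + 2 ^ (m + 1) + 1, 2 ^ (2 * m + 1) - 2 ^ (m + 1) + 1} : Set ℕ) ∧
      M ≤ Subgroup.normalizer (U : Set ↥(Cfsg.Sz F m))) ∨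
    (∃ (K : Type) (_ : Field K) (_ : Fintype K) (k : ℕ), 1 ≤ k ∧ k < m ∧ Fintype.card K = 2 ^ (2 * k + 1) ∧ 2 * k + 1 ∣ 2 * m + 1 ∧
      ∃ S : Subgroup ↥(Cfsg.Sz F m), Nonempty (↥S ≃* ↥(Cfsg.Sz K k)) ∧ M ≤ S) := by
  classical
  have hS : SzField F m := ⟨hm, hF⟩
  have : Fact (Nat.Prime 2) := ⟨Nat.prime_two⟩
  obtain ⟨A, hA⟩ := exists_tori hS
  rcases subgroup_cases hA M with ⟨p, hp⟩ | ⟨x, hx⟩ | ⟨k, g, hk, hdiv, e⟩
  · left
    obtain ⟨l, hl⟩ := (sz_pretransitive hS).exists_smul_eq ovoidInf p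
    refine ⟨l • uniSylow hS, hp.trans fun y hy => ?_⟩
    rw [Sylow.coe_subgroup_smul, uniSylow_coe hS]
    show y ∈ Subgroup.normalizer
      (((uniSub hS).map (MulAut.conj l).toMonoidHom : Subgroup _) : Set ↥(Cfsg.Sz F m))
    rw [← Subgroup.map_equiv_normalizer_eq, Subgroup.mem_map_equiv, MulAut.conj_symm_apply,
      normalizer_uniSub hS]
    have h := conj_mem_stabilizer (k := l⁻¹) (MulAction.mem_stabilizer_iff.1 hy)
    rw [inv_inv, ← hl, inv_smul_smul] at h
    exact congrArg Subtype.val h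
  · right; left
    have hG : GoodTorus (torOf x) (eT x.1) := (hA.good x.1).map_conj x.2.out
    refine ⟨torOf x, hG.cyclic, ?_, hx.trans (stab_eq_normalizer hA x).le⟩
    rw [torOf, ← Nat.card_congr ((A x.1).equivMapOfInjective (MulAut.conj x.2.out).toMonoidHom
      (MulAut.conj x.2.out).injective).toEquiv, hA.card, ← hF]
    obtain ⟨i, c⟩ := x
    fin_cases i <;> simp [kT]
  · right; right
    have hkm : k ≤ m := by
      have := Nat.le_of_dvd (by omega) hdiv
      omega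
    have hkne : k ≠ m := by
      rintro rfl
      refine hM ?_
      rw [fldSub_self] at e
      exact Subgroup.map_injective (MulAut.conj g).injective
        (e.trans (Subgroup.map_top_of_surjective _ (MulAut.conj g).surjective).symm)
    let := Fintype.ofFinite (GaloisField 2 (2 * k + 1))
    have hK : SzField (GaloisField 2 (2 * k + 1)) k :=
      ⟨hk, by rw [← Nat.card_eq_fintype_card]; exact GaloisField.card 2 _ (by omega)⟩
    obtain ⟨ι⟩ := exists_ringHom hS hK hdiv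
    refine ⟨GaloisField 2 (2 * k + 1), inferInstance, this, k, hk, lt_of_le_of_ne hkm hkne,
      hK.card_eq, hdiv, M, ?_, le_rfl⟩
    exact ⟨(M.equivMapOfInjective (MulAut.conj g).toMonoidHom (MulAut.conj g).injective).trans
      ((MulEquiv.subgroupCongr (e.trans (range_szHom hS hK ι).symm)).trans
        (MonoidHom.ofInjective (szHom_injective hS hK ι)).symm)⟩

end Cfsg.Agent.S2251
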