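import Cfsg.Statements.S2254
import Cfsg.Agent.NilpotentPerm.Extremal
-- import your own Cfsg.Agent.* helpers here

set_option autoImplicit false
open Cfsg

namespace Cfsg.Agent.S2254

/-- Let n ≡ 3 (mod 4). Then every nilpotent subgroup of the symmetric group on n letters has order at most 3 times the order of a Sylow 2-subgroup of the symmetric group on n − 3 letters; the bound is attained by a nilpotent subgroup isomorphic to the direct product of such a Sylow 2-subgroup with a cyclic group of order 3; and any two nilpotent subgroups attaining the bound are conjugate. -/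
theorem result  (n : ℕ) (hn : n % 4 = 3)
    (P : Sylow 2 (Equiv.Perm (Fin (n - 3)))) :
    (∀ N : Subgroup (Equiv.Perm (Fin n)), Group.IsNilpotent N → Nat.card N ≤ 3 * Nat.card P) ∧
    (∃ M : Subgroup (Equiv.Perm (Fin n)), Group.IsNilpotent M ∧ Nat.card M = 3 * Nat.card P ∧
      Nonempty (M ≃* (↥(P : Subgroup (Equiv.Perm (Fin (n - 3)))) × Multiplicative (ZMod 3)))) ∧
    (∀ N₁ N₂ : Subgroup (Equiv.Perm (Fin n)), Group.IsNilpotent N₁ → Group.IsNilpotent N₂ →
      Nat.card N₁ = 3 * Nat.card P → Nat.card N₂ = 3 * Nat.card P →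
      ∃ g : Equiv.Perm (Fin n), N₂ = N₁.map (MulAut.conj g).toMonoidHom) := by
  classical
  have : Fact (Nat.Prime 2) := ⟨Nat.prime_two⟩
  have : Fact (Nat.Prime 3) := ⟨Nat.prime_three⟩
  have hP : Nat.card P = 2 ^ CfsgLib.NilpotentPerm.v (n - 3) := by
    rw [P.card_eq_multiplicity, Nat.card_perm, Nat.card_fin]
    rfl
  refine ⟨fun N hN => ?_, ?_, fun N₁ N₂ hN₁ hN₂ h₁ h₂ => ?_⟩
  · have h := CfsgLib.NilpotentPerm.two_mul_card_le n N hN
      (by rw [Nat.card_eq_fintype_card, Fintype.card_fin])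
    rw [CfsgLib.NilpotentPerm.cap_of_eq hn] at h
    rw [hP]
    omega
  · let e : Fin (n - 3) ⊕ Fin 3 ≃ Fin n := finSumFinEquiv.trans (finCongr (by omega))
    let f : Equiv.Perm (Fin (n - 3)) × Equiv.Perm (Fin 3) →* Equiv.Perm (Fin n) :=
      (e.permCongrHom.toMonoidHom).comp (Equiv.Perm.sumCongrHom (Fin (n - 3)) (Fin 3))
    have hf : Function.Injective f :=
      e.permCongrHom.injective.comp Equiv.Perm.sumCongrHom_injective
    let Z : Subgroup (Equiv.Perm (Fin 3)) := Subgroup.zpowers (finRotate 3)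
    have hZ : Nat.card Z = 3 := by
      rw [Nat.card_zpowers]
      exact orderOf_eq_prime (by decide) (by decide)
    let iso : ↥(((P : Subgroup (Equiv.Perm (Fin (n - 3)))).prod Z).map f) ≃*
        ↥(P : Subgroup (Equiv.Perm (Fin (n - 3)))) × Multiplicative (ZMod 3) :=
      ((Subgroup.equivMapOfInjective _ f hf).symm.trans (Subgroup.prodEquiv _ Z)).trans
        (MulEquiv.prodCongr (MulEquiv.refl _)
          ((zmodCyclicMulEquiv (G := Z) inferInstance).symm.trans
            (AddEquiv.toMultiplicative (ZMod.ringEquivCongr hZ).toAddEquiv)))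
    have : Group.IsNilpotent P := P.isPGroup'.isNilpotent
    have : Group.IsNilpotent (Multiplicative (ZMod 3)) := inferInstance
    refine ⟨_, Group.nilpotent_of_mulEquiv iso.symm, ?_, ⟨iso⟩⟩
    rw [Nat.card_congr iso.toEquiv, Nat.card_prod, mul_comm]
    simp
  · have hX : Fintype.card (Fin n) % 4 = 3 := by rwa [Fintype.card_fin]
    obtain ⟨c₁, R₁, hc₁, hR₁, hk₁, rfl⟩ := CfsgLib.NilpotentPerm.extremal N₁ hN₁ hX
      (by rw [h₁, hP, Fintype.card_fin])
    obtain ⟨c₂, R₂, hc₂, hR₂, hk₂, rfl⟩ := CfsgLib.NilpotentPerm.extremal N₂ hN₂ hX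
      (by rw [h₂, hP, Fintype.card_fin])
    exact CfsgLib.NilpotentPerm.exists_conj hc₁ hc₂ hR₁ hR₂ hk₁ hk₂

end Cfsg.Agent.S2254
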