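import Cfsg.Statements.S2255
import Cfsg.Agent.NilpotentPerm.Extremal
-- import your own Cfsg.Agent.* helpers here

set_option autoImplicit false
open Cfsg

namespace Cfsg.Agent.S2255

/-- Twice a Sylow 2-subgroup of the alternating group. -/
theorem two_mul_card_sylow {m : ℕ} (hm : 2 ≤ m) (P : Sylow 2 (alternatingGroup (Fin m))) :
    2 * Nat.card P = 2 ^ CfsgLib.NilpotentPerm.v m := by
  have : Fact (Nat.Prime 2) := ⟨Nat.prime_two⟩
  have : Nontrivial (Fin m) := Fin.nontrivial_iff_two_le.2 hm
  have h := two_mul_nat_card_alternatingGroup (α := Fin m)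
  rw [Nat.card_perm, Nat.card_fin] at h
  rw [P.card_eq_multiplicity, CfsgLib.NilpotentPerm.v, ← h,
    Nat.factorization_mul two_ne_zero Nat.card_pos.ne', Finsupp.coe_add, Pi.add_apply,
    Nat.prime_two.factorization_self, pow_add, pow_one]

/-- Let n be a natural number not congruent to 3 modulo 4, with n ∉ {5, 6, 9}. Then every nilpotent subgroup of the alternating group on n letters has order at most the order of a Sylow 2-subgroup of the alternating group (so the nilpotent subgroups of largest order are exactly the Sylow 2-subgroups). -/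
theorem result  (n : ℕ) (hn : n % 4 ≠ 3)
    (h5 : n ≠ 5) (h6 : n ≠ 6) (h9 : n ≠ 9)
    (N : Subgroup (alternatingGroup (Fin n))) (hN : Group.IsNilpotent N)
    (P : Sylow 2 (alternatingGroup (Fin n))) :
    Nat.card N ≤ Nat.card P := by
  classical
  have : Fact (Nat.Prime 2) := ⟨Nat.prime_two⟩
  rcases Nat.lt_or_ge n 2 with hn2 | hn2
  · have : Subsingleton (Fin n) := Fin.subsingleton_iff_le_one.2 (by omega)
    rw [Nat.card_of_subsingleton (1 : N)]
    exact Nat.card_pos
  have hP := two_mul_card_sylow hn2 P
  set N' := N.map (alternatingGroup (Fin n)).subtype with hN'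
  have hcard : Nat.card N' = Nat.card N := Subgroup.card_map_of_injective Subtype.val_injective
  have hNn : Group.IsNilpotent N' := Group.nilpotent_of_surjective
    ((alternatingGroup (Fin n)).subtype.subgroupMap N)
    ((alternatingGroup (Fin n)).subtype.subgroupMap_surjective N)
  have hnX : Nat.card (Fin n) = n := Nat.card_fin n
  rcases CfsgLib.NilpotentPerm.alt_cases N' (Subgroup.map_subtype_le N) hNn with h | h | ⟨M, hM, -, -, hle⟩
  · have hp : IsPGroup 2 N := h.of_equiv
      (N.equivMapOfInjective _ Subtype.val_injective).symm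
    obtain ⟨Q, hQ⟩ := hp.exists_le_sylow
    refine le_of_le_of_eq (Subgroup.card_le_of_le hQ) ?_
    rw [Q.card_eq_multiplicity, P.card_eq_multiplicity]
  · rw [← hcard]
    refine Nat.le_of_mul_le_mul_left ?_ two_pos
    rw [hP]
    by_cases h13 : n = 13
    · subst h13
      have hv : CfsgLib.NilpotentPerm.v 13 = 10 := by
        rw [CfsgLib.NilpotentPerm.v_rec]; norm_num [CfsgLib.NilpotentPerm.v_six]
      rw [hv]
      rcases CfsgLib.NilpotentPerm.odd_card_le_of_odd N' hNn h (by rw [hnX]; decide) with h' | h'
      · rw [hnX, CfsgLib.NilpotentPerm.H_thirteen] at h'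
        have := Nat.le_of_dvd (by norm_num) h'
        omega
      · rw [hnX] at h'
        norm_num [-Nat.card_eq_fintype_card] at h'
        omega
    · exact le_trans (Nat.mul_le_mul_left 2 (CfsgLib.NilpotentPerm.odd_card_le n N' hNn h hnX))
        (CfsgLib.NilpotentPerm.two_mul_three_pow_le hn2 hn h5 h6 h9 h13)
  · have := CfsgLib.NilpotentPerm.two_mul_card_le n M hM hnX
    rw [CfsgLib.NilpotentPerm.cap_of_ne hn] at this
    omega

end Cfsg.Agent.S2255
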