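import Cfsg.Statements.S2256
import Cfsg.Agent.NilpotentPerm.Extremal
-- import your own Cfsg.Agent.* helpers here

set_option autoImplicit false
open Cfsg

namespace Cfsg.Agent.S2256

/-- Twice a Sylow 2-subgroup of the alternating group. -/
theorem two_mul_card_sylow {m : ℕ} (hm : 2 ≤ m) (P : Sylow 2 (alternatingGroup (Fin m))) :
    2 * Nat.card P = 2 ^ CfsgLib.NilpotentPerm.v m := by
  have : Fact (Nat.Prime 2) := ⟨Nat.prime_two⟩
  have : Nontrivial (Fin m) := Fin.nontrivial_iff_two_le.2 hm
  have h := two_mul_nat_card_alternatingGroup (α := Fin m)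
  rw [Nat.card_perm, Nat.card_fin] at h
  rw [P.card_eq_multiplicity, CfsgLib.NilpotentPerm.v, ← h,
    Nat.factorization_mul two_ne_zero Nat.card_pos.ne', Finsupp.coe_add, Pi.add_apply,
    Nat.prime_two.factorization_self, pow_add, pow_one]

theorem odd_lt {n : ℕ} (hn : n % 4 = 3) (h7 : 7 ≤ n) (D : Subgroup (Equiv.Perm (Fin n)))
    (hD : Group.IsNilpotent D) (hodd : Odd (Nat.card D)) :
    2 * Nat.card D < 3 * 2 ^ CfsgLib.NilpotentPerm.v (n - 3) := by
  have hnX : Nat.card (Fin n) = n := Nat.card_fin n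
  rcases Nat.lt_or_ge n 19 with hlt | hge
  · have : Nonempty (Fin n) := ⟨⟨0, by omega⟩⟩
    have hs := CfsgLib.NilpotentPerm.odd_card_le_of_odd D hD hodd
      (by rw [hnX, Nat.odd_iff]; omega)
    rw [hnX] at hs
    interval_cases n <;> first
      | omega
      | (rcases hs with hs | hs <;>
          norm_num [CfsgLib.NilpotentPerm.H_seven, CfsgLib.NilpotentPerm.H_eleven,
            CfsgLib.NilpotentPerm.H_fifteen, CfsgLib.NilpotentPerm.v_four,
            CfsgLib.NilpotentPerm.v_eight, CfsgLib.NilpotentPerm.v_twelve] at hs ⊢ <;>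
          first
            | omega
            | (have := Nat.le_of_dvd (by norm_num) hs; omega))
  · have hd := CfsgLib.NilpotentPerm.odd_card_le n D hD hodd hnX
    obtain ⟨k, rfl⟩ : ∃ k, n = 2 * k + 1 := ⟨n / 2, by omega⟩
    have hv := CfsgLib.NilpotentPerm.v_mod_four hn
    rw [CfsgLib.NilpotentPerm.v_odd] at hv
    rw [show (2 * k + 1 - 1) / 2 = k by omega] at hd
    have h2 : 2 ^ (k + CfsgLib.NilpotentPerm.v k) =
        2 * 2 ^ CfsgLib.NilpotentPerm.v (2 * k + 1 - 3) := by rw [hv, pow_succ, mul_comm]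
    rcases Nat.lt_or_ge k 12 with hk | hk
    · interval_cases k <;> first
        | omega
        | (norm_num [CfsgLib.NilpotentPerm.v_nine, CfsgLib.NilpotentPerm.v_eleven] at h2 hd ⊢ <;> omega)
    · have := CfsgLib.NilpotentPerm.mul_pow_three_le (CfsgLib.NilpotentPerm.two_pow_three_le_four_pow hk)
      have := Nat.two_pow_pos (CfsgLib.NilpotentPerm.v (2 * k + 1 - 3))
      omega

theorem card_inf_alt {n : ℕ} (M : Subgroup (Equiv.Perm (Fin n)))
    (hM : ¬ M ≤ alternatingGroup (Fin n)) :
    2 * Nat.card ↥(M ⊓ alternatingGroup (Fin n)) ≤ Nat.card M := by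
  set K := (M ⊓ alternatingGroup (Fin n)).subgroupOf M with hK
  have h1 : K.index ≠ 1 := fun h => hM fun x hx =>
    (Subgroup.mem_subgroupOf.1 (show (⟨x, hx⟩ : M) ∈ K by
      rw [Subgroup.index_eq_one.1 h]; exact Subgroup.mem_top _)).2
  have h2 : K.index ≠ 0 := Subgroup.index_ne_zero_of_finite
  have h3 := K.card_mul_index
  rw [Nat.card_congr (Subgroup.subgroupOfEquivOfLe (inf_le_left)).toEquiv] at h3
  rw [← h3, mul_comm]
  exact Nat.mul_le_mul_left _ (by omega)

/-- Let n ≡ 3 (mod 4) with n ≥ 7. Then every nilpotent subgroup of the alternating group on n letters has order at most 3 times the order of a Sylow 2-subgroup of the alternating group on n − 3 letters; the bound is attained by a nilpotent subgroup isomorphic to the direct product of such a Sylow 2-subgroup with a cyclic group of order 3; and any two nilpotent subgroups of the alternating group attaining the bound are conjugate in it. -/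
theorem result  (n : ℕ) (hn : n % 4 = 3) (h7 : 7 ≤ n)
    (P : Sylow 2 (alternatingGroup (Fin (n - 3)))) :
    (∀ N : Subgroup (alternatingGroup (Fin n)), Group.IsNilpotent N → Nat.card N ≤ 3 * Nat.card P) ∧
    (∃ M : Subgroup (alternatingGroup (Fin n)), Group.IsNilpotent M ∧ Nat.card M = 3 * Nat.card P ∧
      Nonempty (M ≃* (↥(P : Subgroup (alternatingGroup (Fin (n - 3)))) × Multiplicative (ZMod 3)))) ∧
    (∀ N₁ N₂ : Subgroup (alternatingGroup (Fin n)), Group.IsNilpotent N₁ → Group.IsNilpotent N₂ →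
      Nat.card N₁ = 3 * Nat.card P → Nat.card N₂ = 3 * Nat.card P →
      ∃ g : alternatingGroup (Fin n), N₂ = N₁.map (MulAut.conj g).toMonoidHom) := by
  classical
  have : Fact (Nat.Prime 2) := ⟨Nat.prime_two⟩
  have : Fact (Nat.Prime 3) := ⟨Nat.prime_three⟩
  have : Nontrivial (Fin n) := Fin.nontrivial_iff_two_le.2 (by omega)
  set w := CfsgLib.NilpotentPerm.v (n - 3) with hw
  have hP : 2 * Nat.card P = 2 ^ w := two_mul_card_sylow (by omega) P
  have hw3 : 3 ≤ w := by
    have := CfsgLib.NilpotentPerm.v_mono (show 4 ≤ n - 3 by omega)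
    rw [CfsgLib.NilpotentPerm.v_four] at this
    exact hw ▸ this
  have hnX : Nat.card (Fin n) = n := Nat.card_fin n
  have hmax : ∀ M : Subgroup (Equiv.Perm (Fin n)), Group.IsNilpotent M → Nat.card M ≤ 3 * 2 ^ w := by
    intro M hM
    have := CfsgLib.NilpotentPerm.two_mul_card_le n M hM hnX
    rw [CfsgLib.NilpotentPerm.cap_of_eq hn, ← hw] at this
    omega
  -- the image in the symmetric group
  have himg : ∀ N : Subgroup (alternatingGroup (Fin n)), Group.IsNilpotent N →
      Group.IsNilpotent (N.map (alternatingGroup (Fin n)).subtype) ∧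
      Nat.card (N.map (alternatingGroup (Fin n)).subtype) = Nat.card N := fun N _ =>
    ⟨Group.nilpotent_of_surjective ((alternatingGroup (Fin n)).subtype.subgroupMap N)
      ((alternatingGroup (Fin n)).subtype.subgroupMap_surjective N),
      Subgroup.card_map_of_injective Subtype.val_injective⟩
  have hpow : 8 ≤ 2 ^ w := le_trans (by norm_num) (Nat.pow_le_pow_right two_pos hw3)
  refine ⟨fun N hN => ?_, ?_, fun N₁ N₂ hN₁ hN₂ h₁ h₂ => ?_⟩
  · obtain ⟨hn', hc⟩ := himg N hN
    rcases CfsgLib.NilpotentPerm.alt_cases _ (Subgroup.map_subtype_le N) hn' with h | h | ⟨M, hM, -, -, hle⟩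
    · have hp : IsPGroup 2 N := h.of_equiv
        (N.equivMapOfInjective _ Subtype.val_injective).symm
      obtain ⟨Q, hQ⟩ := hp.exists_le_sylow
      have h1 : Nat.card N ≤ Nat.card Q := Subgroup.card_le_of_le hQ
      have h2 := two_mul_card_sylow (by omega) Q
      rw [CfsgLib.NilpotentPerm.v_mod_four hn, ← hw, pow_succ] at h2
      omega
    · have := odd_lt hn h7 _ hn' h
      rw [hc, ← hw] at this
      omega
    · have := hmax M hM
      omega
  · let e : Fin (n - 3) ⊕ Fin 3 ≃ Fin n := finSumFinEquiv.trans (finCongr (by omega))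
    let f : Equiv.Perm (Fin (n - 3)) × Equiv.Perm (Fin 3) →* Equiv.Perm (Fin n) :=
      (e.permCongrHom.toMonoidHom).comp (Equiv.Perm.sumCongrHom (Fin (n - 3)) (Fin 3))
    have hf : Function.Injective f :=
      e.permCongrHom.injective.comp Equiv.Perm.sumCongrHom_injective
    let g : alternatingGroup (Fin (n - 3)) × alternatingGroup (Fin 3) →* alternatingGroup (Fin n) :=
      (f.comp (MonoidHom.prodMap (alternatingGroup (Fin (n - 3))).subtype
        (alternatingGroup (Fin 3)).subtype)).codRestrict _ fun x => by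
        rw [Equiv.Perm.mem_alternatingGroup]
        simp [f, Equiv.Perm.sign_sumCongr, Equiv.Perm.mem_alternatingGroup.1 x.1.2,
          Equiv.Perm.mem_alternatingGroup.1 x.2.2]
    have hg : Function.Injective g := fun x y h => by
      have := hf (congrArg Subtype.val h)
      exact Prod.ext (Subtype.ext (congrArg Prod.fst this)) (Subtype.ext (congrArg Prod.snd this))
    have h3 : Nat.card (alternatingGroup (Fin 3)) = 3 := by
      rw [Nat.card_eq_fintype_card]
      decide
    have hcyc : IsCyclic (alternatingGroup (Fin 3)) := isCyclic_of_prime_card h3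
    let iso : ↥(((P : Subgroup (alternatingGroup (Fin (n - 3)))).prod ⊤).map g) ≃*
        ↥(P : Subgroup (alternatingGroup (Fin (n - 3)))) × Multiplicative (ZMod 3) :=
      ((Subgroup.equivMapOfInjective _ g hg).symm.trans (Subgroup.prodEquiv _ _)).trans
        (MulEquiv.prodCongr (MulEquiv.refl _)
          (Subgroup.topEquiv.trans ((zmodCyclicMulEquiv hcyc).symm.trans
            (AddEquiv.toMultiplicative (ZMod.ringEquivCongr h3).toAddEquiv))))
    have : Group.IsNilpotent P := P.isPGroup'.isNilpotent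
    refine ⟨_, Group.nilpotent_of_mulEquiv iso.symm, ?_, ⟨iso⟩⟩
    rw [Nat.card_congr iso.toEquiv, Nat.card_prod, mul_comm]
    simp
  · have hX : Fintype.card (Fin n) % 4 = 3 := by rwa [Fintype.card_fin]
    have key : ∀ N : Subgroup (alternatingGroup (Fin n)), Group.IsNilpotent N →
        Nat.card N = 3 * Nat.card P → ∃ M : Subgroup (Equiv.Perm (Fin n)), Group.IsNilpotent M ∧
          Nat.card M = 3 * 2 ^ w ∧ ¬ M ≤ alternatingGroup (Fin n) ∧
          N.map (alternatingGroup (Fin n)).subtype = M ⊓ alternatingGroup (Fin n) := by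
      intro N hN h
      obtain ⟨hn', hc⟩ := himg N hN
      rcases CfsgLib.NilpotentPerm.alt_cases _ (Subgroup.map_subtype_le N) hn' with
        h' | h' | ⟨M, hM, hsub, hodd, hle⟩
      · obtain ⟨k, hk⟩ := IsPGroup.iff_card.1 h'
        rw [hc, h] at hk
        have : 3 ∣ 2 := Nat.prime_three.dvd_of_dvd_pow (hk ▸ dvd_mul_right 3 _)
        omega
      · rw [hc, h, Nat.odd_iff] at h'
        have : 2 ∣ 2 ^ (w - 1) := dvd_pow_self 2 (by omega)
        have h2 : 2 ^ w = 2 * 2 ^ (w - 1) := by rw [← pow_succ']; congr 1; omega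
        omega
      · have h1 := hmax M hM
        have h2 : Nat.card M = 3 * 2 ^ w := by omega
        refine ⟨M, hM, h2, hodd,
          Subgroup.eq_of_le_of_card_ge (le_inf hsub (Subgroup.map_subtype_le N)) ?_⟩
        have := card_inf_alt M hodd
        omega
    obtain ⟨M₁, hM₁, hk₁, -, hN₁'⟩ := key N₁ hN₁ h₁
    obtain ⟨M₂, hM₂, hk₂, hodd₂, hN₂'⟩ := key N₂ hN₂ h₂
    obtain ⟨c₁, R₁, hc₁, hR₁, hr₁, hM₁e⟩ := CfsgLib.NilpotentPerm.extremal M₁ hM₁ hX
      (by rw [hk₁, Fintype.card_fin])
    obtain ⟨c₂, R₂, hc₂, hR₂, hr₂, hM₂e⟩ := CfsgLib.NilpotentPerm.extremal M₂ hM₂ hX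
      (by rw [hk₂, Fintype.card_fin])
    obtain ⟨g₀, hg₀⟩ := CfsgLib.NilpotentPerm.exists_conj hc₁ hc₂ hR₁ hR₂ hr₁ hr₂
    rw [← hM₁e, ← hM₂e] at hg₀
    obtain ⟨r, hrM, hr⟩ : ∃ r ∈ M₂, r ∉ alternatingGroup (Fin n) := SetLike.not_le_iff_exists.1 hodd₂
    obtain ⟨g, hgA, hg⟩ : ∃ g ∈ alternatingGroup (Fin n),
        M₂ = M₁.map (MulAut.conj g).toMonoidHom := by
      rcases Int.units_eq_one_or (Equiv.Perm.sign g₀) with hs | hs
      · exact ⟨g₀, Equiv.Perm.mem_alternatingGroup.2 hs, hg₀⟩
      · refine ⟨r * g₀, ?_, ?_⟩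
        · rw [Equiv.Perm.mem_alternatingGroup, map_mul, hs,
            (Int.units_eq_one_or _).resolve_left (fun h => hr (Equiv.Perm.mem_alternatingGroup.2 h))]
          rfl
        · rw [map_mul]
          show M₂ = M₁.map ((MulAut.conj r).toMonoidHom.comp (MulAut.conj g₀).toMonoidHom)
          rw [← Subgroup.map_map, ← hg₀]
          ext x
          constructor
          · intro hx
            exact ⟨r⁻¹ * x * r, M₂.mul_mem (M₂.mul_mem (M₂.inv_mem hrM) hx) hrM, by simp [mul_assoc]⟩
          · rintro ⟨y, hy, rfl⟩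
            exact M₂.mul_mem (M₂.mul_mem hrM hy) (M₂.inv_mem hrM)
    refine ⟨⟨g, hgA⟩, Subgroup.map_injective (f := (alternatingGroup (Fin n)).subtype) Subtype.val_injective ?_⟩
    rw [hN₂', Subgroup.map_map]
    show _ = N₁.map ((MulAut.conj g).toMonoidHom.comp (alternatingGroup (Fin n)).subtype)
    rw [← Subgroup.map_map, hN₁',
      Subgroup.map_inf _ _ _ (MulAut.conj g).injective, ← hg]
    congr 1
    ext x
    constructor
    · intro hx
      exact ⟨g⁻¹ * x * g⁻¹⁻¹, (inferInstance : (alternatingGroup (Fin n)).Normal).conj_mem x hx g⁻¹,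
        by simp [mul_assoc]⟩
    · rintro ⟨y, hy, rfl⟩
      exact (inferInstance : (alternatingGroup (Fin n)).Normal).conj_mem y hy g

end Cfsg.Agent.S2256
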