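import Cfsg.Statements.S2257
import Cfsg.Agent.PSL2Solv.Even

set_option autoImplicit false
open Cfsg

namespace Cfsg.Agent.S2257

open CfsgLib.PSL2Solv CfsgLib.SL2Trace CfsgLib.DicksonPSL2
open CfsgLib.SuzukiLocal (solSet)
open scoped MatrixGroups

/-- Let G = PSL_2(F) with F a field of order q = 2^p, p prime, and for x ∈ G call the solubilizer of x the set of y ∈ G such that x and y generate a solvable subgroup. Then the solubilizer of an involution has 3q(q − 1) elements; that of a non-identity element of order dividing q − 1 has 2q(q − 1) elements; and that of a non-identity element of order dividing q + 1 has 2(q + 1) elements. -/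
theorem result (p : ℕ) (hp : p.Prime) {F : Type*} [Field F] [Fintype F]
    (hF : Fintype.card F = 2 ^ p) (x : Matrix.ProjectiveSpecialLinearGroup (Fin 2) F) :
    (orderOf x = 2 → Nat.card {y : Matrix.ProjectiveSpecialLinearGroup (Fin 2) F // Group.IsSolvable ↥(Subgroup.closure ({x, y} : Set (Matrix.ProjectiveSpecialLinearGroup (Fin 2) F)))} = 3 * 2 ^ p * (2 ^ p - 1)) ∧
    (x ≠ 1 → orderOf x ∣ 2 ^ p - 1 → Nat.card {y : Matrix.ProjectiveSpecialLinearGroup (Fin 2) F // Group.IsSolvable ↥(Subgroup.closure ({x, y} : Set (Matrix.ProjectiveSpecialLinearGroup (Fin 2) F)))} = 2 * 2 ^ p * (2 ^ p - 1)) ∧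
    (x ≠ 1 → orderOf x ∣ 2 ^ p + 1 → Nat.card {y : Matrix.ProjectiveSpecialLinearGroup (Fin 2) F // Group.IsSolvable ↥(Subgroup.closure ({x, y} : Set (Matrix.ProjectiveSpecialLinearGroup (Fin 2) F)))} = 2 * (2 ^ p + 1)) := by
  have heven : Even (Fintype.card F) := by rw [hF]; exact Nat.even_pow.2 ⟨even_two, hp.ne_zero⟩
  have h4 : 4 ≤ Fintype.card F := by
    rw [hF]; exact le_trans (by norm_num) (Nat.pow_le_pow_right two_pos hp.two_le)
  obtain ⟨A, hA⟩ := exists_reps_tori h4 (fun e => by rw [e] at heven; exact absurd heven (by decide))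
  obtain ⟨h0, h1⟩ := card_A heven hA
  rw [← hF]
  have hsol : ∀ n, (solSet x).ncard = n → Nat.card {y : PSL(2, F) //
      Group.IsSolvable ↥(Subgroup.closure ({x, y} : Set PSL(2, F)))} = n := by
    intro n hn
    rw [← hn, ← Nat.card_coe_set_eq]
    rfl
  have key : ∀ k, Odd k → x ≠ 1 → orderOf x ∣ k → ∃ (i : Fin 2) (g : PSL(2, F)),
      g⁻¹ * x * g ∈ A i ∧ orderOf x ∣ Nat.card (A i) := by
    intro k hk hx hdvd
    have ht : IsTor x := by
      refine (isTor_iff_sq heven x).2 fun e => ?_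
      have h2 : orderOf x ∣ 2 := orderOf_dvd_of_pow_eq_one (by rw [pow_two, e])
      rcases (Nat.dvd_prime Nat.prime_two).1 h2 with h | h
      · exact hx (orderOf_eq_one_iff.1 h)
      · rw [h] at hdvd
        exact Nat.not_even_iff_odd.2 hk (even_iff_two_dvd.2 hdvd)
    obtain ⟨i, g, hg⟩ := hA.cover x ht
    refine ⟨i, g, hg, ?_⟩
    have := (A i).orderOf_dvd_natCard hg
    rwa [show g⁻¹ * x * g = MulAut.conj g⁻¹ x by simp, MulEquiv.orderOf_eq] at this
  have hodd : Odd (Fintype.card F - 1) ∧ Odd (Fintype.card F + 1) := by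
    obtain ⟨r, hr⟩ := heven
    exact ⟨⟨r - 1, by omega⟩, ⟨r, by omega⟩⟩
  have hcop : ∀ n, n ∣ Fintype.card F - 1 → n ∣ Fintype.card F + 1 → n = 1 := by
    intro n h h'
    have h2 : n ∣ 2 := by
      have := Nat.dvd_sub h' h
      rwa [show Fintype.card F + 1 - (Fintype.card F - 1) = 2 by omega] at this
    rcases (Nat.dvd_prime Nat.prime_two).1 h2 with e | e
    · exact e
    · rw [e] at h
      exact absurd (even_iff_two_dvd.2 h) (Nat.not_even_iff_odd.2 hodd.1)
  refine ⟨fun h => hsol _ (card_sol_involution heven hA h), fun hx hd => ?_, fun hx hd => ?_⟩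
  · obtain ⟨i, g, hg, hi⟩ := key _ hodd.1 hx hd
    rcases Fin.exists_fin_two.1 ⟨i, rfl⟩ with rfl | rfl
    · exact hsol _ (card_sol_split heven hA hx hg)
    · exact absurd (orderOf_eq_one_iff.1 (hcop _ hd (h1 ▸ hi))) hx
  · obtain ⟨i, g, hg, hi⟩ := key _ hodd.2 hx hd
    rcases Fin.exists_fin_two.1 ⟨i, rfl⟩ with rfl | rfl
    · exact absurd (orderOf_eq_one_iff.1 (hcop _ (h0 ▸ hi) hd)) hx
    · exact hsol _ (card_sol_nonsplit heven hA hx hg)

end Cfsg.Agent.S2257
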