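import Cfsg.Statements.S2258
import Cfsg.Agent.PSL2Solv.OddSol

set_option autoImplicit false
open Cfsg

namespace Cfsg.Agent.S2258

open CfsgLib.PSL2Solv CfsgLib.SL2Trace CfsgLib.DicksonPSL2
open CfsgLib.SuzukiLocal (solSet)
open scoped MatrixGroups

/-- Let G = PSL_2(F) with F a field of order q = 3^p, p an odd prime, and for x ∈ G call the solubilizer of x the set of y ∈ G such that x and y generate a solvable subgroup. Then the solubilizer of an involution has q(q + 1) elements; that of an element of order 3 has q(q + 5)/2 elements; that of an element of order neither 1 nor 2 dividing q − 1 has q(q − 1) elements; and that of an element of order neither 1 nor 2 dividing q + 1 has q + 1 elements. -/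
theorem result (p : ℕ) (hp : p.Prime) (hodd : Odd p) {F : Type*} [Field F] [Fintype F]
    (hF : Fintype.card F = 3 ^ p) (x : Matrix.ProjectiveSpecialLinearGroup (Fin 2) F) :
    (orderOf x = 2 → Nat.card {y : Matrix.ProjectiveSpecialLinearGroup (Fin 2) F // Group.IsSolvable ↥(Subgroup.closure ({x, y} : Set (Matrix.ProjectiveSpecialLinearGroup (Fin 2) F)))} = 3 ^ p * (3 ^ p + 1)) ∧
    (orderOf x = 3 → 2 * Nat.card {y : Matrix.ProjectiveSpecialLinearGroup (Fin 2) F // Group.IsSolvable ↥(Subgroup.closure ({x, y} : Set (Matrix.ProjectiveSpecialLinearGroup (Fin 2) F)))} = 3 ^ p * (3 ^ p + 5)) ∧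
    (x ≠ 1 → orderOf x ≠ 2 → orderOf x ∣ 3 ^ p - 1 → Nat.card {y : Matrix.ProjectiveSpecialLinearGroup (Fin 2) F // Group.IsSolvable ↥(Subgroup.closure ({x, y} : Set (Matrix.ProjectiveSpecialLinearGroup (Fin 2) F)))} = 3 ^ p * (3 ^ p - 1)) ∧
    (x ≠ 1 → orderOf x ≠ 2 → orderOf x ∣ 3 ^ p + 1 → Nat.card {y : Matrix.ProjectiveSpecialLinearGroup (Fin 2) F // Group.IsSolvable ↥(Subgroup.closure ({x, y} : Set (Matrix.ProjectiveSpecialLinearGroup (Fin 2) F)))} = 3 ^ p + 1) := by
  have h8 : Fintype.card F % 8 = 3 := by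
    obtain ⟨k, rfl⟩ := hodd
    rw [hF, pow_succ, pow_mul, Nat.mul_mod, Nat.pow_mod]
    norm_num
  have h4 : 4 ≤ Fintype.card F := by
    rw [hF]; exact le_trans (by norm_num) (Nat.pow_le_pow_right (by norm_num) hp.two_le)
  have h3F : (3 : ℕ) ∣ Fintype.card F := by rw [hF]; exact dvd_pow_self 3 hp.ne_zero
  have : Fact (Nat.Prime 3) := ⟨Nat.prime_three⟩
  have : CharP F 3 := by
    obtain ⟨r, hr⟩ := CharP.exists F
    obtain ⟨n, hrp, hn⟩ := FiniteField.card F r
    have hd : 3 ∣ r := Nat.prime_three.dvd_of_dvd_pow (hn ▸ h3F)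
    rwa [← (Nat.prime_dvd_prime_iff_eq Nat.prime_three hrp).1 hd] at hr
  obtain ⟨A, hA⟩ := exists_reps_tori h4 (by omega)
  obtain ⟨h0, h1, -⟩ := hA.card_A_odd h8
  rw [← hF]
  have hsol : ∀ n, (solSet x).ncard = n → Nat.card {y : PSL(2, F) //
      Group.IsSolvable ↥(Subgroup.closure ({x, y} : Set PSL(2, F)))} = n := by
    intro n hn
    rw [← hn, ← Nat.card_coe_set_eq]
    rfl
  have key : x ≠ 1 → orderOf x ≠ 2 → ∀ k, ¬ 3 ∣ k → orderOf x ∣ k →
      ∃ (i : Fin 2) (g : PSL(2, F)), x * x ≠ 1 ∧ g⁻¹ * x * g ∈ A i ∧ orderOf x ∣ 2 * Nat.card (A i) := by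
    intro hx hx2 k hk hdvd
    have ht : IsTor x := (isTor_iff_cube x).2 fun e => by
      rw [orderOf_eq_prime e hx] at hdvd
      exact hk hdvd
    obtain ⟨i, g, hg⟩ := hA.cover x ht
    refine ⟨i, g, fun e => hx2 (order_two_of_mul_self e hx), hg, Dvd.dvd.mul_left ?_ 2⟩
    have := (A i).orderOf_dvd_natCard hg
    rwa [orderOf_conj'] at this
  have hcop : x ≠ 1 → orderOf x ≠ 2 →
      orderOf x ∣ Fintype.card F - 1 → orderOf x ∣ Fintype.card F + 1 → False := by
    intro hx hx2 h h'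
    have h2 : orderOf x ∣ 2 := by
      have := Nat.dvd_sub h' h
      rwa [show Fintype.card F + 1 - (Fintype.card F - 1) = 2 by omega] at this
    rcases (Nat.dvd_prime Nat.prime_two).1 h2 with e | e
    · exact hx (orderOf_eq_one_iff.1 e)
    · exact hx2 e
  refine ⟨fun h => hsol _ (hA.card_sol_involution_odd h8 h), fun h => ?_,
    fun hx hx2 hd => ?_, fun hx hx2 hd => ?_⟩
  · rw [hsol _ rfl]
    exact hA.two_mul_card_sol_order_three h8 h
  · obtain ⟨i, g, hxx, hg, hi⟩ := key hx hx2 _ (by omega) hd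
    rcases Fin.exists_fin_two.1 ⟨i, rfl⟩ with rfl | rfl
    · exact hsol _ (hA.card_sol_split_odd h8 h4 hx hxx hg)
    · rw [h1] at hi; exact (hcop hx hx2 hd hi).elim
  · obtain ⟨i, g, hxx, hg, hi⟩ := key hx hx2 _ (by omega) hd
    rcases Fin.exists_fin_two.1 ⟨i, rfl⟩ with rfl | rfl
    · rw [h0] at hi; exact (hcop hx hx2 hi hd).elim
    · exact hsol _ (hA.card_sol_nonsplit_odd h8 hx hxx hg)

end Cfsg.Agent.S2258
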