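import Cfsg.Statements.S2260
-- import your own Cfsg.Agent.* helpers here

set_option autoImplicit false
open Cfsg

namespace Cfsg.Agent.S2260

/-- Let F be a finite field of prime characteristic p and u an invertible d × d matrix over F with u − 1 nilpotent (a unipotent element). Then the order of u is at most p^⌈log_p d⌉; and if moreover (u − 1)^(d−1) ≠ 0 (u is a single Jordan block) then the order of u is exactly p^⌈log_p d⌉. -/
theorem result {F : Type*} [Field F] [Finite F] (p : ℕ) [Fact p.Prime] [CharP F p] (d : ℕ)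
    (u : GL (Fin d) F) (hu : IsNilpotent ((u : Matrix (Fin d) (Fin d) F) - 1)) :
    orderOf u ≤ p ^ Nat.clog p d ∧
    (((u : Matrix (Fin d) (Fin d) F) - 1) ^ (d - 1) ≠ 0 → orderOf u = p ^ Nat.clog p d) := by
  have hp : p.Prime := Fact.out
  rcases Nat.eq_zero_or_pos d with rfl | hd
  · have : u = 1 := Units.ext (Matrix.ext fun i => i.elim0)
    subst this
    simp
  have : Nonempty (Fin d) := ⟨⟨0, hd⟩⟩
  have : CharP (Matrix (Fin d) (Fin d) F) p := inferInstance
  set N : Matrix (Fin d) (Fin d) F := (u : Matrix (Fin d) (Fin d) F) - 1 with hN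
  have hNd : N ^ d = 0 := by
    have h := (Matrix.isNilpotent_charpoly_sub_pow_of_isNilpotent hu).eq_zero
    rw [sub_eq_zero, Fintype.card_fin] at h
    have h' := Matrix.aeval_self_charpoly N
    rwa [hN, h, map_pow, Polynomial.aeval_X, ← hN] at h'
  have key : ∀ e : ℕ, u ^ p ^ e = 1 ↔ N ^ p ^ e = 0 := by
    intro e
    rw [hN, sub_pow_char_pow_of_commute _ _ (Commute.one_right _), one_pow, sub_eq_zero,
      ← Units.val_pow_eq_pow_val, Units.val_eq_one]
  have hk : u ^ p ^ Nat.clog p d = 1 :=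
    (key _).2 (pow_eq_zero_of_le (Nat.le_pow_clog hp.one_lt d) hNd)
  refine ⟨orderOf_le_of_pow_eq_one (pow_pos hp.pos _) hk, fun hne => ?_⟩
  obtain ⟨e, he, hoe⟩ := (Nat.dvd_prime_pow hp).1 (orderOf_dvd_of_pow_eq_one hk)
  rw [hoe]
  refine le_antisymm (Nat.pow_le_pow_right hp.pos he) (Nat.pow_le_pow_right hp.pos ?_)
  refine Nat.clog_le_of_le_pow ?_
  by_contra hlt
  exact hne (pow_eq_zero_of_le (by omega) ((key e).1 (hoe ▸ pow_orderOf_eq_one u)))

end Cfsg.Agent.S2260
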