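import Cfsg.Statements.S2261
-- import your own Cfsg.Agent.* helpers here

set_option autoImplicit false
open Cfsg

namespace Cfsg.Agent.S2261


open Polynomial in
/-- Elements of `GL_d(F)` have order modulo scalars at most `(q^d - 1)/(q - 1)`. -/
theorem upper {F : Type*} [Field F] [Fintype F] {d : ℕ} (hd : 0 < d) (g : GL (Fin d) F) :
    (Fintype.card F - 1) * orderOf (QuotientGroup.mk g : GL (Fin d) F ⧸ Subgroup.center (GL (Fin d) F))
      ≤ Fintype.card F ^ d - 1 := by
  classical
  set gb : GL (Fin d) F ⧸ Subgroup.center (GL (Fin d) F) := QuotientGroup.mk g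
  set M : Matrix (Fin d) (Fin d) F := (g : Matrix (Fin d) (Fin d) F)
  set φ : (Fin d → F) → Matrix (Fin d) (Fin d) F := fun v => ∑ i, v i • M ^ (i : ℕ)
  have hrep : ∀ (c : F) (k : ℕ), ∃ v, φ v = c • M ^ k := by
    intro c k
    refine ⟨fun i => ((C c * X ^ k) %ₘ M.charpoly).coeff i, ?_⟩
    have hdeg : ((C c * X ^ k) %ₘ M.charpoly).degree < d := by
      have := degree_modByMonic_lt (C c * X ^ k) M.charpoly_monic
      rwa [Matrix.charpoly_degree_eq_dim, Fintype.card_fin] at this
    have h2 : aeval M ((C c * X ^ k) %ₘ M.charpoly) = c • M ^ k := by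
      have h := modByMonic_add_div (C c * X ^ k) M.charpoly
      have h' := congrArg (aeval M) h
      rw [map_add, map_mul, Matrix.aeval_self_charpoly, zero_mul, add_zero] at h'
      rw [h', map_mul, aeval_C, map_pow, aeval_X, Algebra.smul_def]
    have hnd : ((C c * X ^ k) %ₘ M.charpoly).natDegree < d := by
      rcases eq_or_ne ((C c * X ^ k) %ₘ M.charpoly) 0 with h | h
      · rw [h, natDegree_zero]; exact hd
      · exact (natDegree_lt_iff_degree_lt h).2 hdeg
    rw [← h2, aeval_eq_sum_range' hnd]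
    exact (Finset.sum_range (fun i => ((C c * X ^ k) %ₘ M.charpoly).coeff i • M ^ i)).symm
  choose v hv using hrep
  have hv0 : ∀ (c : Fˣ) (k : ℕ), v c k ≠ 0 := by
    intro c k h0
    have h := hv c k
    simp only [h0, φ, Pi.zero_apply, zero_smul, Finset.sum_const_zero] at h
    have hu : IsUnit ((c : F) • M ^ k) := (g.isUnit.pow k).smul c
    have : Nonempty (Fin d) := ⟨⟨0, hd⟩⟩
    exact not_isUnit_zero (h ▸ hu)
  let f : Fˣ × Fin (orderOf gb) → {w : Fin d → F // w ≠ 0} :=
    fun x => ⟨v x.1 x.2, hv0 x.1 x.2⟩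
  have hinj : Function.Injective f := by
    rintro ⟨c, k⟩ ⟨c', k'⟩ h
    have h' : (c : F) • M ^ (k : ℕ) = (c' : F) • M ^ (k' : ℕ) := by
      rw [← hv, ← hv, Subtype.mk.inj h]
    have hk : gb ^ (k : ℕ) = gb ^ (k' : ℕ) := by
      rw [← QuotientGroup.mk_pow, ← QuotientGroup.mk_pow, QuotientGroup.eq]
      rw [Matrix.GeneralLinearGroup.mem_center_iff_val_mem_range_scalar]
      refine ⟨(c'⁻¹ * c : Fˣ), ?_⟩
      have h3 : M ^ (k' : ℕ) = ((c'⁻¹ * c : Fˣ) : F) • M ^ (k : ℕ) := by
        rw [Units.val_mul, mul_smul, h', smul_smul, Units.inv_mul, one_smul]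
      rw [Units.val_mul _ (g ^ (k' : ℕ)), Units.val_pow_eq_pow_val g (k' : ℕ)]
      show _ = _ * M ^ (k' : ℕ)
      rw [h3, mul_smul_comm, show M ^ (k : ℕ) = ((g ^ (k : ℕ) : GL (Fin d) F) : Matrix _ _ F) from
        (Units.val_pow_eq_pow_val g _).symm, ← Units.val_mul, inv_mul_cancel, Units.val_one,
        Matrix.smul_one_eq_diagonal]
      rfl
    have hkk : k = k' := Fin.ext (pow_injOn_Iio_orderOf k.2 k'.2 hk)
    subst hkk
    refine Prod.ext (Units.ext ?_) rfl
    have : Nonempty (Fin d) := ⟨⟨0, hd⟩⟩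
    exact smul_left_injective F (g.isUnit.pow (k : ℕ)).ne_zero h'
  have := Fintype.card_le_of_injective f hinj
  rw [Fintype.card_prod, Fintype.card_units, Fintype.card_fin, Fintype.card_subtype_compl,
    Fintype.card_subtype_eq, Fintype.card_fun, Fintype.card_fin] at this
  exact this

/-- Let F be a finite field with q elements and d ≥ 1. Then every element of PGL_d(F) = GL_d(F)/Z has order at most (q^d − 1)/(q − 1), and some element (the image of a Singer cycle) has exactly this order. -/
theorem result {F : Type*} [Field F] [Fintype F] (d : ℕ) (hd : 1 ≤ d) :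
    (∀ g : (GL (Fin d) F ⧸ Subgroup.center (GL (Fin d) F)), (Fintype.card F - 1) * orderOf g ≤ Fintype.card F ^ d - 1) ∧
    (∃ g : (GL (Fin d) F ⧸ Subgroup.center (GL (Fin d) F)), (Fintype.card F - 1) * orderOf g = Fintype.card F ^ d - 1) := by
  classical
  refine ⟨fun g => QuotientGroup.induction_on g (upper (by omega)), ?_⟩
  have : NeZero d := ⟨by omega⟩
  obtain ⟨p, hp⟩ := CharP.exists F
  have : Fact p.Prime := ⟨CharP.char_is_prime F p⟩
  let E := FiniteField.Extension F p d
  let b : Module.Basis (Fin d) F E :=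
    Module.finBasisOfFinrankEq F E (FiniteField.finrank_extension F p d)
  obtain ⟨x, hx⟩ := IsCyclic.exists_generator (α := Eˣ)
  let g : GL (Fin d) F := Units.map (Algebra.leftMulMatrix b).toRingHom.toMonoidHom x
  set gb : GL (Fin d) F ⧸ Subgroup.center (GL (Fin d) F) := QuotientGroup.mk g
  refine ⟨gb, le_antisymm (upper (by omega) g) ?_⟩
  have hmem : g ^ orderOf gb ∈ Subgroup.center (GL (Fin d) F) := by
    rw [← QuotientGroup.eq_one_iff, QuotientGroup.mk_pow, pow_orderOf_eq_one]
  obtain ⟨c, hc⟩ := Matrix.GeneralLinearGroup.mem_center_iff_val_mem_range_scalar.mp hmem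
  have hxc : ((x ^ orderOf gb : Eˣ) : E) = algebraMap F E c := by
    apply Algebra.leftMulMatrix_injective b
    rw [AlgHom.commutes, Matrix.algebraMap_eq_diagonal]
    simp only [Units.val_pow_eq_pow_val, map_pow]
    simpa [g, Matrix.scalar_apply, Pi.algebraMap_def] using hc.symm
  have hc0 : c ≠ 0 := by
    rintro rfl
    exact (x ^ orderOf gb).ne_zero (by rw [hxc, map_zero])
  have hpow : x ^ (orderOf gb * (Fintype.card F - 1)) = 1 := by
    apply Units.ext
    rw [pow_mul, Units.val_pow_eq_pow_val, hxc, ← map_pow,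
      FiniteField.pow_card_sub_one_eq_one c hc0, map_one, Units.val_one]
  have hox : orderOf x = Fintype.card F ^ d - 1 := by
    rw [orderOf_eq_card_of_forall_mem_zpowers hx, Nat.card_units, FiniteField.natCard_extension,
      Nat.card_eq_fintype_card]
  rw [← hox, mul_comm]
  refine Nat.le_of_dvd (Nat.mul_pos (orderOf_pos gb) ?_) (orderOf_dvd_of_pow_eq_one hpow)
  have := Fintype.one_lt_card (α := F)
  omega

end Cfsg.Agent.S2261
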