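import Cfsg.Statements.S2262
import Cfsg.Agent.OrderBound.Basic
import Cfsg.Agent.LinearOrders.Basic
import Cfsg.Agent.AutPSL.AutOrder
import Cfsg.Agent.AutPSL.Main
import Cfsg.Agent.FixedField.Basic
import Cfsg.Agent.S2261

set_option autoImplicit false
open Cfsg

namespace Cfsg.Agent.S2262

open Polynomial Matrix CfsgLib.AutPSL CfsgLib.OrderBound

variable {F : Type*} [Field F] {d : ℕ}

theorem aeval_conj (g : GL (Fin d) F) (A : Matrix (Fin d) (Fin d) F) (P : F[X]) :
    aeval ((g : Matrix (Fin d) (Fin d) F) * A * ((g⁻¹ : GL (Fin d) F) : Matrix (Fin d) (Fin d) F)) P =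
      (g : Matrix (Fin d) (Fin d) F) * aeval A P *
        ((g⁻¹ : GL (Fin d) F) : Matrix (Fin d) (Fin d) F) := by
  induction P using Polynomial.induction_on' with
  | add P Q hP hQ => rw [map_add, map_add, hP, hQ, mul_add, add_mul]
  | monomial n a =>
    rw [aeval_monomial, aeval_monomial, Units.conj_pow, ← Algebra.smul_def, ← Algebra.smul_def,
      mul_smul_comm, smul_mul_assoc]

theorem aeval_transpose (A : Matrix (Fin d) (Fin d) F) (P : F[X]) :
    aeval Aᵀ P = (aeval A P)ᵀ := by
  induction P using Polynomial.induction_on' with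
  | add P Q hP hQ => rw [map_add, map_add, hP, hQ, transpose_add]
  | monomial n a =>
    rw [aeval_monomial, aeval_monomial, ← Algebra.smul_def, ← Algebra.smul_def, transpose_smul,
      transpose_pow]

theorem aeval_map_field (σ : F ≃+* F) (A : Matrix (Fin d) (Fin d) F) (P : F[X]) :
    aeval (A.map σ) (P.map σ.toRingHom) = (aeval A P).map σ := by
  change aeval (σ.toRingHom.mapMatrix A) (P.map σ.toRingHom) = σ.toRingHom.mapMatrix (aeval A P)
  refine (Polynomial.map_aeval_eq_aeval_map (RingHom.ext fun a => ?_) P A).symm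
  ext i j
  simp [Matrix.algebraMap_matrix_apply, apply_ite σ]

theorem coe_mapGL (σ : F ≃+* F) (A : GL (Fin d) F) :
    ((mapGL σ A : GL (Fin d) F) : Matrix (Fin d) (Fin d) F) =
      (A : Matrix (Fin d) (Fin d) F).map σ := rfl

theorem conjSL_eq_one_of_mem_center {g : GL (Fin d) F}
    (hg : g ∈ Subgroup.center (GL (Fin d) F)) : conjSL g = 1 := by
  rw [Matrix.GeneralLinearGroup.center_eq_range_scalar] at hg
  obtain ⟨u, rfl⟩ := hg
  exact conjSL_scalar u

theorem conjSL_pow_projOrder (g : GL (Fin d) F) : conjSL g ^ projOrder g = 1 := by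
  rw [← map_pow]
  refine conjSL_eq_one_of_mem_center ?_
  rw [← QuotientGroup.eq_one_iff, QuotientGroup.mk_pow, pow_orderOf_eq_one]

variable [Fintype F]

/-- An inner-diagonal automorphism. -/
theorem orderOf_toPSLAut_conjSL_le (g : GL (Fin d) F) :
    orderOf (toPSLAut (conjSL g)) ≤ projOrder g :=
  Nat.le_of_dvd (projOrder_pos g) (orderOf_dvd_of_pow_eq_one (by
    rw [← map_pow, conjSL_pow_projOrder, map_one]))

/-- The semilinear case. -/
theorem semilinear_bound (hd : 0 < d) (g : GL (Fin d) F) (σ : F ≃+* F) :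
    ∃ r : ℕ, 2 ≤ r ∧ Fintype.card F = r ^ orderOf σ ∧
      orderOf (toPSLAut (conjSL g * fieldSL σ)) ≤ orderOf σ * ∑ i ∈ Finset.range d, r ^ i := by
  classical
  have hsfin : Finite (F ≃+* F) := Finite.of_injective (fun σ : F ≃+* F => (σ : F → F))
    DFunLike.coe_injective
  set K := CfsgLib.FixedField.fixedSub σ
  have hq := CfsgLib.FixedField.card_pow σ rfl
  have : Fintype K := Fintype.ofFinite K
  rw [Nat.card_eq_fintype_card] at hq
  refine ⟨Fintype.card K, Fintype.one_lt_card, hq, ?_⟩
  set M := twNorm σ g (orderOf σ) with hM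
  have hcomm : g * mapGL σ M = M * g := by
    rw [hM, ← twNorm_succ, twNorm_succ', pow_orderOf_eq_one, mapGL_one_apply]
  have hsM : ((mapGL σ M : GL (Fin d) F) : Matrix (Fin d) (Fin d) F) =
      ((g⁻¹ : GL (Fin d) F) : Matrix (Fin d) (Fin d) F) * (M : Matrix (Fin d) (Fin d) F) * (((g⁻¹)⁻¹ : GL (Fin d) F) : Matrix _ _ F) := by
    rw [← Units.val_mul, ← Units.val_mul, inv_inv, mul_assoc, ← hcomm, inv_mul_cancel_left]
  set A : Matrix (Fin d) (Fin d) F := (M : Matrix (Fin d) (Fin d) F)
  set f := minpoly F A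
  have hint := Matrix.isIntegral (R := F) A
  have hz : aeval (A.map σ) f = 0 := by
    rw [← coe_mapGL, hsM, aeval_conj, minpoly.aeval, mul_zero, zero_mul]
  have hfix : f.map σ.toRingHom = f := by
    have hz' : aeval A (f.map σ.symm.toRingHom) = 0 := by
      refine Matrix.map_injective σ.injective ?_
      beta_reduce
      rw [← aeval_map_field, Polynomial.map_map, Matrix.map_zero _ (map_zero σ)]
      rw [show σ.toRingHom.comp σ.symm.toRingHom = RingHom.id F from
        RingHom.ext fun x => σ.apply_symm_apply x, Polynomial.map_id]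
      exact hz
    have hs : f.map σ.symm.toRingHom = f := eq_of_monic_of_dvd_of_natDegree_le (minpoly.monic hint)
      ((minpoly.monic hint).map _) (minpoly.dvd F A hz') (natDegree_map _).le
    conv_lhs => rw [← hs]
    rw [Polynomial.map_map, show σ.toRingHom.comp σ.symm.toRingHom = RingHom.id F from
      RingHom.ext fun x => σ.apply_symm_apply x, Polynomial.map_id]
  have hlift : f ∈ lifts (algebraMap K F) := by
    rw [lifts_iff_coeff_lifts]
    intro n
    have h := congrArg (fun P => Polynomial.coeff P n) hfix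
    simp only [coeff_map] at h
    exact ⟨⟨f.coeff n, h⟩, rfl⟩
  obtain ⟨P, hPf, hPdeg, hPm⟩ := lifts_and_natDegree_eq_and_monic hlift (minpoly.monic hint)
  have hPz : aeval A P = 0 := by
    rw [← aeval_map_algebraMap F A P, hPf, minpoly.aeval]
  have hdeg : P.natDegree ≤ d := by
    rw [hPdeg]
    refine (natDegree_le_of_dvd (Matrix.minpoly_dvd_charpoly A) (charpoly_monic A).ne_zero).trans ?_
    rw [charpoly_natDegree_eq_dim, Fintype.card_fin]
  have ho := le_geom Fintype.one_lt_card (card_powers_le M hd hPm hPz hdeg)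
  refine le_trans ?_ (Nat.mul_le_mul_left _ ho)
  refine Nat.le_of_dvd (Nat.mul_pos (orderOf_pos σ) (projOrder_pos M)) ?_
  refine orderOf_dvd_of_pow_eq_one ?_
  rw [← map_pow, pow_mul, conjSL_fieldSL_pow, pow_orderOf_eq_one, map_one, mul_one,
    conjSL_pow_projOrder, map_one]

theorem graph_sq (g : GL (Fin d) F) (σ : F ≃+* F) :
    (conjSL g * fieldSL σ * invTransSL) ^ 2 =
      conjSL (g * mapGL σ (invTransGL g)) * fieldSL (σ * σ) := by
  calc (conjSL g * fieldSL σ * invTransSL) ^ 2
      = conjSL g * fieldSL σ * (invTransSL * conjSL g) * fieldSL σ * invTransSL := by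
        rw [pow_two]; simp only [mul_assoc]
    _ = conjSL g * (fieldSL σ * conjSL (invTransGL g)) * (invTransSL * fieldSL σ) * invTransSL := by
        rw [invTransSL_mul_conjSL]; simp only [mul_assoc]
    _ = conjSL g * conjSL (mapGL σ (invTransGL g)) * (fieldSL σ * fieldSL σ) *
          (invTransSL * invTransSL) := by
        rw [fieldSL_mul_conjSL, invTransSL_mul_fieldSL]; simp only [mul_assoc]
    _ = conjSL (g * mapGL σ (invTransGL g)) * fieldSL (σ * σ) := by
        rw [invTransSL_mul_self, mul_one, map_mul, map_mul]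

omit [Fintype F] in
/-- The square of a graph-field automorphism is adjoint to its inverse. -/
theorem aeval_inv_eq_zero (g : GL (Fin d) F) (σ : F ≃+* F) (hσ : ∀ x, σ (σ x) = x) (P : F[X])
    (hP : aeval ((g * mapGL σ (invTransGL g) : GL (Fin d) F) : Matrix (Fin d) (Fin d) F) P = 0) :
    aeval (((g * mapGL σ (invTransGL g))⁻¹ : GL (Fin d) F) : Matrix (Fin d) (Fin d) F)
      (P.map σ.toRingHom) = 0 := by
  set M := g * mapGL σ (invTransGL g) with hM
  have h : ((M⁻¹ : GL (Fin d) F) : Matrix (Fin d) (Fin d) F) = (g : Matrix (Fin d) (Fin d) F) *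
      ((M : Matrix (Fin d) (Fin d) F).map σ)ᵀ * ((g⁻¹ : GL (Fin d) F) : Matrix (Fin d) (Fin d) F) := by
    have e1 : ((M : Matrix (Fin d) (Fin d) F).map σ)ᵀ =
        ((g⁻¹ : GL (Fin d) F) : Matrix (Fin d) (Fin d) F) * ((g : Matrix (Fin d) (Fin d) F).map σ)ᵀ := by
      rw [hM, Units.val_mul]
      change (σ.toRingHom.mapMatrix ((g : Matrix (Fin d) (Fin d) F) *
        (((g⁻¹ : GL (Fin d) F) : Matrix (Fin d) (Fin d) F)ᵀ.map σ)))ᵀ = _
      rw [map_mul, Matrix.transpose_mul]
      congr 1
      ext i j
      exact hσ _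
    have e2 : M * mapGL σ ⟨(g : Matrix (Fin d) (Fin d) F)ᵀ,
        ((g⁻¹ : GL (Fin d) F) : Matrix (Fin d) (Fin d) F)ᵀ,
        by rw [← Matrix.transpose_mul, g.inv_mul, Matrix.transpose_one],
        by rw [← Matrix.transpose_mul, g.mul_inv, Matrix.transpose_one]⟩ * g⁻¹ = 1 := by
      rw [hM, mul_assoc g, ← map_mul]
      rw [show invTransGL g * _ = 1 from Units.ext (by
        show ((g⁻¹ : GL (Fin d) F) : Matrix (Fin d) (Fin d) F)ᵀ * (g : Matrix (Fin d) (Fin d) F)ᵀ = 1
        rw [← Matrix.transpose_mul, g.mul_inv, Matrix.transpose_one]), map_one, mul_one,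
        mul_inv_cancel]
    rw [mul_assoc] at e2
    rw [inv_eq_of_mul_eq_one_right e2, Units.val_mul, coe_mapGL, e1,
      Units.mul_inv_cancel_left, Matrix.transpose_map]
  rw [h, aeval_conj, aeval_transpose, aeval_map_field, hP, Matrix.map_zero _ (map_zero σ),
    transpose_zero, mul_zero, zero_mul]

theorem pow_succ_gt (m : ℕ) (hm : 1 ≤ m) :
    ∀ n, 2 ≤ n → m ^ n * (m + n) < (m + 1) ^ n * m := by
  intro n hn
  induction n, hn using Nat.le_induction with
  | base =>
    have : (m + 1) ^ 2 * m = m ^ 2 * (m + 2) + m := by ring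
    omega
  | succ n hn ih =>
    have h1 : (m + 1) ^ (n + 1) * m = (m + 1) * ((m + 1) ^ n * m) := by ring
    have h2 : (m + 1) * (m ^ n * (m + n)) = m ^ (n + 1) * (m + (n + 1)) + m ^ n * n := by ring
    have h3 := Nat.mul_lt_mul_of_pos_left ih (by omega : 0 < m + 1)
    omega

/-- `M` adjoint to `M⁻¹`: half of the general bound. -/
theorem unitary_bound (hd : 3 ≤ d) (h32 : ¬ (d = 3 ∧ Fintype.card F = 2)) (M : GL (Fin d) F)
    (σ : F ≃+* F)
    (hM : ∀ P : F[X], aeval (M : Matrix (Fin d) (Fin d) F) P = 0 →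
      aeval ((M⁻¹ : GL (Fin d) F) : Matrix (Fin d) (Fin d) F) (P.map σ.toRingHom) = 0) :
    2 * ((Fintype.card F - 1) * projOrder M) ≤ Fintype.card F ^ d - 1 := by
  classical
  have hd0 : 0 < d := by omega
  have : Nonempty (Fin d) := ⟨⟨0, hd0⟩⟩
  set A : Matrix (Fin d) (Fin d) F := (M : Matrix (Fin d) (Fin d) F) with hA
  set N : Matrix (Fin d) (Fin d) F := ((M⁻¹ : GL (Fin d) F) : Matrix (Fin d) (Fin d) F) with hN
  set q := Fintype.card F with hq
  have hq2 : 2 ≤ q := Fintype.one_lt_card
  have hint := Matrix.isIntegral (R := F) A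
  rcases Nat.lt_or_ge (minpoly F A).natDegree d with hk | hk
  · have h := card_powers_le M hd0 (minpoly.monic hint) (minpoly.aeval F A)
      (k := d - 1) (by omega)
    have h1 : 2 * q ^ (d - 1) ≤ q ^ d := by
      conv_rhs => rw [show d = d - 1 + 1 by omega, pow_succ']
      exact Nat.mul_le_mul_right _ hq2
    have h3 : 1 ≤ q ^ (d - 1) := Nat.one_le_pow _ _ (by omega)
    change (q - 1) * projOrder M ≤ q ^ (d - 1) - 1 at h
    omega
  have hone : A * N = 1 := M.mul_inv
  choose v hv using fun Q : F[X] => exists_rep (minpoly.monic hint) (minpoly.aeval F A)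
    (show (minpoly F A).natDegree ≤ d by
      refine (natDegree_le_of_dvd (Matrix.minpoly_dvd_charpoly A) (charpoly_monic A).ne_zero).trans ?_
      rw [charpoly_natDegree_eq_dim, Fintype.card_fin]) Q
  by_cases hroot : ∃ a : F, a ≠ 0 ∧ ¬ A.charpoly.IsRoot a
  · obtain ⟨a, ha0, ha⟩ := hroot
    have hu : IsUnit (A - scalar (Fin d) a) := by
      rw [Matrix.isUnit_iff_isUnit_det, isUnit_iff_ne_zero, ← neg_sub, det_neg,
        ← Matrix.eval_charpoly]
      exact mul_ne_zero (pow_ne_zero _ (neg_ne_zero.2 one_ne_zero)) ha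
    let poly : Fˣ × Fin (projOrder M) × Bool → F[X] := fun x =>
      C (x.1 : F) * X ^ (x.2.1 : ℕ) * if x.2.2 then X - C a else 1
    have hval : ∀ x, IsUnit (aeval A (poly x)) := by
      rintro ⟨c, j, b⟩
      rw [map_mul, map_mul, aeval_C, map_pow, aeval_X]
      refine (((c.isUnit.map (algebraMap F _)).mul (M.isUnit.pow _))).mul ?_
      cases b
      · simp
      · rw [if_pos rfl, map_sub, aeval_X, aeval_C]
        exact hu
    let f : Fˣ × Fin (projOrder M) × Bool → {w : Fin d → F // w ≠ 0} := fun x =>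
      ⟨v (poly x), fun h0 => by
        have h := hv (poly x)
        simp only [h0, Pi.zero_apply, zero_smul, Finset.sum_const_zero] at h
        exact (hval x).ne_zero h.symm⟩
    have hmixed : ∀ (c c' : Fˣ) (j j' : Fin (projOrder M)),
        aeval A (poly (c, j, true)) ≠ aeval A (poly (c', j', false)) := by
      intro c c' j j' he
      have h0 : aeval A (poly (c, j, true) - poly (c', j', false)) = 0 := by
        rw [map_sub, sub_eq_zero]; exact he
      have hs := hM _ h0
      rw [Polynomial.map_sub, map_sub, sub_eq_zero] at hs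
      simp only [poly, if_true, Bool.false_eq_true, if_false, mul_one, Polynomial.map_mul,
        Polynomial.map_pow, Polynomial.map_sub, map_X, map_C, map_mul, map_pow, map_sub, aeval_X,
        aeval_C, ← Algebra.smul_def] at he hs
      have hAN : Commute A N := by rw [Commute, SemiconjBy, hone]; exact M.inv_mul.symm
      have hprod : ((c : F) * σ.toRingHom c) •
          (A ^ (j : ℕ) * N ^ (j : ℕ) * ((A - algebraMap F _ a) * (N - algebraMap F _ (σ.toRingHom a)))) =
          ((c' : F) * σ.toRingHom c') • (A ^ (j' : ℕ) * N ^ (j' : ℕ)) := by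
        have hc1 : Commute (A - algebraMap F _ a) (N ^ (j : ℕ)) :=
          (hAN.sub_left (Algebra.commute_algebraMap_left _ _)).pow_right _
        have := congrArg₂ (· * ·) he hs
        simp only [smul_mul_assoc, mul_smul_comm, smul_smul] at this
        rw [mul_assoc (A ^ (j : ℕ)), ← mul_assoc (A - algebraMap F _ a), hc1.eq] at this
        rw [mul_comm (c : F), mul_comm (c' : F)]
        rw [← this]
        simp only [mul_assoc]
      rw [← hAN.mul_pow, ← hAN.mul_pow, hone, one_pow, one_pow, one_mul] at hprod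
      set s : F := ((c : F) * σ.toRingHom c)⁻¹ * ((c' : F) * σ.toRingHom c') with hsdef
      have hcc : (c : F) * σ.toRingHom c ≠ 0 :=
        mul_ne_zero c.ne_zero ((_root_.map_ne_zero σ.toRingHom).2 c.ne_zero)
      have hprod' : (A - algebraMap F _ a) * (N - algebraMap F _ (σ.toRingHom a)) =
          algebraMap F _ s := by
        rw [Algebra.algebraMap_eq_smul_one (A := Matrix (Fin d) (Fin d) F) s, hsdef, mul_smul,
          ← hprod, smul_smul, inv_mul_cancel₀ hcc, one_smul]
      set Q : F[X] := (X - C a) * (1 - C (σ.toRingHom a) * X) - C s * X with hQ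
      have hQ0 : aeval A Q = 0 := by
        have hA1 : 1 - algebraMap F _ (σ.toRingHom a) * A =
            (N - algebraMap F _ (σ.toRingHom a)) * A := by
          rw [sub_mul, show N * A = 1 from M.inv_mul]
        simp only [hQ, map_sub, map_mul, aeval_X, aeval_C, map_one]
        rw [hA1, ← mul_assoc, hprod', sub_self]
      have hQne : Q ≠ 0 := fun h => ha0 (by
        have := congrArg (Polynomial.eval 0) h
        simpa [hQ] using this)
      have hQdeg : Q.natDegree ≤ 2 := by
        rw [hQ]
        compute_degree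
      have := natDegree_le_of_dvd (minpoly.dvd F A hQ0) hQne
      omega
    have hinj : Function.Injective f := by
      rintro ⟨c, j, b⟩ ⟨c', j', b'⟩ h
      have he : aeval A (poly (c, j, b)) = aeval A (poly (c', j', b')) := by
        rw [← hv, ← hv, show v (poly (c, j, b)) = v (poly (c', j', b')) from congrArg Subtype.val h]
      have hbb : b = b' := by
        cases b <;> cases b'
        · rfl
        · exact absurd he.symm (hmixed _ _ _ _)
        · exact absurd he (hmixed _ _ _ _)
        · rfl
      subst hbb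
      simp only [poly, map_mul] at he
      have hu' : IsUnit (aeval A (if b then X - C a else 1 : F[X])) := by
        cases b
        · simp
        · rw [if_pos rfl, map_sub, aeval_X, aeval_C]; exact hu
      have he' := hu'.mul_right_cancel he
      simp only [aeval_C, map_pow, aeval_X, ← Algebra.smul_def] at he'
      obtain ⟨rfl, hc⟩ := smul_pow_inj M hd0 c.ne_zero he'
      rw [Units.ext hc]
    have := Fintype.card_le_of_injective f hinj
    rw [Fintype.card_prod, Fintype.card_prod, Fintype.card_units, Fintype.card_bool,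
      Fintype.card_fin, Fintype.card_subtype_compl, Fintype.card_subtype_eq, Fintype.card_fun,
      Fintype.card_fin] at this
    rw [← mul_assoc, ← hq] at this
    change (q - 1) * projOrder M * 2 ≤ q ^ d - 1 at this
    omega
  push Not at hroot
  -- all nonzero scalars are eigenvalues
  have hm : q - 1 ≤ d := by
    have := Polynomial.card_le_degree_of_subset_roots (p := A.charpoly)
      (Z := Finset.univ.erase (0 : F)) (fun x hx => by
        rw [Finset.mem_val, Finset.mem_erase] at hx
        rw [mem_roots (charpoly_monic A).ne_zero]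
        exact hroot x hx.1)
    rwa [charpoly_natDegree_eq_dim, Fintype.card_fin, Finset.card_erase_of_mem (Finset.mem_univ _),
      Finset.card_univ] at this
  have hb : (q - 1) * projOrder M ≤ (q - 1) ^ (q - 1) * q ^ (d - (q - 1)) := by
    let pol : (Fin d → F) → F[X] := fun w => ∑ i, C (w i) * X ^ (i : ℕ)
    let w : Fˣ × Fin (projOrder M) → Fin d → F := fun x => v (C (x.1 : F) * X ^ (x.2 : ℕ))
    have hw : ∀ x, aeval A (pol (w x)) = (x.1 : F) • A ^ (x.2 : ℕ) := by
      intro x
      have h := hv (C (x.1 : F) * X ^ (x.2 : ℕ))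
      simp only [pol, w, map_sum, map_mul, map_pow, aeval_X, aeval_C, ← Algebra.smul_def] at h ⊢
      exact h
    have hev : ∀ x (a : {a : F // a ≠ 0}), (pol (w x)).eval a.1 ≠ 0 := by
      intro x a h0
      obtain ⟨R, hR⟩ := dvd_iff_isRoot.2 h0
      have h1 : IsUnit (aeval A (pol (w x))) := by
        rw [hw, Algebra.smul_def]
        exact (x.1.isUnit.map (algebraMap F _)).mul (M.isUnit.pow _)
      rw [hR, map_mul, Matrix.isUnit_iff_isUnit_det, det_mul, isUnit_iff_ne_zero] at h1
      refine left_ne_zero_of_mul h1 ?_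
      rw [map_sub, aeval_X, aeval_C, ← neg_sub, det_neg,
        show algebraMap F (Matrix (Fin d) (Fin d) F) a.1 = scalar (Fin d) a.1 from rfl,
        ← Matrix.eval_charpoly, show A.charpoly.eval a.1 = 0 from hroot a.1 a.2, mul_zero]
    let f : Fˣ × Fin (projOrder M) →
        ({a : F // a ≠ 0} → {x : F // x ≠ 0}) × ({i : Fin d // q - 1 ≤ (i : ℕ)} → F) :=
      fun x => (fun a => ⟨_, hev x a⟩, fun i => w x i.1)
    have hinj : Function.Injective f := by
      intro x y h
      obtain ⟨h1, h2⟩ := Prod.ext_iff.1 h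
      have hpol : pol (w x) - pol (w y) = 0 := by
        have hdeg : (pol (w x) - pol (w y)).degree < (q - 1 : ℕ) := by
          simp only [pol, ← Finset.sum_sub_distrib, ← sub_mul, ← C_sub]
          refine (degree_sum_le _ _).trans_lt ((Finset.sup_lt_iff (WithBot.bot_lt_coe _)).2 ?_)
          intro i _
          by_cases hi : q - 1 ≤ (i : ℕ)
          · rw [show w x i = w y i from congrFun h2 ⟨i, hi⟩, sub_self, C_0, zero_mul, degree_zero]
            exact WithBot.bot_lt_coe _
          · exact (degree_C_mul_X_pow_le _ _).trans_lt (by exact_mod_cast Nat.lt_of_not_le hi)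
        refine eq_zero_of_natDegree_lt_card_of_eval_eq_zero' _ (Finset.univ.erase (0 : F))
          (fun a ha => ?_) ?_
        · rw [eval_sub, sub_eq_zero]
          exact congrArg Subtype.val (congrFun h1 ⟨a, Finset.ne_of_mem_erase ha⟩)
        · rw [Finset.card_erase_of_mem (Finset.mem_univ _), Finset.card_univ]
          rcases eq_or_ne (pol (w x) - pol (w y)) 0 with hz | hz
          · rw [hz, natDegree_zero]; omega
          · exact (natDegree_lt_iff_degree_lt hz).2 hdeg
      have he : (x.1 : F) • A ^ (x.2 : ℕ) = (y.1 : F) • A ^ (y.2 : ℕ) := by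
        rw [← hw, ← hw, sub_eq_zero.1 hpol]
      obtain ⟨hj, hc⟩ := smul_pow_inj M hd0 x.1.ne_zero he
      exact Prod.ext (Units.ext hc) hj
    have := Fintype.card_le_of_injective f hinj
    rw [Fintype.card_prod, Fintype.card_units, Fintype.card_fin, Fintype.card_prod,
      Fintype.card_fun, Fintype.card_fun, Fintype.card_subtype_compl, Fintype.card_subtype_eq] at this
    have hcard : Fintype.card {i : Fin d // q - 1 ≤ (i : ℕ)} = d - (q - 1) := by
      rw [Fintype.card_subtype]
      have : (Finset.univ.filter fun i : Fin d => q - 1 ≤ (i : ℕ)).map Fin.valEmbedding =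
          Finset.Ico (q - 1) d := by
        ext k
        simp only [Finset.mem_map, Finset.mem_filter, Finset.mem_univ, true_and,
          Fin.valEmbedding_apply, Finset.mem_Ico]
        exact ⟨by rintro ⟨i, hi, rfl⟩; exact ⟨hi, i.2⟩, fun hk => ⟨⟨k, hk.2⟩, hk.1, rfl⟩⟩
      rw [← Finset.card_map, this, Nat.card_Ico]
    rw [hcard] at this
    exact this
  rcases Nat.lt_or_ge q 3 with hq3 | hq3
  · have hqeq : q = 2 := by omega
    rw [hqeq] at hb ⊢
    have hd4 : 4 ≤ d := by
      by_contra h
      exact h32 ⟨by omega, by assumption⟩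
    simp only [Nat.add_one_sub_one, one_mul, one_pow, one_mul] at hb ⊢
    have h2d : 2 * 2 ^ (d - 1) = 2 ^ d := by
      rw [← pow_succ']; congr 1; omega
    by_contra hlt
    have heq : projOrder M = 2 ^ (d - 1) := by omega
    have hchar : CharP F 2 := charP_of_card_eq_prime_pow (f := 1) (by rw [pow_one]; omega)
    have hscal : ∀ g : GL (Fin d) F, g ∈ Subgroup.center (GL (Fin d) F) → g = 1 := by
      intro g hg
      rw [Matrix.GeneralLinearGroup.center_eq_range_scalar] at hg
      obtain ⟨u, rfl⟩ := hg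
      have : Fintype.card Fˣ = 1 := by rw [Fintype.card_units]; omega
      rw [show u = 1 from (Fintype.card_le_one_iff.1 this.le) u 1, map_one]
    have hpow : A ^ (2 ^ (d - 1) * 1) = 1 := by
      have h := hscal (M ^ (2 ^ (d - 1) * 1)) (by
        rw [← QuotientGroup.eq_one_iff, QuotientGroup.mk_pow, mul_one, ← heq, pow_orderOf_eq_one])
      rw [hA, ← Units.val_pow_eq_pow_val, h, Units.val_one]
    have hle : d ≤ 2 ^ (d - 2) := by
      have : ∀ k, 2 ≤ k → k + 2 ≤ 2 ^ k := by
        intro k hk
        induction k, hk using Nat.le_induction with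
        | base => norm_num
        | succ k _ ih => rw [pow_succ]; omega
      have := this (d - 2) (by omega)
      omega
    have hsmall := CfsgLib.LinearOrders.pow_pTimes (p := 2) A hpow (T := d - 2)
      (by rw [Fintype.card_fin]; exact hle)
    have hM1 : M ^ (2 ^ (d - 2)) = 1 := Units.ext (by
      rw [Units.val_pow_eq_pow_val, Units.val_one]; simpa using hsmall)
    have hdvd : projOrder M ≤ 2 ^ (d - 2) := Nat.le_of_dvd (Nat.two_pow_pos _)
      (orderOf_dvd_of_pow_eq_one (by rw [← QuotientGroup.mk_pow, hM1]; rfl))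
    have : 2 * 2 ^ (d - 2) = 2 ^ (d - 1) := by rw [← pow_succ']; congr 1; omega
    have := Nat.two_pow_pos (d - 2)
    omega
  obtain ⟨m, hm1⟩ : ∃ m, q = m + 1 := ⟨q - 1, by omega⟩
  have hb' := pow_succ_gt m (by omega) m (by omega)
  have h2 : 2 * m ^ m < (m + 1) ^ m := by
    refine Nat.lt_of_mul_lt_mul_right (a := m) ?_
    calc 2 * m ^ m * m = m ^ m * (m + m) := by ring
      _ < _ := hb'
  have h3 : 2 * ((q - 1) ^ (q - 1) * q ^ (d - (q - 1))) < q ^ d := by
    rw [← mul_assoc]
    conv_rhs => rw [show d = (q - 1) + (d - (q - 1)) by omega, pow_add]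
    refine Nat.mul_lt_mul_of_pos_right ?_ (pow_pos (by omega) _)
    rw [hm1, Nat.add_sub_cancel]
    exact h2
  omega

omit [Fintype F] [Field F] in
/-- `c e (1 + r + …) ≤ 1 + r^e + …`. -/
theorem geom_bound {c e r : ℕ} (hr : 2 ≤ r) (he : 2 ≤ e) (hc : 2 * c ≤ r ^ (e - 1)) :
    ∀ n, 3 ≤ n → c * e * ∑ i ∈ Finset.range n, r ^ i ≤ ∑ i ∈ Finset.range n, (r ^ e) ^ i := by
  have he' : e ≤ r ^ (e - 1) := by
    have h1 : e - 1 < 2 ^ (e - 1) := Nat.lt_two_pow_self
    have h2 : 2 ^ (e - 1) ≤ r ^ (e - 1) := Nat.pow_le_pow_left hr _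
    omega
  intro n hn
  induction n, hn using Nat.le_induction with
  | base =>
    simp only [Finset.sum_range_succ, Finset.sum_range_zero, zero_add, pow_zero, pow_one]
    have h1 : 1 + r ≤ r ^ 2 := by rw [pow_two]; nlinarith
    calc c * e * (1 + r + r ^ 2) ≤ c * e * (r ^ 2 + r ^ 2) := Nat.mul_le_mul_left _ (by omega)
      _ = (2 * c) * e * r ^ 2 := by ring
      _ ≤ r ^ (e - 1) * r ^ (e - 1) * r ^ 2 := Nat.mul_le_mul_right _ (Nat.mul_le_mul hc he')
      _ = (r ^ e) ^ 2 := by
        rw [← pow_add, ← pow_add, ← pow_mul]; congr 1; omega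
      _ ≤ _ := Nat.le_add_left _ _
  | succ n hn ih =>
    rw [Finset.sum_range_succ, Finset.sum_range_succ, mul_add]
    refine Nat.add_le_add ih ?_
    calc c * e * r ^ n ≤ r ^ (e - 1) * r ^ (e - 1) * r ^ n :=
          Nat.mul_le_mul_right _ (Nat.mul_le_mul (by omega) he')
      _ ≤ r ^ ((e - 1) * n) * r ^ n := by
        refine Nat.mul_le_mul_right _ ?_
        rw [← pow_add]
        exact Nat.pow_le_pow_right (by omega) (by nlinarith)
      _ = (r ^ e) ^ n := by
        rw [← pow_add, ← pow_mul]; congr 1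
        rw [Nat.sub_mul, one_mul, Nat.sub_add_cancel]
        exact Nat.le_mul_of_pos_left _ (by omega)

omit [Fintype F] [Field F] in
theorem geom_bound_two {e r : ℕ} (hr : 2 ≤ r) (he : 2 ≤ e) (h : 3 ≤ e ∨ 3 ≤ r) :
    e * (1 + r) ≤ 1 + r ^ e := by
  rcases eq_or_lt_of_le he with rfl | he3
  · rw [pow_two]
    have : 3 ≤ r := by omega
    nlinarith
  · induction e, (he3 : 3 ≤ e) using Nat.le_induction with
    | base => rw [pow_succ, pow_two]; nlinarith [Nat.mul_le_mul hr hr]
    | succ e he3 ih =>
      have := ih (by omega) (Or.inl he3)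
      have h2 : r ^ 3 ≤ r ^ e := Nat.pow_le_pow_right (by omega) he3
      have h4 : 1 + r ≤ r ^ 3 := by rw [pow_succ, pow_two]; nlinarith [Nat.mul_le_mul hr hr]
      rw [pow_succ, add_mul, one_mul]
      have h5 : r ^ e * 2 ≤ r ^ e * r := Nat.mul_le_mul_left _ hr
      omega

/-- Semilinear automorphisms. -/
theorem semilinear_le (hd : 2 ≤ d) (h24 : ¬ (d = 2 ∧ Fintype.card F = 4)) (g : GL (Fin d) F)
    (σ : F ≃+* F) :
    orderOf (toPSLAut (conjSL g * fieldSL σ)) ≤ ∑ i ∈ Finset.range d, Fintype.card F ^ i := by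
  obtain ⟨r, hr, hq, ho⟩ := semilinear_bound (by omega) g σ
  refine ho.trans ?_
  rw [hq]
  have hsfin : Finite (F ≃+* F) := Finite.of_injective (fun σ : F ≃+* F => (σ : F → F))
    DFunLike.coe_injective
  have hpos := orderOf_pos σ
  rcases Nat.lt_or_ge (orderOf σ) 2 with he | he
  · rw [show orderOf σ = 1 by omega, one_mul, pow_one]
  rcases Nat.lt_or_ge d 3 with hd3 | hd3
  · obtain rfl : d = 2 := by omega
    simp only [Finset.sum_range_succ, Finset.sum_range_zero, zero_add, pow_zero, pow_one]
    refine geom_bound_two hr he ?_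
    by_contra hc
    push Not at hc
    have h1 : orderOf σ = 2 := by omega
    have h2 : r = 2 := by omega
    rw [h1, h2] at hq
    exact h24 ⟨rfl, by omega⟩
  · have h := geom_bound (c := 1) hr he (by
      rw [mul_one]
      exact le_trans hr (le_trans (pow_one r).ge (Nat.pow_le_pow_right (by omega) (by omega)))) d hd3
    rwa [one_mul] at h

/-- Let F be a finite field with q elements and d ≥ 2, with q ≥ 4 when d = 2, and (d, q) ∉ {(2, 4), (3, 2)}. Then every automorphism of the simple group PSL_d(F) has order at most (q^d − 1)/(q − 1) as an element of the automorphism group, and some automorphism has exactly this order. -/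
theorem result {F : Type*} [Field F] [Fintype F] (d : ℕ) (hd : 2 ≤ d)
    (h2 : d = 2 → 4 ≤ Fintype.card F) (h24 : ¬ (d = 2 ∧ Fintype.card F = 4)) (h32 : ¬ (d = 3 ∧ Fintype.card F = 2)) :
    (∀ φ : MulAut (Matrix.ProjectiveSpecialLinearGroup (Fin d) F),
      (Fintype.card F - 1) * orderOf φ ≤ Fintype.card F ^ d - 1) ∧
    (∃ φ : MulAut (Matrix.ProjectiveSpecialLinearGroup (Fin d) F),
      (Fintype.card F - 1) * orderOf φ = Fintype.card F ^ d - 1) := by
  classical
  have hq2 : 2 ≤ Fintype.card F := Fintype.one_lt_card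
  have hsfin : Finite (F ≃+* F) := Finite.of_injective (fun σ : F ≃+* F => (σ : F → F))
    DFunLike.coe_injective
  have fin : ∀ {n : ℕ}, n ≤ ∑ i ∈ Finset.range d, Fintype.card F ^ i →
      (Fintype.card F - 1) * n ≤ Fintype.card F ^ d - 1 := fun {n} h => by
    rw [← mul_geom_le (by omega : 1 ≤ Fintype.card F) d]
    exact Nat.mul_le_mul_left _ h
  constructor
  · intro φ
    obtain ⟨g, σ, γ, hγ, rfl⟩ := exists_form hd φ
    rcases hγ with rfl | rfl
    · rw [mul_one]; exact fin (semilinear_le hd h24 g σ)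
    rcases eq_or_lt_of_le hd with rfl | hd3
    · obtain ⟨w, hw⟩ := invTransSL_fin_two (F := F)
      rw [hw, mul_assoc, fieldSL_mul_conjSL, ← mul_assoc, ← map_mul]
      exact fin (semilinear_le le_rfl h24 _ σ)
    set M := g * mapGL σ (invTransGL g) with hM
    have hsq : toPSLAut (conjSL g * fieldSL σ * invTransSL) ^ 2 =
        toPSLAut (conjSL M * fieldSL (σ * σ)) := by rw [← map_pow, graph_sq]
    have hle : orderOf (toPSLAut (conjSL g * fieldSL σ * invTransSL)) ≤
        2 * orderOf (toPSLAut (conjSL M * fieldSL (σ * σ))) := by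
      refine Nat.le_of_dvd (Nat.mul_pos two_pos ?_) (orderOf_dvd_of_pow_eq_one ?_)
      · have : Finite (MulAut (Matrix.ProjectiveSpecialLinearGroup (Fin d) F)) :=
          Finite.of_injective (fun f => (f : _ → _)) DFunLike.coe_injective
        exact orderOf_pos _
      · rw [pow_mul, hsq, pow_orderOf_eq_one]
    by_cases hσ : σ * σ = 1
    · have hb := unitary_bound hd3 h32 M σ
        (fun P hP => aeval_inv_eq_zero g σ (fun x => RingEquiv.congr_fun hσ x) P hP)
      rw [hσ, map_one, mul_one] at hle
      have := orderOf_toPSLAut_conjSL_le M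
      calc (Fintype.card F - 1) * _ ≤ (Fintype.card F - 1) * (2 * projOrder M) :=
            Nat.mul_le_mul_left _ (by omega)
        _ = 2 * ((Fintype.card F - 1) * projOrder M) := by ring
        _ ≤ _ := hb
    · obtain ⟨r, hr, hq, ho⟩ := semilinear_bound (by omega) M (σ * σ)
      set e := orderOf (σ * σ) with he
      have he2 : 2 ≤ e := by
        have h1 := orderOf_pos (σ * σ)
        have h3 : e ≠ 1 := fun h => hσ (orderOf_eq_one_iff.1 h)
        omega
      have hc : 2 * 2 ≤ r ^ (e - 1) := by
        rcases eq_or_lt_of_le he2 with h | h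
        · -- `σ` has order four
          rw [← h]
          have h4 : orderOf σ = 4 := by
            refine orderOf_eq_prime_pow (p := 2) (n := 1) ?_ ?_
            · rw [pow_one, pow_two]; exact hσ
            · rw [show 2 ^ (1 + 1) = 2 * 2 by norm_num, pow_mul, pow_two σ, h, he, pow_orderOf_eq_one]
          obtain ⟨r₀, hr₀, hq₀, -⟩ := semilinear_bound (by omega : 0 < d) M σ
          rw [h4] at hq₀
          rw [← h] at hq
          have h5 : r = r₀ ^ 2 := Nat.pow_left_injective two_ne_zero
            (show r ^ 2 = (r₀ ^ 2) ^ 2 by rw [← hq, hq₀, ← pow_mul])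
          rw [show (2 - 1) = 1 from rfl, pow_one, h5]
          exact le_trans (by norm_num) (Nat.pow_le_pow_left hr₀ 2)
        · exact le_trans (le_trans (by norm_num) (Nat.pow_le_pow_left hr 2))
            (Nat.pow_le_pow_right (by omega) (by omega))
      have hg := geom_bound (c := 2) hr he2 hc d hd3
      rw [← hq, mul_assoc] at hg
      exact fin (hle.trans ((Nat.mul_le_mul_left 2 ho).trans hg))
  · obtain ⟨x, hx⟩ := (Cfsg.Agent.S2261.result (F := F) d (by omega)).2
    induction x using QuotientGroup.induction_on with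
    | H g =>
      obtain ⟨p, hp⟩ := CharP.exists F
      have : Fact p.Prime := ⟨CharP.char_is_prime F p⟩
      have : Nontrivial (Fin d) := Fin.nontrivial_iff_two_le.2 hd
      refine ⟨toPSLAut (conjSL g), ?_⟩
      have heq : orderOf (toPSLAut (conjSL g)) = projOrder g := by
        refine orderOf_eq_orderOf_iff.2 fun k => ?_
        rw [← map_pow, ← map_pow, ← map_one (toPSLAut (ι := Fin d) (F := F)),
          (toPSLAut_injective p).eq_iff, conjSL_eq_one_iff, ← QuotientGroup.mk_pow,
          QuotientGroup.eq_one_iff, Matrix.GeneralLinearGroup.center_eq_range_scalar]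
        constructor
        · rintro ⟨u, hu⟩; exact ⟨u, hu.symm⟩
        · rintro ⟨u, hu⟩; exact ⟨u, hu.symm⟩
      rw [heq]
      exact hx

end Cfsg.Agent.S2262
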