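import Cfsg.Statements.S2263
import Cfsg.Agent.PGUOrders.Bound
import Cfsg.Agent.PGUOrders.Witness

set_option autoImplicit false
open Cfsg

namespace Cfsg.Agent.S2263

open CfsgLib CfsgLib.PGUOrders Matrix

/-- Let q = p^f with p prime and f ≥ 1, F a field with q² elements, d ≥ 3 with (d, q) ≠ (3, 2), and PGU_d(q) the general unitary group of the standard Hermitian form modulo its centre. Then the largest order of an element of PGU_d(q) is: q^(d−1) − 1 if d is odd and f ≥ 2; (p^(d−2) + 1)p if d is odd and f = 1; q^(d−1) + 1 if d is even and q > 2; 4(2^(d−3) + 1) if d is even and q = 2. -/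
theorem result {F : Type*} [Field F] [Fintype F] (p f d : ℕ) (hp : p.Prime) (hf : 1 ≤ f) (q : ℕ) (hq : q = p ^ f)
    (hF : Fintype.card F = q ^ 2) (hd : 3 ≤ d) (h32 : ¬ (d = 3 ∧ q = 2)) :
    (Odd d → 2 ≤ f → (∀ g : (↥(Cfsg.GU d F q) ⧸ Subgroup.center ↥(Cfsg.GU d F q)), orderOf g ≤ q ^ (d - 1) - 1) ∧ ∃ g : (↥(Cfsg.GU d F q) ⧸ Subgroup.center ↥(Cfsg.GU d F q)), orderOf g = q ^ (d - 1) - 1) ∧
    (Odd d → f = 1 → (∀ g : (↥(Cfsg.GU d F q) ⧸ Subgroup.center ↥(Cfsg.GU d F q)), orderOf g ≤ (p ^ (d - 2) + 1) * p) ∧ ∃ g : (↥(Cfsg.GU d F q) ⧸ Subgroup.center ↥(Cfsg.GU d F q)), orderOf g = (p ^ (d - 2) + 1) * p) ∧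
    (Even d → 2 < q → (∀ g : (↥(Cfsg.GU d F q) ⧸ Subgroup.center ↥(Cfsg.GU d F q)), orderOf g ≤ q ^ (d - 1) + 1) ∧ ∃ g : (↥(Cfsg.GU d F q) ⧸ Subgroup.center ↥(Cfsg.GU d F q)), orderOf g = q ^ (d - 1) + 1) ∧
    (Even d → q = 2 → (∀ g : (↥(Cfsg.GU d F q) ⧸ Subgroup.center ↥(Cfsg.GU d F q)), orderOf g ≤ 4 * (2 ^ (d - 3) + 1)) ∧ ∃ g : (↥(Cfsg.GU d F q) ⧸ Subgroup.center ↥(Cfsg.GU d F q)), orderOf g = 4 * (2 ^ (d - 3) + 1)) := by
  classical
  haveI : Fact p.Prime := ⟨hp⟩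
  obtain ⟨σ, hσ⟩ := AschbacherUnitary.exists_isConj hF
  have hq2 : 2 ≤ q := hσ.one_lt
  haveI : CharP F p := charP_of_card_eq_prime_pow (f := 2 * f) (by rw [hF, hq, ← pow_mul, mul_comm])
  set τ : F →+* F := (σ : F →+* F)
  have hτ : ∀ x, τ x = x ^ q := hσ.eq_pow
  have hbound : ∀ g : (↥(Cfsg.GU d F q) ⧸ Subgroup.center ↥(Cfsg.GU d F q)),
      ∃ e B, 1 ≤ e ∧ IsBd p q d e B ∧ orderOf g ≤ B := by
    intro g
    induction g using QuotientGroup.induction_on with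
    | _ g =>
    set G : Matrix (Fin d) (Fin d) F := ((g : GL (Fin d) F) : Matrix (Fin d) (Fin d) F) with hG
    have hu : UnitOrders.uAdj τ G * G = 1 := by
      have h1 : Gᵀ * G.map σ = 1 := hσ.mem_GU_iff.1 g.2
      have h2 := congrArg (fun M : Matrix (Fin d) (Fin d) F => M.map σ) h1
      beta_reduce at h2
      rw [Matrix.map_mul, Matrix.map_one _ (map_zero σ) (map_one σ)] at h2
      rw [show (G.map σ).map σ = G from Matrix.ext fun i j => hσ.involutive _] at h2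
      exact h2
    obtain ⟨e, B, c, he, hB, hbd, hc⟩ := exists_scalar_pow hτ hq hq2 hF (by omega) hu
    refine ⟨e, B, he, hbd, Nat.le_of_dvd hB (orderOf_dvd_of_pow_eq_one ?_)⟩
    rw [← QuotientGroup.mk_pow, QuotientGroup.eq_one_iff, Subgroup.mem_center_iff]
    intro h
    apply Subtype.ext
    apply Units.ext
    show ((h : GL (Fin d) F) : Matrix (Fin d) (Fin d) F) * G ^ B = G ^ B * _
    rw [hc, mul_smul_comm, mul_one, smul_mul_assoc, one_mul]
  have hpq : p ∣ q := hq ▸ dvd_pow_self p (by omega)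
  have hcop : ∀ k, 0 < k → Nat.Coprime p (q ^ k + 1) := fun k hk => by
    refine Nat.Coprime.coprime_dvd_left (hpq.trans (dvd_pow_self q hk.ne')) ?_
    exact Nat.coprime_self_add_right.2 (Nat.coprime_one_right _)
  refine ⟨fun hodd hf2 => ⟨fun g => ?_, ?_⟩, fun hodd hf1 => ⟨fun g => ?_, ?_⟩,
    fun heven hq3 => ⟨fun g => ?_, ?_⟩, fun heven hq' => ⟨fun g => ?_, ?_⟩⟩
  · obtain ⟨e, B, he, hbd, hg⟩ := hbound g
    exact hg.trans (bd_odd_big hp.one_lt hf2 hq hd hodd he hbd)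
  · obtain ⟨h, hh⟩ := hodd
    obtain ⟨H, X, h1, h2, h3, h4⟩ := exists_hyperbolic (n := h) (p := p) hτ hσ.involutive hF (by omega)
    obtain ⟨g, hg⟩ := exists_order (p := p) (T := 0) (m := 1) hσ hF (by omega : 2 ≤ d)
      (by rw [Fintype.card_sum, Fintype.card_fin]; omega) le_rfl (by simp) (by simp) (by
        refine Nat.Coprime.coprime_dvd_left
          (hpq.trans (dvd_pow_self q (show 2 * h ≠ 0 by omega))) ?_
        have := Nat.one_lt_pow (show 2 * h ≠ 0 by omega) hq2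
        exact (Nat.coprime_self_sub_right (by omega)).2 (Nat.coprime_one_right _)) h1 h2 h3 h4
    exact ⟨g, by rw [hg, pow_zero, one_mul, show d - 1 = 2 * h by omega]⟩
  · subst hf1
    rw [pow_one] at hq
    obtain ⟨e, B, he, hbd, hg⟩ := hbound g
    exact hg.trans (bd_odd_prime hp.one_lt hq hd hodd he hbd)
  · subst hf1
    obtain ⟨h, hh⟩ := hodd
    obtain ⟨H, X, h1, h2, h3, h4⟩ := exists_singer (n := d - 2) (p := p) hτ hF hq hq2 (by omega)
      ⟨h - 1, by omega⟩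
    obtain ⟨g, hg⟩ := exists_order (p := p) (T := 1) (m := 2) hσ hF (by omega : 2 ≤ d)
      (by rw [Fintype.card_fin]; omega) (by norm_num) (by rw [pow_one]; exact hp.two_le)
      (by simp) (hcop _ (by omega)) h1 h2 h3 h4
    exact ⟨g, by rw [hg, pow_one, hq, pow_one, mul_comm]⟩
  · obtain ⟨e, B, he, hbd, hg⟩ := hbound g
    exact hg.trans (bd_even_big hp.one_lt hf hq hq3 hd heven he hbd)
  · obtain ⟨h, hh⟩ := heven
    obtain ⟨H, X, h1, h2, h3, h4⟩ := exists_singer (n := d - 1) (p := p) hτ hF hq hq2 (by omega)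
      ⟨h - 1, by omega⟩
    obtain ⟨g, hg⟩ := exists_order (p := p) (T := 0) (m := 1) hσ hF (by omega : 2 ≤ d)
      (by rw [Fintype.card_fin]; omega) le_rfl (by simp) (by simp) (hcop _ (by omega)) h1 h2 h3 h4
    exact ⟨g, by rw [hg, pow_zero, one_mul]⟩
  · obtain ⟨e, B, he, hbd, hg⟩ := hbound g
    have hp2 : p = 2 := ((Nat.prime_dvd_prime_iff_eq hp Nat.prime_two).1
      (hq' ▸ hq ▸ dvd_pow_self p (by omega)))
    subst hp2
    rw [hq'] at hbd
    exact hg.trans (bd_even_two hd heven he hbd)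
  · obtain ⟨h, hh⟩ := heven
    have hp2 : p = 2 := ((Nat.prime_dvd_prime_iff_eq hp Nat.prime_two).1
      (hq' ▸ hq ▸ dvd_pow_self p (by omega)))
    subst hp2
    obtain ⟨H, X, h1, h2, h3, h4⟩ := exists_singer (n := d - 3) (p := 2) hτ hF hq hq2 (by omega)
      ⟨h - 2, by omega⟩
    obtain ⟨g, hg⟩ := exists_order (p := 2) (T := 2) (m := 3) hσ hF (by omega : 2 ≤ d)
      (by rw [Fintype.card_fin]; omega) (by norm_num) (by norm_num)
      (by norm_num) (hcop _ (by omega)) h1 h2 h3 h4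
    exact ⟨g, by rw [hg, hq']; norm_num⟩

end Cfsg.Agent.S2263
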