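import Cfsg.Statements.S2264
import Cfsg.Agent.OrderBound.Isometry
-- import your own Cfsg.Agent.* helpers here

set_option autoImplicit false
open Cfsg

namespace Cfsg.Agent.S2264

open Matrix

open Matrix in
/-- Pass the scalar power to the central quotient of a matrix group. -/
theorem quot_bound {G : Type*} [Group G] {F : Type*} [Field F] {ι : Type*} [Fintype ι] [DecidableEq ι]
    (M : G →* Matrix ι ι F) (hM : Function.Injective M) (g : G) {n : ℕ} {c : F}
    (h : M g ^ n = c • 1) (hn : 0 < n) :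
    orderOf (QuotientGroup.mk g : G ⧸ Subgroup.center G) ≤ n := by
  refine Nat.le_of_dvd hn (orderOf_dvd_of_pow_eq_one ?_)
  rw [← QuotientGroup.mk_pow, QuotientGroup.eq_one_iff, Subgroup.mem_center_iff]
  intro x
  apply hM
  rw [map_mul, map_mul, map_pow, h, Matrix.mul_smul, Matrix.smul_mul, mul_one, one_mul]

/-- Let F be a finite field with q elements and m ≥ 2. Then every element g of PSp_2m(F) satisfies (q − 1)·|g| ≤ q^(m+1), i.e. has order at most q^(m+1)/(q − 1). -/
theorem result {F : Type*} [Field F] [Fintype F] (m : ℕ) (hm : 2 ≤ m) (g : Cfsg.PSp m F) :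
    (Fintype.card F - 1) * orderOf g ≤ Fintype.card F ^ (m + 1) := by
  classical
  induction g using QuotientGroup.induction_on with
  | H g =>
    have hB : ((Units.mk (g : Matrix (Fin m ⊕ Fin m) (Fin m ⊕ Fin m) F)
        ((g⁻¹ : Matrix.symplecticGroup (Fin m) F) : Matrix _ _ F)
        (by rw [← Submonoid.coe_mul, mul_inv_cancel]; rfl)
        (by rw [← Submonoid.coe_mul, inv_mul_cancel]; rfl) : GL (Fin m ⊕ Fin m) F) :
          Matrix (Fin m ⊕ Fin m) (Fin m ⊕ Fin m) F)ᵀ *
        ((Units.mk (Matrix.J (Fin m) F) (-Matrix.J (Fin m) F)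
          (by rw [mul_neg, Matrix.J_squared, neg_neg]) (by rw [neg_mul, Matrix.J_squared, neg_neg]) :
          GL (Fin m ⊕ Fin m) F) : Matrix (Fin m ⊕ Fin m) (Fin m ⊕ Fin m) F) * (g : Matrix _ _ F) =
        Matrix.J (Fin m) F := SymplecticGroup.mem_iff'.1 g.2
    have : Nonempty (Fin m ⊕ Fin m) := ⟨Sum.inl ⟨0, by omega⟩⟩
    obtain ⟨n, c, hn, hb, hp⟩ := CfsgLib.OrderBound.isometry_pow_scalar _ _ hB m
      (Or.inl ⟨hm, by simp; omega⟩)
    exact le_trans (Nat.mul_le_mul_left _ (quot_bound (Matrix.symplecticGroup (Fin m) F).subtype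
      Subtype.val_injective g hp hn)) hb

end Cfsg.Agent.S2264
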