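import Cfsg.Statements.S2265
import Cfsg.Agent.OrderBound.Isometry
import Cfsg.Agent.FormDiscr.Basic
import Cfsg.Agent.Spinor.Reflection
import Cfsg.Agent.Spinor.StdForms
-- import your own Cfsg.Agent.* helpers here

set_option autoImplicit false
open Cfsg

namespace Cfsg.Agent.S2265

open Matrix in
/-- Pass the scalar power to the central quotient of a matrix group. -/
theorem quot_bound {G : Type*} [Group G] {F : Type*} [Field F] {ι : Type*} [Fintype ι] [DecidableEq ι]
    (M : G →* Matrix ι ι F) (hM : Function.Injective M) (g : G) {n : ℕ} {c : F}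
    (h : M g ^ n = c • 1) (hn : 0 < n) :
    orderOf (QuotientGroup.mk g : G ⧸ Subgroup.center G) ≤ n := by
  refine Nat.le_of_dvd hn (orderOf_dvd_of_pow_eq_one ?_)
  rw [← QuotientGroup.mk_pow, QuotientGroup.eq_one_iff, Subgroup.mem_center_iff]
  intro x
  apply hM
  rw [map_mul, map_mul, map_pow, h, Matrix.mul_smul, Matrix.smul_mul, mul_one, one_mul]

open Matrix in
/-- The bound for `POmega` of a nondegenerate form. -/
theorem omega_bound {F : Type*} [Field F] [Fintype F] {ι : Type} [Fintype ι] [DecidableEq ι]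
    [Nonempty ι] (Q : QuadraticForm F (ι → F)) (hQ : (QuadraticMap.polarBilin Q).Nondegenerate)
    (m : ℕ) (hN : (2 ≤ m ∧ Fintype.card ι ≤ 2 * m) ∨
      (3 ≤ m ∧ Fintype.card ι ≤ 2 * m + 1 ∧ (2 : F) ≠ 0))
    (g : Cfsg.POmega F ⇑Q) :
    (Fintype.card F - 1) * orderOf g ≤ Fintype.card F ^ (m + 1) := by
  classical
  induction g using QuotientGroup.induction_on with
  | H g =>
    obtain ⟨B, hBv⟩ := (Matrix.isUnit_iff_isUnit_det (CfsgLib.FormDiscr.gram Q)).2
      (isUnit_iff_ne_zero.2 (CfsgLib.FormDiscr.gram_det_ne_zero Q hQ))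
    have hB : (((g.1 : ↥(Cfsg.isometryGroup F ⇑Q)) : GL ι F) : Matrix ι ι F)ᵀ * (B : Matrix ι ι F) *
        (((g.1 : ↥(Cfsg.isometryGroup F ⇑Q)) : GL ι F) : Matrix ι ι F) = (B : Matrix ι ι F) := by
      rw [hBv, CfsgLib.FormDiscr.gram_eq]
      have h := LinearMap.toMatrix₂'_compl₁₂ (R := F) (QuadraticMap.polarBilin Q)
        (Matrix.toLin' (((g.1 : ↥(Cfsg.isometryGroup F ⇑Q)) : GL ι F) : Matrix ι ι F))
        (Matrix.toLin' (((g.1 : ↥(Cfsg.isometryGroup F ⇑Q)) : GL ι F) : Matrix ι ι F))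
      rw [LinearMap.toMatrix'_toLin'] at h
      rw [← h]
      congr 1
      refine LinearMap.ext₂ fun x y => ?_
      exact CfsgLib.Spinor.polar_mulVec Q g.1 x y
    obtain ⟨n, c, hn, hb, hp⟩ := CfsgLib.OrderBound.isometry_pow_scalar _ _ hB m hN
    exact le_trans (Nat.mul_le_mul_left _ (quot_bound
      ((Units.coeHom (Matrix ι ι F)).comp
        ((Cfsg.isometryGroup F ⇑Q).subtype.comp (Cfsg.Omega F ⇑Q).subtype))
      (fun _ _ h => Subtype.ext (Subtype.ext (Units.ext h))) g hp hn)) hb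

/-- Let F be a finite field with q elements. Every element g of PΩ_(2m+1)(F) (m ≥ 3, q odd), of PΩ⁺_2m(F) (m ≥ 4), or of PΩ⁻_2m(F) (m ≥ 4, the form having an anisotropic binary part) satisfies (q − 1)·|g| ≤ q^(m+1), i.e. has order at most q^(m+1)/(q − 1). -/
theorem result {F : Type*} [Field F] [Fintype F] (m : ℕ) :
    (3 ≤ m → Odd (Fintype.card F) → ∀ g : Cfsg.POmega F (Cfsg.quadFormOdd m F),
      (Fintype.card F - 1) * orderOf g ≤ Fintype.card F ^ (m + 1)) ∧
    (4 ≤ m → ∀ g : Cfsg.POmega F (Cfsg.quadFormPlus m F),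
      (Fintype.card F - 1) * orderOf g ≤ Fintype.card F ^ (m + 1)) ∧
    (4 ≤ m → ∀ a b : F, (∀ z₁ z₂ : F, z₁ ^ 2 + a * z₁ * z₂ + b * z₂ ^ 2 = 0 → z₁ = 0 ∧ z₂ = 0) →
      ∀ g : Cfsg.POmega F (Cfsg.quadFormMinus (m - 1) F a b),
      (Fintype.card F - 1) * orderOf g ≤ Fintype.card F ^ (m + 1)) := by
  refine ⟨fun hm hodd g => ?_, fun hm g => ?_, fun hm a b hab g => ?_⟩
  · have h2 : (2 : F) ≠ 0 := by
      refine Ring.two_ne_zero fun h => ?_
      have := FiniteField.even_card_of_char_two h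
      rw [Nat.odd_iff] at hodd
      omega
    revert g
    rw [← CfsgLib.StdForms.coe_oddQ m]
    exact omega_bound _ (CfsgLib.StdForms.oddQ_nondegenerate h2 m) m
      (Or.inr ⟨hm, by simp; omega, h2⟩)
  · revert g
    rw [← CfsgLib.StdForms.coe_plusQ m]
    have : Nonempty (Fin m ⊕ Fin m) := ⟨Sum.inl ⟨0, by omega⟩⟩
    exact omega_bound _ (CfsgLib.StdForms.plusQ_nondegenerate m) m
      (Or.inl ⟨by omega, by simp; omega⟩)
  · have hd : a ^ 2 - 4 * b ≠ 0 := by
      by_cases h2 : (2 : F) = 0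
      · intro h
        have ha : a = 0 := by
          have : a ^ 2 = 0 := by linear_combination h + 2 * b * h2
          exact pow_eq_zero_iff two_ne_zero |>.1 this
        obtain ⟨r, hr⟩ := FiniteField.isSquare_of_char_two (F := F) (ringChar.eq_iff.2 (CharTwo.of_one_ne_zero_of_two_eq_zero one_ne_zero h2)) b
        refine one_ne_zero (hab r 1 ?_).2
        subst ha
        linear_combination hr + r * r * h2
      · exact CfsgLib.StdForms.disc_ne_zero_of_anisotropic h2 hab
    revert g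
    rw [← CfsgLib.StdForms.coe_minusQ]
    exact omega_bound _ (CfsgLib.StdForms.minusQ_nondegenerate (m - 1) hd) m
      (Or.inl ⟨by omega, by simp; omega⟩)

end Cfsg.Agent.S2265
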