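import Cfsg.Statements.S2268
-- import your own Cfsg.Agent.* helpers here

set_option autoImplicit false
open Cfsg

namespace Cfsg.Agent.S2268

/-- Let G be a finite group with an abelian Sylow p-subgroup P and let Q ≤ P. Then N_G(Q) = (N_G(Q) ∩ N_G(P))·C_G(Q), so that N_G(Q)/C_G(Q) is a homomorphic image of the subgroup (N_G(Q) ∩ N_G(P))/C_G(P) of N_G(P)/C_G(P); in particular the order of N_G(Q)/C_G(Q) divides the order of N_G(P)/C_G(P). -/
theorem result {G : Type*} [Group G] [Finite G] {p : ℕ} [Fact p.Prime]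
    (P : Sylow p G) (hP : IsMulCommutative (P : Subgroup G)) (Q : Subgroup G) (hQ : Q ≤ (P : Subgroup G)) :
    Subgroup.normalizer (Q : Set G) =
      (Subgroup.normalizer (Q : Set G) ⊓ Subgroup.normalizer ((P : Subgroup G) : Set G)) ⊔ Subgroup.centralizer (Q : Set G) ∧
    ((Subgroup.centralizer (Q : Set G)).subgroupOf (Subgroup.normalizer (Q : Set G))).index ∣ ((Subgroup.centralizer ((P : Subgroup G) : Set G)).subgroupOf (Subgroup.normalizer ((P : Subgroup G) : Set G))).index := by
  set C : Subgroup G := Subgroup.centralizer (Q : Set G) with hC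
  set M : Subgroup G := Subgroup.normalizer (Q : Set G) ⊓
    Subgroup.normalizer ((P : Subgroup G) : Set G) with hM
  set D : Subgroup G := Subgroup.centralizer ((P : Subgroup G) : Set G) with hD
  have hPC : (P : Subgroup G) ≤ C := by
    intro x hx
    rw [hC, Subgroup.mem_centralizer_iff]
    intro h hh
    exact congrArg Subtype.val (hP.is_comm.comm (⟨h, hQ hh⟩ : (P : Subgroup G)) ⟨x, hx⟩)
  have hCN : C ≤ Subgroup.normalizer (Q : Set G) := Subgroup.centralizer_le_normalizer _
  have hfirst : Subgroup.normalizer (Q : Set G) = M ⊔ C := by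
    apply le_antisymm _ (sup_le inf_le_left hCN)
    intro g hg
    have hgP : ↑(g • P) ≤ C := by
      rintro - ⟨z, hz, rfl⟩
      rw [hC, Subgroup.mem_centralizer_iff]
      intro h hh
      have h' : g⁻¹ * h * g ∈ Q := ((Subgroup.mem_normalizer_iff''.mp hg) h).mp hh
      have hz' := Subgroup.mem_centralizer_iff.mp (hPC hz) _ h'
      simp only [MulDistribMulAction.toMonoidEnd_apply, MulDistribMulAction.toMonoidHom_apply,
        MulAut.smul_def, MulAut.conj_apply]
      calc h * (g * z * g⁻¹) = g * ((g⁻¹ * h * g) * z) * g⁻¹ := by group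
        _ = g * (z * (g⁻¹ * h * g)) * g⁻¹ := by rw [hz']
        _ = g * z * g⁻¹ * h := by group
    obtain ⟨c, hc⟩ := MulAction.exists_smul_eq C ((g • P).subtype hgP) (P.subtype hPC)
    simp_rw [Sylow.smul_subtype, Subgroup.smul_def, smul_smul] at hc
    have h1 := Sylow.smul_eq_iff_mem_normalizer.mp (Sylow.subtype_injective hc)
    have h2 : (c : G) * g ∈ M := ⟨Subgroup.mul_mem _ (hCN c.2) hg, h1⟩
    have h3 : g = (c : G)⁻¹ * (c * g) := by group
    rw [h3]
    exact Subgroup.mul_mem _ (Subgroup.mem_sup_right (inv_mem c.2)) (Subgroup.mem_sup_left h2)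
  refine ⟨hfirst, ?_⟩
  change C.relIndex (Subgroup.normalizer (Q : Set G)) ∣
    D.relIndex (Subgroup.normalizer ((P : Subgroup G) : Set G))
  have hDC : D ≤ C := Subgroup.centralizer_le hQ
  have hDM : D ≤ M := le_inf (hDC.trans hCN) (Subgroup.centralizer_le_normalizer _)
  have e1 : C.relIndex (Subgroup.normalizer (Q : Set G)) = C.relIndex M := by
    have : (C.subgroupOf (Subgroup.normalizer (Q : Set G))).Normal := inferInstance
    have h1 : (M.subgroupOf (Subgroup.normalizer (Q : Set G))) ⊔
        (C.subgroupOf (Subgroup.normalizer (Q : Set G))) = ⊤ := by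
      rw [← Subgroup.subgroupOf_sup inf_le_left hCN, ← hfirst, Subgroup.subgroupOf_self]
    have h2 := Subgroup.relIndex_sup_right (M.subgroupOf (Subgroup.normalizer (Q : Set G)))
      (C.subgroupOf (Subgroup.normalizer (Q : Set G)))
    rw [h1, Subgroup.relIndex_subgroupOf inf_le_left, Subgroup.relIndex_top_right] at h2
    exact h2
  rw [e1, ← Subgroup.relIndex_mul_relIndex D M _ hDM inf_le_right]
  exact (Subgroup.relIndex_dvd_of_le_left M hDC).mul_right _

end Cfsg.Agent.S2268
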