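import Cfsg.Statements.S2270
import Cfsg.Agent.SymAutomizer.Basic

set_option autoImplicit false
open Cfsg

namespace Cfsg.Agent.S2270

/-- Let n ≥ 3, p an odd prime, and P an abelian Sylow p-subgroup of the symmetric group S_n (with p dividing n!, so that P ≠ 1). Then N(P)/C(P) has even order. -/
theorem result (n : ℕ) (hn : 3 ≤ n) {p : ℕ} [Fact p.Prime] (hp : p ≠ 2) (hpn : p ≤ n)
    (P : Sylow p (Equiv.Perm (Fin n))) (hP : IsMulCommutative (P : Subgroup (Equiv.Perm (Fin n)))) :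
    2 ∣ ((Subgroup.centralizer ((P : Subgroup (Equiv.Perm (Fin n))) : Set (Equiv.Perm (Fin n)))).subgroupOf (Subgroup.normalizer ((P : Subgroup (Equiv.Perm (Fin n))) : Set (Equiv.Perm (Fin n))))).index := by
  obtain ⟨c, hc⟩ := exists_prime_orderOf_dvd_card' (G := Equiv.Perm (Fin n)) p (by
    rw [Nat.card_eq_fintype_card, Fintype.card_perm, Fintype.card_fin]
    exact Nat.dvd_factorial (Fact.out : p.Prime).pos hpn)
  obtain ⟨g, hg⟩ := CfsgLib.SymAutomizer.exists_conj_mem_sylow P hc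
  obtain ⟨a, ha⟩ := CfsgLib.SymAutomizer.exists_conj_eq_inv (g * c * g⁻¹)
  refine CfsgLib.SymAutomizer.two_dvd_index_of_conj_inv P hP hg ?_ ha
  intro h
  have h2 : (g * c * g⁻¹) ^ 2 = 1 := by rw [sq]; nth_rewrite 1 [← h]; exact inv_mul_cancel _
  rw [conj_pow, conj_eq_one_iff] at h2
  have := Nat.le_of_dvd two_pos (hc ▸ orderOf_dvd_of_pow_eq_one h2)
  have := (Fact.out : p.Prime).two_le
  omega

end Cfsg.Agent.S2270
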