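import Cfsg.Statements.S2276
import Cfsg.Agent.AltFreePair.Main

set_option autoImplicit false
open Cfsg

namespace Cfsg.Agent.S2276

/-- Let n ≥ 5, p ≥ 3 a prime, and u, w non-identity elements of p-power order in the alternating group A_n. Then there is g ∈ A_n such that u·(g w g⁻¹) does not have p-power order and ⟨u, g w g⁻¹⟩ is not solvable. -/
theorem result (n : ℕ) (hn : 5 ≤ n) (p : ℕ) (hp : p.Prime) (hp3 : 3 ≤ p) (u w : alternatingGroup (Fin n)) (hu : u ≠ 1) (hw : w ≠ 1)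
    (hu' : ∃ k : ℕ, orderOf u = p ^ k) (hw' : ∃ k : ℕ, orderOf w = p ^ k) :
    ∃ g : alternatingGroup (Fin n), (¬ ∃ k : ℕ, orderOf (u * (g * w * g⁻¹)) = p ^ k) ∧
      ¬ Group.IsSolvable ↥(Subgroup.closure ({u, g * w * g⁻¹} : Set (alternatingGroup (Fin n)))) := by
  haveI := Fact.mk hp
  obtain ⟨i, hi⟩ := hu'
  obtain ⟨j, hj⟩ := hw'
  obtain ⟨g, hg, hgood⟩ := CfsgLib.AltFreePair.exists_good_pair (p := p) hn hp3
    (u := (u : Equiv.Perm (Fin n))) (w := (w : Equiv.Perm (Fin n)))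
    ⟨i, by rw [← Subgroup.coe_pow, ← hi, pow_orderOf_eq_one]; rfl⟩
    ⟨j, by rw [← Subgroup.coe_pow, ← hj, pow_orderOf_eq_one]; rfl⟩
    (fun h => hu (Subtype.ext h)) (fun h => hw (Subtype.ext h))
  set g' : alternatingGroup (Fin n) := ⟨g, hg⟩
  have h2 : CfsgLib.AltFreePair.Good p u (g' * w * g'⁻¹) :=
    CfsgLib.AltFreePair.Good.of_map (alternatingGroup (Fin n)).subtype rfl rfl hgood
  refine ⟨g', fun ⟨k, hk⟩ => h2.1 k ?_, h2.2⟩
  rw [← hk, pow_orderOf_eq_one]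

end Cfsg.Agent.S2276
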