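import Cfsg.Statements.S2277
import Cfsg.Agent.Coprime.Action
import Cfsg.Agent.FGS.FixedGenPairs

set_option autoImplicit false
open Cfsg
open scoped commutatorElement

namespace Cfsg.Agent.S2277

theorem factor {G : Type*} [Group G] [Finite G] {p : ℕ} [Fact p.Prime] (P : Sylow p G)
    {M : Subgroup G} (hPM : (P : Subgroup G) ≤ Subgroup.normalizer (M : Set G))
    (hM : (Nat.card M).Coprime p) {x c d : G} (hx : x ∈ M) (hc : c ∈ (P : Subgroup G))
    (hd : d ∈ (P : Subgroup G))
    (hS : IsPGroup p ↥(Subgroup.closure ({x * c * x⁻¹, d} : Set G))) :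
    ∃ v ∈ M, ∃ w ∈ M, c * w = w * c ∧ d * v = v * d ∧ x = v * w := by
  set K := M ⊔ (P : Subgroup G) with hK
  set S := Subgroup.closure ({x * c * x⁻¹, d} : Set G)
  have hSK : S ≤ K := by
    rw [Subgroup.closure_le]
    rintro y (rfl | rfl)
    · exact mul_mem (mul_mem (Subgroup.mem_sup_left hx) (Subgroup.mem_sup_right hc))
        (inv_mem (Subgroup.mem_sup_left hx))
    · exact Subgroup.mem_sup_right hd
  obtain ⟨R, hR⟩ := (hS.of_equiv (Subgroup.subgroupOfEquivOfLe hSK).symm).exists_le_sylow
  obtain ⟨k, hk⟩ := MulAction.exists_smul_eq K (P.subtype (le_sup_right : _ ≤ K)) R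
  obtain ⟨v, hv, a, ha, hva⟩ := CfsgLib.Coprime.exists_mul_of_mem_sup hPM k.2
  have hin : ∀ y ∈ S, v⁻¹ * y * v ∈ (P : Subgroup G) := by
    intro y hy
    have h1 : (⟨y, hSK hy⟩ : K) ∈ (R : Subgroup K) := hR (Subgroup.mem_subgroupOf.mpr hy)
    rw [← hk, Sylow.coe_subgroup_smul, Subgroup.mem_pointwise_smul_iff_inv_smul_mem,
      Sylow.coe_subtype, Subgroup.mem_subgroupOf] at h1
    simp only [MulAut.smul_def, MulAut.conj_inv_apply, Subgroup.coe_mul, Subgroup.coe_inv,
      ← hva] at h1
    have h2 := mul_mem (mul_mem ha h1) (inv_mem ha)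
    simpa [mul_assoc] using h2
  have hdisj : ∀ g, g ∈ M → g ∈ (P : Subgroup G) → g = 1 := by
    intro g hg hgP
    obtain ⟨n, hn⟩ := IsPGroup.iff_card.mp P.2
    exact orderOf_eq_one_iff.mp (Nat.eq_one_of_dvd_coprimes (hM.pow_right n)
      (Subgroup.orderOf_dvd_natCard M hg) (hn ▸ Subgroup.orderOf_dvd_natCard _ hgP))
  have key : ∀ (u : G) (s : G), u ∈ M → s ∈ (P : Subgroup G) → u⁻¹ * s * u ∈ (P : Subgroup G) →
      s * u = u * s := by
    intro u s hu hs h1
    have h3 : u⁻¹ * s * u * s⁻¹ = 1 := hdisj _ (by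
      have := mul_mem (inv_mem hu) ((Subgroup.mem_normalizer_iff.mp (hPM hs) u).mp hu)
      simpa [mul_assoc] using this) (mul_mem h1 (inv_mem hs))
    rw [mul_inv_eq_one, mul_assoc, inv_mul_eq_iff_eq_mul] at h3
    exact h3
  refine ⟨v, hv, v⁻¹ * x, mul_mem (inv_mem hv) hx, ?_,
    key v d hv hd (hin d (Subgroup.subset_closure (by simp))), by simp⟩
  have h4 : (v⁻¹ * x)⁻¹ ∈ M := inv_mem (mul_mem (inv_mem hv) hx)
  have h5 := key _ c h4 hc (by
    have := hin _ (Subgroup.subset_closure (Set.mem_insert (x * c * x⁻¹) {d}))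
    simpa [mul_assoc] using this)
  have h6 : Commute c (v⁻¹ * x)⁻¹ := h5
  exact Commute.inv_right_iff.mp h6

/-- The automorphisms of the abelianisation. -/
def abAut (H : Type*) [Group H] : MulAut H →* MulAut (Abelianization H) where
  toFun e := e.abelianizationCongr
  map_one' := by
    refine MulEquiv.ext fun x => ?_
    induction x using QuotientGroup.induction_on with | H y => rfl
  map_mul' a b := by
    refine MulEquiv.ext fun x => ?_
    induction x using QuotientGroup.induction_on with | H y => rfl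

/-- The action of a subgroup of the normaliser. -/
def conjAct {G : Type*} [Group G] (P M : Subgroup G) (hPM : P ≤ Subgroup.normalizer (M : Set G)) :
    P →* MulAut M where
  toFun a :=
    { toFun := fun x => ⟨a.1 * x * a.1⁻¹, (Subgroup.mem_normalizer_iff.mp (hPM a.2) _).mp x.2⟩
      invFun := fun x => ⟨a.1⁻¹ * x * a.1, by
        have := (Subgroup.mem_normalizer_iff.mp (hPM (inv_mem a.2)) _).mp x.2
        simpa using this⟩
      left_inv := fun x => Subtype.ext (by simp [mul_assoc])
      right_inv := fun x => Subtype.ext (by simp [mul_assoc])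
      map_mul' := fun x y => Subtype.ext (by simp [mul_assoc]) }
  map_one' := MulEquiv.ext fun x => Subtype.ext (by simp)
  map_mul' a b := MulEquiv.ext fun x => Subtype.ext (by simp [mul_assoc])

theorem conjAct_eq {G : Type*} [Group G] {P M : Subgroup G}
    (hPM : P ≤ Subgroup.normalizer (M : Set G)) {a : P} {x : M} (h : a.1 * x.1 = x.1 * a.1) :
    conjAct P M hPM a x = x := Subtype.ext (by
  show a.1 * x.1 * a.1⁻¹ = x.1
  rw [h, mul_inv_cancel_right])

theorem closure_preimage {G : Type*} [Group G] {Q : Subgroup G} {S : Set G}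
    (hS : Subgroup.closure S = Q) : Subgroup.closure (((↑) : Q → G) ⁻¹' S) = ⊤ := by
  subst hS
  exact Subgroup.closure_closure_coe_preimage

theorem main {G : Type*} [Group G] [Finite G] {p : ℕ} [Fact p.Prime] (hp3 : 3 ≤ p) (P : Sylow p G)
    (C D : Set G) (hC : Subgroup.closure C = (P : Subgroup G))
    (hD : Subgroup.closure D = (P : Subgroup G)) :
    ∀ (n : ℕ) (M : Subgroup G), Nat.card M = n →
      (P : Subgroup G) ≤ Subgroup.normalizer (M : Set G) → (Nat.card M).Coprime p →
      (∀ x ∈ M, ∀ c ∈ C, ∀ d ∈ D, IsPGroup p ↥(Subgroup.closure ({x * c * x⁻¹, d} : Set G))) →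
      ⁅(P : Subgroup G), M⁆ = ⊥ := by
  intro n
  induction n using Nat.strong_induction_on with
  | _ n ih =>
    intro M hn hPM hM h
    have hsub : ∀ R : Subgroup G, R ≤ M → R ≠ M →
        (P : Subgroup G) ≤ Subgroup.normalizer (R : Set G) → ⁅(P : Subgroup G), R⁆ = ⊥ :=
      fun R hle hne hR => ih _ (by
          rw [← hn]
          exact lt_of_le_of_ne (Subgroup.card_le_of_le hle) fun he =>
            hne (Subgroup.eq_of_le_of_card_ge hle he.ge)) R rfl hR
        (hM.coprime_dvd_left (Subgroup.card_dvd_of_le hle)) fun x hx => h x (hle hx)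
    obtain ⟨m, hm⟩ := IsPGroup.iff_card.mp P.2
    have hcop : (Nat.card (P : Subgroup G)).Coprime (Nat.card M) := by
      rw [hm]; exact (hM.pow_right m).symm
    have hPsolv : Group.IsSolvable (P : Subgroup G) := by
      have := P.2.isNilpotent
      infer_instance
    by_cases hr : ∀ r : ℕ, r.Prime → ¬ IsPGroup r M
    · rw [Subgroup.commutator_eq_bot_iff_le_centralizer, Subgroup.le_centralizer_iff]
      set Z := M ⊓ Subgroup.centralizer ((P : Subgroup G) : Set G)
      suffices Nat.card M ∣ Nat.card Z from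
        (Subgroup.eq_of_le_of_card_ge (inf_le_left : Z ≤ M)
          (Nat.le_of_dvd Nat.card_pos this)).ge.trans inf_le_right
      rw [← Nat.factorization_le_iff_dvd Nat.card_pos.ne' Nat.card_pos.ne']
      intro r
      by_cases hrp : r.Prime
      swap
      · simp [Nat.factorization_eq_zero_of_not_prime _ hrp]
      have : Fact r.Prime := ⟨hrp⟩
      obtain ⟨R, hR⟩ := CfsgLib.Coprime.exists_invariant_sylow hPM hcop (Or.inl hPsolv) r
      set R' := (R : Subgroup M).map M.subtype
      have hR'c : Nat.card R' = r ^ (Nat.card M).factorization r := by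
        rw [Subgroup.card_map_of_injective M.subtype_injective, R.card_eq_multiplicity]
      have hne : R' ≠ M := fun e => hr r hrp (IsPGroup.iff_card.mpr ⟨_, e ▸ hR'c⟩)
      have h0 := hsub R' (Subgroup.map_subtype_le _) hne hR
      rw [Subgroup.commutator_eq_bot_iff_le_centralizer, Subgroup.le_centralizer_iff] at h0
      have hdvd : r ^ (Nat.card M).factorization r ∣ Nat.card Z :=
        hR'c ▸ Subgroup.card_dvd_of_le (le_inf (Subgroup.map_subtype_le _) h0)
      exact (hrp.pow_dvd_iff_le_factorization Nat.card_pos.ne').mp hdvd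
    push Not at hr
    obtain ⟨r, hrp, hr⟩ := hr
    have : Fact r.Prime := ⟨hrp⟩
    set W := ⁅M, (P : Subgroup G)⁆ with hW
    have hWM : W ≤ M := CfsgLib.Coprime.commutator_le_of_le_normalizer hPM
    by_cases hWeq : W = M
    swap
    · have h0 := hsub W hWM hWeq (Subgroup.normalizer_commutator_ge_right M _)
      rw [Subgroup.commutator_eq_bot_iff_le_centralizer]
      exact CfsgLib.Coprime.le_centralizer_of_commutator_commutator_eq_bot hPM hcop
        (by rw [Subgroup.commutator_comm]; exact h0)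
    rcases subsingleton_or_nontrivial M with hs | hs
    · rw [Subgroup.eq_bot_of_subsingleton M, Subgroup.commutator_bot_right]
    exfalso
    let φ : (P : Subgroup G) →* MulAut (Abelianization M) :=
      (abAut M).comp (conjAct _ M hPM)
    have hclos : ∀ S : Set G, Subgroup.closure S = (P : Subgroup G) →
        Subgroup.closure (φ '' ((↑) ⁻¹' S)) = φ.range := by
      intro S hS
      rw [← MonoidHom.map_closure, MonoidHom.range_eq_map φ]
      congr 1
      exact closure_preimage hS
    have hbot : φ.range = ⊥ := by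
      refine CfsgLib.FGS.FixedGenPairs.eq_bot (V := Abelianization M) (p := p) hp3 _ rfl
        (hM.coprime_dvd_left (Subgroup.card_quotient_dvd_card _)) φ.range
        (P.2.of_surjective φ.rangeRestrict φ.rangeRestrict_surjective) _ _
        (hclos C hC) (hclos D hD) ?_
      rintro q _ ⟨c, hc, rfl⟩ _ ⟨d, hd, rfl⟩
      induction q using QuotientGroup.induction_on with | H x => ?_
      obtain ⟨v, hv, w, hw, hcw, hdv, hx⟩ := factor P hPM hM x.2 c.2 d.2 (h x x.2 c hc d hd)
      refine ⟨Abelianization.of ⟨w, hw⟩, Abelianization.of ⟨v, hv⟩,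
        congrArg Abelianization.of (conjAct_eq hPM hcw),
        congrArg Abelianization.of (conjAct_eq hPM hdv), ?_⟩
      rw [← map_mul]
      show Abelianization.of x = _
      rw [show x = (⟨v, hv⟩ : M) * ⟨w, hw⟩ from Subtype.ext hx, map_mul, map_mul, mul_comm]
    have hle : W ≤ (commutator M).map M.subtype := by
      rw [hW, Subgroup.commutator_le]
      intro x hx a ha
      have h1 : φ ⟨a, ha⟩ = 1 := Subgroup.mem_bot.mp (hbot ▸ ⟨⟨a, ha⟩, rfl⟩)
      have h2 : Abelianization.of (conjAct _ M hPM ⟨a, ha⟩ ⟨x, hx⟩) =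
          Abelianization.of (⟨x, hx⟩ : M) := DFunLike.congr_fun h1 (Abelianization.of ⟨x, hx⟩)
      refine ⟨⟨x, hx⟩ * (conjAct _ M hPM ⟨a, ha⟩ ⟨x, hx⟩)⁻¹, ?_, ?_⟩
      · rw [SetLike.mem_coe, ← Abelianization.ker_of, MonoidHom.mem_ker, map_mul, map_inv, h2,
          mul_inv_cancel]
      · simp [conjAct, commutatorElement_def, mul_assoc]
    have := hr.isNilpotent
    have hlt : commutator M ≠ ⊤ := (Group.IsSolvable.commutator_lt_top_of_nontrivial M).ne
    refine hlt (eq_top_iff.mpr fun y _ => ?_)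
    obtain ⟨z, hz, hzy⟩ := hle (hWeq.ge y.2)
    exact Subtype.ext hzy ▸ hz

/-- Let p ≥ 3 be prime and G a finite group with a Sylow p-subgroup P and a normal p-complement N (N normal, of order prime to p, with NP = G). Suppose P is generated by a subset C and also by a subset D, and that ⟨x c x⁻¹, d⟩ is a p-group for all x ∈ N, c ∈ C, d ∈ D. Then P centralizes N, so that G = N × P. -/
theorem result {G : Type*} [Group G] [Finite G] (p : ℕ) [Fact p.Prime] (hp3 : 3 ≤ p) (P : Sylow p G)
    (N : Subgroup G) [N.Normal] (hN : (Nat.card N).Coprime p) (hNP : N ⊔ (P : Subgroup G) = ⊤)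
    (C D : Set G) (hC : Subgroup.closure C = (P : Subgroup G)) (hD : Subgroup.closure D = (P : Subgroup G))
    (h : ∀ x ∈ N, ∀ c ∈ C, ∀ d ∈ D, IsPGroup p ↥(Subgroup.closure ({x * c * x⁻¹, d} : Set G))) :
    ⁅(P : Subgroup G), N⁆ = ⊥ := by
  exact main hp3 P C D hC hD _ N rfl Subgroup.le_normalizer_of_normal hN h

end Cfsg.Agent.S2277
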