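import Cfsg.Statements.S2279
import Cfsg.Agent.RegPair.Higher
-- import your own Cfsg.Agent.* helpers here

set_option autoImplicit false
open Cfsg

namespace Cfsg.Agent.S2279

/-- Let F be a finite field with q elements and n ≥ 4. Then SL_n(F) is generated by two regular unipotent elements (elements u with u − 1 nilpotent and (u − 1)^(n−1) ≠ 0); if q is prime, the two can be taken conjugate in SL_n(F). -/
theorem result {F : Type*} [Field F] [Fintype F] (n : ℕ) (hn : 4 ≤ n) :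
    (∃ u v : Matrix.SpecialLinearGroup (Fin n) F, (IsNilpotent ((u : Matrix (Fin n) (Fin n) F) - 1) ∧ ((u : Matrix (Fin n) (Fin n) F) - 1) ^ (n - 1) ≠ 0) ∧ (IsNilpotent ((v : Matrix (Fin n) (Fin n) F) - 1) ∧ ((v : Matrix (Fin n) (Fin n) F) - 1) ^ (n - 1) ≠ 0) ∧
      Subgroup.closure ({u, v} : Set (Matrix.SpecialLinearGroup (Fin n) F)) = ⊤) ∧
    ((Fintype.card F).Prime → ∃ u g : Matrix.SpecialLinearGroup (Fin n) F, (IsNilpotent ((u : Matrix (Fin n) (Fin n) F) - 1) ∧ ((u : Matrix (Fin n) (Fin n) F) - 1) ^ (n - 1) ≠ 0) ∧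
      Subgroup.closure ({u, g * u * g⁻¹} : Set (Matrix.SpecialLinearGroup (Fin n) F)) = ⊤) := by
  obtain ⟨m, rfl⟩ : ∃ m, n = m + 4 := ⟨n - 4, by omega⟩
  obtain ⟨u, g, hu, hgen⟩ := CfsgLib.RegPair.Higher.exists_pair (F := F) m
  refine ⟨⟨u, g * u * g⁻¹, hu, ?_, hgen⟩, fun _ => ⟨u, g, hu, hgen⟩⟩
  have hG : (g : Matrix (Fin (m + 4)) (Fin (m + 4)) F) * (g⁻¹ : Matrix.SpecialLinearGroup (Fin (m + 4)) F).1 = 1 := by
    rw [← Matrix.SpecialLinearGroup.coe_mul, mul_inv_cancel]; rfl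
  have hG' : (g⁻¹ : Matrix.SpecialLinearGroup (Fin (m + 4)) F).1 * (g : Matrix (Fin (m + 4)) (Fin (m + 4)) F) = 1 := by
    rw [← Matrix.SpecialLinearGroup.coe_mul, inv_mul_cancel]; rfl
  have e : ((g * u * g⁻¹ : Matrix.SpecialLinearGroup (Fin (m + 4)) F) : Matrix (Fin (m + 4)) (Fin (m + 4)) F) - 1 =
      (g : Matrix (Fin (m + 4)) (Fin (m + 4)) F) * ((u : Matrix (Fin (m + 4)) (Fin (m + 4)) F) - 1) *
        (g⁻¹ : Matrix.SpecialLinearGroup (Fin (m + 4)) F).1 := by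
    rw [mul_sub, sub_mul, mul_one, hG, Matrix.SpecialLinearGroup.coe_mul, Matrix.SpecialLinearGroup.coe_mul]
  let G : (Matrix (Fin (m + 4)) (Fin (m + 4)) F)ˣ := ⟨g.1, (g⁻¹).1, hG, hG'⟩
  have hp : ∀ k : ℕ, ((g * u * g⁻¹ : Matrix.SpecialLinearGroup (Fin (m + 4)) F).1 - 1) ^ k =
      (G : Matrix (Fin (m + 4)) (Fin (m + 4)) F) * (((u : Matrix (Fin (m + 4)) (Fin (m + 4)) F) - 1) ^ k) *
        (↑G⁻¹ : Matrix (Fin (m + 4)) (Fin (m + 4)) F) := by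
    intro k
    rw [e]
    exact Units.conj_pow G _ k
  refine ⟨?_, fun h => hu.2 ?_⟩
  · obtain ⟨k, hk⟩ := hu.1
    exact ⟨k, by rw [hp, hk, mul_zero, zero_mul]⟩
  · rw [hp] at h
    exact (Units.mul_right_eq_zero G).1 ((Units.mul_left_eq_zero G⁻¹).1 h)

end Cfsg.Agent.S2279
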