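import Cfsg.Statements.S2284
import Cfsg.Agent.BoundedAlt.Final

set_option autoImplicit false
open Cfsg

namespace Cfsg.Agent.S2284

/-- For every n, the symmetric group S_n and the alternating group A_n each have a presentation with 2 generators and at most 8 relations. -/
theorem result (n : ℕ) : (∃ rels : Finset (FreeGroup (Fin 2)), rels.card ≤ 8 ∧ Nonempty (PresentedGroup (↑rels : Set (FreeGroup (Fin 2))) ≃* Equiv.Perm (Fin n))) ∧ (∃ rels : Finset (FreeGroup (Fin 2)), rels.card ≤ 8 ∧ Nonempty (PresentedGroup (↑rels : Set (FreeGroup (Fin 2))) ≃* ↥(alternatingGroup (Fin n)))) := by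
  constructor
  · rcases Nat.lt_or_ge n 7 with h | h
    · obtain ⟨r, hc, he⟩ := CfsgLib.BoundedAlt.sym_small (n := n) (by omega)
      exact ⟨r, by omega, he⟩
    · obtain ⟨r, hc, f, t, ht⟩ := CfsgLib.BoundedAlt.exists_large h (Or.inr rfl)
      obtain ⟨r', hc', ⟨e⟩⟩ := CfsgLib.BoundedAlt.retarget_pair_gen r hc f 2 t ht
      exact ⟨r', hc', ⟨e.trans (CfsgLib.BoundedAlt.tgtTwo n)⟩⟩
  · rcases Nat.lt_or_ge n 7 with h | h
    · obtain ⟨r, hc, he⟩ := CfsgLib.BoundedAlt.alt_small (n := n) (by omega)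
      exact ⟨r, by omega, he⟩
    · obtain ⟨r, hc, f, t, ht⟩ := CfsgLib.BoundedAlt.exists_large h (Or.inl rfl)
      obtain ⟨r', hc', ⟨e⟩⟩ := CfsgLib.BoundedAlt.retarget_pair_gen r hc f 2 t ht
      exact ⟨r', hc', ⟨e.trans (CfsgLib.BoundedAlt.tgtOne n)⟩⟩

end Cfsg.Agent.S2284
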