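import Cfsg.Statements.S2285
import Cfsg.Agent.BoundedAlt.Final

set_option autoImplicit false
open Cfsg

namespace Cfsg.Agent.S2285

/-- For every n ≥ 5, the symmetric group S_n and the alternating group A_n each have a presentation with 3 generators and at most 7 relations. -/
theorem result (n : ℕ) (hn : 5 ≤ n) : (∃ rels : Finset (FreeGroup (Fin 3)), rels.card ≤ 7 ∧ Nonempty (PresentedGroup (↑rels : Set (FreeGroup (Fin 3))) ≃* Equiv.Perm (Fin n))) ∧ (∃ rels : Finset (FreeGroup (Fin 3)), rels.card ≤ 7 ∧ Nonempty (PresentedGroup (↑rels : Set (FreeGroup (Fin 3))) ≃* ↥(alternatingGroup (Fin n)))) := by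
  constructor
  · rcases Nat.lt_or_ge n 7 with h | h
    · obtain ⟨r, hc, ⟨e⟩⟩ := CfsgLib.BoundedAlt.sym_small (n := n) (by omega)
      obtain ⟨r', hc', he⟩ := CfsgLib.BoundedAlt.retarget_pad r hc e
      exact ⟨r', hc', he⟩
    · obtain ⟨r, hc, f, -⟩ := CfsgLib.BoundedAlt.exists_large h (Or.inr rfl)
      exact ⟨r, hc, ⟨f.trans (CfsgLib.BoundedAlt.tgtTwo n)⟩⟩
  · rcases Nat.lt_or_ge n 7 with h | h
    · obtain ⟨r, hc, ⟨e⟩⟩ := CfsgLib.BoundedAlt.alt_small (n := n) (by omega)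
      obtain ⟨r', hc', he⟩ := CfsgLib.BoundedAlt.retarget_pad r hc e
      exact ⟨r', by omega, he⟩
    · obtain ⟨r, hc, f, -⟩ := CfsgLib.BoundedAlt.exists_large h (Or.inl rfl)
      exact ⟨r, hc, ⟨f.trans (CfsgLib.BoundedAlt.tgtOne n)⟩⟩

end Cfsg.Agent.S2285
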