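import Cfsg.Statements.S2286
import Cfsg.Agent.SL2Pres.Even

set_option autoImplicit false
open Cfsg

namespace Cfsg.Agent.S2286

/-- For every finite field F, SL_2(F) and PSL_2(F) have presentations with 3 generators and at most 9 relations; when F has characteristic 2, PSL_2(F) has a presentation with 3 generators and at most 5 relations. -/
theorem result {F : Type*} [Field F] [Fintype F] :
    (∃ rels : Finset (FreeGroup (Fin 3)), rels.card ≤ 9 ∧ Nonempty (PresentedGroup (↑rels : Set (FreeGroup (Fin 3))) ≃* Matrix.SpecialLinearGroup (Fin 2) F)) ∧ (∃ rels : Finset (FreeGroup (Fin 3)), rels.card ≤ 9 ∧ Nonempty (PresentedGroup (↑rels : Set (FreeGroup (Fin 3))) ≃* Matrix.ProjectiveSpecialLinearGroup (Fin 2) F)) ∧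
    (CharP F 2 → ∃ rels : Finset (FreeGroup (Fin 3)), rels.card ≤ 5 ∧ Nonempty (PresentedGroup (↑rels : Set (FreeGroup (Fin 3))) ≃* Matrix.ProjectiveSpecialLinearGroup (Fin 2) F)) := by
  obtain ⟨p, hpc⟩ := CharP.exists F
  have : Fact p.Prime := ⟨CharP.char_is_prime F p⟩
  by_cases hp : p = 2
  · subst hp
    obtain ⟨r, hr, hi⟩ := CfsgLib.SL2Pres.presentation_even_SL (F := F)
    obtain ⟨r', hr', hi'⟩ := CfsgLib.SL2Pres.presentation_even_PSL (F := F)
    exact ⟨⟨r, by omega, hi⟩, ⟨r', by omega, hi'⟩, fun _ => ⟨r', hr', hi'⟩⟩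
  · have hodd : Odd (Fintype.card F) := by
      rw [← Nat.not_even_iff_odd]
      intro he
      have h2 : ringChar F = 2 := FiniteField.even_card_iff_char_two.2 (Nat.even_iff.1 he)
      exact hp ((ringChar.eq F p).symm.trans h2)
    obtain ⟨h1, h2⟩ := CfsgLib.SL2Pres.presentations_odd p hodd
    exact ⟨h1, h2, fun h => absurd (CharP.eq F hpc h) hp⟩

end Cfsg.Agent.S2286
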