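import Cfsg.Statements.S2403
import Cfsg.Agent.SLGen.Basic

set_option autoImplicit false
open Cfsg

namespace Cfsg.Agent.S2403

/-- Explicit two-element generation of `PSL_{n+1}(K)` over the fields with two or three elements: with `x = 1 + E₁₂` and `w` the monomial matrix with entries `1` in positions `(i, i+1)` and `(−1)^n` in position `(n+1, 1)`, the elements `x` and `w` generate `SL_{n+1}(K)` modulo its centre. -/
theorem result {K : Type*} [Field K] [Fintype K] (hK : Fintype.card K ≤ 3) (n : ℕ) (hn : 1 ≤ n)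
    (x w : Matrix.SpecialLinearGroup (Fin (n + 1)) K)
    (hx : (x : Matrix (Fin (n + 1)) (Fin (n + 1)) K) = Matrix.transvection (0 : Fin (n + 1)) (1 : Fin (n + 1)) 1)
    (hw : (w : Matrix (Fin (n + 1)) (Fin (n + 1)) K) =
      Matrix.of (fun i j => if j.val = i.val + 1 then 1 else if i.val = n ∧ j.val = 0 then (-1) ^ n else 0)) :
    Subgroup.closure ({x, w} : Set (Matrix.SpecialLinearGroup (Fin (n + 1)) K)) ⊔
      Subgroup.center (Matrix.SpecialLinearGroup (Fin (n + 1)) K) = ⊤ := by
  classical
  rw [eq_top_iff]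
  refine le_trans (le_of_eq ?_) le_sup_left
  symm
  refine CfsgLib.SLGen.eq_top_of_shift hn hw (Subgroup.subset_closure (by simp)) fun t => ?_
  set H := Subgroup.closure ({x, w} : Set (Matrix.SpecialLinearGroup (Fin (n + 1)) K))
  have h1 : (1 : K) ∈ CfsgLib.SLGen.adjParams hn H := by
    change _ ∈ H
    rw [CfsgLib.SLGen.adj_eq_self hx]
    exact Subgroup.subset_closure (by simp)
  have hbot : CfsgLib.SLGen.adjParams hn H = ⊤ := by
    refine AddSubgroup.eq_top_of_card_eq _ (le_antisymm (Nat.card_le_card_of_injective _ Subtype.val_injective) ?_)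
    have hdvd := AddSubgroup.card_addSubgroup_dvd_card (CfsgLib.SLGen.adjParams hn H)
    rw [Nat.card_eq_fintype_card (α := K)] at hdvd ⊢
    have h2 : 1 < Nat.card (CfsgLib.SLGen.adjParams hn H) :=
      Finite.one_lt_card_iff_nontrivial.2 ⟨⟨0, zero_mem _⟩, ⟨1, h1⟩, by simp⟩
    have h3 := Fintype.one_lt_card (α := K)
    by_contra hlt
    rcases (show Fintype.card K = 2 ∨ Fintype.card K = 3 by omega) with hc | hc <;> rw [hc] at hdvd hlt
    · have := (Nat.dvd_prime Nat.prime_two).1 hdvd; omega
    · have := (Nat.dvd_prime Nat.prime_three).1 hdvd; omega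
  exact (hbot ▸ AddSubgroup.mem_top t : t ∈ CfsgLib.SLGen.adjParams hn H)

end Cfsg.Agent.S2403
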