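import Cfsg.Statements.S2290
import Cfsg.Agent.SLnPres.Final
import Cfsg.Agent.S2286
import Cfsg.Agent.S2402
import Cfsg.Agent.S2403
import Cfsg.Agent.SLGen.ShiftDet

set_option autoImplicit false
open Cfsg

namespace Cfsg.Agent.S2290

/-- For every finite field F with q elements and n ≥ 2, with q ≥ 4 when n = 2, the simple group PSL_n(F) has a presentation with 2 generators and at most 80 relations. -/
theorem result {F : Type*} [Field F] [Fintype F] (n : ℕ) (hn : 2 ≤ n) (h2 : n = 2 → 4 ≤ Fintype.card F) :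
    ∃ rels : Finset (FreeGroup (Fin 2)), rels.card ≤ 80 ∧ Nonempty (PresentedGroup (↑rels : Set (FreeGroup (Fin 2))) ≃* Matrix.ProjectiveSpecialLinearGroup (Fin n) F) := by
  classical
  obtain ⟨p, hpc⟩ := CharP.exists F
  have : Fact p.Prime := ⟨CharP.char_is_prime F p⟩
  letI := ZMod.algebra F p
  -- a presentation with some number of generators
  obtain ⟨k, rels, hc, ⟨e⟩⟩ : ∃ (k : ℕ) (rels : Finset (FreeGroup (Fin k))), rels.card ≤ 78 ∧
      Nonempty (PresentedGroup (↑rels : Set (FreeGroup (Fin k))) ≃* Matrix.ProjectiveSpecialLinearGroup (Fin n) F) := by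
    rcases (show n = 2 ∨ n = 3 ∨ 4 ≤ n by omega) with rfl | rfl | h4
    · obtain ⟨-, ⟨R, hR, hi⟩, -⟩ := Cfsg.Agent.S2286.result (F := F)
      exact ⟨3, R, by omega, hi⟩
    · obtain ⟨R, hR, ⟨eR⟩⟩ := CfsgLib.SL3Pres.exists_presentation (F := F) p
      obtain ⟨R', hR', hi⟩ := CfsgLib.SLnPres.psl_of_sl (by norm_num) R hR eR
      exact ⟨4, R', by omega, hi⟩
    · obtain ⟨-, R, hR, hi⟩ := CfsgLib.SLnPres.presentations (F := F) p h4
      exact ⟨7, R, by omega, hi⟩
  -- a generating pair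
  obtain ⟨n, rfl⟩ : ∃ m, n = m + 1 := ⟨n - 1, by omega⟩
  suffices hgen : ∃ a b : Matrix.SpecialLinearGroup (Fin (n + 1)) F,
      Subgroup.closure ({a, b} : Set _) ⊔ Subgroup.center (Matrix.SpecialLinearGroup (Fin (n + 1)) F) = ⊤ by
    obtain ⟨a, b, hab⟩ := hgen
    obtain ⟨R, hR, e', -, -⟩ := CfsgLib.BoundedAlt.retarget_pair rels hc e
      (QuotientGroup.mk a) (QuotientGroup.mk b) (by
        have := congrArg (Subgroup.map (QuotientGroup.mk' (Subgroup.center (Matrix.SpecialLinearGroup (Fin (n + 1)) F)))) hab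
        rwa [Subgroup.map_sup, QuotientGroup.map_mk'_self, sup_bot_eq, MonoidHom.map_closure, Set.image_pair,
          Subgroup.map_top_of_surjective _ (QuotientGroup.mk'_surjective _)] at this)
    exact ⟨R, hR, ⟨e'⟩⟩
  let w : Matrix.SpecialLinearGroup (Fin (n + 1)) F :=
    ⟨Matrix.of (fun i j => if j.val = i.val + 1 then 1 else if i.val = n ∧ j.val = 0 then (-1) ^ n else 0),
      CfsgLib.SLGen.det_shift n⟩
  let x : Matrix.SpecialLinearGroup (Fin (n + 1)) F :=
    Matrix.SpecialLinearGroup.transvection (CfsgLib.SLGen.self_ne_add_one (by omega) (0 : Fin (n + 1))) 1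
  have hx : (x : Matrix (Fin (n + 1)) (Fin (n + 1)) F) = Matrix.transvection (0 : Fin (n + 1)) (1 : Fin (n + 1)) 1 := by
    simp [x, Matrix.SpecialLinearGroup.transvection_coe, Matrix.transvection]
  by_cases hK : Fintype.card F ≤ 3
  · exact ⟨x, w, Cfsg.Agent.S2403.result hK n (by omega) x w hx rfl⟩
  · obtain ⟨k, hk⟩ := IsCyclic.exists_generator (α := Fˣ)
    exact ⟨⟨Matrix.diagonal (fun i => if i.val = 0 then (k : F) else if i.val = 1 then ((k⁻¹ : Fˣ) : F) else 1), by
      rw [Matrix.det_diagonal, Fin.prod_univ_succ]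
      obtain ⟨m, rfl⟩ : ∃ m, n = m + 1 := ⟨n - 1, by omega⟩
      simp [Fin.prod_univ_succ]⟩, x * w, Cfsg.Agent.S2402.result (by omega) n (by omega) k hk _ x w rfl hx rfl⟩

end Cfsg.Agent.S2290
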