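import Cfsg.Statements.S2291
import Cfsg.Agent.SUPres.Final
import Cfsg.Agent.SUThreePresentation.TwoGen

set_option autoImplicit false
open Cfsg

namespace Cfsg.Agent.S2291

/-- Let F be a field with q² elements and n ≥ 3 with (n, q) ≠ (3, 2). Then the simple group PSU_n(q) (for the standard Hermitian form) has a presentation with 2 generators and at most 80 relations. -/
theorem result {F : Type*} [Field F] [Fintype F] (q n : ℕ) (hF : Fintype.card F = q ^ 2) (hn : 3 ≤ n) (h32 : ¬ (n = 3 ∧ q = 2)) :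
    ∃ rels : Finset (FreeGroup (Fin 2)), rels.card ≤ 80 ∧ Nonempty (PresentedGroup (↑rels : Set (FreeGroup (Fin 2))) ≃* Cfsg.PSU n F q) := by
  rcases Nat.lt_or_ge n 4 with h4 | h4
  · obtain rfl : n = 3 := by omega
    obtain ⟨C, rfl⟩ := CfsgLib.RepBounds.Unit.exists_conjField q hF
    unfold Cfsg.PSU
    rw [← CfsgLib.RepBounds.Unit.suG_fin_eq (C := C)]
    have hq : 3 ≤ C.q := by
      have h2 : C.q ≠ 2 := fun h => h32 ⟨rfl, h⟩
      have := C.two_le
      omega
    exact CfsgLib.SUThreePresentation.exists_two_gen_psu C hq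
  · obtain ⟨N, hN, -, -, -, ⟨R, hR, hi⟩⟩ := CfsgLib.SUPres.presentations hF h4
    exact ⟨R, by omega, hi⟩

end Cfsg.Agent.S2291
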