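import Cfsg.Statements.S2292
import Cfsg.Agent.SpnPres.TwoGen
import Cfsg.Agent.SpnPres.Final
import Cfsg.Agent.S2293

set_option autoImplicit false
open Cfsg

namespace Cfsg.Agent.S2292

/-- Let F be a finite field with q elements and m ≥ 2 with (m, q) ≠ (2, 2). Then the simple group PSp_2m(F) has a presentation with 2 generators and at most 80 relations. -/
theorem result {F : Type*} [Field F] [Fintype F] (m : ℕ) (hm : 2 ≤ m) (h22 : ¬ (m = 2 ∧ Fintype.card F = 2)) :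
    ∃ rels : Finset (FreeGroup (Fin 2)), rels.card ≤ 80 ∧ Nonempty (PresentedGroup (↑rels : Set (FreeGroup (Fin 2))) ≃* Cfsg.PSp m F) := by
  obtain ⟨p, hpc⟩ := CharP.exists F
  have : Fact p.Prime := ⟨CharP.char_is_prime F p⟩
  letI := ZMod.algebra F p
  obtain ⟨a, b, hab⟩ := CfsgLib.SpnPres.two_gen (F := F) m hm h22
  have hq : ∃ a b : Cfsg.PSp m F, Subgroup.closure {a, b} = ⊤ := by
    refine ⟨QuotientGroup.mk' _ a, QuotientGroup.mk' _ b, ?_⟩
    rw [← Set.image_pair, ← MonoidHom.map_closure, hab,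
      Subgroup.map_top_of_surjective _ (QuotientGroup.mk'_surjective _)]
  obtain ⟨a', b', hab'⟩ := hq
  obtain ⟨g, R, hR, ⟨e⟩⟩ : ∃ g, ∃ R : Finset (FreeGroup (Fin g)), R.card ≤ 54 ∧
      Nonempty (PresentedGroup (↑R : Set (FreeGroup (Fin g))) ≃* Cfsg.PSp m F) := by
    rcases Nat.eq_or_lt_of_le hm with rfl | h3
    · obtain ⟨R, hR, he⟩ := (Cfsg.Agent.S2293.result (F := F)).2
      exact ⟨_, R, by omega, he⟩
    rcases Nat.eq_or_lt_of_le (show 3 ≤ m from h3) with rfl | h4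
    · obtain ⟨R, hR, ⟨e⟩⟩ := CfsgLib.SpnPres.presentation_small (F := F) p
      obtain ⟨R', hR', he'⟩ := CfsgLib.SpnPres.psp_of_sp (by norm_num) R hR e
      exact ⟨_, R', by omega, he'⟩
    · obtain ⟨g, N, R, hcase, hR, ⟨e⟩⟩ := CfsgLib.SpnPres.presentation_large (F := F) p (n := m) h4
      obtain ⟨R', hR', he'⟩ := CfsgLib.SpnPres.psp_of_sp (by omega) R hR e
      exact ⟨_, R', by omega, he'⟩
  obtain ⟨R', hR', e', -, -⟩ := CfsgLib.BoundedAlt.retarget_pair R hR e a' b' hab'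
  exact ⟨R', by omega, ⟨e'⟩⟩

end Cfsg.Agent.S2292
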