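import Cfsg.Statements.S2296
import Cfsg.Agent.SpnPres.Final

set_option autoImplicit false
open Cfsg

namespace Cfsg.Agent.S2296

/-- Let F be a finite field. Sp_2n(F) has a presentation with 10 generators and at most 58 relations for n ≥ 4, with 9 generators and at most 57 relations for n = 4 or 5, and with 8 generators and at most 52 relations for n = 3; in each case PSp_2n(F) has a presentation with the same number of generators and at most one more relation. -/
theorem result {F : Type*} [Field F] [Fintype F] (n : ℕ) :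
    (4 ≤ n → (∃ rels : Finset (FreeGroup (Fin 10)), rels.card ≤ 58 ∧ Nonempty (PresentedGroup (↑rels : Set (FreeGroup (Fin 10))) ≃* Matrix.symplecticGroup (Fin n) F)) ∧ (∃ rels : Finset (FreeGroup (Fin 10)), rels.card ≤ 59 ∧ Nonempty (PresentedGroup (↑rels : Set (FreeGroup (Fin 10))) ≃* Cfsg.PSp n F))) ∧
    ((n = 4 ∨ n = 5) → (∃ rels : Finset (FreeGroup (Fin 9)), rels.card ≤ 57 ∧ Nonempty (PresentedGroup (↑rels : Set (FreeGroup (Fin 9))) ≃* Matrix.symplecticGroup (Fin n) F)) ∧ (∃ rels : Finset (FreeGroup (Fin 9)), rels.card ≤ 58 ∧ Nonempty (PresentedGroup (↑rels : Set (FreeGroup (Fin 9))) ≃* Cfsg.PSp n F))) ∧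
    (n = 3 → (∃ rels : Finset (FreeGroup (Fin 8)), rels.card ≤ 52 ∧ Nonempty (PresentedGroup (↑rels : Set (FreeGroup (Fin 8))) ≃* Matrix.symplecticGroup (Fin n) F)) ∧ (∃ rels : Finset (FreeGroup (Fin 8)), rels.card ≤ 53 ∧ Nonempty (PresentedGroup (↑rels : Set (FreeGroup (Fin 8))) ≃* Cfsg.PSp n F))) := by
  obtain ⟨p, hpc⟩ := CharP.exists F
  have : Fact p.Prime := ⟨CharP.char_is_prime F p⟩
  letI := ZMod.algebra F p
  have pack : ∀ {g N M : ℕ} (R : Finset (FreeGroup (Fin g))), 1 ≤ n → R.card ≤ N → N ≤ M →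
      Nonempty (PresentedGroup (↑R : Set (FreeGroup (Fin g))) ≃* Matrix.symplecticGroup (Fin n) F) →
      (∃ rels : Finset (FreeGroup (Fin g)), rels.card ≤ M ∧
        Nonempty (PresentedGroup (↑rels : Set (FreeGroup (Fin g))) ≃* Matrix.symplecticGroup (Fin n) F)) ∧
      (∃ rels : Finset (FreeGroup (Fin g)), rels.card ≤ M + 1 ∧
        Nonempty (PresentedGroup (↑rels : Set (FreeGroup (Fin g))) ≃* Cfsg.PSp n F)) := by
    intro g N M R hn hR hM he
    obtain ⟨e⟩ := he
    exact ⟨⟨R, hR.trans hM, ⟨e⟩⟩, CfsgLib.SpnPres.psp_of_sp hn R (hR.trans hM) e⟩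
  have pad : ∀ {g N : ℕ} (R : Finset (FreeGroup (Fin g))), R.card ≤ N →
      Nonempty (PresentedGroup (↑R : Set (FreeGroup (Fin g))) ≃* Matrix.symplecticGroup (Fin n) F) →
      ∃ R' : Finset (FreeGroup (Fin (g + 1))), R'.card ≤ N + 1 ∧
        Nonempty (PresentedGroup (↑R' : Set (FreeGroup (Fin (g + 1)))) ≃* Matrix.symplecticGroup (Fin n) F) := by
    intro g N R hR he
    obtain ⟨e⟩ := he
    exact CfsgLib.BoundedAlt.retarget_pad R hR e
  refine ⟨fun hn => ?_, fun hn => ?_, ?_⟩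
  · obtain ⟨g, N, R, hcase, hR, he⟩ := CfsgLib.SpnPres.presentation_large (F := F) p hn
    rcases hcase with ⟨-, rfl, rfl⟩ | ⟨rfl | rfl, rfl⟩
    · obtain ⟨R1, hR1, he1⟩ := pad R hR he
      obtain ⟨R2, hR2, he2⟩ := pad R1 hR1 he1
      exact pack R2 (by omega) hR2 (by omega) he2
    · obtain ⟨R1, hR1, he1⟩ := pad R hR he
      obtain ⟨R2, hR2, he2⟩ := pad R1 hR1 he1
      exact pack R2 (by omega) hR2 (by omega) he2
    · obtain ⟨R1, hR1, he1⟩ := pad R hR he
      exact pack R1 (by omega) hR1 (by omega) he1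
  · obtain ⟨g, N, R, hcase, hR, he⟩ := CfsgLib.SpnPres.presentation_large (F := F) p (n := n) (by omega)
    rcases hcase with ⟨-, rfl, rfl⟩ | ⟨rfl | rfl, rfl⟩
    · obtain ⟨R1, hR1, he1⟩ := pad R hR he
      exact pack R1 (by omega) hR1 (by omega) he1
    · obtain ⟨R1, hR1, he1⟩ := pad R hR he
      exact pack R1 (by omega) hR1 (by omega) he1
    · exact pack R (by omega) hR (by omega) he
  · rintro rfl
    obtain ⟨R, hR, he⟩ := CfsgLib.SpnPres.presentation_small (F := F) p
    obtain ⟨R1, hR1, he1⟩ := pad R hR he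
    exact pack R1 (by omega) hR1 (by omega) he1

end Cfsg.Agent.S2296
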