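import Cfsg.Statements.S2297
import Cfsg.Agent.BoundedAlt.Final

set_option autoImplicit false
open Cfsg

namespace Cfsg.Agent.S2297

/-- Let n ≥ 5 and let G be the symmetric group S_n or the alternating group A_n. If a and b generate G, then G has a presentation on two generators mapping to a and b with at most 9 relations: there is a set of at most 9 relators in the free group on two letters and an isomorphism from the presented group onto G sending the two letters to a and b. -/
theorem result (n : ℕ) (hn : 5 ≤ n) :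
    (∀ a b : Equiv.Perm (Fin n), Subgroup.closure ({a, b} : Set (Equiv.Perm (Fin n))) = ⊤ →
      ∃ rels : Finset (FreeGroup (Fin 2)), rels.card ≤ 9 ∧
        ∃ e : PresentedGroup (↑rels : Set (FreeGroup (Fin 2))) ≃* Equiv.Perm (Fin n),
          e (PresentedGroup.of 0) = a ∧ e (PresentedGroup.of 1) = b) ∧
    (∀ a b : ↥(alternatingGroup (Fin n)), Subgroup.closure ({a, b} : Set ↥(alternatingGroup (Fin n))) = ⊤ →
      ∃ rels : Finset (FreeGroup (Fin 2)), rels.card ≤ 9 ∧
        ∃ e : PresentedGroup (↑rels : Set (FreeGroup (Fin 2))) ≃* ↥(alternatingGroup (Fin n)),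
          e (PresentedGroup.of 0) = a ∧ e (PresentedGroup.of 1) = b) := by
  constructor
  · intro a b hab
    rcases Nat.lt_or_ge n 7 with h | h
    · obtain ⟨r, hc, ⟨e⟩⟩ := CfsgLib.BoundedAlt.sym_small (n := n) (by omega)
      obtain ⟨r', hc', he⟩ := CfsgLib.BoundedAlt.retarget_pair r hc e a b hab
      exact ⟨r', by omega, he⟩
    · obtain ⟨r, hc, f, -⟩ := CfsgLib.BoundedAlt.exists_large h (Or.inr rfl)
      exact CfsgLib.BoundedAlt.retarget_pair r hc (f.trans (CfsgLib.BoundedAlt.tgtTwo n)) a b hab
  · intro a b hab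
    rcases Nat.lt_or_ge n 7 with h | h
    · obtain ⟨r, hc, ⟨e⟩⟩ := CfsgLib.BoundedAlt.alt_small (n := n) (by omega)
      obtain ⟨r', hc', he⟩ := CfsgLib.BoundedAlt.retarget_pair r hc e a b hab
      exact ⟨r', by omega, he⟩
    · obtain ⟨r, hc, f, -⟩ := CfsgLib.BoundedAlt.exists_large h (Or.inl rfl)
      exact CfsgLib.BoundedAlt.retarget_pair r hc (f.trans (CfsgLib.BoundedAlt.tgtOne n)) a b hab

end Cfsg.Agent.S2297
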