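import Cfsg.Statements.S2298
import Cfsg.Agent.GL2CharTable.Values

set_option autoImplicit false
open Cfsg

namespace Cfsg.Agent.S2298

open CfsgLib.GL2CharTable

/-- Over a finite field F with q elements, every irreducible complex character of GL₂ has degree 1, q − 1, q or q + 1; and when q ≥ 3 (so that these four numbers are distinct) there are exactly q − 1 irreducible characters of degree 1, exactly q − 1 of degree q, exactly (q − 1)(q − 2)/2 of degree q + 1 and exactly q(q − 1)/2 of degree q − 1. -/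
theorem result {F : Type*} [Field F] [Fintype F] :
    (∀ χ : Matrix.GeneralLinearGroup (Fin 2) F → ℂ, Cfsg.IsIrrCharacter (Matrix.GeneralLinearGroup (Fin 2) F) χ →
      χ 1 = 1 ∨ χ 1 = (Fintype.card F : ℂ) - 1 ∨ χ 1 = (Fintype.card F : ℂ) ∨ χ 1 = (Fintype.card F : ℂ) + 1) ∧
    (3 ≤ Fintype.card F →
      Nat.card {χ : Cfsg.IrrCharacter (Matrix.GeneralLinearGroup (Fin 2) F) // (χ : Matrix.GeneralLinearGroup (Fin 2) F → ℂ) 1 = 1} = Fintype.card F - 1 ∧
      Nat.card {χ : Cfsg.IrrCharacter (Matrix.GeneralLinearGroup (Fin 2) F) // (χ : Matrix.GeneralLinearGroup (Fin 2) F → ℂ) 1 = (Fintype.card F : ℂ)} = Fintype.card F - 1 ∧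
      Nat.card {χ : Cfsg.IrrCharacter (Matrix.GeneralLinearGroup (Fin 2) F) // (χ : Matrix.GeneralLinearGroup (Fin 2) F → ℂ) 1 = (Fintype.card F : ℂ) + 1} = (Fintype.card F - 1) * (Fintype.card F - 2) / 2 ∧
      Nat.card {χ : Cfsg.IrrCharacter (Matrix.GeneralLinearGroup (Fin 2) F) // (χ : Matrix.GeneralLinearGroup (Fin 2) F → ℂ) 1 = (Fintype.card F : ℂ) - 1} = Fintype.card F * (Fintype.card F - 1) / 2) := by
  classical
  have hq1 : (1 : ℕ) < Fintype.card F := Fintype.one_lt_card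
  refine ⟨fun χ hχ => ?_, fun h3 => ⟨?_, ?_, ?_, ?_⟩⟩
  · rcases cases χ hχ with ⟨α, rfl⟩ | ⟨α, rfl⟩ | ⟨α, β, -, rfl⟩ | ⟨-, h1⟩
    · exact Or.inl (LL_one α)
    · exact Or.inr (Or.inr (Or.inl (SS_one α)))
    · exact Or.inr (Or.inr (Or.inr (PS_one α β)))
    · exact Or.inr (Or.inl h1)
  · rw [← card_mulChar (F := F)]
    refine (Nat.card_eq_of_bijective (fun α => ⟨⟨LL α, isIrr_LL α⟩, LL_one α⟩) ⟨fun a b e => LL_injective ?_, fun c => ?_⟩).symm
    · exact congrArg (fun c => c.1.1) e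
    · obtain ⟨α, hα⟩ := (kind c.1.2).2.2.1 h3 c.2
      exact ⟨α, Subtype.ext (Subtype.ext hα.symm)⟩
  · rw [← card_mulChar (F := F)]
    refine (Nat.card_eq_of_bijective (fun α => ⟨⟨SS α, SS_irr α⟩, SS_one α⟩) ⟨fun a b e => SS_injective ?_, fun c => ?_⟩).symm
    · exact congrArg (fun c => c.1.1) e
    · obtain ⟨α, hα⟩ := (kind c.1.2).1 c.2
      exact ⟨α, Subtype.ext (Subtype.ext hα.symm)⟩
  · have : Fintype (MulChar F ℂ) := Fintype.ofFinite _
    have hcard : Nat.card {z : Sym2 (MulChar F ℂ) // ¬ z.IsDiag} = (Fintype.card F - 1) * (Fintype.card F - 2) / 2 := by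
      rw [Nat.card_eq_fintype_card, Sym2.card_subtype_not_diag, Nat.choose_two_right, ← Nat.card_eq_fintype_card,
        card_mulChar, Nat.sub_sub]
    rw [← hcard]
    refine (Nat.card_eq_of_bijective (fun z => ⟨⟨PP z.1, PP_irr z.2⟩, PP_one z.1⟩) ⟨fun a b e => Subtype.ext (PP_injective ?_), fun c => ?_⟩).symm
    · exact congrArg (fun c => c.1.1) e
    · obtain ⟨α, β, hne, hα⟩ := (kind c.1.2).2.1 c.2
      exact ⟨⟨s(α, β), by simpa using hne⟩, Subtype.ext (Subtype.ext hα.symm)⟩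
  · have h := (count_and_degree (F := F)).1
    have e : Nat.card {χ : Cfsg.IrrCharacter (Matrix.GeneralLinearGroup (Fin 2) F) // (χ : Matrix.GeneralLinearGroup (Fin 2) F → ℂ) 1 = (Fintype.card F : ℂ) - 1}
        = Nat.card {c : Cfsg.IrrCharacter (GL (Fin 2) F) // IsCusp c.1} :=
      Nat.card_congr (Equiv.subtypeEquivRight fun c =>
        ⟨fun h1 => ((kind c.2).2.2.2 h1).resolve_right (by omega), fun hc => (count_and_degree (F := F)).2 _ hc⟩)
    rw [e, ← h, Nat.mul_div_cancel_left _ two_pos]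

end Cfsg.Agent.S2298
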