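import Cfsg.Statements.S2301
import Cfsg.Agent.FGS.SL2Unipotent

set_option autoImplicit false
open Cfsg

namespace Cfsg.Agent.S2301

/-- Over a finite field with q elements of odd characteristic p, the elements of order p of SL₂ (the non-identity unipotent elements) fall into exactly two conjugacy classes, each of size (q² − 1)/2; two upper unitriangular matrices with non-zero off-diagonal entries b and b′ are conjugate exactly when bb′ is a square. -/
theorem result {F : Type*} [Field F] [Fintype F] (p : ℕ) [Fact p.Prime] [CharP F p] (hp : p ≠ 2) :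
    Nat.card {C : ConjClasses (Matrix.SpecialLinearGroup (Fin 2) F) // ∃ g : Matrix.SpecialLinearGroup (Fin 2) F, orderOf g = p ∧ ConjClasses.mk g = C} = 2 ∧
    (∀ g : Matrix.SpecialLinearGroup (Fin 2) F, orderOf g = p → Nat.card (ConjClasses.mk g).carrier = (Fintype.card F ^ 2 - 1) / 2) ∧
    ∀ g h : Matrix.SpecialLinearGroup (Fin 2) F, (g : Matrix (Fin 2) (Fin 2) F) 0 0 = 1 → (g : Matrix (Fin 2) (Fin 2) F) 1 1 = 1 → (g : Matrix (Fin 2) (Fin 2) F) 1 0 = 0 → (g : Matrix (Fin 2) (Fin 2) F) 0 1 ≠ 0 →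
      (h : Matrix (Fin 2) (Fin 2) F) 0 0 = 1 → (h : Matrix (Fin 2) (Fin 2) F) 1 1 = 1 → (h : Matrix (Fin 2) (Fin 2) F) 1 0 = 0 → (h : Matrix (Fin 2) (Fin 2) F) 0 1 ≠ 0 →
      (IsConj g h ↔ IsSquare ((g : Matrix (Fin 2) (Fin 2) F) 0 1 * (h : Matrix (Fin 2) (Fin 2) F) 0 1)) := by
  classical
  have hchar : ringChar F ≠ 2 := by rw [ringChar.eq F p]; exact hp
  have h2 : (2 : F) ≠ 0 := CfsgLib.SL2Trace.two_ne_zero_of_ringChar hchar
  have hone := CfsgLib.FGS.SL2Unipotent.orderOf_uni (F := F) p one_ne_zero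
  obtain ⟨ν, hν⟩ := FiniteField.exists_nonsquare hchar
  have hν0 : ν ≠ 0 := fun h => hν (h ▸ IsSquare.zero)
  have hcases : ∀ b : F, b ≠ 0 → IsSquare (b * 1) ∨ IsSquare (b * ν) := by
    intro b hb
    by_cases h : IsSquare b
    · exact Or.inl (by rwa [mul_one])
    · refine Or.inr ((quadraticChar_one_iff_isSquare (mul_ne_zero hb hν0)).1 ?_)
      rw [map_mul, quadraticChar_neg_one_iff_not_isSquare.2 h,
        quadraticChar_neg_one_iff_not_isSquare.2 hν]
      norm_num
  refine ⟨?_, ?_, ?_⟩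
  · rw [show {C : ConjClasses (Matrix.SpecialLinearGroup (Fin 2) F) //
        ∃ g : Matrix.SpecialLinearGroup (Fin 2) F, orderOf g = p ∧ ConjClasses.mk g = C} =
      ↑({C | ∃ g : Matrix.SpecialLinearGroup (Fin 2) F, orderOf g = p ∧ ConjClasses.mk g = C} :
        Set (ConjClasses (Matrix.SpecialLinearGroup (Fin 2) F))) from rfl]
    have heq : {C : ConjClasses (Matrix.SpecialLinearGroup (Fin 2) F) |
        ∃ g : Matrix.SpecialLinearGroup (Fin 2) F, orderOf g = p ∧ ConjClasses.mk g = C} =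
        {ConjClasses.mk (CfsgLib.FGS.SL2Unipotent.uni (1 : F)),
          ConjClasses.mk (CfsgLib.FGS.SL2Unipotent.uni ν)} := by
      ext C
      constructor
      · rintro ⟨g, hg, rfl⟩
        obtain ⟨b, hb, hgb⟩ := CfsgLib.FGS.SL2Unipotent.exists_uni p hg
        rcases hcases b hb with h | h
        · exact Or.inl (ConjClasses.mk_eq_mk_iff_isConj.2
            (hgb.trans ((CfsgLib.FGS.SL2Unipotent.isConj_uni hb one_ne_zero).2 h)))
        · exact Or.inr (ConjClasses.mk_eq_mk_iff_isConj.2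
            (hgb.trans ((CfsgLib.FGS.SL2Unipotent.isConj_uni hb hν0).2 h)))
      · rintro (rfl | rfl)
        · exact ⟨_, hone, rfl⟩
        · exact ⟨_, CfsgLib.FGS.SL2Unipotent.orderOf_uni p hν0, rfl⟩
    rw [Nat.card_coe_set_eq, heq, Set.ncard_pair]
    intro h
    have h' := (CfsgLib.FGS.SL2Unipotent.isConj_uni (F := F) one_ne_zero hν0).1
      (ConjClasses.mk_eq_mk_iff_isConj.1 h)
    exact hν (by rwa [one_mul] at h')
  · intro g hg
    have h := CfsgLib.FGS.SL2Unipotent.card_class p hg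
    rw [CfsgLib.SL2Classes.card_sq_roots_odd h2] at h
    omega
  · intro g h g00 g11 g10 g01 h00 h11 h10 h01
    conv_lhs => rw [CfsgLib.FGS.SL2Unipotent.eq_uni g00 g11 g10,
      CfsgLib.FGS.SL2Unipotent.eq_uni h00 h11 h10]
    exact CfsgLib.FGS.SL2Unipotent.isConj_uni g01 h01

end Cfsg.Agent.S2301
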