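import Cfsg.Statements.S2302
import Cfsg.Agent.FGS.SL2Unipotent

set_option autoImplicit false
open Cfsg

namespace Cfsg.Agent.S2302

/-- Over a finite field with q elements of characteristic 2, the involutions of SL₂ (the non-identity unipotent elements) form a single conjugacy class, of size q² − 1. -/
theorem result {F : Type*} [Field F] [Fintype F] [CharP F 2] (g h : Matrix.SpecialLinearGroup (Fin 2) F) (hg : orderOf g = 2) (hh : orderOf h = 2) :
    IsConj g h ∧ Nat.card (ConjClasses.mk g).carrier = Fintype.card F ^ 2 - 1 := by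
  classical
  obtain ⟨b, hb, hgb⟩ := CfsgLib.FGS.SL2Unipotent.exists_uni 2 hg
  obtain ⟨c, hc, hhc⟩ := CfsgLib.FGS.SL2Unipotent.exists_uni 2 hh
  have hchar : ringChar F = 2 := ringChar.eq F 2
  refine ⟨hgb.trans (((CfsgLib.FGS.SL2Unipotent.isConj_uni hb hc).2
    (FiniteField.isSquare_of_char_two hchar _)).trans hhc.symm), ?_⟩
  have h := CfsgLib.FGS.SL2Unipotent.card_class 2 hg
  have h1 : (Finset.univ.filter fun z : F => z ^ 2 = 1) = {1} := by
    ext z
    simp only [Finset.mem_filter, Finset.mem_univ, true_and, Finset.mem_singleton, sq_eq_one_iff,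
      CharTwo.neg_eq, or_self]
  rwa [h1, Finset.card_singleton, mul_one] at h

end Cfsg.Agent.S2302
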