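import Cfsg.Statements.S2303
import Mathlib

set_option autoImplicit false
open Cfsg

namespace Cfsg.Agent.S2303

open Matrix

theorem comm_eq {F : Type*} [Field F] {g M : Matrix (Fin 2) (Fin 2) F} (h : g * M = M * g) :
    g 0 1 * M 1 0 = M 0 1 * g 1 0 ∧
    g 0 0 * M 0 1 + g 0 1 * M 1 1 = M 0 0 * g 0 1 + M 0 1 * g 1 1 ∧
    g 1 0 * M 0 0 + g 1 1 * M 1 0 = M 1 0 * g 0 0 + M 1 1 * g 1 0 := by
  have e00 := congrFun (congrFun h 0) 0
  have e01 := congrFun (congrFun h 0) 1
  have e10 := congrFun (congrFun h 1) 0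
  simp [mul_apply] at e00 e01 e10
  refine ⟨by linear_combination e00, e01, e10⟩

/-- Over a finite field with q elements: a diagonal element of GL₂ with two distinct diagonal entries has centralizer of order (q − 1)² (so q(q + 1) conjugates), and an element of GL₂ with no eigenvector in F² has centralizer of order q² − 1 (so q(q − 1) conjugates). -/
theorem result {F : Type*} [Field F] [Fintype F] (g : Matrix.GeneralLinearGroup (Fin 2) F) :
    ((g : Matrix (Fin 2) (Fin 2) F) 0 1 = 0 → (g : Matrix (Fin 2) (Fin 2) F) 1 0 = 0 → (g : Matrix (Fin 2) (Fin 2) F) 0 0 ≠ (g : Matrix (Fin 2) (Fin 2) F) 1 1 →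
      Nat.card (Subgroup.centralizer ({g} : Set (Matrix.GeneralLinearGroup (Fin 2) F))) = (Fintype.card F - 1) ^ 2) ∧
    ((∀ (c : F) (v : Fin 2 → F), v ≠ 0 → (g : Matrix (Fin 2) (Fin 2) F).mulVec v ≠ c • v) →
      Nat.card (Subgroup.centralizer ({g} : Set (Matrix.GeneralLinearGroup (Fin 2) F))) = Fintype.card F ^ 2 - 1) := by
  classical
  set C := Subgroup.centralizer ({g} : Set (Matrix.GeneralLinearGroup (Fin 2) F))
  have hmem : ∀ M : Matrix.GeneralLinearGroup (Fin 2) F, M ∈ C ↔
      (g : Matrix (Fin 2) (Fin 2) F) * (M : Matrix (Fin 2) (Fin 2) F) =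
        (M : Matrix (Fin 2) (Fin 2) F) * (g : Matrix (Fin 2) (Fin 2) F) := by
    intro M
    rw [Subgroup.mem_centralizer_singleton_iff, Units.ext_iff, Units.val_mul, Units.val_mul]
    exact eq_comm
  have hq : Nat.card F = Fintype.card F := Nat.card_eq_fintype_card
  refine ⟨fun h01 h10 hne => ?_, fun hno => ?_⟩
  · have hd : ∀ M : Matrix.GeneralLinearGroup (Fin 2) F, M ∈ C ↔
        (M : Matrix (Fin 2) (Fin 2) F) 0 1 = 0 ∧ (M : Matrix (Fin 2) (Fin 2) F) 1 0 = 0 := by
      intro M
      rw [hmem]
      constructor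
      · intro h
        obtain ⟨-, e01, e10⟩ := comm_eq h
        rw [h01] at e01
        rw [h10] at e10
        constructor
        · exact (mul_eq_zero.1 (show (M : Matrix (Fin 2) (Fin 2) F) 0 1 *
            ((g : Matrix (Fin 2) (Fin 2) F) 0 0 - (g : Matrix (Fin 2) (Fin 2) F) 1 1) = 0 by
              linear_combination e01)).resolve_right (sub_ne_zero.2 hne)
        · exact (mul_eq_zero.1 (show (M : Matrix (Fin 2) (Fin 2) F) 1 0 *
            ((g : Matrix (Fin 2) (Fin 2) F) 1 1 - (g : Matrix (Fin 2) (Fin 2) F) 0 0) = 0 by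
              linear_combination e10)).resolve_right (sub_ne_zero.2 hne.symm)
      · rintro ⟨a, b⟩
        ext i j
        fin_cases i <;> fin_cases j <;> simp [mul_apply, h01, h10, a, b, mul_comm]
    have hdiag : ∀ M : C, (M.1 : Matrix (Fin 2) (Fin 2) F) 0 0 * (M.1 : Matrix (Fin 2) (Fin 2) F) 1 1 ≠ 0 := by
      intro M
      have h := Matrix.GeneralLinearGroup.det_ne_zero M.1
      rw [det_fin_two, ((hd M.1).1 M.2).1, zero_mul, sub_zero] at h
      exact h
    let e : Fˣ × Fˣ → C := fun p =>
      ⟨Matrix.GeneralLinearGroup.mkOfDetNeZero !![(p.1 : F), 0; 0, p.2] (by simp [det_fin_two_of]),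
        (hd _).2 ⟨by simp [Matrix.GeneralLinearGroup.mkOfDetNeZero],
          by simp [Matrix.GeneralLinearGroup.mkOfDetNeZero]⟩⟩
    have he : Function.Bijective e := by
      constructor
      · intro p p' h
        have h0 := congrArg (fun M : C => (M.1 : Matrix (Fin 2) (Fin 2) F) 0 0) h
        have h1 := congrArg (fun M : C => (M.1 : Matrix (Fin 2) (Fin 2) F) 1 1) h
        simp [e, Matrix.GeneralLinearGroup.mkOfDetNeZero] at h0 h1
        exact Prod.ext (Units.ext h0) (Units.ext h1)
      · intro M
        obtain ⟨ha, hb⟩ := mul_ne_zero_iff.1 (hdiag M)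
        refine ⟨(Units.mk0 _ ha, Units.mk0 _ hb), Subtype.ext (Units.ext ?_)⟩
        ext i j
        fin_cases i <;> fin_cases j <;>
          simp [e, Matrix.GeneralLinearGroup.mkOfDetNeZero, ((hd M.1).1 M.2).1, ((hd M.1).1 M.2).2]
    rw [← Nat.card_congr (Equiv.ofBijective e he), Nat.card_prod, Nat.card_units, hq, sq]
  · set G := (g : Matrix (Fin 2) (Fin 2) F) with hG
    have g10 : G 1 0 ≠ 0 := by
      intro h
      refine hno (G 0 0) ![1, 0] (fun e => one_ne_zero (congrFun e 0)) ?_
      ext i
      fin_cases i <;> simp [mulVec, dotProduct, h]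
    have hdet : ∀ x y : F, x ≠ 0 ∨ y ≠ 0 → (x • 1 + y • G).det ≠ 0 := by
      intro x y hxy h
      obtain ⟨v, hv, hv0⟩ := exists_mulVec_eq_zero_iff.2 h
      rw [add_mulVec, smul_mulVec, smul_mulVec, one_mulVec] at hv0
      rcases eq_or_ne y 0 with hy | hy
      · rw [hy, zero_smul, add_zero] at hv0
        exact (hxy.resolve_right (not_not.2 hy)) ((smul_eq_zero.1 hv0).resolve_right hv)
      · refine hno (-x / y) v hv ?_
        rw [neg_div, neg_smul, eq_neg_iff_add_eq_zero, div_eq_inv_mul, mul_smul, add_comm]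
        have h3 := congrArg (y⁻¹ • ·) hv0
        simp only [smul_add, smul_zero, inv_smul_smul₀ hy] at h3
        exact h3
    let e : C → {v : Fin 2 → F // v ≠ 0} := fun M =>
      ⟨fun i => (M.1 : Matrix (Fin 2) (Fin 2) F) i 0, fun h => by
        have hd := Matrix.GeneralLinearGroup.det_ne_zero M.1
        have h0 := congrFun h 0
        have h1 := congrFun h 1
        simp only [Pi.zero_apply] at h0 h1
        rw [det_fin_two, h0, h1] at hd
        simp at hd⟩
    have he : Function.Bijective e := by
      constructor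
      · intro M N h
        have h0 := congrFun (congrArg Subtype.val h) 0
        have h1 := congrFun (congrArg Subtype.val h) 1
        simp only [e] at h0 h1
        obtain ⟨a0, -, a2⟩ := comm_eq ((hmem M.1).1 M.2)
        obtain ⟨b0, -, b2⟩ := comm_eq ((hmem N.1).1 N.2)
        refine Subtype.ext (Units.ext ?_)
        ext i j
        fin_cases i <;> fin_cases j
        · exact h0
        · refine mul_right_cancel₀ g10 ?_
          simp only [Fin.isValue, Fin.zero_eta, Fin.mk_one]
          linear_combination b0 - a0 + G 0 1 * h1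
        · exact h1
        · refine mul_right_cancel₀ g10 ?_
          simp only [Fin.isValue, Fin.zero_eta, Fin.mk_one]
          linear_combination b2 - a2 + G 1 0 * h0 + (G 1 1 - G 0 0) * h1
      · intro v
        set y := v.1 1 / G 1 0 with hy
        set x := v.1 0 - y * G 0 0 with hx
        have hy1 : y * G 1 0 = v.1 1 := div_mul_cancel₀ _ g10
        have hxy : x ≠ 0 ∨ y ≠ 0 := by
          by_contra! h
          refine v.2 ?_
          ext i
          fin_cases i
          · show v.1 0 = 0
            have := h.1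
            rw [hx, h.2, zero_mul, sub_zero] at this
            exact this
          · show v.1 1 = 0
            rw [← hy1, h.2, zero_mul]
        refine ⟨⟨Matrix.GeneralLinearGroup.mkOfDetNeZero (x • 1 + y • G) (hdet x y hxy),
          (hmem _).2 ?_⟩, Subtype.ext ?_⟩
        · simp [Matrix.GeneralLinearGroup.mkOfDetNeZero, mul_add, add_mul, hG]
        · funext i
          fin_cases i <;> simp [e, Matrix.GeneralLinearGroup.mkOfDetNeZero, hx, hy1]
    rw [Nat.card_congr (Equiv.ofBijective e he), Nat.card_eq_fintype_card,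
      Fintype.card_subtype_compl, Fintype.card_subtype_eq, Fintype.card_fun, Fintype.card_fin]

end Cfsg.Agent.S2303
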