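import Cfsg.Statements.S2307
import Cfsg.Agent.SL2CharTable.DiagAut

set_option autoImplicit false
open Cfsg

namespace Cfsg.Agent.S2307

open CfsgLib.SL2CharTable

/-- Over a finite field F with q elements, q odd, let α be the multiplicative character of F of order 2. The character of SL₂ induced from the linear character b ↦ α(b₁₁) of the upper triangular subgroup is the sum of two distinct irreducible characters, each of degree (q + 1)/2, which are conjugate under GL₂: some fixed element of GL₂ conjugates the one into the other. -/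
theorem result {F : Type*} [Field F] [Fintype F] [DecidableEq F] (hodd : Odd (Fintype.card F)) (α : MulChar F ℂ)
    (hα : α ^ 2 = 1) (hα1 : α ≠ 1) :
    ∃ χ₁ χ₂ : Matrix.SpecialLinearGroup (Fin 2) F → ℂ, Cfsg.IsIrrCharacter (Matrix.SpecialLinearGroup (Fin 2) F) χ₁ ∧ Cfsg.IsIrrCharacter (Matrix.SpecialLinearGroup (Fin 2) F) χ₂ ∧ χ₁ ≠ χ₂ ∧
      Cfsg.indFun ((Cfsg.upperTriangularGL 2 F).comap Matrix.SpecialLinearGroup.toGL) (fun b => α (((b : Matrix.SpecialLinearGroup (Fin 2) F) : Matrix (Fin 2) (Fin 2) F) 0 0)) = χ₁ + χ₂ ∧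
      χ₁ 1 = (((Fintype.card F + 1) / 2 : ℕ) : ℂ) ∧ χ₂ 1 = (((Fintype.card F + 1) / 2 : ℕ) : ℂ) ∧
      ∃ x : Matrix.GeneralLinearGroup (Fin 2) F, ∀ g h : Matrix.SpecialLinearGroup (Fin 2) F,
        Matrix.SpecialLinearGroup.toGL h = x * Matrix.SpecialLinearGroup.toGL g * x⁻¹ → χ₂ h = χ₁ g := by
  obtain ⟨Tr, h2, ⟨H⟩⟩ := exists_table hodd
  have hchar : ringChar F ≠ 2 := fun e => h2 (by
    have := ringChar.Nat.cast_ringChar (R := F)
    rw [e] at this; exact_mod_cast this)
  obtain ⟨ε, hε⟩ := FiniteField.exists_nonsquare hchar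
  have hε0 : ε ≠ 0 := fun h => hε (h ▸ IsSquare.zero)
  refine ⟨H.χ₁, H.χ₂, H.χ₁_irr, H.χ₂_irr, H.χ_ne, ?_, H.χ₁_one, H.χ₂_one, diagGL (Units.mk0 ε hε0), ?_⟩
  · rw [upperTriangular_comap, indFun_mulChar, ← H.R_eq]
    rcases H.α_unique _ ((toUnitHom_sq_eq_one_iff α).2 hα) with e | e
    · exfalso
      apply hα1
      refine MulChar.ext fun a => ?_
      have := congrArg Units.val (DFunLike.congr_fun e a)
      simpa [MulChar.one_apply_coe, MulChar.coe_toUnitHom] using this
    · rw [e]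
  · intro g h hh
    rw [← toGL_diagAut] at hh
    obtain rfl := Matrix.SpecialLinearGroup.toGL_injective hh
    rw [← H.diagAut_swap (u := (Units.mk0 ε hε0)⁻¹) ?_]
    · show H.χ₁ (diagAut (Units.mk0 ε hε0)⁻¹ (diagAut (Units.mk0 ε hε0) g)) = H.χ₁ g
      congr 1
      apply Subtype.ext
      rw [diagAut_apply, diagAut_apply]
      ext i j
      fin_cases i <;> fin_cases j <;> simp [hε0]
    · intro hs
      apply hε
      obtain ⟨r, hr⟩ := hs
      refine ⟨r⁻¹, ?_⟩
      rw [← mul_inv, ← hr, Units.val_inv_eq_inv_val, inv_inv, Units.val_mk0]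

end Cfsg.Agent.S2307
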