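import Cfsg.Statements.S2308
import Mathlib

set_option autoImplicit false
open Cfsg

namespace Cfsg.Agent.S2308

open Matrix

/-- Coset representatives of the upper triangular group. -/
noncomputable def rep {F : Type*} [Field F] : Option F → GL (Fin 2) F
  | none => 1
  | some c => Matrix.GeneralLinearGroup.mkOfDetNeZero !![c, 1; 1, 0] (by simp [det_fin_two_of])

theorem mem_borel {F : Type*} [Field F] (g : GL (Fin 2) F) :
    g ∈ Cfsg.upperTriangularGL 2 F ↔ (g : Matrix (Fin 2) (Fin 2) F) 1 0 = 0 := by
  constructor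
  · intro h
    exact h (i := 1) (j := 0) (by decide)
  · intro h i j hij
    fin_cases i <;> fin_cases j <;> first | exact h | simp_all

theorem inv_rep {F : Type*} [Field F] (c : F) :
    (((rep (some c))⁻¹ : GL (Fin 2) F) : Matrix (Fin 2) (Fin 2) F) = !![0, 1; 1, -c] := by
  rw [Matrix.coe_units_inv]
  refine Matrix.inv_eq_right_inv ?_
  simp [rep, Matrix.GeneralLinearGroup.mkOfDetNeZero]
  ext i j
  fin_cases i <;> fin_cases j <;> simp

theorem rep_bijective {F : Type*} [Field F] :
    Function.Bijective (fun o : Option F =>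
      (QuotientGroup.mk (rep o) : GL (Fin 2) F ⧸ Cfsg.upperTriangularGL 2 F)) := by
  constructor
  · intro a b h
    rw [QuotientGroup.eq, mem_borel] at h
    rcases a with _ | c <;> rcases b with _ | d
    · rfl
    · simp [rep, Matrix.GeneralLinearGroup.mkOfDetNeZero] at h
    · rw [Units.val_mul, inv_rep] at h
      simp [rep] at h
    · rw [Units.val_mul, inv_rep] at h
      simp [rep, Matrix.GeneralLinearGroup.mkOfDetNeZero] at h
      rw [show c = d by linear_combination -h]
  · intro x
    induction x using QuotientGroup.induction_on with | H g => ?_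
    by_cases h : (g : Matrix (Fin 2) (Fin 2) F) 1 0 = 0
    · refine ⟨none, (QuotientGroup.eq).2 ?_⟩
      rw [mem_borel]
      simpa [rep] using h
    · refine ⟨some ((g : Matrix (Fin 2) (Fin 2) F) 0 0 / (g : Matrix (Fin 2) (Fin 2) F) 1 0),
        (QuotientGroup.eq).2 ?_⟩
      rw [mem_borel, Units.val_mul, inv_rep]
      simp [mul_apply]
      field_simp
      ring

theorem character_eq {F : Type*} [Field F] [Fintype F] (g : GL (Fin 2) F) :
    Cfsg.fixedPointCharacter (Cfsg.upperTriangularGL 2 F) g =
      (({o : Option F | g * rep o ∈ (fun y => rep o * y) '' (Cfsg.upperTriangularGL 2 F : Set (GL (Fin 2) F))}).ncard : ℂ) := by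
  unfold Cfsg.fixedPointCharacter
  congr 1
  rw [← Nat.card_coe_set_eq]
  refine (Nat.card_congr ((Equiv.ofBijective _ rep_bijective).subtypeEquiv fun o => ?_)).symm
  show _ ↔ g • (QuotientGroup.mk (rep o) : GL (Fin 2) F ⧸ Cfsg.upperTriangularGL 2 F) = _
  rw [MulAction.Quotient.smul_mk, Equiv.ofBijective_apply, eq_comm, QuotientGroup.eq]
  constructor
  · rintro ⟨y, hy, hgy⟩
    rw [smul_eq_mul, ← hgy, inv_mul_cancel_left]
    exact hy
  · intro h
    exact ⟨_, h, by simp [smul_eq_mul]⟩

theorem none_fixed {F : Type*} [Field F] (g : GL (Fin 2) F) :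
    g * rep none ∈ (fun y => rep none * y) '' (Cfsg.upperTriangularGL 2 F : Set (GL (Fin 2) F)) ↔
      (g : Matrix (Fin 2) (Fin 2) F) 1 0 = 0 := by
  simp [rep, mem_borel]

theorem some_fixed {F : Type*} [Field F] (g : GL (Fin 2) F) (c : F) :
    g * rep (some c) ∈ (fun y => rep (some c) * y) '' (Cfsg.upperTriangularGL 2 F : Set (GL (Fin 2) F)) ↔
      (g : Matrix (Fin 2) (Fin 2) F) 0 0 * c + (g : Matrix (Fin 2) (Fin 2) F) 0 1 =
        c * ((g : Matrix (Fin 2) (Fin 2) F) 1 0 * c + (g : Matrix (Fin 2) (Fin 2) F) 1 1) := by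
  rw [Set.image_mul_left, Set.mem_preimage, SetLike.mem_coe, mem_borel, Units.val_mul, Units.val_mul,
    inv_rep]
  simp [rep, Matrix.GeneralLinearGroup.mkOfDetNeZero, mul_apply]
  constructor <;> intro h <;> linear_combination h

/-- Values of the permutation character of GL₂ over a finite field F with q elements on the cosets of its upper triangular subgroup (equivalently, the number of lines of F² that an element maps to themselves): q + 1 at a scalar matrix, 2 at a diagonal matrix with two different diagonal entries, 0 at an element with no eigenvector in F², and 1 at an upper triangular matrix with equal diagonal entries and non-zero upper right entry. -/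
theorem result {F : Type*} [Field F] [Fintype F] (g : Matrix.GeneralLinearGroup (Fin 2) F) :
    ((∃ a : F, (g : Matrix (Fin 2) (Fin 2) F) = a • (1 : Matrix (Fin 2) (Fin 2) F)) → Cfsg.fixedPointCharacter (Cfsg.upperTriangularGL 2 F) g = Fintype.card F + 1) ∧
    ((g : Matrix (Fin 2) (Fin 2) F) 0 1 = 0 → (g : Matrix (Fin 2) (Fin 2) F) 1 0 = 0 → (g : Matrix (Fin 2) (Fin 2) F) 0 0 ≠ (g : Matrix (Fin 2) (Fin 2) F) 1 1 →
      Cfsg.fixedPointCharacter (Cfsg.upperTriangularGL 2 F) g = 2) ∧
    ((∀ (c : F) (v : Fin 2 → F), v ≠ 0 → (g : Matrix (Fin 2) (Fin 2) F).mulVec v ≠ c • v) → Cfsg.fixedPointCharacter (Cfsg.upperTriangularGL 2 F) g = 0) ∧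
    ((g : Matrix (Fin 2) (Fin 2) F) 1 0 = 0 → (g : Matrix (Fin 2) (Fin 2) F) 0 0 = (g : Matrix (Fin 2) (Fin 2) F) 1 1 → (g : Matrix (Fin 2) (Fin 2) F) 0 1 ≠ 0 →
      Cfsg.fixedPointCharacter (Cfsg.upperTriangularGL 2 F) g = 1) := by
  classical
  rw [character_eq]
  set G := (g : Matrix (Fin 2) (Fin 2) F) with hG
  refine ⟨?_, ?_, ?_, ?_⟩
  · rintro ⟨a, ha⟩
    rw [Set.eq_univ_of_forall (s := {o | _}) (fun o => ?_), Set.ncard_univ, Nat.card_eq_fintype_card,
      Fintype.card_option]
    · push_cast; rfl
    · cases o with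
      | none => exact (none_fixed g).2 (show G 1 0 = 0 by simp [ha])
      | some c => exact (some_fixed g c).2 (show G 0 0 * c + G 0 1 = c * (G 1 0 * c + G 1 1) by simp [ha, mul_comm])
  · intro h01 h10 hne
    rw [show {o : Option F | _} = {none, some 0} from ?_, Set.ncard_pair (by simp)]
    · norm_num
    ext o
    cases o with
    | none => simpa using (none_fixed g).2 h10
    | some c =>
      rw [Set.mem_ofPred_eq, some_fixed]
      simp only [← hG, h01, h10, Set.mem_insert_iff, Set.mem_singleton_iff, reduceCtorEq,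
        Option.some.injEq, false_or]
      constructor
      · intro h
        exact (mul_eq_zero.1 (show c * (G 0 0 - G 1 1) = 0 by linear_combination h)).resolve_right
          (sub_ne_zero.2 hne)
      · rintro rfl; ring
  · intro hno
    rw [show {o : Option F | _} = (∅ : Set (Option F)) from ?_, Set.ncard_empty, Nat.cast_zero]
    refine Set.eq_empty_of_forall_notMem fun o ho => ?_
    cases o with
    | none =>
      have h : G 1 0 = 0 := (none_fixed g).1 ho
      refine hno (G 0 0) ![1, 0] (fun e => one_ne_zero (congrFun e 0)) ?_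
      ext i
      fin_cases i <;> simp [mulVec, dotProduct, h]
    | some c =>
      have h : G 0 0 * c + G 0 1 = c * (G 1 0 * c + G 1 1) := (some_fixed g c).1 ho
      refine hno (G 1 0 * c + G 1 1) ![c, 1] (fun e => one_ne_zero (congrFun e 1)) ?_
      ext i
      fin_cases i <;> simp [mulVec, dotProduct]
      linear_combination h
  · intro h10 heq h01
    rw [show {o : Option F | _} = {none} from ?_, Set.ncard_singleton, Nat.cast_one]
    ext o
    cases o with
    | none => simpa using (none_fixed g).2 h10
    | some c =>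
      rw [Set.mem_ofPred_eq, some_fixed]
      simp only [← hG, h10, heq, Set.mem_singleton_iff, reduceCtorEq, iff_false]
      intro h
      exact h01 (by linear_combination h)

end Cfsg.Agent.S2308
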