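import Cfsg.Statements.S2310
import Cfsg.Agent.GL2CharTable.Values

set_option autoImplicit false
open Cfsg

namespace Cfsg.Agent.S2310

open CfsgLib.GL2CharTable

/-- Over a finite field F with q ≥ 3 elements, let u be the upper unitriangular matrix of GL₂ with off-diagonal entry 1. An irreducible complex character χ of GL₂ takes at u the value 1 if χ has degree 1 or q + 1, the value −1 if χ has degree q − 1, and the value 0 if χ has degree q. -/
theorem result {F : Type*} [Field F] [Fintype F] (hq : 3 ≤ Fintype.card F) (χ : Matrix.GeneralLinearGroup (Fin 2) F → ℂ) (hχ : Cfsg.IsIrrCharacter (Matrix.GeneralLinearGroup (Fin 2) F) χ)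
    (u : Matrix.GeneralLinearGroup (Fin 2) F) (hu : (u : Matrix (Fin 2) (Fin 2) F) = !![1, 1; 0, 1]) :
    (χ 1 = 1 → χ u = 1) ∧ (χ 1 = (Fintype.card F : ℂ) + 1 → χ u = 1) ∧
    (χ 1 = (Fintype.card F : ℂ) - 1 → χ u = -1) ∧ (χ 1 = (Fintype.card F : ℂ) → χ u = 0) := by
  classical
  obtain rfl : u = up (1 : Fˣ) 1 (1 : F) := Units.ext (by rw [hu, coe_up]; simp)
  refine ⟨fun h => ?_, fun h => ?_, fun h => ?_, fun h => ?_⟩
  · obtain ⟨α, rfl⟩ := (kind hχ).2.2.1 hq h
    simp [LL_up]
  · obtain ⟨α, β, -, rfl⟩ := (kind hχ).2.1 h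
    rw [PS_jordan α β 1 one_ne_zero]
    simp
  · rcases (kind hχ).2.2.2 h with hc | h2
    · have := cusp_jordan hc
      rw [h] at this
      exact mul_left_cancel₀ q_ne.2 (by linear_combination this)
    · omega
  · obtain ⟨α, rfl⟩ := (kind hχ).1 h
    exact SS_jordan α

end Cfsg.Agent.S2310
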