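import Cfsg.Statements.S2315
import Cfsg.Agent.NilCount.Basic
-- import your own Cfsg.Agent.* helpers here

set_option autoImplicit false
open Cfsg

namespace Cfsg.Agent.S2315

/-- Steinberg's count of unipotent elements for the general linear group: over a finite field with q elements of characteristic p, the number of elements of GL_n of p-power order (the unipotent matrices) is q^(n(n−1)). -/
theorem result {F : Type*} [Field F] [Fintype F] (p : ℕ) [Fact p.Prime] [CharP F p] (n : ℕ) :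
    Nat.card {g : Matrix.GeneralLinearGroup (Fin n) F // ∃ k : ℕ, orderOf g = p ^ k} = Fintype.card F ^ (n * (n - 1)) := by
  have hsub : ∀ (k : ℕ) (M : Matrix (Fin n) (Fin n) F),
      (M - 1) ^ p ^ k = M ^ p ^ k - 1 := by
    intro k M
    rcases Nat.eq_zero_or_pos n with rfl | hn
    · exact Subsingleton.elim _ _
    haveI : Nonempty (Fin n) := ⟨⟨0, hn⟩⟩
    rw [sub_pow_char_pow_of_commute (p := p) (Commute.one_right M) (n := k), one_pow]
  rw [← CfsgLib.NilCount.card_nilpotent (F := F) n]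
  refine Nat.card_congr (Equiv.ofBijective (fun g =>
    ⟨(g.1 : Matrix (Fin n) (Fin n) F) - 1, ?_⟩) ⟨?_, ?_⟩)
  · obtain ⟨k, hk⟩ := g.2
    refine ⟨p ^ k, ?_⟩
    rw [hsub, ← Units.val_pow_eq_pow_val, ← hk, pow_orderOf_eq_one, Units.val_one, sub_self]
  · rintro ⟨g, hg⟩ ⟨g', hg'⟩ h
    have h' : (g : Matrix (Fin n) (Fin n) F) - 1 = g' - 1 := congrArg Subtype.val h
    exact Subtype.ext (Units.ext (sub_left_inj.1 h'))
  · rintro ⟨N, hN⟩
    obtain ⟨g, hg⟩ := hN.isUnit_add_one
    obtain ⟨e, he⟩ := id hN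
    have hgN : (g : Matrix (Fin n) (Fin n) F) - 1 = N := by rw [hg, add_sub_cancel_right]
    have hp : p ^ e ≠ 0 := pow_ne_zero _ (Fact.out : p.Prime).ne_zero
    have hle : e ≤ p ^ e := (Nat.lt_pow_self (Fact.out : p.Prime).one_lt).le
    have h1 : g ^ p ^ e = 1 := by
      refine Units.ext ?_
      rw [Units.val_pow_eq_pow_val, Units.val_one, ← sub_eq_zero, ← hsub, hgN,
        pow_eq_zero_of_le hle he]
    obtain ⟨j, -, hj⟩ := (Nat.dvd_prime_pow (Fact.out : p.Prime)).1 (orderOf_dvd_of_pow_eq_one h1)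
    exact ⟨⟨g, j, hj⟩, Subtype.ext hgN⟩

end Cfsg.Agent.S2315
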