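import Cfsg.Statements.S2316
import Cfsg.Agent.SpUnipotentCount.Main

set_option autoImplicit false
open Cfsg

namespace Cfsg.Agent.S2316

/-- Steinberg's count of unipotent elements for the symplectic group: over a finite field with q elements of characteristic p, the number of elements of Sp_{2m} of p-power order is q^(2m²). -/
theorem result {F : Type*} [Field F] [Fintype F] (p : ℕ) [Fact p.Prime] [CharP F p] (m : ℕ) :
    Nat.card {g : ↥(Matrix.symplecticGroup (Fin m) F) // ∃ k : ℕ, orderOf g = p ^ k} = Fintype.card F ^ (2 * m ^ 2) := by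
  classical
  have hsub : ∀ (k : ℕ) (M : Matrix (Fin m ⊕ Fin m) (Fin m ⊕ Fin m) F),
      (M - 1) ^ p ^ k = M ^ p ^ k - 1 := by
    intro k M
    rcases isEmpty_or_nonempty (Fin m ⊕ Fin m) with h | h
    · exact Subsingleton.elim _ _
    rw [sub_pow_char_pow_of_commute (p := p) (Commute.one_right M) (n := k), one_pow]
  have hiff : ∀ g : Matrix.symplecticGroup (Fin m) F,
      (∃ k : ℕ, orderOf g = p ^ k) ↔
        IsNilpotent ((g : Matrix (Fin m ⊕ Fin m) (Fin m ⊕ Fin m) F) - 1) := by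
    intro g
    constructor
    · rintro ⟨k, hk⟩
      refine ⟨p ^ k, ?_⟩
      rw [hsub, ← SubmonoidClass.coe_pow, ← hk, pow_orderOf_eq_one, OneMemClass.coe_one, sub_self]
    · rintro ⟨e, he⟩
      have h1 : g ^ p ^ e = 1 := by
        refine Subtype.ext ?_
        rw [SubmonoidClass.coe_pow, OneMemClass.coe_one, ← sub_eq_zero, ← hsub,
          pow_eq_zero_of_le (Nat.lt_pow_self (Fact.out : p.Prime).one_lt).le he]
      obtain ⟨j, -, hj⟩ :=
        (Nat.dvd_prime_pow (Fact.out : p.Prime)).1 (orderOf_dvd_of_pow_eq_one h1)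
      exact ⟨j, hj⟩
  let B := CfsgLib.Forms.sympBilin m F
  have hcount := CfsgLib.SpUni.card_unipotent_isometries B CfsgLib.Forms.sympBilin_isAlt
    CfsgLib.Forms.sympBilin_nondegenerate (CfsgLib.Forms.finrank_sympSpace m)
  rw [← hcount]
  let L := Matrix.toLinAlgEquiv' (R := F) (n := Fin m ⊕ Fin m)
  have hL : ∀ A : Matrix (Fin m ⊕ Fin m) (Fin m ⊕ Fin m) F,
      IsNilpotent (A - 1) ↔ IsNilpotent (L A - 1) := fun A => by
    rw [← map_one L, ← map_sub]
    exact (IsNilpotent.map_iff L.injective).symm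
  refine Nat.card_congr (Equiv.ofBijective (fun g => ⟨L g.1.1, ⟨fun u v => ?_,
    (hL _).1 ((hiff _).1 g.2)⟩, fun i => i.elim0⟩) ⟨?_, ?_⟩)
  · simpa only [B, L, CfsgLib.Forms.sympBilin_apply, Matrix.toLinAlgEquiv'_apply] using
      CfsgLib.Forms.sympForm_map g.1 u v
  · rintro ⟨g, hg⟩ ⟨g', hg'⟩ h
    exact Subtype.ext (Subtype.ext (L.injective (congrArg Subtype.val h)))
  · rintro ⟨f, ⟨hf, hn⟩, hfix⟩
    obtain ⟨A, rfl⟩ := L.surjective f
    have hA : A ∈ Matrix.symplecticGroup (Fin m) F :=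
      CfsgLib.Forms.mem_symplecticGroup_iff_form.2 fun u v => by
        simpa only [B, L, CfsgLib.Forms.sympBilin_apply, Matrix.toLinAlgEquiv'_apply] using hf u v
    exact ⟨⟨⟨A, hA⟩, (hiff _).2 ((hL _).2 hn)⟩, rfl⟩

end Cfsg.Agent.S2316
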