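import Cfsg.Statements.S2317
import Cfsg.Agent.UnipotentJordan.Classify

set_option autoImplicit false
open Cfsg

namespace Cfsg.Agent.S2317

/-- Over a finite field of characteristic p, the conjugacy classes of GL_n consisting of elements of p-power order (the unipotent classes) are as many as the partitions of n. -/
theorem result {F : Type*} [Field F] [Fintype F] (p : ℕ) [Fact p.Prime] [CharP F p] (n : ℕ) :
    Nat.card {C : ConjClasses (Matrix.GeneralLinearGroup (Fin n) F) //
      ∃ g : Matrix.GeneralLinearGroup (Fin n) F, (∃ k : ℕ, orderOf g = p ^ k) ∧ ConjClasses.mk g = C} =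
      Fintype.card (Nat.Partition n) := by
  classical
  have hp : p.Prime := Fact.out
  rcases Nat.eq_zero_or_pos n with rfl | hn
  · have : Subsingleton (Matrix.GeneralLinearGroup (Fin 0) F) := inferInstance
    have hu : Fintype.card (Nat.Partition 0) = 1 := Fintype.card_unique
    rw [hu, Nat.card_eq_one_iff_exists]
    refine ⟨⟨ConjClasses.mk 1, 1, ⟨0, by rw [orderOf_one, pow_zero]⟩, rfl⟩, ?_⟩
    rintro ⟨C, g, -, rfl⟩
    exact Subtype.ext (congrArg ConjClasses.mk (Subsingleton.elim g 1))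
  have : Nonempty (Fin n) := ⟨⟨0, hn⟩⟩
  have : CharP (Matrix (Fin n) (Fin n) F) p := inferInstance
  have hord : ∀ x : Matrix.GeneralLinearGroup (Fin n) F, (∃ k : ℕ, orderOf x = p ^ k) ↔
      IsNilpotent ((x : Matrix (Fin n) (Fin n) F) - 1) := by
    intro x
    constructor
    · rintro ⟨k, hk⟩
      refine ⟨p ^ k, ?_⟩
      rw [sub_pow_char_pow_of_commute p k (Commute.one_right _), one_pow, ← Units.val_pow_eq_pow_val,
        ← hk, pow_orderOf_eq_one, Units.val_one, sub_self]
    · rintro ⟨a, ha⟩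
      have h1 : x ^ (p ^ a) = 1 := by
        refine Units.ext ?_
        have h2 : ((x : Matrix (Fin n) (Fin n) F) - 1) ^ (p ^ a) = 0 :=
          pow_eq_zero_of_le (Nat.lt_pow_self hp.one_lt).le ha
        rwa [sub_pow_char_pow_of_commute p a (Commute.one_right _), one_pow, sub_eq_zero,
          ← Units.val_pow_eq_pow_val] at h2
      obtain ⟨k, -, hk⟩ := (Nat.dvd_prime_pow hp).1 (orderOf_dvd_of_pow_eq_one h1)
      exact ⟨k, hk⟩
  have hrep : ∀ μ : Nat.Partition n, ∃ (g : Matrix.GeneralLinearGroup (Fin n) F) (L : ℕ)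
      (d : Fin L → ℕ), (∀ k, 1 ≤ d k) ∧ (Finset.univ : Finset (Fin L)).val.map d = μ.parts ∧
        IsNilpotent ((g : Matrix (Fin n) (Fin n) F) - 1) ∧
        ∀ k, (((g : Matrix (Fin n) (Fin n) F) - 1) ^ k).rank = ∑ i, (d i - k) := by
    intro μ
    obtain ⟨L, d, hd⟩ := CfsgLib.LinearElements.exists_list_family μ.parts
    have hd1 : ∀ k, 1 ≤ d k := fun k =>
      μ.parts_pos (hd ▸ Multiset.mem_map.2 ⟨k, Finset.mem_univ k, rfl⟩)
    have hcard : Fintype.card ((i : Fin L) × Fin (d i)) = n := by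
      rw [Fintype.card_sigma]
      simp only [Fintype.card_fin]
      rw [Finset.sum, hd, μ.parts_sum]
    let e := Fintype.equivFinOfCardEq hcard
    have hnil : IsNilpotent (Matrix.reindex e e (CfsgLib.UnipotentJordan.shiftMat d F)) :=
      (CfsgLib.UnipotentJordan.isNilpotent_shiftMat hd1).map (Matrix.reindexAlgEquiv F F e)
    refine ⟨hnil.isUnit_one_add.unit, L, d, hd1, hd, ?_, fun k => ?_⟩
    · rwa [IsUnit.unit_spec, add_sub_cancel_left]
    · rw [IsUnit.unit_spec, add_sub_cancel_left, CfsgLib.UnipotentJordan.rank_reindex_pow,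
        CfsgLib.UnipotentJordan.rank_shiftMat_pow hd1]
  choose g L d hd hparts hnil hrk using hrep
  refine (Nat.card_eq_of_bijective (fun μ : Nat.Partition n =>
    (⟨ConjClasses.mk (g μ), g μ, (hord _).2 (hnil μ), rfl⟩ :
      {C : ConjClasses (Matrix.GeneralLinearGroup (Fin n) F) //
        ∃ g : Matrix.GeneralLinearGroup (Fin n) F, (∃ k : ℕ, orderOf g = p ^ k) ∧ ConjClasses.mk g = C}))
    ⟨?_, ?_⟩).symm.trans Nat.card_eq_fintype_card
  · intro μ ν h
    obtain ⟨c, hc⟩ := isConj_iff.1
      (ConjClasses.mk_eq_mk_iff_isConj.1 (congrArg Subtype.val h) : IsConj (g μ) (g ν))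
    refine Nat.Partition.ext ?_
    rw [← hparts, ← hparts]
    refine CfsgLib.UnipotentJordan.multiset_eq_of_rank (hd _) (hd _) fun k => ?_
    rw [← hrk, ← hrk]
    refine CfsgLib.UnipotentJordan.rank_pow_eq_of_isConj ⟨c, ?_⟩ k
    show _ * (_ - 1) = (_ - 1) * _
    rw [← hc]
    simp [mul_sub, sub_mul]
  · rintro ⟨C, x, hx, rfl⟩
    have hxn := (hord x).1 hx
    obtain ⟨L', d', e', hd', he'⟩ := CfsgLib.UnipotentJordan.exists_type hxn
    have hr : ∀ k, (((x : Matrix (Fin n) (Fin n) F) - 1) ^ k).rank = ∑ i, (d' i - k) := fun k => by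
      rw [← CfsgLib.UnipotentJordan.rank_pow_eq_of_isConj he' k,
        CfsgLib.UnipotentJordan.rank_reindex_pow, CfsgLib.UnipotentJordan.rank_shiftMat_pow hd']
    have hsum : ((Finset.univ : Finset (Fin L')).val.map d').sum = n := by
      have h := Fintype.card_congr e'
      rwa [Fintype.card_sigma, Fintype.card_fin,
        Finset.sum_congr rfl fun i _ => Fintype.card_fin (d' i)] at h
    let μ : Nat.Partition n := ⟨(Finset.univ : Finset (Fin L')).val.map d', fun h => by
      obtain ⟨i, -, rfl⟩ := Multiset.mem_map.1 h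
      exact hd' i, hsum⟩
    refine ⟨μ, Subtype.ext (ConjClasses.mk_eq_mk_iff_isConj.2 ?_)⟩
    have hμ : ∀ k, ∑ i, (d μ i - k) = ∑ i, (d' i - k) := fun k => by
      have h : ((Finset.univ : Finset (Fin (L μ))).val.map (d μ)).map (fun a => a - k) =
          ((Finset.univ : Finset (Fin L')).val.map d').map (fun a => a - k) :=
        congrArg _ (hparts μ)
      rw [Multiset.map_map, Multiset.map_map] at h
      exact congrArg Multiset.sum h
    obtain ⟨c, hc⟩ := CfsgLib.UnipotentJordan.isConj_of_rank (hnil μ) hxn fun k => by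
      rw [hrk, hr, hμ]
    refine ⟨toUnits c, Units.ext ?_⟩
    have hc' : (c : Matrix (Fin n) (Fin n) F) * ((g μ : Matrix (Fin n) (Fin n) F) - 1) =
        ((x : Matrix (Fin n) (Fin n) F) - 1) * (c : Matrix (Fin n) (Fin n) F) := hc
    rw [mul_sub, sub_mul, mul_one, one_mul, sub_left_inj] at hc'
    simpa using hc'

end Cfsg.Agent.S2317
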