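import Mathlib
import Cfsg.Statements.S2318
import Cfsg.Agent.ChevDefect.Pair
import Cfsg.Agent.ChevSteinberg.Character
import Cfsg.Agent.ChevSteinberg.Data

set_option autoImplicit false
open Cfsg

namespace Cfsg.Agent.S2318

/-- In a Chevalley group of type G₂, B₂, D₄, F₄, E₆, E₇ or E₈ over a finite field of characteristic p (for types G₂ and B₂ the field is assumed to have at least 3 elements, so that the group is perfect), the Steinberg character is the only irreducible complex character whose degree is divisible by the full power of p dividing the group order (the only irreducible character of p-defect zero). -/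
theorem result {F : Type*} [Field F] [Fintype F] (p : ℕ) [Fact p.Prime] [CharP F p] (D : Cfsg.Lie.ChevalleyDatum) (hD : D ∈ [Cfsg.Lie.chevG2, Cfsg.Lie.chevB2, Cfsg.Lie.chevD4, Cfsg.Lie.chevF4, Cfsg.Lie.chevE6, Cfsg.Lie.chevE7, Cfsg.Lie.chevE8]) (hq : (D = Cfsg.Lie.chevG2 ∨ D = Cfsg.Lie.chevB2) → 3 ≤ Fintype.card F)
    (χ : ↥(D.group F) → ℂ) (hχ : Cfsg.IsIrrCharacter ↥(D.group F) χ)
    (hdeg : ∃ d : ℕ, χ 1 = (d : ℂ) ∧ p ^ (Nat.card ↥(D.group F)).factorization p ∣ d) :
    χ = D.steinbergCharacter F := by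
  classical
  obtain ⟨C, M, R, h⟩ := CfsgLib.ChevSteinberg.exists_rootGood hD
  have hW := CfsgLib.Chevalley.goodWeyl_of_mem hD
  haveI : Fintype ↥(D.group F) := Fintype.ofFinite _
  set v := (Nat.card ↥(D.group F)).factorization p with hv
  have hnot : ∀ (θ : IrrCharacter ↥(D.group F)) (d : ℕ), (θ : ↥(D.group F) → ℂ) 1 = (d : ℂ) →
      p ^ v ∣ d → ¬ p ∣ Nat.card ↥(D.group F) / charDegree (θ : ↥(D.group F) → ℂ) := by
    intro θ d hd hdvd hp
    have hdeg : charDegree (θ : ↥(D.group F) → ℂ) = d := by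
      rw [charDegree, hd, Complex.natCast_re, Nat.floor_natCast]
    have hdN : d ∣ Nat.card ↥(D.group F) := hdeg ▸ CfsgLib.Blocks.charDegree_dvd_card θ
    rw [hdeg] at hp
    have h1 : p ^ (v + 1) ∣ Nat.card ↥(D.group F) := by
      rw [← Nat.mul_div_cancel' hdN, pow_succ]
      exact mul_dvd_mul hdvd hp
    exact Nat.pow_succ_factorization_not_dvd Nat.card_pos.ne' Fact.out h1
  obtain ⟨n, hn, hn1, hn2⟩ := CfsgLib.ChevSteinberg.pPart_group (F := F) hW h p
  have hvn : v = n := by
    have hN : Nat.card ↥(D.group F) ≠ 0 := Nat.card_pos.ne'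
    rcases lt_trichotomy v n with hlt | heq | hgt
    · exact absurd ((pow_dvd_pow p hlt).trans hn1)
        (Nat.pow_succ_factorization_not_dvd hN Fact.out)
    · exact heq
    · exact absurd ((pow_dvd_pow p hgt).trans (Nat.ordProj_dvd _ p)) hn2
  obtain ⟨d, hd, hdvd⟩ := hdeg
  have e := CfsgLib.ChevDefect.eq_of_pPart_dvd (p := p) hW h
    ⟨χ, hχ⟩ ⟨_, CfsgLib.ChevSteinberg.steinberg_irr hW h⟩ (hnot _ d hd hdvd)
    (hnot _ (Nat.card F ^ (D.nroots / 2))
      (by rw [Nat.cast_pow]; exact CfsgLib.ChevSteinberg.steinberg_one hW h)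
      (by rw [hn, hvn]))
  exact congrArg Subtype.val e

end Cfsg.Agent.S2318
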