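import Cfsg.Statements.S2321
import Cfsg.Agent.SL2CharTable.Even
import Cfsg.Agent.SL2CharTable.Final

set_option autoImplicit false
open Cfsg

namespace Cfsg.Agent.S2321

open CfsgLib.SL2CharTable

/-- Over a finite field F with q elements, an irreducible complex character of SL₂ of degree q (the Steinberg character) takes the value 1 at every diagonal matrix whose diagonal entry a has a² ≠ 1, the value −1 at every element with no eigenvector in F², and the value 0 at every upper triangular matrix with equal diagonal entries and non-zero upper right entry. -/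
theorem result {F : Type*} [Field F] [Fintype F] (χ : Matrix.SpecialLinearGroup (Fin 2) F → ℂ) (hχ : Cfsg.IsIrrCharacter (Matrix.SpecialLinearGroup (Fin 2) F) χ) (hdeg : χ 1 = (Fintype.card F : ℂ)) (g : Matrix.SpecialLinearGroup (Fin 2) F) :
    ((g : Matrix (Fin 2) (Fin 2) F) 0 1 = 0 → (g : Matrix (Fin 2) (Fin 2) F) 1 0 = 0 → (g : Matrix (Fin 2) (Fin 2) F) 0 0 ^ 2 ≠ 1 → χ g = 1) ∧
    ((∀ (c : F) (v : Fin 2 → F), v ≠ 0 → (g : Matrix (Fin 2) (Fin 2) F).mulVec v ≠ c • v) → χ g = -1) ∧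
    ((g : Matrix (Fin 2) (Fin 2) F) 1 0 = 0 → (g : Matrix (Fin 2) (Fin 2) F) 0 0 = (g : Matrix (Fin 2) (Fin 2) F) 1 1 → (g : Matrix (Fin 2) (Fin 2) F) 0 1 ≠ 0 → χ g = 0) := by
  classical
  obtain rfl : χ = St := by
    by_cases h2 : (2 : F) = 0
    · haveI : CharP F 2 := CharTwo.of_one_ne_zero_of_two_eq_zero one_ne_zero h2
      exact Even.deg_q hχ hdeg
    · obtain ⟨t, -, ht⟩ := CfsgLib.SL2Tori.exists_nonsplit (F := F)
      obtain ⟨H⟩ := nonempty_halves ⟨t, ht⟩ h2
      exact H.deg_q hχ hdeg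
  refine ⟨fun h01 h10 h00 => ?_, fun hv => St_nonsplit (CfsgLib.SL2Tori.no_root_of_no_eigenvector hv),
    fun h10 h00 h01 => ?_⟩
  · obtain ⟨a, x, rfl, ha, -, -⟩ := exists_mk_of_upper h10
    exact St_regular (fun e => h00 (by rw [ha, ← Units.val_pow_eq_pow_val, e, Units.val_one])) x
  · obtain ⟨a, x, rfl, ha, ha', hx⟩ := exists_mk_of_upper h10
    rw [ha, ha', Units.val_inj] at h00
    rw [hx] at h01
    have he : a = 1 ∨ a = -1 := by_contra fun h => sq_ne_one_iff.2 h (by
      rw [sq]; exact mul_eq_one_iff_eq_inv.2 h00)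
    exact St_unipotent he h01

end Cfsg.Agent.S2321
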