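import Cfsg.Statements.S2322
import Cfsg.Agent.SL2CharTable.Apply

set_option autoImplicit false
open Cfsg

namespace Cfsg.Agent.S2322

open CfsgLib.SL2CharTable

/-- Over a finite field F with q elements, q odd: every irreducible complex character of SL₂ of degree q − 1 or (q − 1)/2 vanishes at every diagonal matrix whose diagonal entry a has a² ≠ 1, and every irreducible complex character of degree q + 1 or (q + 1)/2 vanishes at every element with no eigenvector in F². -/
theorem result {F : Type*} [Field F] [Fintype F] (hodd : Odd (Fintype.card F)) (χ : Matrix.SpecialLinearGroup (Fin 2) F → ℂ) (hχ : Cfsg.IsIrrCharacter (Matrix.SpecialLinearGroup (Fin 2) F) χ) (g : Matrix.SpecialLinearGroup (Fin 2) F) :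
    ((χ 1 = (Fintype.card F : ℂ) - 1 ∨ χ 1 = (((Fintype.card F - 1) / 2 : ℕ) : ℂ)) →
      (g : Matrix (Fin 2) (Fin 2) F) 0 1 = 0 → (g : Matrix (Fin 2) (Fin 2) F) 1 0 = 0 → (g : Matrix (Fin 2) (Fin 2) F) 0 0 ^ 2 ≠ 1 → χ g = 0) ∧
    ((χ 1 = (Fintype.card F : ℂ) + 1 ∨ χ 1 = (((Fintype.card F + 1) / 2 : ℕ) : ℂ)) →
      (∀ (c : F) (v : Fin 2 → F), v ≠ 0 → (g : Matrix (Fin 2) (Fin 2) F).mulVec v ≠ c • v) → χ g = 0) := by
  classical
  obtain ⟨Tr, h2, ⟨H⟩⟩ := exists_table hodd
  have hodd' := Halves.odd_card (F := F) h2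
  have h1 := Fintype.one_lt_card (α := F)
  refine ⟨fun hd h01 h10 h00 => ?_, fun hd hv => ?_⟩
  · obtain ⟨a, x, rfl, ha, -, -⟩ := exists_mk_of_upper h10
    have ha2 : a ^ 2 ≠ 1 := fun e => h00 (by rw [ha, ← Units.val_pow_eq_pow_val, e, Units.val_one])
    have hq : 5 ≤ Fintype.card F := by
      by_contra hlt
      have h3 : Fintype.card F = 3 := by omega
      have := pow_card_eq_one (x := a)
      rw [Fintype.card_units, h3] at this
      exact ha2 this
    rcases hd with hd | hd
    · rcases H.deg_minus hχ hd with ⟨η, -, rfl⟩ | ⟨h3, -⟩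
      · exact D_regular Tr h2 η ha2 x
      · omega
    · rcases H.deg_half_minus hq hχ hd with rfl | rfl
      exacts [(H.ψ_regular ha2 x).1, (H.ψ_regular ha2 x).2]
  · have hno := CfsgLib.SL2Tori.no_root_of_no_eigenvector hv
    rcases hd with hd | hd
    · obtain ⟨β, -, rfl⟩ := H.deg_plus hχ hd
      exact R_nonsplit β hno
    · by_cases hq : 5 ≤ Fintype.card F
      · rcases H.deg_half_plus hq hχ hd with rfl | rfl
        exacts [(H.χ_nonsplit hno).1, (H.χ_nonsplit hno).2]
      · have h3 : Fintype.card F = 3 := by omega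
        have hd' : χ 1 = (Fintype.card F : ℂ) - 1 := by rw [hd, h3]; norm_num
        rcases H.deg_minus hχ hd' with ⟨η, hη, rfl⟩ | ⟨-, rfl | rfl⟩
        exacts [D_nonsplit_three Tr h2 h3 hη hno, (H.χ_nonsplit hno).1, (H.χ_nonsplit hno).2]

end Cfsg.Agent.S2322
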