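import Cfsg.Statements.S2323
import Cfsg.Agent.SL2CharTable.Even
import Cfsg.Agent.SL2CharTable.Final

set_option autoImplicit false
open Cfsg

namespace Cfsg.Agent.S2323

open CfsgLib.SL2CharTable

/-- Over a finite field F with q ≥ 4 elements, let u be the upper unitriangular matrix of SL₂ with off-diagonal entry 1. An irreducible complex character of SL₂ takes at u the value 1 if its degree is q + 1 and the value −1 if its degree is q − 1. -/
theorem result {F : Type*} [Field F] [Fintype F] (hq : 4 ≤ Fintype.card F) (χ : Matrix.SpecialLinearGroup (Fin 2) F → ℂ) (hχ : Cfsg.IsIrrCharacter (Matrix.SpecialLinearGroup (Fin 2) F) χ)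
    (u : Matrix.SpecialLinearGroup (Fin 2) F) (hu : (u : Matrix (Fin 2) (Fin 2) F) = !![1, 1; 0, 1]) :
    (χ 1 = (Fintype.card F : ℂ) + 1 → χ u = 1) ∧ (χ 1 = (Fintype.card F : ℂ) - 1 → χ u = -1) := by
  classical
  have hp := Fintype.one_lt_card (α := F)
  obtain rfl : u = CfsgLib.SL2Borel.mk 1 1 := Subtype.ext (by rw [CfsgLib.SL2Borel.coe_mk, hu]; simp)
  obtain ⟨t, -, ht⟩ := CfsgLib.SL2Tori.exists_nonsplit (F := F)
  by_cases h2 : (2 : F) = 0
  · haveI : CharP F 2 := CharTwo.of_one_ne_zero_of_two_eq_zero one_ne_zero h2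
    have heven := Even.card_even (F := F)
    refine ⟨fun h => ?_, fun h => ?_⟩
    · have h' : χ 1 = ((Fintype.card F + 1 : ℕ) : ℂ) := by rw [h]; push_cast; rfl
      rcases Even.exhaustive ⟨t, ht⟩ χ hχ with ⟨_, e⟩ | ⟨_, e⟩ | ⟨β, _, rfl, -⟩ | ⟨_, _, _, e⟩
      case inr.inr.inl => rw [R_unipotent β (Or.inl rfl) one_ne_zero]; simp
      all_goals exfalso; rw [h', Nat.cast_inj] at e; omega
    · have h' : χ 1 = ((Fintype.card F - 1 : ℕ) : ℂ) := by rw [h, Nat.cast_sub hp.le, Nat.cast_one]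
      rcases Even.exhaustive ⟨t, ht⟩ χ hχ with ⟨_, e⟩ | ⟨_, e⟩ | ⟨_, _, _, e⟩ | ⟨η, _, rfl, -⟩
      case inr.inr.inr => exact Even.D_unipotent _ η one_ne_zero
      all_goals exfalso; rw [h', Nat.cast_inj] at e; omega
  · obtain ⟨H⟩ := nonempty_halves ⟨t, ht⟩ h2
    refine ⟨fun h => ?_, fun h => ?_⟩
    · obtain ⟨β, -, rfl⟩ := H.deg_plus hχ h
      rw [R_unipotent β (Or.inl rfl) one_ne_zero]; simp
    · rcases H.deg_minus hχ h with ⟨η, -, rfl⟩ | ⟨h3, -⟩
      · rw [D_unipotent _ _ η (Or.inl rfl) one_ne_zero]; simp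
      · omega

end Cfsg.Agent.S2323
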