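import Cfsg.Statements.S2324
import Cfsg.Agent.SL2CharTable.Apply

set_option autoImplicit false
open Cfsg

namespace Cfsg.Agent.S2324

open CfsgLib.SL2CharTable

/-- Over a finite field F with q elements, q odd and q ≥ 5, let u be the upper unitriangular matrix of SL₂ with off-diagonal entry 1 and let δ = (−1)^((q−1)/2). Every irreducible complex character χ of SL₂ of degree (q + 1)/2 satisfies (2χ(u) − 1)² = δq, and every irreducible complex character χ of degree (q − 1)/2 satisfies (2χ(u) + 1)² = δq; that is, χ(u) = (1 ± √(δq))/2 in the first case and χ(u) = (−1 ± √(δq))/2 in the second. Moreover two different irreducible characters of degree (q + 1)/2 take the two different values (their values at u add up to 1), and likewise for degree (q − 1)/2 (values adding up to −1). -/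
theorem result {F : Type*} [Field F] [Fintype F] (hodd : Odd (Fintype.card F)) (hq : 5 ≤ Fintype.card F)
    (u : Matrix.SpecialLinearGroup (Fin 2) F) (hu : (u : Matrix (Fin 2) (Fin 2) F) = !![1, 1; 0, 1]) :
    (∀ χ : Matrix.SpecialLinearGroup (Fin 2) F → ℂ, Cfsg.IsIrrCharacter (Matrix.SpecialLinearGroup (Fin 2) F) χ → χ 1 = (((Fintype.card F + 1) / 2 : ℕ) : ℂ) → (2 * χ u - 1) ^ 2 = (-1 : ℂ) ^ ((Fintype.card F - 1) / 2) * (Fintype.card F : ℂ)) ∧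
    (∀ χ : Matrix.SpecialLinearGroup (Fin 2) F → ℂ, Cfsg.IsIrrCharacter (Matrix.SpecialLinearGroup (Fin 2) F) χ → χ 1 = (((Fintype.card F - 1) / 2 : ℕ) : ℂ) → (2 * χ u + 1) ^ 2 = (-1 : ℂ) ^ ((Fintype.card F - 1) / 2) * (Fintype.card F : ℂ)) ∧
    (∀ χ₁ χ₂ : Matrix.SpecialLinearGroup (Fin 2) F → ℂ, Cfsg.IsIrrCharacter (Matrix.SpecialLinearGroup (Fin 2) F) χ₁ → Cfsg.IsIrrCharacter (Matrix.SpecialLinearGroup (Fin 2) F) χ₂ → χ₁ ≠ χ₂ →
      χ₁ 1 = (((Fintype.card F + 1) / 2 : ℕ) : ℂ) → χ₂ 1 = (((Fintype.card F + 1) / 2 : ℕ) : ℂ) → χ₁ u + χ₂ u = 1) ∧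
    (∀ χ₁ χ₂ : Matrix.SpecialLinearGroup (Fin 2) F → ℂ, Cfsg.IsIrrCharacter (Matrix.SpecialLinearGroup (Fin 2) F) χ₁ → Cfsg.IsIrrCharacter (Matrix.SpecialLinearGroup (Fin 2) F) χ₂ → χ₁ ≠ χ₂ →
      χ₁ 1 = (((Fintype.card F - 1) / 2 : ℕ) : ℂ) → χ₂ 1 = (((Fintype.card F - 1) / 2 : ℕ) : ℂ) → χ₁ u + χ₂ u = -1) := by
  classical
  obtain ⟨Tr, h2, ⟨H⟩⟩ := exists_table hodd
  obtain rfl : u = CfsgLib.SL2Borel.mk 1 1 := Subtype.ext (by rw [CfsgLib.SL2Borel.coe_mk, hu]; simp)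
  have hs : H.χ₁ (CfsgLib.SL2Borel.mk 1 1) + H.χ₂ (CfsgLib.SL2Borel.mk 1 1) = 1 := by
    rw [← Pi.add_apply, ← H.R_eq, R_unipotent _ (Or.inl rfl) one_ne_zero]; simp
  have hs' : H.ψ₁ (CfsgLib.SL2Borel.mk 1 1) + H.ψ₂ (CfsgLib.SL2Borel.mk 1 1) = -1 := by
    rw [← Pi.add_apply, ← H.D_eq, D_unipotent _ _ _ (Or.inl rfl) one_ne_zero]; simp
  have hc := sq_unipotent H.χ₁_irr H.χ₂_irr H.χ_ne (H.χ₁_one.trans H.χ₂_one.symm)
    (by rw [H.χ_neg_one.1, H.χ_neg_one.2, H.χ₁_one, H.χ₂_one]) H.balanced_χ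
  have hc' := sq_unipotent H.ψ₁_irr H.ψ₂_irr H.ψ_ne (H.ψ₁_one.trans H.ψ₂_one.symm)
    (by rw [H.ψ_neg_one.1, H.ψ_neg_one.2, H.ψ₁_one, H.ψ₂_one]) H.balanced_ψ
  rw [show H.χ₂ (CfsgLib.SL2Borel.mk 1 1) = 1 - H.χ₁ (CfsgLib.SL2Borel.mk 1 1) from eq_sub_of_add_eq' hs] at hc
  rw [show H.ψ₂ (CfsgLib.SL2Borel.mk 1 1) = -1 - H.ψ₁ (CfsgLib.SL2Borel.mk 1 1) from eq_sub_of_add_eq' hs'] at hc'
  refine ⟨fun χ hχ h => ?_, fun χ hχ h => ?_, fun a b ha hb hne h h' => ?_, fun a b ha hb hne h h' => ?_⟩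
  · rcases H.deg_half_plus hq hχ h with rfl | rfl
    · linear_combination hc
    · rw [eq_sub_of_add_eq' hs]; linear_combination hc
  · rcases H.deg_half_minus hq hχ h with rfl | rfl
    · linear_combination hc'
    · rw [eq_sub_of_add_eq' hs']; linear_combination hc'
  · rcases H.deg_half_plus hq ha h with rfl | rfl <;> rcases H.deg_half_plus hq hb h' with rfl | rfl
    exacts [absurd rfl hne, hs, (add_comm _ _).trans hs, absurd rfl hne]
  · rcases H.deg_half_minus hq ha h with rfl | rfl <;> rcases H.deg_half_minus hq hb h' with rfl | rfl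
    exacts [absurd rfl hne, hs', (add_comm _ _).trans hs', absurd rfl hne]

end Cfsg.Agent.S2324
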