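import Cfsg.Statements.S2329
import Cfsg.Agent.LieSmall.GL2Classes
set_option autoImplicit false
open Cfsg

namespace Cfsg.Agent.S2329

open CfsgLib.GL2Classes

theorem unipotent_props {F : Type*} [Field F] (p : ℕ) [Fact p.Prime] [CharP F p]
    (g : Matrix.GeneralLinearGroup (Fin 2) F) (hg : orderOf g = p) :
    (∀ c : F, (g : Matrix (Fin 2) (Fin 2) F) ≠ c • 1) ∧
      (g : Matrix (Fin 2) (Fin 2) F).trace = 2 ∧ (g : Matrix (Fin 2) (Fin 2) F).det = 1 := by
  set M := (g : Matrix (Fin 2) (Fin 2) F) with hM
  have hpow : M ^ p = 1 := by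
    rw [hM, ← Units.val_pow_eq_pow_val, ← hg, pow_orderOf_eq_one]; rfl
  have hnil : IsNilpotent (M - 1) := by
    refine ⟨p, ?_⟩
    rw [sub_pow_char_of_commute p (Commute.one_right M), hpow, one_pow, sub_self]
  have htr : M.trace = 2 := by
    have := (Matrix.isNilpotent_trace_of_isNilpotent hnil).eq_zero
    rw [Matrix.trace_sub, Matrix.trace_one] at this
    simpa [sub_eq_zero] using this
  have hdet : M.det = 1 := by
    have h0 : (M - 1).det = 0 := by
      obtain ⟨k, hk⟩ := hnil
      have := congrArg Matrix.det hk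
      rw [Matrix.det_pow, Matrix.det_zero] at this
      exact eq_zero_of_pow_eq_zero this
    rw [Matrix.trace_fin_two] at htr
    simp [Matrix.det_fin_two] at h0
    rw [Matrix.det_fin_two]
    linear_combination h0 + htr
  refine ⟨fun c hc => ?_, htr, hdet⟩
  have h2 : (c : F) ^ p = 1 := by
    have := congrFun (congrFun hpow 0) 0
    rw [hc, smul_pow, one_pow] at this
    simpa using this
  have : c = 1 := by
    have h3 : (c - 1) ^ p = 0 := by rw [sub_pow_char, h2, one_pow, sub_self]
    exact sub_eq_zero.mp (eq_zero_of_pow_eq_zero h3)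
  have hg1 : g = 1 := Units.ext (by rw [← hM, hc, this, one_smul]; rfl)
  exact (Fact.out : p.Prime).ne_one (by rw [← hg, hg1, orderOf_one])

/-- Over a finite field of characteristic p, any two elements of order p of GL₂ are conjugate: there is a single conjugacy class of non-identity unipotent elements. -/
theorem result {F : Type*} [Field F] [Fintype F] (p : ℕ) [Fact p.Prime] [CharP F p] (g h : Matrix.GeneralLinearGroup (Fin 2) F)
    (hg : orderOf g = p) (hh : orderOf h = p) : IsConj g h := by
  obtain ⟨h1, h2, h3⟩ := unipotent_props p g hg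
  obtain ⟨k1, k2, k3⟩ := unipotent_props p h hh
  exact isConj_of_trace_det h1 k1 (h2.trans k2.symm) (h3.trans k3.symm)

end Cfsg.Agent.S2329
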