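import Cfsg.Statements.S2331
import Cfsg.Agent.LieSmall.GL2Classes

set_option autoImplicit false
open Cfsg

namespace Cfsg.Agent.S2331

open CfsgLib.GL2Classes Matrix
open scoped MatrixGroups

section
variable {F : Type*} [Field F]

def compSL (t : F) : SpecialLinearGroup (Fin 2) F := ⟨companion t 1, det_companion t 1⟩

theorem coe_compSL (t : F) : (compSL t : Matrix (Fin 2) (Fin 2) F) = companion t 1 := rfl

def classOf : Option F → ConjClasses (SpecialLinearGroup (Fin 2) F)
  | none => ConjClasses.mk (1 : SpecialLinearGroup (Fin 2) F)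
  | some t => ConjClasses.mk (compSL t)

theorem invariants {g h : SpecialLinearGroup (Fin 2) F} (hc : IsConj g h) :
    (g : Matrix (Fin 2) (Fin 2) F).trace = (h : Matrix (Fin 2) (Fin 2) F).trace ∧
    (g = 1 → h = 1) := by
  obtain ⟨P, rfl⟩ := isConj_iff.mp hc
  refine ⟨?_, fun h => by simp [h]⟩
  change g.1.trace = (P.1 * g.1 * P⁻¹.1).trace
  have hP : P⁻¹.1 * P.1 = 1 := congrArg Subtype.val (inv_mul_cancel P)
  rw [Matrix.trace_mul_comm, ← mul_assoc, hP, one_mul]

theorem classOf_bijective [Fintype F] [CharP F 2] : Function.Bijective (classOf (F := F)) := by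
  have hsq : Function.Surjective (fun x : F => x ^ 2) :=
    (bijective_frobenius F 2).2
  constructor
  · have key : ∀ t : F, compSL t ≠ 1 := by
      intro t h
      refine companion_ne_smul_one t 1 1 ?_
      rw [one_smul]
      exact congrArg Subtype.val h
    rintro (_ | t) (_ | t') h <;> simp only [classOf, ConjClasses.mk_eq_mk_iff_isConj] at h
    · rfl
    · exact absurd ((invariants h).2 rfl) (key t')
    · exact absurd ((invariants h.symm).2 rfl) (key t)
    · simpa [coe_compSL] using (invariants h).1
  · intro C
    induction C using Quotient.inductionOn with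
    | h g =>
      by_cases hg : g = 1
      · subst hg; exact ⟨none, rfl⟩
      have hs : ∀ c : F, (g : Matrix (Fin 2) (Fin 2) F) ≠ c • 1 := by
        intro c hc
        have h1 := g.det_coe
        rw [hc, Matrix.det_smul] at h1
        simp at h1
        have hc1 : c = 1 := by
          have : frobenius F 2 c = frobenius F 2 1 := by simpa [frobenius_def] using h1
          exact (bijective_frobenius F 2).1 this
        exact hg (Subtype.ext (by rw [hc, hc1, one_smul]; rfl))
      refine ⟨some (g : Matrix (Fin 2) (Fin 2) F).trace, ?_⟩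
      refine ConjClasses.mk_eq_mk_iff_isConj.mpr (IsConj.symm ?_)
      obtain ⟨P, hP⟩ := exists_similar_companion hs
      rw [g.det_coe] at hP
      obtain ⟨s, hsd⟩ := hsq (P : Matrix (Fin 2) (Fin 2) F).det
      have hs0 : s ≠ 0 := by
        rintro rfl
        exact P.det_ne_zero (by simpa using hsd.symm)
      let P' : SpecialLinearGroup (Fin 2) F := ⟨s⁻¹ • (P : Matrix (Fin 2) (Fin 2) F), by
        rw [Matrix.det_smul, ← hsd]; simp; field_simp⟩
      refine isConj_iff.mpr ⟨P'⁻¹, ?_⟩
      rw [inv_inv, mul_assoc, inv_mul_eq_iff_eq_mul]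
      apply Subtype.ext
      change g.1 * (s⁻¹ • P.1) = (s⁻¹ • P.1) * companion g.1.trace 1
      rw [Matrix.mul_smul, Matrix.smul_mul, hP]

end

/-- Over a finite field with q elements, q even, the special linear group SL₂ has exactly q + 1 conjugacy classes. -/
theorem result {F : Type*} [Field F] [Fintype F] [CharP F 2] :
    Nat.card (ConjClasses (Matrix.SpecialLinearGroup (Fin 2) F)) = Fintype.card F + 1 := by
  rw [← Nat.card_eq_of_bijective _ (classOf_bijective (F := F)), Finite.card_option,
    Nat.card_eq_fintype_card]

end Cfsg.Agent.S2331
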