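import Cfsg.Statements.S2332
import Cfsg.Agent.RepBounds.SL.Bound

set_option autoImplicit false
open Cfsg

namespace Cfsg.Agent.S2332

open CfsgLib.RepBounds CfsgLib.RepBounds.SLR Module

theorem units_pow_ne_one {F : Type*} [Field F] [Fintype F] {k : ℕ} (hk : ¬ (Fintype.card F - 1) ∣ k) :
    ∃ a : Fˣ, (a : F) ^ k ≠ 1 := by
  classical
  obtain ⟨g, hg⟩ := IsCyclic.exists_ofOrder_eq_natCard (α := Fˣ)
  refine ⟨g, fun h => hk ?_⟩
  rw [← Fintype.card_units, ← Nat.card_eq_fintype_card, ← hg]
  exact orderOf_dvd_of_pow_eq_one (Units.ext (by simpa using h))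

theorem target_formula (q m : ℕ) (hq : 2 ≤ q) : target q (m + 2) = (q ^ (m + 2) - q) / (q - 1) := by
  refine (Nat.div_eq_of_eq_mul_left (by omega) ?_).symm
  rw [target, show m + 2 - 1 = m + 1 from rfl, mul_assoc, geom_sum_mul_of_one_le (by omega),
    Nat.mul_sub, ← pow_succ', mul_one]

/-- Smallest degree of a non-linear irreducible complex representation of SL_n over a finite field with q elements, for n ≥ 3 and (n, q) not one of (3, 2), (3, 4), (4, 2), (4, 3): every irreducible complex representation of SL_n(F) of degree at least 2 has degree at least (q^n − q)/(q − 1), and there is an irreducible complex representation of exactly that degree. -/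
theorem result {F : Type*} [Field F] [Fintype F] [DecidableEq F] (n : ℕ) (hn : 3 ≤ n)
    (hex : (n, Fintype.card F) ≠ (3, 2) ∧ (n, Fintype.card F) ≠ (3, 4) ∧ (n, Fintype.card F) ≠ (4, 2) ∧ (n, Fintype.card F) ≠ (4, 3)) :
    (∀ (k : ℕ) (ρ : Representation ℂ (Matrix.SpecialLinearGroup (Fin n) F) (Fin k → ℂ)), ρ.IsIrreducible → 2 ≤ k → (Fintype.card F ^ n - Fintype.card F) / (Fintype.card F - 1) ≤ k) ∧
    (∃ ρ : Representation ℂ (Matrix.SpecialLinearGroup (Fin n) F) (Fin ((Fintype.card F ^ n - Fintype.card F) / (Fintype.card F - 1)) → ℂ), ρ.IsIrreducible) := by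
  have hq : 2 ≤ Fintype.card F := Fintype.one_lt_card
  obtain ⟨m, rfl⟩ : ∃ m, n = m + 2 := ⟨n - 2, by omega⟩
  constructor
  · intro k ρ hρ hk
    obtain ⟨p, hp⟩ := CharP.exists F
    have : Fact p.Prime := ⟨CharP.char_is_prime F p⟩
    obtain ⟨ε, hε, -⟩ := exists_frobenius_char F p
    rw [← target_formula _ m hq]
    have h := target_le_of_irreducible hε m (by omega) (Fin k → ℂ) ρ hρ (by rwa [Module.finrank_fin_fun]) ?_ ?_
    · rwa [Module.finrank_fin_fun] at h
    · rintro rfl
      refine units_pow_ne_one fun hd => ?_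
      rcases (Nat.dvd_prime Nat.prime_three).mp hd with h1 | h1
      · exact hex.1 (by rw [show Fintype.card F = 2 by omega])
      · exact hex.2.1 (by rw [show Fintype.card F = 4 by omega])
    · rintro rfl
      refine units_pow_ne_one fun hd => ?_
      rcases (Nat.dvd_prime Nat.prime_two).mp hd with h1 | h1
      · exact hex.2.2.1 (by rw [show Fintype.card F = 2 by omega])
      · exact hex.2.2.2 (by rw [show Fintype.card F = 3 by omega])
  · obtain ⟨d, ρ, hirr, hρ⟩ := CfsgLib.LinearPoints.isIrr_chi (F := F) (n := m + 2) hn 1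
    classical
    have h1 := congrFun hρ 1
    rw [Representation.char_one, CfsgLib.LinearPoints.chi_apply_one hn, if_pos rfl, Module.finrank_fin_fun] at h1
    set N := (Fintype.card F ^ (m + 2) - 1) / (Fintype.card F - 1) with hN
    have h2 : d + 1 = N := by
      have h3 : ((d + 1 : ℕ) : ℂ) = (N : ℂ) := by push_cast; rw [h1]; ring
      exact_mod_cast h3
    have h4 : N * (Fintype.card F - 1) = Fintype.card F ^ (m + 2) - 1 :=
      Nat.div_mul_cancel (Nat.sub_one_dvd_pow_sub_one _ _)
    have h5 : (Fintype.card F ^ (m + 2) - Fintype.card F) / (Fintype.card F - 1) = d := by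
      refine Nat.div_eq_of_eq_mul_left (by omega) ?_
      rw [← h2, add_mul, one_mul] at h4
      omega
    rw [h5]
    exact ⟨ρ, hirr⟩

end Cfsg.Agent.S2332
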