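import Cfsg.Statements.S2333
import Cfsg.Agent.RepBounds.Siegel

set_option autoImplicit false
open Cfsg

namespace Cfsg.Agent.S2333

open CfsgLib.RepBounds Module

theorem char_two {F : Type*} [Field F] [Fintype F] (h : Even (Fintype.card F)) : CharP F 2 := by
  obtain ⟨p, hp⟩ := CharP.exists F
  obtain ⟨m, hp', hm⟩ := FiniteField.card F p
  rw [hm, Nat.even_pow] at h
  have : p = 2 := (hp'.even_iff).mp h.1
  exact this ▸ hp

theorem bound {F : Type*} [Field F] [Fintype F] [CharP F 2] {n : ℕ} (hn : 2 ≤ n) {V : Type*}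
    [AddCommGroup V] [Module ℂ V] [FiniteDimensional ℂ V]
    (ρ : Representation ℂ (Matrix.symplecticGroup (Fin n) F) V) (hρ : ρ.IsIrreducible) (hk : 2 ≤ finrank ℂ V) :
    (Fintype.card F ^ n - 1) * (Fintype.card F ^ n - Fintype.card F) ≤
      finrank ℂ V * (2 * (Fintype.card F + 1)) := by
  have : Fact (Nat.Prime 2) := ⟨Nat.prime_two⟩
  obtain ⟨ψ, hψ, -⟩ := exists_frobenius_char F 2
  have halt : ∀ (L : Module.Dual F (symMat n F)) x, polarOf L x x = 0 := by
    intro L x
    have : mulSym x x = (0 : symMat n F) := Subtype.ext (by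
      ext a b; simp [mulSym, CharTwo.add_self_eq_zero])
    rw [polarOf_apply, this, map_zero]
  by_cases hex : ∃ L : Module.Dual F (symMat n F),
      0 < mult (resChar ρ siegelU) (ψ.compAddMonoidHom L.toAddMonoidHom) ∧ polarOf L ≠ 0
  · obtain ⟨L, hL, hB⟩ := hex
    have h1 := card_formOrbit_le_finrank ρ hψ L hL
    have h2 := card_formOrbit_of_alt (F := F) (quadOf L) (polarOf L) (quadOf_add L) (quadOf_smul L)
      (halt L) hB
    rw [Module.finrank_fin_fun] at h2
    exact h2.trans (Nat.mul_le_mul_right _ h1)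
  · exfalso
    push Not at hex
    obtain ⟨g, hg⟩ := exists_ne_one ρ hρ hk
    apply hg
    have htriv : ∀ x y, ρ (siegelU (mulSym x y)) = 1 := by
      intro x y
      rw [← resChar_apply, ← mul_one (resChar ρ siegelU (mulSym x y)), ← sum_proj (resChar ρ siegelU),
        Finset.mul_sum]
      refine Finset.sum_congr rfl fun χ _ => ?_
      rw [map_mul_proj]
      rcases Nat.eq_zero_or_pos (mult (resChar ρ siegelU) χ) with h0 | hpos
      · rw [mult, Submodule.finrank_eq_zero, LinearMap.range_eq_bot] at h0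
        rw [h0, smul_zero]
      · obtain ⟨L, rfl⟩ := exists_dual hψ χ
        rw [AddChar.compAddMonoidHom_apply, LinearMap.toAddMonoidHom_coe, ← polarOf_apply, hex L hpos,
          LinearMap.zero_apply, LinearMap.zero_apply, AddChar.map_zero_eq_one, one_smul]
    have hker := normal_eq_top_of_short (i := (⟨0, by omega⟩ : Fin n)) (j := ⟨1, by omega⟩)
      (by simp) (MonoidHom.ker ρ) (fun t => htriv _ _)
    show g ∈ MonoidHom.ker ρ
    rw [hker]
    trivial

/-- For a finite field F of even order q and n ≥ 2 with (n, q) ≠ (2, 2), every irreducible complex representation of the symplectic group Sp_{2n}(F) of degree at least 2 has degree at least (q^n − 1)(q^n − q)/(2(q + 1)). -/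
theorem result {F : Type*} [Field F] [Fintype F] [DecidableEq F] (n : ℕ) (hn : 2 ≤ n) (heven : Even (Fintype.card F)) (hex : (n, Fintype.card F) ≠ (2, 2)) :
    (∀ (k : ℕ) (ρ : Representation ℂ (Matrix.symplecticGroup (Fin n) F) (Fin k → ℂ)), ρ.IsIrreducible → 2 ≤ k → (Fintype.card F ^ n - 1) * (Fintype.card F ^ n - Fintype.card F) / (2 * (Fintype.card F + 1)) ≤ k) := by
  intro k ρ hρ hk
  have := char_two heven
  have h := bound hn ρ hρ (by rwa [Module.finrank_fin_fun])
  rw [Module.finrank_fin_fun] at h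
  exact Nat.div_le_of_le_mul (h.trans_eq (mul_comm _ _))

end Cfsg.Agent.S2333
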