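import Cfsg.Statements.S2335
import Cfsg.Agent.RepBounds.Unitary.Bound

set_option autoImplicit false
open Cfsg

namespace Cfsg.Agent.S2335

open CfsgLib.RepBounds.Unit


/-- For even n ≥ 4 and a finite field F with q² elements, (n, q) not (4, 2) or (4, 3), every irreducible complex representation of the special unitary group SU_n(q) (the determinant-one isometries of the standard Hermitian form over F) of degree at least 2 has degree at least (q^n − 1)/(q + 1). -/
theorem result {F : Type*} [Field F] [Fintype F] [DecidableEq F] (n q : ℕ) (hn : 4 ≤ n) (heven : Even n) (hF : Fintype.card F = q ^ 2) (hex : (n, q) ≠ (4, 2) ∧ (n, q) ≠ (4, 3)) :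
    (∀ (k : ℕ) (ρ : Representation ℂ (Cfsg.SU n F q) (Fin k → ℂ)), ρ.IsIrreducible → 2 ≤ k → (q ^ n - 1) / (q + 1) ≤ k) := by
  intro k ρ hρ hk
  obtain ⟨C, rfl⟩ := exists_conjField q hF
  obtain ⟨j, rfl⟩ : ∃ j, n = 2 + j := ⟨n - 2, by omega⟩
  have hj : ¬ Odd j := by rw [Nat.even_iff] at heven; rw [Nat.odd_iff]; omega
  have h := degree_bound_SU C j (by omega) (fun h => absurd h.1 (by omega)) ρ hρ (by rwa [Module.finrank_fin_fun])
  rw [Module.finrank_fin_fun, if_neg hj] at h
  refine Nat.div_le_of_le_mul ?_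
  rw [mul_comm (C.q + 1)]
  omega

end Cfsg.Agent.S2335
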