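import Cfsg.Statements.S2337
import Cfsg.Agent.RepBounds.Restrict
import Cfsg.Agent.RepBounds.FieldChar
import Cfsg.Agent.Suzuki.LieModel

set_option autoImplicit false
open Cfsg

namespace Cfsg.Agent.S2337

open CfsgLib.Suzuki CfsgLib.RepBounds Module

section
variable {F : Type*} [Field F] [Fintype F] {m : ℕ}

/-- The centre of the Sylow 2-subgroup as an additive family. -/
def centerChar (hS : SzField F m) : AddChar F (Cfsg.Sz F m) where
  toFun b := uniEl hS 0 b
  map_zero_eq_one' := uniEl_zero hS
  map_add_eq_mul' b d := by rw [uniEl_mul hS]; simp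

theorem isIrreducible_comp {G H V : Type*} [Group G] [Group H] [AddCommGroup V] [Module ℂ V]
    (ρ : Representation ℂ G V) (f : H →* G) (hf : Function.Surjective f) (hρ : ρ.IsIrreducible) :
    Representation.IsIrreducible (ρ.comp f : Representation ℂ H V) := by
  let e : Subrepresentation ρ ≃o Subrepresentation (ρ.comp f : Representation ℂ H V) :=
    { toFun := fun S => ⟨S.toSubmodule, fun h v hv => S.apply_mem_toSubmodule (f h) hv⟩
      invFun := fun S => ⟨S.toSubmodule, fun g v hv => by
        obtain ⟨h, rfl⟩ := hf g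
        exact S.apply_mem_toSubmodule h hv⟩
      left_inv := fun S => rfl
      right_inv := fun S => rfl
      map_rel_iff' := Iff.rfl }
  have := hρ
  exact (OrderIso.isSimpleOrder_iff e).mp this

theorem bound (hS : SzField F m) {V : Type*} [AddCommGroup V] [Module ℂ V] [FiniteDimensional ℂ V]
    (ρ : Representation ℂ (Cfsg.Sz F m) V) (hρ : ρ.IsIrreducible) (hk : 2 ≤ finrank ℂ V) :
    2 ^ m * (2 ^ (2 * m + 1) - 1) ≤ finrank ℂ V := by
  classical
  have := hS.charP
  have : Fact (Nat.Prime 2) := ⟨Nat.prime_two⟩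
  obtain ⟨ψ, hψ, hfrob⟩ := exists_frobenius_char F 2
  have hθψ : ∀ x : F, ψ (θ m x) = ψ x := fun x => hfrob (m + 1) x
  have hsimple := isSimpleGroup_sz hS
  set z := centerChar hS
  have hz : resChar ρ z 1 ≠ 1 := by
    refine apply_ne_one ρ hρ hk _ fun N hN hmem => ?_
    refine (hsimple.eq_bot_or_eq_top_of_normal N hN).resolve_left fun h => ?_
    rw [h, Subgroup.mem_bot] at hmem
    have h2 := hmem.trans (uniEl_zero hS).symm
    exact one_ne_zero ((uniEl_eq_iff hS).mp h2).2
  obtain ⟨χ0, hχ0, hm0⟩ := exists_weight _ hz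
  obtain ⟨c0, rfl⟩ := exists_mulShift hψ χ0
  have hc0 : c0 ≠ 0 := fun h => hχ0 (by rw [h]; exact DFunLike.ext _ _ fun x => by simp)
  have horbit : ∀ c : F, c ≠ 0 →
      mult (resChar ρ z) (AddChar.mulShift ψ c) = mult (resChar ρ z) (AddChar.mulShift ψ c0) := by
    intro c hc
    obtain ⟨μ, hμ⟩ := self_mul_θ_surjective hS (c / c0)
    have hμ0 : μ ≠ 0 := by
      rintro rfl
      simp only [zero_mul] at hμ
      exact div_ne_zero hc hc0 hμ.symm
    have hk0 : μ * θ m μ ≠ 0 := mul_ne_zero hμ0 (fun h => hμ0 (θ_eq_zero.mp h))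
    let σ : F ≃+ F :=
      { toFun := fun b => μ * θ m μ * b
        invFun := fun b => (μ * θ m μ)⁻¹ * b
        left_inv := fun b => inv_mul_cancel_left₀ hk0 b
        right_inv := fun b => mul_inv_cancel_left₀ hk0 b
        map_add' := fun a b => mul_add _ _ _ }
    have h := mult_comp_conj ρ z (torSz hS (Units.mk0 μ hμ0)) σ
      (fun b => by
        have h := torSz_conj_uniEl hS (Units.mk0 μ hμ0) 0 b
        simpa [z, centerChar, σ] using h) (AddChar.mulShift ψ c0)
    rw [← h]
    congr 1
    refine DFunLike.ext _ _ fun b => ?_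
    simp only [AddChar.compAddMonoidHom_apply, AddEquiv.coe_toAddMonoidHom, AddChar.mulShift_apply, σ,
      AddEquiv.coe_mk, Equiv.coe_fn_mk]
    rw [show μ * θ m μ = c / c0 from hμ]
    congr 1
    field_simp
  have hbig : 2 ^ m ≤ mult (resChar ρ z) (AddChar.mulShift ψ c0) := by
    set r := c0 / θ m c0 with hr
    let R : AddSubgroup F :=
      { carrier := {0, r}
        zero_mem' := Or.inl rfl
        add_mem' := by
          rintro a b (rfl | rfl) (rfl | rfl) <;> simp [CharTwo.add_self_eq_zero]
        neg_mem' := by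
          intro a ha
          simpa [CharTwo.neg_eq] using ha }
    have hr0 : r ≠ 0 := div_ne_zero hc0 fun h => hc0 (θ_eq_zero.mp h)
    have hcardR : Nat.card R = 2 := by
      have h : ((R : Set F)) = {0, r} := rfl
      rw [← SetLike.coe_sort_coe, h, Nat.card_coe_set_eq, Set.ncard_pair hr0.symm]
    have hcardQ : Nat.card (F ⧸ R) = 2 ^ (2 * m) := by
      have h := AddSubgroup.card_eq_card_quotient_mul_card_addSubgroup R
      rw [hcardR, Nat.card_eq_fintype_card (α := F), hS.card_eq, pow_succ] at h
      omega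
    let _ : Fintype (F ⧸ R) := Fintype.ofFinite _
    have hsq := card_le_mult_sq ρ z (AddChar.mulShift ψ c0) hm0
      (I := F ⧸ R) (fun i => uniEl hS i.out 0)
      (fun i b => by
        show uniEl hS i.out 0 * uniEl hS 0 b = uniEl hS 0 b * uniEl hS i.out 0
        rw [uniEl_mul hS, uniEl_mul hS]; simp)
      (fun i j hij => by
        obtain ⟨b0, hw⟩ : ∃ b0, (uniEl hS j.out 0)⁻¹ * uniEl hS i.out 0 = uniEl hS (j.out + i.out) b0 :=
          ⟨_, by rw [uniEl_inv hS, uniEl_mul hS]⟩
        set d := j.out + i.out with hd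
        have hdR : d ∉ R := fun h => hij (by
          rw [← QuotientAddGroup.out_eq' i, ← QuotientAddGroup.out_eq' j, QuotientAddGroup.eq, CharTwo.neg_eq,
            add_comm]
          exact h)
        have hd0 : d ≠ 0 := fun h => hdR (Or.inl h)
        obtain ⟨μ, hμ⟩ := (Finite.injective_iff_surjective.mp (θ_injective hS)) (c0 * d)
        have hne : μ + c0 * θ m d ≠ 0 := by
          intro h
          apply hdR
          refine Or.inr ?_
          have hθd : μ = c0 * θ m d := CharTwo.add_eq_zero.mp h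
          rw [hθd, θ_mul, θ_θ hS] at hμ
          have hθ0 : θ m c0 ≠ 0 := fun h => hc0 (θ_eq_zero.mp h)
          rw [Set.mem_singleton_iff, hr, eq_div_iff hθ0]
          refine mul_left_cancel₀ hd0 ?_
          linear_combination hμ
        obtain ⟨c, hc⟩ : ∃ c, AddChar.mulShift ψ (μ + c0 * θ m d) c ≠ 1 :=
          AddChar.ne_one_iff.mp (hψ hne)
        refine ⟨uniEl hS c 0, θ m c * d + θ m d * c, fun a => ?_, ?_, ?_⟩
        · show uniEl hS c 0 * uniEl hS 0 a = uniEl hS 0 a * uniEl hS c 0
          rw [uniEl_mul hS, uniEl_mul hS]; simp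
        · rw [hw, mul_inv_eq_iff_eq_mul]
          show _ = uniEl hS 0 _ * _ * _
          rw [uniEl_mul hS, uniEl_mul hS, uniEl_mul hS, uniEl_eq_iff hS]
          constructor
          · ring
          · simp only [θ_zero, zero_mul, add_zero, zero_add]
            linear_combination (-(θ m d * c)) * hS.two_eq_zero
        · intro h
          apply hc
          rw [AddChar.mulShift_apply] at h ⊢
          rw [show c0 * (θ m c * d + θ m d * c) = θ m c * (c0 * d) + c0 * θ m d * c by ring, ← hμ, ← θ_mul,
            AddChar.map_add_eq_mul, hθψ, ← AddChar.map_add_eq_mul] at h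
          rw [add_mul, mul_comm μ]
          exact h)
    rw [← Nat.card_eq_fintype_card, hcardQ] at hsq
    exact (Nat.pow_le_pow_iff_left two_ne_zero).mp (by rw [← pow_mul, mul_comm]; exact hsq)
  have hS2 := card_mul_le_finrank (resChar ρ z)
    ((Finset.univ.erase (0 : F)).image (AddChar.mulShift ψ)) (2 ^ m) (by
      intro χ hχ
      obtain ⟨c, hc, rfl⟩ := Finset.mem_image.mp hχ
      rw [horbit c (Finset.ne_of_mem_erase hc)]
      exact hbig)
  rw [Finset.card_image_of_injective _ (AddChar.to_mulShift_inj_of_isPrimitive hψ),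
    Finset.card_erase_of_mem (Finset.mem_univ _), Finset.card_univ, hS.card_eq] at hS2
  linarith

end

/-- For the Suzuki group Sz(q), q = 2^(2m+1) with m ≥ 1 (realised inside Sp₄ over the field with q elements), every irreducible complex representation of degree at least 2 has degree at least 2^m·(q − 1). -/
theorem result {F : Type*} [Field F] [Fintype F] (m : ℕ) (hm : 1 ≤ m) (hF : Fintype.card F = 2 ^ (2 * m + 1)) :
    (∀ (k : ℕ) (ρ : Representation ℂ (Cfsg.Lie.Sz F (2 ^ (m + 1))) (Fin k → ℂ)), ρ.IsIrreducible → 2 ≤ k → 2 ^ m * (2 ^ (2 * m + 1) - 1) ≤ k) := by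
  intro k ρ hρ hk
  have hS : SzField F m := ⟨hm, hF⟩
  have h := bound hS (ρ.comp (lieSzEquiv hS).toMonoidHom)
    (isIrreducible_comp ρ _ (lieSzEquiv hS).surjective hρ) (by rwa [Module.finrank_fin_fun])
  rwa [Module.finrank_fin_fun] at h

end Cfsg.Agent.S2337
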