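import Cfsg.Statements.S2344
import Cfsg.Agent.OrthDeg.Odd
import Cfsg.Agent.OrthDeg.Std
import Cfsg.Agent.OrthDeg.Binary

set_option autoImplicit false
open Cfsg

namespace Cfsg.Agent.S2344

/-- For a finite field F of odd order q > 3 and n ≥ 3, every irreducible complex representation of degree at least 2 of Ω_{2n+1}(F) (the commutator subgroup of the isometry group of the quadratic form x₀² + x₁y₁ + ⋯ + x_ny_n) has degree at least (q^{2n} − 1)/(q² − 1). -/
theorem result {F : Type*} [Field F] [Fintype F] (n : ℕ) (hn : 3 ≤ n) (hodd : Odd (Fintype.card F)) (h3 : 3 < Fintype.card F) :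
    (∀ (k : ℕ) (ρ : Representation ℂ (Cfsg.Omega F (Cfsg.quadFormOdd n F)) (Fin k → ℂ)), ρ.IsIrreducible → 2 ≤ k → (Fintype.card F ^ (2 * n) - 1) / (Fintype.card F ^ 2 - 1) ≤ k) := by
  classical
  obtain ⟨m, rfl⟩ : ∃ m, n = m + 3 := ⟨n - 3, by omega⟩
  have h2 : (2 : F) ≠ 0 := by
    refine Ring.two_ne_zero fun h => ?_
    have := FiniteField.even_card_of_char_two h
    exact (Nat.not_even_iff_odd.2 hodd) (Nat.even_iff.2 this)
  have h5 : 5 ≤ Fintype.card F := by
    obtain ⟨r, hr⟩ := hodd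
    omega
  let Q := CfsgLib.StdForms.oddQ (m + 3) F
  have hQ := CfsgLib.StdForms.oddQ_nondegenerate (F := F) h2 (m + 3)
  have hp := CfsgLib.StdForms.polar_odd (F := F) (m + 3)
  let R := CfsgLib.OrthDeg.stdFr (Q := Q) hQ (fun i => Sum.inr (Sum.inl i)) (fun i => Sum.inr (Sum.inr i))
    (fun i => by simp [Q, CfsgLib.StdForms.oddQ_apply, Cfsg.quadFormOdd, Pi.single_apply])
    (fun i => by simp [Q, CfsgLib.StdForms.oddQ_apply, Cfsg.quadFormOdd, Pi.single_apply])
    (fun i j => by simp [Q, hp, Pi.single_apply])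
    (fun i j => by simp [Q, hp, Pi.single_apply])
    (fun i j => by simp [Q, hp, Pi.single_apply, eq_comm])
  have hcard : Fintype.card (Unit ⊕ (Fin (m + 3) ⊕ Fin (m + 3))) = 2 * (m + 3) + 1 := by simp; ring
  have hodd' : CfsgLib.OrthDeg.IsOdd R := by
    let : Fintype R.core := Fintype.ofFinite _
    refine ⟨(CfsgLib.OrthDeg.card_core (m := 1) R rfl hcard).trans (pow_one _), fun x hx hx0 => ?_⟩
    obtain ⟨-, hperp⟩ := (CfsgLib.OrthDeg.mem_core R x).1 hx
    have hcoord : ∀ i, x (.inr i) = 0 := by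
      intro i
      rcases i with i | i
      · simpa [R, Q, CfsgLib.OrthDeg.stdFr, hp, Pi.single_apply] using (hperp i).2
      · simpa [R, Q, CfsgLib.OrthDeg.stdFr, hp, Pi.single_apply] using (hperp i).1
    have hval : Q x = x (.inl ()) ^ 2 := by
      simp [Q, CfsgLib.StdForms.oddQ_apply, Cfsg.quadFormOdd, hcoord]
    rw [hval]
    refine pow_ne_zero 2 fun h => hx0 (funext fun j => ?_)
    rcases j with j | j
    · exact h
    · exact hcoord j
  have hsp : CfsgLib.OrthDeg.Spin R :=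
    CfsgLib.OrthDeg.spin_top (m := m + 1) R hodd' rfl h2 hQ (by omega)
  intro k ρ hirr hk
  have hb := CfsgLib.OrthDeg.omega_bound hQ (by omega) (CfsgLib.StdForms.coe_oddQ (m + 3)) (n := m + 1) R rfl
    (B := CfsgLib.OrthDeg.oddBound (Fintype.card F) (m + 3))
    (fun W _ _ _ τ hτ => CfsgLib.OrthDeg.odd_bound h5 m R hodd' hsp W τ hτ) k ρ hirr hk
  have h4 : 0 < Fintype.card F ^ 2 - 1 := by
    have : 25 ≤ Fintype.card F ^ 2 := le_trans (by norm_num) (Nat.pow_le_pow_left h5 2)
    omega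
  rw [← CfsgLib.OrthDeg.oddBound_formula (by omega) (m + 3), Nat.mul_div_cancel _ h4]
  exact hb

end Cfsg.Agent.S2344
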