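import Cfsg.Statements.S2345
import Cfsg.Agent.OrthDeg.Plus
import Cfsg.Agent.OrthDeg.Std

set_option autoImplicit false
open Cfsg

namespace Cfsg.Agent.S2345

/-- For a finite field F with q > 3 elements and n ≥ 4, every irreducible complex representation of degree at least 2 of Ω⁺_{2n}(F) (the commutator subgroup of the isometry group of the hyperbolic quadratic form x₁y₁ + ⋯ + x_ny_n) has degree at least (q^n − 1)(q^{n−1} + q)/(q² − 1). -/
theorem result {F : Type*} [Field F] [Fintype F] (n : ℕ) (hn : 4 ≤ n) (h3 : 3 < Fintype.card F) :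
    (∀ (k : ℕ) (ρ : Representation ℂ (Cfsg.Omega F (Cfsg.quadFormPlus n F)) (Fin k → ℂ)), ρ.IsIrreducible → 2 ≤ k → (Fintype.card F ^ n - 1) * (Fintype.card F ^ (n - 1) + Fintype.card F) / (Fintype.card F ^ 2 - 1) ≤ k) := by
  classical
  obtain ⟨m, rfl⟩ : ∃ m, n = m + 3 := ⟨n - 3, by omega⟩
  let Q := CfsgLib.StdForms.plusQ (m + 3) F
  have hp := CfsgLib.StdForms.polar_plus (F := F) (m + 3)
  let R := CfsgLib.OrthDeg.stdFr (Q := Q) (CfsgLib.StdForms.plusQ_nondegenerate (m + 3)) Sum.inl Sum.inr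
    (fun i => by simp [Q, CfsgLib.StdForms.plusQ_apply, Cfsg.quadFormPlus, Pi.single_apply])
    (fun i => by simp [Q, CfsgLib.StdForms.plusQ_apply, Cfsg.quadFormPlus, Pi.single_apply])
    (fun i j => by simp [Q, hp, Pi.single_apply])
    (fun i j => by simp [Q, hp, Pi.single_apply])
    (fun i j => by simp [Q, hp, Pi.single_apply, eq_comm])
  have hc : Nat.card (R.core) = 1 := by
    let : Fintype R.core := Fintype.ofFinite _
    rw [Nat.card_eq_fintype_card]
    convert CfsgLib.OrthDeg.card_core (m := 0) R rfl (by simp [two_mul]) using 1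
    simp
  have hc' : ∀ i : Fintype R.core, @Fintype.card R.core i = 1 := fun i => by
    rw [← hc, Nat.card_eq_fintype_card]
  intro k ρ hirr hk
  have hq : 4 ≤ Fintype.card F := h3
  have hb := CfsgLib.OrthDeg.omega_bound (CfsgLib.StdForms.plusQ_nondegenerate (m + 3)) (by simp; omega)
    (CfsgLib.StdForms.coe_plusQ (m + 3)) (n := m + 1) R rfl
    (B := CfsgLib.OrthDeg.plusBound (Fintype.card F) m)
    (fun W _ _ _ τ hτ => CfsgLib.OrthDeg.plus_bound hq m R (hc' _) W τ hτ) k ρ hirr hk
  have h4 : 0 < Fintype.card F ^ 2 - 1 := by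
    have : 4 ≤ Fintype.card F ^ 2 := le_trans hq (Nat.le_self_pow two_ne_zero _)
    omega
  rw [show m + 3 - 1 = m + 2 from rfl, ← CfsgLib.OrthDeg.plusBound_formula (by omega : 2 ≤ Fintype.card F) m,
    Nat.mul_div_cancel _ h4]
  exact hb

end Cfsg.Agent.S2345
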