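import Cfsg.Statements.S2346
import Cfsg.Agent.OrthDeg.Minus
import Cfsg.Agent.OrthDeg.Std
import Cfsg.Agent.OrthDeg.Binary

set_option autoImplicit false
open Cfsg

namespace Cfsg.Agent.S2346

/-- For a finite field F with q elements, n ≥ 4, and a, b ∈ F with z₁² + a z₁z₂ + b z₂² anisotropic, every irreducible complex representation of degree at least 2 of Ω⁻_{2n}(F) (the commutator subgroup of the isometry group of x₁y₁ + ⋯ + x_{n−1}y_{n−1} + z₁² + a z₁z₂ + b z₂²) has degree at least (q^n + 1)(q^{n−1} − q)/(q² − 1). -/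
theorem result {F : Type*} [Field F] [Fintype F] (n : ℕ) (hn : 4 ≤ n) (a b : F) (hab : ∀ z₁ z₂ : F, z₁ ^ 2 + a * z₁ * z₂ + b * z₂ ^ 2 = 0 → z₁ = 0 ∧ z₂ = 0) :
    (∀ (k : ℕ) (ρ : Representation ℂ (Cfsg.Omega F (Cfsg.quadFormMinus (n - 1) F a b)) (Fin k → ℂ)), ρ.IsIrreducible → 2 ≤ k → (Fintype.card F ^ n + 1) * (Fintype.card F ^ (n - 1) - Fintype.card F) / (Fintype.card F ^ 2 - 1) ≤ k) := by
  classical
  obtain ⟨m, rfl⟩ : ∃ m, n = m + 4 := ⟨n - 4, by omega⟩
  have hd : a ^ 2 - 4 * b ≠ 0 := by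
    by_cases h2 : ringChar F = 2
    · have h20 : (2 : F) = 0 := by
        haveI := ringChar.charP F
        simpa [h2] using CharP.cast_eq_zero F (ringChar F)
      intro h
      have ha : a = 0 := pow_eq_zero_iff two_ne_zero |>.1 (by linear_combination h + 2 * b * h20)
      obtain ⟨x, hx⟩ := FiniteField.isSquare_of_char_two h2 b
      exact one_ne_zero (hab x 1 (by rw [ha, hx]; linear_combination x * x * h20)).2
    · exact CfsgLib.StdForms.disc_ne_zero_of_anisotropic (Ring.two_ne_zero h2) hab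
  let Q := CfsgLib.StdForms.minusQ (m + 3) F a b
  have hp := CfsgLib.StdForms.polar_minus (F := F) (m + 3) a b
  let R := CfsgLib.OrthDeg.stdFr (Q := Q) (CfsgLib.StdForms.minusQ_nondegenerate (m + 3) hd)
    (fun i => Sum.inl (Sum.inl i)) (fun i => Sum.inl (Sum.inr i))
    (fun i => by simp [Q, CfsgLib.StdForms.minusQ_apply, Cfsg.quadFormMinus, Pi.single_apply])
    (fun i => by simp [Q, CfsgLib.StdForms.minusQ_apply, Cfsg.quadFormMinus, Pi.single_apply])
    (fun i j => by simp [Q, hp, Pi.single_apply])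
    (fun i j => by simp [Q, hp, Pi.single_apply])
    (fun i j => by simp [Q, hp, Pi.single_apply, eq_comm])
  have hcoord : ∀ x ∈ R.core, ∀ i, x (.inl i) = 0 := by
    intro x hx i
    obtain ⟨-, hperp⟩ := (CfsgLib.OrthDeg.mem_core R x).1 hx
    rcases i with i | i
    · simpa [R, Q, CfsgLib.OrthDeg.stdFr, hp, Pi.single_apply] using (hperp i).2
    · simpa [R, Q, CfsgLib.OrthDeg.stdFr, hp, Pi.single_apply] using (hperp i).1
  have hval : ∀ x ∈ R.core, Q x = x (.inr 0) ^ 2 + a * x (.inr 0) * x (.inr 1) + b * x (.inr 1) ^ 2 := by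
    intro x hx
    simp [Q, CfsgLib.StdForms.minusQ_apply, Cfsg.quadFormMinus, hcoord x hx]
  have hmem : ∀ z : F × F, (Sum.elim (fun _ => 0) ![z.1, z.2] : _ → F) ∈ R.core := fun z =>
    (CfsgLib.OrthDeg.mem_core R _).2 ⟨trivial, fun i => by
      simp [R, Q, CfsgLib.OrthDeg.stdFr, hp, Pi.single_apply]⟩
  let e : F × F ≃ R.core :=
    { toFun := fun z => ⟨_, hmem z⟩
      invFun := fun x => (x.1 (.inr 0), x.1 (.inr 1))
      left_inv := fun z => by simp
      right_inv := fun x => by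
        refine Subtype.ext (funext fun j => ?_)
        rcases j with j | j
        · simp [hcoord x.1 x.2 j]
        · fin_cases j <;> simp }
  have hm : CfsgLib.OrthDeg.IsMinus R := by
    let : Fintype R.core := Fintype.ofFinite _
    have hcnt : ∀ c : F, CfsgLib.OrthDeg.cnt Q R.core c =
        (Finset.univ.filter fun z : F × F => z.1 ^ 2 + a * z.1 * z.2 + b * z.2 ^ 2 = c).card := fun c => by
      refine (Finset.card_equiv e fun z => ?_).symm
      simp only [Finset.mem_filter, Finset.mem_univ, true_and]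
      rw [hval _ (e z).2]
      simp [e]
    refine ⟨CfsgLib.OrthDeg.card_core (m := 2) R rfl (by simp; ring), ?_, fun c hc => ?_⟩
    · rw [hcnt 0]
      exact Finset.card_eq_one.2 ⟨0, Finset.ext fun z => by
        simp only [Finset.mem_filter, Finset.mem_univ, true_and, Finset.mem_singleton]
        exact ⟨fun h => Prod.ext (hab _ _ h).1 (hab _ _ h).2, fun h => by simp [h]⟩⟩
    · rw [hcnt c]
      exact CfsgLib.OrthDeg.binary_count hab hc
  intro k ρ hirr hk
  have hb := CfsgLib.OrthDeg.omega_bound (CfsgLib.StdForms.minusQ_nondegenerate (m + 3) hd) (by simp; omega)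
    (CfsgLib.StdForms.coe_minusQ (m + 3) a b) (n := m + 1) R rfl
    (B := CfsgLib.OrthDeg.minusBound (Fintype.card F) m)
    (fun W _ _ _ τ hτ => CfsgLib.OrthDeg.minus_bound m R hm W τ hτ) k ρ hirr hk
  have hq : 2 ≤ Fintype.card F := Fintype.one_lt_card
  have h4 : 0 < Fintype.card F ^ 2 - 1 := by
    have : 4 ≤ Fintype.card F ^ 2 := le_trans (by norm_num) (Nat.pow_le_pow_left hq 2)
    omega
  rw [show m + 4 - 1 = m + 3 from rfl, ← CfsgLib.OrthDeg.minusBound_formula hq m,
    Nat.mul_div_cancel _ h4]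
  exact hb

end Cfsg.Agent.S2346
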