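import Cfsg.Statements.S2347
import Cfsg.Agent.RepBounds.Siegel
import Cfsg.Agent.RepBounds.Perfect
import Cfsg.Agent.RepBounds.Weil
import Cfsg.Agent.Forms4.SymplecticSimple

set_option autoImplicit false
open Cfsg Matrix

namespace Cfsg.Agent.S2347

open CfsgLib.RepBounds CfsgLib.Forms CfsgLib.Forms4 Module

universe u v

theorem bound {F : Type u} [Field F] [Fintype F] {n : ℕ} (hn : 1 ≤ n) (h2 : (2 : F) ≠ 0)
    {V : Type v} [AddCommGroup V] [Module ℂ V] [FiniteDimensional ℂ V]
    (ρ : Representation ℂ (Matrix.symplecticGroup (Fin n) F) V) (hρ : ρ.IsIrreducible)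
    (hk : 2 ≤ finrank ℂ V) : (Fintype.card F ^ n - 1) / 2 ≤ finrank ℂ V := by
  obtain ⟨p, hp⟩ := CharP.exists F
  have : Fact p.Prime := ⟨(CharP.char_is_prime_or_zero F p).resolve_right (CharP.char_ne_zero_of_finite F p)⟩
  obtain ⟨ψ, hψ, -⟩ := exists_frobenius_char F p
  obtain ⟨L, hL0, hL⟩ : ∃ L : Module.Dual F (symMat n F),
      L ≠ 0 ∧ 0 < mult (resChar ρ siegelU) (ψ.compAddMonoidHom L.toAddMonoidHom) := by
    by_contra hall
    push Not at hall
    obtain ⟨g, hg⟩ := exists_ne_one ρ hρ hk
    apply hg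
    have htriv : ∀ S, ρ (siegelU S) = 1 := by
      refine eq_one_of_mult_eq_zero (resChar ρ siegelU) fun χ hχ => ?_
      obtain ⟨L, rfl⟩ := exists_dual hψ χ
      refine Nat.le_zero.mp (hall L fun h0 => hχ ?_)
      ext S
      simp [h0]
    show g ∈ MonoidHom.ker ρ
    rw [normal_eq_top_of_siegel (by omega) (MonoidHom.ker ρ) htriv]
    trivial
  obtain ⟨a, ha⟩ : ∃ a, quadOf L a ≠ 0 := by
    by_contra h
    push Not at h
    exact hL0 (dual_eq_zero h)
  have hpol : polarOf L a a ≠ 0 := by
    have h := quadOf_add L a a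
    rw [← two_smul F a, quadOf_smul] at h
    intro h0
    rw [h0] at h
    have : (2 : F) * quadOf L a = 0 := by linear_combination h
    exact mul_ne_zero h2 ha this
  have h1 := card_formOrbit_le_finrank ρ hψ L hL
  have h3 := card_formOrbit_of_value (F := F) (quadOf L) (polarOf L) (quadOf_add L) (quadOf_smul L) ha hpol
  rw [Module.finrank_fin_fun] at h3
  exact Nat.div_le_of_le_mul (h3.trans (Nat.mul_le_mul_left 2 h1))

theorem weil {F : Type u} [Field F] [Fintype F] {n : ℕ} (hn : 2 ≤ n) (hodd : Odd (Fintype.card F)) :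
    ∃ ρ : Representation ℂ (Matrix.symplecticGroup (Fin n) F) (Fin ((Fintype.card F ^ n - 1) / 2) → ℂ),
      ρ.IsIrreducible := by
  classical
  obtain ⟨p, hp⟩ := CharP.exists F
  have hpp : p.Prime := (CharP.char_is_prime_or_zero F p).resolve_right (CharP.char_ne_zero_of_finite F p)
  have : Fact p.Prime := ⟨hpp⟩
  let _ : Algebra (ZMod p) F := ZMod.algebra F p
  have h2 : (2 : F) ≠ 0 := Ring.two_ne_zero fun h => by
    rw [FiniteField.even_card_iff_char_two] at h
    rw [Nat.odd_iff, h] at hodd
    exact absurd hodd (by omega)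
  let ω : (Fin n ⊕ Fin n → F) → (Fin n ⊕ Fin n → F) → F := Cfsg.sympForm n F
  let T := Algebra.trace (ZMod p) F
  let B : (Fin n ⊕ Fin n → F) →ₗ[ZMod p] (Fin n ⊕ Fin n → F) →ₗ[ZMod p] ZMod p :=
    LinearMap.mk₂ (ZMod p) (fun x z => T (2⁻¹ * ω x z))
      (fun x x' z => by simp only [ω, ← sympBilin_apply, map_add, LinearMap.add_apply, mul_add])
      (fun c x z => by
        simp only [ω, ← sympBilin_apply, ← algebraMap_smul F c x, map_smul, LinearMap.smul_apply, smul_eq_mul]
        rw [mul_left_comm, ← Algebra.smul_def, map_smul, smul_eq_mul])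
      (fun x z z' => by simp only [ω, ← sympBilin_apply, map_add, mul_add])
      (fun c x z => by
        simp only [ω, ← sympBilin_apply, ← algebraMap_smul F c z, map_smul, smul_eq_mul]
        rw [mul_left_comm, ← Algebra.smul_def, map_smul, smul_eq_mul])
  have hBv : ∀ x z, B x z = T (2⁻¹ * ω x z) := fun _ _ => rfl
  let act : Matrix.symplecticGroup (Fin n) F → (Fin n ⊕ Fin n → F) ≃+ (Fin n ⊕ Fin n → F) := fun g =>
    { toFun := fun x => g.1 *ᵥ x
      invFun := fun x => (g⁻¹).1 *ᵥ x
      left_inv := fun x => by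
        simp only [Matrix.mulVec_mulVec, ← Submonoid.coe_mul, inv_mul_cancel, Submonoid.coe_one, Matrix.one_mulVec]
      right_inv := fun x => by
        simp only [Matrix.mulVec_mulVec, ← Submonoid.coe_mul, mul_inv_cancel, Submonoid.coe_one, Matrix.one_mulVec]
      map_add' := fun x z => Matrix.mulVec_add _ _ _ }
  set q := Fintype.card F with hq
  have hqn : Odd (q ^ n) := hodd.pow
  have hq3 : 3 ≤ q := by
    have := Fintype.one_lt_card (α := F)
    rw [Nat.odd_iff] at hodd
    omega
  have h9 : 9 ≤ q ^ n := by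
    have := Nat.pow_le_pow_left hq3 n
    have := Nat.pow_le_pow_right (show 1 ≤ 3 by norm_num) hn
    omega
  obtain ⟨ρ, hρ⟩ := exists_halfRep B
    (fun x hx => by
      refine sympForm_sep x fun v => ?_
      by_contra hne
      obtain ⟨y, hy⟩ : ∃ y, T y ≠ 0 := by
        by_contra h
        push Not at h
        exact Algebra.trace_ne_zero (ZMod p) F (LinearMap.ext h)
      have h := hx ((y / Cfsg.sympForm n F x v) • v)
      rw [hBv, hBv] at h
      simp only [ω, sympForm_smul_right, sympForm_smul_left] at h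
      rw [sympForm_swap v x, ← sub_eq_zero, ← map_sub] at h
      have hne' : Cfsg.sympForm n F v x ≠ 0 := fun h0 => hne (by rw [sympForm_swap, h0, neg_zero])
      apply hy
      rw [← h]
      congr 1
      field_simp
      ring)
    (fun x => by rw [hBv]; simp only [ω, sympForm_self, mul_zero, map_zero])
    act
    (fun g x z => by
      rw [hBv, hBv]
      show T (2⁻¹ * Cfsg.sympForm n F (g.1 *ᵥ x) (g.1 *ᵥ z)) = _
      rw [sympForm_map])
    (fun x => Matrix.one_mulVec x)
    (fun g h x => by show (g * h).1 *ᵥ x = g.1 *ᵥ (h.1 *ᵥ x); rw [Matrix.mulVec_mulVec]; rfl)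
    (fun x z hx hz => CfsgLib.Forms4.exists_mulVec_eq hx hz)
    (d := q ^ n) (b := (q ^ n - 1) / 2)
    (by rw [Fintype.card_fun, Fintype.card_sum, Fintype.card_fin, ← hq, ← pow_mul, mul_two])
    (by rw [Nat.odd_iff] at hqn; omega) (by omega)
  refine ⟨ρ, irreducible_of_bound (CfsgLib.Forms4.commutator_Sp_eq_top (Or.inr (Or.inl ⟨hn, h2⟩))) ρ
    (fun W _ _ _ σ hσ hk => ?_) hρ⟩
  rw [Module.finrank_fin_fun]
  exact bound (by omega) h2 σ hσ hk


/-- Smallest degree of a non-linear irreducible complex representation of the symplectic group Sp_{2n} over a finite field of odd order q, n ≥ 2: every irreducible complex representation of degree at least 2 has degree at least (q^n − 1)/2, and there is an irreducible complex representation of exactly that degree (a Weil representation). -/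
theorem result {F : Type*} [Field F] [Fintype F] [DecidableEq F] (n : ℕ) (hn : 2 ≤ n) (hodd : Odd (Fintype.card F)) :
    (∀ (k : ℕ) (ρ : Representation ℂ (Matrix.symplecticGroup (Fin n) F) (Fin k → ℂ)), ρ.IsIrreducible → 2 ≤ k → (Fintype.card F ^ n - 1) / 2 ≤ k) ∧
    (∃ ρ : Representation ℂ (Matrix.symplecticGroup (Fin n) F) (Fin ((Fintype.card F ^ n - 1) / 2) → ℂ), ρ.IsIrreducible) := by
  refine ⟨fun k ρ hρ hk => ?_, weil hn hodd⟩
  have h2 : (2 : F) ≠ 0 := Ring.two_ne_zero fun h => by
    rw [FiniteField.even_card_iff_char_two] at h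
    rw [Nat.odd_iff, h] at hodd
    exact absurd hodd (by omega)
  have h := bound (by omega) h2 ρ hρ (by rwa [Module.finrank_fin_fun])
  rwa [Module.finrank_fin_fun] at h

end Cfsg.Agent.S2347
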