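import Cfsg.Statements.S2352
import Cfsg.Agent.WordLaws.Embed

set_option autoImplicit false
open Cfsg

namespace Cfsg.Agent.S2352

open CfsgLib.WordLaws

/-- A non-trivial law holds in only finitely many alternating groups: for every non-trivial element w of the free group on countably many generators there is N such that for all n ≥ N some substitution of elements of the alternating group of degree n into w is not the identity. -/
theorem result (w : FreeGroup ℕ) (hw : w ≠ 1) :
    ∃ N : ℕ, ∀ n : ℕ, N ≤ n → ∃ f : ℕ → alternatingGroup (Fin n), FreeGroup.lift f w ≠ 1 := by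
  obtain ⟨N, hN4, hN⟩ := exists_noncentral w hw
  obtain ⟨p, hpN, hp⟩ := Nat.exists_infinite_primes N
  have : Fact p.Prime := ⟨hp⟩
  have hcard : N ≤ Fintype.card (ZMod p) := by rw [ZMod.card]; exact hpN
  refine ⟨Fintype.card (Matrix.SpecialLinearGroup (Fin 2) (ZMod p)), fun n hn => ?_⟩
  obtain ⟨ψ, hψ⟩ := exists_hom_alternating (commutator_SL2 (hN4.trans hcard)) hn
  obtain ⟨f, hf⟩ := hN (ZMod p) hcard _ ψ hψ
  exact ⟨f, fun h => hf (by rw [h]; exact Subgroup.one_mem _)⟩

end Cfsg.Agent.S2352
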