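import Cfsg.Statements.S2355
import Cfsg.Agent.WordLaws.Unitary

set_option autoImplicit false
open Cfsg

namespace Cfsg.Agent.S2355

open CfsgLib.WordLaws Matrix

universe u

section
variable {F : Type} [Field F]

theorem card_GL_le [Fintype F] {ι : Type} [Fintype ι] [DecidableEq ι] {A : Type} [Finite F]
    (φ : A → Matrix ι ι F) (hφ : Function.Injective φ) :
    Nat.card A ≤ Fintype.card F ^ (Fintype.card ι * Fintype.card ι) := by
  refine (Nat.card_le_card_of_injective φ hφ).trans_eq ?_
  change Nat.card (ι → ι → F) = _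
  rw [Nat.card_fun, Nat.card_fun, Nat.card_eq_fintype_card, Nat.card_eq_fintype_card, ← pow_mul]

theorem quotient_law {H G : Type*} [Group H] [Group G] (e : G ≃* H ⧸ Subgroup.center H) {w : FreeGroup ℕ}
    (hlaw : ∀ f : ℕ → G, FreeGroup.lift f w = 1) (f : ℕ → H) :
    FreeGroup.lift f w ∈ Subgroup.center H := by
  have h1 := hlaw fun i => e.symm (QuotientGroup.mk' (Subgroup.center H) (f i))
  have h2 := lift_hom (e.symm.toMonoidHom.comp (QuotientGroup.mk' (Subgroup.center H))) f w
  have h3 : e.symm (QuotientGroup.mk' (Subgroup.center H) (FreeGroup.lift f w)) = 1 := h2.symm.trans h1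
  exact (QuotientGroup.eq_one_iff _).mp (e.symm.injective (h3.trans (map_one _).symm))

theorem exists_hom_GL_perm {S : Type} [Group S] [Fintype S] (hS : commutator S = ⊤) {m : ℕ}
    (hm : Fintype.card S ≤ m) : ∃ θ : S →* GL (Fin m) F, Function.Injective θ := by
  obtain ⟨φ, hφ⟩ := exists_hom_alternating hS hm
  exact ⟨(permGL m F).comp ((alternatingGroup (Fin m)).subtype.comp φ),
    (permGL_injective m F).comp (Subtype.val_injective.comp hφ)⟩

theorem exists_hom_GL_two {m : ℕ} (hm : 2 ≤ m) :
    ∃ θ : SpecialLinearGroup (Fin 2) F →* GL (Fin m) F, Function.Injective θ := by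
  obtain ⟨k, rfl⟩ : ∃ k, m = 2 + k := ⟨m - 2, by omega⟩
  exact ⟨(blockGL k F).comp SpecialLinearGroup.toGL,
    (blockGL_injective k F).comp SpecialLinearGroup.toGL_injective⟩

/-- The key bound: `H` containing the commutators of a hom image of `GL_m`. -/
theorem bound_of_GL [Fintype F] {N p : ℕ} [Fact p.Prime] (hN4 : 4 ≤ N) (hpN : N ≤ p) {m : ℕ} (hm : 2 ≤ m)
    {H : Type} [Group H] {w : FreeGroup ℕ}
    (hN : ∀ (E : Type) [Field E] [Fintype E], N ≤ Fintype.card E →
      ∀ (K : Type) [Group K] (ψ : SpecialLinearGroup (Fin 2) E →* K), Function.Injective ψ →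
        ∃ f : ℕ → K, FreeGroup.lift f w ∉ Subgroup.center K)
    (ι : ∀ (S : Type) [Group S], commutator S = ⊤ → ∀ θ : S →* GL (Fin m) F, Function.Injective θ →
      ∃ ψ : S →* H, Function.Injective ψ)
    (hlaw : ∀ f : ℕ → H, FreeGroup.lift f w ∈ Subgroup.center H) :
    m < Fintype.card (SpecialLinearGroup (Fin 2) (ZMod p)) ∧ Fintype.card F < N := by
  constructor
  · by_contra hle
    push Not at hle
    have hp : N ≤ Fintype.card (ZMod p) := by rw [ZMod.card]; exact hpN
    obtain ⟨θ, hθ⟩ := exists_hom_GL_perm (F := F) (commutator_SL2 (hN4.trans hp)) hle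
    obtain ⟨ψ, hψ⟩ := ι _ (commutator_SL2 (hN4.trans hp)) θ hθ
    obtain ⟨f, hf⟩ := hN (ZMod p) hp H ψ hψ
    exact hf (hlaw f)
  · by_contra hle
    push Not at hle
    obtain ⟨θ, hθ⟩ := exists_hom_GL_two (F := F) hm
    obtain ⟨ψ, hψ⟩ := ι _ (commutator_SL2 (hN4.trans hle)) θ hθ
    obtain ⟨f, hf⟩ := hN F hle H ψ hψ
    exact hf (hlaw f)

theorem exists_hom_Omega {κ : Type} [Fintype κ] [DecidableEq κ] {Q : (κ → F) → F} {S : Type} [Group S]
    (hS : commutator S = ⊤) (ψ : S →* GL κ F) (hψ : Function.Injective ψ)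
    (hQ : ∀ s v, Q ((ψ s : Matrix κ κ F) *ᵥ v) = Q v) :
    ∃ φ : S →* Cfsg.Omega F Q, Function.Injective φ := by
  let χ : S →* Cfsg.isometryGroup F Q := ψ.codRestrict _ fun s u _ => hQ s u
  refine ⟨χ.codRestrict _ fun s => mem_commutator_of_perfect hS χ s, fun a b e => ?_⟩
  exact hψ (congrArg (fun x : Cfsg.Omega F Q => (x.1.1 : GL κ F)) e)

theorem hyperbolic_form {m : ℕ} (g : GL (Fin m) F) (x y : Fin m → F) :
    ((g : Matrix (Fin m) (Fin m) F) *ᵥ x) ⬝ᵥ (((g⁻¹ : GL (Fin m) F) : Matrix (Fin m) (Fin m) F)ᵀ *ᵥ y)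
      = x ⬝ᵥ y := by
  rw [← Matrix.vecMul_transpose (g : Matrix (Fin m) (Fin m) F) x, ← Matrix.dotProduct_mulVec,
    Matrix.mulVec_mulVec, ← Matrix.transpose_mul, ← GeneralLinearGroup.coe_mul, inv_mul_cancel]
  simp

theorem hyperbolic_plus {m : ℕ} (g : GL (Fin m) F) (v : Fin m ⊕ Fin m → F) :
    Cfsg.quadFormPlus m F ((hyperbolicGL m F g : Matrix (Fin m ⊕ Fin m) (Fin m ⊕ Fin m) F) *ᵥ v) =
      Cfsg.quadFormPlus m F v := by
  rw [coe_hyperbolicGL, Matrix.fromBlocks_mulVec]
  simp only [Matrix.zero_mulVec, add_zero, zero_add, Cfsg.quadFormPlus, Sum.elim_inl, Sum.elim_inr]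
  exact hyperbolic_form g _ _

/-- `A ↦ diag(A, 1)`. -/
noncomputable def extendGL (α β : Type) [Fintype α] [DecidableEq α] [Fintype β] [DecidableEq β] :
    GL α F →* GL (α ⊕ β) F :=
  MonoidHom.toHomUnits
    { toFun := fun g => Matrix.fromBlocks (g : Matrix α α F) 0 0 1
      map_one' := by simp
      map_mul' := fun g h => by rw [Matrix.fromBlocks_multiply]; simp }

/-- `A ↦ diag(1, A)`. -/
noncomputable def extendGL' (α β : Type) [Fintype α] [DecidableEq α] [Fintype β] [DecidableEq β] :
    GL α F →* GL (β ⊕ α) F :=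
  MonoidHom.toHomUnits
    { toFun := fun g => Matrix.fromBlocks 1 0 0 (g : Matrix α α F)
      map_one' := by simp
      map_mul' := fun g h => by rw [Matrix.fromBlocks_multiply]; simp }

theorem pow_bound {Q D : ℕ} [Fintype F] (hF : Fintype.card F ≤ Q) (d : ℕ) (hd : d ≤ D) :
    Fintype.card F ^ (d * d) ≤ Q ^ (D * D) := by
  have hQ : 1 ≤ Q := le_trans Fintype.card_pos hF
  exact (Nat.pow_le_pow_left hF _).trans (Nat.pow_le_pow_right hQ (Nat.mul_le_mul hd hd))

end

/-- A non-trivial law is satisfied by only finitely many finite simple groups that are alternating or classical, up to isomorphism: for every non-trivial element w of the free group on countably many generators there is a bound N such that every alternating group of degree ≥ 5 and every simple classical group (linear, symplectic, unitary or orthogonal, in this problem's sense) in which w is a law has order at most N. -/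
theorem result (w : FreeGroup ℕ) (hw : w ≠ 1) :
    ∃ N : ℕ, ∀ (G : Type*) [Group G] [Finite G],
      (Cfsg.IsAlternating G ∨ Cfsg.IsPSL G ∨ Cfsg.IsPSp G ∨ Cfsg.IsPSU G ∨ Cfsg.IsPOmegaOdd G ∨
          Cfsg.IsPOmegaPlus G ∨ Cfsg.IsPOmegaMinus G) →
      (∀ f : ℕ → G, FreeGroup.lift f w = 1) → Nat.card G ≤ N := by
  obtain ⟨N, hN4, hN⟩ := exists_noncentral w hw
  obtain ⟨p, hpN, hp⟩ := Nat.exists_infinite_primes N
  have : Fact p.Prime := ⟨hp⟩
  set M := Fintype.card (SpecialLinearGroup (Fin 2) (ZMod p)) with hM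
  set D := 2 * M + 12 with hD
  refine ⟨((N + 1) ^ 2) ^ (D * D) + (M + 5).factorial, fun G _ _ hG hlaw => ?_⟩
  suffices h : Nat.card G ≤ ((N + 1) ^ 2) ^ (D * D) ∨ Nat.card G ≤ (M + 5).factorial by omega
  have hNQ : N ≤ (N + 1) ^ 2 := by nlinarith
  rcases hG with h | h | h | h | h | h | h
  · obtain ⟨n, hn5, ⟨e⟩⟩ := h
    right
    rcases Nat.lt_or_ge n M with hn | hn
    · rw [Nat.card_congr e.toEquiv]
      refine (Nat.card_le_card_of_injective _ Subtype.val_injective).trans ?_
      rw [Nat.card_perm, Nat.card_fin]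
      exact Nat.factorial_le (by omega)
    · exfalso
      have hp : N ≤ Fintype.card (ZMod p) := by rw [ZMod.card]; exact hpN
      obtain ⟨ψ, hψ⟩ := exists_hom_alternating (commutator_SL2 (hN4.trans hp)) hn
      obtain ⟨f, hf⟩ := hN (ZMod p) hp _ ψ hψ
      apply hf
      have h1 := hlaw fun i => e.symm (f i)
      have h2 : e.symm (FreeGroup.lift f w) = 1 := (lift_hom e.symm.toMonoidHom f w).symm.trans h1
      rw [e.symm.injective (h2.trans (map_one e.symm).symm)]
      exact Subgroup.one_mem _
  · obtain ⟨F, _, _, n, hn, -, ⟨e⟩⟩ := h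
    left
    obtain ⟨h1, h2⟩ := bound_of_GL (F := F) (H := SpecialLinearGroup (Fin n) F) hN4 hpN hn hN
      (fun S _ hS θ hθ => ⟨toSLOfPerfect hS θ, toSLOfPerfect_injective hS θ hθ⟩)
      (quotient_law e hlaw)
    rw [Nat.card_congr e.toEquiv]
    refine (Nat.card_le_card_of_surjective _ (QuotientGroup.mk'_surjective _)).trans ?_
    refine (card_GL_le (fun A : SpecialLinearGroup (Fin n) F => A.1) Subtype.val_injective).trans ?_
    exact pow_bound (by omega) _ (by rw [Fintype.card_fin]; omega)
  · obtain ⟨F, _, _, m, hm, -, ⟨e⟩⟩ := h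
    left
    obtain ⟨h1, h2⟩ := bound_of_GL (F := F) (H := Matrix.symplecticGroup (Fin m) F) hN4 hpN hm hN
      (fun S _ hS θ hθ => by
        refine ⟨{ toFun := fun s => ⟨(hyperbolicGL m F (θ s) :
          Matrix (Fin m ⊕ Fin m) (Fin m ⊕ Fin m) F), ?_⟩, map_one' := ?_, map_mul' := ?_ }, ?_⟩
        · rw [SymplecticGroup.mem_iff, coe_hyperbolicGL, Matrix.fromBlocks_transpose, Matrix.J,
            Matrix.fromBlocks_multiply, Matrix.fromBlocks_multiply]
          simp [← Matrix.transpose_mul, ← GeneralLinearGroup.coe_mul]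
        · exact Subtype.ext (by simp)
        · intro a b; exact Subtype.ext (by simp)
        · intro a b h
          exact hθ (hyperbolicGL_injective m F (Units.ext (congrArg Subtype.val h))))
      (quotient_law e hlaw)
    rw [Nat.card_congr e.toEquiv]
    refine (Nat.card_le_card_of_surjective _ (QuotientGroup.mk'_surjective _)).trans ?_
    refine (card_GL_le (fun A : Matrix.symplecticGroup (Fin m) F => A.1) Subtype.val_injective).trans ?_
    exact pow_bound (by omega) _ (by rw [Fintype.card_sum, Fintype.card_fin]; omega)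
  · obtain ⟨F, _, _, n, q, hF, hn, -, ⟨e⟩⟩ := h
    left
    have hlaw' := quotient_law e hlaw
    have h1 : n < M := by
      by_contra hle
      push Not at hle
      have hp : N ≤ Fintype.card (ZMod p) := by rw [ZMod.card]; exact hpN
      obtain ⟨ψ, hψ⟩ := exists_hom_SU_perm (q := q) (commutator_SL2 (hN4.trans hp)) F hle
      obtain ⟨f, hf⟩ := hN (ZMod p) hp _ ψ hψ
      exact hf (hlaw' f)
    have h2 : q ≤ N := by
      by_contra hle
      push Not at hle
      obtain ⟨E, _, _, hE, ψ, hψ⟩ := exists_hom_SU_two (F := F) (n := n) (by omega) (by omega) hF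
      obtain ⟨f, hf⟩ := hN E (by omega) _ ψ hψ
      exact hf (hlaw' f)
    rw [Nat.card_congr e.toEquiv]
    refine (Nat.card_le_card_of_surjective _ (QuotientGroup.mk'_surjective _)).trans ?_
    refine (card_GL_le (fun A : Cfsg.SU n F q => A.1.1)
      (Subtype.val_injective.comp Subtype.val_injective)).trans ?_
    exact pow_bound (by rw [hF]; exact Nat.pow_le_pow_left (by omega) 2) _
      (by rw [Fintype.card_fin]; omega)
  · obtain ⟨F, _, _, m, hm, -, ⟨e⟩⟩ := h
    left
    obtain ⟨h1, h2⟩ := bound_of_GL (F := F) (H := Cfsg.Omega F (Cfsg.quadFormOdd m F)) (m := m) hN4 hpN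
      (by omega) hN
      (fun S _ hS θ hθ => exists_hom_Omega hS
        ((extendGL' (Fin m ⊕ Fin m) Unit).comp ((hyperbolicGL m F).comp θ))
        (by
          intro a b h
          have h1 := congrArg Units.val h
          simp only [MonoidHom.coe_comp, Function.comp_apply, extendGL', MonoidHom.coe_toHomUnits,
            MonoidHom.coe_mk, OneHom.coe_mk, Matrix.fromBlocks_inj] at h1
          exact hθ (hyperbolicGL_injective m F (Units.ext h1.2.2.2)))
        (fun s v => by
          have h1 := hyperbolic_plus (θ s) (v ∘ Sum.inr)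
          simp only [MonoidHom.coe_comp, Function.comp_apply, extendGL', MonoidHom.coe_toHomUnits,
            MonoidHom.coe_mk, OneHom.coe_mk, Matrix.fromBlocks_mulVec, Matrix.zero_mulVec, add_zero,
            zero_add, Matrix.one_mulVec]
          simp only [Cfsg.quadFormPlus, Cfsg.quadFormOdd, Sum.elim_inl, Sum.elim_inr,
            Function.comp_apply] at h1 ⊢
          rw [h1]))
      (quotient_law e hlaw)
    rw [Nat.card_congr e.toEquiv]
    refine (Nat.card_le_card_of_surjective _ (QuotientGroup.mk'_surjective _)).trans ?_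
    refine (card_GL_le (fun A : Cfsg.Omega F (Cfsg.quadFormOdd m F) => A.1.1.1)
      (Units.val_injective.comp (Subtype.val_injective.comp Subtype.val_injective))).trans ?_
    exact pow_bound (by omega) _
      (by simp only [Fintype.card_sum, Fintype.card_fin, Fintype.card_unit]; omega)
  · obtain ⟨F, _, _, m, hm, ⟨e⟩⟩ := h
    left
    obtain ⟨h1, h2⟩ := bound_of_GL (F := F) (H := Cfsg.Omega F (Cfsg.quadFormPlus m F)) (m := m) hN4 hpN
      (by omega) hN
      (fun S _ hS θ hθ => exists_hom_Omega hS ((hyperbolicGL m F).comp θ)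
        ((hyperbolicGL_injective m F).comp hθ) (fun s v => hyperbolic_plus (θ s) v))
      (quotient_law e hlaw)
    rw [Nat.card_congr e.toEquiv]
    refine (Nat.card_le_card_of_surjective _ (QuotientGroup.mk'_surjective _)).trans ?_
    refine (card_GL_le (fun A : Cfsg.Omega F (Cfsg.quadFormPlus m F) => A.1.1.1)
      (Units.val_injective.comp (Subtype.val_injective.comp Subtype.val_injective))).trans ?_
    exact pow_bound (by omega) _ (by simp only [Fintype.card_sum, Fintype.card_fin]; omega)
  · obtain ⟨F, _, _, m, a, b, hm, -, ⟨e⟩⟩ := h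
    left
    obtain ⟨h1, h2⟩ := bound_of_GL (F := F) (H := Cfsg.Omega F (Cfsg.quadFormMinus (m - 1) F a b))
      (m := m - 1) hN4 hpN (by omega) hN
      (fun S _ hS θ hθ => exists_hom_Omega hS
        ((extendGL (Fin (m - 1) ⊕ Fin (m - 1)) (Fin 2)).comp ((hyperbolicGL (m - 1) F).comp θ))
        (by
          intro a b h
          have h1 := congrArg Units.val h
          simp only [MonoidHom.coe_comp, Function.comp_apply, extendGL, MonoidHom.coe_toHomUnits,
            MonoidHom.coe_mk, OneHom.coe_mk, Matrix.fromBlocks_inj] at h1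
          exact hθ (hyperbolicGL_injective _ F (Units.ext h1.1)))
        (fun s v => by
          have h1 := hyperbolic_plus (θ s) (v ∘ Sum.inl)
          simp only [MonoidHom.coe_comp, Function.comp_apply, extendGL, MonoidHom.coe_toHomUnits,
            MonoidHom.coe_mk, OneHom.coe_mk, Matrix.fromBlocks_mulVec, Matrix.zero_mulVec, add_zero,
            zero_add, Matrix.one_mulVec]
          simp only [Cfsg.quadFormPlus, Cfsg.quadFormMinus, Sum.elim_inl, Sum.elim_inr,
            Function.comp_apply] at h1 ⊢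
          rw [h1]))
      (quotient_law e hlaw)
    rw [Nat.card_congr e.toEquiv]
    refine (Nat.card_le_card_of_surjective _ (QuotientGroup.mk'_surjective _)).trans ?_
    refine (card_GL_le (fun A : Cfsg.Omega F (Cfsg.quadFormMinus (m - 1) F a b) => A.1.1.1)
      (Units.val_injective.comp (Subtype.val_injective.comp Subtype.val_injective))).trans ?_
    exact pow_bound (by omega) _ (by simp only [Fintype.card_sum, Fintype.card_fin]; omega)

end Cfsg.Agent.S2355
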