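import Cfsg.Statements.S2356
import Cfsg.Agent.UThreeInvol.Count

set_option autoImplicit false
open Cfsg

namespace Cfsg.Agent.S2356

/-- Let q be odd, F the field with q² elements, S = SU_3(F) (determinant-one isometries of the standard Hermitian form) and t an involution of S. Then: exactly q(q−1) involutions other than t commute with t; exactly q(q−2)(q²−1) involutions do not commute with t but commute with some involution commuting with t; exactly (q+1)(q²−1) involutions x do not commute with t and admit no involution commuting with both t and x; and every involution can be reached from t in at most three steps, each step going to an involution that commutes with the previous one (the commuting involution graph is connected of diameter 3). -/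
theorem result {F : Type*} [Field F] [Fintype F] {q : ℕ} (hq : Odd q)
    (hF : Fintype.card F = q ^ 2) (t : ↥(Cfsg.SU 3 F q)) (ht : t ≠ 1) (ht2 : t * t = 1) :
    Nat.card {x : ↥(Cfsg.SU 3 F q) // x ≠ 1 ∧ x * x = 1 ∧ x ≠ t ∧ Commute t x} = q * (q - 1) ∧
    Nat.card {x : ↥(Cfsg.SU 3 F q) // x ≠ 1 ∧ x * x = 1 ∧ ¬ Commute t x ∧
        ∃ y : ↥(Cfsg.SU 3 F q), y ≠ 1 ∧ y * y = 1 ∧ Commute t y ∧ Commute y x} = q * (q - 2) * (q ^ 2 - 1) ∧
    Nat.card {x : ↥(Cfsg.SU 3 F q) // x ≠ 1 ∧ x * x = 1 ∧ ¬ Commute t x ∧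
        ∀ y : ↥(Cfsg.SU 3 F q), y ≠ 1 → y * y = 1 → ¬ (Commute t y ∧ Commute y x)} = (q + 1) * (q ^ 2 - 1) ∧
    ∀ x : ↥(Cfsg.SU 3 F q), x ≠ 1 → x * x = 1 →
      ∃ y z : ↥(Cfsg.SU 3 F q), y ≠ 1 ∧ y * y = 1 ∧ z ≠ 1 ∧ z * z = 1 ∧
        Commute t y ∧ Commute y z ∧ Commute z x := by
  obtain ⟨S⟩ := CfsgLib.UThreeInvol.exists_setup hq hF
  have hq3 := S.three_le
  have hsq : 1 ≤ q ^ 2 := by nlinarith
  obtain ⟨v, hv, rfl⟩ := S.exists_eq_rS ht ht2
  refine ⟨?_, ?_, ?_, fun x hx hx2 => S.exists_path ht ht2 hx hx2⟩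
  · have h := S.card_invol_mul (fun x => x ≠ S.rS v ∧ Commute (S.rS v) x)
      (fun w => S.h w v = 0) (fun w hw => ?_)
    · apply Nat.eq_of_mul_eq_mul_left (show 0 < q + 1 by omega)
      rw [h]
      zify [show 1 ≤ q by omega]
      rw [S.card_orth hv]
      ring
    · rw [ne_eq, eq_comm, S.rS_eq_iff hv hw, S.commute_rS_iff hv hw]
      exact ⟨fun h' => h'.2.resolve_right h'.1,
        fun h' => ⟨fun hp => S.h_ne_zero_of_par hv hw hp h', Or.inl h'⟩⟩
  · have h := S.card_invol_mul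
      (fun x => ¬ Commute (S.rS v) x ∧
        ∃ y : ↥(Cfsg.SU 3 F q), y ≠ 1 ∧ y * y = 1 ∧ Commute (S.rS v) y ∧ Commute y x)
      (fun w => S.h w v ≠ 0 ∧ S.h w v * S.h v w ≠ 1) (fun w hw => ?_)
    · apply Nat.eq_of_mul_eq_mul_left (show 0 < q + 1 by omega)
      rw [h]
      zify [show 2 ≤ q by omega, hsq]
      rw [S.card_middle hv]
      ring
    · constructor
      · rintro ⟨hnc, he⟩
        exact ⟨fun h0 => hnc ((S.commute_rS_iff hv hw).2 (Or.inl h0)),
          (S.exists_common_iff hv hw hnc).1 he⟩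
      · rintro ⟨h0, h1⟩
        have hnc : ¬ Commute (S.rS v) (S.rS w) := fun hc =>
          h1 (S.one_of_par hv hw (((S.commute_rS_iff hv hw).1 hc).resolve_left h0))
        exact ⟨hnc, (S.exists_common_iff hv hw hnc).2 h1⟩
  · have h := S.card_invol_mul
      (fun x => ¬ Commute (S.rS v) x ∧
        ∀ y : ↥(Cfsg.SU 3 F q), y ≠ 1 → y * y = 1 → ¬ (Commute (S.rS v) y ∧ Commute y x))
      (fun w => S.h w v * S.h v w = 1 ∧ ¬ CfsgLib.UThreeInvol.Setup.Par v w) (fun w hw => ?_)
    · apply Nat.eq_of_mul_eq_mul_left (show 0 < q + 1 by omega)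
      rw [h]
      zify [hsq]
      rw [S.card_far hv]
      ring
    · constructor
      · rintro ⟨hnc, he⟩
        refine ⟨?_, fun hp => hnc ((S.commute_rS_iff hv hw).2 (Or.inr hp))⟩
        by_contra h1
        obtain ⟨y, y1, y2, y3, y4⟩ := (S.exists_common_iff hv hw hnc).2 h1
        exact he y y1 y2 ⟨y3, y4⟩
      · rintro ⟨h1, hnp⟩
        have hnc : ¬ Commute (S.rS v) (S.rS w) := fun hc => by
          have h0 := ((S.commute_rS_iff hv hw).1 hc).resolve_right hnp
          rw [h0, zero_mul] at h1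
          exact zero_ne_one h1
        exact ⟨hnc, fun y y1 y2 hy =>
          (S.exists_common_iff hv hw hnc).1 ⟨y, y1, y2, hy.1, hy.2⟩ h1⟩

end Cfsg.Agent.S2356
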