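import Cfsg.Statements.S2360
import Cfsg.Agent.UThreeInvol.Count

set_option autoImplicit false
open Cfsg

namespace Cfsg.Agent.S2360

/-- Let q be odd, F the field with q² elements and S = SU_3(F) (determinant-one isometries of the standard Hermitian form). Then all involutions of S are conjugate; there are exactly q²(q²−q+1) of them; the centralizer of an involution has order q(q+1)(q²−1), the order of the full unitary group of degree 2; and for two distinct commuting involutions t and x there is exactly one further involution commuting with both. -/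
theorem result {F : Type*} [Field F] [Fintype F] {q : ℕ} (hq : Odd q)
    (hF : Fintype.card F = q ^ 2) (t : ↥(Cfsg.SU 3 F q)) (ht : t ≠ 1) (ht2 : t * t = 1) :
    (∀ x : ↥(Cfsg.SU 3 F q), x ≠ 1 → x * x = 1 → ∃ g : ↥(Cfsg.SU 3 F q), g * t * g⁻¹ = x) ∧
    Nat.card {x : ↥(Cfsg.SU 3 F q) // x ≠ 1 ∧ x * x = 1} = q ^ 2 * (q ^ 2 - q + 1) ∧
    Nat.card ↥(Subgroup.centralizer ({t} : Set ↥(Cfsg.SU 3 F q))) = q * (q + 1) * (q ^ 2 - 1) ∧
    ∀ x : ↥(Cfsg.SU 3 F q), x ≠ 1 → x * x = 1 → x ≠ t → Commute t x →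
      Nat.card {y : ↥(Cfsg.SU 3 F q) // y ≠ 1 ∧ y * y = 1 ∧ y ≠ t ∧ y ≠ x ∧ Commute t y ∧ Commute x y} = 1 := by
  obtain ⟨S⟩ := CfsgLib.UThreeInvol.exists_setup hq hF
  have hq3 := S.three_le
  have hqq : q ≤ q ^ 2 := by nlinarith
  have hcount : Nat.card {x : ↥(Cfsg.SU 3 F q) // x ≠ 1 ∧ x * x = 1} = q ^ 2 * (q ^ 2 - q + 1) := by
    have h := S.card_invol_mul (fun _ => True) (fun _ => True) (fun _ _ => Iff.rfl)
    simp only [and_true] at h
    rw [S.card_unit_vectors] at h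
    apply Nat.eq_of_mul_eq_mul_left (show 0 < q + 1 by omega)
    rw [h]
    zify [hqq]
    ring
  refine ⟨fun x hx hx2 => S.isConj_of_involutions ht ht2 hx hx2, hcount, ?_, ?_⟩
  · have h := S.card_centralizer_mul ht ht2
    have hSU := CfsgLib.Forms4.card_SU_mul_GU hF (n := 3) (by norm_num)
    rw [CfsgLib.Forms.card_GU hF 3] at hSU
    simp [Finset.sum_range_succ, Finset.prod_range_succ, CfsgLib.Forms.u,
      show ¬ Even 3 by decide] at hSU
    rw [hcount] at h
    apply Nat.eq_of_mul_eq_mul_left (show 0 < (q + 1) * (q ^ 2 * (q ^ 2 - q + 1)) by positivity)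
    rw [mul_assoc, h, hSU]
    zify [hqq, show 1 ≤ q ^ 2 from by nlinarith]
    ring
  · intro x hx hx2 hxt hc
    obtain ⟨v, hv, rfl⟩ := S.exists_eq_rS ht ht2
    obtain ⟨w, hw, rfl⟩ := S.exists_eq_rS hx hx2
    have hwv : S.h w v = 0 := ((S.commute_rS_iff hv hw).1 hc).resolve_right
      fun hp => hxt ((S.rS_eq_iff hv hw).2 hp).symm
    have hvw := S.h_swap_zero hwv
    have hcc : S.h (S.cr v w) (S.cr v w) = 1 := by rw [S.h_cr_cr, hv, hw, hvw]; ring
    refine Nat.card_eq_one_iff_unique.2 ⟨⟨fun a b => ?_⟩, ?_⟩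
    · have key : ∀ y : ↥(Cfsg.SU 3 F q), y ≠ 1 → y * y = 1 → y ≠ S.rS v → y ≠ S.rS w →
          Commute (S.rS v) y → Commute (S.rS w) y → y = S.rS (S.cr v w) := by
        intro y hy hy2 hyt hyx c1 c2
        obtain ⟨u, hu, rfl⟩ := S.exists_eq_rS hy hy2
        have k1 : S.h u v = 0 := ((S.commute_rS_iff hv hu).1 c1).resolve_right
          fun hp => hyt ((S.rS_eq_iff hv hu).2 hp).symm
        have k2 : S.h u w = 0 := ((S.commute_rS_iff hw hu).1 c2).resolve_right
          fun hp => hyx ((S.rS_eq_iff hw hu).2 hp).symm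
        exact ((S.rS_eq_iff hcc hu).2 (S.par_cr hv hw hvw k1 k2)).symm
      obtain ⟨a, a1, a2, a3, a4, a5, a6⟩ := a
      obtain ⟨b, b1, b2, b3, b4, b5, b6⟩ := b
      exact Subtype.ext ((key a a1 a2 a3 a4 a5 a6).trans (key b b1 b2 b3 b4 b5 b6).symm)
    · have n1 : S.h (S.cr v w) v = 0 := S.h_swap_zero (S.h_cr_left v w)
      have n2 : S.h (S.cr v w) w = 0 := S.h_swap_zero (S.h_cr_right v w)
      refine ⟨⟨S.rS (S.cr v w), S.rS_ne_one hcc, S.rS_mul_self hcc, ?_, ?_, ?_, ?_⟩⟩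
      · exact fun e => S.h_ne_zero_of_par hv hcc ((S.rS_eq_iff hv hcc).1 e.symm) n1
      · exact fun e => S.h_ne_zero_of_par hw hcc ((S.rS_eq_iff hw hcc).1 e.symm) n2
      · exact (S.commute_rS_iff hv hcc).2 (Or.inl n1)
      · exact (S.commute_rS_iff hw hcc).2 (Or.inl n2)

end Cfsg.Agent.S2360
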