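import Cfsg.Statements.S2362
import Cfsg.Agent.OrthOrders.Parity
import Cfsg.Agent.Spinor.StdForms
import Cfsg.Agent.Forms.OrthDet
import Cfsg.Agent.SympOrders.Witness
import Cfsg.Agent.Zsigmondy.Basic

set_option autoImplicit false
open Cfsg

namespace Cfsg.Agent.S2362

/-- Let F be a finite field of odd order and n ≥ 3. The simple orthogonal group PΩ(2n+1, F) (type B_n) and the projective symplectic group PSp(2n, F) (type C_n), which have the same order, do not have the same set of element orders. -/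
theorem result {F : Type*} [Field F] [Fintype F] (hodd : Odd (Fintype.card F)) (n : ℕ) (hn : 3 ≤ n) :
    Set.range (orderOf : Cfsg.POmega F (Cfsg.quadFormOdd n F) → ℕ) ≠ Set.range (orderOf : Cfsg.PSp n F → ℕ) := by
  classical
  intro hrange
  obtain ⟨p, hp⟩ := CharP.exists F
  obtain ⟨f, hpp, hq⟩ := FiniteField.card F p
  have : Fact p.Prime := ⟨hpp⟩
  have hp2 : p ≠ 2 := by
    rintro rfl
    rw [hq] at hodd
    exact absurd hodd (Nat.not_odd_iff_even.mpr (Nat.even_pow.mpr ⟨even_two, f.pos.ne'⟩))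
  have h2 : (2 : F) ≠ 0 := Ring.two_ne_zero (by rwa [ringChar.eq F p])
  set q := Fintype.card F with hqdef
  have hq3 : 3 ≤ q := by
    have : 1 < q := Fintype.one_lt_card
    rcases hodd with ⟨c, hc⟩
    omega
  obtain ⟨m, rfl⟩ : ∃ m, n = m + 1 := ⟨n - 1, by omega⟩
  have hpN : p.Coprime (q ^ m + 1) := by
    rw [hpp.coprime_iff_not_dvd, hq, ← Nat.dvd_add_iff_right ((dvd_pow_self p f.pos.ne').trans (dvd_pow_self _ (by omega)))]
    exact hpp.not_dvd_one
  obtain ⟨z, hz⟩ := CfsgLib.SympOrders.exists_torus_plus (F := F) (p := p) (show 1 ≤ m by omega)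
  obtain ⟨x, hxN, hxp⟩ := CfsgLib.SympOrders.exists_block (F := F) (p := p) (l := 1) (t := 1) (show 1 ≤ m by omega)
    le_rfl z hz (fun _ => by simp)
  rw [pow_one] at hxp
  have hxo : p * (q ^ m + 1) ∣ orderOf x := hpN.mul_dvd_of_dvd_of_dvd hxp hxN
  have hmem : p * (q ^ m + 1) ∈ Set.range (orderOf : Cfsg.PSp (m + 1) F → ℕ) :=
    ⟨x ^ (orderOf x / (p * (q ^ m + 1))), orderOf_pow_orderOf_div (orderOf_pos x).ne' hxo⟩
  rw [← hrange] at hmem
  obtain ⟨y, hy⟩ := hmem
  obtain ⟨g, rfl⟩ := QuotientGroup.mk_surjective y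
  have hgd : p * (q ^ m + 1) ∣ orderOf g := hy ▸ orderOf_map_dvd (QuotientGroup.mk' _) g
  set g' := g ^ (orderOf g / (p * (q ^ m + 1))) with hg'
  have hg'o : orderOf g' = p * (q ^ m + 1) := orderOf_pow_orderOf_div (orderOf_pos g).ne' hgd
  obtain ⟨r, hr, hro⟩ := CfsgLib.Zsigmondy.exists_ppd (a := q) (n := 2 * m) (by omega) (by omega)
    (by rintro ⟨h, -⟩; omega) (by rintro ⟨h, -⟩; omega)
  have : Fact r.Prime := ⟨hr⟩
  let Q := CfsgLib.StdForms.oddQ (m + 1) F
  have hQe : ⇑Q = Cfsg.quadFormOdd (m + 1) F := CfsgLib.StdForms.coe_oddQ (m + 1)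
  let Φ : Cfsg.isometryGroup F (Cfsg.quadFormOdd (m + 1) F) →* Module.End F (Unit ⊕ (Fin (m + 1) ⊕ Fin (m + 1)) → F) :=
    (Matrix.toLinAlgEquiv' : Matrix _ _ F ≃ₐ[F] _).toMonoidHom.comp
      ((Units.coeHom _).comp (Cfsg.isometryGroup F (Cfsg.quadFormOdd (m + 1) F)).subtype)
  refine CfsgLib.OrthOrders.not_mem_commutator Φ ?_ Q ?_ ?_ ?_ h2 (show 2 ≤ m by omega) ?_ hro
    (g := g'.1) (by rw [Subgroup.orderOf_coe]; exact hg'o) g'.2
  · intro a b hab
    exact Subtype.ext (Units.ext (Matrix.toLinAlgEquiv'.injective hab))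
  · exact fun v hv => (CfsgLib.StdForms.oddQ_nondegenerate h2 (m + 1)).1 v hv
  · intro a v
    rw [hQe]
    exact a.2 v v
  · intro a ha
    have h1 : (Matrix.toLin' ((a.1 : Matrix.GeneralLinearGroup (Unit ⊕ (Fin (m + 1) ⊕ Fin (m + 1))) F).1)).det = 1 := by
      rw [LinearMap.det_toLin']
      exact congrArg Units.val (Abelianization.commutator_subset_ker
        (Matrix.GeneralLinearGroup.det.comp (Cfsg.isometryGroup F (Cfsg.quadFormOdd (m + 1) F)).subtype) ha)
    exact h1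
  · simp [Module.finrank_fintype_fun_eq_card]
    omega

end Cfsg.Agent.S2362
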