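import Cfsg.Statements.S2364
import Mathlib
import Cfsg.Agent.Linear.Basic

set_option autoImplicit false
open Cfsg

namespace Cfsg.Agent.S2364

open Matrix

/-- A prime not dividing any `q ^ i - 1`, `i ≤ k`, nor `q`, does not divide `|GL_k(q)|`. -/
theorem not_dvd_card_GL {F : Type*} [Field F] [Fintype F] {r k : ℕ} (hr : r.Prime)
    (hq : ¬ r ∣ Fintype.card F) (h : ∀ i, 1 ≤ i → i ≤ k → ¬ r ∣ Fintype.card F ^ i - 1) :
    ¬ r ∣ Nat.card (GL (Fin k) F) := by
  rw [CfsgLib.Linear.card_GL, Fintype.card_fin, CfsgLib.Linear.prod_pow_sub_pow]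
  intro hd
  rcases hr.dvd_mul.1 hd with h1 | h1
  · exact hq (hr.dvd_of_dvd_pow h1)
  · obtain ⟨i, hi, h2⟩ := (hr.prime.dvd_finsetProd_iff _).1 h1
    rw [Finset.mem_range] at hi
    exact h (i + 1) (by omega) (by omega) h2

/-- An endomorphism of `r`-power order of a small space is trivial. -/
theorem eq_one_of_small {F X : Type*} [Field F] [Fintype F] [AddCommGroup X] [Module F X]
    [FiniteDimensional F X] {r e m : ℕ} (hr : r.Prime) (hq : ¬ r ∣ Fintype.card F)
    (h : ∀ i, 1 ≤ i → i ≤ m → ¬ r ∣ Fintype.card F ^ i - 1) (hdim : Module.finrank F X ≤ m)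
    (g : Module.End F X) (hg : g ^ (r ^ e) = 1) : g = 1 := by
  have hu : IsUnit g := IsUnit.of_pow_eq_one hg (pow_ne_zero _ hr.ne_zero)
  obtain ⟨u, rfl⟩ := hu
  let Φ := Units.mapEquiv (algEquivMatrix (Module.finBasis F X)).toMulEquiv
  have h1 : Φ u ^ (r ^ e) = 1 := by
    rw [← map_pow, show u ^ r ^ e = 1 from Units.ext (by simpa using hg), map_one]
  have hcop : (r ^ e).Coprime (Nat.card (GL (Fin (Module.finrank F X)) F)) :=
    Nat.Coprime.pow_left e ((Nat.Prime.coprime_iff_not_dvd hr).2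
      (not_dvd_card_GL hr hq fun i hi hi' => h i hi (hi'.trans hdim)))
  have h2 : Φ u = 1 := orderOf_eq_one_iff.1
    (Nat.eq_one_of_dvd_coprimes hcop (orderOf_dvd_of_pow_eq_one h1) (orderOf_dvd_natCard _))
  rw [map_eq_one_iff Φ Φ.injective] at h2
  rw [h2, Units.val_one]

theorem restrict_pow_eq {F V : Type*} [Field F] [AddCommGroup V] [Module F V] {B : Module.End F V}
    {W : Submodule F V} (hW : ∀ x ∈ W, B x ∈ W) {k : ℕ} (hB : B ^ k = 1) :
    (B.restrict hW) ^ k = 1 := by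
  refine LinearMap.ext fun x => Subtype.ext ?_
  rw [Module.End.pow_restrict (h := hW) k, LinearMap.coe_restrict_apply, hB]
  rfl

/-- An endomorphism of `r`-power order preserving `L ≤ H` with all sections small is trivial. -/
theorem eq_one_of_chain {F V : Type*} [Field F] [Fintype F] [AddCommGroup V] [Module F V]
    [FiniteDimensional F V] {p r e m : ℕ} [Fact p.Prime] [CharP (Module.End F V) p] (hrp : r.Coprime p)
    (hr : r.Prime) (hq : ¬ r ∣ Fintype.card F)
    (h : ∀ i, 1 ≤ i → i ≤ m → ¬ r ∣ Fintype.card F ^ i - 1)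
    (B : Module.End F V) (hB : B ^ (r ^ e) = 1) (L H : Submodule F V) (hLH : L ≤ H)
    (hL : ∀ x ∈ L, B x ∈ L) (hH : ∀ x ∈ H, B x ∈ H) (h1 : Module.finrank F L ≤ m)
    (h2 : Module.finrank F H ≤ m + Module.finrank F L)
    (h3 : Module.finrank F V ≤ m + Module.finrank F H) : B = 1 := by
  have s1 : ∀ x ∈ L, B x = x := fun x hx => congrArg Subtype.val
    (LinearMap.congr_fun (eq_one_of_small hr hq h h1 _ (restrict_pow_eq hL hB)) ⟨x, hx⟩)
  -- the action on `H / L`
  have hmapQ : ∀ (W : Submodule F V) (hW : ∀ x ∈ W, B x ∈ W) (k : ℕ) (x : V),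
      ((W.mapQ W B hW) ^ k) (W.mkQ x) = W.mkQ ((B ^ k) x) := by
    intro W hW k
    induction k with
    | zero => simp
    | succ k ih =>
      intro x
      rw [pow_succ, Module.End.mul_apply, pow_succ, Module.End.mul_apply,
        show (W.mapQ W B hW) (W.mkQ x) = W.mkQ (B x) from rfl, ih]
  have hQ : ∀ (W : Submodule F V) (hW : ∀ x ∈ W, B x ∈ W),
      (W.mapQ W B hW) ^ (r ^ e) = 1 := fun W hW => LinearMap.ext fun y => by
    obtain ⟨x, rfl⟩ := Submodule.mkQ_surjective W y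
    rw [hmapQ, hB]
    rfl
  set B₁ := L.mapQ L B hL
  have hH' : ∀ y ∈ H.map L.mkQ, B₁ y ∈ H.map L.mkQ := by
    rintro _ ⟨x, hx, rfl⟩
    exact ⟨B x, hH x hx, rfl⟩
  have hdim' : Module.finrank F (H.map L.mkQ) ≤ m := by
    have h4 := LinearMap.finrank_range_add_finrank_ker (L.mkQ.domRestrict H)
    rw [LinearMap.range_domRestrict] at h4
    have h5 : LinearMap.ker (L.mkQ.domRestrict H) = L.comap H.subtype := by
      ext x; simp
    rw [h5, (Submodule.comapSubtypeEquivOfLe hLH).finrank_eq] at h4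
    omega
  have s2 : ∀ x ∈ H, B x - x ∈ L := by
    intro x hx
    have := congrArg Subtype.val (LinearMap.congr_fun
      (eq_one_of_small hr hq h hdim' _ (restrict_pow_eq hH' (hQ L hL))) ⟨L.mkQ x, x, hx, rfl⟩)
    exact (Submodule.Quotient.eq L).1 this
  have s3 : ∀ x, B x - x ∈ H := by
    intro x
    have := LinearMap.congr_fun (eq_one_of_small hr hq h
      (show Module.finrank F (V ⧸ H) ≤ m by
        have := H.finrank_quotient_add_finrank
        omega) _ (hQ H hH)) (H.mkQ x)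
    exact (Submodule.Quotient.eq H).1 this
  have hnil : (B - 1) ^ 3 = 0 := by
    refine LinearMap.ext fun x => ?_
    show (B - 1) ((B - 1) ((B - 1) x)) = 0
    have hz : ∀ y ∈ L, (B - 1) y = 0 := fun y hy => sub_eq_zero.2 (s1 y hy)
    exact hz _ (s2 _ (s3 x))
  have hp : B ^ (p ^ 2) = 1 := by
    have h4 : (B - 1) ^ (p ^ 2) = 0 := pow_eq_zero_of_le (by
      have := (Fact.out : p.Prime).two_le
      nlinarith) hnil
    rw [sub_pow_char_pow_of_commute p 2 (Commute.one_right B), one_pow, sub_eq_zero] at h4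
    exact h4
  have := pow_gcd_eq_one.2 ⟨hB, hp⟩
  rwa [Nat.Coprime.pow e 2 hrp, pow_one] at this

/-- Commuting non-trivial unipotent and `r`-element: `r` divides a small `q ^ i - 1`. -/
theorem exists_dvd {F : Type*} [Field F] [Fintype F] {p r e n : ℕ} [Fact p.Prime] [CharP F p]
    (hn : 4 ≤ n) (hr : r.Prime) (hrp : r ≠ p) (hq : ¬ r ∣ Fintype.card F)
    (A B : Module.End F (Fin n → F)) (hA : A ^ p = 1) (hA1 : A ≠ 1) (hB : B ^ (r ^ e) = 1)
    (hB1 : B ≠ 1) (hAB : Commute A B) :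
    ∃ i, 1 ≤ i ∧ i ≤ n - 2 ∧ r ∣ Fintype.card F ^ i - 1 := by
  by_contra hno
  push Not at hno
  have hn0 : Nonempty (Fin n) := ⟨⟨0, by omega⟩⟩
  have : CharP (Module.End F (Fin n → F)) p := charP_of_injective_algebraMap
    (algebraMap F (Module.End F (Fin n → F))).injective p
  set N := A - 1 with hN
  have hNp : N ^ p = 0 := by
    rw [hN, sub_pow_char_of_commute p (Commute.one_right A), hA, one_pow, sub_self]
  have hN0 : N ≠ 0 := sub_ne_zero.2 hA1
  have hNB : Commute N B := hAB.sub_left (Commute.one_left B)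
  set W := LinearMap.ker N
  set U := LinearMap.range N
  have hWi : ∀ x ∈ W, B x ∈ W := fun x hx => by
    rw [LinearMap.mem_ker] at hx ⊢
    rw [← Module.End.mul_apply, hNB.eq, Module.End.mul_apply, hx, map_zero]
  have hUi : ∀ x ∈ U, B x ∈ U := by
    rintro _ ⟨y, rfl⟩
    exact ⟨B y, by rw [← Module.End.mul_apply, hNB.eq, Module.End.mul_apply]⟩
  have hsum : Module.finrank F U + Module.finrank F W = n := by
    rw [LinearMap.finrank_range_add_finrank_ker, Module.finrank_fintype_fun_eq_card, Fintype.card_fin]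
  have hV : Module.finrank F (Fin n → F) = n := by
    rw [Module.finrank_fintype_fun_eq_card, Fintype.card_fin]
  -- a non-zero vector in `W ⊓ U`
  have hex : ∃ x, x ∈ U ∧ x ∈ W ∧ x ≠ 0 := by
    classical
    have hk : ∃ k, N ^ k = 0 := ⟨p, hNp⟩
    have hk2 : 2 ≤ Nat.find hk := by
      by_contra h
      have := Nat.find_spec hk
      rcases Nat.lt_or_ge (Nat.find hk) 1 with h0 | h0
      · rw [show Nat.find hk = 0 by omega, pow_zero] at this
        exact one_ne_zero this
      · rw [show Nat.find hk = 1 by omega, pow_one] at this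
        exact hN0 this
    obtain ⟨j, hj⟩ : ∃ j, Nat.find hk = j + 2 := ⟨Nat.find hk - 2, by omega⟩
    have hne : N ^ (j + 1) ≠ 0 := Nat.find_min hk (by omega)
    obtain ⟨v, hv⟩ : ∃ v, (N ^ (j + 1)) v ≠ 0 := by
      by_contra! h
      exact hne (LinearMap.ext h)
    refine ⟨(N ^ (j + 1)) v, ⟨(N ^ j) v, by rw [← Module.End.mul_apply, ← pow_succ']⟩, ?_, hv⟩
    rw [LinearMap.mem_ker, ← Module.End.mul_apply, ← pow_succ', ← hj, Nat.find_spec hk]
    rfl
  obtain ⟨x, hxU, hxW, hx0⟩ := hex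
  have hU1 : 1 ≤ Module.finrank F U :=
    Submodule.one_le_finrank_iff.2 fun h => hx0 (by rw [h] at hxU; exact (Submodule.mem_bot F).1 hxU)
  have hW1 : 1 ≤ Module.finrank F W :=
    Submodule.one_le_finrank_iff.2 fun h => hx0 (by rw [h] at hxW; exact (Submodule.mem_bot F).1 hxW)
  have hline : ∀ (L H : Submodule F (Fin n → F)), x ∈ L → x ∈ H → Module.finrank F L = 1 →
      L ≤ H := by
    intro L H hL hH h1
    have hxspan : F ∙ x = L := Submodule.eq_of_le_of_finrank_eq
      (by rwa [Submodule.span_singleton_le_iff_mem]) (by rw [finrank_span_singleton hx0, h1])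
    rw [← hxspan]
    rwa [Submodule.span_singleton_le_iff_mem]
  have hcop : r.Coprime p := (Nat.coprime_primes hr Fact.out).2 hrp
  refine hB1 ?_
  by_cases hUs : Module.finrank F U = 1
  · exact eq_one_of_chain hcop hr hq hno B hB U W (hline U W hxU hxW hUs) hUi hWi (by omega)
      (by omega) (by omega)
  by_cases hWs : Module.finrank F W = 1
  · exact eq_one_of_chain hcop hr hq hno B hB W U (hline W U hxW hxU hWs) hWi hUi (by omega)
      (by omega) (by omega)
  exact eq_one_of_chain hcop hr hq hno B hB W W le_rfl hWi hWi (by omega) (by omega) (by omega)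

/-- Let F be a finite field of characteristic p, n ≥ 4, and let a, b be commuting elements of PSL(n, F) with a of order p. Then every prime divisor of the order of b divides the order of SL(n − 2, F). -/
theorem result {F : Type*} [Field F] [Fintype F] (p : ℕ) [Fact p.Prime] [CharP F p] (n : ℕ) (hn : 4 ≤ n)
    (a b : Matrix.ProjectiveSpecialLinearGroup (Fin n) F) (ha : orderOf a = p) (hab : Commute a b) :
    (orderOf b).primeFactors ⊆ (Nat.card (Matrix.SpecialLinearGroup (Fin (n - 2)) F)).primeFactors := by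
  classical
  intro r hr
  rw [Nat.mem_primeFactors] at hr ⊢
  obtain ⟨hrp, hrb, -⟩ := hr
  have : Fact r.Prime := ⟨hrp⟩
  refine ⟨hrp, ?_, Nat.card_pos.ne'⟩
  set q := Fintype.card F with hqdef
  have hq2 : 2 ≤ q := Fintype.one_lt_card
  set m := n - 2
  have : Nonempty (Fin m) := ⟨⟨0, by omega⟩⟩
  have hcard : (q - 1) * Nat.card (Matrix.SpecialLinearGroup (Fin m) F) =
      q ^ (m * (m - 1) / 2) * ∏ i ∈ Finset.range m, (q ^ (i + 1) - 1) := by
    rw [CfsgLib.Linear.card_SL_mul, CfsgLib.Linear.card_GL, Fintype.card_fin,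
      CfsgLib.Linear.prod_pow_sub_pow]
  rw [Finset.prod_range_eq_mul_Ico _ (by omega : 0 < m), pow_one, mul_left_comm] at hcard
  have hSL : Nat.card (Matrix.SpecialLinearGroup (Fin m) F) =
      q ^ (m * (m - 1) / 2) * ∏ i ∈ Finset.Ico 1 m, (q ^ (i + 1) - 1) :=
    Nat.eq_of_mul_eq_mul_left (by omega) hcard
  have hfactor : ∀ i, 1 ≤ i → i ≤ m → r ∣ q ^ i - 1 →
      r ∣ Nat.card (Matrix.SpecialLinearGroup (Fin m) F) := by
    intro i hi hi' hd
    obtain ⟨j, hj2, hjm, hdj⟩ : ∃ j, 2 ≤ j ∧ j ≤ m ∧ r ∣ q ^ j - 1 := by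
      rcases Nat.lt_or_ge i 2 with h | h
      · refine ⟨2, le_rfl, by omega, hd.trans ?_⟩
        rw [show i = 1 by omega]
        exact Nat.pow_sub_one_dvd_pow_sub_one q (one_dvd 2)
      · exact ⟨i, h, hi', hd⟩
    rw [hSL]
    refine Dvd.dvd.mul_left (hdj.trans ?_) _
    have h5 := Finset.dvd_prod_of_mem (fun i => q ^ (i + 1) - 1)
      (Finset.mem_Ico.2 ⟨(by omega : 1 ≤ j - 1), (by omega : j - 1 < m)⟩)
    simpa [show j - 1 + 1 = j by omega] using h5
  by_cases hq : r ∣ q
  · rw [hSL]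
    refine Dvd.dvd.mul_right (hq.trans (dvd_pow_self q ?_)) _
    have h6 : 2 * 1 / 2 ≤ m * (m - 1) / 2 :=
      Nat.div_le_div_right (Nat.mul_le_mul (by omega) (by omega))
    omega
  have hrne : r ≠ p := by
    rintro rfl
    obtain ⟨k, -, hk⟩ := FiniteField.card F r
    exact hq (by rw [hqdef, hk]; exact dvd_pow_self _ k.ne_zero)
  obtain ⟨A, rfl⟩ := QuotientGroup.mk_surjective a
  obtain ⟨B, rfl⟩ := QuotientGroup.mk_surjective b
  set Z := Subgroup.center (Matrix.SpecialLinearGroup (Fin n) F)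
  have : Nonempty (Fin n) := ⟨⟨0, by omega⟩⟩
  have hZ : (Nat.card Z).Coprime p := by
    rw [CfsgLib.Linear.card_center_SL, Nat.coprime_comm, (Fact.out : p.Prime).coprime_iff_not_dvd]
    intro hd
    obtain ⟨k, hpk, hk⟩ := FiniteField.card F p
    have h1 := hd.trans (Nat.gcd_dvd_right _ _)
    have h2 : p ∣ Fintype.card F := by rw [hk]; exact dvd_pow_self _ k.ne_zero
    have h3 := Nat.dvd_sub h2 h1
    rw [show Fintype.card F - (Fintype.card F - 1) = 1 by omega, Nat.dvd_one] at h3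
    exact hpk.ne_one h3
  -- lift of `a` of order `p`
  obtain ⟨A₀, hA₀, hA₀Z⟩ : ∃ A₀ : Matrix.SpecialLinearGroup (Fin n) F, A₀ ^ p = 1 ∧
      (QuotientGroup.mk A₀ : Matrix.ProjectiveSpecialLinearGroup (Fin n) F) =
        (QuotientGroup.mk A : Matrix.ProjectiveSpecialLinearGroup (Fin n) F) := by
    obtain ⟨k, -, hk⟩ := Nat.exists_mul_mod_eq_one_of_coprime hZ (Fact.out : p.Prime).one_lt
    refine ⟨A ^ (Nat.card Z * k), ?_, ?_⟩
    · have h1 : A ^ p ∈ Z := (QuotientGroup.eq_one_iff _).1 (by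
        rw [QuotientGroup.mk_pow, ← ha]
        exact pow_orderOf_eq_one _)
      rw [← pow_mul, mul_comm, pow_mul, pow_mul,
        show (A ^ p) ^ Nat.card Z = 1 from congrArg Subtype.val
          (pow_card_eq_one' (x := (⟨_, h1⟩ : Z))), one_pow]
    · rw [QuotientGroup.mk_pow, ← pow_mod_orderOf, ha, hk, pow_one]
  -- lift of an element of order `r`
  obtain ⟨B₀, e, hB₀, hB₀Z, hB₀c⟩ : ∃ (B₀ : Matrix.SpecialLinearGroup (Fin n) F) (e : ℕ),
      B₀ ^ (r ^ e) = 1 ∧ B₀ ∉ Z ∧
        Commute (QuotientGroup.mk A : Matrix.ProjectiveSpecialLinearGroup (Fin n) F)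
          (QuotientGroup.mk B₀) := by
    refine ⟨B ^ (orderOf B / r ^ (orderOf B).factorization r), (orderOf B).factorization r, ?_, ?_, ?_⟩
    · rw [← pow_mul, Nat.div_mul_cancel (Nat.ordProj_dvd _ _), pow_orderOf_eq_one]
    · intro h
      have h2 : orderOf (QuotientGroup.mk B : Matrix.ProjectiveSpecialLinearGroup (Fin n) F) ∣
          orderOf B / r ^ (orderOf B).factorization r := by
        apply orderOf_dvd_of_pow_eq_one
        rw [← QuotientGroup.mk_pow]
        exact (QuotientGroup.eq_one_iff _).2 h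
      exact Nat.not_dvd_ordCompl hrp (orderOf_pos B).ne' (hrb.trans h2)
    · rw [QuotientGroup.mk_pow]
      exact Commute.pow_right hab _
  -- they commute
  have hcomm : A₀ * B₀ = B₀ * A₀ := by
    have hz : A₀ * B₀ * A₀⁻¹ * B₀⁻¹ ∈ Z := (QuotientGroup.eq_one_iff _).1 (by
      rw [QuotientGroup.mk_mul, QuotientGroup.mk_mul, QuotientGroup.mk_mul, QuotientGroup.mk_inv,
        QuotientGroup.mk_inv, hA₀Z, hB₀c.eq, mul_inv_cancel_right, mul_inv_cancel])
    set z := A₀ * B₀ * A₀⁻¹ * B₀⁻¹ with hzd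
    have hzc : ∀ g : Matrix.SpecialLinearGroup (Fin n) F, Commute z g := fun g =>
      (Subgroup.mem_center_iff.1 hz g).symm
    have h1 : ∀ k : ℕ, A₀ ^ k * B₀ * (A₀ ^ k)⁻¹ = z ^ k * B₀ := by
      intro k
      induction k with
      | zero => simp
      | succ k ih =>
        rw [pow_succ', _root_.mul_inv_rev,
          show A₀ * A₀ ^ k * B₀ * ((A₀ ^ k)⁻¹ * A₀⁻¹) = A₀ * (A₀ ^ k * B₀ * (A₀ ^ k)⁻¹) * A₀⁻¹ by group,
          ih, ← mul_assoc A₀, ((hzc A₀).pow_left k).symm.eq,
          show z ^ k * A₀ * B₀ * A₀⁻¹ = z ^ k * ((A₀ * B₀ * A₀⁻¹ * B₀⁻¹) * B₀) by group,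
          ← hzd, ← mul_assoc, ← pow_succ]
    have h2 := h1 p
    rw [hA₀] at h2
    simp only [one_mul, inv_one, mul_one] at h2
    have h3 : z ^ p = 1 := right_eq_mul.1 h2
    have h4 : z = 1 := orderOf_eq_one_iff.1 (Nat.eq_one_of_dvd_coprimes hZ
      (Subgroup.orderOf_dvd_natCard Z hz) (orderOf_dvd_of_pow_eq_one h3))
    rw [hzd, mul_inv_eq_one, mul_inv_eq_iff_eq_mul] at h4
    exact h4
  let Φ : Matrix.SpecialLinearGroup (Fin n) F →* Module.End F (Fin n → F) :=
    (Matrix.toLinAlgEquiv' (R := F) (n := Fin n)).toMulEquiv.toMonoidHom.comp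
      { toFun := fun g => (g : Matrix (Fin n) (Fin n) F), map_one' := rfl, map_mul' := fun _ _ => rfl }
  have hΦ : Function.Injective Φ :=
    (Matrix.toLinAlgEquiv' (R := F) (n := Fin n)).injective.comp Subtype.val_injective
  obtain ⟨i, hi, hi', hd⟩ := exists_dvd hn hrp hrne hq (Φ A₀) (Φ B₀)
    (by rw [← map_pow, hA₀, map_one])
    (by
      rw [Ne, map_eq_one_iff Φ hΦ]
      intro h
      have h1 := congrArg orderOf hA₀Z
      rw [h, ha, QuotientGroup.mk_one, orderOf_one] at h1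
      exact (Fact.out : p.Prime).ne_one h1.symm)
    (e := e) (by rw [← map_pow, hB₀, map_one])
    (by rw [Ne, map_eq_one_iff Φ hΦ]; exact fun h => hB₀Z (h ▸ one_mem Z))
    (by rw [commute_iff_eq, ← map_mul, ← map_mul, hcomm])
  exact hfactor i hi hi' hd

end Cfsg.Agent.S2364
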