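import Cfsg.Statements.S2365
import Cfsg.Agent.USection.Basic
import Cfsg.Agent.Forms4.UnitaryCenter

set_option autoImplicit false
open Cfsg

namespace Cfsg.Agent.S2365

/-- Lifting a commuting pair modulo a central subgroup of order prime to `p`. -/
theorem exists_lift {G : Type*} [Group G] [Finite G] (Z : Subgroup G) [Z.Normal]
    (hZc : Z ≤ Subgroup.center G) {p r : ℕ} [hp : Fact p.Prime] (hr : r.Prime)
    (hZ : (Nat.card Z).Coprime p) (a b : G ⧸ Z) (ha : orderOf a = p) (hb : r ∣ orderOf b)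
    (hab : Commute a b) :
    ∃ (A B : G) (e : ℕ), A ^ p = 1 ∧ A ∉ Z ∧ B ^ (r ^ e) = 1 ∧ B ∉ Z ∧ Commute A B := by
  obtain ⟨A, rfl⟩ := QuotientGroup.mk_surjective a
  obtain ⟨B, rfl⟩ := QuotientGroup.mk_surjective b
  obtain ⟨A₀, hA₀, hA₀Z⟩ : ∃ A₀ : G, A₀ ^ p = 1 ∧
      (QuotientGroup.mk A₀ : G ⧸ Z) = (QuotientGroup.mk A : G ⧸ Z) := by
    obtain ⟨k, -, hk⟩ := Nat.exists_mul_mod_eq_one_of_coprime hZ hp.out.one_lt
    refine ⟨A ^ (Nat.card Z * k), ?_, ?_⟩
    · have h1 : A ^ p ∈ Z := (QuotientGroup.eq_one_iff _).1 (by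
        rw [QuotientGroup.mk_pow, ← ha]
        exact pow_orderOf_eq_one _)
      rw [← pow_mul, mul_comm, pow_mul, pow_mul,
        show (A ^ p) ^ Nat.card Z = 1 from congrArg Subtype.val
          (pow_card_eq_one' (x := (⟨_, h1⟩ : Z))), one_pow]
    · rw [QuotientGroup.mk_pow, ← pow_mod_orderOf, ha, hk, pow_one]
  set B₀ := B ^ (orderOf B / r ^ (orderOf B).factorization r) with hB₀
  have hB₀c : Commute (QuotientGroup.mk A : G ⧸ Z) (QuotientGroup.mk B₀) := by
    rw [hB₀, QuotientGroup.mk_pow]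
    exact Commute.pow_right hab _
  have hcomm : A₀ * B₀ = B₀ * A₀ := by
    have hz : A₀ * B₀ * A₀⁻¹ * B₀⁻¹ ∈ Z := (QuotientGroup.eq_one_iff _).1 (by
      rw [QuotientGroup.mk_mul, QuotientGroup.mk_mul, QuotientGroup.mk_mul, QuotientGroup.mk_inv,
        QuotientGroup.mk_inv, hA₀Z, hB₀c.eq, mul_inv_cancel_right, mul_inv_cancel])
    set z := A₀ * B₀ * A₀⁻¹ * B₀⁻¹ with hzd
    have hzc : ∀ g : G, Commute z g := fun g => (Subgroup.mem_center_iff.1 (hZc hz) g).symm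
    have h1 : ∀ k : ℕ, A₀ ^ k * B₀ * (A₀ ^ k)⁻¹ = z ^ k * B₀ := by
      intro k
      induction k with
      | zero => simp
      | succ k ih =>
        rw [pow_succ', _root_.mul_inv_rev,
          show A₀ * A₀ ^ k * B₀ * ((A₀ ^ k)⁻¹ * A₀⁻¹) = A₀ * (A₀ ^ k * B₀ * (A₀ ^ k)⁻¹) * A₀⁻¹ by group,
          ih, ← mul_assoc A₀, ((hzc A₀).pow_left k).symm.eq,
          show z ^ k * A₀ * B₀ * A₀⁻¹ = z ^ k * ((A₀ * B₀ * A₀⁻¹ * B₀⁻¹) * B₀) by group,
          ← hzd, ← mul_assoc, ← pow_succ]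
    have h2 := h1 p
    rw [hA₀] at h2
    simp only [one_mul, inv_one, mul_one] at h2
    have h3 : z ^ p = 1 := right_eq_mul.1 h2
    have h4 : z = 1 := orderOf_eq_one_iff.1 (Nat.eq_one_of_dvd_coprimes hZ
      (Subgroup.orderOf_dvd_natCard Z hz) (orderOf_dvd_of_pow_eq_one h3))
    rw [hzd, mul_inv_eq_one, mul_inv_eq_iff_eq_mul] at h4
    exact h4
  refine ⟨A₀, B₀, (orderOf B).factorization r, hA₀, ?_, ?_, ?_, hcomm⟩
  · intro h
    have h1 := congrArg orderOf hA₀Z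
    rw [(QuotientGroup.eq_one_iff _).2 h, ha, orderOf_one] at h1
    exact hp.out.ne_one h1.symm
  · rw [hB₀, ← pow_mul, Nat.div_mul_cancel (Nat.ordProj_dvd _ _), pow_orderOf_eq_one]
  · intro h
    have h2 : orderOf (QuotientGroup.mk B : G ⧸ Z) ∣
        orderOf B / r ^ (orderOf B).factorization r := by
      apply orderOf_dvd_of_pow_eq_one
      rw [← QuotientGroup.mk_pow]
      exact (QuotientGroup.eq_one_iff _).2 h
    exact Nat.not_dvd_ordCompl hr (orderOf_pos B).ne' (hb.trans h2)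

open CfsgLib.Forms in
/-- Let q be a power of the prime p, F the field with q² elements, m ≥ 4, and let a, b be commuting elements of PSU(m, q) with a of order p. Then every prime divisor of the order of b divides the order of SU(m − 2, q). -/
theorem result {F : Type*} [Field F] [Fintype F] (p : ℕ) [Fact p.Prime] [CharP F p] (m q : ℕ) (hm : 4 ≤ m) (hF : Fintype.card F = q ^ 2)
    (a b : Cfsg.PSU m F q) (ha : orderOf a = p) (hab : Commute a b) :
    (orderOf b).primeFactors ⊆ (Nat.card ↥(Cfsg.SU (m - 2) F q)).primeFactors := by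
  classical
  intro r hr
  rw [Nat.mem_primeFactors] at hr ⊢
  obtain ⟨hrp, hrb, -⟩ := hr
  refine ⟨hrp, ?_, Nat.card_pos.ne'⟩
  by_contra hcon
  have hq2 := two_le_q hF
  obtain ⟨n, hn⟩ : ∃ n, m - 2 = n + 2 := ⟨m - 4, by omega⟩
  have hcardSU : Nat.card ↥(Cfsg.SU (m - 2) F q) =
      q ^ (∑ i ∈ Finset.range (m - 2), i) * ∏ i ∈ Finset.range (n + 1), u q (i + 2) := by
    have h := CfsgLib.Forms4.card_SU_mul_GU hF (n := m - 2) (by omega)
    rw [card_GU hF, hn, Finset.prod_range_succ'] at h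
    rw [hn]
    apply Nat.eq_of_mul_eq_mul_left (show 0 < q + 1 by omega)
    rw [h, show u q (0 + 1) = q + 1 by simp [u]]
    ring
  rw [hcardSU] at hcon
  have hrq : ¬ r ∣ q := by
    intro h
    refine hcon (Dvd.dvd.mul_right (h.trans (dvd_pow_self q ?_)) _)
    rw [hn, Finset.sum_range_succ]
    omega
  have hno : ∀ i, 1 ≤ i → i ≤ m - 2 → ¬ r ∣ u q i := by
    intro i hi hi' hd
    obtain ⟨j, hj2, hjm, hdj⟩ : ∃ j, 2 ≤ j ∧ j ≤ m - 2 ∧ r ∣ u q j := by
      rcases Nat.lt_or_ge i 2 with h | h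
      · refine ⟨2, le_rfl, by omega, hd.trans ?_⟩
        rw [show i = 1 by omega]
        refine ⟨q - 1, ?_⟩
        simp [u]
        rw [← Nat.sq_sub_sq q 1, one_pow]
      · exact ⟨i, h, hi', hd⟩
    refine hcon (Dvd.dvd.mul_left (hdj.trans ?_) _)
    have h5 := Finset.dvd_prod_of_mem (fun i => u q (i + 2))
      (Finset.mem_range.2 (show j - 2 < n + 1 by omega))
    simpa [show j - 2 + 2 = j by omega] using h5
  have hpq : p ∣ q := by
    obtain ⟨k, hp, hk⟩ := FiniteField.card F p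
    exact hp.dvd_of_dvd_pow (hF ▸ hk ▸ dvd_pow_self p k.ne_zero)
  have hrne : r ≠ p := fun h => hrq (h ▸ hpq)
  have hZ : (Nat.card (Subgroup.center (Cfsg.SU m F q))).Coprime p := by
    rw [CfsgLib.Forms4.card_center_SU hF (by omega), Nat.coprime_comm,
      (Fact.out : p.Prime).coprime_iff_not_dvd]
    intro hd
    have h3 := Nat.dvd_sub (hd.trans (Nat.gcd_dvd_right _ _)) hpq
    rw [show q + 1 - q = 1 by omega, Nat.dvd_one] at h3
    exact (Fact.out : p.Prime).ne_one h3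
  obtain ⟨σ, hσ, hσ2⟩ := CfsgLib.FieldEmb.exists_conj hF
  obtain ⟨A₀, B₀, e, hA, hA1, hB, hB1, hAB⟩ :=
    exists_lift (Subgroup.center (Cfsg.SU m F q)) le_rfl hrp hZ a b ha hrb hab
  let Φ : ↥(Cfsg.SU m F q) →* Module.End F (Fin m → F) :=
    ((Matrix.toLinAlgEquiv' (R := F) (n := Fin m)).toMulEquiv.toMonoidHom.comp
      ({ toFun := fun g => (g : Matrix (Fin m) (Fin m) F), map_one' := rfl, map_mul' := fun _ _ => rfl } :
        Matrix.SpecialLinearGroup (Fin m) F →* Matrix (Fin m) (Fin m) F)).comp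
      (Cfsg.SU m F q).subtype
  have hΦ : Function.Injective Φ :=
    ((Matrix.toLinAlgEquiv' (R := F) (n := Fin m)).injective.comp Subtype.val_injective).comp
      Subtype.val_injective
  have hpres : ∀ (g : ↥(Cfsg.SU m F q)) x y,
      hermSesq σ m (Φ g x) (Φ g y) = hermSesq σ m x y := by
    intro g x y
    rw [← hermForm_eq_hermSesq hσ, ← hermForm_eq_hermSesq hσ]
    exact CfsgLib.Forms4.mem_SU_iff.1 g.2 y x
  have hone := CfsgLib.USection.eq_one_of_commute_unipotent (p := p) (e := e) hF hσ hσ2 hrp hrne hrq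
    hm (Module.finrank_fin_fun F) hno (hermSesq σ m) (hermSesq_isSymm hσ2 m).eq (hermSesq_sep m)
    (Φ A₀) (Φ B₀) (by rw [← map_pow, hA, map_one])
    (by rw [Ne, map_eq_one_iff Φ hΦ]; exact fun h => hA1 (h ▸ one_mem _))
    (hpres A₀) (by rw [← map_pow, hB, map_one]) (hpres B₀) (hAB.map Φ)
  rw [map_eq_one_iff Φ hΦ] at hone
  exact hB1 (hone ▸ one_mem _)

end Cfsg.Agent.S2365
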