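import Cfsg.Statements.S2366
import Cfsg.Agent.UnitOrders.Three

set_option autoImplicit false
open Cfsg

namespace Cfsg.Agent.S2366

open Matrix Polynomial in
/-- The four maximal element orders. -/
theorem exists_four {F : Type*} [Field F] [Fintype F] {q p a : ℕ} [Fact p.Prime] [CharP F p]
    {τ : F →+* F} (hτ : ∀ x, τ x = x ^ q) (hF : Fintype.card F = q ^ 2) (hq : q = p ^ a) (hq1 : 1 < q)
    (hp3 : 3 ≤ p) :
    (∃ g : Cfsg.PSU 3 F q, q + 1 ∣ orderOf g) ∧
    (∃ g : Cfsg.PSU 3 F q, p * ((q + 1) / Nat.gcd 3 (q + 1)) ∣ orderOf g) ∧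
    (∃ g : Cfsg.PSU 3 F q, (q ^ 2 - 1) / Nat.gcd 3 (q + 1) ∣ orderOf g) ∧
    (∃ g : Cfsg.PSU 3 F q, CfsgLib.UnitOrders.singerM 3 q ∣ orderOf g) := by
  classical
  have hp : p.Prime := Fact.out
  have hττ : ∀ x, τ (τ x) = x := fun x => by
    rw [hτ, hτ, ← pow_mul, ← sq, ← hF, FiniteField.pow_card]
  obtain ⟨xu, hxu⟩ := IsCyclic.exists_ofOrder_eq_natCard (α := Fˣ)
  rw [Nat.card_units, Nat.card_eq_fintype_card, hF] at hxu
  set x : F := (xu : F) with hxdef
  have hxord : ∀ k, x ^ k = 1 → q ^ 2 - 1 ∣ k := fun k hk => by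
    rw [← hxu]
    refine orderOf_dvd_of_pow_eq_one (Units.ext ?_)
    rw [Units.val_pow_eq_pow_val, ← hxdef, hk, Units.val_one]
  have hx0 : x ≠ 0 := Units.ne_zero xu
  have hfac : q ^ 2 - 1 = (q + 1) * (q - 1) := by rw [← Nat.sq_sub_sq, one_pow]
  have hxQ : x ^ (q ^ 2 - 1) = 1 := by rw [← hF]; exact FiniteField.pow_card_sub_one_eq_one x hx0
  -- an element of norm one of order `q + 1`
  set w := x ^ (q - 1) with hwdef
  have hw1 : w ^ (q + 1) = 1 := by rw [hwdef, ← pow_mul, mul_comm, ← hfac, hxQ]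
  have hw0 : w ≠ 0 := pow_ne_zero _ hx0
  have hwu : τ w * w = 1 := by rw [hτ, ← pow_succ, hw1]
  have hwu' : τ w⁻¹ * w⁻¹ = 1 := by rw [map_inv₀, ← mul_inv, hwu, inv_one]
  have hword : ∀ k, w ^ k = 1 → q + 1 ∣ k := fun k hk => by
    rw [hwdef, ← pow_mul] at hk
    have := hxord _ hk
    rw [hfac, mul_comm (q - 1)] at this
    exact Nat.dvd_of_mul_dvd_mul_right (by omega) this
  have hne : τ ≠ RingHom.id F := by
    intro h
    have h1 : x ^ q = x := by rw [← hτ, h]; rfl
    have h2 : x ^ (q - 1) = 1 := mul_right_cancel₀ hx0 (by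
      rw [← pow_succ, Nat.sub_add_cancel hq1.le, h1, one_mul])
    have h3 := Nat.le_of_dvd (by omega) (hxord _ h2)
    have h4 : q * 2 ≤ q ^ 2 := by rw [sq]; exact Nat.mul_le_mul_left _ hq1
    omega
  have hn3 : (3 : ℕ) ≤ 3 := le_rfl
  -- reading off a diagonal scalar
  have hd := gcd_three_dvd' q
  refine ⟨?_, ?_, ?_, ?_⟩
  · obtain ⟨g, hg, -, -⟩ := CfsgLib.UnitOrders.exists_element hτ hττ hne hF hn3 (Fintype.card_fin 3)
      (1 : Matrix (Fin 3) (Fin 3) F) (diagonal ![w, w⁻¹, 1]) (CfsgLib.UnitOrders.uAdj_one τ) (by simp)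
      (by simp [det_diagonal, Fin.prod_univ_three, hw0]) (by
        rw [mul_one, CfsgLib.UnitOrders.uAdj, diagonal_map (map_zero τ), diagonal_transpose,
          diagonal_mul_diagonal, ← diagonal_one]
        congr 1
        funext i
        fin_cases i
        · exact hwu
        · exact hwu'
        · simp)
    refine ⟨QuotientGroup.mk g, ?_⟩
    obtain ⟨c, hc, -⟩ := hg _ (pow_orderOf_eq_one _)
    rw [diagonal_pow, smul_one_eq_diagonal] at hc
    have h0 := congrFun (diagonal_injective hc) 0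
    have h2 := congrFun (diagonal_injective hc) 2
    simp at h0 h2
    exact hword _ (h0.trans h2.symm)
  · obtain ⟨y, hy⟩ : ∃ y, τ y ≠ y := by
      by_contra h
      exact hne (RingHom.ext fun z => not_not.1 fun hz => h ⟨z, hz⟩)
    set t := y - τ y with htdef
    have ht0 : t ≠ 0 := sub_ne_zero.mpr (Ne.symm hy)
    have htt : τ t = -t := by rw [htdef, map_sub, hττ, neg_sub]
    set H : Matrix (Fin 3) (Fin 3) F := !![0, 1, 0; 1, 0, 0; 0, 0, 1] with hH
    set U : Matrix (Fin 3) (Fin 3) F := !![1, t, 0; 0, 1, 0; 0, 0, 1] with hU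
    set D : Matrix (Fin 3) (Fin 3) F := diagonal ![w, w, (w⁻¹) ^ 2] with hD
    have hUD : Commute U D := by
      rw [hU, hD]
      ext i j
      fin_cases i <;> fin_cases j <;> simp [mul_apply, Fin.sum_univ_three, mul_comm]
    have hUk : ∀ k : ℕ, U ^ k = !![1, (k : F) * t, 0; 0, 1, 0; 0, 0, 1] := by
      intro k
      induction k with
      | zero => ext i j; fin_cases i <;> fin_cases j <;> simp
      | succ k ih =>
        rw [pow_succ, ih, hU]
        ext i j
        fin_cases i <;> fin_cases j <;> simp [mul_apply, Fin.sum_univ_three, add_mul, add_comm]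
    have hUH : CfsgLib.UnitOrders.uAdj τ U * H * U = H := by
      rw [hU, hH]
      ext i j
      fin_cases i <;> fin_cases j <;>
        simp [CfsgLib.UnitOrders.uAdj, mul_apply, Fin.sum_univ_three, htt]
    have hDH : CfsgLib.UnitOrders.uAdj τ D * H * D = H := by
      have h3 : τ (w⁻¹ ^ 2) * w⁻¹ ^ 2 = 1 := by rw [map_pow, ← mul_pow, hwu', one_pow]
      rw [hD, hH]
      ext i j
      fin_cases i <;> fin_cases j <;>
        simp [CfsgLib.UnitOrders.uAdj, mul_apply, Fin.sum_univ_three] <;>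
        first
          | exact hwu
          | simpa using h3
    obtain ⟨g, hg, -, -⟩ := CfsgLib.UnitOrders.exists_element hτ hττ hne hF hn3 (Fintype.card_fin 3)
      H (U * D) (by ext i j; fin_cases i <;> fin_cases j <;> simp [hH, CfsgLib.UnitOrders.uAdj])
      (by simp [hH, det_fin_three]) (by
        rw [det_mul, hU, hD, det_diagonal, det_fin_three, Fin.prod_univ_three]
        simp
        field_simp) (by
        rw [CfsgLib.UnitOrders.uAdj_mul]
        calc CfsgLib.UnitOrders.uAdj τ D * CfsgLib.UnitOrders.uAdj τ U * H * (U * D)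
            = CfsgLib.UnitOrders.uAdj τ D * (CfsgLib.UnitOrders.uAdj τ U * H * U) * D := by
              simp only [mul_assoc]
          _ = H := by rw [hUH, hDH])
    refine ⟨QuotientGroup.mk g, ?_⟩
    set o := orderOf (QuotientGroup.mk g : Cfsg.PSU 3 F q)
    obtain ⟨c, hc, -⟩ := hg o (pow_orderOf_eq_one _)
    rw [hUD.mul_pow, hUk, hD, diagonal_pow] at hc
    have h01 := congrFun (congrFun hc 0) 1
    have h00 := congrFun (congrFun hc 0) 0
    have h22 := congrFun (congrFun hc 2) 2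
    simp [mul_apply, Fin.sum_univ_three] at h01 h00 h22
    have hwo : w ^ o ≠ 0 := pow_ne_zero _ hw0
    have hpo : p ∣ o := by
      rw [← CharP.cast_eq_zero_iff F p]
      rcases h01 with (h | h) | h
      · exact h
      · exact absurd h ht0
      · exact absurd h.1 hw0
    have hm : (q + 1) / Nat.gcd 3 (q + 1) ∣ o := by
      have h3 : w ^ (o * 3) = 1 := by
        have : (w ^ 2) ^ o * w ^ o = 1 := by
          nth_rw 1 [h00.trans h22.symm]
          exact mul_inv_cancel₀ (pow_ne_zero _ (pow_ne_zero _ hw0))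
        calc w ^ (o * 3) = (w ^ 2) ^ o * w ^ o := by ring
          _ = 1 := this
      have h4 := hword _ h3
      have h5 : q + 1 ∣ o * Nat.gcd 3 (q + 1) := by
        rw [← Nat.gcd_mul_left]
        exact Nat.dvd_gcd h4 (dvd_mul_left _ _)
      exact (Nat.div_dvd_iff_dvd_mul hd.1 (Nat.gcd_pos_of_pos_left _ (by omega))).mpr
        (by rwa [mul_comm])
    refine Nat.Coprime.mul_dvd_of_dvd_of_dvd ?_ hpo hm
    rw [hp.coprime_iff_not_dvd]
    intro h
    have h6 : p ∣ q + 1 := h.trans (Nat.div_dvd_of_dvd hd.1)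
    have h7 : p ∣ q := by
      rcases Nat.eq_zero_or_pos a with rfl | ha
      · simp at hq; omega
      · exact hq ▸ dvd_pow_self p (by omega)
    exact hp.not_dvd_one ((Nat.dvd_add_right h7).mp h6)
  · set H : Matrix (Fin 3) (Fin 3) F := !![0, 1, 0; 1, 0, 0; 0, 0, 1] with hH
    have hxx : τ x * (x⁻¹) ^ q = 1 := by rw [hτ, ← mul_pow, mul_inv_cancel₀ hx0, one_pow]
    have hxx' : τ ((x⁻¹) ^ q) * x = 1 := by
      rw [hτ, ← pow_mul, ← sq, inv_pow, ← hF, FiniteField.pow_card, inv_mul_cancel₀ hx0]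
    obtain ⟨g, hg, -, -⟩ := CfsgLib.UnitOrders.exists_element hτ hττ hne hF hn3 (Fintype.card_fin 3)
      H (diagonal ![x, (x⁻¹) ^ q, w])
      (by ext i j; fin_cases i <;> fin_cases j <;> simp [hH, CfsgLib.UnitOrders.uAdj])
      (by simp [hH, det_fin_three]) (by
        rw [det_diagonal, Fin.prod_univ_three]
        simp [hwdef]
        rw [mul_comm x, mul_assoc, ← pow_succ', Nat.sub_add_cancel hq1.le,
          inv_mul_cancel₀ (pow_ne_zero _ hx0)]) (by
        rw [hH]
        ext i j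
        fin_cases i <;> fin_cases j <;>
          simp [CfsgLib.UnitOrders.uAdj, mul_apply, Fin.sum_univ_three] <;>
          first
            | exact hwu
            | simpa using hxx
            | simpa using hxx')
    refine ⟨QuotientGroup.mk g, ?_⟩
    set o := orderOf (QuotientGroup.mk g : Cfsg.PSU 3 F q)
    obtain ⟨c, hc, -⟩ := hg o (pow_orderOf_eq_one _)
    rw [diagonal_pow, smul_one_eq_diagonal] at hc
    have h0 := congrFun (diagonal_injective hc) 0
    have h1 := congrFun (diagonal_injective hc) 1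
    have h2 := congrFun (diagonal_injective hc) 2
    simp [hwdef] at h0 h1 h2
    have e1 : x ^ (o * (q + 1)) = 1 := by
      have h3 : x ^ o * (x ^ q) ^ o = 1 := by
        have h4 := h0.trans h1.symm
        rw [h4]
        exact inv_mul_cancel₀ (pow_ne_zero _ (pow_ne_zero _ hx0))
      rw [← h3, ← pow_mul, ← pow_add]
      congr 1
      ring
    have e2 : x ^ (o * (q - 2)) = 1 := by
      refine mul_left_cancel₀ (pow_ne_zero o hx0) ?_
      rw [mul_one, ← pow_add]
      conv_rhs => rw [h0.trans h2.symm, ← pow_mul]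
      congr 1
      have hp' : p ≤ q := by
        rcases Nat.eq_zero_or_pos a with rfl | ha
        · simp at hq; omega
        · exact hq ▸ Nat.le_self_pow (by omega) p
      obtain ⟨r, hr⟩ : ∃ r, q = r + 2 := ⟨q - 2, by omega⟩
      rw [hr, Nat.add_sub_cancel, show r + 2 - 1 = r + 1 by omega]
      ring
    have h5 := Nat.dvd_gcd (hxord _ e1) (hxord _ e2)
    rw [Nat.gcd_mul_left] at h5
    have h6 : q ^ 2 - 1 ∣ o * Nat.gcd 3 (q + 1) := by
      refine h5.trans (mul_dvd_mul_left _ (Nat.dvd_gcd ?_ (Nat.gcd_dvd_left _ _)))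
      have := Nat.dvd_sub (Nat.gcd_dvd_left (q + 1) (q - 2)) (Nat.gcd_dvd_right (q + 1) (q - 2))
      rcases Nat.eq_zero_or_pos a with rfl | ha
      · simp at hq; omega
      have hp' : p ≤ q := hq ▸ Nat.le_self_pow (by omega) p
      rwa [show q + 1 - (q - 2) = 3 by omega] at this
    exact (Nat.div_dvd_iff_dvd_mul (hd.1.trans ⟨q - 1, hfac⟩)
      (Nat.gcd_pos_of_pos_left _ (by omega))).mpr (by rwa [mul_comm])
  · obtain ⟨g, hg⟩ := CfsgLib.UnitOrders.exists_singer_odd hτ hττ hne hF hq hq1 hn3 (by decide)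
    exact ⟨_, hg⟩
where
  gcd_three_dvd' (q : ℕ) : Nat.gcd 3 (q + 1) ∣ q + 1 ∧ Nat.gcd 3 (q + 1) ∣ 3 :=
    CfsgLib.UnitOrders.gcd_three_dvd q

/-- The set of element orders of PSU(3, q) for an odd prime power q = p^n: writing d = gcd(3, q + 1), a positive integer is the order of some element exactly when it divides one of q + 1, p(q + 1)/d, (q² − 1)/d, (q² − q + 1)/d. -/
theorem result {F : Type*} [Field F] [Fintype F] (p : ℕ) [Fact p.Prime] [CharP F p] (hp : p ≠ 2) (q : ℕ) (hF : Fintype.card F = q ^ 2) :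
    Set.range (orderOf : Cfsg.PSU 3 F q → ℕ) =
      {s : ℕ | s ∣ q + 1} ∪ {s : ℕ | s ∣ p * (q + 1) / Nat.gcd 3 (q + 1)} ∪
        {s : ℕ | s ∣ (q ^ 2 - 1) / Nat.gcd 3 (q + 1)} ∪ {s : ℕ | s ∣ (q ^ 2 - q + 1) / Nat.gcd 3 (q + 1)} := by
  classical
  have hp3 : 3 ≤ p := by
    have := (Fact.out : p.Prime).two_le
    omega
  obtain ⟨m, hpr, hm⟩ := FiniteField.card F p
  obtain ⟨a, -, ha⟩ := (Nat.dvd_prime_pow hpr).mp
    (show q ∣ p ^ (m : ℕ) by rw [← hm, hF]; exact dvd_pow_self q two_ne_zero)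
  have hq1 : 1 < q := by
    have h1 : 1 < q ^ 2 := hF ▸ Fintype.one_lt_card
    by_contra h
    have : q ^ 2 ≤ 1 ^ 2 := Nat.pow_le_pow_left (by omega) 2
    omega
  let τ : F →+* F := iterateFrobenius F p a
  have hτ : ∀ x, τ x = x ^ q := fun x => by simp [τ, iterateFrobenius_def, ha]
  have hdd : Nat.gcd 3 (q + 1) ∣ q + 1 := Nat.gcd_dvd_right _ _
  rw [← CfsgLib.UnitOrders.singerM_three hq1, Nat.mul_div_assoc p hdd]
  obtain ⟨⟨g1, h1⟩, ⟨g2, h2⟩, ⟨g3, h3⟩, ⟨g4, h4⟩⟩ := exists_four hτ hF ha hq1 hp3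
  have hfin : Finite (Cfsg.PSU 3 F q) := inferInstance
  have hdiv : ∀ {g : Cfsg.PSU 3 F q} {k s : ℕ}, k ∣ orderOf g → s ∣ k →
      s ∈ Set.range (orderOf : Cfsg.PSU 3 F q → ℕ) := fun {g k s} hk hs =>
    ⟨g ^ (orderOf g / s), orderOf_pow_orderOf_div (orderOf_pos g).ne' (hs.trans hk)⟩
  ext s
  simp only [Set.mem_union, Set.mem_ofPred_eq]
  constructor
  · rintro ⟨x, rfl⟩
    obtain ⟨g, rfl⟩ := QuotientGroup.mk_surjective x
    rcases CfsgLib.UnitOrders.three_cases hτ hF ha hq1 hp3 g with h | h | h | h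
    · exact Or.inl (Or.inl (Or.inl h))
    · exact Or.inl (Or.inl (Or.inr h))
    · exact Or.inl (Or.inr h)
    · exact Or.inr h
  · rintro (((h | h) | h) | h)
    · exact hdiv h1 h
    · exact hdiv h2 h
    · exact hdiv h3 h
    · exact hdiv h4 h

end Cfsg.Agent.S2366
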