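import Cfsg.Statements.S2367


set_option autoImplicit false
open Cfsg

namespace Cfsg.Agent.S2367

def smallPrimes : List ℕ := [3, 5, 7, 11, 13, 17, 19, 23, 29, 31, 37, 41, 43, 47, 59, 67, 71]

def Good (n : ℕ) : Prop :=
  n ≠ 0 ∧ n ∣ (2 * smallPrimes.prod) ^ 50 ∧
    ∀ q ∈ smallPrimes, q ^ 3 ∣ n → ¬ q ^ 4 ∣ n → ∃ k < 60, 2 ^ k ∣ n ∧ q ^ 3 < 2 ^ k

instance instDecidableGood (n : ℕ) : Decidable (Good n) := by unfold Good; infer_instance

theorem smallPrimes_prime : ∀ q ∈ smallPrimes, q.Prime := by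
  intro q hq
  simp [smallPrimes] at hq
  rcases hq with rfl|rfl|rfl|rfl|rfl|rfl|rfl|rfl|rfl|rfl|rfl|rfl|rfl|rfl|rfl|rfl|rfl <;> norm_num

theorem of_good {n p : ℕ} (hn : Good n) (hp : p.Prime) (hodd : p ≠ 2) (h3 : n.factorization p = 3) :
    p ^ 3 < 2 ^ n.factorization 2 := by
  obtain ⟨hn0, hdvd, hall⟩ := hn
  have hp3 : p ^ 3 ∣ n := (hp.pow_dvd_iff_le_factorization hn0).mpr h3.ge
  have hp4 : ¬ p ^ 4 ∣ n := fun h => by
    have := (hp.pow_dvd_iff_le_factorization hn0).mp h; omega
  have hpd : p ∣ 2 * smallPrimes.prod :=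
    hp.dvd_of_dvd_pow (((dvd_pow_self p (by norm_num)).trans hp3).trans hdvd)
  have hmem : p ∈ smallPrimes := by
    rcases hp.dvd_mul.mp hpd with h | h
    · exact absurd ((Nat.prime_dvd_prime_iff_eq hp Nat.prime_two).mp h) hodd
    · obtain ⟨q, hq, hpq⟩ := (Prime.dvd_prod_iff hp.prime).mp h
      rwa [(Nat.prime_dvd_prime_iff_eq hp (smallPrimes_prime q hq)).mp hpq]
  obtain ⟨k, -, hk, hlt⟩ := hall p hmem hp3 hp4
  exact hlt.trans_le (Nat.pow_le_pow_right (by norm_num)
    ((Nat.prime_two.pow_dvd_iff_le_factorization hn0).mp hk))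

theorem le_factorization_factorial {q n : ℕ} (hq : q.Prime) (b : ℕ) :
    ∑ i ∈ Finset.Ico 1 b, n / q ^ i ≤ (Nat.factorial n).factorization q := by
  rw [Nat.factorization_def _ hq]
  have : Fact q.Prime := ⟨hq⟩
  rw [padicValNat_factorial (n := n) (b := max b (Nat.log q n + 1)) (by omega)]
  exact Finset.sum_le_sum_of_subset (Finset.Ico_subset_Ico_right (le_max_left _ _))

theorem pow_three_lt : ∀ p : ℕ, 5 ≤ p → p ^ 3 < 2 ^ (2 * p - 1) := by
  intro p hp
  induction p, hp using Nat.le_induction with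
  | base => norm_num
  | succ p hp ih =>
    have h1 : 2 * (p + 1) - 1 = (2 * p - 1) + 2 := by omega
    have h2 : (p + 1) ^ 3 ≤ 4 * p ^ 3 := by nlinarith [Nat.mul_le_mul hp hp]
    rw [h1, pow_add]
    omega

theorem alternating_case {n p : ℕ} (hn : 5 ≤ n) (hp : p.Prime) (hodd : p ≠ 2)
    (h3 : (Nat.card (alternatingGroup (Fin n))).factorization p = 3) :
    p ^ 3 < 2 ^ (Nat.card (alternatingGroup (Fin n))).factorization 2 := by
  have : Nontrivial (Fin n) := ⟨⟨⟨0, by omega⟩, ⟨1, by omega⟩, by simp⟩⟩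
  have hc : 2 * Nat.card (alternatingGroup (Fin n)) = Nat.factorial n := by
    rw [Nat.card_eq_fintype_card, two_mul_card_alternatingGroup, Fintype.card_perm, Fintype.card_fin]
  have hne : Nat.card (alternatingGroup (Fin n)) ≠ 0 := Nat.card_pos.ne'
  have hf : ∀ q, (Nat.factorial n).factorization q =
      (if q = 2 then 1 else 0) + (Nat.card (alternatingGroup (Fin n))).factorization q := by
    intro q
    rw [← hc, Nat.factorization_mul (by norm_num) hne, Finsupp.add_apply, Nat.prime_two.factorization,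
      Finsupp.single_apply]
    simp [eq_comm]
  have hvp : (Nat.factorial n).factorization p = 3 := by rw [hf p, if_neg hodd, h3]
  have hp3 : 3 ≤ p := by have := hp.two_le; omega
  have hlow : 3 * p ≤ n := by
    by_contra hlt
    push Not at hlt
    have : Fact p.Prime := ⟨hp⟩
    have hlog : Nat.log p n < 2 := Nat.log_lt_of_lt_pow (by omega) (by nlinarith)
    rw [Nat.factorization_def _ hp, padicValNat_factorial (b := 2) hlog] at hvp
    simp at hvp
    have : n / p < 3 := (Nat.div_lt_iff_lt_mul hp.pos).mpr hlt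
    omega
  have hp5 : 5 ≤ p := by
    by_contra hlt
    push Not at hlt
    interval_cases p
    · have h := le_factorization_factorial (n := n) hp 3
      simp [Finset.sum_Ico_succ_top] at h
      omega
    · norm_num at hp
  have h2 := le_factorization_factorial (n := n) Nat.prime_two 3
  simp [Finset.sum_Ico_succ_top] at h2
  rw [hf 2, if_pos rfl] at h2
  refine (pow_three_lt p hp5).trans_le (Nat.pow_le_pow_right (by norm_num) ?_)
  omega

/-- Let G be an alternating group of degree at least 5 or a simple group with the order of one of the 26 sporadic groups, and let p be an odd prime such that p³ is the exact power of p dividing the order of G. Then p³ is less than the 2-part of the order of G. -/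
theorem result {G : Type*} [Group G] [Finite G] (hG : Cfsg.IsAlternating G ∨ Cfsg.IsSporadic G)
    (p : ℕ) (hp : p.Prime) (hodd : p ≠ 2) (h3 : (Nat.card G).factorization p = 3) :
    p ^ 3 < 2 ^ (Nat.card G).factorization 2 := by
  rcases hG with ⟨n, hn, ⟨e⟩⟩ | h
  · rw [Nat.card_congr e.toEquiv] at h3 ⊢
    exact alternating_case hn hp hodd h3
  · have hgood : Good (Nat.card G) := by
      unfold Cfsg.IsSporadic at h
      rcases h with h|h|h|h|h|h|h|h|h|h|h|h|h|h|h|h|h|h|h|h|h|h|h|h|h|h <;>
        (rw [show Nat.card G = _ from h.2]; decide +kernel)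
    exact of_good hgood hp hodd h3

end Cfsg.Agent.S2367
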