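import Cfsg.Statements.S2368


set_option autoImplicit false
open Cfsg

namespace Cfsg.Agent.S2368

open Matrix

section
variable {F : Type*} [Field F] {m : ℕ}

/-- The nilpotent shift matrix. -/
def shiftMat : Matrix (Fin m) (Fin m) F := Matrix.of fun i j => if (i : ℕ) + 1 = (j : ℕ) then 1 else 0

theorem shiftMat_pow (k : ℕ) (i j : Fin m) :
    ((shiftMat : Matrix (Fin m) (Fin m) F) ^ k) i j = if (i : ℕ) + k = (j : ℕ) then 1 else 0 := by
  induction k generalizing i j with
  | zero => simp [Matrix.one_apply, Fin.ext_iff]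
  | succ k ih =>
    rw [pow_succ', Matrix.mul_apply]
    by_cases h : (i : ℕ) + 1 < m
    · rw [Finset.sum_eq_single ⟨(i : ℕ) + 1, h⟩]
      · rw [ih]; simp [shiftMat, add_assoc, add_comm 1 k]
      · intro b _ hb
        have : (i : ℕ) + 1 ≠ (b : ℕ) := fun he => hb (Fin.ext he.symm)
        simp [shiftMat, this]
      · simp
    · rw [if_neg (by omega), Finset.sum_eq_zero]
      intro b _
      have : (i : ℕ) + 1 ≠ (b : ℕ) := by omega
      simp [shiftMat, this]

theorem shiftMat_pow_card : (shiftMat : Matrix (Fin m) (Fin m) F) ^ m = 0 := by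
  ext i j
  rw [shiftMat_pow, if_neg (by omega)]; rfl

theorem orderOf_lt {p : ℕ} [Fact p.Prime] [CharP F p] (hm : 1 ≤ m) (g : GL (Fin m) F)
    (hg : ∃ j : ℕ, orderOf g = p ^ j) : orderOf g < p * m := by
  obtain ⟨j, hj⟩ := hg
  have hp : p.Prime := Fact.out
  have : NeZero m := ⟨by omega⟩
  have : Nonempty (Fin m) := ⟨0⟩
  have : CharP (Matrix (Fin m) (Fin m) F) p := charP_of_injective_algebraMap (algebraMap F (Matrix (Fin m) (Fin m) F)).injective p
  rcases Nat.eq_zero_or_pos j with rfl | hj0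
  · rw [hj, pow_zero]; nlinarith [hp.two_le]
  by_contra hlt
  push Not at hlt
  obtain ⟨i, rfl⟩ : ∃ i, j = i + 1 := ⟨j - 1, by omega⟩
  rw [hj, pow_succ'] at hlt
  have hmi : m ≤ p ^ i := Nat.le_of_mul_le_mul_left hlt hp.pos
  set M := (g : Matrix (Fin m) (Fin m) F)
  have hnil : IsNilpotent (M - 1) := by
    refine ⟨p ^ (i + 1), ?_⟩
    rw [sub_pow_char_pow_of_commute p _ (Commute.one_right M), one_pow, ← Units.val_pow_eq_pow_val, ← hj,
      pow_orderOf_eq_one, Units.val_one, sub_self]
  have h0 : (M - 1) ^ m = 0 := by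
    simpa using Matrix.isNilpotent_charpoly_sub_pow_of_isNilpotent (M := M - 1) hnil |> fun h => by
      have hc := Matrix.aeval_self_charpoly (M - 1)
      rw [sub_eq_zero.mp h.eq_zero] at hc
      simpa using hc
  have h1 : (M - 1) ^ (p ^ i) = 0 := pow_eq_zero_of_le hmi h0
  rw [sub_pow_char_pow_of_commute p _ (Commute.one_right M), one_pow, sub_eq_zero] at h1
  have h2 : g ^ (p ^ i) = 1 := Units.ext (by rw [Units.val_pow_eq_pow_val, Units.val_one]; exact h1)
  have h3 := Nat.le_of_dvd (pow_pos hp.pos _) (orderOf_dvd_of_pow_eq_one h2)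
  rw [hj] at h3
  exact absurd h3 (not_le.mpr (Nat.pow_lt_pow_right hp.one_lt (Nat.lt_succ_self i)))

theorem exists_large {p : ℕ} [Fact p.Prime] [CharP F p] (hm : 1 ≤ m) :
    ∃ g : GL (Fin m) F, (∃ j : ℕ, orderOf g = p ^ j) ∧ m ≤ orderOf g := by
  have hp : p.Prime := Fact.out
  have : NeZero m := ⟨by omega⟩
  have : Nonempty (Fin m) := ⟨0⟩
  have : CharP (Matrix (Fin m) (Fin m) F) p := charP_of_injective_algebraMap (algebraMap F (Matrix (Fin m) (Fin m) F)).injective p
  set N : Matrix (Fin m) (Fin m) F := shiftMat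
  have hu : IsUnit (1 + N) := IsNilpotent.isUnit_one_add ⟨m, shiftMat_pow_card⟩
  have hpow : hu.unit ^ (p ^ m) = 1 := by
    refine Units.ext ?_
    rw [Units.val_pow_eq_pow_val, IsUnit.unit_spec, add_pow_char_pow_of_commute p _ (Commute.one_left N),
      one_pow, pow_eq_zero_of_le (Nat.lt_pow_self hp.one_lt).le shiftMat_pow_card, add_zero, Units.val_one]
  obtain ⟨j, -, hj⟩ := (Nat.dvd_prime_pow hp).mp (orderOf_dvd_of_pow_eq_one hpow)
  refine ⟨hu.unit, ⟨j, hj⟩, ?_⟩
  rw [hj]
  by_contra hlt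
  push Not at hlt
  have h1 := congrArg Units.val (pow_orderOf_eq_one hu.unit)
  rw [hj, Units.val_pow_eq_pow_val, IsUnit.unit_spec, add_pow_char_pow_of_commute p _ (Commute.one_left N),
    one_pow, Units.val_one, add_eq_left] at h1
  have h2 := congrFun (congrFun h1 ⟨0, by omega⟩) ⟨p ^ j, hlt⟩
  rw [shiftMat_pow] at h2
  simp at h2

end

/-- Let F be a finite field of characteristic p and m ≥ 1. Every element of GL(m, F) of p-power order has order less than p·m, and GL(m, F) has an element of p-power order at least m; so the largest order of a p-element of GL(m, F) is the least power of p that is at least m. -/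
theorem result {F : Type*} [Field F] [Fintype F] (p : ℕ) [Fact p.Prime] [CharP F p] (m : ℕ) (hm : 1 ≤ m) :
    (∀ g : Matrix.GeneralLinearGroup (Fin m) F, (∃ j : ℕ, orderOf g = p ^ j) → orderOf g < p * m) ∧
      ∃ g : Matrix.GeneralLinearGroup (Fin m) F, (∃ j : ℕ, orderOf g = p ^ j) ∧ m ≤ orderOf g := by
  exact ⟨orderOf_lt hm, exists_large hm⟩

end Cfsg.Agent.S2368
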