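import Cfsg.Statements.S2369
import Cfsg.Agent.ReeF4Steinberg.Basic

set_option autoImplicit false
open Cfsg

namespace Cfsg.Agent.S2369

open CfsgLib.ReeF4 CfsgLib.ReeF4Steinberg

theorem aux {K : Type*} [Field K] [CharP K 2] [Finite K] (T : Tw K) {m : ℕ}
    (hq : Nat.card K = 2 ^ (2 * m + 1)) (a b : ↥T.G1) (ha : orderOf a = 2) (hab : Commute a b)
    {r : ℕ} (hr : r.Prime) (hrb : r ∣ orderOf b) :
    r ∣ 2 ^ (2 * m + 1) * ((2 ^ (2 * m + 1)) ^ 4 - 1) := by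
  by_contra hn
  set q := 2 ^ (2 * m + 1) with hqdef
  have h2q : 2 ∣ q := dvd_pow_self 2 (by omega)
  have hr2 : Nat.Coprime 2 r :=
    (Nat.coprime_primes Nat.prime_two hr).2 fun e => hn ((e ▸ h2q).mul_right _)
  set b' := b ^ (orderOf b / r)
  have hb' : orderOf b' = r := orderOf_pow_orderOf_div (isOfFinOrder_of_finite b).orderOf_pos.ne' hrb
  have hc : Commute a b' := hab.pow_right _
  have hg : 2 ∣ orderOf (a * b') := by
    rw [hc.orderOf_mul_eq_mul_orderOf_of_coprime (by rwa [ha, hb']), ha]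
    exact dvd_mul_right _ _
  obtain ⟨J, hJ, x, hx⟩ := exists_fixed T hq hg
  induction x using QuotientGroup.induction_on with | _ y => ?_
  rw [MulAction.mem_fixedBy] at hx
  have hx2 : ((a * b') ^ 2 * y : ↥T.G1) = ((y : ↥T.G1) : ↥T.G1 ⧸ par T J) := by
    rw [show (((a * b') ^ 2 * y : ↥T.G1) : ↥T.G1 ⧸ par T J) = ((a * b') ^ 2) • ((y : ↥T.G1) : ↥T.G1 ⧸ par T J) from rfl, sq, mul_smul, hx, hx]
  rw [QuotientGroup.eq] at hx2
  have e : (a * b') ^ 2 = b' ^ 2 := by rw [hc.mul_pow, ← ha, pow_orderOf_eq_one, one_mul]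
  rw [e] at hx2
  set p := ((b' ^ 2 * y)⁻¹ * y) with hp
  have hpo : orderOf p = r := by
    have e1 : p = MulAut.conj y⁻¹ (b' ^ 2)⁻¹ := by
      rw [hp, MulAut.conj_apply]
      group
    have : orderOf p = orderOf (b' ^ 2)⁻¹ := by
      rw [e1]
      exact orderOf_injective (MulAut.conj y⁻¹).toMonoidHom (MulAut.conj y⁻¹).injective _
    rw [this, orderOf_inv, Nat.Coprime.orderOf_pow (by rw [hb']; exact hr2.symm), hb']
  have hdvd : r ∣ q ^ 12 * (q - 1) ^ 2 * ∑ d ∈ wSet J, q ^ nSlots (invS d) := by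
    rw [← hq, ← card_par T J, ← hpo, ← Subgroup.orderOf_mk p hx2]
    exact orderOf_dvd_natCard _
  obtain ⟨w0, w1, w2, -⟩ := wSum q
  have hf : ∀ z, z ∣ q ^ 4 - 1 → ¬ r ∣ z := fun z hz h => hn ((h.trans hz).mul_left _)
  obtain ⟨p₀, hp₀⟩ : ∃ p₀, q = p₀ + 1 := ⟨q - 1, (Nat.succ_pred_eq_of_pos (pow_pos two_pos _)).symm⟩
  have h4 : q ^ 4 - 1 = p₀ * (p₀ + 2) * (1 + q ^ 2) := by
    rw [hp₀, show (p₀ + 1) ^ 4 = p₀ * (p₀ + 2) * (1 + (p₀ + 1) ^ 2) + 1 by ring, Nat.add_sub_cancel]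
  rcases hr.dvd_mul.1 hdvd with h | h
  · rcases hr.dvd_mul.1 h with h | h
    · exact hn ((hr.dvd_of_dvd_pow h).mul_right _)
    · refine hf _ ?_ (hr.dvd_of_dvd_pow h)
      exact h4 ▸ ⟨(p₀ + 2) * (1 + q ^ 2), by rw [show q - 1 = p₀ by omega]; ring⟩
  · fin_cases J
    · exact hr.not_dvd_one (w0 ▸ h)
    · exact hf _ (h4 ▸ ⟨p₀ * (1 + q ^ 2), by rw [hp₀]; ring⟩) (w1 ▸ h)
    · exact hf _ (h4 ▸ dvd_mul_left _ _) (w2 ▸ h)
    · exact hJ rfl

/-- Let q = 2^(2m+1) with m ≥ 1 and let a, b be commuting elements of the large Ree group ²F₄(q) with a an involution. Then every prime divisor of the order of b divides q(q⁴ − 1). -/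
theorem result {K : Type*} [Field K] [Fintype K] (m : ℕ) (hm : 1 ≤ m) (hK : Fintype.card K = 2 ^ (2 * m + 1))
    (a b : ↥(Cfsg.Lie.twistedF4 K (2 ^ m))) (ha : orderOf a = 2) (hab : Commute a b) :
    (orderOf b).primeFactors ⊆ (2 ^ (2 * m + 1) * ((2 ^ (2 * m + 1)) ^ 4 - 1)).primeFactors := by
  haveI := CfsgLib.ReeF4.charP_of_card hK
  intro r hr
  rw [Nat.mem_primeFactors] at hr ⊢
  refine ⟨hr.1, aux (mkTw hK) (by rw [Nat.card_eq_fintype_card, hK]) a b ha hab hr.1 hr.2.1,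
    Nat.mul_ne_zero (pow_ne_zero _ two_ne_zero) ?_⟩
  have h1 : 1 < 2 ^ (2 * m + 1) := Nat.one_lt_two_pow (by omega)
  have h2 := Nat.le_self_pow (show 4 ≠ 0 by norm_num) (2 ^ (2 * m + 1))
  omega

end Cfsg.Agent.S2369
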