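import Cfsg.Statements.S2370
import Cfsg.Agent.ChevSteinberg.Unipotent

set_option autoImplicit false
open Cfsg

namespace Cfsg.Agent.S2370

open Cfsg.Lie CfsgLib.Chevalley CfsgLib.ChevSteinberg

theorem ht_bound (a : chevF4.Idx) : -22 ≤ ht chevF4 a ∧ ht chevF4 a ≤ 22 := by
  revert a
  decide +kernel

theorem twisted_le_group {K : Type*} [Field K] (e : ℕ) : twistedF4 K e ≤ chevF4.group K := by
  have hW : GoodWeyl chevF4 := goodWeyl_of_mem (by simp)
  refine (Subgroup.closure_le _).2 ?_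
  rintro g ⟨w, -, hg⟩
  rw [show g = wordGL hW.good w from Units.ext (hg.trans (coe_wordGL hW.good w).symm), wordGL]
  refine Subgroup.list_prod_mem _ fun x hx => ?_
  obtain ⟨p, -, rfl⟩ := List.mem_map.1 hx
  split_ifs
  · exact X_mem_group _ _ _
  · exact one_mem _

/-- Let q = 2^(2m+1) with m ≥ 1. Every element of 2-power order of the large Ree group ²F₄(q) has order at most 32. -/
theorem result {K : Type*} [Field K] [Fintype K] (m : ℕ) (hm : 1 ≤ m) (hK : Fintype.card K = 2 ^ (2 * m + 1))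
    (x : ↥(Cfsg.Lie.twistedF4 K (2 ^ m))) (hx : ∃ j : ℕ, orderOf x = 2 ^ j) : orderOf x ≤ 32 := by
  classical
  obtain ⟨j, hj⟩ := hx
  have : Fact (Nat.Prime 2) := ⟨Nat.prime_two⟩
  obtain ⟨p, hp⟩ := CharP.exists K
  have hp2 : p = 2 := by
    obtain ⟨n, hpp, hn⟩ := FiniteField.card K p
    rw [hK] at hn
    exact ((Nat.prime_dvd_prime_iff_eq hpp Nat.prime_two).1
      (hpp.dvd_of_dvd_pow (hn.symm ▸ dvd_pow_self p n.pos.ne')))
  subst hp2
  have hD : chevF4 ∈ [chevG2, chevB2, chevD4, chevF4, chevE6, chevE7, chevE8] := by simp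
  have hW := goodWeyl_of_mem hD
  obtain ⟨C, M, R, h⟩ := exists_rootGood hD
  let y : ↥(chevF4.group K) := ⟨x.1, twisted_le_group _ x.2⟩
  have hy : orderOf y = 2 ^ j := by rw [← hj, ← Subgroup.orderOf_coe, ← Subgroup.orderOf_coe x]
  obtain ⟨g, hg⟩ := exists_conj_mem_pos (F := K) hW h 2 y hy
  set u : GL chevF4.Idx K := ((g * y * g⁻¹ : ↥(chevF4.group K)) : GL chevF4.Idx K) with hu
  have h1 := sub_one_pow_of_raises (raises_pos hW.good hg) ht_bound (k := 23) (by norm_num)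
  have h32 : ((u : Matrix chevF4.Idx chevF4.Idx K) - 1) ^ 32 = 0 := by
    rw [show 32 = 23 + 9 from rfl, pow_add, hu, h1, zero_mul]
  have : Nonempty chevF4.Idx := ⟨Sum.inl ⟨0, by decide⟩⟩
  rw [show 32 = 2 ^ 5 from rfl, sub_pow_char_pow_of_commute (p := 2) (n := 5) (Commute.one_right _), one_pow,
    sub_eq_zero] at h32
  have h3 : u ^ 32 = 1 := Units.ext (by rw [Units.val_pow_eq_pow_val]; exact h32)
  have h4 : (g * y * g⁻¹) ^ 32 = 1 := Subtype.ext (by rw [SubmonoidClass.coe_pow, ← hu, h3]; rfl)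
  rw [conj_pow, conj_eq_one_iff] at h4
  have h5 := orderOf_dvd_of_pow_eq_one h4
  rw [hy, ← hj] at h5
  exact Nat.le_of_dvd (by norm_num) h5

end Cfsg.Agent.S2370
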