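import Cfsg.Statements.S2372
import Cfsg.Agent.LangTorus.DataF4
import Cfsg.Agent.LangTorus.Main
import Cfsg.Agent.ChevTorus.Order

set_option autoImplicit false
set_option maxRecDepth 4000
open Cfsg

namespace Cfsg.Agent.S2372

/-- The group F₄(q) contains a cyclic subgroup of order q⁴ + 1 which is its own centralizer. -/
theorem result {F : Type*} [Field F] [Fintype F] (q : ℕ) (hF : Fintype.card F = q) :
    ∃ H : Subgroup ↥(Cfsg.Lie.chevF4.group F), IsCyclic ↥H ∧ Nat.card ↥H = q ^ 4 + 1 ∧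
      Subgroup.centralizer (H : Set ↥(Cfsg.Lie.chevF4.group F)) = H := by
  classical
  have hq2 : 2 ≤ q := hF ▸ Fintype.one_lt_card
  have hq0 : 0 < q := by omega
  refine CfsgLib.LangTorus.main CfsgLib.LangTorus.goodWF4 CfsgLib.Weyl.rootF4_good
    CfsgLib.LangTorus.certF4_good ?_ q (q ^ 4 + 1) hF ?_ ?_ ?_
  · have h := CfsgLib.ChevTorus.smithF4.2.2.2
    intro h0
    have h' := congrArg Matrix.det h
    rw [Matrix.det_mul, Matrix.det_mul] at h'
    rw [Matrix.det_diagonal, Finset.prod_eq_one (fun i _ => by revert i; decide +kernel)] at h'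
    refine one_ne_zero (h'.symm.trans ?_)
    show _ * Matrix.det (CfsgLib.ChevTorus.cartanMat Cfsg.Lie.chevF4) * _ = (0 : ℤ)
    rw [h0, mul_zero, zero_mul]
  · show _ = (q : ℤ) ^ 4 + ∑ j : Fin 4, CfsgLib.LangTorus.pc CfsgLib.LangTorus.certF4 j * (q : ℤ) ^ (j : ℕ)
    simp [Fin.sum_univ_succ, CfsgLib.LangTorus.pc, show CfsgLib.LangTorus.certF4.pol = [1, 0, 0, 0] from rfl]
  · have : 2 ^ 4 ≤ q ^ 4 := Nat.pow_le_pow_left hq2 4
    show 2 < q ^ 4 + 1
    omega
  · rw [show q ^ 4 + 1 = 1 + q * q ^ 3 by ring, Nat.coprime_add_mul_left_left]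
    exact Nat.coprime_one_left q

end Cfsg.Agent.S2372
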