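import Cfsg.Statements.S2374
import Cfsg.Agent.CoxTori.Apply
import Cfsg.Agent.CoxTori.Data
import Cfsg.Agent.CoxTori.Sep

set_option autoImplicit false
open Cfsg Cfsg.Lie CfsgLib CfsgLib.Chevalley CfsgLib.ChevTorus CfsgLib.SteinbergPres
  CfsgLib.CoxTori

namespace Cfsg.Agent.S2374

/-- The group E₇(q) (the simple Chevalley group of type E₇) contains a cyclic subgroup of order (q⁴ − q² + 1)(q³ + 1)/gcd(2, q − 1) which is its own centralizer. -/
theorem result {F : Type*} [Field F] [Fintype F] (q : ℕ) (hF : Fintype.card F = q) :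
    ∃ H : Subgroup ↥(Cfsg.Lie.chevE7.group F), IsCyclic ↥H ∧ Nat.card ↥H = (q ^ 4 - q ^ 2 + 1) * (q ^ 3 + 1) / Nat.gcd 2 (q - 1) ∧
      Subgroup.centralizer (H : Set ↥(Cfsg.Lie.chevE7.group F)) = H := by
  have hD : chevE7 ∈ [chevG2, chevB2, chevD4, chevF4, chevE6, chevE7, chevE8] := by simp
  have hE8 : chevE8 ∈ [chevG2, chevB2, chevD4, chevF4, chevE6, chevE7, chevE8] := by simp
  obtain ⟨C, M, R, h⟩ := exists_rootGood_of_mem hD
  have hP := goodPres_of_mem hD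
  have hq2 : 2 ≤ q := hF ▸ Fintype.one_lt_card
  have hbig : ∀ x : ℤ, 7 ≤ x → 4 * (x ^ 7 - 1) < pev x certE7.P * (x - 1) := by
    intro x hx
    simp only [certE7, pev_cons, pev_nil]
    have e : 1 + x * (0 + x * (-1 + x * (1 + x * (1 + x * (-1 + x * (0 + x * (1 + x * 0))))))) =
        x ^ 5 * (x ^ 2 - 1) + x ^ 4 + x ^ 2 * (x - 1) + 1 := by ring
    have h5 : 0 < x ^ 5 := pow_pos (by omega) 5
    have h4 : 0 < x ^ 4 := pow_pos (by omega) 4
    have h2 : 0 ≤ x ^ 2 * (x - 1) := mul_nonneg (pow_nonneg (by omega) 2) (by omega)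
    have h7 : 48 * x ^ 7 ≤ 49 * (x ^ 5 * (x ^ 2 - 1)) := by
      have hm : 0 ≤ x ^ 5 * (x ^ 2 - 49) := mul_nonneg h5.le (by nlinarith)
      nlinarith
    nlinarith
  have hval : pev (q : ℤ) certE7.P = (((q ^ 4 - q ^ 2 + 1) * (q ^ 3 + 1) : ℕ) : ℤ) := by
    simp only [certE7, pev_cons, pev_nil]
    have h24 : q ^ 2 ≤ q ^ 4 := Nat.pow_le_pow_right (by omega) (by norm_num)
    push_cast [h24]; ring
  obtain ⟨H, h1, h2, h3⟩ := CoxTori.main hP h smithE7 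
    (show ∀ i : Fin 7, (![1, 1, 1, 1, 1, 1, 2] : Fin 7 → ℕ) i ≠ 0 by decide)
    (hbTor_injective_of_sub (D' := chevE8) _ (goodWeyl_of_mem hE8) chkSub_E7 (by decide) subInv_E8)
    certE7 chk_certE7 rfl hF (by rw [hval]; positivity)
    (separated hP.toGoodWeyl h certE7 large_E7 small_E7 hbig hq2)
  refine ⟨H, h1, ?_, h3⟩
  rw [hval, Int.natAbs_natCast] at h2
  have hd : ∏ i : Fin 7, (q - 1).gcd ((![1, 1, 1, 1, 1, 1, 2] : Fin 7 → ℕ) i) = Nat.gcd 2 (q - 1) := by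
    simp [Fin.prod_univ_succ, Nat.gcd_comm]
  rw [← h2]
  refine (Nat.div_eq_of_eq_mul_left (Nat.gcd_pos_of_pos_left _ (by norm_num)) ?_).symm
  exact congrArg (Nat.card H * ·) hd

end Cfsg.Agent.S2374
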