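import Cfsg.Statements.S2375
import Cfsg.Agent.LangTorus.DataE8
import Cfsg.Agent.LangTorus.Main
import Cfsg.Agent.ChevTorus.Order

set_option autoImplicit false
set_option maxRecDepth 4000
open Cfsg

namespace Cfsg.Agent.S2375

/-- The group E₈(q) contains a cyclic subgroup of order q⁸ + q⁷ − q⁵ − q⁴ − q³ + q + 1 which is its own centralizer. -/
theorem result {F : Type*} [Field F] [Fintype F] (q : ℕ) (hF : Fintype.card F = q) :
    ∃ H : Subgroup ↥(Cfsg.Lie.chevE8.group F), IsCyclic ↥H ∧ Nat.card ↥H = q ^ 8 + q ^ 7 - q ^ 5 - q ^ 4 - q ^ 3 + q + 1 ∧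
      Subgroup.centralizer (H : Set ↥(Cfsg.Lie.chevE8.group F)) = H := by
  classical
  have hq2 : 2 ≤ q := hF ▸ Fintype.one_lt_card
  have hq0 : 0 < q := by omega
  have h25 : q ^ 5 ≤ q ^ 7 := Nat.pow_le_pow_right hq0 (by norm_num)
  have h24 : q ^ 4 * 4 ≤ q ^ 8 := by
    rw [show q ^ 8 = q ^ 4 * q ^ 4 by ring]
    exact Nat.mul_le_mul_left _ (le_trans (by norm_num) (Nat.pow_le_pow_left hq2 4))
  have h23 : q ^ 3 ≤ q ^ 4 := Nat.pow_le_pow_right hq0 (by norm_num)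
  have h256 : 2 ^ 8 ≤ q ^ 8 := Nat.pow_le_pow_left hq2 8
  have hle5 : q ^ 5 ≤ q ^ 8 + q ^ 7 := by omega
  have hle4 : q ^ 4 ≤ q ^ 8 + q ^ 7 - q ^ 5 := by omega
  have hle3 : q ^ 3 ≤ q ^ 8 + q ^ 7 - q ^ 5 - q ^ 4 := by omega
  have k6 : q ^ 4 ≤ q ^ 7 := Nat.pow_le_pow_right hq0 (by norm_num)
  have k3 : q ^ 3 + q ^ 2 ≤ q ^ 6 := by
    have a : q ^ 2 ≤ q ^ 3 := Nat.pow_le_pow_right hq0 (by norm_num)
    have b : q ^ 3 * 8 ≤ q ^ 6 := by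
      rw [show q ^ 6 = q ^ 3 * q ^ 3 by ring]
      exact Nat.mul_le_mul_left _ (le_trans (by norm_num) (Nat.pow_le_pow_left hq2 3))
    omega
  have h64 : q ^ 4 ≤ q ^ 7 + q ^ 6 := by omega
  have h63 : q ^ 3 ≤ q ^ 7 + q ^ 6 - q ^ 4 := by omega
  have h62 : q ^ 2 ≤ q ^ 7 + q ^ 6 - q ^ 4 - q ^ 3 := by omega
  refine CfsgLib.LangTorus.main CfsgLib.LangTorus.goodWE8 CfsgLib.Weyl.rootE8_good
    CfsgLib.LangTorus.certE8_good ?_ q (q ^ 8 + q ^ 7 - q ^ 5 - q ^ 4 - q ^ 3 + q + 1) hF ?_ ?_ ?_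
  · have h := CfsgLib.ChevTorus.smithE8.2.2.2
    intro h0
    have h' := congrArg Matrix.det h
    rw [Matrix.det_mul, Matrix.det_mul] at h'
    rw [Matrix.det_diagonal, Finset.prod_eq_one (fun i _ => by revert i; decide +kernel)] at h'
    refine one_ne_zero (h'.symm.trans ?_)
    show _ * Matrix.det (CfsgLib.ChevTorus.cartanMat Cfsg.Lie.chevE8) * _ = (0 : ℤ)
    rw [h0, mul_zero, zero_mul]
  · push_cast [hle5, hle4, hle3]
    show _ = (q : ℤ) ^ 8 + ∑ j : Fin 8, CfsgLib.LangTorus.pc CfsgLib.LangTorus.certE8 j * (q : ℤ) ^ (j : ℕ)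
    simp [Fin.sum_univ_succ, CfsgLib.LangTorus.pc, show CfsgLib.LangTorus.certE8.pol = [1, 1, 0, -1, -1, -1, 0, 1] from rfl]
    ring
  · show 5 < _
    omega
  · have e : q ^ 8 + q ^ 7 - q ^ 5 - q ^ 4 - q ^ 3 + q + 1 =
        1 + q * (q ^ 7 + q ^ 6 - q ^ 4 - q ^ 3 - q ^ 2 + 1) := by
      zify [hle5, hle4, hle3, h64, h63, h62]
      ring
    rw [e, Nat.coprime_add_mul_left_left]
    exact Nat.coprime_one_left q

end Cfsg.Agent.S2375
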