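import Cfsg.Statements.S2379
import Cfsg.Agent.FGS.SylowGL

set_option autoImplicit false
set_option linter.style.haveILetI false
open Cfsg

namespace Cfsg.Agent.S2379

open Matrix Finset CfsgLib.FGS.SylowGL

theorem exists_hom {F : Type*} [Field F] [Fintype F] {n r : ℕ} [hr : Fact r.Prime] (hrn : n < r)
    (hrq : ¬ r ∣ Fintype.card F) :
    ∃ φ : (Fin ((Icc 2 n).filter (fun i => orderOf (Fintype.card F : ZMod r) ∣ i)).card →
        Multiplicative (ZMod (r ^ expo (Fintype.card F) r))) →* Matrix.SpecialLinearGroup (Fin n) F,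
      Function.Injective φ ∧ (Nat.card (Matrix.SpecialLinearGroup (Fin n) F)).factorization r =
        ((Icc 2 n).filter (fun i => orderOf (Fintype.card F : ZMod r) ∣ i)).card *
          expo (Fintype.card F) r := by
  classical
  set q := Fintype.card F with hqdef
  have hq : 2 ≤ q := Fintype.one_lt_card
  rcases n with _ | N
  · refine ⟨1, ?_, ?_⟩
    · intro a b _
      funext i
      exact absurd i.isLt (by simp)
    · have : Subsingleton (Matrix.SpecialLinearGroup (Fin 0) F) :=
        ⟨fun a b => Matrix.SpecialLinearGroup.ext _ _ fun i => i.elim0⟩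
      rw [Nat.card_of_subsingleton (1 : Matrix.SpecialLinearGroup (Fin 0) F)]
      simp
  have hfac : (q - 1).factorization r + (Nat.card (Matrix.SpecialLinearGroup (Fin (N + 1)) F)).factorization r
      = ((N + 1) / orderOf (q : ZMod r)) * expo q r := by
    rw [← factorization_card_GL hrn hrq, ← CfsgLib.Linear.card_SL_mul (n := Fin (N + 1)),
      Nat.factorization_mul (by omega) Nat.card_pos.ne', Finsupp.add_apply]
  have hf1 := factorization_pow_sub_one (q := q) hq hrq Nat.one_pos hr.out.one_lt
  rw [pow_one] at hf1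
  by_cases hd : orderOf (q : ZMod r) = 1
  · have hcount : ((Icc 2 (N + 1)).filter (fun i => orderOf (q : ZMod r) ∣ i)).card = N := by
      rw [Finset.filter_true_of_mem (fun i _ => hd ▸ one_dvd i), Nat.card_Icc]
      omega
    rw [hcount]
    rw [hd, if_pos (one_dvd 1)] at hf1
    rw [hf1, hd, Nat.div_one, add_mul, one_mul] at hfac
    refine Exists.imp (fun φ h => ⟨h, by omega⟩) ?_
    have hm : r ^ expo q r ∣ Nat.card Fˣ := by
      rw [CfsgLib.Linear.card_units, ← hf1]
      exact Nat.ordProj_dvd _ _
    obtain ⟨y, hy⟩ := IsCyclic.exists_ofOrder_eq_natCard (α := Fˣ)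
    obtain ⟨t, ht⟩ := hm
    have ht0 : 0 < t := Nat.pos_of_mul_pos_left (ht ▸ Nat.card_pos)
    have hord : orderOf (y ^ t) = r ^ expo q r := by
      rw [orderOf_pow' _ ht0.ne', hy, ht, Nat.gcd_mul_left_left, Nat.mul_div_cancel _ ht0]
    haveI : NeZero (r ^ expo q r) := ⟨pow_ne_zero _ hr.out.ne_zero⟩
    let e : Multiplicative (ZMod (r ^ expo q r)) ≃* Subgroup.zpowers (y ^ t) :=
      mulEquivOfCyclicCardEq (by
        rw [Nat.card_zpowers, hord, Nat.card_congr Multiplicative.toAdd, Nat.card_zmod])
    let ι : Multiplicative (ZMod (r ^ expo q r)) →* Fˣ := (Subgroup.zpowers (y ^ t)).subtype.comp e.toMonoidHom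
    have hι : Function.Injective ι := (Subgroup.subtype_injective _).comp e.injective
    let u : (Fin N → Multiplicative (ZMod (r ^ expo q r))) → (Fin (N + 1) → F) := fun x =>
      Fin.snoc (fun i => (ι (x i) : F)) (((∏ i, ι (x i))⁻¹ : Fˣ) : F)
    have hu : ∀ x, (Matrix.diagonal (u x)).det = 1 := by
      intro x
      rw [det_diagonal, Fin.prod_univ_castSucc]
      simp [u, ← Units.coe_prod]
    refine ⟨{ toFun := fun x => ⟨Matrix.diagonal (u x), hu x⟩, map_one' := ?_, map_mul' := ?_ }, ?_⟩
    · apply Subtype.ext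
      show Matrix.diagonal (u 1) = 1
      rw [← Matrix.diagonal_one]
      congr 1
      funext i
      cases i using Fin.lastCases <;> simp [u]
    · intro x z
      apply Subtype.ext
      show Matrix.diagonal (u (x * z)) = Matrix.diagonal (u x) * Matrix.diagonal (u z)
      rw [Matrix.diagonal_mul_diagonal]
      congr 1
      funext i
      cases i using Fin.lastCases
      · simp [u, Finset.prod_mul_distrib]
        exact mul_comm _ _
      · simp [u]
    · intro x z h
      funext i
      refine hι (Units.ext ?_)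
      have h' : Matrix.diagonal (u x) = Matrix.diagonal (u z) := congrArg Subtype.val h
      have := congrFun (Matrix.diagonal_injective h') i.castSucc
      simpa [u] using this
  · have hcount : ((Icc 2 (N + 1)).filter (fun i => orderOf (q : ZMod r) ∣ i)).card =
        (N + 1) / orderOf (q : ZMod r) := by
      rw [← Nat.Ioc_filter_dvd_card_eq_div]
      congr 1
      ext i
      simp only [mem_filter, mem_Icc, mem_Ioc]
      constructor
      · rintro ⟨⟨h1, h2⟩, h3⟩; exact ⟨⟨by omega, h2⟩, h3⟩
      · rintro ⟨⟨h1, h2⟩, h3⟩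
        refine ⟨⟨?_, h2⟩, h3⟩
        rcases Nat.lt_or_ge i 2 with h | h
        · exact absurd (Nat.dvd_one.1 (show orderOf (q : ZMod r) ∣ 1 by
            rwa [show i = 1 by omega] at h3)) hd
        · exact h
    rw [hcount]
    rw [if_neg (fun h => hd (Nat.dvd_one.1 h))] at hf1
    obtain ⟨φ, hφ⟩ := exists_homocyclic (F := F) (n := N + 1) hrq
    have hker : ∀ x, φ x ∈ (Matrix.GeneralLinearGroup.det :
        GL (Fin (N + 1)) F →* Fˣ).ker := by
      intro x
      rw [MonoidHom.mem_ker, ← orderOf_eq_one_iff]
      have h1 : Matrix.GeneralLinearGroup.det (φ x) ^ (r ^ expo q r) = 1 := by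
        rw [← map_pow, ← map_pow]
        rw [show x ^ r ^ expo q r = 1 from ?_, map_one, map_one]
        funext i
        refine (orderOf_dvd_iff_pow_eq_one (x := x i)).1 ?_
        have h := orderOf_dvd_natCard (x i)
        rwa [Nat.card_congr Multiplicative.toAdd, Nat.card_zmod] at h
      obtain ⟨i, -, hi⟩ := (Nat.dvd_prime_pow hr.out).1 (orderOf_dvd_of_pow_eq_one h1)
      have h2 : r ^ i ∣ q - 1 := by
        rw [← hi, hqdef, ← CfsgLib.Linear.card_units]
        exact orderOf_dvd_natCard _
      have := (hr.out.pow_dvd_iff_le_factorization (by omega)).1 h2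
      rw [hi, show i = 0 by omega, pow_zero]
    refine ⟨(CfsgLib.Linear.slEquivDetKer (n := Fin (N + 1)) (F := F)).symm.toMonoidHom.comp
      (φ.codRestrict _ hker), ?_, by omega⟩
    exact (CfsgLib.Linear.slEquivDetKer (n := Fin (N + 1)) (F := F)).symm.injective.comp
      fun a b h => hφ (congrArg Subtype.val h)

/-- Sylow subgroups of `SL_n(q)` for large primes. Let `F` be a field with `q` elements and `r` a prime with `r > n` and `r ∤ q` (so `r` does not divide the order `n!` of the Weyl group). Let `d` be the multiplicative order of `q` modulo `r`, `a` the number of integers `i` with `2 ≤ i ≤ n` divisible by `d` (the degrees of the Weyl group are `2, …, n`), and `m` the `r`-part of the value at `q` of the `d`-th cyclotomic polynomial. Then every Sylow `r`-subgroup of `SL_n(q)` is a direct product of `a` cyclic groups of order `m`. -/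
theorem result {F : Type*} [Field F] [Fintype F] {q : ℕ} (hq : Fintype.card F = q) (n : ℕ)
    (r : ℕ) [Fact r.Prime] (hrn : n < r) (hrq : ¬ r ∣ q) (P : Sylow r (Matrix.SpecialLinearGroup (Fin n) F)) :
    Nonempty (↥(P : Subgroup (Matrix.SpecialLinearGroup (Fin n) F)) ≃*
      (Fin ((Finset.Icc 2 n).filter (fun i => orderOf (q : ZMod r) ∣ i)).card →
        Multiplicative (ZMod (r ^ padicValNat r ((Polynomial.cyclotomic (orderOf (q : ZMod r)) ℤ).eval (q : ℤ)).natAbs)))) := by
  subst hq
  obtain ⟨φ, hφ, hc⟩ := exists_hom (F := F) hrn hrq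
  exact sylow_equiv φ hφ hc P

end Cfsg.Agent.S2379
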