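import Cfsg.Statements.S2381
import Cfsg.Agent.SympSylow.Basic

set_option autoImplicit false
open Cfsg

namespace Cfsg.Agent.S2381

/-- Sylow subgroups of `Sp_{2n}(q)` for large primes. Let `F` be a field with `q` elements and `r` an odd prime with `r > n` and `r ∤ q` (so `r` does not divide the order `2^n n!` of the Weyl group). Let `d` be the multiplicative order of `q` modulo `r`, `a` the number of `i` with `1 ≤ i ≤ n` and `d ∣ 2i` (the degrees being `2, 4, …, 2n`), and `m` the `r`-part of the value at `q` of the `d`-th cyclotomic polynomial. Then every Sylow `r`-subgroup of the symplectic group `Sp_{2n}(q)` is a direct product of `a` cyclic groups of order `m`. -/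
theorem result {F : Type*} [Field F] [Fintype F] {q : ℕ} (hq : Fintype.card F = q) (n : ℕ)
    (r : ℕ) [Fact r.Prime] (hr2 : r ≠ 2) (hrn : n < r) (hrq : ¬ r ∣ q) (P : Sylow r ↥(Matrix.symplecticGroup (Fin n) F)) :
    Nonempty (↥(P : Subgroup ↥(Matrix.symplecticGroup (Fin n) F)) ≃*
      (Fin ((Finset.Icc 1 n).filter (fun i => orderOf (q : ZMod r) ∣ 2 * i)).card →
        Multiplicative (ZMod (r ^ padicValNat r ((Polynomial.cyclotomic (orderOf (q : ZMod r)) ℤ).eval (q : ℤ)).natAbs)))) := by
  subst hq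
  set c := CfsgLib.SympSylow.block (Fintype.card F) r with hc
  obtain ⟨φ, hφ⟩ : ∃ φ : Multiplicative (ZMod (r ^ CfsgLib.FGS.SylowGL.expo (Fintype.card F) r)) →*
      Matrix.symplecticGroup (Fin c) F, Function.Injective φ :=
    CfsgLib.SympSylow.exists_cyclic_block (F := F) hr2 hrq
  obtain ⟨Φ, hΦ⟩ := CfsgLib.SympSylow.exists_blocks φ hφ (n / c) n (Nat.div_mul_le_self n c)
  have hcount : ((Finset.Icc 1 n).filter
      (fun i => orderOf (Fintype.card F : ZMod r) ∣ 2 * i)).card = n / c := by
    rw [← Nat.Ioc_filter_dvd_card_eq_div n c]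
    congr 1
    ext i
    simp [CfsgLib.SympSylow.dvd_two_mul_iff, c, Nat.one_le_iff_ne_zero, Nat.pos_iff_ne_zero]
  rw [hcount]
  exact CfsgLib.FGS.SylowGL.sylow_equiv Φ hΦ
    (CfsgLib.SympSylow.factorization_card_Sp hr2 hrn hrq) P

end Cfsg.Agent.S2381
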