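import Mathlib
import Cfsg.Statements.S2383
import Cfsg.Agent.ChevBrauer.Count
import Cfsg.Agent.S1035

set_option autoImplicit false
open Cfsg

namespace Cfsg.Agent.S2383

/-- Steinberg's count of semisimple classes in characteristic 2 for the types B₂, D₄, E₇, where the finite simply connected group has trivial centre and so coincides with the Chevalley group: for the Chevalley group of type B₂, D₄ or E₇ over a field with `q` elements of characteristic 2, the conjugacy classes of elements of odd order number exactly `q^l`, `l` the rank. -/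
theorem result {F : Type*} [Field F] [Fintype F] {q : ℕ} (hq : Fintype.card F = q) [CharP F 2]
    (D : Cfsg.Lie.ChevalleyDatum) (hD : D ∈ [Cfsg.Lie.chevB2, Cfsg.Lie.chevD4, Cfsg.Lie.chevE7]) :
    Nat.card {c : ConjClasses ↥(D.group F) // ∃ g : ↥(D.group F), ConjClasses.mk g = c ∧ Odd (orderOf g)} = q ^ D.rank := by
  subst hq
  haveI : Fact (Nat.Prime 2) := ⟨Nat.prime_two⟩
  have hgcd : Nat.gcd 2 (Fintype.card F - 1) = 1 := by
    obtain ⟨f, -, hf⟩ := FiniteField.card F 2
    have h2 : 2 ∣ Fintype.card F := hf ▸ dvd_pow_self 2 f.pos.ne'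
    have h1 := Fintype.card_pos (α := F)
    rw [Nat.gcd_rec, show (Fintype.card F - 1) % 2 = 1 by omega, Nat.gcd_one_left]
  refine Eq.trans ?_ (CfsgLib.ChevBrauer.card_regClass 2 (D := D) (F := F) ?_ ?_)
  · exact Nat.card_congr (Equiv.subtypeEquivRight fun c => exists_congr fun g =>
      and_congr_right fun _ => Nat.coprime_two_right.symm)
  · simp only [List.mem_cons, List.not_mem_nil, or_false] at hD ⊢
    tauto
  · simp only [List.mem_cons, List.not_mem_nil, or_false] at hD
    rcases hD with rfl | rfl | rfl
    · have h1 := Cfsg.Agent.S1035.result rfl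
        (Cfsg.Lie.chevB2, Nat.gcd 2 (Fintype.card F - 1)) (by simp) (F := F)
      dsimp only at h1
      rw [hgcd] at h1
      simpa using h1
    · have h1 := Cfsg.Agent.S1035.result rfl
        (Cfsg.Lie.chevD4, Nat.gcd 2 (Fintype.card F - 1) ^ 2) (by simp) (F := F)
      dsimp only at h1
      rw [hgcd] at h1
      simpa using h1
    · have h1 := Cfsg.Agent.S1035.result rfl
        (Cfsg.Lie.chevE7, Nat.gcd 2 (Fintype.card F - 1)) (by simp) (F := F)
      dsimp only at h1
      rw [hgcd] at h1
      simpa using h1

end Cfsg.Agent.S2383
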