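import Cfsg.Statements.S2384
import Cfsg.Agent.CharpolySS.Matrix

set_option autoImplicit false
open Cfsg

namespace Cfsg.Agent.S2384

open Polynomial Matrix

theorem charpoly_of_isConj {F : Type*} [Field F] {n : ℕ} {g h : Matrix.SpecialLinearGroup (Fin n) F}
    (hgh : IsConj g h) : h.1.charpoly = g.1.charpoly := by
  obtain ⟨P, hP⟩ := isConj_iff.mp hgh
  rw [← hP]
  show ((Matrix.SpecialLinearGroup.toGL P : Matrix (Fin n) (Fin n) F) * g.1 *
    ((Matrix.SpecialLinearGroup.toGL P⁻¹ : GL (Fin n) F) : Matrix (Fin n) (Fin n) F)).charpoly = _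
  rw [map_inv, Matrix.coe_units_inv]
  exact Matrix.charpoly_units_conj _ _

theorem eq_of_coeff {F : Type*} [Field F] {n : ℕ} {g h : Matrix.SpecialLinearGroup (Fin n) F}
    (e : ∀ i : Fin (n - 1), g.1.charpoly.coeff (i.1 + 1) = h.1.charpoly.coeff (i.1 + 1)) :
    g.1.charpoly = h.1.charpoly := by
  have key : ∀ x : Matrix.SpecialLinearGroup (Fin n) F, x.1.charpoly.coeff 0 = (-1) ^ n := by
    intro x
    have hx := Matrix.det_eq_sign_charpoly_coeff x.1
    rw [x.2, Fintype.card_fin] at hx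
    calc x.1.charpoly.coeff 0 = (-1 : F) ^ n * ((-1) ^ n * x.1.charpoly.coeff 0) := by
          rw [← mul_assoc, ← mul_pow, neg_one_mul, neg_neg, one_pow, one_mul]
      _ = _ := by rw [← hx, mul_one]
  have hd : ∀ x : Matrix.SpecialLinearGroup (Fin n) F, x.1.charpoly.natDegree = n := fun x => by
    rw [Matrix.charpoly_natDegree_eq_dim, Fintype.card_fin]
  ext i
  rcases Nat.eq_zero_or_pos i with rfl | hi
  · rw [key, key]
  rcases lt_trichotomy i n with hlt | rfl | hgt
  · have := e ⟨i - 1, by omega⟩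
    simp only at this
    rwa [Nat.sub_add_cancel hi] at this
  · have h1 := (Matrix.charpoly_monic g.1).coeff_natDegree
    have h2 := (Matrix.charpoly_monic h.1).coeff_natDegree
    rw [hd] at h1 h2
    rw [h1, h2]
  · rw [coeff_eq_zero_of_natDegree_lt (by rw [hd]; exact hgt), coeff_eq_zero_of_natDegree_lt (by rw [hd]; exact hgt)]

theorem exists_element {F : Type*} [Field F] [Fintype F] (p : ℕ) [Fact p.Prime] [CharP F p] {n : ℕ}
    (hn : 1 ≤ n) (v : Fin (n - 1) → F) : ∃ g : Matrix.SpecialLinearGroup (Fin n) F,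
      (orderOf g).Coprime p ∧ ∀ i : Fin (n - 1), g.1.charpoly.coeff (i.1 + 1) = v i := by
  set P : F[X] := (∑ i : Fin (n - 1), C (v i) * X ^ (i.1 + 1)) + C ((-1) ^ n) with hP
  have hdeg : P.degree < (n : WithBot ℕ) := by
    rw [hP]
    refine lt_of_le_of_lt (degree_add_le _ _) (max_lt (lt_of_le_of_lt (degree_sum_le _ _) ?_)
      (lt_of_le_of_lt degree_C_le (by exact_mod_cast hn)))
    refine (Finset.sup_lt_iff (WithBot.bot_lt_coe n)).mpr fun i _ => ?_
    refine lt_of_le_of_lt (degree_C_mul_X_pow_le _ _) ?_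
    exact Nat.cast_lt.mpr (show i.1 + 1 < n by omega)
  have hm : (X ^ n + P).Monic := monic_X_pow_add hdeg
  have hnat : (X ^ n + P).natDegree = n := by
    rw [natDegree_eq_of_degree_eq_some]
    rw [degree_add_eq_left_of_degree_lt] <;> rw [degree_X_pow]
    exact hdeg
  have hcoef : ∀ j, 0 < j → j < n → (X ^ n + P).coeff j = ∑ i : Fin (n - 1), if j = i.1 + 1 then v i else 0 := by
    intro j hj hjn
    rw [hP, coeff_add, coeff_add, coeff_X_pow, if_neg (by omega), zero_add, finsetSum_coeff, coeff_C,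
      if_neg (by omega), add_zero]
    simp only [coeff_C_mul_X_pow]
  have h0 : (X ^ n + P).coeff 0 = (-1) ^ n := by
    rw [hP, coeff_add, coeff_add, coeff_X_pow, if_neg (by omega), zero_add, finsetSum_coeff, coeff_C_zero]
    simp only [coeff_C_mul_X_pow]
    simp
  obtain ⟨g, hg, hgc⟩ := CfsgLib.CharpolySS.exists_GL_charpoly (p := p) hn _ hm hnat
    (by rw [h0]; exact pow_ne_zero _ (neg_ne_zero.mpr one_ne_zero))
  have hdet : (g : Matrix (Fin n) (Fin n) F).det = 1 := by
    rw [Matrix.det_eq_sign_charpoly_coeff, hgc, h0, Fintype.card_fin, ← mul_pow]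
    simp
  let x : Matrix.SpecialLinearGroup (Fin n) F := ⟨g, hdet⟩
  have hx : Matrix.SpecialLinearGroup.toGL x = g := Units.ext rfl
  refine ⟨x, ?_, fun i => ?_⟩
  · rw [← orderOf_injective Matrix.SpecialLinearGroup.toGL Matrix.SpecialLinearGroup.toGL_injective, hx]
    exact hg
  · show (g : Matrix (Fin n) (Fin n) F).charpoly.coeff _ = _
    rw [hgc, hcoef _ (by omega) (by omega)]
    simp [Fin.val_inj]


/-- In `SL_n(q)`, `q` a power of the prime `p`, the number of conjugacy classes of elements of order prime to `p` (the semisimple classes) is `q^(n-1)`. -/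
theorem result {F : Type*} [Field F] [Fintype F] {q : ℕ} (hq : Fintype.card F = q) (p : ℕ) [Fact p.Prime] [CharP F p] (n : ℕ) (hn : 1 ≤ n) :
    Nat.card {c : ConjClasses (Matrix.SpecialLinearGroup (Fin n) F) //
      ∃ g : Matrix.SpecialLinearGroup (Fin n) F, ConjClasses.mk g = c ∧ (orderOf g).Coprime p} = q ^ (n - 1) := by
  classical
  let T := {c : ConjClasses (Matrix.SpecialLinearGroup (Fin n) F) //
      ∃ g : Matrix.SpecialLinearGroup (Fin n) F, ConjClasses.mk g = c ∧ (orderOf g).Coprime p}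
  let Φ : T → (Fin (n - 1) → F) := fun c i => c.2.choose.1.charpoly.coeff (i.1 + 1)
  have hΦ : Function.Bijective Φ := by
    refine ⟨fun c d h => ?_, fun v => ?_⟩
    · apply Subtype.ext
      rw [← c.2.choose_spec.1, ← d.2.choose_spec.1, ConjClasses.mk_eq_mk_iff_isConj]
      exact CfsgLib.CharpolySS.isConj_SL_of_charpoly_eq (p := p) _ _ c.2.choose_spec.2 d.2.choose_spec.2
        (eq_of_coeff fun i => congrFun h i)
    · obtain ⟨g, hg, hgv⟩ := exists_element p hn v
      let c : T := ⟨ConjClasses.mk g, g, rfl, hg⟩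
      refine ⟨c, funext fun i => ?_⟩
      show c.2.choose.1.charpoly.coeff (i.1 + 1) = v i
      rw [charpoly_of_isConj (ConjClasses.mk_eq_mk_iff_isConj.mp c.2.choose_spec.1.symm), hgv]
  rw [Nat.card_congr (Equiv.ofBijective Φ hΦ), Nat.card_fun, Nat.card_eq_fintype_card, hq,
    Nat.card_eq_fintype_card, Fintype.card_fin]

end Cfsg.Agent.S2384
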