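import Cfsg.Statements.S2589
import Cfsg.Agent.InvNorm.Glue
import Cfsg.Agent.Forms.Symplectic

set_option autoImplicit false
open Cfsg

namespace Cfsg.Agent.S2589

open CfsgLib.InvNorm Matrix


/-- Two semisimple elements of the finite symplectic group Sp_2m(F) (elements of order prime to the characteristic) are conjugate in Sp_2m(F) if and only if they are conjugate in GL_2m(F). -/
theorem result {F : Type*} [Field F] [Fintype F] {p : ℕ} [Fact p.Prime] [CharP F p] {m : ℕ} (A B : Matrix.symplecticGroup (Fin m) F) (hA : (orderOf A).Coprime p) : IsConj A B ↔ IsConj (A : Matrix (Fin m ⊕ Fin m) (Fin m ⊕ Fin m) F) (B : Matrix (Fin m ⊕ Fin m) (Fin m ⊕ Fin m) F) := by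
  refine ⟨fun h => (Matrix.symplecticGroup (Fin m) F).subtype.map_isConj h, ?_⟩
  rintro ⟨g, hg⟩
  have hpF : (p : F) = 0 := CharP.cast_eq_zero F p
  have hN : (orderOf A : F) ≠ 0 := by
    intro h0
    rw [CharP.cast_eq_zero_iff F p] at h0
    exact (Fact.out : p.Prime).one_lt.ne' (Nat.eq_one_of_dvd_coprimes hA h0 (dvd_refl p))
  have hodd : (2 : F) = 0 → Odd (orderOf A) := by
    intro h2
    rw [← Nat.not_even_iff_odd]
    rintro ⟨k, hk⟩
    apply hN
    rw [hk]
    push_cast
    linear_combination (k : F) * h2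
  have hAiso : SsIso (Matrix.J (Fin m) F) (orderOf A) (A : Matrix _ _ F) :=
    ⟨SymplecticGroup.mem_iff'.1 A.2,
      by rw [← SubmonoidClass.coe_pow, pow_orderOf_eq_one]; rfl, hN⟩
  obtain ⟨K, hK, hKA⟩ := exists_conj_alternating (isUnit_det_J (Fin m) F)
    (Matrix.J_transpose (Fin m) F) (fun v => CfsgLib.Forms.sympForm_self v) hAiso
    (SymplecticGroup.mem_iff'.1 B.2) hodd g.isUnit hg
  exact isConj_iff.2 ⟨⟨K, SymplecticGroup.mem_iff'.2 hK⟩,
    mul_inv_eq_iff_eq_mul.2 (Subtype.ext hKA)⟩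

end Cfsg.Agent.S2589
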