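import Cfsg.Statements.S2385
import Cfsg.Agent.CharpolySS.Matrix
import Cfsg.Agent.TransposeConj.Basic
import Cfsg.Agent.S2389
import Cfsg.Agent.S2586
import Mathlib.LinearAlgebra.Matrix.Charpoly.FiniteField
import Mathlib.FieldTheory.IsAlgClosed.AlgebraicClosure

set_option autoImplicit false
open Cfsg

namespace Cfsg.Agent.S2385

open Polynomial Matrix

section
variable {F : Type*} [Field F]

theorem exists_companion (h : F[X]) (hm : h.Monic) {n : ℕ} (hd : h.natDegree = n) :
    ∃ H S : Matrix (Fin n) (Fin n) F, H.charpoly = h ∧ Sᵀ = S ∧ IsUnit S.det ∧ Hᵀ * S = S * H := by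
  classical
  subst hd
  obtain ⟨μ, hμ⟩ := CfsgLib.TransposeConj.exists_functional h hm.ne_zero
  let pb := AdjoinRoot.powerBasis hm.ne_zero
  let b : Module.Basis (Fin h.natDegree) F (AdjoinRoot h) := pb.basis
  let μ' : AdjoinRoot h →ₗ[F] F := μ
  let H : Matrix (Fin h.natDegree) (Fin h.natDegree) F := Algebra.leftMulMatrix b pb.gen
  let S : Matrix (Fin h.natDegree) (Fin h.natDegree) F := Matrix.of fun i j => μ' (b i * b j)
  have hS : Sᵀ = S := by
    ext i j
    simp only [S, Matrix.transpose_apply, Matrix.of_apply, mul_comm]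
  refine ⟨H, S, ?_, hS, ?_, ?_⟩
  · show (Algebra.leftMulMatrix pb.basis pb.gen).charpoly = h
    rw [charpoly_leftMulMatrix, AdjoinRoot.minpoly_powerBasis_gen_of_monic hm]
  · rw [isUnit_iff_ne_zero]
    intro h0
    obtain ⟨v, hv, hv0⟩ := Matrix.exists_vecMul_eq_zero_iff.2 h0
    obtain ⟨y, hy⟩ : ∃ y : AdjoinRoot h, μ' ((∑ i, v i • b i) * y) ≠ 0 :=
      hμ (∑ i, v i • b i : AdjoinRoot h) fun he => hv (funext fun i =>
        Fintype.linearIndependent_iff.1 b.linearIndependent v he i)
    apply hy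
    show μ' ((∑ i, v i • b i) * y) = 0
    rw [← b.sum_repr y, Finset.mul_sum, map_sum]
    refine Finset.sum_eq_zero fun j _ => ?_
    rw [mul_smul_comm, map_smul, Finset.sum_mul, map_sum]
    have h1 : ∑ i, μ' (v i • b i * b j) = Matrix.vecMul v S j := by
      simp [S, Matrix.vecMul, dotProduct, smul_mul_assoc]
    rw [h1, hv0, Pi.zero_apply, smul_zero]
  · have key : ∀ i j, (Hᵀ * S) i j = μ' (pb.gen * b i * b j) := by
      intro i j
      have e : pb.gen * b i = ∑ k, H k i • b k := by
        simp only [H, Algebra.leftMulMatrix_eq_repr_mul]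
        exact (b.sum_repr _).symm
      rw [e, Finset.sum_mul, map_sum]
      simp [S, Matrix.mul_apply, smul_mul_assoc]
    ext i j
    have h2 : (S * H) i j = (Hᵀ * S) j i := by
      rw [← Matrix.transpose_apply (Hᵀ * S), Matrix.transpose_mul, Matrix.transpose_transpose, hS]
    rw [h2, key, key, mul_right_comm]

theorem block_mem {n : ℕ} (H S : Matrix (Fin n) (Fin n) F) (hS : Sᵀ = S) (hu : IsUnit S.det)
    (hH : Hᵀ * S = S * H) : fromBlocks H (-S⁻¹) S 0 ∈ Matrix.symplecticGroup (Fin n) F := by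
  rw [SymplecticGroup.mem_iff', Matrix.J, fromBlocks_transpose, fromBlocks_multiply, fromBlocks_multiply]
  simp [hS, Matrix.transpose_nonsing_inv, hH, Matrix.mul_nonsing_inv _ hu, Matrix.nonsing_inv_mul _ hu]

theorem eval_block_charpoly {K : Type*} [Field K] {n : ℕ} (f : F →+* K) (H S : Matrix (Fin n) (Fin n) F)
    (hu : IsUnit S.det) (t : K) (ht : t ≠ 0) :
    ((fromBlocks H (-S⁻¹) S 0).charpoly.map f).eval t = t ^ n * (H.charpoly.map f).eval (t + t⁻¹) := by
  rw [← Matrix.charpoly_map, ← Matrix.charpoly_map, Matrix.eval_charpoly, Matrix.eval_charpoly, fromBlocks_map]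
  set H' := H.map f with hH'
  set S' := S.map f
  set T' := (-S⁻¹).map f
  have hST : T' * S' = -1 := by
    rw [← Matrix.map_mul, Matrix.neg_mul, Matrix.nonsing_inv_mul _ hu]
    ext i j
    rcases eq_or_ne i j with rfl | hij <;> simp [*]
  set M := Matrix.scalar (Fin n ⊕ Fin n) t - fromBlocks H' T' S' ((0 : Matrix (Fin n) (Fin n) F).map f)
  have hM : M = fromBlocks (t • 1 - H') (-T') (-S') (t • 1) := by
    show Matrix.scalar (Fin n ⊕ Fin n) t - _ = _
    rw [Matrix.scalar_apply, ← Matrix.smul_one_eq_diagonal, ← fromBlocks_one, fromBlocks_smul,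
      Matrix.map_zero _ (map_zero f), sub_eq_add_neg, fromBlocks_neg, fromBlocks_add]
    simp [sub_eq_add_neg]
  have h1 : M * fromBlocks (t • 1) 0 S' 1 = fromBlocks (t • ((t + t⁻¹) • 1 - H')) (-T') 0 (t • 1) := by
    rw [hM, fromBlocks_multiply]
    congr 1
    · rw [Matrix.neg_mul, hST]
      simp only [Matrix.mul_smul, mul_one, smul_sub, smul_smul, mul_add, mul_inv_cancel₀ ht, add_smul, one_smul,
        smul_add]
      match_scalars <;> ring
    · simp
    · simp
    · simp
  have h2 := congrArg Matrix.det h1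
  rw [det_mul, det_fromBlocks_zero₁₂, det_fromBlocks_zero₂₁] at h2
  simp only [det_smul, det_one, mul_one, Fintype.card_fin] at h2
  rw [Matrix.scalar_apply, ← Matrix.smul_one_eq_diagonal]
  exact mul_right_cancel₀ (pow_ne_zero n ht) h2

theorem eq_of_block_eq {n : ℕ} (H S H' S' : Matrix (Fin n) (Fin n) F) (hu : IsUnit S.det) (hu' : IsUnit S'.det)
    (he : (fromBlocks H (-S⁻¹) S 0).charpoly = (fromBlocks H' (-S'⁻¹) S' 0).charpoly) :
    H.charpoly = H'.charpoly := by
  apply Polynomial.map_injective (algebraMap F (AlgebraicClosure F)) (algebraMap F _).injective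
  refine Polynomial.funext fun c => ?_
  obtain ⟨t, ht⟩ := IsAlgClosed.exists_root (X ^ 2 - C c * X + 1 : (AlgebraicClosure F)[X]) (by
    rw [show (X ^ 2 - C c * X + 1 : (AlgebraicClosure F)[X]) = C 1 * X ^ 2 + C (-c) * X + C 1 by
      simp only [map_one, map_neg]; ring, degree_quadratic one_ne_zero]
    decide)
  simp only [IsRoot.def, eval_add, eval_sub, eval_pow, eval_X, eval_mul, eval_C, eval_one] at ht
  have ht0 : t ≠ 0 := by
    rintro rfl
    simp at ht
  have hc : t + t⁻¹ = c := by
    field_simp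
    linear_combination ht
  have h1 := eval_block_charpoly (algebraMap F (AlgebraicClosure F)) H S hu t ht0
  rw [he, eval_block_charpoly (algebraMap F (AlgebraicClosure F)) H' S' hu' t ht0, hc] at h1
  exact (mul_left_cancel₀ (pow_ne_zero n ht0) h1).symm

variable [Fintype F]

theorem charpoly_pow_card_pow {m : Type*} [Fintype m] [DecidableEq m] (M : Matrix m m F) (k : ℕ) :
    (M ^ Fintype.card F ^ k).charpoly = M.charpoly := by
  induction k with
  | zero => simp
  | succ k ih => rw [pow_succ, pow_mul, FiniteField.Matrix.charpoly_pow_card, ih]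

theorem exists_regular_pow {G : Type*} [Group G] [Finite G] (p : ℕ) [Fact p.Prime] [CharP F p] (A : G) :
    ∃ k, (orderOf (A ^ Fintype.card F ^ k)).Coprime p := by
  have hp : p.Prime := Fact.out
  obtain ⟨f, -, hq⟩ := FiniteField.card F p
  set o := orderOf A
  have ho : o ≠ 0 := (orderOf_pos A).ne'
  refine ⟨o, ?_⟩
  have hd : ordProj[p] o ∣ Nat.gcd o (Fintype.card F ^ o) := by
    refine Nat.dvd_gcd (Nat.ordProj_dvd o p) ?_
    rw [hq, ← pow_mul]
    refine pow_dvd_pow p ((le_of_lt (Nat.factorization_lt p ho)).trans (Nat.le_mul_of_pos_left o f.pos))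
  rw [orderOf_pow' A (pow_ne_zero _ Fintype.card_ne_zero)]
  obtain ⟨c, hc⟩ := hd
  have hmul := Nat.div_mul_cancel (Nat.gcd_dvd_left o (Fintype.card F ^ o))
  rw [hc] at hmul
  refine Nat.Coprime.coprime_dvd_left ?_ (Nat.coprime_ordCompl hp ho).symm
  refine ⟨c, Nat.div_eq_of_eq_mul_right (Nat.ordProj_pos o p) ?_⟩
  rw [hc]
  linarith [hmul]

end

/-- In the symplectic group `Sp_{2n}(q)`, `q` a power of the prime `p`, the number of conjugacy classes of elements of order prime to `p` is `q^n`. -/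
theorem result {F : Type*} [Field F] [Fintype F] {q : ℕ} (hq : Fintype.card F = q) (p : ℕ) [Fact p.Prime] [CharP F p] (n : ℕ) :
    Nat.card {c : ConjClasses ↥(Matrix.symplecticGroup (Fin n) F) //
      ∃ g : ↥(Matrix.symplecticGroup (Fin n) F), ConjClasses.mk g = c ∧ (orderOf g).Coprime p} = q ^ n := by
  classical
  let T := {c : ConjClasses ↥(Matrix.symplecticGroup (Fin n) F) //
      ∃ g : ↥(Matrix.symplecticGroup (Fin n) F), ConjClasses.mk g = c ∧ (orderOf g).Coprime p}
  have hinv : ∀ a b : ↥(Matrix.symplecticGroup (Fin n) F), IsConj a b → a.1.charpoly = b.1.charpoly := by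
    intro a b hab
    obtain ⟨P, hP⟩ := (Matrix.symplecticGroup (Fin n) F).subtype.map_isConj hab
    have hb : b.1 = P.1 * a.1 * (P⁻¹).1 := (Units.eq_mul_inv_iff_mul_eq (c := P)).2 hP.eq.symm
    rw [hb]
    exact ((Matrix.coe_units_inv P).symm ▸ Matrix.charpoly_units_conj P a.1).symm
  have hpal : ∀ (a : ↥(Matrix.symplecticGroup (Fin n) F)) (i : ℕ), i ≤ 2 * n →
      a.1.charpoly.coeff i = a.1.charpoly.coeff (2 * n - i) := by
    intro a i hi
    have hd : a.1.charpoly.natDegree = 2 * n := by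
      rw [Matrix.charpoly_natDegree_eq_dim, Fintype.card_sum, Fintype.card_fin]; ring
    have hdet : a.1.det = 1 := SymplecticGroup.det_eq_one a.2
    obtain ⟨P, hP⟩ := Cfsg.Agent.S2586.result a
    have h1 : (a⁻¹).1.charpoly = a.1.charpoly := by
      rw [(Units.eq_mul_inv_iff_mul_eq (c := P)).2 hP.eq.symm, Matrix.coe_units_inv]
      exact Matrix.charpoly_units_conj P a.1
    rw [SymplecticGroup.coe_inv', Matrix.charpoly_inv _ ((Matrix.isUnit_iff_isUnit_det _).2 (by rw [hdet]; exact isUnit_one)),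
      hdet, ← Matrix.reverse_charpoly] at h1
    simp [← two_mul] at h1
    conv_lhs => rw [← h1, Polynomial.coeff_reverse, hd, Polynomial.revAt_le hi]
  have hdeg : ∀ a : ↥(Matrix.symplecticGroup (Fin n) F), a.1.charpoly.natDegree = 2 * n := fun a => by
    rw [Matrix.charpoly_natDegree_eq_dim, Fintype.card_sum, Fintype.card_fin]; ring
  -- upper bound
  let Φ : T → (Fin n → F) := fun c i => c.2.choose.1.charpoly.coeff (i.1 + 1)
  have hΦ : Function.Injective Φ := by
    intro c d h
    apply Subtype.ext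
    rw [← c.2.choose_spec.1, ← d.2.choose_spec.1, ConjClasses.mk_eq_mk_iff_isConj]
    refine Cfsg.Agent.S2389.result p n _ _ c.2.choose_spec.2 d.2.choose_spec.2 ?_
    have hlow : ∀ i ≤ n, c.2.choose.1.charpoly.coeff i = d.2.choose.1.charpoly.coeff i := by
      intro i hi
      rcases Nat.eq_zero_or_pos i with rfl | hi0
      · rw [hpal _ 0 (Nat.zero_le _), hpal _ 0 (Nat.zero_le _), Nat.sub_zero]
        conv_lhs => rw [← hdeg c.2.choose, (Matrix.charpoly_monic _).coeff_natDegree]
        conv_rhs => rw [← hdeg d.2.choose, (Matrix.charpoly_monic _).coeff_natDegree]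
      · have := congrFun h ⟨i - 1, by omega⟩
        simp only [Φ, Nat.sub_add_cancel hi0] at this
        exact this
    ext i
    rcases Nat.lt_or_ge (2 * n) i with h2 | h2
    · rw [coeff_eq_zero_of_natDegree_lt (by rw [hdeg]; exact h2), coeff_eq_zero_of_natDegree_lt (by rw [hdeg]; exact h2)]
    · rcases Nat.lt_or_ge n i with h3 | h3
      · rw [hpal _ i h2, hpal _ i h2]
        exact hlow _ (by omega)
      · exact hlow i h3
  -- lower bound
  let M := {h : F[X] // h.Monic ∧ h.natDegree = n}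
  choose H S hH hS hu hHS using fun h : M => exists_companion h.1 h.2.1 h.2.2
  let A : M → ↥(Matrix.symplecticGroup (Fin n) F) := fun h =>
    ⟨fromBlocks (H h) (-(S h)⁻¹) (S h) 0, block_mem _ _ (hS h) (hu h) (hHS h)⟩
  choose k hk using fun h : M => exists_regular_pow (F := F) p (A h)
  let Ψ : M → T := fun h => ⟨ConjClasses.mk (A h ^ Fintype.card F ^ k h), _, rfl, hk h⟩
  have hΨ : Function.Injective Ψ := by
    intro h h' e
    have e1 := hinv _ _ (ConjClasses.mk_eq_mk_iff_isConj.1 (congrArg Subtype.val e))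
    rw [SubmonoidClass.coe_pow, SubmonoidClass.coe_pow, charpoly_pow_card_pow, charpoly_pow_card_pow] at e1
    have e2 := eq_of_block_eq _ _ _ _ (hu h) (hu h') e1
    rw [hH, hH] at e2
    exact Subtype.ext e2
  let eM : M ≃ (Fin n → F) := (monicEquivDegreeLT (R := F) n).trans (degreeLTEquiv F n).toEquiv
  apply le_antisymm
  · refine (Nat.card_le_card_of_injective Φ hΦ).trans_eq ?_
    rw [Nat.card_fun, Nat.card_eq_fintype_card, Nat.card_fin, hq]
  · refine le_trans (le_of_eq ?_) (Nat.card_le_card_of_injective (fun v => Ψ (eM.symm v)) (hΨ.comp eM.symm.injective))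
    rw [Nat.card_fun, Nat.card_eq_fintype_card, Nat.card_fin, hq]

end Cfsg.Agent.S2385
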