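import Cfsg.Statements.S2386
import Cfsg.Agent.SemisimpleSU.Conj

set_option autoImplicit false
open Cfsg

namespace Cfsg.Agent.S2386

open Polynomial Matrix CfsgLib.SemisimpleSU

section
variable {K : Type*} [Field K]

/-- Fixed vectors of a semilinear involution make up half of the space. -/
theorem card_fixed {V : Type*} [AddCommGroup V] [Module K V] {σ : K →+* K} (hσσ : ∀ x, σ (σ x) = x) {x : K}
    (hx : σ x ≠ x) (τ : V →ₛₗ[σ] V) (hτ : ∀ v, τ (τ v) = v) :
    Nat.card {v : V // τ v = v} ^ 2 = Nat.card V := by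
  rw [pow_two, ← Nat.card_prod]
  have hd : x - σ x ≠ 0 := sub_ne_zero.2 (Ne.symm hx)
  refine Nat.card_congr
    { toFun := fun a => a.1.1 + x • a.2.1
      invFun := fun v => (⟨v - x • (x - σ x)⁻¹ • (v - τ v), ?_⟩, ⟨(x - σ x)⁻¹ • (v - τ v), ?_⟩)
      left_inv := ?_
      right_inv := fun v => sub_add_cancel _ _ }
  · set b := (x - σ x)⁻¹ • (v - τ v) with hbd
    have hb : τ b = b := by
      rw [hbd, LinearMap.map_smulₛₗ, map_sub, hτ, map_inv₀, map_sub, hσσ, ← neg_sub x (σ x), inv_neg, neg_smul,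
        ← smul_neg, neg_sub]
    have he : τ v = v - (x - σ x) • b := by
      rw [hbd, smul_inv_smul₀ hd]
      abel
    rw [map_sub, LinearMap.map_smulₛₗ, hb, he, sub_smul]
    abel
  · rw [LinearMap.map_smulₛₗ, map_sub, hτ, map_inv₀, map_sub, hσσ, ← neg_sub x (σ x), inv_neg, neg_smul,
      ← smul_neg, neg_sub]
  · rintro ⟨⟨a, ha⟩, ⟨b, hb⟩⟩
    have e : (a + x • b) - τ (a + x • b) = (x - σ x) • b := by
      rw [map_add, LinearMap.map_smulₛₗ, ha, hb, sub_smul]
      abel
    refine Prod.ext (Subtype.ext ?_) (Subtype.ext ?_)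
    · simp only [e, inv_smul_smul₀ hd]
      abel
    · simp only [e, inv_smul_smul₀ hd]

theorem star_coeff {σ : K →+* K} {n : ℕ} (f : K[X]) (hd : f.natDegree = n) (h0 : f.coeff 0 = (-1) ^ n) {i : ℕ}
    (hi : i ≤ n) : (star σ f).coeff i = (-1) ^ n * σ (f.coeff (n - i)) := by
  rw [CfsgLib.SemisimpleSU.star, coeff_C_mul, coeff_reverse, natDegree_map, hd, revAt_le hi, coeff_map, h0, map_pow,
    map_neg, map_one, ← inv_pow, inv_neg, inv_one]

theorem star_eq_iff {σ : K →+* K} {n : ℕ} (f : K[X]) (hm : f.Monic) (hd : f.natDegree = n)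
    (h0 : f.coeff 0 = (-1) ^ n) :
    star σ f = f ↔ ∀ i : Fin (n - 1), f.coeff (i.1 + 1) = (-1) ^ n * σ (f.coeff ((Fin.rev i).1 + 1)) := by
  constructor
  · intro h i
    conv_lhs => rw [← h, star_coeff f hd h0 (by omega)]
    rw [Fin.val_rev]
    congr 3
    omega
  · intro h
    have h00 : f.coeff 0 ≠ 0 := by rw [h0]; exact pow_ne_zero _ (neg_ne_zero.2 one_ne_zero)
    ext i
    rcases Nat.lt_or_ge n i with hi | hi
    · rw [coeff_eq_zero_of_natDegree_lt (by rw [natDegree_star h00, hd]; exact hi),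
        coeff_eq_zero_of_natDegree_lt (by rw [hd]; exact hi)]
    · rw [star_coeff f hd h0 hi]
      have hlead : f.coeff n = 1 := hd ▸ hm.coeff_natDegree
      rcases Nat.eq_zero_or_pos i with rfl | hi0
      · rw [Nat.sub_zero, hlead, map_one, mul_one, h0]
      rcases Nat.lt_or_ge i n with hin | hin
      · have := h ⟨i - 1, by omega⟩
        simp only [Fin.val_rev] at this
        rw [show i - 1 + 1 = i by omega, show n - 1 - i + 1 = n - i by omega] at this
        exact this.symm
      · obtain rfl : i = n := by omega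
        rw [Nat.sub_self, h0, hlead, map_pow, map_neg, map_one, ← mul_pow]
        simp

theorem ext_coeff {n : ℕ} (f g : K[X]) (hf : f.Monic) (hg : g.Monic) (hfd : f.natDegree = n) (hgd : g.natDegree = n)
    (hf0 : f.coeff 0 = g.coeff 0) (h : ∀ i : Fin (n - 1), f.coeff (i.1 + 1) = g.coeff (i.1 + 1)) : f = g := by
  ext i
  rcases Nat.eq_zero_or_pos i with rfl | hi0
  · exact hf0
  rcases lt_trichotomy i n with hlt | rfl | hgt
  · have := h ⟨i - 1, by omega⟩
    simp only at this
    rwa [Nat.sub_add_cancel hi0] at this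
  · have h1 := hf.coeff_natDegree
    have h2 := hg.coeff_natDegree
    rw [hfd] at h1
    rw [hgd] at h2
    rw [h1, h2]
  · rw [coeff_eq_zero_of_natDegree_lt (by omega), coeff_eq_zero_of_natDegree_lt (by omega)]

theorem exists_poly {n : ℕ} (hn : 1 ≤ n) (v : Fin (n - 1) → K) : ∃ f : K[X], f.Monic ∧ f.natDegree = n ∧
    f.coeff 0 = (-1) ^ n ∧ ∀ i : Fin (n - 1), f.coeff (i.1 + 1) = v i := by
  obtain ⟨m, rfl⟩ : ∃ m, n = m + 1 := ⟨n - 1, by omega⟩
  let e : {f : K[X] // f.Monic ∧ f.natDegree = m + 1} ≃ (Fin (m + 1) → K) :=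
    (monicEquivDegreeLT (R := K) (m + 1)).trans (degreeLTEquiv K (m + 1)).toEquiv
  let f := e.symm (Fin.cons ((-1) ^ (m + 1)) v)
  have he : e f = Fin.cons ((-1) ^ (m + 1)) v := e.apply_symm_apply _
  have hc : ∀ j : Fin (m + 1), e f j = f.1.coeff j.1 := fun j => by
    simp [e, monicEquivDegreeLT, degreeLTEquiv, eraseLead_coeff, f.2.2, j.2.ne]
  refine ⟨f.1, f.2.1, f.2.2, ?_, fun i => ?_⟩
  · have := hc 0
    rw [he] at this
    simpa using this.symm
  · have := hc (Fin.succ i)
    rw [he] at this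
    simpa using this.symm

end

/-- In the special unitary group `SU_n(q)` (matrices of determinant one over the field with `q²` elements preserving the standard Hermitian form), `q` a power of the prime `p`, the number of conjugacy classes of elements of order prime to `p` is `q^(n-1)`. -/
theorem result {F : Type*} [Field F] [Fintype F] {q : ℕ} (hF : Fintype.card F = q ^ 2) (p : ℕ) [Fact p.Prime] [CharP F p] (n : ℕ) (hn : 1 ≤ n) :
    Nat.card {c : ConjClasses ↥(Cfsg.SU n F q) // ∃ g : ↥(Cfsg.SU n F q), ConjClasses.mk g = c ∧ (orderOf g).Coprime p} = q ^ (n - 1) := by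
  classical
  obtain ⟨σ, hσ, hσσ⟩ := CfsgLib.FieldEmb.exists_conj hF
  obtain ⟨x, hx⟩ : ∃ x, σ x ≠ x := by
    by_contra hall
    push Not at hall
    have hq1 : 1 < q := by
      have := Fintype.one_lt_card (α := F)
      rw [hF] at this
      by_contra hq
      push Not at hq
      interval_cases q <;> simp at this
    have h1 : (Finset.univ : Finset F) ⊆ (X ^ q - X : F[X]).roots.toFinset := fun y _ => by
      rw [Multiset.mem_toFinset, mem_roots (FiniteField.X_pow_card_sub_X_ne_zero F hq1)]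
      simp [← hσ, hall]
    have h2 := ((Finset.card_le_card h1).trans (Multiset.toFinset_card_le _)).trans (card_roots' _)
    rw [FiniteField.X_pow_card_sub_X_natDegree_eq F hq1, Finset.card_univ, hF] at h2
    nlinarith
  let τ : (Fin (n - 1) → F) →ₛₗ[σ] (Fin (n - 1) → F) :=
    { toFun := fun v i => (-1) ^ n * σ (v (Fin.rev i))
      map_add' := fun u v => funext fun i => by simp [mul_add]
      map_smul' := fun c v => funext fun i => by simp; ring }
  have hτ : ∀ v, τ (τ v) = v := fun v => funext fun i => by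
    show (-1 : F) ^ n * σ ((-1) ^ n * σ (v (Fin.rev (Fin.rev i)))) = v i
    rw [map_mul, hσσ, map_pow, map_neg, map_one, Fin.rev_rev, ← mul_assoc, ← mul_pow]
    simp
  let ι : Cfsg.SU n F q →* Cfsg.GU n F q :=
    { toFun := fun g => ⟨Matrix.SpecialLinearGroup.toGL g.1, g.2⟩
      map_one' := Subtype.ext (map_one _)
      map_mul' := fun g h => Subtype.ext (map_mul _ _ _) }
  have hcp : ∀ g : Cfsg.SU n F q, g.1.1.charpoly.Monic ∧ g.1.1.charpoly.natDegree = n ∧
      g.1.1.charpoly.coeff 0 = (-1) ^ n ∧ star σ g.1.1.charpoly = g.1.1.charpoly := by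
    intro g
    refine ⟨Matrix.charpoly_monic _, by rw [Matrix.charpoly_natDegree_eq_dim, Fintype.card_fin], ?_,
      star_charpoly_GU hσ hσσ (ι g)⟩
    have hd := Matrix.det_eq_sign_charpoly_coeff g.1.1
    rw [g.1.2, Fintype.card_fin] at hd
    calc g.1.1.charpoly.coeff 0 = (-1 : F) ^ n * ((-1) ^ n * g.1.1.charpoly.coeff 0) := by
          rw [← mul_assoc, ← mul_pow, neg_one_mul, neg_neg, one_pow, one_mul]
      _ = _ := by rw [← hd, mul_one]
  have hinv : ∀ a b : Cfsg.SU n F q, IsConj a b → a.1.1.charpoly = b.1.1.charpoly := by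
    intro a b hab
    obtain ⟨P, rfl⟩ := isConj_iff.1 hab
    show _ = ((Matrix.SpecialLinearGroup.toGL P.1 : Matrix (Fin n) (Fin n) F) * a.1.1 *
      ((Matrix.SpecialLinearGroup.toGL P.1⁻¹ : GL (Fin n) F) : Matrix (Fin n) (Fin n) F)).charpoly
    rw [map_inv, Matrix.coe_units_inv]
    exact (Matrix.charpoly_units_conj _ _).symm
  let T := {c : ConjClasses ↥(Cfsg.SU n F q) // ∃ g : ↥(Cfsg.SU n F q), ConjClasses.mk g = c ∧ (orderOf g).Coprime p}
  let Φ : T → {v : Fin (n - 1) → F // τ v = v} := fun c =>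
    ⟨fun i => c.2.choose.1.1.charpoly.coeff (i.1 + 1), funext fun i => by
      obtain ⟨h1, h2, h3, h4⟩ := hcp c.2.choose
      exact (((star_eq_iff _ h1 h2 h3).1 h4) i).symm⟩
  have hΦ : Function.Bijective Φ := by
    refine ⟨fun c d h => ?_, fun v => ?_⟩
    · apply Subtype.ext
      rw [← c.2.choose_spec.1, ← d.2.choose_spec.1, ConjClasses.mk_eq_mk_iff_isConj]
      refine isConj_SU (p := p) hF _ _ c.2.choose_spec.2 d.2.choose_spec.2 (ext_coeff _ _ (hcp _).1 (hcp _).1
        (hcp _).2.1 (hcp _).2.1 ((hcp _).2.2.1.trans (hcp _).2.2.1.symm) fun i => ?_)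
      exact congrFun (congrArg Subtype.val h) i
    · obtain ⟨f, hm, hd, h0, hc⟩ := exists_poly hn v.1
      have hs : star σ f = f := (star_eq_iff f hm hd h0).2 fun i => by
        rw [hc, hc]
        exact (congrFun v.2 i).symm
      obtain ⟨B, hB, hBc⟩ := exists_GU_charpoly (p := p) hF hσ hm
        (by rw [h0]; exact pow_ne_zero _ (neg_ne_zero.2 one_ne_zero)) hs hd
      have hdet : (B : GL (Fin n) F).1.det = 1 := by
        rw [Matrix.det_eq_sign_charpoly_coeff, hBc, h0, Fintype.card_fin, ← mul_pow]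
        simp
      let g : Cfsg.SU n F q := ⟨⟨(B : GL (Fin n) F).1, hdet⟩, B.2⟩
      have hgι : Matrix.SpecialLinearGroup.toGL g.1 = (B : GL (Fin n) F) := Units.ext rfl
      have hg : (orderOf g).Coprime p := by
        rw [← orderOf_injective (Matrix.SpecialLinearGroup.toGL.comp (Cfsg.SU n F q).subtype)
          (Matrix.SpecialLinearGroup.toGL_injective.comp Subtype.val_injective) g]
        show (orderOf (Matrix.SpecialLinearGroup.toGL g.1)).Coprime p
        rw [hgι]
        exact hB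
      let c : T := ⟨ConjClasses.mk g, g, rfl, hg⟩
      refine ⟨c, Subtype.ext (funext fun i => ?_)⟩
      show c.2.choose.1.1.charpoly.coeff (i.1 + 1) = v.1 i
      rw [hinv _ _ (ConjClasses.mk_eq_mk_iff_isConj.1 c.2.choose_spec.1), ← hc i, ← hBc]
  have key := card_fixed hσσ hx τ hτ
  rw [← Nat.card_congr (Equiv.ofBijective Φ hΦ), Nat.card_fun, Nat.card_fin, Nat.card_eq_fintype_card (α := F),
    hF, ← pow_mul, mul_comm, pow_mul] at key
  exact Nat.pow_left_injective (by norm_num : (2 : ℕ) ≠ 0) key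

end Cfsg.Agent.S2386
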