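import Cfsg.Statements.S2387
import Cfsg.Agent.CharpolySS.Matrix

set_option autoImplicit false
open scoped MatrixGroups
open Cfsg

namespace Cfsg.Agent.S2387

open Polynomial CfsgLib.CharpolySS

/-- In `GL_n(q)` with `n ≥ 1`, `q` a power of the prime `p`, the number of conjugacy classes of elements of order prime to `p` (diagonalisable over the algebraic closure; determined by the characteristic polynomial) is `(q - 1) q^(n-1)`. -/
theorem result {F : Type*} [Field F] [Fintype F] {q : ℕ} (hq : Fintype.card F = q) (p : ℕ) [Fact p.Prime] [CharP F p] (n : ℕ) (hn : 1 ≤ n) :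
    Nat.card {c : ConjClasses (GL (Fin n) F) // ∃ g : GL (Fin n) F, ConjClasses.mk g = c ∧ (orderOf g).Coprime p} = (q - 1) * q ^ (n - 1) := by
  classical
  let cp : ConjClasses (GL (Fin n) F) → F[X] := Quotient.lift
    (fun g : GL (Fin n) F => (g : Matrix (Fin n) (Fin n) F).charpoly) (by
      intro a b hab
      obtain ⟨c, rfl⟩ := isConj_iff.1 hab
      simp [Matrix.charpoly_units_conj])
  let P := {χ : F[X] // χ.Monic ∧ χ.natDegree = n ∧ χ.coeff 0 ≠ 0}
  have hne : ∀ g : GL (Fin n) F, (g : Matrix (Fin n) (Fin n) F).charpoly.coeff 0 ≠ 0 := by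
    intro g h
    have := Matrix.det_eq_sign_charpoly_coeff (g : Matrix (Fin n) (Fin n) F)
    rw [h, mul_zero] at this
    exact (Matrix.GeneralLinearGroup.det g).ne_zero (by simpa using this)
  let Φ : {c : ConjClasses (GL (Fin n) F) // ∃ g : GL (Fin n) F, ConjClasses.mk g = c ∧ (orderOf g).Coprime p} → P :=
    fun c => ⟨cp c.1, by
      obtain ⟨c, g, rfl, -⟩ := c
      exact ⟨Matrix.charpoly_monic _, by
        show (g : Matrix (Fin n) (Fin n) F).charpoly.natDegree = n
        rw [Matrix.charpoly_natDegree_eq_dim, Fintype.card_fin], hne g⟩⟩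
  have hΦ : Function.Bijective Φ := by
    constructor
    · rintro ⟨c, g, rfl, hg⟩ ⟨d, h, rfl, hh⟩ e
      apply Subtype.ext
      exact ConjClasses.mk_eq_mk_iff_isConj.2
        (isConj_GL_of_charpoly_eq g h hg hh (congrArg Subtype.val e))
    · rintro ⟨χ, hm, hd, h0⟩
      obtain ⟨g, hg1, hg2⟩ := exists_GL_charpoly (p := p) hn χ hm hd h0
      exact ⟨⟨ConjClasses.mk g, g, rfl, hg1⟩, Subtype.ext hg2⟩
  obtain ⟨m, rfl⟩ : ∃ m, n = m + 1 := ⟨n - 1, by omega⟩
  let e1 : P ≃ {χ : {χ : F[X] // χ.Monic ∧ χ.natDegree = m + 1} // χ.1.coeff 0 ≠ 0} :=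
    { toFun := fun χ => ⟨⟨χ.1, χ.2.1, χ.2.2.1⟩, χ.2.2.2⟩
      invFun := fun χ => ⟨χ.1.1, χ.1.2.1, χ.1.2.2, χ.2⟩
      left_inv := fun _ => rfl
      right_inv := fun _ => rfl }
  let e2 : {χ : {χ : F[X] // χ.Monic ∧ χ.natDegree = m + 1} // χ.1.coeff 0 ≠ 0} ≃
      {f : Fin (m + 1) → F // f 0 ≠ 0} :=
    ((monicEquivDegreeLT (R := F) (m + 1)).trans (degreeLTEquiv F (m + 1)).toEquiv).subtypeEquiv
      fun χ => by
        obtain ⟨χ, hm, hd⟩ := χ
        simp [monicEquivDegreeLT, degreeLTEquiv, eraseLead_coeff, hd]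
  let e3 : {f : Fin (m + 1) → F // f 0 ≠ 0} ≃ {a : F // a ≠ 0} × (Fin m → F) :=
    { toFun := fun f => (⟨f.1 0, f.2⟩, Fin.tail f.1)
      invFun := fun x => ⟨Fin.cons x.1.1 x.2, by simpa using x.1.2⟩
      left_inv := fun f => Subtype.ext (Fin.cons_self_tail f.1)
      right_inv := fun x => by simp }
  rw [Nat.card_congr (((Equiv.ofBijective Φ hΦ).trans e1).trans (e2.trans e3)), Nat.card_prod,
    Nat.card_fun, Nat.card_fin, Nat.card_eq_fintype_card, Fintype.card_subtype_compl,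
    Fintype.card_subtype_eq, Nat.card_eq_fintype_card, hq]
  simp

end Cfsg.Agent.S2387
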