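import Cfsg.Statements.S2391
import Mathlib.GroupTheory.PGroup

set_option autoImplicit false
open Cfsg

namespace Cfsg.Agent.S2391

open Matrix

variable {F : Type*} [Field F] {n : ℕ}

/-- The vectors moved into `S` by all elements of `U`. -/
def nextFixed (U : Subgroup (Matrix.SpecialLinearGroup (Fin n) F)) (S : Submodule F (Fin n → F)) :
    Submodule F (Fin n → F) where
  carrier := {v | ∀ u ∈ U, (u : Matrix (Fin n) (Fin n) F) *ᵥ v - v ∈ S}
  zero_mem' := fun u _ => by simp
  add_mem' := fun {a b} ha hb u hu => by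
    have := S.add_mem (ha u hu) (hb u hu)
    rw [mulVec_add]
    convert this using 1
    abel
  smul_mem' := fun c v hv u hu => by
    have := S.smul_mem c (hv u hu)
    rw [mulVec_smul]
    rwa [smul_sub] at this

/-- The ascending series of iterated fixed points. -/
def fixedSeries (U : Subgroup (Matrix.SpecialLinearGroup (Fin n) F)) : ℕ → Submodule F (Fin n → F)
  | 0 => ⊥
  | i + 1 => nextFixed U (fixedSeries U i)

lemma fixedSeries_le_succ (U : Subgroup (Matrix.SpecialLinearGroup (Fin n) F)) :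
    ∀ i, fixedSeries U i ≤ fixedSeries U (i + 1)
  | 0 => bot_le
  | i + 1 => fun v hv u hu => fixedSeries_le_succ U i (hv u hu)

lemma mulVec_mem_fixedSeries (U : Subgroup (Matrix.SpecialLinearGroup (Fin n) F))
    {g : Matrix.SpecialLinearGroup (Fin n) F} (hg : g ∈ Subgroup.normalizer (U : Set _)) :
    ∀ i, ∀ v ∈ fixedSeries U i, (g : Matrix (Fin n) (Fin n) F) *ᵥ v ∈ fixedSeries U i
  | 0 => fun v hv => by
    rw [show fixedSeries U 0 = ⊥ from rfl, Submodule.mem_bot] at *
    simp [hv]
  | i + 1 => fun v hv u hu => by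
    have hu' : g⁻¹ * u * g ∈ U := by
      have h := (Subgroup.mem_normalizer_iff.1 (inv_mem hg) u).1 hu
      simpa using h
    have h := mulVec_mem_fixedSeries U hg i _ (hv _ hu')
    rw [mulVec_sub, mulVec_mulVec, ← Matrix.SpecialLinearGroup.coe_mul, ← mul_assoc, ← mul_assoc,
      mul_inv_cancel, one_mul, Matrix.SpecialLinearGroup.coe_mul, ← mulVec_mulVec] at h
    exact h

lemma exists_mem_nextFixed [Finite F] (p : ℕ) [Fact p.Prime] [CharP F p]
    {U : Subgroup (Matrix.SpecialLinearGroup (Fin n) F)} (hU : IsPGroup p ↥U)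
    {S : Submodule F (Fin n → F)}
    (hinv : ∀ u ∈ U, ∀ v ∈ S, (u : Matrix (Fin n) (Fin n) F) *ᵥ v ∈ S) (hS : S ≠ ⊤) :
    ∃ v ∈ nextFixed U S, v ∉ S := by
  cases nonempty_fintype F
  let f : ↥U → ((Fin n → F) ⧸ S) →ₗ[F] ((Fin n → F) ⧸ S) := fun u =>
    S.mapQ S (Matrix.mulVecLin (u.1 : Matrix (Fin n) (Fin n) F)) fun v hv => hinv u.1 u.2 v hv
  let inst : MulAction ↥U ((Fin n → F) ⧸ S) :=
    { smul := fun u x => f u x
      one_smul := fun x => by
        obtain ⟨v, rfl⟩ := Submodule.mkQ_surjective S x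
        change f 1 (Submodule.Quotient.mk v) = Submodule.Quotient.mk v
        simp [f]
      mul_smul := fun a b x => by
        obtain ⟨v, rfl⟩ := Submodule.mkQ_surjective S x
        change f (a * b) (Submodule.Quotient.mk v) = f a (f b (Submodule.Quotient.mk v))
        change Submodule.Quotient.mk _ = Submodule.Quotient.mk _
        simp [mulVec_mulVec] }
  have : Nontrivial ((Fin n → F) ⧸ S) := Submodule.Quotient.nontrivial_iff.2 hS
  have : Finite ((Fin n → F) ⧸ S) := Finite.of_surjective _ (Submodule.mkQ_surjective S)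
  have hdvd : p ∣ Nat.card ((Fin n → F) ⧸ S) := by
    rw [Module.natCard_eq_pow_finrank (K := F)]
    refine dvd_pow ?_ Module.finrank_pos.ne'
    obtain ⟨k, -, hk⟩ := FiniteField.card F p
    rw [Nat.card_eq_fintype_card, hk]
    exact dvd_pow_self p k.ne_zero
  have h0 : (0 : (Fin n → F) ⧸ S) ∈ MulAction.fixedPoints ↥U ((Fin n → F) ⧸ S) :=
    fun u => map_zero (f u)
  obtain ⟨b, hb, hne⟩ := hU.exists_fixed_point_of_prime_dvd_card_of_fixed_point _ hdvd h0
  obtain ⟨v, rfl⟩ := Submodule.mkQ_surjective S b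
  refine ⟨v, fun u hu => ?_, fun hv => hne ?_⟩
  · have := hb ⟨u, hu⟩
    change f ⟨u, hu⟩ (Submodule.Quotient.mk v) = Submodule.Quotient.mk v at this
    change Submodule.Quotient.mk _ = Submodule.Quotient.mk v at this
    exact (Submodule.Quotient.eq S).1 this
  · simp [(Submodule.Quotient.mk_eq_zero S).2 hv]

/-- The Borel–Tits property of `SL_n(q)` in flag form: for a field `F` of characteristic `p` with finitely many elements and a non-trivial `p`-subgroup `U` of `SL_n(F)`, there is a flag `0 = V₀ < V₁ < ⋯ < V_{k+1} = F^n` with at least one proper non-zero member such that every element of the normaliser of `U` maps each `V_i` onto itself and every element of `U` acts trivially on each quotient `V_{i+1}/V_i` (so the normaliser lies in the parabolic subgroup of the flag and `U` in its unipotent radical). -/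
theorem result {F : Type*} [Field F] [Fintype F] (p : ℕ) [Fact p.Prime] [CharP F p] (n : ℕ)
    (U : Subgroup (Matrix.SpecialLinearGroup (Fin n) F)) (hU : IsPGroup p ↥U) (hne : U ≠ ⊥) :
    ∃ (k : ℕ) (V : Fin (k + 2) → Submodule F (Fin n → F)), 1 ≤ k ∧ StrictMono V ∧ V 0 = ⊥ ∧ V (Fin.last (k + 1)) = ⊤ ∧
      (∀ g ∈ Subgroup.normalizer (U : Set (Matrix.SpecialLinearGroup (Fin n) F)), ∀ i, (V i).map (Matrix.mulVecLin (g : Matrix (Fin n) (Fin n) F)) = V i) ∧
      (∀ u ∈ U, ∀ i : Fin (k + 1), ∀ v ∈ V i.succ, (u : Matrix (Fin n) (Fin n) F).mulVec v - v ∈ V (Fin.castSucc i)) := by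
  classical
  have hUN : ∀ u ∈ U, u ∈ Subgroup.normalizer (U : Set (Matrix.SpecialLinearGroup (Fin n) F)) :=
    fun u hu => Subgroup.le_normalizer hu
  have hstrict : ∀ i, fixedSeries U i ≠ ⊤ → fixedSeries U i < fixedSeries U (i + 1) := by
    intro i hi
    obtain ⟨v, hv, hv'⟩ := exists_mem_nextFixed p hU
      (fun u hu => mulVec_mem_fixedSeries U (hUN u hu) i) hi
    exact lt_of_le_of_ne (fixedSeries_le_succ U i) fun h => hv' (h.ge hv)
  have hex : ∃ i, fixedSeries U i = ⊤ := by
    by_contra h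
    push Not at h
    have hmono : ∀ i, i ≤ Module.finrank F (fixedSeries U i) := by
      intro i
      induction i with
      | zero => exact Nat.zero_le _
      | succ i ih => exact Nat.succ_le_of_lt (ih.trans_lt (Submodule.finrank_lt_finrank_of_lt (hstrict i (h i))))
    have := (hmono (n + 1)).trans (Submodule.finrank_le _)
    simp at this
  set m := Nat.find hex with hm
  have hmtop : fixedSeries U m = ⊤ := Nat.find_spec hex
  have h1 : fixedSeries U 1 ≠ ⊤ := by
    intro h
    obtain ⟨u, hu, hu1⟩ : ∃ u ∈ U, u ≠ 1 := U.bot_or_exists_ne_one.resolve_left hne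
    refine hu1 (Subtype.ext (Matrix.ext_of_mulVec_single fun j => ?_))
    have hv : Pi.single j (1 : F) ∈ fixedSeries U 1 := h ▸ Submodule.mem_top
    have := hv u hu
    rw [show fixedSeries U 0 = ⊥ from rfl, Submodule.mem_bot, sub_eq_zero] at this
    rw [Matrix.SpecialLinearGroup.coe_one, one_mulVec]
    exact this
  have hm2 : 2 ≤ m := by
    by_contra hc
    have h01 := fixedSeries_le_succ U 0
    interval_cases hcase : m
    · exact h1 (top_le_iff.1 (hmtop ▸ h01))
    · exact h1 hmtop
  obtain ⟨k, hk⟩ : ∃ k, m = k + 1 := ⟨m - 1, by omega⟩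
  refine ⟨k, fun i => fixedSeries U i.val, by omega, ?_, rfl, ?_, ?_, ?_⟩
  · rw [Fin.strictMono_iff_lt_succ]
    intro i
    refine hstrict i.val fun h => ?_
    have := Nat.find_min' hex h
    have := i.isLt
    omega
  · simpa [hk] using hmtop
  · intro g hg i
    refine le_antisymm ?_ fun v hv => ?_
    · rintro _ ⟨v, hv, rfl⟩
      exact mulVec_mem_fixedSeries U hg _ v hv
    · refine ⟨(g⁻¹ : Matrix.SpecialLinearGroup (Fin n) F).1.mulVec v,
        mulVec_mem_fixedSeries U (inv_mem hg) _ v hv, ?_⟩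
      rw [Matrix.mulVecLin_apply, Matrix.mulVec_mulVec, ← Matrix.SpecialLinearGroup.coe_mul,
        mul_inv_cancel, Matrix.SpecialLinearGroup.coe_one, Matrix.one_mulVec]
  · intro u hu i v hv
    exact hv u hu

end Cfsg.Agent.S2391
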