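import Cfsg.Statements.S2392
import Cfsg.Agent.CharOrbit.Basic
import Mathlib.LinearAlgebra.Matrix.SchurComplement

set_option autoImplicit false
open scoped MatrixGroups
open Cfsg

namespace Cfsg.Agent.S2392

open Matrix CfsgLib.CharOrbit

variable {F : Type*} [Field F] {m : ℕ}

/-- `1 + u wᵀ` for orthogonal `u`, `w`, as an element of `SL`. -/
def transvec (u w : Fin (m + 1) → F) (h : w ⬝ᵥ u = 0) : Matrix.SpecialLinearGroup (Fin (m + 1)) F :=
  ⟨1 + vecMulVec u w, by
    rw [vecMulVec_eq Unit, det_one_add_replicateCol_mul_replicateRow, h, add_zero]⟩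

/-- The abelian subgroup of the first row. -/
def rowHom : Multiplicative (Fin m → F) →* Matrix.SpecialLinearGroup (Fin (m + 1)) F where
  toFun t := transvec (Fin.cons 1 0) (Fin.cons 0 t.toAdd) (by simp [dotProduct, Fin.sum_univ_succ])
  map_one' := by
    refine Subtype.ext ?_
    change (1 : Matrix (Fin (m + 1)) (Fin (m + 1)) F) + vecMulVec _ _ = 1
    ext i j
    cases j using Fin.cases <;> simp [vecMulVec_apply]
  map_mul' a b := by
    refine Subtype.ext ?_
    change (1 : Matrix (Fin (m + 1)) (Fin (m + 1)) F) + vecMulVec _ _ =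
      (1 + vecMulVec _ _) * (1 + vecMulVec _ _)
    rw [mul_add, mul_one, add_mul, one_mul, vecMulVec_mul_vecMulVec]
    ext i j
    cases j using Fin.cases <;> simp [vecMulVec_apply, dotProduct, Fin.sum_univ_succ, mul_add, add_assoc]

lemma exists_dot {w w' : Fin m → F} (h : w ∉ Submodule.span F {w' - w}) :
    ∃ φ : Fin m → F, φ ⬝ᵥ (w' - w) = 0 ∧ w ⬝ᵥ φ = 1 := by
  obtain ⟨f, hfw, hfd⟩ := Submodule.exists_dual_map_eq_bot_of_notMem h inferInstance
  refine ⟨fun j => (f w)⁻¹ * f (Pi.single j 1), ?_, ?_⟩ <;>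
    have hf : ∀ v : Fin m → F, f v = ∑ j, v j * f (Pi.single j 1) := fun v => by
      conv_lhs => rw [pi_eq_sum_univ' v, map_sum]
      exact Finset.sum_congr rfl fun j _ => by rw [map_smul, smul_eq_mul]
  · have : f (w' - w) = 0 := by
      have h2 : f (w' - w) ∈ (Submodule.span F {w' - w}).map f :=
        ⟨_, Submodule.mem_span_singleton_self _, rfl⟩
      rwa [hfd, Submodule.mem_bot] at h2
    have e : (fun j => (f w)⁻¹ * f (Pi.single j 1)) ⬝ᵥ (w' - w) = (f w)⁻¹ * f (w' - w) := by
      rw [hf (w' - w), Finset.mul_sum]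
      exact Finset.sum_congr rfl fun j _ => by ring
    rw [e, this, mul_zero]
  · have e : w ⬝ᵥ (fun j => (f w)⁻¹ * f (Pi.single j 1)) = (f w)⁻¹ * f w := by
      conv_rhs => arg 2; rw [hf w]
      rw [Finset.mul_sum]
      exact Finset.sum_congr rfl fun j _ => by ring
    rw [e, inv_mul_cancel₀ hfw]

/-- A lower bound for representations in cross characteristic: for `n ≥ 3` and a field `F` with `q` elements, every homomorphism from `SL_n(F)` to `GL_d(K)`, `K` a field of characteristic different from that of `F`, whose kernel is central has `d ≥ q^(n-1) - 1`. -/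
theorem result {F : Type*} [Field F] [Fintype F] {q : ℕ} (hq : Fintype.card F = q) (n : ℕ) (hn : 3 ≤ n)
    {K : Type*} [Field K] (hK : ringChar K ≠ ringChar F) {d : ℕ}
    (ρ : Matrix.SpecialLinearGroup (Fin n) F →* GL (Fin d) K) (hker : ρ.ker ≤ Subgroup.center (Matrix.SpecialLinearGroup (Fin n) F)) :
    q ^ (n - 1) - 1 ≤ d := by
  classical
  obtain ⟨m, rfl⟩ : ∃ m, n = m + 1 := ⟨n - 1, by omega⟩
  obtain ⟨p, hp⟩ := CharP.exists F
  obtain ⟨k, hpp, hk⟩ := FiniteField.card F p
  have hqK : (q : K) ≠ 0 := by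
    intro h
    rw [← hq, hk, Nat.cast_pow, pow_eq_zero_iff k.ne_zero] at h
    refine hK ?_
    rw [ringChar.eq F p]
    exact ((Nat.dvd_prime hpp).1 (ringChar.dvd h)).resolve_left CharP.ringChar_ne_one
  let L := AlgebraicClosure K
  let ρA := (closureEnd ρ).comp (rowHom (F := F) (m := m))
  have hA : (Nat.card (Multiplicative (Fin m → F)) : L) ≠ 0 := by
    rw [Nat.card_congr Multiplicative.toAdd, Nat.card_fun, Nat.card_eq_fintype_card, hq,
      Nat.card_fin, Nat.cast_pow, ← map_natCast (algebraMap K L)]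
    exact pow_ne_zero _ ((map_ne_zero _).2 hqK)
  let j₀ : Fin m := ⟨0, by omega⟩
  have ha : ρA (Multiplicative.ofAdd (Pi.single j₀ 1)) ≠ 1 := by
    intro h
    have hc := hker (MonoidHom.mem_ker.2 ((closureEnd_injective ρ).1 h))
    have hcomm := Subgroup.mem_center_iff.1 hc
      (transvec (Fin.cons 0 (Pi.single j₀ 1)) (Fin.cons 1 0) (by simp [dotProduct, Fin.sum_univ_succ]))
    let a : Matrix (Fin (m + 1)) (Fin (m + 1)) F := 1 + vecMulVec (Fin.cons 0 (Pi.single j₀ 1)) (Fin.cons 1 0)
    let b : Matrix (Fin (m + 1)) (Fin (m + 1)) F := 1 + vecMulVec (Fin.cons 1 0) (Fin.cons 0 (Pi.single j₀ 1))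
    have e : a * b = b * a := congr_arg Subtype.val hcomm
    have := congr_fun (congr_fun e 0) 0
    simp [a, b, Matrix.one_apply, (Fin.succ_ne_zero _).symm, Matrix.mul_apply, vecMulVec_apply, Fin.sum_univ_succ, add_mul,
      mul_add, Pi.single_apply] at this
  obtain ⟨χ, hχ, hχ1⟩ := exists_weight hA ρA ha
  let c : AddChar (Fin m → F) L :=
    { toFun := fun t => χ (Multiplicative.ofAdd t)
      map_zero_eq_one' := map_one_of_isWeight hχ
      map_add_eq_mul' := fun s t => map_mul_of_isWeight hχ _ _ }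
  let ψ : AddChar F L :=
    { toFun := fun s => c (Pi.single j₀ s)
      map_zero_eq_one' := by simp
      map_add_eq_mul' := fun s t => by rw [Pi.single_add, AddChar.map_add_eq_mul] }
  have hψ : ψ ≠ 1 := fun h => hχ1 (DFunLike.congr_fun h 1)
  obtain ⟨w₀, hw₀⟩ := exists_eq_dotChar ψ hψ c
  let χw : (Fin m → F) → Multiplicative (Fin m → F) → L := fun w t => ψ (w ⬝ᵥ t.toAdd)
  have hw₀w : IsWeight ρA (χw w₀) := by
    convert hχ using 1
    funext t
    exact (hw₀ t.toAdd).symm
  have hw₀0 : w₀ ≠ 0 := by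
    intro h
    refine hχ1 ?_
    change c (Pi.single j₀ 1) = 1
    rw [hw₀, h, zero_dotProduct, AddChar.map_zero_eq_one]
  have step : ∀ w w' : Fin m → F, w ∉ Submodule.span F {w' - w} → IsWeight ρA (χw w) →
      IsWeight ρA (χw w') := by
    intro w w' hne hw
    obtain ⟨φ, hφ0, hφ1⟩ := exists_dot hne
    let u := w' - w
    let σ : Multiplicative (Fin m → F) → Multiplicative (Fin m → F) :=
      fun t => Multiplicative.ofAdd (t.toAdd + (t.toAdd ⬝ᵥ u) • φ)
    convert isWeight_conj_group rowHom ρ hw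
      (transvec (Fin.cons 0 u) (Fin.cons 0 φ) (by simpa [u, dotProduct, Fin.sum_univ_succ] using hφ0)) σ ?_
      using 1
    · funext t
      change ψ (w' ⬝ᵥ t.toAdd) = ψ (w ⬝ᵥ (t.toAdd + (t.toAdd ⬝ᵥ u) • φ))
      congr 1
      rw [dotProduct_add, dotProduct_smul, hφ1, dotProduct_comm t.toAdd u, sub_dotProduct,
        smul_eq_mul, mul_one, add_sub_cancel]
    · intro t
      refine Subtype.ext ?_
      change (1 + vecMulVec (Fin.cons 0 u) (Fin.cons 0 φ)) *
          ((1 : Matrix (Fin (m + 1)) (Fin (m + 1)) F) + vecMulVec (Fin.cons 1 0) (Fin.cons 0 (σ t).toAdd)) =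
        (1 + vecMulVec (Fin.cons 1 0) (Fin.cons 0 t.toAdd)) * (1 + vecMulVec (Fin.cons 0 u) (Fin.cons 0 φ))
      simp only [mul_add, add_mul, one_mul, mul_one, vecMulVec_mul_vecMulVec]
      ext i j
      cases i using Fin.cases <;> cases j using Fin.cases <;>
        simp [σ, vecMulVec_apply, dotProduct, Fin.sum_univ_succ, mul_comm, Finset.mul_sum, add_assoc]
  have hall : ∀ w' : Fin m → F, w' ≠ 0 → IsWeight ρA (χw w') := by
    intro w' hw'
    by_cases h : w₀ ∈ Submodule.span F {w' - w₀}
    · obtain ⟨a, ha⟩ := Submodule.mem_span_singleton.1 h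
      have hw'mem : w' ∈ Submodule.span F {w₀} := by
        by_cases ha0 : a = 0
        · exact absurd (by simpa [ha0] using ha.symm) hw₀0
        · refine Submodule.mem_span_singleton.2 ⟨a⁻¹ + 1, ?_⟩
          rw [add_smul, one_smul]
          conv_lhs => arg 1; rw [← ha, smul_smul, inv_mul_cancel₀ ha0, one_smul]
          abel
      obtain ⟨b, hb⟩ := Submodule.mem_span_singleton.1 hw'mem
      obtain ⟨z, hz⟩ : ∃ z, z ∉ Submodule.span F {w₀} := by
        by_contra hc
        push Not at hc
        have : Submodule.span F {w₀} = ⊤ := top_le_iff.1 fun v _ => hc v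
        have h1 := finrank_span_singleton (K := F) hw₀0
        rw [this, finrank_top, Module.finrank_fin_fun] at h1
        omega
      have e1 : w₀ ∉ Submodule.span F {z - w₀} := by
        intro hm
        obtain ⟨c', hc'⟩ := Submodule.mem_span_singleton.1 hm
        by_cases hc0 : c' = 0
        · exact hw₀0 (by simpa [hc0] using hc'.symm)
        · refine hz (Submodule.mem_span_singleton.2 ⟨c'⁻¹ + 1, ?_⟩)
          rw [add_smul, one_smul]
          conv_lhs => arg 1; rw [← hc', smul_smul, inv_mul_cancel₀ hc0, one_smul]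
          abel
      have hb0 : b ≠ 0 := fun hb0 => hw' (by simp [← hb, hb0])
      have e2 : z ∉ Submodule.span F {w' - z} := by
        intro hm
        obtain ⟨c', hc'⟩ := Submodule.mem_span_singleton.1 hm
        by_cases hc0 : c' = -1
        · rw [hc0, neg_smul, one_smul, neg_sub, sub_eq_self] at hc'
          exact hw' hc'
        · refine hz (Submodule.mem_span_singleton.2 ⟨(c' + 1)⁻¹ * c' * b, ?_⟩)
          have h1 : c' + 1 ≠ 0 := fun h => hc0 (eq_neg_of_add_eq_zero_left h)
          rw [smul_sub, sub_eq_iff_eq_add] at hc'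
          rw [mul_assoc, mul_smul, inv_smul_eq_iff₀ h1, mul_smul, hb, hc', add_smul, one_smul]
          abel
      exact step z w' e2 (step w₀ z e1 hw₀w)
    · exact step w₀ w' h hw₀w
  have hinj : Function.Injective χw := by
    intro w w' h
    by_contra hne
    obtain ⟨j, hj⟩ := Function.ne_iff.1 hne
    obtain ⟨s, hs⟩ := AddChar.ne_one_iff.1 hψ
    refine hs ?_
    have := congr_fun h (Multiplicative.ofAdd (Pi.single j (s / (w j - w' j))))
    simp only [χw, toAdd_ofAdd, dotProduct_single] at this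
    have e : s = w j * (s / (w j - w' j)) - w' j * (s / (w j - w' j)) := by
      field_simp [sub_ne_zero.2 hj]
    rw [e, sub_eq_add_neg, AddChar.map_add_eq_mul, this, ← AddChar.map_add_eq_mul, add_neg_cancel,
      AddChar.map_zero_eq_one]
  have := card_weights_le ρA (((Finset.univ : Finset (Fin m → F)).erase 0).image χw) (by
    intro χ' hχ'
    obtain ⟨w', hw', rfl⟩ := Finset.mem_image.1 hχ'
    exact hall w' (Finset.mem_erase.1 hw').1)
  rw [Finset.card_image_of_injective _ hinj, Finset.card_erase_of_mem (Finset.mem_univ _),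
    Finset.card_univ, Fintype.card_fun, Fintype.card_fin, hq, Module.finrank_fin_fun] at this
  simpa using this

end Cfsg.Agent.S2392
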