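import Cfsg.Statements.S2393
import Cfsg.Agent.CharOrbit.Basic
import Mathlib.LinearAlgebra.SymplecticGroup

set_option autoImplicit false
open scoped MatrixGroups
open Cfsg

namespace Cfsg.Agent.S2393

open Matrix CfsgLib.CharOrbit

variable {F : Type*} [Field F] {m : ℕ}

/-- The symmetric matrix with first row and column `v` and zeros elsewhere. -/
def cross (v : Fin (m + 1) → F) : Matrix (Fin (m + 1)) (Fin (m + 1)) F :=
  Matrix.of fun i j => if i = 0 then v j else if j = 0 then v i else 0

lemma cross_transpose (v : Fin (m + 1) → F) : (cross v)ᵀ = cross v := by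
  ext i j
  by_cases hi : i = 0 <;> by_cases hj : j = 0 <;> simp [cross, hi, hj]

lemma cross_add (v w : Fin (m + 1) → F) : cross (v + w) = cross v + cross w := by
  ext i j
  by_cases hi : i = 0 <;> by_cases hj : j = 0 <;> simp [cross, hi, hj]

lemma fromBlocks_cross_mem (v : Fin (m + 1) → F) :
    fromBlocks 1 (cross v) 0 1 ∈ Matrix.symplecticGroup (Fin (m + 1)) F := by
  rw [SymplecticGroup.mem_iff, Matrix.J, fromBlocks_transpose, fromBlocks_multiply, fromBlocks_multiply]
  simp [cross_transpose]

/-- The abelian subgroup of long root group and isotropic vectors. -/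
def crossHom : Multiplicative (Fin (m + 1) → F) →* ↥(Matrix.symplecticGroup (Fin (m + 1)) F) where
  toFun v := ⟨fromBlocks 1 (cross v.toAdd) 0 1, fromBlocks_cross_mem _⟩
  map_one' := by
    refine Subtype.ext ?_
    change fromBlocks 1 (cross (0 : Fin (m + 1) → F)) 0 1 = 1
    have : cross (0 : Fin (m + 1) → F) = 0 := by ext i j; simp [cross]
    rw [this, fromBlocks_one]
  map_mul' v w := by
    refine Subtype.ext ?_
    change fromBlocks 1 (cross (v.toAdd + w.toAdd)) 0 1 =
      fromBlocks 1 (cross v.toAdd) 0 1 * fromBlocks 1 (cross w.toAdd) 0 1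
    rw [fromBlocks_multiply, cross_add]
    simp [add_comm]

/-- The matrix `[a, c; 0, 1]`. -/
def topMat (a : F) (c : Fin m → F) : Matrix (Fin (m + 1)) (Fin (m + 1)) F :=
  Matrix.of fun i j => if i = 0 then (Fin.cons a c : Fin (m + 1) → F) j else if i = j then 1 else 0

/-- The image of `v` under the congruence by `topMat a c`. -/
def congrCross (a : F) (c : Fin m → F) (v : Fin (m + 1) → F) : Fin (m + 1) → F :=
  Fin.cons (a ^ 2 * v 0 + 2 * a * (c ⬝ᵥ fun j => v j.succ)) fun j => a * v j.succ

lemma topMat_congr (a : F) (c : Fin m → F) (v : Fin (m + 1) → F) :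
    topMat a c * cross v * (topMat a c)ᵀ = cross (congrCross a c v) := by
  ext i j
  cases i using Fin.cases <;> cases j using Fin.cases <;>
    simp [topMat, cross, congrCross, Matrix.mul_apply, Fin.sum_univ_succ, dotProduct,
      Fin.succ_ne_zero, (Fin.succ_ne_zero _).symm, Finset.sum_mul, Finset.mul_sum]
  · rw [add_mul, Finset.sum_mul, ← sub_eq_zero]
    ring_nf
    rw [← Finset.sum_add_distrib, ← Finset.sum_sub_distrib]
    exact Finset.sum_eq_zero fun x _ => by ring
  all_goals ring

/-- A lower bound for representations in cross characteristic: for `n ≥ 2` and a field `F` with `q` elements, `q` odd, every homomorphism from the symplectic group `Sp_{2n}(F)` to `GL_d(K)`, `K` a field of characteristic different from that of `F`, whose kernel is central has `d ≥ q^(n-1)(q-1)/2`. -/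
theorem result {F : Type*} [Field F] [Fintype F] {q : ℕ} (hq : Fintype.card F = q) (hodd : Odd q) (n : ℕ) (hn : 2 ≤ n)
    {K : Type*} [Field K] (hK : ringChar K ≠ ringChar F) {d : ℕ}
    (ρ : ↥(Matrix.symplecticGroup (Fin n) F) →* GL (Fin d) K) (hker : ρ.ker ≤ Subgroup.center ↥(Matrix.symplecticGroup (Fin n) F)) :
    q ^ (n - 1) * (q - 1) / 2 ≤ d := by
  classical
  obtain ⟨m, rfl⟩ : ∃ m, n = m + 1 := ⟨n - 1, by omega⟩
  obtain ⟨p, hp⟩ := CharP.exists F
  obtain ⟨k, hpp, hk⟩ := FiniteField.card F p
  have h2 : (2 : F) ≠ 0 := by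
    intro h
    have : CharP F 2 := CharTwo.of_one_ne_zero_of_two_eq_zero one_ne_zero h
    obtain ⟨k', -, hk'⟩ := FiniteField.card F 2
    rw [← hq, hk'] at hodd
    exact (Nat.not_odd_iff_even.2 ((Nat.even_pow).2 ⟨even_two, k'.ne_zero⟩)) hodd
  have hqK : (q : K) ≠ 0 := by
    intro h
    rw [← hq, hk, Nat.cast_pow, pow_eq_zero_iff k.ne_zero] at h
    refine hK ?_
    rw [ringChar.eq F p]
    exact ((Nat.dvd_prime hpp).1 (ringChar.dvd h)).resolve_left CharP.ringChar_ne_one
  let L := AlgebraicClosure K
  let ρA := (closureEnd ρ).comp (crossHom (F := F) (m := m))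
  have hA : (Nat.card (Multiplicative (Fin (m + 1) → F)) : L) ≠ 0 := by
    rw [Nat.card_congr Multiplicative.toAdd, Nat.card_fun, Nat.card_eq_fintype_card, hq,
      Nat.card_fin, Nat.cast_pow, ← map_natCast (algebraMap K L)]
    exact pow_ne_zero _ ((map_ne_zero _).2 hqK)
  have ha : ρA (Multiplicative.ofAdd (Pi.single 0 1)) ≠ 1 := by
    intro h
    have hc := hker (MonoidHom.mem_ker.2 ((closureEnd_injective ρ).1 h))
    have hcomm := Subgroup.mem_center_iff.1 hc
      ⟨Matrix.J (Fin (m + 1)) F, SymplecticGroup.J_mem _ _⟩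
    have e : Matrix.J (Fin (m + 1)) F * fromBlocks 1 (cross (Pi.single 0 1)) 0 1 =
        fromBlocks 1 (cross (Pi.single 0 1)) 0 1 * Matrix.J (Fin (m + 1)) F :=
      congr_arg Subtype.val hcomm
    rw [Matrix.J, fromBlocks_multiply, fromBlocks_multiply, fromBlocks_inj] at e
    have := congr_fun (congr_fun e.1 0) 0
    simp [cross] at this
  obtain ⟨χ, hχ, hχ1⟩ := exists_weight hA ρA ha
  let c₀ : AddChar (Fin (m + 1) → F) L :=
    { toFun := fun t => χ (Multiplicative.ofAdd t)
      map_zero_eq_one' := map_one_of_isWeight hχ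
      map_add_eq_mul' := fun s t => map_mul_of_isWeight hχ _ _ }
  let ψ : AddChar F L :=
    { toFun := fun s => c₀ (Pi.single 0 s)
      map_zero_eq_one' := by simp
      map_add_eq_mul' := fun s t => by rw [Pi.single_add, AddChar.map_add_eq_mul] }
  have hψ : ψ ≠ 1 := fun h => hχ1 (DFunLike.congr_fun h 1)
  obtain ⟨w, hw⟩ := exists_eq_dotChar ψ hψ c₀
  let χw : (Fin (m + 1) → F) → Multiplicative (Fin (m + 1) → F) → L :=
    fun w t => ψ (w ⬝ᵥ t.toAdd)
  have hww : IsWeight ρA (χw w) := by
    convert hχ using 1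
    funext t
    exact (hw t.toAdd).symm
  have hw0 : w 0 ≠ 0 := by
    intro h
    refine hχ1 ?_
    change c₀ (Pi.single 0 1) = 1
    rw [hw, dotProduct_single, h, zero_mul, AddChar.map_zero_eq_one]
  let sq : Finset F := ((Finset.univ : Finset F).erase 0).image fun a => w 0 * a ^ 2
  have hall : ∀ b ∈ sq, ∀ y : Fin m → F, IsWeight ρA (χw (Fin.cons b y)) := by
    intro b hb y
    obtain ⟨a, ha', rfl⟩ := Finset.mem_image.1 hb
    have ha0 : a ≠ 0 := (Finset.mem_erase.1 ha').1
    let c : Fin m → F := fun j => (y j - a * w j.succ) / (2 * a * w 0)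
    let M := topMat a c
    have hdet : M.det ≠ 0 := by
      have hM : M.BlockTriangular id := by
        intro i j hij
        cases i using Fin.cases with
        | zero => exact absurd hij (by simp)
        | succ i => simp [M, topMat, Fin.succ_ne_zero, (show i.succ ≠ j from (ne_of_lt hij).symm)]
      rw [Matrix.det_of_isUpperTriangular hM, Finset.prod_ne_zero_iff]
      intro i _
      cases i using Fin.cases <;> simp [M, topMat, ha0, Fin.succ_ne_zero]
    have hX : fromBlocks M⁻¹ 0 0 Mᵀ ∈ Matrix.symplecticGroup (Fin (m + 1)) F := by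
      have hMT : M * M⁻¹ = 1 := M.mul_nonsing_inv hdet.isUnit
      have hTM : M⁻¹ * M = 1 := M.nonsing_inv_mul hdet.isUnit
      rw [SymplecticGroup.mem_iff, Matrix.J, fromBlocks_transpose, fromBlocks_multiply,
        fromBlocks_multiply]
      simp [← transpose_mul, hMT, hTM]
    let σ : Multiplicative (Fin (m + 1) → F) → Multiplicative (Fin (m + 1) → F) :=
      fun t => Multiplicative.ofAdd (congrCross a c t.toAdd)
    convert isWeight_conj_group crossHom ρ hww ⟨_, hX⟩ σ ?_ using 1
    · funext t
      change ψ _ = ψ _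
      congr 1
      simp only [σ, toAdd_ofAdd, congrCross, dotProduct, Fin.sum_univ_succ, Fin.cons_zero, Fin.cons_succ]
      rw [mul_add, add_assoc]
      congr 1
      · ring
      · rw [← mul_assoc, Finset.mul_sum, ← Finset.sum_add_distrib]
        refine Finset.sum_congr rfl fun j _ => ?_
        simp only [c]
        field_simp
        ring
    · intro t
      refine Subtype.ext ?_
      change fromBlocks M⁻¹ 0 0 Mᵀ * fromBlocks 1 (cross (congrCross a c t.toAdd)) 0 1 =
        fromBlocks 1 (cross t.toAdd) 0 1 * fromBlocks M⁻¹ 0 0 Mᵀ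
      rw [← topMat_congr, fromBlocks_multiply, fromBlocks_multiply]
      simp [M, ← Matrix.mul_assoc, Matrix.nonsing_inv_mul _ hdet.isUnit]
  have hinj : Function.Injective χw := by
    intro w w' h
    by_contra hne
    obtain ⟨j, hj⟩ := Function.ne_iff.1 hne
    obtain ⟨s, hs⟩ := AddChar.ne_one_iff.1 hψ
    refine hs ?_
    have := congr_fun h (Multiplicative.ofAdd (Pi.single j (s / (w j - w' j))))
    simp only [χw, toAdd_ofAdd, dotProduct_single] at this
    have e : s = w j * (s / (w j - w' j)) - w' j * (s / (w j - w' j)) := by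
      field_simp [sub_ne_zero.2 hj]
    rw [e, sub_eq_add_neg, AddChar.map_add_eq_mul, this, ← AddChar.map_add_eq_mul, add_neg_cancel,
      AddChar.map_zero_eq_one]
  have hle := card_weights_le ρA ((sq ×ˢ (Finset.univ : Finset (Fin m → F))).image
    fun by' => χw (Fin.cons by'.1 by'.2)) (by
    intro χ' hχ'
    obtain ⟨by', hby, rfl⟩ := Finset.mem_image.1 hχ'
    exact hall _ (Finset.mem_product.1 hby).1 _)
  have hinj2 : Function.Injective fun by' : F × (Fin m → F) => χw (Fin.cons by'.1 by'.2) := by
    intro a b h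
    have := Fin.cons_injective2 (hinj h)
    exact Prod.ext this.1 this.2
  rw [Finset.card_image_of_injective _ hinj2, Finset.card_product,
    Finset.card_univ, Fintype.card_fun, Fintype.card_fin, hq, Module.finrank_fin_fun] at hle
  have hsq : ((Finset.univ : Finset F).erase 0).card ≤ 2 * sq.card := by
    refine Finset.card_le_mul_card_image _ 2 fun b hb => ?_
    obtain ⟨a, -, rfl⟩ := Finset.mem_image.1 hb
    refine (Finset.card_le_card (t := {a, -a}) fun x hx => ?_).trans (Finset.card_le_two)
    rw [Finset.mem_filter] at hx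
    rcases eq_or_eq_neg_of_sq_eq_sq _ _ (mul_left_cancel₀ hw0 hx.2) with h | h <;> simp [h]
  rw [Finset.card_erase_of_mem (Finset.mem_univ _), Finset.card_univ, hq] at hsq
  simp only [Nat.add_sub_cancel]
  calc q ^ m * (q - 1) / 2 ≤ q ^ m * (2 * sq.card) / 2 :=
        Nat.div_le_div_right (Nat.mul_le_mul_left _ hsq)
    _ = sq.card * q ^ m := by rw [mul_left_comm, Nat.mul_div_cancel_left _ two_pos, mul_comm]
    _ ≤ d := hle

end Cfsg.Agent.S2393
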