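import Cfsg.Statements.S2394
import Cfsg.Agent.CharOrbit.Basic
import Mathlib.LinearAlgebra.SymplecticGroup

set_option autoImplicit false
open scoped MatrixGroups
open Cfsg

namespace Cfsg.Agent.S2394

open Matrix CfsgLib.CharOrbit

variable {F : Type*} [Field F] {n : ℕ}

/-- Block diagonal matrices made of two by two matrices. -/
def pairMat (N : Fin n → Matrix (Fin 2) (Fin 2) F) : Matrix (Fin n ⊕ Fin n) (Fin n ⊕ Fin n) F :=
  fromBlocks (diagonal fun i => N i 0 0) (diagonal fun i => N i 0 1)
    (diagonal fun i => N i 1 0) (diagonal fun i => N i 1 1)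

lemma pairMat_mem (N : Fin n → Matrix.SpecialLinearGroup (Fin 2) F) :
    pairMat (fun i => (N i : Matrix (Fin 2) (Fin 2) F)) ∈ Matrix.symplecticGroup (Fin n) F := by
  have h : ∀ i, (N i).1 0 0 * (N i).1 1 1 - (N i).1 0 1 * (N i).1 1 0 = 1 := fun i => by
    rw [← Matrix.det_fin_two]; exact (N i).2
  rw [SymplecticGroup.mem_iff, Matrix.J, pairMat, fromBlocks_transpose, fromBlocks_multiply,
    fromBlocks_multiply]
  simp only [diagonal_transpose, mul_zero, Matrix.mul_neg, mul_one, zero_add, add_zero,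
    Matrix.neg_mul, diagonal_mul_diagonal]
  congr 1 <;> ext i j <;> rcases eq_or_ne i j with rfl | hij
  all_goals first
    | simp [*]; done
    | (simp; first | linear_combination (h i) | linear_combination -(h i) | ring)

/-- The product of `n` copies of `SL₂` inside `Sp_{2n}`. -/
def pairHom : (Fin n → Matrix.SpecialLinearGroup (Fin 2) F) →* ↥(Matrix.symplecticGroup (Fin n) F) where
  toFun N := ⟨pairMat fun i => (N i : Matrix (Fin 2) (Fin 2) F), pairMat_mem N⟩
  map_one' := by
    refine Subtype.ext ?_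
    change pairMat (fun _ : Fin n => (1 : Matrix (Fin 2) (Fin 2) F)) = 1
    simp [pairMat, fromBlocks_one]
  map_mul' N M := by
    refine Subtype.ext ?_
    change pairMat (fun i => (N i : Matrix (Fin 2) (Fin 2) F) * (M i : Matrix (Fin 2) (Fin 2) F)) =
      pairMat (fun i => (N i : Matrix (Fin 2) (Fin 2) F)) * pairMat (fun i => (M i : Matrix (Fin 2) (Fin 2) F))
    rw [pairMat, pairMat, pairMat, fromBlocks_multiply]
    simp [Matrix.mul_apply, Fin.sum_univ_two]

lemma pairHom_injective : Function.Injective (pairHom (F := F) (n := n)) := by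
  intro N M h
  obtain ⟨h1, h2, h3, h4⟩ := fromBlocks_inj.1 (congr_arg Subtype.val h)
  funext i
  ext a b
  fin_cases a <;> fin_cases b
  · exact congr_fun (diagonal_injective h1) i
  · exact congr_fun (diagonal_injective h2) i
  · exact congr_fun (diagonal_injective h3) i
  · exact congr_fun (diagonal_injective h4) i

lemma exists_inverted [Finite F] :
    ∃ (M : ℕ) (c t : Matrix.SpecialLinearGroup (Fin 2) F), 0 < M ∧ (M : F) ≠ 0 ∧ c ^ M = 1 ∧
      c ^ 2 ≠ 1 ∧ t * c = c⁻¹ * t := by
  cases nonempty_fintype F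
  by_cases h2 : (2 : F) = 0
  · have : CharP F 2 := CharTwo.of_one_ne_zero_of_two_eq_zero one_ne_zero h2
    obtain ⟨c, hc⟩ : ∃ c : Matrix.SpecialLinearGroup (Fin 2) F, c.1 = !![0, 1; 1, 1] :=
      ⟨⟨!![0, 1; 1, 1], by simp [det_fin_two, CharTwo.neg_eq]⟩, rfl⟩
    obtain ⟨t, ht⟩ : ∃ t : Matrix.SpecialLinearGroup (Fin 2) F, t.1 = !![0, 1; 1, 0] :=
      ⟨⟨!![0, 1; 1, 0], by simp [det_fin_two, CharTwo.neg_eq]⟩, rfl⟩
    refine ⟨3, c, t, by norm_num, ?_, ?_, ?_, ?_⟩
    · intro h
      refine one_ne_zero (α := F) ?_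
      linear_combination h - h2
    · refine Subtype.ext ?_
      rw [Matrix.SpecialLinearGroup.coe_pow, Matrix.SpecialLinearGroup.coe_one, hc]
      ext i j
      fin_cases i <;> fin_cases j <;>
        simp [pow_succ, Matrix.mul_apply, Fin.sum_univ_two, CharTwo.add_self_eq_zero]
    · intro h
      have := congr_fun (congr_fun (congr_arg Subtype.val h) 0) 1
      rw [Matrix.SpecialLinearGroup.coe_pow, Matrix.SpecialLinearGroup.coe_one, hc] at this
      simp [pow_succ, Matrix.mul_apply, Fin.sum_univ_two] at this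
    · refine Subtype.ext ?_
      rw [Matrix.SpecialLinearGroup.coe_mul, Matrix.SpecialLinearGroup.coe_mul,
        Matrix.SpecialLinearGroup.coe_inv, hc, ht]
      ext i j
      fin_cases i <;> fin_cases j <;>
        simp [Matrix.adjugate_fin_two, Matrix.mul_apply, Fin.sum_univ_two, CharTwo.neg_eq]
  · have : Fact (ringChar F).Prime := ⟨CharP.char_is_prime F _⟩
    have hcard : Fintype.card F % 2 = 1 := by
      refine FiniteField.odd_card_of_char_ne_two fun h => h2 ?_
      have := CharP.cast_eq_zero F (ringChar F)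
      rw [h] at this
      exact_mod_cast this
    obtain ⟨a, b, hab⟩ : ∃ a b : F, a ^ 2 + b ^ 2 = -1 := by
      obtain ⟨a, b, h⟩ := FiniteField.exists_root_sum_quadratic (f := (Polynomial.X : Polynomial F) ^ 2)
        (g := Polynomial.X ^ 2 - Polynomial.C (-1)) (Polynomial.degree_X_pow 2)
        (Polynomial.degree_X_pow_sub_C (by norm_num) _) hcard
      refine ⟨a, b, ?_⟩
      simp only [Polynomial.eval_pow, Polynomial.eval_X, Polynomial.eval_sub, Polynomial.eval_C] at h
      linear_combination h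
    obtain ⟨c, hc⟩ : ∃ c : Matrix.SpecialLinearGroup (Fin 2) F, c.1 = !![0, -1; 1, 0] :=
      ⟨⟨!![0, -1; 1, 0], by simp [det_fin_two]⟩, rfl⟩
    obtain ⟨t, ht⟩ : ∃ t : Matrix.SpecialLinearGroup (Fin 2) F, t.1 = !![a, b; b, -a] :=
      ⟨⟨!![a, b; b, -a], by rw [det_fin_two]; simp; linear_combination -hab⟩, rfl⟩
    refine ⟨4, c, t, by norm_num, ?_, ?_, ?_, ?_⟩
    · intro h
      refine h2 (mul_self_eq_zero.1 ?_)
      linear_combination h
    · refine Subtype.ext ?_
      rw [Matrix.SpecialLinearGroup.coe_pow, Matrix.SpecialLinearGroup.coe_one, hc]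
      ext i j
      fin_cases i <;> fin_cases j <;> simp [pow_succ, Matrix.mul_apply, Fin.sum_univ_two]
    · intro h
      have := congr_fun (congr_fun (congr_arg Subtype.val h) 0) 0
      rw [Matrix.SpecialLinearGroup.coe_pow, Matrix.SpecialLinearGroup.coe_one, hc] at this
      simp [pow_succ, Matrix.mul_apply, Fin.sum_univ_two] at this
      exact h2 (by linear_combination -this)
    · refine Subtype.ext ?_
      rw [Matrix.SpecialLinearGroup.coe_mul, Matrix.SpecialLinearGroup.coe_mul,
        Matrix.SpecialLinearGroup.coe_inv, hc, ht]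
      ext i j
      fin_cases i <;> fin_cases j <;> simp [Matrix.adjugate_fin_two, Matrix.mul_apply, Fin.sum_univ_two]

lemma two_mul_le_two_pow : ∀ s : ℕ, 2 * s ≤ 2 ^ s
  | 0 => by simp
  | 1 => by simp
  | s + 2 => by
    have := two_mul_le_two_pow (s + 1)
    rw [pow_succ]
    omega

/-- The smallest degree of a faithful representation of the symplectic group `Sp_{2n}(q)` over its own field `F_q` is `2n`: every injective homomorphism from `Sp_{2n}(F)` to `GL_d(F)`, `F` the field with `q` elements, has `d ≥ 2n`. -/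
theorem result {F : Type*} [Field F] [Fintype F] (n : ℕ) {d : ℕ}
    (ρ : ↥(Matrix.symplecticGroup (Fin n) F) →* GL (Fin d) F) (hρ : Function.Injective ρ) : 2 * n ≤ d := by
  classical
  obtain ⟨M, c, t, hM0, hM, hcM, hc2, htc⟩ := exists_inverted (F := F)
  haveI : NeZero M := ⟨hM0.ne'⟩
  let L := AlgebraicClosure F
  let z : Multiplicative (ZMod M) →* Matrix.SpecialLinearGroup (Fin 2) F :=
    AddMonoidHom.toMultiplicativeLeft (ZMod.lift M ⟨zmultiplesHom _ (Additive.ofMul c), by
      simp [← ofMul_pow, hcM]⟩)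
  have hz : z (Multiplicative.ofAdd 1) = c := by
    change Additive.toMul (ZMod.lift M _ (1 : ZMod M)) = c
    rw [← Int.cast_one, ZMod.lift_coe]
    simp
  let ι : (Fin n → Multiplicative (ZMod M)) →* ↥(Matrix.symplecticGroup (Fin n) F) :=
    pairHom.comp (MonoidHom.piMap fun _ => z)
  let ρA := (closureEnd ρ).comp ι
  have hA : (Nat.card (Fin n → Multiplicative (ZMod M)) : L) ≠ 0 := by
    rw [Nat.card_fun, Nat.card_fin, Nat.card_congr Multiplicative.toAdd, Nat.card_zmod, Nat.cast_pow,
      ← map_natCast (algebraMap F L)]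
    exact pow_ne_zero _ ((map_ne_zero _).2 hM)
  let γ : Fin n → (Fin n → Multiplicative (ZMod M)) := fun i => Pi.mulSingle i (Multiplicative.ofAdd 1)
  -- flips
  let fl : Finset (Fin n) → (Fin n → Multiplicative (ZMod M)) → (Fin n → Multiplicative (ZMod M)) :=
    fun S a i => if i ∈ S then (a i)⁻¹ else a i
  have hflip : ∀ S χ, IsWeight ρA χ → IsWeight ρA (χ ∘ fl S) := by
    intro S χ h
    refine isWeight_conj_group ι ρ h (pairHom fun i => if i ∈ S then t else 1) (fl S) fun a => ?_
    simp only [ι, MonoidHom.comp_apply, ← map_mul]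
    congr 1
    funext i
    simp only [Pi.mul_apply, MonoidHom.piMap_apply, Pi.map_apply, fl]
    by_cases hi : i ∈ S
    · simp only [hi, if_true, map_inv]
      obtain ⟨k, hk⟩ : ∃ k : ℕ, z (a i) = c ^ k := by
        refine ⟨(a i).toAdd.val, ?_⟩
        rw [← hz, ← map_pow]
        congr 1
        rw [← ofAdd_nsmul]
        simp
      rw [hk, ← inv_pow]
      exact (SemiconjBy.pow_right (show SemiconjBy t c⁻¹ c by
        have h1 := congr_arg (fun x => c * x * c⁻¹) htc
        simp only [mul_assoc, mul_inv_cancel_left] at h1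
        exact h1.symm.trans (by simp)) k)
    · simp [hi]
  -- the weights
  obtain ⟨Ω, hΩ, hΩle⟩ : ∃ Ω : Finset ((Fin n → Multiplicative (ZMod M)) → L),
      (∀ χ, IsWeight ρA χ ↔ χ ∈ Ω) ∧ Ω.card ≤ d := by
    have hfin : {χ | IsWeight ρA χ}.Finite := by
      by_contra hinf
      obtain ⟨T, hT, hTc⟩ := Set.Infinite.exists_subset_card_eq hinf (d + 1)
      have := card_weights_le ρA T fun χ hχ => hT hχ
      rw [hTc, Module.finrank_fin_fun] at this
      omega
    refine ⟨hfin.toFinset, fun χ => by simp, ?_⟩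
    have := card_weights_le ρA hfin.toFinset fun χ hχ => by simpa using hχ
    simpa using this
  let supp : ((Fin n → Multiplicative (ZMod M)) → L) → Finset (Fin n) :=
    fun χ => Finset.univ.filter fun i => χ (γ i) * χ (γ i) ≠ 1
  have hval : ∀ χ, IsWeight ρA χ → ∀ i, χ (γ i)⁻¹ * χ (γ i) = 1 := fun χ h i => by
    rw [← map_mul_of_isWeight h, inv_mul_cancel, map_one_of_isWeight h]
  have hflγ : ∀ S i, fl S (γ i) = if i ∈ S then (γ i)⁻¹ else γ i := by
    intro S i
    funext j
    by_cases hij : j = i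
    · subst hij
      by_cases hj : j ∈ S <;> simp [fl, γ, hj]
    · by_cases hi : i ∈ S <;> by_cases hj : j ∈ S <;> simp [fl, γ, hij, hi, hj]
  have hfib : ∀ χ ∈ Ω, 2 ^ (supp χ).card ≤ (Ω.filter fun χ' => supp χ' = supp χ).card := by
    intro χ hχ
    rw [← Finset.card_powerset]
    have hw := (hΩ χ).2 hχ
    refine Finset.card_le_card_of_injOn (fun S => χ ∘ fl S) (fun S hS => ?_) ?_
    · rw [Finset.mem_coe, Finset.mem_filter, ← hΩ]
      refine ⟨hflip S χ hw, ?_⟩
      ext i
      simp only [supp, Finset.mem_filter, Finset.mem_univ, true_and, Function.comp_apply, hflγ]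
      by_cases hi : i ∈ S
      · rw [if_pos hi]
        have h := hval χ hw i
        constructor
        · intro h1 h2
          exact h1 (by linear_combination (χ (γ i)⁻¹ * χ (γ i) + 1) * h - (χ (γ i)⁻¹ * χ (γ i)⁻¹) * h2)
        · intro h1 h2
          exact h1 (by linear_combination (χ (γ i)⁻¹ * χ (γ i) + 1) * h - (χ (γ i) * χ (γ i)) * h2)
      · rw [if_neg hi]
    · intro S hS S' hS' he
      ext i
      by_contra hne
      have hi : i ∈ supp χ := by
        by_cases hiS : i ∈ S
        · exact Finset.mem_powerset.1 hS hiS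
        · exact Finset.mem_powerset.1 hS' (by tauto)
      have h := congr_fun he (γ i)
      simp only [Function.comp_apply, hflγ] at h
      simp only [supp, Finset.mem_filter, Finset.mem_univ, true_and] at hi
      have h1 := hval χ hw i
      rcases not_iff.1 hne |> fun hh => (em (i ∈ S)).elim (fun a => Or.inl (⟨a, fun b => (hh.2 b) a⟩ : i ∈ S ∧ i ∉ S'))
          (fun a => Or.inr (⟨a, hh.1 a⟩ : i ∉ S ∧ i ∈ S')) with ⟨a, b⟩ | ⟨a, b⟩
      · rw [if_pos a, if_neg b] at h
        exact hi (by rw [← h1, h])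
      · rw [if_neg a, if_pos b] at h
        exact hi (by rw [← h1, ← h])
  have hcover : ∀ i, ∃ χ ∈ Ω, i ∈ supp χ := by
    intro i
    have hne : ρA (γ i * γ i) ≠ 1 := by
      intro h
      have h1 := hρ (((closureEnd_injective ρ).1 h).trans (map_one ρ).symm)
      have h2 := congr_fun (pairHom_injective (h1.trans (map_one pairHom).symm)) i
      simp only [MonoidHom.piMap_apply, Pi.map_apply, Pi.mul_apply, γ, Pi.mulSingle_eq_same,
        Pi.one_apply, map_mul, hz] at h2
      exact hc2 (by rw [pow_two, h2])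
    obtain ⟨χ, hχ, hχ1⟩ := exists_weight hA ρA hne
    refine ⟨χ, (hΩ χ).1 hχ, ?_⟩
    simpa [supp, ← map_mul_of_isWeight hχ] using hχ1
  calc 2 * n = 2 * (Ω.image supp |>.biUnion id).card := by
        rw [Finset.eq_univ_of_forall (s := (Ω.image supp).biUnion id) fun i => ?_, Finset.card_univ,
          Fintype.card_fin]
        obtain ⟨χ, hχ, hi⟩ := hcover i
        exact Finset.mem_biUnion.2 ⟨supp χ, Finset.mem_image_of_mem _ hχ, hi⟩
    _ ≤ ∑ S ∈ Ω.image supp, 2 * S.card := by
        rw [← Finset.mul_sum]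
        exact Nat.mul_le_mul_left _ Finset.card_biUnion_le
    _ ≤ ∑ S ∈ Ω.image supp, (Ω.filter fun χ' => supp χ' = S).card := by
        refine Finset.sum_le_sum fun S hS => ?_
        obtain ⟨χ, hχ, rfl⟩ := Finset.mem_image.1 hS
        exact (two_mul_le_two_pow _).trans (hfib χ hχ)
    _ = Ω.card := (Finset.card_eq_sum_card_image _ _).symm
    _ ≤ d := hΩle

end Cfsg.Agent.S2394
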