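import Cfsg.Statements.S2400
import Cfsg.Agent.ChevCollect.LiftThree

set_option autoImplicit false
open Cfsg

namespace Cfsg.Agent.S2400

/-- Over a finite field `K`, the group presented by Steinberg's relators (R1)–(R3) (the universal Chevalley group) of type E₆ or E₇, or of type B₂ or D₄ with `K` of more than two elements, has trivial Schur multiplier: every finite stem extension of it is an isomorphism (Schur multiplier described through stem extensions as in the definitions). Types G₂, F₄ and E₈ are not covered here. -/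
theorem result {K : Type*} [Field K] [Fintype K] (e : Cfsg.Lie.ChevalleyDatum × ℕ)
    (he : e ∈ [(Cfsg.Lie.chevE6, 0), (Cfsg.Lie.chevE7, 0), (Cfsg.Lie.chevB2, 2), (Cfsg.Lie.chevD4, 2)]) (hK : Fintype.card K ≠ e.2) :
    Cfsg.HasCyclicSchurMultiplier (e.1.SteinbergGroup K) 1 := by
  have h1 : 1 < Fintype.card K := Fintype.one_lt_card
  simp only [List.mem_cons, List.not_mem_nil, or_false] at he
  rcases he with rfl | rfl | rfl | rfl
  · have hnot : Cfsg.Lie.chevE6 ∈ [Cfsg.Lie.chevB2, Cfsg.Lie.chevG2] → 3 ≤ Nat.card K := fun h => by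
      simp only [List.mem_cons, List.not_mem_nil, or_false] at h
      rcases h with h | h <;> exact absurd (congrArg Cfsg.Lie.ChevalleyDatum.rank h) (by decide +kernel)
    exact CfsgLib.ChevCollect.steinbergGroup_mult
      (CfsgLib.ChevCollect.commutator_cover (by simp) hnot)
      (by simp) fun G₁ E _ _ π₁ => CfsgLib.ChevCollect.existsUnique_lift_finite (Or.inl (by simp))
        (CfsgLib.ChevCollect.commutator_cover (by simp) hnot) π₁
  · have hnot : Cfsg.Lie.chevE7 ∈ [Cfsg.Lie.chevB2, Cfsg.Lie.chevG2] → 3 ≤ Nat.card K := fun h => by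
      simp only [List.mem_cons, List.not_mem_nil, or_false] at h
      rcases h with h | h <;> exact absurd (congrArg Cfsg.Lie.ChevalleyDatum.rank h) (by decide +kernel)
    exact CfsgLib.ChevCollect.steinbergGroup_mult
      (CfsgLib.ChevCollect.commutator_cover (by simp) hnot)
      (by simp) fun G₁ E _ _ π₁ => CfsgLib.ChevCollect.existsUnique_lift_finite (Or.inl (by simp))
        (CfsgLib.ChevCollect.commutator_cover (by simp) hnot) π₁
  all_goals
    have h3 : 3 ≤ Nat.card K := by
      rw [Nat.card_eq_fintype_card]
      simp only at hK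
      omega
    have hperf := fun D hD => CfsgLib.ChevCollect.commutator_cover (K := K) (D := D) hD fun _ => h3
  · refine CfsgLib.ChevCollect.steinbergGroup_mult (hperf _ (by simp)) (by simp)
      fun G₁ E _ _ π₁ => ?_
    by_cases h4 : 4 ≤ Nat.card K
    · exact CfsgLib.ChevCollect.existsUnique_lift_finite (Or.inr (Or.inr (Or.inl ⟨h4, rfl⟩)))
        (hperf _ (by simp)) π₁
    · exact CfsgLib.ChevCollect.existsUnique_lift_B2_three (by omega) π₁
  · exact CfsgLib.ChevCollect.steinbergGroup_mult (hperf _ (by simp)) (by simp)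
      fun G₁ E _ _ π₁ => CfsgLib.ChevCollect.existsUnique_lift_finite
        (Or.inr (Or.inl ⟨h3, by simp⟩)) (hperf _ (by simp)) π₁

end Cfsg.Agent.S2400
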