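import Cfsg.Statements.S2410
import Cfsg.Agent.SuzukiSub.Classification
import Cfsg.Agent.SuzukiLocal.Solubilizer

set_option autoImplicit false
open Cfsg

namespace Cfsg.Agent.S2410

open CfsgLib.Suzuki CfsgLib.SuzukiLocal CfsgLib.SuzukiSub MulAction

/-- The Suzuki group over the field with `2^(2m+1)` elements, `m ≥ 1` (realised as the stabiliser in `SL₄` of the Suzuki–Tits ovoid), is generated by two of its elements. -/
theorem result {F : Type*} [Field F] [Fintype F] {m : ℕ} (hm : 1 ≤ m) (hF : Fintype.card F = 2 ^ (2 * m + 1)) :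
    ∃ a b : ↥(Cfsg.Sz F m), Subgroup.closure ({a, b} : Set ↥(Cfsg.Sz F m)) = ⊤ := by
  classical
  have hS : SzField F m := ⟨hm, hF⟩
  obtain ⟨A, hA⟩ := exists_tori hS
  obtain ⟨hodd, hcop⟩ := kT_facts hS
  haveI := fun i => (hA.good i).cyclic
  obtain ⟨a, ha⟩ := IsCyclic.exists_ofOrder_eq_natCard (α := A 0)
  obtain ⟨b, hb⟩ := IsCyclic.exists_ofOrder_eq_natCard (α := A 1)
  rw [hA.card, ← Subgroup.orderOf_coe] at ha hb
  refine ⟨a, b, ?_⟩
  set M := Subgroup.closure ({(a : Cfsg.Sz F m), (b : Cfsg.Sz F m)} : Set (Cfsg.Sz F m)) with hM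
  have hd0 : kT F m 0 ∣ Nat.card M :=
    ha ▸ Subgroup.orderOf_dvd_natCard M (Subgroup.subset_closure (Set.mem_insert _ _))
  have hd1 : kT F m 1 ∣ Nat.card M :=
    hb ▸ Subgroup.orderOf_dvd_natCard M (Subgroup.subset_closure (Set.mem_insert_of_mem _ rfl))
  have hne : ∀ i, kT F m i ≠ 1 := fun i => (hodd i).1.ne'
  have hpow : ∀ i (n : ℕ), Nat.Coprime (kT F m i) (2 ^ n) := fun i n =>
    Nat.Coprime.pow_right n ((Nat.prime_two.coprime_iff_not_dvd.2 (hodd i).2).symm)
  rcases subgroup_cases hA M with ⟨p, hp⟩ | ⟨x, hx⟩ | ⟨k, g, hk, hdiv, e⟩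
  · exfalso
    have h := hd1.trans (Subgroup.card_dvd_of_le hp)
    rw [card_stabilizer hS p, hF, ← pow_mul] at h
    have h0 : kT F m 0 = 2 ^ (2 * m + 1) - 1 := by simp [kT, hF]
    rw [← h0] at h
    exact hne 1 (Nat.eq_one_of_dvd_coprimes (hcop 1 0 (by decide))
      dvd_rfl ((hpow 1 _).dvd_of_dvd_mul_left h))
  · exfalso
    obtain ⟨i, c⟩ := x
    have h := Subgroup.card_dvd_of_le hx
    rw [Tori.card_stab_coset hA i c] at h
    have key : ∀ j, kT F m j ∣ Nat.card M → j ≠ i → False := by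
      intro j hj hji
      have he : Nat.Coprime (kT F m j) (eT i) := by
        rcases (hA.good i).index_cases with e | e <;> rw [e]
        · simpa using hpow j 1
        · simpa using hpow j 2
      exact hne j (Nat.eq_one_of_dvd_coprimes (hcop j i hji) dvd_rfl (he.dvd_of_dvd_mul_left (hj.trans h)))
    by_cases hi : i = 0
    · subst hi; exact key 1 hd1 (by decide)
    · exact key 0 hd0 (Ne.symm hi)
  · by_cases hkm : k = m
    · subst hkm
      rw [fldSub_self hS] at e
      exact Subgroup.map_injective (MulAut.conj g).injective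
        (e.trans (Subgroup.map_top_of_surjective _ (MulAut.conj g).surjective).symm)
    exfalso
    have h3 : 3 * (2 * k + 1) ≤ 2 * m + 1 := by
      obtain ⟨d, hd⟩ := hdiv
      rcases d with _ | _ | _ | d
      · omega
      · omega
      · omega
      · calc 3 * (2 * k + 1) ≤ (d + 1 + 1 + 1) * (2 * k + 1) := Nat.mul_le_mul_right _ (by omega)
          _ = 2 * m + 1 := by rw [hd]; ring
    have hcM : Nat.card M = Nat.card (fldSub (F := F) hS (2 ^ (2 * k + 1))) := by
      rw [← e]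
      exact (Nat.card_congr (M.equivMapOfInjective _ (MulAut.conj g).injective).toEquiv)
    have h := hd0
    rw [hcM, card_fldSub hS hk hdiv, mul_assoc, ← pow_mul] at h
    have h' := (hpow 0 _).dvd_of_dvd_mul_left h
    have hk0 : kT F m 0 = 2 ^ (2 * m + 1) - 1 := by simp [kT, hF]
    rw [hk0, pow_mul] at h'
    set z := 2 ^ (2 * k + 1) with hz
    have hz8 : 8 ≤ z := le_trans (by norm_num) (Nat.pow_le_pow_right (n := 2) (by norm_num) (show 3 ≤ 2 * k + 1 by omega))
    have hz3 : z ^ 3 ≤ 2 ^ (2 * m + 1) := by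
      rw [hz, ← pow_mul]; exact Nat.pow_le_pow_right (by norm_num) (by omega)
    have hle := Nat.le_of_dvd (Nat.mul_pos (by positivity) (by omega)) h'
    have hexp : (z ^ 2 + 1) * (z - 1) + (z ^ 2 + 1) = z ^ 3 + z := by
      rw [← Nat.mul_succ, Nat.succ_eq_add_one, Nat.sub_add_cancel (by omega)]; ring
    have hz2 : z * 8 ≤ z ^ 2 := by rw [sq]; exact Nat.mul_le_mul_left z hz8
    omega

end Cfsg.Agent.S2410
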