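import Cfsg.Statements.S2412
import Cfsg.Agent.SUTwoGen.Main

set_option autoImplicit false
open Cfsg

namespace Cfsg.Agent.S2412

/-- The projective special unitary group `PSU_n(q)` with `n ≥ 3`, realised over the field with `q²` elements, `(n, q) ≠ (3, 2)`, is generated by two of its elements. -/
theorem result {F : Type*} [Field F] [Fintype F] {q : ℕ} (hq : IsPrimePow q) (hF : Fintype.card F = q ^ 2) (n : ℕ) (hn : 3 ≤ n) (h32 : n = 3 → q ≠ 2) :
    ∃ a b : Cfsg.PSU n F q, Subgroup.closure ({a, b} : Set (Cfsg.PSU n F q)) = ⊤ := by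
  classical
  obtain ⟨C, rfl⟩ := CfsgLib.RepBounds.Unit.exists_conjField q hF
  obtain ⟨a, b, hab⟩ : ∃ a b : Cfsg.SU n F C.q,
      Subgroup.closure ({a, b} : Set (Cfsg.SU n F C.q)) = ⊤ := by
    rw [← CfsgLib.RepBounds.Unit.suG_fin_eq (C := C)]
    rcases eq_or_lt_of_le hn with rfl | h4
    · obtain ⟨u, g, -, h⟩ := CfsgLib.SUThreeUnipotent.generate_two_dim_three C (by
        have := C.two_le; have := h32 rfl; omega)
      exact ⟨u, g * u * g⁻¹, h⟩
    · exact CfsgLib.SUTwoGen.generate_two C (by omega)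
  refine ⟨QuotientGroup.mk' _ a, QuotientGroup.mk' _ b, ?_⟩
  rw [← Set.image_pair, ← MonoidHom.map_closure, hab, ← MonoidHom.range_eq_map,
    MonoidHom.range_eq_top]
  exact QuotientGroup.mk'_surjective _

end Cfsg.Agent.S2412
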