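import Cfsg.Statements.S2418
import Cfsg.Agent.WeylCenter.Basic

set_option autoImplicit false
open Cfsg

namespace Cfsg.Agent.S2418

open CfsgLib.Weyl CfsgLib.WeylCenter

/-- For the Coxeter groups of types B₂, G₂, D₄, F₄, E₇, E₈ the centre has order 2 (the element acting as −1 on the root system) and is generated by a power of the Coxeter element `s₁ s₂ ⋯ s_l`; the Coxeter group of type E₆ has trivial centre. -/
theorem result (c : (Σ n : ℕ, CoxeterMatrix (Fin n)) × ℕ)
    (hc : c ∈ [(⟨2, CoxeterMatrix.B 2⟩, 2), (⟨2, CoxeterMatrix.G₂⟩, 2), (⟨4, Cfsg.Lie.coxeterD4⟩, 2), (⟨4, CoxeterMatrix.F₄⟩, 2),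
      (⟨6, CoxeterMatrix.E₆⟩, 1), (⟨7, CoxeterMatrix.E₇⟩, 2), (⟨8, CoxeterMatrix.E₈⟩, 2)]) :
    Nat.card (Subgroup.center c.1.2.Group) = c.2 ∧
      Subgroup.center c.1.2.Group ≤ Subgroup.zpowers ((List.finRange c.1.1).map c.1.2.simple).prod := by
  simp only [List.mem_cons, List.mem_nil_iff, or_false] at hc
  rcases hc with rfl | rfl | rfl | rfl | rfl | rfl | rfl
  · exact center_of_coxeter certB2_good (r := 0) (par := ![0, 0]) (by unfold connOk; decide +kernel)
      (h := 4) (m := 2) (basis := coxBasisB2) (free := coxFreeB2) (by decide +kernel) (by omega)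
      (by decide +kernel)
  · exact center_of_coxeter certG2_good (r := 0) (par := ![0, 0]) (by unfold connOk; decide +kernel)
      (h := 6) (m := 3) (basis := coxBasisG2) (free := coxFreeG2) (by decide +kernel) (by omega)
      (by decide +kernel)
  · exact center_of_coxeter certD4_good (r := 0) (par := ![0, 0, 1, 1])
      (by unfold connOk; decide +kernel)
      (h := 6) (m := 3) (basis := coxBasisD4) (free := coxFreeD4) (by decide +kernel) (by omega)
      (by decide +kernel)
  · exact center_of_coxeter certF4_good (r := 0) (par := ![0, 0, 1, 2])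
      (by unfold connOk; decide +kernel)
      (h := 12) (m := 6) (basis := coxBasisF4) (free := coxFreeF4) (by decide +kernel) (by omega)
      (by decide +kernel)
  · have h := center_of_functional certE6_good (r := 0) (par := ![0, 3, 0, 2, 3, 4])
      (by unfold connOk; decide +kernel) ![1, 0, 2, 0, 1, 2] 0 (by decide) (by decide +kernel)
    refine ⟨?_, ?_⟩
    · rw [h]
      exact Subgroup.card_bot
    · rw [h]
      exact bot_le
  · exact center_of_coxeter certE7_good (r := 0) (par := ![0, 3, 0, 2, 3, 4, 5])
      (by unfold connOk; decide +kernel)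
      (h := 18) (m := 9) (basis := coxBasisE7) (free := coxFreeE7) (by decide +kernel) (by omega)
      (by decide +kernel)
  · exact center_of_coxeter certE8_good (r := 0) (par := ![0, 3, 0, 2, 3, 4, 5, 6])
      (by unfold connOk; decide +kernel)
      (h := 30) (m := 15) (basis := coxBasisE8) (free := coxFreeE8) (by decide +kernel) (by omega)
      (by decide +kernel)

end Cfsg.Agent.S2418
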