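import Cfsg.Statements.S2419
-- import your own Cfsg.Agent.* helpers here

set_option autoImplicit false
open Cfsg

namespace Cfsg.Agent.S2419

section Lemmas

variable {G : Type*} [Group G]

lemma conj_next {s t A B : G} (hst : s * t * s = t * s * t) (hA : Commute A t) (hB : Commute B s) :
    A * s * t * B * s * (A * s * t * B)⁻¹ = t := by
  rw [mul_assoc (A * s * t) B s, hB.eq]
  calc A * s * t * (s * B) * (A * s * t * B)⁻¹ = A * (s * t * s) * (t⁻¹ * s⁻¹ * A⁻¹) := by group
    _ = A * (t * s * t) * (t⁻¹ * s⁻¹ * A⁻¹) := by rw [hst]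
    _ = A * t * A⁻¹ := by group
    _ = t := by rw [hA.eq]; group

/-- From a braid relation pair: `x ∈ H` and the conjugate `y x y` give `y`. -/
lemma mem_of_conj {H : Subgroup G} {x y : G} (hx : x * x = 1) (hxy : x * y * x = y * x * y)
    (hxH : x ∈ H) (h : y * x * y ∈ H) : y ∈ H := by
  have e : x * (y * x * y) * x = y := by
    rw [← hxy]; calc x * (x * y * x) * x = (x * x) * y * (x * x) := by group
      _ = y := by rw [hx, one_mul, mul_one]
  exact e ▸ H.mul_mem (H.mul_mem hxH h) hxH

/-- The branch of the diagram of type E. -/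
lemma branch_mem {H : Subgroup G} {a b c d : G} (ha : a * a = 1) (hb : b * b = 1) (hc : c * c = 1)
    (hd : d * d = 1) (hac : a * c * a = c * a * c) (hcd : c * d * c = d * c * d) (hab : Commute a b)
    (hbc : Commute b c) (had : Commute a d) (hp : a * b * c ∈ H) (hdH : d ∈ H) :
    a ∈ H ∧ b ∈ H ∧ c ∈ H := by
  have hq3 : (a * c) ^ 3 = 1 := by
    calc (a * c) ^ 3 = (a * c * a) * (c * a * c) := by simp only [pow_succ, pow_zero, one_mul, mul_assoc]
      _ = (a * c * a) * (a * c * a) := by rw [← hac]
      _ = a * (c * (a * a) * c) * a := by group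
      _ = 1 := by rw [ha, mul_one, hc, mul_one, ha]
  have hbq : Commute b (a * c) := hab.symm.mul_right hbc
  have e : a * b * c = b * (a * c) := by rw [hab.eq, mul_assoc]
  have hbH : b ∈ H := by
    have h3 : (a * b * c) ^ 3 = b := by
      rw [e, hbq.mul_pow, hq3, mul_one, pow_succ, pow_two, hb, one_mul]
    exact h3 ▸ H.pow_mem hp 3
  have hq : a * c ∈ H := by
    have : b⁻¹ * (a * b * c) = a * c := by rw [e]; group
    exact this ▸ H.mul_mem (H.inv_mem hbH) hp
  have hai : a⁻¹ = a := inv_eq_of_mul_eq_one_right ha
  have hci : c⁻¹ = c := inv_eq_of_mul_eq_one_right hc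
  have h1 : a * c * a ∈ H := by
    have : d * (a * c * d * (a * c)⁻¹) * d = a * c * a := by
      rw [mul_inv_rev, hai, hci]
      calc d * (a * c * d * (c * a)) * d = (d * a) * (c * d * c) * (a * d) := by group
        _ = (a * d) * (d * c * d) * (d * a) := by rw [hcd, had.eq]
        _ = a * (d * d) * c * (d * d) * a := by group
        _ = a * c * a := by rw [hd, mul_one, mul_one]
    exact this ▸ H.mul_mem (H.mul_mem hdH (H.mul_mem (H.mul_mem hq hdH) (H.inv_mem hq))) hdH
  have haH : a ∈ H := by
    have : a * c * (a * c * a) * (a * c)⁻¹ = a := by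
      rw [mul_inv_rev, hai, hci]
      calc a * c * (a * c * a) * (c * a) = (a * c) ^ 3 * a := by simp only [pow_succ, pow_zero, one_mul, mul_assoc]
        _ = a := by rw [hq3, one_mul]
    exact this ▸ H.mul_mem (H.mul_mem hq h1) (H.inv_mem hq)
  refine ⟨haH, hbH, ?_⟩
  have : a⁻¹ * (a * c) = c := inv_mul_cancel_left a c
  exact this ▸ H.mul_mem (H.inv_mem haH) hq

variable {B : Type*} (M : CoxeterMatrix B)

lemma rel_sq (i : B) : M.simple i * M.simple i = 1 := by
  simpa using M.toCoxeterSystem.simple_mul_simple_self i

lemma rel_comm {i j : B} (h : M i j = 2) : Commute (M.simple i) (M.simple j) := by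
  have h2 := M.toCoxeterSystem.simple_mul_simple_pow i j
  rw [h, CoxeterMatrix.toCoxeterSystem_simple, pow_two] at h2
  have hi : (M.simple i)⁻¹ = M.simple i := inv_eq_of_mul_eq_one_right (rel_sq M i)
  have hj : (M.simple j)⁻¹ = M.simple j := inv_eq_of_mul_eq_one_right (rel_sq M j)
  exact (eq_inv_of_mul_eq_one_left h2).trans (by rw [mul_inv_rev, hi, hj])

lemma rel_braid {i j : B} (h : M i j = 3) :
    M.simple i * M.simple j * M.simple i = M.simple j * M.simple i * M.simple j := by
  have h2 := M.toCoxeterSystem.simple_mul_simple_pow i j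
  rw [h, CoxeterMatrix.toCoxeterSystem_simple] at h2
  have hi : (M.simple i)⁻¹ = M.simple i := inv_eq_of_mul_eq_one_right (rel_sq M i)
  have hj : (M.simple j)⁻¹ = M.simple j := inv_eq_of_mul_eq_one_right (rel_sq M j)
  have : M.simple i * M.simple j * M.simple i * (M.simple j * M.simple i * M.simple j) = 1 :=
    Eq.trans (by simp only [pow_succ, pow_zero, one_mul, mul_assoc]) h2
  exact (eq_inv_of_mul_eq_one_left this).trans (by rw [mul_inv_rev, mul_inv_rev, hi, hj, mul_assoc])

lemma closure_eq_top {S : Set M.Group} (h : ∀ i, M.simple i ∈ Subgroup.closure S) :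
    Subgroup.closure S = ⊤ := by
  rw [eq_top_iff, ← M.toCoxeterSystem.subgroup_closure_range_simple, Subgroup.closure_le]
  rintro _ ⟨i, rfl⟩
  simpa using h i

/-- A homomorphism separating two simple reflections by a `±1` colouring. -/
lemma simple_ne {i j : B} (f : B → Multiplicative (ZMod 2)) (hf : M.IsLiftable f) (h : f i ≠ f j) :
    M.simple i ≠ M.simple j := by
  intro e
  have := congr_arg (M.toCoxeterSystem.lift ⟨f, hf⟩) e
  rw [← CoxeterMatrix.toCoxeterSystem_simple, CoxeterSystem.lift_apply_simple,
    CoxeterSystem.lift_apply_simple] at this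
  exact h this

end Lemmas

/-- The permutations giving a representation of the Coxeter group of type D₄ that separates the outer nodes. -/
def d4Perm : Fin 4 → Equiv.Perm (Fin 4) :=
  ![Equiv.swap 0 1, Equiv.swap 1 2, Equiv.swap 2 3, Equiv.swap 0 1]

/-- The Coxeter groups of types B₂, G₂, E₆, E₇, E₈ are generated by the Coxeter element `s₁ s₂ ⋯ s_l` together with one suitable reflection (a conjugate of a simple reflection); for types D₄ and F₄ the Coxeter element together with two suitable reflections suffices. -/
theorem result (c : (Σ n : ℕ, CoxeterMatrix (Fin n)) × ℕ)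
    (hc : c ∈ [(⟨2, CoxeterMatrix.B 2⟩, 1), (⟨2, CoxeterMatrix.G₂⟩, 1), (⟨4, Cfsg.Lie.coxeterD4⟩, 2), (⟨4, CoxeterMatrix.F₄⟩, 2),
      (⟨6, CoxeterMatrix.E₆⟩, 1), (⟨7, CoxeterMatrix.E₇⟩, 1), (⟨8, CoxeterMatrix.E₈⟩, 1)]) :
    ∃ T : Finset c.1.2.Group, T.card = c.2 ∧ (∀ t ∈ T, ∃ (g : c.1.2.Group) (i : Fin c.1.1), t = g * c.1.2.simple i * g⁻¹) ∧
      Subgroup.closure (({((List.finRange c.1.1).map c.1.2.simple).prod} : Set c.1.2.Group) ∪ ↑T) = ⊤ := by
  have one_refl : ∀ {n : ℕ} (M : CoxeterMatrix (Fin n)) (i : Fin n), ∀ t ∈ ({M.simple i} : Finset M.Group),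
      ∃ (g : M.Group) (j : Fin n), t = g * M.simple j * g⁻¹ := by
    intro n M i t ht
    exact ⟨1, i, by simp [Finset.mem_singleton.1 ht]⟩
  simp only [List.mem_cons, List.not_mem_nil, or_false] at hc
  rcases hc with rfl | rfl | rfl | rfl | rfl | rfl | rfl
  · let M : CoxeterMatrix (Fin 2) := CoxeterMatrix.B 2
    refine ⟨{M.simple 0}, by simp, one_refl M 0, closure_eq_top M fun i => ?_⟩
    set H := Subgroup.closure (({((List.finRange 2).map M.simple).prod} : Set M.Group) ∪ ↑({M.simple 0} : Finset M.Group))
    have h0 : M.simple 0 ∈ H := Subgroup.subset_closure (Or.inr (by simp))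
    have hc : M.simple 0 * M.simple 1 ∈ H := Subgroup.subset_closure (Or.inl (by simp [List.finRange_succ]))
    fin_cases i
    · exact h0
    · simpa using H.mul_mem (H.inv_mem h0) hc
  · let M : CoxeterMatrix (Fin 2) := CoxeterMatrix.G₂
    refine ⟨{M.simple 0}, by simp, one_refl M 0, closure_eq_top M fun i => ?_⟩
    set H := Subgroup.closure (({((List.finRange 2).map M.simple).prod} : Set M.Group) ∪ ↑({M.simple 0} : Finset M.Group))
    have h0 : M.simple 0 ∈ H := Subgroup.subset_closure (Or.inr (by simp))
    have hc : M.simple 0 * M.simple 1 ∈ H := Subgroup.subset_closure (Or.inl (by simp [List.finRange_succ]))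
    fin_cases i
    · exact h0
    · simpa using H.mul_mem (H.inv_mem h0) hc
  · classical
    let M : CoxeterMatrix (Fin 4) := Cfsg.Lie.coxeterD4
    have hne : M.simple 0 ≠ M.simple 2 := by
      intro e
      have hf : M.IsLiftable d4Perm := by unfold CoxeterMatrix.IsLiftable; decide
      have := congr_arg (M.toCoxeterSystem.lift ⟨d4Perm, hf⟩) e
      rw [← CoxeterMatrix.toCoxeterSystem_simple, CoxeterSystem.lift_apply_simple,
        CoxeterSystem.lift_apply_simple] at this
      revert this
      decide
    refine ⟨{M.simple 0, M.simple 2}, Finset.card_pair hne, ?_, closure_eq_top M fun i => ?_⟩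
    · intro t ht
      rcases Finset.mem_insert.1 ht with rfl | ht
      · exact ⟨1, 0, by simp; rfl⟩
      · exact ⟨1, 2, by simp [Finset.mem_singleton.1 ht]; rfl⟩
    set H := Subgroup.closure (({((List.finRange 4).map M.simple).prod} : Set M.Group) ∪ ↑({M.simple 0, M.simple 2} : Finset M.Group))
    have h0 : M.simple 0 ∈ H := Subgroup.subset_closure (Or.inr (by simp))
    have h2 : M.simple 2 ∈ H := Subgroup.subset_closure (Or.inr (by simp))
    have hc : M.simple 0 * M.simple 1 * M.simple 2 * M.simple 3 ∈ H :=
      Subgroup.subset_closure (Or.inl (by simp [List.finRange_succ, mul_assoc]))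
    have hp : M.simple 1 * M.simple 2 * M.simple 3 ∈ H := by
      simpa [mul_assoc] using H.mul_mem (H.inv_mem h0) hc
    have h1 : M.simple 1 ∈ H := by
      refine mem_of_conj (rel_sq M 0) (rel_braid M (by decide)) h0 ?_
      have e : M.simple 1 * M.simple 2 * M.simple 3 * M.simple 0 *
          (M.simple 1 * M.simple 2 * M.simple 3)⁻¹ = M.simple 1 * M.simple 0 * M.simple 1 := by
        rw [mul_assoc _ (M.simple 3) (M.simple 0), (rel_comm M (i := 3) (j := 0) (by decide)).eq,
          ← mul_assoc, mul_assoc (M.simple 1) (M.simple 2) (M.simple 0),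
          (rel_comm M (i := 2) (j := 0) (by decide)).eq]
        conv_rhs => arg 2; rw [← inv_eq_of_mul_eq_one_right (rel_sq M 1)]
        group
      exact e ▸ H.mul_mem (H.mul_mem hp h0) (H.inv_mem hp)
    fin_cases i
    · exact h0
    · exact h1
    · exact h2
    · simpa [mul_assoc] using H.mul_mem (H.inv_mem h2) (H.mul_mem (H.inv_mem h1) hp)
  · classical
    let M : CoxeterMatrix (Fin 4) := CoxeterMatrix.F₄
    have hne : M.simple 1 ≠ M.simple 2 :=
      simple_ne M ![Multiplicative.ofAdd 1, Multiplicative.ofAdd 1, 1, 1]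
        (by unfold CoxeterMatrix.IsLiftable; decide) (by decide)
    refine ⟨{M.simple 1, M.simple 2}, Finset.card_pair hne, ?_, closure_eq_top M fun i => ?_⟩
    · intro t ht
      rcases Finset.mem_insert.1 ht with rfl | ht
      · exact ⟨1, 1, by simp; rfl⟩
      · exact ⟨1, 2, by simp [Finset.mem_singleton.1 ht]; rfl⟩
    set H := Subgroup.closure (({((List.finRange 4).map M.simple).prod} : Set M.Group) ∪ ↑({M.simple 1, M.simple 2} : Finset M.Group))
    have h1 : M.simple 1 ∈ H := Subgroup.subset_closure (Or.inr (by simp))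
    have h2 : M.simple 2 ∈ H := Subgroup.subset_closure (Or.inr (by simp))
    have hc : M.simple 0 * M.simple 1 * M.simple 2 * M.simple 3 ∈ H :=
      Subgroup.subset_closure (Or.inl (by simp [List.finRange_succ, mul_assoc]))
    set c : M.Group := M.simple 0 * M.simple 1 * M.simple 2 * M.simple 3
    have h0 : M.simple 0 ∈ H := by
      have e : c * M.simple 0 * c⁻¹ = M.simple 1 := by
        have := conj_next (s := M.simple 0) (t := M.simple 1) (A := 1) (B := M.simple 2 * M.simple 3)
          (rel_braid M (by decide)) (Commute.one_left _)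
          ((rel_comm M (by decide)).mul_left (rel_comm M (by decide)))
        simpa [c, mul_assoc] using this
      have : c⁻¹ * M.simple 1 * c = M.simple 0 := by rw [← e]; group
      exact this ▸ H.mul_mem (H.mul_mem (H.inv_mem hc) h1) hc
    have h3 : M.simple 3 ∈ H := by
      have e : c * M.simple 2 * c⁻¹ = M.simple 3 := by
        have := conj_next (s := M.simple 2) (t := M.simple 3) (A := M.simple 0 * M.simple 1) (B := 1)
          (rel_braid M (by decide))
          ((rel_comm M (by decide)).mul_left (rel_comm M (by decide))) (Commute.one_left _)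
        simpa [c, mul_assoc] using this
      exact e ▸ H.mul_mem (H.mul_mem hc h2) (H.inv_mem hc)
    fin_cases i
    · exact h0
    · exact h1
    · exact h2
    · exact h3
  · let M : CoxeterMatrix (Fin 6) := CoxeterMatrix.E₆
    refine ⟨{M.simple 3}, by simp, one_refl M 3, closure_eq_top M fun i => ?_⟩
    set H := Subgroup.closure (({((List.finRange 6).map M.simple).prod} : Set M.Group) ∪ ↑({M.simple 3} : Finset M.Group))
    have h3 : M.simple 3 ∈ H := Subgroup.subset_closure (Or.inr (by simp))
    have hc : M.simple 0 * M.simple 1 * M.simple 2 * M.simple 3 * M.simple 4 * M.simple 5 ∈ H :=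
      Subgroup.subset_closure (Or.inl (by simp [List.finRange_succ, mul_assoc]))
    have h4 : M.simple 4 ∈ H := by
      have := conj_next (s := M.simple 3) (t := M.simple 4) (A := M.simple 0 * M.simple 1 * M.simple 2) (B := M.simple 5)
        (rel_braid M (by decide))
        (by repeat' (first | exact rel_comm M (by decide) | apply Commute.mul_left))
        (by repeat' (first | exact rel_comm M (by decide) | apply Commute.mul_left))
      have hc' : M.simple 0 * M.simple 1 * M.simple 2 * M.simple 3 * M.simple 4 * (M.simple 5) ∈ H := by simpa [mul_assoc] using hc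
      exact this ▸ H.mul_mem (H.mul_mem hc' h3) (H.inv_mem hc')
    have h5 : M.simple 5 ∈ H := by
      have := conj_next (s := M.simple 4) (t := M.simple 5) (A := M.simple 0 * M.simple 1 * M.simple 2 * M.simple 3) (B := 1)
        (rel_braid M (by decide))
        (by repeat' (first | exact rel_comm M (by decide) | apply Commute.mul_left))
        (Commute.one_left _)
      have hc' : M.simple 0 * M.simple 1 * M.simple 2 * M.simple 3 * M.simple 4 * M.simple 5 * (1) ∈ H := by simpa [mul_assoc] using hc
      exact this ▸ H.mul_mem (H.mul_mem hc' h4) (H.inv_mem hc')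
    have hp : M.simple 0 * M.simple 1 * M.simple 2 ∈ H := by
      simpa [mul_assoc] using H.mul_mem (H.mul_mem (H.mul_mem (hc) (H.inv_mem h5)) (H.inv_mem h4)) (H.inv_mem h3)
    obtain ⟨h0, h1, h2⟩ := branch_mem (rel_sq M 0) (rel_sq M 1) (rel_sq M 2) (rel_sq M 3)
      (rel_braid M (by decide)) (rel_braid M (by decide)) (rel_comm M (by decide))
      (rel_comm M (by decide)) (rel_comm M (by decide)) hp h3
    fin_cases i <;> assumption
  · let M : CoxeterMatrix (Fin 7) := CoxeterMatrix.E₇
    refine ⟨{M.simple 3}, by simp, one_refl M 3, closure_eq_top M fun i => ?_⟩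
    set H := Subgroup.closure (({((List.finRange 7).map M.simple).prod} : Set M.Group) ∪ ↑({M.simple 3} : Finset M.Group))
    have h3 : M.simple 3 ∈ H := Subgroup.subset_closure (Or.inr (by simp))
    have hc : M.simple 0 * M.simple 1 * M.simple 2 * M.simple 3 * M.simple 4 * M.simple 5 * M.simple 6 ∈ H :=
      Subgroup.subset_closure (Or.inl (by simp [List.finRange_succ, mul_assoc]))
    have h4 : M.simple 4 ∈ H := by
      have := conj_next (s := M.simple 3) (t := M.simple 4) (A := M.simple 0 * M.simple 1 * M.simple 2) (B := M.simple 5 * M.simple 6)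
        (rel_braid M (by decide))
        (by repeat' (first | exact rel_comm M (by decide) | apply Commute.mul_left))
        (by repeat' (first | exact rel_comm M (by decide) | apply Commute.mul_left))
      have hc' : M.simple 0 * M.simple 1 * M.simple 2 * M.simple 3 * M.simple 4 * (M.simple 5 * M.simple 6) ∈ H := by simpa [mul_assoc] using hc
      exact this ▸ H.mul_mem (H.mul_mem hc' h3) (H.inv_mem hc')
    have h5 : M.simple 5 ∈ H := by
      have := conj_next (s := M.simple 4) (t := M.simple 5) (A := M.simple 0 * M.simple 1 * M.simple 2 * M.simple 3) (B := M.simple 6)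
        (rel_braid M (by decide))
        (by repeat' (first | exact rel_comm M (by decide) | apply Commute.mul_left))
        (by repeat' (first | exact rel_comm M (by decide) | apply Commute.mul_left))
      have hc' : M.simple 0 * M.simple 1 * M.simple 2 * M.simple 3 * M.simple 4 * M.simple 5 * (M.simple 6) ∈ H := by simpa [mul_assoc] using hc
      exact this ▸ H.mul_mem (H.mul_mem hc' h4) (H.inv_mem hc')
    have h6 : M.simple 6 ∈ H := by
      have := conj_next (s := M.simple 5) (t := M.simple 6) (A := M.simple 0 * M.simple 1 * M.simple 2 * M.simple 3 * M.simple 4) (B := 1)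
        (rel_braid M (by decide))
        (by repeat' (first | exact rel_comm M (by decide) | apply Commute.mul_left))
        (Commute.one_left _)
      have hc' : M.simple 0 * M.simple 1 * M.simple 2 * M.simple 3 * M.simple 4 * M.simple 5 * M.simple 6 * (1) ∈ H := by simpa [mul_assoc] using hc
      exact this ▸ H.mul_mem (H.mul_mem hc' h5) (H.inv_mem hc')
    have hp : M.simple 0 * M.simple 1 * M.simple 2 ∈ H := by
      simpa [mul_assoc] using H.mul_mem (H.mul_mem (H.mul_mem (H.mul_mem (hc) (H.inv_mem h6)) (H.inv_mem h5)) (H.inv_mem h4)) (H.inv_mem h3)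
    obtain ⟨h0, h1, h2⟩ := branch_mem (rel_sq M 0) (rel_sq M 1) (rel_sq M 2) (rel_sq M 3)
      (rel_braid M (by decide)) (rel_braid M (by decide)) (rel_comm M (by decide))
      (rel_comm M (by decide)) (rel_comm M (by decide)) hp h3
    fin_cases i <;> assumption
  · let M : CoxeterMatrix (Fin 8) := CoxeterMatrix.E₈
    refine ⟨{M.simple 3}, by simp, one_refl M 3, closure_eq_top M fun i => ?_⟩
    set H := Subgroup.closure (({((List.finRange 8).map M.simple).prod} : Set M.Group) ∪ ↑({M.simple 3} : Finset M.Group))
    have h3 : M.simple 3 ∈ H := Subgroup.subset_closure (Or.inr (by simp))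
    have hc : M.simple 0 * M.simple 1 * M.simple 2 * M.simple 3 * M.simple 4 * M.simple 5 * M.simple 6 * M.simple 7 ∈ H :=
      Subgroup.subset_closure (Or.inl (by simp [List.finRange_succ, mul_assoc]))
    have h4 : M.simple 4 ∈ H := by
      have := conj_next (s := M.simple 3) (t := M.simple 4) (A := M.simple 0 * M.simple 1 * M.simple 2) (B := M.simple 5 * M.simple 6 * M.simple 7)
        (rel_braid M (by decide))
        (by repeat' (first | exact rel_comm M (by decide) | apply Commute.mul_left))
        (by repeat' (first | exact rel_comm M (by decide) | apply Commute.mul_left))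
      have hc' : M.simple 0 * M.simple 1 * M.simple 2 * M.simple 3 * M.simple 4 * (M.simple 5 * M.simple 6 * M.simple 7) ∈ H := by simpa [mul_assoc] using hc
      exact this ▸ H.mul_mem (H.mul_mem hc' h3) (H.inv_mem hc')
    have h5 : M.simple 5 ∈ H := by
      have := conj_next (s := M.simple 4) (t := M.simple 5) (A := M.simple 0 * M.simple 1 * M.simple 2 * M.simple 3) (B := M.simple 6 * M.simple 7)
        (rel_braid M (by decide))
        (by repeat' (first | exact rel_comm M (by decide) | apply Commute.mul_left))
        (by repeat' (first | exact rel_comm M (by decide) | apply Commute.mul_left))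
      have hc' : M.simple 0 * M.simple 1 * M.simple 2 * M.simple 3 * M.simple 4 * M.simple 5 * (M.simple 6 * M.simple 7) ∈ H := by simpa [mul_assoc] using hc
      exact this ▸ H.mul_mem (H.mul_mem hc' h4) (H.inv_mem hc')
    have h6 : M.simple 6 ∈ H := by
      have := conj_next (s := M.simple 5) (t := M.simple 6) (A := M.simple 0 * M.simple 1 * M.simple 2 * M.simple 3 * M.simple 4) (B := M.simple 7)
        (rel_braid M (by decide))
        (by repeat' (first | exact rel_comm M (by decide) | apply Commute.mul_left))
        (by repeat' (first | exact rel_comm M (by decide) | apply Commute.mul_left))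
      have hc' : M.simple 0 * M.simple 1 * M.simple 2 * M.simple 3 * M.simple 4 * M.simple 5 * M.simple 6 * (M.simple 7) ∈ H := by simpa [mul_assoc] using hc
      exact this ▸ H.mul_mem (H.mul_mem hc' h5) (H.inv_mem hc')
    have h7 : M.simple 7 ∈ H := by
      have := conj_next (s := M.simple 6) (t := M.simple 7) (A := M.simple 0 * M.simple 1 * M.simple 2 * M.simple 3 * M.simple 4 * M.simple 5) (B := 1)
        (rel_braid M (by decide))
        (by repeat' (first | exact rel_comm M (by decide) | apply Commute.mul_left))
        (Commute.one_left _)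
      have hc' : M.simple 0 * M.simple 1 * M.simple 2 * M.simple 3 * M.simple 4 * M.simple 5 * M.simple 6 * M.simple 7 * (1) ∈ H := by simpa [mul_assoc] using hc
      exact this ▸ H.mul_mem (H.mul_mem hc' h6) (H.inv_mem hc')
    have hp : M.simple 0 * M.simple 1 * M.simple 2 ∈ H := by
      simpa [mul_assoc] using H.mul_mem (H.mul_mem (H.mul_mem (H.mul_mem (H.mul_mem (hc) (H.inv_mem h7)) (H.inv_mem h6)) (H.inv_mem h5)) (H.inv_mem h4)) (H.inv_mem h3)
    obtain ⟨h0, h1, h2⟩ := branch_mem (rel_sq M 0) (rel_sq M 1) (rel_sq M 2) (rel_sq M 3)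
      (rel_braid M (by decide)) (rel_braid M (by decide)) (rel_comm M (by decide))
      (rel_comm M (by decide)) (rel_comm M (by decide)) hp h3
    fin_cases i <;> assumption

end Cfsg.Agent.S2419
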