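import Cfsg.Statements.S2425
import Cfsg.Agent.SteinbergValue.Flags
import Cfsg.Agent.CharpolySS.Matrix

set_option autoImplicit false
open scoped MatrixGroups
open Cfsg

namespace Cfsg.Agent.S2425

/-- Values of the Steinberg character of `GL_n(q)` (the partition-indexed character for `ν = (1,…,1)`, of degree `q^(n(n−1)/2)`) at elements of order prime to the characteristic: if the characteristic polynomial of such an element is `∏ f^(m_f)` over distinct monic irreducible `f`, the value is `∏_f (−1)^((deg f − 1) m_f) q^(deg f · m_f (m_f − 1)/2)`. (At elements of order divisible by the characteristic the value is 0; that is not part of this statement.) -/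
theorem result {F : Type*} [Field F] [Fintype F] [DecidableEq F] {q : ℕ} (hq : Fintype.card F = q) (p : ℕ) [Fact p.Prime] [CharP F p]
    {n : ℕ} (x : GL (Fin n) F) (hx : (orderOf x).Coprime p) :
    Cfsg.unipotentCharacterGL n F (fun _ => 1) x =
      ∏ f ∈ (UniqueFactorizationMonoid.normalizedFactors (x : Matrix (Fin n) (Fin n) F).charpoly).toFinset,
        (-1 : ℂ) ^ ((f.natDegree - 1) * (UniqueFactorizationMonoid.normalizedFactors (x : Matrix (Fin n) (Fin n) F).charpoly).count f) *
          (q : ℂ) ^ (f.natDegree * (UniqueFactorizationMonoid.normalizedFactors (x : Matrix (Fin n) (Fin n) F).charpoly).count f *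
            ((UniqueFactorizationMonoid.normalizedFactors (x : Matrix (Fin n) (Fin n) F).charpoly).count f - 1) / 2) := by
  classical
  set A : Matrix (Fin n) (Fin n) F := (x : Matrix (Fin n) (Fin n) F) with hA
  have hm : A ^ orderOf x = 1 := by
    rw [hA, ← Units.val_pow_eq_pow_val, pow_orderOf_eq_one, Units.val_one]
  have hsq : Squarefree (Polynomial.X ^ orderOf x - 1 : Polynomial F) :=
    CfsgLib.CharpolySS.squarefree_X_pow_sub_one (p := p) fun hd =>
      (Fact.out : p.Prime).one_lt.ne' (Nat.Coprime.eq_one_of_dvd hx.symm hd)
  have hann : Polynomial.aeval (CfsgLib.SteinbergValue.lin x) (Polynomial.X ^ orderOf x - 1 : Polynomial F) = 0 := by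
    have h0 := CfsgLib.CharpolySS.aeval_X_pow_sub_one (F := F) A hm
    have e : CfsgLib.SteinbergValue.lin x = (Matrix.toLinAlgEquiv' (R := F) (n := Fin n)) A := rfl
    rw [e, Polynomial.aeval_algHom_apply, h0, map_zero]
  have hss : Module.End.IsSemisimple (CfsgLib.SteinbergValue.lin x) :=
    Module.End.isSemisimple_of_squarefree_aeval_eq_zero hsq hann
  have hcp : (CfsgLib.SteinbergValue.lin x).charpoly = A.charpoly := Matrix.charpoly_toLin' A
  rw [CfsgLib.SteinbergValue.alternating_sum_eq,
    CfsgLib.SteinbergValue.chainSum_invs hss _ ⊤ (fun _ _ => Submodule.mem_top) rfl,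
    CfsgLib.SteinbergValue.resCp_top, hcp]
  set s := UniqueFactorizationMonoid.normalizedFactors A.charpoly with hs
  have hdeg : n = ∑ f ∈ s.toFinset, s.count f * f.natDegree := by
    have h1 : s.prod = A.charpoly := by
      refine Polynomial.eq_of_monic_of_associated ?_ (Matrix.charpoly_monic A)
        (UniqueFactorizationMonoid.prod_normalizedFactors (Matrix.charpoly_monic A).ne_zero)
      have h := Polynomial.monic_multiset_prod_of_monic s id fun f hf => by
        show f.Monic
        rw [← UniqueFactorizationMonoid.normalize_normalized_factor f hf]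
        exact Polynomial.monic_normalize (UniqueFactorizationMonoid.irreducible_of_normalized_factor f hf).ne_zero
      rwa [Multiset.map_id] at h
    have h2 := congrArg Polynomial.natDegree h1
    rw [Polynomial.natDegree_multiset_prod _ (UniqueFactorizationMonoid.zero_notMem_normalizedFactors _),
      Matrix.charpoly_natDegree_eq_dim, Fintype.card_fin, Finset.sum_multiset_map_count] at h2
    rw [← h2]
    rfl
  rw [CfsgLib.SteinbergValue.mobiusValue]
  push_cast
  conv_lhs => enter [1]; rw [hdeg]
  rw [← Finset.prod_pow_eq_pow_sum, ← Finset.prod_mul_distrib]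
  refine Finset.prod_congr rfl fun f hf => ?_
  have hf' := UniqueFactorizationMonoid.irreducible_of_normalized_factor f (Multiset.mem_toFinset.1 hf)
  obtain ⟨d, hd⟩ := Nat.exists_eq_add_of_le hf'.natDegree_pos
  rw [← mul_assoc, ← pow_add, Nat.card_eq_fintype_card, hq, hd]
  generalize s.count f = c
  congr 1
  · rw [show c * ((1 : ℕ) + d) + c = (1 + d - 1) * c + 2 * c by
      rw [Nat.add_sub_cancel_left]; ring, pow_add]
    simp [pow_mul]
  · congr 1
    rw [Nat.choose_two_right, mul_assoc (Nat.succ 0 + d) c (c - 1),
      Nat.mul_div_assoc _ (Nat.even_mul_pred_self c).two_dvd]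

end Cfsg.Agent.S2425
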