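import Cfsg.Statements.S2426
import Cfsg.Agent.SL2Steinberg.Basic
import Cfsg.Agent.SL2Pres.Concrete
import Cfsg.Agent.Linear.Basic

set_option autoImplicit false
open Cfsg

namespace Cfsg.Agent.S2426

/-- The rank-one Steinberg presentation of `SL₂` over a finite field `K`: generators `x(t)`, `y(t)` (`t ∈ K`; the two opposite root subgroups) subject to additivity `x(t)x(u) = x(t+u)`, `y(t)y(u) = y(t+u)` and, with `w(t) = x(t) y(−t⁻¹) x(t)` and `w'(t) = y(t) x(−t⁻¹) y(t)` for `t ≠ 0`, the relations `w(t) x(u) w(t)⁻¹ = y(−t⁻² u)` and `w'(t) y(u) w'(t)⁻¹ = x(−t⁻² u)`, present `SL₂(K)`, with `x(t) ↦ (1 t; 0 1)` and `y(t) ↦ (1 0; t 1)`. -/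
theorem result {K : Type*} [Field K] [Finite K] :
    ∃ e : PresentedGroup
        ({g : FreeGroup (Bool × K) | ∃ (b : Bool) (t u : K), g = FreeGroup.of (b, t) * FreeGroup.of (b, u) * (FreeGroup.of (b, t + u))⁻¹} ∪
          {g | ∃ (b : Bool) (t u : K), t ≠ 0 ∧
            g = (FreeGroup.of (b, t) * FreeGroup.of (!b, -t⁻¹) * FreeGroup.of (b, t)) * FreeGroup.of (b, u) *
                  (FreeGroup.of (b, t) * FreeGroup.of (!b, -t⁻¹) * FreeGroup.of (b, t))⁻¹ * (FreeGroup.of (!b, -(t⁻¹ ^ 2 * u)))⁻¹})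
        ≃* Matrix.SpecialLinearGroup (Fin 2) K,
      (∀ t : K, ((e (PresentedGroup.of (true, t)) : Matrix (Fin 2) (Fin 2) K)) = !![1, t; 0, 1]) ∧
      (∀ t : K, ((e (PresentedGroup.of (false, t)) : Matrix (Fin 2) (Fin 2) K)) = !![1, 0; t, 1]) := by
  classical
  haveI := Fintype.ofFinite K
  set rels := ({g : FreeGroup (Bool × K) | ∃ (b : Bool) (t u : K), g = FreeGroup.of (b, t) * FreeGroup.of (b, u) * (FreeGroup.of (b, t + u))⁻¹} ∪
          {g | ∃ (b : Bool) (t u : K), t ≠ 0 ∧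
            g = (FreeGroup.of (b, t) * FreeGroup.of (!b, -t⁻¹) * FreeGroup.of (b, t)) * FreeGroup.of (b, u) *
                  (FreeGroup.of (b, t) * FreeGroup.of (!b, -t⁻¹) * FreeGroup.of (b, t))⁻¹ * (FreeGroup.of (!b, -(t⁻¹ ^ 2 * u)))⁻¹})
    with hrels
  have hadd : ∀ b t u, (PresentedGroup.of (rels := rels) (b, t + u)) =
      PresentedGroup.of (b, t) * PresentedGroup.of (b, u) := by
    intro b t u
    have h : PresentedGroup.mk rels (FreeGroup.of (b, t) * FreeGroup.of (b, u) *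
        (FreeGroup.of (b, t + u))⁻¹) = 1 := PresentedGroup.one_of_mem (Or.inl ⟨b, t, u, rfl⟩)
    rw [map_mul, map_mul, map_inv, mul_inv_eq_one] at h
    exact h.symm
  have R : CfsgLib.SL2Steinberg.Rel (fun t => PresentedGroup.of (rels := rels) (true, t))
      (fun t => PresentedGroup.of (rels := rels) (false, t)) := by
    refine ⟨?_, hadd true, hadd false, fun t v ht => ?_⟩
    · rw [eq_top_iff, ← PresentedGroup.closure_range_of rels]
      refine Subgroup.closure_mono ?_
      rintro _ ⟨⟨b, t⟩, rfl⟩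
      cases b
      · exact Or.inr ⟨t, rfl⟩
      · exact Or.inl ⟨t, rfl⟩
    · have h : PresentedGroup.mk rels ((FreeGroup.of (true, t) * FreeGroup.of (!true, -t⁻¹) * FreeGroup.of (true, t)) * FreeGroup.of (true, v) *
          (FreeGroup.of (true, t) * FreeGroup.of (!true, -t⁻¹) * FreeGroup.of (true, t))⁻¹ *
          (FreeGroup.of (!true, -(t⁻¹ ^ 2 * v)))⁻¹) = 1 :=
        PresentedGroup.one_of_mem (Or.inr ⟨true, t, v, ht, rfl⟩)
      rw [map_mul, map_inv, mul_inv_eq_one] at h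
      simp only [map_mul, map_inv] at h
      exact h
  obtain ⟨hfin, hle⟩ := CfsgLib.SL2Steinberg.card_le R
  let f : Bool × K → Matrix.SpecialLinearGroup (Fin 2) K := fun p =>
    bif p.1 then ⟨!![1, p.2; 0, 1], by simp [Matrix.det_fin_two]⟩
    else ⟨!![1, 0; p.2, 1], by simp [Matrix.det_fin_two]⟩
  have hfv : ∀ (b : Bool) (t : K), (f (b, t)).1 = bif b then !![1, t; 0, 1] else !![1, 0; t, 1] := by
    intro b t; cases b <;> rfl
  have hf : ∀ r ∈ rels, FreeGroup.lift f r = 1 := by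
    rintro r (⟨b, t, u, rfl⟩ | ⟨b, t, u, ht, rfl⟩)
    · simp only [map_mul, map_inv, FreeGroup.lift_apply_of, mul_inv_eq_one]
      apply Matrix.SpecialLinearGroup.ext
      intro i j
      cases b <;> fin_cases i <;> fin_cases j <;> simp [hfv, Matrix.mul_apply, Fin.sum_univ_two] <;> ring
    · simp only [map_mul, map_inv, FreeGroup.lift_apply_of, mul_inv_eq_one]
      rw [mul_inv_eq_iff_eq_mul]
      apply Matrix.SpecialLinearGroup.ext
      intro i j
      cases b <;> fin_cases i <;> fin_cases j <;>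
        simp [hfv, Matrix.mul_apply, Fin.sum_univ_two] <;> field_simp <;> ring_nf <;> simp [ht]
  let φ := PresentedGroup.toGroup hf
  have hsurj : Function.Surjective φ := by
    rw [← MonoidHom.range_eq_top, eq_top_iff, ← CfsgLib.SL2Pres.closure_xU_wW, Subgroup.closure_le]
    rintro x (⟨t, rfl⟩ | rfl)
    · exact ⟨PresentedGroup.of (true, t), Subtype.ext (by simp [φ, hfv, CfsgLib.SL2Pres.coe_xU])⟩
    · refine ⟨PresentedGroup.of (true, 1) * PresentedGroup.of (false, -1) * PresentedGroup.of (true, 1), ?_⟩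
      apply Matrix.SpecialLinearGroup.ext
      intro i j
      fin_cases i <;> fin_cases j <;>
        simp [φ, hfv, CfsgLib.SL2Pres.coe_wW, Matrix.mul_apply, Fin.sum_univ_two]
  have hbij : Function.Bijective φ := by
    refine (Nat.bijective_iff_surjective_and_card φ).2 ⟨hsurj, le_antisymm (hle.trans (le_of_eq ?_))
      (Nat.card_le_card_of_surjective φ hsurj)⟩
    rw [CfsgLib.Linear.card_SL_two, show Fintype.card K ^ 2 - 1 =
      (Fintype.card K + 1) * (Fintype.card K - 1) by rw [← Nat.sq_sub_sq, one_pow]]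
    ring
  refine ⟨MulEquiv.ofBijective φ hbij, fun t => ?_, fun t => ?_⟩
  · simp [φ, hfv]
  · simp [φ, hfv]

end Cfsg.Agent.S2426
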