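import Cfsg.Statements.S2428
import Cfsg.Agent.SL2Tori.Basic

set_option autoImplicit false
open Cfsg

namespace Cfsg.Agent.S2428

open CfsgLib.SL2Tori

/-- Let F be a finite field with q elements, q odd, and let d be a diagonal element of SL₂ over F whose diagonal entry a has a² ≠ 1 (such d exist exactly when q > 3). Then the centraliser of d is precisely the diagonal subgroup T; the normaliser of T has order 2(q − 1) and exactly (q + 5)/2 conjugacy classes; and every element of that normaliser outside T has square equal to −1. -/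
theorem result {F : Type*} [Field F] [Fintype F] (hodd : Odd (Fintype.card F))
    (d : Matrix.SpecialLinearGroup (Fin 2) F) (hd01 : (d : Matrix (Fin 2) (Fin 2) F) 0 1 = 0) (hd10 : (d : Matrix (Fin 2) (Fin 2) F) 1 0 = 0) (hda : (d : Matrix (Fin 2) (Fin 2) F) 0 0 ^ 2 ≠ 1) :
    (∀ g : Matrix.SpecialLinearGroup (Fin 2) F, g ∈ Subgroup.centralizer ({d} : Set (Matrix.SpecialLinearGroup (Fin 2) F)) ↔ ((g : Matrix (Fin 2) (Fin 2) F) 0 1 = 0 ∧ (g : Matrix (Fin 2) (Fin 2) F) 1 0 = 0)) ∧
    Nat.card (Subgroup.normalizer ((Subgroup.centralizer ({d} : Set (Matrix.SpecialLinearGroup (Fin 2) F))) : Set (Matrix.SpecialLinearGroup (Fin 2) F))) = 2 * (Fintype.card F - 1) ∧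
    Nat.card (ConjClasses (Subgroup.normalizer ((Subgroup.centralizer ({d} : Set (Matrix.SpecialLinearGroup (Fin 2) F))) : Set (Matrix.SpecialLinearGroup (Fin 2) F)))) = (Fintype.card F + 5) / 2 ∧
    ∀ g : Matrix.SpecialLinearGroup (Fin 2) F, g ∈ Subgroup.normalizer ((Subgroup.centralizer ({d} : Set (Matrix.SpecialLinearGroup (Fin 2) F))) : Set (Matrix.SpecialLinearGroup (Fin 2) F)) →
      g ∉ Subgroup.centralizer ({d} : Set (Matrix.SpecialLinearGroup (Fin 2) F)) → ((g * g) : Matrix (Fin 2) (Fin 2) F) = -1 := by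
  have h2 := two_ne_zero_of_odd hodd
  have hd := CfsgLib.SL2Trace.det_eq_one d
  rw [hd01, hd10, mul_zero, sub_zero] at hd
  have ht : tr d ^ 2 ≠ 4 := by
    intro h
    apply hda
    have e : ((d : Matrix (Fin 2) (Fin 2) F) 0 0 - (d : Matrix (Fin 2) (Fin 2) F) 1 1) *
        ((d : Matrix (Fin 2) (Fin 2) F) 0 0 - (d : Matrix (Fin 2) (Fin 2) F) 1 1) = 0 := by
      rw [tr, Matrix.trace_fin_two] at h
      linear_combination h - 4 * hd
    rw [mul_self_eq_zero, sub_eq_zero] at e
    rw [← e] at hd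
    linear_combination hd
  have hl : (-(d : Matrix (Fin 2) (Fin 2) F) 0 0) ^ 2 +
      tr d * -(d : Matrix (Fin 2) (Fin 2) F) 0 0 + 1 = 0 := by
    rw [tr, Matrix.trace_fin_two]
    linear_combination -hd
  have hT := card_centralizer_split ht hl
  refine ⟨fun g => ?_, ?_, ?_, fun g hg hg' => ?_⟩
  · constructor
    · intro hg
      obtain ⟨x, y, e⟩ := (mem_centralizer_iff (nonScalar_of_sq_ne_four ht) g).1 hg
      rw [e]
      simp [hd01, hd10]
    · rintro ⟨h01, h10⟩
      rw [Subgroup.mem_centralizer_singleton_iff]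
      apply Matrix.SpecialLinearGroup.ext
      intro i j
      fin_cases i <;> fin_cases j <;>
        simp [Matrix.mul_apply, Fin.sum_univ_two, h01, h10, hd01, hd10, mul_comm]
  · rw [card_normalizer ht, hT]
  · rw [card_conjClasses_normalizer ht h2, hT]
    obtain ⟨k, hk⟩ := hodd
    have := Fintype.one_lt_card (α := F)
    omega
  · exact sq_eq_neg_one ht h2 hg hg'

end Cfsg.Agent.S2428
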