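import Cfsg.Statements.S2429
import Cfsg.Agent.SL2Tori.Basic

set_option autoImplicit false
open Cfsg

namespace Cfsg.Agent.S2429

open CfsgLib.SL2Tori

/-- Let F be a finite field with q elements, q odd. Then SL₂ over F contains a cyclic subgroup T′ of order q + 1 (a non-split torus) with the following properties: T′ is its own centraliser, and indeed the centraliser of each element of T′ other than 1 and −1 is exactly T′; every element of SL₂ having no eigenvector in F² is conjugate to an element of T′; the normaliser of T′ has order 2(q + 1) and exactly (q + 7)/2 conjugacy classes; and every element of that normaliser outside T′ has square −1. -/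
theorem result {F : Type*} [Field F] [Fintype F] (hodd : Odd (Fintype.card F)) :
    ∃ T' : Subgroup (Matrix.SpecialLinearGroup (Fin 2) F), IsCyclic T' ∧ Nat.card T' = Fintype.card F + 1 ∧
      Subgroup.centralizer ((T' : Set (Matrix.SpecialLinearGroup (Fin 2) F))) = T' ∧
      (∀ g : Matrix.SpecialLinearGroup (Fin 2) F, g ∈ T' → (g : Matrix (Fin 2) (Fin 2) F) ≠ 1 → (g : Matrix (Fin 2) (Fin 2) F) ≠ -1 → Subgroup.centralizer ({g} : Set (Matrix.SpecialLinearGroup (Fin 2) F)) = T') ∧
      (∀ g : Matrix.SpecialLinearGroup (Fin 2) F, (∀ (c : F) (v : Fin 2 → F), v ≠ 0 → (g : Matrix (Fin 2) (Fin 2) F).mulVec v ≠ c • v) → ∃ h : Matrix.SpecialLinearGroup (Fin 2) F, h * g * h⁻¹ ∈ T') ∧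
      Nat.card (Subgroup.normalizer (T' : Set (Matrix.SpecialLinearGroup (Fin 2) F))) = 2 * (Fintype.card F + 1) ∧
      Nat.card (ConjClasses (Subgroup.normalizer (T' : Set (Matrix.SpecialLinearGroup (Fin 2) F)))) = (Fintype.card F + 7) / 2 ∧
      ∀ g : Matrix.SpecialLinearGroup (Fin 2) F, g ∈ Subgroup.normalizer (T' : Set (Matrix.SpecialLinearGroup (Fin 2) F)) → g ∉ T' → ((g * g) : Matrix (Fin 2) (Fin 2) F) = -1 := by
  have h2 := two_ne_zero_of_odd hodd
  obtain ⟨g, ht, hno⟩ := exists_nonsplit (F := F)
  have hT := card_centralizer_nonsplit ht hno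
  refine ⟨Subgroup.centralizer {g}, isCyclic_centralizer ht, hT, ?_, ?_, ?_, ?_, ?_, ?_⟩
  · apply le_antisymm
    · exact Subgroup.centralizer_le (Set.singleton_subset_iff.2
        (Subgroup.mem_centralizer_singleton_iff.2 rfl))
    · exact fun t htT q hq => centralizer_comm (nonScalar_of_sq_ne_four ht) hq htT
  · exact fun M hM h1 h2' => centralizer_eq_of_mem ht hM h1 h2'
  · exact fun h hh => exists_conj_mem h2 ht hno (no_root_of_no_eigenvector hh)
  · rw [card_normalizer ht, hT]
  · rw [card_conjClasses_normalizer ht h2, hT]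
  · exact fun M hM hM' => sq_eq_neg_one ht h2 hM hM'

end Cfsg.Agent.S2429
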