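import Cfsg.Statements.S2430
import Cfsg.Agent.SL2Tori.Basic
import Cfsg.Agent.Linear.Basic

set_option autoImplicit false
open Cfsg

namespace Cfsg.Agent.S2430

open CfsgLib.SL2Tori

/-- Let F be a finite field with q elements, q odd, ℓ an odd prime, and P a Sylow ℓ-subgroup of SL₂ over F. If ℓ divides q − 1, the centraliser of P is cyclic of order q − 1 (a split torus) and the normaliser of P has order 2(q − 1); if ℓ divides q + 1, the centraliser of P is cyclic of order q + 1 (a non-split torus) and the normaliser of P has order 2(q + 1). -/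
theorem result {F : Type*} [Field F] [Fintype F] (hodd : Odd (Fintype.card F)) (ℓ : ℕ) [Fact ℓ.Prime] (hℓ : ℓ ≠ 2)
    (P : Sylow ℓ (Matrix.SpecialLinearGroup (Fin 2) F)) :
    (ℓ ∣ Fintype.card F - 1 →
      Nat.card (Subgroup.centralizer ((P : Subgroup (Matrix.SpecialLinearGroup (Fin 2) F)) : Set (Matrix.SpecialLinearGroup (Fin 2) F))) = Fintype.card F - 1 ∧
      IsCyclic (Subgroup.centralizer ((P : Subgroup (Matrix.SpecialLinearGroup (Fin 2) F)) : Set (Matrix.SpecialLinearGroup (Fin 2) F))) ∧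
      Nat.card (Subgroup.normalizer ((P : Subgroup (Matrix.SpecialLinearGroup (Fin 2) F)) : Set (Matrix.SpecialLinearGroup (Fin 2) F))) = 2 * (Fintype.card F - 1)) ∧
    (ℓ ∣ Fintype.card F + 1 →
      Nat.card (Subgroup.centralizer ((P : Subgroup (Matrix.SpecialLinearGroup (Fin 2) F)) : Set (Matrix.SpecialLinearGroup (Fin 2) F))) = Fintype.card F + 1 ∧
      IsCyclic (Subgroup.centralizer ((P : Subgroup (Matrix.SpecialLinearGroup (Fin 2) F)) : Set (Matrix.SpecialLinearGroup (Fin 2) F))) ∧
      Nat.card (Subgroup.normalizer ((P : Subgroup (Matrix.SpecialLinearGroup (Fin 2) F)) : Set (Matrix.SpecialLinearGroup (Fin 2) F))) = 2 * (Fintype.card F + 1)) := by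
  have h2 := two_ne_zero_of_odd hodd
  have hℓp : ℓ.Prime := Fact.out
  have h3 : 3 ≤ ℓ := by
    have := hℓp.two_le
    omega
  have hq : 1 < Fintype.card F := Fintype.one_lt_card
  have hcard : Nat.card (Matrix.SpecialLinearGroup (Fin 2) F) =
      Fintype.card F * ((Fintype.card F + 1) * (Fintype.card F - 1)) := by
    rw [CfsgLib.Linear.card_SL_two, ← Nat.sq_sub_sq, one_pow]
  have hnd : ∀ a b : ℕ, ℓ ∣ a → a + 1 = b → ¬ ℓ ∣ b := by
    intro a b ha hab hb
    subst hab
    exact hℓp.not_dvd_one ((Nat.dvd_add_right ha).1 hb)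
  have hnd2 : ∀ a b : ℕ, ℓ ∣ a → a + 2 = b → ¬ ℓ ∣ b := by
    intro a b ha hab hb
    subst hab
    have := Nat.le_of_dvd two_pos ((Nat.dvd_add_right ha).1 hb)
    omega
  constructor
  · intro hℓd
    have hq4 : 4 ≤ Fintype.card F := by
      have := Nat.le_of_dvd (by omega) hℓd
      omega
    obtain ⟨g, ht, l, hl⟩ := exists_split hq4
    have hT := card_centralizer_split ht hl
    rw [← hT]
    refine sylow_torus ht h2 ℓ hℓ (hT ▸ hℓd) (Fintype.card F * (Fintype.card F + 1))
      (by rw [hcard, hT]; ring) (fun h => ?_) P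
    rcases hℓp.dvd_mul.1 h with h | h
    · exact hnd _ _ hℓd (by omega) h
    · exact hnd2 _ _ hℓd (by omega) h
  · intro hℓd
    obtain ⟨g, ht, hno⟩ := exists_nonsplit (F := F)
    have hT := card_centralizer_nonsplit ht hno
    rw [← hT]
    refine sylow_torus ht h2 ℓ hℓ (hT ▸ hℓd) (Fintype.card F * (Fintype.card F - 1))
      (by rw [hcard, hT]; ring) (fun h => ?_) P
    rcases hℓp.dvd_mul.1 h with h | h
    · exact hnd _ _ h rfl hℓd
    · exact hnd2 _ _ h (by omega) hℓd

end Cfsg.Agent.S2430
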