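import Cfsg.Statements.S2431
import Cfsg.Agent.SL2Tori.SylowTwo
import Cfsg.Agent.Linear.Basic

set_option autoImplicit false
open Cfsg

namespace Cfsg.Agent.S2431

open CfsgLib.SL2Tori

/-- Let F be a finite field with q elements, q odd, and S a Sylow 2-subgroup of SL₂ over F. The centraliser of S is the centre of SL₂ (of order 2); S is its own normaliser when q ≡ ±1 mod 8, and has index 3 in its normaliser when q ≡ ±3 mod 8. -/
theorem result {F : Type*} [Field F] [Fintype F] (hodd : Odd (Fintype.card F)) (S : Sylow 2 (Matrix.SpecialLinearGroup (Fin 2) F)) :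
    Subgroup.centralizer ((S : Subgroup (Matrix.SpecialLinearGroup (Fin 2) F)) : Set (Matrix.SpecialLinearGroup (Fin 2) F)) = Subgroup.center (Matrix.SpecialLinearGroup (Fin 2) F) ∧
    ((Fintype.card F % 8 = 1 ∨ Fintype.card F % 8 = 7) →
      Subgroup.normalizer ((S : Subgroup (Matrix.SpecialLinearGroup (Fin 2) F)) : Set (Matrix.SpecialLinearGroup (Fin 2) F)) = (S : Subgroup (Matrix.SpecialLinearGroup (Fin 2) F))) ∧
    ((Fintype.card F % 8 = 3 ∨ Fintype.card F % 8 = 5) →
      Nat.card (Subgroup.normalizer ((S : Subgroup (Matrix.SpecialLinearGroup (Fin 2) F)) : Set (Matrix.SpecialLinearGroup (Fin 2) F))) = 3 * Nat.card S) := by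
  have h2 := two_ne_zero_of_odd hodd
  have hq := Fintype.one_lt_card (α := F)
  have hmod : Fintype.card F % 2 = 1 := Nat.odd_iff.1 hodd
  obtain ⟨r, hr⟩ : ∃ r, r = Fintype.card F := ⟨_, rfl⟩
  have hcard : Nat.card (Matrix.SpecialLinearGroup (Fin 2) F) =
      Fintype.card F * ((Fintype.card F + 1) * (Fintype.card F - 1)) := by
    rw [CfsgLib.Linear.card_SL_two, ← Nat.sq_sub_sq, one_pow]
  by_cases h4 : Fintype.card F % 4 = 1
  · obtain ⟨g, ht, l, hl⟩ := exists_split (F := F) (by omega)
    have hT := card_centralizer_split ht hl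
    obtain ⟨c1, c2, c3⟩ := sylow_two ht h2 (hT ▸ by omega)
      (Fintype.card F * ((Fintype.card F + 1) / 2))
      (by
        rw [Nat.prime_two.dvd_mul]
        omega)
      (by
        rw [hcard, hT]
        have e : 2 * ((Fintype.card F + 1) / 2) = Fintype.card F + 1 := by omega
        calc Fintype.card F * ((Fintype.card F + 1) * (Fintype.card F - 1))
            = Fintype.card F * (2 * ((Fintype.card F + 1) / 2) * (Fintype.card F - 1)) := by rw [e]
          _ = _ := by ring) S
    exact ⟨c1, fun h => c2 (hT ▸ by omega), fun h => c3 (hT ▸ by omega)⟩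
  · obtain ⟨g, ht, hno⟩ := exists_nonsplit (F := F)
    have hT := card_centralizer_nonsplit ht hno
    obtain ⟨c1, c2, c3⟩ := sylow_two ht h2 (hT ▸ by omega)
      (Fintype.card F * ((Fintype.card F - 1) / 2))
      (by
        rw [Nat.prime_two.dvd_mul]
        omega)
      (by
        rw [hcard, hT]
        have e : 2 * ((Fintype.card F - 1) / 2) = Fintype.card F - 1 := by omega
        calc Fintype.card F * ((Fintype.card F + 1) * (Fintype.card F - 1))
            = Fintype.card F * ((Fintype.card F + 1) * (2 * ((Fintype.card F - 1) / 2))) := by rw [e]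
          _ = _ := by ring) S
    exact ⟨c1, fun h => c2 (hT ▸ by omega), fun h => c3 (hT ▸ by omega)⟩

end Cfsg.Agent.S2431
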