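import Cfsg.Statements.S2432
import Cfsg.Agent.SL2Borel.Basic

set_option autoImplicit false
open Cfsg

namespace Cfsg.Agent.S2432

open CfsgLib.SL2Borel

/-- Let F be a finite field with q elements, q odd, and for a multiplicative character α of F let R(α) be the function on SL₂ induced from the linear character b ↦ α(b₁₁) of the upper triangular subgroup. For multiplicative characters α, β the inner product of R(α) and R(β) equals the number of true statements among 'α = β' and 'α = β⁻¹' (the Mackey formula for the upper triangular subgroup, whose intersection with a conjugate by the Weyl element is the diagonal subgroup). -/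
theorem result {F : Type*} [Field F] [Fintype F] [DecidableEq F] (hodd : Odd (Fintype.card F))
    (α β : MulChar F ℂ) [Decidable (α = β)] [Decidable (α = β⁻¹)] :
    Cfsg.classInner (Cfsg.indFun ((Cfsg.upperTriangularGL 2 F).comap Matrix.SpecialLinearGroup.toGL) (fun b => α (((b : Matrix.SpecialLinearGroup (Fin 2) F) : Matrix (Fin 2) (Fin 2) F) 0 0))) (Cfsg.indFun ((Cfsg.upperTriangularGL 2 F).comap Matrix.SpecialLinearGroup.toGL) (fun b => β (((b : Matrix.SpecialLinearGroup (Fin 2) F) : Matrix (Fin 2) (Fin 2) F) 0 0))) =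
      (if α = β then 1 else 0) + (if α = β⁻¹ then 1 else 0) := by
  haveI : Fintype (borel F) := Fintype.ofFinite _
  change Cfsg.classInner (Cfsg.indFun (borel F) (chi α)) (Cfsg.indFun (borel F) (chi β)) = _
  rw [CfsgLib.Characters.classInner_indFun _ _ (CfsgLib.Characters.isClassFunction_indFun _ _)]
  have hq : (Fintype.card F : ℂ) ≠ 0 := by exact_mod_cast Fintype.card_ne_zero
  have hq1 : ((Fintype.card F - 1 : ℕ) : ℂ) ≠ 0 := by
    exact_mod_cast (Nat.sub_pos_of_lt Fintype.one_lt_card).ne'
  have sumchar : ∀ (γ : MulChar F ℂ) [Decidable (γ = 1)], ∑ a : Fˣ, γ a =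
      if γ = 1 then ((Fintype.card F - 1 : ℕ) : ℂ) else 0 := by
    intro γ _
    split_ifs with h
    · subst h
      simp [Fintype.card_units]
    · have h0 := MulChar.sum_eq_zero_of_ne_one h
      rw [Fintype.sum_eq_add_sum_compl 0, MulChar.map_zero, zero_add] at h0
      rw [← h0]
      refine Finset.sum_bij (fun a _ => (a : F)) (by simp) (fun _ _ _ _ e => Units.ext e) ?_ (by simp)
      intro b hb
      exact ⟨Units.mk0 b (by simpa using hb), by simp⟩
  have hconj : ∀ (γ : MulChar F ℂ) (a : F), (starRingEnd ℂ) (γ a) = γ⁻¹ a := by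
    intro γ a
    rw [← MulChar.star_apply', RCLike.star_def]
  have inner : ∀ a : Fˣ, ∑ x : F, (starRingEnd ℂ) (Cfsg.indFun (borel F) (chi β) (mk a x)) =
      (Fintype.card F : ℂ) * (β⁻¹ a + β a) := by
    intro a
    have hR : ∀ x : F, Cfsg.indFun (borel F) (chi β) (mk a x) =
        β a + ∑ c : F, if ((↑a⁻¹ : F) - a) * c = x then β ↑a⁻¹ else 0 := by
      intro x
      rw [indFun_borel]
      simp [coe_mk, sub_eq_zero]
    simp only [hR, map_add, map_sum, Finset.sum_add_distrib, Finset.sum_const, Finset.card_univ]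
    rw [Finset.sum_comm]
    simp only [apply_ite (starRingEnd ℂ), map_zero, Finset.sum_ite_eq, Finset.mem_univ, if_true,
      Finset.sum_const, Finset.card_univ, nsmul_eq_mul, hconj, MulChar.inv_apply', Units.val_inv_eq_inv_val, inv_inv]
    ring
  have hB : ∑ h : borel F, chi α h * (starRingEnd ℂ) (Cfsg.indFun (borel F) (chi β) h) =
      ∑ p : Fˣ × F, α p.1 * (starRingEnd ℂ) (Cfsg.indFun (borel F) (chi β) (mk p.1 p.2)) := by
    rw [← (borelEquiv F).sum_comp]
    rfl
  rw [Cfsg.classInner, card_borel, hB, Fintype.sum_prod_type]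
  simp only [← Finset.mul_sum, inner, mul_add, ← mul_assoc, mul_comm _ (Fintype.card F : ℂ)]
  simp only [Finset.sum_add_distrib, mul_assoc, ← Finset.mul_sum, ← MulChar.mul_apply]
  have e1 : (α * β⁻¹ = 1) ↔ α = β := mul_inv_eq_one
  have e2 : (α * β = 1) ↔ α = β⁻¹ := mul_eq_one_iff_eq_inv
  classical
  rw [sumchar, sumchar]
  simp only [e1, e2, Nat.cast_mul]
  split_ifs <;> field_simp <;> ring

end Cfsg.Agent.S2432
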