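import Cfsg.Statements.S2433
import Cfsg.Agent.SL2Borel.Basic

set_option autoImplicit false
open Cfsg

namespace Cfsg.Agent.S2433

open CfsgLib.SL2Borel

/-- Let F be a finite field with q elements, q odd, α a multiplicative character of F, and R(α) the function on SL₂ induced from the linear character b ↦ α(b₁₁) of the upper triangular subgroup. Then R(α) takes the value α(a) + α(a⁻¹) at a diagonal element with entries a, a⁻¹, a² ≠ 1; the value 0 at every element with no eigenvector in F²; the value α(ε) at an upper triangular element with both diagonal entries ε and non-zero upper right entry; and the value (q + 1)α(ε) at the scalar element ε (ε = ±1). -/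
theorem result {F : Type*} [Field F] [Fintype F] [DecidableEq F] (hodd : Odd (Fintype.card F)) (α : MulChar F ℂ) (g : Matrix.SpecialLinearGroup (Fin 2) F) :
    ((g : Matrix (Fin 2) (Fin 2) F) 0 1 = 0 → (g : Matrix (Fin 2) (Fin 2) F) 1 0 = 0 → (g : Matrix (Fin 2) (Fin 2) F) 0 0 ^ 2 ≠ 1 →
      (Cfsg.indFun ((Cfsg.upperTriangularGL 2 F).comap Matrix.SpecialLinearGroup.toGL) (fun b => α (((b : Matrix.SpecialLinearGroup (Fin 2) F) : Matrix (Fin 2) (Fin 2) F) 0 0))) g = α ((g : Matrix (Fin 2) (Fin 2) F) 0 0) + α ((g : Matrix (Fin 2) (Fin 2) F) 1 1)) ∧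
    ((∀ (c : F) (v : Fin 2 → F), v ≠ 0 → (g : Matrix (Fin 2) (Fin 2) F).mulVec v ≠ c • v) → (Cfsg.indFun ((Cfsg.upperTriangularGL 2 F).comap Matrix.SpecialLinearGroup.toGL) (fun b => α (((b : Matrix.SpecialLinearGroup (Fin 2) F) : Matrix (Fin 2) (Fin 2) F) 0 0))) g = 0) ∧
    ((g : Matrix (Fin 2) (Fin 2) F) 1 0 = 0 → (g : Matrix (Fin 2) (Fin 2) F) 0 0 = (g : Matrix (Fin 2) (Fin 2) F) 1 1 → (g : Matrix (Fin 2) (Fin 2) F) 0 1 ≠ 0 →
      (Cfsg.indFun ((Cfsg.upperTriangularGL 2 F).comap Matrix.SpecialLinearGroup.toGL) (fun b => α (((b : Matrix.SpecialLinearGroup (Fin 2) F) : Matrix (Fin 2) (Fin 2) F) 0 0))) g = α ((g : Matrix (Fin 2) (Fin 2) F) 0 0)) ∧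
    ((g : Matrix (Fin 2) (Fin 2) F) 0 1 = 0 → (g : Matrix (Fin 2) (Fin 2) F) 1 0 = 0 → (g : Matrix (Fin 2) (Fin 2) F) 0 0 = (g : Matrix (Fin 2) (Fin 2) F) 1 1 →
      (Cfsg.indFun ((Cfsg.upperTriangularGL 2 F).comap Matrix.SpecialLinearGroup.toGL) (fun b => α (((b : Matrix.SpecialLinearGroup (Fin 2) F) : Matrix (Fin 2) (Fin 2) F) 0 0))) g = ((Fintype.card F : ℂ) + 1) * α ((g : Matrix (Fin 2) (Fin 2) F) 0 0)) := by
  have key := indFun_borel α g
  change (_ → _ → _ → Cfsg.indFun (borel F) (chi α) g = _) ∧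
    (_ → Cfsg.indFun (borel F) (chi α) g = _) ∧
    (_ → _ → _ → Cfsg.indFun (borel F) (chi α) g = _) ∧
    (_ → _ → _ → Cfsg.indFun (borel F) (chi α) g = _)
  simp only [key]
  refine ⟨?_, ?_, ?_, ?_⟩
  · intro h01 h10 ha
    have hd : g 0 0 * g 1 1 = 1 := entries_mul (mem_borel.2 h10)
    have hne : g 1 1 - g 0 0 ≠ 0 := by
      intro h
      apply ha
      rw [sub_eq_zero.mp h] at hd
      linear_combination hd
    rw [if_pos h10, Finset.sum_eq_single 0]
    · simp [h01]
    · intro c _ hc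
      simp [h01, h10, hne, hc]
    · simp
  · intro h
    have h10 : g 1 0 ≠ 0 := by
      intro h10
      refine h (g 0 0) ![1, 0] (fun e => one_ne_zero (congrFun e 0)) ?_
      ext i
      fin_cases i <;> simp [Matrix.mulVec, dotProduct, Fin.sum_univ_two, h10]
    rw [if_neg h10, zero_add]
    refine Finset.sum_eq_zero fun c _ => if_neg fun hc => ?_
    refine h (g 1 0 * c + g 1 1) ![c, 1] (fun e => one_ne_zero (congrFun e 1)) ?_
    ext i
    fin_cases i
    · simp [Matrix.mulVec, dotProduct, Fin.sum_univ_two]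
      linear_combination -hc
    · simp [Matrix.mulVec, dotProduct, Fin.sum_univ_two]
  · intro h10 he h01
    rw [if_pos h10, Finset.sum_eq_zero, add_zero]
    intro c _
    simp [h10, he, h01]
  · intro h01 h10 he
    simp [h10, h01, he, add_mul, add_comm]

end Cfsg.Agent.S2433
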