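import Cfsg.Statements.S2434
import Cfsg.Agent.SL2CharTable.Apply
import Cfsg.Agent.SL2Tori.SylowTwo

set_option autoImplicit false
open Cfsg

namespace Cfsg.Agent.S2434

open CfsgLib.SL2CharTable

/-- Let F be a finite field with q elements, q odd, and C a cyclic subgroup of order q + 1 of SL₂ over F (a non-split torus; it contains the centre). For every homomorphism θ from C to the non-zero complex numbers with θ² ≠ 1 there is an irreducible complex character χ of degree q − 1 such that χ(c) = −θ(c) − θ(c)⁻¹ for every non-central c in C, χ(zg) = θ(z)χ(g) for central z in C, χ vanishes at diagonal elements with entry a, a² ≠ 1, and χ takes the value −1 at every upper unitriangular element other than 1. Conversely every irreducible character of degree q − 1 has, for some such θ, the values −θ(c) − θ(c)⁻¹ at the non-central elements c of C (for q ≥ 5 these are exactly the cuspidal characters of degree q − 1). -/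
theorem result {F : Type*} [Field F] [Fintype F] (hodd : Odd (Fintype.card F))
    (C : Subgroup (Matrix.SpecialLinearGroup (Fin 2) F)) (hC : IsCyclic C) (hcard : Nat.card C = Fintype.card F + 1) :
    (∀ θ : C →* ℂˣ, (∃ c : C, θ c ^ 2 ≠ 1) →
      ∃ χ : Matrix.SpecialLinearGroup (Fin 2) F → ℂ, Cfsg.IsIrrCharacter (Matrix.SpecialLinearGroup (Fin 2) F) χ ∧ χ 1 = (Fintype.card F : ℂ) - 1 ∧
        (∀ c : C, (c : Matrix.SpecialLinearGroup (Fin 2) F) ∉ Subgroup.center (Matrix.SpecialLinearGroup (Fin 2) F) → χ c = -((θ c).val + (θ c)⁻¹.val)) ∧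
        (∀ c : C, (c : Matrix.SpecialLinearGroup (Fin 2) F) ∈ Subgroup.center (Matrix.SpecialLinearGroup (Fin 2) F) → ∀ g : Matrix.SpecialLinearGroup (Fin 2) F, χ ((c : Matrix.SpecialLinearGroup (Fin 2) F) * g) = (θ c).val * χ g) ∧
        (∀ g : Matrix.SpecialLinearGroup (Fin 2) F, (g : Matrix (Fin 2) (Fin 2) F) 0 1 = 0 → (g : Matrix (Fin 2) (Fin 2) F) 1 0 = 0 → (g : Matrix (Fin 2) (Fin 2) F) 0 0 ^ 2 ≠ 1 → χ g = 0) ∧
        (∀ g : Matrix.SpecialLinearGroup (Fin 2) F, (g : Matrix (Fin 2) (Fin 2) F) 1 0 = 0 → (g : Matrix (Fin 2) (Fin 2) F) 0 0 = 1 → (g : Matrix (Fin 2) (Fin 2) F) 1 1 = 1 → (g : Matrix (Fin 2) (Fin 2) F) 0 1 ≠ 0 → χ g = -1)) ∧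
    (∀ χ : Matrix.SpecialLinearGroup (Fin 2) F → ℂ, Cfsg.IsIrrCharacter (Matrix.SpecialLinearGroup (Fin 2) F) χ → χ 1 = (Fintype.card F : ℂ) - 1 →
      ∃ θ : C →* ℂˣ, (∃ c : C, θ c ^ 2 ≠ 1) ∧
        ∀ c : C, (c : Matrix.SpecialLinearGroup (Fin 2) F) ∉ Subgroup.center (Matrix.SpecialLinearGroup (Fin 2) F) → χ c = -((θ c).val + (θ c)⁻¹.val)) := by
  classical
  have h2 := CfsgLib.SL2Tori.two_ne_zero_of_odd hodd
  obtain ⟨Tr, rfl⟩ := exists_torus_eq h2 C hC hcard
  obtain ⟨H⟩ := nonempty_halves Tr h2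
  refine ⟨fun θ ⟨c, hc⟩ => ?_, fun χ hχ h1 => ?_⟩
  · have hθ : θ ^ 2 ≠ 1 := fun e => hc (by rw [← MonoidHom.pow_apply, e, MonoidHom.one_apply])
    have hI := isIrr_D Tr h2 hθ
    refine ⟨D Tr h2 θ, hI, D_one Tr h2 θ, fun t ht => ?_, fun t ht g => ?_, fun g h01 h10 hd => ?_,
      fun g h10 h00 h11 h01 => ?_⟩
    · rw [D_torus Tr h2 θ t (not_center_iff.1 ht).1 (not_center_iff.1 ht).2, map_inv]
    · have hn : D Tr h2 θ 1 ≠ 0 := by
        rw [D_one]; exact sub_ne_zero.2 (Nat.cast_ne_one.2 (Fintype.one_lt_card (α := F)).ne')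
      have hv : D Tr h2 θ t = (θ t : ℂ) * D Tr h2 θ 1 := by
        rcases (CfsgLib.SL2Trace.mem_center_iff_eq _).1 ht with e | e
        · rw [e, show t = 1 from Subtype.ext e, map_one, Units.val_one, one_mul]
        · rw [e, show t = Tr.negT from Subtype.ext e, ← mk_neg_one_zero,
            D_central Tr h2 θ (Or.inr rfl), beta_neg_one, D_one, mul_comm]
      refine mul_right_cancel₀ hn ?_
      rw [central_mul hI ht g, hv]; ring
    · obtain ⟨a, x, rfl, ha, -, -⟩ := exists_mk_of_upper h10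
      exact D_regular Tr h2 θ (fun e => hd (by rw [ha, ← Units.val_pow_eq_pow_val, e, Units.val_one])) x
    · obtain ⟨a, x, rfl, ha, -, hx⟩ := exists_mk_of_upper h10
      rw [ha, Units.val_eq_one] at h00
      subst h00
      rw [hx] at h01
      rw [D_unipotent Tr h2 θ (Or.inl rfl) h01, map_one, Units.val_one]
  · have main : ∀ θ : Tr.T →* ℂˣ, θ ^ 2 ≠ 1 → ∃ c, θ c ^ 2 ≠ 1 := fun θ hθ => by
      by_contra h
      simp only [not_exists, ne_eq, not_not] at h
      exact hθ (MonoidHom.ext fun c => by rw [MonoidHom.pow_apply, h c, MonoidHom.one_apply])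
    rcases H.deg_minus hχ h1 with ⟨η, hη, rfl⟩ | ⟨h3, hh⟩
    · refine ⟨η, main η hη, fun t ht => ?_⟩
      rw [D_torus Tr h2 η t (not_center_iff.1 ht).1 (not_center_iff.1 ht).2, map_inv]
    · haveI : Fintype Tr.T := Fintype.ofFinite _
      have hsq : ∀ t : Tr.T, (t : Matrix.SpecialLinearGroup (Fin 2) F) ∉ Subgroup.center _ → t ^ 2 ≠ 1 := by
        intro t ht e
        have e' := congrArg Subtype.val e
        rcases CfsgLib.SL2Tori.eq_one_or_neg_one_of_sq h2 (y := t.1) (by simpa [sq] using e') with a | a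
        · exact (not_center_iff.1 ht).1 a
        · exact (not_center_iff.1 ht).2 a
      obtain ⟨g, hg⟩ := hC.exists_generator
      have hg2 : g ^ 2 ≠ 1 := fun e => by
        have := Nat.le_of_dvd two_pos (orderOf_dvd_of_pow_eq_one e)
        rw [orderOf_eq_card_of_forall_mem_zpowers hg, hcard] at this
        omega
      haveI : HasEnoughRootsOfUnity ℂ (Monoid.exponent Tr.T) := inferInstance
      obtain ⟨η, hη⟩ := CommGroup.exists_apply_ne_one_of_hasEnoughRootsOfUnity Tr.T ℂ hg2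
      refine ⟨η, ⟨g, by rwa [← map_pow]⟩, fun t ht => ?_⟩
      have h4 : ∀ u : Tr.T, u ^ 4 = 1 := fun u => by
        rw [show 4 = Nat.card Tr.T by rw [hcard, h3]]; exact pow_card_eq_one'
      have hneg : t ^ 2 = Tr.negT ∧ g ^ 2 = Tr.negT := by
        have key : ∀ u : Tr.T, u ^ 2 ≠ 1 → u ^ 2 = Tr.negT := fun u hu => by
          rcases CfsgLib.SL2Tori.eq_one_or_neg_one_of_sq h2 (y := (u ^ 2 : Tr.T).1)
            (by rw [← Subgroup.coe_mul, ← pow_add, h4, Subgroup.coe_one]) with a | a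
          · exact absurd (Subtype.ext a) hu
          · exact Subtype.ext a
        exact ⟨key t (hsq t ht), key g hg2⟩
      have hv : ((η t : ℂ)) ^ 2 = -1 := by
        have a : ((η g ^ 2 : ℂˣ) : ℂ) ^ 2 = 1 := by
          rw [← Units.val_pow_eq_pow_val, ← pow_mul, ← map_pow, h4, map_one, Units.val_one]
        have b : ((η g ^ 2 : ℂˣ) : ℂ) ≠ 1 := fun e => hη (by rw [map_pow]; exact Units.val_eq_one.1 e)
        rw [← Units.val_pow_eq_pow_val, ← map_pow, hneg.1, ← hneg.2, map_pow]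
        exact (sq_eq_one_iff.1 a).resolve_left b
      have : χ t = 0 := by
        have := H.χ_nonsplit (Tr.regular t.2 (not_center_iff.1 ht).1 (not_center_iff.1 ht).2).2.2
        rcases hh with rfl | rfl
        exacts [this.1, this.2]
      rw [this, Units.val_inv_eq_inv_val]
      have hne := (η t).ne_zero
      field_simp
      linear_combination hv

end Cfsg.Agent.S2434
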