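import Cfsg.Statements.S2435
import Cfsg.Agent.SL2CharTable.Apply

set_option autoImplicit false
open Cfsg

namespace Cfsg.Agent.S2435

open CfsgLib.SL2CharTable

/-- Let F be a finite field with q elements, q odd and q ≥ 5, and χ an irreducible complex character of SL₂ over F. If χ has degree (q + 1)/2, then at a diagonal element with entry a, a² ≠ 1, χ takes the value 1 when a is a square in F and −1 otherwise. If χ has degree (q − 1)/2, then at an element g with no eigenvector in F² (so g has order dividing q + 1), χ takes the value −1 when g raised to the power (q + 1)/2 is the identity and the value 1 otherwise. -/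
theorem result {F : Type*} [Field F] [Fintype F] (hodd : Odd (Fintype.card F)) (hq : 5 ≤ Fintype.card F)
    (χ : Matrix.SpecialLinearGroup (Fin 2) F → ℂ) (hχ : Cfsg.IsIrrCharacter (Matrix.SpecialLinearGroup (Fin 2) F) χ) (g : Matrix.SpecialLinearGroup (Fin 2) F) :
    (χ 1 = (((Fintype.card F + 1) / 2 : ℕ) : ℂ) → (g : Matrix (Fin 2) (Fin 2) F) 0 1 = 0 → (g : Matrix (Fin 2) (Fin 2) F) 1 0 = 0 → (g : Matrix (Fin 2) (Fin 2) F) 0 0 ^ 2 ≠ 1 →
      (IsSquare ((g : Matrix (Fin 2) (Fin 2) F) 0 0) → χ g = 1) ∧ (¬ IsSquare ((g : Matrix (Fin 2) (Fin 2) F) 0 0) → χ g = -1)) ∧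
    (χ 1 = (((Fintype.card F - 1) / 2 : ℕ) : ℂ) → (∀ (c : F) (v : Fin 2 → F), v ≠ 0 → (g : Matrix (Fin 2) (Fin 2) F).mulVec v ≠ c • v) →
      (((g ^ ((Fintype.card F + 1) / 2)) : Matrix (Fin 2) (Fin 2) F) = 1 → χ g = -1) ∧ (((g ^ ((Fintype.card F + 1) / 2)) : Matrix (Fin 2) (Fin 2) F) ≠ 1 → χ g = 1)) := by
  classical
  obtain ⟨Tr, h2, ⟨H⟩⟩ := exists_table hodd
  refine ⟨fun h1 h01 h10 hd => ?_, fun h1 hv => ?_⟩
  · obtain ⟨a, x, rfl, ha, -, -⟩ := exists_mk_of_upper h10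
    have ha2 : a ^ 2 ≠ 1 := fun e => hd (by rw [ha, ← Units.val_pow_eq_pow_val, e, Units.val_one])
    have hχv : χ (CfsgLib.SL2Borel.mk a x) = (H.α a : ℂ) := by
      rcases H.deg_half_plus hq hχ h1 with rfl | rfl
      exacts [(H.χ_regular ha2 x).1, (H.χ_regular ha2 x).2]
    rw [ha, hχv]
    exact H.α_apply a
  · obtain ⟨t, ht, ht', hc⟩ := exists_torus_conj Tr h2 (CfsgLib.SL2Tori.no_root_of_no_eigenvector hv)
    have hχv : χ g = -(H.θ t : ℂ) := by
      rw [classFun_congr (CfsgLib.Characters.isClassFunction_of_isIrr hχ) hc]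
      rcases H.deg_half_minus hq hχ h1 with rfl | rfl
      exacts [(H.ψ_torus t ht ht').1, (H.ψ_torus t ht ht').2]
    obtain ⟨k, hk⟩ := isConj_iff.1 hc
    have hiff : ((g ^ ((Fintype.card F + 1) / 2)) : Matrix.SpecialLinearGroup (Fin 2) F) = 1 ↔
        t ^ ((Fintype.card F + 1) / 2) = 1 := by
      rw [← hk, conj_pow, conj_eq_one_iff, ← Subgroup.coe_pow, OneMemClass.coe_eq_one]
    rw [hχv, ← Matrix.SpecialLinearGroup.coe_one (n := Fin 2) (R := F)]
    refine ⟨fun e => ?_, fun e => ?_⟩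
    · rw [(H.θ_apply t).1 (hiff.1 (Subtype.ext (by simpa using e)))]
    · rw [(H.θ_apply t).2 (fun h => e (by simpa using congrArg Subtype.val (hiff.2 h))), neg_neg]

end Cfsg.Agent.S2435
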