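import Cfsg.Statements.S2437
import Cfsg.Agent.SL2Borel.Basic

set_option autoImplicit false
open Cfsg

namespace Cfsg.Agent.S2437

open CfsgLib.SL2Borel

/-- Over a finite field F with q elements, q odd, the upper triangular subgroup of SL₂ (a Borel subgroup, of order q(q − 1)) has exactly q + 3 conjugacy classes. -/
theorem result {F : Type*} [Field F] [Fintype F] (hodd : Odd (Fintype.card F)) :
    Nat.card (ConjClasses ((Cfsg.upperTriangularGL 2 F).comap Matrix.SpecialLinearGroup.toGL)) = Fintype.card F + 3 := by
  classical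
  have hcomm : ∀ p r : Fˣ × F, Commute (borelEquiv F p) (borelEquiv F r) ↔
      ((p.1 : F) - (↑p.1⁻¹ : F)) * r.2 = ((r.1 : F) - (↑r.1⁻¹ : F)) * p.2 := by
    intro p r
    constructor
    · intro h
      have := congrArg (fun g : borel F => (g : Matrix.SpecialLinearGroup (Fin 2) F) 0 1) h
      simp [borelEquiv, coe_mk, Matrix.SpecialLinearGroup.coe_mul, Matrix.mul_apply, Fin.sum_univ_two] at this ⊢
      linear_combination this
    · intro h
      apply Subtype.ext
      apply Matrix.SpecialLinearGroup.ext
      intro i j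
      fin_cases i <;> fin_cases j <;>
        simp [borelEquiv, coe_mk, Matrix.SpecialLinearGroup.coe_mul, Matrix.mul_apply, Fin.sum_univ_two] at h ⊢ <;>
        first | ring1 | linear_combination h
  have key := card_comm_eq_card_conjClasses_mul_card (borel F)
  rw [← Nat.card_congr ((Equiv.prodCongr (borelEquiv F) (borelEquiv F)).subtypeEquiv
    (p := fun z : (Fˣ × F) × (Fˣ × F) => ((z.1.1 : F) - (↑z.1.1⁻¹ : F)) * z.2.2 = ((z.2.1 : F) - (↑z.2.1⁻¹ : F)) * z.1.2)
    fun z => (hcomm z.1 z.2).symm), card_borel] at key
  rw [card_commuting hodd] at key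
  have hq := Fintype.one_lt_card (α := F)
  refine (mul_right_cancel₀ (b := (Fintype.card F - 1) * Fintype.card F) ?_ ?_).symm
  · exact Nat.mul_ne_zero (by omega) (by omega)
  · rw [← key]

end Cfsg.Agent.S2437
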