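import Cfsg.Statements.S2436
import Cfsg.Agent.SL2CharTable.McKay

set_option autoImplicit false
open Cfsg

namespace Cfsg.Agent.S2436

open CfsgLib.SL2CharTable

/-- Let F be a finite field with q elements, q odd, ℓ any prime and S a Sylow ℓ-subgroup of SL₂ over F with normaliser N. Then SL₂ and N have the same number of irreducible complex characters of degree not divisible by ℓ (the McKay equality holds for SL₂ over F at every prime). -/
theorem result {F : Type*} [Field F] [Fintype F] (hodd : Odd (Fintype.card F)) (ℓ : ℕ) [Fact ℓ.Prime] (S : Sylow ℓ (Matrix.SpecialLinearGroup (Fin 2) F)) :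
    Nat.card {χ : Cfsg.IrrCharacter (Matrix.SpecialLinearGroup (Fin 2) F) // ¬ ℓ ∣ Cfsg.charDegree (χ : Matrix.SpecialLinearGroup (Fin 2) F → ℂ)} =
      Nat.card {ψ : Cfsg.IrrCharacter (Subgroup.normalizer ((S : Subgroup (Matrix.SpecialLinearGroup (Fin 2) F)) : Set (Matrix.SpecialLinearGroup (Fin 2) F))) //
        ¬ ℓ ∣ Cfsg.charDegree (ψ : Subgroup.normalizer ((S : Subgroup (Matrix.SpecialLinearGroup (Fin 2) F)) : Set (Matrix.SpecialLinearGroup (Fin 2) F)) → ℂ)} := by
  classical
  obtain ⟨Tr, h2, ⟨H⟩⟩ := exists_table hodd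
  show cardPrimeTo (Matrix.SpecialLinearGroup (Fin 2) F) ℓ =
    cardPrimeTo (Subgroup.normalizer ((S : Subgroup (Matrix.SpecialLinearGroup (Fin 2) F)) : Set (Matrix.SpecialLinearGroup (Fin 2) F))) ℓ
  have hℓ : ℓ.Prime := Fact.out
  by_cases hd : ℓ ∣ Nat.card (Matrix.SpecialLinearGroup (Fin 2) F)
  · by_cases hℓ2 : ℓ = 2
    · subst hℓ2
      rw [H.cardPrimeTo_two, cardPrimeTo_normalizer_two hodd S]
    have hq1 := Fintype.one_lt_card (α := F)
    have hodd' := Halves.odd_card (F := F) h2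
    have hℓ3 : 3 ≤ ℓ := by have := hℓ.two_le; omega
    have hcard : Nat.card (Matrix.SpecialLinearGroup (Fin 2) F) =
        Fintype.card F * ((Fintype.card F + 1) * (Fintype.card F - 1)) := by
      rw [card_SL2, ← Nat.sq_sub_sq, one_pow]
    have h1 : ¬ ℓ ∣ 1 := hℓ.not_dvd_one
    have h12 : ¬ ℓ ∣ 2 := fun h => by have := Nat.le_of_dvd two_pos h; omega
    rw [hcard] at hd
    rcases (hℓ.dvd_mul).1 hd with hd | hd
    · obtain ⟨n, hp, hn⟩ := FiniteField.card F (ringChar F)
      have hp' : ℓ = ringChar F := (Nat.prime_dvd_prime_iff_eq hℓ hp).1 (hℓ.dvd_of_dvd_pow (hn ▸ hd))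
      haveI : CharP F ℓ := hp' ▸ ringChar.charP F
      rw [H.cardPrimeTo_char hℓ hℓ2 hd, cardPrimeTo_normalizer_char hodd S]
    rcases (hℓ.dvd_mul).1 hd with hd | hd
    · obtain ⟨g, ht, hno⟩ := CfsgLib.SL2Tori.exists_nonsplit (F := F)
      have hT := CfsgLib.SL2Tori.card_centralizer_nonsplit ht hno
      rw [H.cardPrimeTo_plus hℓ hℓ2 hd, cardPrimeTo_normalizer_torus h2 hℓ2 ht (hT ▸ hd)
        (Fintype.card F * (Fintype.card F - 1)) (by rw [hcard, hT]; ring) (fun h => ?_) S, hT]
      rcases (hℓ.dvd_mul).1 h with h | h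
      · exact h1 ((Nat.dvd_add_right h).1 hd)
      · exact h12 ((Nat.dvd_add_right h).1 (by
          rwa [show Fintype.card F - 1 + 2 = Fintype.card F + 1 by omega]))
    · have hle := Nat.le_of_dvd (by omega) hd
      obtain ⟨g, ht, l, hl⟩ := CfsgLib.SL2Tori.exists_split (F := F) (by omega)
      have hT := CfsgLib.SL2Tori.card_centralizer_split ht hl
      rw [H.cardPrimeTo_minus hℓ hℓ2 hd, cardPrimeTo_normalizer_torus h2 hℓ2 ht (hT ▸ hd)
        (Fintype.card F * (Fintype.card F + 1)) (by rw [hcard, hT]; ring) (fun h => ?_) S, hT]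
      · omega
      rcases (hℓ.dvd_mul).1 h with h | h
      · exact h1 ((Nat.dvd_add_right hd).1 (by rwa [Nat.sub_add_cancel hq1.le]))
      · exact h12 ((Nat.dvd_add_right hd).1 (by
          rwa [show Fintype.card F - 1 + 2 = Fintype.card F + 1 by omega]))
  · have hS : (S : Subgroup (Matrix.SpecialLinearGroup (Fin 2) F)) = ⊥ := by
      apply Subgroup.eq_bot_of_card_eq
      rw [S.card_eq_multiplicity, Nat.factorization_eq_zero_of_not_dvd hd, pow_zero]
    have hN : Subgroup.normalizer ((S : Subgroup (Matrix.SpecialLinearGroup (Fin 2) F)) : Set (Matrix.SpecialLinearGroup (Fin 2) F)) = ⊤ := by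
      rw [hS, eq_top_iff]
      intro g _
      rw [Subgroup.mem_normalizer_iff]
      intro v
      simp
    exact (cardPrimeTo_congr ((MulEquiv.subgroupCongr hN).trans Subgroup.topEquiv) ℓ).symm

end Cfsg.Agent.S2436
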