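import Cfsg.Statements.S2439
import Cfsg.Agent.SL2CharTable.DefiningBlocks

set_option autoImplicit false
open Cfsg

namespace Cfsg.Agent.S2439

open CfsgLib.SL2CharTable

/-- Let F be a finite field with q elements of odd characteristic p, and M a maximal ideal of the algebraic integers containing p. Then SL₂ over F has exactly three p-blocks relative to M: the irreducible character of degree q (the Steinberg character) alone; the other irreducible characters taking the same value at −1 as at 1 (the principal block); and the irreducible characters χ with χ(−1) = −χ(1). Every Sylow p-subgroup is a defect group of each of the last two blocks. -/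
theorem result {F : Type*} [Field F] [Fintype F] (p : ℕ) [Fact p.Prime] [CharP F p] (hp : p ≠ 2)
    (M : Ideal Cfsg.AlgInt) (hM : Cfsg.IsPModular p M) :
    (∀ B : Set (Cfsg.IrrCharacter (Matrix.SpecialLinearGroup (Fin 2) F)), Cfsg.IsPBlock M B ↔
      (B = {χ : Cfsg.IrrCharacter (Matrix.SpecialLinearGroup (Fin 2) F) | (χ : Matrix.SpecialLinearGroup (Fin 2) F → ℂ) 1 = (Fintype.card F : ℂ)} ∨
       B = {χ : Cfsg.IrrCharacter (Matrix.SpecialLinearGroup (Fin 2) F) | (χ : Matrix.SpecialLinearGroup (Fin 2) F → ℂ) (-1) = (χ : Matrix.SpecialLinearGroup (Fin 2) F → ℂ) 1 ∧ (χ : Matrix.SpecialLinearGroup (Fin 2) F → ℂ) 1 ≠ (Fintype.card F : ℂ)} ∨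
       B = {χ : Cfsg.IrrCharacter (Matrix.SpecialLinearGroup (Fin 2) F) | (χ : Matrix.SpecialLinearGroup (Fin 2) F → ℂ) (-1) = -(χ : Matrix.SpecialLinearGroup (Fin 2) F → ℂ) 1})) ∧
    Nat.card {B : Set (Cfsg.IrrCharacter (Matrix.SpecialLinearGroup (Fin 2) F)) // Cfsg.IsPBlock M B} = 3 ∧
    ∀ P : Sylow p (Matrix.SpecialLinearGroup (Fin 2) F),
      Cfsg.IsDefectGroup p M {χ : Cfsg.IrrCharacter (Matrix.SpecialLinearGroup (Fin 2) F) | (χ : Matrix.SpecialLinearGroup (Fin 2) F → ℂ) (-1) = (χ : Matrix.SpecialLinearGroup (Fin 2) F → ℂ) 1 ∧ (χ : Matrix.SpecialLinearGroup (Fin 2) F → ℂ) 1 ≠ (Fintype.card F : ℂ)} (P : Subgroup (Matrix.SpecialLinearGroup (Fin 2) F)) ∧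
      Cfsg.IsDefectGroup p M {χ : Cfsg.IrrCharacter (Matrix.SpecialLinearGroup (Fin 2) F) | (χ : Matrix.SpecialLinearGroup (Fin 2) F → ℂ) (-1) = -(χ : Matrix.SpecialLinearGroup (Fin 2) F → ℂ) 1} (P : Subgroup (Matrix.SpecialLinearGroup (Fin 2) F)) := by
  classical
  have hodd : Odd (Fintype.card F) := by
    obtain ⟨f, hf', hf⟩ := FiniteField.card F p
    rw [hf]
    exact (hf'.odd_of_ne_two hp).pow
  obtain ⟨Tr, h2, ⟨H⟩⟩ := exists_table hodd
  haveI : M.IsPrime := CfsgLib.Blocks.IsPModular.isPrime hM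
  have hq1 := Fintype.one_lt_card (α := F)
  let St' : Cfsg.IrrCharacter (Matrix.SpecialLinearGroup (Fin 2) F) := ⟨St, isIrr_St h2⟩
  let one' : Cfsg.IrrCharacter (Matrix.SpecialLinearGroup (Fin 2) F) :=
    ⟨fun _ => 1, CfsgLib.Characters.isIrr_one⟩
  have h1q : one'.1 1 ≠ (Fintype.card F : ℂ) := fun h => hq1.ne (Nat.cast_inj.1 (Nat.cast_one.trans h))
  have hSq : St'.1 1 = (Fintype.card F : ℂ) := St_one
  obtain ⟨mi, hmi⟩ := exists_minus H hM
  have eS := blockOf_St H hM hSq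
  have eP := blockOf_plus H hM (χ := one') rfl h1q
  have eM := blockOf_minus H hM hmi
  have hiff : ∀ B : Set (Cfsg.IrrCharacter (Matrix.SpecialLinearGroup (Fin 2) F)), Cfsg.IsPBlock M B ↔
      (B = {χ | χ.1 1 = (Fintype.card F : ℂ)} ∨
       B = {χ | χ.1 (-1) = χ.1 1 ∧ χ.1 1 ≠ (Fintype.card F : ℂ)} ∨
       B = {χ | χ.1 (-1) = -χ.1 1}) := by
    intro B
    constructor
    · rintro ⟨χ, rfl⟩
      by_cases h : χ.1 1 = (Fintype.card F : ℂ)
      · exact Or.inl (blockOf_St H hM h)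
      · rcases exists_sign_neg_one H hM χ with e | e
        · exact Or.inr (Or.inl (blockOf_plus H hM e h))
        · exact Or.inr (Or.inr (blockOf_minus H hM e))
    · rintro (rfl | rfl | rfl)
      exacts [⟨St', eS.symm⟩, ⟨one', eP.symm⟩, ⟨mi, eM.symm⟩]
  refine ⟨hiff, ?_, fun P => ⟨isDefectGroup_sylow (isDefectClass_one_plus H hM) P,
    isDefectGroup_sylow (isDefectClass_one_minus H hM) P⟩⟩
  have hmq : mi.1 1 ≠ (Fintype.card F : ℂ) := fun h => by
    rw [H.deg_q mi.2 h, St_neg_one, St_one] at hmi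
    exact Nat.cast_ne_zero.2 Fintype.card_ne_zero (show (Fintype.card F : ℂ) = 0 by
      linear_combination (1 / 2 : ℂ) * hmi)
  have hmp : ¬ mi.1 (-1) = mi.1 1 := fun h => CfsgLib.Characters.irr_one_ne_zero mi.2 (by
    linear_combination (1 / 2 : ℂ) * hmi - (1 / 2 : ℂ) * h)
  rw [Nat.card_congr (Equiv.subtypeEquivRight hiff)]
  refine Set.ncard_eq_three.2 ⟨_, _, _, ?_, ?_, ?_, rfl⟩
  · intro e
    exact ((Set.ext_iff.1 e St').1 hSq).2 hSq
  · intro e
    exact hmq ((Set.ext_iff.1 e mi).2 hmi)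
  · intro e
    exact hmp ((Set.ext_iff.1 e mi).2 hmi).1

end Cfsg.Agent.S2439
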