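import Cfsg.Statements.S4538
import Cfsg.Agent.SLDefect.Radical
import Cfsg.Agent.SLDefect.Weight
import Cfsg.Agent.SLDefect.Steinberg

set_option autoImplicit false
open Cfsg

namespace Cfsg.Agent.S4538

/-- Let F be a finite field of characteristic p and n ≥ 2. Relative to a maximal ideal M of the algebraic integers containing p, the group SL(n, F) has exactly one p-block of defect zero, and every other p-block has full defect (its defect equals the exponent of p in the order of the group, so its defect groups are Sylow p-subgroups). -/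
theorem result {F : Type*} [Field F] [Fintype F] (n : ℕ) (hn : 2 ≤ n) (p : ℕ) [Fact p.Prime] [CharP F p] (M : Ideal Cfsg.AlgInt) (hM : Cfsg.IsPModular p M) : Nat.card {B : Set (Cfsg.IrrCharacter (Matrix.SpecialLinearGroup (Fin n) F)) // Cfsg.IsPBlock M B ∧ Cfsg.blockDefect p B = 0} = 1 ∧ ∀ B : Set (Cfsg.IrrCharacter (Matrix.SpecialLinearGroup (Fin n) F)), Cfsg.IsPBlock M B → Cfsg.blockDefect p B = 0 ∨ Cfsg.blockDefect p B = (Nat.card (Matrix.SpecialLinearGroup (Fin n) F)).factorization p := by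
  classical
  haveI := CfsgLib.Blocks.IsPModular.isPrime hM
  haveI : NeZero n := ⟨by omega⟩
  haveI := Fintype.ofFinite (Matrix.SpecialLinearGroup (Fin n) F)
  have hp : p.Prime := Fact.out
  obtain ⟨θ, hθ⟩ := CfsgLib.SLDefect.exists_defect_zero (F := F) p (n := n) (by omega)
  refine ⟨?_, fun B hB => CfsgLib.SLDefect.blockDefect_eq_zero_or_full hM hB⟩
  set G := Matrix.SpecialLinearGroup (Fin n) F
  have hB0 := CfsgLib.Blocks.isPBlock_blockOf (M := M) θ
  have hdz : Cfsg.blockDefect p (Cfsg.blockOf M (θ : G → ℂ)) = 0 := by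
    rw [(CfsgLib.Blocks.defect_zero_iff hM θ).1 hθ, Cfsg.blockDefect, Set.image_singleton,
      csInf_singleton, Nat.sub_eq_zero_iff_le]
    obtain ⟨m, hm⟩ := CfsgLib.Blocks.charDegree_dvd_card θ
    have hd0 := CfsgLib.Blocks.charDegree_ne_zero θ
    have hm0 : m ≠ 0 := fun h0 => Nat.card_pos.ne' (by rw [hm, h0, mul_zero])
    rw [hm, Nat.mul_div_cancel_left _ (Nat.pos_of_ne_zero hd0)] at hθ
    rw [hm, Nat.factorization_mul hd0 hm0, Finsupp.add_apply,
      Nat.factorization_eq_zero_of_not_dvd hθ, add_zero]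
  have huniq : ∀ B : Set (Cfsg.IrrCharacter G), Cfsg.IsPBlock M B → Cfsg.blockDefect p B = 0 →
      B = Cfsg.blockOf M (θ : G → ℂ) := by
    intro B hB hd
    obtain ⟨ψ, hψ⟩ : B.Nonempty := by
      obtain ⟨ψ, rfl⟩ := hB
      exact ⟨ψ, CfsgLib.Blocks.mem_blockOf_self ψ⟩
    obtain ⟨χ, hχ, hmin⟩ := Nat.sInf_mem
      (Set.Nonempty.image (fun χ : Cfsg.IrrCharacter G =>
        (Cfsg.charDegree (χ : G → ℂ)).factorization p) ⟨ψ, hψ⟩)
    rw [Cfsg.blockDefect, Nat.sub_eq_zero_iff_le, ← hmin] at hd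
    have hdvd := CfsgLib.Blocks.charDegree_dvd_card χ
    have hle : (Nat.card G).factorization p ≤ (Cfsg.charDegree (χ : G → ℂ)).factorization p := hd
    have hχ0 : ¬ p ∣ Nat.card G / Cfsg.charDegree (χ : G → ℂ) := by
      intro hp'
      have h1 := hp.factorization_pos_of_dvd (Nat.pos_iff_ne_zero.1
        (Nat.div_pos (Nat.le_of_dvd Nat.card_pos hdvd)
          (Nat.pos_of_ne_zero (CfsgLib.Blocks.charDegree_ne_zero χ)))) hp'
      rw [Nat.factorization_div hdvd, Finsupp.tsub_apply] at h1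
      omega
    rw [← CfsgLib.SLDefect.blockOf_eq_of_defect_zero hM χ θ hχ0 hθ]
    exact CfsgLib.Blocks.isPBlock_eq_of_mem hB (CfsgLib.Blocks.isPBlock_blockOf χ) hχ
      (CfsgLib.Blocks.mem_blockOf_self χ)
  rw [Nat.card_eq_one_iff_exists]
  exact ⟨⟨_, hB0, hdz⟩, fun B => Subtype.ext (huniq B.1 B.2.1 B.2.2)⟩

end Cfsg.Agent.S4538
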