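import Cfsg.Statements.S2440
import Cfsg.Agent.SLDefect.FullBlocks
import Cfsg.Agent.Linear.Basic
import Cfsg.Agent.S4538

set_option autoImplicit false
open Cfsg

namespace Cfsg.Agent.S2440

/-- For a prime p and n ≥ 2, the group SL_n over the field with p elements has exactly gcd(n, p − 1) + 1 p-blocks relative to any maximal ideal of the algebraic integers containing p, that is, one more than the order of its centre (only this total is asserted; it arises as the defect-zero block of the Steinberg character plus as many blocks of maximal defect as the order of the centre). -/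
theorem result (p : ℕ) [Fact p.Prime] (n : ℕ) (hn : 2 ≤ n) (M : Ideal Cfsg.AlgInt) (hM : Cfsg.IsPModular p M) :
    Nat.card {B : Set (Cfsg.IrrCharacter (Matrix.SpecialLinearGroup (Fin n) (ZMod p))) // Cfsg.IsPBlock M B} =
      Nat.gcd n (p - 1) + 1 := by
  classical
  haveI := CfsgLib.Blocks.IsPModular.isPrime hM
  haveI : NeZero n := ⟨by omega⟩
  haveI : Nonempty (Fin n) := ⟨⟨0, by omega⟩⟩
  haveI := Fintype.ofFinite (Matrix.SpecialLinearGroup (Fin n) (ZMod p))
  have hp : p.Prime := Fact.out
  have hc : Nat.card (Subgroup.center (Matrix.SpecialLinearGroup (Fin n) (ZMod p))) =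
      Nat.gcd n (p - 1) := by
    rw [CfsgLib.Linear.card_center_SL, Fintype.card_fin, ZMod.card]
  have hdvd : p ∣ Nat.card (Matrix.SpecialLinearGroup (Fin n) (ZMod p)) := by
    have hne : (⟨0, by omega⟩ : Fin n) ≠ ⟨1, by omega⟩ := by simp [Fin.ext_iff]
    have ht : orderOf (Matrix.SpecialLinearGroup.transvection hne (1 : ZMod p)) = p := by
      have hpow : ∀ k : ℕ, (Matrix.SpecialLinearGroup.transvection hne (1 : ZMod p)) ^ k =
          Matrix.SpecialLinearGroup.transvection hne (k : ZMod p) := by
        intro k
        induction k with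
        | zero => simp [Matrix.SpecialLinearGroup.transvection_coeff_zero]
        | succ k ih =>
          rw [pow_succ, ih, Nat.cast_succ, Matrix.SpecialLinearGroup.transvection_add]
      refine orderOf_eq_prime ?_ fun h => ?_
      · rw [hpow, ZMod.natCast_self, Matrix.SpecialLinearGroup.transvection_coeff_zero]
      · have h1 := congrArg (fun g : Matrix.SpecialLinearGroup (Fin n) (ZMod p) =>
          g.1 ⟨0, by omega⟩ ⟨1, by omega⟩) h
        simp [Matrix.SpecialLinearGroup.transvection_coe, Fin.ext_iff] at h1
    exact ht.symm.dvd.trans (orderOf_dvd_natCard _)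
  have hZ : ¬ p ∣ Nat.card (Subgroup.center (Matrix.SpecialLinearGroup (Fin n) (ZMod p))) := by
    rw [hc]
    intro h
    have h1 := Nat.le_of_dvd (by have := hp.two_le; omega) (h.trans (Nat.gcd_dvd_right n (p - 1)))
    have := hp.two_le
    omega
  obtain ⟨hone, hdef⟩ := Cfsg.Agent.S4538.result (F := ZMod p) n hn p M hM
  rw [CfsgLib.SLDefect.card_blocks hM hdvd
    (fun g hg hi => CfsgLib.SLDefect.mem_center_of_index hdvd hg hi) hZ hdef hone, hc]

end Cfsg.Agent.S2440
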