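import Mathlib
import Cfsg.Statements.S2441
import Cfsg.Agent.ChevBlocks.Count
import Cfsg.Agent.ChevSteinberg.Data

set_option autoImplicit false
open Cfsg

namespace Cfsg.Agent.S2441

/-- For a prime p, the Chevalley groups of types G₂, F₄ and E₈ over the field with p elements (types for which the simply connected and adjoint groups coincide, so the group has trivial centre) each have exactly two p-blocks relative to any maximal ideal of the algebraic integers containing p (only the count is asserted; it arises as the defect-zero block of the Steinberg character plus a single block of maximal defect). -/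
theorem result (p : ℕ) [Fact p.Prime] (M : Ideal Cfsg.AlgInt) (hM : Cfsg.IsPModular p M) :
    Nat.card {B : Set (Cfsg.IrrCharacter (Cfsg.Lie.chevG2.group (ZMod p))) // Cfsg.IsPBlock M B} = 2 ∧
    Nat.card {B : Set (Cfsg.IrrCharacter (Cfsg.Lie.chevF4.group (ZMod p))) // Cfsg.IsPBlock M B} = 2 ∧
    Nat.card {B : Set (Cfsg.IrrCharacter (Cfsg.Lie.chevE8.group (ZMod p))) // Cfsg.IsPBlock M B} = 2 := by
  have key : ∀ D : Cfsg.Lie.ChevalleyDatum,
      D ∈ [Cfsg.Lie.chevG2, Cfsg.Lie.chevB2, Cfsg.Lie.chevD4, Cfsg.Lie.chevF4, Cfsg.Lie.chevE6,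
        Cfsg.Lie.chevE7, Cfsg.Lie.chevE8] → CfsgLib.ChevBlocks.Connected D → 0 < D.rank →
      Nat.card {B : Set (Cfsg.IrrCharacter (D.group (ZMod p))) // Cfsg.IsPBlock M B} = 2 := by
    intro D hD hc h0
    obtain ⟨C, M', R, h⟩ := CfsgLib.ChevSteinberg.exists_rootGood hD
    exact CfsgLib.ChevBlocks.card_blocks (F := ZMod p) (p := p)
      (CfsgLib.Chevalley.goodWeyl_of_mem hD) h hc h0 hM
  refine ⟨key _ (by simp) ⟨fun i => (i : ℕ), ?_⟩ (by decide +kernel),
    key _ (by simp) ⟨fun i => (i : ℕ), ?_⟩ (by decide +kernel),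
    key _ (by simp) ⟨fun i => [0, 3, 1, 2, 3, 4, 5, 6].getD (i : ℕ) 0, ?_⟩ (by decide +kernel)⟩ <;>
    decide +kernel

end Cfsg.Agent.S2441
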