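import Cfsg.Statements.S2444
import Cfsg.Agent.SLCommutator.Large
import Cfsg.Agent.SLCommutator.Scalar
import Cfsg.Agent.SLCommutator.Three
import Cfsg.Agent.SLCommutator.Two

set_option autoImplicit false
open Cfsg

namespace Cfsg.Agent.S2444


open Matrix CfsgLib.SLCommutator

/-- Transport along a field isomorphism. -/
theorem isComm_map {K F : Type*} [Field K] [Field F] (φ : K ≃+* F) {n : ℕ} {g : Matrix (Fin n) (Fin n) F}
    (h : IsComm (g.map φ.symm)) : IsComm g := by
  obtain ⟨a, b, hab⟩ := h
  refine ⟨SpecialLinearGroup.map φ.toRingHom a, SpecialLinearGroup.map φ.toRingHom b, ?_⟩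
  rw [← map_inv, ← map_inv, ← map_mul, ← map_mul, ← map_mul]
  show g = ((a * b * a⁻¹ * b⁻¹ : SpecialLinearGroup (Fin n) K) : Matrix (Fin n) (Fin n) K).map φ
  rw [← hab]
  ext i j
  simp

theorem isComm_all {F : Type*} [Field F] [Fintype F] {n : ℕ} (hn : 2 ≤ n) (hex : n = 2 → 4 ≤ Fintype.card F)
    (g : Matrix (Fin n) (Fin n) F) (hg : g.det = 1) : IsComm g := by
  by_cases hs : CfsgLib.SourourProduct.Scalar g
  · exact isComm_scalar g hg hs
  rcases Nat.lt_or_ge (Fintype.card F) 4 with h4 | h4
  · have hn3 : 3 ≤ n := by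
      by_contra h
      have := hex (by omega)
      omega
    have h1 : 1 < Fintype.card F := Fintype.one_lt_card
    rcases (show Fintype.card F = 2 ∨ Fintype.card F = 3 by omega) with h | h
    · let φ := ZMod.ringEquivOfPrime F Nat.prime_two h
      refine isComm_map φ (isComm_two hn3 _ ?_)
      rw [show g.map φ.symm = φ.symm.toRingHom.mapMatrix g from rfl, ← RingHom.map_det, hg, map_one]
    · let φ := ZMod.ringEquivOfPrime F Nat.prime_three h
      refine isComm_map φ (isComm_three hn3 _ ?_ ?_)
      · rw [show g.map φ.symm = φ.symm.toRingHom.mapMatrix g from rfl, ← RingHom.map_det, hg, map_one]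
      · rintro ⟨c, hc⟩
        refine hs ⟨φ c, ?_⟩
        ext i j
        have := congrArg φ (congrFun (congrFun hc i) j)
        simpa [Matrix.one_apply, apply_ite φ] using this
  · exact isComm_large (by rw [Cardinal.mk_fintype]; exact_mod_cast h4) hn g hg hs

/-- In the special linear group SL(n,F) over a finite field F, with n ≥ 2 and (n, |F|) not (2,2) or (2,3), every element is a commutator a·b·a⁻¹·b⁻¹ of two elements of SL(n,F). -/
theorem result {F : Type*} [Field F] [Fintype F] (n : ℕ) (hn : 2 ≤ n) (hex : n = 2 → 4 ≤ Fintype.card F) :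
    ∀ g : Matrix.SpecialLinearGroup (Fin n) F, ∃ a b : Matrix.SpecialLinearGroup (Fin n) F, g = a * b * a⁻¹ * b⁻¹ := by
  intro g
  obtain ⟨a, b, h⟩ := isComm_all hn hex (g : Matrix (Fin n) (Fin n) F) g.2
  exact ⟨a, b, Subtype.ext h⟩

end Cfsg.Agent.S2444
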