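import Cfsg.Statements.S2445
import Cfsg.Agent.OreSp.Main

set_option autoImplicit false
open Cfsg

namespace Cfsg.Agent.S2445

open Matrix CfsgLib.OreSp

/-- In the symplectic group Sp(2m,F) over a finite field F (m ≥ 1), other than Sp(2,2), Sp(2,3) and Sp(4,2), every element is a commutator a·b·a⁻¹·b⁻¹ of two elements of Sp(2m,F). -/
theorem result {F : Type*} [Field F] [Fintype F] (m : ℕ) (hm : 1 ≤ m) (h1 : m = 1 → 4 ≤ Fintype.card F)
    (h2 : m = 2 → 3 ≤ Fintype.card F) : ∀ g : Matrix.symplecticGroup (Fin m) F, ∃ a b : Matrix.symplecticGroup (Fin m) F, g = a * b * a⁻¹ * b⁻¹ := by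
  intro g
  set ω : LinearMap.BilinForm F (Fin m ⊕ Fin m → F) := Matrix.toBilin' (-J (Fin m) F) with hω
  have hval : ∀ x y, ω x y = x ⬝ᵥ (-J (Fin m) F) *ᵥ y := fun x y => Matrix.toBilin'_apply' _ x y
  have hinj : ∀ A : Matrix (Fin m ⊕ Fin m) (Fin m ⊕ Fin m) F,
      (∀ x y, ω (A *ᵥ x) (A *ᵥ y) = ω x y) ↔ A ∈ symplecticGroup (Fin m) F := by
    intro A
    rw [SymplecticGroup.mem_iff']
    have e : ∀ x y, ω (A *ᵥ x) (A *ᵥ y) = x ⬝ᵥ (Aᵀ * (-J (Fin m) F) * A) *ᵥ y := fun x y => by
      rw [hval, ← vecMul_transpose, ← dotProduct_mulVec, mulVec_mulVec, mulVec_mulVec, Matrix.mul_assoc]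
    constructor
    · intro h
      have key : Aᵀ * (-J (Fin m) F) * A = -J (Fin m) F := by
        refine Matrix.ext fun i k => ?_
        have h' := h (Pi.single i 1) (Pi.single k 1)
        rw [e, hval] at h'
        simpa [Matrix.mulVec_single_one, single_dotProduct] using h'
      rw [Matrix.mul_neg, Matrix.neg_mul] at key
      exact neg_inj.1 key
    · intro h x y
      rw [e, hval, Matrix.mul_neg, Matrix.neg_mul, h]
  have hs : Sym ω := by
    refine ⟨fun x => ?_, fun x hx => ?_⟩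
    · obtain ⟨a, b, rfl⟩ : ∃ a b : Fin m → F, x = Sum.elim a b :=
        ⟨fun i => x (.inl i), fun i => x (.inr i), by ext (i | i) <;> rfl⟩
      simp [hval, J, fromBlocks_neg, fromBlocks_mulVec, Matrix.neg_mulVec, sumElim_dotProduct_sumElim,
        dotProduct_comm b a]
    · have h : x ᵥ* (-J (Fin m) F) = 0 := funext fun k => by
        have h' := hx (Pi.single k 1)
        rw [hval, dotProduct_mulVec] at h'
        simpa using h'
      have h' := congrArg (fun v => v ᵥ* J (Fin m) F) h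
      simpa [vecMul_vecMul, J_squared] using h'
  have hg : Isom ω (Matrix.toLin' g.1) (Matrix.toLin' (g⁻¹ : symplecticGroup (Fin m) F).1) := by
    refine ⟨?_, ?_, fun x y => ?_⟩
    · rw [Module.End.mul_eq_comp, ← Matrix.toLin'_mul, ← Submonoid.coe_mul, mul_inv_cancel]
      exact Matrix.toLin'_one
    · rw [Module.End.mul_eq_comp, ← Matrix.toLin'_mul, ← Submonoid.coe_mul, inv_mul_cancel]
      exact Matrix.toLin'_one
    · simpa using (hinj g.1).2 g.2 x y
  have hfr : Module.finrank F (Fin m ⊕ Fin m → F) = 2 * m := by simp; omega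
  obtain ⟨a, b, a', b', ha, hb, ha', hb', haa, -, hbb, -, he⟩ :=
    commOn_top hs hg (fun e => h1 (by omega)) (fun e => h2 (by omega))
  have mk : ∀ u : Module.End F (Fin m ⊕ Fin m → F), IsLoc ω ⊤ u →
      LinearMap.toMatrix' u ∈ symplecticGroup (Fin m) F := fun u hu => by
    rw [← hinj]
    intro x y
    rw [LinearMap.toMatrix'_mulVec, LinearMap.toMatrix'_mulVec, hu.1]
  let A : symplecticGroup (Fin m) F := ⟨_, mk a ha⟩
  let B : symplecticGroup (Fin m) F := ⟨_, mk b hb⟩
  let A' : symplecticGroup (Fin m) F := ⟨_, mk a' ha'⟩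
  let B' : symplecticGroup (Fin m) F := ⟨_, mk b' hb'⟩
  have e1 : A⁻¹ = A' := inv_eq_of_mul_eq_one_right (Subtype.ext (by
    show LinearMap.toMatrix' a * LinearMap.toMatrix' a' = 1
    rw [← LinearMap.toMatrix'_comp, ← Module.End.mul_eq_comp, haa]
    exact LinearMap.toMatrix'_one))
  have e2 : B⁻¹ = B' := inv_eq_of_mul_eq_one_right (Subtype.ext (by
    show LinearMap.toMatrix' b * LinearMap.toMatrix' b' = 1
    rw [← LinearMap.toMatrix'_comp, ← Module.End.mul_eq_comp, hbb]
    exact LinearMap.toMatrix'_one))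
  refine ⟨A, B, ?_⟩
  rw [e1, e2]
  refine Subtype.ext ?_
  show g.1 = LinearMap.toMatrix' a * LinearMap.toMatrix' b * LinearMap.toMatrix' a' *
    LinearMap.toMatrix' b'
  rw [← LinearMap.toMatrix'_comp, ← LinearMap.toMatrix'_comp, ← LinearMap.toMatrix'_comp,
    ← LinearMap.toMatrix'_toLin' g.1]
  exact congrArg LinearMap.toMatrix' (LinearMap.ext fun x => he x trivial)

end Cfsg.Agent.S2445
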