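import Cfsg.Statements.S2450
import Cfsg.Agent.SL2Trace.Order

set_option autoImplicit false
open Cfsg

namespace Cfsg.Agent.S2450

open Matrix
open scoped MatrixGroups
open CfsgLib.SL2Trace (det_eq_one proj)

variable {F : Type*} [Field F]

theorem exists_conj_lower_ne (g : SL(2, F)) (hg : CfsgLib.SL2Trace.NonScalar (g : Matrix (Fin 2) (Fin 2) F)) :
    ∃ P : SL(2, F), ((P * g * P⁻¹ : SL(2, F)) : Matrix (Fin 2) (Fin 2) F) 1 0 ≠ 0 := by
  by_cases h1 : g 1 0 = 0
  · by_cases h2 : g 0 1 = 0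
    · refine ⟨CfsgLib.SL2Trace.mkSL !![1, 0; 1, 1] (by simp [Matrix.det_fin_two_of]), ?_⟩
      have h3 : g 0 0 ≠ g 1 1 := by
        rcases hg with h | h | h
        · exact absurd h2 h
        · exact absurd h1 h
        · exact h
      simp [CfsgLib.SL2Trace.coe_mkSL, Matrix.mul_apply, Matrix.adjugate_fin_two_of, Matrix.vecMul, dotProduct, Fin.sum_univ_two, h1, h2]
      intro h; apply h3; linear_combination h
    · refine ⟨CfsgLib.SL2Trace.mkSL !![0, -1; 1, 0] (by simp [Matrix.det_fin_two_of]), ?_⟩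
      simp [CfsgLib.SL2Trace.coe_mkSL, Matrix.mul_apply, Matrix.adjugate_fin_two_of, Matrix.vecMul, dotProduct, Fin.sum_univ_two]
      exact h2
  · exact ⟨1, by simpa using h1⟩

theorem trace_eq_or_neg {c0 g : SL(2, F)} (h : proj g ∈ {x | IsConj (proj c0) x}) :
    Matrix.trace (g : Matrix (Fin 2) (Fin 2) F) = Matrix.trace (c0 : Matrix (Fin 2) (Fin 2) F) ∨
    Matrix.trace (g : Matrix (Fin 2) (Fin 2) F) = -Matrix.trace (c0 : Matrix (Fin 2) (Fin 2) F) := by
  obtain ⟨u, hu⟩ := isConj_iff.1 h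
  obtain ⟨u0, rfl⟩ := CfsgLib.SL2Trace.proj_surjective u
  simp only [CfsgLib.SL2Trace.proj, ← QuotientGroup.mk_mul, ← QuotientGroup.mk_inv] at hu
  rw [QuotientGroup.eq] at hu
  have htr : Matrix.trace ((u0 * c0 * u0⁻¹ : SL(2, F)) : Matrix (Fin 2) (Fin 2) F) =
      Matrix.trace (c0 : Matrix (Fin 2) (Fin 2) F) := by
    rw [Matrix.SpecialLinearGroup.coe_mul, Matrix.trace_mul_comm, ← Matrix.SpecialLinearGroup.coe_mul,
      inv_mul_cancel_left]
  rcases (CfsgLib.SL2Trace.mem_center_iff_eq _).1 hu with h | h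
  · left; rw [← htr, inv_mul_eq_one.1 h]
  · right
    rw [inv_mul_eq_iff_eq_mul, mul_neg, mul_one] at h
    rw [← htr, h, ← Matrix.trace_neg]; congr 1

theorem finish [Fintype F] (h4 : 4 ≤ Fintype.card F) (A B : SL(2, F))
    (hA : (A : Matrix (Fin 2) (Fin 2) F) 1 0 ≠ 0) (hB : (B : Matrix (Fin 2) (Fin 2) F) 1 0 ≠ 0) (γ : F)
    (key : ∀ w : SL(2, F),
      Matrix.trace ((A * (w * B * w⁻¹) : SL(2, F)) : Matrix (Fin 2) (Fin 2) F) = γ ∨
      Matrix.trace ((A * (w * B * w⁻¹) : SL(2, F)) : Matrix (Fin 2) (Fin 2) F) = -γ) : False := by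
  classical
  let c2 : F := -(A 1 0 * B 1 0)
  let c1 : F := A 0 0 * B 1 0 + A 1 0 * (B 1 1 - B 0 0) - A 1 1 * B 1 0
  let c0 : F := A 0 0 * B 0 0 + A 0 1 * B 1 0 + A 1 0 * B 0 1 + A 1 1 * B 1 1
  let f : F → F := fun s => c2 * s ^ 2 + c1 * s + c0
  have hval : ∀ s : F, f s = γ ∨ f s = -γ := by
    intro s
    have h := key (CfsgLib.SL2Trace.mkSL !![1, s; 0, 1] (by simp [Matrix.det_fin_two_of]))
    have he : Matrix.trace ((A * (CfsgLib.SL2Trace.mkSL !![1, s; 0, 1] (by simp [Matrix.det_fin_two_of]) * B *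
        (CfsgLib.SL2Trace.mkSL !![1, s; 0, 1] (by simp [Matrix.det_fin_two_of]))⁻¹) : SL(2, F)) :
          Matrix (Fin 2) (Fin 2) F) = f s := by
      simp [CfsgLib.SL2Trace.coe_mkSL, Matrix.mul_apply, Matrix.adjugate_fin_two_of, Matrix.trace_fin_two, Matrix.vecMul, dotProduct, Fin.sum_univ_two, f, c2, c1, c0]
      ring
    rwa [he] at h
  have hfib : ∀ y : F, (Finset.univ.filter fun s => f s = y).card ≤ 2 := by
    intro y
    let P : Polynomial F := Polynomial.C c2 * Polynomial.X ^ 2 + Polynomial.C c1 * Polynomial.X +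
      Polynomial.C (c0 - y)
    have hdeg : P.natDegree = 2 :=
      Polynomial.natDegree_quadratic (neg_ne_zero.2 (mul_ne_zero hA hB))
    have hP : P ≠ 0 := fun h => by simp [h] at hdeg
    calc (Finset.univ.filter fun s => f s = y).card ≤ P.roots.toFinset.card := by
          apply Finset.card_le_card
          intro s hs
          rw [Finset.mem_filter] at hs
          rw [Multiset.mem_toFinset, Polynomial.mem_roots hP]
          have := hs.2
          simp [P, f] at this ⊢
          linear_combination this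
      _ ≤ P.natDegree := (Multiset.toFinset_card_le _).trans P.card_roots'
      _ = 2 := hdeg
  have hcover : Finset.univ ⊆ (Finset.univ.filter fun s => f s = γ) ∪ (Finset.univ.filter fun s => f s = -γ) := by
    intro s _
    rcases hval s with h | h <;> simp [h]
  have hle := (Finset.card_le_card hcover).trans (Finset.card_union_le _ _)
  rw [Finset.card_univ] at hle
  have a := hfib γ
  have b := hfib (-γ)
  have hq : Fintype.card F = 4 := by omega
  have hsame : γ = -γ := by
    have h0 : ((4 : ℕ) : F) = 0 := hq ▸ Nat.cast_card_eq_zero F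
    have h2 : (2 : F) = 0 := by
      have : (2 : F) * 2 = 0 := by norm_num at h0 ⊢; exact h0
      exact mul_self_eq_zero.1 this
    linear_combination γ * h2
  have hcover' : Finset.univ ⊆ (Finset.univ.filter fun s => f s = γ) := by
    intro s _
    rcases hval s with h | h
    · simp [h]
    · simp [h, ← hsame]
  have := Finset.card_le_card hcover'
  rw [Finset.card_univ] at this
  omega

/-- The Arad–Herzog conjecture for PSL(2,q): let F be a finite field with q ≥ 4 elements. For any two non-identity elements a, b of PSL(2,F), the set of products of a conjugate of a with a conjugate of b is not a single conjugacy class. -/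
theorem result {F : Type*} [Field F] [Fintype F] (h4 : 4 ≤ Fintype.card F)
    (a b : Matrix.ProjectiveSpecialLinearGroup (Fin 2) F) (ha : a ≠ 1) (hb : b ≠ 1) (c : Matrix.ProjectiveSpecialLinearGroup (Fin 2) F) :
    {g : Matrix.ProjectiveSpecialLinearGroup (Fin 2) F | ∃ u v : Matrix.ProjectiveSpecialLinearGroup (Fin 2) F, g = (u * a * u⁻¹) * (v * b * v⁻¹)} ≠ {g | IsConj c g} := by
  intro hset
  obtain ⟨a0, rfl⟩ := CfsgLib.SL2Trace.proj_surjective a
  obtain ⟨b0, rfl⟩ := CfsgLib.SL2Trace.proj_surjective b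
  obtain ⟨c0, rfl⟩ := CfsgLib.SL2Trace.proj_surjective c
  obtain ⟨P, hP⟩ := exists_conj_lower_ne a0 (CfsgLib.SL2Trace.nonScalar_of_proj_ne_one ha)
  obtain ⟨Q, hQ⟩ := exists_conj_lower_ne b0 (CfsgLib.SL2Trace.nonScalar_of_proj_ne_one hb)
  set A := P * a0 * P⁻¹ with hA
  set B := Q * b0 * Q⁻¹ with hB
  set γ := Matrix.trace (c0 : Matrix (Fin 2) (Fin 2) F) with hγ
  have key : ∀ w : Matrix.SpecialLinearGroup (Fin 2) F,
      Matrix.trace ((A * (w * B * w⁻¹) : Matrix.SpecialLinearGroup (Fin 2) F) : Matrix (Fin 2) (Fin 2) F) = γ ∨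
      Matrix.trace ((A * (w * B * w⁻¹) : Matrix.SpecialLinearGroup (Fin 2) F) : Matrix (Fin 2) (Fin 2) F) = -γ := by
    intro w
    have hmem : CfsgLib.SL2Trace.proj (A * (w * B * w⁻¹)) ∈
        {g | IsConj (CfsgLib.SL2Trace.proj c0) g} := by
      rw [← hset]
      refine ⟨CfsgLib.SL2Trace.proj P, CfsgLib.SL2Trace.proj (w * Q), ?_⟩
      simp only [CfsgLib.SL2Trace.proj, ← QuotientGroup.mk_mul, ← QuotientGroup.mk_inv]
      congr 1
      rw [hA, hB]; group
    exact trace_eq_or_neg hmem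
  exact finish h4 A B hP hQ γ key

end Cfsg.Agent.S2450
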