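import Cfsg.Statements.S2456
import Cfsg.Agent.SL2Trace.Order

set_option autoImplicit false
open Cfsg

namespace Cfsg.Agent.S2456

/-- A strong covering result in the direction of Thompson's conjecture (non-identity elements) for PSL(2,q), q even: let F be a finite field of characteristic 2 with q ≥ 4 elements and let x ∈ PSL(2,F) have order greater than 2 and not dividing q + 1. Then every non-identity element of PSL(2,F) is a product of two conjugates of x. -/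
theorem result {F : Type*} [Field F] [Fintype F] [CharP F 2] (h4 : 4 ≤ Fintype.card F)
    (x : Matrix.ProjectiveSpecialLinearGroup (Fin 2) F) (hx2 : 2 < orderOf x) (hxq : ¬ orderOf x ∣ Fintype.card F + 1) : ∀ g : Matrix.ProjectiveSpecialLinearGroup (Fin 2) F, g ≠ 1 → ∃ u v : Matrix.ProjectiveSpecialLinearGroup (Fin 2) F, g = (u * x * u⁻¹) * (v * x * v⁻¹) := by
  intro g hg
  obtain ⟨x0, rfl⟩ := CfsgLib.SL2Trace.proj_surjective x
  obtain ⟨g0, rfl⟩ := CfsgLib.SL2Trace.proj_surjective g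
  set t := Matrix.trace (x0 : Matrix (Fin 2) (Fin 2) F) with ht
  set τ := Matrix.trace (g0 : Matrix (Fin 2) (Fin 2) F) with hτ
  have ht4 : t ^ 2 ≠ 4 := by
    intro h
    have := Nat.le_of_dvd two_pos (orderOf_dvd_of_pow_eq_one (CfsgLib.SL2Trace.proj_pow_char_eq_one 2 x0 h))
    omega
  have ht0 : t ≠ 0 := by
    intro h
    have := Nat.le_of_dvd two_pos (orderOf_dvd_of_pow_eq_one (CfsgLib.SL2Trace.proj_sq_eq_one_of_trace_zero x0 h))
    omega
  obtain ⟨s, hs, hcase⟩ : ∃ s : F, (s = t ∨ s = -t) ∧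
      (τ ^ 2 ≠ 4 ∨ (∃ ε : F, ε ^ 2 = 1 ∧ τ = 2 * ε ∧ s ≠ ε * t) ∨ (∃ l : F, l ^ 2 - t * l + 1 = 0)) := by
    refine ⟨t, Or.inl rfl, Or.inr (Or.inr ?_)⟩
    by_contra hno
    push Not at hno
    apply hxq
    apply orderOf_dvd_of_pow_eq_one
    rw [CfsgLib.SL2Trace.proj, ← QuotientGroup.mk_pow, CfsgLib.SL2Trace.pow_card_add_one x0 t rfl hno]
    exact QuotientGroup.mk_one _
  obtain ⟨X, hX1, hX2⟩ :=
    CfsgLib.SL2Trace.exists_pair g0 (CfsgLib.SL2Trace.nonScalar_of_proj_ne_one hg) τ t s rfl hcase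
  obtain ⟨u, hu⟩ := isConj_iff.1 (CfsgLib.SL2Trace.isConj_proj_of_trace X x0 ht4 (Or.inl hX1)).symm
  obtain ⟨v, hv⟩ := isConj_iff.1 (CfsgLib.SL2Trace.isConj_proj_of_trace (X⁻¹ * g0) x0 ht4
    (by rcases hs with rfl | rfl <;> [exact Or.inl hX2; exact Or.inr hX2])).symm
  refine ⟨u, v, ?_⟩
  rw [hu, hv, CfsgLib.SL2Trace.proj, CfsgLib.SL2Trace.proj, CfsgLib.SL2Trace.proj, ← QuotientGroup.mk_mul, mul_inv_cancel_left]

end Cfsg.Agent.S2456
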