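import Cfsg.Statements.S2458
import Cfsg.Agent.ReeCover.Singer

set_option autoImplicit false
open Cfsg

namespace Cfsg.Agent.S2458

/-- A strong covering result in the direction of Thompson's conjecture (non-identity elements) for the small Ree groups: let q = 3^(2m+1) ≥ 27, K the field with q elements and ²G₂(q) the Ree group over K. For every element x of ²G₂(q) of order greater than 2 and not divisible by 3, every non-identity element of ²G₂(q) is a product of two conjugates of x. -/
theorem result {K : Type*} [Field K] [Fintype K] (m : ℕ) (hm : 1 ≤ m) (hK : Fintype.card K = 3 ^ (2 * m + 1))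
    (x : Cfsg.Lie.twistedG2 K (3 ^ m)) (hx2 : 2 < orderOf x) (hx3 : ¬ 3 ∣ orderOf x) : ∀ g : Cfsg.Lie.twistedG2 K (3 ^ m), g ≠ 1 → ∃ u v : Cfsg.Lie.twistedG2 K (3 ^ m), g = (u * x * u⁻¹) * (v * x * v⁻¹) := by
  have hK' : Nat.card K = 3 ^ (2 * m + 1) := by rw [Nat.card_eq_fintype_card]; exact hK
  haveI : CharP K 3 := CfsgLib.ReeG2.charP_of_card hK'
  letI : Fintype ↥(Cfsg.Lie.twistedG2 K (3 ^ m)) := Fintype.ofFinite _
  intro g hg
  have hxx : x * x ≠ 1 := fun e => by
    have h := Nat.le_of_dvd (show 0 < 2 by norm_num) (orderOf_dvd_of_pow_eq_one (show x ^ 2 = 1 by rw [pow_two]; exact e))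
    omega
  obtain ⟨-, h | h | ⟨hT, hd, hn⟩⟩ := CfsgLib.ReeCover.centralizer_cases hK' hm hxx hx3
  · exact CfsgLib.ReeCover.cover_even hK' hm hxx hx3 (Or.inl h) hg
  · exact CfsgLib.ReeCover.cover_even hK' hm hxx hx3 (Or.inr h) hg
  · exact CfsgLib.ReeCover.cover_singer hK' hm (fun e => hxx (by rw [e, one_mul])) hT hd hn hg

end Cfsg.Agent.S2458
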