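import Cfsg.Statements.S2459
import Cfsg.Agent.SL3Cover.Factor
import Cfsg.Agent.SL3Cover.Three

set_option autoImplicit false
open Cfsg

namespace Cfsg.Agent.S2459

open Matrix
open scoped MatrixGroups

theorem big {F : Type*} [Field F] [Fintype F] (p : ℕ) [Fact p.Prime] [CharP F p] (h4 : 4 ≤ Fintype.card F) :
    ∃ d : SL(3, F), ¬ p ∣ orderOf d ∧
      ∀ g : SL(3, F), (∀ r : F, (g : Matrix (Fin 3) (Fin 3) F) ≠ r • 1) →
        ∃ u v : SL(3, F), g = (u * d * u⁻¹) * (v * d * v⁻¹) := by
  classical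
  obtain ⟨b, hb⟩ : ∃ b : F, b ∉ ({0, 1, -1} : Finset F) := by
    by_contra h
    push Not at h
    have h1 := Finset.card_le_card (fun x (_ : x ∈ Finset.univ) => h x)
    have h2 : ({0, 1, -1} : Finset F).card ≤ 3 := Finset.card_le_three
    rw [Finset.card_univ] at h1
    omega
  simp only [Finset.mem_insert, Finset.mem_singleton, not_or] at hb
  obtain ⟨hb0, hb1, hbm⟩ := hb
  refine ⟨CfsgLib.SL3Cover.diagOne b hb0, ?_,
    CfsgLib.SL3Cover.exists_factor b hb0 hb1 (fun e => (sq_eq_one_iff.1 e).elim hb1 hbm)⟩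
  intro hdvd
  have hpow : CfsgLib.SL3Cover.diagOne b hb0 ^ (Fintype.card F - 1) = 1 := by
    apply Subtype.ext
    rw [Matrix.SpecialLinearGroup.coe_pow, Matrix.SpecialLinearGroup.coe_one]
    show (!![1, 0, 0; 0, b, 0; 0, 0, b⁻¹] : Matrix (Fin 3) (Fin 3) F) ^ _ = 1
    have e : (!![1, 0, 0; 0, b, 0; 0, 0, b⁻¹] : Matrix (Fin 3) (Fin 3) F) = Matrix.diagonal ![1, b, b⁻¹] := by
      ext i j; fin_cases i <;> fin_cases j <;> simp
    rw [e, Matrix.diagonal_pow, ← Matrix.diagonal_one]
    congr 1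
    funext i
    fin_cases i <;> simp [FiniteField.pow_card_sub_one_eq_one b hb0]
  have h1 : p ∣ Fintype.card F - 1 := hdvd.trans (orderOf_dvd_of_pow_eq_one hpow)
  have h2 : p ∣ Fintype.card F := (CharP.cast_eq_zero_iff F p _).1 (Nat.cast_card_eq_zero F)
  have h3 : p ∣ 1 := by
    have := Nat.dvd_sub h2 h1
    rwa [show Fintype.card F - (Fintype.card F - 1) = 1 by omega] at this
  exact (Fact.out : p.Prime).one_lt.ne' (Nat.dvd_one.1 h3)

theorem xThree_pow : CfsgLib.SL3Cover.xThree ^ 4 = 1 := by decide +kernel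

theorem three {F : Type*} [Field F] [Fintype F] (p : ℕ) [Fact p.Prime] [CharP F p] (h3 : Fintype.card F = 3) :
    ∃ d : SL(3, F), ¬ p ∣ orderOf d ∧
      ∀ g : SL(3, F), (∀ r : F, (g : Matrix (Fin 3) (Fin 3) F) ≠ r • 1) →
        ∃ u v : SL(3, F), g = (u * d * u⁻¹) * (v * d * v⁻¹) := by
  obtain rfl : p = 3 := by
    have : p ∣ 3 := (CharP.cast_eq_zero_iff F p _).1 (h3 ▸ Nat.cast_card_eq_zero F)
    exact (Nat.prime_dvd_prime_iff_eq Fact.out Nat.prime_three).1 this
  let f : ZMod 3 →+* F := ZMod.castHom dvd_rfl F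
  have hf : Function.Bijective f := by
    rw [Fintype.bijective_iff_injective_and_card]
    exact ⟨f.injective, by rw [ZMod.card, h3]⟩
  have hord : orderOf CfsgLib.SL3Cover.xThreeSL ∣ 4 := by
    apply orderOf_dvd_of_pow_eq_one
    apply Subtype.ext
    rw [Matrix.SpecialLinearGroup.coe_pow, Matrix.SpecialLinearGroup.coe_one]
    exact xThree_pow
  refine ⟨Matrix.SpecialLinearGroup.map f CfsgLib.SL3Cover.xThreeSL, ?_, ?_⟩
  · intro h
    have := (h.trans (orderOf_map_dvd _ _)).trans hord
    norm_num at this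
  · intro g hg
    choose e he using hf.2
    have hfe : ∀ i j, f (e (g i j)) = g i j := fun i j => he _
    have hdet : (Matrix.of fun i j => e (g i j)).det = 1 := by
      apply hf.1
      rw [RingHom.map_det, map_one]
      conv_rhs => rw [← g.prop]
      congr 1
      ext i j
      exact he _
    let g' : SL(3, ZMod 3) := ⟨Matrix.of fun i j => e (g i j), hdet⟩
    have hg' : Matrix.SpecialLinearGroup.map f g' = g := Matrix.SpecialLinearGroup.ext _ _ hfe
    obtain ⟨u, v, huv⟩ := CfsgLib.SL3Cover.exists_factor_three g' (by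
      intro r hr
      apply hg (f r)
      ext i j
      have h1 := congrArg (fun A : Matrix (Fin 3) (Fin 3) (ZMod 3) => f (A i j)) hr
      have h2 : f (g' i j) = g i j := hfe i j
      simp only [h2] at h1
      rw [h1]
      by_cases hij : i = j <;> simp [hij, Matrix.one_apply])
    refine ⟨Matrix.SpecialLinearGroup.map f u, Matrix.SpecialLinearGroup.map f v, ?_⟩
    rw [← hg', huv]
    simp only [map_mul, map_inv]

/-- A form of Thompson's conjecture for PSL(3,q), q > 2 (covering the non-identity elements), with a semisimple class: for F a finite field of characteristic p with more than 2 elements there is an element x of PSL(3,F) of order prime to p such that every non-identity element of PSL(3,F) is a product of two conjugates of x. -/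
theorem result {F : Type*} [Field F] [Fintype F] (p : ℕ) [Fact p.Prime] [CharP F p] (h3 : 3 ≤ Fintype.card F) :
    ∃ x : Matrix.ProjectiveSpecialLinearGroup (Fin 3) F, ¬ p ∣ orderOf x ∧ ∀ g : Matrix.ProjectiveSpecialLinearGroup (Fin 3) F, g ≠ 1 → ∃ u v : Matrix.ProjectiveSpecialLinearGroup (Fin 3) F, g = (u * x * u⁻¹) * (v * x * v⁻¹) := by
  classical
  suffices h : ∃ d : Matrix.SpecialLinearGroup (Fin 3) F, ¬ p ∣ orderOf d ∧
      ∀ g : Matrix.SpecialLinearGroup (Fin 3) F, (∀ r : F, (g : Matrix (Fin 3) (Fin 3) F) ≠ r • 1) →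
        ∃ u v : Matrix.SpecialLinearGroup (Fin 3) F, g = (u * d * u⁻¹) * (v * d * v⁻¹) by
    obtain ⟨d, hd, hcov⟩ := h
    refine ⟨QuotientGroup.mk d, fun hdvd => hd (hdvd.trans
      (orderOf_map_dvd (QuotientGroup.mk' (Subgroup.center _)) d)), ?_⟩
    intro g hg
    obtain ⟨g0, rfl⟩ := QuotientGroup.mk_surjective g
    obtain ⟨u, v, huv⟩ := hcov g0 (by
      intro r hr
      apply hg
      rw [QuotientGroup.eq_one_iff, Matrix.SpecialLinearGroup.mem_center_iff]
      refine ⟨r, ?_, ?_⟩
      · have := congrArg Matrix.det hr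
        rw [g0.prop, Matrix.det_smul, Matrix.det_one, mul_one] at this
        exact this.symm
      · rw [hr, Matrix.smul_one_eq_diagonal, Matrix.scalar_apply])
    exact ⟨QuotientGroup.mk u, QuotientGroup.mk v, by
      rw [huv]; simp only [QuotientGroup.mk_mul, QuotientGroup.mk_inv]⟩
  by_cases hq : Fintype.card F = 3
  · exact three p hq
  · exact big p (by omega)

end Cfsg.Agent.S2459
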