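import Cfsg.Statements.S2460
import Cfsg.Agent.PSpFourCover.Cover

set_option autoImplicit false
open Cfsg

namespace Cfsg.Agent.S2460

/-- A form of Thompson's conjecture for the simple groups PSp(4,q), q ≥ 3 (covering the non-identity elements), with a semisimple class: for F a finite field of characteristic p with at least 3 elements there is an element x of PSp(4,F) of order prime to p such that every non-identity element of PSp(4,F) is a product of two conjugates of x. -/
theorem result {F : Type*} [Field F] [Fintype F] (p : ℕ) [Fact p.Prime] [CharP F p] (h3 : 3 ≤ Fintype.card F) :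
    ∃ x : Cfsg.PSp 2 F, ¬ p ∣ orderOf x ∧ ∀ g : Cfsg.PSp 2 F, g ≠ 1 → ∃ u v : Cfsg.PSp 2 F, g = (u * x * u⁻¹) * (v * x * v⁻¹) := by
  obtain ⟨a, d, hp⟩ := CfsgLib.PSpFourCover.exists_params h3
  refine ⟨QuotientGroup.mk (CfsgLib.PSpFourCover.dg hp.unit), fun hdvd => ?_, fun g hg => ?_⟩
  · have h1 : (QuotientGroup.mk (CfsgLib.PSpFourCover.dg hp.unit) : Cfsg.PSp 2 F) ^ (Fintype.card F ^ 2 - 1) = 1 := by
      rw [← QuotientGroup.mk_pow, hp.dg_pow, QuotientGroup.mk_one]
    have h2 : p ∣ Fintype.card F ^ 2 - 1 := hdvd.trans (orderOf_dvd_of_pow_eq_one h1)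
    obtain ⟨n, -, hcard⟩ := FiniteField.card F p
    have h4 : p ∣ Fintype.card F ^ 2 := dvd_pow (hcard ▸ dvd_pow_self p n.ne_zero) two_ne_zero
    have h5 : 1 ≤ Fintype.card F ^ 2 := Nat.one_le_pow _ _ Fintype.card_pos
    have h6 := Nat.dvd_sub h4 h2
    rw [Nat.sub_sub_self h5] at h6
    exact (Fact.out : p.Prime).not_dvd_one h6
  · obtain ⟨w, rfl⟩ := QuotientGroup.mk_surjective g
    obtain ⟨u, v, h⟩ := hp.cover (by rwa [Nat.card_eq_fintype_card]) (g := w)
      (fun hc => hg ((QuotientGroup.eq_one_iff w).2 hc))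
    exact ⟨QuotientGroup.mk u, QuotientGroup.mk v, by
      rw [h]; simp only [QuotientGroup.mk_mul, QuotientGroup.mk_inv]⟩

end Cfsg.Agent.S2460
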