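import Cfsg.Statements.S2463
import Cfsg.Agent.ReeF4Square.Eight
import Cfsg.Agent.ReeF4Square.TitsCase

set_option autoImplicit false
set_option linter.style.haveILetI false
open Cfsg

namespace Cfsg.Agent.S2463

/-- A form of Thompson's conjecture for the simple groups of type ²F₄ (covering the non-identity elements) with a semisimple class: if M is a large Ree group ²F₄(2^(2m+1)) with m ≥ 1, or the Tits group, then there is an element x of M of odd order such that every non-identity element of M is a product of two conjugates of x. -/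
theorem result {M : Type*} [Group M] [Finite M] (hM : Cfsg.Lie.Iso2F4 M ∨ Cfsg.Lie.IsoTits M) :
    ∃ x : M, Odd (orderOf x) ∧ ∀ g : M, g ≠ 1 → ∃ u v : M, g = (u * x * u⁻¹) * (v * x * v⁻¹) := by
  suffices h : ∀ {H : Type} [Group H] (_ : M ≃* H) (x : H), Odd (orderOf x) →
      (∀ g : H, g ≠ 1 → ∃ u v : H, g = (u * x * u⁻¹) * (v * x * v⁻¹)) →
      ∃ x : M, Odd (orderOf x) ∧ ∀ g : M, g ≠ 1 → ∃ u v : M, g = (u * x * u⁻¹) * (v * x * v⁻¹) by
    rcases hM with ⟨K, _, _, m, hm, hK, ⟨e⟩⟩ | hT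
    · haveI := CfsgLib.ReeF4.charP_of_card hK
      let T := CfsgLib.ReeF4.mkTw hK
      have key : ∃ x ∈ T.fix, Odd (orderOf x) ∧ ∀ g ∈ T.fix, g ≠ 1 →
          ∃ u ∈ T.fix, ∃ v ∈ T.fix, g = (u * x * u⁻¹) * (v * x * v⁻¹) := by
        have hq : Nat.card K = 2 ^ (2 * m + 1) := by rw [Nat.card_eq_fintype_card, hK]
        rcases Nat.lt_or_ge m 2 with h1 | h2
        · obtain rfl : m = 1 := by omega
          exact T.covers_eight (by simpa using hq) fun x => by
            rw [T.θ_def]; rfl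
        · refine T.covers_large ?_
          rw [hq]
          exact le_trans (by norm_num : 32 ≤ 2 ^ 5) (Nat.pow_le_pow_right (by norm_num) (by omega))
      obtain ⟨x, hx, hodd, hcov⟩ := key
      have hfix := T.G1_eq_fix
      rw [← hfix] at hx hcov
      refine h (H := ↥T.G1) e ⟨x, hx⟩ ?_ fun g hg => ?_
      · rwa [← Subgroup.orderOf_coe]
      · obtain ⟨u, hu, v, hv, hg'⟩ := hcov g g.2 fun h => hg (Subtype.ext h)
        exact ⟨⟨u, hu⟩, ⟨v, hv⟩, Subtype.ext hg'⟩
    · haveI : Fact (Nat.card (ZMod 2) = 2) := ⟨Nat.card_zmod 2⟩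
      have hS : Lie.twistedF4 (ZMod 2) (2 ^ 0) = (CfsgLib.ReeF4.t₂ (ZMod 2)).G1 := by
        unfold CfsgLib.ReeF4.Tw.G1 CfsgLib.ReeF4.t₂
        rfl
      rw [pow_zero] at hS
      have key : ∀ S, S = (CfsgLib.ReeF4.t₂ (ZMod 2)).G1 →
          ∃ x : ↥(commutator ↥S), Odd (orderOf x) ∧ ∀ g : ↥(commutator ↥S), g ≠ 1 →
            ∃ u v : ↥(commutator ↥S), g = (u * x * u⁻¹) * (v * x * v⁻¹) := by
        rintro S rfl
        exact CfsgLib.ReeF4.Sq2.covers_tits
      obtain ⟨e⟩ := hT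
      obtain ⟨x, hodd, hcov⟩ := key _ hS
      exact @h _ (Subgroup.toGroup _) e x hodd hcov
  intro H _ e x hodd hcov
  refine ⟨e.symm x, by rwa [MulEquiv.orderOf_eq], fun g hg => ?_⟩
  obtain ⟨u, v, huv⟩ := hcov (e g) fun h => hg (e.injective (by rw [h, map_one]))
  exact ⟨e.symm u, e.symm v, e.injective (by simp [huv])⟩

end Cfsg.Agent.S2463
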