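import Cfsg.Statements.S2466
import Cfsg.Agent.AltOrders.Basic

set_option autoImplicit false
open Cfsg

namespace Cfsg.Agent.S2466

section aux

theorem coprime_lcm (c : Multiset ℕ) (t : ℕ) (ht : t.Prime) (h : ∀ a ∈ c, ¬ t ∣ a) : Nat.Coprime t c.lcm := by
  induction c using Multiset.induction with
  | empty => simp
  | cons a c ih =>
    rw [Multiset.lcm_cons]
    refine Nat.Coprime.coprime_dvd_right (Nat.lcm_dvd_mul a c.lcm) ?_
    exact Nat.Coprime.mul_right (ht.coprime_iff_not_dvd.2 (h a (Multiset.mem_cons_self a c)))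
      (ih fun b hb => h b (Multiset.mem_cons_of_mem hb))

end aux

/-- Adjacency of odd primes in the prime graph of the alternating groups: let r ≠ s be odd primes at most n. The alternating group of degree n has an element of order r·s if and only if r + s ≤ n. -/
theorem result (n r s : ℕ) (hr : r.Prime) (hs : s.Prime) (hr2 : r ≠ 2) (hs2 : s ≠ 2) (hrs : r ≠ s) (hrn : r ≤ n) (hsn : s ≤ n) :
    (r * s ∈ Set.range (orderOf : alternatingGroup (Fin n) → ℕ)) ↔ r + s ≤ n := by
  rw [CfsgLib.AltOrders.mem_range_orderOf_iff]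
  constructor
  · rintro ⟨c, hsum, h2, -, hl⟩
    have hdiv : ∀ a ∈ c, a ∣ r * s := fun a ha => hl ▸ Multiset.dvd_lcm ha
    have hex : ∀ t : ℕ, t.Prime → t ∣ r * s → ∃ a ∈ c, t ∣ a := by
      intro t ht htl
      by_contra h
      push Not at h
      exact (ht.coprime_iff_not_dvd.1 (coprime_lcm c t ht h)) (hl ▸ htl)
    obtain ⟨a, ha, hra⟩ := hex r hr (dvd_mul_right r s)
    obtain ⟨b, hb, hsb⟩ := hex s hs (dvd_mul_left s r)
    have ha2 := h2 a ha
    have hb2 := h2 b hb
    by_cases hab : a = b
    · subst hab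
      have h1 : r * s ∣ a := ((Nat.coprime_primes hr hs).2 hrs).mul_dvd_of_dvd_of_dvd hra hsb
      have := Nat.le_of_dvd (by omega) h1
      have := Multiset.le_sum_of_mem ha
      have hr3 := hr.two_le
      have hs3 := hs.two_le
      nlinarith
    · obtain ⟨d, rfl⟩ := Multiset.exists_cons_of_mem ha
      have hbd : b ∈ d := (Multiset.mem_cons.1 hb).resolve_left (Ne.symm hab)
      have := Multiset.le_sum_of_mem hbd
      have := Nat.le_of_dvd (by omega) hra
      have := Nat.le_of_dvd (by omega) hsb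
      rw [Multiset.sum_cons] at hsum
      omega
  · intro h
    refine ⟨{r, s}, by simpa using h, by simp [hr.two_le, hs.two_le], ?_, ?_⟩
    · simp [Nat.even_add, hr.even_iff, hs.even_iff, hr2, hs2, parity_simps]
    · simp [lcm_eq_nat_lcm, Nat.Coprime.lcm_eq_mul ((Nat.coprime_primes hr hs).2 hrs)]

end Cfsg.Agent.S2466
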