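import Cfsg.Statements.S2467
import Cfsg.Agent.AltOrders.Basic

set_option autoImplicit false
open Cfsg

namespace Cfsg.Agent.S2467

section aux

theorem eq_two_or_decompose (r : ℕ) (c : Multiset ℕ) (hval : ∀ a ∈ c, a = 2 ∨ a = r ∨ a = 2 * r) :
    ∃ i j k, c = Multiset.replicate i 2 + Multiset.replicate j r + Multiset.replicate k (2 * r) := by
  induction c using Multiset.induction with
  | empty => exact ⟨0, 0, 0, by simp⟩
  | cons a c ih =>
    obtain ⟨i, j, k, rfl⟩ := ih fun b hb => hval b (Multiset.mem_cons_of_mem hb)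
    rcases hval a (Multiset.mem_cons_self _ _) with rfl | rfl | rfl
    · exact ⟨i + 1, j, k, by simp [Multiset.replicate_succ]⟩
    · exact ⟨i, j + 1, k, by simp [Multiset.replicate_succ]⟩
    · exact ⟨i, j, k + 1, by simp [Multiset.replicate_succ]⟩

theorem bound (r : ℕ) (hr3 : 3 ≤ r) (hodd : Odd r) (n : ℕ) (c : Multiset ℕ) (hsum : c.sum ≤ n)
    (hval : ∀ a ∈ c, a = 2 ∨ a = r ∨ a = 2 * r) (heven : Even (c.sum + Multiset.card c))
    (hnot2 : ¬ ∀ a ∈ c, a = 2) (hnotr : ¬ ∀ a ∈ c, a = r) : r + 4 ≤ n := by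
  obtain ⟨i, j, k, rfl⟩ := eq_two_or_decompose r c hval
  simp [Multiset.sum_replicate] at hsum heven
  have hjk : 1 ≤ j + k := by
    by_contra h
    apply hnot2
    intro a ha
    simp [show j = 0 by omega, show k = 0 by omega] at ha
    exact (Multiset.mem_replicate.1 ha).2
  have hik : 1 ≤ i + k := by
    by_contra h
    apply hnotr
    intro a ha
    simp [show i = 0 by omega, show k = 0 by omega] at ha
    exact (Multiset.mem_replicate.1 ha).2
  have hik2 : 2 ≤ i + k := by
    simp [parity_simps, hodd] at heven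
    rcases Nat.lt_or_ge (i + k) 2 with h | h
    · have hcases : (i = 1 ∧ k = 0) ∨ (i = 0 ∧ k = 1) := by omega
      rcases hcases with ⟨rfl, rfl⟩ | ⟨rfl, rfl⟩ <;> simp [Nat.even_iff, Nat.odd_iff] at heven <;> rw [Nat.odd_iff] at hodd <;> omega
    · exact h
  rcases Nat.eq_zero_or_pos k with rfl | hk
  · have hi : 2 ≤ i := by omega
    have hj : 1 ≤ j := by omega
    nlinarith
  · rcases Nat.lt_or_ge k 2 with h | h
    · obtain rfl : k = 1 := by omega
      have hi : 1 ≤ i := by omega
      nlinarith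
    · nlinarith

end aux

/-- Adjacency of 2 and an odd prime in the prime graph of the alternating groups: let r be an odd prime at most n, with n ≥ 4. The alternating group of degree n has an element of order 2r if and only if r + 4 ≤ n. -/
theorem result (n r : ℕ) (hn : 4 ≤ n) (hr : r.Prime) (hr2 : r ≠ 2) (hrn : r ≤ n) :
    (2 * r ∈ Set.range (orderOf : alternatingGroup (Fin n) → ℕ)) ↔ r + 4 ≤ n := by
  rw [CfsgLib.AltOrders.mem_range_orderOf_iff]
  have hr3 : 3 ≤ r := by have := hr.two_le; omega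
  constructor
  · rintro ⟨c, hsum, h2, heven, hl⟩
    have hdiv : ∀ a ∈ c, a ∣ 2 * r := fun a ha => hl ▸ Multiset.dvd_lcm ha
    have hval : ∀ a ∈ c, a = 2 ∨ a = r ∨ a = 2 * r := by
      intro a ha
      obtain ⟨u, v, hu, hv, rfl⟩ := Nat.dvd_mul.1 (hdiv a ha)
      have h1 := h2 _ ha
      rcases (Nat.dvd_prime Nat.prime_two).1 hu with rfl | rfl <;>
        rcases (Nat.dvd_prime hr).1 hv with rfl | rfl <;> simp at h1 ⊢
    exact bound r hr3 (hr.odd_of_ne_two hr2) n c hsum hval heven (by
      intro h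
      have h2d : c.lcm ∣ 2 := Multiset.lcm_dvd.2 (fun a ha => by rw [h a ha])
      rw [hl] at h2d
      have := Nat.le_of_dvd two_pos h2d
      omega) (by
      intro h
      have h2d : c.lcm ∣ r := Multiset.lcm_dvd.2 (fun a ha => by rw [h a ha])
      rw [hl] at h2d
      have := Nat.le_of_dvd (by omega) h2d
      omega)
  · intro h
    refine ⟨{r, 2, 2}, ?_, ?_, ?_, ?_⟩
    · simp; omega
    · intro a ha
      simp at ha
      omega
    · have : Odd r := hr.odd_of_ne_two hr2
      simp [parity_simps, this]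
    · simp [lcm_eq_nat_lcm, Nat.Coprime.lcm_eq_mul ((Nat.coprime_primes hr Nat.prime_two).2 hr2), mul_comm]

end Cfsg.Agent.S2467
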