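import Cfsg.Statements.S2468
import Cfsg.Agent.GLBlocks.Basic

set_option autoImplicit false
open Cfsg

namespace Cfsg.Agent.S2468

/-- Adjacency of two odd primes in the prime graph of PSL(n,q): let F be a finite field of characteristic p with q elements, n ≥ 2 with PSL(n,F) simple, and let r ≠ s be odd primes different from p dividing the order of PSL(n,F). Let k and l be the multiplicative orders of q modulo r and modulo s, and suppose 2 ≤ k ≤ l. Then PSL(n,F) has NO element of order r·s if and only if k + l > n and k does not divide l. -/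
theorem result {F : Type*} [Field F] [Fintype F] (p : ℕ) [Fact p.Prime] [CharP F p] (n : ℕ) (hn : 2 ≤ n) (hsmall : n = 2 → 4 ≤ Fintype.card F)
    (r s : ℕ) (hr : r.Prime) (hs : s.Prime) (hr2 : r ≠ 2) (hs2 : s ≠ 2) (hrp : r ≠ p) (hsp : s ≠ p) (hrs : r ≠ s)
    (hrG : r ∣ Nat.card (Matrix.ProjectiveSpecialLinearGroup (Fin n) F)) (hsG : s ∣ Nat.card (Matrix.ProjectiveSpecialLinearGroup (Fin n) F))
    (k l : ℕ) (hk : k = orderOf ((Fintype.card F : ℕ) : ZMod r)) (hl : l = orderOf ((Fintype.card F : ℕ) : ZMod s))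
    (h2k : 2 ≤ k) (hkl : k ≤ l) :
    (r * s ∉ Set.range (orderOf : Matrix.ProjectiveSpecialLinearGroup (Fin n) F → ℕ)) ↔ (n < k + l ∧ ¬ k ∣ l) := by
  haveI : NeZero n := ⟨by omega⟩
  have hkq : ¬ r ∣ Fintype.card F - 1 := fun h => by
    have := (CfsgLib.GLBlocks.dvd_pow_sub_one_iff (F := F) (p := p) hr 1).1 (by simpa using h)
    rw [← hk, Nat.dvd_one] at this
    omega
  have hlq : ¬ s ∣ Fintype.card F - 1 := fun h => by
    have := (CfsgLib.GLBlocks.dvd_pow_sub_one_iff (F := F) (p := p) hs 1).1 (by simpa using h)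
    rw [← hl, Nat.dvd_one] at this
    omega
  have hcop : (r * s).Coprime (Fintype.card F - 1) :=
    Nat.Coprime.mul_left (hr.coprime_iff_not_dvd.2 hkq) (hs.coprime_iff_not_dvd.2 hlq)
  have hln : l ≤ n := by
    rw [hl]; exact CfsgLib.GLBlocks.orderOf_le_of_dvd_card (p := p) hs hsp hsG
  have hkr : ∀ m, r ∣ Fintype.card F ^ m - 1 ↔ k ∣ m := fun m => by
    rw [hk]; exact CfsgLib.GLBlocks.dvd_pow_sub_one_iff (p := p) hr m
  have hls : ∀ m, s ∣ Fintype.card F ^ m - 1 ↔ l ∣ m := fun m => by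
    rw [hl]; exact CfsgLib.GLBlocks.dvd_pow_sub_one_iff (p := p) hs m
  have hrscop : r.Coprime s := (Nat.coprime_primes hr hs).2 hrs
  constructor
  · intro hno
    by_contra hc
    apply hno
    obtain ⟨g, hg⟩ : ∃ g : GL (Fin n) F, orderOf g = r * s := by
      by_cases hkn : k + l ≤ n
      · obtain ⟨a, ha⟩ := CfsgLib.GLBlocks.exists_GL_orderOf (F := F) (p := p) (show 1 ≤ k by omega) ((hkr k).2 dvd_rfl)
        obtain ⟨b, hb⟩ := CfsgLib.GLBlocks.exists_GL_orderOf (F := F) (p := p) (show 1 ≤ n - k by omega)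
          (N := 1) (one_dvd _)
        obtain ⟨c, hc'⟩ := CfsgLib.GLBlocks.exists_GL_orderOf (F := F) (p := p) (show 1 ≤ l by omega) ((hls l).2 dvd_rfl)
        refine ⟨CfsgLib.GLBlocks.blockFin (show k + (n - k) = n by omega)
          (a, CfsgLib.GLBlocks.blockFin (show l + (n - k - l) = n - k by omega) (c, 1)), ?_⟩
        rw [orderOf_injective _ (CfsgLib.GLBlocks.blockFin_injective _), Prod.orderOf,
          orderOf_injective _ (CfsgLib.GLBlocks.blockFin_injective _), Prod.orderOf, ha, hc', orderOf_one]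
        simp [hrscop.lcm_eq_mul]
      · have hkl' : k ∣ l := by
          by_contra h; exact hc ⟨by omega, h⟩
        obtain ⟨a, ha⟩ := CfsgLib.GLBlocks.exists_GL_orderOf (F := F) (p := p) (show 1 ≤ l by omega)
          (hrscop.mul_dvd_of_dvd_of_dvd ((hkr l).2 hkl') ((hls l).2 dvd_rfl))
        refine ⟨CfsgLib.GLBlocks.blockFin (show l + (n - l) = n by omega) (a, 1), ?_⟩
        rw [orderOf_injective _ (CfsgLib.GLBlocks.blockFin_injective _), Prod.orderOf, ha, orderOf_one]
        simp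
    obtain ⟨x, hx⟩ := CfsgLib.GLBlocks.exists_PSL_of_coprime (g := g) (hg.symm ▸ hcop)
    exact ⟨x, hx.trans hg⟩
  · rintro ⟨hnkl, hndvd⟩ ⟨x, hx⟩
    obtain ⟨g, hdet, hg⟩ := CfsgLib.GLBlocks.exists_GL_of_PSL_order hx
    obtain ⟨d⟩ := CfsgLib.ClassCount.exists_decomp (g : Matrix (Fin n) (Fin n) F)
      (Matrix.GeneralLinearGroup.det_ne_zero g)
    have hpow : ∀ N, (g : Matrix (Fin n) (Fin n) F) ^ N = 1 ↔ r * s ∣ N := fun N => by
      rw [← hg, orderOf_dvd_iff_pow_eq_one, Units.ext_iff, Units.val_pow_eq_pow_val, Units.val_one]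
    have hall := (CfsgLib.GLBlocks.pow_eq_one_iff d (r * s)).1 ((hpow _).2 dvd_rfl)
    have hE : ((r * s : ℕ) : F) ≠ 0 := by
      rw [Ne, CharP.cast_eq_zero_iff F p]
      intro h
      rcases (Fact.out : p.Prime).dvd_mul.1 h with h | h
      · exact hrp ((Nat.prime_dvd_prime_iff_eq Fact.out hr).1 h).symm
      · exact hsp ((Nat.prime_dvd_prime_iff_eq Fact.out hs).1 h).symm
    have he : ∀ i, d.e i = 1 := fun i => CfsgLib.GLBlocks.exp_eq_one (d.item i) hE (hall i)
    have hex : ∀ (u v : ℕ), u.Prime → ¬ u ∣ v → r * s = u * v → ∃ i, orderOf ((Fintype.card F : ℕ) : ZMod u) ∣ (d.P i).natDegree := by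
      intro u v hu huv huveq
      have hne : ¬ ∀ i, d.P i ^ d.e i ∣ Polynomial.X ^ v - 1 := fun h => by
        have h2 := (hpow v).1 ((CfsgLib.GLBlocks.pow_eq_one_iff d v).2 h)
        rw [huveq] at h2
        exact huv ((dvd_mul_right u v).trans h2)
      push Not at hne
      obtain ⟨i, hi⟩ := hne
      refine ⟨i, CfsgLib.GLBlocks.orderOf_dvd_natDegree (p := p) (N := v) hu (d.item i).irr (d.item i).coeff_ne ?_ ?_⟩
      · have := hall i
        rwa [he i, pow_one, huveq] at this
      · rwa [he i, pow_one] at hi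
    obtain ⟨i, hi⟩ := hex r s hr (fun h => hrs ((Nat.prime_dvd_prime_iff_eq hr hs).1 h)) rfl
    obtain ⟨j, hj⟩ := hex s r hs (fun h => hrs ((Nat.prime_dvd_prime_iff_eq hs hr).1 h).symm) (mul_comm r s)
    rw [← hk] at hi
    rw [← hl] at hj
    have hdi : 0 < (d.P i).natDegree := (d.item i).irr.natDegree_pos
    have hdj : 0 < (d.P j).natDegree := (d.item j).irr.natDegree_pos
    by_cases hij : i = j
    · subst hij
      have hn1 : (d.P i).natDegree * d.e i ≤ n := by
        simpa using CfsgLib.GLBlocks.sum_deg_le d {i}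
      rw [he i, mul_one] at hn1
      obtain ⟨a, ha⟩ := hj
      have ha2 : 2 ≤ a := by
        rcases a with _ | _ | a
        · rw [ha] at hdi; simp at hdi
        · exact absurd (by simpa [ha] using hi) hndvd
        · omega
      have := Nat.mul_le_mul_left l ha2
      omega
    · have hn1 := CfsgLib.GLBlocks.sum_deg_le d {i, j}
      rw [Finset.sum_pair hij, he i, he j, mul_one, mul_one] at hn1
      have h1 := Nat.le_of_dvd hdi hi
      have h2 := Nat.le_of_dvd hdj hj
      omega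

end Cfsg.Agent.S2468
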