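import Cfsg.Statements.S2470
import Cfsg.Agent.GLBlocks.WithChar

set_option autoImplicit false
open Cfsg

namespace Cfsg.Agent.S2470

/-- Adjacency of an odd prime and the characteristic in the prime graph of PSL(n,q): let F be a finite field of characteristic p with q elements, n ≥ 2 with PSL(n,F) simple, and let r ≠ p be an odd prime dividing the order of PSL(n,F), with k the multiplicative order of q modulo r. Then PSL(n,F) has NO element of order r·p if and only if either k > n − 2, or n = 3, r = 3 and 3 divides q − 1 exactly once. -/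
theorem result {F : Type*} [Field F] [Fintype F] (p : ℕ) [Fact p.Prime] [CharP F p] (n : ℕ) (hn : 2 ≤ n) (hsmall : n = 2 → 4 ≤ Fintype.card F)
    (r : ℕ) (hr : r.Prime) (hr2 : r ≠ 2) (hrp : r ≠ p) (hrG : r ∣ Nat.card (Matrix.ProjectiveSpecialLinearGroup (Fin n) F))
    (k : ℕ) (hk : k = orderOf ((Fintype.card F : ℕ) : ZMod r)) :
    (r * p ∉ Set.range (orderOf : Matrix.ProjectiveSpecialLinearGroup (Fin n) F → ℕ)) ↔
      (n - 2 < k ∨ (n = 3 ∧ r = 3 ∧ 3 ∣ Fintype.card F - 1 ∧ ¬ 9 ∣ Fintype.card F - 1)) := by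
  haveI : NeZero n := ⟨by omega⟩
  subst hk
  set q := Fintype.card F with hq
  have hq1 : 1 < q := Fintype.one_lt_card
  have hp : p.Prime := Fact.out
  have hpq : p ∣ q := by
    obtain ⟨m, -, hm⟩ := FiniteField.card F p
    rw [hq, hm]; exact dvd_pow_self p m.pos.ne'
  have hk1 : 0 < orderOf ((q : ℕ) : ZMod r) := CfsgLib.GLBlocks.orderOf_cast_pos (p := p) hr hrp
  have hrq : r ∣ q - 1 ↔ orderOf ((q : ℕ) : ZMod r) = 1 := by
    have := CfsgLib.GLBlocks.dvd_pow_sub_one_iff (F := F) (p := p) hr 1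
    rwa [pow_one, Nat.dvd_one] at this
  constructor
  · intro hno
    by_contra hc
    push Not at hc
    obtain ⟨hkn, h3⟩ := hc
    apply hno
    rcases Nat.lt_or_ge n 4 with hn4 | hn4
    · obtain rfl : n = 3 := by omega
      have h1 : r ∣ q - 1 := hrq.2 (by omega)
      have hdiv : r ∣ (q - 1) / Nat.gcd 3 (q - 1) := by
        have hd := Nat.gcd_dvd_right 3 (q - 1)
        rcases (Nat.dvd_prime Nat.prime_three).1 (Nat.gcd_dvd_left 3 (q - 1)) with h | h
        · rwa [h, Nat.div_one]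
        · rw [h] at hd ⊢
          by_cases hr3 : r = 3
          · subst hr3
            have h9 := h3 rfl rfl hd
            exact Nat.dvd_div_of_mul_dvd (by simpa using h9)
          · exact Nat.dvd_div_of_mul_dvd (((Nat.coprime_primes Nat.prime_three hr).2 (Ne.symm hr3)).mul_dvd_of_dvd_of_dvd hd h1)
      rw [CfsgLib.GLBlocks.range_orderOf_three p]
      refine Or.inr (Or.inr (Or.inr (Or.inl ?_)))
      rw [Nat.mul_div_assoc _ (Nat.gcd_dvd_right 3 (q - 1)), mul_comm r p]
      exact mul_dvd_mul_left p hdiv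
    · exact CfsgLib.GLBlocks.exists_mul_prime_of_four (p := p) hr hr2 hrp hn4 hkn
  · rintro hor ⟨x, hx⟩
    obtain ⟨h, hdet, ho⟩ := CfsgLib.GLBlocks.exists_GL_of_PSL_order hx
    obtain ⟨hn3, hb⟩ := CfsgLib.GLBlocks.bound_mul_prime (p := p) hr hr2 hrp hdet ho
    rw [← hq] at hb
    rcases hor with hor | ⟨rfl, rfl, h3, h9⟩
    · omega
    have hmem : 3 * p ∈ Set.range (orderOf : Matrix.ProjectiveSpecialLinearGroup (Fin 3) F → ℕ) := ⟨x, hx⟩
    rw [CfsgLib.GLBlocks.range_orderOf_three p] at hmem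
    have hd3 : Nat.gcd 3 (q - 1) = 3 := Nat.gcd_eq_left h3
    rcases hmem with hm | hm | hm | hm | ⟨-, hm⟩
    · have h1 : p ∣ q ^ 2 + q + 1 := ((dvd_mul_left p 3).trans hm).trans (Nat.div_dvd_of_dvd (by
        rw [show Nat.gcd 3 (Fintype.card F - 1) = 3 from hd3, ← hq, show q ^ 2 + q + 1 = (q - 1) * (q + 2) + 3 by
          obtain ⟨a, ha⟩ : ∃ a, q = a + 1 := ⟨q - 1, by omega⟩
          rw [ha, Nat.add_sub_cancel]; ring]
        exact dvd_add (h3.mul_right _) dvd_rfl))
      have h2 : p ∣ q ^ 2 + q := dvd_add (dvd_pow hpq two_ne_zero) hpq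
      exact hp.not_dvd_one ((Nat.dvd_add_right h2).1 h1)
    · have h1 : p ∣ q ^ 2 - 1 := ((dvd_mul_left p 3).trans hm).trans (Nat.div_dvd_of_dvd (by
        rw [show Nat.gcd 3 (Fintype.card F - 1) = 3 from hd3, ← hq, CfsgLib.GLBlocks.sq_sub_one]
        exact h3.mul_left _))
      have h4 : 1 ≤ q ^ 2 := Nat.one_le_pow _ _ (by omega)
      have h5 := Nat.dvd_sub (dvd_pow hpq two_ne_zero) h1
      rw [show q ^ 2 - (q ^ 2 - 1) = 1 by omega] at h5
      exact hp.not_dvd_one h5
    · have h5 := Nat.dvd_sub hpq ((dvd_mul_left p 3).trans hm)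
      rw [← hq, show q - (q - 1) = 1 by omega] at h5
      exact hp.not_dvd_one h5
    · rw [← hq, hd3, Nat.mul_div_assoc _ h3, mul_comm 3 p, Nat.mul_dvd_mul_iff_left hp.pos] at hm
      exact h9 ((show 9 = 3 * 3 from rfl) ▸ (Nat.dvd_div_iff_mul_dvd h3).1 hm)
    · have := Nat.le_of_dvd (by norm_num) hm
      have := hp.two_le
      omega

end Cfsg.Agent.S2470
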