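import Cfsg.Statements.S2471
import Cfsg.Agent.SL2Trace.Order

set_option autoImplicit false
open Cfsg

namespace Cfsg.Agent.S2471

/-- In PSL(2,q) with q odd, the characteristic p is isolated from 2 in the prime graph: for F a finite field of odd characteristic p with at least 5 elements, PSL(2,F) has no element of order 2p. -/
theorem result {F : Type*} [Field F] [Fintype F] (p : ℕ) [Fact p.Prime] [CharP F p] (hp : p ≠ 2) (h5 : 5 ≤ Fintype.card F) (g : Matrix.ProjectiveSpecialLinearGroup (Fin 2) F) :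
    orderOf g ≠ 2 * p := by
  intro hg
  obtain ⟨g0, rfl⟩ := CfsgLib.SL2Trace.proj_surjective g
  set t := Matrix.trace (g0 : Matrix (Fin 2) (Fin 2) F) with ht
  have hp2 : 2 < p := lt_of_le_of_ne (Fact.out : p.Prime).two_le (Ne.symm hp)
  have hsq : CfsgLib.SL2Trace.proj (g0 ^ 2) ^ p = 1 := by
    rw [show CfsgLib.SL2Trace.proj (g0 ^ 2) = CfsgLib.SL2Trace.proj g0 ^ 2 from QuotientGroup.mk_pow _ _ _,
      ← pow_mul, ← hg, pow_orderOf_eq_one]
  have h1 := CfsgLib.SL2Trace.trace_sq_eq_four_of_pow_prime p _ hsq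
  have h2 : Matrix.trace ((g0 ^ 2 : Matrix.SpecialLinearGroup (Fin 2) F) : Matrix (Fin 2) (Fin 2) F) = t ^ 2 - 2 := by
    have := CfsgLib.SL2Trace.cayley g0 t rfl
    have := congrArg Matrix.trace this
    rw [Matrix.trace_add, Matrix.trace_sub, Matrix.trace_smul, Matrix.trace_one, Matrix.trace_zero,
      Fintype.card_fin, smul_eq_mul, ← ht, Nat.cast_two] at this
    rw [Matrix.SpecialLinearGroup.coe_pow]
    linear_combination this
  rw [h2] at h1
  have h3 : t ^ 2 * (t ^ 2 - 4) = 0 := by linear_combination h1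
  rcases mul_eq_zero.1 h3 with h | h
  · have := Nat.le_of_dvd two_pos (orderOf_dvd_of_pow_eq_one
      (CfsgLib.SL2Trace.proj_sq_eq_one_of_trace_zero g0 (pow_eq_zero_iff two_ne_zero |>.1 h)))
    omega
  · have := Nat.le_of_dvd (Fact.out : p.Prime).pos (orderOf_dvd_of_pow_eq_one
      (CfsgLib.SL2Trace.proj_pow_char_eq_one p g0 (sub_eq_zero.1 h)))
    omega

end Cfsg.Agent.S2471
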