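import Cfsg.Statements.S2477
import Cfsg.Agent.AltOrders.Basic

set_option autoImplicit false
open Cfsg

namespace Cfsg.Agent.S2477

section aux

theorem types_ten : ∀ x ∈ CfsgLib.AltOrders.types 10, x.2 = 0 →
    x.1 ∈ ({1, 2, 3, 4, 5, 6, 7, 8, 9, 10, 12, 15, 21} : Finset ℕ) := by
  decide +kernel

theorem wit (m : ℕ) (c : Multiset ℕ)
    (h : c.sum ≤ 10 ∧ (∀ a ∈ c, 2 ≤ a) ∧ (c.sum + Multiset.card c) % 2 = 0 ∧ c.lcm = m) :
    ∃ c : Multiset ℕ, c.sum ≤ 10 ∧ (∀ a ∈ c, 2 ≤ a) ∧ Even (c.sum + Multiset.card c) ∧ c.lcm = m :=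
  ⟨c, h.1, h.2.1, Nat.even_iff.2 h.2.2.1, h.2.2.2⟩

end aux

/-- The set of element orders of the alternating group of degree 10 is {1, 2, 3, 4, 5, 6, 7, 8, 9, 10, 12, 15, 21}. -/
theorem result : Set.range (orderOf : alternatingGroup (Fin 10) → ℕ) = {1, 2, 3, 4, 5, 6, 7, 8, 9, 10, 12, 15, 21} := by
  ext m
  rw [CfsgLib.AltOrders.mem_range_orderOf_iff]
  constructor
  · rintro ⟨c, h1, h2, h3, rfl⟩
    have hm := CfsgLib.AltOrders.mem_types c 10 h1 h2
    have hp : (c.sum + Multiset.card c) % 2 = 0 := Nat.even_iff.1 h3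
    rw [hp] at hm
    have := types_ten _ hm rfl
    simp only [Finset.mem_insert, Finset.mem_singleton] at this
    simpa using this
  · intro hm
    simp only [Set.mem_insert_iff, Set.mem_singleton_iff] at hm
    rcases hm with rfl | rfl | rfl | rfl | rfl | rfl | rfl | rfl | rfl | rfl | rfl | rfl | rfl
    · exact wit _ 0 (by decide)
    · exact wit _ {2, 2} (by decide)
    · exact wit _ {3} (by decide)
    · exact wit _ {4, 2} (by decide)
    · exact wit _ {5} (by decide)
    · exact wit _ {3, 2, 2} (by decide)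
    · exact wit _ {7} (by decide)
    · exact wit _ {8, 2} (by decide)
    · exact wit _ {9} (by decide)
    · exact wit _ {5, 2, 2} (by decide)
    · exact wit _ {6, 4} (by decide)
    · exact wit _ {5, 3} (by decide)
    · exact wit _ {7, 3} (by decide)

end Cfsg.Agent.S2477
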