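import Cfsg.Statements.S2479
import Cfsg.Agent.ClassCount.Numeric

set_option autoImplicit false
open Cfsg

namespace Cfsg.Agent.S2479

/-- The number of conjugacy classes of SL(n,q): for F a finite field with q elements, the number k of conjugacy classes of SL(n,F) satisfies q^(n−1) < k and k ≤ (5/2)·q^(n−1) for n ≥ 2, and k ≤ q^(n−1) + 3q^(n−2) for n ≥ 3. -/
theorem result {F : Type*} [Field F] [Fintype F] (n : ℕ) (hn : 2 ≤ n) :
    Fintype.card F ^ (n - 1) < Nat.card (ConjClasses (Matrix.SpecialLinearGroup (Fin n) F)) ∧ 2 * Nat.card (ConjClasses (Matrix.SpecialLinearGroup (Fin n) F)) ≤ 5 * Fintype.card F ^ (n - 1) ∧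
      (3 ≤ n → Nat.card (ConjClasses (Matrix.SpecialLinearGroup (Fin n) F)) ≤ Fintype.card F ^ (n - 1) + 3 * Fintype.card F ^ (n - 2)) := by
  have hq : IsPrimePow (Fintype.card F) := FiniteField.isPrimePow_card F
  have h1 := CfsgLib.ClassCount.card_SL_classes_lower (F := F) hn
  have h2 := CfsgLib.ClassCount.card_classes_SL_le (F := F) n
  rw [Nat.card_eq_fintype_card (α := F)] at h1
  refine ⟨h1, ?_, fun h3 => h2.trans (CfsgLib.ClassCount.SL_bound hq h3)⟩
  rcases Nat.lt_or_ge n 3 with h3 | h3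
  · obtain rfl : n = 2 := by omega
    have := CfsgLib.ClassCount.SL_two hq.two_le
    simp only [Nat.reduceSub, pow_one]
    omega
  · have h4 := h2.trans (CfsgLib.ClassCount.SL_bound hq h3)
    rw [show n - 1 = n - 2 + 1 by omega, pow_succ] at h4 ⊢
    have := Nat.mul_le_mul_left (Fintype.card F ^ (n - 2)) hq.two_le
    omega

end Cfsg.Agent.S2479
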