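import Cfsg.Statements.S2482
import Cfsg.Agent.ClassCountSp.Classes
import Cfsg.Agent.ClassCountSp.Lower
-- import your own Cfsg.Agent.* helpers here

set_option autoImplicit false
open Cfsg

namespace Cfsg.Agent.S2482

/-- The number of conjugacy classes of Sp(2n,q), q odd: for F a finite field of odd order q and n ≥ 1, the number k of conjugacy classes of Sp(2n,F) satisfies q^n ≤ k ≤ 10.8·q^n. -/
theorem result {F : Type*} [Field F] [Fintype F] (hodd : Odd (Fintype.card F)) (n : ℕ) (hn : 1 ≤ n) :
    Fintype.card F ^ n ≤ Nat.card (ConjClasses (Matrix.symplecticGroup (Fin n) F)) ∧ 5 * Nat.card (ConjClasses (Matrix.symplecticGroup (Fin n) F)) ≤ 54 * Fintype.card F ^ n := by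
  have h2 : (2 : F) ≠ 0 := by
    intro h
    haveI := Fact.mk Nat.prime_two
    have hev : 2 ∣ Fintype.card F :=
      (CharP.cast_eq_zero_iff F (ringChar F) (Fintype.card F)).1 (Nat.cast_card_eq_zero F) |> fun hd => by
        have h2' : ringChar F = 2 := ((Nat.prime_dvd_prime_iff_eq (CharP.char_is_prime F (ringChar F)) Nat.prime_two).1
          ((CharP.cast_eq_zero_iff F (ringChar F) 2).1 (by exact_mod_cast h)))
        rwa [h2'] at hd
    exact (Nat.not_even_iff_odd.2 hodd) (even_iff_two_dvd.2 hev)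
  have hq : 3 ≤ Fintype.card F := by
    have h1 : 1 < Fintype.card F := Fintype.one_lt_card
    obtain ⟨r, hr⟩ := hodd
    omega
  exact ⟨CfsgLib.ClassCountSp.card_lower h2,
    (Nat.mul_le_mul_left 5 (CfsgLib.ClassCountSp.card_classes_le h2)).trans
      (CfsgLib.ClassCountSp.W_one_le hq n)⟩

end Cfsg.Agent.S2482
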