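import Cfsg.Statements.S2485
import Cfsg.Agent.Linear.Basic

set_option autoImplicit false
open scoped Pointwise
open Cfsg

namespace Cfsg.Agent.S2485

section aux

open Matrix
open scoped MatrixGroups

variable {q : ℕ} [Fact q.Prime]

/-- Membership in the normaliser of the torus `{!![a,-b;b,a]}`. -/
def InN (g : Matrix (Fin 2) (Fin 2) (ZMod q)) : Prop :=
  (g 1 1 = g 0 0 ∧ g 0 1 = -g 1 0) ∨ (g 1 1 = -g 0 0 ∧ g 0 1 = g 1 0)

theorem InN.mul {g h : Matrix (Fin 2) (Fin 2) (ZMod q)} (hg : InN g) (hh : InN h) : InN (g * h) := by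
  rcases hg with ⟨g1, g2⟩ | ⟨g1, g2⟩ <;> rcases hh with ⟨h1, h2⟩ | ⟨h1, h2⟩
  · left; constructor <;> simp [Matrix.mul_apply, g1, g2, h1, h2] <;> ring
  · right; constructor <;> simp [Matrix.mul_apply, g1, g2, h1, h2] <;> ring
  · right; constructor <;> simp [Matrix.mul_apply, g1, g2, h1, h2] <;> ring
  · left; constructor <;> simp [Matrix.mul_apply, g1, g2, h1, h2] <;> ring

variable (q) in
/-- The normaliser of a non-split torus when `-1` is a non-square. -/
def torusNormalizer : Subgroup (GL (Fin 2) (ZMod q)) where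
  carrier := {g | InN (g : Matrix (Fin 2) (Fin 2) (ZMod q))}
  mul_mem' hg hh := hg.mul hh
  one_mem' := Or.inl (by simp)
  inv_mem' := by
    intro g hg
    show InN ((g⁻¹ : GL (Fin 2) (ZMod q)) : Matrix (Fin 2) (Fin 2) (ZMod q))
    rw [Matrix.coe_units_inv, Matrix.inv_def]
    rcases hg with ⟨g1, g2⟩ | ⟨g1, g2⟩
    · left; simp [Matrix.adjugate_fin_two, g1, g2]
    · right; simp [Matrix.adjugate_fin_two, g1, g2]

theorem sum_sq_ne_zero {k : ℕ} (hk : q + 1 = 2 ^ k) (hq : 7 ≤ q) (a b : ZMod q) (h : a ≠ 0 ∨ b ≠ 0) :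
    a * a + b * b ≠ 0 := by
  have hm : q % 4 = 3 := by
    have : 3 ≤ k := by
      by_contra h
      have : 2 ^ k ≤ 2 ^ 2 := Nat.pow_le_pow_right two_pos (by omega)
      omega
    have : 4 ∣ 2 ^ k := (pow_dvd_pow 2 (show 2 ≤ k by omega))
    omega
  have hns : ¬ IsSquare (-1 : ZMod q) := by rw [ZMod.exists_sq_eq_neg_one_iff]; omega
  intro e
  by_cases hb : b = 0
  · subst hb; simp at e; exact h.elim (fun h => h e) (fun h => h rfl)
  · apply hns
    exact ⟨a / b, by field_simp; linear_combination -e⟩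

theorem exists_common {k : ℕ} (hk : q + 1 = 2 ^ k) (hq : 7 ≤ q) (g : GL (Fin 2) (ZMod q)) :
    ∃ M : GL (Fin 2) (ZMod q), M ∈ torusNormalizer q ∧ g⁻¹ * M * g ∈ torusNormalizer q ∧
      M ∉ Subgroup.center (GL (Fin 2) (ZMod q)) := by
  set W : Matrix (Fin 2) (Fin 2) (ZMod q) := (g : Matrix (Fin 2) (Fin 2) (ZMod q)) * !![0, -1; 1, 0] * (↑g⁻¹ : Matrix (Fin 2) (Fin 2) (ZMod q)) with hW
  obtain ⟨a, b, hab, hl⟩ : ∃ a b : ZMod q, (a ≠ 0 ∨ b ≠ 0) ∧ a * (W 0 0 - W 1 1) + b * (W 0 1 + W 1 0) = 0 := by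
    by_cases h : W 0 0 - W 1 1 = 0
    · exact ⟨1, 0, Or.inl one_ne_zero, by rw [h]; ring⟩
    · exact ⟨W 0 1 + W 1 0, -(W 0 0 - W 1 1), Or.inr (neg_ne_zero.2 h), by ring⟩
  have hs := sum_sq_ne_zero hk hq a b hab
  have hd : (!![a, b; b, -a] : Matrix (Fin 2) (Fin 2) (ZMod q)).det ≠ 0 := by
    rw [Matrix.det_fin_two_of]; intro e; apply hs; linear_combination -e
  set M := Matrix.GeneralLinearGroup.mkOfDetNeZero _ hd with hMdef
  have hMval : (M : Matrix (Fin 2) (Fin 2) (ZMod q)) = !![a, b; b, -a] := rfl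
  refine ⟨M, Or.inr (by rw [hMval]; simp), ?_, ?_⟩
  · set M' : Matrix (Fin 2) (Fin 2) (ZMod q) := ((g⁻¹ * M * g : GL (Fin 2) (ZMod q)) : Matrix (Fin 2) (Fin 2) (ZMod q)) with hM'
    have e1 : Matrix.trace M' = 0 := by
      rw [hM', Units.val_mul, Units.val_mul, Matrix.trace_units_conj', hMval]
      simp [Matrix.trace_fin_two]
    have e2 : Matrix.trace (M' * !![0, -1; 1, 0]) = 0 := by
      have : M' * !![0, -1; 1, 0] =
          (↑g⁻¹ : Matrix (Fin 2) (Fin 2) (ZMod q)) * ((M : Matrix (Fin 2) (Fin 2) (ZMod q)) * W) * (g : Matrix (Fin 2) (Fin 2) (ZMod q)) := by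
        rw [hM', hW, Units.val_mul, Units.val_mul]
        simp only [mul_assoc, Units.inv_mul, mul_one]
      rw [this, Matrix.trace_units_conj', hMval]
      simp [Matrix.trace_fin_two, Matrix.vecMul, dotProduct, Fin.sum_univ_two]
      linear_combination hl
    refine Or.inr ⟨?_, ?_⟩
    · rw [Matrix.trace_fin_two] at e1; linear_combination e1
    · simp [Matrix.trace_fin_two, Matrix.mul_apply] at e2; linear_combination e2
  · intro hc
    rw [Matrix.GeneralLinearGroup.center_eq_range_scalar] at hc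
    obtain ⟨r, hr⟩ := hc
    have h00 := congrArg (fun z : GL (Fin 2) (ZMod q) => (z : Matrix (Fin 2) (Fin 2) (ZMod q)) 0 0) hr
    have h11 := congrArg (fun z : GL (Fin 2) (ZMod q) => (z : Matrix (Fin 2) (Fin 2) (ZMod q)) 1 1) hr
    have h01 := congrArg (fun z : GL (Fin 2) (ZMod q) => (z : Matrix (Fin 2) (Fin 2) (ZMod q)) 0 1) hr
    simp [hMval] at h00 h11 h01
    have h2 : (2 : ZMod q) ≠ 0 := by
      intro h
      have := (CharP.cast_eq_zero_iff (ZMod q) q 2).1 (by exact_mod_cast h)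
      have := Nat.le_of_dvd two_pos this
      omega
    apply hs
    rw [← h01]
    have : a = 0 := mul_left_cancel₀ h2 (by linear_combination h11 - h00)
    rw [this]; ring

theorem card_torusNormalizer {k : ℕ} (hk : q + 1 = 2 ^ k) (hq : 7 ≤ q) :
    Nat.card (torusNormalizer q) = 2 * (q ^ 2 - 1) := by
  classical
  have h2 : (2 : ZMod q) ≠ 0 := by
    intro h
    have := (CharP.cast_eq_zero_iff (ZMod q) q 2).1 (by exact_mod_cast h)
    have := Nat.le_of_dvd two_pos this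
    omega
  let f : Bool × {v : ZMod q × ZMod q // v ≠ 0} → torusNormalizer q := fun x =>
    have hs : x.2.1.1 * x.2.1.1 + x.2.1.2 * x.2.1.2 ≠ 0 :=
      sum_sq_ne_zero hk hq _ _ (by by_contra h; push Not at h; exact x.2.2 (Prod.ext h.1 h.2))
    if x.1 then
      ⟨Matrix.GeneralLinearGroup.mkOfDetNeZero !![x.2.1.1, -x.2.1.2; x.2.1.2, x.2.1.1]
        (by rw [Matrix.det_fin_two_of]; intro e; apply hs; linear_combination e),
        Or.inl (by simp [Matrix.GeneralLinearGroup.mkOfDetNeZero])⟩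
    else
      ⟨Matrix.GeneralLinearGroup.mkOfDetNeZero !![x.2.1.1, x.2.1.2; x.2.1.2, -x.2.1.1]
        (by rw [Matrix.det_fin_two_of]; intro e; apply hs; linear_combination -e),
        Or.inr (by simp [Matrix.GeneralLinearGroup.mkOfDetNeZero])⟩
  have hf : Function.Bijective f := by
    constructor
    · rintro ⟨s, ⟨⟨a, b⟩, hv⟩⟩ ⟨s', ⟨⟨a', b'⟩, hv'⟩⟩ h
      have he := congrArg (fun z : torusNormalizer q => ((z.1 : GL (Fin 2) (ZMod q)) : Matrix (Fin 2) (Fin 2) (ZMod q))) h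
      have e00 := congrFun (congrFun he 0) 0
      have e10 := congrFun (congrFun he 1) 0
      have e11 := congrFun (congrFun he 1) 1
      have e01 := congrFun (congrFun he 0) 1
      cases s <;> cases s' <;> simp [f, Matrix.GeneralLinearGroup.mkOfDetNeZero] at e00 e10 e11 e01 ⊢
      · exact ⟨e00, e10⟩
      · exfalso; apply hv; apply Prod.ext <;> apply mul_left_cancel₀ h2 <;> simp <;> grind
      · exfalso; apply hv; apply Prod.ext <;> apply mul_left_cancel₀ h2 <;> simp <;> grind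
      · exact ⟨e00, e10⟩
    · rintro ⟨g, hg⟩
      have hv : ((g : Matrix (Fin 2) (Fin 2) (ZMod q)) 0 0, (g : Matrix (Fin 2) (Fin 2) (ZMod q)) 1 0) ≠ (0 : ZMod q × ZMod q) := by
        intro e
        simp [Prod.ext_iff] at e
        have := g.det_ne_zero
        rw [Matrix.det_fin_two, e.1, e.2] at this
        simp at this
      rcases hg with ⟨h1, h2'⟩ | ⟨h1, h2'⟩
      · refine ⟨(true, ⟨_, hv⟩), Subtype.ext (Units.ext ?_)⟩
        ext i j; fin_cases i <;> fin_cases j <;> simp [f, Matrix.GeneralLinearGroup.mkOfDetNeZero, h1, h2']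
      · refine ⟨(false, ⟨_, hv⟩), Subtype.ext (Units.ext ?_)⟩
        ext i j; fin_cases i <;> fin_cases j <;> simp [f, Matrix.GeneralLinearGroup.mkOfDetNeZero, h1, h2']
  rw [← Nat.card_eq_of_bijective f hf, Nat.card_prod, Nat.card_eq_fintype_card (α := Bool), Fintype.card_bool,
    Nat.card_eq_fintype_card, Fintype.card_subtype_compl, Fintype.card_prod, Fintype.card_subtype_eq, ZMod.card,
    pow_two]

theorem card_facts {k : ℕ} (hk : q + 1 = 2 ^ k) (hq : 7 ≤ q) :
    IsPGroup 2 ((torusNormalizer q).map (QuotientGroup.mk' (Subgroup.center (GL (Fin 2) (ZMod q))))) ∧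
    ∀ Q : Sylow 2 (GL (Fin 2) (ZMod q) ⧸ Subgroup.center (GL (Fin 2) (ZMod q))),
      Nat.card Q = Nat.card ((torusNormalizer q).map (QuotientGroup.mk' (Subgroup.center (GL (Fin 2) (ZMod q))))) := by
  haveI : Fact (Nat.Prime 2) := ⟨Nat.prime_two⟩
  set Z := Subgroup.center (GL (Fin 2) (ZMod q))
  have hZ : Nat.card Z = q - 1 := by rw [CfsgLib.Linear.card_center_GL, ZMod.card]
  have hZD : Z ≤ torusNormalizer q := by
    intro z hz
    rw [show Z = _ from Matrix.GeneralLinearGroup.center_eq_range_scalar] at hz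
    obtain ⟨r, rfl⟩ := hz
    exact Or.inl (by simp)
  have hsq : q ^ 2 - 1 = (q + 1) * (q - 1) := by simpa using Nat.sq_sub_sq q 1
  have hcard : Nat.card ((torusNormalizer q).map (QuotientGroup.mk' Z)) = 2 ^ (k + 1) := by
    have h1 : Nat.card ((torusNormalizer q).map (QuotientGroup.mk' Z)) * Nat.card Z = Nat.card (torusNormalizer q) := by
      rw [← Subgroup.card_mul_index ((QuotientGroup.mk' Z).ker.subgroupOf (torusNormalizer q)), mul_comm]
      congr 1
      · rw [Nat.card_congr (Subgroup.subgroupOfEquivOfLe (by rw [QuotientGroup.ker_mk']; exact hZD)).toEquiv,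
          QuotientGroup.ker_mk']
      · rw [← MonoidHom.ker_domRestrict, Subgroup.index_ker, MonoidHom.domRestrict_range]
    rw [hZ, card_torusNormalizer hk hq, hsq, ← mul_assoc, hk, ← pow_succ'] at h1
    exact Nat.eq_of_mul_eq_mul_right (by omega) h1
  refine ⟨IsPGroup.of_card hcard, fun Q => ?_⟩
  rw [hcard, Q.card_eq_multiplicity]
  congr 1
  have hG : Nat.card (GL (Fin 2) (ZMod q) ⧸ Z) = q * (2 ^ k * (q - 1)) := by
    have h := Subgroup.card_eq_card_quotient_mul_card_subgroup Z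
    rw [CfsgLib.Linear.card_GL_two, ZMod.card, hZ, hsq, hk] at h
    refine Nat.eq_of_mul_eq_mul_right (show 0 < q - 1 by omega) ?_
    rw [← h]; ring
  obtain ⟨m, hm⟩ : ∃ m, q - 1 = 2 * (2 * m + 1) := ⟨(q - 3) / 4, by
    have : 3 ≤ k := by
      by_contra h
      have : 2 ^ k ≤ 2 ^ 2 := Nat.pow_le_pow_right two_pos (by omega)
      omega
    have : 4 ∣ 2 ^ k := (pow_dvd_pow 2 (show 2 ≤ k by omega))
    omega⟩
  have hodd : ¬ 2 ∣ q * (2 * m + 1) := by
    rw [Nat.prime_two.dvd_mul]; omega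
  rw [hG, hm, show q * (2 ^ k * (2 * (2 * m + 1))) = 2 ^ (k + 1) * (q * (2 * m + 1)) by ring,
    Nat.factorization_mul (by positivity) (by rintro h; rw [h] at hodd; exact hodd (dvd_zero 2)), Finsupp.add_apply,
    Nat.prime_two.factorization_pow, Nat.factorization_eq_zero_of_not_dvd hodd]
  simp

end aux

/-- Let q = 2^k − 1 ≥ 7 be a prime and let G = PGL(2,q), the general linear group of degree 2 over the field with q elements modulo its centre. Then any two Sylow 2-subgroups of G have a non-trivial intersection: for a Sylow 2-subgroup H and every x ∈ G, H ∩ H^x ≠ 1. -/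
theorem result {q k : ℕ} [Fact q.Prime] (hk : q + 1 = 2 ^ k) (hq : 7 ≤ q)
    (H : Sylow 2 (GL (Fin 2) (ZMod q) ⧸ Subgroup.center (GL (Fin 2) (ZMod q))))
    (x : GL (Fin 2) (ZMod q) ⧸ Subgroup.center (GL (Fin 2) (ZMod q))) :
    (H : Subgroup (GL (Fin 2) (ZMod q) ⧸ Subgroup.center (GL (Fin 2) (ZMod q)))) ⊓ MulAut.conj x • (H : Subgroup _) ≠ ⊥ := by
  haveI : Fact (Nat.Prime 2) := ⟨Nat.prime_two⟩
  let π := QuotientGroup.mk' (Subgroup.center (GL (Fin 2) (ZMod q)))
  let D := (torusNormalizer q).map π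
  have hD : IsPGroup 2 D ∧ ∀ Q : Sylow 2 (GL (Fin 2) (ZMod q) ⧸ (Subgroup.center (GL (Fin 2) (ZMod q)))), Nat.card Q = Nat.card D :=
    card_facts hk hq
  obtain ⟨P, hP⟩ := hD.1.exists_le_sylow
  have hPeq : D = (P : Subgroup (GL (Fin 2) (ZMod q) ⧸ (Subgroup.center (GL (Fin 2) (ZMod q))))) :=
    Subgroup.eq_of_le_of_card_ge hP (hD.2 P).le
  obtain ⟨y, hy⟩ := MulAction.exists_smul_eq (GL (Fin 2) (ZMod q) ⧸ (Subgroup.center (GL (Fin 2) (ZMod q)))) P H
  obtain ⟨g, hg⟩ := QuotientGroup.mk_surjective (y⁻¹ * x * y)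
  obtain ⟨M, hM, hMg, hMc⟩ := exists_common hk hq g
  intro hbot
  have hH : (H : Subgroup (GL (Fin 2) (ZMod q) ⧸ (Subgroup.center (GL (Fin 2) (ZMod q))))) = MulAut.conj y • D := by
    rw [hPeq, ← hy]; rfl
  have hmem : y * π M * y⁻¹ ∈ (H : Subgroup (GL (Fin 2) (ZMod q) ⧸ (Subgroup.center (GL (Fin 2) (ZMod q))))) ⊓
      MulAut.conj x • (H : Subgroup (GL (Fin 2) (ZMod q) ⧸ (Subgroup.center (GL (Fin 2) (ZMod q))))) := by
    refine Subgroup.mem_inf.2 ⟨?_, ?_⟩
    · rw [hH, Subgroup.mem_smul_pointwise_iff_exists]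
      exact ⟨π M, ⟨M, hM, rfl⟩, rfl⟩
    · rw [hH, ← mul_smul, ← map_mul, Subgroup.mem_smul_pointwise_iff_exists]
      refine ⟨π (g⁻¹ * M * g), ⟨_, hMg, rfl⟩, ?_⟩
      show x * y * π (g⁻¹ * M * g) * (x * y)⁻¹ = y * π M * y⁻¹
      rw [map_mul, map_mul, map_inv, show π g = y⁻¹ * x * y from hg]
      group
  rw [hbot, Subgroup.mem_bot] at hmem
  apply hMc
  have : π M = 1 := by
    calc π M = y⁻¹ * (y * π M * y⁻¹) * y := by group
      _ = 1 := by rw [hmem]; group
  exact (QuotientGroup.eq_one_iff M).1 this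

end Cfsg.Agent.S2485
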