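import Cfsg.Statements.S2486
import Cfsg.Agent.AutPSL.Unitriangular

set_option autoImplicit false
open scoped Pointwise
open Cfsg

namespace Cfsg.Agent.S2486

section aux

open Matrix
open scoped MatrixGroups Pointwise
open CfsgLib.AutPSL (upU loU mem_upU mem_loU)

/-- If `N` has index two, its Sylow 2-subgroup `U` is self-normalising in `N`, and the `N`-conjugates of `U`
meeting `U` trivially form one `U`-orbit, then two Sylow 2-subgroups of `G` meet non-trivially. -/
theorem sylow_meet_of_index_two {S G : Type*} [Group S] [Finite S] [Group G] [Finite G] (ι : S →* G)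
    (hι : Function.Injective ι) (hnorm : ι.range.Normal) (hidx : ι.range.index = 2) (U : Subgroup S)
    (hU : Nat.card U = 2 ^ (Nat.card S).factorization 2)
    (hself : ∀ g : S, (∀ u ∈ U, g * u * g⁻¹ ∈ U) → g ∈ U)
    (hopp : ∃ w : S, ∀ g : S, (∀ u ∈ U, g⁻¹ * u * g ∈ U → u = 1) →
      ∃ u ∈ U, ∀ y, (g⁻¹ * y * g ∈ U ↔ (u * w)⁻¹ * y * (u * w) ∈ U))
    (H : Sylow 2 G) (x : G) : (H : Subgroup G) ⊓ MulAut.conj x • (H : Subgroup G) ≠ ⊥ := by
  haveI : Fact (Nat.Prime 2) := ⟨Nat.prime_two⟩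
  haveI := hnorm
  set N := ι.range with hN
  have hcN : Nat.card N = Nat.card S := (Nat.card_congr (MonoidHom.ofInjective hι).toEquiv).symm
  have hcG : Nat.card G = Nat.card S * 2 := by rw [← N.card_mul_index, hidx, hcN]
  let U₀ : Subgroup G := U.map ι
  have hcU : Nat.card U₀ = Nat.card U := Subgroup.card_map_of_injective hι
  have hSyl : ∀ Q : Sylow 2 G, Nat.card Q = 2 * Nat.card U := by
    intro Q
    rw [Q.card_eq_multiplicity, hcG, Nat.factorization_mul Nat.card_pos.ne' two_ne_zero, Finsupp.add_apply,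
      Nat.prime_two.factorization_self, pow_succ, hU, mul_comm]
  let K := Subgroup.normalizer (U₀ : Set G)
  have hmemK : ∀ {g : G}, g ∈ K → ∀ u ∈ U₀, g * u * g⁻¹ ∈ U₀ := fun hg u hu =>
    (Subgroup.mem_normalizer_iff.1 hg u).1 hu
  have hKN : ∀ g ∈ K, g ∈ N → g ∈ U₀ := by
    rintro _ hg ⟨s, rfl⟩
    refine ⟨s, hself s fun u hu => ?_, rfl⟩
    obtain ⟨u', hu', e⟩ := hmemK hg _ ⟨u, hu, rfl⟩
    rw [← map_inv, ← map_mul, ← map_mul] at e
    exact hι e ▸ hu'
  have hKcard : Nat.card K ≤ 2 * Nat.card U := by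
    have h1 := Subgroup.card_mul_index (N.subgroupOf K)
    have h2 : (N.subgroupOf K).index ≤ 2 :=
      (Nat.le_of_dvd (by omega) (Subgroup.relIndex_dvd_index_of_normal N K)).trans hidx.le
    have h3 : Nat.card (N.subgroupOf K) ≤ Nat.card U := by
      rw [← hcU]
      exact Nat.card_le_card_of_injective (fun k => (⟨k.1.1, hKN _ k.1.2 k.2⟩ : U₀))
        (fun a b h => Subtype.ext (Subtype.ext (congrArg (fun z : U₀ => (z : G)) h)))
    calc Nat.card K = _ := h1.symm
      _ ≤ Nat.card U * 2 := Nat.mul_le_mul h3 h2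
      _ = _ := mul_comm _ _
  -- every Sylow subgroup is a conjugate of `K` by an element of `N`
  have hconj : ∀ Q : Sylow 2 G, ∃ s : S, (Q : Subgroup G) = MulAut.conj (ι s) • K := by
    intro Q
    let V : Subgroup S := (Q : Subgroup G).comap ι
    have hV : IsPGroup 2 V := Q.isPGroup'.comap_of_injective ι hι
    obtain ⟨P, hVP⟩ := hV.exists_le_sylow
    obtain ⟨s, hs⟩ := MulAction.exists_smul_eq S (Sylow.ofCard U hU) P
    have hVU : Nat.card U ≤ Nat.card V := by
      have h1 := Subgroup.card_mul_index (N.subgroupOf (Q : Subgroup G))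
      have h2 : (N.subgroupOf (Q : Subgroup G)).index ≤ 2 :=
        (Nat.le_of_dvd (by omega) (Subgroup.relIndex_dvd_index_of_normal N _)).trans hidx.le
      have h3 : Nat.card (N.subgroupOf (Q : Subgroup G)) ≤ Nat.card V := by
        have hex : ∀ k : N.subgroupOf (Q : Subgroup G), ∃ t, ι t = k.1.1 := fun k => k.2
        choose t ht using hex
        exact Nat.card_le_card_of_injective (fun k => (⟨t k, show ι (t k) ∈ (Q : Subgroup G) by rw [ht]; exact k.1.2⟩ : V))
          (fun a b h => Subtype.ext (Subtype.ext (by rw [← ht, ← ht]; exact congrArg (fun z : V => ι z.1) h)))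
      have h4 := hSyl Q
      rw [← h1] at h4
      nlinarith
    have hPV : V = MulAut.conj s • U := by
      refine Subgroup.eq_of_le_of_card_ge ?_ ?_
      · intro v hv
        have := hVP hv
        rw [← hs] at this
        exact this
      · exact le_trans (le_of_eq (Nat.card_congr (Subgroup.equivSMul _ U).toEquiv).symm) hVU
    refine ⟨s, Subgroup.eq_of_le_of_card_ge ?_ ?_⟩
    · intro g hg
      rw [Subgroup.mem_pointwise_smul_iff_inv_smul_mem]
      show (MulAut.conj (ι s))⁻¹ • g ∈ K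
      refine Subgroup.mem_normalizer_fintype (S := (U₀ : Set G)) ?_
      intro u hu
      obtain ⟨u, hu', rfl⟩ := hu
      have hb : s * u * s⁻¹ ∈ V := by rw [hPV]; exact Subgroup.smul_mem_pointwise_smul u (MulAut.conj s) U hu'
      have hN' : g * ι (s * u * s⁻¹) * g⁻¹ ∈ N := hnorm.conj_mem _ ⟨_, rfl⟩ g
      obtain ⟨t, ht⟩ := hN'
      have htV : t ∈ V := by
        show ι t ∈ (Q : Subgroup G)
        rw [ht]; exact mul_mem (mul_mem hg hb) (inv_mem hg)
      rw [hPV, Subgroup.mem_smul_pointwise_iff_exists] at htV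
      obtain ⟨u', hu'', rfl⟩ := htV
      refine ⟨u', hu'', ?_⟩
      simp only [MulAut.smul_def, MulAut.conj_apply, map_mul, map_inv, MulAut.conj_inv_apply] at ht ⊢
      calc ι u' = (ι s)⁻¹ * (ι s * ι u' * (ι s)⁻¹) * ι s := by group
        _ = _ := by rw [ht]; group
    · rw [hSyl, Nat.card_congr (Subgroup.equivSMul (MulAut.conj (ι s)) K).toEquiv.symm]
      exact hKcard
  intro hbot
  obtain ⟨s, hs⟩ := hconj H
  obtain ⟨t, ht⟩ := hconj (x • H)
  have ht' : MulAut.conj x • (H : Subgroup G) = MulAut.conj (ι t) • K := ht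
  rw [hs] at hbot ht'
  rw [ht'] at hbot
  -- move everything to `K` and a conjugate `m K`
  set m : S := s⁻¹ * t with hm
  have hdisj : ∀ g ∈ K, (ι m)⁻¹ * g * ι m ∈ K → g = 1 := by
    intro g hg hg'
    have h1 : ι s * g * (ι s)⁻¹ ∈ MulAut.conj (ι s) • K ⊓ MulAut.conj (ι t) • K := by
      refine ⟨Subgroup.smul_mem_pointwise_smul g (MulAut.conj (ι s)) K hg, ?_⟩
      have e : ι s * g * (ι s)⁻¹ = MulAut.conj (ι t) • ((ι m)⁻¹ * g * ι m) := by
        rw [hm, map_mul, map_inv, MulAut.smul_def, MulAut.conj_apply]; group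
      show _ ∈ MulAut.conj (ι t) • K
      rw [e]
      exact Subgroup.smul_mem_pointwise_smul _ (MulAut.conj (ι t)) K hg'
    rw [hbot, Subgroup.mem_bot] at h1
    calc g = (ι s)⁻¹ * (ι s * g * (ι s)⁻¹) * ι s := by group
      _ = 1 := by rw [h1]; group
  have hUK : U₀ ≤ K := Subgroup.le_normalizer
  obtain ⟨w, hw⟩ := hopp
  -- the conjugates of `m U` under `K` all lie in one `U`-orbit
  have hex : ∀ k : K, ∃ g : S, (∀ y : G, ((k : G) * ι m)⁻¹ * y * ((k : G) * ι m) ∈ U₀ ↔ (ι g)⁻¹ * y * ι g ∈ U₀) ∧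
      ∀ u ∈ U, g⁻¹ * u * g ∈ U → u = 1 := by
    intro k
    obtain ⟨g, hg⟩ : (k : G) * ι m * (k : G)⁻¹ ∈ N := hnorm.conj_mem _ ⟨m, rfl⟩ _
    have hiff : ∀ y : G, ((k : G) * ι m)⁻¹ * y * ((k : G) * ι m) ∈ U₀ ↔ (ι g)⁻¹ * y * ι g ∈ U₀ := by
      intro y
      rw [show (ι g)⁻¹ * y * ι g = (k : G) * (((k : G) * ι m)⁻¹ * y * ((k : G) * ι m)) * (k : G)⁻¹ by
        rw [hg]; group]
      exact Subgroup.mem_normalizer_iff.1 k.2 _
    refine ⟨g, hiff, fun u hu hgu => ?_⟩
    have h1 : ι u ∈ K := hUK ⟨u, hu, rfl⟩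
    have h2 : ((k : G) * ι m)⁻¹ * ι u * ((k : G) * ι m) ∈ U₀ :=
      (hiff _).2 ⟨_, hgu, by simp [map_mul, map_inv]⟩
    have h3 := hdisj ((k : G)⁻¹ * ι u * k) (K.mul_mem (K.mul_mem (K.inv_mem k.2) h1) k.2) (hUK (by
      rw [show (ι m)⁻¹ * ((k : G)⁻¹ * ι u * k) * ι m = ((k : G) * ι m)⁻¹ * ι u * ((k : G) * ι m) by group]
      exact h2))
    apply hι
    rw [map_one]
    calc ι u = (k : G) * ((k : G)⁻¹ * ι u * k) * (k : G)⁻¹ := by group
      _ = 1 := by rw [h3]; group
  choose g hg1 hg2 using hex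
  choose v hv1 hv2 using fun k => hw (g k) (hg2 k)
  have hinj : Function.Injective (fun k : K => (⟨v k, hv1 k⟩ : U)) := by
    intro k k' h
    have hvv : v k = v k' := congrArg Subtype.val h
    have hgg : ∀ y : S, (g k)⁻¹ * y * g k ∈ U ↔ (g k')⁻¹ * y * g k' ∈ U := by
      intro y; rw [hv2 k y, hv2 k' y, hvv]
    have hk : ∀ y : G, ((k : G) * ι m)⁻¹ * y * ((k : G) * ι m) ∈ U₀ →
        ((k' : G) * ι m)⁻¹ * y * ((k' : G) * ι m) ∈ U₀ := by
      intro y hy
      rw [hg1 k] at hy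
      obtain ⟨u, hu, e⟩ := hy
      rw [hg1 k']
      refine ⟨(g k')⁻¹ * (g k * u * (g k)⁻¹) * g k', ?_, ?_⟩
      · exact (hgg _).1 (by simpa [mul_assoc] using hu)
      · simp only [map_mul, map_inv, e]; group
    have hq : ((k' : G) * ι m)⁻¹ * ((k : G) * ι m) ∈ K := by
      refine Subgroup.mem_normalizer_fintype (S := (U₀ : Set G)) ?_
      intro u hu
      have := hk ((k : G) * ι m * u * ((k : G) * ι m)⁻¹) (by simpa [mul_assoc] using hu)
      simpa [mul_assoc] using this
    have h1 := hdisj ((k' : G)⁻¹ * k) (K.mul_mem (K.inv_mem k'.2) k.2)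
      (by rwa [show ((k' : G) * ι m)⁻¹ * ((k : G) * ι m) = (ι m)⁻¹ * ((k' : G)⁻¹ * k) * ι m by group] at hq)
    exact Subtype.ext (inv_mul_eq_one.1 h1).symm
  have h1 := Nat.card_le_card_of_injective _ hinj
  have h2 : Nat.card K = 2 * Nat.card U := by
    have h := hSyl H
    rw [Nat.card_congr (Subgroup.equivSMul (MulAut.conj (ι s)) K).toEquiv, ← hs]
    exact h
  have : 0 < Nat.card U := Nat.card_pos
  omega

variable {n : ℕ}

theorem normalizer_upU (g : SL(n, ZMod 2)) (hg : ∀ u ∈ upU n (ZMod 2), g * u * g⁻¹ ∈ upU n (ZMod 2)) :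
    g ∈ upU n (ZMod 2) := by
  classical
  set A : Matrix (Fin n) (Fin n) (ZMod 2) := (g : Matrix (Fin n) (Fin n) (ZMod 2))
  set B : Matrix (Fin n) (Fin n) (ZMod 2) := ((g⁻¹ : SL(n, ZMod 2)) : Matrix (Fin n) (Fin n) (ZMod 2))
  have hBA : B * A = 1 := by
    rw [← Matrix.SpecialLinearGroup.coe_mul, inv_mul_cancel, Matrix.SpecialLinearGroup.coe_one]
  have hzero : ∀ a b : Fin n, a < b → ∀ i j : Fin n, j ≤ i → A i a * B b j = 0 := by
    intro a b hab i j hji
    have hmem : Matrix.SpecialLinearGroup.transvection hab.ne (1 : ZMod 2) ∈ upU n (ZMod 2) := by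
      rw [mem_upU]
      intro r c hrc
      rw [Matrix.SpecialLinearGroup.transvection_coe]
      simp [Matrix.one_apply, Matrix.single_apply]
      intro h1 h2
      subst h1; subst h2
      exact absurd hab (not_lt.2 hrc)
    have h := mem_upU.1 (hg _ hmem) i j hji
    rw [Matrix.SpecialLinearGroup.coe_mul, Matrix.SpecialLinearGroup.coe_mul, Matrix.SpecialLinearGroup.transvection_coe,
      mul_add, mul_one, add_mul] at h
    have hAB : A * B = 1 := by
      rw [← Matrix.SpecialLinearGroup.coe_mul, mul_inv_cancel, Matrix.SpecialLinearGroup.coe_one]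
    rw [Matrix.add_apply, hAB, Matrix.one_apply, add_eq_left] at h
    rwa [Matrix.mul_apply, Finset.sum_eq_single b, Matrix.mul_single_apply_same, mul_one] at h
    · intro c _ hc
      rw [Matrix.mul_single_apply_of_ne _ _ _ _ _ hc, zero_mul]
    · simp
  have hex : ∀ a : Fin n, ∃ i : Fin n, A i a ≠ 0 ∧ B a i ≠ 0 := by
    intro a
    have h := congrFun (congrFun hBA a) a
    rw [Matrix.mul_apply, Matrix.one_apply_eq] at h
    obtain ⟨i, -, hi⟩ := Finset.exists_ne_zero_of_sum_ne_zero (h.trans_ne one_ne_zero)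
    exact ⟨i, right_ne_zero_of_mul hi, left_ne_zero_of_mul hi⟩
  choose c hcA hcB using hex
  have hmono : StrictMono c := by
    intro a b hab
    by_contra h
    exact (mul_ne_zero (hcA a) (hcB b)) (hzero a b hab _ _ (not_lt.1 h))
  have hmax : ∀ a i : Fin n, A i a ≠ 0 → ∀ b, a < b → i < c b := by
    intro a i hi b hb
    by_contra h
    exact (mul_ne_zero hi (hcB b)) (hzero a b hb _ _ (not_lt.1 h))
  have hid : ∀ a, c a = a := fun a =>
    congrFun (show c = id from hmono.range_inj strictMono_id |>.1 (by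
      rw [Set.range_id]; exact (Finite.injective_iff_surjective.1 hmono.injective).range_eq)) a
  have htri : ∀ i a : Fin n, a < i → A i a = 0 := by
    intro i a hai
    by_contra h
    have := hmax a i h i hai
    rw [hid] at this
    exact lt_irrefl _ this
  rw [mem_upU]
  intro i j hji
  rcases hji.lt_or_eq with h | h
  · rw [if_neg h.ne']; exact htri i j h
  · subst h
    rw [if_pos rfl]
    have h := hcA j
    rw [hid] at h
    revert h
    show A j j ≠ 0 → A j j = 1
    generalize A j j = z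
    revert z
    decide

theorem opp_orbit : ∃ w : SL(n, ZMod 2), ∀ g : SL(n, ZMod 2),
    (∀ u ∈ upU n (ZMod 2), g⁻¹ * u * g ∈ upU n (ZMod 2) → u = 1) →
    ∃ u ∈ upU n (ZMod 2), ∀ y, (g⁻¹ * y * g ∈ upU n (ZMod 2) ↔ (u * w)⁻¹ * y * (u * w) ∈ upU n (ZMod 2)) := by
  obtain ⟨w, hw⟩ := CfsgLib.AutPSL.exists_conj_upU_eq_loU (n := n) (F := ZMod 2)
  have hlo : ∀ y, y ∈ loU n (ZMod 2) ↔ w⁻¹ * y * w ∈ upU n (ZMod 2) := by
    intro y
    rw [← hw, Subgroup.mem_map_equiv, MulAut.conj_symm_apply]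
  refine ⟨w, fun g hg => ?_⟩
  obtain ⟨u, hu, he⟩ := CfsgLib.AutPSL.exists_upU_conj_of_inf_eq_bot (g * w⁻¹) (fun x hx hx' => hg x hx (by
    have := (hlo _).1 hx'
    simpa [mul_assoc] using this))
  refine ⟨u, hu, fun y => ?_⟩
  have h := SetLike.ext_iff.1 he y
  rw [Subgroup.mem_map_equiv, Subgroup.mem_map_equiv, MulAut.conj_symm_apply, MulAut.conj_symm_apply, hlo, hlo] at h
  simpa [mul_assoc] using h

end aux

/-- Let n ≥ 4 and let G be a finite group with a normal subgroup N of index 2 isomorphic to SL(n,2) and with trivial centralizer in G (so G is the extension of the simple group L_n(2) by its inverse-transpose automorphism, its full automorphism group). Then any two Sylow 2-subgroups of G have a non-trivial intersection: for a Sylow 2-subgroup H and every x ∈ G, H ∩ H^x ≠ 1. -/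
theorem result {G : Type*} [Group G] [Finite G] {n : ℕ} (hn : 4 ≤ n) (N : Subgroup G) [N.Normal]
    (e : N ≃* Matrix.SpecialLinearGroup (Fin n) (ZMod 2)) (hidx : N.index = 2)
    (hC : Subgroup.centralizer (N : Set G) = ⊥)
    (H : Sylow 2 G) (x : G) :
    (H : Subgroup G) ⊓ MulAut.conj x • (H : Subgroup G) ≠ ⊥ := by
  let ι : Matrix.SpecialLinearGroup (Fin n) (ZMod 2) →* G := N.subtype.comp e.symm.toMonoidHom
  have hι : Function.Injective ι := N.subtype_injective.comp e.symm.injective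
  have hrange : ι.range = N := by
    ext g
    constructor
    · rintro ⟨s, rfl⟩; exact (e.symm s).2
    · intro hg; exact ⟨e ⟨g, hg⟩, by simp [ι]⟩
  have hU : Nat.card (CfsgLib.AutPSL.upU n (ZMod 2)) =
      2 ^ (Nat.card (Matrix.SpecialLinearGroup (Fin n) (ZMod 2))).factorization 2 :=
    CfsgLib.AutPSL.card_upU_eq_ppart 2
  exact sylow_meet_of_index_two ι hι (by rw [hrange]; infer_instance) (by rw [hrange]; exact hidx)
    (CfsgLib.AutPSL.upU n (ZMod 2)) hU normalizer_upU opp_orbit H x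

end Cfsg.Agent.S2486
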