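import Cfsg.Statements.S2487
import Cfsg.Agent.Dickson.Matrix
import Cfsg.Agent.SylowMeet.Stable

set_option autoImplicit false
open scoped Pointwise
open Cfsg

namespace Cfsg.Agent.S2487

/-- Let m ≥ 4 and let G be the full isometry group of the hyperbolic quadratic form x₁y₁ + ⋯ + x_m y_m on the 2m-dimensional space over the field with 2 elements (the orthogonal group O⁺(2m,2), which contains Ω⁺(2m,2) with index 2). Then any two Sylow 2-subgroups of G have a non-trivial intersection: for a Sylow 2-subgroup H and every x ∈ G, H ∩ H^x ≠ 1. -/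
theorem result {F : Type*} [Field F] [Fintype F] (hF : Fintype.card F = 2) {m : ℕ} (hm : 4 ≤ m)
    (H : Sylow 2 (Cfsg.isometryGroup F (Cfsg.quadFormPlus m F)))
    (x : Cfsg.isometryGroup F (Cfsg.quadFormPlus m F)) :
    (H : Subgroup (Cfsg.isometryGroup F (Cfsg.quadFormPlus m F))) ⊓ MulAut.conj x • (H : Subgroup _) ≠ ⊥ := by
  haveI : Fact (Nat.Prime 2) := ⟨Nat.prime_two⟩
  haveI : CharP F 2 := charP_of_card_eq_prime hF
  let e : Cfsg.isometryGroup F (Cfsg.quadFormPlus m F) ≃* CfsgLib.Dickson.orth (CfsgLib.Dickson.plusForm m F) :=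
    (MulEquiv.subgroupCongr (by rw [CfsgLib.Dickson.plusForm_coe])).trans (CfsgLib.Dickson.toOrth _)
  haveI : Finite (CfsgLib.Dickson.orth (CfsgLib.Dickson.plusForm m F)) := CfsgLib.SylowMeet.finite_orth
  obtain ⟨k, rfl⟩ : ∃ k, m = k + 1 := ⟨m - 1, by omega⟩
  let f : (Fin (k + 1) ⊕ Fin (k + 1) → F) →ₗ[F] (Fin (k + 1) → F) := LinearMap.funLeft F F Sum.inr
  have hf : Function.Surjective f := LinearMap.funLeft_surjective_of_injective F F _ Sum.inr_injective
  have hU : ∀ u ∈ LinearMap.ker f, CfsgLib.Dickson.plusForm (k + 1) F u = 0 := by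
    intro u hu
    rw [CfsgLib.Dickson.plusForm_coe]
    refine Finset.sum_eq_zero fun i _ => ?_
    rw [show u (Sum.inr i) = 0 from congrFun (LinearMap.mem_ker.1 hu) i, mul_zero]
  have hd : Module.finrank F (Fin (k + 1) ⊕ Fin (k + 1) → F) = 2 * (k + 1) := by
    rw [Module.finrank_fintype_fun_eq_card, Fintype.card_sum, Fintype.card_fin]; omega
  have hUd : Module.finrank F (LinearMap.ker f) = k + 1 := by
    have h := LinearMap.finrank_range_add_finrank_ker f
    rw [LinearMap.range_eq_top.2 hf, finrank_top, hd, Module.finrank_fintype_fun_eq_card, Fintype.card_fin] at h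
    omega
  obtain ⟨g, hg1, hg₁, hg₂⟩ := CfsgLib.SylowMeet.sylow_meet (Q := CfsgLib.Dickson.plusForm (k + 1) F)
    (by rw [Nat.card_eq_fintype_card, hF]) (CfsgLib.Dickson.plusForm_nondegenerate _) hd (LinearMap.ker f) hU hUd
    (H.mapSurjective (f := e.toMonoidHom) e.surjective) ((x • H).mapSurjective (f := e.toMonoidHom) e.surjective)
  intro hbot
  obtain ⟨a, ha, rfl⟩ := hg₁
  obtain ⟨b, hb, hab⟩ := hg₂
  rw [e.injective hab] at hb
  have hmem : a ∈ (H : Subgroup _) ⊓ MulAut.conj x • (H : Subgroup _) := ⟨ha, hb⟩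
  rw [hbot, Subgroup.mem_bot] at hmem
  exact hg1 (by rw [hmem, map_one])

end Cfsg.Agent.S2487
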