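import Cfsg.Statements.S2488
import Mathlib

set_option autoImplicit false
open scoped Pointwise
open Cfsg

namespace Cfsg.Agent.S2488

section aux

open Equiv

/-- A reference involution. -/
def a₀ : Perm (Fin 6) := swap 0 1 * swap 2 3

theorem a₀_mem : a₀ ∈ alternatingGroup (Fin 6) := by
  rw [Equiv.Perm.mem_alternatingGroup]; decide +kernel

theorem base_facts :
    (Finset.univ.filter fun t : alternatingGroup (Fin 6) => ∃ g, g * ⟨a₀, a₀_mem⟩ * g⁻¹ = t).card = 45 ∧
    (∀ t : alternatingGroup (Fin 6), t ≠ 1 → t * t = 1 → ∃ g, g * ⟨a₀, a₀_mem⟩ * g⁻¹ = t) ∧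
    (Finset.univ.filter fun t : alternatingGroup (Fin 6) => t * t = 1 ∧
      (∀ c, c ≠ 1 → c * ⟨a₀, a₀_mem⟩ = ⟨a₀, a₀_mem⟩ * c → c * t ≠ t * c) ∧
      (⟨a₀, a₀_mem⟩ * t) ^ 5 = 1).card < 32 ∧
    (Finset.univ.filter fun t : alternatingGroup (Fin 6) => t * t = 1 ∧
      (∀ c, c ≠ 1 → c * ⟨a₀, a₀_mem⟩ = ⟨a₀, a₀_mem⟩ * c → c * t ≠ t * c) ∧
      (⟨a₀, a₀_mem⟩ * t) ^ 5 ≠ 1).card < 32 := by
  decide +kernel

/-- Involutions `t` with `C(a) ∩ C(t) = 1`. -/
def Opp (a t : alternatingGroup (Fin 6)) : Prop := t * t = 1 ∧ ∀ c, c ≠ 1 → c * a = a * c → c * t ≠ t * c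

theorem opp_conj (g a t : alternatingGroup (Fin 6)) (h : Opp a t) : Opp (g * a * g⁻¹) (g * t * g⁻¹) := by
  refine ⟨?_, fun c hc1 hca hct => h.2 (g⁻¹ * c * g) ?_ ?_ ?_⟩
  · calc _ = g * (t * t) * g⁻¹ := by group
      _ = 1 := by rw [h.1]; group
  · intro e; apply hc1
    calc c = g * (g⁻¹ * c * g) * g⁻¹ := by group
      _ = 1 := by rw [e]; group
  · calc _ = g⁻¹ * (c * (g * a * g⁻¹)) * g := by group
      _ = _ := by rw [hca]; group
  · calc _ = g⁻¹ * (c * (g * t * g⁻¹)) * g := by group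
      _ = _ := by rw [hct]; group

theorem alt_six (a : alternatingGroup (Fin 6)) (h1 : a ≠ 1) (h2 : a * a = 1) :
    45 ≤ Nat.card {t : alternatingGroup (Fin 6) // ∃ g, g * a * g⁻¹ = t} ∧
    (∀ P : Prop, Nat.card {t : alternatingGroup (Fin 6) // Opp a t ∧ ((a * t) ^ 5 = 1 ↔ P)} < 32) := by
  classical
  obtain ⟨hA, hB, hC, hD⟩ := base_facts
  obtain ⟨g, rfl⟩ := hB a h1 h2
  set a' : alternatingGroup (Fin 6) := ⟨a₀, a₀_mem⟩ with ha'
  constructor
  · refine le_of_eq (hA.symm.trans ?_)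
    rw [← Fintype.card_subtype, Fintype.card_eq_nat_card]
    exact Nat.card_congr (Equiv.subtypeEquivRight fun t =>
      ⟨fun ⟨k, hk⟩ => ⟨k * g⁻¹, by rw [← hk]; group⟩, fun ⟨k, hk⟩ => ⟨k * g, by rw [← hk]; group⟩⟩)
  · intro P
    let S : Finset (alternatingGroup (Fin 6)) :=
      Finset.univ.filter fun t => Opp a' t ∧ ((a' * t) ^ 5 = 1 ↔ P)
    have hS : S.card < 32 := by
      by_cases hP : P
      · refine lt_of_le_of_lt (Finset.card_le_card fun t ht => ?_) hC
        obtain ⟨⟨u, v⟩, w⟩ := (Finset.mem_filter.1 ht).2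
        exact Finset.mem_filter.2 ⟨Finset.mem_univ _, u, v, w.2 hP⟩
      · refine lt_of_le_of_lt (Finset.card_le_card fun t ht => ?_) hD
        obtain ⟨⟨u, v⟩, w⟩ := (Finset.mem_filter.1 ht).2
        exact Finset.mem_filter.2 ⟨Finset.mem_univ _, u, v, fun e => hP (w.1 e)⟩
    refine lt_of_le_of_lt ?_ hS
    rw [← Nat.card_eq_finsetCard S]
    refine Nat.card_le_card_of_injective (fun t => ⟨g⁻¹ * t.1 * g, ?_⟩) ?_
    · refine Finset.mem_filter.2 ⟨Finset.mem_univ _, ?_, ?_⟩
      · simpa [mul_assoc] using opp_conj g⁻¹ _ _ t.2.1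
      · refine Iff.trans ?_ t.2.2
        rw [show a' * (g⁻¹ * t.1 * g) = g⁻¹ * (g * a' * g⁻¹ * t.1) * g⁻¹⁻¹ by group, conj_pow,
          mul_inv_eq_one]
        simp
    · intro t t' h
      have := congrArg Subtype.val h
      simp at this
      exact Subtype.ext this

/-- A nontrivial normal subgroup of a finite `p`-group meets the centre. -/
theorem exists_ne_one_center {G : Type*} [Group G] [Finite G] (K N : Subgroup G) [N.Normal]
    (hK : IsPGroup 2 K) [Nontrivial (N.subgroupOf K)] :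
    ∃ u : K, u ≠ 1 ∧ u ∈ N.subgroupOf K ⊓ Subgroup.center K := by
  haveI : Fact (Nat.Prime 2) := ⟨Nat.prime_two⟩
  let M := N.subgroupOf K
  have hM : IsPGroup 2 (ConjAct K) := hK
  have h2 : 2 ∣ Nat.card M := by
    have h := (hK.to_subgroup M).exists_card_eq
    obtain ⟨n, hn⟩ := h
    have hgt : 1 < Nat.card M := Finite.one_lt_card
    rw [hn] at hgt ⊢
    refine dvd_pow_self 2 ?_
    rintro rfl
    simp at hgt
  have hfix : (1 : M) ∈ MulAction.fixedPoints (ConjAct K) M := by
    intro k; exact smul_one k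
  obtain ⟨u, hu, hne⟩ := hM.exists_fixed_point_of_prime_dvd_card_of_fixed_point M h2 hfix
  refine ⟨u.1, fun h => hne (Subtype.ext h.symm), u.2, Subgroup.mem_center_iff.2 fun k => ?_⟩
  have := congrArg Subtype.val (hu (ConjAct.toConjAct k))
  rw [ConjAct.Subgroup.val_conj_smul, ConjAct.toConjAct_smul] at this
  exact mul_inv_eq_iff_eq_mul.1 this

theorem exists_central_involution {G : Type*} [Group G] [Finite G] (K N : Subgroup G) [N.Normal]
    (hK : IsPGroup 2 K) [Nontrivial (N.subgroupOf K)] :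
    ∃ z : K, z.1 ∈ N ∧ z.1 ≠ 1 ∧ (∀ k : K, k.1 * z.1 = z.1 * k.1) ∧ z.1 * z.1 = 1 := by
  obtain ⟨u, hu1, hu2⟩ := exists_ne_one_center K N hK
  have hp : ∃ n, orderOf u = 2 ^ n := (IsPGroup.iff_orderOf.1 hK) u
  obtain ⟨n, hn⟩ := hp
  obtain ⟨m, rfl⟩ : ∃ m, n = m + 1 := ⟨n - 1, by
    rcases n with _ | n
    · rw [pow_zero, orderOf_eq_one_iff] at hn; exact absurd hn hu1
    · rfl⟩
  set z := u ^ 2 ^ m with hz
  have hzo : orderOf z = 2 := by
    rw [hz, orderOf_pow' _ (by positivity), hn, Nat.gcd_eq_right (pow_dvd_pow 2 (by omega)), pow_succ,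
      Nat.mul_div_cancel_left _ (by positivity)]
  have hzmem : z ∈ N.subgroupOf K ⊓ Subgroup.center K := pow_mem hu2 _
  refine ⟨z, hzmem.1, ?_, fun k => congrArg Subtype.val (Subgroup.mem_center_iff.1 hzmem.2 k), ?_⟩
  · intro h
    have : z = 1 := Subtype.ext h
    rw [this, orderOf_one] at hzo
    exact absurd hzo (by norm_num)
  · have := pow_orderOf_eq_one z
    rw [hzo, pow_two] at this
    exact congrArg Subtype.val this

end aux

/-- Let G be a finite group with a normal subgroup N of index 4 isomorphic to the alternating group of degree 6 and with trivial centralizer in G (so G is the full automorphism group of A₆). Then any two Sylow 2-subgroups of G have a non-trivial intersection: for a Sylow 2-subgroup H and every x ∈ G, H ∩ H^x ≠ 1. -/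
theorem result {G : Type*} [Group G] [Finite G] (N : Subgroup G) [N.Normal]
    (e : N ≃* alternatingGroup (Fin 6)) (hidx : N.index = 4)
    (hC : Subgroup.centralizer (N : Set G) = ⊥)
    (H : Sylow 2 G) (x : G) :
    (H : Subgroup G) ⊓ MulAut.conj x • (H : Subgroup G) ≠ ⊥ := by
  intro hbot
  haveI : Fact (Nat.Prime 2) := ⟨Nat.prime_two⟩
  have hN : Nat.card N = 360 := by
    rw [Nat.card_congr e.toEquiv, nat_card_alternatingGroup, Nat.card_eq_fintype_card, Fintype.card_fin]
    rfl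
  have hG : Nat.card G = 1440 := by rw [← N.card_mul_index, hN, hidx]
  have hH : Nat.card H = 32 := by
    have hf : Nat.factorization 1440 2 = 5 := by
      rw [show (1440 : ℕ) = 2 ^ 5 * 45 by norm_num, Nat.factorization_mul (by norm_num) (by norm_num)]
      rw [Finsupp.add_apply, Nat.prime_two.factorization_pow, Nat.factorization_eq_zero_of_not_dvd (n := 45) (by norm_num)]
      simp
    rw [H.card_eq_multiplicity, hG, hf]; rfl
  set K := (H : Subgroup G) with hK
  -- a central involution of the Sylow subgroup inside `N`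
  haveI : Nontrivial (N.subgroupOf K) := by
    rw [Subgroup.nontrivial_iff_ne_bot]
    intro hb
    have hdis : Disjoint K N := by
      rw [disjoint_iff, eq_bot_iff]
      intro y hy
      have : (⟨y, hy.1⟩ : K) ∈ N.subgroupOf K := hy.2
      rw [hb, Subgroup.mem_bot] at this
      exact congrArg Subtype.val this
    have hinj : Function.Injective (fun w : K × N => (w.1 : G) * (w.2 : G)) :=
      Subgroup.mul_injective_of_disjoint hdis
    have := Nat.card_le_card_of_injective _ hinj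
    rw [Nat.card_prod, hH, hN, hG] at this
    omega
  obtain ⟨z, hzN, hzne, hzc, hz2⟩ := exists_central_involution K N H.isPGroup'
  have hzK : z.1 ∈ K := z.2
  set zN : N := ⟨z.1, hzN⟩
  set a := e zN with ha
  have ha1 : a ≠ 1 := fun h => hzne (congrArg Subtype.val (e.map_eq_one_iff.1 h))
  have ha2 : a * a = 1 := by
    rw [ha, ← map_mul, show zN * zN = 1 from Subtype.ext hz2, map_one]
  obtain ⟨hbig, hsmall⟩ := alt_six a ha1 ha2
  -- the centraliser of `z` is `K`
  let orb : Set G := Set.range fun g : G => g * z.1 * g⁻¹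
  have hcent : ∀ g : G, g * z.1 * g⁻¹ = z.1 → g ∈ K := by
    set C := Subgroup.centralizer ({z.1} : Set G) with hC
    have hKC : K ≤ C := by
      intro k hk
      rw [hC, Subgroup.mem_centralizer_singleton_iff]
      exact hzc ⟨k, hk⟩
    have hinj : Function.Injective
        (fun t : {t : alternatingGroup (Fin 6) // ∃ g, g * a * g⁻¹ = t} => (e.symm t.1 : G)) :=
      fun t t' h => Subtype.ext (e.symm.injective (Subtype.ext h))
    have hmem : ∀ t : {t : alternatingGroup (Fin 6) // ∃ g, g * a * g⁻¹ = t},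
        (e.symm t.1 : G) ∈ MulAction.orbit (ConjAct G) z.1 := by
      rintro ⟨t, g, rfl⟩
      refine ⟨ConjAct.toConjAct (e.symm g : G), ?_⟩
      simp [ConjAct.smul_def, ha, zN]
    have h45 : 45 ≤ Nat.card (MulAction.orbit (ConjAct G) z.1) :=
      hbig.trans (Nat.card_le_card_of_injective (fun t => ⟨_, hmem t⟩) (Function.Injective.of_comp (f := Subtype.val) hinj))
    have horb : Nat.card (MulAction.orbit (ConjAct G) z.1) * Nat.card C = 1440 := by
      have hstab : Nat.card (MulAction.stabilizer (ConjAct G) z.1) = Nat.card C :=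
        Nat.card_congr (Equiv.subtypeEquiv ConjAct.ofConjAct.toEquiv fun g => by
          rw [MulAction.mem_stabilizer_iff, hC, Subgroup.mem_centralizer_singleton_iff, ConjAct.smul_def]
          exact mul_inv_eq_iff_eq_mul)
      rw [← hstab, ← Nat.card_prod, Nat.card_congr (MulAction.orbitProdStabilizerEquivGroup (ConjAct G) z.1), ← hG]
      exact Nat.card_congr ConjAct.ofConjAct.toEquiv
    have h32 : 32 ∣ Nat.card C := hH ▸ Subgroup.card_dvd_of_le hKC
    have hle : Nat.card C ≤ 32 := by nlinarith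
    have heq : K = C := Subgroup.eq_of_le_of_card_ge hKC (by rw [hH]; exact hle)
    intro g hg
    rw [heq, hC, Subgroup.mem_centralizer_singleton_iff]
    exact mul_inv_eq_iff_eq_mul.1 hg
  -- the orbit of the second involution under `K` is too large
  set w : G := x * z.1 * x⁻¹ with hw
  have hwN : ∀ k : G, k * w * k⁻¹ ∈ N := fun k =>
    ‹N.Normal›.conj_mem _ (‹N.Normal›.conj_mem _ hzN x) k
  let f : K → alternatingGroup (Fin 6) := fun k => e ⟨_, hwN k⟩
  have hC' : ∀ g : G, g ∈ K → g * w * g⁻¹ = w → g = 1 := by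
    intro g hg hgw
    have h1 : x⁻¹ * g * x ∈ K := by
      apply hcent
      calc x⁻¹ * g * x * z.1 * (x⁻¹ * g * x)⁻¹ = x⁻¹ * (g * w * g⁻¹) * x := by rw [hw]; group
        _ = z.1 := by rw [hgw, hw]; group
    have h2 : g ∈ MulAut.conj x • K := by
      rw [Subgroup.mem_smul_pointwise_iff_exists]
      exact ⟨_, h1, by simp [mul_assoc]⟩
    have h3 : g ∈ K ⊓ MulAut.conj x • K := ⟨hg, h2⟩
    rw [hbot] at h3
    exact h3
  have hf : Function.Injective f := by
    intro k k' h
    have h' : (k : G) * w * (k : G)⁻¹ = k' * w * (k' : G)⁻¹ := congrArg Subtype.val (e.injective h)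
    have := hC' ((k' : G)⁻¹ * k) (K.mul_mem (K.inv_mem k'.2) k.2)
      (by calc _ = (k' : G)⁻¹ * ((k : G) * w * (k : G)⁻¹) * k' := by group
           _ = _ := by rw [h']; group)
    exact Subtype.ext (inv_mul_eq_one.1 this).symm
  have hfmem : ∀ k : K, f k * f k = 1 ∧ ∀ c, c ≠ 1 → c * a = a * c → c * f k ≠ f k * c := by
    intro k
    constructor
    · show e ⟨_, hwN k⟩ * e ⟨_, hwN k⟩ = 1
      rw [← map_mul, e.map_eq_one_iff]
      apply Subtype.ext
      show (k : G) * w * (k : G)⁻¹ * ((k : G) * w * (k : G)⁻¹) = 1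
      rw [hw]
      calc _ = (k : G) * x * (z.1 * z.1) * x⁻¹ * (k : G)⁻¹ := by group
        _ = 1 := by rw [hz2]; group
    · intro c hc hca hcf
      obtain ⟨d, rfl⟩ := e.surjective c
      apply hc
      rw [e.map_eq_one_iff]
      have h1 : (d : G) * z.1 = z.1 * d :=
        congrArg Subtype.val (e.injective (by rw [map_mul, map_mul]; exact hca : e (d * zN) = e (zN * d)))
      have h2 : (d : G) * ((k : G) * w * (k : G)⁻¹) = (k : G) * w * (k : G)⁻¹ * d :=
        congrArg Subtype.val (e.injective (by rw [map_mul, map_mul]; exact hcf : e (d * ⟨_, hwN k⟩) = e (⟨_, hwN k⟩ * d)))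
      have hd : (d : G) ∈ K := hcent _ (by rw [h1]; group)
      have h3 := hC' ((k : G)⁻¹ * d * k) (K.mul_mem (K.mul_mem (K.inv_mem k.2) hd) k.2) (by
        calc _ = (k : G)⁻¹ * ((d : G) * ((k : G) * w * (k : G)⁻¹)) * (d : G)⁻¹ * k := by group
          _ = _ := by rw [h2]; group)
      apply Subtype.ext
      calc (d : G) = (k : G) * ((k : G)⁻¹ * d * k) * (k : G)⁻¹ := by group
        _ = 1 := by rw [h3]; group
  have hpow : ∀ k : K, ((a * f k) ^ 5 = 1 ↔ (z.1 * w) ^ 5 = 1) := by
    intro k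
    show (e zN * e ⟨_, hwN k⟩) ^ 5 = 1 ↔ _
    rw [← map_mul, ← map_pow, e.map_eq_one_iff, Subtype.ext_iff, Subgroup.coe_pow, Subgroup.coe_mul,
      Subgroup.coe_one, show (zN : G) = z.1 from rfl]
    rw [show z.1 * ((k : G) * w * (k : G)⁻¹) = (k : G) * (z.1 * w) * (k : G)⁻¹ by
      calc _ = (z.1 * (k : G)) * w * (k : G)⁻¹ := by group
        _ = _ := by rw [← hzc k]; group, conj_pow, mul_inv_eq_one]
    simp
  have := Nat.card_le_card_of_injective
    (fun k : K => (⟨f k, hfmem k, hpow k⟩ :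
      {t : alternatingGroup (Fin 6) // Opp a t ∧ ((a * t) ^ 5 = 1 ↔ (z.1 * w) ^ 5 = 1)}))
    fun k k' h => hf (congrArg Subtype.val h)
  rw [hH] at this
  have := hsmall ((z.1 * w) ^ 5 = 1)
  omega

end Cfsg.Agent.S2488
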