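import Cfsg.Statements.S2493
import Cfsg.Agent.AltDoubleCover.Comb

set_option autoImplicit false
open Cfsg

namespace Cfsg.Agent.S2493

open CfsgLib.AltDoubleCover in
/-- Let n ≥ 5 and let G be a finite perfect group whose centre has order 2 with G/Z(G) isomorphic to the alternating group of degree n (the double cover of the alternating group). Then every element of G is a commutator. -/
theorem result {G : Type*} [Group G] [Finite G] (hperf : commutator G = ⊤) {n : ℕ} (hn : 5 ≤ n)
    (hZ : Nat.card (Subgroup.center G) = 2) (e : G ⧸ Subgroup.center G ≃* alternatingGroup (Fin n))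
    (g : G) :
    ∃ a b : G, a * b * a⁻¹ * b⁻¹ = g := by
  have : Nontrivial (Subgroup.center G) := Finite.one_lt_card_iff_nontrivial.1 (by omega)
  obtain ⟨z, hz⟩ := exists_ne (1 : Subgroup.center G)
  let f : G →* alternatingGroup (Fin n) := e.toMonoidHom.comp (QuotientGroup.mk' (Subgroup.center G))
  have hmem : ∀ x : G, f x = 1 ↔ x ∈ Subgroup.center G := fun x => by
    show e (x : G ⧸ Subgroup.center G) = 1 ↔ _
    rw [MulEquiv.map_eq_one_iff, QuotientGroup.eq_one_iff]
  have hcases : ∀ c : Subgroup.center G, c = 1 ∨ c = z := fun c => by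
    obtain ⟨a, b, -, hu⟩ := Nat.card_eq_two_iff.1 hZ
    have h : ∀ d : Subgroup.center G, d = a ∨ d = b := fun d => by
      have := Set.mem_univ d
      rw [← hu] at this
      simpa using this
    rcases h c with rfl | rfl <;> rcases h 1 with h1 | h1 <;> rcases h z with h2 | h2 <;> simp_all
  have hsq : (z : G) * z = 1 := by
    rcases hcases (z * z) with h | h
    · simpa using congrArg (Subgroup.subtype _) h
    · exact absurd (mul_eq_left.1 h) hz
  have H : IsDoubleCover f (z : G) := {
    surj := e.surjective.comp (QuotientGroup.mk'_surjective _)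
    central := fun x => Subgroup.mem_center_iff.1 z.2 x
    ne := fun h => hz (Subtype.ext h)
    sq := hsq
    ker := fun x hx => (hcases ⟨x, (hmem x).1 hx⟩).imp (congrArg Subtype.val) (congrArg Subtype.val)
    map_z := (hmem _).2 z.2
    perfect := hperf }
  exact exists_commutator H hn (hasPair_of_even hn (Equiv.Perm.mem_alternatingGroup.1 (f g).2))

end Cfsg.Agent.S2493
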