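import Cfsg.Statements.S2500
import Cfsg.Agent.NormalCover.Linear
import Cfsg.Agent.NormalCover.UFour
import Cfsg.Agent.NormalCover.UThree
import Cfsg.Agent.NormalCover.SympEven
import Cfsg.Agent.NormalCover.SpSix
import Cfsg.Agent.NormalCover.GTwo

set_option autoImplicit false
open Cfsg

namespace Cfsg.Agent.S2500

open Polynomial in
/-- Degrees of items of total size at most four without linear items. -/
theorem degrees {F : Type} [Field F] {D : Multiset (CfsgLib.ClassCount.Item F)} {N : ℕ}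
    (hD : ∀ it ∈ D, CfsgLib.ClassCount.IsItem it) (hs : CfsgLib.ClassCount.size D = N)
    (h2 : ∀ it ∈ D, 2 ≤ it.1.natDegree) (it : CfsgLib.ClassCount.Item F) (hit : it ∈ D) :
    it.1.natDegree ≤ N ∧ (it.1.natDegree + 1 ≠ N) := by
  obtain ⟨R, rfl⟩ := Multiset.exists_cons_of_mem hit
  rw [CfsgLib.ClassCount.size, Multiset.map_cons, Multiset.sum_cons] at hs
  have he := (hD it hit).pos
  have hd := h2 it hit
  rcases R.empty_or_exists_mem with rfl | ⟨j, hj⟩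
  · simp at hs
    rcases Nat.lt_or_ge it.2 2 with h1 | h1
    · rw [show it.2 = 1 by omega, mul_one] at hs
      omega
    · have := Nat.mul_le_mul_left it.1.natDegree h1
      omega
  · have hj2 := h2 j (Multiset.mem_cons_of_mem hj)
    have hje := (hD j (Multiset.mem_cons_of_mem hj)).pos
    have h5 := Multiset.le_sum_of_mem (Multiset.mem_map_of_mem (fun it => it.1.natDegree * it.2) hj)
    have h6 := Nat.le_mul_of_pos_right it.1.natDegree he
    have h7 := Nat.le_mul_of_pos_right j.1.natDegree hje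
    omega

/-- The infinite families of simple groups with normal covering number 2. For a finite field F: each of PSL_2(F) (|F| ≥ 4), PSL_3(F), PSL_4(F), PSU_4 over F (|F| = q²), PSU_3 over F when |F| = q² with q a power of 3, PSp_{2m}(F) for |F| even, m ≥ 2 and (m, |F|) ≠ (2, 2), PSp_6(F) for |F| a power of 3, and G_2(F) (automorphisms of the split octonions) for |F| = 2^a ≥ 4 is the union of the conjugates of two proper subgroups: there are proper subgroups H, K such that every element is conjugate into H or into K. -/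
theorem result {F : Type} [Field F] [Fintype F] :
    (4 ≤ Fintype.card F → (∃ H K : Subgroup (Matrix.ProjectiveSpecialLinearGroup (Fin 2) F), H ≠ ⊤ ∧ K ≠ ⊤ ∧ ∀ g : (Matrix.ProjectiveSpecialLinearGroup (Fin 2) F), ∃ x : (Matrix.ProjectiveSpecialLinearGroup (Fin 2) F), x * g * x⁻¹ ∈ H ∨ x * g * x⁻¹ ∈ K)) ∧
    (∃ H K : Subgroup (Matrix.ProjectiveSpecialLinearGroup (Fin 3) F), H ≠ ⊤ ∧ K ≠ ⊤ ∧ ∀ g : (Matrix.ProjectiveSpecialLinearGroup (Fin 3) F), ∃ x : (Matrix.ProjectiveSpecialLinearGroup (Fin 3) F), x * g * x⁻¹ ∈ H ∨ x * g * x⁻¹ ∈ K) ∧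
    (∃ H K : Subgroup (Matrix.ProjectiveSpecialLinearGroup (Fin 4) F), H ≠ ⊤ ∧ K ≠ ⊤ ∧ ∀ g : (Matrix.ProjectiveSpecialLinearGroup (Fin 4) F), ∃ x : (Matrix.ProjectiveSpecialLinearGroup (Fin 4) F), x * g * x⁻¹ ∈ H ∨ x * g * x⁻¹ ∈ K) ∧
    (∀ q : ℕ, Fintype.card F = q ^ 2 → (∃ H K : Subgroup (Cfsg.PSU 4 F q), H ≠ ⊤ ∧ K ≠ ⊤ ∧ ∀ g : (Cfsg.PSU 4 F q), ∃ x : (Cfsg.PSU 4 F q), x * g * x⁻¹ ∈ H ∨ x * g * x⁻¹ ∈ K)) ∧
    (∀ q a : ℕ, Fintype.card F = q ^ 2 → 1 ≤ a → q = 3 ^ a → (∃ H K : Subgroup (Cfsg.PSU 3 F q), H ≠ ⊤ ∧ K ≠ ⊤ ∧ ∀ g : (Cfsg.PSU 3 F q), ∃ x : (Cfsg.PSU 3 F q), x * g * x⁻¹ ∈ H ∨ x * g * x⁻¹ ∈ K)) ∧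
    (∀ m : ℕ, 2 ≤ m → ¬ Odd (Fintype.card F) → ¬ (m = 2 ∧ Fintype.card F = 2) → (∃ H K : Subgroup (Cfsg.PSp m F), H ≠ ⊤ ∧ K ≠ ⊤ ∧ ∀ g : (Cfsg.PSp m F), ∃ x : (Cfsg.PSp m F), x * g * x⁻¹ ∈ H ∨ x * g * x⁻¹ ∈ K)) ∧
    (∀ a : ℕ, 1 ≤ a → Fintype.card F = 3 ^ a → (∃ H K : Subgroup (Cfsg.PSp 3 F), H ≠ ⊤ ∧ K ≠ ⊤ ∧ ∀ g : (Cfsg.PSp 3 F), ∃ x : (Cfsg.PSp 3 F), x * g * x⁻¹ ∈ H ∨ x * g * x⁻¹ ∈ K)) ∧
    (∀ a : ℕ, 2 ≤ a → Fintype.card F = 2 ^ a → (∃ H K : Subgroup (Cfsg.Lie.G2 F), H ≠ ⊤ ∧ K ≠ ⊤ ∧ ∀ g : (Cfsg.Lie.G2 F), ∃ x : (Cfsg.Lie.G2 F), x * g * x⁻¹ ∈ H ∨ x * g * x⁻¹ ∈ K)) := by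
  classical
  have charOf : ∀ p b : ℕ, p.Prime → 1 ≤ b → Fintype.card F = p ^ b → CharP F p := by
    intro p b hp hb hc
    obtain ⟨r, hr⟩ := CharP.exists F
    obtain ⟨k, hrp, hk⟩ := FiniteField.card F r
    have h1 : p ∣ r ^ (k : ℕ) := by
      rw [← hk, hc]
      exact dvd_pow_self p (Nat.one_le_iff_ne_zero.1 hb)
    rw [(Nat.prime_dvd_prime_iff_eq hp hrp).1 (hp.dvd_of_dvd_pow h1)]
    exact hr
  refine ⟨fun _ => ?_, ?_, ?_, ?_, ?_, ?_, ?_, ?_⟩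
  · exact CfsgLib.NormalCover.cov_psl 1 2 le_rfl le_rfl fun D hD hs h2 it hit => by
      have h1 := degrees hD hs h2 it hit
      have h3 := h2 it hit
      rw [show it.1.natDegree = 2 by omega]
  · exact CfsgLib.NormalCover.cov_psl 2 3 (by norm_num) le_rfl fun D hD hs h2 it hit => by
      have h1 := degrees hD hs h2 it hit
      have h3 := h2 it hit
      rw [show it.1.natDegree = 3 by omega]
  · exact CfsgLib.NormalCover.cov_psl 3 2 le_rfl (by norm_num) fun D hD hs h2 it hit => by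
      have h1 := degrees hD hs h2 it hit
      have h3 := h2 it hit
      rcases (show it.1.natDegree = 2 ∨ it.1.natDegree = 4 by omega) with h | h <;> rw [h]
      norm_num
  · exact fun q hq => CfsgLib.NormalCover.cov_psu4 hq
  · intro q a hq ha hqa
    haveI := charOf 3 (a * 2) Nat.prime_three (by omega) (by rw [hq, hqa, ← pow_mul])
    exact CfsgLib.NormalCover.cov_psu3 hq
  · intro m hm hodd _
    haveI : CharP F 2 := by
      obtain ⟨r, hr⟩ := CharP.exists F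
      obtain ⟨k, hrp, hk⟩ := FiniteField.card F r
      rcases hrp.eq_two_or_odd' with h | h
      · exact h ▸ hr
      · exact absurd (hk ▸ h.pow) hodd
    exact CfsgLib.NormalCover.cov_psp_even hm
  · intro a ha hc
    haveI := charOf 3 a Nat.prime_three ha hc
    exact CfsgLib.NormalCover.cov_psp_six
  · intro a ha hc
    haveI := charOf 2 a Nat.prime_two (by omega) hc
    exact CfsgLib.NormalCover.cov_g2 (by
      rw [hc]
      exact le_trans (by norm_num) (Nat.pow_le_pow_right (by norm_num) ha))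

end Cfsg.Agent.S2500
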