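import Cfsg.Statements.S2503
import Cfsg.Agent.SL2Trace.Basic

set_option autoImplicit false
open Cfsg

namespace Cfsg.Agent.S2503

section aux

open Matrix
open scoped MatrixGroups
open CfsgLib.SL2Trace (det_eq_one mkSL coe_mkSL)

variable {F : Type*} [Field F]

theorem exists_delta [Fintype F] (h2 : 2 ∣ Fintype.card F) (_h4 : 4 ≤ Fintype.card F) :
    CharP F 2 ∧ ∃ δ : F, ∀ x : F, x ^ 2 + x + δ ≠ 0 := by
  obtain ⟨p, hp⟩ := CharP.exists F
  obtain ⟨n, hpp, hq⟩ := FiniteField.card F p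
  have : p = 2 := by
    rw [hq] at h2
    exact ((Nat.prime_dvd_prime_iff_eq Nat.prime_two hpp).1 (Nat.prime_two.dvd_of_dvd_pow h2)).symm
  subst this
  refine ⟨hp, ?_⟩
  have hns : ¬ Function.Surjective (fun x : F => x ^ 2 + x) := by
    intro hs
    have hi := Finite.injective_iff_surjective.2 hs (a₁ := 0) (a₂ := 1) (by simp [CharTwo.add_self_eq_zero])
    exact zero_ne_one hi
  simp only [Function.Surjective, not_forall, not_exists] at hns
  obtain ⟨d, hd⟩ := hns
  refine ⟨d, fun x hx => hd x ?_⟩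
  rwa [← CharTwo.add_eq_zero]

/-- The unipotent upper triangular subgroup. -/
def unip (F : Type*) [Field F] : Subgroup SL(2, F) where
  carrier := {g | g 0 0 = 1 ∧ g 1 0 = 0 ∧ g 1 1 = 1}
  mul_mem' := by
    rintro g h ⟨g1, g2, g3⟩ ⟨h1, h2, h3⟩
    refine ⟨?_, ?_, ?_⟩ <;> simp [Matrix.mul_apply, g1, g2, g3, h1, h2, h3]
  one_mem' := by simp
  inv_mem' := by
    rintro g ⟨g1, g2, g3⟩
    refine ⟨?_, ?_, ?_⟩ <;> simp [Matrix.adjugate_fin_two, g1, g2, g3]

theorem unip_comm {a b : SL(2, F)} (ha : a ∈ unip F) (hb : b ∈ unip F) : a * b = b * a := by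
  obtain ⟨a1, a2, a3⟩ := ha
  obtain ⟨b1, b2, b3⟩ := hb
  apply Subtype.ext
  rw [Matrix.SpecialLinearGroup.coe_mul, Matrix.SpecialLinearGroup.coe_mul]
  ext i j
  fin_cases i <;> fin_cases j <;> simp [Matrix.mul_apply, a1, a2, a3, b1, b2, b3] <;> ring

theorem unip_sq [CharP F 2] {b : SL(2, F)} (hb : b ∈ unip F) : b * b = 1 := by
  obtain ⟨b1, b2, b3⟩ := hb
  apply Subtype.ext
  rw [Matrix.SpecialLinearGroup.coe_mul, Matrix.SpecialLinearGroup.coe_one]
  ext i j
  fin_cases i <;> fin_cases j <;> simp [Matrix.mul_apply, b1, b2, b3, CharTwo.add_self_eq_zero]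

theorem unip_card [Fintype F] : Nat.card (unip F) = Fintype.card F := by
  rw [← Nat.card_eq_fintype_card]
  refine Nat.card_eq_of_bijective (fun g : unip F => (g.1 : Matrix (Fin 2) (Fin 2) F) 0 1) ⟨?_, ?_⟩
  · rintro ⟨g, g1, g2, g3⟩ ⟨h, h1, h2, h3⟩ e
    apply Subtype.ext; apply Subtype.ext
    ext i j
    fin_cases i <;> fin_cases j <;> simp_all
  · intro s
    exact ⟨⟨mkSL !![1, s; 0, 1] (by simp [Matrix.det_fin_two_of]), by
      simp [unip, coe_mkSL]⟩, by simp [coe_mkSL]⟩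

variable [CharP F 2] (δ : F)

/-- The centraliser of `!![0, δ; 1, 1]`: a non-split torus when `T² + T + δ` has no root. -/
def torus : Subgroup SL(2, F) where
  carrier := {g | g 0 1 = δ * g 1 0 ∧ g 1 1 = g 0 0 + g 1 0}
  mul_mem' := by
    rintro g h ⟨g1, g2⟩ ⟨h1, h2⟩
    refine ⟨?_, ?_⟩ <;> simp [Matrix.mul_apply, g1, g2, h1, h2] <;> ring
  one_mem' := by simp
  inv_mem' := by
    rintro g ⟨g1, g2⟩
    refine ⟨?_, ?_⟩ <;> simp [Matrix.adjugate_fin_two, g1, g2, CharTwo.neg_eq, add_assoc, CharTwo.add_self_eq_zero]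

theorem mem_torus_iff (g : SL(2, F)) : g ∈ torus δ ↔ g 0 1 = δ * g 1 0 ∧ g 1 1 = g 0 0 + g 1 0 := Iff.rfl

variable (hδ : ∀ x : F, x ^ 2 + x + δ ≠ 0)
include hδ

theorem norm_ne_zero (a b : F) (h : a ≠ 0 ∨ b ≠ 0) : a * a + a * b + δ * b * b ≠ 0 := by
  intro e
  by_cases hb : b = 0
  · subst hb; simp at e; exact h.elim (fun h => h e) (fun h => h rfl)
  · apply hδ (a / b)
    field_simp
    linear_combination e

theorem exists_torus_multiple [Fintype F] (a b : F) (h : a ≠ 0 ∨ b ≠ 0) :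
    ∃ g ∈ torus δ, ∃ c : F, c ≠ 0 ∧ g 0 0 = c * a ∧ g 1 0 = c * b := by
  have hN := norm_ne_zero δ hδ a b h
  obtain ⟨r, hr⟩ := FiniteField.isSquare_of_char_two (ringChar.eq F 2) (a * a + a * b + δ * b * b)⁻¹
  have hr0 : r ≠ 0 := by rintro rfl; simp [hN] at hr
  have hdet : (!![r * a, δ * (r * b); r * b, r * a + r * b] : Matrix (Fin 2) (Fin 2) F).det = 1 := by
    rw [Matrix.det_fin_two_of, CharTwo.sub_eq_add]
    calc _ = r * r * (a * a + a * b + δ * b * b) := by ring
      _ = 1 := by rw [← hr, inv_mul_cancel₀ hN]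
  refine ⟨mkSL _ hdet, ?_, r, hr0, by simp [coe_mkSL], by simp [coe_mkSL]⟩
  rw [mem_torus_iff]; simp [coe_mkSL]

theorem torus_card [Fintype F] : Nat.card (torus δ) = Fintype.card F + 1 := by
  classical
  have h : Nat.card {v : F × F // v ≠ 0} = Nat.card (torus δ × Fˣ) := by
    symm
    refine Nat.card_eq_of_bijective (fun x => ⟨((x.2 : F) * x.1.1 0 0, (x.2 : F) * x.1.1 1 0), ?_⟩) ⟨?_, ?_⟩
    · intro e
      simp [Prod.ext_iff] at e
      have hd := det_eq_one x.1.1
      rw [x.1.2.1, x.1.2.2, e.1, e.2] at hd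
      simp at hd
    · rintro ⟨⟨g, hg⟩, c⟩ ⟨⟨g', hg'⟩, c'⟩ e
      simp [Prod.ext_iff] at e
      have hd := det_eq_one g
      have hd' := det_eq_one g'
      rw [hg.1, hg.2] at hd
      rw [hg'.1, hg'.2] at hd'
      have hcc : (c : F) * c = (c' : F) * c' := by
        calc (c : F) * c = (c : F) * c * (g 0 0 * (g 0 0 + g 1 0) - δ * g 1 0 * g 1 0) := by rw [hd, mul_one]
          _ = ((c : F) * g 0 0) * ((c : F) * g 0 0 + (c : F) * g 1 0) - δ * ((c : F) * g 1 0) * ((c : F) * g 1 0) := by ring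
          _ = (c' : F) * c' * (g' 0 0 * (g' 0 0 + g' 1 0) - δ * g' 1 0 * g' 1 0) := by rw [e.1, e.2]; ring
          _ = _ := by rw [hd', mul_one]
      have hc : c = c' := by
        rcases mul_self_eq_mul_self_iff.1 hcc with h | h
        · exact Units.ext h
        · exact Units.ext (by rw [h, CharTwo.neg_eq])
      subst hc
      have e1 : g 0 0 = g' 0 0 := mul_left_cancel₀ c.ne_zero e.1
      have e2 : g 1 0 = g' 1 0 := mul_left_cancel₀ c.ne_zero e.2
      ext i j
      · fin_cases i <;> fin_cases j <;> simp [hg.1, hg.2, hg'.1, hg'.2, e1, e2]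
      · rfl
    · rintro ⟨⟨a, b⟩, hv⟩
      obtain ⟨g, hg, c, hc, h1, h2⟩ := exists_torus_multiple δ hδ a b (by
        by_contra h; push Not at h; exact hv (Prod.ext h.1 h.2))
      refine ⟨(⟨g, hg⟩, (Units.mk0 c hc)⁻¹), ?_⟩
      apply Subtype.ext
      simp [Prod.ext_iff, h1, h2, hc]
  rw [Nat.card_eq_fintype_card (α := {v : F × F // v ≠ 0}), Nat.card_prod, Nat.card_units,
    Nat.card_eq_fintype_card (α := F), Fintype.card_subtype_compl, Fintype.card_prod,
    Fintype.card_subtype_eq] at h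
  obtain ⟨m, hm⟩ : ∃ m, Fintype.card F = m + 2 := ⟨Fintype.card F - 2, by have := Fintype.one_lt_card (α := F); omega⟩
  rw [hm] at h ⊢
  have : (m + 2) * (m + 2) - 1 = (m + 2 + 1) * (m + 1) := by ring_nf; omega
  rw [this, show m + 2 - 1 = m + 1 by omega] at h
  exact (Nat.eq_of_mul_eq_mul_right (by omega) h).symm

open Polynomial in
theorem torus_cyclic [Fintype F] : IsCyclic (torus δ) := by
  classical
  let f : F[X] := X ^ 2 + X + C δ
  have hdeg : f.natDegree = 2 := by simp only [f]; compute_degree!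
  have hirr : Irreducible f := by
    rw [Polynomial.irreducible_iff_roots_eq_zero_of_degree_le_three (by omega) (by omega),
      Multiset.eq_zero_iff_forall_notMem]
    intro l hl
    have := (Polynomial.mem_roots'.1 hl).2
    simp [f] at this
    exact hδ l this
  haveI : Fact (Irreducible f) := ⟨hirr⟩
  haveI : CharP (AdjoinRoot f) 2 := charP_of_injective_ringHom (AdjoinRoot.of f).injective 2
  have hr : AdjoinRoot.root f ^ 2 + AdjoinRoot.root f + AdjoinRoot.of f δ = 0 := by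
    have := AdjoinRoot.eval₂_root f
    simpa [f] using this
  let φ : torus δ →* AdjoinRoot f :=
  { toFun := fun g => AdjoinRoot.of f (g.1 0 0) + AdjoinRoot.of f (g.1 1 0) * AdjoinRoot.root f
    map_one' := by simp
    map_mul' := by
      rintro ⟨g, g1, g2⟩ ⟨h, h1, h2⟩
      have hz : (2 : AdjoinRoot f) = 0 := CharTwo.two_eq_zero
      simp [Matrix.mul_apply, g1, g2, h1, h2]
      linear_combination (-(AdjoinRoot.of f (g 1 0) * AdjoinRoot.of f (h 1 0))) * hr +
        (AdjoinRoot.of f δ * AdjoinRoot.of f (g 1 0) * AdjoinRoot.of f (h 1 0) +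
          AdjoinRoot.root f * AdjoinRoot.of f (g 1 0) * AdjoinRoot.of f (h 1 0)) * hz }
  refine isCyclic_of_injective_ringHom φ ?_
  intro g h e
  have e' : AdjoinRoot.of f (g.1 0 0 - h.1 0 0) + AdjoinRoot.of f (g.1 1 0 - h.1 1 0) * AdjoinRoot.root f = 0 := by
    simp only [φ, MonoidHom.coe_mk, OneHom.coe_mk] at e
    rw [map_sub, map_sub]; linear_combination e
  by_cases hb : g.1 1 0 - h.1 1 0 = 0
  · rw [hb, map_zero, zero_mul, add_zero] at e'
    have ha := (map_eq_zero (AdjoinRoot.of f)).1 e'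
    apply Subtype.ext; apply Subtype.ext
    have := g.2.1; have := g.2.2; have := h.2.1; have := h.2.2
    have e1 := sub_eq_zero.1 ha
    have e2 := sub_eq_zero.1 hb
    ext i j
    fin_cases i <;> fin_cases j <;> simp_all
  · exfalso
    have hroot : AdjoinRoot.root f = AdjoinRoot.of f (-(g.1 0 0 - h.1 0 0) / (g.1 1 0 - h.1 1 0)) := by
      rw [map_div₀, map_neg, eq_div_iff ((_root_.map_ne_zero _).2 hb)]
      linear_combination e'
    apply hδ (-(g.1 0 0 - h.1 0 0) / (g.1 1 0 - h.1 1 0))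
    apply (AdjoinRoot.of f).injective
    rw [map_add, map_add, map_pow, map_zero, ← hroot, hr]

theorem factor [Fintype F] (g : SL(2, F)) :
    ∃ a ∈ torus δ, ∃ b ∈ unip F, ∃ c ∈ torus δ, g = a * b * c := by
  have h2 : (2 : F) = 0 := CharTwo.two_eq_zero
  let W : SL(2, F) → Matrix (Fin 2) (Fin 2) F := fun g =>
    (g : Matrix (Fin 2) (Fin 2) F) * !![0, δ; 1, 1] * ((g⁻¹ : SL(2, F)) : Matrix (Fin 2) (Fin 2) F)
  -- choose the point of the circle on which the quadratic form of `W g` takes the value one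
  obtain ⟨r, hr⟩ := FiniteField.isSquare_of_char_two (ringChar.eq F 2) (W g 1 0 + 1)
  obtain ⟨s, hs⟩ := FiniteField.isSquare_of_char_two (ringChar.eq F 2) (W g 0 1 + δ)
  obtain ⟨a, b, hab, hline⟩ : ∃ a b : F, (a ≠ 0 ∨ b ≠ 0) ∧ r * a + s * b = 0 := by
    by_cases h : r = 0 ∧ s = 0
    · exact ⟨1, 0, Or.inl one_ne_zero, by rw [h.1, h.2]; ring⟩
    · exact ⟨s, r, by tauto, by linear_combination r * s * h2⟩
  obtain ⟨A, hA, k, hk, hA0, hA1⟩ := exists_torus_multiple δ hδ a b hab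
  set h := A⁻¹ * g with hh
  set U : SL(2, F) := mkSL !![1, W h 0 0; 0, 1] (by simp [Matrix.det_fin_two_of]) with hU
  refine ⟨A, hA, U, by simp [unip, hU, coe_mkSL], U⁻¹ * h, ?_, by rw [hh]; group⟩
  have hd := det_eq_one g
  have hdA := det_eq_one A
  obtain ⟨hA2, hA3⟩ := (mem_torus_iff δ A).1 hA
  -- the lower left entry of `W h` equals one
  have hz : W h 1 0 = 1 := by
    have key : (r * A 0 0 + s * A 1 0) * (r * A 0 0 + s * A 1 0) = 0 := by
      rw [hA0, hA1, show r * (k * a) + s * (k * b) = k * (r * a + s * b) by ring, hline]; ring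
    simp [W, hh, Matrix.mul_apply, Matrix.adjugate_fin_two, Matrix.vecMul, dotProduct, hA2, hA3] at hr hs hdA hd ⊢
    grind
  have hdh := det_eq_one h
  clear_value h
  clear hh
  rw [mem_torus_iff]
  simp [W, Matrix.mul_apply, Matrix.adjugate_fin_two] at hz
  simp [hU, coe_mkSL, W, Matrix.mul_apply, Matrix.adjugate_fin_two, Matrix.vecMul, dotProduct]
  constructor <;> grind

end aux

/-- Let F be a finite field with q = 2^t ≥ 4 elements and L = PSL(2,F). Then L has a cyclic subgroup A of order q + 1 and an elementary abelian 2-subgroup B of order q such that L = ABA: every element of L is a product a·b·a' with a, a' ∈ A and b ∈ B. -/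
theorem result {F : Type*} [Field F] [Fintype F]
    (h2 : 2 ∣ Fintype.card F) (h4 : 4 ≤ Fintype.card F) :
    ∃ A B : Subgroup (Matrix.ProjectiveSpecialLinearGroup (Fin 2) F),
      IsCyclic A ∧ Nat.card A = Fintype.card F + 1 ∧ IsMulCommutative B ∧ (∀ b ∈ B, b * b = 1) ∧
        Nat.card B = Fintype.card F ∧
        ∀ g : Matrix.ProjectiveSpecialLinearGroup (Fin 2) F, ∃ a ∈ A, ∃ b ∈ B, ∃ c ∈ A, g = a * b * c := by
  classical
  obtain ⟨hchar, δ, hδ⟩ := exists_delta h2 h4
  haveI := hchar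
  have hinj : Function.Injective (CfsgLib.SL2Trace.proj (F := F)) := by
    intro g h e
    rw [CfsgLib.SL2Trace.proj, CfsgLib.SL2Trace.proj, QuotientGroup.eq,
      CfsgLib.SL2Trace.mem_center_iff_eq] at e
    rcases e with e | e
    · exact inv_mul_eq_one.1 e
    · apply inv_mul_eq_one.1
      rw [e]
      apply Subtype.ext
      simp [CharTwo.neg_eq]
  let π : Matrix.SpecialLinearGroup (Fin 2) F →* Matrix.ProjectiveSpecialLinearGroup (Fin 2) F :=
    QuotientGroup.mk' _
  refine ⟨(torus δ).map π, (unip F).map π, ?_, ?_, ?_, ?_, ?_, ?_⟩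
  · haveI := torus_cyclic δ hδ
    exact isCyclic_of_surjective (π.subgroupMap (torus δ)) (π.subgroupMap_surjective _)
  · rw [Nat.card_congr ((torus δ).equivMapOfInjective π hinj).toEquiv.symm]
    exact torus_card δ hδ
  · refine ⟨⟨?_⟩⟩
    rintro ⟨_, a, ha, rfl⟩ ⟨_, b, hb, rfl⟩
    apply Subtype.ext
    show π a * π b = π b * π a
    rw [← map_mul, ← map_mul, unip_comm ha hb]
  · rintro _ ⟨b, hb, rfl⟩
    rw [← map_mul, unip_sq hb, map_one]
  · rw [Nat.card_congr ((unip F).equivMapOfInjective π hinj).toEquiv.symm, unip_card]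
  · intro g
    obtain ⟨g0, rfl⟩ := QuotientGroup.mk_surjective g
    obtain ⟨a, ha, b, hb, c, hc, e⟩ := factor δ hδ g0
    exact ⟨π a, ⟨a, ha, rfl⟩, π b, ⟨b, hb, rfl⟩, π c, ⟨c, hc, rfl⟩, by rw [e]; rfl⟩

end Cfsg.Agent.S2503
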