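import Cfsg.Statements.S2506
import Cfsg.Agent.AbelianPerm.Exists

set_option autoImplicit false
open scoped Pointwise
open Cfsg

namespace Cfsg.Agent.S2506

/-- In the alternating group of any degree, any two abelian subgroups of the largest possible order (among abelian subgroups) are conjugate. -/
theorem result (n : ℕ)
    (A B : Subgroup (alternatingGroup (Fin n))) (hA : IsMulCommutative A) (hB : IsMulCommutative B)
    (hAmax : ∀ C : Subgroup (alternatingGroup (Fin n)), IsMulCommutative C → Nat.card C ≤ Nat.card A)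
    (hBmax : ∀ C : Subgroup (alternatingGroup (Fin n)), IsMulCommutative C → Nat.card C ≤ Nat.card B) :
    ∃ g : alternatingGroup (Fin n), B = MulAut.conj g • A := by
  rcases Nat.lt_or_ge n 3 with hn | hn
  · -- trivial group
    have hsub : Subsingleton (alternatingGroup (Fin n)) := by
      interval_cases n
      all_goals exact Finite.card_le_one_iff_subsingleton.mp (by rw [Nat.card_eq_fintype_card]; decide)
    exact ⟨1, Subsingleton.elim _ _⟩
  obtain ⟨C, hC, hCc⟩ := CfsgLib.AbelianPerm.exists_alternating n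
  have hAc := hCc ▸ hAmax C hC
  have hBc := hCc ▸ hBmax C hC
  obtain ⟨hA1, hA2, hA3⟩ := CfsgLib.AbelianPerm.map_subtype_props A hA
  obtain ⟨hB1, hB2, hB3⟩ := CfsgLib.AbelianPerm.map_subtype_props B hB
  by_cases hn5 : n = 5
  · subst hn5
    have hA5 : Nat.card A = 5 := le_antisymm
      ((CfsgLib.AbelianPerm.isGreatest_maxProdNoTwo 5 hn).2 ⟨A, hA, rfl⟩) hAc
    have hB5 : Nat.card B = 5 := le_antisymm
      ((CfsgLib.AbelianPerm.isGreatest_maxProdNoTwo 5 hn).2 ⟨B, hB, rfl⟩) hBc
    haveI : Fact (Nat.Prime 5) := ⟨by norm_num⟩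
    have h60 : (Nat.card (alternatingGroup (Fin 5))).factorization 5 = 1 := by
      rw [nat_card_alternatingGroup, Nat.card_eq_fintype_card, Fintype.card_fin]
      rw [show Nat.factorial 5 / 2 = 5 * 12 by decide, Nat.factorization_mul (by norm_num) (by norm_num),
        Finsupp.add_apply, Nat.Prime.factorization_self (by norm_num),
        Nat.factorization_eq_zero_of_not_dvd (by norm_num : ¬ 5 ∣ 12)]
    let PA : Sylow 5 (alternatingGroup (Fin 5)) := Sylow.ofCard A (by rw [hA5, h60]; rfl)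
    let PB : Sylow 5 (alternatingGroup (Fin 5)) := Sylow.ofCard B (by rw [hB5, h60]; rfl)
    obtain ⟨g, hg⟩ := MulAction.exists_smul_eq (alternatingGroup (Fin 5)) PA PB
    have := congrArg Sylow.toSubgroup hg
    rw [Sylow.coe_subgroup_smul] at this
    exact ⟨g, this.symm⟩
  obtain ⟨τ, hτ, hiff⟩ := CfsgLib.AbelianPerm.exists_even_conj _ _ hA1 hB1 hA2 hB2 hn hn5
    (hAc.trans hA3.ge) (hBc.trans hB3.ge)
  have hmem : ∀ (X : Subgroup (alternatingGroup (Fin n))) (x : alternatingGroup (Fin n)),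
      (x : Equiv.Perm (Fin n)) ∈ X.map (alternatingGroup (Fin n)).subtype ↔ x ∈ X := fun X x =>
    Subgroup.mem_map_iff_mem Subtype.val_injective
  refine ⟨⟨τ, hτ⟩, ?_⟩
  ext x
  rw [Subgroup.mem_smul_pointwise_iff_exists]
  constructor
  · intro hx
    refine ⟨(⟨τ, hτ⟩ : alternatingGroup (Fin n))⁻¹ * x * ⟨τ, hτ⟩, ?_, ?_⟩
    · rw [← hmem, hiff]
      rw [← hmem] at hx
      simpa [mul_assoc] using hx
    · show (⟨τ, hτ⟩ : alternatingGroup (Fin n)) *
          ((⟨τ, hτ⟩ : alternatingGroup (Fin n))⁻¹ * x * ⟨τ, hτ⟩) * (⟨τ, hτ⟩ : alternatingGroup (Fin n))⁻¹ = x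
      group
  · rintro ⟨y, hy, rfl⟩
    rw [← hmem, hiff] at hy
    rw [← hmem]
    simpa [MulAut.smul_def, mul_assoc] using hy

end Cfsg.Agent.S2506
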