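import Cfsg.Statements.S2510
import Cfsg.Agent.LinearOrders.Projective
-- import your own Cfsg.Agent.* helpers here

set_option autoImplicit false
open Cfsg

namespace Cfsg.Agent.S2510

open CfsgLib.LinearOrders (geomN singerM exists_singer exists_lcm_prime idempotent_or_orderOf_dvd exists_unipotent shiftMat)

theorem coprime_singerM {q n p a : ℕ} (hp : p.Prime) (hq : q = p ^ a) (ha : 1 ≤ a) (hn : 1 ≤ n)
    (T : ℕ) : Nat.Coprime (p ^ T) (singerM q n) := by
  refine Nat.Coprime.pow_left T (Nat.Coprime.coprime_dvd_right (Nat.div_dvd_of_dvd (Nat.gcd_dvd_left _ _)) ?_)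
  rw [hp.coprime_iff_not_dvd]
  intro h
  have hpq : p ∣ q := hq ▸ dvd_pow_self p (by omega)
  obtain ⟨n, rfl⟩ : ∃ l, n = l + 1 := ⟨n - 1, by omega⟩
  rw [geomN, Finset.sum_range_succ', pow_zero] at h
  exact hp.not_dvd_one ((Nat.dvd_add_right (Finset.dvd_sum fun i _ => dvd_pow hpq i.succ_ne_zero)).mp h)

section
variable {X Y Z W : Type*} [Monoid X] [Monoid Y] [Monoid Z] [Monoid W]

theorem d1 (w : X × Y) : orderOf w.1 ∣ orderOf w := orderOf_map_dvd (MonoidHom.fst X Y) w

theorem d22 (w : X × Y) : orderOf w.2 ∣ orderOf w := orderOf_map_dvd (MonoidHom.snd X Y) w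

theorem d2 (w : X × Y × Z) : orderOf w.2.1 ∣ orderOf w :=
  (d1 w.2).trans (orderOf_map_dvd (MonoidHom.snd X (Y × Z)) w)

theorem d3 (w : X × Y × Z) : orderOf w.2.2 ∣ orderOf w :=
  (orderOf_map_dvd (MonoidHom.snd Y Z) w.2).trans (orderOf_map_dvd (MonoidHom.snd X (Y × Z)) w)

theorem dvd2 {w : X × Y} {k : ℕ} (ha : orderOf w.1 ∣ k) (hb : orderOf w.2 ∣ k) : orderOf w ∣ k := by
  rw [Prod.orderOf]; exact Nat.lcm_dvd ha hb

theorem dvd3 {w : X × Y × Z} {k : ℕ} (ha : orderOf w.1 ∣ k) (hb : orderOf w.2.1 ∣ k)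
    (hc : orderOf w.2.2 ∣ k) : orderOf w ∣ k := dvd2 ha (dvd2 hb hc)

theorem dvd4 {w : X × Y × Z × W} {k : ℕ} (ha : orderOf w.1 ∣ k) (hb : orderOf w.2.1 ∣ k)
    (hc : orderOf w.2.2.1 ∣ k) (hd : orderOf w.2.2.2 ∣ k) : orderOf w ∣ k :=
  dvd2 ha (dvd3 hb hc hd)

end

theorem range_orderOf_eq {X Y : Type*} [Group X] [Group Y] [Finite X] [Finite Y]
    (h1 : ∀ x : X, ∃ y : Y, orderOf x ∣ orderOf y) (h2 : ∀ y : Y, ∃ x : X, orderOf y ∣ orderOf x) :
    Set.range (orderOf : X → ℕ) = Set.range (orderOf : Y → ℕ) := by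
  ext m
  constructor
  · rintro ⟨x, rfl⟩
    obtain ⟨y, hy⟩ := h1 x
    exact ⟨y ^ (orderOf y / orderOf x), orderOf_pow_orderOf_div (orderOf_pos y).ne' hy⟩
  · rintro ⟨y, rfl⟩
    obtain ⟨x, hx⟩ := h2 y
    exact ⟨x ^ (orderOf x / orderOf y), orderOf_pow_orderOf_div (orderOf_pos x).ne' hx⟩

section
variable {F : Type*} [Field F] {n : ℕ}

theorem single_idem (i : Fin n) : IsIdempotentElem (Matrix.single i i (1 : F)) := by
  simp [IsIdempotentElem]

theorem single_ne_zero (i : Fin n) : Matrix.single i i (1 : F) ≠ 0 := fun h => by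
  simpa using congrFun (congrFun h i) i

theorem single_ne_one (hn : 2 ≤ n) (i : Fin n) : Matrix.single i i (1 : F) ≠ 1 := fun h => by
  haveI : Nontrivial (Fin n) := Fin.nontrivial_iff_two_le.mpr hn
  obtain ⟨j, hj⟩ := exists_ne i
  simpa [Matrix.single_apply, hj.symm] using congrFun (congrFun h j) j

theorem single_commute_shift (h : n - 1 < n) :
    Commute (Matrix.single (⟨n - 1, h⟩ : Fin n) ⟨n - 1, h⟩ (1 : F))
      (CfsgLib.LinearOrders.shiftMat F n (n - 1)) := by
  ext i j
  simp only [Matrix.mul_apply, Matrix.single_apply, CfsgLib.LinearOrders.shiftMat, Matrix.of_apply]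
  rw [Finset.sum_eq_zero, Finset.sum_eq_zero]
  · intro l _
    split_ifs with h1 h2 <;> simp only [mul_one, mul_zero, one_mul, zero_mul]
    have := congrArg Fin.val h2.1
    simp at this; omega
  · intro l _
    split_ifs with h1 h2 <;> simp only [mul_one, mul_zero, one_mul, zero_mul]
    have := congrArg Fin.val h1.2
    simp at this; omega

theorem exists_idempotent (hn : 2 ≤ n) :
    ∃ e : Matrix (Fin n) (Fin n) F, IsIdempotentElem e ∧ e ≠ 0 ∧ e ≠ 1 :=
  ⟨_, single_idem ⟨0, by omega⟩, single_ne_zero _, single_ne_one hn _⟩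

end

/-- Let F be a finite field with q = p^a elements, n ≥ 2 (with q ≥ 4 when n = 2), L = PSL(n, F), and let r be a prime dividing q − 1 and not dividing n. Then for every m the direct product L × L × L × (ℤ/r)^m has the same set of element orders as L × L × L; and if n − 1 ≠ p^j for every j ≥ 0 (so never when n = 2, since 1 = p^0), then already L × L × (ℤ/r)^m has the same set of element orders as L × L. -/
theorem result {F : Type*} [Field F] [Fintype F] (p a n r m : ℕ) (hp : p.Prime) (ha : 1 ≤ a) (hF : Fintype.card F = p ^ a)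
    (hn : 2 ≤ n) (hn2 : n = 2 → 4 ≤ Fintype.card F) (hr : r.Prime) (hrq : r ∣ Fintype.card F - 1) (hrn : ¬ r ∣ n) :
    Set.range (orderOf : Matrix.ProjectiveSpecialLinearGroup (Fin n) F × Matrix.ProjectiveSpecialLinearGroup (Fin n) F × Matrix.ProjectiveSpecialLinearGroup (Fin n) F × Multiplicative (Fin m → ZMod r) → ℕ) =
      Set.range (orderOf : Matrix.ProjectiveSpecialLinearGroup (Fin n) F × Matrix.ProjectiveSpecialLinearGroup (Fin n) F × Matrix.ProjectiveSpecialLinearGroup (Fin n) F → ℕ) ∧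
    ((¬ ∃ j : ℕ, n - 1 = p ^ j) →
      Set.range (orderOf : Matrix.ProjectiveSpecialLinearGroup (Fin n) F × Matrix.ProjectiveSpecialLinearGroup (Fin n) F × Multiplicative (Fin m → ZMod r) → ℕ) =
        Set.range (orderOf : Matrix.ProjectiveSpecialLinearGroup (Fin n) F × Matrix.ProjectiveSpecialLinearGroup (Fin n) F → ℕ)) := by
  classical
  haveI : Fact p.Prime := ⟨hp⟩
  haveI : Fact r.Prime := ⟨hr⟩
  haveI : CharP F p := charP_of_card_eq_prime_pow hF
  have hTn : n ≤ p ^ Nat.clog p n := Nat.le_pow_clog hp.one_lt n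
  obtain ⟨e, he, he0, he1⟩ := exists_idempotent (F := F) hn
  obtain ⟨X, hX⟩ := exists_singer (F := F) (n := n) (by omega) (p := p)
  -- the element of order `r`
  obtain ⟨R, -, hR⟩ := exists_lcm_prime hr hrq hrn (1 : Matrix.SpecialLinearGroup (Fin n) F) he he0 he1
    (Commute.one_right _)
  have hW : ∀ v : Multiplicative (Fin m → ZMod r), orderOf v ∣ r := fun v => by
    apply orderOf_dvd_of_pow_eq_one
    apply Multiplicative.toAdd.injective
    funext i
    simp
  have key : ∀ g : Matrix.SpecialLinearGroup (Fin n) F,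
      (∃ x, orderOf (QuotientGroup.mk g : Matrix.ProjectiveSpecialLinearGroup (Fin n) F) ∣ orderOf x ∧
        r ∣ orderOf x) ∨
      orderOf (QuotientGroup.mk g : Matrix.ProjectiveSpecialLinearGroup (Fin n) F) ∣
        p ^ Nat.clog p n * singerM (Fintype.card F) n := fun g => by
    rcases idempotent_or_orderOf_dvd (by omega) hTn g with ⟨e, h1, h2, h3, h4⟩ | h
    · exact Or.inl (exists_lcm_prime hr hrq hrn g h1 h2 h3 h4)
    · exact Or.inr h
  constructor
  · refine range_orderOf_eq ?_ ?_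
    · rintro ⟨g1, g2, g3, v⟩
      induction g1 using QuotientGroup.induction_on with | H g1 =>
      induction g2 using QuotientGroup.induction_on with | H g2 =>
      induction g3 using QuotientGroup.induction_on with | H g3 =>
      rcases key g1 with ⟨x, h1, h2⟩ | k1
      · exact ⟨(x, QuotientGroup.mk g2, QuotientGroup.mk g3), dvd4 (h1.trans (d1 _)) (d2 _) (d3 _)
          (((hW v).trans h2).trans (d1 _))⟩
      rcases key g2 with ⟨x, h1, h2⟩ | k2
      · exact ⟨(QuotientGroup.mk g1, x, QuotientGroup.mk g3), dvd4 (d1 _) (h1.trans (d2 _)) (d3 _)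
          (((hW v).trans h2).trans (d2 _))⟩
      rcases key g3 with ⟨x, h1, h2⟩ | k3
      · exact ⟨(QuotientGroup.mk g1, QuotientGroup.mk g2, x), dvd4 (d1 _) (d2 _) (h1.trans (d3 _))
          (((hW v).trans h2).trans (d3 _))⟩
      obtain ⟨u, -, hu⟩ := exists_unipotent (F := F) (n := n) (p := p) (T := Nat.clog p n) (le_refl n) (by omega)
        (fun _ => Nat.pow_pred_clog_lt_self hp.one_lt (by omega : 1 < n))
      refine ⟨(X, QuotientGroup.mk u, R), ?_⟩
      have hM : p ^ Nat.clog p n * singerM (Fintype.card F) n ∣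
          orderOf (X, (QuotientGroup.mk u : Matrix.ProjectiveSpecialLinearGroup (Fin n) F), R) := by
        refine Nat.Coprime.mul_dvd_of_dvd_of_dvd ?_ (hu.trans (d2 _)) (hX.trans (d1 _))
        exact coprime_singerM hp hF ha (by omega) _
      exact dvd4 (k1.trans hM) (k2.trans hM) (k3.trans hM) (((hW v).trans hR).trans (d3 _))
    · rintro ⟨g1, g2, g3⟩
      refine ⟨(g1, g2, g3, 1), dvd3 ?_ ?_ ?_⟩
      · exact d1 _
      · exact d2 _
      · exact (d1 ((g3, 1) : _ × Multiplicative (Fin m → ZMod r))).trans (d3 (g1, g2, g3, (1 : Multiplicative (Fin m → ZMod r))))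
  · intro hpow
    refine range_orderOf_eq ?_ ?_
    · rintro ⟨g1, g2, v⟩
      induction g1 using QuotientGroup.induction_on with | H g1 =>
      induction g2 using QuotientGroup.induction_on with | H g2 =>
      rcases key g1 with ⟨x, h1, h2⟩ | k1
      · exact ⟨(x, QuotientGroup.mk g2), dvd3 (h1.trans (d1 _)) (d22 _)
          (((hW v).trans h2).trans (d1 _))⟩
      rcases key g2 with ⟨x, h1, h2⟩ | k2
      · exact ⟨(QuotientGroup.mk g1, x), dvd3 (d1 _) (h1.trans (d22 _))
          (((hW v).trans h2).trans (d22 _))⟩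
      obtain ⟨u, hu1, hu⟩ := exists_unipotent (F := F) (n := n) (p := p) (T := Nat.clog p n) (m := n - 1)
        (by omega) (by omega) (fun _ => by
          have h1 : p ^ (Nat.clog p n - 1) < n := Nat.pow_pred_clog_lt_self hp.one_lt (by omega : 1 < n)
          have h2 : p ^ (Nat.clog p n - 1) ≠ n - 1 := fun h => hpow ⟨Nat.clog p n - 1, h.symm⟩
          omega)
      obtain ⟨Y, hY1, hY2⟩ := exists_lcm_prime hr hrq hrn u
        (e := Matrix.single ⟨n - 1, by omega⟩ ⟨n - 1, by omega⟩ 1) (single_idem _)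
        (single_ne_zero _) (single_ne_one hn _) (by
          rw [hu1]
          exact (Commute.one_right _).add_right (single_commute_shift _))
      refine ⟨(X, Y), ?_⟩
      have hM : p ^ Nat.clog p n * singerM (Fintype.card F) n ∣ orderOf (X, Y) := by
        refine Nat.Coprime.mul_dvd_of_dvd_of_dvd (coprime_singerM hp hF ha (by omega) _) ?_ (hX.trans (d1 _))
        exact (hu.trans hY1).trans (d22 _)
      exact dvd3 (k1.trans hM) (k2.trans hM) (((hW v).trans hY2).trans (d22 _))
    · rintro ⟨g1, g2⟩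
      refine ⟨(g1, g2, (1 : Multiplicative (Fin m → ZMod r))), dvd2 (d1 _) ?_⟩
      exact d2 _

end Cfsg.Agent.S2510
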