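import Cfsg.Statements.S2511
import Cfsg.Agent.UnitOrders.Elements

set_option autoImplicit false
open Cfsg

namespace Cfsg.Agent.S2511

section
variable {X Y Z W : Type*} [Monoid X] [Monoid Y] [Monoid Z] [Monoid W]

theorem d1 (w : X × Y) : orderOf w.1 ∣ orderOf w := orderOf_map_dvd (MonoidHom.fst X Y) w

theorem d22 (w : X × Y) : orderOf w.2 ∣ orderOf w := orderOf_map_dvd (MonoidHom.snd X Y) w

theorem d2 (w : X × Y × Z) : orderOf w.2.1 ∣ orderOf w :=
  (d1 w.2).trans (orderOf_map_dvd (MonoidHom.snd X (Y × Z)) w)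

theorem d3 (w : X × Y × Z) : orderOf w.2.2 ∣ orderOf w :=
  (orderOf_map_dvd (MonoidHom.snd Y Z) w.2).trans (orderOf_map_dvd (MonoidHom.snd X (Y × Z)) w)

theorem dvd2 {w : X × Y} {k : ℕ} (ha : orderOf w.1 ∣ k) (hb : orderOf w.2 ∣ k) : orderOf w ∣ k := by
  rw [Prod.orderOf]; exact Nat.lcm_dvd ha hb

theorem dvd3 {w : X × Y × Z} {k : ℕ} (ha : orderOf w.1 ∣ k) (hb : orderOf w.2.1 ∣ k)
    (hc : orderOf w.2.2 ∣ k) : orderOf w ∣ k := dvd2 ha (dvd2 hb hc)

theorem dvd4 {w : X × Y × Z × W} {k : ℕ} (ha : orderOf w.1 ∣ k) (hb : orderOf w.2.1 ∣ k)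
    (hc : orderOf w.2.2.1 ∣ k) (hd : orderOf w.2.2.2 ∣ k) : orderOf w ∣ k :=
  dvd2 ha (dvd3 hb hc hd)

end

theorem range_orderOf_eq {X Y : Type*} [Group X] [Group Y] [Finite X] [Finite Y]
    (h1 : ∀ x : X, ∃ y : Y, orderOf x ∣ orderOf y) (h2 : ∀ y : Y, ∃ x : X, orderOf y ∣ orderOf x) :
    Set.range (orderOf : X → ℕ) = Set.range (orderOf : Y → ℕ) := by
  ext m
  constructor
  · rintro ⟨x, rfl⟩
    obtain ⟨y, hy⟩ := h1 x
    exact ⟨y ^ (orderOf y / orderOf x), orderOf_pow_orderOf_div (orderOf_pos y).ne' hy⟩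
  · rintro ⟨y, rfl⟩
    obtain ⟨x, hx⟩ := h2 y
    exact ⟨x ^ (orderOf x / orderOf y), orderOf_pow_orderOf_div (orderOf_pos x).ne' hx⟩

theorem coprime_singerM {q n p a : ℕ} (hp : p.Prime) (hq : q = p ^ a) (ha : 1 ≤ a) (hn : 1 ≤ n)
    (T : ℕ) : Nat.Coprime (p ^ T) (CfsgLib.UnitOrders.singerM n q) := by
  refine Nat.Coprime.pow_left T (Nat.Coprime.coprime_dvd_right (Nat.div_dvd_of_dvd (Nat.gcd_dvd_left _ _)) ?_)
  have hpq : p ∣ q ^ n := dvd_pow (hq ▸ dvd_pow_self p (by omega)) (by omega)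
  have hpos : 1 ≤ q ^ n := Nat.one_le_pow _ _ (hq ▸ Nat.pow_pos hp.pos)
  rw [CfsgLib.UnitOrders.geomU]
  rcases Nat.even_or_odd n with he | ho
  · rw [if_pos he]
    refine Nat.Coprime.coprime_dvd_right (Nat.div_dvd_of_dvd (CfsgLib.UnitOrders.succ_dvd_pow_sub_one q he)) ?_
    rw [hp.coprime_iff_not_dvd]
    intro h
    have := Nat.dvd_sub hpq h
    rw [Nat.sub_sub_self hpos] at this
    exact hp.not_dvd_one this
  · rw [if_neg (Nat.not_even_iff_odd.mpr ho)]
    refine Nat.Coprime.coprime_dvd_right (Nat.div_dvd_of_dvd (CfsgLib.UnitOrders.succ_dvd_pow_add_one q ho)) ?_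
    rw [hp.coprime_iff_not_dvd]
    intro h
    exact hp.not_dvd_one ((Nat.dvd_add_right hpq).mp h)

theorem exists_idempotent {F : Type*} [Field F] {n : ℕ} (τ : F →+* F) (hn : 2 ≤ n) :
    ∃ e : Matrix (Fin n) (Fin n) F, IsIdempotentElem e ∧ CfsgLib.UnitOrders.uAdj τ e = e ∧ e ≠ 0 ∧ e ≠ 1 := by
  let i : Fin n := ⟨0, by omega⟩
  refine ⟨Matrix.single i i 1, by simp [IsIdempotentElem], ?_, fun h => ?_, fun h => ?_⟩
  · ext a b
    simp [CfsgLib.UnitOrders.uAdj, Matrix.single_apply, and_comm, apply_ite τ]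
  · simpa using congrFun (congrFun h i) i
  · haveI : Nontrivial (Fin n) := Fin.nontrivial_iff_two_le.mpr hn
    obtain ⟨j, hj⟩ := exists_ne i
    simpa [Matrix.single_apply, hj.symm] using congrFun (congrFun h j) j

/-- Let F be a finite field with q² elements, q = p^a, n ≥ 3 with (n, q) ≠ (3, 2), L = PSU(n, q) realised over F, and let r be a prime dividing q + 1 and not dividing n. Then for every m the direct product L × L × L × (ℤ/r)^m has the same set of element orders as L × L × L; and if n − 1 is not a power of p, then already L × L × (ℤ/r)^m has the same set of element orders as L × L. -/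
theorem result {F : Type*} [Field F] [Fintype F] (p a n q r m : ℕ) (hp : p.Prime) (ha : 1 ≤ a) (hq : q = p ^ a) (hF : Fintype.card F = q ^ 2)
    (hn : 3 ≤ n) (hn3 : ¬ (n = 3 ∧ q = 2)) (hr : r.Prime) (hrq : r ∣ q + 1) (hrn : ¬ r ∣ n) :
    Set.range (orderOf : Cfsg.PSU n F q × Cfsg.PSU n F q × Cfsg.PSU n F q × Multiplicative (Fin m → ZMod r) → ℕ) = Set.range (orderOf : Cfsg.PSU n F q × Cfsg.PSU n F q × Cfsg.PSU n F q → ℕ) ∧
    ((¬ ∃ j : ℕ, n - 1 = p ^ j) →
      Set.range (orderOf : Cfsg.PSU n F q × Cfsg.PSU n F q × Multiplicative (Fin m → ZMod r) → ℕ) = Set.range (orderOf : Cfsg.PSU n F q × Cfsg.PSU n F q → ℕ)) := by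
  classical
  haveI : Fact p.Prime := ⟨hp⟩
  haveI : Fact r.Prime := ⟨hr⟩
  haveI : CharP F p := charP_of_card_eq_prime_pow (f := 2 * a) (by rw [hF, hq, ← pow_mul, mul_comm])
  have hq1 : 1 < q := hq ▸ Nat.one_lt_pow (by omega) hp.one_lt
  let τ : F →+* F := iterateFrobenius F p a
  have hτ : ∀ x, τ x = x ^ q := fun x => by simp [τ, iterateFrobenius_def, hq]
  have hττ : ∀ x, τ (τ x) = x := fun x => by
    rw [hτ, hτ, ← pow_mul, ← sq, ← hF, FiniteField.pow_card]
  have hne : τ ≠ RingHom.id F := fun h => by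
    obtain ⟨y, hy⟩ := IsCyclic.exists_ofOrder_eq_natCard (α := Fˣ)
    rw [Nat.card_units, Nat.card_eq_fintype_card, hF] at hy
    have h1 : y ^ (q - 1) = 1 := by
      refine mul_right_cancel (b := y) (Units.ext ?_)
      rw [← pow_succ, Nat.sub_add_cancel hq1.le, one_mul, Units.val_pow_eq_pow_val, ← hτ, h]
      rfl
    have h2 := Nat.le_of_dvd (by omega) (orderOf_dvd_of_pow_eq_one h1)
    rw [hy] at h2
    have : q < q ^ 2 := by nlinarith
    omega
  have hTn : n ≤ p ^ Nat.clog p n := Nat.le_pow_clog hp.one_lt n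
  obtain ⟨X0, hX⟩ : ∃ g : Cfsg.SU n F q,
      CfsgLib.UnitOrders.singerM n q ∣ orderOf (QuotientGroup.mk g : Cfsg.PSU n F q) := by
    rcases Nat.even_or_odd n with he | ho
    · exact CfsgLib.UnitOrders.exists_singer_even hτ hττ hne hF hq hq1 hn he
    · exact CfsgLib.UnitOrders.exists_singer_odd hτ hττ hne hF hq hq1 hn ho
  set X : Cfsg.PSU n F q := QuotientGroup.mk X0
  obtain ⟨e, he, he2, he0, he1⟩ := exists_idempotent (F := F) τ (show 2 ≤ n by omega)
  -- the element of order `r`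
  obtain ⟨R, -, hR⟩ := CfsgLib.UnitOrders.exists_lcm_prime hτ hF hn hr hrq hrn 1 he he2 he0 he1
    (by rw [show CfsgLib.UnitOrders.suMat (1 : Cfsg.SU n F q) = 1 from rfl]; exact Commute.one_right _)
  have hW : ∀ v : Multiplicative (Fin m → ZMod r), orderOf v ∣ r := fun v => by
    apply orderOf_dvd_of_pow_eq_one
    apply Multiplicative.toAdd.injective
    funext i
    simp
  have key : ∀ g : Cfsg.SU n F q,
      (∃ x, orderOf (QuotientGroup.mk g : Cfsg.PSU n F q) ∣ orderOf x ∧ r ∣ orderOf x) ∨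
      orderOf (QuotientGroup.mk g : Cfsg.PSU n F q) ∣
        p ^ Nat.clog p n * CfsgLib.UnitOrders.singerM n q := fun g => by
    rcases CfsgLib.UnitOrders.classification hτ hττ hF (by omega) hq ha hTn g with
      ⟨e, h1, h2, h3, h4, h5⟩ | h
    · exact Or.inl (CfsgLib.UnitOrders.exists_lcm_prime hτ hF hn hr hrq hrn g h1 h2 h3 h4 h5)
    · exact Or.inr h
  constructor
  · refine range_orderOf_eq ?_ ?_
    · rintro ⟨g1, g2, g3, v⟩
      induction g1 using QuotientGroup.induction_on with | H g1 =>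
      induction g2 using QuotientGroup.induction_on with | H g2 =>
      induction g3 using QuotientGroup.induction_on with | H g3 =>
      rcases key g1 with ⟨x, h1, h2⟩ | k1
      · exact ⟨(x, QuotientGroup.mk g2, QuotientGroup.mk g3), dvd4 (h1.trans (d1 _)) (d2 _) (d3 _)
          (((hW v).trans h2).trans (d1 _))⟩
      rcases key g2 with ⟨x, h1, h2⟩ | k2
      · exact ⟨(QuotientGroup.mk g1, x, QuotientGroup.mk g3), dvd4 (d1 _) (h1.trans (d2 _)) (d3 _)
          (((hW v).trans h2).trans (d2 _))⟩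
      rcases key g3 with ⟨x, h1, h2⟩ | k3
      · exact ⟨(QuotientGroup.mk g1, QuotientGroup.mk g2, x), dvd4 (d1 _) (d2 _) (h1.trans (d3 _))
          (((hW v).trans h2).trans (d3 _))⟩
      obtain ⟨u, hu⟩ := CfsgLib.UnitOrders.exists_unipotent (T := Nat.clog p n) (p := p) hτ hττ hne hF hn
        (fun _ => Nat.pow_pred_clog_lt_self hp.one_lt (by omega : 1 < n))
      refine ⟨(X, QuotientGroup.mk u, R), ?_⟩
      have hM : p ^ Nat.clog p n * CfsgLib.UnitOrders.singerM n q ∣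
          orderOf (X, (QuotientGroup.mk u : Cfsg.PSU n F q), R) := by
        refine Nat.Coprime.mul_dvd_of_dvd_of_dvd ?_ (hu.trans (d2 _)) (hX.trans (d1 _))
        exact coprime_singerM hp hq ha (by omega) _
      exact dvd4 (k1.trans hM) (k2.trans hM) (k3.trans hM) (((hW v).trans hR).trans (d3 _))
    · rintro ⟨g1, g2, g3⟩
      refine ⟨(g1, g2, g3, 1), dvd3 ?_ ?_ ?_⟩
      · exact d1 _
      · exact d2 _
      · exact (d1 ((g3, 1) : _ × Multiplicative (Fin m → ZMod r))).trans (d3 (g1, g2, g3, (1 : Multiplicative (Fin m → ZMod r))))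
  · intro hpow
    refine range_orderOf_eq ?_ ?_
    · rintro ⟨g1, g2, v⟩
      induction g1 using QuotientGroup.induction_on with | H g1 =>
      induction g2 using QuotientGroup.induction_on with | H g2 =>
      rcases key g1 with ⟨x, h1, h2⟩ | k1
      · exact ⟨(x, QuotientGroup.mk g2), dvd3 (h1.trans (d1 _)) (d22 _)
          (((hW v).trans h2).trans (d1 _))⟩
      rcases key g2 with ⟨x, h1, h2⟩ | k2
      · exact ⟨(QuotientGroup.mk g1, x), dvd3 (d1 _) (h1.trans (d22 _))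
          (((hW v).trans h2).trans (d22 _))⟩
      obtain ⟨u, f, hu, hf1, hf2, hf3, hf4, hf5⟩ := CfsgLib.UnitOrders.exists_unipotent_idempotent
        (T := Nat.clog p n) (p := p) hτ hττ hne hF hn (fun _ => by
          have h1 : p ^ (Nat.clog p n - 1) < n := Nat.pow_pred_clog_lt_self hp.one_lt (by omega : 1 < n)
          have h2 : p ^ (Nat.clog p n - 1) ≠ n - 1 := fun h => hpow ⟨Nat.clog p n - 1, h.symm⟩
          omega)
      obtain ⟨Y, hY1, hY2⟩ := CfsgLib.UnitOrders.exists_lcm_prime hτ hF hn hr hrq hrn u hf1 hf2 hf3 hf4 hf5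
      refine ⟨(X, Y), ?_⟩
      have hM : p ^ Nat.clog p n * CfsgLib.UnitOrders.singerM n q ∣ orderOf (X, Y) := by
        refine Nat.Coprime.mul_dvd_of_dvd_of_dvd (coprime_singerM hp hq ha (by omega) _) ?_ (hX.trans (d1 _))
        exact (hu.trans hY1).trans (d22 _)
      exact dvd3 (k1.trans hM) (k2.trans hM) (((hW v).trans hY2).trans (d22 _))
    · rintro ⟨g1, g2⟩
      refine ⟨(g1, g2, (1 : Multiplicative (Fin m → ZMod r))), dvd2 (d1 _) ?_⟩
      exact d2 _


end Cfsg.Agent.S2511
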