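import Cfsg.Statements.S2512
import Cfsg.Agent.SympOrders.Witness
-- import your own Cfsg.Agent.* helpers here

set_option autoImplicit false
open Cfsg

namespace Cfsg.Agent.S2512

open CfsgLib.SympOrders (exists_torus_plus exists_torus_minus half_dvd_orderOf exists_block classification)

section
variable {X Y Z W : Type*} [Monoid X] [Monoid Y] [Monoid Z] [Monoid W]

theorem d1 (w : X × Y) : orderOf w.1 ∣ orderOf w := orderOf_map_dvd (MonoidHom.fst X Y) w

theorem d22 (w : X × Y) : orderOf w.2 ∣ orderOf w := orderOf_map_dvd (MonoidHom.snd X Y) w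

theorem d2 (w : X × Y × Z) : orderOf w.2.1 ∣ orderOf w :=
  (d1 w.2).trans (orderOf_map_dvd (MonoidHom.snd X (Y × Z)) w)

theorem d3 (w : X × Y × Z) : orderOf w.2.2 ∣ orderOf w :=
  (orderOf_map_dvd (MonoidHom.snd Y Z) w.2).trans (orderOf_map_dvd (MonoidHom.snd X (Y × Z)) w)

theorem dvd2 {w : X × Y} {k : ℕ} (ha : orderOf w.1 ∣ k) (hb : orderOf w.2 ∣ k) : orderOf w ∣ k := by
  rw [Prod.orderOf]; exact Nat.lcm_dvd ha hb

theorem dvd3 {w : X × Y × Z} {k : ℕ} (ha : orderOf w.1 ∣ k) (hb : orderOf w.2.1 ∣ k)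
    (hc : orderOf w.2.2 ∣ k) : orderOf w ∣ k := dvd2 ha (dvd2 hb hc)

theorem dvd4 {w : X × Y × Z × W} {k : ℕ} (ha : orderOf w.1 ∣ k) (hb : orderOf w.2.1 ∣ k)
    (hc : orderOf w.2.2.1 ∣ k) (hd : orderOf w.2.2.2 ∣ k) : orderOf w ∣ k :=
  dvd2 ha (dvd3 hb hc hd)

end

theorem range_orderOf_eq {X Y : Type*} [Group X] [Group Y] [Finite X] [Finite Y]
    (h1 : ∀ x : X, ∃ y : Y, orderOf x ∣ orderOf y) (h2 : ∀ y : Y, ∃ x : X, orderOf y ∣ orderOf x) :
    Set.range (orderOf : X → ℕ) = Set.range (orderOf : Y → ℕ) := by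
  ext m
  constructor
  · rintro ⟨x, rfl⟩
    obtain ⟨y, hy⟩ := h1 x
    exact ⟨y ^ (orderOf y / orderOf x), orderOf_pow_orderOf_div (orderOf_pos y).ne' hy⟩
  · rintro ⟨y, rfl⟩
    obtain ⟨x, hx⟩ := h2 y
    exact ⟨x ^ (orderOf x / orderOf y), orderOf_pow_orderOf_div (orderOf_pos x).ne' hx⟩

theorem coprime_qpow {q p a j : ℕ} (hp : p.Prime) (hq : q = p ^ a) (ha : 1 ≤ a) (hj : 1 ≤ j) (t : ℕ) :
    Nat.Coprime (p ^ t) (q ^ j + 1) ∧ Nat.Coprime (p ^ t) (q ^ j - 1) := by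
  have hpq : p ∣ q ^ j := dvd_pow (hq ▸ dvd_pow_self p (by omega)) (by omega)
  have hpos : 1 ≤ q ^ j := Nat.one_le_pow _ _ (hq ▸ Nat.pow_pos hp.pos)
  constructor <;> refine Nat.Coprime.pow_left t ((hp.coprime_iff_not_dvd).mpr fun h => hp.not_dvd_one ?_)
  · exact (Nat.dvd_add_right hpq).mp h
  · have := Nat.dvd_sub hpq h
    rwa [Nat.sub_sub_self hpos] at this

theorem exists_order_two {F : Type*} [Field F] [Fintype F] {p : ℕ} [Fact p.Prime] [CharP F p]
    (hodd : Odd (Fintype.card F)) :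
    ∃ z : Matrix.symplecticGroup (Fin 1) F, orderOf z = 2 := by
  obtain ⟨z, hz⟩ := CfsgLib.SympOrders.exists_torus_minus (F := F) (j := 1) le_rfl (p := p)
  rw [pow_one] at hz
  have hq1 : 1 < Fintype.card F := Fintype.one_lt_card
  have h2 : 2 ∣ Fintype.card F - 1 := by have := Nat.odd_iff.mp hodd; omega
  exact ⟨z ^ (orderOf z / 2), orderOf_pow_orderOf_div (by omega) (hz ▸ h2)⟩

/-- A unipotent element of `PSp` of order divisible by `p ^ T`. -/
theorem exists_pT {F : Type*} [Field F] [Fintype F] {n p T : ℕ} [Fact p.Prime] [CharP F p] (hn : 1 ≤ n)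
    (hT : 1 ≤ T → p ^ (T - 1) < 2 * n) : ∃ u : Cfsg.PSp n F, p ^ T ∣ orderOf u := by
  classical
  have hp : p.Prime := Fact.out
  haveI : Nonempty (Fin n) := ⟨⟨0, hn⟩⟩
  obtain ⟨u, ⟨r, hr⟩, hu⟩ := CfsgLib.SympOrders.exists_regular_unipotent (F := F) hn
  set U := (u : Matrix (Fin n ⊕ Fin n) (Fin n ⊕ Fin n) F) with hU
  refine ⟨QuotientGroup.mk u, ?_⟩
  have hbig : U ^ p ^ r = 1 := by
    have hle : r ≤ p ^ r := (Nat.lt_pow_self hp.one_lt).le
    have : (U - 1) ^ p ^ r = 0 := by rw [← Nat.sub_add_cancel hle, pow_add, hr, mul_zero]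
    rwa [sub_pow_char_pow_of_commute (p := p) (h := Commute.one_right _), one_pow, sub_eq_zero] at this
  obtain ⟨i, -, hi⟩ := (Nat.dvd_prime_pow hp).mp (orderOf_dvd_of_pow_eq_one
    ((CfsgLib.SympOrders.mk_pow_eq_one_iff u (p ^ r)).mpr ⟨1, by rw [one_smul]; exact hbig⟩))
  rw [hi]
  refine pow_dvd_pow _ ?_
  by_contra hlt
  obtain ⟨c, hc⟩ := (CfsgLib.SympOrders.mk_pow_eq_one_iff u (p ^ (T - 1))).mp
    (orderOf_dvd_iff_pow_eq_one.mp (hi ▸ pow_dvd_pow _ (by omega)))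
  have hk := hT (by omega)
  apply hu _ hk
  have h1 : (U - 1) ^ p ^ (T - 1) = (c - 1) • 1 := by
    rw [sub_pow_char_pow_of_commute (p := p) (h := Commute.one_right _), hc, one_pow, sub_smul, one_smul]
  have h2 : ((c - 1) • (1 : Matrix (Fin n ⊕ Fin n) (Fin n ⊕ Fin n) F)) ^ r = 0 := by
    rw [← h1, ← pow_mul, mul_comm, pow_mul, hr, zero_pow (pow_ne_zero _ hp.ne_zero)]
  rw [h1]
  rw [_root_.smul_pow, one_pow, smul_eq_zero] at h2
  rcases h2 with h2 | h2
  · rw [pow_eq_zero_iff' .. |>.mp h2 |>.1, zero_smul]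
  · exact absurd h2 one_ne_zero

/-- Let F be a finite field of odd order q = p^a, n ≥ 2 (with q ≥ 3 automatic), and L = PSp(2n, F). Then for every m the direct product L × L × L × (ℤ/2)^m has the same set of element orders as L × L × L; and if 2n − 1 is not a power of p, then already L × L × (ℤ/2)^m has the same set of element orders as L × L. -/
theorem result {F : Type*} [Field F] [Fintype F] (p a n m : ℕ) (hp : p.Prime) (ha : 1 ≤ a) (hF : Fintype.card F = p ^ a) (hodd : Odd (Fintype.card F))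
    (hn : 2 ≤ n) :
    Set.range (orderOf : Cfsg.PSp n F × Cfsg.PSp n F × Cfsg.PSp n F × Multiplicative (Fin m → ZMod 2) → ℕ) = Set.range (orderOf : Cfsg.PSp n F × Cfsg.PSp n F × Cfsg.PSp n F → ℕ) ∧
    ((¬ ∃ j : ℕ, 2 * n - 1 = p ^ j) →
      Set.range (orderOf : Cfsg.PSp n F × Cfsg.PSp n F × Multiplicative (Fin m → ZMod 2) → ℕ) = Set.range (orderOf : Cfsg.PSp n F × Cfsg.PSp n F → ℕ)) := by
  classical
  haveI : Fact p.Prime := ⟨hp⟩
  haveI : CharP F p := charP_of_card_eq_prime_pow hF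
  haveI : Fact (Nat.Prime 2) := ⟨Nat.prime_two⟩
  set q := Fintype.card F with hq
  have hq1 : 1 < q := Fintype.one_lt_card
  have hqodd : q % 2 = 1 := Nat.odd_iff.mp hodd
  have hp2 : p ≠ 2 := by
    intro h; subst h
    rw [hF, Nat.pow_mod] at hqodd
    simp [Nat.zero_pow (show 0 < a by omega)] at hqodd
  set T := Nat.clog p (2 * n)
  have hT : 2 * n ≤ p ^ T := Nat.le_pow_clog hp.one_lt _
  have hT' : 1 ≤ T → p ^ (T - 1) < 2 * n := fun _ => Nat.pow_pred_clog_lt_self hp.one_lt (by omega : 1 < 2 * n)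
  have hqp : ∀ i, 1 ≤ i → (q ^ i) % 2 = 1 := fun i _ => by rw [Nat.pow_mod, hqodd, one_pow] <;> norm_num
  -- witnesses
  obtain ⟨zp, hzp⟩ := exists_torus_plus (F := F) (j := n) (by omega) (p := p)
  obtain ⟨zm, hzm⟩ := exists_torus_minus (F := F) (j := n) (by omega) (p := p)
  have hMp : (q ^ n + 1) / 2 ∣ orderOf (QuotientGroup.mk zp : Cfsg.PSp n F) :=
    half_dvd_orderOf (by omega) zp hzp (Nat.even_iff.mpr (by have := hqp n (by omega); omega))
  have hMm : (q ^ n - 1) / 2 ∣ orderOf (QuotientGroup.mk zm : Cfsg.PSp n F) :=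
    half_dvd_orderOf (by omega) zm hzm (Nat.even_iff.mpr (by have := hqp n (by omega); omega))
  -- the odd one of the two numbers
  obtain ⟨M, X, hX, hMplus, hMminus⟩ : ∃ (M : ℕ) (X : Cfsg.PSp n F), M ∣ orderOf X ∧
      ((q ^ n + 1) / 2 = M ∨ 2 ∣ (q ^ n + 1) / 2) ∧ ((q ^ n - 1) / 2 = M ∨ 2 ∣ (q ^ n - 1) / 2) := by
    by_cases h : 2 ∣ (q ^ n + 1) / 2
    · exact ⟨_, _, hMm, Or.inr h, Or.inl rfl⟩
    · refine ⟨_, _, hMp, Or.inl rfl, Or.inr ?_⟩
      have := hqp n (by omega)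
      omega
  -- an element of order divisible by `2` and by `p ^ t`
  have hblock2 : ∀ t, (1 ≤ t → p ^ (t - 1) < 2 * (n - 1)) →
      ∃ x : Cfsg.PSp n F, 2 ∣ orderOf x ∧ p ^ t ∣ orderOf x := by
    intro t ht
    obtain ⟨zneg, hzneg⟩ := exists_order_two (F := F) (p := p) hodd
    obtain ⟨l, rfl⟩ := Nat.exists_eq_add_of_le (by omega : 1 ≤ n)
    exact exists_block le_rfl (by omega) zneg hzneg (by simpa using ht)
  obtain ⟨R, hR, -⟩ := hblock2 0 (by omega)
  have hW : ∀ v : Multiplicative (Fin m → ZMod 2), orderOf v ∣ 2 := fun v => by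
    apply orderOf_dvd_of_pow_eq_one
    apply Multiplicative.toAdd.injective
    funext i
    simp [(show (2 : ZMod 2) = 0 from rfl)]
  have key : ∀ g : Matrix.symplecticGroup (Fin n) F,
      (∃ x : Cfsg.PSp n F, orderOf (QuotientGroup.mk g : Cfsg.PSp n F) ∣ orderOf x ∧ 2 ∣ orderOf x) ∨
      orderOf (QuotientGroup.mk g : Cfsg.PSp n F) ∣ p ^ T ∨
      orderOf (QuotientGroup.mk g : Cfsg.PSp n F) ∣ M := by
    intro g
    rcases classification (by omega) hodd hT g with h | h | h | h | ⟨j, t, hj, hjn, ht, h⟩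
    · exact Or.inl h
    · exact Or.inr (Or.inl h)
    · rcases hMplus with h' | h'
      · exact Or.inr (Or.inr (h' ▸ h))
      · exact Or.inl ⟨_, h.trans hMp, h'.trans hMp⟩
    · rcases hMminus with h' | h'
      · exact Or.inr (Or.inr (h' ▸ h))
      · exact Or.inl ⟨_, h.trans hMm, h'.trans hMm⟩
    · left
      obtain ⟨l, rfl⟩ := Nat.exists_eq_add_of_le hjn.le
      have hl : 1 ≤ l := by omega
      have ht' : 1 ≤ t → p ^ (t - 1) < 2 * l := by simpa using ht
      have hjp : Fintype.card F ^ j % 2 = 1 := hqp j hj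
      rcases h with h | h
      · obtain ⟨z, hz⟩ := exists_torus_plus (F := F) (j := j) hj (p := p)
        obtain ⟨x, hx1, hx2⟩ := exists_block hj hl z hz ht'
        exact ⟨x, h.trans (Nat.Coprime.mul_dvd_of_dvd_of_dvd (coprime_qpow hp hF ha hj t).1 hx2 hx1),
          (Dvd.dvd.trans (by omega) hx1)⟩
      · obtain ⟨z, hz⟩ := exists_torus_minus (F := F) (j := j) hj (p := p)
        obtain ⟨x, hx1, hx2⟩ := exists_block hj hl z hz ht'
        exact ⟨x, h.trans (Nat.Coprime.mul_dvd_of_dvd_of_dvd (coprime_qpow hp hF ha hj t).2 hx2 hx1),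
          (Dvd.dvd.trans (by omega) hx1)⟩
  constructor
  · refine range_orderOf_eq ?_ ?_
    · rintro ⟨g1, g2, g3, v⟩
      induction g1 using QuotientGroup.induction_on with | H g1 =>
      induction g2 using QuotientGroup.induction_on with | H g2 =>
      induction g3 using QuotientGroup.induction_on with | H g3 =>
      rcases key g1 with ⟨x, h1, h2⟩ | k1
      · exact ⟨(x, QuotientGroup.mk g2, QuotientGroup.mk g3), dvd4 (h1.trans (d1 _)) (d2 _) (d3 _)
          (((hW v).trans h2).trans (d1 _))⟩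
      rcases key g2 with ⟨x, h1, h2⟩ | k2
      · exact ⟨(QuotientGroup.mk g1, x, QuotientGroup.mk g3), dvd4 (d1 _) (h1.trans (d2 _)) (d3 _)
          (((hW v).trans h2).trans (d2 _))⟩
      rcases key g3 with ⟨x, h1, h2⟩ | k3
      · exact ⟨(QuotientGroup.mk g1, QuotientGroup.mk g2, x), dvd4 (d1 _) (d2 _) (h1.trans (d3 _))
          (((hW v).trans h2).trans (d3 _))⟩
      obtain ⟨u, hu⟩ : ∃ u : Cfsg.PSp n F, p ^ T ∣ orderOf u := exists_pT (p := p) (by omega) hT'
      refine ⟨(X, u, R), ?_⟩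
      have hM : ∀ k, k ∣ p ^ T ∨ k ∣ M → k ∣ orderOf (X, u, R) := by
        rintro k (hk | hk)
        · exact hk.trans (hu.trans (d2 _))
        · exact hk.trans (hX.trans (d1 _))
      exact dvd4 (hM _ k1) (hM _ k2) (hM _ k3) (((hW v).trans hR).trans (d3 _))
    · rintro ⟨g1, g2, g3⟩
      refine ⟨(g1, g2, g3, 1), dvd3 ?_ ?_ ?_⟩
      · exact d1 _
      · exact d2 _
      · exact (d1 ((g3, 1) : _ × Multiplicative (Fin m → ZMod 2))).trans (d3 (g1, g2, g3, (1 : Multiplicative (Fin m → ZMod 2))))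
  · intro hpow
    refine range_orderOf_eq ?_ ?_
    · rintro ⟨g1, g2, v⟩
      induction g1 using QuotientGroup.induction_on with | H g1 =>
      induction g2 using QuotientGroup.induction_on with | H g2 =>
      rcases key g1 with ⟨x, h1, h2⟩ | k1
      · exact ⟨(x, QuotientGroup.mk g2), dvd3 (h1.trans (d1 _)) (d22 _)
          (((hW v).trans h2).trans (d1 _))⟩
      rcases key g2 with ⟨x, h1, h2⟩ | k2
      · exact ⟨(QuotientGroup.mk g1, x), dvd3 (d1 _) (h1.trans (d22 _))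
          (((hW v).trans h2).trans (d22 _))⟩
      obtain ⟨Y, hY2, hYT⟩ := hblock2 T (fun h => by
        have h1 := hT' h
        have h2 : p ^ (T - 1) ≠ 2 * n - 1 := fun h => hpow ⟨T - 1, h.symm⟩
        have h3 : p ^ (T - 1) % 2 = 1 := by
          rw [Nat.pow_mod, (hp.eq_two_or_odd.resolve_left hp2), one_pow] <;> norm_num
        omega)
      refine ⟨(X, Y), ?_⟩
      have hM : ∀ k, k ∣ p ^ T ∨ k ∣ M → k ∣ orderOf (X, Y) := by
        rintro k (hk | hk)
        · exact hk.trans (hYT.trans (d22 _))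
        · exact hk.trans (hX.trans (d1 _))
      exact dvd3 (hM _ k1) (hM _ k2) (((hW v).trans hY2).trans (d22 _))
    · rintro ⟨g1, g2⟩
      refine ⟨(g1, g2, (1 : Multiplicative (Fin m → ZMod 2))), dvd2 (d1 _) ?_⟩
      exact d2 _

end Cfsg.Agent.S2512
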