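import Cfsg.Statements.S2513
import Cfsg.Agent.LinearOrders.Projective
-- import your own Cfsg.Agent.* helpers here

set_option autoImplicit false
open Cfsg

namespace Cfsg.Agent.S2513

open CfsgLib.LinearOrders (exists_unipotent)

open CfsgLib.LinearOrders in
theorem orderOf_mk_dvd {F : Type*} [Field F] [Fintype F] {n : ℕ} (hn : 1 ≤ n) {p T P : ℕ}
    [Fact p.Prime] [CharP F p] (hT : n ≤ p ^ T)
    (hP : ∀ d, 1 ≤ d → d ≤ n → (Fintype.card F ^ d - 1) ∣ P)
    (g : Matrix.SpecialLinearGroup (Fin n) F) :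
    orderOf (QuotientGroup.mk g : Matrix.ProjectiveSpecialLinearGroup (Fin n) F) ∣ p ^ T * P := by
  haveI : Nonempty (Fin n) := ⟨⟨0, hn⟩⟩
  obtain ⟨a, E, hE, ho⟩ :=
    Nat.exists_eq_pow_mul_and_not_dvd (orderOf_pos g).ne' p (Fact.out : p.Prime).ne_one
  have hg : (g : Matrix (Fin n) (Fin n) F) ^ (p ^ a * E) = 1 := by
    rw [← Matrix.SpecialLinearGroup.coe_pow, ← ho, pow_orderOf_eq_one, Matrix.SpecialLinearGroup.coe_one]
  have h1 := pow_eq_one_of_semisimple ((g : Matrix (Fin n) (Fin n) F) ^ p ^ a) (P := P) hE (by rw [← pow_mul]; exact hg)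
    (fun d h1 h2 => hP d h1 (by simpa using h2))
  rw [← pow_mul] at h1
  refine ((Nat.dvd_gcd (orderOf_dvd_of_pow_eq_one ((mk_pow_eq_one_iff g _).mpr ⟨1, by
    rw [one_smul]; exact pow_pTimes (T := T) _ hg (by simpa using hT)⟩))
    (orderOf_dvd_of_pow_eq_one ((mk_pow_eq_one_iff g _).mpr ⟨1, by rw [one_smul]; exact h1⟩))).trans
    ((Nat.gcd_mul_left_dvd_mul_gcd _ _ _).trans ?_))
  exact mul_dvd_mul (Nat.gcd_dvd_left _ _) ((Nat.Coprime.dvd_of_dvd_mul_left
    (Nat.Coprime.coprime_dvd_left (Nat.gcd_dvd_left _ _)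
      ((((Fact.out : p.Prime).coprime_iff_not_dvd).mpr hE).symm.pow_right a))
    (Nat.gcd_dvd_right _ _)))

open CfsgLib.LinearOrders in
theorem exists_block {F : Type*} [Field F] [Fintype F] {p d n : ℕ} [Fact p.Prime] [CharP F p]
    (hF : Fintype.card F = 2) (hd : 1 ≤ d) (hdn : d ≤ n) :
    ∃ x : Matrix.ProjectiveSpecialLinearGroup (Fin n) F, 2 ^ d - 1 ∣ orderOf x := by
  classical
  haveI : NeZero d := ⟨by omega⟩
  haveI : Nonempty (Fin n) := ⟨⟨0, by omega⟩⟩
  obtain ⟨l, rfl⟩ := Nat.exists_eq_add_of_le hdn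
  let K := FiniteField.Extension F p d
  haveI : Finite K := Module.finite_of_finite F
  let b : Module.Basis (Fin d) F K :=
    Module.finBasisOfFinrankEq F K (FiniteField.finrank_extension F p d)
  obtain ⟨y, hy⟩ := IsCyclic.exists_ofOrder_eq_natCard (α := Kˣ)
  rw [Nat.card_units, FiniteField.natCard_extension, Nat.card_eq_fintype_card, hF] at hy
  have hsc : ∀ c : F, c ≠ 0 → c = 1 := by
    intro c hc
    have := FiniteField.pow_card_sub_one_eq_one c hc
    simpa [hF] using this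
  let A : Matrix (Fin (d + l)) (Fin (d + l)) F :=
    Matrix.reindexAlgEquiv F F finSumFinEquiv
      (Matrix.fromBlocks ((singerGL F b y : GL (Fin d) F) : Matrix (Fin d) (Fin d) F) 0 0 1)
  have hA : A.det = 1 := by
    apply hsc
    simp only [A, Matrix.det_reindexAlgEquiv, Matrix.det_fromBlocks_zero₂₁, Matrix.det_one, mul_one]
    exact Matrix.GeneralLinearGroup.det_ne_zero _
  refine ⟨QuotientGroup.mk (⟨A, hA⟩ : Matrix.SpecialLinearGroup (Fin (d + l)) F), ?_⟩
  set o := orderOf (QuotientGroup.mk (⟨A, hA⟩ : Matrix.SpecialLinearGroup (Fin (d + l)) F) :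
    Matrix.ProjectiveSpecialLinearGroup (Fin (d + l)) F)
  obtain ⟨c, hc⟩ := (mk_pow_eq_one_iff (⟨A, hA⟩ : Matrix.SpecialLinearGroup (Fin (d + l)) F) o).mp
    (pow_orderOf_eq_one _)
  change A ^ o = c • 1 at hc
  have hc1 : c = 1 := hsc c fun h0 => by
    have := congrArg Matrix.det hc
    rw [Matrix.det_pow, hA, one_pow, h0, zero_smul, Matrix.det_zero] at this
    exact one_ne_zero this
  rw [hc1, one_smul] at hc
  have hpow : Matrix.fromBlocks (((singerGL F b y) ^ o : GL (Fin d) F) : Matrix (Fin d) (Fin d) F) 0 0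
      (1 : Matrix (Fin l) (Fin l) F) = 1 := by
    have h1 : ∀ k : ℕ, (Matrix.fromBlocks ((singerGL F b y : GL (Fin d) F) : Matrix (Fin d) (Fin d) F) 0 0
        (1 : Matrix (Fin l) (Fin l) F)) ^ k =
        Matrix.fromBlocks (((singerGL F b y) ^ k : GL (Fin d) F) : Matrix (Fin d) (Fin d) F) 0 0 1 := by
      intro k
      induction k with
      | zero => simp [Matrix.fromBlocks_one]
      | succ k ih => rw [pow_succ, ih, Matrix.fromBlocks_multiply]; simp [pow_succ]
    rw [← h1]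
    apply (Matrix.reindexAlgEquiv F F finSumFinEquiv).injective
    rw [map_pow, map_one]
    exact hc
  rw [← Matrix.fromBlocks_one, Matrix.fromBlocks_inj] at hpow
  have h2 : y ^ o = 1 := singerGL_injective F b (by rw [map_pow, map_one]; exact Units.ext hpow.1)
  exact hy ▸ orderOf_dvd_of_pow_eq_one h2

theorem lcm_odd (n : ℕ) (h : ∀ d ∈ Finset.Icc 1 n, ((2 ^ d - 1 : ℕ) : ZMod 2) = 1) :
    (((Finset.Icc 1 n).lcm fun d => 2 ^ d - 1 : ℕ) : ZMod 2) = 1 := by
  have h2 : ∀ m : ℕ, (m : ZMod 2) = 1 ↔ ¬ 2 ∣ m := fun m => by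
    rw [ZMod.natCast_eq_one_iff_odd, Nat.odd_iff]; omega
  rw [h2]
  intro hdvd
  have h3 : (Finset.Icc 1 n).lcm (fun d => 2 ^ d - 1) ∣ (Finset.Icc 1 n).prod fun d => 2 ^ d - 1 :=
    Finset.lcm_dvd fun d hd => Finset.dvd_prod_of_mem _ hd
  obtain ⟨d, hd, hd2⟩ := (Nat.prime_two.prime.dvd_finset_prod_iff _).mp (hdvd.trans h3)
  exact (h2 _).mp (h d hd) hd2

theorem range_orderOf_eq {X Y : Type*} [Group X] [Group Y] [Finite X] [Finite Y]
    (h1 : ∀ x : X, ∃ y : Y, orderOf x ∣ orderOf y) (h2 : ∀ y : Y, ∃ x : X, orderOf y ∣ orderOf x) :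
    Set.range (orderOf : X → ℕ) = Set.range (orderOf : Y → ℕ) := by
  ext m
  constructor
  · rintro ⟨x, rfl⟩
    obtain ⟨y, hy⟩ := h1 x
    exact ⟨y ^ (orderOf y / orderOf x), orderOf_pow_orderOf_div (orderOf_pos y).ne' hy⟩
  · rintro ⟨y, rfl⟩
    obtain ⟨x, hx⟩ := h2 y
    exact ⟨x ^ (orderOf x / orderOf y), orderOf_pow_orderOf_div (orderOf_pos x).ne' hx⟩

/-- Let F be the field with two elements, n ≥ 2, L = PSL(n, F) and k₀ = ⌊(n + 3)/2⌋. Then for every k ≥ k₀ the direct product of k copies of L has the same set of element orders as the direct product of k₀ copies of L. -/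
theorem result {F : Type*} [Field F] [Fintype F] (hF : Fintype.card F = 2) (n k : ℕ) (hn : 2 ≤ n) (hk : (n + 3) / 2 ≤ k) :
    Set.range (orderOf : (Fin k → Matrix.ProjectiveSpecialLinearGroup (Fin n) F) → ℕ) = Set.range (orderOf : (Fin ((n + 3) / 2) → Matrix.ProjectiveSpecialLinearGroup (Fin n) F) → ℕ) := by
  classical
  haveI : Fact (Nat.Prime 2) := ⟨Nat.prime_two⟩
  haveI : CharP F 2 := charP_of_card_eq_prime (by rw [hF])
  set T := Nat.clog 2 n
  set P := (Finset.Icc 1 n).lcm fun d => 2 ^ d - 1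
  set k₀ := (n + 3) / 2
  -- every element order divides `2 ^ T * P`
  have hup : ∀ g : Matrix.ProjectiveSpecialLinearGroup (Fin n) F, orderOf g ∣ 2 ^ T * P := by
    intro g
    induction g using QuotientGroup.induction_on with | H g =>
    exact orderOf_mk_dvd (by omega) (Nat.le_pow_clog one_lt_two n)
      (fun d h1 h2 => hF.symm ▸ Finset.dvd_lcm (f := fun d => 2 ^ d - 1) (Finset.mem_Icc.mpr ⟨h1, h2⟩)) g
  -- the witnesses
  obtain ⟨u, -, hu⟩ := exists_unipotent (F := F) (n := n) (p := 2) (T := T) (le_refl n) (by omega)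
    (fun _ => Nat.pow_pred_clog_lt_self one_lt_two (by omega : 1 < n))
  choose S hS using fun (i : Fin (k₀ - 1)) =>
    exists_block (F := F) (p := 2) (d := n / 2 + 1 + i.val) (n := n) hF (by omega) (by omega)
  let x : Fin k₀ → Matrix.ProjectiveSpecialLinearGroup (Fin n) F := fun i =>
    if h : i.val < k₀ - 1 then S ⟨i.val, h⟩ else QuotientGroup.mk u
  have hxi : ∀ i, orderOf (x i) ∣ orderOf x := fun i =>
    orderOf_map_dvd (Pi.evalMonoidHom (fun _ => Matrix.ProjectiveSpecialLinearGroup (Fin n) F) i) x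
  have hlow : 2 ^ T * P ∣ orderOf x := by
    refine Nat.Coprime.mul_dvd_of_dvd_of_dvd ?_ ?_ (Finset.lcm_dvd fun d hd => ?_)
    · refine Nat.Coprime.pow_left T ((Nat.prime_two.coprime_iff_not_dvd).mpr fun h => ?_)
      have : (P : ZMod 2) = 1 := lcm_odd _ fun d hd => by
        rw [Finset.mem_Icc] at hd
        rw [Nat.cast_sub (Nat.one_le_two_pow), Nat.cast_pow]
        rw [ZMod.natCast_self, zero_pow (by omega), Nat.cast_one, zero_sub, ZMod.neg_eq_self_mod_two]
      rw [(ZMod.natCast_eq_zero_iff_even).mpr (even_iff_two_dvd.mpr h)] at this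
      exact zero_ne_one this
    · have := hxi ⟨k₀ - 1, by omega⟩
      simp only [x, lt_irrefl, dite_false] at this
      exact hu.trans this
    · rw [Finset.mem_Icc] at hd
      obtain ⟨j, hj1, hj2⟩ : ∃ j, n / 2 < d * j ∧ d * j ≤ n := by
        by_cases h : n / 2 < d
        · exact ⟨1, by omega, by omega⟩
        · have h1 := Nat.div_add_mod n d
          have h2 := Nat.mod_lt n (show 0 < d by omega)
          exact ⟨n / d, by omega, by omega⟩
      refine (Nat.pow_sub_one_dvd_pow_sub_one 2 (dvd_mul_right d j)).trans ?_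
      have hi : d * j - (n / 2 + 1) < k₀ - 1 := by omega
      have := hxi ⟨d * j - (n / 2 + 1), by omega⟩
      simp only [x, hi, dite_true] at this
      refine Dvd.dvd.trans ?_ this
      have h3 := hS ⟨d * j - (n / 2 + 1), hi⟩
      rwa [show n / 2 + 1 + (d * j - (n / 2 + 1)) = d * j by omega] at h3
  refine range_orderOf_eq ?_ ?_
  · intro y
    refine ⟨x, ?_⟩
    refine dvd_trans ?_ hlow
    apply orderOf_dvd_of_pow_eq_one
    funext i
    exact orderOf_dvd_iff_pow_eq_one.mp (hup (y i))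
  · intro y
    refine ⟨fun i => if h : i.val < k₀ then y ⟨i.val, h⟩ else 1, ?_⟩
    apply orderOf_dvd_of_pow_eq_one
    funext i
    rw [Pi.pow_apply, Pi.one_apply, ← orderOf_dvd_iff_pow_eq_one]
    have hlt : i.val < k := lt_of_lt_of_le i.2 hk
    refine Dvd.dvd.trans ?_ (orderOf_map_dvd
      (Pi.evalMonoidHom (fun _ => Matrix.ProjectiveSpecialLinearGroup (Fin n) F) (⟨i.val, hlt⟩ : Fin k)) _)
    simp

end Cfsg.Agent.S2513
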