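import Cfsg.Statements.S2514
-- import your own Cfsg.Agent.* helpers here

set_option autoImplicit false
open Cfsg

namespace Cfsg.Agent.S2514

theorem exists_maximal_multiple {X : Type*} [Group X] [Finite X] (x : X) :
    ∃ m, m ∈ {n : ℕ | n ∈ Set.range (orderOf : X → ℕ) ∧
      ∀ a ∈ Set.range (orderOf : X → ℕ), n ∣ a → a = n} ∧ orderOf x ∣ m := by
  haveI := Fintype.ofFinite X
  obtain ⟨y, hy, hmax⟩ := Finset.exists_max_image
    (Finset.univ.filter fun y : X => orderOf x ∣ orderOf y) orderOf ⟨x, by simp⟩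
  simp only [Finset.mem_filter, Finset.mem_univ, true_and] at hy hmax
  refine ⟨orderOf y, ⟨⟨y, rfl⟩, ?_⟩, hy⟩
  rintro a ⟨z, rfl⟩ hz
  exact le_antisymm (hmax z (hy.trans hz)) (Nat.le_of_dvd (orderOf_pos z) hz)

theorem range_orderOf_eq {X Y : Type*} [Group X] [Group Y] [Finite X] [Finite Y]
    (h1 : ∀ x : X, ∃ y : Y, orderOf x ∣ orderOf y) (h2 : ∀ y : Y, ∃ x : X, orderOf y ∣ orderOf x) :
    Set.range (orderOf : X → ℕ) = Set.range (orderOf : Y → ℕ) := by
  ext m
  constructor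
  · rintro ⟨x, rfl⟩
    obtain ⟨y, hy⟩ := h1 x
    exact ⟨y ^ (orderOf y / orderOf x), orderOf_pow_orderOf_div (orderOf_pos y).ne' hy⟩
  · rintro ⟨y, rfl⟩
    obtain ⟨x, hx⟩ := h2 y
    exact ⟨x ^ (orderOf x / orderOf y), orderOf_pow_orderOf_div (orderOf_pos x).ne' hx⟩

/-- For a finite group X write μ(X) for the set of element orders of X that are maximal under divisibility. Let G and H be finite groups and k ≥ 1 such that μ(H) ⊆ μ(G) and μ(G) has fewer than k elements outside μ(H). Then the direct product of k copies of G has the same set of element orders as the direct product of k − 1 copies of G with H. -/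
theorem result {G H : Type*} [Group G] [Finite G] [Group H] [Finite H] (k : ℕ) (hk : 1 ≤ k)
    (hsub : {n : ℕ | n ∈ Set.range (orderOf : H → ℕ) ∧ ∀ m ∈ Set.range (orderOf : H → ℕ), n ∣ m → m = n} ⊆ {n : ℕ | n ∈ Set.range (orderOf : G → ℕ) ∧ ∀ m ∈ Set.range (orderOf : G → ℕ), n ∣ m → m = n})
    (hfew : ({n : ℕ | n ∈ Set.range (orderOf : G → ℕ) ∧ ∀ m ∈ Set.range (orderOf : G → ℕ), n ∣ m → m = n} \ {n : ℕ | n ∈ Set.range (orderOf : H → ℕ) ∧ ∀ m ∈ Set.range (orderOf : H → ℕ), n ∣ m → m = n}).ncard < k) :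
    Set.range (orderOf : (Fin k → G) → ℕ) = Set.range (orderOf : (Fin (k - 1) → G) × H → ℕ) := by
  classical
  obtain ⟨l, rfl⟩ : ∃ l, k = l + 1 := ⟨k - 1, by omega⟩
  show Set.range (orderOf : (Fin (l + 1) → G) → ℕ) = Set.range (orderOf : (Fin l → G) × H → ℕ)
  apply range_orderOf_eq
  · intro x
    choose m hm hdvd using fun i => exists_maximal_multiple (x i)
    obtain ⟨j, hj⟩ : ∃ j, m j ∈ {n : ℕ | n ∈ Set.range (orderOf : H → ℕ) ∧
        ∀ a ∈ Set.range (orderOf : H → ℕ), n ∣ a → a = n} ∨ ∃ i, i ≠ j ∧ m i = m j := by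
      by_contra hc
      push Not at hc
      have hinj : Function.Injective m := fun i j h => by
        by_contra hne
        exact (hc j).2 i hne h
      have hsub' : Set.range m ⊆
          {n : ℕ | n ∈ Set.range (orderOf : G → ℕ) ∧ ∀ a ∈ Set.range (orderOf : G → ℕ), n ∣ a → a = n} \
          {n : ℕ | n ∈ Set.range (orderOf : H → ℕ) ∧ ∀ a ∈ Set.range (orderOf : H → ℕ), n ∣ a → a = n} :=
        fun y ⟨i, hi⟩ => hi ▸ ⟨hm i, (hc i).1⟩
      have := Set.ncard_le_ncard hsub' ((Set.finite_range orderOf).subset fun n hn => hn.1.1)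
      rw [Set.ncard_range_of_injective hinj, Nat.card_fin] at this
      exact absurd (this.trans_lt hfew) (lt_irrefl _)
    choose g hg using fun i => (hm i).1
    obtain ⟨h, hh⟩ : ∃ h : H, ∀ i, i = j → (m i ∣ orderOf h ∨ ∃ i', i' ≠ j ∧ m i' = m i) := by
      rcases hj with hj | hj
      · obtain ⟨h, hh⟩ := hj.1
        exact ⟨h, fun i hi => Or.inl (by rw [hh, hi])⟩
      · exact ⟨1, fun i hi => Or.inr (hi ▸ hj)⟩
    refine ⟨(fun i => g (j.succAbove i), h), ?_⟩
    have key : ∀ i, i ≠ j → m i ∣ orderOf ((fun i => g (j.succAbove i), h) : (Fin l → G) × H) := by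
      intro i hi
      obtain ⟨c, rfl⟩ := Fin.exists_succAbove_eq hi
      rw [← hg]
      refine dvd_trans ?_ (orderOf_map_dvd (MonoidHom.fst _ H) _)
      exact orderOf_map_dvd (Pi.evalMonoidHom (fun _ : Fin l => G) c) _
    apply orderOf_dvd_of_pow_eq_one
    funext i
    rw [Pi.pow_apply, Pi.one_apply, ← orderOf_dvd_iff_pow_eq_one]
    refine (hdvd i).trans ?_
    by_cases hi : i = j
    · rcases hh i hi with h1 | ⟨i', hi', h1⟩
      · exact h1.trans (orderOf_map_dvd (MonoidHom.snd (Fin l → G) H) _)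
      · exact h1 ▸ key i' hi'
    · exact key i hi
  · intro x
    obtain ⟨m, hm, hdvd⟩ := exists_maximal_multiple x.2
    obtain ⟨g, hg⟩ := (hsub hm).1
    refine ⟨Fin.cons g x.1, ?_⟩
    rw [Prod.orderOf, Nat.lcm_dvd_iff]
    constructor
    · apply orderOf_dvd_of_pow_eq_one
      funext i
      rw [Pi.pow_apply, Pi.one_apply, ← orderOf_dvd_iff_pow_eq_one]
      simpa using orderOf_map_dvd (Pi.evalMonoidHom (fun _ : Fin (l + 1) => G) i.succ)
        (Fin.cons g x.1)
    · refine hdvd.trans ?_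
      rw [← hg]
      simpa using orderOf_map_dvd (Pi.evalMonoidHom (fun _ : Fin (l + 1) => G) 0)
        (Fin.cons g x.1)

end Cfsg.Agent.S2514
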