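import Cfsg.Statements.S2515
import Cfsg.Agent.TensorSpectrum.Witness

set_option autoImplicit false
open Cfsg

namespace Cfsg.Agent.S2515

/-- Let q = 3^α with α ≥ 3 odd. There is a finite group H having a non-trivial normal 3-subgroup and whose element orders maximal under divisibility are exactly 6, 9, q − 1 and (q + 1)/2. -/
theorem result (α : ℕ) (hα : 3 ≤ α) (hodd : Odd α) :
    ∃ (H : Type) (_ : Group H) (_ : Fintype H), (∃ P : Subgroup H, P.Normal ∧ P ≠ ⊥ ∧ IsPGroup 3 ↥P) ∧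
      {n : ℕ | n ∈ Set.range (orderOf : H → ℕ) ∧ ∀ m ∈ Set.range (orderOf : H → ℕ), n ∣ m → m = n} = ({6, 9, 3 ^ α - 1, (3 ^ α + 1) / 2} : Set ℕ) := by
  haveI : Fact (Nat.Prime 3) := ⟨Nat.prime_three⟩
  letI : Fintype (GaloisField 3 α) := Fintype.ofFinite _
  classical
  have hcard : Fintype.card (GaloisField 3 α) = 3 ^ α := by
    rw [Fintype.card_eq_nat_card, GaloisField.card 3 α (by omega)]
  have h4 : 3 ^ α % 4 = 3 := by
    obtain ⟨k, rfl⟩ := hodd
    clear hα hcard
    induction k with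
    | zero => norm_num
    | succ k ih =>
      rw [show 2 * (k + 1) + 1 = (2 * k + 1) + 2 by ring, pow_add (3 : ℕ) (2 * k + 1) 2]
      norm_num [Nat.mul_mod, ih]
  have hbig : 27 ≤ 3 ^ α := le_trans (by norm_num) (Nat.pow_le_pow_right (show 3 > 0 by norm_num) hα)
  refine ⟨CfsgLib.TensorSpectrum.Grp (GaloisField 3 α), inferInstance,
    @Fintype.ofFinite _ (Finite.of_equiv _ SemidirectProduct.equivProd.symm), CfsgLib.TensorSpectrum.exists_core, ?_⟩
  rw [← hcard] at h4 hbig ⊢
  exact CfsgLib.TensorSpectrum.maximal_orders h4 hbig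

end Cfsg.Agent.S2515
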