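import Cfsg.Statements.S2516
-- import your own Cfsg.Agent.* helpers here

set_option autoImplicit false
open Cfsg

namespace Cfsg.Agent.S2516

/-- Let F be a field of characteristic p > 0, V a non-zero finite-dimensional F-vector space, G a finite group and ρ a representation of G on V; form the semidirect product V ⋊ G. For g ∈ G of order k, the coset Vg contains an element of order pk if and only if the minimal polynomial of ρ(g) does not divide 1 + X + ⋯ + X^(k−1). -/
theorem result {F : Type*} [Field F] (p : ℕ) [Fact p.Prime] [CharP F p] {V : Type*} [AddCommGroup V] [Module F V] [FiniteDimensional F V] [Nontrivial V]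
    {G : Type*} [Group G] [Finite G] (ρ : Representation F G V) (g : G) :
    (∃ x : Multiplicative V ⋊[(MulAutMultiplicative V).symm.toMonoidHom.comp
        ((DistribMulAction.toAddAut ((V →ₗ[F] V)ˣ) V).comp ρ.asGroupHom)] G,
        x.right = g ∧ orderOf x = p * orderOf g) ↔
      ¬ (minpoly F (ρ g) ∣ ∑ i ∈ Finset.range (orderOf g), (Polynomial.X : Polynomial F) ^ i) := by
  classical
  set φ := (MulAutMultiplicative V).symm.toMonoidHom.comp
        ((DistribMulAction.toAddAut ((V →ₗ[F] V)ˣ) V).comp ρ.asGroupHom) with hφ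
  set k := orderOf g with hk
  have hφapply : ∀ (h : G) (v : V), φ h (Multiplicative.ofAdd v) = Multiplicative.ofAdd (ρ h v) :=
    fun h v => rfl
  let N : V →ₗ[F] V := ∑ i ∈ Finset.range k, (ρ g) ^ i
  have hleft : ∀ (v : V) (j : ℕ), ((⟨Multiplicative.ofAdd v, g⟩ : Multiplicative V ⋊[φ] G) ^ j) =
      ⟨Multiplicative.ofAdd (∑ i ∈ Finset.range j, ((ρ g) ^ i) v), g ^ j⟩ := by
    intro v j
    induction j with
    | zero => apply SemidirectProduct.ext <;> simp
    | succ j ih =>
      rw [pow_succ, ih]
      apply SemidirectProduct.ext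
      · simp only [SemidirectProduct.mul_left, Finset.sum_range_succ, ofAdd_add]
        rw [hφapply, map_pow]
      · rw [SemidirectProduct.mul_right, ← pow_succ]
  have hgk : g ^ k = 1 := pow_orderOf_eq_one g
  have key : ∀ v : V, N v ≠ 0 →
      orderOf (⟨Multiplicative.ofAdd v, g⟩ : Multiplicative V ⋊[φ] G) = p * k := by
    intro v hv
    set x : Multiplicative V ⋊[φ] G := ⟨Multiplicative.ofAdd v, g⟩
    have hxk : x ^ k = SemidirectProduct.inl (Multiplicative.ofAdd (N v)) := by
      rw [hleft, hgk]
      apply SemidirectProduct.ext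
      · simp [N, LinearMap.sum_apply]
      · simp
    have hdiv : k ∣ orderOf x := by
      have := orderOf_map_dvd (SemidirectProduct.rightHom (φ := φ)) x
      simpa [x] using this
    have hpord : orderOf (x ^ k) = p := by
      rw [hxk, orderOf_injective _ SemidirectProduct.inl_injective]
      apply orderOf_eq_prime
      · rw [← ofAdd_nsmul, ← Nat.cast_smul_eq_nsmul F, CharP.cast_eq_zero, zero_smul, ofAdd_zero]
      · simpa using hv
    have hkpos : 0 < k := orderOf_pos g
    have h := orderOf_pow_of_dvd hkpos.ne' hdiv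
    rw [hpord] at h
    obtain ⟨c, hc⟩ := hdiv
    rw [hc, Nat.mul_div_cancel_left _ hkpos] at h
    rw [hc, h, mul_comm]
  have hN : (minpoly F (ρ g) ∣ ∑ i ∈ Finset.range k, (Polynomial.X : Polynomial F) ^ i) ↔ N = 0 := by
    rw [minpoly.dvd_iff]
    simp [N]
  rw [hN]
  constructor
  · rintro ⟨x, hx, hord⟩ h0
    have hx' : x = ⟨Multiplicative.ofAdd (Multiplicative.toAdd x.left), g⟩ := by
      apply SemidirectProduct.ext <;> simp [hx]
    have hxk : x ^ k = 1 := by
      rw [hx', hleft, hgk]
      have := LinearMap.congr_fun h0 (Multiplicative.toAdd x.left)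
      simp only [N, LinearMap.sum_apply, LinearMap.zero_apply] at this
      rw [this]; rfl
    have := orderOf_dvd_of_pow_eq_one hxk
    rw [hord] at this
    have hkpos : 0 < k := orderOf_pos g
    have hle := Nat.le_of_dvd hkpos this
    have := (Fact.out : p.Prime).two_le
    nlinarith
  · intro h0
    obtain ⟨v, hv⟩ : ∃ v, N v ≠ 0 := by
      by_contra hc
      push Not at hc
      exact h0 (LinearMap.ext hc)
    exact ⟨_, rfl, key v hv⟩

end Cfsg.Agent.S2516
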