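import Cfsg.Statements.S2517
import Cfsg.Agent.OmegaNineSpectrum.Standard

set_option autoImplicit false
open Cfsg

namespace Cfsg.Agent.S2517

/-- Let F be a finite field of odd order q, let Ω₉ be the simple orthogonal group PΩ(9, F), and let Ω₈⁻ be the commutator subgroup of the isometry group of a minus-type non-singular quadratic form on V = F⁸ (the simple group PΩ⁻(8, F), acting on its natural module V). Then Ω₉ and the semidirect product V ⋊ Ω₈⁻ have exactly the same set of element orders. -/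
theorem result {F : Type*} [Field F] [Fintype F] (hF : Odd (Fintype.card F)) (a b : F)
    (hab : ∀ z₁ z₂ : F, z₁ ^ 2 + a * z₁ * z₂ + b * z₂ ^ 2 = 0 → z₁ = 0 ∧ z₂ = 0) :
    Set.range (orderOf : Cfsg.POmega F (Cfsg.quadFormOdd 4 F) → ℕ) =
      Set.range (orderOf :
        (Multiplicative (((Fin 3 ⊕ Fin 3) ⊕ Fin 2) → F)) ⋊[
          (MulAutMultiplicative (((Fin 3 ⊕ Fin 3) ⊕ Fin 2) → F)).symm.toMonoidHom.comp
           ((DistribMulAction.toAddAut (LinearMap.GeneralLinearGroup F (((Fin 3 ⊕ Fin 3) ⊕ Fin 2) → F))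
              (((Fin 3 ⊕ Fin 3) ⊕ Fin 2) → F)).comp
            (Matrix.GeneralLinearGroup.toLin.toMonoidHom.comp
              ((Cfsg.isometryGroup F (Cfsg.quadFormMinus 3 F a b)).subtype.comp
                (Cfsg.Omega F (Cfsg.quadFormMinus 3 F a b)).subtype)))]
          ↥(Cfsg.Omega F (Cfsg.quadFormMinus 3 F a b)) → ℕ) := by
  classical
  obtain ⟨p, hchar⟩ := CharP.exists F
  obtain ⟨m, hpp, hm⟩ := FiniteField.card F p
  haveI : Fact p.Prime := ⟨hpp⟩
  have hp : Odd p := by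
    rw [hm] at hF
    exact (Nat.odd_pow_iff m.ne_zero).1 hF
  have hp2 : p ≠ 2 := fun h => by rw [h] at hp; exact absurd hp (by decide)
  have h2 : (2 : F) ≠ 0 := CfsgLib.PrimeGraphBC.two_ne_zero_of_odd_char hp2
  have B := CfsgLib.OmegaNine.bridge h2 hab
  rw [← CfsgLib.StdForms.coe_minusQ]
  set Q8 := CfsgLib.StdForms.minusQ 3 F a b with hQ8
  set φ := (MulAutMultiplicative (((Fin 3 ⊕ Fin 3) ⊕ Fin 2) → F)).symm.toMonoidHom.comp
           ((DistribMulAction.toAddAut (LinearMap.GeneralLinearGroup F (((Fin 3 ⊕ Fin 3) ⊕ Fin 2) → F))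
              (((Fin 3 ⊕ Fin 3) ⊕ Fin 2) → F)).comp
            (Matrix.GeneralLinearGroup.toLin.toMonoidHom.comp
              ((Cfsg.isometryGroup F ⇑Q8).subtype.comp
                (Cfsg.Omega F ⇑Q8).subtype))) with hφ
  have hφapply : ∀ (h : ↥(Cfsg.Omega F ⇑Q8)) (v : ((Fin 3 ⊕ Fin 3) ⊕ Fin 2) → F),
      φ h (Multiplicative.ofAdd v) = Multiplicative.ofAdd (CfsgLib.OmegaNine.act Q8 h.1 v) :=
    fun h v => rfl
  have hpow : ∀ (h : ↥(Cfsg.Omega F ⇑Q8)) (v : ((Fin 3 ⊕ Fin 3) ⊕ Fin 2) → F) (j : ℕ),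
      ((⟨Multiplicative.ofAdd v, h⟩ : Multiplicative _ ⋊[φ] ↥(Cfsg.Omega F ⇑Q8)) ^ j) =
      ⟨Multiplicative.ofAdd ((∑ i ∈ Finset.range j, CfsgLib.OmegaNine.act Q8 h.1 ^ i) v), h ^ j⟩ := by
    intro h v j
    induction j with
    | zero => apply SemidirectProduct.ext <;> simp
    | succ j ih =>
      rw [pow_succ, ih]
      apply SemidirectProduct.ext
      · simp only [SemidirectProduct.mul_left, Finset.sum_range_succ, LinearMap.add_apply, ofAdd_add]
        rw [hφapply, SubgroupClass.coe_pow, map_pow]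
      · rw [SemidirectProduct.mul_right, ← pow_succ]
  have hordk : ∀ (h : ↥(Cfsg.Omega F ⇑Q8)) (v : ((Fin 3 ⊕ Fin 3) ⊕ Fin 2) → F),
      (∑ i ∈ Finset.range (orderOf h.1), CfsgLib.OmegaNine.act Q8 h.1 ^ i) v ≠ 0 →
      orderOf (⟨Multiplicative.ofAdd v, h⟩ : Multiplicative _ ⋊[φ] ↥(Cfsg.Omega F ⇑Q8)) = p * orderOf h.1 := by
    intro h v hv
    set x : Multiplicative _ ⋊[φ] ↥(Cfsg.Omega F ⇑Q8) := ⟨Multiplicative.ofAdd v, h⟩
    set k := orderOf h.1
    have hk : orderOf h = k := (Subgroup.orderOf_coe h).symm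
    have hxk : x ^ k = SemidirectProduct.inl (Multiplicative.ofAdd
        ((∑ i ∈ Finset.range k, CfsgLib.OmegaNine.act Q8 h.1 ^ i) v)) := by
      rw [hpow]
      apply SemidirectProduct.ext
      · simp
      · simp [← hk, pow_orderOf_eq_one]
    have hdiv : k ∣ orderOf x := by
      have := orderOf_map_dvd (SemidirectProduct.rightHom (φ := φ)) x
      simpa [x, hk] using this
    have hpord : orderOf (x ^ k) = p := by
      rw [hxk, orderOf_injective _ SemidirectProduct.inl_injective]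
      apply orderOf_eq_prime
      · rw [← ofAdd_nsmul, ← Nat.cast_smul_eq_nsmul F, CharP.cast_eq_zero, zero_smul, ofAdd_zero]
      · exact fun h0 => hv (congrArg Multiplicative.toAdd h0)
    have hkpos : 0 < k := orderOf_pos h.1
    have h' := orderOf_pow_of_dvd hkpos.ne' hdiv
    rw [hpord] at h'
    obtain ⟨c, hc⟩ := hdiv
    rw [hc, Nat.mul_div_cancel_left _ hkpos] at h'
    rw [hc, h', mul_comm]
  haveI : Finite (Multiplicative (((Fin 3 ⊕ Fin 3) ⊕ Fin 2) → F) ⋊[φ] ↥(Cfsg.Omega F ⇑Q8)) :=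
    Finite.of_equiv _ SemidirectProduct.equivProd.symm
  have hinr : ∀ h : ↥(Cfsg.Omega F ⇑Q8),
      orderOf (SemidirectProduct.inr h : Multiplicative _ ⋊[φ] ↥(Cfsg.Omega F ⇑Q8)) = orderOf h.1 := fun h => by
    rw [orderOf_injective _ SemidirectProduct.inr_injective, Subgroup.orderOf_coe]
  ext n
  rw [CfsgLib.PrimeGraphBC.mem_range_pOmega_iff hp2 (show 2 ≤ 4 by norm_num)]
  constructor
  · rintro ⟨g, hg, rfl⟩
    obtain ⟨h, hh, hn | ⟨hn, v, hv⟩⟩ := CfsgLib.OmegaNine.good_of_nine p hp h2 B hg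
    · set x : Multiplicative _ ⋊[φ] ↥(Cfsg.Omega F ⇑Q8) := SemidirectProduct.inr ⟨h, hh⟩ with hx
      have hox : orderOf x = orderOf h := hinr ⟨h, hh⟩
      refine ⟨x ^ (orderOf x / orderOf g), ?_⟩
      show orderOf (x ^ (orderOf x / orderOf g)) = orderOf g
      have hpos : 0 < orderOf x := orderOf_pos x
      rw [orderOf_pow_of_dvd (Nat.div_pos (Nat.le_of_dvd hpos (hox ▸ hn)) (orderOf_pos g)).ne'
        (Nat.div_dvd_of_dvd (hox ▸ hn)), Nat.div_div_self (hox ▸ hn) hpos.ne']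
    · set x : Multiplicative _ ⋊[φ] ↥(Cfsg.Omega F ⇑Q8) := ⟨Multiplicative.ofAdd v, ⟨h, hh⟩⟩ with hx
      have hox : orderOf x = p * orderOf h := hordk ⟨h, hh⟩ v hv
      refine ⟨x ^ (orderOf x / orderOf g), ?_⟩
      show orderOf (x ^ (orderOf x / orderOf g)) = orderOf g
      have hpos : 0 < orderOf x := orderOf_pos x
      rw [orderOf_pow_of_dvd (Nat.div_pos (Nat.le_of_dvd hpos (hox ▸ hn)) (orderOf_pos g)).ne'
        (Nat.div_dvd_of_dvd (hox ▸ hn)), Nat.div_div_self (hox ▸ hn) hpos.ne']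
  · rintro ⟨x, rfl⟩
    have key : ∃ g ∈ Cfsg.Omega F ⇑(CfsgLib.StdForms.oddQ 4 F), orderOf x ∣ orderOf g := by
      obtain ⟨⟨g₀, hg₀, hd₀⟩, hN⟩ := CfsgLib.OmegaNine.exists_nine p hp h2 B x.right.2
      obtain ⟨v, hv⟩ : ∃ v, x.left = Multiplicative.ofAdd v := ⟨Multiplicative.toAdd x.left, rfl⟩
      have hx : x = ⟨Multiplicative.ofAdd v, x.right⟩ := by
        apply SemidirectProduct.ext <;> simp [hv]
      by_cases hv0 : (∑ i ∈ Finset.range (orderOf x.right.1), CfsgLib.OmegaNine.act Q8 x.right.1 ^ i) v = 0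
      · refine ⟨g₀, hg₀, (orderOf_dvd_of_pow_eq_one ?_).trans hd₀⟩
        rw [hx, hpow, hv0]
        apply SemidirectProduct.ext
        · simp
        · exact Subtype.ext (by rw [SubgroupClass.coe_pow, pow_orderOf_eq_one]; simp)
      · obtain ⟨g, hg, hd⟩ := hN v hv0
        refine ⟨g, hg, ?_⟩
        rw [hx, hordk x.right v hv0]
        exact hd
    obtain ⟨g, hg, hd⟩ := key
    refine ⟨g ^ (orderOf g / orderOf x), pow_mem hg _, ?_⟩
    have hpos : 0 < orderOf g := orderOf_pos g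
    rw [orderOf_pow_of_dvd (Nat.div_pos (Nat.le_of_dvd hpos hd) (orderOf_pos x)).ne'
      (Nat.div_dvd_of_dvd hd), Nat.div_div_self hd hpos.ne']

end Cfsg.Agent.S2517
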