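import Cfsg.Statements.S2521
-- import your own Cfsg.Agent.* helpers here

set_option autoImplicit false
open Cfsg

namespace Cfsg.Agent.S2521

/-- Let B be a finite group that is the semidirect product of a nilpotent normal subgroup U by an abelian subgroup T (U ∩ T = 1, UT = B), and let t ∈ T have centralizer exactly T. Then every element of the coset tU is conjugate to t in B: for each u ∈ U there is b ∈ B with b t b⁻¹ = t u. -/
theorem result {B : Type*} [Group B] [Finite B] (U T : Subgroup B) [U.Normal] (hU : Group.IsNilpotent ↥U) (hT : IsMulCommutative ↥T)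
    (hcompl : Subgroup.IsComplement' U T) (t : B) (ht : t ∈ T) (hreg : Subgroup.centralizer ({t} : Set B) = T) (u : B) (hu : u ∈ U) :
    ∃ b : B, b * t * b⁻¹ = t * u := by
  classical
  have hmem : ∀ x : U, t⁻¹ * (x : B) * t * (x : B)⁻¹ ∈ U := fun x => by
    refine U.mul_mem ?_ (U.inv_mem x.2)
    simpa using ‹U.Normal›.conj_mem _ x.2 t⁻¹
  let f : U → U := fun x => ⟨t⁻¹ * (x : B) * t * (x : B)⁻¹, hmem x⟩
  have hinj : Function.Injective f := by
    intro x y hxy
    have h : t⁻¹ * (x : B) * t * (x : B)⁻¹ = t⁻¹ * (y : B) * t * (y : B)⁻¹ :=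
      congrArg Subtype.val hxy
    have h' : (x : B) * t * (x : B)⁻¹ = (y : B) * t * (y : B)⁻¹ := by
      simpa [mul_assoc] using h
    have h1 : (y : B)⁻¹ * (x : B) * t = t * ((y : B)⁻¹ * (x : B)) := by
      calc (y : B)⁻¹ * (x : B) * t = (y : B)⁻¹ * ((x : B) * t * (x : B)⁻¹) * x := by group
        _ = t * ((y : B)⁻¹ * (x : B)) := by rw [h']; group
    have h2 : (y : B)⁻¹ * (x : B) ∈ T := by
      rw [← hreg, Subgroup.mem_centralizer_singleton_iff]
      exact h1
    have h3 : (y : B)⁻¹ * (x : B) ∈ U := U.mul_mem (U.inv_mem y.2) x.2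
    have h4 : (y : B)⁻¹ * (x : B) = 1 :=
      Subgroup.disjoint_def.mp hcompl.disjoint h3 h2
    exact Subtype.ext (inv_mul_eq_one.mp h4).symm
  obtain ⟨x, hx⟩ := (Finite.injective_iff_surjective.mp hinj) ⟨u, hu⟩
  refine ⟨x, ?_⟩
  have h : t⁻¹ * (x : B) * t * (x : B)⁻¹ = u := congrArg Subtype.val hx
  rw [← h]
  group

end Cfsg.Agent.S2521
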