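import Cfsg.Statements.S2523
import Cfsg.Agent.ClassSquare.Linear
import Cfsg.Agent.ClassSquare.Symplectic
import Cfsg.Agent.ClassSquare.OrthPlus
import Cfsg.Agent.ClassSquare.OrthOdd
import Cfsg.Agent.ClassSquare.ExceptG2
import Cfsg.Agent.ClassSquare.ExceptF4
import Cfsg.Agent.ClassSquare.ExceptE6
import Cfsg.Agent.ClassSquare.ExceptE7
import Cfsg.Agent.ClassSquare.ExceptE8
import Cfsg.Agent.Chevalley.WeylData

set_option autoImplicit false
open Cfsg

namespace Cfsg.Agent.S2523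

/-- Let F be a finite field with at least 9 elements and let G be one of PSL(n, F) (n ≥ 2), PSp(2m, F) (m ≥ 2), PΩ(2m+1, F) (m ≥ 3, here q odd), PΩ⁺(2m, F) (m ≥ 4), or the Chevalley group of type G₂, F₄, E₆, E₇ or E₈ over F. Then G is the square of one of its conjugacy classes (Thompson's conjecture on products of conjugacy classes, not his conjecture on class sizes): there is a conjugacy class C of G with C·C = G, i.e. every element of G is a product of two elements of C. -/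
theorem result {F : Type*} [Field F] [Fintype F] (hF : 9 ≤ Fintype.card F) {G : Type*} [Group G] [Finite G]
    (hG : (∃ n : ℕ, 2 ≤ n ∧ Nonempty (G ≃* Matrix.ProjectiveSpecialLinearGroup (Fin n) F)) ∨
      (∃ m : ℕ, 2 ≤ m ∧ Nonempty (G ≃* Cfsg.PSp m F)) ∨
      (∃ m : ℕ, 3 ≤ m ∧ Odd (Fintype.card F) ∧ Nonempty (G ≃* Cfsg.POmega F (Cfsg.quadFormOdd m F))) ∨
      (∃ m : ℕ, 4 ≤ m ∧ Nonempty (G ≃* Cfsg.POmega F (Cfsg.quadFormPlus m F))) ∨
      Nonempty (G ≃* ↥(Cfsg.Lie.chevG2.group F)) ∨ Nonempty (G ≃* ↥(Cfsg.Lie.chevF4.group F)) ∨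
      Nonempty (G ≃* ↥(Cfsg.Lie.chevE6.group F)) ∨ Nonempty (G ≃* ↥(Cfsg.Lie.chevE7.group F)) ∨ Nonempty (G ≃* ↥(Cfsg.Lie.chevE8.group F))) :
    ∃ c : G, ∀ g : G, ∃ x y : G, g = (x * c * x⁻¹) * (y * c * y⁻¹) := by
  have of_iso : ∀ {H : Type _} [Group H], CfsgLib.ClassSquare.HasClassSquare H → Nonempty (G ≃* H) →
      CfsgLib.ClassSquare.HasClassSquare G := fun h ⟨e⟩ => CfsgLib.ClassSquare.hasClassSquare_of_equiv e.symm h
  rcases hG with ⟨n, hn, h⟩ | ⟨m, hm, h⟩ | ⟨m, hm, hodd, h⟩ | ⟨m, hm, h⟩ | h | h | h | h | h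
  · obtain ⟨k, rfl⟩ : ∃ k, n = k + 2 := ⟨n - 2, by omega⟩
    exact of_iso (CfsgLib.ClassSquare.hasClassSquare_psl hF k) h
  · obtain ⟨k, rfl⟩ : ∃ k, m = k + (0 + 1) := ⟨m - 1, by omega⟩
    exact of_iso (CfsgLib.ClassSquare.hasClassSquare_psp hF (by omega)) h
  · obtain ⟨k, rfl⟩ : ∃ k, m = k + (0 + 1) := ⟨m - 1, by omega⟩
    have h2 : (2 : F) ≠ 0 := by
      intro h2
      have := FiniteField.even_card_of_char_two (F := F)
        ((ringChar.eq_iff).2 (CharTwo.of_one_ne_zero_of_two_eq_zero one_ne_zero h2))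
      exact (Nat.not_even_iff_odd.2 hodd) (Nat.even_iff.2 this)
    have := CfsgLib.ClassSquare.OddO.hasClassSquare_pOmega (F := F) (k := k) hF h2 (by omega)
    rw [CfsgLib.StdForms.coe_oddQ] at this
    exact of_iso this h
  · obtain ⟨k, rfl⟩ : ∃ k, m = k + (0 + 1) := ⟨m - 1, by omega⟩
    have := CfsgLib.ClassSquare.Plus.hasClassSquare_pOmega (F := F) (k := k) hF (by omega)
    rw [CfsgLib.StdForms.coe_plusQ] at this
    exact of_iso this h
  · exact of_iso (CfsgLib.ClassSquare.Except.hasClassSquare_g2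
      (CfsgLib.Chevalley.goodWeyl_of_mem (by simp)) hF) h
  · exact of_iso (CfsgLib.ClassSquare.Except.hasClassSquare_f4
      (CfsgLib.Chevalley.goodWeyl_of_mem (by simp)) hF) h
  · exact of_iso (CfsgLib.ClassSquare.Except.hasClassSquare_e6
      (CfsgLib.Chevalley.goodWeyl_of_mem (by simp)) hF) h
  · exact of_iso (CfsgLib.ClassSquare.Except.hasClassSquare_e7
      (CfsgLib.Chevalley.goodWeyl_of_mem (by simp)) hF) h
  · exact of_iso (CfsgLib.ClassSquare.Except.hasClassSquare_e8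
      (CfsgLib.Chevalley.goodWeyl_of_mem (by simp)) hF) h

end Cfsg.Agent.S2523
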