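import Cfsg.Statements.S2524
import Cfsg.Agent.WeilRankOne.Final

set_option autoImplicit false
open Cfsg

namespace Cfsg.Agent.S2524

open CfsgLib.WeilRankOne CfsgLib.RepBounds Module

section

variable {F : Type*} [Field F] [Fintype F] {n : ℕ}

/-- The character at `1`. -/
theorem char_at_one {k : ℕ} (ρ : Representation ℂ (Matrix.symplecticGroup (Fin n) F) (Fin k → ℂ)) :
    ρ.character 1 = (k : ℂ) := by
  rw [Representation.char_one, Module.finrank_fin_fun]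

theorem count_two (hn : 2 ≤ n) (hodd : Odd (Fintype.card F)) (r r' : ℕ)
    (hr : r = (Fintype.card F ^ n - 1) / 2 ∨ r = (Fintype.card F ^ n - 1) / 2 + 1)
    (hr' : r' = (Fintype.card F ^ n - 1) / 2 ∨ r' = (Fintype.card F ^ n - 1) / 2 + 1) (hne : r' ≠ r) :
    Nat.card {χ : Cfsg.IrrCharacter ↥(Matrix.symplecticGroup (Fin n) F) //
      (χ : ↥(Matrix.symplecticGroup (Fin n) F) → ℂ) 1 = (r : ℂ)} = 2 := by
  classical
  obtain ⟨p, hp⟩ := CharP.exists F
  have : Fact p.Prime := ⟨(CharP.char_is_prime_or_zero F p).resolve_right (CharP.char_ne_zero_of_finite F p)⟩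
  obtain ⟨ψ, hψ, -⟩ := exists_frobenius_char F p
  have h2 : (2 : F) ≠ 0 := two_ne_zero_of_odd hodd
  obtain ⟨ν, hν⟩ : ∃ ν : F, ¬ IsSquare ν := FiniteField.exists_nonsquare fun h => by
    rw [FiniteField.even_card_iff_char_two] at h
    rw [Nat.odd_iff, h] at hodd
    exact absurd hodd (by omega)
  have hν0 : ν ≠ 0 := fun h => hν (h ▸ IsSquare.zero)
  let i : Fin n := ⟨0, by omega⟩
  have hq3 : 3 ≤ Fintype.card F := by
    have := Fintype.one_lt_card (α := F)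
    rw [Nat.odd_iff] at hodd
    omega
  have hN : ∀ c : F, c ≠ 0 → (wtSet ψ n c).card = (Fintype.card F ^ n - 1) / 2 := fun c hc => by
    have := two_mul_card_wtSet (n := n) hψ h2 hc
    omega
  have hN2 : ∀ c : F, c ≠ 0 → 2 ≤ (wtSet ψ n c).card := fun c hc => by
    have h9 : 3 ^ 2 ≤ Fintype.card F ^ n :=
      (Nat.pow_le_pow_left hq3 2).trans (Nat.pow_le_pow_right (by omega) hn)
    have := two_mul_card_wtSet (n := n) hψ h2 hc
    omega
  have hR : ∀ (k : ℕ), k ≤ (Fintype.card F ^ n - 1) / 2 + 1 →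
      ∀ ρ : Representation ℂ (Matrix.symplecticGroup (Fin n) F) (Fin k → ℂ), RankOne ρ ψ := fun k hk ρ =>
    rankOne_of_small hψ h2 ρ (by rw [Module.finrank_fin_fun]; exact small_lt hn hodd hk)
  have hne1 : ∀ (k : ℕ), ((Fintype.card F ^ n - 1) / 2) ≤ k →
      ∀ ρ : Representation ℂ (Matrix.symplecticGroup (Fin n) F) (Fin k → ℂ), ρ.IsIrreducible →
        ∃ c, c ≠ 0 ∧ (k ≤ (Fintype.card F ^ n - 1) / 2 + 1 → HasClass ρ ψ i c) := by
    intro k hk ρ hρ
    by_cases hk' : k ≤ (Fintype.card F ^ n - 1) / 2 + 1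
    · have h := hN2 1 one_ne_zero
      rw [hN 1 one_ne_zero] at h
      obtain ⟨c, hc, hcl⟩ := exists_hasClass ρ hψ (hR k hk' ρ) i
        (exists_ne_one ρ hρ (by rw [Module.finrank_fin_fun]; omega))
      exact ⟨c, hc, fun _ => hcl⟩
    · exact ⟨1, one_ne_zero, fun h => absurd h hk'⟩
  -- every class and degree occurs
  have hex : ∀ k, (k = (Fintype.card F ^ n - 1) / 2 ∨ k = (Fintype.card F ^ n - 1) / 2 + 1) →
      ∀ c : F, c ≠ 0 → ∃ ρ : Representation ℂ (Matrix.symplecticGroup (Fin n) F) (Fin k → ℂ),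
        ρ.IsIrreducible ∧ HasClass ρ ψ i c := by
    intro k hk c hc
    obtain ⟨ρ, hρ⟩ : ∃ ρ : Representation ℂ (Matrix.symplecticGroup (Fin n) F) (Fin k → ℂ), ρ.IsIrreducible := by
      rcases hk with rfl | rfl
      · exact (exists_both hn hodd).1
      · exact (exists_both hn hodd).2
    obtain ⟨c0, hc0, hcl⟩ := hne1 k (by omega) ρ hρ
    have h0 := hcl (by omega)
    rcases exists_sq_or hodd hν (div_ne_zero hc hc0) with ⟨t, ht, htc⟩ | ⟨t, ht, htc⟩
    · refine ⟨ρ, hρ, ?_⟩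
      have := hasClass_sq ρ ht h0
      rwa [show c0 * t ^ 2 = c by rw [← htc, mul_div_cancel₀ _ hc0]] at this
    · refine ⟨ρ.comp (twist (Units.mk0 ν hν0)).toMonoidHom, irreducible_comp ρ _, ?_⟩
      have := hasClass_sq (ρ.comp (twist (Units.mk0 ν hν0)).toMonoidHom) ht
        (hasClass_twist ρ (Units.mk0 ν hν0) h0)
      rwa [show c0 * (Units.mk0 ν hν0 : F) * t ^ 2 = c by
        rw [Units.val_mk0, mul_assoc, ← htc, mul_div_cancel₀ _ hc0]] at this
  obtain ⟨ρ1, hρ1, hc1⟩ := hex r hr 1 one_ne_zero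
  obtain ⟨ρν, hρν, hcν⟩ := hex r hr ν hν0
  let x1 : {χ : Cfsg.IrrCharacter ↥(Matrix.symplecticGroup (Fin n) F) //
      (χ : ↥(Matrix.symplecticGroup (Fin n) F) → ℂ) 1 = (r : ℂ)} :=
    ⟨⟨ρ1.character, r, ρ1, hρ1, rfl⟩, char_at_one ρ1⟩
  let xν : {χ : Cfsg.IrrCharacter ↥(Matrix.symplecticGroup (Fin n) F) //
      (χ : ↥(Matrix.symplecticGroup (Fin n) F) → ℂ) 1 = (r : ℂ)} :=
    ⟨⟨ρν.character, r, ρν, hρν, rfl⟩, char_at_one ρν⟩
  have hrle : r ≤ (Fintype.card F ^ n - 1) / 2 + 1 := by omega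
  rw [Nat.card_eq_two_iff]
  refine ⟨x1, xν, fun h => ?_, Set.eq_univ_of_forall fun χ => ?_⟩
  · have hch : ρν.character = ρ1.character := (congrArg (fun z => z.1.1) h).symm
    obtain ⟨t, ht⟩ := (irr_data ρ1 hψ h2 (hR r hrle ρ1) hn one_ne_zero hc1).2.2 ν hν0
      (hasClass_congr ρν ρ1 hch hcν)
    exact hν ⟨t, by rw [ht, one_mul, sq]⟩
  · obtain ⟨k, ρ, hρ, hχ⟩ := χ.1.2
    have hk : k = r := by
      have := χ.2
      rw [← hχ, char_at_one] at this
      exact_mod_cast this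
    subst hk
    obtain ⟨c, hc, hcl⟩ := hne1 k (by omega) ρ hρ
    have h0 := hcl hrle
    have huniq : ∀ (d : F), d ≠ 0 → ∀ (σ : Representation ℂ (Matrix.symplecticGroup (Fin n) F) (Fin k → ℂ)),
        σ.IsIrreducible → HasClass σ ψ i d → HasClass ρ ψ i d → ρ.character = σ.character := by
      intro d hd σ hσ hσd hρd
      obtain ⟨τ, hτ, hτd⟩ := hex r' hr' d hd
      exact char_eq_of_class hψ h2 ρ σ τ (hR k hrle ρ) (hR k hrle σ) (hR r' (by omega) τ) hn hd (hN2 d hd)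
        hρd hσd hτd rfl (by rw [Module.finrank_fin_fun, Module.finrank_fin_fun]; exact hne)
    simp only [Set.mem_insert_iff, Set.mem_singleton_iff]
    rcases exists_sq_or hodd hν hc with ⟨t, ht, htc⟩ | ⟨t, ht, htc⟩
    · left
      refine Subtype.ext (Subtype.ext (hχ.symm.trans (huniq 1 one_ne_zero ρ1 hρ1 hc1 ?_)))
      have := hasClass_sq ρ (inv_ne_zero ht) h0
      rwa [htc, ← mul_pow, mul_inv_cancel₀ ht, one_pow] at this
    · right
      refine Subtype.ext (Subtype.ext (hχ.symm.trans (huniq ν hν0 ρν hρν hcν ?_)))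
      have := hasClass_sq ρ (inv_ne_zero ht) h0
      rwa [htc, mul_assoc, ← mul_pow, mul_inv_cancel₀ ht, one_pow, mul_one] at this

end


/-- Let F be a finite field of odd order q and G = Sp(2n, F) with n ≥ 2. Then G has exactly four irreducible complex characters of degree (q^n + 1)/2 or (q^n − 1)/2 (two of each), and every other non-principal irreducible character has degree at least (q^n − 1)(q^n − q)/(2(q + 1)). -/
theorem result {F : Type*} [Field F] [Fintype F] (hodd : Odd (Fintype.card F)) (n : ℕ) (hn : 2 ≤ n) :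
    Nat.card {χ : Cfsg.IrrCharacter ↥(Matrix.symplecticGroup (Fin n) F) // (χ : ↥(Matrix.symplecticGroup (Fin n) F) → ℂ) 1 = (((Fintype.card F) ^ n + 1 : ℕ) : ℂ) / 2} = 2 ∧
    Nat.card {χ : Cfsg.IrrCharacter ↥(Matrix.symplecticGroup (Fin n) F) // (χ : ↥(Matrix.symplecticGroup (Fin n) F) → ℂ) 1 = (((Fintype.card F) ^ n - 1 : ℕ) : ℂ) / 2} = 2 ∧
    ∀ χ : Cfsg.IrrCharacter ↥(Matrix.symplecticGroup (Fin n) F),
      (χ : ↥(Matrix.symplecticGroup (Fin n) F) → ℂ) 1 ≠ 1 →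
      (χ : ↥(Matrix.symplecticGroup (Fin n) F) → ℂ) 1 ≠ (((Fintype.card F) ^ n + 1 : ℕ) : ℂ) / 2 →
      (χ : ↥(Matrix.symplecticGroup (Fin n) F) → ℂ) 1 ≠ (((Fintype.card F) ^ n - 1 : ℕ) : ℂ) / 2 →
      (((Fintype.card F) ^ n - 1 : ℕ) : ℝ) * (((Fintype.card F) ^ n - Fintype.card F : ℕ) : ℝ) / (2 * ((Fintype.card F : ℕ) + 1 : ℝ)) ≤ ‖(χ : ↥(Matrix.symplecticGroup (Fin n) F) → ℂ) 1‖ := by
  classical
  set q := Fintype.card F with hq
  have hQ : Odd (q ^ n) := hodd.pow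
  have e1 : ((q ^ n - 1 : ℕ) : ℂ) / 2 = (((q ^ n - 1) / 2 : ℕ) : ℂ) := by
    rw [Nat.odd_iff] at hQ
    rw [div_eq_iff (two_ne_zero : (2 : ℂ) ≠ 0)]
    exact_mod_cast (show q ^ n - 1 = (q ^ n - 1) / 2 * 2 by omega)
  have e2 : ((q ^ n + 1 : ℕ) : ℂ) / 2 = (((q ^ n - 1) / 2 + 1 : ℕ) : ℂ) := by
    rw [Nat.odd_iff] at hQ
    rw [div_eq_iff (two_ne_zero : (2 : ℂ) ≠ 0)]
    exact_mod_cast (show q ^ n + 1 = ((q ^ n - 1) / 2 + 1) * 2 by omega)
  refine ⟨?_, ?_, fun χ h1 hp hm => ?_⟩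
  · rw [e2]
    exact count_two hn hodd _ ((q ^ n - 1) / 2) (Or.inr rfl) (Or.inl rfl) (by omega)
  · rw [e1]
    exact count_two hn hodd _ ((q ^ n - 1) / 2 + 1) (Or.inl rfl) (Or.inr rfl) (by omega)
  obtain ⟨k, ρ, hρ, hχ⟩ := χ.2
  have hk1 : (χ : ↥(Matrix.symplecticGroup (Fin n) F) → ℂ) 1 = (k : ℂ) := by rw [← hχ, char_at_one]
  have hk2 : 2 ≤ k := by
    have h0 : 0 < Module.finrank ℂ (Fin k → ℂ) := by
      have : Nontrivial (Fin k → ℂ) := CfsgLib.Characters.nontrivial_of_isIrreducible ρ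
      exact Module.finrank_pos
    rw [Module.finrank_fin_fun] at h0
    have : k ≠ 1 := fun h => h1 (by rw [hk1, h, Nat.cast_one])
    omega
  have hnot : ¬ (k * (2 * (q + 1)) < (q ^ n - 1) * (q ^ n - q)) := by
    intro hsmall
    obtain ⟨p, hp'⟩ := CharP.exists F
    have : Fact p.Prime := ⟨(CharP.char_is_prime_or_zero F p).resolve_right (CharP.char_ne_zero_of_finite F p)⟩
    obtain ⟨ψ, hψ, -⟩ := exists_frobenius_char F p
    have h2 : (2 : F) ≠ 0 := two_ne_zero_of_odd hodd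
    have hR : RankOne ρ ψ := rankOne_of_small hψ h2 ρ (by rwa [Module.finrank_fin_fun])
    obtain ⟨c, hc, hcl⟩ := exists_hasClass ρ hψ hR ⟨0, by omega⟩
      (exists_ne_one ρ hρ (by rwa [Module.finrank_fin_fun]))
    obtain ⟨hl, hu, -⟩ := irr_data ρ hψ h2 hR hn hc hcl
    have hcard := two_mul_card_wtSet (n := n) hψ h2 hc
    rw [Module.finrank_fin_fun] at hl hu
    rw [← hq] at hcard
    rcases (show k = (q ^ n - 1) / 2 ∨ k = (q ^ n - 1) / 2 + 1 by omega) with h | h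
    · exact hm (by rw [e1, hk1, h])
    · exact hp (by rw [e2, hk1, h])
  rw [hk1, Complex.norm_natCast, div_le_iff₀ (by positivity)]
  push Not at hnot
  exact_mod_cast hnot

end Cfsg.Agent.S2524
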