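import Cfsg.Statements.S2530
import Cfsg.Agent.CoxeterSym.Basic
-- import your own Cfsg.Agent.* helpers here

set_option autoImplicit false
open Cfsg

namespace Cfsg.Agent.S2530

open CfsgLib.CoxeterSym (adjSwap adjSwap_rels exists_hom)

open CfsgLib.CoxeterSym in
theorem coxeter_isSymGens (n : ℕ) :
    IsSymGens n (fun i => if h : i < n then
      (PresentedGroup.of (⟨i, h⟩ : Fin n) : (CoxeterMatrix.A n).Group) else 1) := by
  have hrel : ∀ i j : Fin n, ((PresentedGroup.of i : (CoxeterMatrix.A n).Group) * PresentedGroup.of j) ^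
      ((CoxeterMatrix.A n) i j) = 1 := fun i j =>
    PresentedGroup.one_of_mem (rels := (CoxeterMatrix.A n).relationsSet)
      (x := (FreeGroup.of i * FreeGroup.of j) ^ ((CoxeterMatrix.A n) i j)) ⟨(i, j), rfl⟩
  have hsq : ∀ i : Fin n, (PresentedGroup.of i : (CoxeterMatrix.A n).Group) * PresentedGroup.of i = 1 :=
    fun i => by simpa [(CoxeterMatrix.A n).diagonal] using hrel i i
  refine ⟨fun i hi => by simp only [dif_pos hi]; exact hsq _, fun i hi => ?_, fun i j hij hj => ?_⟩
  · simp only [dif_pos hi, dif_pos (show i < n by omega)]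
    rw [braid_iff (hsq _) (hsq _)]
    have := hrel ⟨i, by omega⟩ ⟨i + 1, hi⟩
    simpa [CoxeterMatrix.A, Fin.ext_iff] using this
  · simp only [dif_pos hj, dif_pos (show i < n by omega)]
    rw [comm_iff (hsq _) (hsq _)]
    have := hrel ⟨i, by omega⟩ ⟨j, hj⟩
    simp only [CoxeterMatrix.A, Matrix.of_apply, Fin.ext_iff] at this
    rw [if_neg (by omega), if_neg (by omega)] at this
    exact this

/-- The Coxeter presentation of the symmetric group: for every n, the symmetric group on n+1 letters is the Coxeter group of type A_n with the adjacent transpositions (i, i+1) as simple reflections; that is, it is presented by generators r_1, …, r_n subject to r_i² = 1, (r_i r_j)² = 1 for |i − j| > 1 and (r_i r_{i+1})³ = 1, with r_i mapping to (i, i+1). -/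
theorem result (n : ℕ) :
    ∃ cs : CoxeterSystem (CoxeterMatrix.A n) (Equiv.Perm (Fin (n + 1))), ∀ i : Fin n, cs.simple i = Equiv.swap i.castSucc i.succ := by
  classical
  have hsq : ∀ i : Fin n, Equiv.swap i.castSucc i.succ * Equiv.swap i.castSucc i.succ = 1 := fun i =>
    Equiv.swap_mul_self _ _
  -- the homomorphism from the Coxeter group to the symmetric group
  let φ : (CoxeterMatrix.A n).Group →* Equiv.Perm (Fin (n + 1)) := PresentedGroup.toGroup
    (f := fun i : Fin n => Equiv.swap i.castSucc i.succ) (by
      rintro r ⟨⟨i, j⟩, rfl⟩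
      simp only [Function.uncurry, CoxeterMatrix.relation, map_pow, map_mul, FreeGroup.lift_apply_of]
      rcases eq_or_ne i j with rfl | hne
      · simp [(CoxeterMatrix.A n).diagonal, hsq]
      · have h3 : ∀ i j : Fin n, j.val = i.val + 1 →
            (Equiv.swap i.castSucc i.succ * Equiv.swap j.castSucc j.succ) ^ 3 = 1 := fun i j hij => by
          have := adjSwap_rels n _ (Or.inl (Or.inr ⟨i, j, hij, rfl⟩))
          simpa [adjSwap] using this
        have h2 : ∀ i j : Fin n, i.val + 1 < j.val →
            (Equiv.swap i.castSucc i.succ * Equiv.swap j.castSucc j.succ) ^ 2 = 1 := fun i j hij => by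
          have := adjSwap_rels n _ (Or.inr ⟨i, j, hij, rfl⟩)
          simpa [adjSwap] using this
        have hsymm : ∀ (a b : Equiv.Perm (Fin (n + 1))) (k : ℕ), a * a = 1 → b * b = 1 →
            (a * b) ^ k = 1 → (b * a) ^ k = 1 := fun a b k ha hb h => by
          rw [show b * a = (a * b)⁻¹ by
            rw [mul_inv_rev, inv_eq_of_mul_eq_one_right ha, inv_eq_of_mul_eq_one_right hb],
            inv_pow, h, inv_one]
        have hv : i.val ≠ j.val := fun h => hne (Fin.ext h)
        simp only [CoxeterMatrix.A, Matrix.of_apply, if_neg hne]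
        split_ifs with h
        · rcases h with h | h
          · exact hsymm _ _ 3 (hsq j) (hsq i) (h3 j i h.symm)
          · exact h3 i j h.symm
        · push Not at h
          rcases Nat.lt_or_gt_of_ne hv with h' | h'
          · exact h2 i j (by omega)
          · exact hsymm _ _ 2 (hsq j) (hsq i) (h2 j i (by omega)))
  have hφ : ∀ i : Fin n, φ (PresentedGroup.of i) = Equiv.swap i.castSucc i.succ := fun i =>
    PresentedGroup.toGroup.of _
  -- the inverse
  obtain ⟨ψ, hψ⟩ := exists_hom (k := n) (W := (CoxeterMatrix.A n).Group)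
    (t := fun i => if h : i < n then PresentedGroup.of ⟨i, h⟩ else 1) (coxeter_isSymGens n)
  have h1 : ψ.comp φ = MonoidHom.id _ := by
    refine PresentedGroup.ext fun i => ?_
    show ψ (φ (PresentedGroup.of i)) = PresentedGroup.of i
    exact (congrArg ψ (hφ i)).trans ((hψ i).trans (dif_pos i.isLt))
  have h2 : ∀ x, φ (ψ x) = x := by
    intro x
    have hx : x ∈ Submonoid.closure
        (Set.range fun i : Fin n => Equiv.swap i.castSucc i.succ) := by
      rw [Equiv.Perm.mclosure_swap_castSucc_succ]; trivial
    induction hx using Submonoid.closure_induction with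
    | mem y hy =>
      obtain ⟨i, rfl⟩ := hy
      exact (congrArg φ ((hψ i).trans (dif_pos i.isLt))).trans (hφ i)
    | one => exact (congrArg φ (map_one ψ)).trans (map_one φ)
    | mul a b _ _ ha hb => rw [map_mul, map_mul, ha, hb]
  refine ⟨⟨({ φ with invFun := ψ, left_inv := fun x => DFunLike.congr_fun h1 x, right_inv := h2 } :
    (CoxeterMatrix.A n).Group ≃* Equiv.Perm (Fin (n + 1))).symm⟩, fun i => ?_⟩
  exact hφ i

end Cfsg.Agent.S2530
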