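import Cfsg.Statements.S2531
-- import your own Cfsg.Agent.* helpers here

set_option autoImplicit false
open Cfsg

namespace Cfsg.Agent.S2531

theorem rep_mem_iff {F V : Type*} [Field F] [AddCommGroup V] [Module F V] (W : Submodule F V)
    (v : V) (hv : v ≠ 0) : (Projectivization.mk F v hv).rep ∈ W ↔ v ∈ W := by
  obtain ⟨c, hc⟩ := Projectivization.exists_smul_eq_mk_rep F v hv
  rw [← hc, Units.smul_def]
  exact Submodule.smul_mem_iff W c.ne_zero

theorem card_points_zmod {F V : Type*} [Field F] [Finite F] [AddCommGroup V] [Module F V]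
    [Module.Finite F V] (W : Submodule F V) (hW : W ≠ ⊥) :
    (Nat.card {x : Projectivization F V // x.rep ∈ W} : ZMod (Nat.card F)) = 1 := by
  classical
  let i := Projectivization.map W.subtype W.injective_subtype
  have hr : Set.range i = {x : Projectivization F V | x.rep ∈ W} := by
    ext x
    constructor
    · rintro ⟨y, rfl⟩
      induction y using Projectivization.ind with
      | h v hv =>
        show (Projectivization.mk F (v : V) _).rep ∈ W
        exact (rep_mem_iff W _ _).2 v.2
    · intro hx
      induction x using Projectivization.ind with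
      | h v hv =>
        have hv' : v ∈ W := (rep_mem_iff W v hv).1 hx
        exact ⟨Projectivization.mk F ⟨v, hv'⟩ (fun h => hv (congrArg Subtype.val h)), rfl⟩
  have h1 : Nat.card {x : Projectivization F V // x.rep ∈ W} = Nat.card (Projectivization F W) := by
    rw [← Nat.card_range_of_injective (Projectivization.map_injective W.subtype W.injective_subtype), hr]
    rfl
  obtain ⟨d, hd⟩ := Nat.exists_eq_succ_of_ne_zero
    (fun h => hW (Submodule.finrank_eq_zero.1 h) : Module.finrank F W ≠ 0)
  rw [h1, Projectivization.card_of_finrank F W hd, Finset.sum_range_succ']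
  simp

/-- Let `F` be a finite field and `n ≥ 3`. No set of permutations of the points of the projective space of `Fⁿ`, each induced by an invertible semilinear transformation of `Fⁿ` (so a subset of the full projective semilinear group), is sharply 2-transitive on the points: it is impossible that for all pairs of distinct points `(a, b)` and `(c, d)` exactly one member of the set sends `a` to `c` and `b` to `d`. -/
theorem result {F : Type*} [Field F] [Finite F]
    (n : ℕ) (hn : 3 ≤ n) (S : Set (Equiv.Perm (Projectivization F (Fin n → F))))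
    (hS : ∀ s ∈ S, ∃ (σ : F ≃+* F) (f : (Fin n → F) →ₛₗ[(σ : F →+* F)] (Fin n → F)) (hf : Function.Injective f),
      ∀ x, s x = Projectivization.map f hf x) :
    ¬ (∀ a b c d : Projectivization F (Fin n → F), a ≠ b → c ≠ d →
        ∃! s, s ∈ S ∧ s a = c ∧ s b = d) := by
  classical
  intro hS2
  have : Fintype F := Fintype.ofFinite F
  set q := Nat.card F with hq
  have hq1 : 1 < q := Finite.one_lt_card
  haveI : Fact (1 < q) := ⟨hq1⟩
  let i0 : Fin n := ⟨0, by omega⟩
  let i1 : Fin n := ⟨1, by omega⟩
  let i2 : Fin n := ⟨2, by omega⟩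
  have hi10 : i1 ≠ i0 := by simp [i1, i0, Fin.ext_iff]
  have hi20 : i2 ≠ i0 := by simp [i2, i0, Fin.ext_iff]
  have hi21 : i2 ≠ i1 := by simp [i2, i1, Fin.ext_iff]
  let a : (Projectivization F (Fin n → F)) := Projectivization.mk F (Pi.single i0 (1 : F)) (by
    intro h; exact one_ne_zero (by simpa using congrFun h i0 : (1 : F) = 0))
  let H : Submodule F (Fin n → F) := LinearMap.ker (LinearMap.proj i0)
  have hHne : H ≠ ⊥ := by
    intro h
    have : (Pi.single i1 1 : Fin n → F) ∈ H := by simp [H, Pi.single_eq_of_ne hi10.symm]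
    rw [h, Submodule.mem_bot] at this
    exact one_ne_zero (α := F) (by simpa using congrFun this i1)
  let PH := {x : (Projectivization F (Fin n → F)) // x.rep ∈ H}
  have haH : a.rep ∉ H := by
    show a.rep ∉ H
    rw [rep_mem_iff]
    simp [H]
  let T := {s // s ∈ S ∧ s a = a}
  have hne : ∀ b : PH, a ≠ b.1 := fun b h => haH (h ▸ b.2)
  -- each pair of points of `H` is matched by exactly one member fixing `a`
  let e : (Σ s : T, {b : PH // (s.1 b.1).rep ∈ H}) ≃ PH × PH :=
    Equiv.ofBijective (fun z => (z.2.1, ⟨z.1.1 z.2.1.1, z.2.2⟩)) ⟨by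
      rintro ⟨⟨s, hs, hsa⟩, b, hb⟩ ⟨⟨s', hs', hsa'⟩, b', hb'⟩ h
      obtain ⟨h1, h2'⟩ := Prod.mk.injEq .. ▸ h
      subst h1
      have h2 : s b.1 = s' b.1 := congrArg Subtype.val h2' 
      obtain ⟨w, -, hu⟩ := hS2 a b.1 a (s b.1) (hne b) (fun h => haH (h ▸ hb))
      have e1 := hu s ⟨hs, hsa, rfl⟩
      have e2 := hu s' ⟨hs', hsa', h2.symm⟩
      subst e1 e2
      rfl, by
      rintro ⟨b, d⟩
      obtain ⟨s, ⟨hs, hsa, hsb⟩, -⟩ := hS2 a b.1 a d.1 (hne b) (hne d)
      exact ⟨⟨⟨s, hs, hsa⟩, b, by rw [hsb]; exact d.2⟩, by simp [hsb]⟩⟩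
  haveI : Finite (Projectivization F (Fin n → F)) := inferInstance
  haveI : Fintype T := Fintype.ofFinite T
  have hsum : ∑ s : T, Nat.card {b : PH // (s.1 b.1).rep ∈ H} = Nat.card PH * Nat.card PH := by
    rw [← Nat.card_prod, ← Nat.card_congr e, Nat.card_sigma]
  have hone : ∀ s : T, (Nat.card {b : PH // (s.1 b.1).rep ∈ H} : ZMod q) = 1 := by
    intro s
    obtain ⟨σ, f, hf, hsf⟩ := hS s.1 s.2.1
    let W : Submodule F (Fin n → F) := H ⊓ H.comap f
    have hWne : W ≠ ⊥ := by
      intro h
      suffices ∃ v : Fin n → F, v ≠ 0 ∧ v ∈ W by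
        obtain ⟨v, hv, hvW⟩ := this
        rw [h, Submodule.mem_bot] at hvW
        exact hv hvW
      let u := f (Pi.single i1 1) i0
      let w := f (Pi.single i2 1) i0
      by_cases hu : u = 0
      · refine ⟨Pi.single i1 1, by simp, ?_⟩
        simp [W, H, Pi.single_eq_of_ne hi10.symm]
        exact hu
      · refine ⟨σ.symm w • Pi.single i1 (1 : F) - σ.symm u • Pi.single i2 (1 : F), ?_, ?_⟩
        · intro h
          have := congrFun h i2
          simp [Pi.single_eq_of_ne hi21, hu] at this
        · simp [W, H, Pi.single_eq_of_ne hi10.symm, Pi.single_eq_of_ne hi20.symm, u, w]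
          ring
    let g : {b : PH // (s.1 b.1).rep ∈ H} ≃ {x : (Projectivization F (Fin n → F)) // x.rep ∈ W} :=
      { toFun := fun b => ⟨b.1.1, b.1.2, by
          have h := b.2
          rw [hsf] at h
          induction hb : b.1.1 using Projectivization.ind with
          | h v hv =>
            rw [hb, Projectivization.map_mk, rep_mem_iff] at h
            exact (rep_mem_iff (H.comap f) v hv).2 h⟩
        invFun := fun x => ⟨⟨x.1, x.2.1⟩, by
          rw [hsf]
          obtain ⟨x, hx1, hx2⟩ := x
          induction x using Projectivization.ind with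
          | h v hv =>
            rw [Projectivization.map_mk, rep_mem_iff]
            exact (rep_mem_iff (H.comap f) v hv).1 hx2⟩
        left_inv := fun b => rfl
        right_inv := fun x => rfl }
    rw [Nat.card_congr g]
    exact card_points_zmod W hWne
  have hT : (Nat.card T : ZMod q) = 0 := by
    let b0 : (Projectivization F (Fin n → F)) := Projectivization.mk F (Pi.single i1 (1 : F)) (by simp)
    have hab : a ≠ b0 := by
      intro h
      apply haH
      rw [h]
      exact (rep_mem_iff _ _ _).2 (by simp [H, Pi.single_eq_of_ne hi10.symm])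
    let e' : T ≃ {x : (Projectivization F (Fin n → F)) // x ≠ a} :=
      Equiv.ofBijective (fun s => ⟨s.1 b0, fun h => hab (s.1.injective (s.2.2.trans h.symm))⟩) ⟨by
        intro s s' h
        simp only [Subtype.mk.injEq] at h
        obtain ⟨w, -, hu⟩ := hS2 a b0 a (s.1 b0) hab
          (fun h' => hab (s.1.injective (s.2.2.trans h')))
        exact Subtype.ext ((hu _ ⟨s.2.1, s.2.2, rfl⟩).trans (hu _ ⟨s'.2.1, s'.2.2, h.symm⟩).symm),
        fun x => by
        obtain ⟨s, ⟨hs, hsa, hsb⟩, -⟩ := hS2 a b0 a x.1 hab (Ne.symm x.2)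
        exact ⟨⟨s, hs, hsa⟩, Subtype.ext hsb⟩⟩
    have htop := card_points_zmod (⊤ : Submodule F (Fin n → F)) (by
      intro h
      exact hHne (le_bot_iff.1 (h ▸ le_top)))
    have hP1 : Nat.card {x : (Projectivization F (Fin n → F)) // x.rep ∈ (⊤ : Submodule F (Fin n → F))} = Nat.card (Projectivization F (Fin n → F)) :=
      Nat.card_congr (Equiv.subtypeUnivEquiv fun _ => Submodule.mem_top)
    have hcc : Nat.card T + 1 = Nat.card (Projectivization F (Fin n → F)) := by
      haveI := Fintype.ofFinite (Projectivization F (Fin n → F))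
      rw [Nat.card_congr e', Nat.card_eq_fintype_card, Nat.card_eq_fintype_card,
        Fintype.card_subtype_compl, Fintype.card_subtype_eq]
      have : 0 < Fintype.card (Projectivization F (Fin n → F)) := Fintype.card_pos_iff.2 ⟨a⟩
      omega
    rw [hP1, ← hcc] at htop
    simpa using htop
  have := congrArg (Nat.cast : ℕ → ZMod q) hsum
  simp only [Nat.cast_sum, Nat.cast_mul, hone, card_points_zmod H hHne, Finset.sum_const,
    Finset.card_univ, mul_one, nsmul_eq_mul, PH, ← hq] at this
  rw [← Nat.card_eq_fintype_card, hT] at this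
  exact zero_ne_one this

end Cfsg.Agent.S2531
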