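import Cfsg.Statements.S2532
-- import your own Cfsg.Agent.* helpers here

set_option autoImplicit false
open Cfsg

namespace Cfsg.Agent.S2532

/-- There is a function `f` of two natural-number arguments such that, whenever `m ≥ f(n, r)`, every subgroup of order `n` of the alternating group of degree `m` centralizes some subgroup of that alternating group isomorphic to the alternating group of degree `r`. -/
theorem result :
    ∃ f : ℕ → ℕ → ℕ, ∀ (m r : ℕ) (H : Subgroup ↥(alternatingGroup (Fin m))), f (Nat.card H) r ≤ m →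
      ∃ K : Subgroup ↥(alternatingGroup (Fin m)), Nonempty (↥K ≃* ↥(alternatingGroup (Fin r))) ∧
        K ≤ Subgroup.centralizer (H : Set ↥(alternatingGroup (Fin m))) := by
  classical
  refine ⟨fun n r => n * (2 ^ n * r) + r + 1, ?_⟩
  intro m r H hm
  let ι := (alternatingGroup (Fin m)).subtype
  let H' : Subgroup (Equiv.Perm (Fin m)) := H.map ι
  have hcard : Nat.card H' = Nat.card H :=
    (Nat.card_congr (H.equivMapOfInjective ι Subtype.coe_injective).toEquiv).symm
  haveI : Fintype H' := Fintype.ofFinite _
  let Ω := Quotient (MulAction.orbitRel H' (Fin m))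
  haveI : Fintype Ω := Fintype.ofFinite Ω
  haveI : Fintype (Subgroup H') := Fintype.ofFinite _
  have hΩ : m ≤ Fintype.card Ω * Nat.card H := by
    have := Fintype.card_le_of_surjective
      (fun z : Ω × H' => (z.2 • z.1.out : Fin m)) (fun y => by
        have h : MulAction.orbitRel H' (Fin m) y (Quotient.mk (MulAction.orbitRel H' (Fin m)) y).out :=
          ((MulAction.orbitRel H' (Fin m)).symm (@Quotient.mk_out _ (MulAction.orbitRel H' (Fin m)) y))
        obtain ⟨h', hh'⟩ := h
        exact ⟨(Quotient.mk _ y, h'), hh'⟩)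
    rwa [Fintype.card_fin, Fintype.card_prod, ← Nat.card_eq_fintype_card (α := H'), hcard] at this
  have hsubs : Fintype.card (Subgroup H') ≤ 2 ^ Nat.card H := by
    rw [← hcard, Nat.card_eq_fintype_card, ← Fintype.card_set]
    exact Fintype.card_le_of_injective _ SetLike.coe_injective
  have hpig : Fintype.card (Subgroup H') * r ≤ Fintype.card Ω := by
    have hn : 0 < Nat.card H := Nat.card_pos
    refine (Nat.mul_le_mul_right r hsubs).trans (Nat.le_of_mul_le_mul_right ?_ hn)
    calc 2 ^ Nat.card H * r * Nat.card H ≤ m := by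
          refine le_trans ?_ hm
          show _ ≤ Nat.card H * (2 ^ Nat.card H * r) + r + 1
          rw [Nat.mul_comm]
          omega
      _ ≤ _ := hΩ
  obtain ⟨K, hK⟩ := Fintype.exists_le_card_fiber_of_mul_le_card
    (fun O : Ω => MulAction.stabilizer H' O.out) hpig
  let T := {O : Ω // MulAction.stabilizer H' O.out = K}
  have hT : r ≤ Fintype.card T := by rwa [Fintype.card_subtype]
  obtain ⟨o⟩ : Nonempty (Fin r ↪ T) := Function.Embedding.nonempty_of_card_le (by simpa using hT)
  let x : Fin r → Fin m := fun i => (o i).1.out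
  have hx : ∀ i, MulAction.stabilizer H' (x i) = K := fun i => (o i).2
  let j0 : Fin r × (H' ⧸ K) → Fin m := fun z => Quotient.liftOn' z.2 (fun h => h • x z.1) (by
    intro a b hab
    rw [QuotientGroup.leftRel_apply, ← hx z.1, MulAction.mem_stabilizer_iff, mul_smul,
      inv_smul_eq_iff] at hab
    exact hab.symm)
  have hj0 : Function.Injective j0 := by
    rintro ⟨i, a⟩ ⟨i', b⟩ h
    induction a using Quotient.inductionOn' with
    | h a =>
      induction b using Quotient.inductionOn' with
      | h b =>
        simp only [j0, Quotient.liftOn'_mk''] at h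
        have hi : i = i' := by
          apply o.injective
          apply Subtype.ext
          rw [← Quotient.out_eq (o i).1, ← Quotient.out_eq (o i').1]
          apply Quotient.sound
          exact ⟨a⁻¹ * b, by
            show (a⁻¹ * b) • x i' = x i
            rw [mul_smul, ← h, inv_smul_smul]⟩
        subst hi
        congr 1
        apply Quotient.sound'
        rw [QuotientGroup.leftRel_apply, ← hx i, MulAction.mem_stabilizer_iff, mul_smul, ← h,
          inv_smul_smul]
  let j : Fin r × (H' ⧸ K) ↪ Fin m := ⟨j0, hj0⟩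
  let d : Equiv.Perm (Fin r) →* Equiv.Perm (Fin r × (H' ⧸ K)) :=
    { toFun := fun p => p.prodCongr (Equiv.refl _)
      map_one' := Equiv.ext fun z => rfl
      map_mul' := fun p p' => Equiv.ext fun z => rfl }
  have hd : Function.Injective d := by
    intro p p' h
    ext i
    have := congrArg Prod.fst (Equiv.congr_fun h (i, QuotientGroup.mk 1))
    exact congrArg Fin.val this
  let ψ : Equiv.Perm (Fin r) →* Equiv.Perm (Fin m) := (Equiv.Perm.viaEmbeddingHom j).comp d
  have hψ : Function.Injective ψ := (Equiv.Perm.viaEmbeddingHom_injective j).comp hd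
  have hcomm : ∀ (p : Equiv.Perm (Fin r)) (h : H'), ψ p * (h : Equiv.Perm (Fin m)) = h * ψ p := by
    intro p h
    ext y
    congr 1
    show ψ p (h • y) = h • ψ p y
    have hj : ∀ z : Fin r × (H' ⧸ K), h • j z = j (z.1, h • z.2) := by
      rintro ⟨i, a⟩
      induction a using Quotient.inductionOn' with
      | h a => exact (mul_smul h a (x i)).symm
    have happ : ∀ z : Fin r × (H' ⧸ K), ψ p (j z) = j (p z.1, z.2) := fun z =>
      Equiv.Perm.viaEmbedding_apply (d p) j z
    by_cases hy : y ∈ Set.range j
    · obtain ⟨z, rfl⟩ := hy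
      rw [hj, happ, happ, hj]
    · have hy' : h • y ∉ Set.range j := by
        rintro ⟨z, hz⟩
        exact hy ⟨(z.1, h⁻¹ • z.2), smul_left_cancel h (by rw [hj, smul_inv_smul]; exact hz)⟩
      rw [show ψ p (h • y) = h • y from Equiv.Perm.viaEmbedding_apply_of_notMem _ j _ hy',
        show ψ p y = y from Equiv.Perm.viaEmbedding_apply_of_notMem _ j _ hy]
  have heven : ∀ p ∈ alternatingGroup (Fin r), ψ p ∈ alternatingGroup (Fin m) := by
    intro p hp
    rw [← Equiv.Perm.closure_three_cycles_eq_alternating] at hp
    refine (Subgroup.closure_le (K := (alternatingGroup (Fin m)).comap ψ)).2 ?_ hp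
    intro c hc
    show ψ c ∈ alternatingGroup (Fin m)
    rw [Equiv.Perm.mem_alternatingGroup]
    have h3 : (Equiv.Perm.sign (ψ c)) ^ 3 = 1 := by
      rw [← map_pow, ← map_pow, ← hc.orderOf, pow_orderOf_eq_one, map_one, map_one]
    rcases Int.units_eq_one_or (Equiv.Perm.sign (ψ c)) with h | h
    · exact h
    · rw [h] at h3; exact absurd h3 (by decide)
  let φ : alternatingGroup (Fin r) →* alternatingGroup (Fin m) :=
    (ψ.comp (alternatingGroup (Fin r)).subtype).codRestrict _ fun p => heven p.1 p.2
  have hφ : Function.Injective φ := fun p p' h => Subtype.ext (hψ (congrArg Subtype.val h))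
  refine ⟨φ.range, ⟨(MonoidHom.ofInjective hφ).symm⟩, ?_⟩
  rintro _ ⟨p, rfl⟩
  rw [Subgroup.mem_centralizer_iff]
  intro h hh
  exact Subtype.ext (hcomm p.1 ⟨h.1, ⟨h, hh, rfl⟩⟩).symm

end Cfsg.Agent.S2532
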