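import Cfsg.Statements.S2540
import Cfsg.Agent.Linear.Perfect
-- import your own Cfsg.Agent.* helpers here

set_option autoImplicit false
open Cfsg
open scoped commutatorElement

namespace Cfsg.Agent.S2540

theorem sl_perfect {F : Type*} [Field F] [Fintype F] {n : ℕ} (h2 : 2 ≤ n)
    (hex : ¬ (n = 2 ∧ Fintype.card F ≤ 3)) : commutator (Matrix.SpecialLinearGroup (Fin n) F) = ⊤ := by
  classical
  rcases eq_or_lt_of_le h2 with rfl | h3
  · obtain ⟨a, ha, ha2⟩ : ∃ a : F, a ≠ 0 ∧ a ^ 2 ≠ 1 := by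
      by_contra hc
      push Not at hc
      apply hex ⟨rfl, ?_⟩
      calc Fintype.card F = (Finset.univ : Finset F).card := rfl
        _ ≤ ({0, 1, -1} : Finset F).card := Finset.card_le_card fun a _ => by
            rcases eq_or_ne a 0 with h | h
            · simp [h]
            · rcases sq_eq_one_iff.mp (hc a h) with h' | h' <;> simp [h']
        _ ≤ 3 := Finset.card_le_three
    exact Matrix.SL2.commutator_eq_top ha ha2
  · exact CfsgLib.Linear.commutator_SL_eq_top (by rw [Fintype.card_fin]; omega)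

/-- Let F be a finite field and n ≥ 1, excluding the case n = 2 with #F ≤ 3. A subgroup of GL_n(F) that is normalized by every element of SL_n(F) either consists of scalar matrices or contains SL_n(F). -/
theorem result {F : Type*} [Field F] [Fintype F] (n : ℕ) (hn : 1 ≤ n) (hex : ¬ (n = 2 ∧ Fintype.card F ≤ 3)) (G : Subgroup (Matrix.GeneralLinearGroup (Fin n) F)) (hG : ∀ s : Matrix.SpecialLinearGroup (Fin n) F, ∀ g ∈ G, (Matrix.SpecialLinearGroup.toGL s) * g * (Matrix.SpecialLinearGroup.toGL s)⁻¹ ∈ G) : (∀ g ∈ G, ∃ c : F, (g : Matrix (Fin n) (Fin n) F) = c • (1 : Matrix (Fin n) (Fin n) F)) ∨ (Matrix.SpecialLinearGroup.toGL : Matrix.SpecialLinearGroup (Fin n) F →* _).range ≤ G := by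
  classical
  rcases Nat.lt_or_ge n 2 with h1 | h2
  · left
    obtain rfl : n = 1 := by omega
    intro g _
    refine ⟨(g : Matrix (Fin 1) (Fin 1) F) 0 0, ?_⟩
    ext i j
    rw [Subsingleton.elim i 0, Subsingleton.elim j 0]
    simp
  have hperf : commutator (Matrix.SpecialLinearGroup (Fin n) F) = ⊤ := sl_perfect h2 hex
  haveI hsimple : IsSimpleGroup (Matrix.ProjectiveSpecialLinearGroup (Fin n) F) :=
    CfsgLib.Linear.isSimpleGroup_PSL_of n h2 (fun h => by by_contra hc; exact hex ⟨h, by omega⟩)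
  rw [or_iff_not_imp_left]
  intro hns
  push Not at hns
  obtain ⟨g, hgG, hg⟩ := hns
  set ι := (Matrix.SpecialLinearGroup.toGL : Matrix.SpecialLinearGroup (Fin n) F →* _)
  let H : Subgroup (Matrix.SpecialLinearGroup (Fin n) F) := G.comap ι
  have hHn : H.Normal := ⟨fun h hh s => by
    show ι (s * h * s⁻¹) ∈ G
    rw [map_mul, map_mul, map_inv]
    exact hG s _ hh⟩
  -- the commutators with `g`
  have hdet : ∀ x : GL (Fin n) F, (x : Matrix (Fin n) (Fin n) F).det = 1 → ∃ s, ι s = x := fun x hx =>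
    ⟨⟨x, hx⟩, Units.ext rfl⟩
  have hex' : ∀ s, ∃ c, ι c = g * ι s * g⁻¹ * (ι s)⁻¹ := fun s => hdet _ (by
    rw [← Matrix.GeneralLinearGroup.val_det_apply, map_mul, map_mul, map_mul, map_inv, map_inv,
      mul_comm (Matrix.GeneralLinearGroup.det g), mul_inv_cancel_right, mul_inv_cancel]
    rfl)
  choose c hc using hex'
  have hcH : ∀ s, c s ∈ H := fun s => by
    show ι (c s) ∈ G
    rw [hc s, mul_assoc g, mul_assoc]
    exact G.mul_mem hgG (hG s _ (G.inv_mem hgG))
  by_cases hall : ∀ s, c s ∈ Subgroup.center (Matrix.SpecialLinearGroup (Fin n) F)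
  · -- then `g` centralises `SL`, so it is scalar
    exfalso
    have hmul : ∀ s t, c (s * t) = c s * c t := by
      intro s t
      apply Matrix.SpecialLinearGroup.toGL_injective
      change ι _ = ι _
      have hcent : ι (c t) * ι s = ι s * ι (c t) := by
        rw [← map_mul, ← map_mul, (Subgroup.mem_center_iff.mp (hall t) s)]
      rw [map_mul, hc, map_mul]
      calc g * (ι s * ι t) * g⁻¹ * (ι s * ι t)⁻¹
          = (g * ι s * g⁻¹) * (g * ι t * g⁻¹ * (ι t)⁻¹) * (ι s)⁻¹ := by group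
        _ = (g * ι s * g⁻¹) * (ι (c t) * (ι s)⁻¹) := by rw [← hc t, mul_assoc]
        _ = (g * ι s * g⁻¹) * ((ι s)⁻¹ * ι (c t)) := by
            rw [show ι (c t) * (ι s)⁻¹ = (ι s)⁻¹ * ι (c t) by
              rw [eq_inv_mul_iff_mul_eq, ← mul_assoc, ← hcent, mul_inv_cancel_right]]
        _ = ι (c s) * ι (c t) := by rw [hc s]; group
    let f : Matrix.SpecialLinearGroup (Fin n) F →* Subgroup.center (Matrix.SpecialLinearGroup (Fin n) F) :=
      MonoidHom.mk' (fun s => ⟨c s, hall s⟩) (fun s t => Subtype.ext (hmul s t))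
    have hker : commutator (Matrix.SpecialLinearGroup (Fin n) F) ≤ f.ker := by
      rw [commutator_def, Subgroup.commutator_le]
      intro a _ b _
      rw [MonoidHom.mem_ker, map_commutatorElement, commutatorElement_eq_one_iff_mul_comm]
      exact Subtype.ext (Subgroup.mem_center_iff.mp (f b).2 _)
    rw [hperf, top_le_iff] at hker
    have hcomm : ∀ s, g * ι s = ι s * g := by
      intro s
      have hs : s ∈ f.ker := hker.symm ▸ Subgroup.mem_top s
      have h0 : f s = 1 := hs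
      have h1 : c s = 1 := congrArg Subtype.val h0
      have h2 := hc s
      rw [h1, map_one] at h2
      have h3 := mul_inv_eq_one.mp h2.symm
      exact mul_inv_eq_iff_eq_mul.mp h3
    have : (g : Matrix (Fin n) (Fin n) F) ∈ Set.range (Matrix.scalar (Fin n)) := by
      refine Matrix.mem_range_scalar_of_commute_transvectionStruct fun t => ?_
      have := congrArg Units.val (hcomm (Matrix.SpecialLinearGroup.transvection t.hij t.c))
      rw [Units.val_mul, Units.val_mul] at this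
      exact this.symm
    obtain ⟨a, ha⟩ := this
    exact hg a (by rw [← ha, Matrix.scalar_apply, Matrix.smul_one_eq_diagonal])
  · push Not at hall
    obtain ⟨s, hs⟩ := hall
    set π := QuotientGroup.mk' (Subgroup.center (Matrix.SpecialLinearGroup (Fin n) F))
    haveI : (H.map π).Normal := Subgroup.Normal.map hHn π (QuotientGroup.mk'_surjective _)
    have htop : H.map π = ⊤ := by
      refine (Subgroup.Normal.eq_bot_or_eq_top inferInstance).resolve_left fun h => hs ?_
      have : π (c s) ∈ H.map π := Subgroup.mem_map_of_mem _ (hcH s)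
      rw [h, Subgroup.mem_bot, QuotientGroup.mk'_apply, QuotientGroup.eq_one_iff] at this
      exact this
    have hle : commutator (Matrix.SpecialLinearGroup (Fin n) F) ≤ H := by
      rw [commutator_def, Subgroup.commutator_le]
      intro a _ b _
      have hdec : ∀ x, ∃ h ∈ H, ∃ z ∈ Subgroup.center (Matrix.SpecialLinearGroup (Fin n) F), x = h * z := by
        intro x
        obtain ⟨h, hh, hxh⟩ := (htop ▸ Subgroup.mem_top (π x) : π x ∈ H.map π)
        exact ⟨h, hh, h⁻¹ * x, (QuotientGroup.eq).mp hxh, (mul_inv_cancel_left h x).symm⟩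
      obtain ⟨h₁, hh₁, z₁, hz₁, rfl⟩ := hdec a
      obtain ⟨h₂, hh₂, z₂, hz₂, rfl⟩ := hdec b
      have key : ⁅h₁ * z₁, h₂ * z₂⁆ = ⁅h₁, h₂⁆ := by
        have c1 : ∀ x, x * z₁ = z₁ * x := Subgroup.mem_center_iff.mp hz₁
        have c2 : ∀ x, x * z₂ = z₂ * x := Subgroup.mem_center_iff.mp hz₂
        simp only [commutatorElement_def, _root_.mul_inv_rev]
        calc h₁ * z₁ * (h₂ * z₂) * (z₁⁻¹ * h₁⁻¹) * (z₂⁻¹ * h₂⁻¹)
            = h₁ * (z₁ * (h₂ * z₂)) * z₁⁻¹ * h₁⁻¹ * z₂⁻¹ * h₂⁻¹ := by group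
          _ = h₁ * ((h₂ * z₂) * z₁) * z₁⁻¹ * h₁⁻¹ * z₂⁻¹ * h₂⁻¹ := by rw [c1 (h₂ * z₂)]
          _ = h₁ * h₂ * (z₂ * h₁⁻¹) * z₂⁻¹ * h₂⁻¹ := by group
          _ = h₁ * h₂ * (h₁⁻¹ * z₂) * z₂⁻¹ * h₂⁻¹ := by rw [c2 h₁⁻¹]
          _ = h₁ * h₂ * h₁⁻¹ * h₂⁻¹ := by group
      rw [key, commutatorElement_def]
      exact H.mul_mem (H.mul_mem (H.mul_mem hh₁ hh₂) (H.inv_mem hh₁)) (H.inv_mem hh₂)
    rintro x ⟨y, rfl⟩
    exact (hperf ▸ hle) (Subgroup.mem_top y)

end Cfsg.Agent.S2540
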