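import Cfsg.Statements.S2541
-- import your own Cfsg.Agent.* helpers here

set_option autoImplicit false
open Cfsg

namespace Cfsg.Agent.S2541

/-- Let F be a field with 9 elements. The symmetric group S_6 is not isomorphic to PGL_2(F) (although both have index-2 subgroups isomorphic to A_6). -/
theorem result {F : Type*} [Field F] [Fintype F] (hF : Fintype.card F = 9) : ¬ Nonempty (Equiv.Perm (Fin 6) ≃* Matrix.ProjGenLinGroup (Fin 2) F) := by
  classical
  rintro ⟨e⟩
  obtain ⟨z, hz⟩ := IsCyclic.exists_ofOrder_eq_natCard (α := Fˣ)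
  have hz8 : orderOf z = 8 := by
    rw [hz, Nat.card_units, Nat.card_eq_fintype_card, hF]
  let D : GL (Fin 2) F := Matrix.GeneralLinearGroup.mkOfDetNeZero !![(z : F), 0; 0, 1]
    (by simp [Matrix.det_fin_two])
  have hpow : ∀ k : ℕ, ((D ^ k : GL (Fin 2) F) : Matrix (Fin 2) (Fin 2) F) =
      !![(z : F) ^ k, 0; 0, 1] := by
    intro k
    induction k with
    | zero => ext i j; fin_cases i <;> fin_cases j <;> simp
    | succ k ih =>
      rw [pow_succ, Units.val_mul, ih]
      ext i j
      fin_cases i <;> fin_cases j <;>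
        simp [D, Matrix.GeneralLinearGroup.mkOfDetNeZero, Matrix.mul_apply, Fin.sum_univ_two, pow_succ]
  have hord : orderOf (Matrix.ProjGenLinGroup.mk D) = 8 := by
    rw [← hz8, orderOf_eq_orderOf_iff]
    intro k
    rw [← map_pow, Matrix.ProjGenLinGroup.mk_eq_one]
    constructor
    · intro hk
      rw [Subgroup.mem_center_iff] at hk
      let U : GL (Fin 2) F := Matrix.GeneralLinearGroup.mkOfDetNeZero !![1, 1; 0, 1]
        (by simp [Matrix.det_fin_two])
      have h := congrArg (fun g : GL (Fin 2) F => (g : Matrix (Fin 2) (Fin 2) F)) (hk U)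
      simp only [Units.val_mul, hpow] at h
      have h01 := congrFun (congrFun h 0) 1
      simp [U, Matrix.GeneralLinearGroup.mkOfDetNeZero, Matrix.mul_apply, Fin.sum_univ_two] at h01
      apply Units.ext
      rw [Units.val_pow_eq_pow_val, Units.val_one]
      first
      | exact h01
      | exact h01.symm
    · intro hk
      have : D ^ k = 1 := by
        apply Units.ext
        rw [hpow, ← Units.val_pow_eq_pow_val, hk]
        ext i j; fin_cases i <;> fin_cases j <;> simp
      rw [this]; exact Subgroup.one_mem _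
  have h6 : ∀ σ : Equiv.Perm (Fin 6), orderOf σ ≠ 8 := by
    intro σ hσ
    have hl : σ.cycleType.lcm ∣ 4 := by
      rw [Multiset.lcm_dvd]
      intro c hc
      have h8 : c ∣ 8 := hσ ▸ Equiv.Perm.dvd_of_mem_cycleType hc
      have h6 : c ≤ 6 := (Equiv.Perm.le_card_support_of_mem_cycleType hc).trans
        (by simpa using Finset.card_le_univ σ.support)
      interval_cases c <;> omega
    rw [Equiv.Perm.lcm_cycleType, hσ] at hl
    omega
  exact h6 _ ((MulEquiv.orderOf_eq e.symm _).trans hord)

end Cfsg.Agent.S2541
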