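import Cfsg.Statements.S2552
-- import your own Cfsg.Agent.* helpers here

set_option autoImplicit false
open Cfsg

namespace Cfsg.Agent.S2552

/-- Let F be a finite field and n ≥ 1. For every k, the special linear group SL_n(F) acts transitively on the set of k-dimensional subspaces of F^n: any two subspaces of the same dimension are carried onto each other by some matrix of determinant 1. -/
theorem result {F : Type*} [Field F] [Fintype F] (n : ℕ) (hn : 1 ≤ n) (U₁ U₂ : Submodule F (Fin n → F)) (h : Module.finrank F U₁ = Module.finrank F U₂) : ∃ g : Matrix.SpecialLinearGroup (Fin n) F, U₁.map ((Matrix.SpecialLinearGroup.toLin' g : (Fin n → F) ≃ₗ[F] (Fin n → F)) : (Fin n → F) →ₗ[F] (Fin n → F)) = U₂ := by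
  classical
  obtain ⟨C₁, hC₁⟩ := U₁.exists_isCompl
  obtain ⟨C₂, hC₂⟩ := U₂.exists_isCompl
  have h1 := Submodule.finrank_add_eq_of_isCompl hC₁
  have h2 := Submodule.finrank_add_eq_of_isCompl hC₂
  let eU : U₁ ≃ₗ[F] U₂ := LinearEquiv.ofFinrankEq _ _ h
  let eC : C₁ ≃ₗ[F] C₂ := LinearEquiv.ofFinrankEq _ _ (by omega)
  let e : (Fin n → F) ≃ₗ[F] (Fin n → F) :=
    (Submodule.prodEquivOfIsCompl _ _ hC₁).symm ≪≫ₗ (eU.prodCongr eC) ≪≫ₗ
      (Submodule.prodEquivOfIsCompl _ _ hC₂)
  have he : ∀ x : U₁, e (x : Fin n → F) = (eU x : Fin n → F) := by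
    intro x
    have hx : (Submodule.prodEquivOfIsCompl _ _ hC₁).symm (x : Fin n → F) = (x, 0) := by
      rw [LinearEquiv.symm_apply_eq]; simp
    simp [e, hx]
  have hmap : U₁.map (e : (Fin n → F) →ₗ[F] (Fin n → F)) = U₂ := by
    apply le_antisymm
    · rintro y ⟨x, hx, rfl⟩
      rw [LinearEquiv.coe_coe, he ⟨x, hx⟩]
      exact Submodule.coe_mem _
    · intro y hy
      refine ⟨(eU.symm ⟨y, hy⟩ : Fin n → F), Submodule.coe_mem _, ?_⟩
      rw [LinearEquiv.coe_coe, he, LinearEquiv.apply_symm_apply]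
  by_cases htop : U₂ = ⊤
  · subst htop
    refine ⟨1, ?_⟩
    have : U₁ = ⊤ := Submodule.eq_top_of_finrank_eq (by rw [h, finrank_top])
    simp [this]
  · obtain ⟨v, -, hv⟩ := SetLike.exists_of_lt (lt_top_iff_ne_top.mpr htop)
    obtain ⟨f, hfv, hpf⟩ := Submodule.exists_le_ker_of_notMem hv
    set d : F := LinearMap.det (e : (Fin n → F) →ₗ[F] (Fin n → F)) with hd
    have hd0 : d ≠ 0 := (LinearEquiv.isUnit_det' e).ne_zero
    let T := LinearMap.transvection f (((d⁻¹ - 1) * (f v)⁻¹) • v)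
    have hT : LinearMap.det T = d⁻¹ := by
      rw [LinearMap.transvection.det]; simp [hfv]
    let M : Matrix (Fin n) (Fin n) F := LinearMap.toMatrix' (T ∘ₗ e.toLinearMap)
    have hM : M.det = 1 := by
      simp only [M, LinearMap.det_toMatrix', LinearMap.det_comp]
      rw [hT]
      exact inv_mul_cancel₀ hd0
    refine ⟨⟨M, hM⟩, ?_⟩
    show U₁.map (Matrix.toLin' M) = U₂
    have hTe : Matrix.toLin' M = T ∘ₗ e.toLinearMap := Matrix.toLin'_toMatrix' _
    simp only [hTe, Submodule.map_comp, hmap]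
    have hfix : ∀ x ∈ U₂, T x = x := by
      intro x hx
      have : f x = 0 := hpf hx
      simp [T, LinearMap.transvection.apply, this]
    apply le_antisymm
    · rintro y ⟨x, hx, rfl⟩
      rw [hfix x hx]; exact hx
    · exact fun y hy => ⟨y, hy, hfix y hy⟩

end Cfsg.Agent.S2552
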