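import Cfsg.Statements.S2553
import Cfsg.Agent.GLFourTwo.Subgroups
import Cfsg.Agent.GLFourTwo.Embed
import Cfsg.Agent.PLocal.PSolvable

set_option autoImplicit false
open Cfsg

namespace Cfsg.Agent.S2553

open CfsgLib

theorem det_eq_one (g : GL (Fin 4) (ZMod 2)) : (g : Matrix (Fin 4) (Fin 4) (ZMod 2)).det = 1 := by
  have h : IsUnit (g : Matrix (Fin 4) (Fin 4) (ZMod 2)).det :=
    (Matrix.isUnit_iff_isUnit_det _).1 g.isUnit
  revert h
  generalize (g : Matrix (Fin 4) (Fin 4) (ZMod 2)).det = a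
  intro h
  obtain ⟨u, rfl⟩ := h
  revert u
  decide

/-- `GL₄(2) = SL₄(2)` maps injectively to `A₈`. -/
noncomputable def glToAlt : GL (Fin 4) (ZMod 2) →* alternatingGroup (Fin 8) :=
  GLFourTwo.toAlt.comp (MonoidHom.mk' (fun g => ⟨(g : Matrix (Fin 4) (Fin 4) (ZMod 2)), det_eq_one g⟩)
    fun _ _ => Subtype.ext rfl)

theorem glToAlt_injective : Function.Injective glToAlt :=
  GLFourTwo.toAlt_injective.comp fun _ _ h => Units.ext (congrArg Subtype.val h :)

/-- Let H be a nontrivial subgroup of GL(4,2) (a group isomorphic to the alternating group of degree 8) whose largest normal 2-subgroup and largest normal subgroup of odd order are both trivial. Then H is isomorphic to an alternating group of degree n for some 5 ≤ n ≤ 8, to the symmetric group of degree 5 or 6, or to GL(3,2). -/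
theorem result (H : Subgroup (GL (Fin 4) (ZMod 2))) (hH : H ≠ ⊥) (hO : Cfsg.pPrimeCore 2 ↥H = ⊥) (hO2 : Cfsg.pCore 2 ↥H = ⊥) :
    (∃ n : ℕ, 5 ≤ n ∧ n ≤ 8 ∧ Nonempty (↥H ≃* alternatingGroup (Fin n))) ∨
    Nonempty (↥H ≃* Equiv.Perm (Fin 5)) ∨ Nonempty (↥H ≃* Equiv.Perm (Fin 6)) ∨ Nonempty (↥H ≃* GL (Fin 3) (ZMod 2)) := by
  haveI : Fact (Nat.Prime 2) := ⟨Nat.prime_two⟩
  have hns : ¬ Group.IsSolvable H := by
    intro hsol
    haveI : Nontrivial H := (Subgroup.nontrivial_iff_ne_bot H).2 hH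
    rcases PLocal.pCore_ne_bot_or_of_isPSolvable (PLocal.isPSolvable_of_isSolvable (p := 2) (G := H))
      with h | h
    · exact h hO2
    · exact h hO
  rcases GLFourTwo.bigList_of_embedding (glToAlt.comp H.subtype)
      (glToAlt_injective.comp H.subtype_injective) hns hO2 with h | h | h | h | ⟨N, hN, hc, -⟩
  · rcases h with h | h | h | h
    · exact Or.inl ⟨5, le_rfl, by norm_num, h⟩
    · exact Or.inl ⟨6, by norm_num, by norm_num, h⟩
    · exact Or.inr (Or.inl h)
    · exact Or.inr (Or.inr (Or.inl h))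
  · exact Or.inl ⟨7, by norm_num, by norm_num, h⟩
  · exact Or.inl ⟨8, by norm_num, le_rfl, h⟩
  · exact Or.inr (Or.inr (Or.inr h))
  · exfalso
    have hle := PLocal.le_pPrimeCore (p := 2) (N := N) (by rw [hc]; decide)
    rw [hO, le_bot_iff] at hle
    rw [hle, Subgroup.card_bot] at hc
    omega

end Cfsg.Agent.S2553
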