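import Cfsg.Statements.S2561
import Cfsg.Agent.QuadTwo.Forms

set_option autoImplicit false
open Cfsg

namespace Cfsg.Agent.S2561

/-- Fix the non-singular alternating form on the 2m-dimensional space over the field of two elements obtained by polarizing the plus-type form Σ xᵢyᵢ (m ≥ 1). The functions q on the space with q(u + v) = q(u) + q(v) + f(u, v) (the quadratic forms polarizing to f) number 2^(2m); each is equivalent under an invertible linear map either to the plus-type form or to the minus-type form Σ xᵢyᵢ + (z₁² + z₁z₂ + z₂²); and those of plus type number 2^(2m−1) + 2^(m−1), those of minus type 2^(2m−1) − 2^(m−1). -/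
theorem result (m : ℕ) (hm : 1 ≤ m) :
    Nat.card {q : (Fin m ⊕ Fin m → ZMod 2) → ZMod 2 // (∀ u v : (Fin m ⊕ Fin m → ZMod 2), q (u + v) = q u + q v + (Cfsg.quadFormPlus m (ZMod 2) (u + v) - Cfsg.quadFormPlus m (ZMod 2) u - Cfsg.quadFormPlus m (ZMod 2) v))} = 2 ^ (2 * m) ∧
    (∀ q : (Fin m ⊕ Fin m → ZMod 2) → ZMod 2, (∀ u v : (Fin m ⊕ Fin m → ZMod 2), q (u + v) = q u + q v + (Cfsg.quadFormPlus m (ZMod 2) (u + v) - Cfsg.quadFormPlus m (ZMod 2) u - Cfsg.quadFormPlus m (ZMod 2) v)) →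
      (∃ g : (Fin m ⊕ Fin m → ZMod 2) ≃ₗ[ZMod 2] (Fin m ⊕ Fin m → ZMod 2), ∀ v, q v = Cfsg.quadFormPlus m (ZMod 2) (g v)) ∨
      (∃ g : (Fin m ⊕ Fin m → ZMod 2) ≃ₗ[ZMod 2] ((Fin (m - 1) ⊕ Fin (m - 1)) ⊕ Fin 2 → ZMod 2), ∀ v, q v = Cfsg.quadFormMinus (m - 1) (ZMod 2) 1 1 (g v))) ∧
    Nat.card {q : (Fin m ⊕ Fin m → ZMod 2) → ZMod 2 // (∀ u v : (Fin m ⊕ Fin m → ZMod 2), q (u + v) = q u + q v + (Cfsg.quadFormPlus m (ZMod 2) (u + v) - Cfsg.quadFormPlus m (ZMod 2) u - Cfsg.quadFormPlus m (ZMod 2) v)) ∧ ∃ g : (Fin m ⊕ Fin m → ZMod 2) ≃ₗ[ZMod 2] (Fin m ⊕ Fin m → ZMod 2), ∀ v, q v = Cfsg.quadFormPlus m (ZMod 2) (g v)} = 2 ^ (2 * m - 1) + 2 ^ (m - 1) ∧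
    Nat.card {q : (Fin m ⊕ Fin m → ZMod 2) → ZMod 2 // (∀ u v : (Fin m ⊕ Fin m → ZMod 2), q (u + v) = q u + q v + (Cfsg.quadFormPlus m (ZMod 2) (u + v) - Cfsg.quadFormPlus m (ZMod 2) u - Cfsg.quadFormPlus m (ZMod 2) v)) ∧ ∃ g : (Fin m ⊕ Fin m → ZMod 2) ≃ₗ[ZMod 2] ((Fin (m - 1) ⊕ Fin (m - 1)) ⊕ Fin 2 → ZMod 2), ∀ v, q v = Cfsg.quadFormMinus (m - 1) (ZMod 2) 1 1 (g v)} = 2 ^ (2 * m - 1) - 2 ^ (m - 1) := by
  classical
  obtain ⟨n, rfl⟩ : ∃ n, m = n + 1 := ⟨m - 1, by omega⟩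
  obtain ⟨c0, c1, c2⟩ := CfsgLib.QuadTwo.card_values (n + 1) (by omega)
  refine ⟨?_, fun q hq => ?_, ?_, ?_⟩
  · rw [← c0]
    refine (Nat.card_congr (Equiv.ofBijective (fun a => ⟨CfsgLib.QuadTwo.qf a, CfsgLib.QuadTwo.isPolar_qf a⟩)
      ⟨fun a b h => CfsgLib.QuadTwo.qf_injective (congrArg Subtype.val h), fun q => ?_⟩)).symm
    obtain ⟨a, ha⟩ := CfsgLib.QuadTwo.exists_qf q.1 q.2
    exact ⟨a, Subtype.ext ha⟩
  · obtain ⟨a, rfl⟩ := CfsgLib.QuadTwo.exists_qf q hq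
    rcases (by decide : ∀ z : ZMod 2, z = 0 ∨ z = 1) (Cfsg.quadFormPlus (n + 1) (ZMod 2) a) with h | h
    · exact Or.inl ((CfsgLib.QuadTwo.qf_plus_iff a).2 h)
    · exact Or.inr ((CfsgLib.QuadTwo.qf_minus_iff a).2 h)
  · rw [← c1]
    refine (Nat.card_congr (Equiv.ofBijective (fun a => ⟨CfsgLib.QuadTwo.qf a.1,
      CfsgLib.QuadTwo.isPolar_qf a.1, (CfsgLib.QuadTwo.qf_plus_iff a.1).2 a.2⟩)
      ⟨fun a b h => Subtype.ext (CfsgLib.QuadTwo.qf_injective (congrArg Subtype.val h)), fun q => ?_⟩)).symm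
    obtain ⟨a, ha⟩ := CfsgLib.QuadTwo.exists_qf q.1 q.2.1
    exact ⟨⟨a, (CfsgLib.QuadTwo.qf_plus_iff a).1 (by rw [ha]; exact q.2.2)⟩, Subtype.ext ha⟩
  · rw [← c2]
    refine (Nat.card_congr (Equiv.ofBijective (fun a => ⟨CfsgLib.QuadTwo.qf a.1,
      CfsgLib.QuadTwo.isPolar_qf a.1, (CfsgLib.QuadTwo.qf_minus_iff (n := n) a.1).2 a.2⟩)
      ⟨fun a b h => Subtype.ext (CfsgLib.QuadTwo.qf_injective (congrArg Subtype.val h)), fun q => ?_⟩)).symm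
    obtain ⟨a, ha⟩ := CfsgLib.QuadTwo.exists_qf q.1 q.2.1
    exact ⟨⟨a, (CfsgLib.QuadTwo.qf_minus_iff (n := n) a).1 (by rw [ha]; exact q.2.2)⟩, Subtype.ext ha⟩

end Cfsg.Agent.S2561
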