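import Cfsg.Statements.S2564

set_option autoImplicit false
open Cfsg

namespace Cfsg.Agent.S2564

/-- The sign `(-1)^x` of `x : ZMod 2`. -/
def sgn (x : ZMod 2) : ℤ := if x = 0 then 1 else -1

lemma sgn_add : ∀ x y : ZMod 2, sgn (x + y) = sgn x * sgn y := by decide

lemma sgn_inj : ∀ x : ZMod 2, sgn x = 1 → x = 0 := by decide

lemma z2_cases : ∀ x : ZMod 2, x * x = x ∧ x + x = 0 := by decide


/-- On the 2m-dimensional space over the field of two elements (m ≥ 1) let f be the alternating form obtained by polarizing the plus-type form Σ xᵢyᵢ, and let q be any quadratic form polarizing to f. For a vector w, the function q + f(·, w) again polarizes to f, and it is equivalent to q under an invertible linear map (that is, has the same type) if and only if q(w) = 0. -/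
theorem result (m : ℕ) (hm : 1 ≤ m) (q : (Fin m ⊕ Fin m → ZMod 2) → ZMod 2) (hq : (∀ u v : (Fin m ⊕ Fin m → ZMod 2), q (u + v) = q u + q v + (Cfsg.quadFormPlus m (ZMod 2) (u + v) - Cfsg.quadFormPlus m (ZMod 2) u - Cfsg.quadFormPlus m (ZMod 2) v))) (w : (Fin m ⊕ Fin m → ZMod 2)) :
    (∀ u v : (Fin m ⊕ Fin m → ZMod 2), (q (u + v) + (Cfsg.quadFormPlus m (ZMod 2) (u + v + w) - Cfsg.quadFormPlus m (ZMod 2) (u + v) - Cfsg.quadFormPlus m (ZMod 2) w)) =
        (q u + (Cfsg.quadFormPlus m (ZMod 2) (u + w) - Cfsg.quadFormPlus m (ZMod 2) u - Cfsg.quadFormPlus m (ZMod 2) w)) + (q v + (Cfsg.quadFormPlus m (ZMod 2) (v + w) - Cfsg.quadFormPlus m (ZMod 2) v - Cfsg.quadFormPlus m (ZMod 2) w)) +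
        (Cfsg.quadFormPlus m (ZMod 2) (u + v) - Cfsg.quadFormPlus m (ZMod 2) u - Cfsg.quadFormPlus m (ZMod 2) v)) ∧
    ((∃ g : (Fin m ⊕ Fin m → ZMod 2) ≃ₗ[ZMod 2] (Fin m ⊕ Fin m → ZMod 2), ∀ v, q v + (Cfsg.quadFormPlus m (ZMod 2) (v + w) - Cfsg.quadFormPlus m (ZMod 2) v - Cfsg.quadFormPlus m (ZMod 2) w) = q (g v)) ↔ q w = 0) := by
  classical
  set f := fun u v : Fin m ⊕ Fin m → ZMod 2 => Cfsg.quadFormPlus m (ZMod 2) (u + v) -
      Cfsg.quadFormPlus m (ZMod 2) u - Cfsg.quadFormPlus m (ZMod 2) v with hf
  have hfe : ∀ u v, f u v = ∑ i, (u (.inl i) * v (.inr i) + v (.inl i) * u (.inr i)) := by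
    intro u v
    simp only [hf, Cfsg.quadFormPlus, Pi.add_apply, ← Finset.sum_sub_distrib]
    exact Finset.sum_congr rfl fun i _ => by ring
  have hfadd : ∀ u v x, f (u + v) x = f u x + f v x := by
    intro u v x
    simp only [hfe, Pi.add_apply, ← Finset.sum_add_distrib]
    exact Finset.sum_congr rfl fun i _ => by ring
  have hfs : ∀ u v, f u v = f v u := by
    intro u v
    simp only [hfe]
    exact Finset.sum_congr rfl fun i _ => by ring
  have hq' : ∀ u v, q (u + v) = q u + q v + f u v := hq
  have hq0 : q 0 = 0 := by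
    have := hq' 0 0
    simpa [hfe] using this
  refine ⟨fun u v => ?_, ?_⟩
  · show q (u + v) + f (u + v) w = (q u + f u w) + (q v + f v w) + f u v
    rw [hq', hfadd]; ring
  show (∃ g : (Fin m ⊕ Fin m → ZMod 2) ≃ₗ[ZMod 2] (Fin m ⊕ Fin m → ZMod 2),
    ∀ v, q v + f v w = q (g v)) ↔ q w = 0
  constructor
  · rintro ⟨g, hg⟩
    let S : ℤ := ∑ v, sgn (q v)
    have h1 : ∑ v, sgn (q v + f v w) = S := by
      simp only [hg]
      exact Equiv.sum_comp g.toEquiv (fun v => sgn (q v))
    have h2 : ∑ v, sgn (q v + f v w) = S * sgn (q w) := by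
      rw [Finset.sum_mul, ← Equiv.sum_comp (Equiv.addRight w) (fun v => sgn (q v) * sgn (q w))]
      refine Finset.sum_congr rfl fun v _ => ?_
      rw [Equiv.coe_addRight, ← sgn_add, hq', show q v + q w + f v w + q w
        = q v + f v w + (q w + q w) by ring, (z2_cases _).2, add_zero]
    have hS : S * S ≠ 0 := by
      have hzero : ∀ d, d ≠ 0 → ∑ u, sgn (f u d) = 0 := by
        intro d hd
        obtain ⟨u0, hu0⟩ : ∃ u0, f u0 d = 1 := by
          obtain ⟨j, hj⟩ := Function.ne_iff.1 hd
          have h01 : ∀ x : ZMod 2, x ≠ 0 → x = 1 := by decide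
          rcases j with i | i
          · refine ⟨Pi.single (.inr i) 1, ?_⟩
            rw [hfe, Finset.sum_eq_single i] <;>
              simp (config := { contextual := true }) [h01 _ hj]
          · refine ⟨Pi.single (.inl i) 1, ?_⟩
            rw [hfe, Finset.sum_eq_single i] <;>
              simp (config := { contextual := true }) [h01 _ hj]
        have := Equiv.sum_comp (Equiv.addRight u0) (fun u => sgn (f u d))
        simp only [Equiv.coe_addRight, hfadd, hu0, sgn_add, ← Finset.sum_mul,
          show sgn 1 = -1 from rfl] at this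
        linarith
      have : S * S = ∑ u : Fin m ⊕ Fin m → ZMod 2, sgn (f u 0) := by
        calc S * S = ∑ u, ∑ d, sgn (q u) * sgn (q (u + d)) := by
              rw [Finset.sum_mul]
              refine Finset.sum_congr rfl fun u _ => ?_
              rw [Finset.mul_sum]
              exact (Equiv.sum_comp (Equiv.addLeft u) (fun d => sgn (q u) * sgn (q d))).symm
          _ = ∑ d, ∑ u, sgn (q d) * sgn (f u d) := by
              rw [Finset.sum_comm]
              refine Finset.sum_congr rfl fun d _ => Finset.sum_congr rfl fun u _ => ?_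
              rw [← sgn_add, ← sgn_add, hq', show q u + (q u + q d + f u d)
                = (q u + q u) + (q d + f u d) by ring, (z2_cases _).2, zero_add]
          _ = _ := by
              rw [Finset.sum_eq_single 0]
              · simp [hq0, show sgn 0 = 1 from rfl]
              · intro d _ hd
                rw [← Finset.mul_sum, hzero d hd, mul_zero]
              · simp
      rw [this]
      simp [hfe, show sgn 0 = 1 from rfl]
    apply sgn_inj
    have h3 : S ≠ 0 := fun h => hS (by rw [h, zero_mul])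
    exact mul_left_cancel₀ h3 (by rw [mul_one, ← h2, h1])
  · intro hw
    let t : (Fin m ⊕ Fin m → ZMod 2) →ₗ[ZMod 2] (Fin m ⊕ Fin m → ZMod 2) :=
      AddMonoidHom.toZModLinearMap 2 (AddMonoidHom.mk' (fun v => v + f v w • w)
        (fun u v => by rw [hfadd, add_smul]; abel))
    have hfww : f w w = 0 := by
      simp only [hfe]; exact Finset.sum_eq_zero fun i _ => (z2_cases _).2
    have hts : ∀ c : ZMod 2, ∀ v, f (c • v) w = c * f v w := by
      intro c v
      simp [hfe, Finset.mul_sum, mul_add, mul_assoc, mul_left_comm]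
    have htt : t ∘ₗ t = LinearMap.id := by
      refine LinearMap.ext fun v => ?_
      show (v + f v w • w) + f (v + f v w • w) w • w = v
      rw [hfadd, hts, hfww, mul_zero, add_zero, add_assoc, ← add_smul, (z2_cases _).2, zero_smul,
        add_zero]
    refine ⟨LinearEquiv.ofLinearMap t t htt htt, fun v => ?_⟩
    show q v + f v w = q (v + f v w • w)
    have hcases : ∀ x : ZMod 2, x = 0 ∨ x = 1 := by decide
    rcases hcases (f v w) with h | h <;> rw [h]
    · simp
    · rw [one_smul, hq', h, hw, add_zero]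

end Cfsg.Agent.S2564
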