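import Cfsg.Statements.S2565
import Cfsg.Agent.Forms.SmallOrth

set_option autoImplicit false
open Cfsg

namespace Cfsg.Agent.S2565


lemma commutator_map {G H : Type*} [Group G] [Group H] (e : G ≃* H) :
    (commutator G).map e.toMonoidHom = commutator H := by
  rw [commutator_def, Subgroup.map_commutator, Subgroup.map_top_of_surjective _ e.surjective,
    commutator_def]


/-- The commutator subgroup of the full orthogonal group of the plus-type form Σ xᵢyᵢ in dimension 6 over the field of two elements (the group Ω⁺₆(2), of index 2) is isomorphic to the alternating group of degree 8. -/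
theorem result :
    (Cfsg.Omega (ZMod 2) (Cfsg.quadFormPlus 3 (ZMod 2))).index = 2 ∧
    Nonempty (↥(Cfsg.Omega (ZMod 2) (Cfsg.quadFormPlus 3 (ZMod 2))) ≃* alternatingGroup (Fin 8)) := by
  obtain ⟨e⟩ := CfsgLib.Forms.o_plus_six_two
  have h := commutator_map e
  rw [alternatingGroup.commutator_perm_eq (by simp)] at h
  refine ⟨?_, ⟨((Cfsg.Omega (ZMod 2) (Cfsg.quadFormPlus 3 (ZMod 2))).equivMapOfInjective
    e.toMonoidHom e.injective).trans (MulEquiv.subgroupCongr h)⟩⟩
  have h2 : (alternatingGroup (Fin 8)).index = 2 := alternatingGroup.index_eq_two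
  rw [← h, Subgroup.index_map_of_bijective e.bijective] at h2
  exact h2

end Cfsg.Agent.S2565
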