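import Cfsg.Statements.S2566
import Cfsg.Agent.Forms4.OrthogonalOrders

set_option autoImplicit false
open Cfsg

namespace Cfsg.Agent.S2566


open Matrix

/-- The natural representation of the symmetric group of degree 3 over the field with two elements. -/
def rho (σ : Equiv.Perm (Fin 3)) : Matrix (Fin 2) (Fin 2) (ZMod 2) :=
  Matrix.of fun i j => (![![1, 0], ![0, 1], ![1, 1]] : Fin 3 → Fin 2 → ZMod 2) (σ (if j = 0 then 0 else 1)) i

theorem rho_mul : ∀ σ τ, rho (σ * τ) = rho σ * rho τ := by decide +kernel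

/-- The two left and right tensor factors, in the coordinates of the hyperbolic basis. -/
def coordIdx : Fin 2 ⊕ Fin 2 → Fin 2 × Fin 2 :=
  Sum.elim (fun i => (0, i)) (fun i => (1, if i = 0 then 1 else 0))

/-- The image of a pair of permutations. -/
def pairMat (p : Equiv.Perm (Fin 3) × Equiv.Perm (Fin 3)) :
    Matrix (Fin 2 ⊕ Fin 2) (Fin 2 ⊕ Fin 2) (ZMod 2) :=
  Matrix.of fun r c => rho p.1 (coordIdx r).1 (coordIdx c).1 * rho p.2 (coordIdx r).2 (coordIdx c).2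

theorem pairMat_one : pairMat 1 = 1 := by decide +kernel

theorem pairMat_mul (p r : Equiv.Perm (Fin 3) × Equiv.Perm (Fin 3)) :
    pairMat (p * r) = pairMat p * pairMat r := by
  ext i j
  simp only [pairMat, Prod.fst_mul, Prod.snd_mul, rho_mul, Matrix.mul_apply, Matrix.of_apply,
    Fintype.sum_sum_type, Fin.sum_univ_two, coordIdx, Sum.elim_inl, Sum.elim_inr]
  simp
  ring

theorem rho_det : ∀ σ, (rho σ).det = 1 := by
  intro σ
  rw [Matrix.det_fin_two]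
  revert σ
  decide +kernel

theorem pairMat_quad : ∀ p, ∀ x₀ x₁ y₀ y₁ : ZMod 2,
    Cfsg.quadFormPlus 2 (ZMod 2) (pairMat p *ᵥ Sum.elim ![x₀, x₁] ![y₀, y₁]) =
      x₀ * y₀ + x₁ * y₁ := by
  intro p x₀ x₁ y₀ y₁
  have h1 := rho_det p.1
  have h2 := rho_det p.2
  rw [Matrix.det_fin_two] at h1 h2
  simp only [Cfsg.quadFormPlus, pairMat, coordIdx, Matrix.mulVec, dotProduct, Matrix.of_apply,
    Fintype.sum_sum_type, Fin.sum_univ_two, Sum.elim_inl, Sum.elim_inr]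
  simp
  revert h1 h2
  generalize rho p.1 0 0 = a, rho p.1 0 1 = b, rho p.1 1 0 = c, rho p.1 1 1 = d
  generalize rho p.2 0 0 = a', rho p.2 0 1 = b', rho p.2 1 0 = c', rho p.2 1 1 = d'
  intro h1 h2
  simp only [CharTwo.sub_eq_add] at h1 h2
  linear_combination ((x₀ * y₀ + x₁ * y₁) * (a' * d' + b' * c')) * h1 + (x₀ * y₀ + x₁ * y₁) * h2 +
    (a * c * a' * c' * x₀ ^ 2 + a * c * b' * d' * x₁ ^ 2 + a * c * a' * d' * x₀ * x₁ +
     b * d * a' * c' * y₁ ^ 2 + b * d * b' * d' * y₀ ^ 2 + b * c * a' * c' * x₀ * y₁ + a * c * b' * c' * x₀ * x₁ +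
     a * d * a' * c' * x₀ * y₁ + a * d * b' * d' * x₁ * y₀ + b * c * b' * d' * x₁ * y₀ + b * d * a' * d' * y₀ * y₁ +
     b * d * b' * c' * y₀ * y₁) * (CharTwo.two_eq_zero : (2 : ZMod 2) = 0)

theorem pairMat_ker : ∀ p, pairMat p = 1 → p = 1 := by decide +kernel

/-- The interchange of the two factors. -/
def swapMat : Matrix (Fin 2 ⊕ Fin 2) (Fin 2 ⊕ Fin 2) (ZMod 2) :=
  Matrix.of fun r c => if (coordIdx c) = ((coordIdx r).2, (coordIdx r).1) then 1 else 0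

theorem swapMat_sq : swapMat * swapMat = 1 := by decide +kernel

theorem swapMat_conj : ∀ σ, swapMat * pairMat (σ, 1) * swapMat = pairMat (1, σ) := by decide +kernel

theorem swapMat_quad : ∀ x₀ x₁ y₀ y₁ : ZMod 2,
    Cfsg.quadFormPlus 2 (ZMod 2) (swapMat *ᵥ Sum.elim ![x₀, x₁] ![y₀, y₁]) =
      x₀ * y₀ + x₁ * y₁ := by decide +kernel

theorem mem_of_quad {g : GL (Fin 2 ⊕ Fin 2) (ZMod 2)}
    (h : ∀ x₀ x₁ y₀ y₁ : ZMod 2,
      Cfsg.quadFormPlus 2 (ZMod 2) (g.1 *ᵥ Sum.elim ![x₀, x₁] ![y₀, y₁]) = x₀ * y₀ + x₁ * y₁) :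
    g ∈ Cfsg.isometryGroup (ZMod 2) (Cfsg.quadFormPlus 2 (ZMod 2)) := by
  intro u _
  show Cfsg.quadFormPlus 2 (ZMod 2) (g.1 *ᵥ u) = Cfsg.quadFormPlus 2 (ZMod 2) u
  rw [show u = Sum.elim ![u (Sum.inl 0), u (Sum.inl 1)] ![u (Sum.inr 0), u (Sum.inr 1)] by
    funext i; rcases i with i | i <;> fin_cases i <;> rfl, h]
  simp [Cfsg.quadFormPlus, Fin.sum_univ_two]


/-- The full orthogonal group of the plus-type form x₁y₁ + x₂y₂ in dimension 4 over the field of two elements has order 72 and is isomorphic to the wreath product of the symmetric group of degree 3 by a group of order 2: it has a normal subgroup isomorphic to the direct product of two symmetric groups of degree 3, of index 2, whose two direct factors are interchanged by conjugation by some element. -/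
theorem result :
    Nat.card ↥(Cfsg.isometryGroup (ZMod 2) (Cfsg.quadFormPlus 2 (ZMod 2))) = 72 ∧
    ∃ (A B : Subgroup ↥(Cfsg.isometryGroup (ZMod 2) (Cfsg.quadFormPlus 2 (ZMod 2)))),
      Nonempty (↥A ≃* Equiv.Perm (Fin 3)) ∧ Nonempty (↥B ≃* Equiv.Perm (Fin 3)) ∧ A ⊓ B = ⊥ ∧ (∀ a ∈ A, ∀ b ∈ B, a * b = b * a) ∧
      (A ⊔ B).index = 2 ∧ ∃ g : ↥(Cfsg.isometryGroup (ZMod 2) (Cfsg.quadFormPlus 2 (ZMod 2))), A.map (MulAut.conj g).toMonoidHom = B := by
  have hcard : Nat.card ↥(Cfsg.isometryGroup (ZMod 2) (Cfsg.quadFormPlus 2 (ZMod 2))) = 72 := by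
    rw [CfsgLib.Forms4.card_isometryGroup_quadFormPlus (q := 2) (ZMod.card 2) 2 (by norm_num)]
    simp [Finset.prod_range_succ, Fin.prod_univ_succ]
  refine ⟨hcard, ?_⟩
  let O := ↥(Cfsg.isometryGroup (ZMod 2) (Cfsg.quadFormPlus 2 (ZMod 2)))
  let u : Equiv.Perm (Fin 3) × Equiv.Perm (Fin 3) →* GL (Fin 2 ⊕ Fin 2) (ZMod 2) :=
    MonoidHom.toHomUnits { toFun := pairMat, map_one' := pairMat_one, map_mul' := pairMat_mul }
  let ψ : Equiv.Perm (Fin 3) × Equiv.Perm (Fin 3) →* O :=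
    u.codRestrict _ fun p => mem_of_quad (pairMat_quad p)
  have hψ : Function.Injective ψ := (injective_iff_map_eq_one ψ).2 fun p hp =>
    pairMat_ker p (congrArg (fun g : O => (g.1.1 : Matrix (Fin 2 ⊕ Fin 2) (Fin 2 ⊕ Fin 2) (ZMod 2))) hp)
  let φA : Equiv.Perm (Fin 3) →* O := ψ.comp (MonoidHom.inl _ _)
  let φB : Equiv.Perm (Fin 3) →* O := ψ.comp (MonoidHom.inr _ _)
  have hA : Function.Injective φA := fun a b h => congrArg Prod.fst (hψ h)
  have hB : Function.Injective φB := fun a b h => congrArg Prod.snd (hψ h)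
  let g : O := ⟨⟨swapMat, swapMat, swapMat_sq, swapMat_sq⟩, mem_of_quad swapMat_quad⟩
  refine ⟨φA.range, φB.range, ⟨(MonoidHom.ofInjective hA).symm⟩, ⟨(MonoidHom.ofInjective hB).symm⟩,
    ?_, ?_, ?_, g, ?_⟩
  · rw [eq_bot_iff]
    rintro x ⟨⟨a, rfl⟩, b, hb⟩
    have : (1, b) = ((a, 1) : Equiv.Perm (Fin 3) × Equiv.Perm (Fin 3)) := hψ hb
    obtain rfl := (congrArg Prod.fst this).symm
    exact Subgroup.mem_bot.2 (map_one φA)
  · rintro _ ⟨a, rfl⟩ _ ⟨b, rfl⟩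
    show ψ (a, 1) * ψ (1, b) = ψ (1, b) * ψ (a, 1)
    rw [← map_mul, ← map_mul]
    simp
  · have hsup : φA.range ⊔ φB.range = ψ.range := by
      refine le_antisymm (sup_le (by rintro _ ⟨a, rfl⟩; exact ⟨_, rfl⟩)
        (by rintro _ ⟨a, rfl⟩; exact ⟨_, rfl⟩)) ?_
      rintro _ ⟨⟨a, b⟩, rfl⟩
      rw [show ((a, b) : Equiv.Perm (Fin 3) × Equiv.Perm (Fin 3)) = (a, 1) * (1, b) by simp, map_mul]
      exact Subgroup.mul_mem_sup ⟨a, rfl⟩ ⟨b, rfl⟩
    have h36 : Nat.card ψ.range = 36 := by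
      rw [← Nat.card_congr (MonoidHom.ofInjective hψ).toEquiv, Nat.card_prod,
        Nat.card_eq_fintype_card, Fintype.card_perm, Fintype.card_fin]
      rfl
    have := Subgroup.card_mul_index ψ.range
    rw [h36, hcard] at this
    rw [hsup]
    omega
  · ext x
    constructor
    · rintro ⟨_, ⟨a, rfl⟩, rfl⟩
      exact ⟨a, Subtype.ext (Units.ext (swapMat_conj a).symm)⟩
    · rintro ⟨a, rfl⟩
      exact ⟨φA a, ⟨a, rfl⟩, Subtype.ext (Units.ext (swapMat_conj a))⟩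

end Cfsg.Agent.S2566
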