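import Cfsg.Statements.S2567

set_option autoImplicit false
open Cfsg

namespace Cfsg.Agent.S2567

lemma coe_pow_eq_one_imp {F : Type*} [Field F] [Fintype F] {n : ℕ}
    (z : GL (Fin n) F) (hz : z ∈ Subgroup.center (GL (Fin n) F)) :
    z ^ (Fintype.card F - 1) = 1 := by
  classical
  rw [Matrix.GeneralLinearGroup.center_eq_range_scalar] at hz
  obtain ⟨c, rfl⟩ := hz
  rw [← map_pow, ← Fintype.card_units, pow_card_eq_one, map_one]


/-- Lifting elements of prime order from PGL to GL: let F be a finite field with q elements, r a prime not dividing q − 1, and x an element of order r in GL_n(F) modulo its centre (the scalar matrices). Then x has exactly one preimage in GL_n(F) of order r. -/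
theorem result {F : Type*} [Field F] [Fintype F] {q n r : ℕ} (hF : Fintype.card F = q) (hr : r.Prime) (hdiv : ¬ r ∣ q - 1) (x : GL (Fin n) F ⧸ Subgroup.center (GL (Fin n) F)) (hx : orderOf x = r) : ∃! g : GL (Fin n) F, (QuotientGroup.mk g : GL (Fin n) F ⧸ Subgroup.center (GL (Fin n) F)) = x ∧ orderOf g = r := by
  obtain ⟨g0, rfl⟩ := QuotientGroup.mk_surjective x
  have hk : Nat.Coprime r (q - 1) := (hr.coprime_iff_not_dvd).2 hdiv
  have hg0r : g0 ^ r ∈ Subgroup.center (GL (Fin n) F) := by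
    rw [← QuotientGroup.eq_one_iff, QuotientGroup.mk_pow, ← hx, pow_orderOf_eq_one]
  have key : ∀ w ∈ Subgroup.center (GL (Fin n) F), w ^ r = 1 → w = 1 := by
    intro w hw h
    have h2 := coe_pow_eq_one_imp w hw
    rw [hF] at h2
    rw [← orderOf_eq_one_iff]
    exact Nat.eq_one_of_dvd_coprimes hk (orderOf_dvd_of_pow_eq_one h)
      (orderOf_dvd_of_pow_eq_one h2)
  obtain ⟨a, ha⟩ : ∃ a : ℤ, ((q - 1 : ℕ) : ℤ) ∣ ((r : ℤ) * a - 1) := by
    refine ⟨Nat.gcdA r (q - 1), -Nat.gcdB r (q - 1), ?_⟩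
    have := Nat.gcd_eq_gcd_ab r (q - 1)
    rw [hk.gcd_eq_one] at this
    push_cast at this ⊢
    linarith
  set w := (g0 ^ r) ^ (-a) with hw
  have hwZ : w ∈ Subgroup.center (GL (Fin n) F) := zpow_mem hg0r _
  have hcomm : Commute g0 w := (Subgroup.mem_center_iff.1 hwZ g0)
  have hgr : (g0 * w) ^ r = 1 := by
    have h2 := coe_pow_eq_one_imp _ hg0r
    rw [hF] at h2
    obtain ⟨c, hc⟩ := ha
    rw [hcomm.mul_pow, hw, ← zpow_natCast ((g0 ^ r) ^ (-a)) r, ← zpow_mul]
    calc g0 ^ r * (g0 ^ r) ^ (-a * (r : ℤ)) = (g0 ^ r) ^ (1 + -a * (r : ℤ)) := by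
            rw [zpow_add, zpow_one]
      _ = (g0 ^ r) ^ (((q - 1 : ℕ) : ℤ) * (-c)) := by congr 1; linarith
      _ = 1 := by rw [zpow_mul, zpow_natCast, h2, one_zpow]
  have hmk : (QuotientGroup.mk (g0 * w) : GL (Fin n) F ⧸ Subgroup.center (GL (Fin n) F))
      = QuotientGroup.mk g0 := by
    rw [QuotientGroup.mk_mul, (QuotientGroup.eq_one_iff w).2 hwZ, mul_one]
  refine ⟨g0 * w, ⟨hmk, ?_⟩, ?_⟩
  · rcases (Nat.dvd_prime hr).1 (orderOf_dvd_of_pow_eq_one hgr) with h | h
    · exfalso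
      rw [orderOf_eq_one_iff.1 h, QuotientGroup.mk_one] at hmk
      rw [← hmk, orderOf_one] at hx
      exact hr.one_lt.ne hx
    · exact h
  · rintro g ⟨hg, hgord⟩
    have hmem : (g0 * w)⁻¹ * g ∈ Subgroup.center (GL (Fin n) F) := by
      rw [← QuotientGroup.eq, hmk, hg]
    have hc : Commute (g0 * w) ((g0 * w)⁻¹ * g) := Subgroup.mem_center_iff.1 hmem _
    have hgeq : g0 * w * ((g0 * w)⁻¹ * g) = g := mul_inv_cancel_left _ _
    have := hc.mul_pow r
    rw [hgeq, hgr, ← hgord, pow_orderOf_eq_one, one_mul, hgord] at this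
    have h1 := key _ hmem this.symm
    rw [h1, mul_one] at hgeq
    exact hgeq.symm

end Cfsg.Agent.S2567
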