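import Cfsg.Statements.S2568
import Cfsg.Agent.RootClasses.Count
import Cfsg.Agent.RootClasses.Star

set_option autoImplicit false
open Cfsg

namespace Cfsg.Agent.S2568

/-- Number of conjugacy classes of elements of a given prime order r, coprime to the characteristic, in GL_n(q): if i is the multiplicative order of q modulo r and t = (r − 1)/i, the classes correspond to the non-zero t-tuples of natural numbers (a_1, …, a_t) with i(a_1 + ⋯ + a_t) ≤ n (a_j is the multiplicity of the j-th Frobenius orbit of nontrivial r-th roots of unity among the eigenvalues), so there are exactly C(⌊n/i⌋ + t, t) − 1 of them. -/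
theorem result {F : Type*} [Field F] [Fintype F] {p q : ℕ} [Fact p.Prime] [CharP F p] (hF : Fintype.card F = q) (n r i t : ℕ) (hr : r.Prime) (hrp : r ≠ p) (hi : i = orderOf (q : ZMod r)) (ht : t * i = r - 1) : Nat.card {C : ConjClasses (GL (Fin n) F) // ∃ g : GL (Fin n) F, ConjClasses.mk g = C ∧ orderOf g = r} = Nat.choose (n / i + t) t - 1 := by
  open CfsgLib Polynomial in
  classical
  haveI : Fact r.Prime := ⟨hr⟩
  have hpp : p.Prime := Fact.out
  have hcop : r.Coprime p := (Nat.coprime_primes hr hpp).2 hrp
  haveI : NeZero (r : F) := ⟨fun h => hrp ((Nat.prime_dvd_prime_iff_eq hpp hr).1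
    ((CharP.cast_eq_zero_iff F p r).1 h)).symm⟩
  set H := Subgroup.zpowers (RootClasses.cardUnit F : (ZMod r)ˣ) with hHdef
  have hH : RootClasses.cardUnit F ∈ H := Subgroup.mem_zpowers _
  have hcH : Nat.card H = i := by
    rw [hHdef, Nat.card_zpowers, hi, ← orderOf_units, RootClasses.coe_cardUnit, hF]
  have hord : ∀ g : GL (Fin n) F, g ^ r = 1 → (orderOf g).Coprime p := fun g hg =>
    hcop.coprime_dvd_left (orderOf_dvd_of_pow_eq_one hg)
  have hcount := RootClasses.card_classes H hH (MonoidHom.id (GL (Fin n) F))
    (fun g h hg hh hc => CharpolySS.isConj_GL_of_charpoly_eq g h (hord g hg) (hord h hh) hc)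
    (fun g _ => RootClasses.invariant_of_generators {RootClasses.cardUnit F}
      (Subgroup.zpowers_eq_closure _) (by
        rintro h rfl a
        exact RootClasses.rootMultiplicity_card _ a))
    (fun _ => True) (fun _ _ _ _ _ => trivial)
    (fun a ha _ _ => by
      have hdeg := RootClasses.natDegree_classPoly F H hH
        (Fintype.card (Fin n) - Nat.card H * RootClasses.total H a) a
      rw [Nat.sub_add_cancel ha, Fintype.card_fin] at hdeg
      rw [Fintype.card_fin]
      rcases Nat.eq_zero_or_pos n with rfl | hn
      · refine ⟨1, one_pow r, ?_⟩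
        rw [Matrix.charpoly_isEmpty]
        exact (eq_one_of_monic_natDegree_zero (RootClasses.monic_classPoly F H hH _ a) hdeg).symm
      · obtain ⟨g, hg, hgc⟩ := CharpolySS.exists_GL_charpoly (p := p) hn _
          (RootClasses.monic_classPoly F H hH _ a) hdeg (RootClasses.coeff_zero_classPoly H hH _ a)
        refine ⟨g, RootClasses.pow_eq_one_of_charpoly_dvd hg (k := n) ?_, hgc⟩
        rw [hgc]
        exact RootClasses.classPoly_dvd H hH hdeg)
  rw [hcount, Fintype.card_fin, RootClasses.card_mult_true H hcH ht]

end Cfsg.Agent.S2568
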