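import Cfsg.Statements.S2569
import Cfsg.Agent.CharpolySS.Matrix

set_option autoImplicit false
open Cfsg

namespace Cfsg.Agent.S2569



/-- In GL_n over a finite field of characteristic p, the conjugacy class of a semisimple element (an element of order prime to p) under the special linear group is its whole GL-conjugacy class: for every such x and every invertible g there is h of determinant one with h x h⁻¹ = g x g⁻¹. -/
theorem result {F : Type*} [Field F] [Fintype F] {p : ℕ} [Fact p.Prime] [CharP F p] {n : ℕ} (x g : GL (Fin n) F) (hx : (orderOf x).Coprime p) : ∃ h : GL (Fin n) F, (h : Matrix (Fin n) (Fin n) F).det = 1 ∧ h * x * h⁻¹ = g * x * g⁻¹ := by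
  open CfsgLib.CharpolySS Polynomial in
  rcases Nat.eq_zero_or_pos n with hn | hn
  · subst hn
    exact ⟨g, Matrix.det_isEmpty, rfl⟩
  · haveI : Nonempty (Fin n) := ⟨⟨0, hn⟩⟩
    have hd : (g : Matrix (Fin n) (Fin n) F).det ≠ 0 := by
      have := congrArg Matrix.det g.mul_inv
      rw [Matrix.det_mul, Matrix.det_one] at this
      exact left_ne_zero_of_mul_eq_one this
    have hsq : Squarefree (X ^ orderOf x - 1 : F[X]) :=
      squarefree_X_pow_sub_one (p := p) fun hd' => (Fact.out : p.Prime).one_lt.ne'
        (Nat.Coprime.eq_one_of_dvd hx.symm hd')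
    have hA : aeval (x : Matrix (Fin n) (Fin n) F) (X ^ orderOf x - 1 : F[X]) = 0 :=
      aeval_X_pow_sub_one _ (by rw [← Units.val_pow_eq_pow_val, pow_orderOf_eq_one, Units.val_one])
    obtain ⟨E, hE, hEc⟩ := exists_commuting_matrix_det _ hsq hA (Units.mk0 _ hd)⁻¹
    have hEu : IsUnit E := by
      rw [Matrix.isUnit_iff_isUnit_det, hE]
      exact Units.isUnit _
    refine ⟨g * hEu.unit, ?_, ?_⟩
    · rw [Units.val_mul, IsUnit.unit_spec, Matrix.det_mul, hE, Units.val_inv_eq_inv_val,
        Units.val_mk0, mul_inv_cancel₀ hd]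
    · have hc : hEu.unit * x = x * hEu.unit := Units.ext hEc
      rw [mul_inv_rev, mul_assoc g, hc, ← mul_assoc g, mul_assoc _ hEu.unit, mul_inv_cancel_left]

end Cfsg.Agent.S2569
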