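import Cfsg.Statements.S2570
import Cfsg.Agent.UnipotentJordan.Classify

set_option autoImplicit false
open Cfsg

namespace Cfsg.Agent.S2570

/-- Number of conjugacy classes of elements of order p in GL_n over a finite field of characteristic p: they correspond to the Jordan types, that is, to the partitions of n with all parts at most p other than the partition into ones, so there are (number of partitions of n with parts ≤ p) − 1 of them. -/
theorem result {F : Type*} [Field F] [Fintype F] {p : ℕ} [Fact p.Prime] [CharP F p] (n : ℕ) : Nat.card {C : ConjClasses (GL (Fin n) F) // ∃ g : GL (Fin n) F, ConjClasses.mk g = C ∧ orderOf g = p} = (Finset.univ.filter (fun μ : Nat.Partition n => ∀ a ∈ μ.parts, a ≤ p)).card - 1 := by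
  classical
  have key := CfsgLib.UnipotentJordan.card_classes_order_p (p := p) (⊤ : Subgroup (GL (Fin n) F))
    (fun a b h => by
      obtain ⟨c, hc⟩ := isConj_iff.1 h
      exact isConj_iff.2 ⟨⟨c, trivial⟩, Subtype.ext hc⟩)
    (fun L d e hd => ?_)
  · rw [← key]
    have e : (⊤ : Subgroup (GL (Fin n) F)) ≃* GL (Fin n) F := Subgroup.topEquiv
    let Ψ : {C : ConjClasses (⊤ : Subgroup (GL (Fin n) F)) // ∃ g, ConjClasses.mk g = C ∧ orderOf g = p} →
        {C : ConjClasses (GL (Fin n) F) // ∃ g, ConjClasses.mk g = C ∧ orderOf g = p} := fun C =>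
      ⟨ConjClasses.map e.toMonoidHom C.1, by
        obtain ⟨g, hg, ho⟩ := C.2
        exact ⟨e g, by rw [← hg]; rfl, by rw [← ho]; exact e.orderOf_eq g⟩⟩
    refine (Nat.card_eq_of_bijective Ψ ⟨?_, ?_⟩).symm
    · intro x y h
      obtain ⟨C, g, rfl, hg⟩ := x
      obtain ⟨C', g', rfl, hg'⟩ := y
      have h' : IsConj (e g) (e g') := ConjClasses.mk_eq_mk_iff_isConj.1 (congrArg Subtype.val h)
      exact Subtype.ext (ConjClasses.mk_eq_mk_iff_isConj.2 (by simpa using e.symm.toMonoidHom.map_isConj h'))
    · rintro ⟨C, g, rfl, hg⟩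
      exact ⟨⟨ConjClasses.mk (e.symm g), e.symm g, rfl, by rw [← hg]; exact e.symm.orderOf_eq g⟩,
        Subtype.ext (congrArg ConjClasses.mk (e.apply_symm_apply g))⟩
  · have hu : IsUnit (1 + Matrix.reindex e e (CfsgLib.UnipotentJordan.shiftMat d F)) :=
      ((CfsgLib.UnipotentJordan.isNilpotent_shiftMat hd).map
        (Matrix.reindexAlgEquiv F F e)).isUnit_one_add
    exact ⟨⟨hu.unit, trivial⟩, by simp; exact IsConj.refl _⟩

end Cfsg.Agent.S2570
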