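import Cfsg.Statements.S2572
import Cfsg.Agent.Transv.Basic

set_option autoImplicit false
open Cfsg

namespace Cfsg.Agent.S2572



/-- Centraliser of a transvection in GL_n(q), n ≥ 2: if t − 1 has rank one and square zero, the centraliser of t in GL_n(q) has order q^(2n−3) (q − 1) |GL_(n−2)(q)| (a group of order q^(2n−3) extended by GL_1(q) × GL_(n−2)(q)). -/
theorem result {F : Type*} [Field F] [Fintype F] {q n : ℕ} (hF : Fintype.card F = q) (hn : 2 ≤ n) (t : GL (Fin n) F) (ht : Cfsg.IsTransvection (t : Matrix (Fin n) (Fin n) F)) : Nat.card ↥(Subgroup.centralizer ({t} : Set (GL (Fin n) F))) = q ^ (2 * n - 3) * (q - 1) * ∏ i : Fin (n - 2), (q ^ (n - 2) - q ^ (i : ℕ)) := by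
  classical
  obtain ⟨k, rfl⟩ : ∃ k, n = 2 + k := ⟨n - 2, by omega⟩
  let e : Fin (2 + k) ≃ Fin 2 ⊕ Fin k := finSumFinEquiv.symm
  obtain ⟨P, hP⟩ := CfsgLib.Transv.exists_normal_form _ ht.1 ht.2 e
  rw [Nat.add_sub_cancel_left, show 2 * (2 + k) - 3 = 2 * k + 1 by omega, ← hF,
    mul_comm (Fintype.card F ^ _)]
  have h1 : Nat.card ↥(Subgroup.centralizer ({t} : Set (GL (Fin (2 + k)) F))) =
      Nat.card {A : (Matrix (Fin (2 + k)) (Fin (2 + k)) F)ˣ //
        (A : Matrix (Fin (2 + k)) (Fin (2 + k)) F) * ((t : Matrix (Fin (2 + k)) (Fin (2 + k)) F) - 1) =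
          ((t : Matrix (Fin (2 + k)) (Fin (2 + k)) F) - 1) * A} := by
    refine Nat.card_congr (Equiv.subtypeEquivRight fun A => ?_)
    rw [Subgroup.mem_centralizer_singleton_iff, mul_sub, sub_mul, mul_one, one_mul, sub_left_inj,
      ← Units.val_mul, ← Units.val_mul, Units.val_inj]
  rw [h1, CfsgLib.Transv.card_units_comm_congr P hP]
  have hcard := CfsgLib.Transv.card_units_comm (F := F) (k := k)
  rw [Matrix.card_GL_field] at hcard
  rw [← hcard]
  let φ := (Matrix.reindexAlgEquiv F F e).toMulEquiv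
  refine Nat.card_congr (Equiv.subtypeEquiv (Units.mapEquiv φ).toEquiv fun A => ?_)
  have hS : φ (Matrix.single (e.symm (Sum.inl 1)) (e.symm (Sum.inl 0)) 1) =
      CfsgLib.Transv.std F k := by
    show Matrix.reindex e e _ = _
    rw [Matrix.reindex_apply, Matrix.submatrix_single_equiv]
    simp [CfsgLib.Transv.std]
  rw [← φ.injective.eq_iff, map_mul, map_mul, hS]
  rfl

end Cfsg.Agent.S2572
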