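import Cfsg.Statements.S2573
import Cfsg.Agent.RegNilp.Basic

set_option autoImplicit false
open Cfsg

namespace Cfsg.Agent.S2573

lemma mulVecLin_pow {F : Type*} [Field F] {ι : Type*} [Fintype ι] [DecidableEq ι]
    (M : Matrix ι ι F) (k : ℕ) :
    Matrix.mulVecLin (M ^ k) = (Matrix.mulVecLin M : Module.End F (ι → F)) ^ k := by
  induction k with
  | zero => simp [Module.End.one_eq_id]
  | succ k ih => rw [pow_succ, pow_succ, Matrix.mulVecLin_mul, ih]; rfl

lemma regular_props {F : Type*} [Field F] {ι : Type*} [Fintype ι] [DecidableEq ι]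
    (M : Matrix ι ι F) (n : ℕ) (hn : Fintype.card ι = n) (hnil : M ^ n = 0)
    (hreg : M.rank = n - 1) :
    IsNilpotent (Matrix.mulVecLin M : Module.End F (ι → F)) ∧
      Module.finrank F (LinearMap.ker (Matrix.mulVecLin M)) ≤ 1 := by
  refine ⟨⟨n, ?_⟩, ?_⟩
  · rw [← mulVecLin_pow, hnil, Matrix.mulVecLin_zero]
  · have h := LinearMap.finrank_range_add_finrank_ker (Matrix.mulVecLin M)
    rw [Matrix.rank] at hreg
    rw [hreg, Module.finrank_fintype_fun_eq_card, hn] at h
    omega


/-- The invariant subspaces of a regular unipotent matrix form a chain: over a finite field, if u is an n × n matrix with (u − 1)^n = 0 and rank(u − 1) = n − 1, then every subspace W of F^n with u W ⊆ W is the kernel of (u − 1)^(dim W); so u has at most one invariant subspace of each dimension. -/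
theorem result {F : Type*} [Field F] [Finite F] {n : ℕ} (u : Matrix (Fin n) (Fin n) F) (hnil : (u - 1) ^ n = 0) (hreg : (u - 1).rank = n - 1) (W : Submodule F (Fin n → F)) (hW : ∀ v ∈ W, u.mulVec v ∈ W) : W = LinearMap.ker (Matrix.mulVecLin ((u - 1) ^ Module.finrank F W)) := by
  obtain ⟨h1, h2⟩ := regular_props (u - 1) n (Fintype.card_fin n) hnil hreg
  rw [mulVecLin_pow]
  refine CfsgLib.RegNilp.invariant_eq_ker_pow h1 h2 W fun v hv => ?_
  rw [Matrix.mulVecLin_apply, Matrix.sub_mulVec, Matrix.one_mulVec]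
  exact W.sub_mem (hW v hv) hv

end Cfsg.Agent.S2573
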