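import Cfsg.Statements.S2574
import Cfsg.Agent.S2573

set_option autoImplicit false
open Cfsg

namespace Cfsg.Agent.S2574

open Matrix

lemma form_mulVec {F : Type*} [Field F] {m : ℕ} (A : Matrix.symplecticGroup (Fin m) F)
    (u v : Fin m ⊕ Fin m → F) :
    Cfsg.sympForm m F ((A : Matrix _ _ F) *ᵥ u) ((A : Matrix _ _ F) *ᵥ v)
      = Cfsg.sympForm m F u v := by
  have h := SymplecticGroup.transpose_mem A.2
  rw [SymplecticGroup.mem_iff, transpose_transpose] at h
  simp only [Cfsg.sympForm]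
  rw [mulVec_mulVec, ← vecMul_transpose, ← dotProduct_mulVec, mulVec_mulVec, ← mul_assoc, h]


/-- A regular unipotent element of the symplectic group has totally isotropic small invariant subspaces: over a finite field, if u ∈ Sp_2m(F) satisfies (u − 1)^(2m) = 0 and rank(u − 1) = 2m − 1, and W is a u-invariant subspace with 2 dim W ≤ 2m, then the alternating form vanishes identically on W. -/
theorem result {F : Type*} [Field F] [Finite F] {m : ℕ} (u : Matrix.symplecticGroup (Fin m) F) (hnil : ((u : Matrix (Fin m ⊕ Fin m) (Fin m ⊕ Fin m) F) - 1) ^ (2 * m) = 0) (hreg : ((u : Matrix (Fin m ⊕ Fin m) (Fin m ⊕ Fin m) F) - 1).rank = 2 * m - 1) (W : Submodule F (Fin m ⊕ Fin m → F)) (hW : ∀ v ∈ W, (u : Matrix (Fin m ⊕ Fin m) (Fin m ⊕ Fin m) F).mulVec v ∈ W) (hdim : 2 * Module.finrank F W ≤ 2 * m) : ∀ v ∈ W, ∀ w ∈ W, Cfsg.sympForm m F v w = 0 := by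
  set M := (u : Matrix (Fin m ⊕ Fin m) (Fin m ⊕ Fin m) F) with hM
  let f := Cfsg.sympForm m F
  have hfsub : ∀ a b c, f (a - b) c = f a c - f b c := fun a b c => sub_dotProduct a b _
  have hf0 : ∀ a, f a 0 = 0 := by intro a; simp [f, Cfsg.sympForm]
  -- vanishing `f (N^a x) (N^b y)` for `2m ≤ a + b`
  have hvan : ∀ a b, 2 * m ≤ a + b → ∀ x y,
      f ((M - 1) ^ a *ᵥ x) ((M - 1) ^ b *ᵥ y) = 0 := by
    intro a
    induction a with
    | zero =>
      intro b hb x y
      rw [show (M - 1) ^ b = 0 by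
        rw [show b = 2 * m + (b - 2 * m) by omega, pow_add, hnil, zero_mul],
        zero_mulVec, hf0]
    | succ a ih =>
      intro b hab
      -- downward induction on the index of the second argument
      suffices h : ∀ c, ∀ b, 2 * m ≤ b + c → 2 * m ≤ a + 1 + b → ∀ x y,
          f ((M - 1) ^ (a + 1) *ᵥ x) ((M - 1) ^ b *ᵥ y) = 0 from h (2 * m) b (by omega) hab
      intro c
      induction c with
      | zero =>
        intro b hb _ x y
        rw [show (M - 1) ^ b = 0 by
          rw [show b = 2 * m + (b - 2 * m) by omega, pow_add, hnil, zero_mul],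
          zero_mulVec, hf0]
      | succ c ihc =>
        intro b hb hb' x y
        have e1 : (M - 1) ^ (a + 1) *ᵥ x = M *ᵥ ((M - 1) ^ a *ᵥ x) - (M - 1) ^ a *ᵥ x := by
          rw [pow_succ', ← mulVec_mulVec, sub_mulVec, one_mulVec]
        have e2 : M *ᵥ ((M - 1) ^ b *ᵥ y) = (M - 1) ^ (b + 1) *ᵥ y + (M - 1) ^ b *ᵥ y := by
          rw [pow_succ', ← mulVec_mulVec, sub_mulVec, one_mulVec, sub_add_cancel]
        have e3 := ih (b + 1) (by omega) x y
        have e4 := ihc (b + 1) (by omega) (by omega) x y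
        have e5 := form_mulVec u ((M - 1) ^ a *ᵥ x) ((M - 1) ^ b *ᵥ y)
        rw [← hM] at e5
        have hadd : ∀ p q r, f p (q + r) = f p q + f p r := fun p q r => by
          simp [f, Cfsg.sympForm, mulVec_add]
        rw [e1, hfsub]
        have e6 : f (M *ᵥ ((M - 1) ^ a *ᵥ x)) ((M - 1) ^ (b + 1) *ᵥ y)
            = f ((M - 1) ^ (a + 1) *ᵥ x) ((M - 1) ^ (b + 1) *ᵥ y) +
              f ((M - 1) ^ a *ᵥ x) ((M - 1) ^ (b + 1) *ᵥ y) := by
          rw [e1, hfsub]; ring
        rw [e4, e3] at e6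
        change f (M *ᵥ ((M - 1) ^ a *ᵥ x)) (M *ᵥ ((M - 1) ^ b *ᵥ y)) = f _ _ at e5
        rw [e2, hadd, e6] at e5
        linear_combination e5
  obtain ⟨h1, h2⟩ := Cfsg.Agent.S2573.regular_props (M - 1) (2 * m) (by simp; omega) hnil hreg
  have hWN : ∀ v ∈ W, (M - 1).mulVecLin v ∈ W := fun v hv => by
    rw [mulVecLin_apply, sub_mulVec, one_mulVec]; exact W.sub_mem (hW v hv) hv
  have hk : W = LinearMap.range (((M - 1).mulVecLin) ^ (2 * m - Module.finrank F W)) := by
    conv_lhs => rw [CfsgLib.RegNilp.invariant_eq_ker_pow h1 h2 W hWN]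
    exact CfsgLib.RegNilp.ker_pow_eq_range h1 h2 (by
      rw [Module.finrank_fintype_fun_eq_card]; simp; omega)
  intro v hv w hw
  rw [hk, ← Cfsg.Agent.S2573.mulVecLin_pow] at hv hw
  obtain ⟨x, rfl⟩ := hv
  obtain ⟨y, rfl⟩ := hw
  exact hvan _ _ (by omega) x y

end Cfsg.Agent.S2574
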