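import Cfsg.Statements.S2575

set_option autoImplicit false
open Cfsg

namespace Cfsg.Agent.S2575

lemma card_units_eq {F : Type*} [Field F] [Fintype F] {q : ℕ} (hF : Fintype.card F = q) :
    Nat.card Fˣ = q - 1 := by
  rw [Nat.card_units, Nat.card_eq_fintype_card, hF]

lemma exists_orderOf {F : Type*} [Field F] [Fintype F] {q d : ℕ} (hF : Fintype.card F = q)
    (hd : d ∣ q - 1) : ∃ c : F, orderOf c = d := by
  classical
  obtain ⟨g, hg⟩ := IsCyclic.exists_ofOrder_eq_natCard (α := Fˣ)
  rw [card_units_eq hF] at hg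
  obtain ⟨e, he⟩ := hd
  refine ⟨((g ^ e : Fˣ) : F), ?_⟩
  rw [orderOf_units, orderOf_pow' g ?_, hg, he, Nat.gcd_mul_left_left, Nat.mul_div_cancel]
  · rcases Nat.eq_zero_or_pos e with h | h
    · subst h
      have := Nat.card_pos (α := Fˣ)
      rw [card_units_eq hF, he] at this
      omega
    · exact h
  · intro h
    subst h
    have := Nat.card_pos (α := Fˣ)
    rw [card_units_eq hF, he] at this
    omega

lemma exists_pow_eq_neg_one_iff {F : Type*} [Field F] [Fintype F] {q : ℕ}
    (hF : Fintype.card F = q) (hq : Odd q) {n : ℕ} (hn : 1 ≤ n) :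
    (∃ c : F, c ≠ 0 ∧ c ^ n = -1) ↔ padicValNat 2 n < padicValNat 2 (q - 1) := by
  have hq1 : 1 < q := hF ▸ Fintype.one_lt_card
  have h2 : ringChar F ≠ 2 := by
    intro h
    have := FiniteField.even_card_iff_char_two.1 h
    rw [hF] at this
    obtain ⟨k, rfl⟩ := hq
    omega
  have hne : (-1 : F) ≠ 1 := Ring.neg_one_ne_one_of_char_ne_two h2
  constructor
  · rintro ⟨c, hc, hcn⟩
    rw [← Nat.succ_le_iff, ← padicValNat_dvd_iff_le (by omega)]
    have h1 : orderOf c ∣ q - 1 := orderOf_dvd_of_pow_eq_one (by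
      rw [← hF]; exact FiniteField.pow_card_sub_one_eq_one c hc)
    obtain ⟨o, ho, hoe⟩ := (Nat.exists_eq_pow_mul_and_not_dvd (n := n) (by omega) 2 (by norm_num))
    have hv : padicValNat 2 n = o := by
      rw [hoe.2, padicValNat.mul (by positivity) (by rintro rfl; exact hoe.1 (dvd_zero 2)),
        padicValNat.prime_pow, padicValNat.eq_zero_of_not_dvd hoe.1, add_zero]
    rw [hv]
    refine dvd_trans ?_ h1
    have h3 : orderOf (c ^ ho) = 2 ^ (o + 1) := by
      refine orderOf_eq_prime_pow ?_ ?_
      · rw [← pow_mul, mul_comm, ← hoe.2, hcn]; exact hne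
      · rw [← pow_mul, pow_succ, ← mul_assoc, pow_mul, mul_comm, ← hoe.2, hcn]; norm_num
    rw [← h3]
    exact orderOf_pow_dvd ho
  · intro h
    obtain ⟨o, ho, hoe, heq⟩ := (Nat.exists_eq_pow_mul_and_not_dvd (n := n) (by omega) 2 (by norm_num))
    have hv : padicValNat 2 n = o := by
      rw [heq, padicValNat.mul (by positivity) (by rintro rfl; exact hoe (dvd_zero 2)),
        padicValNat.prime_pow, padicValNat.eq_zero_of_not_dvd hoe, add_zero]
    have hd : 2 ^ (o + 1) ∣ q - 1 :=
      (padicValNat_dvd_iff_le (by omega)).2 (by omega)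
    obtain ⟨c, hc⟩ := exists_orderOf hF hd
    refine ⟨c, ?_, ?_⟩
    · rintro rfl
      rw [orderOf_zero] at hc
      exact absurd hc.symm (by positivity)
    · have h1 : (c ^ 2 ^ o) * (c ^ 2 ^ o) = 1 := by
        rw [← pow_add, ← two_mul, ← pow_succ', ← hc, pow_orderOf_eq_one]
      rcases mul_self_eq_one_iff.1 h1 with h' | h'
      · exfalso
        have := Nat.le_of_dvd (by positivity) (orderOf_dvd_of_pow_eq_one h')
        rw [hc, pow_succ] at this
        have : 0 < 2 ^ o := by positivity
        omega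
      · rw [heq, pow_mul, h']
        exact Odd.neg_one_pow (Nat.not_even_iff_odd.1 (by rwa [even_iff_two_dvd]))


/-- Which diagonal involutions of PGL_n(q) lie in PSL_n(q), q odd: for the diagonal matrix t with i entries −1 and n − i entries 1, some non-zero scalar multiple of t has determinant one if and only if i is even or the 2-part of q − 1 exceeds the 2-part of n (that is, −1 is an n-th power in the field exactly in the latter case). -/
theorem result {F : Type*} [Field F] [Fintype F] {q : ℕ} (hF : Fintype.card F = q) (hq : Odd q) {n : ℕ} (hn : 1 ≤ n) (i : ℕ) (hi : i ≤ n) : (∃ c : F, c ≠ 0 ∧ (c • Matrix.diagonal (fun j : Fin n => if (j : ℕ) < i then (-1 : F) else 1)).det = 1) ↔ (Even i ∨ padicValNat 2 n < padicValNat 2 (q - 1)) := by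
  have hdet : ∀ c : F, (c • Matrix.diagonal (fun j : Fin n =>
      if (j : ℕ) < i then (-1 : F) else 1)).det = c ^ n * (-1) ^ i := by
    intro c
    rw [Matrix.det_smul, Fintype.card_fin, Matrix.det_diagonal, Finset.prod_ite,
      Finset.prod_const_one, mul_one, Finset.prod_const]
    congr 2
    rw [Fin.card_filter_val_lt]
    omega
  simp only [hdet]
  constructor
  · rintro ⟨c, hc, h⟩
    rcases Nat.even_or_odd i with hi' | hi'
    · exact Or.inl hi'
    · right
      refine (exists_pow_eq_neg_one_iff hF hq hn).1 ⟨c, hc, ?_⟩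
      rw [hi'.neg_one_pow] at h
      linear_combination -h
  · rintro (h | h)
    · exact ⟨1, one_ne_zero, by simp [h.neg_one_pow]⟩
    · rcases Nat.even_or_odd i with hi' | hi'
      · exact ⟨1, one_ne_zero, by simp [hi'.neg_one_pow]⟩
      · obtain ⟨c, hc, hcn⟩ := (exists_pow_eq_neg_one_iff hF hq hn).2 h
        exact ⟨c, hc, by rw [hcn, hi'.neg_one_pow]; norm_num⟩

end Cfsg.Agent.S2575
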