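import Cfsg.Statements.S2576

set_option autoImplicit false
open Cfsg

namespace Cfsg.Agent.S2576



/-- Which involutions of PGL_2m(q) coming from a scalar of the quadratic extension field lie in PSL_2m(q), q odd: let μ generate the Sylow 2-subgroup of the multiplicative group of the field with q elements (μ has order the 2-part of q − 1) and let t be the block-diagonal matrix with m diagonal blocks [[0, 1], [μ, 0]] (so t² is the scalar μ and t is an involution modulo scalars). Then some non-zero scalar multiple of t has determinant one if and only if q ≡ 3 (mod 4) or the 2-part of q − 1 is less than the 2-part of 2m. -/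
theorem result {F : Type*} [Field F] [Fintype F] {q : ℕ} (hF : Fintype.card F = q) (hq : Odd q) {m : ℕ} (hm : 1 ≤ m) (μ : F) (hμ : orderOf μ = 2 ^ padicValNat 2 (q - 1)) : (∃ c : F, c ≠ 0 ∧ (c • Matrix.blockDiagonal (fun _ : Fin m => !![(0 : F), 1; μ, 0])).det = 1) ↔ (q % 4 = 3 ∨ padicValNat 2 (q - 1) < padicValNat 2 (2 * m)) := by
  classical
  have hq1 : 1 < q := hF ▸ Fintype.one_lt_card
  have h2 : ringChar F ≠ 2 := by
    intro h
    have := FiniteField.even_card_iff_char_two.1 h
    rw [hF] at this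
    obtain ⟨k, rfl⟩ := hq
    omega
  have hdet : ∀ c : F, (c • Matrix.blockDiagonal (fun _ : Fin m => !![(0 : F), 1; μ, 0])).det
      = (c ^ 2 * -μ) ^ m := by
    intro c
    rw [Matrix.det_smul, Matrix.det_blockDiagonal, Finset.prod_const, Matrix.det_fin_two_of,
      Fintype.card_prod, Fintype.card_fin, Fintype.card_fin, Finset.card_univ, Fintype.card_fin]
    ring
  simp only [hdet]
  set s := padicValNat 2 (q - 1) with hs
  have hs1 : 1 ≤ s := by
    obtain ⟨k, rfl⟩ := hq
    exact one_le_padicValNat_of_dvd (by omega) (by omega)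
  have hvm : padicValNat 2 (2 * m) = padicValNat 2 m + 1 := by
    rw [padicValNat.mul (by norm_num) (by omega), padicValNat.self (by norm_num), add_comm]
  have hμs : μ ^ 2 ^ (s - 1) = -1 := by
    have h1 : (μ ^ 2 ^ (s - 1)) * (μ ^ 2 ^ (s - 1)) = 1 := by
      rw [← pow_add, ← two_mul, ← pow_succ', show s - 1 + 1 = s by omega, ← hμ,
        pow_orderOf_eq_one]
    rcases mul_self_eq_one_iff.1 h1 with h' | h'
    · exfalso
      have := Nat.le_of_dvd (by positivity) (orderOf_dvd_of_pow_eq_one h')
      rw [hμ] at this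
      have := (Nat.pow_lt_pow_iff_right (a := 2) (by norm_num)).2 (show s - 1 < s by omega)
      omega
    · exact h'
  have h4 : q % 4 = 3 ↔ s = 1 := by
    constructor
    · intro h
      by_contra hne
      have : 2 ^ 2 ∣ q - 1 := (padicValNat_dvd_iff_le (by omega)).2 (by omega)
      omega
    · intro h
      have : ¬ 2 ^ 2 ∣ q - 1 := fun hd => by
        have := (padicValNat_dvd_iff_le (p := 2) (by omega)).1 hd
        omega
      obtain ⟨k, rfl⟩ := hq
      omega
  constructor
  · rintro ⟨c, hc, hcm⟩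
    rw [or_iff_not_imp_left]
    intro hn4
    rw [hvm]
    by_contra hlt
    have hs2 : 2 ≤ s := by
      by_contra hh
      exact hn4 (h4.2 (by omega))
    obtain ⟨t, ht⟩ : 2 ^ s ∣ q - 1 := pow_padicValNat_dvd
    have htodd : ¬ 2 ∣ t := by
      rintro ⟨t', rfl⟩
      have : 2 ^ (s + 1) ∣ q - 1 := ⟨t', by rw [ht, pow_succ]; ring⟩
      have := (padicValNat_dvd_iff_le (p := 2) (by omega)).1 this
      omega
    have hy : (c ^ 2 * -μ) ^ (2 ^ (s - 1) * t) = -1 := by
      rw [mul_pow, ← pow_mul, show 2 * (2 ^ (s - 1) * t) = q - 1 by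
        rw [ht, ← mul_assoc, ← pow_succ', show s - 1 + 1 = s by omega], ← hF,
        FiniteField.pow_card_sub_one_eq_one c hc, one_mul, pow_mul, neg_pow,
        (Nat.even_pow.2 ⟨even_two, by omega⟩).neg_one_pow, one_mul, hμs]
      exact Odd.neg_one_pow (Nat.not_even_iff_odd.1 (by rwa [even_iff_two_dvd]))
    have hord : orderOf (c ^ 2 * -μ) ∣ m := orderOf_dvd_of_pow_eq_one hcm
    have hord2 : orderOf (c ^ 2 * -μ) ∣ 2 ^ s * t := orderOf_dvd_of_pow_eq_one (by
      rw [show 2 ^ s * t = 2 ^ (s - 1) * t * 2 by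
        conv_lhs => rw [show s = s - 1 + 1 by omega, pow_succ]
        ring, pow_mul, hy]
      norm_num)
    have hord0 : 0 < orderOf (c ^ 2 * -μ) := by
      rcases Nat.eq_zero_or_pos (orderOf (c ^ 2 * -μ)) with h0 | h0
      · rw [h0] at hord; have := Nat.eq_zero_of_zero_dvd hord; omega
      · exact h0
    have hdiv : orderOf (c ^ 2 * -μ) ∣ 2 ^ (s - 1) * t := by
      obtain ⟨o, u, hu2, heq⟩ := Nat.exists_eq_pow_mul_and_not_dvd hord0.ne' 2 (by norm_num)
      rw [heq] at hord hord2 ⊢
      have hov : o ≤ padicValNat 2 m :=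
        (padicValNat_dvd_iff_le (by omega)).1 ((Dvd.intro _ rfl).trans hord)
      have hut : u ∣ t := by
        have hc2 : Nat.Coprime u (2 ^ s) :=
          Nat.Coprime.pow_right _ ((Nat.prime_two.coprime_iff_not_dvd.2 hu2).symm)
        exact hc2.dvd_of_dvd_mul_left ((Dvd.intro_left _ rfl).trans hord2)
      exact mul_dvd_mul (pow_dvd_pow 2 (by omega)) hut
    rw [orderOf_dvd_iff_pow_eq_one, hy] at hdiv
    exact Ring.neg_one_ne_one_of_char_ne_two h2 hdiv
  · intro h
    refine ⟨1, one_ne_zero, ?_⟩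
    rw [one_pow, one_mul]
    rcases h with h | h
    · rw [h4.1 h] at hμs
      rw [show μ = -1 by simpa using hμs, neg_neg, one_pow]
    · rw [hvm] at h
      obtain ⟨k, hk⟩ : 2 ^ s ∣ m := (padicValNat_dvd_iff_le (by omega)).2 (by omega)
      rw [hk, pow_mul, neg_pow, (Nat.even_pow.2 ⟨even_two, by omega⟩).neg_one_pow, one_mul, ← hμ,
        pow_orderOf_eq_one, one_pow]

end Cfsg.Agent.S2576
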