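import Cfsg.Statements.S2670
import Cfsg.Agent.RootClasses.Projective

set_option autoImplicit false
open Cfsg

namespace Cfsg.Agent.S2670

/-- Number of conjugacy classes of elements of prime order r in PGL_n(q) = GL_n(q)/scalars when r divides q − 1 (n ≥ 2): the classes of elements with a diagonalisable lift correspond to the orbits of the cyclic rotation on the r-tuples of eigenvalue multiplicities (a_0, …, a_(r−1)) summing to n with every a_j < n, and when r divides n there are r − 1 further classes (lifts acting irreducibly on blocks of size r); in all (C(n+r−1, r−1) − r − [r ∣ n])/r + r·[r ∣ n] classes. -/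
theorem result {F : Type*} [Field F] [Fintype F] {q : ℕ} (hF : Fintype.card F = q) {n r : ℕ} (hn : 2 ≤ n) (hr : r.Prime) (hrq : r ∣ q - 1) : Nat.card {C : ConjClasses (GL (Fin n) F ⧸ Subgroup.center (GL (Fin n) F)) // ∃ g : GL (Fin n) F ⧸ Subgroup.center (GL (Fin n) F), ConjClasses.mk g = C ∧ orderOf g = r} = (Nat.choose (n + r - 1) (r - 1) - r - (if r ∣ n then 1 else 0)) / r + r * (if r ∣ n then 1 else 0) := by
  open CfsgLib CfsgLib.RootClasses Polynomial in
  classical
  subst hF
  haveI : Fact r.Prime := ⟨hr⟩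
  obtain ⟨p, hp⟩ := CharP.exists F
  obtain ⟨k, hpp, hk⟩ := FiniteField.card F p
  haveI : Fact p.Prime := ⟨hpp⟩
  have hrp : r ≠ p := by
    rintro rfl
    have h3 : r ∣ Fintype.card F := hk ▸ dvd_pow_self r k.ne_zero
    have h4 : r ∣ Fintype.card F - (Fintype.card F - 1) := Nat.dvd_sub h3 hrq
    rw [Nat.sub_sub_self Fintype.card_pos] at h4
    exact hr.one_lt.ne' (Nat.dvd_one.1 h4)
  let sc : (⊤ : Subgroup Fˣ) →* GL (Fin n) F :=
    (Units.map (Matrix.scalar (Fin n) : F →+* Matrix (Fin n) (Fin n) F).toMonoidHom).comp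
      (⊤ : Subgroup Fˣ).subtype
  refine card_projective (K := F) (p := p) hn (MonoidHom.id _) Function.injective_id ⊤ sc (fun x => rfl)
    (fun g => ?_) ?_ ?_ hrp
    (fun g h hg hh hc => CharpolySS.isConj_GL_of_charpoly_eq g h hg hh hc)
    (fun χ hm hd h0 _ => CharpolySS.exists_GL_charpoly (by omega) χ hm hd h0)
  · rw [Matrix.GeneralLinearGroup.center_eq_range_scalar]
    constructor
    · rintro ⟨x, rfl⟩
      exact ⟨⟨x, trivial⟩, rfl⟩
    · rintro ⟨x, rfl⟩
      exact ⟨(x : Fˣ), rfl⟩
  · rwa [Subgroup.card_top, Nat.card_eq_fintype_card, Fintype.card_units]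
  · rintro c ⟨x, hx⟩
    have hx0 : x ≠ 0 := fun h => (c : Fˣ).ne_zero (by rw [← hx, h, zero_pow hr.ne_zero])
    exact ⟨⟨Units.mk0 x hx0, trivial⟩, Subtype.ext (Units.ext hx)⟩

end Cfsg.Agent.S2670
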