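import Cfsg.Statements.S2578
import Cfsg.Agent.RegNilp.Matrix
import Cfsg.Agent.LinearOrders.Basic

set_option autoImplicit false
open Cfsg

namespace Cfsg.Agent.S2578


open CfsgLib.RegNilp Matrix

lemma shift_reg {F : Type*} [Field F] {n : ℕ} (hn : 1 ≤ n) :
    IsReg (CfsgLib.LinearOrders.shiftMat F n n) n := by
  have h0 : CfsgLib.LinearOrders.shiftMat F n n ^ n = 0 := by
    ext i j
    rw [CfsgLib.LinearOrders.shiftMat_pow n n n hn, if_neg (by omega)]
    rfl
  refine IsReg.of_pow_ne (Fintype.card_fin n) ⟨n, h0⟩ fun k hk hz => ?_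
  rcases Nat.eq_zero_or_pos k with rfl | hk0
  · have := congrFun (congrFun hz ⟨0, hn⟩) ⟨0, hn⟩
    simp at this
  · have := congrFun (congrFun hz ⟨0, hn⟩) ⟨k, hk⟩
    rw [CfsgLib.LinearOrders.shiftMat_pow n n k hk0, if_pos ⟨by simp, hk⟩] at this
    exact one_ne_zero this


/-- Regular unipotent classes of SL_n(q): for n ≥ 2 over the field with q elements, the matrices u of determinant one with (u − 1)^n = 0 and rank(u − 1) = n − 1 form a single GL_n(q)-class which splits into exactly gcd(n, q − 1) conjugacy classes of SL_n(q). -/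
theorem result {F : Type*} [Field F] [Fintype F] {q : ℕ} (hF : Fintype.card F = q) {n : ℕ} (hn : 2 ≤ n) : Nat.card {C : ConjClasses (Matrix.SpecialLinearGroup (Fin n) F) // ∃ u : Matrix.SpecialLinearGroup (Fin n) F, ConjClasses.mk u = C ∧ ((u : Matrix (Fin n) (Fin n) F) - 1) ^ n = 0 ∧ ((u : Matrix (Fin n) (Fin n) F) - 1).rank = n - 1} = Nat.gcd n (q - 1) := by
  classical
  have hn0 : 0 < n := by omega
  let M0 := CfsgLib.LinearOrders.shiftMat F n n
  have hM0 : IsReg M0 n := shift_reg (by omega)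
  let D : Fˣ → GL (Fin n) F := fun d => Matrix.GeneralLinearGroup.mkOfDetNeZero
    (Matrix.diagonal (Function.update (fun _ => (1 : F)) ⟨0, hn0⟩ (d : F))) (by
      rw [Matrix.det_diagonal, Finset.prod_update_of_mem (Finset.mem_univ _)]
      simp)
  have hD : ∀ d, (D d : Matrix (Fin n) (Fin n) F).det = d := fun d => by
    show (Matrix.diagonal _).det = _
    rw [Matrix.det_diagonal, Finset.prod_update_of_mem (Finset.mem_univ _)]
    simp
  have hdetU : ∀ {K : Matrix (Fin n) (Fin n) F}, IsNilpotent K → (1 + K).det = 1 := fun hK => by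
    have := det_smul_one_add hK (1 : F)
    rwa [one_smul, one_pow] at this
  let N : Fˣ → Matrix (Fin n) (Fin n) F := fun d =>
    (D d : Matrix (Fin n) (Fin n) F) * M0 * ((D d)⁻¹ : GL (Fin n) F)
  have hNpow : ∀ d (k : ℕ), N d ^ k =
      (D d : Matrix (Fin n) (Fin n) F) * M0 ^ k * ((D d)⁻¹ : GL (Fin n) F) := fun d k =>
    Units.conj_pow (D d) M0 k
  have hN : ∀ d, IsReg (N d) n := fun d => by
    refine IsReg.of_pow_ne (Fintype.card_fin n) ⟨n, by rw [hNpow, hM0.2.1, mul_zero, zero_mul]⟩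
      fun k hk hz => ?_
    rw [hNpow] at hz
    have h2 := congrArg (fun A => ((D d)⁻¹ : GL (Fin n) F).1 * A * (D d).1) hz
    simp only [← mul_assoc, Units.inv_mul, one_mul, mul_zero, zero_mul] at h2
    rw [mul_assoc, Units.inv_mul, mul_one] at h2
    obtain ⟨v, b, hb⟩ := hM0.exists_cyclic
    exact b.ne_zero ⟨k, hk⟩ (by rw [hb]; simp [h2])
  let u : Fˣ → Matrix.SpecialLinearGroup (Fin n) F := fun d =>
    ⟨1 + N d, hdetU (hN d).isNilpotent⟩
  let S := {C : ConjClasses (Matrix.SpecialLinearGroup (Fin n) F) //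
    ∃ w : Matrix.SpecialLinearGroup (Fin n) F, ConjClasses.mk w = C ∧
      ((w : Matrix (Fin n) (Fin n) F) - 1) ^ n = 0 ∧
      ((w : Matrix (Fin n) (Fin n) F) - 1).rank = n - 1}
  let f : Fˣ → S := fun d => ⟨ConjClasses.mk (u d), u d, rfl,
    by rw [show ((u d : Matrix (Fin n) (Fin n) F) - 1) = N d from add_sub_cancel_left _ _]
       exact (hN d).2.1,
    by rw [show ((u d : Matrix (Fin n) (Fin n) F) - 1) = N d from add_sub_cancel_left _ _]
       exact (hN d).rank_eq⟩
  let H := (powMonoidHom n : Fˣ →* Fˣ).range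
  -- A matrix intertwining two `N`s.
  have hint : ∀ d d' : Fˣ, IsConj (u d) (u d') ↔ d⁻¹ * d' ∈ H := by
    intro d d'
    constructor
    · intro h
      obtain ⟨g, hg⟩ := isConj_iff.1 h
      rw [mul_inv_eq_iff_eq_mul] at hg
      have hg' : g.1 * (1 + N d) = (1 + N d') * g.1 := congrArg Subtype.val hg
      simp only [mul_add, add_mul, mul_one, one_mul, add_right_inj, N] at hg'
      let A : Matrix (Fin n) (Fin n) F := ((D d')⁻¹ : GL (Fin n) F).1 * g.1 * (D d).1
      have hA : A * M0 = M0 * A := by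
        calc A * M0 = ((D d')⁻¹ : GL (Fin n) F).1 *
              (g.1 * ((D d).1 * M0 * ((D d)⁻¹ : GL (Fin n) F).1)) * (D d).1 := by
              simp only [A, mul_assoc, Units.inv_mul, mul_one]
          _ = M0 * A := by
              rw [hg']
              simp only [A, ← mul_assoc, Units.inv_mul, one_mul]
      obtain ⟨c, hc⟩ := hM0.exists_comb hA
      have hdet : A.det = (d'⁻¹ * d : Fˣ) := by
        have h1 : ((D d')⁻¹ : GL (Fin n) F).1.det = ((d'⁻¹ : Fˣ) : F) := by
          have := congrArg Matrix.det (D d').inv_mul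
          rw [Matrix.det_mul, hD, Matrix.det_one] at this
          rw [Units.val_inv_eq_inv_val]
          exact eq_inv_of_mul_eq_one_left this
        simp only [A, Matrix.det_mul, h1, hD, g.2, mul_one, Units.val_mul]
      rw [hc, det_comb hM0 hn0] at hdet
      have hc0 : c ⟨0, hn0⟩ ≠ 0 := fun h0 => by
        rw [h0, zero_pow hn0.ne'] at hdet
        exact (Units.ne_zero _) hdet.symm
      have : d'⁻¹ * d ∈ H := ⟨Units.mk0 _ hc0, Units.ext hdet⟩
      simpa using H.inv_mem this
    · rintro ⟨t, ht⟩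
      rw [powMonoidHom_apply] at ht
      rw [isConj_iff]
      refine ⟨⟨(D d').1 * ((t⁻¹ : Fˣ) : F) • ((D d)⁻¹ : GL (Fin n) F).1, ?_⟩, ?_⟩
      · have h1 := congrArg Matrix.det (D d).inv_mul
        rw [Matrix.det_mul, hD, Matrix.det_one] at h1
        rw [Matrix.det_mul, Matrix.det_smul, hD, eq_inv_of_mul_eq_one_left h1, Fintype.card_fin,
          ← Units.val_inv_eq_inv_val, ← Units.val_pow_eq_pow_val, ← Units.val_mul, ← Units.val_mul,
          Units.val_eq_one, show d' = d * t ^ n by rw [ht, mul_inv_cancel_left]]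
        rw [inv_pow, mul_comm ((t ^ n)⁻¹), mul_assoc, ← mul_assoc (t ^ n), mul_comm (t ^ n) d⁻¹]
        simp
      · refine mul_inv_eq_of_eq_mul (Subtype.ext ?_)
        show _ * (1 + N d) = (1 + N d') * _
        simp only [mul_add, add_mul, mul_one, one_mul,
          add_right_inj, N, smul_mul_assoc, mul_smul_comm, smul_add, mul_assoc,
          Units.inv_mul_cancel_left, Units.mul_inv_cancel_left]
  have hfs : Function.Surjective f := by
    rintro ⟨C, w, rfl, hw0, hwr⟩
    obtain ⟨P, hP⟩ := hM0.exists_conj (IsReg.of_rank (Fintype.card_fin n) hw0 hwr)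
    have hPd : P.1.det ≠ 0 := by
      have := congrArg Matrix.det P.mul_inv
      rw [Matrix.det_mul, Matrix.det_one] at this
      exact left_ne_zero_of_mul_eq_one this
    refine ⟨Units.mk0 _ hPd, Subtype.ext (ConjClasses.mk_eq_mk_iff_isConj.2 (isConj_iff.2 ?_))⟩
    generalize hd : Units.mk0 _ hPd = d
    refine ⟨⟨P.1 * ((D d)⁻¹ : GL (Fin n) F).1, ?_⟩, ?_⟩
    · have h1 := congrArg Matrix.det (D d).inv_mul
      rw [Matrix.det_mul, hD, Matrix.det_one] at h1
      rw [Matrix.det_mul, eq_inv_of_mul_eq_one_left h1, ← hd, Units.val_mk0, mul_inv_cancel₀ hPd]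
    · refine mul_inv_eq_of_eq_mul (Subtype.ext ?_)
      show P.1 * ((D d)⁻¹ : GL (Fin n) F).1 * (1 + N d) = w.1 * (P.1 * ((D d)⁻¹ : GL (Fin n) F).1)
      simp only [mul_add, N, mul_one, mul_assoc,
        Units.inv_mul_cancel_left]
      rw [← mul_assoc P.1 M0, hP, sub_mul, one_mul, sub_mul, mul_assoc]
      abel
  let fbar : Fˣ ⧸ H → S := Quotient.lift f fun a b hab =>
    Subtype.ext (ConjClasses.mk_eq_mk_iff_isConj.2 ((hint a b).2 (QuotientGroup.leftRel_apply.1 hab)))
  have hbij : Function.Bijective fbar := by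
    refine ⟨?_, fun C => ?_⟩
    · rintro ⟨a⟩ ⟨b⟩ hab
      exact QuotientGroup.eq.2
        ((hint a b).1 (ConjClasses.mk_eq_mk_iff_isConj.1 (congrArg Subtype.val hab)))
    · obtain ⟨d, rfl⟩ := hfs C
      exact ⟨QuotientGroup.mk d, rfl⟩
  show Nat.card S = _
  rw [← Nat.card_eq_of_bijective fbar hbij, ← Subgroup.index_eq_card,
    IsCyclic.index_powMonoidHom_range, Nat.card_units, Nat.card_eq_fintype_card, hF, Nat.gcd_comm]

end Cfsg.Agent.S2578
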