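import Cfsg.Statements.S2579
import Cfsg.Agent.Transv.Basic

set_option autoImplicit false
open Cfsg

namespace Cfsg.Agent.S2579



/-- In SL_n(F) with n ≥ 3, over a finite field F, any two transvections (matrices t with t − 1 of rank one and square zero) are conjugate by an element of SL_n(F). -/
theorem result {F : Type*} [Field F] [Finite F] {n : ℕ} (hn : 3 ≤ n) (s t : Matrix.SpecialLinearGroup (Fin n) F) (hs : Cfsg.IsTransvection (s : Matrix (Fin n) (Fin n) F)) (ht : Cfsg.IsTransvection (t : Matrix (Fin n) (Fin n) F)) : IsConj s t := by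
  classical
  obtain ⟨k, rfl⟩ : ∃ k, n = k + 3 := ⟨n - 3, by omega⟩
  let e : Fin (k + 3) ≃ Fin 2 ⊕ Fin (k + 1) := (finCongr (by omega)).trans finSumFinEquiv.symm
  obtain ⟨P, hP⟩ := CfsgLib.Transv.exists_normal_form _ hs.1 hs.2 e
  obtain ⟨Q, hQ⟩ := CfsgLib.Transv.exists_normal_form _ ht.1 ht.2 e
  have hdet : ∀ U : (Matrix (Fin (k + 3)) (Fin (k + 3)) F)ˣ, U.1.det ≠ 0 := fun U h => by
    have := congrArg Matrix.det U.mul_inv
    rw [Matrix.det_mul, h, zero_mul, Matrix.det_one] at this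
    exact zero_ne_one this
  let d : F := P.1.det / Q.1.det
  let i0 := e.symm (Sum.inr 0)
  let D : Matrix (Fin (k + 3)) (Fin (k + 3)) F := Matrix.diagonal (Function.update (fun _ => 1) i0 d)
  have hD : D.det = d := by
    rw [Matrix.det_diagonal, Finset.prod_update_of_mem (Finset.mem_univ _)]; simp
  have hDS : D * Matrix.single (e.symm (Sum.inl 1)) (e.symm (Sum.inl 0)) 1 =
      Matrix.single (e.symm (Sum.inl 1)) (e.symm (Sum.inl 0)) 1 * D := by
    have h1 : e.symm (Sum.inl 1) ≠ i0 := fun h => by simpa using e.symm.injective h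
    have h0 : e.symm (Sum.inl 0) ≠ i0 := fun h => by simpa using e.symm.injective h
    ext i j
    simp only [D, Matrix.diagonal_mul, Matrix.mul_diagonal, Matrix.single, Matrix.of_apply]
    split_ifs with h
    · obtain ⟨rfl, rfl⟩ := h
      simp [Function.update_of_ne h1, Function.update_of_ne h0]
    · simp
  have hg : (Q.1 * D * (P⁻¹ : (Matrix (Fin (k + 3)) (Fin (k + 3)) F)ˣ).1).det = 1 := by
    have h1 := congrArg Matrix.det P.inv_mul
    rw [Matrix.det_mul, Matrix.det_one] at h1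
    rw [Matrix.det_mul, Matrix.det_mul, hD, eq_inv_of_mul_eq_one_left h1]
    simp only [d]
    field_simp [hdet P, hdet Q]
  rw [isConj_iff]
  refine ⟨⟨_, hg⟩, mul_inv_eq_of_eq_mul (Subtype.ext ?_)⟩
  show Q.1 * D * (P⁻¹ : (Matrix (Fin (k + 3)) (Fin (k + 3)) F)ˣ).1 * s.1 =
    t.1 * (Q.1 * D * (P⁻¹ : (Matrix (Fin (k + 3)) (Fin (k + 3)) F)ˣ).1)
  generalize hPi : (P⁻¹ : (Matrix (Fin (k + 3)) (Fin (k + 3)) F)ˣ).1 = Pi
  have hPP : P.1 * Pi = 1 := by rw [← hPi, Units.mul_inv]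
  have hPP' : Pi * P.1 = 1 := by rw [← hPi, Units.inv_mul]
  generalize hS : Matrix.single (e.symm (Sum.inl 1)) (e.symm (Sum.inl 0)) (1 : F) = S at hP hQ hDS
  have hs1 : s.1 = 1 + P.1 * S * Pi := by
    rw [← hP, mul_assoc, hPP, mul_one, add_sub_cancel]
  have ht1 : t.1 * Q.1 = Q.1 + Q.1 * S := by
    rw [← hQ, sub_mul, one_mul, add_sub_cancel]
  rw [hs1, ← mul_assoc t.1, ← mul_assoc t.1, ht1, mul_add, mul_one, add_mul, add_mul,
    mul_assoc Q.1 S D, ← hDS]
  simp only [← mul_assoc]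
  rw [mul_assoc (Q.1 * D) Pi P.1, hPP', mul_one]

end Cfsg.Agent.S2579
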