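import Cfsg.Statements.S2581
import Cfsg.Agent.UnipotentJordan.Count

set_option autoImplicit false
open Cfsg

namespace Cfsg.Agent.S2581

/-- Order of the centraliser in GL of a unipotent matrix of given Jordan type over the field with q elements: if the type has a_i blocks of size i (all block sizes at least 1), the invertible matrices commuting with it number q^γ · Π_i |GL_(a_i)(q)| with γ = 2 Σ_(i<j) i a_i a_j + Σ_i (i − 1) a_i² (a group of order q^γ extended by Π GL_(a_i)(q)). -/
theorem result {F : Type*} [Field F] [Fintype F] {q : ℕ} (hF : Fintype.card F = q) {t : ℕ} (d : Fin t → ℕ) (hd : ∀ k, 1 ≤ d k) : Nat.card {g : GL ((k : Fin t) × Fin (d k)) F // (g : Matrix ((k : Fin t) × Fin (d k)) ((k : Fin t) × Fin (d k)) F) * Cfsg.jordanTypeMatrix d F = Cfsg.jordanTypeMatrix d F * (g : Matrix ((k : Fin t) × Fin (d k)) ((k : Fin t) × Fin (d k)) F)} = q ^ (2 * (∑ i ∈ Finset.range (Finset.univ.sup d + 1), ∑ j ∈ Finset.range (Finset.univ.sup d + 1), if i < j then i * (Finset.univ.filter (fun k : Fin t => d k = i)).card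 * (Finset.univ.filter (fun k : Fin t => d k = j)).card else 0) + ∑ i ∈ Finset.range (Finset.univ.sup d + 1), (i - 1) * (Finset.univ.filter (fun k : Fin t => d k = i)).card ^ 2) * ∏ i ∈ Finset.range (Finset.univ.sup d + 1), ∏ j : Fin ((Finset.univ.filter (fun k : Fin t => d k = i)).card), (q ^ (Finset.univ.filter (fun k : Fin t => d k = i)).card - q ^ (j : ℕ)) := by
  classical
  have hD : ∀ k, d k ≤ Finset.univ.sup d := fun k => Finset.le_sup (Finset.mem_univ k)
  have hiff : ∀ a : Matrix (CfsgLib.UnipotentJordan.JI d) (CfsgLib.UnipotentJordan.JI d) F,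
      a * Cfsg.jordanTypeMatrix d F = Cfsg.jordanTypeMatrix d F * a ↔
        a ∈ CfsgLib.UnipotentJordan.commutant d F := by
    intro a
    rw [CfsgLib.UnipotentJordan.jordanTypeMatrix_eq, CfsgLib.UnipotentJordan.mem_commutant_iff,
      mul_add, add_mul, one_mul, mul_one, add_right_inj, eq_comm]
  rw [Nat.card_congr (β := {a : Matrix (CfsgLib.UnipotentJordan.JI d) (CfsgLib.UnipotentJordan.JI d) F //
      a ∈ CfsgLib.UnipotentJordan.commutant d F ∧ IsUnit a})
      { toFun := fun g => ⟨g.1.1, (hiff _).1 g.2, g.1.isUnit⟩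
        invFun := fun a => ⟨a.2.2.unit, (hiff _).2 a.2.1⟩
        left_inv := fun g => Subtype.ext (Units.ext rfl)
        right_inv := fun a => Subtype.ext rfl },
    CfsgLib.UnipotentJordan.natCard_commutant_units hd,
    CfsgLib.UnipotentJordan.natCard_radK hd _ hD, CfsgLib.UnipotentJordan.natCard_blk_units _ hD,
    Nat.card_eq_fintype_card, hF]

end Cfsg.Agent.S2581
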