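import Cfsg.Statements.S2583
import Cfsg.Agent.UnipotentForms.Models

set_option autoImplicit false
open Cfsg

namespace Cfsg.Agent.S2583

/-- Which unipotent Jordan types occur in a finite orthogonal group in odd characteristic: over a finite field of odd order, a unipotent matrix with Jordan block sizes d_1, …, d_t (sum n, all at least 1) is similar to an isometry of some quadratic form on F^n with non-degenerate polar form if and only if every even block size occurs an even number of times. -/
theorem result {F : Type*} [Field F] [Fintype F] (h2 : (2 : F) ≠ 0) {n t : ℕ} (d : Fin t → ℕ) (hd : ∀ k, 1 ≤ d k) (hsum : ∑ k, d k = n) : (∃ Q : QuadraticForm F (Fin n → F), (QuadraticMap.polarBilin Q).Nondegenerate ∧ ∃ e : ((k : Fin t) × Fin (d k)) ≃ Fin n, ∃ A : ↥(Cfsg.isometryGroup F ⇑Q), IsConj (Matrix.reindex e e (Cfsg.jordanTypeMatrix d F)) ((A : Matrix.GeneralLinearGroup (Fin n) F) : Matrix (Fin n) (Fin n) F)) ↔ ∀ j : ℕ, Even j → 0 < j → Even (Finset.univ.filter (fun k : Fin t => d k = j)).card := by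
  classical
  constructor
  · rintro ⟨Q, hQ, e, A, hc⟩ j hj hj0
    obtain ⟨H, hT, hu, -, hinv⟩ := CfsgLib.UnipotentForms.exists_polar_form Q hQ
      ((A : Matrix.GeneralLinearGroup (Fin n) F) : Matrix (Fin n) (Fin n) F) (fun v => A.2 v 0)
    have hH : CfsgLib.UnipotentForms.IsForm (1 : F) H :=
      ⟨by rw [hT, one_smul], fun h => absurd (show (2 : F) = 0 by linear_combination h) h2, hu⟩
    obtain ⟨G, ⟨hG1, -, hG3⟩, hinv'⟩ := CfsgLib.UnipotentForms.exists_form_of_isConj e hH hinv hc
    refine CfsgLib.UnipotentForms.even_count hinv' hd hG1 hG3 (by omega) ?_ (Or.inl h2)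
    rw [one_mul, Odd.neg_one_pow]
    exact Nat.Even.sub_odd (by omega) hj odd_one
  · intro h
    have hocc : CfsgLib.UnipotentForms.Occ F (1 : F) ((Finset.univ : Finset (Fin t)).val.map d) := by
      refine CfsgLib.UnipotentForms.occ_of_even (one_mul 1) (fun j => Odd j)
        (fun j hj _ => CfsgLib.UnipotentForms.occ_single_symm h2 hj) _ (fun j hj => ?_) fun j hj => ?_
      · obtain ⟨k, -, rfl⟩ := Multiset.mem_map.1 hj
        exact hd k
      · rcases Nat.eq_zero_or_pos j with rfl | hj0
        · rw [Multiset.count_eq_zero.2]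
          · exact ⟨0, rfl⟩
          · intro h0
            obtain ⟨k, -, hk⟩ := Multiset.mem_map.1 h0
            have := hd k
            omega
        · have := h j (Nat.not_odd_iff_even.1 hj) hj0
          rw [Multiset.count_map]
          simpa [eq_comm, Finset.filter_val, Finset.card_def] using this
    obtain ⟨H, hH, hinv⟩ := CfsgLib.UnipotentForms.exists_form_of_occ hd hocc
    let e : CfsgLib.UnipotentJordan.JI d ≃ Fin n := Fintype.equivFinOfCardEq (by simpa using hsum)
    obtain ⟨hT, -, hu⟩ := hH.reindex e
    set G := Matrix.reindex e e H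
    set J := Matrix.reindex e e (Cfsg.jordanTypeMatrix d F) with hJdef
    have hJ : J.transpose * G * J = G := CfsgLib.UnipotentForms.isometry_reindex e
      (by rw [CfsgLib.UnipotentJordan.jordanTypeMatrix_eq]; exact hinv)
    let B : LinearMap.BilinForm F (Fin n → F) := Matrix.toBilin' G
    have hBs : ∀ u v, B v u = B u v := fun u v => by
      simp only [B, Matrix.toBilin'_apply']
      rw [dotProduct_comm, ← Matrix.vecMul_transpose, Matrix.dotProduct_mulVec, hT, one_smul]
    have hJu : IsUnit J := by
      rw [hJdef, CfsgLib.UnipotentJordan.reindex_jordan]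
      exact ((CfsgLib.UnipotentJordan.isNilpotent_shiftMat hd).map (Matrix.reindexAlgEquiv F F e)).isUnit_one_add
    refine ⟨LinearMap.BilinMap.toQuadraticMap B, ?_, e, ⟨hJu.unit, fun u v => ?_⟩, IsConj.refl _⟩
    · have hp : QuadraticMap.polarBilin (LinearMap.BilinMap.toQuadraticMap B) = Matrix.toBilin' ((2 : F) • G) := by
        refine LinearMap.ext fun u => LinearMap.ext fun v => ?_
        rw [QuadraticMap.polarBilin_apply_apply, map_smul, LinearMap.smul_apply, LinearMap.smul_apply]
        simp only [QuadraticMap.polar, LinearMap.BilinMap.toQuadraticMap_apply, map_add, LinearMap.add_apply,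
          smul_eq_mul, hBs u v]
        show _ = 2 * B u v
        ring
      rw [hp]
      refine LinearMap.BilinForm.nondegenerate_toBilin'_iff_det_ne_zero.2 ?_
      rw [Matrix.det_smul]
      exact mul_ne_zero (pow_ne_zero _ h2) ((Matrix.isUnit_iff_isUnit_det _).1 hu).ne_zero
    · show B (J.mulVec u) (J.mulVec u) = B u u
      simp only [B, Matrix.toBilin'_apply']
      conv_rhs => rw [← hJ]
      rw [mul_assoc, ← Matrix.mulVec_mulVec, ← Matrix.mulVec_mulVec, Matrix.dotProduct_mulVec u J.transpose,
        Matrix.vecMul_transpose]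

end Cfsg.Agent.S2583
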