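import Cfsg.Statements.S2585

set_option autoImplicit false
open Cfsg

namespace Cfsg.Agent.S2585

open Matrix

/-- The bilinear form `Σ u_(inl i) v_(inr i)`. -/
def halfForm (m : ℕ) (F : Type*) [Field F] : LinearMap.BilinForm F (Fin m ⊕ Fin m → F) :=
  LinearMap.mk₂ F (fun u v => ∑ i : Fin m, u (.inl i) * v (.inr i))
    (by intros; simp [add_mul, Finset.sum_add_distrib])
    (by intros; simp [Finset.mul_sum, mul_assoc])
    (by intros; simp [mul_add, Finset.sum_add_distrib])
    (by intros; simp [Finset.mul_sum, mul_left_comm])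

lemma sympForm_eq {F : Type*} [Field F] [CharP F 2] (m : ℕ) (u v : Fin m ⊕ Fin m → F) :
    Cfsg.sympForm m F u v = halfForm m F u v + halfForm m F v u := by
  have h2 : ∀ x : F, -x = x := CharTwo.neg_eq
  simp [Cfsg.sympForm, halfForm, dotProduct, Matrix.mulVec, Matrix.J, Matrix.fromBlocks,
    Fintype.sum_sum_type, Matrix.one_apply, h2, mul_comm]

lemma sympForm_mulVec {F : Type*} [Field F] {m : ℕ} (A : Matrix.symplecticGroup (Fin m) F)
    (u v : Fin m ⊕ Fin m → F) :
    Cfsg.sympForm m F ((A : Matrix _ _ F) *ᵥ u) ((A : Matrix _ _ F) *ᵥ v)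
      = Cfsg.sympForm m F u v := by
  have h := SymplecticGroup.transpose_mem A.2
  rw [SymplecticGroup.mem_iff, transpose_transpose] at h
  simp only [Cfsg.sympForm]
  rw [mulVec_mulVec, ← vecMul_transpose, ← dotProduct_mulVec, mulVec_mulVec, ← mul_assoc, h]


/-- Over a finite field of characteristic two every element of the symplectic group is orthogonal for a suitable quadratic form: for each A in Sp_2m(F) there is a quadratic form Q on F^(2m) whose polar form is the alternating form defining Sp_2m(F) (so Q is non-degenerate) and which A preserves. Equivalently, for m ≥ 1, Sp_2m(F) is the union of the conjugates of its two orthogonal subgroups O⁺_2m(F) and O⁻_2m(F). -/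
theorem result {F : Type*} [Field F] [Fintype F] [CharP F 2] {m : ℕ} (A : Matrix.symplecticGroup (Fin m) F) : ∃ Q : QuadraticForm F (Fin m ⊕ Fin m → F), (∀ u v : Fin m ⊕ Fin m → F, QuadraticMap.polar ⇑Q u v = Cfsg.sympForm m F u v) ∧ ∀ v : Fin m ⊕ Fin m → F, Q ((A : Matrix (Fin m ⊕ Fin m) (Fin m ⊕ Fin m) F).mulVec v) = Q v := by
  classical
  let V := Fin m ⊕ Fin m → F
  let Q0 : QuadraticForm F V := LinearMap.BilinMap.toQuadraticMap (halfForm m F)
  have hpol : ∀ u v : V, QuadraticMap.polar ⇑Q0 u v = Cfsg.sympForm m F u v := by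
    intro u v
    rw [sympForm_eq, LinearMap.BilinMap.polar_toQuadraticMap]
  let M : V →ₗ[F] V := Matrix.mulVecLin (A : Matrix _ _ F)
  let d : V → F := fun v => Q0 (M v) + Q0 v
  have hadd : ∀ u v, d (u + v) = d u + d v := by
    intro u v
    have hs : QuadraticMap.polar (⇑Q0) (M u) (M v) = QuadraticMap.polar (⇑Q0) u v := by
      rw [hpol, hpol]; exact sympForm_mulVec A u v
    simp only [d, map_add]
    rw [QuadraticMap.map_add ⇑Q0 (M u) (M v), QuadraticMap.map_add ⇑Q0 u v, hs]
    linear_combination (CharTwo.add_self_eq_zero (QuadraticMap.polar (⇑Q0) u v))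
  have hsmul : ∀ (c : F) v, d (c • v) = c ^ 2 * d v := by
    intro c v
    simp only [d, map_smul, QuadraticMap.map_smul, smul_eq_mul]; ring
  let μ : V →ₗ[F] F :=
    { toFun := fun v => (frobeniusEquiv F 2).symm (d v)
      map_add' := fun u v => by rw [hadd, map_add]
      map_smul' := fun c v => by
        rw [hsmul, map_mul, frobeniusEquiv_symm_pow, RingHom.id_apply, smul_eq_mul] }
  have hμ : ∀ v, μ v ^ 2 = d v := fun v => frobenius_apply_frobeniusEquiv_symm F 2 (d v)
  obtain ⟨l, hl⟩ : μ ∈ LinearMap.range (M - LinearMap.id : V →ₗ[F] V).dualMap := by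
    rw [LinearMap.range_dualMap_eq_dualAnnihilator_ker, Submodule.mem_dualAnnihilator]
    intro v hv
    have hfix : M v = v := sub_eq_zero.1 hv
    show (frobeniusEquiv F 2).symm (d v) = 0
    simp [d, hfix, CharTwo.add_self_eq_zero]
  refine ⟨Q0 + QuadraticMap.linMulLin l l, ?_, ?_⟩
  · intro u v
    simp only [QuadraticMap.polar, QuadraticMap.add_apply, QuadraticMap.linMulLin_apply, map_add]
    have h := hpol u v
    simp only [QuadraticMap.polar] at h
    linear_combination h + CharTwo.add_self_eq_zero (l u * l v)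
  · intro v
    have h1 : l (M v) = μ v + l v := by
      have : l (M v - v) = μ v := by rw [← hl]; rfl
      rw [map_sub] at this
      rw [← this]; ring
    show Q0 (M v) + l (M v) * l (M v) = Q0 v + l v * l v
    rw [h1]
    linear_combination (hμ v) + CharTwo.add_self_eq_zero (Q0 (M v)) +
      CharTwo.add_self_eq_zero (μ v * l v)

end Cfsg.Agent.S2585
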