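import Cfsg.Statements.S2584
import Cfsg.Agent.UnipotentForms.Models
import Cfsg.Agent.S2585

set_option autoImplicit false
open Cfsg

namespace Cfsg.Agent.S2584

/-- Which unipotent Jordan types occur in a finite orthogonal group in characteristic two: over a finite field of characteristic 2 and in even dimension 2m, a unipotent matrix with Jordan block sizes d_1, …, d_t (sum 2m, all at least 1) is similar to an isometry of some quadratic form on F^(2m) with non-degenerate polar form if and only if every odd block size occurs an even number of times (the same condition as for the symplectic group, which contains these orthogonal groups). -/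
theorem result {F : Type*} [Field F] [Fintype F] [CharP F 2] {m t : ℕ} (d : Fin t → ℕ) (hd : ∀ k, 1 ≤ d k) (hsum : ∑ k, d k = 2 * m) : (∃ Q : QuadraticForm F (Fin (2 * m) → F), (QuadraticMap.polarBilin Q).Nondegenerate ∧ ∃ e : ((k : Fin t) × Fin (d k)) ≃ Fin (2 * m), ∃ A : ↥(Cfsg.isometryGroup F ⇑Q), IsConj (Matrix.reindex e e (Cfsg.jordanTypeMatrix d F)) ((A : Matrix.GeneralLinearGroup (Fin (2 * m)) F) : Matrix (Fin (2 * m)) (Fin (2 * m)) F)) ↔ ∀ j : ℕ, Odd j → Even (Finset.univ.filter (fun k : Fin t => d k = j)).card := by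
  classical
  constructor
  · rintro ⟨Q, hQ, e, A, hc⟩ j hj
    obtain ⟨H, hT, hu, hdg, hinv⟩ := CfsgLib.UnipotentForms.exists_polar_form Q hQ
      ((A : Matrix.GeneralLinearGroup (Fin (2 * m)) F) : Matrix (Fin (2 * m)) (Fin (2 * m)) F) (fun v => A.2 v 0)
    have h20 : (2 : F) = 0 := CharTwo.two_eq_zero
    have h1 : (1 : F) = -1 := by linear_combination h20
    have hH : CfsgLib.UnipotentForms.IsForm (-1 : F) H :=
      ⟨by rw [hT, ← h1, one_smul], fun _ p => by rw [hdg, h20, zero_mul], hu⟩
    obtain ⟨G, ⟨hG1, hG2, hG3⟩, hinv'⟩ := CfsgLib.UnipotentForms.exists_form_of_isConj e hH hinv hc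
    obtain ⟨i, rfl⟩ := hj
    exact CfsgLib.UnipotentForms.even_count hinv' hd hG1 hG3 (by omega)
      (by simp [pow_mul]) (Or.inr ⟨odd_two_mul_add_one i, hG2 rfl⟩)
  · intro h
    obtain ⟨e, A, hc⟩ := CfsgLib.UnipotentForms.exists_sp_of_count (F := F) hd hsum h
    obtain ⟨Q, hQp, hQA⟩ := Cfsg.Agent.S2585.result A
    let f : Fin m ⊕ Fin m ≃ Fin (2 * m) := finSumFinEquiv.trans (finCongr (two_mul m).symm)
    let L : (Fin (2 * m) → F) ≃ₗ[F] (Fin m ⊕ Fin m → F) := LinearEquiv.funCongrLeft F F f
    let M : Matrix (Fin (2 * m)) (Fin (2 * m)) F := Matrix.reindex f f A.1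
    have hLM : ∀ v, L (M.mulVec v) = A.1.mulVec (L v) := by
      intro v
      funext i
      show (M.mulVec v) (f i) = A.1.mulVec (fun x => v (f x)) i
      simp only [M, Matrix.mulVec, dotProduct, Matrix.reindex_apply, Matrix.submatrix_apply,
        Equiv.symm_apply_apply]
      exact (Fintype.sum_equiv f _ _ fun x => by simp).symm
    have hMu : IsUnit M :=
      ((Matrix.isUnit_iff_isUnit_det _).2 (SymplecticGroup.symplectic_det A.2)).map (Matrix.reindexAlgEquiv F F f)
    refine ⟨Q.comp L.toLinearMap, ?_, e.trans f, ⟨hMu.unit, fun u v => ?_⟩, ?_⟩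
    · have hp : ∀ u v, QuadraticMap.polarBilin (Q.comp L.toLinearMap) u v = Cfsg.sympForm m F (L u) (L v) := by
        intro u v
        rw [QuadraticMap.polarBilin_apply_apply, ← hQp]
        simp only [QuadraticMap.polar, QuadraticMap.comp_apply, LinearEquiv.coe_coe, map_add]
      refine ⟨fun u hu => ?_, fun u hu => ?_⟩
      · refine L.map_eq_zero_iff.1 (CfsgLib.Forms.sympForm_sep _ fun w => ?_)
        have := hu (L.symm w)
        rwa [hp, L.apply_symm_apply] at this
      · refine L.map_eq_zero_iff.1 (CfsgLib.Forms.sympForm_sep _ fun w => ?_)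
        have := hu (L.symm w)
        rw [hp, L.apply_symm_apply, CfsgLib.Forms.sympForm_swap, neg_eq_zero] at this
        exact this
    · show Q (L (M.mulVec u)) = Q (L u)
      rw [hLM, hQA]
    · obtain ⟨c, hc⟩ := hc
      refine ⟨Units.map (Matrix.reindexAlgEquiv F F f).toMonoidHom c, ?_⟩
      have h3 : Matrix.reindex (e.trans f) (e.trans f) (Cfsg.jordanTypeMatrix d F) =
          Matrix.reindexAlgEquiv F F f (Matrix.reindex e e (Cfsg.jordanTypeMatrix d F)) := by
        ext; simp
      show Matrix.reindexAlgEquiv F F f (c : Matrix (Fin m ⊕ Fin m) (Fin m ⊕ Fin m) F) * _ =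
        Matrix.reindexAlgEquiv F F f A.1 * Matrix.reindexAlgEquiv F F f (c : Matrix (Fin m ⊕ Fin m) (Fin m ⊕ Fin m) F)
      rw [h3, ← map_mul, ← map_mul]
      exact congrArg _ hc

end Cfsg.Agent.S2584
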