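import Cfsg.Statements.S2591
import Cfsg.Agent.RegNilp.Symplectic
import Cfsg.Agent.SympOrders.Witness

set_option autoImplicit false
open Cfsg

namespace Cfsg.Agent.S2591


open CfsgLib.RegNilp Matrix

lemma isConj_of_intertwine {F : Type*} [Field F] [Finite F] {m : ℕ} (hm : 0 < m) (h2 : (2 : F) ≠ 0)
    {x y : Matrix.symplecticGroup (Fin m) F} (hx : IsRegU (x : SpMat F m))
    {P : SpMat F m} (hP : P * (x : SpMat F m) = (y : SpMat F m) * P) {a : F} (ha : a ≠ 0)
    (hcom : Com (x : SpMat F m) (adj P * P))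
    (hc : IsNilpotent (adj P * P - (a * a) • 1)) : IsConj x y := by
  obtain ⟨t, htC, htu, ht⟩ := exists_norm hm hx h2 hcom (by rw [adj_mul, adj_adj]) ha hc
  have hd := (Matrix.isUnit_iff_isUnit_det t).1 htu
  have hg : adj (P * t⁻¹) * (P * t⁻¹) = 1 := by
    rw [adj_mul, mul_assoc, ← mul_assoc (adj P), ← ht, mul_assoc (adj t), Matrix.mul_nonsing_inv _ hd,
      mul_one, ← adj_mul, Matrix.mul_nonsing_inv _ hd, adj_one]
  rw [isConj_iff]
  refine ⟨⟨P * t⁻¹, mem_symplectic_iff_adj.2 hg⟩, ?_⟩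
  rw [mul_inv_eq_iff_eq_mul]
  apply Subtype.ext
  show P * t⁻¹ * (x : SpMat F m) = (y : SpMat F m) * (P * t⁻¹)
  rw [mul_assoc, htC.inv htu, ← mul_assoc, hP, mul_assoc]


/-- Over a finite field of odd order and for m ≥ 1, the regular unipotent elements of Sp_2m(F) (u − 1 nilpotent of rank 2m − 1, a single Jordan block) form exactly two conjugacy classes of Sp_2m(F) (one class under the similarity group, which splits in two). -/
theorem result {F : Type*} [Field F] [Fintype F] {q : ℕ} (hF : Fintype.card F = q) (hq : Odd q) {m : ℕ} (hm : 1 ≤ m) : Nat.card {C : ConjClasses ↥(Matrix.symplecticGroup (Fin m) F) // ∃ u : Matrix.symplecticGroup (Fin m) F, ConjClasses.mk u = C ∧ ((u : Matrix (Fin m ⊕ Fin m) (Fin m ⊕ Fin m) F) - 1) ^ (2 * m) = 0 ∧ ((u : Matrix (Fin m ⊕ Fin m) (Fin m ⊕ Fin m) F) - 1).rank = 2 * m - 1} = 2 := by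
  classical
  have hm0 : 0 < m := hm
  have hchar : ringChar F ≠ 2 := (fun h => by
    have := FiniteField.even_card_iff_char_two.1 h
    rw [hF] at this
    exact absurd (Nat.odd_iff.1 hq) (by omega))
  have h2 : (2 : F) ≠ 0 := Ring.two_ne_zero hchar
  obtain ⟨u0, hu0n, hu0p⟩ := CfsgLib.SympOrders.exists_regular_unipotent (F := F) (n := m) hm
  have hu0 : IsRegU (u0 : SpMat F m) :=
    ⟨mem_symplectic_iff_adj.1 u0.2, IsReg.of_pow_ne (by simp; omega) hu0n hu0p⟩
  obtain ⟨lam, hlam⟩ := FiniteField.exists_nonsquare hchar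
  have hlam0 : lam ≠ 0 := fun h => hlam (h ▸ IsSquare.zero)
  let D : F → SpMat F m := fun c => Matrix.fromBlocks 1 0 0 (c • 1)
  have hDmul : ∀ a b, D a * D b = D (a * b) := fun a b => by
    simp [D, Matrix.fromBlocks_multiply, smul_smul, mul_comm]
  have hD1 : D 1 = 1 := by simp [D, Matrix.fromBlocks_one]
  have hDadj : ∀ c, adj (D c) = Matrix.fromBlocks (c • 1) 0 0 1 := fun c => by
    simp [D, adj, Matrix.J, Matrix.fromBlocks_multiply, Matrix.fromBlocks_transpose,
      Matrix.fromBlocks_neg, transpose_smul]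
  have hDD : ∀ c, adj (D c) * D c = c • 1 := fun c => by
    rw [hDadj, ← Matrix.fromBlocks_one, Matrix.fromBlocks_smul]
    simp [D, Matrix.fromBlocks_multiply]
  let u1m : SpMat F m := D lam * (u0 : SpMat F m) * D lam⁻¹
  have hu1s : adj u1m * u1m = 1 := by
    calc adj u1m * u1m = adj (D lam⁻¹) * (adj (u0 : SpMat F m) * (adj (D lam) * D lam) *
          (u0 : SpMat F m)) * D lam⁻¹ := by simp only [u1m, adj_mul, mul_assoc]
      _ = 1 := by
        rw [hDD, mul_smul_comm, mul_one, smul_mul_assoc, hu0.1, mul_smul_comm, smul_mul_assoc,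
          mul_one, hDD, smul_smul, mul_inv_cancel₀ hlam0, one_smul]
  let u1 : Matrix.symplecticGroup (Fin m) F := ⟨u1m, mem_symplectic_iff_adj.2 hu1s⟩
  let δ : (SpMat F m)ˣ := ⟨D lam, D lam⁻¹, by rw [hDmul, mul_inv_cancel₀ hlam0, hD1],
    by rw [hDmul, inv_mul_cancel₀ hlam0, hD1]⟩
  have hu1M : u1m - 1 = (δ : SpMat F m) * ((u0 : SpMat F m) - 1) * ((δ⁻¹ : (SpMat F m)ˣ) : SpMat F m) := by
    rw [mul_sub, sub_mul, mul_one, Units.mul_inv]
    rfl
  have hu1 : IsRegU u1m := by
    refine ⟨hu1s, IsReg.of_pow_ne (by simp; omega) ?_ fun k hk hz => hu0p k hk ?_⟩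
    · obtain ⟨k, hk⟩ := hu0n
      exact ⟨k, by rw [hu1M, Units.conj_pow, hk, mul_zero, zero_mul]⟩
    · rw [hu1M, Units.conj_pow, Units.mul_left_eq_zero, Units.mul_right_eq_zero] at hz
      exact hz
  let S := {C : ConjClasses ↥(Matrix.symplecticGroup (Fin m) F) //
    ∃ u : Matrix.symplecticGroup (Fin m) F, ConjClasses.mk u = C ∧
      ((u : SpMat F m) - 1) ^ (2 * m) = 0 ∧ ((u : SpMat F m) - 1).rank = 2 * m - 1}
  let c0 : S := ⟨ConjClasses.mk u0, u0, rfl, hu0.2.2.1, hu0.2.rank_eq⟩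
  let c1 : S := ⟨ConjClasses.mk u1, u1, rfl, hu1.2.2.1, hu1.2.rank_eq⟩
  have hne : c0 ≠ c1 := by
    intro h
    obtain ⟨g, hg⟩ := isConj_iff.1 (ConjClasses.mk_eq_mk_iff_isConj.1 (congrArg Subtype.val h))
    rw [mul_inv_eq_iff_eq_mul] at hg
    have hg' : (g : SpMat F m) * (u0 : SpMat F m) = u1m * (g : SpMat F m) := congrArg Subtype.val hg
    have hga : adj (g : SpMat F m) * (g : SpMat F m) = 1 := mem_symplectic_iff_adj.1 g.2
    have hga' : (g : SpMat F m) * adj (g : SpMat F m) = 1 := mul_eq_one_comm.1 hga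
    let A := adj (g : SpMat F m) * D lam
    have hA : Com (u0 : SpMat F m) A := by
      show adj (g : SpMat F m) * D lam * (u0 : SpMat F m) = (u0 : SpMat F m) * (adj (g : SpMat F m) * D lam)
      calc adj (g : SpMat F m) * D lam * (u0 : SpMat F m)
          = adj (g : SpMat F m) * u1m * D lam := by
            simp only [u1m, mul_assoc, hDmul, inv_mul_cancel₀ hlam0, hD1, mul_one]
        _ = adj (g : SpMat F m) * (u1m * (g : SpMat F m)) * (adj (g : SpMat F m) * D lam) := by
            rw [← mul_assoc _ (adj (g : SpMat F m)) (D lam)]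
            simp only [mul_assoc]
            rw [← mul_assoc (g : SpMat F m) (adj (g : SpMat F m)), hga', one_mul]
        _ = (u0 : SpMat F m) * (adj (g : SpMat F m) * D lam) := by
            rw [← hg', ← mul_assoc (adj (g : SpMat F m)) (g : SpMat F m), hga, one_mul]
    have hAA : adj A * A = lam • 1 := by
      simp only [A, adj_mul, adj_adj, mul_assoc]
      rw [← mul_assoc (g : SpMat F m), hga', one_mul, hDD]
    obtain ⟨a, ha⟩ := exists_const hm0 hu0 hA
    have h1 := const_mul hu0 (hA.adj hu0) hA (const_adj ha) ha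
    rw [hAA] at h1
    have : lam = a * a := const_unique hm0 hu0 (Com.one.smul lam) (by simp) h1
    exact hlam ⟨a, this⟩
  have hall : ∀ C : S, C = c0 ∨ C = c1 := by
    rintro ⟨C, w, rfl, hw0, hwr⟩
    have hw : IsRegU (w : SpMat F m) :=
      ⟨mem_symplectic_iff_adj.1 w.2, IsReg.of_rank (by simp; omega) hw0 hwr⟩
    obtain ⟨P, hP⟩ := hu0.2.exists_conj hw.2
    rw [mul_sub, sub_mul, mul_one, one_mul, sub_left_inj] at hP
    have hcom : Com (u0 : SpMat F m) (adj (P : SpMat F m) * P) := by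
      have h1 : adj (P : SpMat F m) * adj (w : SpMat F m) = adj (u0 : SpMat F m) * adj (P : SpMat F m) := by
        rw [← adj_mul, ← adj_mul, hP]
      have h3 : adj (P : SpMat F m) * (w : SpMat F m) = (u0 : SpMat F m) * adj (P : SpMat F m) := by
        have := congrArg (fun X => (u0 : SpMat F m) * X * (w : SpMat F m)) h1
        simp only [← mul_assoc, hu0.mul_adj, one_mul] at this
        rw [mul_assoc ((u0 : SpMat F m) * adj (P : SpMat F m)), hw.1, mul_one] at this
        exact this.symm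
      show adj (P : SpMat F m) * P * (u0 : SpMat F m) = (u0 : SpMat F m) * (adj (P : SpMat F m) * P)
      rw [mul_assoc, hP, ← mul_assoc, h3, mul_assoc]
    obtain ⟨c, hc⟩ := exists_const hm0 hu0 hcom
    have hPu : IsUnit (adj (P : SpMat F m) * P) := by
      refine IsUnit.mul ⟨⟨adj (P : SpMat F m), adj ((P⁻¹ : (SpMat F m)ˣ) : SpMat F m), ?_, ?_⟩, rfl⟩ P.isUnit
      · rw [← adj_mul, Units.inv_mul, adj_one]
      · rw [← adj_mul, Units.mul_inv, adj_one]
    have hc0 : c ≠ 0 := const_ne_zero hm0 hc hPu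
    by_cases hsq : IsSquare c
    · left
      obtain ⟨a, rfl⟩ := hsq
      exact Subtype.ext (ConjClasses.mk_eq_mk_iff_isConj.2
        (isConj_of_intertwine hm0 h2 (x := u0) (y := w) hu0 hP (left_ne_zero_of_mul hc0) hcom hc).symm)
    · right
      obtain ⟨a, ha⟩ : IsSquare (c * lam⁻¹) := by
        have h1 := (quadraticChar_neg_one_iff_not_isSquare (a := c)).2 hsq
        have h3 := (quadraticChar_neg_one_iff_not_isSquare (a := lam⁻¹)).2 (by
          rwa [isSquare_inv])
        rw [← quadraticChar_one_iff_isSquare (mul_ne_zero hc0 (inv_ne_zero hlam0)), map_mul, h1, h3]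
        rfl
      have ha0 : a ≠ 0 := left_ne_zero_of_mul (ha ▸ mul_ne_zero hc0 (inv_ne_zero hlam0))
      have hadji : adj (D lam⁻¹) = lam⁻¹ • D lam := by
        rw [hDadj]
        simp [D, Matrix.fromBlocks_smul, smul_smul, inv_mul_cancel₀ hlam0]
      have hP' : ((P : SpMat F m) * D lam⁻¹) * u1m = (w : SpMat F m) * ((P : SpMat F m) * D lam⁻¹) := by
        simp only [u1m, ← mul_assoc]
        rw [mul_assoc (P : SpMat F m) (D lam⁻¹), hDmul, inv_mul_cancel₀ hlam0, hD1, mul_one, hP]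
      have heq : adj ((P : SpMat F m) * D lam⁻¹) * ((P : SpMat F m) * D lam⁻¹) =
          lam⁻¹ • ((δ : SpMat F m) * (adj (P : SpMat F m) * P) * ((δ⁻¹ : (SpMat F m)ˣ) : SpMat F m)) := by
        rw [adj_mul, hadji]
        simp only [smul_mul_assoc, mul_assoc]
        rfl
      have hcom' : Com u1m (adj ((P : SpMat F m) * D lam⁻¹) * ((P : SpMat F m) * D lam⁻¹)) := by
        rw [heq]
        refine Com.smul ?_ _
        show _ * u1m = u1m * _
        rw [show u1m = (δ : SpMat F m) * (u0 : SpMat F m) * ((δ⁻¹ : (SpMat F m)ˣ) : SpMat F m) from rfl]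
        simp only [mul_assoc, Units.inv_mul_cancel_left]
        rw [← mul_assoc (adj (P : SpMat F m)) (P : SpMat F m), ← mul_assoc (adj (P : SpMat F m)) (P : SpMat F m),
          ← mul_assoc (adj (P : SpMat F m) * P) (u0 : SpMat F m), show _ = _ from hcom, mul_assoc]
      refine Subtype.ext (ConjClasses.mk_eq_mk_iff_isConj.2
        (isConj_of_intertwine hm0 h2 (x := u1) (y := w) hu1 hP' ha0 hcom' ?_).symm)
      rw [heq, show (a * a) • (1 : SpMat F m) =
        lam⁻¹ • ((δ : SpMat F m) * (c • 1) * ((δ⁻¹ : (SpMat F m)ˣ) : SpMat F m)) by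
          rw [mul_smul_comm, mul_one, smul_mul_assoc, Units.mul_inv, smul_smul, mul_comm lam⁻¹, ha]]
      rw [← smul_sub, ← sub_mul, ← mul_sub]
      refine IsNilpotent.smul ?_ _
      obtain ⟨k, hk⟩ := hc
      exact ⟨k, by rw [Units.conj_pow, hk, mul_zero, zero_mul]⟩
  show Nat.card S = 2
  rw [Nat.card_eq_two_iff]
  exact ⟨c0, c1, hne, Set.eq_univ_of_forall fun C => hall C⟩

end Cfsg.Agent.S2591
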