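import Cfsg.Statements.S2594
import Cfsg.Agent.Forms.SymplecticOrder

set_option autoImplicit false
open Cfsg

namespace Cfsg.Agent.S2594


open CfsgLib.Forms Matrix in
/-- A symplectic matrix with `rank (t - 1) = 1` is a transvection. -/
theorem exists_transvection {F : Type*} [Field F] {m : ℕ}
    (t : Matrix.symplecticGroup (Fin m) F)
    (ht : ((t : Matrix (Fin m ⊕ Fin m) (Fin m ⊕ Fin m) F) - 1).rank = 1) :
    ∃ (w : Fin m ⊕ Fin m → F) (c : F), w ≠ 0 ∧ c ≠ 0 ∧
      ∀ x, t.1 *ᵥ x = x + (c * sympBilin m F x w) • w := by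
  set N := t.1 - 1 with hN
  obtain ⟨⟨w, hw⟩, hw0, hspan⟩ := (finrank_eq_one_iff' (K := F)
    (V := LinearMap.range N.mulVecLin)).1 ht
  have hw' : w ≠ 0 := fun h => hw0 (Subtype.ext h)
  have hcx : ∀ x, ∃ a : F, t.1 *ᵥ x = x + a • w := fun x => by
    obtain ⟨a, ha⟩ := hspan ⟨N *ᵥ x, x, rfl⟩
    refine ⟨a, ?_⟩
    have h : a • w = t.1 *ᵥ x - x := by
      rw [show t.1 *ᵥ x - x = N *ᵥ x by rw [hN, Matrix.sub_mulVec, Matrix.one_mulVec]]
      exact congrArg Subtype.val ha
    rw [h, add_sub_cancel]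
  choose a ha using hcx
  obtain ⟨y, hy⟩ : ∃ y, sympBilin m F w y ≠ 0 := by
    by_contra h
    exact hw' (sympBilin_nondegenerate.1 w fun v => not_not.1 fun hv => h ⟨v, hv⟩)
  set β := sympBilin m F w y with hβ
  have key : ∀ x, a x = -(a y / β) * sympBilin m F x w := by
    intro x
    have h := sympForm_map t x y
    rw [← sympBilin_apply, ← sympBilin_apply, ha, ha] at h
    simp only [map_add, map_smul, LinearMap.add_apply, LinearMap.smul_apply, smul_eq_mul,
      sympBilin_isAlt w, mul_zero, add_zero, ← hβ] at h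
    field_simp
    linear_combination h
  refine ⟨w, -(a y / β), hw', fun h0 => ?_, fun x => by rw [ha, key]⟩
  have h0' : ∀ x, N *ᵥ x = 0 := fun x => by
    rw [hN, Matrix.sub_mulVec, Matrix.one_mulVec, ha, key, h0, zero_mul, zero_smul, add_zero, sub_self]
  obtain ⟨x, hx⟩ := hw
  exact hw' (by rw [← hx]; exact h0' x)

open CfsgLib.Forms Matrix in
theorem mem_centralizer_iff {F : Type*} [Field F] [CharP F 2] {m : ℕ}
    {t : Matrix.symplecticGroup (Fin m) F} {w : Fin m ⊕ Fin m → F} {c : F} (hw : w ≠ 0) (hc : c ≠ 0)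
    (ht : ∀ x, t.1 *ᵥ x = x + (c * sympBilin m F x w) • w) (g : Matrix.symplecticGroup (Fin m) F) :
    g ∈ Subgroup.centralizer ({t} : Set ↥(Matrix.symplecticGroup (Fin m) F)) ↔
      (spEquivIso m F g).1 w = w := by
  rw [Subgroup.mem_centralizer_singleton_iff, spEquivIso_apply]
  have hB : ∀ x y, sympBilin m F (g.1 *ᵥ x) (g.1 *ᵥ y) = sympBilin m F x y := fun x y => by
    rw [sympBilin_apply, sympBilin_apply, sympForm_map]
  constructor
  · intro h
    obtain ⟨y, hy⟩ : ∃ y, sympBilin m F y w ≠ 0 := by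
      by_contra hh
      exact hw (sympBilin_nondegenerate.2 w fun v => not_not.1 fun hv => hh ⟨v, hv⟩)
    have key : ∀ x, sympBilin m F x w • (g.1 *ᵥ w) = sympBilin m F (g.1 *ᵥ x) w • w := by
      intro x
      have h1 : g.1 *ᵥ (t.1 *ᵥ x) = t.1 *ᵥ (g.1 *ᵥ x) := by
        rw [Matrix.mulVec_mulVec, Matrix.mulVec_mulVec]
        exact congrArg (fun z : Matrix.symplecticGroup (Fin m) F => z.1 *ᵥ x) h
      rw [ht, ht, Matrix.mulVec_add, Matrix.mulVec_smul, add_right_inj, mul_smul, mul_smul] at h1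
      exact smul_right_injective _ hc h1
    obtain ⟨s, hs⟩ : ∃ s : F, g.1 *ᵥ w = s • w :=
      ⟨(sympBilin m F y w)⁻¹ * sympBilin m F (g.1 *ᵥ y) w, by
        rw [mul_smul, ← key, inv_smul_smul₀ hy]⟩
    have hss : sympBilin m F y w * (s * s - 1) = 0 := by
      have h1 := key y
      rw [hs, smul_smul] at h1
      have h2 := smul_left_injective F hw h1
      have h3 := hB y w
      rw [hs, map_smul, smul_eq_mul] at h3
      linear_combination s * h2 + h3
    have hsq : s * s = 1 := sub_eq_zero.1 ((mul_eq_zero.1 hss).resolve_left hy)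
    have hs1 : s = 1 := by
      rcases mul_self_eq_one_iff.1 hsq with e | e
      · exact e
      · rw [e, CharTwo.neg_eq]
    rw [hs, hs1, one_smul]
  · intro h
    refine sp_ext fun x => ?_
    show (g.1 * t.1) *ᵥ x = (t.1 * g.1) *ᵥ x
    rw [← Matrix.mulVec_mulVec, ← Matrix.mulVec_mulVec, ht, ht, Matrix.mulVec_add, Matrix.mulVec_smul,
      h]
    conv_rhs => rw [← h, hB, h]


/-- Over a finite field with q elements, q even, an element t of Sp_2m(F) with rank(t − 1) = 1 (a symplectic transvection) has centraliser in Sp_2m(F) of order q^(2m−1) · |Sp_(2m−2)(q)| = q^(2m−1) · q^((m−1)²) · Π_(i=1)^(m−1) (q^(2i) − 1). -/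
theorem result {F : Type*} [Field F] [Fintype F] [CharP F 2] {q : ℕ} (hF : Fintype.card F = q) {m : ℕ} (hm : 1 ≤ m) (t : Matrix.symplecticGroup (Fin m) F) (ht : ((t : Matrix (Fin m ⊕ Fin m) (Fin m ⊕ Fin m) F) - 1).rank = 1) : Nat.card ↥(Subgroup.centralizer ({t} : Set ↥(Matrix.symplecticGroup (Fin m) F))) = q ^ (2 * m - 1) * (q ^ ((m - 1) ^ 2) * ∏ i : Fin (m - 1), (q ^ (2 * ((i : ℕ) + 1)) - 1)) := by
  obtain ⟨w, c, hw, hc, htx⟩ := exists_transvection t ht
  obtain ⟨k, rfl⟩ : ∃ k, m = k + 1 := ⟨m - 1, by omega⟩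
  subst hF
  let B := CfsgLib.Forms.sympBilin (k + 1) F
  have e1 : Nat.card ↥(Subgroup.centralizer ({t} : Set ↥(Matrix.symplecticGroup (Fin (k + 1)) F))) =
      Nat.card (MulAction.stabilizer (CfsgLib.Forms.isoGroup B) w) :=
    Nat.card_congr ((CfsgLib.Forms.spEquivIso (k + 1) F).toEquiv.subtypeEquiv fun g => by
      rw [mem_centralizer_iff hw hc htx]
      rfl)
  have horb : MulAction.orbit (CfsgLib.Forms.isoGroup B) w = {0}ᶜ := by
    ext u
    constructor
    · rintro ⟨g, rfl⟩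
      intro h
      exact hw (g.1.injective (h.trans (map_zero g.1).symm))
    · intro hu
      have hpair : ∀ u : Fin (k + 1) ⊕ Fin (k + 1) → F, u ≠ 0 → ∃ v, B u v = 1 := fun u hu => by
        obtain ⟨v, hv⟩ : ∃ v, B u v ≠ 0 := by
          by_contra h
          exact hu (CfsgLib.Forms.sympBilin_nondegenerate.1 u fun v => not_not.1 fun hv => h ⟨v, hv⟩)
        exact ⟨(B u v)⁻¹ • v, by rw [map_smul, smul_eq_mul, inv_mul_cancel₀ hv]⟩
      obtain ⟨v, hv⟩ := hpair w hw
      obtain ⟨v', hv'⟩ := hpair u hu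
      obtain ⟨g, hg, -⟩ := CfsgLib.Forms.exists_iso_pair B CfsgLib.Forms.sympBilin_isAlt
        CfsgLib.Forms.sympBilin_nondegenerate hv hv'
      exact ⟨g, hg⟩
  have hcard := CfsgLib.Forms.card_eq_orbit_mul_stabilizer (G := CfsgLib.Forms.isoGroup B) w
  rw [horb, ← e1, ← Nat.card_congr (CfsgLib.Forms.spEquivIso (k + 1) F).toEquiv,
    CfsgLib.Forms.card_symplecticGroup] at hcard
  have hne : Nat.card ({0}ᶜ : Set (Fin (k + 1) ⊕ Fin (k + 1) → F)) =
      Fintype.card F ^ (2 * (k + 1)) - 1 := by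
    classical
    rw [Nat.card_coe_set_eq, Set.ncard_compl, Set.ncard_singleton, Nat.card_fun,
      Nat.card_eq_fintype_card, Nat.card_eq_fintype_card]
    simp [two_mul]
  rw [hne, Finset.prod_range_succ] at hcard
  have hpos : 0 < Fintype.card F ^ (2 * (k + 1)) - 1 :=
    Nat.sub_pos_of_lt (Nat.one_lt_pow (by omega) Fintype.one_lt_card)
  apply Nat.eq_of_mul_eq_mul_left hpos
  rw [← hcard, Nat.add_sub_cancel, Fin.prod_univ_eq_prod_range (fun i => Fintype.card F ^ (2 * (i + 1)) - 1) k,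
    show (k + 1) ^ 2 = (2 * (k + 1) - 1) + k ^ 2 by
      rw [show 2 * (k + 1) - 1 = 2 * k + 1 by omega]; ring,
    pow_add]
  ring

end Cfsg.Agent.S2594
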