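import Cfsg.Statements.S2599

set_option autoImplicit false
open Cfsg

namespace Cfsg.Agent.S2599



/-- An irreducible invariant subspace of a semisimple isometry is non-degenerate or totally singular: let Q be a quadratic form on F^n (F finite of characteristic p) with non-degenerate polar form f, x an isometry of Q of order prime to p, and U a non-zero x-invariant subspace containing no x-invariant subspace other than 0 and U. Then U meets its f-orthogonal trivially, or Q vanishes on U, or p = 2, U is a line spanned by a non-singular vector and x fixes U pointwise. -/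
theorem result {F : Type*} [Field F] [Fintype F] {p : ℕ} [Fact p.Prime] [CharP F p] {n : ℕ} (Q : QuadraticForm F (Fin n → F)) (hQ : (QuadraticMap.polarBilin Q).Nondegenerate) (x : ↥(Cfsg.isometryGroup F ⇑Q)) (hx : (orderOf x).Coprime p) (U : Submodule F (Fin n → F)) (hU0 : U ≠ ⊥) (hUx : ∀ u ∈ U, ((x : Matrix.GeneralLinearGroup (Fin n) F) : Matrix (Fin n) (Fin n) F).mulVec u ∈ U) (hirr : ∀ W : Submodule F (Fin n → F), W ≤ U → (∀ w ∈ W, ((x : Matrix.GeneralLinearGroup (Fin n) F) : Matrix (Fin n) (Fin n) F).mulVec w ∈ W) → W = ⊥ ∨ W = U) : U ⊓ LinearMap.BilinForm.orthogonal (QuadraticMap.polarBilin Q) U = ⊥ ∨ (∀ u ∈ U, Q u = 0) ∨ (p = 2 ∧ Module.finrank F U = 1 ∧ (∃ u ∈ U, Q u ≠ 0) ∧ ∀ u ∈ U, ((x : Matrix.GeneralLinearGroup (Fin n) F) : Matrix (Fin n) (Fin n) F).mulVec u = u) := by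
  classical
  set M : Matrix (Fin n) (Fin n) F :=
    ((x : Matrix.GeneralLinearGroup (Fin n) F) : Matrix (Fin n) (Fin n) F) with hM
  have hQx : ∀ v, Q (M.mulVec v) = Q v := fun v => x.2 v v
  have hBx : ∀ u v, QuadraticMap.polarBilin Q (M.mulVec u) (M.mulVec v)
      = QuadraticMap.polarBilin Q u v := by
    intro u v
    simp only [QuadraticMap.polarBilin_apply_apply, QuadraticMap.polar]
    rw [← Matrix.mulVec_add, hQx, hQx, hQx]
  have hinjM : Function.Injective M.mulVec :=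
    Matrix.mulVec_injective_iff_isUnit.2 (Units.isUnit _)
  have hUeq : U.map M.mulVecLin = U := by
    refine Submodule.eq_of_le_of_finrank_le ?_ ?_
    · rintro _ ⟨u, hu, rfl⟩; exact hUx u hu
    · rw [← LinearEquiv.finrank_eq (Submodule.equivMapOfInjective M.mulVecLin hinjM U)]
  have hinv : ∀ w ∈ U ⊓ LinearMap.BilinForm.orthogonal (QuadraticMap.polarBilin Q) U,
      M.mulVec w ∈ U ⊓ LinearMap.BilinForm.orthogonal (QuadraticMap.polarBilin Q) U := by
    rintro w ⟨hwU, hw⟩
    refine ⟨hUx w hwU, fun u hu => ?_⟩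
    rw [← hUeq] at hu
    obtain ⟨u', hu', rfl⟩ := hu
    show QuadraticMap.polarBilin Q (M.mulVec u') (M.mulVec w) = 0
    rw [hBx]; exact hw u' hu'
  rcases hirr _ inf_le_left hinv with h | h
  · exact Or.inl h
  right
  have hsing : ∀ u ∈ U, ∀ v ∈ U, QuadraticMap.polar ⇑Q u v = 0 := by
    intro u hu v hv
    exact (inf_eq_left.1 h hv) u hu
  by_cases hQU : ∀ u ∈ U, Q u = 0
  · exact Or.inl hQU
  right
  obtain ⟨u0, hu0, hu0Q⟩ : ∃ u ∈ U, Q u ≠ 0 := by
    by_contra hc
    exact hQU fun u hu => by_contra fun h' => hc ⟨u, hu, h'⟩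
  have h20 : (2 : F) = 0 := by
    by_contra h2
    have := hsing u0 hu0 u0 hu0
    rw [QuadraticMap.polar_self, nsmul_eq_mul, Nat.cast_ofNat] at this
    exact hu0Q ((mul_eq_zero.1 this).resolve_left h2)
  have hp : p = 2 := by
    have : p ∣ 2 := (CharP.cast_eq_zero_iff F p 2).1 (by exact_mod_cast h20)
    exact (Nat.prime_dvd_prime_iff_eq Fact.out Nat.prime_two).1 this
  subst hp
  let W : Submodule F (Fin n → F) :=
    { carrier := {w | w ∈ U ∧ Q w = 0}
      add_mem' := by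
        rintro a b ⟨ha, ha0⟩ ⟨hb, hb0⟩
        exact ⟨U.add_mem ha hb, by rw [QuadraticMap.map_add ⇑Q a b, ha0, hb0, hsing a ha b hb]; simp⟩
      zero_mem' := ⟨U.zero_mem, map_zero Q⟩
      smul_mem' := by
        rintro c w ⟨hw, hw0⟩
        exact ⟨U.smul_mem c hw, by rw [QuadraticMap.map_smul, hw0, smul_zero]⟩ }
  have hW : W = ⊥ := by
    refine (hirr W (fun w hw => hw.1) (fun w hw => ⟨hUx w hw.1, (hQx w).trans hw.2⟩)).resolve_right ?_
    intro hWU
    rw [← hWU] at hu0
    exact hu0Q hu0.2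
  have hline : ∀ v ∈ U, ∃ c : F, v = c • u0 := by
    intro v hv
    obtain ⟨c, hc⟩ := (FiniteField.isSquare_of_char_two (ringChar.eq F 2) (Q v / Q u0) : IsSquare _)
    refine ⟨c, sub_eq_zero.1 ((Submodule.mem_bot F).1 (hW ▸ (⟨U.sub_mem hv (U.smul_mem c hu0), ?_⟩ :
      v - c • u0 ∈ W)))⟩
    rw [sub_eq_add_neg, ← neg_smul, CharTwo.neg_eq, QuadraticMap.map_add ⇑Q v (c • u0),
      hsing v hv _ (U.smul_mem c hu0), QuadraticMap.map_smul, smul_eq_mul, ← hc,
      div_mul_cancel₀ _ hu0Q, add_zero, CharTwo.add_self_eq_zero]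
  have hne : u0 ≠ 0 := by rintro rfl; exact hu0Q (map_zero Q)
  refine ⟨rfl, ?_, ⟨u0, hu0, hu0Q⟩, ?_⟩
  · have : U = F ∙ u0 := le_antisymm
      (fun v hv => by obtain ⟨c, rfl⟩ := hline v hv
                      exact Submodule.mem_span_singleton.2 ⟨c, rfl⟩)
      ((Submodule.span_singleton_le_iff_mem _ _).2 hu0)
    rw [this, finrank_span_singleton hne]
  · intro u hu
    refine sub_eq_zero.1 ((Submodule.mem_bot F).1 (hW ▸ (⟨U.sub_mem (hUx u hu) hu, ?_⟩ :
      M.mulVec u - u ∈ W)))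
    rw [sub_eq_add_neg, ← neg_one_smul F u, CharTwo.neg_eq, one_smul,
      QuadraticMap.map_add ⇑Q (M.mulVec u) u, hsing _ (hUx u hu) _ hu, hQx, add_zero,
      CharTwo.add_self_eq_zero]

end Cfsg.Agent.S2599
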