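import Cfsg.Statements.S2601
import Cfsg.Agent.OutPSL.Basic

set_option autoImplicit false
open Cfsg

namespace Cfsg.Agent.S2601

open CfsgLib.OutPSL CfsgLib.AutPSL


/-- Structure of the outer automorphism group of PSL_n(q), n ≥ 3, q = p^f: it has a normal cyclic subgroup of order gcd(n, q − 1) (the diagonal automorphisms) whose quotient is the direct product of a cyclic group of order f (field automorphisms) and a group of order 2 (the inverse-transpose graph automorphism). -/
theorem result {F : Type*} [Field F] [Fintype F] {p f n : ℕ} [Fact p.Prime] (hf : 1 ≤ f) (hF : Fintype.card F = p ^ f) (hn : 3 ≤ n) : ∃ φ : Cfsg.Out (Matrix.ProjectiveSpecialLinearGroup (Fin n) F) →* Multiplicative (ZMod f × ZMod 2), Function.Surjective φ ∧ IsCyclic φ.ker ∧ Nat.card φ.ker = Nat.gcd n (p ^ f - 1) := by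
  haveI : CharP F p := charP_of_card_eq_prime_pow hF
  haveI : Nontrivial (Fin n) := Fin.nontrivial_iff_two_le.2 (by omega)
  have h3 : 3 ≤ Fintype.card (Fin n) := by rw [Fintype.card_fin]; exact hn
  have hcases : ∀ e : Multiplicative (ZMod 2), e = 1 ∨ e = Multiplicative.ofAdd 1 := by decide
  have hne : (Multiplicative.ofAdd (1 : ZMod 2)) ≠ 1 := by decide
  let sel : Multiplicative (ZMod 2) →* MulAut (Matrix.SpecialLinearGroup (Fin n) F) :=
    MonoidHom.mk' (fun e => if e = 1 then 1 else invTransSL) (fun a b => by
      have h2 : Multiplicative.ofAdd (1 : ZMod 2) * Multiplicative.ofAdd 1 = 1 := by decide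
      rcases hcases a with rfl | rfl <;> rcases hcases b with rfl | rfl
      · simp
      · simp
      · simp
      · rw [h2, if_pos rfl, if_neg hne, invTransSL_mul_self])
  have hsel1 : sel (Multiplicative.ofAdd 1) = invTransSL := by
    show (if Multiplicative.ofAdd (1 : ZMod 2) = 1 then (1 : MulAut (Matrix.SpecialLinearGroup (Fin n) F)) else invTransSL) = invTransSL
    rw [if_neg hne]
  obtain ⟨π, hπ, hker⟩ := exists_proj p sel
    (fun β => by
      obtain ⟨g, σ, γ, hγ, rfl⟩ := exists_form (by omega) β
      rcases hγ with rfl | rfl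
      · exact ⟨g, σ, 1, by rw [map_one sel]⟩
      · exact ⟨g, σ, Multiplicative.ofAdd 1, by rw [hsel1]⟩)
    (fun {g g' σ σ' e e'} h => by
      rcases hcases e with rfl | rfl <;> rcases hcases e' with rfl | rfl
      · rw [map_one sel, mul_one, mul_one] at h
        exact ⟨(semilinear_unique h).1, rfl⟩
      · rw [map_one sel, mul_one, hsel1] at h
        exact absurd h.symm (semilinear_ne_mul_invTrans h3)
      · rw [map_one sel, mul_one, hsel1] at h
        exact absurd h (semilinear_ne_mul_invTrans h3)
      · rw [hsel1] at h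
        exact ⟨(semilinear_unique (mul_right_cancel h)).1, rfl⟩)
    (fun e g => by
      rcases hcases e with rfl | rfl
      · exact ⟨g, by rw [map_one sel, one_mul, mul_one]⟩
      · exact ⟨invTransGL g, by rw [hsel1, invTransSL_mul_conjSL]⟩)
    (fun e σ => by
      rcases hcases e with rfl | rfl
      · rw [map_one sel, one_mul, mul_one]
      · rw [hsel1, invTransSL_mul_fieldSL])
  obtain ⟨e1⟩ := exists_ringEquiv_mulEquiv (F := F) hF hf
  obtain ⟨φ, h1, h2, h3'⟩ := exists_out_hom p ((e1.prodCongr (MulEquiv.refl _)).trans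
    (MulEquiv.prodMultiplicative (ZMod f) (ZMod 2)).symm) π hπ hker
  exact ⟨φ, h1, h2, by rw [h3', hF]⟩

end Cfsg.Agent.S2601
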