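import Cfsg.Statements.S2602
import Cfsg.Agent.OutPSL.Basic

set_option autoImplicit false
open Cfsg

namespace Cfsg.Agent.S2602

open CfsgLib.OutPSL CfsgLib.AutPSL


/-- Structure of the outer automorphism group of PSL_2(q), q = p^f ≥ 4: it has a normal cyclic subgroup of order gcd(2, q − 1) (diagonal automorphisms) with cyclic quotient of order f (field automorphisms); there is no graph automorphism in dimension 2. -/
theorem result {F : Type*} [Field F] [Fintype F] {p f : ℕ} [Fact p.Prime] (hf : 1 ≤ f) (hF : Fintype.card F = p ^ f) (h4 : 4 ≤ p ^ f) : ∃ φ : Cfsg.Out (Matrix.ProjectiveSpecialLinearGroup (Fin 2) F) →* Multiplicative (ZMod f), Function.Surjective φ ∧ IsCyclic φ.ker ∧ Nat.card φ.ker = Nat.gcd 2 (p ^ f - 1) := by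
  haveI : CharP F p := charP_of_card_eq_prime_pow hF
  obtain ⟨π, hπ, hker⟩ := exists_proj p (1 : Unit →* MulAut (Matrix.SpecialLinearGroup (Fin 2) F))
    (fun β => by
      obtain ⟨g, σ, γ, hγ, rfl⟩ := exists_form (le_refl 2) β
      rcases hγ with rfl | rfl
      · exact ⟨g, σ, (), by simp⟩
      · obtain ⟨w, hw⟩ := invTransSL_fin_two (F := F)
        refine ⟨g * mapGL σ w, σ, (), ?_⟩
        rw [hw, mul_assoc, fieldSL_mul_conjSL, ← mul_assoc, ← map_mul]
        simp)
    (fun {g g' σ σ' e e'} h => by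
      simp only [MonoidHom.one_apply, mul_one] at h
      exact ⟨(semilinear_unique h).1, rfl⟩)
    (fun e g => ⟨g, by simp⟩) (fun e σ => by simp)
  obtain ⟨e1⟩ := exists_ringEquiv_mulEquiv (F := F) hF hf
  obtain ⟨φ, h1, h2, h3⟩ := exists_out_hom p (MulEquiv.prodUnique.trans e1) π hπ hker
  exact ⟨φ, h1, h2, by rw [h3, hF]⟩

end Cfsg.Agent.S2602
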