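import Cfsg.Statements.S2603
import Cfsg.Agent.AutPSU.AutOrder
import Cfsg.Agent.OutPSL.Basic

set_option autoImplicit false
open Cfsg

namespace Cfsg.Agent.S2603


open CfsgLib.AutPSU


/-- Structure of the outer automorphism group of PSU_n(q), n ≥ 3, (n, q) ≠ (3, 2), q = p^f, realised over the field with q² elements: it has a normal cyclic subgroup of order gcd(n, q + 1) (diagonal automorphisms) with cyclic quotient of order 2f (generated by the Frobenius field automorphism of the field with q² elements, whose f-th power is the graph automorphism). -/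
theorem result {K : Type*} [Field K] [Fintype K] {p f q n : ℕ} [Fact p.Prime] (hf : 1 ≤ f) (hq : q = p ^ f) (hK : Fintype.card K = q ^ 2) (hn : 3 ≤ n) (h32 : ¬ (n = 3 ∧ q = 2)) : ∃ φ : Cfsg.Out (Cfsg.PSU n K q) →* Multiplicative (ZMod (2 * f)), Function.Surjective φ ∧ IsCyclic φ.ker ∧ Nat.card φ.ker = Nat.gcd n (q + 1) := by
  classical
  haveI := finite_mulAut (F := K) (n := n) (q := q)
  obtain ⟨π, hπs, hπk, hπe⟩ := exists_galHom (F := K) hK hn h32
  have hK' : Fintype.card K = p ^ (2 * f) := by rw [hK, hq, ← pow_mul, mul_comm]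
  obtain ⟨e⟩ := CfsgLib.OutPSL.exists_ringEquiv_mulEquiv (F := K) (p := p) hK' (by omega)
  let N := Cfsg.Inn (Cfsg.PSU n K q)
  let φd : ↥(Cfsg.GU n K q) →* MulAut (Cfsg.PSU n K q) := innDiagHom (F := K) (n := n) (q := q)
  have hN : N = (suToGU (F := K) (n := n) (q := q)).range.map φd := inn_eq_map
  have hNle : N ≤ π.ker := by
    rw [hπk, inndiagPSU_eq, hN]
    exact Subgroup.map_le_range φd _
  let π' : Cfsg.Out (Cfsg.PSU n K q) →* (K ≃+* K) := QuotientGroup.lift N π hNle
  let φ : Cfsg.Out (Cfsg.PSU n K q) →* Multiplicative (ZMod (2 * f)) := e.toMonoidHom.comp π'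
  have hφs : Function.Surjective φ := e.surjective.comp (QuotientGroup.lift_surjective_of_surjective N π hπs hNle)
  refine ⟨φ, hφs, ?_, ?_⟩
  · let ψ : ↥(Cfsg.GU n K q) →* Cfsg.Out (Cfsg.PSU n K q) := (QuotientGroup.mk' N).comp φd
    have hψ1 : ∀ g, g ∈ (detGU (F := K) (n := n) hK).ker → ψ g = 1 := by
      intro g hg
      rw [detGU_ker hK] at hg
      exact (QuotientGroup.eq_one_iff _).2 (hN.ge ⟨g, hg, rfl⟩)
    obtain ⟨c, hc⟩ := IsCyclic.exists_generator (α := normOne K q)
    obtain ⟨g0, hg0⟩ := detGU_surjective (F := K) (n := n) hK (by omega) c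
    have hker : ∀ x : φ.ker, ∃ j : ℤ, ψ g0 ^ j = (x : Cfsg.Out (Cfsg.PSU n K q)) := by
      rintro ⟨x, hx⟩
      obtain ⟨β, rfl⟩ := QuotientGroup.mk_surjective x
      have hβ : β ∈ φd.range := by
        rw [← inndiagPSU_eq, ← hπk, MonoidHom.mem_ker]
        exact (map_eq_one_iff e e.injective).1 hx
      obtain ⟨g, rfl⟩ := hβ
      obtain ⟨j, hj⟩ := Subgroup.mem_zpowers_iff.1 (hc (detGU hK g))
      refine ⟨j, ?_⟩
      have h1 : ψ ((g0 ^ j)⁻¹ * g) = 1 := hψ1 _ (by
        rw [MonoidHom.mem_ker, map_mul, map_inv, map_zpow, hg0, hj, inv_mul_cancel])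
      rw [map_mul, map_inv, map_zpow] at h1
      exact inv_mul_eq_one.1 h1
    have hg0mem : ψ g0 ∈ φ.ker := by
      have : φd g0 ∈ π.ker := hπk.symm ▸ (inndiagPSU_eq (F := K) (n := n) (q := q)).symm ▸ ⟨g0, rfl⟩
      show e (π (φd g0)) = 1
      rw [MonoidHom.mem_ker.1 this, map_one]
    refine ⟨⟨ψ g0, hg0mem⟩, fun x => ?_⟩
    obtain ⟨j, hj⟩ := hker x
    exact ⟨j, Subtype.ext hj⟩
  · have hinn : Nat.card N = Nat.card (Cfsg.PSU n K q) :=
      (Nat.card_congr (MonoidHom.ofInjective (conj_injective (F := K) hK hn h32)).toEquiv).symm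
    have h1 := N.card_eq_card_quotient_mul_card_subgroup
    have h2 := φ.ker.card_mul_index
    rw [Subgroup.index_ker, MonoidHom.range_eq_top.2 hφs, Subgroup.card_top] at h2
    have hG : Nat.card (K ≃+* K) = Nat.card (Multiplicative (ZMod (2 * f))) := Nat.card_congr e.toEquiv
    rw [card_aut_psu hK hn h32, hinn, hG, ← h2] at h1
    have hp1 : 0 < Nat.card (Multiplicative (ZMod (2 * f))) := by
      haveI : NeZero (2 * f) := ⟨by omega⟩
      exact Nat.card_pos
    have hp2 : 0 < Nat.card (Cfsg.PSU n K q) := by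
      haveI : Finite (Cfsg.PSU n K q) := Quotient.finite _
      exact Nat.card_pos
    exact Nat.eq_of_mul_eq_mul_right hp1 (Nat.eq_of_mul_eq_mul_right hp2 h1.symm)

end Cfsg.Agent.S2603
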