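import Cfsg.Statements.S2604
import Cfsg.Agent.OutPOmega.Std

set_option autoImplicit false
open Cfsg

namespace Cfsg.Agent.S2604



/-- Outer automorphism group of the simple orthogonal group Ω_(2m+1)(q), m ≥ 3, q = p^f odd: it is the direct product of a group of order 2 (diagonal automorphisms, from SO) and a cyclic group of order f (field automorphisms). -/
theorem result {F : Type*} [Field F] [Fintype F] {p f m : ℕ} [Fact p.Prime] (hf : 1 ≤ f) (hF : Fintype.card F = p ^ f) (hp : p ≠ 2) (hm : 3 ≤ m) : Nonempty (Cfsg.Out (Cfsg.POmega F (Cfsg.quadFormOdd m F)) ≃* Multiplicative (ZMod 2 × ZMod f)) := by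
  classical
  have hch : CharP F p := CfsgLib.OutPOmega.charP_of_card hF
  have h2 : (2 : F) ≠ 0 := Ring.two_ne_zero (by rw [ringChar.eq F p]; exact hp)
  rw [← CfsgLib.StdForms.coe_oddQ]
  have hcard : Fintype.card (Unit ⊕ (Fin m ⊕ Fin m)) = 2 * m + 1 := by simp; ring
  let P := CfsgLib.Forms4.oddPairs (F := F) m (by omega)
  have hsurj : Function.Surjective (CfsgLib.OutPOmega.outHom ⇑(CfsgLib.StdForms.oddQ m F)) :=
    CfsgLib.OutPOmega.outHom_surjective
      ((CfsgLib.AutPOmega.ctx_oddQ hm h2).exists_induced (CfsgLib.AutPOmega.noTriality_oddQ h2))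
  obtain ⟨Φ, hΦ⟩ := CfsgLib.OutPOmega.exists_fieldGen_of_sdet hF hf P
    fun σ _ v => CfsgLib.OutPOmega.frob_odd m σ v
  exact CfsgLib.OutPOmega.out_odd h2 (CfsgLib.StdForms.oddQ_nondegenerate h2 m) (by omega) P hsurj
    ⟨m, hcard⟩ Φ hΦ

end Cfsg.Agent.S2604
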