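import Cfsg.Statements.S2605
import Cfsg.Agent.OutPOmega.CharTwo

set_option autoImplicit false
open Cfsg

namespace Cfsg.Agent.S2605



/-- Outer automorphism group of PΩ⁻_2m(q), m ≥ 4, q = 2^f: cyclic of order 2f, generated by a semilinear map inducing the Frobenius automorphism of the field (its f-th power is a graph automorphism, an orthogonal transvection). -/
theorem result {F : Type*} [Field F] [Fintype F] {f m : ℕ} (hf : 1 ≤ f) (hF : Fintype.card F = 2 ^ f) (hm : 4 ≤ m) (a b : F) (hab : ∀ z₁ z₂ : F, z₁ ^ 2 + a * z₁ * z₂ + b * z₂ ^ 2 = 0 → z₁ = 0 ∧ z₂ = 0) : IsCyclic (Cfsg.Out (Cfsg.POmega F (Cfsg.quadFormMinus (m - 1) F a b))) ∧ Nat.card (Cfsg.Out (Cfsg.POmega F (Cfsg.quadFormMinus (m - 1) F a b))) = 2 * f := by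
  obtain ⟨k, rfl⟩ : ∃ k, m = k + 1 := ⟨m - 1, by omega⟩
  rw [Nat.add_sub_cancel, ← CfsgLib.StdForms.coe_minusQ]
  have : Fact (Nat.Prime 2) := ⟨Nat.prime_two⟩
  have hch : CharP F 2 := CfsgLib.OutPOmega.charP_of_card hF
  have hn : 5 ≤ Fintype.card ((Fin k ⊕ Fin k) ⊕ Fin 2) := by simp; omega
  let P := CfsgLib.Forms4.minusPairs k (by omega) a b
  have hQ := CfsgLib.StdForms.minusQ_nondegenerate k (CfsgLib.Forms4.disc_ne_zero hab)
  have hsurj : Function.Surjective (CfsgLib.OutPOmega.outHom ⇑(CfsgLib.StdForms.minusQ k F a b)) :=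
    CfsgLib.OutPOmega.outHom_surjective
      ((CfsgLib.AutPOmega.ctx_minusQ (by omega) hab).exists_induced
        (CfsgLib.AutPOmega.noTriality_minusQ hab))
  obtain ⟨Φ, hΦ⟩ := CfsgLib.OutPOmega.exists_minus_fieldGen_charTwo hab hF hf k hn P
  exact CfsgLib.OutPOmega.out_charTwo_cyclic hQ hn P hsurj hf Φ hΦ

end Cfsg.Agent.S2605
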