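import Cfsg.Statements.S2606
import Cfsg.Agent.OutPOmega.Std

set_option autoImplicit false
open Cfsg

namespace Cfsg.Agent.S2606



/-- Outer automorphism group of PΩ⁻_2m(q), m ≥ 4, q = p^f odd: it is dihedral of order 8 times cyclic of order f when q ≡ 3 (mod 4) and m is odd, and otherwise the direct product of a group of order 2 with a cyclic group of order 2f. -/
theorem result {F : Type*} [Field F] [Fintype F] {p f m : ℕ} [Fact p.Prime] (hf : 1 ≤ f) (hF : Fintype.card F = p ^ f) (hp : p ≠ 2) (hm : 4 ≤ m) (a b : F) (hab : ∀ z₁ z₂ : F, z₁ ^ 2 + a * z₁ * z₂ + b * z₂ ^ 2 = 0 → z₁ = 0 ∧ z₂ = 0) : if p ^ f % 4 = 3 ∧ Odd m then Nonempty (Cfsg.Out (Cfsg.POmega F (Cfsg.quadFormMinus (m - 1) F a b)) ≃* DihedralGroup 4 × Multiplicative (ZMod f)) else Nonempty (Cfsg.Out (Cfsg.POmega F (Cfsg.quadFormMinus (m - 1) F a b)) ≃* Multiplicative (ZMod 2 × ZMod (2 * f))) := by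
  classical
  obtain ⟨k, rfl⟩ : ∃ k, m = k + 1 := ⟨m - 1, by omega⟩
  rw [Nat.add_sub_cancel, ← CfsgLib.StdForms.coe_minusQ]
  have hch : CharP F p := CfsgLib.OutPOmega.charP_of_card hF
  have h2 : (2 : F) ≠ 0 := Ring.two_ne_zero (by rw [ringChar.eq F p]; exact hp)
  have hq : Odd (p ^ f) := ((Fact.out : p.Prime).odd_of_ne_two hp).pow
  have hcard : Fintype.card ((Fin k ⊕ Fin k) ⊕ Fin 2) = 2 * (k + 1) := by simp; ring
  have he : Even (Fintype.card ((Fin k ⊕ Fin k) ⊕ Fin 2)) := ⟨k + 1, by omega⟩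
  let P := CfsgLib.Forms4.minusPairs k (by omega) a b
  have hQ := CfsgLib.StdForms.minusQ_nondegenerate k (CfsgLib.Forms4.disc_ne_zero hab)
  have hsurj : Function.Surjective (CfsgLib.OutPOmega.outHom ⇑(CfsgLib.StdForms.minusQ k F a b)) :=
    CfsgLib.OutPOmega.outHom_surjective
      ((CfsgLib.AutPOmega.ctx_minusQ (by omega) hab).exists_induced
        (CfsgLib.AutPOmega.noTriality_minusQ hab))
  obtain ⟨α, hα⟩ := FiniteField.exists_nonsquare (F := F) (by rw [ringChar.eq F p]; exact hp)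
  have hα0 : α ≠ 0 := fun h => hα (by rw [h]; exact IsSquare.zero)
  obtain ⟨d, hd, hdm⟩ := CfsgLib.OutPOmega.exists_minus_similitude hab h2 k P hα0
  have hd' := CfsgLib.OutPOmega.sqHom_eq_neg (P := P) hdm hα
  obtain ⟨Φ, hΦ⟩ := CfsgLib.OutPOmega.exists_minus_fieldGen hab hF hf h2 k P
  have hiff := CfsgLib.OutPOmega.negIso_mem_iff.trans
    ((CfsgLib.Forms.neg_one_mem_omega_minus hF hq k hab).trans
      (CfsgLib.OutPOmega.pow_mod_four_iff hq))
  split_ifs with hc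
  · exact CfsgLib.OutPOmega.out_dihedral h2 hQ (by omega) P hsurj he (hiff.2 hc) Φ d hd hd'
      (Or.inr (CfsgLib.OutPOmega.odd_of_pow_mod_four (q := p) hc.1))
  · exact CfsgLib.OutPOmega.out_nonsplit h2 hQ (by omega) P hsurj he (fun h => hc (hiff.1 h)) hf Φ
      d hd hd' hΦ

end Cfsg.Agent.S2606
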