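import Cfsg.Statements.S2620

set_option autoImplicit false
open Cfsg

namespace Cfsg.Agent.S2620

open Matrix

lemma gram_det {F : Type*} [Field F] {ι κ : Type*} [Fintype ι] [DecidableEq ι] [Fintype κ]
    [DecidableEq κ] (Q : (κ → F) → F) (B : Matrix κ κ F)
    (hB : ∀ x y, QuadraticMap.polar Q x y = Matrix.toBilin' B x y)
    (b : Module.Basis ι F (κ → F)) :
    ∃ d : F, d ≠ 0 ∧
      (Matrix.of fun i j : ι => QuadraticMap.polar Q (b i) (b j)).det = d ^ 2 * B.det := by
  let e : ι ≃ κ := b.indexEquiv (Pi.basisFun F κ)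
  let b' := b.reindex e
  have h1 : (Matrix.of fun i j : ι => QuadraticMap.polar Q (b i) (b j)) =
      (LinearMap.BilinForm.toMatrix b' (Matrix.toBilin' B)).submatrix e e := by
    ext i j
    simp [b', hB, LinearMap.BilinForm.toMatrix_apply]
  rw [h1, det_submatrix_equiv_self,
    ← LinearMap.BilinForm.toMatrix_mul_basis_toMatrix (Pi.basisFun F κ) b' (Matrix.toBilin' B)]
  refine ⟨((Pi.basisFun F κ).toMatrix b').det, ?_, ?_⟩
  · exact IsUnit.ne_zero (IsUnit.map (Matrix.detMonoidHom) (IsUnit.of_mul_eq_one _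
      ((Pi.basisFun F κ).toMatrix_mul_toMatrix_flip b')))
  · rw [det_mul, det_mul, det_transpose, LinearMap.BilinForm.toMatrix_basisFun,
      LinearMap.BilinForm.toMatrix'_toBilin']
    ring

lemma isSquare_sq_mul {F : Type*} [Field F] {d x : F} (hd : d ≠ 0) :
    IsSquare (d ^ 2 * x) ↔ IsSquare x := by
  constructor
  · rintro ⟨r, hr⟩
    exact ⟨r / d, by field_simp; linear_combination hr⟩
  · rintro ⟨r, hr⟩
    exact ⟨d * r, by rw [hr]; ring⟩

/-- `[[0, 1], [1, 0]]` on `Fin m ⊕ Fin m`. -/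
def hypGram (m : ℕ) (F : Type*) [Field F] : Matrix (Fin m ⊕ Fin m) (Fin m ⊕ Fin m) F :=
  Matrix.fromBlocks 0 1 1 0

lemma hypGram_det (m : ℕ) (F : Type*) [Field F] : (hypGram m F).det = (-1) ^ m := by
  have hdiag : hypGram m F = (Matrix.blockDiagonal (fun _ : Fin m => !![(0 : F), 1; 1, 0])).submatrix
      (Sum.elim (fun i => ((0 : Fin 2), i)) (fun i => (1, i)))
      (Sum.elim (fun i => ((0 : Fin 2), i)) (fun i => (1, i))) := by
    ext (i | i) (j | j) <;> simp [hypGram, Matrix.blockDiagonal_apply, Matrix.one_apply]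
  let e : Fin m ⊕ Fin m ≃ Fin 2 × Fin m :=
    { toFun := Sum.elim (fun i => ((0 : Fin 2), i)) (fun i => (1, i))
      invFun := fun p => if p.1 = 0 then .inl p.2 else .inr p.2
      left_inv := by rintro (i | i) <;> simp
      right_inv := by
        rintro ⟨a, i⟩
        fin_cases a <;> simp }
  rw [hdiag, show (Sum.elim (fun i => ((0 : Fin 2), i)) (fun i => (1, i))) = ⇑e from rfl,
    det_submatrix_equiv_self, Matrix.det_blockDiagonal, Finset.prod_const, Finset.card_univ,
    Fintype.card_fin, Matrix.det_fin_two_of]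
  ring

lemma polar_plus {F : Type*} [Field F] (m : ℕ) (x y : Fin m ⊕ Fin m → F) :
    QuadraticMap.polar (Cfsg.quadFormPlus m F) x y = Matrix.toBilin' (hypGram m F) x y := by
  rw [Matrix.toBilin'_apply']
  simp only [hypGram, QuadraticMap.polar, Cfsg.quadFormPlus, dotProduct, Fintype.sum_sum_type,
    Matrix.mulVec, Matrix.fromBlocks_apply₁₁, Matrix.fromBlocks_apply₁₂,
    Matrix.fromBlocks_apply₂₁, Matrix.fromBlocks_apply₂₂, Matrix.one_apply, Matrix.zero_apply,
    Pi.add_apply, ite_mul, one_mul, zero_mul, Finset.sum_ite_eq, Finset.mem_univ, if_true,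
    Finset.sum_const_zero, zero_add, add_zero]
  rw [← Finset.sum_add_distrib, ← Finset.sum_sub_distrib, ← Finset.sum_sub_distrib]
  exact Finset.sum_congr rfl fun i _ => by ring

lemma isSquare_neg_one_pow {F : Type*} [Field F] [Fintype F] {q : ℕ} (hF : Fintype.card F = q)
    (hq : Odd q) (m : ℕ) : IsSquare ((-1 : F) ^ m) ↔ Even (m * (q - 1) / 2) := by
  have hneg := FiniteField.isSquare_neg_one_iff (F := F)
  rw [hF] at hneg
  obtain ⟨k, rfl⟩ := hq
  rw [show m * (2 * k + 1 - 1) / 2 = m * k by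
    rw [Nat.add_sub_cancel, ← mul_assoc, mul_comm m 2, mul_assoc]
    exact Nat.mul_div_cancel_left _ (by norm_num), Nat.even_mul]
  rcases Nat.even_or_odd m with h | h
  · simp [h.neg_one_pow, h]
  · rw [h.neg_one_pow, hneg, Nat.even_iff, Nat.even_iff]
    have := Nat.odd_iff.1 h
    omega


/-- Discriminant of the hyperbolic quadratic form Σ_(i<m) x_i y_i over a field with q elements, q odd, m ≥ 1: the determinant of the Gram matrix of its polar form in any basis is a square if and only if m(q − 1)/2 is even (equivalently q^m ≡ 1 (mod 4)). -/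
theorem result {F : Type*} [Field F] [Fintype F] {q : ℕ} (hF : Fintype.card F = q) (hq : Odd q) {m : ℕ} (hm : 1 ≤ m) {ι : Type*} [Fintype ι] [DecidableEq ι] (b : Module.Basis ι F (Fin m ⊕ Fin m → F)) : IsSquare (Matrix.of (fun i j : ι => QuadraticMap.polar (Cfsg.quadFormPlus m F) (b i) (b j))).det ↔ Even (m * (q - 1) / 2) := by
  obtain ⟨d, hd, hdet⟩ := gram_det (Cfsg.quadFormPlus m F) (hypGram m F) (polar_plus m) b
  rw [hdet, isSquare_sq_mul hd, hypGram_det, isSquare_neg_one_pow hF hq]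

end Cfsg.Agent.S2620
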