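import Cfsg.Statements.S2610
import Cfsg.Agent.Spinor.Pairs
import Cfsg.Agent.S2620

set_option autoImplicit false
open Cfsg

namespace Cfsg.Agent.S2610

open CfsgLib.Spinor Matrix


/-- For a quadratic form Q on F^n with non-degenerate polar form, F finite of odd order and n ≥ 2 even, the isometry −1 lies in Ω (the commutator subgroup of the orthogonal group) if and only if the discriminant of Q (the determinant of the Gram matrix of its polar form) is a square. -/
theorem result {F : Type*} [Field F] [Fintype F] (h2 : (2 : F) ≠ 0) {n : ℕ} (hn : 2 ≤ n) (he : Even n) (Q : QuadraticForm F (Fin n → F)) (hQ : (QuadraticMap.polarBilin Q).Nondegenerate) : (∃ g : ↥(Cfsg.isometryGroup F ⇑Q), g ∈ Cfsg.Omega F ⇑Q ∧ ((g : Matrix.GeneralLinearGroup (Fin n) F) : Matrix (Fin n) (Fin n) F) = -1) ↔ IsSquare (Matrix.of (fun i j : Fin n => QuadraticMap.polar ⇑Q (Pi.single i 1) (Pi.single j 1))).det := by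
  classical
  obtain ⟨b, hb, hb0⟩ := exists_orthogonal_anisotropic_basis h2 hQ
  have hNn : Module.finrank F (Fin n → F) = n := Module.finrank_fin_fun F
  let vs : List (Fin n → F) := (Finset.univ : Finset (Fin (Module.finrank F (Fin n → F)))).toList.map b
  have hvs : ∀ v ∈ vs, Q v ≠ 0 := by
    intro v hv
    obtain ⟨i, -, rfl⟩ := List.mem_map.1 hv
    exact hb0 i
  have hprod : (vs.map (fun v => Cfsg.reflectionMatrix (⇑Q) v)).prod = -1 := by
    refine Matrix.toLin'.injective (b.ext fun j => ?_)
    simp only [toLin'_apply, neg_mulVec, one_mulVec]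
    suffices h : ∀ l : List (Fin (Module.finrank F (Fin n → F))), l.Nodup →
        ((l.map b).map (fun v => Cfsg.reflectionMatrix (⇑Q) v)).prod *ᵥ b j =
          if j ∈ l then -b j else b j by
      simpa [vs] using h _ (Finset.nodup_toList Finset.univ)
    intro l
    induction l with
    | nil => simp
    | cons i l ih =>
      intro hl
      obtain ⟨hil, hl⟩ := List.nodup_cons.1 hl
      rw [List.map_cons, List.map_cons, List.prod_cons, ← mulVec_mulVec, ih hl]
      rcases eq_or_ne j i with rfl | hji
      · simp only [if_neg hil, List.mem_cons_self, if_true, reflectionMatrix_mulVec, refl_apply,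
          polar_self']
        rw [show (Q (b j))⁻¹ * (2 * Q (b j)) = 2 by
          field_simp [hb0 j]]
        module
      · have : (j ∈ i :: l) ↔ j ∈ l := by simp [hji]
        simp only [this]
        split_ifs <;>
          simp [reflectionMatrix_mulVec, refl_apply, hb i j hji.symm]
  rw [show (∃ g : ↥(Cfsg.isometryGroup F ⇑Q), g ∈ Cfsg.Omega F ⇑Q ∧
      ((g : Matrix.GeneralLinearGroup (Fin n) F) : Matrix (Fin n) (Fin n) F) = -1) ↔ _ from
    exists_mem_omega_iff_of_prod h2 hQ vs hvs (-1) hprod]
  have hlen : vs.length = n := by simp [vs, hNn]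
  rw [hlen]
  let G : Matrix (Fin n) (Fin n) F :=
    Matrix.of fun i j => QuadraticMap.polar (⇑Q) (Pi.single i 1) (Pi.single j 1)
  have hG : ∀ x y, QuadraticMap.polar (⇑Q) x y = Matrix.toBilin' G x y := by
    intro x y
    have : G = LinearMap.BilinForm.toMatrix' (QuadraticMap.polarBilin Q) := by
      ext i j
      rw [LinearMap.BilinForm.toMatrix'_apply, QuadraticMap.polarBilin_apply_apply]
      rfl
    rw [this, Matrix.toBilin'_toMatrix']
    rfl
  obtain ⟨d, hd, hdet⟩ := Cfsg.Agent.S2620.gram_det (⇑Q) G hG b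
  have hdiag : (Matrix.of fun i j => QuadraticMap.polar (⇑Q) (b i) (b j)) =
      Matrix.diagonal (fun i => 2 * Q (b i)) := by
    ext i j
    rcases eq_or_ne i j with rfl | hij
    · simp [QuadraticMap.polar_self]
    · simp [Matrix.diagonal_apply_ne _ hij, hb i j hij]
  have hpv : (vs.map (fun v => Q v)).prod = ∏ i, Q (b i) := by
    simp [vs, List.map_map, Finset.prod_map_toList, Function.comp_def]
  rw [hdiag, Matrix.det_diagonal, Finset.prod_mul_distrib, Finset.prod_const, Finset.card_univ,
    Fintype.card_fin] at hdet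
  obtain ⟨k, hk⟩ := he
  have hexp : Module.finrank F (Fin n → F) = k * 2 := by omega
  rw [show (2 : F) ^ Module.finrank F (Fin n → F) = (2 ^ k) ^ 2 by rw [hexp, pow_mul]] at hdet
  show _ ↔ IsSquare G.det
  rw [← Cfsg.Agent.S2620.isSquare_sq_mul (x := G.det) hd, ← hdet,
    Cfsg.Agent.S2620.isSquare_sq_mul (pow_ne_zero _ h2), hpv]
  exact and_iff_right ⟨k, hk⟩

end Cfsg.Agent.S2610
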