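import Cfsg.Statements.S2611
import Cfsg.Agent.Spinor.Omega
import Cfsg.Agent.Spinor.StdForms
import Cfsg.Agent.Linear.Perfect

set_option autoImplicit false
open Cfsg

namespace Cfsg.Agent.S2611

open CfsgLib.Spinor CfsgLib.StdForms Matrix
open scoped commutatorElement

variable {F : Type*} [Field F] {m : ℕ}

/-- The block diagonal matrix `diag(A, A⁻ᵀ)` as a monoid hom. -/
noncomputable def blockHom : GL (Fin m) F →* GL (Fin m ⊕ Fin m) F :=
  MonoidHom.toHomUnits
    { toFun := fun A => Matrix.fromBlocks (A : Matrix (Fin m) (Fin m) F) 0 0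
        (((A⁻¹ : GL (Fin m) F) : Matrix (Fin m) (Fin m) F)).transpose
      map_one' := by simp
      map_mul' := fun A B => by simp [Matrix.fromBlocks_multiply] }

lemma blockHom_coe (A : GL (Fin m) F) :
    ((blockHom A : GL (Fin m ⊕ Fin m) F) : Matrix _ _ F) =
      Matrix.fromBlocks (A : Matrix (Fin m) (Fin m) F) 0 0
        ((A : Matrix (Fin m) (Fin m) F)⁻¹).transpose := by
  rw [← Matrix.coe_units_inv]
  rfl

lemma blockHom_mem (A : GL (Fin m) F) :
    blockHom A ∈ Cfsg.isometryGroup F ⇑(plusQ m F) := by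
  intro v _
  show plusQ m F ((blockHom A : Matrix _ _ F) *ᵥ v) = plusQ m F v
  have h : ∀ w, plusQ m F w = (w ∘ Sum.inl) ⬝ᵥ (w ∘ Sum.inr) := fun w => plusQ_apply m w
  rw [h, h, blockHom_coe, Matrix.fromBlocks_mulVec]
  simp only [Matrix.zero_mulVec, add_zero, zero_add, Sum.elim_comp_inl, Sum.elim_comp_inr]
  rw [mulVec_transpose, dotProduct_comm, ← dotProduct_mulVec, mulVec_mulVec,
    nonsing_inv_mul _ (Matrix.GeneralLinearGroup.det A).isUnit, one_mulVec, dotProduct_comm]

/-- The same hom into the isometry group. -/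
noncomputable def isoHom : GL (Fin m) F →* ↥(Cfsg.isometryGroup F ⇑(plusQ m F)) :=
  blockHom.codRestrict _ blockHom_mem

variable (i0 : Fin m)

/-- `diag(1, .., c, .., 1)` with `c` at `i0`. -/
noncomputable def diagAt : Fˣ →* GL (Fin m) F :=
  MonoidHom.toHomUnits
    { toFun := fun c => Matrix.diagonal fun j => if j = i0 then (c : F) else 1
      map_one' := by simp
      map_mul' := fun a b => by
        rw [Matrix.diagonal_mul_diagonal]
        congr 1; funext j; split_ifs <;> simp }

lemma det_diagAt (c : Fˣ) : Matrix.GeneralLinearGroup.det (diagAt i0 c) = c := by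
  apply Units.ext
  show (Matrix.diagonal fun j => if j = i0 then (c : F) else 1).det = c
  simp [Matrix.det_diagonal]

/-- `e + t f` at the `i0`-th pair. -/
noncomputable def uvec (t : F) : Fin m ⊕ Fin m → F :=
  Pi.single (Sum.inl i0) 1 + Pi.single (Sum.inr i0) t

lemma quad_uvec (t : F) : plusQ m F (uvec i0 t) = t := by
  simp [plusQ_apply, Cfsg.quadFormPlus, uvec, Pi.single_apply]

lemma isoHom_mulVec (c : Fˣ) (x : Fin m ⊕ Fin m → F) :
    mat (plusQ m F) (isoHom (diagAt i0 c)) *ᵥ x = Sum.elim
      (fun j => (if j = i0 then (c : F) else 1) * x (.inl j))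
      (fun j => (if j = i0 then (c : F)⁻¹ else 1) * x (.inr j)) := by
  have hinv : (((diagAt i0 c)⁻¹ : GL (Fin m) F) : Matrix (Fin m) (Fin m) F) =
      Matrix.diagonal fun j => if j = i0 then (c : F)⁻¹ else 1 := by
    rw [← map_inv]
    show Matrix.diagonal (fun j => if j = i0 then ((c⁻¹ : Fˣ) : F) else 1) = _
    simp
  show (Matrix.fromBlocks (Matrix.diagonal fun j => if j = i0 then (c : F) else 1) 0 0
    (((diagAt i0 c)⁻¹ : GL (Fin m) F) : Matrix (Fin m) (Fin m) F).transpose) *ᵥ x = _
  rw [hinv, diagonal_transpose, fromBlocks_mulVec]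
  funext k
  rcases k with j | j <;> simp [Matrix.mulVec_diagonal]

lemma isReflProd_diagAt (c : Fˣ) :
    IsReflProd (plusQ m F) (isoHom (diagAt i0 c)) [uvec i0 (c : F)⁻¹, uvec i0 1] := by
  refine ⟨fun v hv => ?_, Matrix.ext_iff_mulVec.2 fun x => ?_⟩
  · rcases List.mem_cons.1 hv with rfl | hv
    · rw [quad_uvec]; simp
    · rw [List.mem_singleton.1 hv, quad_uvec]; simp
  · rw [isoHom_mulVec]
    simp only [List.map_cons, List.map_nil, List.prod_cons, List.prod_nil, mul_one,
      ← mulVec_mulVec, reflectionMatrix_mulVec, refl_apply, quad_uvec]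
    have hp : ∀ (t : F) (y : Fin m ⊕ Fin m → F),
        QuadraticMap.polar (⇑(plusQ m F)) (uvec i0 t) y = y (.inr i0) + t * y (.inl i0) := by
      intro t y
      simp [polar_plus, uvec, Pi.single_apply, Finset.sum_add_distrib, mul_comm t]
    funext k
    rcases k with j | j <;> by_cases hj : j = i0 <;>
      simp only [hp, Pi.sub_apply, Pi.smul_apply, smul_eq_mul] <;> simp [uvec, hj] <;>
      field_simp <;> ring

lemma isoHom_sq_mem (d : Fˣ) :
    isoHom (diagAt i0 (d * d)) ∈ Cfsg.Omega F ⇑(plusQ m F) := by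
  have hu : plusQ m F (uvec i0 (1 : F)) ≠ 0 := by rw [quad_uvec]; exact one_ne_zero
  have key : isoHom (diagAt i0 (d * d)) =
      ⁅isoHom (diagAt i0 d), reflIso (plusQ m F) (uvec i0 1) hu⁆ := by
    rw [commutatorElement_def, conj_reflIso]
    refine mat_ext _ ?_
    have hinv : (reflIso (plusQ m F) (uvec i0 (1 : F)) hu)⁻¹ = reflIso (plusQ m F) (uvec i0 1) hu :=
      inv_eq_of_mul_eq_one_right (mat_ext _ (reflectionMatrix_mul_self _ hu))
    rw [hinv, mat_mul, (isReflProd_diagAt i0 (d * d)).2, mat_reflIso, mat_reflIso]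
    simp only [List.map_cons, List.map_nil, List.prod_cons, List.prod_nil, mul_one]
    congr 1
    have hd : mat (plusQ m F) (isoHom (diagAt i0 d)) *ᵥ uvec i0 1 =
        (d : F) • uvec i0 ((d * d : Fˣ) : F)⁻¹ := by
      rw [isoHom_mulVec]
      funext k
      rcases k with j | j <;> by_cases hj : j = i0 <;> simp [uvec, hj]
    refine Matrix.toLin'.injective ?_
    rw [toLin'_reflectionMatrix, toLin'_reflectionMatrix, hd, refl_smul _ d.ne_zero]
  rw [key]
  exact Subgroup.commutator_mem_commutator (Subgroup.mem_top _) (Subgroup.mem_top _)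


/-- For the hyperbolic quadratic form Σ x_i y_i on F^(2m) (F finite, m ≥ 1, excluding m = 2 over the field of two elements) and an invertible m × m matrix A, the block-diagonal isometry diag(A, (A⁻¹)ᵀ), which stabilises the two maximal totally singular subspaces x = 0 and y = 0, lies in Ω⁺_2m(F) (the commutator subgroup of the orthogonal group) if and only if det A is a square in F. -/
theorem result {F : Type*} [Field F] [Fintype F] {m : ℕ} (hm : 1 ≤ m) (h : Fintype.card F ≠ 2 ∨ m ≠ 2) (A : GL (Fin m) F) : (∃ g : ↥(Cfsg.isometryGroup F (Cfsg.quadFormPlus m F)), g ∈ Cfsg.Omega F (Cfsg.quadFormPlus m F) ∧ ((g : Matrix.GeneralLinearGroup (Fin m ⊕ Fin m) F) : Matrix (Fin m ⊕ Fin m) (Fin m ⊕ Fin m) F) = Matrix.fromBlocks (A : Matrix (Fin m) (Fin m) F) 0 0 ((A : Matrix (Fin m) (Fin m) F)⁻¹).transpose) ↔ IsSquare (A : Matrix (Fin m) (Fin m) F).det := by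
  classical
  rw [← coe_plusQ]
  let i0 : Fin m := ⟨0, hm⟩
  set c : Fˣ := Matrix.GeneralLinearGroup.det A with hc
  have hcomm : ∀ B : GL (Fin m) F, Matrix.GeneralLinearGroup.det B = 1 →
      isoHom B ∈ Cfsg.Omega F ⇑(plusQ m F) := by
    intro B hB
    have h1 : B ∈ commutator (GL (Fin m) F) := by
      rw [CfsgLib.Linear.commutator_GL (fun h2 => ?_)]
      · exact hB
      rw [Fintype.card_fin] at h2
      have hq := h.resolve_right (not_not.2 h2)
      by_contra hno
      push Not at hno
      refine hq (le_antisymm ?_ (Fintype.one_lt_card))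
      calc Fintype.card F = (Finset.univ : Finset F).card := rfl
        _ ≤ ({0, 1} : Finset F).card := Finset.card_le_card fun a _ => by
            simp only [Finset.mem_insert, Finset.mem_singleton]
            exact or_iff_not_imp_left.2 (hno a)
        _ ≤ 2 := Finset.card_le_two
    have h3 : (commutator (GL (Fin m) F)).map isoHom ≤ Cfsg.Omega F ⇑(plusQ m F) := by
      rw [Cfsg.Omega, commutator_def, commutator_def, Subgroup.map_commutator]
      exact Subgroup.commutator_mono le_top le_top
    exact h3 ⟨B, h1, rfl⟩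
  have hA : isoHom A ∈ Cfsg.Omega F ⇑(plusQ m F) ↔
      isoHom (diagAt i0 c) ∈ Cfsg.Omega F ⇑(plusQ m F) := by
    have h1 := hcomm (A * (diagAt i0 c)⁻¹) (by rw [map_mul, map_inv, det_diagAt, hc]; simp)
    rw [map_mul, map_inv] at h1
    constructor
    · intro h2
      have := mul_mem (inv_mem h1) h2
      simpa using this
    · intro h2
      simpa using mul_mem h1 h2
  have hiff : isoHom A ∈ Cfsg.Omega F ⇑(plusQ m F) ↔ IsSquare (c : F) := by
    rw [hA]
    constructor
    · intro h1
      by_cases h2 : (2 : F) = 0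
      · exact FiniteField.isSquare_of_char_two
          (CharP.ringChar_of_prime_eq_zero Nat.prime_two (by exact_mod_cast h2)) _
      · have := ((mem_omega_iff h2 (plusQ_nondegenerate m) (isReflProd_diagAt i0 c)).1 h1).2
        simp only [List.map_cons, List.map_nil, List.prod_cons, List.prod_nil, mul_one,
          quad_uvec] at this
        simpa using this.inv
    · rintro ⟨d, hd⟩
      have hd0 : d ≠ 0 := by rintro rfl; exact c.ne_zero (by simpa using hd)
      rw [show c = Units.mk0 d hd0 * Units.mk0 d hd0 from Units.ext (by simpa using hd)]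
      exact isoHom_sq_mem i0 _
  show _ ↔ IsSquare ((c : Fˣ) : F)
  rw [← hiff]
  constructor
  · rintro ⟨g, hg, hgA⟩
    have : g = isoHom A := mat_ext _ (hgA.trans (blockHom_coe A).symm)
    rwa [← this]
  · exact fun h1 => ⟨isoHom A, h1, blockHom_coe A⟩

end Cfsg.Agent.S2611
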