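import Cfsg.Statements.S2612
import Cfsg.Agent.S2611
import Cfsg.Agent.S2620
import Cfsg.Agent.Dickson.Matrix

set_option autoImplicit false
open Cfsg

namespace Cfsg.Agent.S2612

open CfsgLib.Spinor CfsgLib.StdForms Matrix Cfsg.Agent.S2611

variable {F : Type*} [Field F] {m : ℕ}

/-- A coordinate permutation commuting with the pairing, as an isometry. -/
noncomputable def permIso (σ : Equiv.Perm (Fin m ⊕ Fin m))
    (hσ : ∀ x : Fin m ⊕ Fin m → F, plusQ m F (x ∘ σ) = plusQ m F x) :
    ↥(Cfsg.isometryGroup F ⇑(plusQ m F)) :=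
  ⟨⟨σ.permMatrix F, σ⁻¹.permMatrix F, by rw [← Matrix.permMatrix_mul]; simp,
    by rw [← Matrix.permMatrix_mul]; simp⟩, fun x _ => by
    show plusQ m F (σ.permMatrix F *ᵥ x) = plusQ m F x
    rw [Matrix.permMatrix_mulVec, hσ]⟩

lemma permIso_mulVec (σ : Equiv.Perm (Fin m ⊕ Fin m))
    (hσ : ∀ x : Fin m ⊕ Fin m → F, plusQ m F (x ∘ σ) = plusQ m F x) (x : Fin m ⊕ Fin m → F) :
    mat (plusQ m F) (permIso σ hσ) *ᵥ x = x ∘ σ :=
  Matrix.permMatrix_mulVec _

lemma plusQ_comp_comm (x : Fin m ⊕ Fin m → F) :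
    plusQ m F (x ∘ Equiv.sumComm (Fin m) (Fin m)) = plusQ m F x := by
  simp [plusQ_apply, Cfsg.quadFormPlus, mul_comm]

/-- The isometry interchanging `x` and `y`. -/
noncomputable def swapAll : ↥(Cfsg.isometryGroup F ⇑(plusQ m F)) :=
  permIso (Equiv.sumComm (Fin m) (Fin m)) plusQ_comp_comm

lemma swapAll_mulVec (x : Fin m ⊕ Fin m → F) :
    mat (plusQ m F) swapAll *ᵥ x = x ∘ Sum.swap :=
  permIso_mulVec _ _ x

lemma swapAll_mul_self :
    (swapAll : ↥(Cfsg.isometryGroup F ⇑(plusQ m F))) * swapAll = 1 := by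
  refine mat_ext _ (Matrix.ext_iff_mulVec.2 fun x => ?_)
  rw [mat_mul, ← mulVec_mulVec, swapAll_mulVec, swapAll_mulVec, mat_one, one_mulVec]
  funext k
  rcases k with j | j <;> rfl

lemma quad_uvec_ne (i : Fin m) : plusQ m F (uvec i (-1 : F)) ≠ 0 := by
  rw [quad_uvec]; simp

lemma isReflProd_swapAll :
    IsReflProd (plusQ m F) (swapAll : ↥(Cfsg.isometryGroup F ⇑(plusQ m F)))
      ((Finset.univ : Finset (Fin m)).toList.map fun i => uvec i (-1 : F)) := by
  refine ⟨fun v hv => ?_, Matrix.ext_iff_mulVec.2 fun x => ?_⟩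
  · obtain ⟨i, -, rfl⟩ := List.mem_map.1 hv
    exact quad_uvec_ne i
  have key : ∀ l : List (Fin m), l.Nodup →
      ((l.map fun i => uvec i (-1 : F)).map
        (fun v => Cfsg.reflectionMatrix (⇑(plusQ m F)) v)).prod *ᵥ x =
        Sum.elim (fun j => if j ∈ l then x (.inr j) else x (.inl j))
          (fun j => if j ∈ l then x (.inl j) else x (.inr j)) := by
    intro l
    induction l with
    | nil => intro _; funext k; rcases k with j | j <;> simp
    | cons i l ih =>
      intro hl
      obtain ⟨hil, hl⟩ := List.nodup_cons.1 hl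
      rw [List.map_cons, List.map_cons, List.prod_cons, ← mulVec_mulVec, ih hl,
        reflectionMatrix_mulVec, refl_apply, quad_uvec]
      have hp : ∀ y : Fin m ⊕ Fin m → F,
          QuadraticMap.polar (⇑(plusQ m F)) (uvec i (-1)) y = y (.inr i) - y (.inl i) := by
        intro y
        simp [polar_plus, uvec, Pi.single_apply, Finset.sum_add_distrib]
        ring
      funext k
      rcases k with j | j <;> by_cases hj : j = i <;>
        simp only [hp, Pi.sub_apply, Pi.smul_apply, smul_eq_mul] <;> simp [uvec, hj, hil]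
  rw [swapAll_mulVec, key _ (Finset.nodup_toList _)]
  funext k
  rcases k with j | j <;> simp

lemma of_reflIso_eq (a b : Fin m) :
    Abelianization.of (reflIso (plusQ m F) (uvec a (-1)) (quad_uvec_ne a)) =
      Abelianization.of (reflIso (plusQ m F) (uvec b (-1)) (quad_uvec_ne b)) := by
  have hσ : ∀ x : Fin m ⊕ Fin m → F,
      plusQ m F (x ∘ Equiv.sumCongr (Equiv.swap a b) (Equiv.swap a b)) = plusQ m F x := by
    intro x
    simp only [plusQ_apply, Cfsg.quadFormPlus, Function.comp_apply, Equiv.sumCongr_apply,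
      Sum.map_inl, Sum.map_inr]
    exact Equiv.sum_comp (Equiv.swap a b) (fun j => x (.inl j) * x (.inr j))
  set h := permIso _ hσ
  have hu : mat (plusQ m F) h *ᵥ uvec a (-1) = uvec b (-1) := by
    rw [permIso_mulVec]
    funext k
    have : ∀ j, Equiv.swap a b j = a ↔ j = b := fun j => by
      rw [Equiv.apply_eq_iff_eq_symm_apply]; simp
    rcases k with j | j <;> simp [uvec, Pi.single_apply, this]
  have hc := congrArg Abelianization.of (conj_reflIso (plusQ m F) h _ (quad_uvec_ne a))
  simp only [map_mul, map_inv, mul_comm (Abelianization.of h), mul_inv_cancel_right] at hc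
  rw [hc]
  congr 1
  exact mat_ext _ (by rw [mat_reflIso, mat_reflIso, hu])

lemma swapAll_mem (he : Even m) :
    (swapAll : ↥(Cfsg.isometryGroup F ⇑(plusQ m F))) ∈ Cfsg.Omega F ⇑(plusQ m F) := by
  rcases Nat.eq_zero_or_pos m with rfl | hm
  · rw [show (swapAll : ↥(Cfsg.isometryGroup F ⇑(plusQ 0 F))) = 1 from
      mat_ext _ (Subsingleton.elim _ _)]
    exact one_mem _
  set a := Abelianization.of (reflIso (plusQ m F) (uvec ⟨0, hm⟩ (-1)) (quad_uvec_ne _))
  have key : ∀ (l : List (Fin m)) (g : ↥(Cfsg.isometryGroup F ⇑(plusQ m F))),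
      IsReflProd (plusQ m F) g (l.map fun i => uvec i (-1 : F)) →
        Abelianization.of g = a ^ l.length := by
    intro l
    induction l with
    | nil =>
      intro g hg
      rw [show g = 1 from mat_ext _ hg.2]
      simp
    | cons i l ih =>
      intro g hg
      have hg' : IsReflProd (plusQ m F) (reflIso (plusQ m F) (uvec i (-1)) (quad_uvec_ne i) * g)
          (l.map fun i => uvec i (-1 : F)) := by
        refine ⟨fun u hu => hg.1 u (List.mem_cons_of_mem _ hu), ?_⟩
        rw [mat_mul, hg.2, List.map_cons, List.map_cons, List.prod_cons, ← mul_assoc, mat,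
          reflIso_coe, reflectionMatrix_mul_self _ (quad_uvec_ne i), one_mul]
      have h1 := ih _ hg'
      rw [map_mul, of_reflIso_eq i ⟨0, hm⟩] at h1
      have ha : a * a = 1 := by
        rw [← map_mul, show reflIso (plusQ m F) (uvec ⟨0, hm⟩ (-1)) (quad_uvec_ne _) *
          reflIso (plusQ m F) (uvec ⟨0, hm⟩ (-1)) (quad_uvec_ne _) = 1 from
          mat_ext _ (reflectionMatrix_mul_self _ (quad_uvec_ne _)), map_one]
      rw [List.length_cons, pow_succ', ← h1, ← mul_assoc, ha, one_mul]
  have h1 := key _ _ (isReflProd_swapAll (F := F) (m := m))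
  obtain ⟨k, hk⟩ := he
  rw [Finset.length_toList, Finset.card_univ, Fintype.card_fin] at h1
  rw [show a ^ m = (a * a) ^ k by rw [← sq, ← pow_mul]; congr 1; omega] at h1
  rw [Cfsg.Omega, ← Abelianization.ker_of]
  refine h1.trans ?_
  rw [← map_mul, show reflIso (plusQ m F) (uvec ⟨0, hm⟩ (-1)) (quad_uvec_ne _) *
    reflIso (plusQ m F) (uvec ⟨0, hm⟩ (-1)) (quad_uvec_ne _) = 1 from
    mat_ext _ (reflectionMatrix_mul_self _ (quad_uvec_ne _)), map_one, one_pow]

/-- An isometry with block diagonal matrix is `diag(A, A⁻ᵀ)`. -/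
lemma exists_isoHom_eq (k : ↥(Cfsg.isometryGroup F ⇑(plusQ m F)))
    (h12 : (mat (plusQ m F) k).toBlocks₁₂ = 0) (h21 : (mat (plusQ m F) k).toBlocks₂₁ = 0) :
    ∃ A, k = isoHom A := by
  set M := mat (plusQ m F) k with hM
  have h1 : M.toBlocks₁₁.transpose * M.toBlocks₂₂ = 1 := by
    ext i j
    have h := polar_mulVec (plusQ m F) k (Pi.single (.inl i) 1) (Pi.single (.inr j) 1)
    rw [← hM, mulVec_single_one, mulVec_single_one, polar_plus, polar_plus] at h
    have e12 : ∀ a, M (.inl a) (.inr j) = 0 := fun a => congrFun (congrFun h12 a) j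
    simp [e12, Pi.single_apply] at h
    rw [Matrix.mul_apply]
    simp only [Matrix.transpose_apply, Matrix.one_apply]
    simpa [Matrix.toBlocks₁₁, Matrix.toBlocks₂₂, eq_comm] using h
  have hu : IsUnit M.toBlocks₁₁ := by
    rw [Matrix.isUnit_iff_isUnit_det, ← Matrix.det_transpose]
    exact Matrix.isUnit_det_of_right_inverse h1
  refine ⟨hu.unit, mat_ext _ ?_⟩
  show M = Units.val (blockHom hu.unit)
  rw [blockHom_coe, IsUnit.unit_spec, Matrix.transpose_nonsing_inv,
    Matrix.inv_eq_right_inv h1]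
  conv_lhs => rw [← Matrix.fromBlocks_toBlocks M, h12, h21]

lemma det_isoHom (A : GL (Fin m) F) : (mat (plusQ m F) (isoHom A)).det = 1 := by
  show (Units.val (blockHom A)).det = 1
  rw [blockHom_coe, Matrix.det_fromBlocks_zero₂₁, Matrix.det_transpose,
    Matrix.det_nonsing_inv]
  exact Ring.mul_inverse_cancel _ (Matrix.GeneralLinearGroup.det A).isUnit

lemma det_swapAll :
    (mat (plusQ m F) (swapAll : ↥(Cfsg.isometryGroup F ⇑(plusQ m F)))).det = (-1) ^ m := by
  rw [← Cfsg.Agent.S2620.hypGram_det]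
  congr 1
  refine Matrix.ext_iff_mulVec.2 fun x => ?_
  rw [swapAll_mulVec, Cfsg.Agent.S2620.hypGram, Matrix.fromBlocks_mulVec]
  funext k
  rcases k with j | j <;> simp

lemma rank_swapAll_sub_one [CharP F 2] :
    (mat (plusQ m F) (swapAll : ↥(Cfsg.isometryGroup F ⇑(plusQ m F))) - 1).rank = m := by
  set M := mat (plusQ m F) (swapAll : ↥(Cfsg.isometryGroup F ⇑(plusQ m F))) - 1
  let ψ : (Fin m → F) →ₗ[F] (Fin m ⊕ Fin m → F) := LinearMap.funLeft F F (Sum.elim id id)
  have hψ : Function.Injective ψ := fun a b h => funext fun j => congrFun h (.inl j)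
  have hr : LinearMap.range M.mulVecLin = LinearMap.range ψ := by
    have hMx : ∀ x, M *ᵥ x = ψ fun j => x (.inl j) + x (.inr j) := by
      intro x
      rw [sub_mulVec, swapAll_mulVec, one_mulVec]
      funext k
      rcases k with j | j <;> simp [ψ, LinearMap.funLeft_apply, CharTwo.sub_eq_add, add_comm]
    refine le_antisymm ?_ ?_
    · rintro _ ⟨x, rfl⟩
      exact ⟨_, (hMx x).symm⟩
    · rintro _ ⟨y, rfl⟩
      refine ⟨Sum.elim y 0, ?_⟩
      rw [mulVecLin_apply, hMx]
      simp
  rw [Matrix.rank, hr, LinearMap.finrank_range_of_inj hψ, Module.finrank_fin_fun]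

lemma exists_isReflProd_one [CharP F 2] (g : ↥(Cfsg.isometryGroup F ⇑(plusQ 1 F))) :
    ∃ vs, IsReflProd (plusQ 1 F) g vs := by
  have key : ∀ k : ↥(Cfsg.isometryGroup F ⇑(plusQ 1 F)),
      mat (plusQ 1 F) k (.inr 0) (.inl 0) = 0 → ∃ vs, IsReflProd (plusQ 1 F) k vs := by
    intro k hk
    set M := mat (plusQ 1 F) k with hM
    have h := polar_mulVec (plusQ 1 F) k (Pi.single (.inl 0) 1) (Pi.single (.inr 0) 1)
    rw [← hM, mulVec_single_one, mulVec_single_one, polar_plus, polar_plus] at h
    simp [hk] at h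
    have h' := quad_mulVec (plusQ 1 F) k (Pi.single (.inr 0) 1)
    rw [← hM, mulVec_single_one, plusQ_apply, plusQ_apply] at h'
    simp [Cfsg.quadFormPlus] at h'
    have hx : M (.inl 0) (.inl 0) ≠ 0 := fun h0 => by simp [h0] at h
    have hd : M (.inr 0) (.inr 0) ≠ 0 := fun h0 => by simp [h0] at h
    obtain ⟨A, rfl⟩ := exists_isoHom_eq k
      (by ext a b
          rw [Subsingleton.elim a 0, Subsingleton.elim b 0]
          exact h'.resolve_right hd)
      (by ext a b
          rw [Subsingleton.elim a 0, Subsingleton.elim b 0]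
          exact hk)
    refine ⟨[uvec 0 ((Matrix.GeneralLinearGroup.det A : Fˣ) : F)⁻¹, uvec 0 1], ?_⟩
    have hA : A = diagAt 0 (Matrix.GeneralLinearGroup.det A) := by
      apply Units.ext
      ext a b
      rw [Subsingleton.elim a 0, Subsingleton.elim b 0]
      show A.val 0 0 = (Matrix.diagonal fun j => if j = 0 then A.val.det else 1) 0 0
      simp [Matrix.det_fin_one]
    have := isReflProd_diagAt (0 : Fin 1) (Matrix.GeneralLinearGroup.det A)
    rwa [← hA] at this
  by_cases h0 : mat (plusQ 1 F) g (.inr 0) (.inl 0) = 0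
  · exact key g h0
  have hq := quad_mulVec (plusQ 1 F) g (Pi.single (.inl 0) 1)
  rw [mulVec_single_one, plusQ_apply, plusQ_apply] at hq
  simp [Cfsg.quadFormPlus] at hq
  have hx := hq.resolve_right h0
  have hp := polar_mulVec (plusQ 1 F) g (Pi.single (.inl 0) 1) (Pi.single (.inr 0) 1)
  rw [mulVec_single_one, mulVec_single_one, polar_plus, polar_plus] at hp
  simp [hx] at hp
  have hqf := quad_mulVec (plusQ 1 F) g (Pi.single (.inr 0) 1)
  rw [mulVec_single_one, plusQ_apply, plusQ_apply] at hqf
  simp [Cfsg.quadFormPlus] at hqf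
  obtain ⟨vs, hvs⟩ := key (g * swapAll) (by
    have : (mat (plusQ 1 F) (g * swapAll) *ᵥ Pi.single (.inl 0) 1) (.inr 0) = 0 := by
      rw [mat_mul, ← mulVec_mulVec, swapAll_mulVec,
        show ((Pi.single (.inl 0) 1 : Fin 1 ⊕ Fin 1 → F) ∘ Sum.swap) = Pi.single (.inr 0) 1 from
          funext fun k => by rcases k with j | j <;> simp [Pi.single_apply],
        mulVec_single_one]
      exact hqf.resolve_left fun hb => by simp [hb] at hp
    rwa [mulVec_single_one] at this)
  have := hvs.mul (isReflProd_swapAll (F := F) (m := 1))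
  rw [mul_assoc, swapAll_mul_self, mul_one] at this
  exact ⟨_, this⟩


/-- For the hyperbolic quadratic form Σ x_i y_i on F^(2m) (F finite, m ≥ 1, excluding m = 2 over the field of two elements), Ω⁺_2m(F) (the commutator subgroup of the orthogonal group) contains an element interchanging the two complementary maximal totally singular subspaces {y = 0} and {x = 0} if and only if m is even (dimension divisible by 4). -/
theorem result {F : Type*} [Field F] [Fintype F] {m : ℕ} (hm : 1 ≤ m) (h : Fintype.card F ≠ 2 ∨ m ≠ 2) : (∃ g : ↥(Cfsg.isometryGroup F (Cfsg.quadFormPlus m F)), g ∈ Cfsg.Omega F (Cfsg.quadFormPlus m F) ∧ (∀ v : Fin m ⊕ Fin m → F, (∀ i, v (Sum.inr i) = 0) → ∀ i, (((g : Matrix.GeneralLinearGroup (Fin m ⊕ Fin m) F) : Matrix (Fin m ⊕ Fin m) (Fin m ⊕ Fin m) F).mulVec v) (Sum.inl i) = 0) ∧ (∀ v : Fin m ⊕ Fin m → F, (∀ i, v (Sum.inl i) = 0) → ∀ i, (((g : Matrix.GeneralLinearGroup (Fin m ⊕ Fin m) F) : Matrix (Fin m ⊕ Fin m) (Fin m ⊕ Fin m) F).mulVec v) (Sum.inr i) = 0)) ↔ Even m := by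
  classical
  rw [← coe_plusQ]
  constructor
  · rintro ⟨g, hg, hg1, hg2⟩
    by_contra hodd
    rw [Nat.not_even_iff_odd] at hodd
    obtain ⟨A, hA⟩ := exists_isoHom_eq (g * swapAll)
      (by ext i j
          have h1 := hg1 (Pi.single (.inl j) 1) (fun a => by simp) i
          show mat (plusQ m F) (g * swapAll) (.inl i) (.inr j) = 0
          have : (mat (plusQ m F) (g * swapAll) *ᵥ Pi.single (.inr j) 1) (.inl i) = 0 := by
            rw [mat_mul, ← mulVec_mulVec, swapAll_mulVec]
            rw [show ((Pi.single (.inr j) 1 : Fin m ⊕ Fin m → F) ∘ Sum.swap) = Pi.single (.inl j) 1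
              from funext fun k => by rcases k with a | a <;> simp [Pi.single_apply]]
            exact h1
          rwa [mulVec_single_one] at this)
      (by ext i j
          have h1 := hg2 (Pi.single (.inr j) 1) (fun a => by simp) i
          show mat (plusQ m F) (g * swapAll) (.inr i) (.inl j) = 0
          have : (mat (plusQ m F) (g * swapAll) *ᵥ Pi.single (.inl j) 1) (.inr i) = 0 := by
            rw [mat_mul, ← mulVec_mulVec, swapAll_mulVec]
            rw [show ((Pi.single (.inl j) 1 : Fin m ⊕ Fin m → F) ∘ Sum.swap) = Pi.single (.inr j) 1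
              from funext fun k => by rcases k with a | a <;> simp [Pi.single_apply]]
            exact h1
          rwa [mulVec_single_one] at this)
    have hgA : g = isoHom A * swapAll := by rw [← hA, mul_assoc, swapAll_mul_self, mul_one]
    by_cases h2 : (2 : F) = 0
    · haveI : CharP F 2 := CharTwo.of_one_ne_zero_of_two_eq_zero one_ne_zero h2
      obtain ⟨g', hg', hgA'⟩ := (Cfsg.Agent.S2611.result hm h A).2
        (FiniteField.isSquare_of_char_two (ringChar.eq F 2) _)
      have hA' : isoHom A ∈ Cfsg.Omega F ⇑(plusQ m F) := by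
        have : ∀ (Q' : (Fin m ⊕ Fin m → F) → F) (_ : Q' = ⇑(plusQ m F))
            (g' : ↥(Cfsg.isometryGroup F Q')), g' ∈ Cfsg.Omega F Q' →
            Units.val (g' : GL (Fin m ⊕ Fin m) F) = Units.val (blockHom A) →
            isoHom A ∈ Cfsg.Omega F ⇑(plusQ m F) := by
          rintro _ rfl g' hg' he
          rwa [show isoHom A = g' from mat_ext _ he.symm]
        exact this _ (coe_plusQ m).symm g' hg' (hgA'.trans (blockHom_coe A).symm)
      have hs : (swapAll : ↥(Cfsg.isometryGroup F ⇑(plusQ m F))) ∈ Cfsg.Omega F ⇑(plusQ m F) := by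
        rw [hgA] at hg
        simpa using mul_mem (inv_mem hA') hg
      rcases Nat.lt_or_ge m 3 with hm3 | hm3
      · have hm1 : m = 1 := by obtain ⟨k, rfl⟩ := hodd; omega
        subst hm1
        have := (even_and_isSquare_of_mem_omega (plusQ_nondegenerate 1) exists_isReflProd_one hs
          isReflProd_swapAll).1
        simp at this
      · have := (CfsgLib.Dickson.mem_Omega_iff (plusQ m F) (plusQ_nondegenerate m)
          (by simp; omega) _).1 hs
        rw [rank_swapAll_sub_one] at this
        exact (Nat.not_even_iff_odd.2 hodd) this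
    · have hdet : (mat (plusQ m F) g).det = 1 := by
        have := Abelianization.commutator_subset_ker
          (Matrix.GeneralLinearGroup.det.comp (Cfsg.isometryGroup F ⇑(plusQ m F)).subtype) hg
        exact congrArg Units.val this
      rw [hgA, mat_mul, Matrix.det_mul, det_isoHom, det_swapAll, one_mul, hodd.neg_one_pow] at hdet
      exact h2 (by linear_combination -hdet)
  · intro he
    refine ⟨swapAll, swapAll_mem he, fun v hv i => ?_, fun v hv i => ?_⟩
    · show (mat (plusQ m F) swapAll *ᵥ v) (.inl i) = 0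
      rw [swapAll_mulVec]; exact hv i
    · show (mat (plusQ m F) swapAll *ᵥ v) (.inr i) = 0
      rw [swapAll_mulVec]; exact hv i

end Cfsg.Agent.S2612
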