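import Cfsg.Statements.S2613
import Cfsg.Agent.Spinor.Pairs
import Cfsg.Agent.Spinor.StdForms

set_option autoImplicit false
open Cfsg

namespace Cfsg.Agent.S2613

open CfsgLib.Spinor CfsgLib.StdForms Matrix

lemma two_ne_zero_of_odd {F : Type*} [Field F] [Fintype F] {q : ℕ} (hF : Fintype.card F = q)
    (hq : Odd q) : (2 : F) ≠ 0 := by
  refine Ring.two_ne_zero fun h => ?_
  have := FiniteField.even_card_iff_char_two.1 h
  rw [hF] at this
  exact absurd (Nat.odd_iff.1 hq) (by omega)

lemma sum_lt_eq {F ι : Type*} [Field F] {m i : ℕ} (him : i ≤ m) (j : Fin m) (x : ι → F)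
    (c : Fin m → ι) :
    (∑ a : Fin i, if j = Fin.castLE him a then x (c (Fin.castLE him a)) else 0) =
      if (j : ℕ) < i then x (c j) else 0 := by
  by_cases h : (j : ℕ) < i
  · rw [if_pos h, Finset.sum_eq_single ⟨j, h⟩]
    · simp
    · intro a _ ha
      refine if_neg fun e => ha (Fin.ext ?_)
      subst e
      rfl
    · simp
  · rw [if_neg h]
    refine Finset.sum_eq_zero fun a _ => if_neg fun e => h ?_
    subst e
    exact a.2


/-- For the hyperbolic form Σ x_j y_j on F^(2m), F finite with q elements, q odd, and 1 ≤ i ≤ m: the involution negating the first i hyperbolic pairs (x_j, y_j ↦ −x_j, −y_j for j < i) and fixing the rest lies in Ω⁺_2m(q) (commutator subgroup of the orthogonal group) if and only if q^i ≡ 1 (mod 4); its (−1)-eigenspace is a hyperbolic 2i-space. -/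
theorem result {F : Type*} [Field F] [Fintype F] {q : ℕ} (hF : Fintype.card F = q) (hq : Odd q) {m : ℕ} (i : ℕ) (hi : 1 ≤ i) (him : i ≤ m) : (∃ g : ↥(Cfsg.isometryGroup F (Cfsg.quadFormPlus m F)), g ∈ Cfsg.Omega F (Cfsg.quadFormPlus m F) ∧ ((g : Matrix.GeneralLinearGroup (Fin m ⊕ Fin m) F) : Matrix (Fin m ⊕ Fin m) (Fin m ⊕ Fin m) F) = Matrix.diagonal (fun k : Fin m ⊕ Fin m => if (Sum.elim (fun j : Fin m => (j : ℕ)) (fun j : Fin m => (j : ℕ)) k) < i then (-1 : F) else 1)) ↔ q ^ i % 4 = 1 := by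
  classical
  have h2 := two_ne_zero_of_odd hF hq
  rw [← coe_plusQ]
  let e : Fin i → Fin m ⊕ Fin m → F := fun a => Pi.single (Sum.inl (Fin.castLE him a)) 1
  let f : Fin i → Fin m ⊕ Fin m → F := fun a => Pi.single (Sum.inr (Fin.castLE him a)) 1
  have hfam : IsPairFamily (plusQ m F) e f := by
    refine ⟨fun a => ?_, fun a => ?_, fun a b => ?_, fun a b => ?_, fun a b => ?_⟩ <;>
      simp [e, f, plusQ_apply, Cfsg.quadFormPlus, polar_plus, Pi.single_apply, Fin.castLE_inj,
        eq_comm]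
  refine (hfam.exists_mem_omega_iff h2 (plusQ_nondegenerate m) _ fun x => ?_).trans
    (by rw [Fintype.card_fin]; exact isSquare_neg_one_pow_iff h2 hF i)
  funext k
  rcases k with j | j <;>
    simp [e, f, polar_plus, Matrix.mulVec_diagonal, Pi.single_apply, Finset.sum_apply,
      sum_lt_eq him] <;>
    (by_cases hji : (j : ℕ) < i) <;> simp [hji] <;> ring

end Cfsg.Agent.S2613
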