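import Cfsg.Statements.S2614
import Cfsg.Agent.S2613

set_option autoImplicit false
open Cfsg

namespace Cfsg.Agent.S2614

open CfsgLib.Spinor CfsgLib.StdForms Matrix Cfsg.Agent.S2613


/-- For the form x_0² + Σ x_j y_j on F^(2m+1), F finite with q elements, q odd, and 1 ≤ i ≤ m: the involution of determinant one negating the first i hyperbolic pairs (and fixing x_0 and the other pairs) lies in Ω_(2m+1)(q) (commutator subgroup of the orthogonal group) if and only if q^i ≡ 1 (mod 4); its (−1)-eigenspace is a hyperbolic 2i-space. -/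
theorem result {F : Type*} [Field F] [Fintype F] {q : ℕ} (hF : Fintype.card F = q) (hq : Odd q) {m : ℕ} (i : ℕ) (hi : 1 ≤ i) (him : i ≤ m) : (∃ g : ↥(Cfsg.isometryGroup F (Cfsg.quadFormOdd m F)), g ∈ Cfsg.Omega F (Cfsg.quadFormOdd m F) ∧ ((g : Matrix.GeneralLinearGroup (Unit ⊕ (Fin m ⊕ Fin m)) F) : Matrix (Unit ⊕ (Fin m ⊕ Fin m)) (Unit ⊕ (Fin m ⊕ Fin m)) F) = Matrix.diagonal (fun k : Unit ⊕ (Fin m ⊕ Fin m) => if (Sum.elim (fun _ : Unit => i) (Sum.elim (fun j : Fin m => (j : ℕ)) (fun j : Fin m => (j : ℕ))) k) < i then (-1 : F) else 1)) ↔ q ^ i % 4 = 1 := by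
  classical
  have h2 := two_ne_zero_of_odd hF hq
  rw [← coe_oddQ]
  let e : Fin i → Unit ⊕ (Fin m ⊕ Fin m) → F :=
    fun a => Pi.single (Sum.inr (Sum.inl (Fin.castLE him a))) 1
  let f : Fin i → Unit ⊕ (Fin m ⊕ Fin m) → F :=
    fun a => Pi.single (Sum.inr (Sum.inr (Fin.castLE him a))) 1
  have hfam : IsPairFamily (oddQ m F) e f := by
    refine ⟨fun a => ?_, fun a => ?_, fun a b => ?_, fun a b => ?_, fun a b => ?_⟩ <;>
      simp [e, f, oddQ_apply, Cfsg.quadFormOdd, polar_odd, Pi.single_apply, Fin.castLE_inj,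
        eq_comm]
  refine (hfam.exists_mem_omega_iff h2 (oddQ_nondegenerate h2 m) _ fun x => ?_).trans
    (by rw [Fintype.card_fin]; exact isSquare_neg_one_pow_iff h2 hF i)
  funext k
  rcases k with u | j | j <;>
    simp [e, f, polar_odd, Matrix.mulVec_diagonal, Pi.single_apply, Finset.sum_apply,
      sum_lt_eq him, sum_lt_eq him _ x (fun j => Sum.inr (Sum.inl j)), sum_lt_eq him _ x (fun j => Sum.inr (Sum.inr j))] <;>
    (by_cases hji : (j : ℕ) < i) <;> simp [hji] <;> ring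

end Cfsg.Agent.S2614
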