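import Cfsg.Statements.S2615
import Cfsg.Agent.S2613

set_option autoImplicit false
open Cfsg

namespace Cfsg.Agent.S2615

open CfsgLib.Spinor CfsgLib.StdForms Matrix Cfsg.Agent.S2613


/-- For an elliptic form Σ_(j<m−1) x_j y_j + (z₁² + a z₁z₂ + b z₂²) (anisotropic binary part) on F^(2m), F finite with q elements, q odd, and 1 ≤ i ≤ m − 1: the involution negating the first i hyperbolic pairs and fixing the rest lies in Ω⁻_2m(q) (commutator subgroup of the orthogonal group) if and only if q^i ≡ 1 (mod 4). -/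
theorem result {F : Type*} [Field F] [Fintype F] {q : ℕ} (hF : Fintype.card F = q) (hq : Odd q) {m : ℕ} (a b : F) (hab : ∀ z₁ z₂ : F, z₁ ^ 2 + a * z₁ * z₂ + b * z₂ ^ 2 = 0 → z₁ = 0 ∧ z₂ = 0) (i : ℕ) (hi : 1 ≤ i) (him : i + 1 ≤ m) : (∃ g : ↥(Cfsg.isometryGroup F (Cfsg.quadFormMinus (m - 1) F a b)), g ∈ Cfsg.Omega F (Cfsg.quadFormMinus (m - 1) F a b) ∧ ((g : Matrix.GeneralLinearGroup ((Fin (m - 1) ⊕ Fin (m - 1)) ⊕ Fin 2) F) : Matrix ((Fin (m - 1) ⊕ Fin (m - 1)) ⊕ Fin 2) ((Fin (m - 1) ⊕ Fin (m - 1)) ⊕ Fin 2) F) = Matrix.diagonal (fun k : (Fin (m - 1) ⊕ Fin (m - 1)) ⊕ Fin 2 => if (Sum.elim (Sum.elim (fun j : Fin (m - 1) => (j : ℕ)) (fun j : Fin (m - 1) => (j : ℕ))) (fun _ : Fin 2 => i) k) < i then (-1 : F) else 1)) ↔ q ^ i % 4 = 1 := by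
  classical
  have h2 := two_ne_zero_of_odd hF hq
  have him' : i ≤ m - 1 := by omega
  rw [← coe_minusQ]
  let e : Fin i → (Fin (m - 1) ⊕ Fin (m - 1)) ⊕ Fin 2 → F :=
    fun c => Pi.single (Sum.inl (Sum.inl (Fin.castLE him' c))) 1
  let f : Fin i → (Fin (m - 1) ⊕ Fin (m - 1)) ⊕ Fin 2 → F :=
    fun c => Pi.single (Sum.inl (Sum.inr (Fin.castLE him' c))) 1
  have hfam : IsPairFamily (minusQ (m - 1) F a b) e f := by
    refine ⟨fun a => ?_, fun a => ?_, fun a b => ?_, fun a b => ?_, fun a b => ?_⟩ <;>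
      simp [e, f, minusQ_apply, Cfsg.quadFormMinus, polar_minus, Pi.single_apply, Fin.castLE_inj,
        eq_comm]
  refine (hfam.exists_mem_omega_iff h2
    (minusQ_nondegenerate _ (disc_ne_zero_of_anisotropic h2 hab)) _ fun x => ?_).trans
    (by rw [Fintype.card_fin]; exact isSquare_neg_one_pow_iff h2 hF i)
  funext k
  rcases k with (j | j) | j <;>
    simp [e, f, polar_minus, Matrix.mulVec_diagonal, Pi.single_apply, Finset.sum_apply,
      sum_lt_eq him', sum_lt_eq him' _ x (fun j => Sum.inl (Sum.inl j)), sum_lt_eq him' _ x (fun j => Sum.inl (Sum.inr j))] <;>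
    (by_cases hji : (j : ℕ) < i) <;> simp [hji] <;> ring

end Cfsg.Agent.S2615
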