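import Cfsg.Statements.S2617

set_option autoImplicit false
open Cfsg

namespace Cfsg.Agent.S2617



/-- The two standard quadratic forms of even dimension 2m over a finite field are not isometric: there is no linear isomorphism carrying the elliptic form Σ_(i<m−1) x_i y_i + z₁² + z₁z₂ + ζ z₂² (t² + t + ζ without roots) to the hyperbolic form Σ_(i<m) x_i y_i (they have different Witt index). -/
theorem result {F : Type*} [Field F] [Finite F] {m : ℕ} (hm : 1 ≤ m) (ζ : F) (hζ : ∀ t : F, t ^ 2 + t + ζ ≠ 0) (g : (Fin m ⊕ Fin m → F) ≃ₗ[F] ((Fin (m - 1) ⊕ Fin (m - 1)) ⊕ Fin 2 → F)) : ¬ (∀ v : Fin m ⊕ Fin m → F, Cfsg.quadFormMinus (m - 1) F 1 ζ (g v) = Cfsg.quadFormPlus m F v) := by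
  intro hg
  obtain ⟨k, rfl⟩ : ∃ k, m = k + 1 := ⟨m - 1, by omega⟩
  -- the image of the singular subspace `x ↦ (x, 0)`
  let ι0 : (Fin (k + 1) → F) →ₗ[F] (Fin (k + 1) ⊕ Fin (k + 1) → F) :=
    { toFun := fun x => Sum.elim x 0
      map_add' := fun x y => by ext (i | i) <;> simp
      map_smul' := fun r x => by ext (i | i) <;> simp }
  let φ : (Fin (k + 1) → F) →ₗ[F] ((Fin k ⊕ Fin k) ⊕ Fin 2 → F) := g.toLinearMap ∘ₗ ι0
  have hinj : Function.Injective φ := g.injective.comp
    (fun x y h => funext fun i => congrFun h (Sum.inl i))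
  have hsing : ∀ x, Cfsg.quadFormMinus k F 1 ζ (φ x) = 0 := by
    intro x
    show Cfsg.quadFormMinus k F 1 ζ (g (ι0 x)) = 0
    exact (hg (ι0 x)).trans (by simp [Cfsg.quadFormPlus, ι0])
  let px : (Fin (k + 1) → F) →ₗ[F] (Fin k → F) :=
    (LinearMap.funLeft F F (fun i => Sum.inl (Sum.inl i))) ∘ₗ φ
  let py : (Fin (k + 1) → F) →ₗ[F] (Fin k → F) :=
    (LinearMap.funLeft F F (fun i => Sum.inl (Sum.inr i))) ∘ₗ φ
  have hzero : ∀ x ∈ LinearMap.ker px, φ x (Sum.inr 0) = 0 ∧ φ x (Sum.inr 1) = 0 := by
    intro x hx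
    have h := hsing x
    have hx' : ∀ i, φ x (Sum.inl (Sum.inl i)) = 0 := fun i => congrFun (LinearMap.mem_ker.1 hx) i
    simp only [Cfsg.quadFormMinus, hx', zero_mul, Finset.sum_const_zero, zero_add] at h
    have h1 : φ x (Sum.inr 1) = 0 := by
      by_contra h1
      apply hζ (φ x (Sum.inr 0) / φ x (Sum.inr 1))
      field_simp
      linear_combination h
    refine ⟨?_, h1⟩
    simpa [h1] using h
  -- the `x`-parts are orthogonal to the `y`-parts of the kernel
  let pair : (Fin k → F) →ₗ[F] Module.Dual F (LinearMap.ker px) :=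
    LinearMap.mk₂ F (fun (v : Fin k → F) (w : LinearMap.ker px) => ∑ i, v i * py w.1 i)
      (fun a b w => by simp [add_mul, Finset.sum_add_distrib])
      (fun r a w => by simp [Finset.mul_sum, mul_assoc])
      (fun a v w => by simp [mul_add, Finset.sum_add_distrib])
      (fun r a v => by simp [Finset.mul_sum, mul_left_comm])
  have hker : LinearMap.range px ≤ LinearMap.ker pair := by
    rintro _ ⟨x, rfl⟩
    rw [LinearMap.mem_ker]
    ext ⟨w, hw⟩
    have h := hsing (x + w)
    have hxs := hsing x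
    have hx' : ∀ i, φ w (Sum.inl (Sum.inl i)) = 0 := fun i => congrFun (LinearMap.mem_ker.1 hw) i
    obtain ⟨z0, z1⟩ := hzero w hw
    simp only [map_add, Cfsg.quadFormMinus, Pi.add_apply, hx', z0, z1, add_zero, mul_add,
      Finset.sum_add_distrib] at h hxs
    show ∑ i, px x i * py w i = 0
    simp only [px, py, LinearMap.comp_apply, LinearMap.funLeft_apply]
    linear_combination h - hxs
  -- `py` is injective on the kernel, so the pairing is surjective
  have hsurj : Function.Surjective pair := by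
    intro l
    have hpy : LinearMap.ker (py ∘ₗ (LinearMap.ker px).subtype) = ⊥ := by
      rw [LinearMap.ker_eq_bot']
      rintro ⟨w, hw⟩ h
      have hx' : ∀ i, φ w (Sum.inl (Sum.inl i)) = 0 :=
        fun i => congrFun (LinearMap.mem_ker.1 hw) i
      obtain ⟨z0, z1⟩ := hzero w hw
      refine Subtype.ext (hinj ?_)
      rw [ZeroMemClass.coe_zero, map_zero]
      funext j
      rcases j with (i | i) | i
      · exact hx' i
      · exact congrFun h i
      · fin_cases i
        · exact z0
        · exact z1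
    obtain ⟨s, hs⟩ := LinearMap.exists_leftInverse_of_injective _ hpy
    refine ⟨fun i => l (s (Pi.single i 1)), ?_⟩
    ext w
    show ∑ i, l (s (Pi.single i 1)) * py w.1 i = l w
    conv_rhs => rw [show w = s (py w.1) from (LinearMap.congr_fun hs w).symm]
    conv_rhs => rw [pi_eq_sum_univ' (py w.1)]
    rw [map_sum, map_sum]
    refine Finset.sum_congr rfl fun i _ => ?_
    rw [map_smul, map_smul, smul_eq_mul, mul_comm]
  have h1 := LinearMap.finrank_range_add_finrank_ker px
  have h2 := LinearMap.finrank_range_add_finrank_ker pair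
  rw [LinearMap.range_eq_top.2 hsurj, finrank_top, Subspace.dual_finrank_eq] at h2
  have h3 := Submodule.finrank_mono hker
  rw [Module.finrank_fin_fun] at h1 h2
  omega

end Cfsg.Agent.S2617
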