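import Cfsg.Statements.S2619

set_option autoImplicit false
open Cfsg

namespace Cfsg.Agent.S2619



/-- Over a finite field of characteristic two, given an alternating bilinear form B on a finite-dimensional space, a basis (v_i) and scalars (λ_i), there is exactly one quadratic form whose polar form is B and whose value at each v_i is λ_i. -/
theorem result {F V ι : Type*} [Field F] [Finite F] [CharP F 2] [AddCommGroup V] [Module F V] [Fintype ι] (b : Module.Basis ι F V) (B : LinearMap.BilinForm F V) (hB : B.IsAlt) (c : ι → F) : ∃! Q : QuadraticForm F V, QuadraticMap.polarBilin Q = B ∧ ∀ i, Q (b i) = c i := by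
  classical
  letI : LinearOrder ι := LinearOrder.lift' (Fintype.equivFin ι) (Fintype.equivFin ι).injective
  let T : LinearMap.BilinForm F V := Matrix.toBilin b (Matrix.of fun i j =>
    if i = j then c i else if i < j then B (b i) (b j) else 0)
  have hsymm : ∀ x y, B x y = B y x := by
    intro x y
    rw [← LinearMap.BilinForm.IsAlt.neg_eq hB y x, CharTwo.neg_eq]
  have hpol : QuadraticMap.polarBilin (LinearMap.BilinMap.toQuadraticMap T) = B := by
    refine b.ext fun i => b.ext fun j => ?_
    rw [QuadraticMap.polarBilin_apply_apply, LinearMap.BilinMap.polar_toQuadraticMap]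
    simp only [T, Matrix.toBilin_apply, Module.Basis.repr_self]
    rw [Finset.sum_eq_single i, Finset.sum_eq_single j, Finset.sum_eq_single j,
      Finset.sum_eq_single i] <;> simp (config := { contextual := true }) [Finsupp.single_apply]
    rcases lt_trichotomy i j with h | h | h
    · simp [h, h.ne, h.ne', h.not_gt]
    · subst h; simp [hB.self_eq_zero, CharTwo.add_self_eq_zero]
    · simp [h, h.ne, h.ne', h.not_gt, hsymm (b j) (b i)]
  refine ⟨LinearMap.BilinMap.toQuadraticMap T, ⟨hpol, fun i => ?_⟩, ?_⟩
  · simp only [LinearMap.BilinMap.toQuadraticMap_apply, T, Matrix.toBilin_apply,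
      Module.Basis.repr_self]
    rw [Finset.sum_eq_single i, Finset.sum_eq_single i] <;>
      simp (config := { contextual := true }) [Finsupp.single_apply]
  · rintro Q ⟨hQ, hQc⟩
    set R := LinearMap.BilinMap.toQuadraticMap T
    have hRc : ∀ i, R (b i) = c i := by
      intro i
      simp only [R, LinearMap.BilinMap.toQuadraticMap_apply, T, Matrix.toBilin_apply,
        Module.Basis.repr_self]
      rw [Finset.sum_eq_single i, Finset.sum_eq_single i] <;>
        simp (config := { contextual := true }) [Finsupp.single_apply]
    have hp : ∀ x y, QuadraticMap.polar ⇑Q x y = QuadraticMap.polar ⇑R x y := fun x y => by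
      rw [← QuadraticMap.polarBilin_apply_apply, hQ, ← hpol, QuadraticMap.polarBilin_apply_apply]
    ext x
    have hx : x ∈ Submodule.span F (Set.range b) := by rw [b.span_eq]; trivial
    induction hx using Submodule.span_induction with
    | mem y hy => obtain ⟨i, rfl⟩ := hy; rw [hQc, hRc]
    | zero => simp
    | add y z _ _ h1 h2 => rw [QuadraticMap.map_add ⇑Q y z, QuadraticMap.map_add ⇑R y z, h1, h2, hp]
    | smul a y _ h => rw [QuadraticMap.map_smul, QuadraticMap.map_smul, h]

end Cfsg.Agent.S2619
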