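import Cfsg.Statements.S2621
import Cfsg.Agent.S2620

set_option autoImplicit false
open Cfsg

namespace Cfsg.Agent.S2621

open Matrix Cfsg.Agent.S2620


/-- Discriminant of an elliptic quadratic form Σ_(i<m−1) x_i y_i + z₁² + a z₁z₂ + c z₂² (binary part anisotropic) in dimension 2m over a field with q elements, q odd, m ≥ 1: the determinant of the Gram matrix of its polar form in any basis is a square if and only if m(q − 1)/2 is odd (equivalently q^m ≡ 3 (mod 4)). -/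
theorem result {F : Type*} [Field F] [Fintype F] {q : ℕ} (hF : Fintype.card F = q) (hq : Odd q) {m : ℕ} (hm : 1 ≤ m) (a c : F) (hac : ∀ z₁ z₂ : F, z₁ ^ 2 + a * z₁ * z₂ + c * z₂ ^ 2 = 0 → z₁ = 0 ∧ z₂ = 0) {ι : Type*} [Fintype ι] [DecidableEq ι] (b : Module.Basis ι F ((Fin (m - 1) ⊕ Fin (m - 1)) ⊕ Fin 2 → F)) : IsSquare (Matrix.of (fun i j : ι => QuadraticMap.polar (Cfsg.quadFormMinus (m - 1) F a c) (b i) (b j))).det ↔ ¬ Even (m * (q - 1) / 2) := by
  classical
  obtain ⟨k, rfl⟩ : ∃ k, m = k + 1 := ⟨m - 1, by omega⟩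
  let B : Matrix ((Fin k ⊕ Fin k) ⊕ Fin 2) ((Fin k ⊕ Fin k) ⊕ Fin 2) F :=
    Matrix.fromBlocks (hypGram k F) 0 0 !![2, a; a, 2 * c]
  have hB : ∀ x y, QuadraticMap.polar (Cfsg.quadFormMinus k F a c) x y
      = Matrix.toBilin' B x y := by
    intro x y
    have h1 := polar_plus k (x ∘ Sum.inl) (y ∘ Sum.inl)
    rw [Matrix.toBilin'_apply'] at h1 ⊢
    have h2 : x ⬝ᵥ B *ᵥ y = (x ∘ Sum.inl) ⬝ᵥ hypGram k F *ᵥ (y ∘ Sum.inl) +
        (x ∘ Sum.inr) ⬝ᵥ !![2, a; a, 2 * c] *ᵥ (y ∘ Sum.inr) := by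
      rw [Matrix.fromBlocks_mulVec, Matrix.zero_mulVec, Matrix.zero_mulVec, add_zero, zero_add,
        dotProduct, Fintype.sum_sum_type]
      simp [dotProduct]
    rw [h2, ← h1]
    simp only [QuadraticMap.polar, Cfsg.quadFormMinus, Cfsg.quadFormPlus, Function.comp_apply,
      dotProduct, Matrix.mulVec, Fin.sum_univ_two, Matrix.of_apply, Matrix.cons_val_zero,
      Matrix.cons_val_one, Pi.add_apply]
    ring
  obtain ⟨d, hd, hdet⟩ := gram_det (Cfsg.quadFormMinus k F a c) B hB b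
  have hdB : B.det = (-1) ^ (k + 1) * (a ^ 2 - 4 * c) := by
    rw [Matrix.det_fromBlocks_zero₂₁, hypGram_det, Matrix.det_fin_two_of]; ring
  have h2 : ringChar F ≠ 2 := by
    intro h
    have := FiniteField.even_card_iff_char_two.1 h
    rw [hF] at this
    exact absurd (Nat.odd_iff.1 hq) (by omega)
  have h20 : (2 : F) ≠ 0 := Ring.two_ne_zero h2
  have hns : ¬ IsSquare (a ^ 2 - 4 * c) := by
    rintro ⟨r, hr⟩
    obtain ⟨-, h⟩ := hac ((r - a) / 2) 1 (by field_simp; linear_combination -hr)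
    exact one_ne_zero h
  refine Iff.trans (Iff.of_eq (congrArg IsSquare hdet)) ?_
  rw [isSquare_sq_mul hd, hdB, ← isSquare_neg_one_pow hF hq (k + 1)]
  constructor
  · rintro h ⟨r, hr⟩
    have hr0 : r ≠ 0 := by
      rintro rfl
      simp at hr
    rw [hr] at h
    exact hns ((isSquare_sq_mul hr0).1 (by rwa [sq]))
  · intro h
    rw [← quadraticChar_one_iff_isSquare (mul_ne_zero (pow_ne_zero _ (neg_ne_zero.2 one_ne_zero))
      (fun h0 => hns (by rw [h0]; exact IsSquare.zero))), map_mul,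
      quadraticChar_neg_one_iff_not_isSquare.2 h, quadraticChar_neg_one_iff_not_isSquare.2 hns]
    norm_num

end Cfsg.Agent.S2621
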