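import Cfsg.Statements.S2622


set_option autoImplicit false
open Cfsg

namespace Cfsg.Agent.S2622

open Module

section
universe u w

variable {F : Type u} [Field F] [Finite F] [CharP F 2]

theorem sqrt_exists (a : F) : IsSquare a :=
  FiniteField.isSquare_of_char_two (ringChar.eq F 2) a

/-- An orthonormal family of full size. -/
theorem aux (n : ℕ) : ∀ (V : Type w) [AddCommGroup V] [Module F V] [FiniteDimensional F V]
    (_ : Module.finrank F V = n) (B : LinearMap.BilinForm F V) (_ : B.IsSymm) (_ : B.Nondegenerate)
    (_ : ∃ v : V, B v v ≠ 0), ∃ v : Fin n → V, ∀ i j, B (v i) (v j) = if i = j then 1 else 0 := by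
  induction n with
  | zero => intro V _ _ _ _ B _ _ _; exact ⟨Fin.elim0, fun i => i.elim0⟩
  | succ n ih =>
    intro V _ _ _ hV B hS hB hna
    obtain ⟨u, hu⟩ := hna
    obtain ⟨s, hs⟩ := sqrt_exists (B u u)
    have hs0 : s ≠ 0 := fun h => hu (by rw [hs, h, mul_zero])
    set v := s⁻¹ • u with hv
    have hvv : B v v = 1 := by
      simp only [hv, map_smul, LinearMap.smul_apply, smul_eq_mul, hs]
      field_simp
    -- choose a unit vector whose orthogonal complement is not alternating
    obtain ⟨e, hee, hrest⟩ : ∃ e, B e e = 1 ∧ (n ≠ 0 → ∃ x, B e x = 0 ∧ B x x ≠ 0) := by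
      by_cases hx : ∃ x, B v x = 0 ∧ B x x ≠ 0
      · exact ⟨v, hvv, fun _ => hx⟩
      · push Not at hx
        rcases Nat.eq_zero_or_pos n with h0 | h0
        · exact ⟨v, hvv, fun h => absurd h0 h⟩
        · obtain ⟨a, ha⟩ : ∃ a, a ∉ Submodule.span F {v} := by
            by_contra hall
            push Not at hall
            have h1 : finrank F (Submodule.span F {v}) = n + 1 := by
              rw [show Submodule.span F {v} = ⊤ from eq_top_iff.2 (fun x _ => hall x), finrank_top]; exact hV
            have h2 := finrank_span_le_card (R := F) ({v} : Set V)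
            simp at h2
            omega
          set a' := a - (B v a) • v with ha'
          have hva : B v a' = 0 := by simp [ha', hvv]
          have ha0 : a' ≠ 0 := fun h => ha (by
            rw [sub_eq_zero.1 h]; exact Submodule.smul_mem _ _ (Submodule.subset_span rfl))
          obtain ⟨b, hb⟩ : ∃ b, B a' b ≠ 0 := by
            by_contra hall
            push Not at hall
            exact ha0 (hB.1 a' hall)
          refine ⟨v + a', ?_, fun _ => ⟨v + (B a' (b - (B v b) • v))⁻¹ • (b - (B v b) • v), ?_, ?_⟩⟩
          · simp [map_add, hvv, hva, hS.eq a' v, hx a' hva]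
          · have hvb : B v (b - (B v b) • v) = 0 := by simp [hvv]
            have hab : B a' (b - (B v b) • v) ≠ 0 := by
              simpa [map_sub, hS.eq a' v, hva] using hb
            simp only [map_add, map_smul, LinearMap.add_apply, hvv, hvb, hS.eq a' v, hva, smul_eq_mul,
              inv_mul_cancel₀ hab, mul_zero, zero_add, add_zero]
            exact CharTwo.add_self_eq_zero _
          · have hvb : B v (b - (B v b) • v) = 0 := by simp [hvv]
            simp only [map_add, map_smul, LinearMap.add_apply, LinearMap.smul_apply, hvv, hvb,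
              hS.eq (b - (B v b) • v) v, hx _ hvb, smul_eq_mul, mul_zero, add_zero]
            exact one_ne_zero
    set W := LinearMap.ker (B e) with hW
    have hWfin : finrank F W = n := by
      have := LinearMap.finrank_range_add_finrank_ker (B e)
      rw [LinearMap.range_eq_top.2 (fun c => ⟨c • e, by simp [hee]⟩), finrank_top, finrank_self, hV] at this
      rw [hW]
      omega
    rcases Nat.eq_zero_or_pos n with h0 | h0
    · subst h0
      exact ⟨fun _ => e, fun i j => by simp [hee, Subsingleton.elim (α := Fin 1) i j]⟩
    · obtain ⟨x, hx1, hx2⟩ := hrest (by omega)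
      have hB' : (B.restrict W).Nondegenerate := by
        have key : ∀ y : W, (∀ z : W, B (y : V) z = 0) → y = 0 := by
          intro y hy
          refine Subtype.ext (hB.1 _ fun z => ?_)
          have hz : z - (B e z) • e ∈ W := by simp [hW, hee]
          have hye : B (y : V) e = 0 := by rw [hS.eq]; exact y.2
          simpa [hye] using hy ⟨_, hz⟩
        exact ⟨key, fun y hy => key y fun z => (hS.eq _ _).trans (hy z)⟩
      obtain ⟨f, hf⟩ := ih W hWfin (B.restrict W) ⟨fun a b => hS.eq a b⟩ hB' ⟨⟨x, hx1⟩, hx2⟩
      refine ⟨Fin.cons e (fun i => (f i : V)), fun i j => ?_⟩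
      cases i using Fin.cases with
      | zero =>
        cases j using Fin.cases with
        | zero => simpa using hee
        | succ j => simpa [(Fin.succ_ne_zero j).symm] using (f j).2
      | succ i =>
        cases j using Fin.cases with
        | zero => simpa [hS.eq _ e, Fin.succ_ne_zero i] using (f i).2
        | succ j => simpa using hf i j

end

/-- Over a finite field of characteristic two, a non-degenerate symmetric bilinear form that is not alternating (some vector v has B(v, v) ≠ 0) admits an orthonormal basis. -/
theorem result {F V : Type*} [Field F] [Finite F] [CharP F 2] [AddCommGroup V] [Module F V] [FiniteDimensional F V] {n : ℕ} (hV : Module.finrank F V = n) (B : LinearMap.BilinForm F V) (hS : B.IsSymm) (hB : B.Nondegenerate) (hna : ∃ v : V, B v v ≠ 0) : ∃ b : Module.Basis (Fin n) F V, ∀ i j, B (b i) (b j) = if i = j then 1 else 0 := by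
  classical
  obtain ⟨v, hv⟩ := aux (F := F) n V hV B hS hB hna
  have hli : LinearIndependent F v := by
    rw [Fintype.linearIndependent_iff]
    intro c hc i
    have := congrArg (B (v i)) hc
    simpa [hv] using this
  rcases Nat.eq_zero_or_pos n with h0 | h0
  · subst h0
    exact ⟨Module.finBasisOfFinrankEq F V hV, fun i => i.elim0⟩
  · haveI : Nonempty (Fin n) := ⟨⟨0, h0⟩⟩
    exact ⟨basisOfLinearIndependentOfCardEqFinrank hli (by simp [hV]), fun i j => by simp [hv]⟩

end Cfsg.Agent.S2622
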