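import Cfsg.Statements.S2624
import Cfsg.Agent.FormDiscr.Basic

set_option autoImplicit false
open Cfsg

namespace Cfsg.Agent.S2624

/-- For a quadratic form Q on F^n with non-degenerate polar form, F finite and n ≥ 2 even, every non-zero scalar c is the multiplier of some similarity: there is an invertible linear map g with Q(g v) = c·Q(v) for all v. -/
theorem result {F : Type*} [Field F] [Fintype F] {n : ℕ} (hn : 2 ≤ n) (he : Even n) (Q : QuadraticForm F (Fin n → F)) (hQ : (QuadraticMap.polarBilin Q).Nondegenerate) (c : F) (hc : c ≠ 0) : ∃ g : (Fin n → F) ≃ₗ[F] (Fin n → F), ∀ v, Q (g v) = c * Q v := by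
  by_cases h2 : (2 : F) = 0
  · have hch : ringChar F = 2 := by
      haveI : Fact (Nat.Prime 2) := ⟨Nat.prime_two⟩
      haveI : CharP F 2 := CharTwo.of_one_ne_zero_of_two_eq_zero one_ne_zero h2
      exact ringChar.eq F 2
    obtain ⟨s, hs⟩ := FiniteField.isSquare_of_char_two hch c
    have hs0 : s ≠ 0 := fun h => hc (by rw [hs, h, mul_zero])
    refine ⟨LinearEquiv.smulOfNeZero F _ s hs0, fun v => ?_⟩
    show Q (s • v) = c * Q v
    rw [QuadraticMap.map_smul, hs, smul_eq_mul]
  · have hb : (c • Q).polarBilin = c • Q.polarBilin := by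
      refine LinearMap.ext₂ fun x y => ?_
      simp [QuadraticMap.polar, mul_sub]
    have hnd : ((c • Q).polarBilin).Nondegenerate := by
      rw [hb]
      refine ⟨fun x hx => hQ.1 x fun y => ?_, fun x hx => hQ.2 x fun y => ?_⟩
      · exact (mul_eq_zero.1 (hx y)).resolve_left hc
      · exact (mul_eq_zero.1 (hx y)).resolve_left hc
    obtain ⟨k, hk⟩ := he
    obtain ⟨g, hg⟩ := (CfsgLib.FormDiscr.equivalent_iff h2 (c • Q) Q hnd hQ).2 (by
      have : (CfsgLib.FormDiscr.gram (c • Q)).det = c ^ n * (CfsgLib.FormDiscr.gram Q).det := by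
        rw [CfsgLib.FormDiscr.gram_eq, hb, map_smul, Matrix.det_smul, ← CfsgLib.FormDiscr.gram_eq,
          Fintype.card_fin]
      refine ⟨c ^ k * (CfsgLib.FormDiscr.gram Q).det, ?_⟩
      rw [this, show c ^ n = c ^ k * c ^ k by rw [← pow_add, ← hk]]; ring)
    exact ⟨g, fun v => by rw [hg]; rfl⟩

end Cfsg.Agent.S2624
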