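import Cfsg.Statements.S2625
import Cfsg.Agent.FormDiscr.Basic

set_option autoImplicit false
open Cfsg

namespace Cfsg.Agent.S2625

/-- For a quadratic form Q on F^n with non-degenerate polar form, F finite and n odd (so |F| is odd), the multiplier of any similarity is a square: if g is an invertible linear map with Q(g v) = c·Q(v) for all v then c is a square. -/
theorem result {F : Type*} [Field F] [Fintype F] {n : ℕ} (hn : Odd n) (Q : QuadraticForm F (Fin n → F)) (hQ : (QuadraticMap.polarBilin Q).Nondegenerate) (g : (Fin n → F) ≃ₗ[F] (Fin n → F)) (c : F) (hg : ∀ v, Q (g v) = c * Q v) : IsSquare c := by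
  have h := CfsgLib.FormDiscr.gram_det_comp Q Q (g : (Fin n → F) →ₗ[F] (Fin n → F)) c hg
  rw [Fintype.card_fin] at h
  have hpow : LinearMap.det (g : (Fin n → F) →ₗ[F] (Fin n → F)) ^ 2 = c ^ n :=
    mul_right_cancel₀ (CfsgLib.FormDiscr.gram_det_ne_zero Q hQ) h
  obtain ⟨k, hk⟩ := hn
  by_cases hc : c = 0
  · exact ⟨0, by rw [hc, mul_zero]⟩
  · refine ⟨LinearMap.det (g : (Fin n → F) →ₗ[F] (Fin n → F)) / c ^ k, ?_⟩
    rw [div_mul_div_comm, ← pow_two, hpow, eq_div_iff (by simp [hc]), hk]
    ring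

end Cfsg.Agent.S2625
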