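import Cfsg.Statements.S2626


set_option autoImplicit false
open Cfsg

namespace Cfsg.Agent.S2626

/-- Ω of an orthogonal direct sum contains the product of the Ω's: for quadratic forms Q₁ on F^k and Q₂ on F^l with non-degenerate polar forms (F finite) and Q = Q₁ ⊕ Q₂ on F^(k+l), if g₁ lies in Ω(Q₁) and g₂ in Ω(Q₂) (commutator subgroups of the orthogonal groups) then the block-diagonal isometry diag(g₁, g₂) lies in Ω(Q). -/
theorem result {F : Type*} [Field F] [Fintype F] {k l : ℕ} (Q₁ : QuadraticForm F (Fin k → F)) (Q₂ : QuadraticForm F (Fin l → F)) (h₁ : (QuadraticMap.polarBilin Q₁).Nondegenerate) (h₂ : (QuadraticMap.polarBilin Q₂).Nondegenerate) (g₁ : ↥(Cfsg.isometryGroup F ⇑Q₁)) (g₂ : ↥(Cfsg.isometryGroup F ⇑Q₂)) (hg₁ : g₁ ∈ Cfsg.Omega F ⇑Q₁) (hg₂ : g₂ ∈ Cfsg.Omega F ⇑Q₂) : ∃ g : ↥(Cfsg.isometryGroup F (fun v : Fin k ⊕ Fin l → F => Q₁ (v ∘ Sum.inl) + Q₂ (v ∘ Sum.inr))), g ∈ Cfsg.Omega F (fun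 v : Fin k ⊕ Fin l → F => Q₁ (v ∘ Sum.inl) + Q₂ (v ∘ Sum.inr)) ∧ ((g : Matrix.GeneralLinearGroup (Fin k ⊕ Fin l) F) : Matrix (Fin k ⊕ Fin l) (Fin k ⊕ Fin l) F) = Matrix.fromBlocks ((g₁ : Matrix.GeneralLinearGroup (Fin k) F) : Matrix (Fin k) (Fin k) F) 0 0 ((g₂ : Matrix.GeneralLinearGroup (Fin l) F) : Matrix (Fin l) (Fin l) F) := by
  set O := Cfsg.isometryGroup F (fun v : Fin k ⊕ Fin l → F => Q₁ (v ∘ Sum.inl) + Q₂ (v ∘ Sum.inr))
  have hval : ∀ (a : GL (Fin k) F) (b : GL (Fin l) F),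
      Matrix.fromBlocks (a : Matrix (Fin k) (Fin k) F) 0 0 (b : Matrix (Fin l) (Fin l) F) *
        Matrix.fromBlocks ((a⁻¹ : GL (Fin k) F) : Matrix (Fin k) (Fin k) F) 0 0
          ((b⁻¹ : GL (Fin l) F) : Matrix (Fin l) (Fin l) F) = 1 := fun a b => by
    simp [Matrix.fromBlocks_multiply, Matrix.fromBlocks_one, ← Units.val_mul]
  let blk : GL (Fin k) F × GL (Fin l) F →* GL (Fin k ⊕ Fin l) F :=
    { toFun := fun p =>
        { val := Matrix.fromBlocks (p.1 : Matrix (Fin k) (Fin k) F) 0 0 (p.2 : Matrix (Fin l) (Fin l) F)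
          inv := Matrix.fromBlocks ((p.1⁻¹ : GL (Fin k) F) : Matrix (Fin k) (Fin k) F) 0 0
            ((p.2⁻¹ : GL (Fin l) F) : Matrix (Fin l) (Fin l) F)
          val_inv := hval p.1 p.2
          inv_val := by simpa using hval p.1⁻¹ p.2⁻¹ }
      map_one' := Units.ext (by simp [Matrix.fromBlocks_one])
      map_mul' := fun p r => Units.ext (by simp [Matrix.fromBlocks_multiply]) }
  have hblk : ∀ p : ↥(Cfsg.isometryGroup F ⇑Q₁) × ↥(Cfsg.isometryGroup F ⇑Q₂),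
      blk ((p.1 : GL (Fin k) F), (p.2 : GL (Fin l) F)) ∈ O := by
    intro p u v
    show Q₁ _ + Q₂ _ = _
    have e1 := p.1.2 (u ∘ Sum.inl) (v ∘ Sum.inl)
    have e2 := p.2.2 (u ∘ Sum.inr) (v ∘ Sum.inr)
    simp only [blk, MonoidHom.coe_mk, OneHom.coe_mk, Units.coeHom_apply, Matrix.fromBlocks_mulVec]
    simp only [Units.coeHom_apply] at e1 e2
    simp [e1, e2]
  let D : ↥(Cfsg.isometryGroup F ⇑Q₁) × ↥(Cfsg.isometryGroup F ⇑Q₂) →* ↥O :=
    { toFun := fun p => ⟨_, hblk p⟩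
      map_one' := Subtype.ext (map_one blk)
      map_mul' := fun p r => Subtype.ext (map_mul blk
        ((p.1 : GL (Fin k) F), (p.2 : GL (Fin l) F)) ((r.1 : GL (Fin k) F), (r.2 : GL (Fin l) F))) }
  refine ⟨D (g₁, g₂), ?_, rfl⟩
  have hle : ∀ {G : Type _} [Group G] (f : G →* ↥O) (x : G), x ∈ commutator G → f x ∈ commutator ↥O := by
    intro G _ f x hx
    have := Subgroup.mem_map_of_mem f hx
    rw [commutator_def, Subgroup.map_commutator] at this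
    exact Subgroup.commutator_mono le_top le_top this
  have hsplit : D (g₁, g₂) = (D.comp (MonoidHom.inl _ _)) g₁ * (D.comp (MonoidHom.inr _ _)) g₂ := by
    simp [← map_mul]
  rw [hsplit]
  exact mul_mem (hle _ _ hg₁) (hle _ _ hg₂)

end Cfsg.Agent.S2626
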