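import Cfsg.Statements.S2630
import Cfsg.Agent.OmegaOrbits.Split

set_option autoImplicit false
open Cfsg

namespace Cfsg.Agent.S2630

/-- For the hyperbolic form Σ x_i y_i on F^(2m) over a finite field of characteristic two (m ≥ 1, excluding m = 2 over the field of two elements), an isometry g preserves the class of the maximal totally singular subspace U₀ = {y = 0} (m − dim(U₀ ∩ gU₀) even) if and only if g lies in Ω (the commutator subgroup of the orthogonal group): the stabiliser of each class is Ω. -/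
theorem result {F : Type*} [Field F] [Fintype F] [CharP F 2] {m : ℕ} (hm : 1 ≤ m) (h : Fintype.card F ≠ 2 ∨ m ≠ 2) (g : ↥(Cfsg.isometryGroup F (Cfsg.quadFormPlus m F))) : Even (m - Module.finrank F ↥(LinearMap.ker (LinearMap.funLeft F F (Sum.inr : Fin m → Fin m ⊕ Fin m)) ⊓ (LinearMap.ker (LinearMap.funLeft F F (Sum.inr : Fin m → Fin m ⊕ Fin m))).map (Matrix.mulVecLin ((g : Matrix.GeneralLinearGroup (Fin m ⊕ Fin m) F) : Matrix (Fin m ⊕ Fin m) (Fin m ⊕ Fin m) F)))) ↔ g ∈ Cfsg.Omega F (Cfsg.quadFormPlus m F) := by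
  have key : ∀ f, ⇑(CfsgLib.StdForms.plusQ m F) = f → ∀ g' : ↥(Cfsg.isometryGroup F f),
      (Even (m - Module.finrank F ↥(CfsgLib.OmegaOrbits.baseLag m F ⊓ (CfsgLib.OmegaOrbits.baseLag m F).map
        (Matrix.mulVecLin ((g' : Matrix.GeneralLinearGroup (Fin m ⊕ Fin m) F) : Matrix (Fin m ⊕ Fin m) (Fin m ⊕ Fin m) F)))) ↔
        g' ∈ Cfsg.Omega F f) := by
    rintro f rfl g'
    exact CfsgLib.OmegaOrbits.even_sub_iff_mem_omega h g'
  exact key _ (CfsgLib.StdForms.coe_plusQ m) g

end Cfsg.Agent.S2630
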