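import Cfsg.Statements.S2632
import Cfsg.Agent.OmegaOrbits.Basic

set_option autoImplicit false
open Cfsg

namespace Cfsg.Agent.S2632

/-- Ω is transitive on non-degenerate subspaces of each isometry type: for a quadratic form Q on F^n, n ≥ 3, with non-degenerate polar form (F finite; excluding dimension 4 over the field of two elements), if U and W are subspaces on which the polar form is non-degenerate and there is a Q-preserving linear isomorphism U → W, then some element of Ω (the commutator subgroup of the orthogonal group) carries U to W. (In dimension 2 this fails: Ω can be {±1}, which fixes every line.) -/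
theorem result {F : Type*} [Field F] [Fintype F] {n : ℕ} (hn : 3 ≤ n) (h : Fintype.card F ≠ 2 ∨ n ≠ 4) (Q : QuadraticForm F (Fin n → F)) (hQ : (QuadraticMap.polarBilin Q).Nondegenerate) (U W : Submodule F (Fin n → F)) (hU : U ⊓ LinearMap.BilinForm.orthogonal (QuadraticMap.polarBilin Q) U = ⊥) (hW : W ⊓ LinearMap.BilinForm.orthogonal (QuadraticMap.polarBilin Q) W = ⊥) (e : U ≃ₗ[F] W) (he : ∀ u : U, Q (e u : Fin n → F) = Q (u : Fin n → F)) : ∃ g : ↥(Cfsg.isometryGroup F ⇑Q), g ∈ Cfsg.Omega F ⇑Q ∧ U.map (Matrix.mulVecLin ((g : Matrix.GeneralLinearGroup (Fin n) F) : Matrix (Fin n) (Fin n) F)) = W := by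
  classical
  have hQ' := hQ
  have hexc : Nat.card F ≠ 2 ∨ Fintype.card (Fin n) ≠ 4 := by
    rw [Nat.card_eq_fintype_card, Fintype.card_fin]; exact h
  obtain ⟨g₀, hg₀⟩ := CfsgLib.OmegaOrbits.exists_extend hQ e he
  obtain ⟨vs, hvs⟩ := CfsgLib.Forms.exists_isReflProd_finite hQ hexc g₀
  have hrefl : LinearMap.BilinForm.IsRefl (QuadraticMap.polarBilin Q) := fun x y h => by
    simpa [QuadraticMap.polar_comm] using h
  obtain ⟨X, hXd, hXn, hX⟩ : ∃ X : Submodule F (Fin n → F), 2 ≤ Module.finrank F X ∧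
      X ⊓ LinearMap.BilinForm.orthogonal (QuadraticMap.polarBilin Q) X = ⊥ ∧
      ∀ v ∈ X, ∀ u ∈ U, v ∈ U ∨ QuadraticMap.polar (⇑Q) v u = 0 := by
    by_cases hd : 2 ≤ Module.finrank F U
    · exact ⟨U, hd, hU, fun v hv u _ => Or.inl hv⟩
    · refine ⟨LinearMap.BilinForm.orthogonal (QuadraticMap.polarBilin Q) U, ?_, ?_, fun v hv u hu => Or.inr ?_⟩
      · rw [LinearMap.BilinForm.finrank_orthogonal hQ, Module.finrank_fin_fun]; omega
      · rw [LinearMap.BilinForm.orthogonal_orthogonal hQ hrefl, inf_comm, hU]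
      · rw [QuadraticMap.polar_comm]; exact hv u hu
  obtain ⟨v, hvX, hv1⟩ := CfsgLib.OmegaOrbits.exists_value_mem hXn hXd 1 one_ne_zero
  have hv : Q v ≠ 0 := by rw [hv1]; exact one_ne_zero
  refine CfsgLib.OmegaOrbits.exists_omega_gmap hQ hexc hvs hg₀
    (fun _ => ⟨v, hv, CfsgLib.OmegaOrbits.gmap_reflIso_of_mem hv (hX v hvX)⟩) fun c hc => ?_
  obtain ⟨b, hbX, hb⟩ := CfsgLib.OmegaOrbits.exists_value_mem hXn hXd c hc
  refine ⟨v, b, hv, by rw [hb]; exact hc, by rw [hv1, hb, one_mul], ?_⟩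
  rw [CfsgLib.OmegaOrbits.gmap_mul, CfsgLib.OmegaOrbits.gmap_reflIso_of_mem _ (hX b hbX),
    CfsgLib.OmegaOrbits.gmap_reflIso_of_mem hv (hX v hvX)]

end Cfsg.Agent.S2632
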