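import Cfsg.Statements.S2633
import Cfsg.Agent.OmegaOrbits.Basic

set_option autoImplicit false
open Cfsg

namespace Cfsg.Agent.S2633

/-- Ω is transitive on totally singular subspaces of each dimension less than half the dimension: for a quadratic form Q on F^n with non-degenerate polar form (F finite; excluding dimension 4 over the field of two elements), if U and W are subspaces of the same dimension k with 2k < n on which Q vanishes, then some element of Ω (the commutator subgroup of the orthogonal group) carries U to W. -/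
theorem result {F : Type*} [Field F] [Fintype F] {n : ℕ} (h : Fintype.card F ≠ 2 ∨ n ≠ 4) (Q : QuadraticForm F (Fin n → F)) (hQ : (QuadraticMap.polarBilin Q).Nondegenerate) (U W : Submodule F (Fin n → F)) {k : ℕ} (hk : 2 * k < n) (hU : Module.finrank F U = k) (hW : Module.finrank F W = k) (hU0 : ∀ u ∈ U, Q u = 0) (hW0 : ∀ w ∈ W, Q w = 0) : ∃ g : ↥(Cfsg.isometryGroup F ⇑Q), g ∈ Cfsg.Omega F ⇑Q ∧ U.map (Matrix.mulVecLin ((g : Matrix.GeneralLinearGroup (Fin n) F) : Matrix (Fin n) (Fin n) F)) = W := by
  classical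
  by_cases hk0 : k = 0
  · subst hk0
    refine ⟨1, one_mem _, ?_⟩
    rw [Submodule.finrank_eq_zero.1 hU, Submodule.finrank_eq_zero.1 hW, Submodule.map_bot]
  have hexc : Nat.card F ≠ 2 ∨ Fintype.card (Fin n) ≠ 4 := by
    rw [Nat.card_eq_fintype_card, Fintype.card_fin]; exact h
  obtain ⟨g₀, hg₀⟩ := CfsgLib.OmegaOrbits.exists_extend hQ (LinearEquiv.ofFinrankEq U W (hU.trans hW.symm))
    (fun u => (hW0 _ (Subtype.property _)).trans (hU0 u u.2).symm)
  obtain ⟨vs, hvs⟩ := CfsgLib.Forms.exists_isReflProd_finite hQ hexc g₀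
  have hrefl : LinearMap.BilinForm.IsRefl (QuadraticMap.polarBilin Q) := fun x y h => by
    simpa [QuadraticMap.polar_comm] using h
  refine CfsgLib.OmegaOrbits.exists_omega_gmap hQ hexc hvs hg₀ (fun _ => ?_) fun c hc =>
    CfsgLib.OmegaOrbits.exists_pair_of_singular hQ hU0 (fun hb => hk0 (by rw [← hU, hb, finrank_bot])) c hc
  by_contra hno
  have hsing : ∀ v ∈ LinearMap.BilinForm.orthogonal (QuadraticMap.polarBilin Q) U, Q v = 0 := by
    intro v hv
    by_contra hv0
    exact hno ⟨v, hv0, CfsgLib.OmegaOrbits.gmap_reflIso_of_mem hv0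
      fun u hu => Or.inr (by rw [QuadraticMap.polar_comm]; exact hv u hu)⟩
  have hle : LinearMap.BilinForm.orthogonal (QuadraticMap.polarBilin Q) U ≤
      LinearMap.BilinForm.orthogonal (QuadraticMap.polarBilin Q)
        (LinearMap.BilinForm.orthogonal (QuadraticMap.polarBilin Q) U) :=
    fun x hx y hy => CfsgLib.OmegaOrbits.polar_eq_zero_of_singular hsing hy hx
  rw [LinearMap.BilinForm.orthogonal_orthogonal hQ hrefl] at hle
  have hd := Submodule.finrank_mono hle
  rw [LinearMap.BilinForm.finrank_orthogonal hQ, Module.finrank_fin_fun, hU] at hd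
  omega

end Cfsg.Agent.S2633
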