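import Cfsg.Statements.S2634
import Cfsg.Agent.OmegaOrbits.Basic

set_option autoImplicit false
open Cfsg

namespace Cfsg.Agent.S2634

/-- Over a finite field of characteristic two, Ω (the commutator subgroup of the orthogonal group of a quadratic form Q on F^n with non-degenerate polar form; excluding dimension 4 over the field of two elements) acts transitively on the non-singular 1-spaces: for u, v with Q(u) ≠ 0 and Q(v) ≠ 0 some element of Ω carries the line through u to the line through v. -/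
theorem result {F : Type*} [Field F] [Fintype F] [CharP F 2] {n : ℕ} (h : Fintype.card F ≠ 2 ∨ n ≠ 4) (Q : QuadraticForm F (Fin n → F)) (hQ : (QuadraticMap.polarBilin Q).Nondegenerate) (u v : Fin n → F) (hu : Q u ≠ 0) (hv : Q v ≠ 0) : ∃ g : ↥(Cfsg.isometryGroup F ⇑Q), g ∈ Cfsg.Omega F ⇑Q ∧ (F ∙ ((g : Matrix.GeneralLinearGroup (Fin n) F) : Matrix (Fin n) (Fin n) F).mulVec u) = F ∙ v := by
  classical
  have hexc : Nat.card F ≠ 2 ∨ Fintype.card (Fin n) ≠ 4 := by
    rw [Nat.card_eq_fintype_card, Fintype.card_fin]; exact h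
  have hsq : ∀ c : F, IsSquare c := fun c => FiniteField.isSquare_of_char_two (ringChar.eq F 2) c
  obtain ⟨s, hs⟩ := hsq (Q u / Q v)
  have hs0 : s ≠ 0 := fun h => div_ne_zero hu hv (by rw [hs, h, mul_zero])
  have hQsv : Q (s • v) = Q u := by
    rw [QuadraticMap.map_smul, smul_eq_mul, ← hs, div_mul_cancel₀ _ hv]
  have hu0 : u ≠ 0 := fun h => hu (by rw [h, map_zero])
  have hsv0 : s • v ≠ 0 := fun h => hu (by rw [← hQsv, h, map_zero])
  obtain ⟨g₀, hg₀⟩ := CfsgLib.OmegaOrbits.exists_extend hQ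
    ((LinearEquiv.toSpanNonzeroSingleton F _ u hu0).symm.trans (LinearEquiv.toSpanNonzeroSingleton F _ (s • v) hsv0))
    (fun x => by
      obtain ⟨t, rfl⟩ := (LinearEquiv.toSpanNonzeroSingleton F _ u hu0).surjective x
      rw [LinearEquiv.trans_apply, LinearEquiv.symm_apply_apply]
      show Q (t • s • v) = Q (t • u)
      rw [QuadraticMap.map_smul _ t, QuadraticMap.map_smul _ t, hQsv])
  rw [Submodule.span_singleton_smul_eq (Ne.isUnit hs0)] at hg₀
  obtain ⟨vs, hvs⟩ := CfsgLib.Forms.exists_isReflProd_finite hQ hexc g₀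
  have hst : ∀ a (ha : Q a ≠ 0), a ∈ F ∙ u →
      CfsgLib.OmegaOrbits.gmap (CfsgLib.Spinor.reflIso Q a ha) (F ∙ u) = F ∙ u :=
    fun a ha hau => CfsgLib.OmegaOrbits.gmap_reflIso_of_mem ha fun _ _ => Or.inl hau
  obtain ⟨g, hg, hgU⟩ := CfsgLib.OmegaOrbits.exists_omega_gmap hQ hexc hvs hg₀
    (fun _ => ⟨u, hu, hst u hu (Submodule.mem_span_singleton_self u)⟩) fun c hc => by
      obtain ⟨t, ht⟩ := hsq (c / (Q u * Q u))
      have ht0 : t ≠ 0 := fun h => div_ne_zero hc (mul_ne_zero hu hu) (by rw [ht, h, mul_zero])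
      have htu : Q (t • u) ≠ 0 := by
        rw [QuadraticMap.map_smul, smul_eq_mul]; exact mul_ne_zero (mul_ne_zero ht0 ht0) hu
      refine ⟨u, t • u, hu, htu, ?_, ?_⟩
      · rw [QuadraticMap.map_smul, smul_eq_mul, ← ht]
        field_simp
      · rw [CfsgLib.OmegaOrbits.gmap_mul, hst _ _ (Submodule.smul_mem _ _ (Submodule.mem_span_singleton_self u)),
          hst u hu (Submodule.mem_span_singleton_self u)]
  refine ⟨g, hg, ?_⟩
  rw [← hgU, CfsgLib.OmegaOrbits.gmap, Submodule.map_span, Set.image_singleton, Matrix.mulVecLin_apply]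

end Cfsg.Agent.S2634
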