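import Cfsg.Statements.S2635
import Cfsg.Agent.OmegaOrbits.Basic
import Cfsg.Agent.Spinor.Pairs

set_option autoImplicit false
open Cfsg

namespace Cfsg.Agent.S2635

/-- Over a finite field of characteristic two, for a quadratic form Q on F^n with non-degenerate polar form, n ≥ 2, other than dimension 4 over the field of two elements, Ω (the commutator subgroup of the orthogonal group) is exactly the subgroup generated by the products of two reflections (orthogonal transvections) x ↦ x − Q(v)⁻¹ f(x, v) v, Q(v) ≠ 0: the products of an even number of reflections. -/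
theorem result {F : Type*} [Field F] [Fintype F] [CharP F 2] {n : ℕ} (hn : 2 ≤ n) (h : Fintype.card F ≠ 2 ∨ n ≠ 4) (Q : QuadraticForm F (Fin n → F)) (hQ : (QuadraticMap.polarBilin Q).Nondegenerate) : Cfsg.Omega F ⇑Q = Subgroup.closure {g : ↥(Cfsg.isometryGroup F ⇑Q) | ∃ u v : Fin n → F, Q u ≠ 0 ∧ Q v ≠ 0 ∧ ((g : Matrix.GeneralLinearGroup (Fin n) F) : Matrix (Fin n) (Fin n) F) = Cfsg.reflectionMatrix ⇑Q u * Cfsg.reflectionMatrix ⇑Q v} := by
  classical
  have hexc : Nat.card F ≠ 2 ∨ Fintype.card (Fin n) ≠ 4 := by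
    rw [Nat.card_eq_fintype_card, Fintype.card_fin]; exact h
  have hsq : ∀ c : F, IsSquare c := fun c => FiniteField.isSquare_of_char_two (ringChar.eq F 2) c
  set S := {g : ↥(Cfsg.isometryGroup F ⇑Q) | ∃ u v : Fin n → F, Q u ≠ 0 ∧ Q v ≠ 0 ∧
    ((g : Matrix.GeneralLinearGroup (Fin n) F) : Matrix (Fin n) (Fin n) F) =
      Cfsg.reflectionMatrix ⇑Q u * Cfsg.reflectionMatrix ⇑Q v}
  refine le_antisymm (fun g hg => ?_) ((Subgroup.closure_le _).2 ?_)
  · obtain ⟨vs, hvs⟩ := CfsgLib.Forms.exists_isReflProd_finite hQ hexc g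
    have he := ((CfsgLib.OmegaOrbits.mem_omega_iff_even hQ hexc hvs).1 hg).1
    suffices key : ∀ (j : ℕ) (ws : List (Fin n → F)) (k : ↥(Cfsg.isometryGroup F ⇑Q)),
        ws.length = 2 * j → CfsgLib.Spinor.IsReflProd Q k ws → k ∈ Subgroup.closure S by
      obtain ⟨j, hj⟩ := he
      exact key j vs g (by omega) hvs
    intro j
    induction j with
    | zero =>
      intro ws k hl hk
      rw [List.length_eq_zero_iff.1 hl] at hk
      rw [show k = 1 from CfsgLib.Spinor.mat_ext Q hk.2]
      exact one_mem _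
    | succ j ih =>
      intro ws k hl hk
      match ws, hl, hk with
      | a :: b :: ws', hl, hk =>
        have ha := hk.1 a (by simp)
        have hb := hk.1 b (by simp)
        obtain ⟨k', hk'⟩ := CfsgLib.Spinor.exists_isometry_of_prod (Q := Q) ws'
          fun x hx => hk.1 x (by simp [hx])
        have hkk : k = CfsgLib.Spinor.reflIso Q a ha * CfsgLib.Spinor.reflIso Q b hb * k' := by
          refine CfsgLib.Spinor.mat_ext Q ?_
          rw [hk.2, CfsgLib.Spinor.mat_mul, CfsgLib.Spinor.mat_mul, CfsgLib.Spinor.mat_reflIso,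
            CfsgLib.Spinor.mat_reflIso, hk'.2, List.map_cons, List.map_cons, List.prod_cons, List.prod_cons,
            Matrix.mul_assoc]
        rw [hkk]
        exact mul_mem (Subgroup.subset_closure ⟨a, b, ha, hb, rfl⟩)
          (ih ws' k' (by simp only [List.length_cons] at hl; omega) hk')
  · rintro g ⟨u, v, hu, hv, hg⟩
    have hr : CfsgLib.Spinor.IsReflProd Q g [u, v] := by
      refine ⟨fun x hx => ?_, by simpa using hg⟩
      rcases List.mem_cons.1 hx with rfl | hx
      · exact hu
      · rw [List.mem_singleton.1 hx]; exact hv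
    exact (CfsgLib.OmegaOrbits.mem_omega_iff_even hQ hexc hr).2 ⟨by simp, hsq _⟩

end Cfsg.Agent.S2635
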