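import Cfsg.Statements.S2636
import Cfsg.Agent.FixedField.Basic

set_option autoImplicit false
open Cfsg

namespace Cfsg.Agent.S2636

/-- Centraliser of a field automorphism in PGL_n: let F be the field with q = q₀^r elements, σ a field automorphism of F of prime order r (so its fixed field has q₀ elements) and n ≥ 1. The invertible matrices g whose entrywise image under σ is a scalar multiple of g — those whose coset modulo scalars is fixed by σ — number (q − 1)/(q₀ − 1) · |GL_n(q₀)|; equivalently the centraliser in PGL_n(q) of the induced automorphism has the order of PGL_n(q₀). -/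
theorem result {F : Type*} [Field F] [Fintype F] {q₀ r n : ℕ} (hr : r.Prime) (hn : 1 ≤ n) (hF : Fintype.card F = q₀ ^ r) (σ : F ≃+* F) (hσ : orderOf σ = r) : Nat.card {g : GL (Fin n) F // ∃ c : F, c ≠ 0 ∧ (g : Matrix (Fin n) (Fin n) F).map σ = c • (g : Matrix (Fin n) (Fin n) F)} = (q₀ ^ r - 1) / (q₀ - 1) * ∏ i : Fin n, (q₀ ^ n - q₀ ^ (i : ℕ)) := by
  classical
  open CfsgLib.FixedField in
  set F₀ := fixedSub σ with hF₀
  have hq : Nat.card F₀ = q₀ := card_fixed σ hr.ne_zero hσ hF
  haveI : Finite F₀ := Subtype.finite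
  letI : Fintype F₀ := Fintype.ofFinite _
  let sc : Fˣ →* GL (Fin n) F := Units.map (algebraMap F (Matrix (Fin n) (Fin n) F)).toMonoidHom
  let inc : GL (Fin n) F₀ →* GL (Fin n) F := Matrix.GeneralLinearGroup.map F₀.subtype
  have hcomm : ∀ (a : Fˣ) (g : GL (Fin n) F), Commute (sc a) g := fun a g =>
    Units.ext (Algebra.commutes (a : F) (g : Matrix (Fin n) (Fin n) F))
  let ψ : Fˣ × GL (Fin n) F₀ →* GL (Fin n) F :=
    { toFun := fun p => sc p.1 * inc p.2
      map_one' := by simp
      map_mul' := fun p s => by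
        simp only [Prod.fst_mul, Prod.snd_mul, map_mul]
        exact Commute.mul_mul_mul_comm (hcomm s.1 (inc p.2)) _ _ }
  have hval : ∀ (a : Fˣ) (h : GL (Fin n) F₀) (i j : Fin n),
      ((ψ (a, h) : GL (Fin n) F) : Matrix (Fin n) (Fin n) F) i j =
        (a : F) * ((h : Matrix (Fin n) (Fin n) F₀) i j : F) := by
    intro a h i j
    simp [ψ, sc, inc, Matrix.GeneralLinearGroup.map, ← Algebra.smul_def]
  have hrange : ∀ g : GL (Fin n) F,
      (∃ c : F, c ≠ 0 ∧ (g : Matrix (Fin n) (Fin n) F).map σ = c • (g : Matrix (Fin n) (Fin n) F)) ↔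
        g ∈ ψ.range := by
    intro g
    constructor
    · rintro ⟨c, hc, hg⟩
      have hne : (g : Matrix (Fin n) (Fin n) F) ≠ 0 := by
        haveI : Nonempty (Fin n) := ⟨⟨0, hn⟩⟩
        exact g.ne_zero
      obtain ⟨i, j, he⟩ : ∃ i j, (g : Matrix (Fin n) (Fin n) F) i j ≠ 0 := by
        by_contra hno
        push Not at hno
        exact hne (Matrix.ext hno)
      set e := (g : Matrix (Fin n) (Fin n) F) i j with he_def
      have hentry : ∀ k l, σ ((g : Matrix (Fin n) (Fin n) F) k l) = c * (g : Matrix (Fin n) (Fin n) F) k l :=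
        fun k l => by simpa using congrFun (congrFun hg k) l
      have hfix : ∀ k l, e⁻¹ * (g : Matrix (Fin n) (Fin n) F) k l ∈ F₀ := fun k l => by
        rw [hF₀, mem_fixedSub, map_mul, map_inv₀, hentry k l, he_def, hentry i j]
        field_simp
      let M : Matrix (Fin n) (Fin n) F₀ := Matrix.of fun k l => ⟨_, hfix k l⟩
      have hM : M.map F₀.subtype = e⁻¹ • (g : Matrix (Fin n) (Fin n) F) := by ext k l; simp [M]
      have hdet : IsUnit M.det := by
        rw [isUnit_iff_ne_zero]
        intro h0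
        have := congrArg F₀.subtype h0
        rw [RingHom.map_det, RingHom.mapMatrix_apply, hM, Matrix.det_smul, map_zero] at this
        exact (mul_ne_zero (pow_ne_zero _ (inv_ne_zero he))
          ((Matrix.isUnit_iff_isUnit_det _).1 g.isUnit).ne_zero) this
      refine ⟨(Units.mk0 e he, Matrix.nonsingInvUnit M hdet), Units.ext (Matrix.ext fun k l => ?_)⟩
      rw [hval]
      show e * (e⁻¹ * (g : Matrix (Fin n) (Fin n) F) k l) = _
      field_simp
    · rintro ⟨⟨a, h⟩, rfl⟩
      refine ⟨σ (a : F) / a, div_ne_zero (by simp) a.ne_zero, Matrix.ext fun i j => ?_⟩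
      rw [Matrix.map_apply, Matrix.smul_apply, hval, map_mul,
        (mem_fixedSub.1 ((h : Matrix (Fin n) (Fin n) F₀) i j).2), smul_eq_mul]
      field_simp
  let κ : F₀ˣ →* ψ.ker :=
    { toFun := fun t => ⟨((Units.map F₀.subtype.toMonoidHom t)⁻¹,
          Units.map (algebraMap F₀ (Matrix (Fin n) (Fin n) F₀)).toMonoidHom t), by
        refine Units.ext (Matrix.ext fun i j => ?_)
        rw [hval]
        rcases eq_or_ne i j with rfl | hij
        · simp [Matrix.algebraMap_matrix_apply]
        · simp [Matrix.algebraMap_matrix_apply, hij]⟩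
      map_one' := by simp
      map_mul' := fun s t => by
        refine Subtype.ext (Prod.ext ?_ ?_)
        · simp [mul_comm]
        · simp }
  have hκinj : Function.Injective κ := by
    intro s t h
    have h1 := congrArg (fun p : ψ.ker => ((p.1.1 : Fˣ) : F)) h
    simp [κ] at h1
    exact Units.ext h1
  have hκsurj : Function.Surjective κ := by
    rintro ⟨⟨a, h⟩, hk⟩
    let i0 : Fin n := ⟨0, hn⟩
    have h00 : (a : F) * ((h : Matrix (Fin n) (Fin n) F₀) i0 i0 : F) = 1 := by
      rw [← hval]; simp [MonoidHom.mem_ker.1 hk]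
    have hne : (h : Matrix (Fin n) (Fin n) F₀) i0 i0 ≠ 0 := fun h0 => by simp [h0] at h00
    refine ⟨Units.mk0 _ hne, Subtype.ext (Prod.ext (Units.ext ?_) (Units.ext (Matrix.ext fun i j => ?_)))⟩
    · simp [κ, ← eq_inv_of_mul_eq_one_left h00]
    · refine Subtype.ext (mul_left_cancel₀ a.ne_zero ?_)
      rw [← hval a h i j, MonoidHom.mem_ker.1 hk]
      rcases eq_or_ne i j with rfl | hij
      · simp [κ, Matrix.algebraMap_matrix_apply, h00]
      · simp [κ, Matrix.algebraMap_matrix_apply, hij]
  have hker : Nat.card ψ.ker = q₀ - 1 := by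
    rw [← Nat.card_eq_of_bijective κ ⟨hκinj, hκsurj⟩, Nat.card_units, hq]
  have hmain := Subgroup.index_mul_card ψ.ker
  rw [Subgroup.index_ker, hker, Nat.card_prod, Nat.card_units, Matrix.card_GL_field,
    ← Nat.card_eq_fintype_card (α := F₀), hq, Nat.card_eq_fintype_card (α := F), hF] at hmain
  rw [Nat.card_congr (Equiv.subtypeEquivRight hrange)]
  have hq2 : 2 ≤ q₀ := by rw [← hq]; exact Finite.one_lt_card
  obtain ⟨m, hm⟩ := Nat.sub_dvd_pow_sub_pow q₀ 1 r
  rw [one_pow] at hm
  rw [hm, Nat.mul_div_cancel_left _ (by omega)]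
  rw [hm] at hmain
  exact Nat.eq_of_mul_eq_mul_right (by omega : 0 < q₀ - 1) (hmain.trans (by ring))

end Cfsg.Agent.S2636
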