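-- Copy of the template with helper lemmas.
import Cfsg.Statements.S2637
import Cfsg.Agent.CharpolySS.Basic
import Cfsg.Agent.Forms.Symplectic
import Cfsg.Agent.Forms.UnitaryOrder

set_option autoImplicit false
open Cfsg

namespace Cfsg.Agent.S2637

open CfsgLib CfsgLib.Forms Polynomial Matrix

theorem eq_one_of_root {F : Type*} [Field F] [Fintype F] {q : ℕ} (hF : Fintype.card F = q)
    (hq : q % 3 = 2) (c : F) : c ^ 2 + c + 1 ≠ 0 := by
  intro h
  have h3 : c ^ 3 = 1 := by linear_combination (c - 1) * h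
  have hc : c ≠ 0 := fun h0 => by simp [h0] at h3
  have hq1 : c ^ (q - 1) = 1 := hF ▸ FiniteField.pow_card_sub_one_eq_one c hc
  have hsplit : q - 1 = 3 * ((q - 1) / 3) + 1 := by omega
  rw [hsplit, pow_succ, pow_mul, h3, one_pow, one_mul] at hq1
  rw [hq1] at h
  have h30 : (3 : F) = 0 := by linear_combination h
  obtain ⟨p, hp⟩ := CharP.exists F
  haveI := hp
  have hpp : p.Prime := (CharP.char_is_prime_or_zero F p).resolve_right (CharP.char_ne_zero_of_finite F p)
  obtain ⟨n, -, hn⟩ := FiniteField.card F p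
  have hp3 : p ∣ 3 := (CharP.cast_eq_zero_iff F p 3).1 (by exact_mod_cast h30)
  have : p = 3 := (Nat.prime_dvd_prime_iff_eq hpp Nat.prime_three).1 hp3
  subst this
  have : 3 ∣ q := hF ▸ hn ▸ dvd_pow_self 3 n.ne_zero
  omega

theorem card_centralizer {F : Type*} [Field F] [Fintype F] {q : ℕ} (hF : Fintype.card F = q)
    (hq : q % 3 = 2) {m : ℕ} (x : Matrix.symplecticGroup (Fin m) F)
    (hx : x.1 * x.1 + x.1 + 1 = 0) :
    Nat.card ↥(Subgroup.centralizer ({x} : Set ↥(Matrix.symplecticGroup (Fin m) F))) =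
      q ^ (∑ i ∈ Finset.range m, i) * ∏ i ∈ Finset.range m, u q (i + 1) := by
  classical
  set f : F[X] := X ^ 2 + X + 1 with hfdef
  have hmon : f.Monic := by rw [hfdef]; monicity!
  have hdeg : f.natDegree = 2 := by rw [hfdef]; compute_degree!
  have hirr : Irreducible f := by
    refine (hmon.irreducible_iff_roots_eq_zero_of_degree_le_three (by omega) (by omega)).2 ?_
    refine Multiset.eq_zero_of_forall_notMem fun c hc => eq_one_of_root hF hq c ?_
    have := (Polynomial.mem_roots hmon.ne_zero).1 hc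
    simpa [hfdef, IsRoot] using this
  haveI : Fact (Irreducible f) := ⟨hirr⟩
  let K := AdjoinRoot f
  let r : K := AdjoinRoot.root f
  let ι : F →+* K := algebraMap F K
  have hr : r ^ 2 + r + 1 = 0 := by
    have h := AdjoinRoot.eval₂_root f
    simpa [hfdef, eval₂_add, eval₂_pow] using h
  have hr3 : r ^ 3 = 1 := by linear_combination (r - 1) * hr
  haveI : Module.Finite F K := (AdjoinRoot.powerBasis hmon.ne_zero).finite
  haveI : Finite K := Module.finite_of_finite F
  letI : Fintype K := Fintype.ofFinite K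
  have hK2 : Module.finrank F K = 2 := by
    rw [(AdjoinRoot.powerBasis hmon.ne_zero).finrank, AdjoinRoot.powerBasis_dim, hdeg]
  have hKcard : Fintype.card K = q ^ 2 := by
    rw [Module.card_eq_pow_finrank (K := F) (V := K), hK2, hF]
  let σ : K →+* K := (FiniteField.frobeniusAlgHom F K).toRingHom
  have hσ : ∀ y, σ y = y ^ q := fun y => by subst hF; rfl
  have hσ2 : ∀ y, σ (σ y) = y := fun y => by
    rw [hσ, hσ, ← pow_mul, ← sq, ← hKcard, FiniteField.pow_card]
  have hσι : ∀ a : F, σ (ι a) = ι a := fun a => (FiniteField.frobeniusAlgHom F K).commutes a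
  have hσr : σ r = r ^ 2 := by
    rw [hσ, show q = 3 * (q / 3) + 2 by omega, pow_add, pow_mul, hr3, one_pow, one_mul]
  let X0 : Module.End F (Fin m ⊕ Fin m → F) := Matrix.toLinAlgEquiv' x.1
  have hX0 : ∀ v, X0 v = x.1 *ᵥ v := fun v => rfl
  have haev : aeval X0 f = 0 := by
    have : aeval (Matrix.toLinAlgEquiv' x.1) f = Matrix.toLinAlgEquiv' (aeval x.1 f) :=
      aeval_algHom_apply (Matrix.toLinAlgEquiv' :
        Matrix (Fin m ⊕ Fin m) (Fin m ⊕ Fin m) F ≃ₐ[F] _).toAlgHom x.1 f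
    rw [show aeval X0 f = _ from this, show aeval x.1 f = 0 by simpa [hfdef, sq] using hx, map_zero]
  letI := CharpolySS.rootModule f X0 haev
  haveI := CharpolySS.rootTower f X0 haev
  have hrv : ∀ v : Fin m ⊕ Fin m → F, r • v = x.1 *ᵥ v := fun v => by
    show CharpolySS.rootHom f X0 haev (AdjoinRoot.root f) v = _
    rw [CharpolySS.rootHom_root]; rfl
  have hιv : ∀ (a : F) (v : Fin m ⊕ Fin m → F), ι a • v = a • v := fun a v =>
    algebraMap_smul K a v
  have hxx : ∀ v : Fin m ⊕ Fin m → F, x.1 *ᵥ (x.1 *ᵥ v) = -(x.1 *ᵥ v) - v := fun v => by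
    have := congrArg (fun M => M *ᵥ v) hx
    simp only [Matrix.add_mulVec, ← Matrix.mulVec_mulVec, Matrix.one_mulVec, Matrix.zero_mulVec] at this
    rw [eq_sub_iff_add_eq, eq_neg_iff_add_eq_zero, ← this]; abel
  let B := sympBilin m F
  have hBx : ∀ u v, B (x.1 *ᵥ u) (x.1 *ᵥ v) = B u v := fun u v => by
    simp only [B, sympBilin_apply]; exact sympForm_map x u v
  have hBxl : ∀ u v, B (x.1 *ᵥ u) v = -B u (x.1 *ᵥ v) - B u v := fun u v => by
    have h3 : x.1 *ᵥ (x.1 *ᵥ (x.1 *ᵥ v)) = v := by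
      rw [hxx (x.1 *ᵥ v), hxx v]; abel
    calc B (x.1 *ᵥ u) v = B (x.1 *ᵥ u) (x.1 *ᵥ (x.1 *ᵥ (x.1 *ᵥ v))) := by rw [h3]
      _ = _ := by rw [hBx, hxx, map_sub, map_neg]
  have hBswap : ∀ u v, B v u = -B u v := fun u v => by
    simp only [B, sympBilin_apply]; exact sympForm_swap u v
  let H0 : (Fin m ⊕ Fin m → F) → (Fin m ⊕ Fin m → F) → K :=
    fun u v => ι (B u (x.1 *ᵥ v)) - r ^ 2 * ι (B u v)
  have hind : ∀ (P : K → Prop), (∀ a, P (ι a)) → P r → (∀ a b, P a → P b → P (a + b)) →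
      (∀ a b, P a → P b → P (a * b)) → ∀ k, P k := by
    intro P h1 h2 h3 h4 k
    induction k using AdjoinRoot.induction_on with
    | ih p =>
      induction p using Polynomial.induction_on with
      | C a => exact h1 a
      | add p q hp hq => rw [map_add]; exact h3 _ _ hp hq
      | monomial n a hn =>
        rw [pow_succ, ← mul_assoc, map_mul, AdjoinRoot.mk_X]; exact h4 _ _ hn h2
  have hsmr : ∀ (k : K) u v, H0 u (k • v) = k * H0 u v := fun k u => by
    refine hind (fun k => ∀ v, H0 u (k • v) = k * H0 u v) (fun a v => ?_) (fun v => ?_)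
      (fun a b ha hb v => ?_) (fun a b ha hb v => ?_) k
    · simp only [H0, hιv, Matrix.mulVec_smul, map_smul, smul_eq_mul, map_mul]; ring
    · simp only [H0, hrv, hxx, map_sub, map_neg]
      linear_combination (ι (B u v)) * hr3 - (ι (B u (x.1 *ᵥ v))) * hr
    · have h1 := ha v; have h2 := hb v
      simp only [H0, add_smul, Matrix.mulVec_add, map_add] at h1 h2 ⊢
      linear_combination h1 + h2
    · rw [mul_smul, ha, hb, mul_assoc]
  have hsml : ∀ (k : K) u v, H0 (k • u) v = σ k * H0 u v := fun k => by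
    refine hind (fun k => ∀ u v, H0 (k • u) v = σ k * H0 u v) (fun a u v => ?_) (fun u v => ?_)
      (fun a b ha hb u v => ?_) (fun a b ha hb u v => ?_) k
    · simp only [H0, hιv, map_smul, LinearMap.smul_apply, smul_eq_mul, map_mul, hσι]; ring
    · simp only [H0, hrv, hσr, hBxl, hxx, map_sub, map_neg]
      linear_combination (r * ι (B u v)) * hr3 + (ι (B u v)) * hr
    · have h1 := ha u v; have h2 := hb u v
      simp only [H0, add_smul, map_add, LinearMap.add_apply] at h1 h2 ⊢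
      linear_combination h1 + h2
    · rw [mul_smul, ha, hb, map_mul, mul_assoc]
  let Hm : (Fin m ⊕ Fin m → F) →ₛₗ[σ] (Fin m ⊕ Fin m → F) →ₗ[K] K :=
    LinearMap.mk₂'ₛₗ σ (RingHom.id K) H0
      (fun u₁ u₂ v => by simp only [H0, map_add, LinearMap.add_apply]; ring)
      (fun k u v => by rw [hsml, smul_eq_mul])
      (fun u v₁ v₂ => by simp only [H0, Matrix.mulVec_add, map_add]; ring)
      (fun k u v => by rw [hsmr, RingHom.id_apply, smul_eq_mul])
  have hHm : ∀ u v, Hm u v = ι (B u (x.1 *ᵥ v)) - r ^ 2 * ι (B u v) := fun u v => rfl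
  have hS : Hm.IsSymm := ⟨fun u v => by
    simp only [hHm, map_sub, map_mul, map_pow, hσι, hσr]
    rw [hBswap (x.1 *ᵥ u) v, hBswap u v, hBxl, map_neg, map_sub, map_neg, map_neg]
    linear_combination (-(r * ι (B u v))) * hr3 - (ι (B u v)) * hr⟩
  have hindep : ∀ a b : F, ι a - r ^ 2 * ι b = 0 → b = 0 ∧ a = 0 := by
    intro a b h
    have hb : b = 0 := by
      by_contra hb
      have h2 : r ^ 2 = ι (a / b) := by
        rw [map_div₀, eq_div_iff ((map_ne_zero ι).2 hb)]; linear_combination -h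
      have h4 : r = r ^ 2 := by
        have := hσι (a / b)
        rw [← h2, map_pow, hσr] at this
        linear_combination this - r * hr3
      have h5 : r = 1 := by
        rcases mul_eq_zero.1 (show r * (r - 1) = 0 by linear_combination -h4) with h | h
        · simp [h] at hr3
        · exact sub_eq_zero.1 h
      exact eq_one_of_root hF hq 1 (ι.injective (by simpa [h5] using hr))
    exact ⟨hb, ι.injective (by simpa [hb] using h)⟩
  have hB : ∀ u, (∀ v, Hm u v = 0) → u = 0 := fun u h => sympForm_sep u fun v => by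
    have := (hindep _ _ (h v)).1
    simpa [B, sympBilin_apply] using this
  have hn : Module.finrank K (Fin m ⊕ Fin m → F) = m := by
    have := Module.finrank_mul_finrank F K (Fin m ⊕ Fin m → F)
    rw [hK2, Module.finrank_pi, Fintype.card_sum, Fintype.card_fin] at this
    omega
  rw [← card_isoGroup_herm hKcard hσ hσ2 Hm hS hB hn]
  have hcomm : ∀ A : Subgroup.centralizer ({x} : Set ↥(Matrix.symplecticGroup (Fin m) F)),
      A.1.1 * x.1 = x.1 * A.1.1 := fun A =>
    (congrArg Subtype.val (Subgroup.mem_centralizer_singleton_iff.1 A.2) :)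
  have hKlin : ∀ (M : Matrix (Fin m ⊕ Fin m) (Fin m ⊕ Fin m) F), M * x.1 = x.1 * M →
      ∀ (k : K) v, M *ᵥ (k • v) = k • (M *ᵥ v) := fun M hM k => by
    refine hind (fun k => ∀ v, M *ᵥ (k • v) = k • (M *ᵥ v)) (fun a v => ?_) (fun v => ?_)
      (fun a b ha hb v => ?_) (fun a b ha hb v => ?_) k
    · rw [hιv, hιv, Matrix.mulVec_smul]
    · rw [hrv, hrv, Matrix.mulVec_mulVec, Matrix.mulVec_mulVec, hM]
    · rw [add_smul, add_smul, Matrix.mulVec_add, ha, hb]
    · rw [mul_smul, mul_smul, ha, hb]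
  have hinv : ∀ (A : Matrix.symplecticGroup (Fin m) F) v, A.1 *ᵥ ((A⁻¹).1 *ᵥ v) = v := fun A v => by
    rw [Matrix.mulVec_mulVec, ← Submonoid.coe_mul, mul_inv_cancel]; exact Matrix.one_mulVec v
  let toE : Subgroup.centralizer ({x} : Set ↥(Matrix.symplecticGroup (Fin m) F)) →
      isoGroup Hm := fun A =>
    ⟨{ toFun := fun v => A.1.1 *ᵥ v
       map_add' := fun a b => Matrix.mulVec_add _ _ _
       map_smul' := fun k v => hKlin _ (hcomm A) k v
       invFun := fun v => (A⁻¹).1.1 *ᵥ v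
       left_inv := fun v => by simpa using hinv (A.1⁻¹) v
       right_inv := fun v => hinv A.1 v },
     fun u v => by
      show Hm (A.1.1 *ᵥ u) (A.1.1 *ᵥ v) = Hm u v
      rw [hHm, hHm, Matrix.mulVec_mulVec, ← hcomm A, ← Matrix.mulVec_mulVec]
      simp only [B, sympBilin_apply, sympForm_map]⟩
  refine Nat.card_eq_of_bijective toE ⟨fun A A' h => ?_, fun g => ?_⟩
  · refine Subtype.ext (sp_ext fun v => ?_)
    exact congrArg (fun e => (Subtype.val e) v) h
  · have hgB : ∀ u v, B (g.1 u) (g.1 v) = B u v := fun u v => by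
      have h := g.2 u v
      rw [hHm, hHm, ← sub_eq_zero] at h
      exact sub_eq_zero.1 (hindep (B (g.1 u) (x.1 *ᵥ g.1 v) - B u (x.1 *ᵥ v))
        (B (g.1 u) (g.1 v) - B u v) (by simp only [map_sub]; linear_combination h)).1
    obtain ⟨A, hA⟩ := exists_sp_of_linearMap (g.1.toLinearMap.restrictScalars F)
      (fun u v => by simpa [B, sympBilin_apply] using hgB u v)
    have hA' : ∀ v, A.1 *ᵥ v = g.1 v := hA
    refine ⟨⟨A, Subgroup.mem_centralizer_singleton_iff.2 (sp_ext fun v => ?_)⟩,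
      Subtype.ext (LinearEquiv.ext hA')⟩
    show (A.1 * x.1) *ᵥ v = (x.1 * A.1) *ᵥ v
    rw [← Matrix.mulVec_mulVec, ← Matrix.mulVec_mulVec, hA', hA', ← hrv, ← hrv, map_smul]

/-- Centraliser of a fixed-point-free element of order three in Sp_2m(q) when q ≡ 2 (mod 3): if x ∈ Sp_2m(F) (|F| = q, m ≥ 1) satisfies x³ = 1 and x − 1 is invertible, then its centraliser in Sp_2m(F) has the order of the unitary group GU_m(q), namely q^(m(m−1)/2) Π_(i=1)^m (q^i − (−1)^i) (x lies in the centre of a subgroup GU_m(q) of Sp_2m(q)). -/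
theorem result {F : Type*} [Field F] [Fintype F] {q : ℕ} (hF : Fintype.card F = q) (hq : q % 3 = 2) {m : ℕ} (hm : 1 ≤ m) (x : Matrix.symplecticGroup (Fin m) F) (hx3 : x ^ 3 = 1) (hfpf : IsUnit ((x : Matrix (Fin m ⊕ Fin m) (Fin m ⊕ Fin m) F) - 1)) : (Nat.card ↥(Subgroup.centralizer ({x} : Set ↥(Matrix.symplecticGroup (Fin m) F))) : ℤ) = (q : ℤ) ^ (m * (m - 1) / 2) * ∏ i : Fin m, ((q : ℤ) ^ ((i : ℕ) + 1) - (-1) ^ ((i : ℕ) + 1)) := by
  have h3 : x.1 ^ 3 = 1 := by
    rw [← SubmonoidClass.coe_pow, hx3]; rfl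
  have hx : x.1 * x.1 + x.1 + 1 = 0 := by
    refine hfpf.mul_right_eq_zero.1 ?_
    rw [show (x.1 - 1) * (x.1 * x.1 + x.1 + 1) = x.1 ^ 3 - 1 by noncomm_ring, h3, sub_self]
  rw [card_centralizer hF hq x hx, sum_range_half, Nat.cast_mul, Nat.cast_pow, Nat.cast_prod,
    ← Fin.prod_univ_eq_prod_range (fun i => ((u q (i + 1) : ℕ) : ℤ)) m]
  congr 1
  exact Finset.prod_congr rfl fun i _ => u_cast (by omega) _

end Cfsg.Agent.S2637
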