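import Cfsg.Statements.S2639
import Cfsg.Agent.GUEmb.Basic

set_option autoImplicit false
open Cfsg

namespace Cfsg.Agent.S2639

/-- The unitary group embeds in the symplectic group of twice the dimension over the subfield: for a field K with q² elements and a field F with q elements (isomorphic to the subfield of K of order q), there is an injective homomorphism GU_m(q) → Sp_2m(F). -/
theorem result {K F : Type*} [Field K] [Fintype K] [Field F] [Fintype F] {q : ℕ} (hK : Fintype.card K = q ^ 2) (hF : Fintype.card F = q) (m : ℕ) : ∃ φ : ↥(Cfsg.GU m K q) →* ↥(Matrix.symplecticGroup (Fin m) F), Function.Injective φ := by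
  classical
  open CfsgLib.FieldEmb in
  obtain ⟨inst⟩ := exists_algebra (n := 2) (by norm_num) hF hK
  letI := inst
  haveI : FiniteDimensional F K := Module.Finite.of_finite
  obtain ⟨σ, hσ, hσσ⟩ := exists_conj hK
  obtain ⟨δ, hδ⟩ := exists_not_fixed hF hK
  rw [← hσ] at hδ
  have hfix : ∀ x : F, σ (algebraMap F K x) = algebraMap F K x := fun x => by rw [hσ, pow_q_fixed hF]
  let Ψ : (Fin m ⊕ Fin m → F) →ₗ[F] (Fin m → K) :=
    { toFun := fun v i => algebraMap F K (v (.inl i)) + algebraMap F K (v (.inr i)) * δ
      map_add' := fun u v => by ext i; simp; ring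
      map_smul' := fun c v => by ext i; simp [Algebra.smul_def]; ring }
  have hΨ : Function.Injective Ψ := by
    rw [injective_iff_map_eq_zero]
    intro v hv
    have key : ∀ i, v (.inl i) = 0 ∧ v (.inr i) = 0 := fun i => by
      have h0 : algebraMap F K (v (.inl i)) + algebraMap F K (v (.inr i)) * δ = 0 := congrFun hv i
      have h1 : v (.inr i) = 0 := by
        by_contra h1
        have h2 := congrArg σ h0
        simp only [map_add, map_mul, map_zero, hfix] at h2
        exact hδ (mul_left_cancel₀ (fun h => h1 ((algebraMap F K).injective (h.trans (map_zero _).symm)))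
          (by linear_combination h2 - h0))
      exact ⟨(algebraMap F K).injective (by simpa [h1] using h0), h1⟩
    funext s
    rcases s with i | i
    · exact (key i).1
    · exact (key i).2
  have hfr : Module.finrank F (Fin m ⊕ Fin m → F) = Module.finrank F (Fin m → K) := by
    rw [Module.finrank_pi, Module.finrank_pi_fintype, finrank_eq hF hK]
    simp [mul_two]
  let e : (Fin m → K) ≃ₗ[F] (Fin m ⊕ Fin m → F) :=
    (LinearEquiv.ofBijective Ψ ⟨hΨ, (LinearMap.injective_iff_surjective_of_finrank_eq_finrank hfr).1 hΨ⟩).symm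
  have he : ∀ v, Ψ (e v) = v := fun v => e.symm_apply_apply v
  have hne : σ δ - δ ≠ 0 := sub_ne_zero.2 hδ
  have hform : ∀ u v, algebraMap F K (dotProduct u ((Matrix.J (Fin m) F).mulVec v)) * (σ δ - δ) =
      σ (Cfsg.hermForm m K q (Ψ u) (Ψ v)) - Cfsg.hermForm m K q (Ψ u) (Ψ v) := by
    intro u v
    simp only [dot_J, Cfsg.hermForm, ← hσ, map_sum, Finset.sum_mul, ← Finset.sum_sub_distrib]
    refine Finset.sum_congr rfl fun i _ => ?_
    simp only [Ψ, LinearMap.coe_mk, AddHom.coe_mk, map_sub, map_mul, map_add, hfix, hσσ]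
    ring
  have hmem : ∀ g : ↥(Cfsg.GU m K q),
      restrictMat e ((g : GL (Fin m) K) : Matrix (Fin m) (Fin m) K) ∈ Matrix.symplecticGroup (Fin m) F := by
    intro g
    refine mem_symplectic fun u v => (algebraMap F K).injective (mul_right_cancel₀ hne ?_)
    rw [hform, hform, restrictMat_mulVec, restrictMat_mulVec, he, he, CfsgLib.GUEmb.mem_GU.1 g.2]
    rfl
  refine ⟨(((restrictMat e).comp (Units.coeHom _)).comp (Cfsg.GU m K q).subtype).codRestrict _ hmem,
    fun g h hgh => ?_⟩
  exact Subtype.ext (Units.ext (restrictMat_injective e (congrArg Subtype.val hgh)))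

end Cfsg.Agent.S2639
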