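import Cfsg.Statements.S2641
import Cfsg.Agent.GUEmb.Basic

set_option autoImplicit false
open Cfsg

namespace Cfsg.Agent.S2641

/-- For m odd, the unitary group GU_m(q) (over the field with q² elements) embeds in the orthogonal group O⁻_2m(q) of an elliptic form (Σ_(i<m−1) x_i y_i plus an anisotropic binary form) over the field with q elements (there is an injective homomorphism). -/
theorem result {K F : Type*} [Field K] [Fintype K] [Field F] [Fintype F] {q : ℕ} (hK : Fintype.card K = q ^ 2) (hF : Fintype.card F = q) (m : ℕ) (hm : Odd m) (a b : F) (hab : ∀ z₁ z₂ : F, z₁ ^ 2 + a * z₁ * z₂ + b * z₂ ^ 2 = 0 → z₁ = 0 ∧ z₂ = 0) : ∃ φ : ↥(Cfsg.GU m K q) →* ↥(Cfsg.isometryGroup F (Cfsg.quadFormMinus (m - 1) F a b)), Function.Injective φ := by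
  obtain ⟨inst⟩ := CfsgLib.FieldEmb.exists_algebra (n := 2) (by norm_num) hF hK
  letI := inst
  obtain ⟨k, hk⟩ := hm
  subst hk
  obtain ⟨Ψ₀, hΨ₀, hQ₀⟩ := CfsgLib.GUEmb.exists_plus_map hF hK (n := 2 * k + 1 - 1) ⟨k, by omega⟩
  obtain ⟨θ, hs, hp, hne⟩ := CfsgLib.FieldEmb.exists_split hF hK a b hab
  obtain ⟨σ, hσ, -⟩ := CfsgLib.FieldEmb.exists_conj hK
  let Ψ : ((Fin (2 * k + 1 - 1) ⊕ Fin (2 * k + 1 - 1)) ⊕ Fin 2 → F) →ₗ[F] (Fin (2 * k + 1) → K) :=
    { toFun := fun v => Fin.cons (algebraMap F K (v (.inr 0)) + algebraMap F K (v (.inr 1)) * θ)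
        (Ψ₀ (v ∘ Sum.inl))
      map_add' := fun u v => by
        funext i
        cases i using Fin.cases with
        | zero => simp; ring
        | succ i => simp [show (u + v) ∘ Sum.inl = u ∘ Sum.inl + v ∘ Sum.inl from rfl]
      map_smul' := fun c v => by
        funext i
        cases i using Fin.cases with
        | zero => simp [Algebra.smul_def]; ring
        | succ i => simp [show (c • v) ∘ Sum.inl = c • (v ∘ Sum.inl) from rfl] }
  refine CfsgLib.GUEmb.exists_hom hF hK (by simp; omega) Ψ ?_ _ fun v => ?_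
  · rw [injective_iff_map_eq_zero]
    intro v hv
    have h0 : algebraMap F K (v (.inr 0)) + algebraMap F K (v (.inr 1)) * θ = 0 := congrFun hv 0
    have h1 : v (.inr 1) = 0 := by
      by_contra h1
      have h2 := congrArg σ h0
      simp only [map_add, map_mul, map_zero] at h2
      simp only [hσ, CfsgLib.FieldEmb.pow_q_fixed hF] at h2
      exact hne (mul_left_cancel₀ (fun h => h1 ((algebraMap F K).injective (h.trans (map_zero _).symm)))
        (by linear_combination h2 - h0))
    have h0' : v (.inr 0) = 0 := (algebraMap F K).injective (by simpa [h1] using h0)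
    have hl : v ∘ Sum.inl = 0 := hΨ₀ (by rw [map_zero]; funext i; exact congrFun hv i.succ)
    funext s
    rcases s with s | s
    · exact congrFun hl s
    · fin_cases s <;> simp [h0', h1]
  · have hsum : Cfsg.hermForm (2 * k + 1) K q (Ψ v) (Ψ v) =
        (algebraMap F K (v (.inr 0)) + algebraMap F K (v (.inr 1)) * θ) *
          σ (algebraMap F K (v (.inr 0)) + algebraMap F K (v (.inr 1)) * θ) +
        Cfsg.hermForm (2 * k + 1 - 1) K q (Ψ₀ (v ∘ Sum.inl)) (Ψ₀ (v ∘ Sum.inl)) := by
      rw [hσ]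
      exact (Fin.sum_univ_succ _).trans rfl
    rw [hsum, hQ₀, Cfsg.quadFormMinus, Cfsg.quadFormPlus, map_add, add_comm]
    congr 1
    simp only [Function.comp_apply, map_add, map_mul, map_pow, hσ θ]
    simp only [hσ, CfsgLib.FieldEmb.pow_q_fixed hF]
    linear_combination (algebraMap F K (v (.inr 0)) * algebraMap F K (v (.inr 1))) * hs
      + (algebraMap F K (v (.inr 1))) ^ 2 * hp

end Cfsg.Agent.S2641
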