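import Cfsg.Statements.S2643
import Cfsg.Agent.UnipotentJordan.Unitary
import Cfsg.Agent.S2587

set_option autoImplicit false
open Cfsg

namespace Cfsg.Agent.S2643

open CfsgLib.UnipotentJordan CfsgLib.InvNorm Matrix

theorem det_one_of_lead_one {K : Type*} [Field K] [Fintype K] {t : ℕ} {d : Fin t → ℕ} (hd : ∀ k, 1 ≤ d k)
    {b : Matrix (JI d) (JI d) K} (hb : b ∈ commutant d K) (hl : lead d b = 1) : b.det = 1 := by
  obtain ⟨p, hp⟩ := CharP.exists K
  haveI := hp
  haveI : Fact p.Prime := ⟨(CharP.char_is_prime_or_zero K p).resolve_right (CharP.char_ne_zero_of_finite K p)⟩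
  rcases isEmpty_or_nonempty (JI d) with h | h
  · exact Matrix.det_isEmpty
  obtain ⟨N, hN⟩ := isNilpotent_of_lead_eq_zero (sub_mem hb (one_mem _))
    (show lead d (b - 1) = 0 by rw [lead_sub, hl, lead_one hd, sub_self])
  have h1 : b ^ p ^ N = 1 := by
    rw [← sub_eq_zero, ← one_pow (p ^ N), ← sub_pow_char_pow_of_commute p N (Commute.one_right b)]
    exact pow_eq_zero_of_le (Nat.le_of_lt (Nat.lt_pow_self (Fact.out : p.Prime).one_lt)) hN
  have h2 : b.det ^ p ^ N = 1 := by rw [← Matrix.det_pow, h1, Matrix.det_one]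
  have h3 : (b.det - 1) ^ p ^ N = 0 := by rw [sub_pow_char_pow, h2, one_pow, sub_self]
  exact sub_eq_zero.1 (eq_zero_of_pow_eq_zero h3)

theorem regular_rank {K : Type*} [Field K] {n : ℕ} (hn : 2 ≤ n) {A : Matrix (Fin n) (Fin n) K}
    (hnil : A ^ n = 0) (hr : A.rank = n - 1) (k : ℕ) : (A ^ k).rank = n - k := by
  obtain ⟨L, d, e, hd, he⟩ := exists_type (A := A) ⟨n, hnil⟩
  have hrk : ∀ k, (A ^ k).rank = ∑ i, (d i - k) := fun k => by
    rw [← rank_pow_eq_of_isConj he k, rank_reindex_pow, rank_shiftMat_pow hd]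
  have hsum : ∑ i, d i = n := by simpa using Fintype.card_congr e
  have h1 := hrk 1
  rw [pow_one, hr, Finset.sum_tsub_distrib _ (fun i _ => hd i)] at h1
  simp only [Finset.sum_const, Finset.card_univ, Fintype.card_fin, smul_eq_mul, mul_one] at h1
  have hL : L ≤ n := hsum ▸ (by simpa using Finset.sum_le_sum (s := Finset.univ) fun i _ => hd i)
  obtain rfl : L = 1 := by omega
  rw [hrk, Fin.sum_univ_one]
  rw [Fin.sum_univ_one] at hsum
  rw [hsum]

theorem card_classes {K : Type*} [Field K] [Fintype K] {q n : ℕ} (hK : Fintype.card K = q ^ 2) (hn : 2 ≤ n)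
    {σ : K →+* K} (hσ : ∀ x, σ x = x ^ q) (hσσ : ∀ x, σ (σ x) = x) :
    Nat.card {C : ConjClasses ↥(Cfsg.SU n K q) // ∃ u : ↥(Cfsg.SU n K q), ConjClasses.mk u = C ∧
      (((u : GL (Fin n) K) : Matrix (Fin n) (Fin n) K) - 1) ^ n = 0 ∧
      (((u : GL (Fin n) K) : Matrix (Fin n) (Fin n) K) - 1).rank = n - 1} = Nat.gcd n (q + 1) := by
  classical
  have hq := CfsgLib.Forms.two_le_q hK
  let d : Fin 1 → ℕ := fun _ => n
  have hd : ∀ k, 1 ≤ d k := fun _ => by show 1 ≤ n; omega
  let e : JI d ≃ Fin n := Fintype.equivFinOfCardEq (by simp [d])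
  obtain ⟨g, c, c', hcc, -, hg, Φ, hΦ⟩ := exists_unitary_model hd hK hσ hσσ e
  let D : Cfsg.GU n K q →* Kˣ := Matrix.GeneralLinearGroup.det.comp (Cfsg.GU n K q).subtype
  have hDval : ∀ x : Cfsg.GU n K q, (D x : K) = (x : GL (Fin n) K).1.det := fun x => rfl
  let toGU : Cfsg.SU n K q →* Cfsg.GU n K q :=
    (Matrix.SpecialLinearGroup.toGL.comp (Cfsg.SU n K q).subtype).codRestrict _ fun s => s.2
  have htoGU_inj : Function.Injective toGU := fun a b h =>
    Subtype.ext (Subtype.ext (congrArg (fun x : Cfsg.GU n K q => (x : GL (Fin n) K).1) h))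
  have hlift : ∀ x : Cfsg.GU n K q, D x = 1 → ∃ s, toGU s = x := fun x hx =>
    ⟨⟨⟨(x : GL (Fin n) K).1, by rw [← hDval, hx, Units.val_one]⟩, x.2⟩, Subtype.ext (Units.ext rfl)⟩
  have hDto : ∀ s, D (toGU s) = 1 := fun s => Units.ext s.1.2
  have hrk : ∀ k, ((((g : GL (Fin n) K) : Matrix (Fin n) (Fin n) K) - 1) ^ k).rank = n - k := fun k => by
    rw [← rank_pow_eq_of_isConj hg k, rank_reindex_pow, rank_shiftMat_pow hd]
    simp [d]
  have hgnil : IsNilpotent (((g : GL (Fin n) K) : Matrix (Fin n) (Fin n) K) - 1) :=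
    ⟨n, eq_zero_of_rank (by rw [hrk, Nat.sub_self])⟩
  have hDg : D g = 1 := by
    obtain ⟨p, hp⟩ := CharP.exists K
    haveI := hp
    haveI : Fact p.Prime := ⟨(CharP.char_is_prime_or_zero K p).resolve_right (CharP.char_ne_zero_of_finite K p)⟩
    haveI : Nonempty (Fin n) := ⟨⟨0, by omega⟩⟩
    obtain ⟨N, hN⟩ := hgnil
    have h1 : ((g : GL (Fin n) K) : Matrix (Fin n) (Fin n) K) ^ p ^ N = 1 := by
      rw [← sub_eq_zero, ← one_pow (p ^ N), ← sub_pow_char_pow_of_commute p N (Commute.one_right _)]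
      exact pow_eq_zero_of_le (Nat.le_of_lt (Nat.lt_pow_self (Fact.out : p.Prime).one_lt)) hN
    refine Units.ext ?_
    rw [hDval, Units.val_one]
    refine sub_eq_zero.1 (eq_zero_of_pow_eq_zero (n := p ^ N) ?_)
    rw [sub_pow_char_pow, ← Matrix.det_pow, h1, Matrix.det_one, one_pow, sub_self]
  let C := Subgroup.centralizer ({g} : Set (Cfsg.GU n K q))
  let H := (C.map D).comap D
  -- the classes form `GU / H`
  have hex : ∀ h : Cfsg.GU n K q, ∃ s, toGU s = h * g * h⁻¹ := fun h => hlift _ (by simp [hDg])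
  choose sOf hsOf using hex
  have hcls : Nat.card {C : ConjClasses ↥(Cfsg.SU n K q) // ∃ u : ↥(Cfsg.SU n K q), ConjClasses.mk u = C ∧
      (((u : GL (Fin n) K) : Matrix (Fin n) (Fin n) K) - 1) ^ n = 0 ∧
      (((u : GL (Fin n) K) : Matrix (Fin n) (Fin n) K) - 1).rank = n - 1} = H.index := by
    have hreg : ∀ h, (((sOf h : GL (Fin n) K) : Matrix (Fin n) (Fin n) K) - 1) ^ n = 0 ∧
        (((sOf h : GL (Fin n) K) : Matrix (Fin n) (Fin n) K) - 1).rank = n - 1 := by
      intro h
      have he : ((sOf h : GL (Fin n) K) : Matrix (Fin n) (Fin n) K) =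
          ((h * g * h⁻¹ : Cfsg.GU n K q) : GL (Fin n) K).1 := by rw [← hsOf h]; rfl
      have hconj : IsConj (((g : GL (Fin n) K) : Matrix (Fin n) (Fin n) K) - 1)
          (((sOf h : GL (Fin n) K) : Matrix (Fin n) (Fin n) K) - 1) := by
        refine ⟨(h : GL (Fin n) K), ?_⟩
        show _ * (_ - 1) = (_ - 1) * _
        rw [he]
        simp [mul_sub, sub_mul]
      refine ⟨eq_zero_of_rank ?_, ?_⟩
      · rw [← rank_pow_eq_of_isConj hconj, hrk, Nat.sub_self]
      · have := rank_pow_eq_of_isConj hconj 1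
        rw [hrk 1, pow_one] at this
        exact this.symm
    have hrel : ∀ h h', IsConj (sOf h) (sOf h') ↔ h⁻¹ * h' ∈ H := by
      intro h h'
      rw [isConj_iff]
      constructor
      · rintro ⟨s, hs⟩
        have hs' := congrArg toGU hs
        rw [map_mul, map_mul, map_inv, hsOf, hsOf] at hs'
        have hmem : h'⁻¹ * toGU s * h ∈ C := Subgroup.mem_centralizer_singleton_iff.2 (by
          calc h'⁻¹ * toGU s * h * g = h'⁻¹ * (toGU s * (h * g * h⁻¹) * (toGU s)⁻¹) * toGU s * h := by group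
            _ = _ := by rw [hs']; group)
        refine Subgroup.mem_comap.2 ⟨(h'⁻¹ * toGU s * h)⁻¹, inv_mem hmem, ?_⟩
        simp only [map_mul, map_inv, hDto]
        simp [mul_comm]
      · intro hx
        obtain ⟨x, hx, hDx⟩ := Subgroup.mem_comap.1 hx
        obtain ⟨s, hs⟩ := hlift (h' * x⁻¹ * h⁻¹) (by
          rw [map_mul, map_mul, map_inv, hDx, map_mul, map_inv]
          simp [mul_comm])
        refine ⟨s, htoGU_inj ?_⟩
        rw [map_mul, map_mul, map_inv, hsOf, hsOf, hs]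
        have hxg : x⁻¹ * g * x = g := by
          rw [mul_assoc, (Subgroup.mem_centralizer_singleton_iff.1 hx).symm, inv_mul_cancel_left]
        calc h' * x⁻¹ * h⁻¹ * (h * g * h⁻¹) * (h' * x⁻¹ * h⁻¹)⁻¹ = h' * (x⁻¹ * g * x) * h'⁻¹ := by group
          _ = _ := by rw [hxg]
    rw [Subgroup.index, ← Nat.card_congr (Equiv.refl _)]
    refine (Nat.card_eq_of_bijective (Quotient.lift (fun h =>
      (⟨ConjClasses.mk (sOf h), sOf h, rfl, hreg h⟩ : {C : ConjClasses ↥(Cfsg.SU n K q) //
        ∃ u : ↥(Cfsg.SU n K q), ConjClasses.mk u = C ∧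
        (((u : GL (Fin n) K) : Matrix (Fin n) (Fin n) K) - 1) ^ n = 0 ∧
        (((u : GL (Fin n) K) : Matrix (Fin n) (Fin n) K) - 1).rank = n - 1}))
      (fun a b hab => Subtype.ext (ConjClasses.mk_eq_mk_iff_isConj.2
        ((hrel a b).2 (QuotientGroup.leftRel_apply.1 hab))))) ⟨?_, ?_⟩).symm
    · intro a b
      induction a using Quotient.inductionOn with
      | h a =>
        induction b using Quotient.inductionOn with
        | h b =>
          intro hab
          exact Quotient.sound (QuotientGroup.leftRel_apply.2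
            ((hrel a b).1 (ConjClasses.mk_eq_mk_iff_isConj.1 (congrArg Subtype.val hab))))
    · rintro ⟨_, u, rfl, hnil, hr⟩
      have hu := regular_rank hn hnil hr
      have hgu : IsConj (g : GL (Fin n) K) (toGU u : GL (Fin n) K) := by
        have h := (isConj_one_add_iff _ _).2 (isConj_of_rank hgnil ⟨n, hnil⟩ fun k => by rw [hrk, hu])
        rw [add_sub_cancel, add_sub_cancel] at h
        obtain ⟨k, hk⟩ := h
        exact ⟨toUnits k, Units.ext hk⟩
      obtain ⟨h, hh⟩ := isConj_iff.1 ((Cfsg.Agent.S2587.result hK g (toGU u)).2 hgu)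
      exact ⟨Quotient.mk _ h, Subtype.ext (congrArg ConjClasses.mk (htoGU_inj ((hsOf h).trans hh)))⟩
  rw [hcls]
  -- determinants
  let U := (powMonoidHom (q + 1) : Kˣ →* Kˣ).ker
  have hmemU : ∀ z : Kˣ, z ∈ U ↔ σ (z : K) * z = 1 := fun z => by
    rw [MonoidHom.mem_ker, powMonoidHom_apply, hσ, ← pow_succ, ← Units.val_pow_eq_pow_val, Units.val_eq_one]
  have hdiag : ∀ f : Fin n → Kˣ, (∀ i, f i ∈ U) → ∃ x : Cfsg.GU n K q,
      (x : GL (Fin n) K).1 = Matrix.diagonal (fun i => (f i : K)) := by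
    intro f hf
    have hu : tau σ (Matrix.diagonal fun i => (f i : K)) * Matrix.diagonal (fun i => (f i : K)) = 1 := by
      rw [tau, Matrix.diagonal_map (map_zero σ), Matrix.diagonal_transpose, Matrix.diagonal_mul_diagonal,
        ← Matrix.diagonal_one]
      exact congrArg _ (funext fun i => (hmemU _).1 (hf i))
    exact ⟨⟨⟨_, _, mul_eq_one_comm.1 hu, hu⟩, (mem_GU_iff hσ hσσ _).2 hu⟩, rfl⟩
  have hrange : D.range = U := by
    refine le_antisymm ?_ fun z hz => ?_
    · rintro _ ⟨x, rfl⟩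
      rw [hmemU, hDval]
      have := congrArg Matrix.det ((mem_GU_iff hσ hσσ _).1 x.2)
      rwa [Matrix.det_mul, tau, Matrix.det_transpose, ← RingHom.mapMatrix_apply, ← RingHom.map_det,
        Matrix.det_one] at this
    · obtain ⟨x, hx⟩ := hdiag (Function.update 1 ⟨0, by omega⟩ z) (fun i => by
        rw [Function.update_apply]; split_ifs <;> [exact hz; exact one_mem _])
      refine ⟨x, Units.ext ?_⟩
      rw [hDval, hx, Matrix.det_diagonal, ← Units.coe_prod, Finset.prod_update_of_mem (Finset.mem_univ _)]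
      simp
  have hmapC : C.map D = U.map (powMonoidHom n) := by
    refine le_antisymm ?_ ?_
    · rintro _ ⟨x, hx, rfl⟩
      obtain ⟨a, ha⟩ := Φ.surjective ⟨x, hx⟩
      have hxa : (x : GL (Fin n) K).1 = Matrix.reindex e e (c * a.1 * c') := by rw [← hΦ, ha]
      have hM := lead_adj hd σ a.2.1
      have hb : a.1 = lift d (lead d a.1) * (lift d (tauI σ (lead d a.1)) * a.1) := by
        rw [← mul_assoc, ← lift_mul (lead_mem _), mul_eq_one_comm.1 (show tauI σ (lead d a.1) * lead d a.1 = 1 by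
          rw [← hM, ← lead_mul (adj_mem_commutant σ a.2.1) a.2.1, a.2.2, lead_one hd]), lift_one, one_mul]
      have hone : tauI σ (lead d a.1) * lead d a.1 = 1 := by
        rw [← hM, ← lead_mul (adj_mem_commutant σ a.2.1) a.2.1, a.2.2, lead_one hd]
      have hz : σ (lead d a.1 0 0) * lead d a.1 0 0 = 1 := by
        have := congrFun (congrFun hone 0) 0
        simpa [Matrix.mul_apply, tauI] using this
      refine ⟨Units.mk0 _ (right_ne_zero_of_mul_eq_one hz), (hmemU _).2 hz, Units.ext ?_⟩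
      rw [hDval, hxa, Matrix.det_reindex_self, Matrix.det_mul, Matrix.det_mul, mul_comm c.det,
        mul_assoc a.1.det, ← Matrix.det_mul, hcc, Matrix.det_one, mul_one, (congrArg Matrix.det hb).trans (Matrix.det_mul _ _),
        det_one_of_lead_one hd (mul_mem lift_mem a.2.1) (by
          rw [lead_mul lift_mem a.2.1, lead_lift hd (tauI_mem_blk σ (lead_mem _)), hone]), mul_one]
      have hl : lift d (lead d a.1) = Matrix.diagonal fun _ : JI d => lead d a.1 0 0 := by
        ext ⟨l, i⟩ ⟨k, j⟩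
        obtain rfl : l = 0 := Subsingleton.elim _ _
        obtain rfl : k = 0 := Subsingleton.elim _ _
        simp [lift, Matrix.diagonal_apply, Fin.ext_iff]
      rw [hl, Matrix.det_diagonal, Finset.prod_const, Finset.card_univ]
      simp [d]
    · rintro _ ⟨z, hz, rfl⟩
      obtain ⟨x, hx⟩ := hdiag (fun _ => z) (fun _ => hz)
      refine ⟨x, Subgroup.mem_centralizer_singleton_iff.2 (Subtype.ext (Units.ext ?_)), Units.ext ?_⟩
      · show (x : GL (Fin n) K).1 * (g : GL (Fin n) K).1 = (g : GL (Fin n) K).1 * (x : GL (Fin n) K).1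
        rw [hx, ← Matrix.scalar_apply]
        exact (Matrix.scalar_commute _ (fun r => Commute.all _ r) _).eq
      · rw [hDval, hx, Matrix.det_diagonal, Finset.prod_const, Finset.card_univ, Fintype.card_fin]
        rfl
  have hUcard : Nat.card U = q + 1 := by
    rw [IsCyclic.card_powMonoidHom_ker, Nat.card_units, Nat.card_eq_fintype_card, hK]
    refine Nat.gcd_eq_right ⟨q - 1, ?_⟩
    obtain ⟨r, rfl⟩ : ∃ r, q = r + 1 := ⟨q - 1, by omega⟩
    simp only [Nat.add_sub_cancel]
    refine Nat.sub_eq_of_eq_add ?_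
    ring
  let P : U →* U := powMonoidHom n
  have hUn : U.map (powMonoidHom n) = P.range.map U.subtype := by
    ext z
    constructor
    · rintro ⟨y, hy, rfl⟩
      exact ⟨P ⟨y, hy⟩, ⟨_, rfl⟩, rfl⟩
    · rintro ⟨_, ⟨y, rfl⟩, rfl⟩
      exact ⟨y.1, y.2, rfl⟩
  rw [Subgroup.index_comap, hrange, hmapC, hUn, Subgroup.relIndex, Subgroup.subgroupOf,
    Subgroup.comap_map_eq_self_of_injective U.subtype_injective, IsCyclic.index_powMonoidHom_range, hUcard,
    Nat.gcd_comm]

/-- Regular unipotent classes of SU_n(q), n ≥ 2: the elements u of the special unitary group (isometries of Σ u_i v_i^q of determinant one over the field with q² elements) with (u − 1)^n = 0 and rank(u − 1) = n − 1 form exactly gcd(n, q + 1) conjugacy classes of SU_n(q). -/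
theorem result {K : Type*} [Field K] [Fintype K] {q n : ℕ} (hK : Fintype.card K = q ^ 2) (hn : 2 ≤ n) : Nat.card {C : ConjClasses ↥(Cfsg.SU n K q) // ∃ u : ↥(Cfsg.SU n K q), ConjClasses.mk u = C ∧ (((u : GL (Fin n) K) : Matrix (Fin n) (Fin n) K) - 1) ^ n = 0 ∧ (((u : GL (Fin n) K) : Matrix (Fin n) (Fin n) K) - 1).rank = n - 1} = Nat.gcd n (q + 1) := by
  obtain ⟨σ, hσ, hσσ⟩ := CfsgLib.FieldEmb.exists_conj hK
  exact card_classes hK hn hσ hσσ

end Cfsg.Agent.S2643
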