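import Cfsg.Statements.S2644
import Cfsg.Agent.Forms.UnitaryTransvections
import Cfsg.Agent.Forms.HermitianCount

set_option autoImplicit false
open Cfsg

namespace Cfsg.Agent.S2644

open Matrix CfsgLib.RepBounds.Unit

variable {K : Type*} [Field K] [Fintype K] (C : ConjField K) {n : ℕ}

/-- A transvection in the isometry group has the standard shape. -/
theorem exists_transv {g : suG C (Fin n)} (hg : Cfsg.IsTransvection g.1.1) :
    ∃ (v : Fin n → K) (c : K), v ≠ 0 ∧ herm C v v = 0 ∧ c ∈ C.skew ∧ c ≠ 0 ∧ IsTransv C g v c := by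
  obtain ⟨hr, hsq⟩ := hg
  set L := Matrix.mulVecLin (g.1.1 - 1) with hL
  have hr' : Module.finrank K (LinearMap.range L) = 1 := hr
  obtain ⟨⟨v, hv⟩, hv0, hspan⟩ := finrank_eq_one_iff'.1 hr'
  have hv0' : v ≠ 0 := fun h => hv0 (Subtype.ext h)
  choose φ hφ using fun x : Fin n → K => hspan ⟨L x, x, rfl⟩
  have happ : ∀ x, app C g x = x + φ x • v := fun x => by
    have h := congrArg Subtype.val (hφ x)
    simp only [SetLike.val_smul] at h
    rw [h, hL, mulVecLin_apply, sub_mulVec, one_mulVec, app, add_sub_cancel]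
  have hφv : φ v = 0 := by
    obtain ⟨u, hu⟩ := hv
    have h := congrArg Subtype.val (hφ v)
    simp only [SetLike.val_smul] at h
    have hz : L v = 0 := by
      rw [← hu, hL, mulVecLin_apply, mulVecLin_apply, mulVec_mulVec, hsq, zero_mulVec]
    rw [hz, smul_eq_zero] at h
    exact h.resolve_right hv0'
  obtain ⟨x₀, hx₀⟩ : ∃ x, φ x ≠ 0 := by
    obtain ⟨u, hu⟩ := hv
    refine ⟨u, fun h => hv0' ?_⟩
    have h1 := congrArg Subtype.val (hφ u)
    simp only [SetLike.val_smul, h, zero_smul, ZeroMemClass.coe_zero] at h1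
    rw [← hu, h1]
  have hiso : ∀ x y, φ x * herm C v y + C.σ (φ y) * herm C x v + φ x * C.σ (φ y) * herm C v v = 0 := fun x y => by
    have h := herm_app C g x y
    rw [happ, happ] at h
    simp only [herm_add_left, herm_add_right, herm_smul_left, herm_smul_right] at h
    linear_combination h
  have hvv : herm C v v = 0 := by
    have h := hiso x₀ v
    rw [hφv, map_zero] at h
    simp only [zero_mul, mul_zero, add_zero] at h
    exact (mul_eq_zero.1 h).resolve_left hx₀
  obtain ⟨y₀, hy₀⟩ := exists_herm_eq C hv0' 1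
  have hy : herm C v y₀ = 1 := by rw [← conj_herm C y₀ v, hy₀, map_one]
  have hform : ∀ x, φ x = -C.σ (φ y₀) * herm C x v := fun x => by
    have h := hiso x y₀
    rw [hy, hvv] at h
    linear_combination h
  have htr : IsTransv C g v (-C.σ (φ y₀)) := fun x => by rw [happ, hform]
  refine ⟨v, _, hv0', hvv, skew_of_isometry C hv0' hvv fun x y => ?_, fun h => hx₀ ?_, htr⟩
  · rw [← htr x, ← htr y, herm_app]
  · rw [hform, h, zero_mul]

theorem suG_isConj (hn : 3 ≤ n) (s t : suG C (Fin n)) (hs : Cfsg.IsTransvection s.1.1)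
    (ht : Cfsg.IsTransvection t.1.1) : IsConj s t := by
  haveI : Nonempty (Fin (n - 2)) := ⟨⟨0, by omega⟩⟩
  obtain ⟨v, c, hv, hvv, hc, hc0, hsv⟩ := exists_transv C hs
  obtain ⟨w, d, hw, hww, hd, hd0, htw⟩ := exists_transv C ht
  let e : Fin n ≃ Fin 2 ⊕ Fin (n - 2) := (finCongr (by omega : n = 2 + (n - 2))).trans finSumFinEquiv.symm
  obtain ⟨a, ha⟩ : ∃ a : K, a * C.σ a = d / c := by
    have hfix : (d / c) ^ C.q = d / c := by
      rw [← C.pow, map_div₀, C.skew_eq hd, C.skew_eq hc, neg_div_neg_eq]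
    have h := CfsgLib.Forms.card_norm_fiber C.card (d / c) (div_ne_zero hd0 hc0) hfix
    obtain ⟨⟨a, ha⟩⟩ := (Nat.card_pos_iff.1 (by rw [h]; omega : 0 < Nat.card {x : K // x ^ (C.q + 1) = d / c})).1
    exact ⟨a, by rw [C.pow, ← pow_succ', ha]⟩
  have ha0 : a ≠ 0 := fun h => div_ne_zero hd0 hc0 (by rw [← ha, h, zero_mul])
  have hs' : IsTransv C s (a⁻¹ • v) d := fun x => by
    have hd' : d = c * (a * C.σ a) := by rw [ha, mul_div_cancel₀ _ hc0]
    have hσ : C.σ a ≠ 0 := (map_ne_zero C.σ).2 ha0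
    rw [hsv x, herm_smul_right, smul_smul, hd', map_inv₀]
    congr 2
    field_simp
  have hiso : ∀ u u' : Fin n → K, herm C (u ∘ e.symm) (u' ∘ e.symm) = herm C u u' := fun u u' =>
    Equiv.sum_comp e.symm fun i => u i * C.σ (u' i)
  have hne : ∀ {u : Fin n → K}, u ≠ 0 → u ∘ e.symm ≠ 0 := fun {u} hu h => hu (funext fun i => by
    simpa using congrFun h (e i))
  obtain ⟨k₁, hk₁⟩ := exists_conj_central C (hs'.reindexHom C e)
    (by rw [hiso, herm_smul_left, herm_smul_right, hvv, mul_zero, mul_zero]) (hne (smul_ne_zero (inv_ne_zero ha0) hv)) hd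
  obtain ⟨k₂, hk₂⟩ := exists_conj_central C (htw.reindexHom C e) (by rw [hiso, hww]) (hne hw) hd
  obtain ⟨k, hk⟩ := isConj_iff.1 ((isConj_iff.2 ⟨k₁, hk₁⟩).trans (isConj_iff.2 ⟨k₂, hk₂⟩).symm)
  have hback : ∀ g : suG C (Fin n), reindexHom C e.symm (reindexHom C e g) = g := fun g =>
    suG_ext C fun x => by rw [app_reindexHom, app_reindexHom]; simp [Function.comp_def]
  refine isConj_iff.2 ⟨reindexHom C e.symm k, ?_⟩
  rw [← hback s, ← hback t, ← map_inv, ← map_mul, ← map_mul, hk]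

theorem SU_isConj (hn : 3 ≤ n) (s t : ↥(Cfsg.SU n K C.q))
    (hs : Cfsg.IsTransvection (((s : GL (Fin n) K) : Matrix (Fin n) (Fin n) K)))
    (ht : Cfsg.IsTransvection (((t : GL (Fin n) K) : Matrix (Fin n) (Fin n) K))) : IsConj s t := by
  obtain ⟨s, hs'⟩ := s
  obtain ⟨t, ht'⟩ := t
  obtain ⟨k, hk⟩ := isConj_iff.1 (suG_isConj C hn ⟨s, by rw [suG_fin_eq]; exact hs'⟩
    ⟨t, by rw [suG_fin_eq]; exact ht'⟩ hs ht)
  exact isConj_iff.2 ⟨⟨k.1, suG_fin_eq C n ▸ k.2⟩, Subtype.ext (congrArg (fun x : suG C (Fin n) => x.1) hk)⟩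

/-- In the special unitary group SU_n(q) with n ≥ 3 (isometries of Σ u_i v_i^q of determinant one over the field with q² elements), any two transvections (elements t with t − 1 of rank one and square zero) are conjugate. -/
theorem result {K : Type*} [Field K] [Fintype K] {q n : ℕ} (hK : Fintype.card K = q ^ 2) (hn : 3 ≤ n) (s t : ↥(Cfsg.SU n K q)) (hs : Cfsg.IsTransvection (((s : GL (Fin n) K) : Matrix (Fin n) (Fin n) K))) (ht : Cfsg.IsTransvection (((t : GL (Fin n) K) : Matrix (Fin n) (Fin n) K))) : IsConj s t := by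
  obtain ⟨C, rfl⟩ := CfsgLib.RepBounds.Unit.exists_conjField q hK
  exact SU_isConj C hn s t hs ht

end Cfsg.Agent.S2644
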