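import Cfsg.Statements.S2645
import Cfsg.Agent.RootClasses.Count
import Cfsg.Agent.RootClasses.Star
import Cfsg.Agent.RootClasses.Symplectic
import Cfsg.Agent.S2589

set_option autoImplicit false
open Cfsg

namespace Cfsg.Agent.S2645

/-- Number of conjugacy classes of elements of odd prime order r, r different from the characteristic, in the symplectic group Sp_2m(q): let i be the multiplicative order of q modulo r and t = (r − 1)/i. If i is odd the eigenvalue orbits pair off (Λ ≠ Λ⁻¹) and the classes correspond to the non-zero (t/2)-tuples (a_j) with 2i Σ a_j ≤ 2m, giving C(⌊m/i⌋ + t/2, t/2) − 1 classes; if i is even (Λ = Λ⁻¹) they correspond to the non-zero t-tuples with i Σ a_j ≤ 2m, giving C(⌊2m/i⌋ + t, t) − 1 classes. -/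
theorem result {F : Type*} [Field F] [Fintype F] {p q : ℕ} [Fact p.Prime] [CharP F p] (hF : Fintype.card F = q) (m r i t : ℕ) (hr : r.Prime) (hr2 : r ≠ 2) (hrp : r ≠ p) (hi : i = orderOf (q : ZMod r)) (ht : t * i = r - 1) : Nat.card {C : ConjClasses ↥(Matrix.symplecticGroup (Fin m) F) // ∃ g : Matrix.symplecticGroup (Fin m) F, ConjClasses.mk g = C ∧ orderOf g = r} = if Odd i then Nat.choose (m / i + t / 2) (t / 2) - 1 else Nat.choose (2 * m / i + t) t - 1 := by
  open CfsgLib Polynomial in
  classical
  haveI : Fact r.Prime := ⟨hr⟩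
  have hpp : p.Prime := Fact.out
  have hcop : r.Coprime p := (Nat.coprime_primes hr hpp).2 hrp
  haveI : NeZero (r : F) := ⟨fun h => hrp ((Nat.prime_dvd_prime_iff_eq hpp hr).1
    ((CharP.cast_eq_zero_iff F p r).1 h)).symm⟩
  set u₀ : (ZMod r)ˣ := RootClasses.cardUnit F with hu₀
  set H := Subgroup.closure ({u₀, -1} : Set (ZMod r)ˣ) with hHdef
  have hH : u₀ ∈ H := Subgroup.subset_closure (by simp)
  have hH1 : (-1 : (ZMod r)ˣ) ∈ H := Subgroup.subset_closure (by simp)
  have hio : orderOf u₀ = i := by rw [hi, ← orderOf_units, RootClasses.coe_cardUnit, hF]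
  have hcH : Nat.card H = if Odd i then 2 * i else i := by
    rw [hHdef, RootClasses.card_closure_pair hr2, hio]
  have hev : Even (Nat.card H) := by
    rw [hcH]
    split_ifs with ho
    · exact even_two_mul i
    · exact Nat.not_odd_iff_even.1 ho
  let ι := (Matrix.symplecticGroup (Fin m) F).subtype.toHomUnits
  have hord : ∀ g : Matrix.symplecticGroup (Fin m) F, g ^ r = 1 → (orderOf (ι g)).Coprime p :=
    fun g hg => hcop.coprime_dvd_left (orderOf_dvd_of_pow_eq_one (by rw [← map_pow, hg, map_one]))
  have hcount := RootClasses.card_classes H hH ι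
    (fun g h hg hh hc => (Cfsg.Agent.S2589.result g h
        (hcop.coprime_dvd_left (orderOf_dvd_of_pow_eq_one hg))).2
      ((Units.coeHom _).map_isConj
        (CharpolySS.isConj_GL_of_charpoly_eq _ _ (hord g hg) (hord h hh) hc)))
    (fun g _ => RootClasses.invariant_of_generators {u₀, -1} rfl (by
      rintro h (rfl | rfl) a
      · exact RootClasses.rootMultiplicity_card _ a
      · refine RootClasses.rootMultiplicity_of_star_eq (σ := RingHom.id F)
          (φ := RingHom.id (RootClasses.Cl F)) rfl (-1) RootClasses.inv_omg_id (Matrix.charpoly_monic _)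
          ?_ (RootClasses.star_charpoly_of_form (B := Matrix.J (Fin m) F)
            (Matrix.isUnit_det_J (Fin m) F).ne_zero (SymplecticGroup.mem_iff'.1 g.2)) a
        intro h0
        have hd := (Matrix.isUnit_iff_isUnit_det _).1 (ι g).isUnit
        rw [Matrix.det_eq_sign_charpoly_coeff] at hd
        exact hd.ne_zero (mul_eq_zero_of_right _ h0)))
    (fun _ => True) (fun _ _ _ _ _ => trivial)
    (fun a ha _ _ => by
      rw [Fintype.card_sum, Fintype.card_fin] at ha ⊢
      obtain ⟨g, hg, hgc⟩ := RootClasses.exists_sp_classPoly hr2 H hH hH1 hev a ha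
      exact ⟨g, hg, hgc⟩)
  rw [hcount, Fintype.card_sum, Fintype.card_fin, ← two_mul]
  split_ifs with ho
  · rw [if_pos ho] at hcH
    have hi0 : 0 < i := ho.pos
    obtain ⟨t', ht'⟩ : ∃ t', t = 2 * t' := by
      have h := RootClasses.card_quotient_mul_card H
      rw [hcH, ← ht] at h
      exact ⟨_, Nat.eq_of_mul_eq_mul_right hi0 (show t * i = _ * i by rw [← h]; ring)⟩
    rw [RootClasses.card_mult_true H hcH (t := t') (by rw [← ht, ht']; ring), ht',
      Nat.mul_div_cancel_left _ two_pos, Nat.mul_div_mul_left _ _ two_pos]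
  · rw [if_neg ho] at hcH
    rw [RootClasses.card_mult_true H hcH ht]

end Cfsg.Agent.S2645
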