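import Cfsg.Statements.S2646
import Cfsg.Agent.UnipotentJordan.Unitary
import Cfsg.Agent.S2587

set_option autoImplicit false
open Cfsg

namespace Cfsg.Agent.S2646

/-- Order of the centraliser in the general unitary group GU_n(q) of a unipotent element of given Jordan type: if u ∈ GU_n(q) (isometries of Σ u_i v_i^q over the field with q² elements) is similar to the unipotent matrix with a_i Jordan blocks of size i (all sizes at least 1), then its centraliser in GU_n(q) has order q^γ · Π_i |GU_(a_i)(q)| with γ = 2 Σ_(i<j) i a_i a_j + Σ_i (i − 1) a_i², the same exponent as in GL_n(q), where |GU_a(q)| = q^(a(a−1)/2) Π_(k=1)^a (q^k − (−1)^k). -/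
theorem result {K : Type*} [Field K] [Fintype K] {q n t : ℕ} (hK : Fintype.card K = q ^ 2) (d : Fin t → ℕ) (hd : ∀ k, 1 ≤ d k) (e : ((k : Fin t) × Fin (d k)) ≃ Fin n) (u : ↥(Cfsg.GU n K q)) (hu : IsConj (Matrix.reindex e e (Cfsg.jordanTypeMatrix d K)) ((u : GL (Fin n) K) : Matrix (Fin n) (Fin n) K)) : (Nat.card ↥(Subgroup.centralizer ({u} : Set ↥(Cfsg.GU n K q))) : ℤ) = (q : ℤ) ^ (2 * (∑ i ∈ Finset.range (Finset.univ.sup d + 1), ∑ j ∈ Finset.range (Finset.univ.sup d + 1), if i < j then i * (Finset.univ.filter (fun k : Fin t => d k = i)).card * (Finset.univ.filter (fun k : Fin t => d k = j)).card else 0) + ∑ i ∈ Finset.range (Finset.univ.sup d + 1), (i - 1) * (Finset.univ.filter (fun k : Fin t => d k = i)).card ^ 2) * ∏ i ∈ Finset.range (Finset.univ.sup d + 1), ((q : ℤ) ^ ((Finset.univ.filter (fun k : Fin t => d k = i)).card * ((Finset.univ.filter (fun k : Fin t => d k = i)).card - 1) / 2) * ∏ j : Fin (Finset.univ.filter (fun k : Fin t => d k = i)).card, ((q : ℤ) ^ ((j :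 ℕ) + 1) - (-1) ^ ((j : ℕ) + 1))) := by
  classical
  obtain ⟨σ, hσ, hσσ⟩ := CfsgLib.FieldEmb.exists_conj hK
  obtain ⟨g, c, c', -, -, hg, Φ, -⟩ :=
    CfsgLib.UnipotentJordan.exists_unitary_model hd hK hσ hσσ e
  have hu' : IsConj (Matrix.reindex e e (CfsgLib.UnipotentJordan.shiftMat d K))
      (((u : GL (Fin n) K) : Matrix (Fin n) (Fin n) K) - 1) := by
    rw [← CfsgLib.UnipotentJordan.isConj_one_add_iff, ← CfsgLib.UnipotentJordan.reindex_jordan,
      add_sub_cancel]
    exact hu
  have hgu : IsConj (g : GL (Fin n) K) (u : GL (Fin n) K) := by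
    have h := (CfsgLib.UnipotentJordan.isConj_one_add_iff _ _).2 (hg.symm.trans hu')
    rw [add_sub_cancel, add_sub_cancel] at h
    obtain ⟨k, hk⟩ := h
    exact ⟨toUnits k, Units.ext hk⟩
  obtain ⟨k, rfl⟩ := isConj_iff.1 ((Cfsg.Agent.S2587.result hK g u).2 hgu)
  have hcard : Nat.card ↥(Subgroup.centralizer ({k * g * k⁻¹} : Set ↥(Cfsg.GU n K q))) =
      Nat.card ↥(Subgroup.centralizer ({g} : Set ↥(Cfsg.GU n K q))) := by
    refine Nat.card_congr ((MulAut.conj k).symm.toEquiv.subtypeEquiv fun a => ?_)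
    simp only [Subgroup.mem_centralizer_singleton_iff, MulEquiv.toEquiv_eq_coe, EquivLike.coe_coe,
      MulAut.conj_symm_apply]
    constructor
    · intro h
      calc k⁻¹ * a * k * g = k⁻¹ * (a * (k * g * k⁻¹)) * k := by group
        _ = k⁻¹ * (k * g * k⁻¹ * a) * k := by rw [h]
        _ = _ := by group
    · intro h
      calc a * (k * g * k⁻¹) = k * (k⁻¹ * a * k * g) * k⁻¹ := by group
        _ = k * (g * (k⁻¹ * a * k)) * k⁻¹ := by rw [h]
        _ = _ := by group
  have hD : ∀ i, d i ≤ Finset.univ.sup d := fun i => Finset.le_sup (Finset.mem_univ i)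
  have hker := CfsgLib.UnipotentJordan.natCard_unitary_kernel (d := d) hd hK hσ hσσ
  rw [CfsgLib.UnipotentJordan.natCard_radK hd _ hD, Nat.card_eq_fintype_card (α := K), hK,
    ← pow_mul, mul_comm 2, pow_mul] at hker
  rw [hcard, ← Nat.card_congr Φ, CfsgLib.UnipotentJordan.natCard_unitary_commutant hd hσσ,
    Nat.pow_left_injective two_ne_zero hker,
    CfsgLib.UnipotentJordan.natCard_blk_unitary hK hσ hσσ _ hD, mul_comm]
  push_cast
  congr 1
  refine Finset.prod_congr rfl fun i _ => ?_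
  rw [CfsgLib.Forms.sum_range_half, Finset.prod_range]
  congr 1
  refine Finset.prod_congr rfl fun j _ => CfsgLib.Forms.u_cast ?_ _
  exact le_trans (by norm_num) (CfsgLib.Forms.two_le_q hK)

end Cfsg.Agent.S2646
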