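import Cfsg.Statements.S2647
import Cfsg.Agent.OmegaSevenTwo.Main

set_option autoImplicit false
open Cfsg

namespace Cfsg.Agent.S2647

/-- Let q be an odd prime power with q ≡ ±3 (mod 8), F a field with q elements and S a Sylow 2-subgroup of the commutator subgroup Ω₇(q) of the orthogonal group of the form x₀² + x₁y₁ + x₂y₂ + x₃y₃ over F. Then every automorphism of S induced by N(S) is inner, S has no strongly closed subgroup other than 1 and S with respect to this group, and the 2-fusion system of Ω₇(q) on S is simple. -/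
theorem result {F : Type*} [Field F] [Fintype F] [DecidableEq F] (q : ℕ) (hF : Fintype.card F = q) (hq : q % 8 = 3 ∨ q % 8 = 5) (S : Sylow 2 ↥(Cfsg.Omega F (Cfsg.quadFormOdd 3 F))) : (Cfsg.groupFusionSystem (S : Subgroup ↥(Cfsg.Omega F (Cfsg.quadFormOdd 3 F)))).autGroup (S : Subgroup ↥(Cfsg.Omega F (Cfsg.quadFormOdd 3 F))) = Cfsg.Inn ↥(S : Subgroup ↥(Cfsg.Omega F (Cfsg.quadFormOdd 3 F))) ∧ (∀ T : Subgroup ↥(Cfsg.Omega F (Cfsg.quadFormOdd 3 F)), (Cfsg.groupFusionSystem (S : Subgroup ↥(Cfsg.Omega F (Cfsg.quadFormOdd 3 F)))).StronglyClosed T → T = ⊥ ∨ T = (S : Subgroup ↥(Cfsg.Omega F (Cfsg.quadFormOdd 3 F)))) ∧ (Cfsg.groupFusionSystem (S : Subgroup ↥(Cfsg.Omega F (Cfsg.quadFormOdd 3 F)))).IsSimple 2 := by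
  open CfsgLib.OmegaSevenTwo CfsgLib in
  classical
  have h2 : (2 : F) ≠ 0 := fun h =>
    (Nat.not_even_iff_odd.2 (Nat.odd_iff.2 (by omega : q % 2 = 1))) ((Forms4.two_eq_zero_iff_even hF).1 h)
  obtain ⟨Φ⟩ := nonempty_frame_odd h2
  have hcard := factorization_card hF hq
  set U : Sylow 2 ↥(Cfsg.Omega F (Cfsg.quadFormOdd 3 F)) := Φ.sylow hcard with hU
  have hne : (U : Subgroup ↥(Cfsg.Omega F (Cfsg.quadFormOdd 3 F))) ≠ ⊥ := by
    intro h
    have h9 := U.card_eq_multiplicity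
    rw [h, Subgroup.card_bot, hcard] at h9
    norm_num at h9
  refine ⟨?_, ?_, FusionSimple.isSimple_of_one_sylow U hne (Φ.closed hcard) (fun g hg => Subgroup.subset_closure
    ⟨hg, Or.inl (Φ.normalizer_le hcard hg)⟩) S⟩
  · rw [FusionPStable.autGroup_groupFusion le_rfl]
    obtain ⟨a, ha⟩ := MulAction.exists_smul_eq ↥(Cfsg.Omega F (Cfsg.quadFormOdd 3 F)) U S
    have hS : ∀ x, x ∈ (S : Subgroup ↥(Cfsg.Omega F (Cfsg.quadFormOdd 3 F))) ↔ a⁻¹ * x * a ∈
        (U : Subgroup ↥(Cfsg.Omega F (Cfsg.quadFormOdd 3 F))) := by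
      intro x
      rw [← ha, Sylow.coe_subgroup_smul, Subgroup.mem_pointwise_smul_iff_inv_smul_mem]
      simp [MulAut.smul_def, MulAut.conj_inv_apply, mul_assoc]
    have hNS : ∀ g ∈ Subgroup.normalizer ((S : Subgroup ↥(Cfsg.Omega F (Cfsg.quadFormOdd 3 F))) : Set ↥(Cfsg.Omega F (Cfsg.quadFormOdd 3 F))),
        g ∈ (S : Subgroup ↥(Cfsg.Omega F (Cfsg.quadFormOdd 3 F))) := by
      intro g hg
      rw [hS]
      refine Φ.normalizer_le hcard (Subgroup.mem_normalizer_iff.2 fun x => ?_)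
      have h1 := Subgroup.mem_normalizer_iff.1 hg (a * x * a⁻¹)
      rw [hS, hS] at h1
      convert h1 using 2 <;> simp [hU, mul_assoc]
    refine le_antisymm ?_ ?_
    · rintro α ⟨⟨g, hg⟩, rfl⟩
      exact ⟨⟨g, hNS g hg⟩, MulEquiv.ext fun x => Subtype.ext rfl⟩
    · rintro α ⟨s, rfl⟩
      exact ⟨⟨s, Subgroup.le_normalizer s.2⟩, MulEquiv.ext fun x => Subtype.ext rfl⟩
  · intro T hT
    obtain ⟨a, ha⟩ := MulAction.exists_smul_eq ↥(Cfsg.Omega F (Cfsg.quadFormOdd 3 F)) U S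
    have hS : (S : Subgroup ↥(Cfsg.Omega F (Cfsg.quadFormOdd 3 F))) =
        (U : Subgroup ↥(Cfsg.Omega F (Cfsg.quadFormOdd 3 F))).map (MulAut.conj a).toMonoidHom := by
      rw [← ha, Sylow.coe_subgroup_smul]
      rfl
    have hT' := FusionSimple.closed_of_stronglyClosed hT
    rw [hS] at hT' ⊢
    have hmap := Subgroup.map_comap_eq_self_of_surjective (f := (MulAut.conj a).toMonoidHom)
      (MulAut.conj a).surjective T
    rcases Φ.closed hcard _ (FusionSimple.closed_comap (MulAut.conj a) hT') with h | h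
    · left; rw [← hmap, h, Subgroup.map_bot]
    · right; rw [← hmap, h]

end Cfsg.Agent.S2647
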