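import Cfsg.Statements.S2648
import Cfsg.Agent.SpSum.Tower
import Cfsg.Agent.NilpotentLinear.DerivedLength

set_option autoImplicit false
open Cfsg

namespace Cfsg.Agent.S2648

/-- Let q be odd, F a field with q elements and n ≥ 1. A Sylow 2-subgroup R of the symplectic group Sp_{2n}(F) has derived length exactly k + 1, where 2^k ≤ 2n < 2^{k+1}: the (k+1)-st term of its derived series is trivial and the k-th is not. -/
theorem result {F : Type*} [Field F] [Fintype F] [DecidableEq F] (q : ℕ) (hF : Fintype.card F = q) (hq : Odd q) (n : ℕ) (hn : 1 ≤ n) (R : Sylow 2 ↥(Matrix.symplecticGroup (Fin n) F)) : derivedSeries ↥(R : Subgroup ↥(Matrix.symplecticGroup (Fin n) F)) (Nat.log 2 (2 * n) + 1) = ⊥ ∧ derivedSeries ↥(R : Subgroup ↥(Matrix.symplecticGroup (Fin n) F)) (Nat.log 2 (2 * n)) ≠ ⊥ := by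
  classical
  have h2 : (2 : F) ≠ 0 := by
    intro h0
    haveI : Fact (Nat.Prime 2) := ⟨Nat.prime_two⟩
    haveI : CharP F 2 := CharTwo.of_one_ne_zero_of_two_eq_zero one_ne_zero h0
    have := FiniteField.even_card_iff_char_two.1 (ringChar.eq F 2)
    rw [hF] at this
    have := Nat.odd_iff.1 hq
    omega
  constructor
  · let ρ : ↥(R : Subgroup ↥(Matrix.symplecticGroup (Fin n) F)) →* Matrix (Fin n ⊕ Fin n) (Fin n ⊕ Fin n) F :=
      (Submonoid.subtype _).comp (R : Subgroup ↥(Matrix.symplecticGroup (Fin n) F)).subtype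
    haveI : Group.IsNilpotent ↥(R : Subgroup ↥(Matrix.symplecticGroup (Fin n) F)) := R.isPGroup'.isNilpotent
    have hcard : ((Nat.card ↥(R : Subgroup ↥(Matrix.symplecticGroup (Fin n) F)) : ℕ) : F) ≠ 0 := by
      obtain ⟨k, hk⟩ := IsPGroup.iff_card.1 R.isPGroup'
      rw [hk, Nat.cast_pow]
      exact pow_ne_zero k (by exact_mod_cast h2)
    have := CfsgLib.NilpotentLinear.derivedSeries_le_ker hcard ρ
    rw [show Fintype.card (Fin n ⊕ Fin n) = 2 * n by simp [two_mul]] at this
    exact eq_bot_iff.2 fun x hx => Subgroup.mem_bot.2 (Subtype.ext (Subtype.ext (this hx)))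
  · obtain ⟨P, hP, hd⟩ := CfsgLib.SpSum.exists_tower h2 (Nat.log 2 n)
    have hlog : Nat.log 2 (2 * n) = Nat.log 2 n + 1 := by
      rw [mul_comm, Nat.log_mul_base one_lt_two (by omega)]
    rw [hlog]
    have hle : 2 ^ Nat.log 2 n ≤ n := Nat.pow_log_le_self 2 (by omega)
    let e : Fin (2 ^ Nat.log 2 n) ⊕ Fin (n - 2 ^ Nat.log 2 n) ≃ Fin n :=
      finSumFinEquiv.trans (finCongr (by omega))
    let φ := (CfsgLib.SpSum.blk (R := F) e).comp (MonoidHom.inl _ _)
    have hφ : Function.Injective φ := fun a b h => (Prod.ext_iff.1 (CfsgLib.SpSum.blk_injective e h)).1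
    obtain ⟨S, hS⟩ := (hP.map φ).exists_le_sylow
    intro hbot
    apply hd
    let θ := Sylow.equiv S R
    let f : ↥P →* ↥(R : Subgroup ↥(Matrix.symplecticGroup (Fin n) F)) :=
      θ.toMonoidHom.comp ((Subgroup.inclusion hS).comp (φ.subgroupMap P))
    have hf : Function.Injective f := fun a b h => by
      have h3 := congrArg Subtype.val (θ.injective h)
      exact Subtype.ext (hφ h3)
    rw [eq_bot_iff]
    intro x hx
    have := map_derivedSeries_le_derivedSeries f (Nat.log 2 n + 1) ⟨x, hx, rfl⟩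
    rw [hbot, Subgroup.mem_bot] at this
    exact Subgroup.mem_bot.2 (hf (this.trans (map_one f).symm))

end Cfsg.Agent.S2648
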