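import Cfsg.Statements.S2653
import Cfsg.Agent.AltMinDeg.Main

set_option autoImplicit false
open scoped MatrixGroups
open Cfsg

namespace Cfsg.Agent.S2653

/-- Alternating sections of finite linear groups. Let `F` be a finite field of characteristic `p` and `n` a natural number, and suppose some subgroup `H` of GL_n(F) has a normal subgroup `K` with `H ⧸ K` isomorphic to the alternating group of degree `r ≥ 9`. Then `n ≥ r - 2` when `p` divides `r`, and `n ≥ r - 1` otherwise (the smallest degree of a nontrivial projective representation of that alternating group in characteristic `p`). The same bound follows for every classical group with natural module of dimension `n` over `F`, since each is a section of a subgroup of GL_n(F). -/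
theorem result {F : Type*} [Field F] [Fintype F] (p : ℕ) [Fact p.Prime] [CharP F p]
    (n : ℕ) (r : ℕ) (H : Subgroup (GL (Fin n) F)) (K : Subgroup ↥H) [K.Normal]
    (h : Nonempty (↥H ⧸ K ≃* ↥(alternatingGroup (Fin r)))) (hr : 9 ≤ r) :
    r - 1 - (if p ∣ r then 1 else 0) ≤ n := by
  classical
  obtain ⟨e⟩ := h
  letI : Algebra (ZMod p) F := ZMod.algebra F p
  let f : F →+* AlgebraicClosure (ZMod p) :=
    (IsAlgClosed.lift : F →ₐ[ZMod p] AlgebraicClosure (ZMod p)).toRingHom
  let μ : GL (Fin n) F →* GL (Fin n) (AlgebraicClosure (ZMod p)) :=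
    Units.map f.mapMatrix.toMonoidHom
  have hμ : Function.Injective μ := fun a b hab =>
    Units.ext (Matrix.map_injective f.injective (congrArg Units.val hab))
  let eH := H.equivMapOfInjective μ hμ
  have : Finite (H.map μ) := Finite.of_equiv H eH.toEquiv
  let φ : H.map μ →* alternatingGroup (Fin r) :=
    (e.toMonoidHom.comp (QuotientGroup.mk' K)).comp eH.symm.toMonoidHom
  let ρ : H.map μ →* Module.End (AlgebraicClosure (ZMod p)) (Fin n → AlgebraicClosure (ZMod p)) :=
    (Matrix.toLinAlgEquiv' : Matrix (Fin n) (Fin n) (AlgebraicClosure (ZMod p)) ≃ₐ[_]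
      _).toRingEquiv.toMonoidHom.comp ((Units.coeHom _).comp (H.map μ).subtype)
  have hφ : Function.Surjective φ := fun x => by
    obtain ⟨y, hy⟩ := QuotientGroup.mk'_surjective K (e.symm x)
    exact ⟨eH y, by simp only [φ, MonoidHom.comp_apply, MulEquiv.coe_toMonoidHom,
      MulEquiv.symm_apply_apply, hy, MulEquiv.apply_symm_apply]⟩
  have hρ : ρ.ker ≤ φ.ker := fun x hx => by
    have h1 : x = 1 := Subtype.ext (Units.ext (Matrix.toLinAlgEquiv'.injective
      ((MonoidHom.mem_ker.mp hx).trans (map_one _).symm)))
    rw [h1]; exact one_mem _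
  have hb := CfsgAltMinDeg.good r hr (AlgebraicClosure (ZMod p))
    (Fin n → AlgebraicClosure (ZMod p)) (H.map μ) ρ φ hφ hρ
  rw [Module.finrank_fin_fun] at hb
  have : CharP (AlgebraicClosure (ZMod p)) p := charP_of_injective_ringHom f.injective p
  split_ifs with hp
  · have := hb.1; omega
  · have := hb.2 (fun h0 => hp ((CharP.cast_eq_zero_iff _ p r).mp h0)); omega

end Cfsg.Agent.S2653
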