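import Cfsg.Statements.S2657
import Cfsg.Agent.AltSection57.FFour

set_option autoImplicit false
open scoped MatrixGroups
open Cfsg

namespace Cfsg.Agent.S2657

/-- Alternating sections of the groups of type F₄. Let `F` be a finite field of characteristic `p` and let `G` be the Chevalley group of type F₄ over `F`. If some subgroup of `G` has a quotient isomorphic to the alternating group of degree `r`, then `r` is at most 10, or 11 in characteristic 11. (Only an upper bound is asserted.) -/
theorem result {F : Type*} [Field F] [Fintype F] (p : ℕ) [Fact p.Prime] [CharP F p]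
    (r : ℕ) (H : Subgroup ↥(Cfsg.Lie.chevF4.group F)) (K : Subgroup ↥H) [K.Normal]
    (h : Nonempty (↥H ⧸ K ≃* ↥(alternatingGroup (Fin r)))) :
    r ≤ 10 + (if p = 11 then 1 else 0) := by
  obtain ⟨e⟩ := h
  let φ : H →* alternatingGroup (Fin r) := e.toMonoidHom.comp (QuotientGroup.mk' K)
  have hφ : Function.Surjective φ := e.surjective.comp (QuotientGroup.mk'_surjective K)
  have hι : Function.Injective H.subtype := H.subtype_injective
  by_contra hr
  rw [not_le] at hr
  by_cases hp : p = 11
  · rw [if_pos hp] at hr
    subst hp
    refine CfsgLib.AltSection57.no_pattern_F4_thirtyfive ?_ H.subtype hι φ hφ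
      (CfsgLib.AltSection57.pattern_twelve (by omega))
    intro h35
    have h35' : ((35 : ℕ) : F) = 0 := by exact_mod_cast h35
    have := (CharP.cast_eq_zero_iff F 11 35).1 h35'
    norm_num at this
  · rw [if_neg hp] at hr
    refine CfsgLib.AltSection57.no_pattern_F4_eleven ?_ H.subtype hι φ hφ
      (CfsgLib.AltSection57.pattern_eleven (by omega))
    intro h11
    have h11' : ((11 : ℕ) : F) = 0 := by exact_mod_cast h11
    exact hp ((Nat.prime_dvd_prime_iff_eq Fact.out (by norm_num)).1
      ((CharP.cast_eq_zero_iff F p 11).1 h11'))

end Cfsg.Agent.S2657
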