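import Cfsg.Statements.S2665
import Cfsg.Agent.Lang.Basic

set_option autoImplicit false
open scoped MatrixGroups
open Cfsg

namespace Cfsg.Agent.S2665

/-- The Lang–Steinberg Theorem for the general linear group. Let `K` be an algebraically closed field of prime characteristic `p`, let `q = p^f` with `f ≥ 1`, and let `σ` be the endomorphism of GL_n(K) raising every matrix entry to the `q`-th power. Then every element `g` of GL_n(K) can be written `g = x · σ(x)⁻¹` for some `x` in GL_n(K): the map `x ↦ x σ(x)⁻¹` is surjective. -/
theorem result {K : Type*} [Field K] [IsAlgClosed K] (p : ℕ) [Fact p.Prime] [CharP K p]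
    (f : ℕ) (hf : 1 ≤ f) (n : ℕ) (g : GL (Fin n) K) :
    ∃ x : GL (Fin n) K, g = x * (Matrix.GeneralLinearGroup.map (iterateFrobenius K p f) x)⁻¹ := by
  classical
  let φ : (Fin n → K) →ₛₗ[iterateFrobenius K p f] (Fin n → K) :=
    { toFun := fun v => Matrix.mulVec (g : Matrix (Fin n) (Fin n) K) (fun i => iterateFrobenius K p f (v i))
      map_add' := fun v w => by
        rw [← Matrix.mulVec_add]; congr 1; funext i; simp [map_add]
      map_smul' := fun c v => by
        rw [← Matrix.mulVec_smul]; congr 1; funext i; simp [map_mul] }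
  have hφ : Function.Injective φ := by
    intro v w h
    have h' : (fun i => iterateFrobenius K p f (v i)) = fun i => iterateFrobenius K p f (w i) := by
      exact Matrix.mulVec_injective_of_isUnit ((Matrix.isUnit_iff_isUnit_det _).2
        ((Matrix.isUnit_iff_isUnit_det _).1 ⟨g, rfl⟩)) h
    funext i
    exact (iterateFrobenius K p f).injective (congrFun h' i)
  have hspan := CfsgLib.Lang.span_fixed_eq_top hf φ hφ
  obtain ⟨b, hbsub, hbspan, hbli⟩ := exists_linearIndependent K {v | φ v = v}
  rw [hspan] at hbspan
  let B₀ : Module.Basis b K (Fin n → K) := Module.Basis.mk hbli (by rw [Subtype.range_coe]; exact hbspan.ge)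
  haveI : Finite b := Module.Finite.finite_basis B₀
  haveI : Fintype b := Fintype.ofFinite b
  have hcard : Fintype.card b = n := by
    rw [← Module.finrank_eq_card_basis B₀, Module.finrank_fin_fun]
  let B : Module.Basis (Fin n) K (Fin n → K) := B₀.reindex (Fintype.equivFinOfCardEq hcard)
  have hB : ∀ j, φ (B j) = B j := by
    intro j
    simp only [B, B₀, Module.Basis.reindex_apply, Module.Basis.mk_apply]
    exact hbsub (Subtype.coe_prop _)
  set M : Matrix (Fin n) (Fin n) K := Matrix.of fun i j => B j i with hM
  have hdet : IsUnit M.det := by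
    rw [← Matrix.isUnit_iff_isUnit_det, ← Matrix.linearIndependent_cols_iff_isUnit]
    exact B.linearIndependent
  let x : GL (Fin n) K := Matrix.nonsingInvUnit M hdet
  refine ⟨x, eq_mul_inv_of_mul_eq (Units.ext (Matrix.ext fun i j => ?_))⟩
  have := congrFun (hB j) i
  simpa [φ, x, hM, Matrix.nonsingInvUnit, Matrix.mul_apply, Matrix.mulVec, dotProduct] using this

end Cfsg.Agent.S2665
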