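import Cfsg.Statements.S2667
import Cfsg.Agent.Shintani.Basic

set_option autoImplicit false
open Cfsg

namespace Cfsg.Agent.S2667

/-- Shintani descent, in an abstract form. Let `σ` be an automorphism of a group `X` and `e ≥ 1` (no surjectivity of the Lang maps is needed for this part; in the classical setting `X` is a connected algebraic group and `σ` a Steinberg endomorphism). Write `G` for the subgroup of fixed points of `σᵉ` and `H` for the subgroup of fixed points of `σ`. The `G`-conjugacy classes in the coset `G σ` of the semidirect product of `G` by `σ` correspond to the orbits of `G` on itself under twisted conjugation `g ↦ k g σ(k)⁻¹`, and the `e`-th power of `g σ` has `G`-part the norm `g σ(g) ⋯ σ^(e-1)(g)`. For `g` in `G` and any `a` with `g = a σ(a)⁻¹`, put `x = σᵉ(a)⁻¹ a`. Then conjugation by `a⁻¹` carries the twisted centralizer `{k ∈ G : k g σ(k)⁻¹ = g}` (the centralizer of `g σ` in `G`) exactly onto the centralizer of `x` in `H`: an element `k` of `X` lies in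 `G` and satisfies `k g σ(k)⁻¹ = g` if and only if `a⁻¹ k a` lies in `H` and commutes with `x`. In particular the two centralizers are conjugate in `X` and have the same order. -/
theorem result {X : Type*} [Group X] (σ : MulAut X) (e : ℕ) (he : 1 ≤ e)
    (g : X) (hg : g ∈ (MulEquiv.toMonoidHom (σ ^ e)).eqLocus (MonoidHom.id X)) (a : X) (ha : g = a * (σ a)⁻¹) (k : X) :
    (k ∈ (MulEquiv.toMonoidHom (σ ^ e)).eqLocus (MonoidHom.id X) ∧ k * g * (σ k)⁻¹ = g) ↔
      (a⁻¹ * k * a ∈ (MulEquiv.toMonoidHom σ).eqLocus (MonoidHom.id X) ∧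
        (a⁻¹ * k * a) * (((σ ^ e) a)⁻¹ * a) = (((σ ^ e) a)⁻¹ * a) * (a⁻¹ * k * a)) := by
  open CfsgLib.Shintani in
  subst ha
  set h := a⁻¹ * k * a with hh
  have hk : k = a * h * a⁻¹ := by rw [hh]; group
  have hea := pow_apply_self σ e a
  set x := ((σ ^ e) a)⁻¹ * a with hx
  rw [mem_fixed, mem_fixed, hk]
  have hiff : a * h * a⁻¹ * (a * (σ a)⁻¹) * (σ (a * h * a⁻¹))⁻¹ = a * (σ a)⁻¹ ↔ σ h = h := by
    simp only [map_mul, map_inv]
    constructor
    · intro heq
      have h2 : h * (σ h)⁻¹ = 1 := by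
        calc h * (σ h)⁻¹ = a⁻¹ * (a * h * a⁻¹ * (a * (σ a)⁻¹) * (σ a * σ h * (σ a)⁻¹)⁻¹) * σ a := by group
          _ = 1 := by rw [heq]; group
      exact (mul_inv_eq_one.1 h2).symm
    · intro hσ
      rw [hσ]; group
  constructor
  · rintro ⟨h1, h2⟩
    have hσ := hiff.1 h2
    refine ⟨hσ, ?_⟩
    simp only [map_mul, map_inv, pow_fixed σ e hσ] at h1
    rw [hea] at h1
    calc h * x = x * (a⁻¹ * (a * x⁻¹ * h * (a * x⁻¹)⁻¹) * a) := by group
      _ = x * h := by rw [h1]; group
  · rintro ⟨hσ, hc⟩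
    refine ⟨?_, hiff.2 hσ⟩
    simp only [map_mul, map_inv, pow_fixed σ e hσ]
    rw [hea]
    calc a * x⁻¹ * h * (a * x⁻¹)⁻¹ = a * x⁻¹ * (h * x) * a⁻¹ := by group
      _ = a * h * a⁻¹ := by rw [hc]; group

end Cfsg.Agent.S2667
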