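import Cfsg.Statements.S2669
import Cfsg.Agent.Shintani.Basic

set_option autoImplicit false
open Cfsg

namespace Cfsg.Agent.S2669

/-- Shintani descent preserves numbers of fixed points on coset spaces (abstract form). Let `σ` be an automorphism of a group `X` and `e ≥ 1`; write `G` for the fixed points of `σᵉ` and `H` for the fixed points of `σ`, and assume `G` is finite. Let `Y` be a `σ`-stable subgroup of `X` on which the maps `a ↦ a σ(a)⁻¹` and `a ↦ a σᵉ(a)⁻¹` are surjective (as for a closed connected `σ`-stable subgroup of an algebraic group). Let `g ∈ G`, let `a ∈ X` satisfy `g = a σ(a)⁻¹` and put `x = σᵉ(a)⁻¹ a` (the Shintani image, an element of `H`). The element `g σ` of the semidirect product acts on the cosets of `Y ∩ G` in `G` by `k (Y ∩ G) ↦ g σ(k) (Y ∩ G)`, fixing that coset exactly when `k⁻¹ g σ(k) ∈ Y`; and `x` fixes the coset `h (Y ∩ H)` of `H` exactly when `h⁻¹ x h ∈ Y`.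 Then the two numbers of fixed cosets agree; in cross-multiplied form, `#{k ∈ G : k⁻¹ g σ(k) ∈ Y} · |Y ∩ H| = #{h ∈ H : h⁻¹ x h ∈ Y} · |Y ∩ G|`. -/
theorem result {X : Type*} [Group X] (σ : MulAut X) (e : ℕ) (he : 1 ≤ e)
    [Finite ↥((MulEquiv.toMonoidHom (σ ^ e)).eqLocus (MonoidHom.id X))]
    (Y : Subgroup X) (hY : ∀ y : X, y ∈ Y ↔ σ y ∈ Y)
    (hYL : ∀ y ∈ Y, ∃ a ∈ Y, y = a * (σ a)⁻¹) (hYLe : ∀ y ∈ Y, ∃ a ∈ Y, y = a * ((σ ^ e) a)⁻¹)
    (g : X) (hg : g ∈ (MulEquiv.toMonoidHom (σ ^ e)).eqLocus (MonoidHom.id X)) (a : X) (ha : g = a * (σ a)⁻¹) :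
    Nat.card {k : ↥((MulEquiv.toMonoidHom (σ ^ e)).eqLocus (MonoidHom.id X)) // (k : X)⁻¹ * g * σ k ∈ Y} *
        Nat.card ↥(Y ⊓ (MulEquiv.toMonoidHom σ).eqLocus (MonoidHom.id X)) =
      Nat.card {h : ↥((MulEquiv.toMonoidHom σ).eqLocus (MonoidHom.id X)) // (h : X)⁻¹ * (((σ ^ e) a)⁻¹ * a) * h ∈ Y} *
        Nat.card ↥(Y ⊓ (MulEquiv.toMonoidHom (σ ^ e)).eqLocus (MonoidHom.id X)) := by
  open CfsgLib.Shintani in
  rw [mem_fixed] at hg
  subst ha
  set G := (MulEquiv.toMonoidHom (σ ^ e)).eqLocus (MonoidHom.id X) with hG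
  set H := (MulEquiv.toMonoidHom σ).eqLocus (MonoidHom.id X) with hH
  set x := ((σ ^ e) a)⁻¹ * a with hx
  have hYe : ∀ y, y ∈ Y → (σ ^ e) y ∈ Y := by
    intro y hy
    clear_value G H x
    clear hG hH hx hg hYLe
    induction e with
    | zero => simpa using hy
    | succ e ih => rcases Nat.eq_zero_or_pos e with h0 | h0
                   · subst h0; simpa using (hY y).1 hy
                   · rw [pow_apply_succ']; exact (hY _).1 (ih h0)
  let K := {k : ↥G // (k : X)⁻¹ * (a * (σ a)⁻¹) * σ k ∈ Y}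
  let L := {h : ↥H // (h : X)⁻¹ * x * h ∈ Y}
  let P := {p : ↥G × ↥H // (p.1 : X)⁻¹ * a * (p.2 : X) ∈ Y}
  have hK : ∀ p : P, (p.1.1 : X)⁻¹ * (a * (σ a)⁻¹) * σ (p.1.1 : X) ∈ Y := by
    rintro ⟨⟨k, h⟩, hp⟩
    have hh : σ (h : X) = h := h.2
    have h2 := (hY _).1 hp
    have := Y.mul_mem hp (Y.inv_mem h2)
    simp only [map_mul, map_inv, hh] at this
    convert this using 1
    group
  have hL : ∀ p : P, (p.1.2 : X)⁻¹ * x * (p.1.2 : X) ∈ Y := by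
    rintro ⟨⟨k, h⟩, hp⟩
    have hh : (σ ^ e) (h : X) = h := pow_fixed σ e h.2
    have hk : (σ ^ e) (k : X) = k := k.2
    have := Y.mul_mem (Y.inv_mem (hYe _ hp)) hp
    simp only [map_mul, map_inv, hh, hk] at this
    convert this using 1
    rw [hx]; group
  have hf : ∀ k : K, ∃ h : ↥H, (k.1 : X)⁻¹ * a * (h : X) ∈ Y := by
    rintro ⟨k, hk⟩
    obtain ⟨c, hc, hceq⟩ := hYL _ hk
    refine ⟨⟨a⁻¹ * k * c, ?_⟩, by simpa [mul_assoc] using hc⟩
    show σ _ = _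
    have : (σ c)⁻¹ = c⁻¹ * ((k : X)⁻¹ * (a * (σ a)⁻¹) * σ (k : X)) := by rw [hceq]; group
    have h2 : σ c = (c⁻¹ * ((k : X)⁻¹ * (a * (σ a)⁻¹) * σ (k : X)))⁻¹ := by rw [← this, inv_inv]
    simp only [map_mul, map_inv, MonoidHom.id_apply]
    rw [h2]; group
  have hf' : ∀ h : L, ∃ k : ↥G, (k : X)⁻¹ * a * (h.1 : X) ∈ Y := by
    rintro ⟨h, hh⟩
    obtain ⟨c, hc, hceq⟩ := hYLe _ (Y.inv_mem hh)
    refine ⟨⟨a * h * c, ?_⟩, by simpa [mul_assoc] using Y.inv_mem hc⟩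
    show (σ ^ e) _ = _
    have hhe : (σ ^ e) (h : X) = h := pow_fixed σ e h.2
    have hce : ((σ ^ e) c)⁻¹ = c⁻¹ * ((h : X)⁻¹ * x * (h : X))⁻¹ := by rw [hceq]; group
    have hce' : (σ ^ e) c = (c⁻¹ * ((h : X)⁻¹ * x * (h : X))⁻¹)⁻¹ := by rw [← hce, inv_inv]
    simp only [map_mul, MonoidHom.id_apply, hhe]
    rw [hce', pow_apply_self σ e a, ← hx]; group
  choose f hfs using hf
  choose f' hfs' using hf'
  let e1 : P ≃ K × ↥(Y ⊓ H) :=
    { toFun := fun p => ⟨⟨p.1.1, hK p⟩, ⟨(f ⟨p.1.1, hK p⟩ : X)⁻¹ * p.1.2, by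
        refine ⟨?_, H.mul_mem (H.inv_mem (f _).2) p.1.2.2⟩
        show _ ∈ Y
        have := Y.mul_mem (Y.inv_mem (hfs ⟨p.1.1, hK p⟩)) p.2
        convert this using 1
        group⟩⟩
      invFun := fun q => ⟨⟨q.1.1, f q.1 * ⟨(q.2 : X), q.2.2.2⟩⟩, by
        have := Y.mul_mem (hfs q.1) q.2.2.1
        simpa [mul_assoc] using this⟩
      left_inv := by
        rintro ⟨⟨k, h⟩, hp⟩
        ext <;> simp
      right_inv := by
        rintro ⟨k, y⟩
        ext <;> simp }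
  let e2 : P ≃ L × ↥(Y ⊓ G) :=
    { toFun := fun p => ⟨⟨p.1.2, hL p⟩, ⟨(f' ⟨p.1.2, hL p⟩ : X)⁻¹ * p.1.1, by
        refine ⟨?_, G.mul_mem (G.inv_mem (f' _).2) p.1.1.2⟩
        show _ ∈ Y
        have := Y.mul_mem (hfs' ⟨p.1.2, hL p⟩) (Y.inv_mem p.2)
        convert this using 1
        group⟩⟩
      invFun := fun q => ⟨⟨f' q.1 * ⟨(q.2 : X), q.2.2.2⟩, q.1.1⟩, by
        have := Y.mul_mem (Y.inv_mem q.2.2.1) (hfs' q.1)
        simpa [mul_assoc] using this⟩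
      left_inv := by
        rintro ⟨⟨k, h⟩, hp⟩
        ext <;> simp
      right_inv := by
        rintro ⟨h, y⟩
        ext <;> simp }
  have := Nat.card_congr (e1.symm.trans e2)
  rw [Nat.card_prod, Nat.card_prod] at this
  exact this

end Cfsg.Agent.S2669
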