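import Cfsg.Statements.S2671
import Cfsg.Agent.RootClasses.Count
import Cfsg.Agent.RootClasses.Star
import Cfsg.Agent.SemisimpleSU.Conj
import Cfsg.Agent.S2587

set_option autoImplicit false
open Cfsg

namespace Cfsg.Agent.S2671

/-- Number of conjugacy classes of elements of odd prime order r in the general unitary group GU_n(q), for r not dividing q(q + 1): let i be the multiplicative order of q modulo r, b = i if i is odd and b = i/2 if i is even, and s = (r − 1)/b. If i ≢ 2 (mod 4) the eigenvalue orbits pair off into dual pairs of totally isotropic blocks and there are C(⌊n/(2b)⌋ + s/2, s/2) − 1 classes; if i ≡ 2 (mod 4) each orbit gives a non-degenerate block of dimension i/2 and there are C(⌊2n/i⌋ + s, s) − 1 classes. -/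
theorem result {K : Type*} [Field K] [Fintype K] {p q n r i b s : ℕ} [Fact p.Prime] [CharP K p] (hK : Fintype.card K = q ^ 2) (hr : r.Prime) (hr2 : r ≠ 2) (hrp : r ≠ p) (hi : i = orderOf (q : ZMod r)) (hi2 : i ≠ 2) (hb : b = if Odd i then i else i / 2) (hs : s * b = r - 1) : Nat.card {C : ConjClasses ↥(Cfsg.GU n K q) // ∃ g : ↥(Cfsg.GU n K q), ConjClasses.mk g = C ∧ orderOf g = r} = if i % 4 = 2 then Nat.choose (2 * n / i + s) s - 1 else Nat.choose (n / (2 * b) + s / 2) (s / 2) - 1 := by
  open CfsgLib Polynomial in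
  classical
  haveI : Fact r.Prime := ⟨hr⟩
  have hpp : p.Prime := Fact.out
  have hcop : r.Coprime p := (Nat.coprime_primes hr hpp).2 hrp
  haveI : NeZero (r : K) := ⟨fun h => hrp ((Nat.prime_dvd_prime_iff_eq hpp hr).1
    ((CharP.cast_eq_zero_iff K p r).1 h)).symm⟩
  obtain ⟨k, -, hk⟩ := FiniteField.card K p
  obtain ⟨j, -, rfl⟩ : ∃ j ≤ (k : ℕ), q = p ^ j :=
    (Nat.dvd_prime_pow hpp).1 (by rw [← hk, hK]; exact dvd_pow_self q two_ne_zero)
  haveI : CharP (RootClasses.Cl K) p :=
    charP_of_injective_algebraMap (algebraMap K (RootClasses.Cl K)).injective p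
  set σ := iterateFrobenius K p j with hσdef
  set φ := iterateFrobenius (RootClasses.Cl K) p j with hφdef
  have hσ : ∀ x, σ x = x ^ p ^ j := fun x => iterateFrobenius_def p j x
  have hσσ : ∀ x, σ (σ x) = x := fun x => by
    rw [hσ, hσ, ← pow_mul, ← sq, ← hK, FiniteField.pow_card]
  have hφ : φ.comp (algebraMap K (RootClasses.Cl K)) = (algebraMap K (RootClasses.Cl K)).comp σ :=
    RingHom.ext fun x => by
      simp only [RingHom.comp_apply, hσ, hφdef, iterateFrobenius_def, map_pow]
  have hq0 : ((p ^ j : ℕ) : ZMod r) ≠ 0 := by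
    rw [Ne, ZMod.natCast_eq_zero_iff]
    exact fun h => hrp ((Nat.prime_dvd_prime_iff_eq hr hpp).1 (hr.dvd_of_dvd_pow h))
  set u₀ : (ZMod r)ˣ := Units.mk0 _ hq0 with hu₀
  set H := Subgroup.zpowers (-u₀) with hHdef
  have hH : RootClasses.cardUnit K ∈ H := by
    refine ⟨((2 : ℕ) : ℤ), (zpow_natCast (-u₀) 2).trans (Units.ext ?_)⟩
    rw [RootClasses.coe_cardUnit, hK, Units.val_pow_eq_pow_val, Units.val_neg, neg_sq, hu₀,
      Units.val_mk0, ← Nat.cast_pow]
  have hu : ∀ a : ZMod r, (φ (RootClasses.omg K r a))⁻¹ =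
      RootClasses.omg K r (((-u₀ : (ZMod r)ˣ) : ZMod r) * a) := fun a => by
    rw [hφdef, iterateFrobenius_def, RootClasses.omg_pow, RootClasses.omg_inv, Units.val_neg, hu₀,
      Units.val_mk0, neg_mul, mul_comm]
  have hio : orderOf u₀ = i := by rw [hi, ← orderOf_units, hu₀, Units.val_mk0]
  have hcH : Nat.card H = if Odd i then 2 * i else if i % 4 = 2 then i / 2 else i := by
    rw [hHdef, Nat.card_zpowers, RootClasses.orderOf_neg_units hr2, hio]
  have hord : ∀ g : ↥(Cfsg.GU n K (p ^ j)), g ^ r = 1 →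
      (orderOf (g : GL (Fin n) K)).Coprime p := fun g hg =>
    hcop.coprime_dvd_left (orderOf_dvd_of_pow_eq_one (by
      rw [← SubmonoidClass.coe_pow, hg, OneMemClass.coe_one]))
  have hcount := RootClasses.card_classes H hH (Cfsg.GU n K (p ^ j)).subtype
    (fun g h hg hh hc => (Cfsg.Agent.S2587.result hK g h).2
      (CharpolySS.isConj_GL_of_charpoly_eq _ _ (hord g hg) (hord h hh) hc))
    (fun g hg => RootClasses.invariant_of_generators {-u₀} (Subgroup.zpowers_eq_closure _) (by
      rintro h rfl a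
      refine RootClasses.rootMultiplicity_of_star_eq hφ (-u₀) hu (Matrix.charpoly_monic _) ?_
        (SemisimpleSU.star_charpoly_GU hσ hσσ g) a
      intro h0
      have hd := (Matrix.isUnit_iff_isUnit_det _).1 (g : GL (Fin n) K).isUnit
      rw [Matrix.det_eq_sign_charpoly_coeff] at hd
      exact hd.ne_zero (by rw [h0, mul_zero])))
    (fun _ => True) (fun _ _ _ _ _ => trivial)
    (fun a ha _ _ => by
      have hdeg := RootClasses.natDegree_classPoly K H hH
        (Fintype.card (Fin n) - Nat.card H * RootClasses.total H a) a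
      rw [Nat.sub_add_cancel ha, Fintype.card_fin] at hdeg
      rw [Fintype.card_fin]
      obtain ⟨B, hB, hBc⟩ := SemisimpleSU.exists_GU_charpoly (p := p) hK hσ
        (RootClasses.monic_classPoly K H hH _ a) (RootClasses.coeff_zero_classPoly H hH _ a)
        (RootClasses.star_classPoly H hH hφ (-u₀) hu (Subgroup.mem_zpowers _) _ a) hdeg
      refine ⟨B, Subtype.ext ?_, hBc⟩
      rw [SubmonoidClass.coe_pow, OneMemClass.coe_one]
      refine RootClasses.pow_eq_one_of_charpoly_dvd hB (k := n) ?_
      rw [hBc]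
      exact RootClasses.classPoly_dvd H hH hdeg)
  rw [hcount, Fintype.card_fin]
  have hbi : b = if Odd i then i else i / 2 := hb
  split_ifs with h4
  · have hne : ¬ Odd i := fun h => by rw [Nat.odd_iff] at h; omega
    rw [if_neg hne, if_pos h4] at hcH
    rw [if_neg hne] at hbi
    rw [RootClasses.card_mult_true H hcH (t := s) (by rw [← hbi]; exact hs)]
    congr 2
    conv_rhs => rw [show i = 2 * (i / 2) by omega, Nat.mul_div_mul_left _ _ two_pos]
  · have hcH' : Nat.card H = 2 * b := by
      rcases Nat.even_or_odd i with he | ho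
      · rw [if_neg (Nat.not_odd_iff_even.2 he), if_neg h4] at hcH
        rw [if_neg (Nat.not_odd_iff_even.2 he)] at hbi
        rw [Nat.even_iff] at he
        omega
      · rw [if_pos ho] at hcH
        rw [if_pos ho] at hbi
        omega
    obtain ⟨t, ht⟩ : ∃ t, s = 2 * t := by
      have h := RootClasses.card_quotient_mul_card H
      rw [hcH', ← hs] at h
      refine ⟨Nat.card ((ZMod r)ˣ ⧸ H), Nat.eq_of_mul_eq_mul_right (m := b) ?_ (by rw [← h]; ring)⟩
      have h2 := hr.two_le
      rcases Nat.eq_zero_or_pos b with hb0 | hb0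
      · rw [hb0, mul_zero] at hs; omega
      · exact hb0
    rw [RootClasses.card_mult_true H hcH' (t := t) (by rw [← hs, ht]; ring), ht,
      Nat.mul_div_cancel_left _ two_pos]

end Cfsg.Agent.S2671
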