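import Cfsg.Statements.S2672
import Cfsg.Agent.RootClasses.Projective
import Cfsg.Agent.RootClasses.GUCenter
import Cfsg.Agent.SemisimpleSU.Conj
import Cfsg.Agent.S2587

set_option autoImplicit false
open Cfsg

namespace Cfsg.Agent.S2672

/-- Number of conjugacy classes of elements of odd prime order r in PGU_n(q) = GU_n(q)/scalars (n ≥ 3) when r divides q + 1: as in the linear case with q − 1 replaced by q + 1, the classes correspond to the rotation orbits on r-tuples of eigenvalue multiplicities summing to n with every entry < n, plus r − 1 further classes when r divides n; in all (C(n+r−1, r−1) − r − [r ∣ n])/r + r·[r ∣ n]. -/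
theorem result {K : Type*} [Field K] [Fintype K] {q n r : ℕ} (hK : Fintype.card K = q ^ 2) (hn : 3 ≤ n) (hr : r.Prime) (hr2 : r ≠ 2) (hrq : r ∣ q + 1) : Nat.card {C : ConjClasses (↥(Cfsg.GU n K q) ⧸ Subgroup.center ↥(Cfsg.GU n K q)) // ∃ g : ↥(Cfsg.GU n K q) ⧸ Subgroup.center ↥(Cfsg.GU n K q), ConjClasses.mk g = C ∧ orderOf g = r} = (Nat.choose (n + r - 1) (r - 1) - r - (if r ∣ n then 1 else 0)) / r + r * (if r ∣ n then 1 else 0) := by
  open CfsgLib CfsgLib.RootClasses Polynomial in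
  classical
  haveI : Fact r.Prime := ⟨hr⟩
  obtain ⟨p, hp⟩ := CharP.exists K
  obtain ⟨k, hpp, hk⟩ := FiniteField.card K p
  haveI : Fact p.Prime := ⟨hpp⟩
  obtain ⟨j, -, rfl⟩ : ∃ j ≤ (k : ℕ), q = p ^ j :=
    (Nat.dvd_prime_pow hpp).1 (by rw [← hk, hK]; exact dvd_pow_self q two_ne_zero)
  have hj : j ≠ 0 := by
    rintro rfl
    have := Fintype.one_lt_card (α := K)
    rw [hK] at this
    simp at this
  have hrp : r ≠ p := by
    rintro rfl
    exact hr.one_lt.ne' (Nat.dvd_one.1 ((Nat.dvd_add_right (dvd_pow_self r hj)).1 hrq))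
  set σ := iterateFrobenius K p j with hσdef
  have hσ : ∀ x, σ x = x ^ p ^ j := fun x => iterateFrobenius_def p j x
  have hσσ : ∀ x, σ (σ x) = x := fun x => by
    rw [hσ, hσ, ← pow_mul, ← sq, ← hK, FiniteField.pow_card]
  set S : Subgroup Kˣ := (powMonoidHom (p ^ j + 1) : Kˣ →* Kˣ).ker with hS
  have hmemS : ∀ x : Kˣ, x ∈ S ↔ (x : K) ^ (p ^ j + 1) = 1 := fun x => by
    rw [hS, MonoidHom.mem_ker, powMonoidHom_apply, Units.ext_iff, Units.val_pow_eq_pow_val, Units.val_one]
  have hσS : ∀ x : S, σ ((x : Kˣ) : K) = ((x : Kˣ) : K)⁻¹ := fun x => by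
    rw [hσ]
    refine eq_inv_of_mul_eq_one_left ?_
    rw [← pow_succ]
    exact (hmemS _).1 x.2
  let sc : S →* ↥(Cfsg.GU n K (p ^ j)) :=
    ((Units.map (Matrix.scalar (Fin n) : K →+* Matrix (Fin n) (Fin n) K).toMonoidHom).comp
      S.subtype).codRestrict _ fun x => scalar_mem_GU ((hmemS _).1 x.2)
  have hcardS : Nat.card S = p ^ j + 1 := by
    rw [hS, IsCyclic.card_powMonoidHom_ker, Nat.card_eq_fintype_card, Fintype.card_units, hK]
    refine Nat.gcd_eq_right ⟨p ^ j - 1, ?_⟩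
    rw [← Nat.sq_sub_sq, one_pow]
  have hndvd : ¬ r ∣ p ^ j - 1 := fun h => hr2 ((Nat.prime_dvd_prime_iff_eq hr Nat.prime_two).1 (by
    have h2 := Nat.dvd_sub hrq h
    rwa [show p ^ j + 1 - (p ^ j - 1) = 2 by have := Nat.one_le_pow j p hpp.pos; omega] at h2))
  refine card_projective (K := K) (p := p) (by omega) (Cfsg.GU n K (p ^ j)).subtype Subtype.val_injective S sc
    (fun x => rfl) (fun g => ?_) (hcardS ▸ hrq) ?_ hrp
    (fun g h hg hh hc => (Cfsg.Agent.S2587.result hK g h).2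
      (CharpolySS.isConj_GL_of_charpoly_eq _ _ hg hh hc)) ?_
  · constructor
    · intro hg
      obtain ⟨x, hx, hxg⟩ := exists_scalar_of_mem_center_GU hK (by omega) hg
      exact ⟨⟨x, (hmemS x).2 hx⟩, Subtype.ext hxg⟩
    · rintro ⟨x, rfl⟩
      refine Subgroup.mem_center_iff.2 fun h => Subtype.ext (Units.ext ?_)
      exact (Matrix.scalar_commute ((x : Kˣ) : K) (fun _ => Commute.all _ _) (h : GL (Fin n) K).1).eq.symm
  · rintro c ⟨x, hx⟩
    have hx0 : x ≠ 0 := fun h => (c : Kˣ).ne_zero (by rw [← hx, h, zero_pow hr.ne_zero])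
    set u := Units.mk0 x hx0
    have h1 : (u ^ (p ^ j + 1)) ^ r = 1 := Units.ext (by
      rw [← pow_mul, mul_comm, pow_mul, Units.val_pow_eq_pow_val, Units.val_pow_eq_pow_val, Units.val_one]
      show (x ^ r) ^ (p ^ j + 1) = 1
      rw [hx]; exact (hmemS _).1 c.2)
    have h2 : (u ^ (p ^ j + 1)) ^ (p ^ j - 1) = 1 := by
      rw [← pow_mul, ← Nat.sq_sub_sq, one_pow, ← hK, ← Fintype.card_units, pow_card_eq_one]
    have h3 : u ∈ S := by
      have h4 : orderOf (u ^ (p ^ j + 1)) ∣ r.gcd (p ^ j - 1) :=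
        Nat.dvd_gcd (orderOf_dvd_of_pow_eq_one h1) (orderOf_dvd_of_pow_eq_one h2)
      rw [(hr.coprime_iff_not_dvd.2 hndvd).gcd_eq_one, Nat.dvd_one, orderOf_eq_one_iff] at h4
      rw [hS, MonoidHom.mem_ker, powMonoidHom_apply, h4]
    exact ⟨⟨u, h3⟩, Subtype.ext (Units.ext hx)⟩
  · intro χ hm hd h0 hform
    refine SemisimpleSU.exists_GU_charpoly hK hσ hm h0 ?_ hd
    have hstar1 : SemisimpleSU.star σ (1 : K[X]) = 1 := by
      simp [SemisimpleSU.star, show (1 : K[X]).reverse = 1 from Polynomial.reverse_C 1]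
    have hpow : ∀ (f : K[X]) (e : ℕ), SemisimpleSU.star σ f = f → SemisimpleSU.star σ (f ^ e) = f ^ e :=
      fun f e hf => by
        induction e with
        | zero => rw [pow_zero, hstar1]
        | succ e ih => rw [pow_succ, SemisimpleSU.star_mul, ih, hf]
    have hbase : ∀ (d : ℕ) (c : S), 0 < d →
        SemisimpleSU.star σ (X ^ d - C ((c : Kˣ) : K)) = X ^ d - C ((c : Kˣ) : K) := fun d c hd0 => by
      have hc0 : ((c : Kˣ) : K) ≠ 0 := Units.ne_zero _
      rw [SemisimpleSU.star, Polynomial.map_sub, Polynomial.map_pow, map_X, map_C, hσS]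
      have hcoef : (X ^ d - C ((c : Kˣ) : K)).coeff 0 = -((c : Kˣ) : K) := by
        rw [coeff_zero_eq_eval_zero, eval_sub, eval_pow, eval_X, eval_C, zero_pow (by omega), zero_sub]
      have hrev : (X ^ d - C ((c : Kˣ) : K)⁻¹).reverse = 1 - C ((c : Kˣ) : K)⁻¹ * X ^ d := by
        rw [reverse, natDegree_X_pow_sub_C, reflect_sub, reflect_monomial, reflect_C, revAt_le le_rfl,
          Nat.sub_self, pow_zero]
      rw [hcoef, hrev, map_neg, hσS, inv_neg, inv_inv, map_neg, mul_sub, ← mul_assoc, neg_mul, neg_mul, ← C_mul,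
        mul_inv_cancel₀ hc0, C_1, mul_one]
      ring
    rcases hform with ⟨ζ, a, -, rfl⟩ | ⟨c, e, rfl⟩
    · rw [tupPoly]
      refine Finset.prod_induction _ (fun f => SemisimpleSU.star σ f = f)
        (fun f g hf hg => by show SemisimpleSU.star σ (f * g) = f * g; rw [SemisimpleSU.star_mul, hf, hg])
        hstar1 fun i _ => hpow _ _ ?_
      simpa using hbase 1 (ζ ^ i.val) one_pos
    · exact hpow _ _ (hbase r c hr.pos)

end Cfsg.Agent.S2672
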