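import Cfsg.Statements.S2673
import Cfsg.Agent.RootClasses.OrthCount
import Cfsg.Agent.Forms4.POmegaOrders

set_option autoImplicit false
open Cfsg

namespace Cfsg.Agent.S2673

/-- Number of conjugacy classes of elements of odd prime order r ≠ p in the orthogonal group O_(2m+1)(q) of x_0² + Σ x_j y_j, q odd: with i the multiplicative order of q mod r and t = (r − 1)/i, there are C(⌊m/i⌋ + t/2, t/2) − 1 classes if i is odd (dual pairs of totally singular i-blocks) and C(⌊(2m+1)/i⌋ + t, t) − 1 if i is even (elliptic i-blocks). -/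
theorem result {F : Type*} [Field F] [Fintype F] {p q : ℕ} [Fact p.Prime] [CharP F p] (hF : Fintype.card F = q) (hq : Odd q) (m r i t : ℕ) (hr : r.Prime) (hr2 : r ≠ 2) (hrp : r ≠ p) (hi : i = orderOf (q : ZMod r)) (ht : t * i = r - 1) : Nat.card {C : ConjClasses ↥(Cfsg.isometryGroup F (Cfsg.quadFormOdd m F)) // ∃ g : ↥(Cfsg.isometryGroup F (Cfsg.quadFormOdd m F)), ConjClasses.mk g = C ∧ orderOf g = r} = if Odd i then Nat.choose (m / i + t / 2) (t / 2) - 1 else Nat.choose ((2 * m + 1) / i + t) t - 1 := by
  open CfsgLib CfsgLib.RootClasses in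
  classical
  subst hF
  haveI : Fact r.Prime := ⟨hr⟩
  haveI : NeZero (r : F) := ⟨fun h => hrp ((Nat.prime_dvd_prime_iff_eq (Fact.out : p.Prime) hr).1
    ((CharP.cast_eq_zero_iff F p r).1 h)).symm⟩
  have h2 : (2 : F) ≠ 0 := fun h => by
    have := (Forms4.two_eq_zero_iff_even rfl).1 h
    rw [Nat.even_iff] at this
    rw [Nat.odd_iff] at hq
    omega
  have hQ : (QuadraticMap.polarBilin (StdForms.oddQ m F)).Nondegenerate :=
    StdForms.oddQ_nondegenerate h2 m
  have hi' : i = ordq F r := hi
  obtain ⟨t', ht', htt⟩ := exists_index (F := F) hr2 hi' ht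
  have hN : Fintype.card (Unit ⊕ (Fin m ⊕ Fin m)) = 2 * m + 1 := by simp; omega
  have hc := card_hSub (F := F) (r := r) hr2
  rw [← hi'] at hc
  have hh := card_hSub_eq_half (F := F) (r := r) hr2
  rw [← StdForms.coe_oddQ]
  show Nat.card {C : ConjClasses ↥(ogrp (StdForms.oddQ m F)) //
    ∃ g : ↥(ogrp (StdForms.oddQ m F)), ConjClasses.mk g = C ∧ orderOf g = r} = _
  by_cases ho : Odd i
  · have hoq : Odd (ordq F r) := hi' ▸ ho
    rw [card_orth_classes hr2 hQ True (Or.inl trivial) (fun _ _ _ _ _ => trivial)
      (StdForms.plusQ (half F r) F) (StdForms.plusQ_nondegenerate _) (card_plusIndex hr2)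
      (dvd_card_plus hr2 hoq)
      (fun o _ hle _ => by
        obtain ⟨X, Y, hXY⟩ := exists_plus_blocks (F := F) (o := o) (half F r)
        obtain ⟨E, hE⟩ := exists_to_odd (m := m) X Y 0 (by
          rw [hh, hN, Nat.add_mul] at hle
          rw [Fintype.card_prod, Fintype.card_fin, mul_comm]
          omega)
        exact ⟨E, fun v => by
          rw [StdForms.oddQ_apply, hE]
          simp [StdForms.plusQ_apply, hXY]⟩) ht',
      if_pos ho, hN, if_neg (fun h => h.2 trivial)]
    rw [if_pos ho] at hc htt
    rw [hc, ← Nat.div_div_eq_div_mul, show (2 * m + 1) / 2 = m by omega, htt,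
      Nat.mul_div_cancel_left _ two_pos, Nat.sub_zero]
  · have hoq : ¬ Odd (ordq F r) := hi' ▸ ho
    obtain ⟨a, c, hac⟩ := exists_anisoBin (F := F)
    rw [card_orth_classes hr2 hQ True (Or.inl trivial) (fun _ _ _ _ _ => trivial)
      (StdForms.minusQ (half F r - 1) F a c) (StdForms.minusQ_nondegenerate _ hac.disc_ne_zero)
      (card_minusIndex hr2) (dvd_card_minus hr2 hoq hac)
      (fun o _ hle _ => by
        obtain ⟨I, hI, X, Y, Z, hcard, hZ, hXY⟩ := exists_minus_blocks (o := o) hac (half F r - 1)
        have hpos := half_pos (F := F) (r := r) hr2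
        rw [hh, hN, Nat.add_mul] at hle
        have he : Fintype.card o * (half F r - 1) + Fintype.card o = half F r * Fintype.card o := by
          rw [← Nat.mul_succ, Nat.succ_eq_add_one, Nat.sub_add_cancel hpos, mul_comm]
        rcases Nat.even_or_odd (Fintype.card o) with hev | hodd
        · obtain ⟨E, hE⟩ := exists_to_odd (m := m) X Y 0 (by
            rw [hcard]
            rw [Nat.even_iff] at hev
            omega)
          exact ⟨E, fun v => by
            rw [StdForms.oddQ_apply, hE]
            simp [StdForms.minusQ_apply, hXY, hZ hev, binVal]⟩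
        · obtain ⟨X', Y', Z', h'⟩ := exists_absorb_odd h2 a c X Y Z
          obtain ⟨E, hE⟩ := exists_to_odd (m := m) X' Y' Z' (by
            rw [Fintype.card_sum, hcard, Fintype.card_unit]
            rw [Nat.odd_iff] at hodd
            omega)
          exact ⟨E, fun v => by
            rw [StdForms.oddQ_apply, hE, h']
            simp [StdForms.minusQ_apply, hXY]⟩) ht',
      if_neg ho, hN, if_neg (fun h => h.2 trivial)]
    rw [if_neg ho] at hc htt
    rw [hc, htt, Nat.sub_zero]

end Cfsg.Agent.S2673
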