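import Cfsg.Statements.S2674
import Cfsg.Agent.RootClasses.OrthCount

set_option autoImplicit false
open Cfsg

namespace Cfsg.Agent.S2674

/-- Number of conjugacy classes of elements of odd prime order r ≠ p in the orthogonal group O⁺_2m(q) of Σ x_j y_j (m ≥ 1): with i the multiplicative order of q mod r and t = (r − 1)/i — if i is odd, C(⌊m/i⌋ + t/2, t/2) − 1; if i is even, C(⌊2m/i⌋ + t, t) − 1 minus, when i divides 2m with odd quotient, the C(2m/i + t − 1, t − 1) tuples using the whole space (an odd number of elliptic i-blocks fills an elliptic, not a hyperbolic, space). -/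
theorem result {F : Type*} [Field F] [Fintype F] {p q : ℕ} [Fact p.Prime] [CharP F p] (hF : Fintype.card F = q) (m r i t : ℕ) (hm : 1 ≤ m) (hr : r.Prime) (hr2 : r ≠ 2) (hrp : r ≠ p) (hi : i = orderOf (q : ZMod r)) (ht : t * i = r - 1) : Nat.card {C : ConjClasses ↥(Cfsg.isometryGroup F (Cfsg.quadFormPlus m F)) // ∃ g : ↥(Cfsg.isometryGroup F (Cfsg.quadFormPlus m F)), ConjClasses.mk g = C ∧ orderOf g = r} = if Odd i then Nat.choose (m / i + t / 2) (t / 2) - 1 else Nat.choose (2 * m / i + t) t - 1 - (if i ∣ 2 * m ∧ Odd (2 * m / i) then Nat.choose (2 * m / i + t - 1) (t - 1) else 0) := by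
  open CfsgLib CfsgLib.RootClasses in
  classical
  subst hF
  haveI : Fact r.Prime := ⟨hr⟩
  haveI : NeZero (r : F) := ⟨fun h => hrp ((Nat.prime_dvd_prime_iff_eq (Fact.out : p.Prime) hr).1
    ((CharP.cast_eq_zero_iff F p r).1 h)).symm⟩
  obtain ⟨k, rfl⟩ : ∃ k, m = k + 1 := ⟨m - 1, by omega⟩
  have hQ : (QuadraticMap.polarBilin (StdForms.plusQ (k + 1) F)).Nondegenerate :=
    StdForms.plusQ_nondegenerate _
  have hi' : i = ordq F r := hi
  obtain ⟨t', ht', htt⟩ := exists_index (F := F) hr2 hi' ht
  have hN : Fintype.card (Fin (k + 1) ⊕ Fin (k + 1)) = 2 * (k + 1) := by simp; omega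
  have hc := card_hSub (F := F) (r := r) hr2
  rw [← hi'] at hc
  have hh := card_hSub_eq_half (F := F) (r := r) hr2
  have hneg : (-1 : ZMod r) ≠ 1 := fun e => by
    have h2 : ((2 : ℕ) : ZMod r) = 0 := by push_cast; linear_combination -e
    rw [ZMod.natCast_eq_zero_iff] at h2
    exact hr2 ((Nat.prime_dvd_prime_iff_eq hr Nat.prime_two).1 h2)
  have hq0 : ((Fintype.card F : ℕ) : ZMod r) ≠ 0 := Units.ne_zero (cardUnit F : (ZMod r)ˣ)
  set P : Prop := ((Fintype.card F : ℕ) : ZMod r) ^ (k + 1) = 1 with hP
  rw [← StdForms.coe_plusQ]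
  show Nat.card {C : ConjClasses ↥(ogrp (StdForms.plusQ (k + 1) F)) //
    ∃ g : ↥(ogrp (StdForms.plusQ (k + 1) F)), ConjClasses.mk g = C ∧ orderOf g = r} = _
  have hfull : ∀ g : ↥(ogrp (StdForms.plusQ (k + 1) F)), g ^ r = 1 → ∀ a,
      (g : GL (Fin (k + 1) ⊕ Fin (k + 1)) F).1.charpoly =
        classPoly F (hSub F r) cardUnit_mem 0 a →
      Nat.card (hSub F r) * total (hSub F r) a = Fintype.card (Fin (k + 1) ⊕ Fin (k + 1)) → P := by
    intro g hg a ha _
    have h := dvd_card_value hg ha
    rw [StdForms.coe_plusQ, card_one_plus rfl k, ← ZMod.natCast_eq_zero_iff, Nat.cast_mul, Nat.cast_pow,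
      Nat.cast_sub (Nat.one_le_pow _ _ Fintype.card_pos), Nat.cast_pow, Nat.cast_one, mul_eq_zero,
      sub_eq_zero] at h
    exact h.resolve_left (pow_ne_zero _ hq0)
  by_cases ho : Odd i
  · have hoq : Odd (ordq F r) := hi' ▸ ho
    rw [card_orth_classes hr2 hQ P (Or.inr (by rw [hN]; omega)) hfull
      (StdForms.plusQ (half F r) F) (StdForms.plusQ_nondegenerate _) (card_plusIndex hr2)
      (dvd_card_plus hr2 hoq)
      (fun o _ hle _ => by
        obtain ⟨X, Y, hXY⟩ := exists_plus_blocks (F := F) (o := o) (half F r)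
        obtain ⟨E, hE⟩ := exists_to_plus (m := k + 1) X Y (by
          rw [hh, hN, Nat.add_mul] at hle
          rw [Fintype.card_prod, Fintype.card_fin, mul_comm]
          omega)
        exact ⟨E, fun v => by
          rw [StdForms.plusQ_apply, hE]
          simp [StdForms.plusQ_apply, hXY]⟩) ht',
      if_pos ho, hN]
    rw [if_neg (fun h => h.2 (by
      obtain ⟨j, hj⟩ := h.1
      rw [hP, pow_of_full hr2 (k := j) (by rw [← hj]; omega), if_pos hoq]))]
    rw [if_pos ho] at hc htt
    rw [hc, Nat.mul_div_mul_left _ _ two_pos, htt, Nat.mul_div_cancel_left _ two_pos, Nat.sub_zero]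
  · have hoq : ¬ Odd (ordq F r) := hi' ▸ ho
    obtain ⟨a, c, hac⟩ := exists_anisoBin (F := F)
    rw [card_orth_classes hr2 hQ P (Or.inr (by rw [hN]; omega)) hfull
      (StdForms.minusQ (half F r - 1) F a c) (StdForms.minusQ_nondegenerate _ hac.disc_ne_zero)
      (card_minusIndex hr2) (dvd_card_minus hr2 hoq hac)
      (fun o _ hle hfu => by
        obtain ⟨I, hI, X, Y, Z, hcard, hZ, hXY⟩ := exists_minus_blocks (o := o) hac (half F r - 1)
        have hpos := half_pos (F := F) (r := r) hr2
        have hle' := hle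
        rw [hh, hN, Nat.add_mul] at hle
        have he : Fintype.card o * (half F r - 1) + Fintype.card o = half F r * Fintype.card o := by
          rw [← Nat.mul_succ, Nat.succ_eq_add_one, Nat.sub_add_cancel hpos, mul_comm]
        rcases Nat.even_or_odd (Fintype.card o) with hev | hodd
        · obtain ⟨E, hE⟩ := exists_to_plus (m := k + 1) X Y (by
            rw [hcard]
            rw [Nat.even_iff] at hev
            omega)
          exact ⟨E, fun v => by
            rw [StdForms.plusQ_apply, hE]
            simp [StdForms.minusQ_apply, hXY, hZ hev, binVal]⟩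
        · obtain ⟨X', Y', h'⟩ := exists_absorb_bin a c X Y Z
          have hlt : half F r * Fintype.card o < k + 1 := by
            by_contra hge
            have heq : Nat.card (hSub F r) * Fintype.card o =
                Fintype.card (Fin (k + 1) ⊕ Fin (k + 1)) := by
              rw [hh, hN, Nat.add_mul]; omega
            have h1 := hfu heq
            rw [hP, pow_of_full hr2 (k := Fintype.card o) (by rw [heq, hN]; omega), if_neg hoq,
              hodd.neg_one_pow] at h1
            exact hneg h1
          obtain ⟨E, hE⟩ := exists_to_plus (m := k + 1) X' Y' (by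
            rw [Fintype.card_sum, hcard, Fintype.card_fin]
            rw [Nat.odd_iff] at hodd
            omega)
          exact ⟨E, fun v => by
            rw [StdForms.plusQ_apply, hE, h']
            simp [StdForms.minusQ_apply, hXY]⟩) ht',
      if_neg ho, hN]
    rw [if_neg ho] at hc htt
    rw [hc, htt]
    congr 1
    refine if_congr (and_congr_right fun hd => ?_) rfl rfl
    obtain ⟨j, hj⟩ := hd
    have hi0 : 0 < i := hi' ▸ ordq_pos
    rw [hP, pow_of_full hr2 (k := j) (by rw [hc]; omega), if_neg hoq, hj, Nat.mul_div_cancel_left _ hi0,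
      ← Nat.not_even_iff_odd, not_iff_not]
    exact neg_one_pow_eq_one_iff_even hneg

end Cfsg.Agent.S2674
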