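import Cfsg.Statements.S2676
import Cfsg.Agent.UnipotentForms.SpClasses

set_option autoImplicit false
open Classical
open Cfsg

namespace Cfsg.Agent.S2676

open Finset Matrix CfsgLib.UnipotentJordan CfsgLib.UnipotentForms

variable {F : Type*} [Field F]

theorem orderOf_iff {p : ℕ} [hp : Fact p.Prime] [CharP F p] {m : ℕ} (g : Matrix.symplecticGroup (Fin m) F) :
    orderOf g = p ↔ ((g : Matrix (Fin m ⊕ Fin m) (Fin m ⊕ Fin m) F) - 1) ^ p = 0 ∧ g ≠ 1 := by
  have e : g ^ p = 1 ↔ ((g : Matrix (Fin m ⊕ Fin m) (Fin m ⊕ Fin m) F) - 1) ^ p = 0 := by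
    rcases isEmpty_or_nonempty (Fin m ⊕ Fin m) with he | he
    · exact iff_of_true (Subtype.ext (Subsingleton.elim _ _)) (Subsingleton.elim _ _)
    haveI : CharP (Matrix (Fin m ⊕ Fin m) (Fin m ⊕ Fin m) F) p := inferInstance
    rw [sub_pow_char_of_commute _ (Commute.one_right _), one_pow, sub_eq_zero, ← SubmonoidClass.coe_pow,
      OneMemClass.coe_eq_one]
  rw [← e]
  exact ⟨fun h => ⟨h ▸ pow_orderOf_eq_one g,
      fun h1 => by subst h1; rw [orderOf_one] at h; exact hp.out.one_lt.ne h⟩,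
    fun h => orderOf_eq_prime h.1 h.2⟩

/-- Number of conjugacy classes of elements of order p in Sp_2m(q), q a power of the odd prime p: the classes correspond to the signed partitions of 2m — partitions with all parts at most p in which every odd part has even multiplicity, each even part size that occurs carrying a sign — other than the all-ones partition; so the count is the sum over such partitions of 2^(number of distinct even parts), minus one. -/
theorem result {F : Type*} [Field F] [Fintype F] {p : ℕ} [Fact p.Prime] [CharP F p] (hp : p ≠ 2) (m : ℕ) : Nat.card {C : ConjClasses ↥(Matrix.symplecticGroup (Fin m) F) // ∃ g : Matrix.symplecticGroup (Fin m) F, ConjClasses.mk g = C ∧ orderOf g = p} = (∑ μ ∈ Finset.univ.filter (fun μ : Nat.Partition (2 * m) => (∀ a ∈ μ.parts, a ≤ p) ∧ ∀ j : ℕ, Odd j → Even (μ.parts.count j)), 2 ^ ((μ.parts.toFinset.filter (fun j : ℕ => Even j)).card)) - 1 := by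
  classical
  have h2 : (2 : F) ≠ 0 := fun h => hp (by
    have h' : ((2 : ℕ) : F) = 0 := by exact_mod_cast h
    exact (Nat.prime_dvd_prime_iff_eq Fact.out Nat.prime_two).1 ((CharP.cast_eq_zero_iff F p 2).1 h'))
  have hpp : p.Prime := Fact.out
  set S := Finset.univ.filter (fun μ : Nat.Partition (2 * m) =>
    (∀ a ∈ μ.parts, a ≤ p) ∧ ∀ j : ℕ, Odd j → Even (μ.parts.count j)) with hS
  let Ev : Nat.Partition (2 * m) → Finset ℕ := fun μ => μ.parts.toFinset.filter (fun j : ℕ => Even j)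
  let μ₁ : Nat.Partition (2 * m) := ⟨Multiset.replicate (2 * m) 1,
    fun h => by rw [Multiset.eq_of_mem_replicate h]; omega, by simp⟩
  have hμ₁ : μ₁ ∈ S := by
    refine Finset.mem_filter.2 ⟨Finset.mem_univ _, fun a ha => ?_, fun j hj => ?_⟩
    · rw [Multiset.eq_of_mem_replicate ha]; exact hpp.one_lt.le
    · show Even ((Multiset.replicate (2 * m) 1).count j)
      rw [Multiset.count_replicate]
      split_ifs <;> simp
  have hEv₁ : Ev μ₁ = ∅ := by
    refine Finset.filter_eq_empty_iff.2 fun j hj => ?_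
    rw [Multiset.mem_toFinset] at hj
    rw [Multiset.eq_of_mem_replicate hj]
    decide
  rw [show (∑ μ ∈ S, 2 ^ (Ev μ).card) - 1 = ∑ μ ∈ S.erase μ₁, 2 ^ (Ev μ).card by
    rw [← Finset.add_sum_erase _ _ hμ₁, hEv₁]; simp]
  rw [show ∑ μ ∈ S.erase μ₁, 2 ^ (Ev μ).card =
      Nat.card (Σ μ : ↥(S.erase μ₁), (↥(Ev μ.1) → Bool)) by
    rw [Nat.card_sigma, ← Finset.sum_coe_sort (S.erase μ₁)]
    refine Finset.sum_congr rfl fun μ _ => ?_
    simp [Nat.card_fun]]
  have hrep : ∀ μ : Nat.Partition (2 * m), ∃ (L : ℕ) (d : Fin L → ℕ),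
      (∀ k, 1 ≤ d k) ∧ (Finset.univ : Finset (Fin L)).val.map d = μ.parts ∧
        Fintype.card (JI d) = Fintype.card (Fin m ⊕ Fin m) := by
    intro μ
    obtain ⟨L, d, hd⟩ := CfsgLib.LinearElements.exists_list_family μ.parts
    refine ⟨L, d, fun k => μ.parts_pos (hd ▸ Multiset.mem_map.2 ⟨k, Finset.mem_univ k, rfl⟩), hd, ?_⟩
    rw [Fintype.card_sigma]
    simp only [Fintype.card_fin, Fintype.card_sum]
    rw [Finset.sum, hd, μ.parts_sum, two_mul]
  choose L d hd hparts hcard using hrep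
  have hcount : ∀ μ j, Fintype.card {k // d μ k = j} = μ.parts.count j := by
    intro μ j
    rw [← hparts μ, Multiset.count_map, Fintype.card_subtype]
    simp [eq_comm, Finset.filter_val, Finset.card_def]
  let e : ∀ μ, JI (d μ) ≃ Fin m ⊕ Fin m := fun μ => Fintype.equivOfCardEq (hcard μ)
  have hH : ∀ x : (Σ μ : ↥(S.erase μ₁), (↥(Ev μ.1) → Bool)), ∃ H, IsInv (F := F) (d x.1.1) H ∧
      ∀ (j : ℕ) (hj : j ∈ Ev x.1.1), (IsSquare (comp (d x.1.1) (bd (d x.1.1) H) j).det ↔ x.2 ⟨j, hj⟩ = true) := by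
    rintro ⟨⟨μ, hμ⟩, f⟩
    obtain ⟨H, hH, hs⟩ := exists_inv_of_sign (F := F) h2 (hd μ)
      (fun j hj => hcount μ j ▸ (Finset.mem_filter.1 (Finset.mem_erase.1 hμ).2).2.2 j hj)
      (fun j => if h : j ∈ Ev μ then f ⟨j, h⟩ else true)
    refine ⟨H, hH, fun j hj => ?_⟩
    have hj' := Finset.mem_filter.1 hj
    rw [hs j hj'.2 (Fintype.card_pos_iff.1 (by rw [hcount]; exact Multiset.count_pos.2 (Multiset.mem_toFinset.1 hj'.1))),
      dif_pos hj]
  choose H hH hsign using hH
  choose g hg using fun x => exists_carries h2 (e x.1.1) (hH x)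
  have hconj : ∀ x, IsConj (Matrix.reindex (e x.1.1) (e x.1.1) (shiftMat (d x.1.1) F))
      ((g x : Matrix (Fin m ⊕ Fin m) (Fin m ⊕ Fin m) F) - 1) := by
    intro x
    obtain ⟨Q, hQ, -⟩ := hg x
    refine (isConj_one_add_iff _ _).1 ?_
    rw [add_sub_cancel]
    refine ⟨Q, ?_⟩
    show (Q : Matrix (Fin m ⊕ Fin m) (Fin m ⊕ Fin m) F) * _ = _ * _
    rw [← hQ, ← Matrix.coe_reindexAlgEquiv F F, map_add, map_one]
  have hrk : ∀ x k, (((g x : Matrix (Fin m ⊕ Fin m) (Fin m ⊕ Fin m) F) - 1) ^ k).rank = ∑ i, (d x.1.1 i - k) :=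
    fun x k => by rw [← rank_pow_eq_of_isConj (hconj x) k, rank_reindex_pow, rank_shiftMat_pow (hd _)]
  have hord : ∀ x, orderOf (g x) = p := by
    intro x
    obtain ⟨hne, hμS⟩ := Finset.mem_erase.1 x.1.2
    refine (orderOf_iff (g x)).2 ⟨eq_zero_of_rank ((hrk x p).trans ?_), fun h1 => hne ?_⟩
    · refine Finset.sum_eq_zero fun i _ => ?_
      have := (Finset.mem_filter.1 hμS).2.1 (d x.1.1 i) (hparts x.1.1 ▸ Multiset.mem_map.2 ⟨i, Finset.mem_univ i, rfl⟩)
      omega
    · have h1' := hrk x 1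
      rw [h1, pow_one] at h1'
      simp only [OneMemClass.coe_one, sub_self, Matrix.rank_zero] at h1'
      have hall : ∀ a ∈ x.1.1.parts, a = 1 := fun a ha => by
        rw [← hparts x.1.1] at ha
        obtain ⟨i, -, rfl⟩ := Multiset.mem_map.1 ha
        have := Finset.sum_eq_zero_iff.1 h1'.symm i (Finset.mem_univ i)
        have := hd x.1.1 i
        omega
      refine Nat.Partition.ext (Multiset.eq_replicate.2 ⟨?_, hall⟩)
      have := x.1.1.parts_sum
      rw [Multiset.eq_replicate_card.2 hall, Multiset.sum_replicate, smul_eq_mul, mul_one] at this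
      exact this
  refine (Nat.card_eq_of_bijective (fun x : (Σ μ : ↥(S.erase μ₁), (↥(Ev μ.1) → Bool)) =>
    (⟨ConjClasses.mk (g x), g x, rfl, hord x⟩ :
      {C : ConjClasses ↥(Matrix.symplecticGroup (Fin m) F) //
        ∃ g : Matrix.symplecticGroup (Fin m) F, ConjClasses.mk g = C ∧ orderOf g = p})) ⟨?_, ?_⟩).symm
  · intro x y hxy
    have hc : IsConj (g x) (g y) := ConjClasses.mk_eq_mk_iff_isConj.1 (congrArg Subtype.val hxy)
    have hμ : x.1 = y.1 := by
      refine Subtype.ext (Nat.Partition.ext ?_)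
      rw [← hparts, ← hparts]
      refine multiset_eq_of_rank (hd _) (hd _) fun k => ?_
      rw [← hrk, ← hrk]
      refine rank_pow_eq_of_isConj ?_ k
      obtain ⟨c, hc⟩ := (Matrix.symplecticGroup (Fin m) F).subtype.map_isConj hc
      exact ⟨c, SemiconjBy.sub_right hc (SemiconjBy.one_right _)⟩
    obtain ⟨μ, f⟩ := x
    obtain ⟨ν, f'⟩ := y
    simp only at hμ
    subst hμ
    obtain ⟨c, hcm, hcG⟩ := congr_of_isConj (hg ⟨μ, f'⟩) (hg ⟨μ, f⟩) hc
    congr 1
    funext ⟨j, hj⟩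
    have hsq := isSquare_of_congr (hd _) (hH ⟨μ, f'⟩) hcm hcG j
    have h0 : ∀ z, (comp (d μ.1) (bd (d μ.1) (H ⟨μ, z⟩)) j).det ≠ 0 := fun z =>
      ((Matrix.isUnit_iff_isUnit_det _).1 (isUnit_comp_bd (hd _) (hH ⟨μ, z⟩) j)).ne_zero
    have e1 := hsign ⟨μ, f⟩ j hj
    have e2 := hsign ⟨μ, f'⟩ j hj
    rw [Bool.eq_iff_iff]
    exact ⟨fun h => e2.1 (isSquare_iff_of_mul (h0 f) (by rw [mul_comm]; exact hsq) (e1.2 h)),
      fun h => e1.1 (isSquare_iff_of_mul (h0 f') hsq (e2.2 h))⟩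
  · rintro ⟨C, x, rfl, hx⟩
    obtain ⟨hxp, hx1⟩ := (orderOf_iff x).1 hx
    let e0 : Fin m ⊕ Fin m ≃ Fin (2 * m) := Fintype.equivFinOfCardEq (by simp; ring)
    set A := (x : Matrix (Fin m ⊕ Fin m) (Fin m ⊕ Fin m) F) - 1 with hA
    have hA0 : IsNilpotent (Matrix.reindex e0 e0 A) :=
      (show IsNilpotent A from ⟨p, hxp⟩).map (Matrix.reindexAlgEquiv F F e0)
    obtain ⟨L', d', e', hd', he'⟩ := exists_type hA0
    have hr : ∀ k, (A ^ k).rank = ∑ i, (d' i - k) := fun k => by
      rw [← rank_reindex_pow e0, ← rank_pow_eq_of_isConj he' k, rank_reindex_pow, rank_shiftMat_pow hd']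
    have hsum : ((Finset.univ : Finset (Fin L')).val.map d').sum = 2 * m := by
      have h := Fintype.card_congr e'
      rwa [Fintype.card_sigma, Fintype.card_fin, Finset.sum_congr rfl fun i _ => Fintype.card_fin (d' i)] at h
    let μ : Nat.Partition (2 * m) := ⟨(Finset.univ : Finset (Fin L')).val.map d', fun h => by
      obtain ⟨i, -, rfl⟩ := Multiset.mem_map.1 h
      exact hd' i, hsum⟩
    have hμr : ∀ k, ∑ i, (d μ i - k) = ∑ i, (d' i - k) := fun k => by
      show ((Finset.univ : Finset _).val.map (fun i => d μ i - k)).sum = ((Finset.univ : Finset _).val.map (fun i => d' i - k)).sum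
      have h1 : (Finset.univ : Finset (Fin (L μ))).val.map (fun i => d μ i - k) =
          ((Finset.univ : Finset (Fin (L μ))).val.map (d μ)).map (fun a => a - k) := by
        rw [Multiset.map_map]; rfl
      rw [h1, hparts μ]
      show (((Finset.univ : Finset (Fin L')).val.map d').map (fun a => a - k)).sum = _
      rw [Multiset.map_map]; rfl
    have hJx : IsConj (Matrix.reindex (e μ) (e μ) (1 + shiftMat (d μ) F))
        (x : Matrix (Fin m ⊕ Fin m) (Fin m ⊕ Fin m) F) := by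
      have h : IsConj (Matrix.reindex (e μ) (e μ) (shiftMat (d μ) F)) A := by
        refine isConj_of_rank ((isNilpotent_shiftMat (hd μ)).map (Matrix.reindexAlgEquiv F F (e μ))) ⟨p, hxp⟩ fun k => ?_
        rw [rank_reindex_pow, rank_shiftMat_pow (hd μ), hr, hμr]
      have h' := (isConj_one_add_iff _ _).2 h
      rw [hA, add_sub_cancel] at h'
      rwa [← Matrix.coe_reindexAlgEquiv F F, map_add, map_one]
    obtain ⟨G, hG, hGx⟩ := exists_isInv_carries (e μ) x hJx
    have hμS : μ ∈ S.erase μ₁ := by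
      refine Finset.mem_erase.2 ⟨fun h => hx1 ?_, Finset.mem_filter.2
        ⟨Finset.mem_univ _, fun a ha => ?_, fun j hj => ?_⟩⟩
      · have hall : ∀ i, d' i = 1 := fun i => Multiset.eq_of_mem_replicate (n := 2 * m)
          (show d' i ∈ μ₁.parts from h ▸ (Multiset.mem_map.2 ⟨i, Finset.mem_univ i, rfl⟩ : d' i ∈ (Finset.univ : Finset (Fin L')).val.map d'))
        have hz : A = 0 := eq_zero_of_rank (by
          rw [← pow_one A, hr]; exact Finset.sum_eq_zero fun i _ => by simp [hall i])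
        exact Subtype.ext (sub_eq_zero.1 hz)
      · obtain ⟨i, -, rfl⟩ := Multiset.mem_map.1 (show a ∈ (Finset.univ : Finset (Fin L')).val.map d' from ha)
        have h0 := hr p
        rw [hxp, Matrix.rank_zero] at h0
        have := Finset.sum_eq_zero_iff.1 h0.symm i (Finset.mem_univ i)
        omega
      · rw [← hcount μ j]
        exact even_mult h2 (hd μ) hG hj
    let f : ↥(Ev μ) → Bool := fun j => decide (IsSquare (comp (d μ) (bd (d μ) G) j.1).det)
    refine ⟨⟨⟨μ, hμS⟩, f⟩, Subtype.ext (ConjClasses.mk_eq_mk_iff_isConj.2 ?_)⟩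
    obtain ⟨c, hcm, -, hcG⟩ := exists_congr_of_isSquare h2 (hd μ) (hH ⟨⟨μ, hμS⟩, f⟩) hG fun j hj => by
      have h0 : ∀ {Z : Matrix (JI (d μ)) (JI (d μ)) F}, IsInv (d μ) Z → (comp (d μ) (bd (d μ) Z) j).det ≠ 0 := fun hZ =>
        ((Matrix.isUnit_iff_isUnit_det _).1 (isUnit_comp_bd (hd _) hZ j)).ne_zero
      by_cases hmem : j ∈ Ev μ
      · exact isSquare_mul_of_iff (h0 (hH ⟨⟨μ, hμS⟩, f⟩)) (h0 hG)
          ((hsign ⟨⟨μ, hμS⟩, f⟩ j hmem).trans (by simp [f]))
      · haveI : IsEmpty {k // d μ k = j} := by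
          rw [← Fintype.card_eq_zero_iff, hcount]
          exact Multiset.count_eq_zero.2 fun h => hmem (Finset.mem_filter.2 ⟨Multiset.mem_toFinset.2 h, hj⟩)
        rw [Matrix.det_isEmpty, Matrix.det_isEmpty, mul_one]
        exact IsSquare.one
    exact (isConj_of_congr (hg ⟨⟨μ, hμS⟩, f⟩) hGx hcm hcG).symm

end Cfsg.Agent.S2676
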