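import Cfsg.Statements.S2677
import Cfsg.Agent.InvNorm.Hermitian
import Cfsg.Agent.FixedField.Basic
import Cfsg.Agent.Forms.UnitaryOrder

set_option autoImplicit false
open Cfsg

namespace Cfsg.Agent.S2677

open Matrix CfsgLib.InvNorm

theorem count_scaled {K : Type*} [Field K] [Fintype K] {q₀ q r n : ℕ} (hr : r.Prime) (hr2 : r ≠ 2) (hn : 1 ≤ n)
    (hq : q = q₀ ^ r) (hK : Fintype.card K = q ^ 2) (σ : K ≃+* K) (hσ : orderOf σ = r) :
    (Nat.card {g : ↥(Cfsg.GU n K q) // ∃ c : K, c ≠ 0 ∧ ((g : GL (Fin n) K) : Matrix (Fin n) (Fin n) K).map σ = c • ((g : GL (Fin n) K) : Matrix (Fin n) (Fin n) K)} : ℤ) = ((q + 1) / (q₀ + 1) : ℕ) * ((q₀ : ℤ) ^ (n * (n - 1) / 2) * ∏ i : Fin n, ((q₀ : ℤ) ^ ((i : ℕ) + 1) - (-1) ^ ((i : ℕ) + 1))) := by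
  classical
  set K₀ := CfsgLib.FixedField.fixedSub σ
  have : Fintype K₀ := Fintype.ofFinite K₀
  have hK₀ : Fintype.card K₀ = q₀ ^ 2 := by
    rw [← Nat.card_eq_fintype_card]
    exact CfsgLib.FixedField.card_fixed σ hr.ne_zero hσ (by rw [hK, hq, ← pow_mul, ← pow_mul, mul_comm])
  obtain ⟨τ, hτ, hττ⟩ := CfsgLib.FieldEmb.exists_conj hK
  obtain ⟨τ₀, hτ₀, hττ₀⟩ := CfsgLib.FieldEmb.exists_conj hK₀
  obtain ⟨j, hj⟩ := hr.odd_of_ne_two hr2
  have hpow : ∀ x : K₀, x ^ q = x ^ q₀ := by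
    intro x
    rw [hq, hj, pow_succ', pow_mul, pow_mul]
    generalize x ^ q₀ = y
    have hfix : ∀ k : ℕ, y ^ (q₀ ^ 2) ^ k = y := fun k => by
      induction k with
      | zero => simp
      | succ k ihk => rw [pow_succ, pow_mul, ihk, ← hK₀, FiniteField.pow_card]
    simpa only [← pow_mul] using hfix j
  let emb : K₀ →+* K := K₀.subtype
  have hτemb : ∀ x : K₀, τ (emb x) = emb (τ₀ x) := fun x => by rw [hτ, ← map_pow, hpow, hτ₀]
  let ι : GL (Fin n) K₀ →* GL (Fin n) K := Matrix.GeneralLinearGroup.map emb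
  have hι : ∀ h : GL (Fin n) K₀, (ι h : Matrix (Fin n) (Fin n) K) = (h : Matrix (Fin n) (Fin n) K₀).map emb :=
    fun h => rfl
  have hmem : ∀ h : GL (Fin n) K₀, ι h ∈ Cfsg.GU n K q ↔ h ∈ Cfsg.GU n K₀ q₀ := by
    intro h
    rw [mem_GU_iff hτ hττ, mem_GU_iff hτ₀ hττ₀, hι]
    have e : tau τ ((h : Matrix (Fin n) (Fin n) K₀).map emb) = (tau τ₀ (h : Matrix (Fin n) (Fin n) K₀)).map emb := by
      ext i k
      exact hτemb _
    rw [e, ← Matrix.map_mul]
    constructor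
    · intro H
      apply Matrix.map_injective emb.injective
      dsimp only
      rw [H, Matrix.map_one emb (map_zero _) (map_one _)]
    · intro H
      rw [H, Matrix.map_one emb (map_zero _) (map_one _)]
  let μ : Subgroup Kˣ := (powMonoidHom (q + 1)).ker
  have hμ : ∀ u : Kˣ, u ∈ μ ↔ (u : K) ^ (q + 1) = 1 := fun u =>
    ⟨fun h => by rw [← Units.val_pow_eq_pow_val]; exact congrArg Units.val h,
      fun h => Units.ext (by rw [powMonoidHom_apply, Units.val_pow_eq_pow_val, h, Units.val_one])⟩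
  have hμcard : Nat.card μ = q + 1 := by
    rw [← CfsgLib.Forms.card_norm_fiber hK 1 one_ne_zero (one_pow q)]
    refine Nat.card_congr ⟨fun u => ⟨(u.1 : K), (hμ _).1 u.2⟩,
      fun x => ⟨Units.mk0 x.1 fun h => by have := x.2; rw [h, zero_pow (Nat.succ_ne_zero q)] at this; exact zero_ne_one this,
        (hμ _).2 x.2⟩, fun u => Subtype.ext (Units.ext rfl), fun x => rfl⟩
  let scal : Kˣ →* GL (Fin n) K := Units.map (Matrix.scalar (Fin n)).toMonoidHom
  have hscal : ∀ (u : Kˣ) (g : GL (Fin n) K),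
      ((scal u * g : GL (Fin n) K) : Matrix (Fin n) (Fin n) K) = (u : K) • (g : Matrix (Fin n) (Fin n) K) := fun u g => by
    rw [Units.val_mul]
    exact (smul_eq_diagonal_mul _ _).symm
  have hscalGU : ∀ u ∈ μ, scal u ∈ Cfsg.GU n K q := fun u hu => by
    rw [mem_GU_iff hτ hττ]
    show tau τ (Matrix.scalar (Fin n) (u : K)) * Matrix.scalar (Fin n) (u : K) = 1
    rw [tau_scalar, ← map_mul, hτ, ← pow_succ, (hμ u).1 hu, map_one]
  let Φ : μ × ↥(Cfsg.GU n K₀ q₀) →* ↥(Cfsg.GU n K q) :=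
    MonoidHom.mk' (fun p => ⟨scal p.1 * ι p.2, mul_mem (hscalGU _ p.1.2) ((hmem _).2 p.2.2)⟩) fun a b => by
      refine Subtype.ext ?_
      show scal ((a.1 : Kˣ) * (b.1 : Kˣ)) * ι ((a.2 : GL (Fin n) K₀) * (b.2 : GL (Fin n) K₀)) =
        scal a.1 * ι a.2 * (scal b.1 * ι b.2)
      rw [map_mul, map_mul]
      refine Commute.mul_mul_mul_comm (Units.ext ?_) _ _
      exact ((Matrix.scalar_commute ((b.1 : Kˣ) : K) (fun r' => Commute.all _ r') _).eq)
  have hdiag : ∀ (g : GL (Fin n) K), ∃ i k, (g : Matrix (Fin n) (Fin n) K) i k ≠ 0 := fun g => by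
    by_contra h
    have h0 : (g : Matrix (Fin n) (Fin n) K) = 0 := Matrix.ext fun i k => not_not.1 fun hik => h ⟨i, k, hik⟩
    haveI : Nonempty (Fin n) := ⟨⟨0, hn⟩⟩
    exact g.ne_zero h0
  have hrange : ∀ g : ↥(Cfsg.GU n K q), g ∈ Φ.range ↔ ∃ c : K, c ≠ 0 ∧
      ((g : GL (Fin n) K) : Matrix (Fin n) (Fin n) K).map σ = c • ((g : GL (Fin n) K) : Matrix (Fin n) (Fin n) K) := by
    intro g
    constructor
    · rintro ⟨⟨⟨u, hu⟩, h⟩, rfl⟩
      refine ⟨σ u / u, div_ne_zero ((map_ne_zero σ).2 u.ne_zero) u.ne_zero, ?_⟩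
      show ((scal u * ι h : GL (Fin n) K) : Matrix (Fin n) (Fin n) K).map σ =
        _ • ((scal u * ι h : GL (Fin n) K) : Matrix (Fin n) (Fin n) K)
      rw [hscal, smul_smul, div_mul_cancel₀ _ u.ne_zero, hι]
      ext i k
      simp only [Matrix.map_apply, Matrix.smul_apply, smul_eq_mul, map_mul]
      congr 1
      exact (((h : GL (Fin n) K₀) : Matrix (Fin n) (Fin n) K₀) i k).2
    · rintro ⟨c, hc0, hc⟩
      set M := ((g : GL (Fin n) K) : Matrix (Fin n) (Fin n) K) with hM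
      have hu := (mem_GU_iff hτ hττ _).1 g.2
      rw [← hM] at hu
      have hc1 : c ^ (q + 1) = 1 := by
        have h1 : tau τ (M.map σ) * M.map σ = 1 := by
          have e : tau τ (M.map σ) = (tau τ M).map σ := by
            ext i k
            show τ (σ (M k i)) = σ (τ (M k i))
            rw [hτ, hτ, map_pow]
          rw [e, ← Matrix.map_mul, hu, Matrix.map_one σ (map_zero _) (map_one _)]
        rw [hc] at h1
        have e : tau τ (c • M) = τ c • tau τ M := by ext i k; simp [tau]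
        rw [e, Matrix.smul_mul, Matrix.mul_smul, hu, smul_smul, hτ, ← pow_succ] at h1
        have h2 := congrFun (congrFun h1 ⟨0, hn⟩) ⟨0, hn⟩
        simpa using h2
      obtain ⟨i, k, hik⟩ := hdiag (g : GL (Fin n) K)
      set a := M i k
      have hσa : σ a = c * a := congrFun (congrFun hc i) k
      have hb : σ (a ^ (q + 1)) = a ^ (q + 1) := by rw [map_pow, hσa, mul_pow, hc1, one_mul]
      set b : K₀ := ⟨a ^ (q + 1), hb⟩ with hbdef
      have hb0 : b ≠ 0 := fun h => pow_ne_zero (q + 1) hik (congrArg Subtype.val h)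
      have hbq : b ^ q₀ = b := by
        rw [← hpow]
        refine Subtype.ext ?_
        show (a ^ (q + 1)) ^ q = a ^ (q + 1)
        rw [← pow_mul, add_mul, one_mul, ← pow_two, pow_add, ← hK, FiniteField.pow_card, pow_succ']
      obtain ⟨⟨d, hd⟩⟩ := (Nat.card_pos_iff.1
        (show 0 < Nat.card {x : K₀ // x ^ (q₀ + 1) = b} by
          rw [CfsgLib.Forms.card_norm_fiber hK₀ b hb0 hbq]; omega)).1
      have hd0 : d ≠ 0 := fun h => hb0 (by rw [← hd, h, zero_pow (Nat.succ_ne_zero q₀)])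
      have hd' : (d : K) ^ (q + 1) = a ^ (q + 1) := by
        have : d ^ (q + 1) = b := by rw [pow_succ, hpow, ← pow_succ, hd]
        exact congrArg Subtype.val this
      have hdK : (d : K) ≠ 0 := fun h => hd0 (Subtype.ext h)
      have hσd : σ (d : K) = d := d.2
      let u : Kˣ := Units.mk0 (a / d) (div_ne_zero hik hdK)
      have huμ : u ∈ μ := (hμ u).2 (by
        show (a / d : K) ^ (q + 1) = 1
        rw [div_pow, hd', div_self (pow_ne_zero _ hik)])
      set h' : GL (Fin n) K := (scal u)⁻¹ * (g : GL (Fin n) K) with hh'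
      have hh'GU : h' ∈ Cfsg.GU n K q := mul_mem (inv_mem (hscalGU u huμ)) g.2
      have hh'M : (h' : Matrix (Fin n) (Fin n) K) = (a / d)⁻¹ • M := by
        rw [hh', ← map_inv, hscal, Units.val_inv_eq_inv_val]
        rfl
      have hfix : (h' : Matrix (Fin n) (Fin n) K).map σ = h' := by
        rw [hh'M]
        ext i' k'
        have := congrFun (congrFun hc i') k'
        simp only [Matrix.map_apply, Matrix.smul_apply, smul_eq_mul] at this ⊢
        rw [map_mul, map_inv₀, map_div₀, hσa, hσd, this]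
        field_simp
      have hfixinv : ((h'⁻¹ : GL (Fin n) K) : Matrix (Fin n) (Fin n) K).map σ = (h'⁻¹ : GL (Fin n) K) := by
        refine (Units.eq_inv_of_mul_eq_one_left (u := h') ?_)
        conv_lhs => rw [← hfix]
        rw [← Matrix.map_mul, Units.mul_inv, Matrix.map_one σ (map_zero _) (map_one _)]
      let h₀ : GL (Fin n) K₀ :=
        ⟨Matrix.of fun i' k' => ⟨(h' : Matrix (Fin n) (Fin n) K) i' k', congrFun (congrFun hfix i') k'⟩,
         Matrix.of fun i' k' => ⟨((h'⁻¹ : GL (Fin n) K) : Matrix (Fin n) (Fin n) K) i' k', congrFun (congrFun hfixinv i') k'⟩,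
         Matrix.map_injective emb.injective (by
           dsimp only
           rw [Matrix.map_mul, Matrix.map_one emb (map_zero _) (map_one _)]; exact Units.mul_inv h'),
         Matrix.map_injective emb.injective (by
           dsimp only
           rw [Matrix.map_mul, Matrix.map_one emb (map_zero _) (map_one _)]; exact Units.inv_mul h')⟩
      have hιh : ι h₀ = h' := Units.ext rfl
      exact ⟨(⟨u, huμ⟩, ⟨h₀, (hmem _).1 (hιh ▸ hh'GU)⟩), Subtype.ext (by
        show scal u * ι h₀ = (g : GL (Fin n) K)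
        rw [hιh, hh', mul_inv_cancel_left])⟩
  have hkey : ∀ (u : Kˣ) (h : GL (Fin n) K₀), scal u * ι h = 1 ↔ ι h = scal u⁻¹ := fun u h => by
    rw [map_inv, mul_eq_one_iff_inv_eq, eq_comm]
  have hentry : ∀ (u : Kˣ) (h : GL (Fin n) K₀), scal u * ι h = 1 → σ (u : K) = u := by
    intro u h hh
    have h1 := congrArg (fun x : GL (Fin n) K => (x : Matrix (Fin n) (Fin n) K) ⟨0, hn⟩ ⟨0, hn⟩) ((hkey u h).1 hh)
    have h2 : emb ((h : Matrix (Fin n) (Fin n) K₀) ⟨0, hn⟩ ⟨0, hn⟩) = ((u⁻¹ : Kˣ) : K) :=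
      h1.trans (show (Matrix.diagonal fun _ : Fin n => ((u⁻¹ : Kˣ) : K)) ⟨0, hn⟩ ⟨0, hn⟩ = _ from Matrix.diagonal_apply_eq _ _)
    have h3 : σ ((u⁻¹ : Kˣ) : K) = ((u⁻¹ : Kˣ) : K) := by rw [← h2]; exact ((h : Matrix (Fin n) (Fin n) K₀) ⟨0, hn⟩ ⟨0, hn⟩).2
    rw [Units.val_inv_eq_inv_val, map_inv₀] at h3
    exact inv_injective h3
  let scal₀ : K₀ˣ →* GL (Fin n) K₀ := Units.map (Matrix.scalar (Fin n)).toMonoidHom
  have hιscal : ∀ w : K₀ˣ, ι (scal₀ w) = scal (Units.map emb.toMonoidHom w) := fun w => Units.ext (by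
    show (Matrix.diagonal fun _ => (w : K₀)).map emb = Matrix.diagonal fun _ => emb (w : K₀)
    rw [Matrix.diagonal_map (map_zero emb)])
  have hιinj : Function.Injective ι := fun x y h => Units.ext
    (Matrix.map_injective emb.injective (congrArg Units.val h))
  have hkercard : Nat.card Φ.ker = q₀ + 1 := by
    rw [← CfsgLib.Forms.card_norm_fiber hK₀ 1 one_ne_zero (one_pow q₀)]
    refine Nat.card_congr (Equiv.ofBijective (fun p : Φ.ker =>
      (⟨⟨((p.1.1 : Kˣ) : K), hentry _ _ (congrArg Subtype.val p.2)⟩, ?_⟩ : {x : K₀ // x ^ (q₀ + 1) = 1})) ⟨?_, ?_⟩)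
    · rw [pow_succ, ← hpow, ← pow_succ]
      exact Subtype.ext ((hμ _).1 p.1.1.2)
    · intro p p' e
      have e1 : p.1.1 = p'.1.1 := Subtype.ext (Units.ext (congrArg (fun x : {x : K₀ // x ^ (q₀ + 1) = 1} => (x.1 : K)) e))
      refine Subtype.ext (Prod.ext e1 (Subtype.ext (hιinj ?_)))
      rw [(hkey _ _).1 (congrArg Subtype.val p.2), (hkey _ _).1 (congrArg Subtype.val p'.2), e1]
    · rintro ⟨w, hw⟩
      have hw0 : w ≠ 0 := fun h => by rw [h, zero_pow (Nat.succ_ne_zero q₀)] at hw; exact zero_ne_one hw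
      set w' : K₀ˣ := Units.mk0 w hw0
      have hwμ : Units.map emb.toMonoidHom w' ∈ μ := (hμ _).2 (by
        show (emb w) ^ (q + 1) = 1
        rw [← map_pow, pow_succ, hpow, ← pow_succ, hw, map_one])
      have hmemw : scal₀ w'⁻¹ ∈ Cfsg.GU n K₀ q₀ := (hmem _).1 (by
        rw [hιscal, map_inv]; exact hscalGU _ (inv_mem hwμ))
      refine ⟨⟨(⟨_, hwμ⟩, ⟨scal₀ w'⁻¹, hmemw⟩), Subtype.ext ?_⟩, rfl⟩
      show scal (Units.map emb.toMonoidHom w') * ι (scal₀ w'⁻¹) = 1
      rw [hιscal, map_inv, map_inv, mul_inv_cancel]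
  have hS : Nat.card {g : ↥(Cfsg.GU n K q) // ∃ c : K, c ≠ 0 ∧
      ((g : GL (Fin n) K) : Matrix (Fin n) (Fin n) K).map σ = c • ((g : GL (Fin n) K) : Matrix (Fin n) (Fin n) K)} =
      Nat.card Φ.range := Nat.card_congr (Equiv.subtypeEquivRight fun g => (hrange g).symm)
  have hmul : (q₀ + 1) * Nat.card Φ.range = (q + 1) * Nat.card ↥(Cfsg.GU n K₀ q₀) := by
    have h := Subgroup.card_eq_card_quotient_mul_card_subgroup Φ.ker
    rw [Nat.card_congr (QuotientGroup.quotientKerEquivRange Φ).toEquiv, hkercard, Nat.card_prod, hμcard] at h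
    rw [h, mul_comm]
  have hdvd : q₀ + 1 ∣ q + 1 := by
    have := (hr.odd_of_ne_two hr2).nat_add_dvd_pow_add_pow q₀ 1
    rwa [one_pow, ← hq] at this
  have hfin : Nat.card Φ.range = (q + 1) / (q₀ + 1) * Nat.card ↥(Cfsg.GU n K₀ q₀) := by
    obtain ⟨d, hd⟩ := hdvd
    rw [hd, mul_assoc] at hmul
    rw [hd, Nat.mul_div_cancel_left _ (Nat.succ_pos q₀)]
    exact Nat.eq_of_mul_eq_mul_left (Nat.succ_pos q₀) hmul
  rw [hS, hfin, CfsgLib.Forms.card_GU hK₀ n, Finset.sum_range_id]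
  have h1 : 1 ≤ q₀ := by
    rcases Nat.eq_zero_or_pos q₀ with h | h
    · rw [h] at hK₀; exact absurd hK₀ Fintype.card_ne_zero
    · exact h
  push_cast [CfsgLib.Forms.u_cast h1]
  rw [Fin.prod_univ_eq_prod_range (fun i => ((q₀ : ℤ) ^ (i + 1) - (-1) ^ (i + 1))) n]

/-- Centraliser of a field automorphism of odd prime order in PGU_n(q): let q = q₀^r with r an odd prime, K the field with q² elements and σ a field automorphism of K of order r (fixed field of order q₀²). The elements g of GU_n(q) whose entrywise image under σ is a scalar multiple of g — those whose coset modulo the q + 1 unitary scalars is fixed by σ — number (q + 1)/(q₀ + 1) · |GU_n(q₀)|; equivalently the centraliser in PGU_n(q) of the induced automorphism has the order of PGU_n(q₀). -/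
theorem result {K : Type*} [Field K] [Fintype K] {q₀ q r n : ℕ} (hr : r.Prime) (hr2 : r ≠ 2) (hn : 1 ≤ n) (hq : q = q₀ ^ r) (hK : Fintype.card K = q ^ 2) (σ : K ≃+* K) (hσ : orderOf σ = r) : (Nat.card {g : ↥(Cfsg.GU n K q) // ∃ c : K, c ≠ 0 ∧ ((g : GL (Fin n) K) : Matrix (Fin n) (Fin n) K).map σ = c • ((g : GL (Fin n) K) : Matrix (Fin n) (Fin n) K)} : ℤ) = ((q + 1) / (q₀ + 1) : ℕ) * ((q₀ : ℤ) ^ (n * (n - 1) / 2) * ∏ i : Fin n, ((q₀ : ℤ) ^ ((i : ℕ) + 1) - (-1) ^ ((i : ℕ) + 1))) := by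
  exact count_scaled hr hr2 hn hq hK σ hσ

end Cfsg.Agent.S2677
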