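import Cfsg.Statements.S2678
import Cfsg.Agent.FieldEmb.QuadExt

set_option autoImplicit false
open Cfsg

namespace Cfsg.Agent.S2678

/-- Field-extension embedding of symplectic groups: for a field K with q² elements and a field F with q elements there is an injective homomorphism Sp_2a(K) → Sp_4a(F). -/
theorem result {K F : Type*} [Field K] [Fintype K] [Field F] [Fintype F] {q : ℕ} (hK : Fintype.card K = q ^ 2) (hF : Fintype.card F = q) (a : ℕ) : ∃ φ : ↥(Matrix.symplecticGroup (Fin a) K) →* ↥(Matrix.symplecticGroup (Fin (2 * a)) F), Function.Injective φ := by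
  classical
  open CfsgLib.FieldEmb in
  obtain ⟨inst⟩ := exists_algebra (n := 2) (by norm_num) hF hK
  letI := inst
  obtain ⟨T, -, hT0⟩ := exists_trace hF hK
  obtain ⟨b, d, hbd⟩ := exists_dual_bases hF hK hT0
  let ε : Fin (2 * a) ≃ Fin a × Fin 2 :=
    ((finCongr (Nat.mul_comm 2 a)).trans finProdFinEquiv.symm)
  let e : (Fin a ⊕ Fin a → K) ≃ₗ[F] (Fin (2 * a) ⊕ Fin (2 * a) → F) :=
    { toFun := fun v s => Sum.elim (fun k => b.repr (v (.inl (ε k).1)) (ε k).2)
        (fun k => d.repr (v (.inr (ε k).1)) (ε k).2) s
      invFun := fun w => Sum.elim (fun i => b.equivFun.symm fun j => w (.inl (ε.symm (i, j))))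
        (fun i => d.equivFun.symm fun j => w (.inr (ε.symm (i, j))))
      map_add' := fun u v => by ext s; rcases s with k | k <;> simp
      map_smul' := fun c v => by ext s; rcases s with k | k <;> simp
      left_inv := fun v => by
        funext s
        rcases s with i | i
        · apply b.equivFun.injective; ext j; simp
        · apply d.equivFun.injective; ext j; simp
      right_inv := fun w => by
        funext s
        rcases s with k | k
        · exact (congrFun (b.equivFun.apply_symm_apply fun j => w (.inl (ε.symm ((ε k).1, j)))) (ε k).2).trans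
            (by simp)
        · exact (congrFun (d.equivFun.apply_symm_apply fun j => w (.inr (ε.symm ((ε k).1, j)))) (ε k).2).trans
            (by simp) }
  have hT : ∀ x y : K, T (x * y) = ∑ j, b.repr x j * d.repr y j := by
    intro x y
    conv_lhs => rw [← b.sum_repr x, ← d.sum_repr y]
    simp only [Fin.sum_univ_two, add_mul, mul_add, smul_mul_smul_comm, map_add, map_smul, smul_eq_mul, hbd]
    simp
  have hform : ∀ u v, dotProduct (e u) ((Matrix.J (Fin (2 * a)) F).mulVec (e v)) =
      T (dotProduct u ((Matrix.J (Fin a) K).mulVec v)) := by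
    intro u v
    rw [dot_J, dot_J, map_sum, ← ε.symm.sum_comp, Fintype.sum_prod_type]
    refine Finset.sum_congr rfl fun i _ => ?_
    rw [map_sub, mul_comm (u (.inr i)) (v (.inl i)), hT, hT, ← Finset.sum_sub_distrib]
    refine Finset.sum_congr rfl fun j _ => ?_
    simp [e]
    ring
  have hmem : ∀ g : ↥(Matrix.symplecticGroup (Fin a) K),
      restrictMat e (g : Matrix (Fin a ⊕ Fin a) (Fin a ⊕ Fin a) K) ∈ Matrix.symplecticGroup (Fin (2 * a)) F := by
    intro g
    refine mem_symplectic fun u v => ?_
    rw [restrictMat_mulVec, restrictMat_mulVec, hform]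
    conv_rhs => rw [← e.apply_symm_apply u, ← e.apply_symm_apply v, hform]
    rw [preserves_J g.2]
  refine ⟨((restrictMat e).comp (Matrix.symplecticGroup (Fin a) K).subtype).codRestrict _ hmem, fun g h hgh => ?_⟩
  exact Subtype.ext (restrictMat_injective e (congrArg Subtype.val hgh))

end Cfsg.Agent.S2678
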