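import Cfsg.Statements.S2679
import Cfsg.Agent.FieldEmb.QuadExt

set_option autoImplicit false
open Cfsg

namespace Cfsg.Agent.S2679

/-- An elliptic orthogonal group embeds in the hyperbolic orthogonal group of the same dimension over the quadratic extension: for a field F with q elements and a field K with q² elements there is an injective homomorphism from O⁻_2m(F) (isometries of Σ_(j<m−1) x_j y_j + z₁² + a z₁z₂ + c z₂², binary part anisotropic) to O⁺_2m(K) (isometries of Σ_(j<m) x_j y_j over K). -/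
theorem result {F K : Type*} [Field F] [Fintype F] [Field K] [Fintype K] {q : ℕ} (hF : Fintype.card F = q) (hK : Fintype.card K = q ^ 2) {m : ℕ} (hm : 1 ≤ m) (a c : F) (hac : ∀ z₁ z₂ : F, z₁ ^ 2 + a * z₁ * z₂ + c * z₂ ^ 2 = 0 → z₁ = 0 ∧ z₂ = 0) : ∃ φ : ↥(Cfsg.isometryGroup F (Cfsg.quadFormMinus (m - 1) F a c)) →* ↥(Cfsg.isometryGroup K (Cfsg.quadFormPlus m K)), Function.Injective φ := by
  classical
  open CfsgLib.FieldEmb in
  obtain ⟨n, rfl⟩ : ∃ n, m = n + 1 := ⟨m - 1, by omega⟩
  show ∃ φ : ↥(Cfsg.isometryGroup F (Cfsg.quadFormMinus n F a c)) →* _, _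
  obtain ⟨inst⟩ := exists_algebra (n := 2) (by norm_num) hF hK
  letI := inst
  obtain ⟨θ, hs, hp, hne⟩ := exists_split hF hK a c hac
  let ι := (Fin n ⊕ Fin n) ⊕ Fin 2
  let A : Matrix ι ι F :=
    Matrix.fromBlocks (Matrix.fromBlocks 0 1 0 0) 0 0 !![1, a; 0, c]
  have hA : ∀ v : ι → K, dotProduct v ((A.map (algebraMap F K)).mulVec v) =
      Cfsg.quadFormMinus n K (algebraMap F K a) (algebraMap F K c) v := by
    intro v
    simp [A, ι, Matrix.fromBlocks_map, Matrix.fromBlocks_mulVec, dotProduct, Cfsg.quadFormMinus,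
      Fin.sum_univ_two, Matrix.map_one, Matrix.one_mulVec]
    ring
  have hA0 : ∀ v : ι → F, dotProduct v (A.mulVec v) = Cfsg.quadFormMinus n F a c v := by
    intro v
    simp [A, ι, Matrix.fromBlocks_mulVec, dotProduct, Cfsg.quadFormMinus,
      Fin.sum_univ_two, Matrix.one_mulVec]
    ring
  let φ₁ : ↥(Cfsg.isometryGroup F (Cfsg.quadFormMinus n F a c)) →*
      ↥(Cfsg.isometryGroup K (Cfsg.quadFormMinus n K (algebraMap F K a) (algebraMap F K c))) :=
    ((Matrix.GeneralLinearGroup.map (algebraMap F K)).comp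
      (Cfsg.isometryGroup F (Cfsg.quadFormMinus n F a c)).subtype).codRestrict _ fun g => by
      rw [mem_isometryGroup]
      intro w
      rw [← hA, ← hA]
      refine isometry_map (algebraMap F K) A ((g : GL ι F) : Matrix ι ι F) (fun v => ?_) w
      rw [hA0, hA0, mem_isometryGroup.1 g.2]
  have hφ₁ : Function.Injective φ₁ := by
    intro g h hgh
    have := congrArg (fun x => ((x : GL ι K) : Matrix ι ι K)) (congrArg Subtype.val hgh)
    exact Subtype.ext (Units.ext (Matrix.map_injective (algebraMap F K).injective this))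
  let L : (ι → K) →ₗ[K] (Fin (n + 1) ⊕ Fin (n + 1) → K) :=
    { toFun := fun v => Sum.elim (Fin.cons (v (.inr 0) + θ * v (.inr 1)) fun i => v (.inl (.inl i)))
        (Fin.cons (v (.inr 0) + θ ^ q * v (.inr 1)) fun i => v (.inl (.inr i)))
      map_add' := fun u v => by
        funext s
        rcases s with s | s <;> cases s using Fin.cases <;> simp <;> ring
      map_smul' := fun t v => by
        funext s
        rcases s with s | s <;> cases s using Fin.cases <;> simp <;> ring }
  have hL : Function.Injective L := by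
    rw [injective_iff_map_eq_zero]
    intro v hv
    have e0 : v (.inr 0) + θ * v (.inr 1) = 0 := congrFun hv (.inl 0)
    have e1 : v (.inr 0) + θ ^ q * v (.inr 1) = 0 := congrFun hv (.inr 0)
    have h1 : v (.inr 1) = 0 := (mul_eq_zero.1 (show (θ ^ q - θ) * v (.inr 1) = 0 by
      linear_combination e1 - e0)).resolve_left (sub_ne_zero.2 hne)
    have h0 : v (.inr 0) = 0 := by simpa [h1] using e0
    funext s
    rcases s with (i | i) | j
    · exact congrFun hv (.inl i.succ)
    · exact congrFun hv (.inr i.succ)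
    · fin_cases j <;> assumption
  have hfr : Module.finrank K (ι → K) = Module.finrank K (Fin (n + 1) ⊕ Fin (n + 1) → K) := by
    simp only [ι, Module.finrank_pi, Fintype.card_sum, Fintype.card_fin]; ring
  obtain ⟨φ₂, hφ₂⟩ := exists_hom_of_equiv
    (Cfsg.quadFormMinus n K (algebraMap F K a) (algebraMap F K c)) (Cfsg.quadFormPlus (n + 1) K)
    (LinearEquiv.ofBijective L ⟨hL, (LinearMap.injective_iff_surjective_of_finrank_eq_finrank hfr).1 hL⟩)
    (fun v => by
      show Cfsg.quadFormPlus (n + 1) K (L v) = _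
      simp only [L, LinearMap.coe_mk, AddHom.coe_mk, Cfsg.quadFormPlus,
        Fin.sum_univ_succ, Sum.elim_inl, Sum.elim_inr, Fin.cons_zero, Fin.cons_succ, Cfsg.quadFormMinus, ι]
      linear_combination (v (.inr 0) * v (.inr 1)) * hs + (v (.inr 1)) ^ 2 * hp)
  exact ⟨φ₂.comp φ₁, hφ₂.comp hφ₁⟩

end Cfsg.Agent.S2679
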