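import Cfsg.Statements.S2680
import Cfsg.Agent.UnipotentForms.InvolutionCentralizer

set_option autoImplicit false
open Cfsg

namespace Cfsg.Agent.S2680

/-- Centraliser order of an involution t of Sp_2m(q), q even, with s = rank(t − 1) odd (type b_s): |C(t)| = q^(2ms − (3s² − s)/2) · |Sp_(s−1)(q)| · |Sp_(2m−2s)(q)|, where |Sp_2k(q)| = q^(k²) Π_(i=1)^k (q^(2i) − 1). -/
theorem result {F : Type*} [Field F] [Fintype F] [CharP F 2] {q : ℕ} (hF : Fintype.card F = q) {m s : ℕ} (t : Matrix.symplecticGroup (Fin m) F) (ht : t ^ 2 = 1) (hs : ((t : Matrix (Fin m ⊕ Fin m) (Fin m ⊕ Fin m) F) - 1).rank = s) (hodd : Odd s) : Nat.card ↥(Subgroup.centralizer ({t} : Set ↥(Matrix.symplecticGroup (Fin m) F))) = q ^ (2 * m * s - (3 * s ^ 2 - s) / 2) * ((q : ℕ) ^ (((s - 1) / 2) ^ 2) * ∏ i : Fin ((s - 1) / 2), (q ^ (2 * ((i : ℕ) + 1)) - 1)) * ((q : ℕ) ^ ((m - s) ^ 2) * ∏ i : Fin (m - s), (q ^ (2 * ((i : ℕ) + 1)) - 1))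 := by
  open CfsgLib.UnipotentForms.CharTwoCent CfsgLib in
  classical
  subst hF
  have ht' : t * t = 1 := by rw [← pow_two]; exact ht
  have hsq0 : ((t : Matrix (Fin m ⊕ Fin m) (Fin m ⊕ Fin m) F) - 1) * ((t : Matrix (Fin m ⊕ Fin m) (Fin m ⊕ Fin m) F) - 1) = 0 := by
    have h1 : (t : Matrix (Fin m ⊕ Fin m) (Fin m ⊕ Fin m) F) * t = 1 := congrArg Subtype.val ht'
    rw [sub_mul, mul_sub, mul_sub, h1, one_mul, mul_one, one_mul]
    ext i j
    simp only [Matrix.sub_apply, Matrix.zero_apply, CharTwo.sub_eq_add]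
    linear_combination CharTwo.add_self_eq_zero ((1 : Matrix (Fin m ⊕ Fin m) (Fin m ⊕ Fin m) F) i j) +
      CharTwo.add_self_eq_zero ((t : Matrix (Fin m ⊕ Fin m) (Fin m ⊕ Fin m) F) i j)
  have hsm : s ≤ m := by
    have h := LinearMap.finrank_range_add_finrank_ker ((t : Matrix (Fin m ⊕ Fin m) (Fin m ⊕ Fin m) F) - 1).mulVecLin
    rw [Module.finrank_pi, Fintype.card_sum, Fintype.card_fin] at h
    have h2 : LinearMap.range ((t : Matrix (Fin m ⊕ Fin m) (Fin m ⊕ Fin m) F) - 1).mulVecLin ≤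
        LinearMap.ker ((t : Matrix (Fin m ⊕ Fin m) (Fin m ⊕ Fin m) F) - 1).mulVecLin := by
      rw [LinearMap.range_le_ker_iff, ← Matrix.mulVecLin_mul, hsq0, Matrix.mulVecLin_zero]
    have h3 := Submodule.finrank_mono h2
    rw [Matrix.rank] at hs
    omega
  obtain ⟨r, rfl⟩ := Nat.exists_eq_add_of_le hsm
  obtain ⟨k, rfl⟩ := hodd
  obtain ⟨t₀, ht₀⟩ := exists_model F (2 * k + 1) r
  set φ := Matrix.reindexAlgEquiv F F (idxEquiv (2 * k + 1) r) with hφdef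
  have hφ : ∀ A, φ A = Matrix.reindex (idxEquiv (2 * k + 1) r) (idxEquiv (2 * k + 1) r) A := fun A => rfl
  have ht₀2 : t₀ * t₀ = 1 := Subtype.ext (φ.injective (by
    show φ ((t₀ : Matrix (Fin (2 * k + 1 + r) ⊕ Fin (2 * k + 1 + r)) (Fin (2 * k + 1 + r) ⊕ Fin (2 * k + 1 + r)) F) * t₀) = φ 1
    rw [map_mul, map_one, hφ, ht₀]
    refine CharTwo.mul_self_eq_one_of_sq_zero _ ?_
    simp [nl, Matrix.fromBlocks_multiply]))
  have hrk : ((t₀ : Matrix (Fin (2 * k + 1 + r) ⊕ Fin (2 * k + 1 + r)) (Fin (2 * k + 1 + r) ⊕ Fin (2 * k + 1 + r)) F) - 1).rank = 2 * k + 1 := by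
    have h : φ ((t₀ : Matrix (Fin (2 * k + 1 + r) ⊕ Fin (2 * k + 1 + r)) (Fin (2 * k + 1 + r) ⊕ Fin (2 * k + 1 + r)) F) - 1) = nl F (2 * k + 1) r := by
      rw [map_sub, map_one, hφ, ht₀, add_sub_cancel_left]
    rw [← Matrix.rank_reindex (idxEquiv (2 * k + 1) r) (idxEquiv (2 * k + 1) r), ← hφ, h, rank_nl]
  have hnonalt : ∀ a : Matrix.symplecticGroup (Fin (2 * k + 1 + r)) F, a * a = 1 →
      ((a : Matrix (Fin (2 * k + 1 + r) ⊕ Fin (2 * k + 1 + r)) (Fin (2 * k + 1 + r) ⊕ Fin (2 * k + 1 + r)) F) - 1).rank = 2 * k + 1 →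
      ¬ ∀ v, Cfsg.sympForm (2 * k + 1 + r) F v
        ((a : Matrix (Fin (2 * k + 1 + r) ⊕ Fin (2 * k + 1 + r)) (Fin (2 * k + 1 + r) ⊕ Fin (2 * k + 1 + r)) F).mulVec v) = 0 := by
    intro a ha har halt
    obtain ⟨-, B, -, hBs, hBn, hBa⟩ := CharTwo.exists_induced _ (CharTwo.sympBil_preserved a) (congrArg Subtype.val ha)
    have := CharTwo.even_finrank_of_isAlt _ B rfl (hBa.2 halt) hBn
    rw [Matrix.rank] at har
    rw [har] at this
    exact absurd this (Nat.not_even_iff_odd.2 ⟨k, rfl⟩)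
  obtain ⟨c, hc⟩ := isConj_iff.1 (CharTwo.exists_symplectic_conj t₀ t ht₀2 ht' (hrk.trans hs.symm)
    (iff_of_false (hnonalt t₀ ht₀2 hrk) (hnonalt t ht' hs)))
  rw [show Nat.card ↥(Subgroup.centralizer ({t} : Set ↥(Matrix.symplecticGroup (Fin (2 * k + 1 + r)) F))) =
      Nat.card (Subgroup.centralizer ({t₀} : Set (Matrix.symplecticGroup (Fin (2 * k + 1 + r)) F))) by
    refine Nat.card_congr ((Subgroup.centralizer {t}).equivMapOfInjective (MulAut.conj c⁻¹).toMonoidHom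
      (MulAut.conj c⁻¹).injective |>.toEquiv.trans (Equiv.setCongr ?_))
    ext x
    simp only [SetLike.mem_coe, Subgroup.mem_map_equiv, Subgroup.mem_centralizer_singleton_iff, MulEquiv.coe_toMonoidHom]
    rw [← hc]
    simp [MulAut.conj_symm_apply, mul_assoc]
    rw [← mul_assoc, ← mul_assoc, mul_left_inj],
    natCard_centralizer t₀ ht₀, natCard_centSet, natCard_orthId, CfsgLib.Forms.card_symplecticGroup,
    CfsgLib.Forms.card_symplecticGroup]
  rw [show 2 * k + 1 - 1 = 2 * k by omega, Nat.mul_div_cancel_left k (by norm_num : 0 < 2),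
    Nat.add_sub_cancel_left, Fin.prod_univ_eq_prod_range (fun i => Fintype.card F ^ (2 * (i + 1)) - 1),
    Fin.prod_univ_eq_prod_range (fun i => Fintype.card F ^ (2 * (i + 1)) - 1)]
  have he : 2 * (2 * k + 1 + r) * (2 * k + 1) - (3 * (2 * k + 1) ^ 2 - (2 * k + 1)) / 2 =
      2 * r * (2 * k + 1) + (2 * k + 1 + 1).choose 2 := by
    rw [Nat.choose_two_right, show 2 * k + 1 + 1 - 1 = 2 * k + 1 by omega]
    have h1 : 3 * (2 * k + 1) ^ 2 - (2 * k + 1) = 2 * ((2 * k + 1) * (3 * k + 1)) := by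
      rw [Nat.sub_eq_iff_eq_add (by nlinarith)]; ring
    have h2 : (2 * k + 1 + 1) * (2 * k + 1) = 2 * ((k + 1) * (2 * k + 1)) := by ring
    rw [h1, h2, Nat.mul_div_cancel_left _ (by norm_num : 0 < 2), Nat.mul_div_cancel_left _ (by norm_num : 0 < 2),
      Nat.sub_eq_iff_eq_add (by nlinarith)]
    ring
  rw [he, pow_add]
  ring

end Cfsg.Agent.S2680
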