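import Cfsg.Statements.S2681
import Cfsg.Agent.UnipotentForms.SympCentralizerType

set_option autoImplicit false
open Cfsg

namespace Cfsg.Agent.S2681

/-- Centraliser order of an involution t of Sp_2m(q), q even, with s = rank(t − 1) even and f(v, tv) = 0 for every v, f the symplectic form (type a_s): |C(t)| = q^(2ms − (3s² − s)/2) · |Sp_s(q)| · |Sp_(2m−2s)(q)|. -/
theorem result {F : Type*} [Field F] [Fintype F] [CharP F 2] {q : ℕ} (hF : Fintype.card F = q) {m s : ℕ} (t : Matrix.symplecticGroup (Fin m) F) (ht : t ^ 2 = 1) (ht1 : t ≠ 1) (hs : ((t : Matrix (Fin m ⊕ Fin m) (Fin m ⊕ Fin m) F) - 1).rank = s) (heven : Even s) (halt : ∀ v : Fin m ⊕ Fin m → F, Cfsg.sympForm m F v ((t : Matrix (Fin m ⊕ Fin m) (Fin m ⊕ Fin m) F).mulVec v) = 0) : Nat.card ↥(Subgroup.centralizer ({t} : Set ↥(Matrix.symplecticGroup (Fin m) F))) = q ^ (2 * m * s - (3 * s ^ 2 - s) / 2) * ((q : ℕ) ^ ((s / 2) ^ 2) * ∏ i : Fin (s / 2), (q ^ (2 * ((i : ℕ) + 1)) - 1)) * ((q : ℕ) ^ ((m -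 s) ^ 2) * ∏ i : Fin (m - s), (q ^ (2 * ((i : ℕ) + 1)) - 1)) := by
  open CfsgLib.UnipotentForms.CharTwoCent in
  classical
  subst hF
  have ht' : t * t = 1 := by rw [← pow_two]; exact ht
  have hsm : s ≤ m := rank_le_half _ (congrArg Subtype.val ht') hs
  obtain ⟨r, rfl⟩ := Nat.exists_eq_add_of_le hsm
  obtain ⟨k, rfl⟩ := heven
  rw [natCard_centralizer_of_type (altH F k) (altH_transpose k) (altH_mul_self k) t ht' hs
      (iff_of_true halt fun i => by
        rcases h : finSumFinEquiv.symm i with j | j <;> simp [altH, Matrix.J, h]),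
    natCard_orthForm_altH, CfsgLib.Forms.card_symplecticGroup, CfsgLib.Forms.card_symplecticGroup]
  rw [show (k + k) / 2 = k by omega, Nat.add_sub_cancel_left,
    Fin.prod_univ_eq_prod_range (fun i => Fintype.card F ^ (2 * (i + 1)) - 1),
    Fin.prod_univ_eq_prod_range (fun i => Fintype.card F ^ (2 * (i + 1)) - 1)]
  have he : 2 * (k + k + r) * (k + k) - (3 * (k + k) ^ 2 - (k + k)) / 2 =
      2 * r * (k + k) + (k + k + 1).choose 2 := by
    have h1 : 3 * (k + k) ^ 2 - (k + k) = 2 * (6 * k * k - k) := by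
      rw [Nat.mul_sub]; congr 1 <;> ring
    have h2 : (k + k + 1) * (k + k + 1 - 1) = 2 * ((2 * k + 1) * k) := by
      rw [Nat.add_sub_cancel]; ring
    rw [Nat.choose_two_right, h1, h2, Nat.mul_div_cancel_left _ (by norm_num : 0 < 2),
      Nat.mul_div_cancel_left _ (by norm_num : 0 < 2)]
    have hk : k ≤ 6 * k * k := by
      rcases Nat.eq_zero_or_pos k with rfl | hk
      · simp
      · calc k = 1 * k := (one_mul k).symm
          _ ≤ 6 * k * k := Nat.mul_le_mul_right k (by omega)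
    zify [hk, show 6 * k * k - k ≤ 2 * (k + k + r) * (k + k) from le_trans (Nat.sub_le _ _) (by nlinarith)]
    ring
  rw [he, pow_add]
  ring

end Cfsg.Agent.S2681
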