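import Cfsg.Statements.S2682
import Cfsg.Agent.UnipotentForms.SympCentralizerType

set_option autoImplicit false
open Cfsg

namespace Cfsg.Agent.S2682

/-- Centraliser order of an involution t of Sp_2m(q), q even, with s = rank(t − 1) even and f(v, tv) ≠ 0 for some v, f the symplectic form (type c_s): |C(t)| = q^(2ms − (3s² − 3s)/2 − 1) · |Sp_(s−2)(q)| · |Sp_(2m−2s)(q)|. -/
theorem result {F : Type*} [Field F] [Fintype F] [CharP F 2] {q : ℕ} (hF : Fintype.card F = q) {m s : ℕ} (t : Matrix.symplecticGroup (Fin m) F) (ht : t ^ 2 = 1) (hs : ((t : Matrix (Fin m ⊕ Fin m) (Fin m ⊕ Fin m) F) - 1).rank = s) (heven : Even s) (hna : ∃ v : Fin m ⊕ Fin m → F, Cfsg.sympForm m F v ((t : Matrix (Fin m ⊕ Fin m) (Fin m ⊕ Fin m) F).mulVec v) ≠ 0) : Nat.card ↥(Subgroup.centralizer ({t} : Set ↥(Matrix.symplecticGroup (Fin m) F))) = q ^ (2 * m * s - (3 * s ^ 2 - 3 * s) / 2 - 1) * ((q : ℕ) ^ (((s - 2) / 2) ^ 2) * ∏ i : Fin ((s - 2)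 / 2), (q ^ (2 * ((i : ℕ) + 1)) - 1)) * ((q : ℕ) ^ ((m - s) ^ 2) * ∏ i : Fin (m - s), (q ^ (2 * ((i : ℕ) + 1)) - 1)) := by
  open CfsgLib.UnipotentForms.CharTwoCent in
  classical
  subst hF
  have ht' : t * t = 1 := by rw [← pow_two]; exact ht
  have hsm : s ≤ m := rank_le_half _ (congrArg Subtype.val ht') hs
  obtain ⟨r, rfl⟩ := Nat.exists_eq_add_of_le hsm
  obtain ⟨k, rfl⟩ := heven
  obtain ⟨j, rfl⟩ : ∃ j, k = j + 1 := Nat.exists_eq_succ_of_ne_zero fun hk => by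
    subst hk
    obtain ⟨v, hv⟩ := hna
    have h0 : ((t : Matrix (Fin (0 + 0 + r) ⊕ Fin (0 + 0 + r)) (Fin (0 + 0 + r) ⊕ Fin (0 + 0 + r)) F) - 1) = 0 :=
      Matrix.toLin'.injective (by
        rw [map_zero, ← LinearMap.range_eq_bot, ← Submodule.finrank_eq_zero]
        exact hs)
    rw [sub_eq_zero.1 h0, Matrix.one_mulVec, ← CfsgLib.CharTwo.sympBil_apply] at hv
    exact hv (CfsgLib.CharTwo.sympBil_self v)
  rw [natCard_centralizer_of_type (1 : Matrix (Fin (j + 1 + (j + 1))) (Fin (j + 1 + (j + 1))) F)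
      Matrix.transpose_one (Matrix.one_mul _) t ht' hs
      (iff_of_false (fun h => hna.elim fun v hv => hv (h v)) fun h => by simpa using h ⟨0, by omega⟩)]
  rw [show Nat.card (OrthForm (1 : Matrix (Fin (j + 1 + (j + 1))) (Fin (j + 1 + (j + 1))) F)) =
      Nat.card (OrthId F (2 * j + 2)) by
    rw [show 2 * j + 2 = j + 1 + (j + 1) by ring]
    exact Nat.card_congr (Equiv.subtypeEquivRight fun R => by rw [Matrix.mul_one]),
    natCard_orthId_even, CfsgLib.Forms.card_symplecticGroup, CfsgLib.Forms.card_symplecticGroup]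
  rw [show (j + 1 + (j + 1) - 2) / 2 = j by omega, Nat.add_sub_cancel_left,
    Fin.prod_univ_eq_prod_range (fun i => Fintype.card F ^ (2 * (i + 1)) - 1),
    Fin.prod_univ_eq_prod_range (fun i => Fintype.card F ^ (2 * (i + 1)) - 1)]
  have he : 2 * (j + 1 + (j + 1) + r) * (j + 1 + (j + 1)) -
      (3 * (j + 1 + (j + 1)) ^ 2 - 3 * (j + 1 + (j + 1))) / 2 - 1 =
      2 * r * (j + 1 + (j + 1)) + (j + 1 + (j + 1) + 1).choose 2 + (2 * j + 1) := by
    have h1 : 3 * (j + 1 + (j + 1)) ^ 2 - 3 * (j + 1 + (j + 1)) = 2 * (3 * (j + 1) * (2 * j + 1)) := by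
      rw [Nat.sub_eq_iff_eq_add (by nlinarith)]; ring
    have h2 : (j + 1 + (j + 1) + 1) * (j + 1 + (j + 1) + 1 - 1) = 2 * ((2 * j + 3) * (j + 1)) := by
      rw [Nat.add_sub_cancel]; ring
    rw [Nat.choose_two_right, h1, h2, Nat.mul_div_cancel_left _ (by norm_num : 0 < 2),
      Nat.mul_div_cancel_left _ (by norm_num : 0 < 2), Nat.sub_sub]
    rw [Nat.sub_eq_iff_eq_add (by nlinarith)]
    ring
  rw [he, pow_add, pow_add]
  ring

end Cfsg.Agent.S2682
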