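import Cfsg.Statements.S2683
import Cfsg.Agent.S2680
import Cfsg.Agent.UnipotentForms.SympCentralizerType
import Cfsg.Agent.UnipotentForms.OmegaCentralizer

set_option autoImplicit false
open Cfsg

namespace Cfsg.Agent.S2683

/-- For the hyperbolic form Σ x_j y_j on F^(2m) over a finite field with q elements, q even (excluding m = 2 over the field of two elements), and an involution x of the orthogonal group with s = rank(x − 1) odd (type b_s; such x lie outside Ω): the elements of Ω (the commutator subgroup of the orthogonal group) commuting with x number q^(2m(s−1) − (3s² − 3s)/2) · |Sp_(s−1)(q)| · |Sp_(2m−2s)(q)|, where |Sp_2k(q)| = q^(k²) Π_(i=1)^k (q^(2i) − 1). -/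
theorem result {F : Type*} [Field F] [Fintype F] [CharP F 2] {q : ℕ} (hF : Fintype.card F = q) {m s : ℕ} (h : Fintype.card F ≠ 2 ∨ m ≠ 2) (x : ↥(Cfsg.isometryGroup F (Cfsg.quadFormPlus m F))) (hx : x ^ 2 = 1) (hs : (((x : Matrix.GeneralLinearGroup (Fin m ⊕ Fin m) F) : Matrix (Fin m ⊕ Fin m) (Fin m ⊕ Fin m) F) - 1).rank = s) (hodd : Odd s) : Nat.card {g : ↥(Cfsg.Omega F (Cfsg.quadFormPlus m F)) // (g : ↥(Cfsg.isometryGroup F (Cfsg.quadFormPlus m F))) * x = x * (g : ↥(Cfsg.isometryGroup F (Cfsg.quadFormPlus m F)))} = q ^ (2 * m * (s - 1) - (3 * s ^ 2 - 3 * s) / 2) * ((q : ℕ) ^ (((s - 1) / 2) ^ 2) * ∏ i : Fin ((s - 1) / 2), (q ^ (2 * ((i : ℕ) + 1)) - 1)) * ((q : ℕ) ^ ((m - s) ^ 2) * ∏ i : Fin (m - s), (q ^ (2 * ((i : ℕ) + 1)) - 1)) := by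
  classical
  subst hF
  obtain ⟨x', hxm, hx'2, hty, hNA, hLT, hEQ⟩ :=
    CfsgLib.UnipotentForms.OrthTwoCent.natCard_omega_centralizer h x hx hs
  have hs' : ((x' : Matrix (Fin m ⊕ Fin m) (Fin m ⊕ Fin m) F) - 1).rank = s := by rw [hxm]; exact hs
  have hsm : s ≤ m := CfsgLib.UnipotentForms.CharTwoCent.rank_le_half _
    (congrArg Subtype.val (show x' * x' = 1 by rw [← pow_two]; exact hx'2)) hs'
  obtain ⟨r, rfl⟩ := Nat.exists_eq_add_of_le hsm
  obtain ⟨k, rfl⟩ := hodd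
  have hna : ¬ ∀ v, Cfsg.sympForm (2 * k + 1 + r) F v
      ((x' : Matrix (Fin (2 * k + 1 + r) ⊕ Fin (2 * k + 1 + r)) (Fin (2 * k + 1 + r) ⊕ Fin (2 * k + 1 + r)) F).mulVec v) = 0 := by
    intro halt
    obtain ⟨-, B, -, hBs, hBn, hBa⟩ := CfsgLib.CharTwo.exists_induced _ (CfsgLib.CharTwo.sympBil_preserved x')
      (congrArg Subtype.val (show x' * x' = 1 by rw [← pow_two]; exact hx'2))
    have := CfsgLib.CharTwo.even_finrank_of_isAlt _ B rfl (hBa.2 halt) hBn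
    rw [Matrix.rank] at hs'
    rw [hs'] at this
    exact absurd this (Nat.not_even_iff_odd.2 ⟨k, rfl⟩)
  rw [hty] at hna
  have key := hNA (not_forall.1 hna)
  rw [Cfsg.Agent.S2680.result rfl x' hx'2 hs' ⟨k, rfl⟩] at key
  refine Nat.eq_of_mul_eq_mul_right (pow_pos Fintype.card_pos _) (key.trans ?_)
  have he : 2 * (2 * k + 1 + r) * (2 * k + 1) - (3 * (2 * k + 1) ^ 2 - (2 * k + 1)) / 2 =
      (2 * (2 * k + 1 + r) * (2 * k + 1 - 1) - (3 * (2 * k + 1) ^ 2 - 3 * (2 * k + 1)) / 2) +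
        (2 * (2 * k + 1 + r) - (2 * k + 1)) := by
    have h1 : 3 * (2 * k + 1) ^ 2 - (2 * k + 1) = 2 * ((2 * k + 1) * (3 * k + 1)) := by
      rw [Nat.sub_eq_iff_eq_add (by nlinarith)]; ring
    have h2 : 3 * (2 * k + 1) ^ 2 - 3 * (2 * k + 1) = 2 * (3 * k * (2 * k + 1)) := by
      rw [Nat.sub_eq_iff_eq_add (by nlinarith)]; ring
    rw [h1, h2, Nat.mul_div_cancel_left _ (by norm_num : 0 < 2), Nat.mul_div_cancel_left _ (by norm_num : 0 < 2),
      Nat.add_sub_cancel]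
    zify [show (2 * k + 1) * (3 * k + 1) ≤ 2 * (2 * k + 1 + r) * (2 * k + 1) by nlinarith,
      show 3 * k * (2 * k + 1) ≤ 2 * (2 * k + 1 + r) * (2 * k) by nlinarith,
      show 2 * k + 1 ≤ 2 * (2 * k + 1 + r) by omega]
    ring
  rw [he, pow_add]
  ring

end Cfsg.Agent.S2683
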