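import Cfsg.Statements.S2684
import Cfsg.Agent.S2681
import Cfsg.Agent.UnipotentForms.OmegaCentralizer

set_option autoImplicit false
open Cfsg

namespace Cfsg.Agent.S2684

/-- For the hyperbolic form Q = Σ x_j y_j on F^(2m) over a finite field with q elements, q even (excluding m = 2 over the field of two elements), and an involution x ≠ 1 of the orthogonal group with s = rank(x − 1) even and Q vanishing on the image of x − 1 (equivalently f(v, xv) = 0 for all v, where f(u, w) = Q(u + w) − Q(u) − Q(w) is the bilinear form of Q; type a_s, which lies in Ω): its centraliser in Ω (the commutator subgroup of the orthogonal group) has order q^(2ms − (3s² + s)/2) · |Sp_s(q)| · |Ω⁺_(2m−2s)(q)|, where |Ω⁺_2k(q)| = q^(k(k−1)) (q^k − 1) Π_(i=1)^(k−1) (q^(2i) − 1) for k ≥ 1 and the last factor is 1 when s = m. -/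
theorem result {F : Type*} [Field F] [Fintype F] [CharP F 2] {q : ℕ} (hF : Fintype.card F = q) {m s : ℕ} (h : Fintype.card F ≠ 2 ∨ m ≠ 2) (x : ↥(Cfsg.isometryGroup F (Cfsg.quadFormPlus m F))) (hx : x ^ 2 = 1) (hx1 : x ≠ 1) (hs : (((x : Matrix.GeneralLinearGroup (Fin m ⊕ Fin m) F) : Matrix (Fin m ⊕ Fin m) (Fin m ⊕ Fin m) F) - 1).rank = s) (heven : Even s) (halt : ∀ v : Fin m ⊕ Fin m → F, Cfsg.quadFormPlus m F ((((x : Matrix.GeneralLinearGroup (Fin m ⊕ Fin m) F) : Matrix (Fin m ⊕ Fin m) (Fin m ⊕ Fin m) F) - 1).mulVec v) = 0) : Nat.card {g : ↥(Cfsg.Omega F (Cfsg.quadFormPlus m F)) // (g : ↥(Cfsg.isometryGroup F (Cfsg.quadFormPlus m F))) * x = x * (g : ↥(Cfsg.isometryGroup F (Cfsg.quadFormPlus m F)))} = q ^ (2 * m * s - (3 * s ^ 2 + s) / 2) * ((q : ℕ) ^ ((s / 2) ^ 2) * ∏ i : Fin (s / 2), (q ^ (2 * ((i : ℕ) + 1)) - 1)) * (if s = m then 1 else q ^ ((m - s) * (m - s - 1)) * (q ^ (m - s) - 1) * ∏ i : Fin (m - s - 1), (q ^ (2 * ((i : ℕ) + 1)) - 1)) := by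
  classical
  subst hF
  obtain ⟨x', hxm, hx'2, hty, hNA, hLT, hEQ⟩ :=
    CfsgLib.UnipotentForms.OrthTwoCent.natCard_omega_centralizer h x hx hs
  have hs' : ((x' : Matrix (Fin m ⊕ Fin m) (Fin m ⊕ Fin m) F) - 1).rank = s := by rw [hxm]; exact hs
  have hsm : s ≤ m := CfsgLib.UnipotentForms.CharTwoCent.rank_le_half _
    (congrArg Subtype.val (show x' * x' = 1 by rw [← pow_two]; exact hx'2)) hs'
  have hx'1 : x' ≠ 1 := fun he => hx1 (Subtype.ext (Units.ext (by
    rw [← hxm, he]; rfl)))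
  have hC := Cfsg.Agent.S2681.result rfl x' hx'2 hx'1 hs' heven (hty.2 halt)
  obtain ⟨r, rfl⟩ := Nat.exists_eq_add_of_le hsm
  obtain ⟨k, rfl⟩ := heven
  have h1 : 3 * (k + k) ^ 2 - (k + k) = 2 * (6 * k * k - k) := by
    rw [Nat.mul_sub]; congr 1 <;> ring
  have h2 : 3 * (k + k) ^ 2 + (k + k) = 2 * (6 * k * k + k) := by ring
  have hk : k ≤ 6 * k * k := by
    rcases Nat.eq_zero_or_pos k with rfl | hk
    · simp
    · calc k = 1 * k := (one_mul k).symm
        _ ≤ 6 * k * k := Nat.mul_le_mul_right k (by omega)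
  rw [h2, Nat.mul_div_cancel_left _ (by norm_num : 0 < 2)]
  rw [h1, Nat.mul_div_cancel_left _ (by norm_num : 0 < 2)] at hC
  have hkk : k ≤ 2 * k * k := by
    rcases Nat.eq_zero_or_pos k with rfl | hk'
    · simp
    · calc k = 1 * k := (one_mul k).symm
        _ ≤ 2 * k * k := Nat.mul_le_mul_right k (by omega)
  have hle : 6 * k * k + k ≤ 2 * (k + k + r) * (k + k) := by nlinarith
  rcases Nat.eq_zero_or_pos r with rfl | hr
  · have key := hEQ halt (by omega)
    rw [hC] at key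
    refine Nat.eq_of_mul_eq_mul_right (pow_pos Fintype.card_pos (k + k + 0)) (key.trans ?_)
    rw [if_pos (by omega)]
    have he : 2 * (k + k + 0) * (k + k) - (6 * k * k - k) =
        (2 * (k + k + 0) * (k + k) - (6 * k * k + k)) + (k + k + 0) := by
      zify [hk, hle, show 6 * k * k - k ≤ 2 * (k + k + 0) * (k + k) by omega]
      ring
    rw [he, pow_add]
    rw [Fin.prod_univ_eq_prod_range (fun i => Fintype.card F ^ (2 * (i + 1)) - 1) (k + k + 0 - (k + k)),
      show k + k + 0 - (k + k) = 0 by omega, Finset.prod_range_zero]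
    ring
  · have key := hLT halt (by omega)
    rw [hC] at key
    refine Nat.eq_of_mul_eq_mul_right (by positivity [Fintype.card_pos (α := F)]) (key.trans ?_)
    obtain ⟨u, rfl⟩ : ∃ u, r = u + 1 := ⟨r - 1, by omega⟩
    rw [if_neg (by omega), Nat.add_sub_cancel_left, Nat.add_sub_cancel,
      show 2 * (k + k + (u + 1)) - (k + k) = (u + 1) + (k + k + (u + 1)) by omega,
      Fin.prod_univ_eq_prod_range (fun i => Fintype.card F ^ (2 * (i + 1)) - 1),
      Fin.prod_univ_eq_prod_range (fun i => Fintype.card F ^ (2 * (i + 1)) - 1),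
      Fin.prod_univ_eq_prod_range (fun i => Fintype.card F ^ (2 * (i + 1)) - 1), Finset.prod_range_succ,
      show Fintype.card F ^ (2 * (u + 1)) - 1 = (Fintype.card F ^ (u + 1) + 1) * (Fintype.card F ^ (u + 1) - 1) by
        rw [← Nat.sq_sub_sq, one_pow, ← pow_mul, mul_comm (u + 1)]]
    have he : 2 * (k + k + (u + 1)) * (k + k) - (6 * k * k - k) + (u + 1) ^ 2 =
        (2 * (k + k + (u + 1)) * (k + k) - (6 * k * k + k)) + (u + 1) * u + (k + k + (u + 1)) := by
      zify [hk, hle, show 6 * k * k - k ≤ 2 * (k + k + (u + 1)) * (k + k) by omega]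
      ring
    calc _ = Fintype.card F ^ (2 * (k + k + (u + 1)) * (k + k) - (6 * k * k - k) + (u + 1) ^ 2) *
          ((Fintype.card F ^ ((k + k) / 2) ^ 2 * ∏ i ∈ Finset.range ((k + k) / 2), (Fintype.card F ^ (2 * (i + 1)) - 1)) *
          ((∏ i ∈ Finset.range u, (Fintype.card F ^ (2 * (i + 1)) - 1)) *
            ((Fintype.card F ^ (u + 1) + 1) * (Fintype.card F ^ (u + 1) - 1)))) := by
            rw [pow_add (Fintype.card F) (2 * (k + k + (u + 1)) * (k + k) - (6 * k * k - k))]; ring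
      _ = _ := by rw [he, pow_add, pow_add]; ring

end Cfsg.Agent.S2684
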