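import Cfsg.Statements.S2685
import Cfsg.Agent.S2682
import Cfsg.Agent.UnipotentForms.OmegaCentralizer

set_option autoImplicit false
open Cfsg

namespace Cfsg.Agent.S2685

/-- For the hyperbolic form Q = Σ x_j y_j on F^(2m) over a finite field with q elements, q even (excluding m = 2 over the field of two elements), and an involution x of the orthogonal group with s = rank(x − 1) even and Q not vanishing on the image of x − 1 (f(v, xv) ≠ 0 for some v, where f(u, w) = Q(u + w) − Q(u) − Q(w) is the bilinear form of Q; type c_s, which lies in Ω): its centraliser in Ω (the commutator subgroup of the orthogonal group) has order q^(2m(s−1) − (3s² − 5s)/2 − 1) · |Sp_(s−2)(q)| · |Sp_(2m−2s)(q)|. -/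
theorem result {F : Type*} [Field F] [Fintype F] [CharP F 2] {q : ℕ} (hF : Fintype.card F = q) {m s : ℕ} (h : Fintype.card F ≠ 2 ∨ m ≠ 2) (x : ↥(Cfsg.isometryGroup F (Cfsg.quadFormPlus m F))) (hx : x ^ 2 = 1) (hs : (((x : Matrix.GeneralLinearGroup (Fin m ⊕ Fin m) F) : Matrix (Fin m ⊕ Fin m) (Fin m ⊕ Fin m) F) - 1).rank = s) (heven : Even s) (hna : ∃ v : Fin m ⊕ Fin m → F, Cfsg.quadFormPlus m F ((((x : Matrix.GeneralLinearGroup (Fin m ⊕ Fin m) F) : Matrix (Fin m ⊕ Fin m) (Fin m ⊕ Fin m) F) - 1).mulVec v) ≠ 0) : Nat.card {g : ↥(Cfsg.Omega F (Cfsg.quadFormPlus m F)) // (g : ↥(Cfsg.isometryGroup F (Cfsg.quadFormPlus m F))) * x = x * (g : ↥(Cfsg.isometryGroup F (Cfsg.quadFormPlus m F)))} = q ^ (2 * m * (s - 1) - (3 * s ^ 2 - 5 * s) / 2 - 1) * ((q : ℕ) ^ (((s - 2) / 2) ^ 2) * ∏ i : Fin ((s - 2) / 2), (q ^ (2 * ((i : ℕ) + 1)) - 1)) * ((q : ℕ) ^ ((m - s) ^ 2) * ∏ i : Fin (m - s), (q ^ (2 * ((i : ℕ) + 1))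 - 1)) := by
  classical
  subst hF
  obtain ⟨x', hxm, hx'2, hty, hNA, hLT, hEQ⟩ :=
    CfsgLib.UnipotentForms.OrthTwoCent.natCard_omega_centralizer h x hx hs
  have hs' : ((x' : Matrix (Fin m ⊕ Fin m) (Fin m ⊕ Fin m) F) - 1).rank = s := by rw [hxm]; exact hs
  have hsm : s ≤ m := CfsgLib.UnipotentForms.CharTwoCent.rank_le_half _
    (congrArg Subtype.val (show x' * x' = 1 by rw [← pow_two]; exact hx'2)) hs'
  have hna' : ¬ ∀ v, Cfsg.sympForm m F v ((x' : Matrix (Fin m ⊕ Fin m) (Fin m ⊕ Fin m) F).mulVec v) = 0 := by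
    rw [hty]; exact not_forall.2 hna
  have key := hNA hna
  rw [Cfsg.Agent.S2682.result rfl x' hx'2 hs' heven (not_forall.1 hna')] at key
  refine Nat.eq_of_mul_eq_mul_right (pow_pos Fintype.card_pos _) (key.trans ?_)
  obtain ⟨r, rfl⟩ := Nat.exists_eq_add_of_le hsm
  obtain ⟨k, rfl⟩ := heven
  obtain ⟨j, rfl⟩ : ∃ j, k = j + 1 := Nat.exists_eq_succ_of_ne_zero fun hk => by
    subst hk
    obtain ⟨v, hv⟩ := hna
    refine hv ?_
    have h0 : (((x : Matrix.GeneralLinearGroup (Fin (0 + 0 + r) ⊕ Fin (0 + 0 + r)) F) :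
        Matrix (Fin (0 + 0 + r) ⊕ Fin (0 + 0 + r)) (Fin (0 + 0 + r) ⊕ Fin (0 + 0 + r)) F) - 1) = 0 :=
      Matrix.toLin'.injective (by
        rw [map_zero, ← LinearMap.range_eq_bot, ← Submodule.finrank_eq_zero]
        exact hs)
    rw [h0, Matrix.zero_mulVec]
    simp [Cfsg.quadFormPlus]
  have he : 2 * (j + 1 + (j + 1) + r) * (j + 1 + (j + 1)) -
      (3 * (j + 1 + (j + 1)) ^ 2 - 3 * (j + 1 + (j + 1))) / 2 - 1 =
      (2 * (j + 1 + (j + 1) + r) * (j + 1 + (j + 1) - 1) -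
        (3 * (j + 1 + (j + 1)) ^ 2 - 5 * (j + 1 + (j + 1))) / 2 - 1) +
        (2 * (j + 1 + (j + 1) + r) - (j + 1 + (j + 1))) := by
    have h1 : 3 * (j + 1 + (j + 1)) ^ 2 - 3 * (j + 1 + (j + 1)) = 2 * (3 * (j + 1) * (2 * j + 1)) := by
      rw [Nat.sub_eq_iff_eq_add (by nlinarith)]; ring
    have h2 : 3 * (j + 1 + (j + 1)) ^ 2 - 5 * (j + 1 + (j + 1)) = 2 * ((j + 1) * (6 * j + 1)) := by
      rw [Nat.sub_eq_iff_eq_add (by nlinarith)]; ring
    rw [h1, h2, Nat.mul_div_cancel_left _ (by norm_num : 0 < 2),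
      Nat.mul_div_cancel_left _ (by norm_num : 0 < 2), show j + 1 + (j + 1) - 1 = 2 * j + 1 by omega,
      Nat.sub_sub, Nat.sub_sub]
    zify [show 3 * (j + 1) * (2 * j + 1) + 1 ≤ 2 * (j + 1 + (j + 1) + r) * (j + 1 + (j + 1)) by nlinarith,
      show (j + 1) * (6 * j + 1) + 1 ≤ 2 * (j + 1 + (j + 1) + r) * (2 * j + 1) by nlinarith,
      show j + 1 + (j + 1) ≤ 2 * (j + 1 + (j + 1) + r) by omega]
    ring
  rw [he, pow_add]
  ring

end Cfsg.Agent.S2685
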