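import Cfsg.Statements.S2686
import Cfsg.Agent.AutPSL.LocalBalanceLinear
-- import your own Cfsg.Agent.* helpers here

set_option autoImplicit false
open Cfsg

namespace Cfsg.Agent.S2686

/-- A criterion for the failure of local balance in almost simple groups with linear socle. Let F be a finite field of characteristic r and K = PSL_n(F) (n ≥ 2) simple. Let A be a group of automorphisms of K containing all inner automorphisms (an almost simple group with socle K), and β ∈ A an automorphism of prime order p ≠ r that is not inner-diagonal (not induced by conjugation by an invertible matrix). Then the largest normal subgroup of C_A(β) of order prime to p is nontrivial if and only if β is the composite of an inner-diagonal automorphism with the automorphism induced by a field automorphism applied entrywise (β is of field type) and p does not divide the number of fixed points of β on K. -/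
theorem result
    (F : Type*) [Field F] [Fintype F] (r : ℕ) [Fact r.Prime] [CharP F r] (n : ℕ) (hn : 2 ≤ n)
    (hK : IsSimpleGroup (Matrix.ProjectiveSpecialLinearGroup (Fin n) F))
    (𝒢 : Subgroup (MulAut (Matrix.ProjectiveSpecialLinearGroup (Fin n) F))) (hinn : ∀ k : Matrix.ProjectiveSpecialLinearGroup (Fin n) F, MulAut.conj k ∈ 𝒢)
    (p : ℕ) [Fact p.Prime] (hpr : p ≠ r) (β : MulAut (Matrix.ProjectiveSpecialLinearGroup (Fin n) F)) (hβ : β ∈ 𝒢) (hord : orderOf β = p)
    (hnot : ¬ Cfsg.IsInnerDiagonalAutPSL β) :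
    Cfsg.pPrimeCore p ↥(𝒢 ⊓ Subgroup.centralizer {β}) ≠ ⊥ ↔
      ((∃ γ φ : MulAut (Matrix.ProjectiveSpecialLinearGroup (Fin n) F), Cfsg.IsInnerDiagonalAutPSL γ ∧ Cfsg.IsFieldAutPSL φ ∧ β = φ.trans γ) ∧
        Nat.Coprime p (Nat.card ↥(MonoidHom.eqLocus β.toMonoidHom (MonoidHom.id (Matrix.ProjectiveSpecialLinearGroup (Fin n) F))))) := by
  classical
  have hpp : p.Prime := Fact.out
  have := hK
  have : Nontrivial (Fin n) := Fin.nontrivial_iff_two_le.2 hn
  have : Finite (Matrix.ProjectiveSpecialLinearGroup (Fin n) F) := Quotient.finite _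
  have hns : ¬ Group.IsSolvable (Matrix.ProjectiveSpecialLinearGroup (Fin n) F) := by
    intro h
    have hcomm : ∀ a b : Matrix.ProjectiveSpecialLinearGroup (Fin n) F, a * b = b * a :=
      IsSimpleGroup.comm_iff_isSolvable.2 h
    obtain ⟨i, j, hij⟩ : ∃ a b : Fin n, a ≠ b := exists_pair_ne _
    have h1 := CfsgLib.AutPSL.commute_of_mk_commute r
      (CfsgLib.AutPSL.xe_pow_char r i j (1 : F)) (y := CfsgLib.AutPSL.xe j i (1 : F)) (hcomm _ _)
    have h2 := congrArg (fun s : Matrix.SpecialLinearGroup (Fin n) F => s.1 i i) h1.eq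
    simp [CfsgLib.AutPSL.xe_coe hij, CfsgLib.AutPSL.xe_coe hij.symm, Matrix.mul_add, Matrix.add_mul,
      hij.symm] at h2
  have hpF : (p : F) ≠ 0 := fun h0 => hpr ((Nat.prime_dvd_prime_iff_eq
    (Fact.out : r.Prime) hpp).1 ((CharP.cast_eq_zero_iff F r p).1 h0)).symm
  have hfield : (∃ γ φ : MulAut (Matrix.ProjectiveSpecialLinearGroup (Fin n) F),
      Cfsg.IsInnerDiagonalAutPSL γ ∧ Cfsg.IsFieldAutPSL φ ∧ β = φ.trans γ) ↔ CfsgLib.AutPSL.IsSemilinear β := by
    constructor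
    · rintro ⟨γ, φ, hγ, hφ, rfl⟩
      obtain ⟨g, rfl⟩ := (CfsgLib.AutPSL.isInnerDiagonalAutPSL_iff γ).1 hγ
      obtain ⟨σ, rfl⟩ := (CfsgLib.AutPSL.isFieldAutPSL_iff φ).1 hφ
      exact ⟨g, σ, by rw [map_mul CfsgLib.AutPSL.toPSLAut]; rfl⟩
    · rintro ⟨g, σ, rfl⟩
      exact ⟨_, _, (CfsgLib.AutPSL.isInnerDiagonalAutPSL_iff _).2 ⟨g, rfl⟩,
        (CfsgLib.AutPSL.isFieldAutPSL_iff _).2 ⟨σ, rfl⟩, by rw [map_mul CfsgLib.AutPSL.toPSLAut]; rfl⟩
  rw [hfield]
  by_cases hsl : CfsgLib.AutPSL.IsSemilinear β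
  · rw [and_iff_right hsl]
    obtain ⟨g, σ, hx⟩ := hsl
    have hσ1 : σ ≠ 1 := by
      rintro rfl
      refine hnot ((CfsgLib.AutPSL.isInnerDiagonalAutPSL_iff β).2 ⟨g, ?_⟩)
      rw [hx, map_one, mul_one]
    have hx1 : (CfsgLib.AutPSL.toPSLAut (CfsgLib.AutPSL.conjSL g * CfsgLib.AutPSL.fieldSL σ)) ^ p = 1 := by
      rw [← hx, ← hord, pow_orderOf_eq_one]
    have hσ : orderOf σ = p :=
      orderOf_eq_prime ((CfsgLib.AutPSL.mul_field_pow_eq_one_iff r σ g p).1 hx1).1 hσ1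
    obtain ⟨h, hh⟩ := CfsgLib.AutPSL.isConj_field_of_pow_eq_one hn hσ hpp.pos g hx1
    exact CfsgLib.AutPSL.core_iff_of_conj 𝒢 hinn _ β _ (hx.trans hh)
      fun A' hinn' => CfsgLib.AutPSL.core_field_iff hn hns A' hinn' hpF hσ
  simp only [hsl, false_and, iff_false]
  have hp2 : p = 2 := by
    by_contra h
    exact hsl (CfsgLib.AutPSL.isSemilinear_of_odd hn β (hord ▸ hpp.odd_of_ne_two h))
  subst hp2
  have h2F : (2 : F) ≠ 0 := by exact_mod_cast hpF
  obtain ⟨h3, g, σ, hx⟩ := (CfsgLib.AutPSL.form_cases hn β).resolve_left hsl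
  rw [mul_assoc] at hx
  have hx1 : (CfsgLib.AutPSL.toPSLAut (CfsgLib.AutPSL.conjSL g *
      (CfsgLib.AutPSL.fieldSL σ * CfsgLib.AutPSL.invTransSL))) ^ 2 = 1 := by
    rw [← hx, ← hord, pow_orderOf_eq_one]
  by_cases hσ1 : σ = 1
  · subst hσ1
    rw [map_one, one_mul] at hx
    subst hx
    rw [← CfsgLib.AutPSL.graphAut] at hord ⊢
    rw [CfsgLib.AutPSL.graph_core_eq_bot h3 h2F g hord hns 𝒢 hinn, Nat.prime_two.coprime_iff_not_dvd,
      not_not]
    exact CfsgLib.AutPSL.graph_two_dvd h3 h2F g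
      (CfsgLib.AutPSL.graph_form_cases h3 h2F (hord ▸ pow_orderOf_eq_one _))
  · have hσ : orderOf σ = 2 := by
      refine orderOf_eq_prime ?_ hσ1
      have h := hx1
      rw [← map_pow, ← map_one (CfsgLib.AutPSL.toPSLAut (ι := Fin n) (F := F)),
        (CfsgLib.AutPSL.toPSLAut_injective r).eq_iff, CfsgLib.AutPSL.conjSL_graphField_sq] at h
      exact (CfsgLib.AutPSL.eq_one_of_conjSL_mul_fieldSL h).1
    obtain ⟨h, hh⟩ := CfsgLib.AutPSL.isConj_graphField_of_sq_eq_one h3 hσ g hx1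
    have hcard := CfsgLib.FixedField.card_pow σ hσ
    obtain ⟨C, hC⟩ := CfsgLib.RepBounds.Unit.exists_conjField _ hcard
    have hbar : σ = CfsgLib.AutPSU.barEquiv C := CfsgLib.AutPSL.eq_of_sq_eq_one hσ1
      (CfsgLib.AutPSU.barEquiv_ne_one C) (hσ ▸ pow_orderOf_eq_one σ)
      (CfsgLib.AutPSU.orderOf_barEquiv C ▸ pow_orderOf_eq_one (CfsgLib.AutPSU.barEquiv C))
    subst hbar
    have hconj := hx.trans hh
    set δ := CfsgLib.AutPSL.toPSLAut (CfsgLib.AutPSL.conjSL h)
    set φ := CfsgLib.AutPSL.toPSLAut (CfsgLib.AutPSL.fieldSL (CfsgLib.AutPSU.barEquiv C) *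
      CfsgLib.AutPSL.invTransSL : MulAut (Matrix.SpecialLinearGroup (Fin n) F))
    have hφord : orderOf φ = 2 := by
      rw [← hord, hconj, ← MulAut.conj_apply]
      exact ((MulAut.conj δ).orderOf_eq φ).symm
    rw [CfsgLib.AutPSL.core_iff_of_conj 𝒢 hinn δ β φ hconj
      (fun A' hinn' => CfsgLib.AutPSL.graphField_core_iff C h3 h2F hns A' hinn' hφord),
      Nat.prime_two.coprime_iff_not_dvd, not_not]
    refine (CfsgLib.AutPSL.graphField_two_dvd C h3 h2F).trans (dvd_of_eq ?_)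
    refine Nat.card_congr (Equiv.subtypeEquiv δ.toEquiv fun k => ?_)
    change φ k = k ↔ β (δ k) = δ k
    rw [hconj]
    simp [MulAut.mul_apply, MulAut.inv_def]

end Cfsg.Agent.S2686
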