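import Cfsg.Statements.S2687
import Cfsg.Agent.AutPSU.LocalBalanceUnitary
-- import your own Cfsg.Agent.* helpers here

set_option autoImplicit false
open Cfsg

namespace Cfsg.Agent.S2687

open CfsgLib.AutPSU in
theorem not_three_two {F : Type*} [Field F] [Fintype F] {q n : ℕ} (hF : Fintype.card F = q ^ 2)
    (hK : IsSimpleGroup (Cfsg.PSU n F q)) : ¬ (n = 3 ∧ q = 2) := by
  rintro ⟨rfl, rfl⟩
  obtain ⟨hc, hsol⟩ := Cfsg.Agent.S0282.result (F := F) hF
  have hcomm : ∀ a b : Cfsg.PSU 3 F 2, a * b = b * a := IsSimpleGroup.comm_iff_isSolvable.2 hsol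
  have : Finite (Cfsg.PSU 3 F 2) := Quotient.finite _
  have : Fact (Nat.Prime 2) := ⟨Nat.prime_two⟩
  obtain ⟨x, hx⟩ := exists_prime_orderOf_dvd_card' (G := Cfsg.PSU 3 F 2) 2 (by rw [hc]; norm_num)
  have hn : (Subgroup.zpowers x).Normal := ⟨fun a ha b => by rwa [hcomm b a, mul_inv_cancel_right]⟩
  rcases hn.eq_bot_or_eq_top with h | h
  · rw [Subgroup.zpowers_eq_bot] at h
    rw [h, orderOf_one] at hx
    omega
  · have := Nat.card_zpowers x
    rw [h, Subgroup.card_top, hc, hx] at this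
    omega

/-- A criterion for the failure of local balance in almost simple groups with unitary socle. Let F be a finite field of characteristic r with q² elements and K = PSU_n(q) (n ≥ 3, the central quotient of the determinant-one isometries of the standard Hermitian form) simple. Let A be a group of automorphisms of K containing all inner automorphisms, and β ∈ A an automorphism of prime order p ≠ r that is not inner-diagonal (not induced by conjugation by a matrix of the general unitary group). Then the largest normal subgroup of C_A(β) of order prime to p is nontrivial if and only if β is the composite of an inner-diagonal automorphism with the automorphism induced by a field automorphism of F applied entrywise and p does not divide the number of fixed points of β on K. -/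
theorem result
    (F : Type*) [Field F] [Fintype F] (r : ℕ) [Fact r.Prime] [CharP F r] (q : ℕ) (hF : Fintype.card F = q ^ 2)
    (n : ℕ) (hn : 3 ≤ n) (hK : IsSimpleGroup (Cfsg.PSU n F q))
    (𝒢 : Subgroup (MulAut (Cfsg.PSU n F q))) (hinn : ∀ k : Cfsg.PSU n F q, MulAut.conj k ∈ 𝒢)
    (p : ℕ) [Fact p.Prime] (hpr : p ≠ r) (β : MulAut (Cfsg.PSU n F q)) (hβ : β ∈ 𝒢) (hord : orderOf β = p)
    (hnot : ¬ Cfsg.IsInnerDiagonalAutPSU β) :
    Cfsg.pPrimeCore p ↥(𝒢 ⊓ Subgroup.centralizer {β}) ≠ ⊥ ↔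
      ((∃ γ φ : MulAut (Cfsg.PSU n F q), Cfsg.IsInnerDiagonalAutPSU γ ∧ (∃ σ : F ≃+* F, Cfsg.IsFieldAutPSUOf σ φ) ∧ β = φ.trans γ) ∧
        Nat.Coprime p (Nat.card ↥(MonoidHom.eqLocus β.toMonoidHom (MonoidHom.id (Cfsg.PSU n F q))))) := by
  classical
  have hs := not_three_two hF hK
  obtain ⟨C, rfl⟩ := CfsgLib.RepBounds.Unit.exists_conjField q hF
  have hpp : p.Prime := Fact.out
  have := hK
  have : Finite (Cfsg.PSU n F C.q) := Quotient.finite _
  have hns : ¬ Group.IsSolvable (Cfsg.PSU n F C.q) := by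
    intro h
    have hcomm : ∀ a b : Cfsg.PSU n F C.q, a * b = b * a := IsSimpleGroup.comm_iff_isSolvable.2 h
    have h2 := congrArg (Subgroup.map (QuotientGroup.mk' (Subgroup.center ↥(Cfsg.SU n F C.q))))
      (CfsgLib.AutPSU.commutator_SU_eq_top hF hn hs)
    rw [commutator_def, Subgroup.map_commutator, Subgroup.map_top_of_surjective _ (QuotientGroup.mk'_surjective _),
      show ⁅(⊤ : Subgroup (Cfsg.PSU n F C.q)), ⊤⁆ = ⊥ from
        Subgroup.commutator_eq_bot_iff_le_centralizer.2 fun a _ b _ => hcomm b a] at h2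
    exact bot_ne_top h2
  obtain ⟨g, σ, hx⟩ := CfsgLib.AutPSU.exists_semiAut hF hn hs β
  have hσ1 : σ ≠ 1 := by
    rintro rfl
    refine hnot ((CfsgLib.AutPSU.isInnerDiagonalAutPSU_iff β).2 ⟨g, ?_⟩)
    rw [hx, CfsgLib.AutPSU.semiAut, map_one, mul_one]
  have hσ : orderOf σ = p := CfsgLib.AutPSU.orderOf_field_part hF hn hs (hx ▸ hord) hσ1
  have hclass : ∃ γ φ : MulAut (Cfsg.PSU n F C.q), Cfsg.IsInnerDiagonalAutPSU γ ∧
      (∃ τ : F ≃+* F, Cfsg.IsFieldAutPSUOf τ φ) ∧ β = φ.trans γ :=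
    ⟨CfsgLib.AutPSU.toPSUAut (CfsgLib.AutPSU.conjSU g), CfsgLib.AutPSU.toPSUAut (CfsgLib.AutPSU.fieldSU σ),
      (CfsgLib.AutPSU.isInnerDiagonalAutPSU_iff _).2 ⟨g, rfl⟩,
      ⟨σ, (CfsgLib.AutPSU.isFieldAutPSUOf_iff σ _).2 rfl⟩, by rw [hx, CfsgLib.AutPSU.semiAut_eq_mul]; rfl⟩
  rw [and_iff_right hclass]
  have hpF : (p : F) ≠ 0 := fun h0 => hpr ((Nat.prime_dvd_prime_iff_eq
    (Fact.out : r.Prime) hpp).1 ((CharP.cast_eq_zero_iff F r p).1 h0)).symm
  by_cases hp2 : p = 2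
  · subst hp2
    have hbar : σ = CfsgLib.AutPSU.barEquiv C := CfsgLib.AutPSL.eq_of_sq_eq_one hσ1
      (CfsgLib.AutPSU.barEquiv_ne_one C) (hσ ▸ pow_orderOf_eq_one σ)
      (CfsgLib.AutPSU.orderOf_barEquiv C ▸ pow_orderOf_eq_one (CfsgLib.AutPSU.barEquiv C))
    subst hbar
    subst hx
    have h2F : (2 : F) ≠ 0 := by exact_mod_cast hpF
    obtain ⟨D, hD⟩ := CfsgLib.AutPSU.exists_barData C hn h2F g (hord ▸ pow_orderOf_eq_one _)
    exact D.core_iff hn h2F 𝒢 hinn hD hord hns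
  obtain ⟨h, hh⟩ := CfsgLib.AutPSU.isConj_field_of_pow_eq_one hF hn hs hσ (hpp.odd_of_ne_two hp2) g
    (by rw [← CfsgLib.AutPSU.semiAut, ← hx, ← hord, pow_orderOf_eq_one])
  set δ := CfsgLib.AutPSU.toPSUAut (CfsgLib.AutPSU.conjSU h) with hδ
  set φ := CfsgLib.AutPSU.toPSUAut (CfsgLib.AutPSU.fieldSU (n := n) (q := C.q) σ) with hφ
  rw [← CfsgLib.AutPSU.semiAut, ← hx] at hh
  have hxφ : δ⁻¹ * β * δ = φ := by rw [hh]; group
  let A' := 𝒢.map (MulAut.conj δ⁻¹).toMonoidHom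
  have hinn' : ∀ k, MulAut.conj k ∈ A' := fun k => by
    refine ⟨MulAut.conj (δ k), hinn _, ?_⟩
    ext1 y
    simp [MulAut.mul_apply, MulAut.inv_def]
  have hmemA : ∀ y, y ∈ A' ↔ δ * y * δ⁻¹ ∈ 𝒢 := by
    intro y
    constructor
    · rintro ⟨a, ha, rfl⟩
      simpa [mul_assoc] using ha
    · intro hy
      exact ⟨_, hy, by simp [mul_assoc]⟩
  let e : ↥(𝒢 ⊓ Subgroup.centralizer {β}) ≃* ↥(A' ⊓ Subgroup.centralizer {φ}) :=
    { toFun := fun a => ⟨δ⁻¹ * a.1 * δ, (hmemA _).2 (by simpa [mul_assoc] using a.2.1),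
        Subgroup.mem_centralizer_singleton_iff.2 (by
          have h1 := Subgroup.mem_centralizer_singleton_iff.1 a.2.2
          rw [← hxφ]
          calc δ⁻¹ * a.1 * δ * (δ⁻¹ * β * δ) = δ⁻¹ * (a.1 * β) * δ := by group
            _ = δ⁻¹ * (β * a.1) * δ := by rw [h1]
            _ = _ := by group)⟩
      invFun := fun a => ⟨δ * a.1 * δ⁻¹, (hmemA _).1 a.2.1, Subgroup.mem_centralizer_singleton_iff.2 (by
          have h1 := Subgroup.mem_centralizer_singleton_iff.1 a.2.2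
          rw [hh]
          calc δ * a.1 * δ⁻¹ * (δ * φ * δ⁻¹) = δ * (a.1 * φ) * δ⁻¹ := by group
            _ = δ * (φ * a.1) * δ⁻¹ := by rw [h1]
            _ = _ := by group)⟩
      left_inv := fun a => Subtype.ext (by simp [mul_assoc])
      right_inv := fun a => Subtype.ext (by simp [mul_assoc])
      map_mul' := fun a b => Subtype.ext (by simp [mul_assoc]) }
  have hcard : Nat.card ↥(MonoidHom.eqLocus β.toMonoidHom (MonoidHom.id (Cfsg.PSU n F C.q))) =
      Nat.card ↥(MonoidHom.eqLocus φ.toMonoidHom (MonoidHom.id (Cfsg.PSU n F C.q))) := by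
    refine Nat.card_congr (Equiv.subtypeEquiv (δ⁻¹).toEquiv fun k => ?_)
    change β k = k ↔ φ (δ⁻¹ k) = δ⁻¹ k
    rw [← hxφ]
    simp [MulAut.mul_apply, MulAut.inv_def]
  rw [hcard, ← CfsgLib.AutPSU.core_field_iff C hn hs A' hinn' hp2 hpF hσ]
  exact ⟨CfsgLib.AutPSL.pPrimeCore_ne_bot_congr e, CfsgLib.AutPSL.pPrimeCore_ne_bot_congr e.symm⟩

end Cfsg.Agent.S2687
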