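import Cfsg.Statements.S2697
import Cfsg.Agent.AutPSL.GraphField

set_option autoImplicit false
open Cfsg

namespace Cfsg.Agent.S2697

/-- Let T = PSL_n(F) be simple over a finite field (n ≥ 2; |F| ≥ 4 when n = 2) and let x be a field automorphism or a graph-field automorphism of T of prime order r. Then an element y of the coset Inndiag(T)·x (that is, y = δ x with δ in the inner-diagonal group, the image of PGL_n(F)) has order r if and only if y is conjugate to x by an element of Inndiag(T). -/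
theorem result {F : Type*} [Field F] [Fintype F] {p f : ℕ} [Fact p.Prime] (hF : Fintype.card F = p ^ f) (hf : 1 ≤ f) {n : ℕ} (hn : 2 ≤ n) (hs : n = 2 → 4 ≤ Fintype.card F) (x δ : MulAut (Matrix.ProjectiveSpecialLinearGroup (Fin n) F)) (hx : Cfsg.IsFieldAutClassPSL x ∨ Cfsg.IsGraphFieldAutClassPSL x) {r : ℕ} (hr : r.Prime) (hxr : orderOf x = r) (hδ : δ ∈ Cfsg.inndiagPSL n F) :
    orderOf (δ * x) = r ↔ Cfsg.IsConjUnder (Cfsg.inndiagPSL n F) x (δ * x) := by
  classical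
  refine ⟨fun hord => ?_, ?_⟩
  · obtain ⟨d, rfl⟩ := CfsgLib.AutPSL.mem_inndiagPSL_iff.1 hδ
    -- reduce to a standard automorphism
    obtain ⟨S, g, hxe, hstd⟩ : ∃ (S : MulAut (Matrix.SpecialLinearGroup (Fin n) F)) (g : GL (Fin n) F),
        x = CfsgLib.AutPSL.toPSLAut (CfsgLib.AutPSL.conjSL g) * CfsgLib.AutPSL.toPSLAut S *
          (CfsgLib.AutPSL.toPSLAut (CfsgLib.AutPSL.conjSL g))⁻¹ ∧
        ∀ e : GL (Fin n) F, (CfsgLib.AutPSL.toPSLAut (CfsgLib.AutPSL.conjSL e * S)) ^ r = 1 →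
          ∃ h : GL (Fin n) F, CfsgLib.AutPSL.toPSLAut (CfsgLib.AutPSL.conjSL e * S) =
            CfsgLib.AutPSL.toPSLAut (CfsgLib.AutPSL.conjSL h) * CfsgLib.AutPSL.toPSLAut S *
              (CfsgLib.AutPSL.toPSLAut (CfsgLib.AutPSL.conjSL h))⁻¹ := by
      have : Nontrivial (Fin n) := Fin.nontrivial_iff_two_le.2 hn
      rcases hx with hx | hx
      · obtain ⟨σ, g, hσ, hxe⟩ := CfsgLib.AutPSL.fieldAutClass_cases hn hx
        refine ⟨CfsgLib.AutPSL.fieldSL σ, g, hxe, fun e he => CfsgLib.AutPSL.isConj_field_of_pow_eq_one hn ?_ hr.pos e he⟩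
        rw [← CfsgLib.AutPSL.orderOf_toPSLAut_fieldSL (ι := Fin n) σ, ← hxr, hxe, ← MulAut.conj_apply,
          MulEquiv.orderOf_eq]
      · obtain ⟨hn3, σ, g, hσ, hxe⟩ := CfsgLib.AutPSL.graphFieldAutClass_cases hx
        obtain ⟨h2, hσ2⟩ := CfsgLib.AutPSL.graphField_order hn3 hr hσ (n := n) (by
          rw [← hxr, hxe, ← MulAut.conj_apply, MulEquiv.orderOf_eq])
        exact ⟨_, g, hxe, fun e he => CfsgLib.AutPSL.isConj_graphField_of_sq_eq_one hn3 hσ2 e (h2 ▸ he)⟩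
    set G := CfsgLib.AutPSL.toPSLAut (CfsgLib.AutPSL.conjSL g) with hG
    -- the translate of the standard element
    obtain ⟨e, he⟩ : ∃ e : GL (Fin n) F,
        G⁻¹ * CfsgLib.AutPSL.toPSLAut (CfsgLib.AutPSL.conjSL d) * G =
          CfsgLib.AutPSL.toPSLAut (CfsgLib.AutPSL.conjSL e) :=
      ⟨g⁻¹ * d * g, by simp [hG, map_mul, map_inv]⟩
    have hy : CfsgLib.AutPSL.toPSLAut (CfsgLib.AutPSL.conjSL d) * x =
        G * CfsgLib.AutPSL.toPSLAut (CfsgLib.AutPSL.conjSL e * S) * G⁻¹ := by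
      rw [map_mul, ← he, hxe]
      group
    obtain ⟨h, hh⟩ := hstd e (by
      have := pow_orderOf_eq_one (CfsgLib.AutPSL.toPSLAut (CfsgLib.AutPSL.conjSL d) * x)
      rwa [hord, hy, conj_pow, conj_eq_one_iff] at this)
    refine ⟨G * CfsgLib.AutPSL.toPSLAut (CfsgLib.AutPSL.conjSL h) * G⁻¹, ?_, ?_⟩
    · rw [hG, ← map_inv, ← map_mul, ← map_mul, ← map_inv, ← map_mul, ← map_mul]
      exact CfsgLib.AutPSL.mem_inndiagPSL_iff.2 ⟨_, rfl⟩
    · rw [hy, hh, hxe]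
      group
  · rintro ⟨h, -, he⟩
    rw [he, ← MulAut.conj_apply, MulEquiv.orderOf_eq, hxr]

end Cfsg.Agent.S2697
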