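import Cfsg.Statements.S2698
import Cfsg.Agent.AutPSL.GraphField

set_option autoImplicit false
open Cfsg

namespace Cfsg.Agent.S2698

open CfsgLib.AutPSL Matrix in
theorem centralizer_data {F : Type*} [Field F] [Fintype F] {n r : ℕ} (hn : 2 ≤ n) {σ : F ≃+* F}
    (hr : orderOf σ = r) (hr0 : 0 < r) (g : GL (Fin n) F) {F₀ : Type*} [Field F₀] (e : F₀ →+* F)
    (he : ∀ x : F, σ x = x ↔ x ∈ Set.range e)
    (x : MulAut (Matrix.ProjectiveSpecialLinearGroup (Fin n) F))
    (hx : x = toPSLAut (conjSL g) * toPSLAut (fieldSL σ) * (toPSLAut (conjSL g))⁻¹) (a : GL (Fin n) F) :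
    toPSLAut (conjSL a) ∈ Subgroup.centralizer ({x} : Set (MulAut (Matrix.ProjectiveSpecialLinearGroup (Fin n) F))) ↔
      ∃ (u : Fˣ) (b : GL (Fin n) F₀),
        a = Matrix.GeneralLinearGroup.scalar (Fin n) u * (g * Matrix.GeneralLinearGroup.map e b * g⁻¹) := by
  rw [Subgroup.mem_centralizer_singleton_iff]
  constructor
  · intro h
    have h' : toPSLAut (conjSL (g⁻¹ * a * g)) * toPSLAut (fieldSL σ) =
        toPSLAut (fieldSL σ) * toPSLAut (conjSL (g⁻¹ * a * g)) := by
      rw [hx] at h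
      simp only [map_mul, map_inv]
      set G := toPSLAut (conjSL g)
      set P := toPSLAut (fieldSL (ι := Fin n) σ)
      set A := toPSLAut (conjSL a)
      calc G⁻¹ * A * G * P = G⁻¹ * (A * (G * P * G⁻¹)) * G := by group
        _ = G⁻¹ * (G * P * G⁻¹ * A) * G := by rw [h]
        _ = P * (G⁻¹ * A * G) := by group
    obtain ⟨u, g₀, hg₀, hag⟩ := exists_fixed_of_commute hn hr hr0 h'
    have hent : ∀ i j, ∃ y, e y = (g₀ : Matrix (Fin n) (Fin n) F) i j := fun i j =>
      (he _).1 (congrArg (fun M : GL (Fin n) F => (M : Matrix (Fin n) (Fin n) F) i j) hg₀)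
    choose B hB using hent
    have hBmap : (Matrix.of B).map e = (g₀ : Matrix (Fin n) (Fin n) F) := Matrix.ext hB
    have hdet : (Matrix.of B).det ≠ 0 := by
      intro h0
      have := e.map_det (Matrix.of B)
      rw [h0, map_zero, RingHom.mapMatrix_apply, hBmap] at this
      exact g₀.det.ne_zero (by simp [← this])
    refine ⟨u, Matrix.GeneralLinearGroup.mkOfDetNeZero _ hdet, ?_⟩
    have hb : Matrix.GeneralLinearGroup.map e (Matrix.GeneralLinearGroup.mkOfDetNeZero _ hdet) = g₀ :=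
      Units.ext hBmap
    have hcen : Matrix.GeneralLinearGroup.scalar (Fin n) u ∈ Subgroup.center (GL (Fin n) F) := by
      rw [Matrix.GeneralLinearGroup.center_eq_range_scalar]; exact ⟨u, rfl⟩
    rw [hb, ← mul_assoc, ← mul_assoc, ← Subgroup.mem_center_iff.1 hcen g, mul_assoc g, ← hag]
    group
  · rintro ⟨u, b, rfl⟩
    have hfix : mapGL σ (Matrix.GeneralLinearGroup.map e b) = Matrix.GeneralLinearGroup.map e b :=
      Units.ext (Matrix.ext fun i j => (he _).2 ⟨(b : Matrix (Fin n) (Fin n) F₀) i j, rfl⟩)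
    have hc : toPSLAut (conjSL (Matrix.GeneralLinearGroup.map e b)) * toPSLAut (fieldSL σ) =
        toPSLAut (fieldSL σ) * toPSLAut (conjSL (Matrix.GeneralLinearGroup.map e b)) := by
      rw [← map_mul, ← map_mul, fieldSL_mul_conjSL, hfix]
    rw [map_mul conjSL, conjSL_scalar, one_mul, map_mul conjSL, map_mul conjSL, map_mul, map_mul, hx,
      map_inv, map_inv]
    set G := toPSLAut (conjSL g)
    set P := toPSLAut (fieldSL (ι := Fin n) σ)
    set B := toPSLAut (conjSL (Matrix.GeneralLinearGroup.map e b))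
    calc G * B * G⁻¹ * (G * P * G⁻¹) = G * (B * P) * G⁻¹ := by group
      _ = G * (P * B) * G⁻¹ := by rw [hc]
      _ = _ := by group

/-- Let T = PSL_n(F) be simple over the field F with p^f elements (n ≥ 2; p^f ≥ 4 when n = 2), G = Inndiag(T) the image of PGL_n(F) in Aut(T), and x a field automorphism of T of prime order r. Then r divides f; the centralizer C_G(x) is isomorphic to PGL_n(F₀) for the subfield size |F₀| = p^(f/r); and the G-class of x is the union of exactly gcd(n, (p^f − 1)/(p^(f/r) − 1)) classes under conjugation by T (the inner automorphism group). -/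
theorem result {F : Type*} [Field F] [Fintype F] {p f : ℕ} [Fact p.Prime] (hF : Fintype.card F = p ^ f) (hf : 1 ≤ f) {n : ℕ} (hn : 2 ≤ n) (hs : n = 2 → 4 ≤ Fintype.card F) (x : MulAut (Matrix.ProjectiveSpecialLinearGroup (Fin n) F)) (hx : Cfsg.IsFieldAutClassPSL x) {r : ℕ} (hr : r.Prime) (hxr : orderOf x = r) (F₀ : Type*) [Field F₀] [Fintype F₀] (hF₀ : Fintype.card F₀ = p ^ (f / r)) :
    r ∣ f ∧ Nonempty (↥(Cfsg.inndiagPSL n F ⊓ Subgroup.centralizer {x}) ≃* Matrix.ProjGenLinGroup (Fin n) F₀) ∧ Cfsg.splitClassCount (Cfsg.inndiagPSL n F) (Cfsg.Inn (Matrix.ProjectiveSpecialLinearGroup (Fin n) F)) x = Nat.gcd n ((p ^ f - 1) / (p ^ (f / r) - 1)) := by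
  classical
  open CfsgLib.AutPSL in
  obtain ⟨σ, g, hσ1, hxe⟩ := fieldAutClass_cases hn hx
  open CfsgLib.AutPSL Matrix in
  haveI : Nontrivial (Fin n) := Fin.nontrivial_iff_two_le.2 hn
  have hord : orderOf σ = r := by
    rw [← CfsgLib.AutPSL.orderOf_toPSLAut_fieldSL (ι := Fin n) σ, ← hxr, hxe, ← MulAut.conj_apply,
      MulEquiv.orderOf_eq]
  have hrf : r ∣ f := hord ▸ CfsgLib.AutPSL.orderOf_dvd_degree hF hf σ
  obtain ⟨e, he⟩ := CfsgLib.AutPSL.exists_embedding_fixed hF σ hord hr.pos hrf F₀ hF₀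
  have hC := centralizer_data hn hord hr.pos g e he x hxe
  refine ⟨hrf, ?_, ?_⟩
  · let ψ₀ : GL (Fin n) F₀ →* MulAut (Matrix.ProjectiveSpecialLinearGroup (Fin n) F) :=
      CfsgLib.AutPSL.innDiagHom.comp ((MulAut.conj g).toMonoidHom.comp (Matrix.GeneralLinearGroup.map e))
    let ψ : GL (Fin n) F₀ →* ↥(Cfsg.inndiagPSL n F ⊓ Subgroup.centralizer {x}) :=
      ψ₀.codRestrict _ fun b => ⟨CfsgLib.AutPSL.mem_inndiagPSL_iff.2 ⟨_, rfl⟩,
        (hC _).2 ⟨1, b, by rw [map_one, one_mul]; rfl⟩⟩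
    have hsurj : Function.Surjective ψ := by
      rintro ⟨y, hy, hyc⟩
      obtain ⟨a, rfl⟩ := CfsgLib.AutPSL.mem_inndiagPSL_iff.1 hy
      obtain ⟨u, b, rfl⟩ := (hC a).1 hyc
      refine ⟨b, Subtype.ext ?_⟩
      change CfsgLib.AutPSL.toPSLAut (CfsgLib.AutPSL.conjSL (g * Matrix.GeneralLinearGroup.map e b * g⁻¹)) =
        CfsgLib.AutPSL.toPSLAut (CfsgLib.AutPSL.conjSL (Matrix.GeneralLinearGroup.scalar (Fin n) u *
          (g * Matrix.GeneralLinearGroup.map e b * g⁻¹)))
      rw [map_mul CfsgLib.AutPSL.conjSL (Matrix.GeneralLinearGroup.scalar (Fin n) u), CfsgLib.AutPSL.conjSL_scalar, one_mul]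
    have hker : ψ.ker = Subgroup.center (GL (Fin n) F₀) := by
      have : ψ.ker = ψ₀.ker := MonoidHom.ker_codRestrict _ _ _
      rw [this]
      obtain ⟨p', hp'⟩ := CharP.exists F
      haveI : Fact p'.Prime := ⟨CharP.char_is_prime F p'⟩
      ext b
      rw [MonoidHom.mem_ker, Matrix.GeneralLinearGroup.center_eq_range_scalar]
      change CfsgLib.AutPSL.toPSLAut (CfsgLib.AutPSL.conjSL (g * Matrix.GeneralLinearGroup.map e b * g⁻¹)) = 1 ↔ _
      rw [map_eq_one_iff _ (CfsgLib.AutPSL.toPSLAut_injective p'), map_mul, map_mul, map_inv, conj_eq_one_iff,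
        CfsgLib.AutPSL.conjSL_eq_one_iff]
      constructor
      · rintro ⟨u, hu⟩
        have h00 := congrArg (fun M : GL (Fin n) F => (M : Matrix (Fin n) (Fin n) F) ⟨0, by omega⟩ ⟨0, by omega⟩) hu
        simp at h00
        have hb0 : (b : Matrix (Fin n) (Fin n) F₀) ⟨0, by omega⟩ ⟨0, by omega⟩ ≠ 0 := by
          intro h0
          rw [h0, map_zero] at h00
          exact u.ne_zero h00.symm
        refine ⟨Units.mk0 _ hb0, Units.ext (Matrix.ext fun i j => e.injective ?_)⟩
        have hij := congrArg (fun M : GL (Fin n) F => (M : Matrix (Fin n) (Fin n) F) i j) hu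
        simp at hij
        by_cases hij' : i = j
        · subst hij'; simp [hij, h00]
        · simp [hij', hij]
      · rintro ⟨u, rfl⟩
        refine ⟨Units.map (e : F₀ →* F) u, Units.ext (Matrix.ext fun i j => ?_)⟩
        by_cases hij' : i = j <;> simp [hij']
    exact ⟨((QuotientGroup.quotientMulEquivOfEq hker.symm).trans
      (QuotientGroup.quotientKerEquivOfSurjective ψ hsurj)).symm⟩
  · rw [CfsgLib.AutPSL.splitClassCount_eq (by omega)]
    have hdet : (((Subgroup.centralizer ({x} : Set (MulAut (Matrix.ProjectiveSpecialLinearGroup (Fin n) F)))).comap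
        CfsgLib.AutPSL.innDiagHom).map Matrix.GeneralLinearGroup.det) =
        (powMonoidHom n : Fˣ →* Fˣ).range ⊔ CfsgLib.AutPSL.fixedUnits σ := by
      refine le_antisymm ?_ (sup_le ?_ ?_)
      · rintro _ ⟨a, ha, rfl⟩
        obtain ⟨u, b, rfl⟩ := (hC a).1 ha
        rw [map_mul]
        refine Subgroup.mul_mem_sup ⟨u, ?_⟩ ?_
        · ext; simp
        · rw [map_mul, map_mul, map_inv, mul_inv_cancel_comm, CfsgLib.AutPSL.mem_fixedUnits]
          refine (he _).2 ⟨(b : Matrix (Fin n) (Fin n) F₀).det, ?_⟩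
          rw [RingHom.map_det]
          simp
      · rintro _ ⟨u, rfl⟩
        refine ⟨Matrix.GeneralLinearGroup.scalar (Fin n) u, (hC _).2 ⟨u, 1, by simp⟩, ?_⟩
        ext; simp
      · intro c hc
        obtain ⟨y, hy⟩ := (he _).1 hc
        have hy0 : y ≠ 0 := fun h => c.ne_zero (by rw [← hy, h, map_zero])
        haveI : Nonempty (Fin n) := ⟨⟨0, by omega⟩⟩
        obtain ⟨b, hb⟩ := Matrix.GeneralLinearGroup.det_surjective (n := Fin n) (Units.mk0 y hy0)
        refine ⟨g * Matrix.GeneralLinearGroup.map e b * g⁻¹, (hC _).2 ⟨1, b, by rw [map_one, one_mul]⟩, ?_⟩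
        rw [map_mul, map_mul, map_inv, mul_inv_cancel_comm]
        ext
        have hb' := congrArg (fun v : F₀ˣ => e (v : F₀)) hb
        simp [RingHom.map_det, hy] at hb'
        simpa using hb'
    rw [hdet, CfsgLib.AutPSL.index_sup_of_isCyclic, IsCyclic.index_powMonoidHom_range]
    have hcardu : Nat.card Fˣ = p ^ f - 1 := by rw [Nat.card_units, Nat.card_eq_fintype_card, hF]
    have hcardfix : Nat.card (CfsgLib.AutPSL.fixedUnits σ) = p ^ (f / r) - 1 := by
      rw [← hF₀, ← Nat.card_eq_fintype_card (α := F₀), ← Nat.card_units]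
      refine (Nat.card_eq_of_bijective (fun y : F₀ˣ => (⟨Units.map (e : F₀ →* F) y,
        (he _).2 ⟨y, rfl⟩⟩ : CfsgLib.AutPSL.fixedUnits σ)) ⟨?_, ?_⟩).symm
      · intro y y' h
        exact Units.ext (e.injective (congrArg (fun z : CfsgLib.AutPSL.fixedUnits σ => ((z : Fˣ) : F)) h))
      · rintro ⟨c, hc⟩
        obtain ⟨y, hy⟩ := (he _).1 hc
        exact ⟨Units.mk0 y (fun h => c.ne_zero (by rw [← hy, h, map_zero])), Subtype.ext (Units.ext hy)⟩
    have hidx : (CfsgLib.AutPSL.fixedUnits σ).index = (p ^ f - 1) / (p ^ (f / r) - 1) := by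
      rw [← hcardu, ← hcardfix, ← (CfsgLib.AutPSL.fixedUnits σ).card_mul_index,
        Nat.mul_div_cancel_left _ Nat.card_pos]
    have hdvd : (CfsgLib.AutPSL.fixedUnits σ).index ∣ Nat.card Fˣ := Subgroup.index_dvd_card _
    rw [hidx] at hdvd ⊢
    rw [Nat.gcd_comm (Nat.card Fˣ) n, Nat.gcd_assoc, Nat.gcd_eq_right hdvd]

end Cfsg.Agent.S2698
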