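import Cfsg.Statements.S2702
import Cfsg.Agent.GraphClass.SplitPSL
-- import your own Cfsg.Agent.* helpers here

set_option autoImplicit false
open Cfsg

namespace Cfsg.Agent.S2702

/-- Let T = PSL_n(F) over the field with q = p^f elements, n ≥ 3, G = Inndiag(T) the image of PGL_n(F), and γ an involutory graph automorphism of T. The G-class of γ is the union of exactly c T-classes, where: if n is even and q is odd, c = gcd(n/2, q − 1) when C_G(γ) is isomorphic to the projective conformal symplectic group PGSp_n(F) (symplectic type) and c = gcd(n, q − 1)/2 otherwise; and c = gcd(n, q − 1) when n is odd or q is even. -/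
theorem result {F : Type*} [Field F] [Fintype F] {p f : ℕ} [Fact p.Prime] (hF : Fintype.card F = p ^ f) (hf : 1 ≤ f) {n : ℕ} (hn : 3 ≤ n) (γ : MulAut (Matrix.ProjectiveSpecialLinearGroup (Fin n) F)) (hγ : Cfsg.IsGraphAutClassPSL γ) (hγ2 : orderOf γ = 2) :
    ((Even n ∧ Odd p ∧ Nonempty (↥(Cfsg.inndiagPSL n F ⊓ Subgroup.centralizer {γ}) ≃* Cfsg.PGSp (n / 2) F)) → Cfsg.splitClassCount (Cfsg.inndiagPSL n F) (Cfsg.Inn (Matrix.ProjectiveSpecialLinearGroup (Fin n) F)) γ = Nat.gcd (n / 2) (p ^ f - 1)) ∧ ((Even n ∧ Odd p ∧ ¬ Nonempty (↥(Cfsg.inndiagPSL n F ⊓ Subgroup.centralizer {γ}) ≃* Cfsg.PGSp (n / 2) F)) → Cfsg.splitClassCount (Cfsg.inndiagPSL n F) (Cfsg.Inn (Matrix.ProjectiveSpecialLinearGroup (Fin n) F)) γ = Nat.gcd n (p ^ f - 1) / 2) ∧ (¬ (Even n ∧ Odd p) → Cfsg.splitClassCount (Cfsg.inndiagPSL n F) (Cfsg.Inn (Matrix.ProjectiveSpecialLinearGroup (Fin n) F)) γ = Nat.gcd n (p ^ f - 1)) := by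
  classical
  obtain ⟨-, g, rfl⟩ := CfsgLib.GraphClass.isGraphAutClassPSL_iff.1 hγ
  have hB := (CfsgLib.GraphClass.orderOf_graphAut_iff hn g).1 hγ2
  have hU : Nat.card Fˣ = p ^ f - 1 := by rw [Nat.card_units, Nat.card_eq_fintype_card, hF]
  rw [CfsgLib.GraphClass.splitClassCount_graphAut hn g]
  set B := (g⁻¹ : Matrix.GeneralLinearGroup (Fin n) F).1
  obtain ⟨E⟩ := CfsgLib.GraphClass.nonempty_centralizer_graphAut hn g
  have : CharP F p := charP_of_card_eq_prime_pow hF
  have hodd2 : Odd p → (2 : F) ≠ 0 := fun ho h2 => by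
    have h : ((2 : ℕ) : F) = 0 := by exact_mod_cast h2
    have h' := Nat.le_of_dvd two_pos ((CharP.cast_eq_zero_iff F p 2).1 h)
    have := (Fact.out : p.Prime).two_le
    obtain ⟨j, hj⟩ := ho
    omega
  refine ⟨?_, ?_, ?_⟩
  · rintro ⟨⟨m, hm⟩, ho, hC⟩
    obtain ⟨k, rfl⟩ : ∃ k, m = k + 1 := ⟨m - 1, by omega⟩
    have h2 := hodd2 ho
    rw [show n / 2 = k + 1 by omega] at hC ⊢
    rcases hB.symm with hs | hs
    · exact absurd (hC.map fun E' => E.symm.trans E')
        (CfsgLib.GraphClass.not_equiv_pgsp h2 hs hB.det (by simp; omega))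
    · rw [CfsgLib.GraphClass.detSim_alt hB.det (CfsgLib.GraphClass.bil_self_of_skew h2 hs) (m := k + 1) (by omega),
        CfsgLib.GraphClass.index_powRange, hU, Nat.gcd_comm]
  · rintro ⟨⟨m, hm⟩, ho, hC⟩
    obtain ⟨k, rfl⟩ : ∃ k, m = k + 1 := ⟨m - 1, by omega⟩
    have h2 := hodd2 ho
    rw [show n / 2 = k + 1 by omega] at hC
    rcases hB.symm with hs | hs
    · have hε : orderOf (-1 : Fˣ) = 2 := by
        refine orderOf_eq_prime (by simp) fun h => h2 ?_
        have h1 : (-1 : F) = 1 := congrArg Units.val h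
        linear_combination -h1
      rw [CfsgLib.GraphClass.detSim_symm h2 hs hB.det (m := k + 1) (by omega) (by omega),
        CfsgLib.GraphClass.index_sign_powRange hε, hU, show 2 * (k + 1) = n by omega]
    · exfalso
      obtain ⟨E'⟩ := (CfsgLib.GraphClass.cong_J hB.det (CfsgLib.GraphClass.bil_self_of_skew h2 hs)
        (m := k + 1) (by simp; omega)).nonempty_projQuot
      exact hC ⟨E.trans E'⟩
  · intro h
    rw [CfsgLib.GraphClass.detSim_pow, CfsgLib.GraphClass.index_powRange, hU, Nat.gcd_comm]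
    intro x c hc
    by_cases he : Even n
    · have hp : p = 2 := by
        by_contra hp
        exact h ⟨he, (Fact.out : p.Prime).odd_of_ne_two hp⟩
      subst hp
      exact CfsgLib.GraphClass.det_of_two hB.det hc
    · obtain ⟨k, hk⟩ := Nat.not_even_iff_odd.1 he
      exact CfsgLib.GraphClass.det_of_odd hB.det (k := k) (by simpa using hk) hc

end Cfsg.Agent.S2702
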