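import Cfsg.Statements.S2703
import Cfsg.Agent.GraphClass.ModelPSL
-- import your own Cfsg.Agent.* helpers here

set_option autoImplicit false
open Cfsg

namespace Cfsg.Agent.S2703

/-- Let T = PSL_n(F) over the field with q elements, q odd, n = 2m ≥ 4 even, and ι the inverse-transpose automorphism. Its centralizer in G = Inndiag(T) (the image of PGL_n(F)) is isomorphic to the projective conformal orthogonal group of the plus-type form Σ xᵢ yᵢ in dimension n when n(q − 1)/4 is even, and to that of a minus-type form (Σ xᵢ yᵢ + z₁² + a z₁ z₂ + b z₂² with anisotropic binary part) when n(q − 1)/4 is odd. -/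
theorem result {F : Type*} [Field F] [Fintype F] (hodd : Odd (Fintype.card F)) {n m : ℕ} (hm : 2 ≤ m) (hnm : n = 2 * m) (ι : MulAut (Matrix.ProjectiveSpecialLinearGroup (Fin n) F)) (hι : Cfsg.IsInverseTransposeAutPSL ι) :
    (Even (n * (Fintype.card F - 1) / 4) → Nonempty (↥(Cfsg.inndiagPSL n F ⊓ Subgroup.centralizer {ι}) ≃* Cfsg.PGO F (Cfsg.quadFormPlus m F))) ∧ (¬ Even (n * (Fintype.card F - 1) / 4) → ∃ a b : F, (∀ z₁ z₂ : F, z₁ ^ 2 + a * z₁ * z₂ + b * z₂ ^ 2 = 0 → z₁ = 0 ∧ z₂ = 0) ∧ Nonempty (↥(Cfsg.inndiagPSL n F ⊓ Subgroup.centralizer {ι}) ≃* Cfsg.PGO F (Cfsg.quadFormMinus (m - 1) F a b))) := by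
  have h2 : (2 : F) ≠ 0 := Ring.two_ne_zero fun hc => by
    have h := FiniteField.even_card_of_char_two hc
    exact (Nat.not_even_iff_odd.2 hodd) (Nat.even_iff.2 h)
  obtain ⟨α, hα⟩ := FiniteField.exists_nonsquare (F := F) (fun hc => h2 (by
    have := ringChar.eq_iff.1 hc; exact CharTwo.two_eq_zero))
  obtain ⟨k, rfl⟩ : ∃ k, m = k + 1 := ⟨m - 1, by omega⟩
  have hι' : ι = CfsgLib.AutPSL.graphAut (1 : Matrix.GeneralLinearGroup (Fin n) F) := by
    rw [CfsgLib.AutPSL.graphAut, map_one, one_mul]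
    exact (CfsgLib.AutPSL.isInverseTransposeAutPSL_iff ι).1 hι
  obtain ⟨E⟩ := CfsgLib.GraphClass.nonempty_centralizer_graphAut (F := F) (n := n) (by omega) 1
  rw [← hι', inv_one, Units.val_one] at E
  -- the type is decided by whether `(-1)^(k+1)` is a square
  have hpar : IsSquare ((-1 : F) ^ (k + 1)) ↔ Even (n * (Fintype.card F - 1) / 4) := by
    obtain ⟨j, hj⟩ := hodd
    have e : n * (Fintype.card F - 1) / 4 = (k + 1) * j := by
      rw [hnm, hj, Nat.add_sub_cancel, show 2 * (k + 1) * (2 * j) = 4 * ((k + 1) * j) by ring]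
      omega
    rw [e, Nat.even_mul]
    rcases Nat.even_or_odd (k + 1) with hev | hod
    · obtain ⟨i, hi⟩ := hev
      simp only [show Even (k + 1) from ⟨i, hi⟩, true_or, iff_true]
      exact ⟨(-1) ^ i, by rw [← pow_add, ← hi]⟩
    · rw [hod.neg_one_pow, FiniteField.isSquare_neg_one_iff, hj]
      simp only [Nat.not_even_iff_odd.2 hod, false_or]
      rw [Nat.even_iff]
      omega
  constructor
  · intro he
    have hc : CfsgLib.GraphClass.Cong (1 : Matrix (Fin n) (Fin n) F) (CfsgLib.GraphClass.plusM F (k + 1)) := by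
      refine CfsgLib.GraphClass.cong_symm h2 Matrix.transpose_one (CfsgLib.GraphClass.plusM_transpose _)
        (by simp [hnm, two_mul]) (by rw [Matrix.det_one]; exact one_ne_zero)
        (CfsgLib.GraphClass.det_plusM_ne h2 _) ?_
      obtain ⟨r, hr⟩ := hpar.2 he
      exact ⟨(2⁻¹ : F) ^ (k + 1) * r, by rw [Matrix.det_one, CfsgLib.GraphClass.det_plusM, hr]; ring⟩
    obtain ⟨E'⟩ := hc.nonempty_projQuot
    change Nonempty (_ ≃* Cfsg.projQuot (Cfsg.Geo.quadSimilarityGroup (Cfsg.quadFormPlus (k + 1) F)))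
    rw [CfsgLib.GraphClass.quadSim_plus (k + 1) h2]
    exact ⟨E.trans E'⟩
  · intro he
    refine ⟨0, -α, CfsgLib.GraphClass.anisotropic_of_not_isSquare hα, ?_⟩
    have hns : ¬ IsSquare ((-1 : F) ^ (k + 1)) := fun h => he (hpar.1 h)
    have hα0 : α ≠ 0 := fun h => hα (h ▸ ⟨0, by simp⟩)
    have hc : CfsgLib.GraphClass.Cong (1 : Matrix (Fin n) (Fin n) F) (CfsgLib.GraphClass.minusM k α) := by
      refine CfsgLib.GraphClass.cong_symm h2 Matrix.transpose_one (CfsgLib.GraphClass.minusM_transpose _ _)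
        (by simp [hnm]; omega) (by rw [Matrix.det_one]; exact one_ne_zero) ?_ ?_
      · rw [CfsgLib.GraphClass.det_minusM]
        exact mul_ne_zero (mul_ne_zero (pow_ne_zero _ (pow_ne_zero _ (inv_ne_zero h2)))
          (pow_ne_zero _ (neg_ne_zero.2 one_ne_zero))) hα0
      · obtain ⟨r, hr⟩ := CfsgLib.Forms.isSquare_mul_of_not_isSquare hns hα
        exact ⟨(2⁻¹ : F) ^ k * r, by
          rw [Matrix.det_one, CfsgLib.GraphClass.det_minusM]
          linear_combination ((2⁻¹ : F) ^ k) ^ 2 * hr⟩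
    obtain ⟨E'⟩ := hc.nonempty_projQuot
    change Nonempty (_ ≃* Cfsg.projQuot (Cfsg.Geo.quadSimilarityGroup (Cfsg.quadFormMinus k F 0 (-α))))
    rw [CfsgLib.GraphClass.quadSim_minus k h2]
    exact ⟨E.trans E'⟩

end Cfsg.Agent.S2703
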