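import Cfsg.Statements.S2704
import Cfsg.Agent.AutPSL.GraphField
import Cfsg.Agent.AutPSL.Involution

set_option autoImplicit false
open Cfsg

namespace Cfsg.Agent.S2704

open CfsgLib.AutPSL Matrix in
theorem invTransGL_map {F : Type*} [Field F] {n : ℕ} (σ : F ≃+* F) (h : GL (Fin n) F) :
    mapGL σ (invTransGL h) = invTransGL (mapGL σ h) := by
  apply Units.ext
  change ((((h⁻¹ : GL (Fin n) F) : Matrix (Fin n) (Fin n) F).transpose).map σ) =
    (((mapGL σ h)⁻¹ : GL (Fin n) F) : Matrix (Fin n) (Fin n) F).transpose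
  rw [← map_inv (mapGL σ)]
  rfl

open CfsgLib.AutPSL Matrix in
theorem invTransGL_invTransGL {F : Type*} [Field F] {n : ℕ} (h : GL (Fin n) F) :
    invTransGL (invTransGL h) = h := Units.ext (Matrix.transpose_transpose _)

open CfsgLib.AutPSL Matrix in
theorem invTransGL_mul {F : Type*} [Field F] {n : ℕ} (a b : GL (Fin n) F) :
    invTransGL (a * b) = invTransGL a * invTransGL b := by
  apply Units.ext
  simp [invTransGL, Matrix.transpose_mul]

open CfsgLib.AutPSL Matrix in
theorem fixed_iff_mem_GU {F : Type*} [Field F] {n q₀ : ℕ} {σ : F ≃+* F} (hq : ∀ x, σ x = x ^ q₀)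
    (h : GL (Fin n) F) : mapGL σ (invTransGL h) = h ↔ h ∈ Cfsg.GU n F q₀ := by
  set M : Matrix (Fin n) (Fin n) F := ↑h with hM
  have hform : ∀ u v, Cfsg.hermForm n F q₀ (M *ᵥ u) (M *ᵥ v) =
      u ⬝ᵥ ((M.transpose * M.map σ) *ᵥ (σ ∘ v)) := by
    intro u v
    have e : ∀ i, ((M *ᵥ v) i) ^ q₀ = (M.map σ *ᵥ (σ ∘ v)) i := fun i => by
      rw [← hq]
      exact RingHom.map_mulVec σ.toRingHom M v i
    rw [← Matrix.mulVec_mulVec, Matrix.dotProduct_mulVec, Matrix.vecMul_transpose]
    unfold Cfsg.hermForm dotProduct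
    exact Finset.sum_congr rfl fun i _ => by rw [e]
  have h0 : ∀ u v, Cfsg.hermForm n F q₀ u v = u ⬝ᵥ (σ ∘ v) := fun u v => by
    simp [Cfsg.hermForm, dotProduct, hq]
  have hmem : h ∈ Cfsg.GU n F q₀ ↔ M.transpose * M.map σ = 1 := by
    constructor
    · intro hh
      ext i j
      have := hh (Pi.single i 1) (Pi.single j 1)
      rw [show (Units.coeHom (Matrix (Fin n) (Fin n) F)) h = M from rfl, hform, h0] at this
      rw [show (σ ∘ (Pi.single j (1 : F) : Fin n → F)) = Pi.single j 1 by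
        funext k; by_cases hk : k = j <;> simp [hk]] at this
      rw [Matrix.mulVec_single_one, single_one_dotProduct, single_one_dotProduct] at this
      simpa [Matrix.one_apply, Pi.single_apply] using this
    · intro hh u v
      rw [show (Units.coeHom (Matrix (Fin n) (Fin n) F)) h = M from rfl, hform, hh, h0, Matrix.one_mulVec]
  rw [hmem]
  have hval : ((mapGL σ h : GL (Fin n) F) : Matrix (Fin n) (Fin n) F) = M.map σ := by
    ext i j; rfl
  have htr : ((invTransGL (mapGL σ h) : GL (Fin n) F) : Matrix (Fin n) (Fin n) F) =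
      ((M.map σ)⁻¹).transpose := by
    ext i j
    simp [invTransGL, ← hval]
  rw [invTransGL_map]
  have hu : IsUnit (M.map σ).det := by
    rw [← hval]; exact (Matrix.isUnit_iff_isUnit_det _).1 (mapGL σ h).isUnit
  constructor
  · intro e
    have e' := congrArg (fun A : GL (Fin n) F => (A : Matrix (Fin n) (Fin n) F)) e
    simp only [htr] at e'
    rw [← hM] at e'
    conv_lhs => arg 1; rw [← e', Matrix.transpose_transpose]
    exact Matrix.nonsing_inv_mul _ hu
  · intro e
    refine Units.ext ?_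
    rw [htr, Matrix.inv_eq_left_inv e, Matrix.transpose_transpose]

open CfsgLib.AutPSL Matrix in
theorem centralizer_data {F : Type*} [Field F] [Fintype F] {n q₀ : ℕ} (hn : 3 ≤ n) {σ : F ≃+* F}
    (hσ : orderOf σ = 2) (hq : ∀ x, σ x = x ^ q₀) (g : GL (Fin n) F)
    (x : MulAut (Matrix.ProjectiveSpecialLinearGroup (Fin n) F))
    (hx : x = toPSLAut (conjSL g) * toPSLAut (fieldSL σ * invTransSL) * (toPSLAut (conjSL g))⁻¹)
    (a : GL (Fin n) F) :
    toPSLAut (conjSL a) ∈ Subgroup.centralizer ({x} : Set (MulAut (Matrix.ProjectiveSpecialLinearGroup (Fin n) F))) ↔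
      ∃ (u : Fˣ) (h : GL (Fin n) F), h ∈ Cfsg.GU n F q₀ ∧
        a = Matrix.GeneralLinearGroup.scalar (Fin n) u * (g * h * g⁻¹) := by
  obtain ⟨p, hp⟩ := CharP.exists F
  have : Fact p.Prime := ⟨CharP.char_is_prime F p⟩
  have : Nontrivial (Fin n) := Fin.nontrivial_iff_two_le.2 (by omega)
  have hS : ∀ b : GL (Fin n) F, (fieldSL σ * invTransSL) * conjSL b =
      conjSL (mapGL σ (invTransGL b)) * (fieldSL σ * invTransSL) := fun b => by
    rw [mul_assoc, invTransSL_mul_conjSL, ← mul_assoc, fieldSL_mul_conjSL, mul_assoc]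
  rw [Subgroup.mem_centralizer_singleton_iff, hx]
  constructor
  · intro hh
    have h' : toPSLAut (conjSL (g⁻¹ * a * g) * (fieldSL σ * invTransSL)) =
        toPSLAut ((fieldSL σ * invTransSL) * conjSL (g⁻¹ * a * g)) := by
      simp only [map_mul, map_inv] at hh ⊢
      set G := toPSLAut (conjSL g)
      set P := toPSLAut (fieldSL (ι := Fin n) σ) * toPSLAut (invTransSL (ι := Fin n) (F := F))
      set A := toPSLAut (conjSL a)
      calc G⁻¹ * A * G * P = G⁻¹ * (A * (G * P * G⁻¹)) * G := by group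
        _ = G⁻¹ * (G * P * G⁻¹ * A) * G := by rw [hh]
        _ = P * (G⁻¹ * A * G) := by group
    rw [hS, (toPSLAut_injective p).eq_iff, mul_left_inj] at h'
    generalize hb : g⁻¹ * a * g = b at h'
    have h1 : conjSL (b * (mapGL σ (invTransGL b))⁻¹) = 1 := by
      rw [map_mul, h', map_inv, mul_inv_cancel]
    obtain ⟨u, hu⟩ := conjSL_eq_one_iff.1 h1
    rw [mul_inv_eq_iff_eq_mul] at hu
    have hσσ : ∀ y, σ (σ y) = y := fun y => by
      have h2 : σ ^ 2 = 1 := by rw [← hσ, pow_orderOf_eq_one]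
      exact RingEquiv.congr_fun (pow_two σ ▸ h2) y
    have hinv : ∀ c : GL (Fin n) F, mapGL σ (invTransGL (mapGL σ (invTransGL c))) = c := by
      intro c
      rw [← invTransGL_map, invTransGL_invTransGL]
      apply Units.ext
      ext i j
      exact hσσ _
    have hmap : ∀ v : Fˣ, mapGL σ (Matrix.GeneralLinearGroup.scalar (Fin n) v) =
        Matrix.GeneralLinearGroup.scalar (Fin n) (Units.map (σ : F →* F) v) := fun v => by
      apply Units.ext
      ext i j
      by_cases hij : i = j <;> simp [hij]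
    have hfixu : σ (u : F) = u := by
      have h2 := congrArg (fun c => mapGL σ (invTransGL c)) hu
      rw [invTransGL_mul, map_mul, hinv, invTransGL_scalar, hmap] at h2
      have h4 := hu
      rw [h2, ← mul_assoc, ← map_mul] at h4
      generalize hv : u * Units.map (σ : F →* F) u⁻¹ = v at h4
      have h5 := congrArg (fun M : GL (Fin n) F => (M : Matrix (Fin n) (Fin n) F) ⟨0, by omega⟩ ⟨0, by omega⟩)
        (right_eq_mul.1 h4)
      have hv1 : v = 1 := Units.ext (by simpa using h5)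
      rw [hv1, map_inv, mul_inv_eq_one] at hv
      exact (congrArg Units.val hv).symm
    obtain ⟨c, hc⟩ := exists_unitsNorm_eq hσ two_pos hfixu
    refine ⟨c, Matrix.GeneralLinearGroup.scalar (Fin n) c⁻¹ * b, (fixed_iff_mem_GU hq _).1 ?_, ?_⟩
    · rw [invTransGL_mul, map_mul, invTransGL_scalar, inv_inv]
      conv_rhs => rw [hu]
      rw [← mul_assoc]
      congr 1
      have hcu : c⁻¹ * u = Units.map (σ : F →* F) c := by
        rw [← hc]
        apply Units.ext
        simp [unitsNorm, Finset.prod_range_succ]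
      rw [← map_mul, hcu, hmap]
    · have hcen : Matrix.GeneralLinearGroup.scalar (Fin n) c⁻¹ ∈ Subgroup.center (GL (Fin n) F) := by
        rw [Matrix.GeneralLinearGroup.center_eq_range_scalar]; exact ⟨_, rfl⟩
      rw [← mul_assoc g, Subgroup.mem_center_iff.1 hcen g, ← hb, map_inv]
      group
  · rintro ⟨u, h, hh, rfl⟩
    have hfix := (fixed_iff_mem_GU hq h).2 hh
    have hc : toPSLAut (conjSL h) * toPSLAut (fieldSL σ * invTransSL) =
        toPSLAut (fieldSL σ * invTransSL) * toPSLAut (conjSL h) := by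
      rw [← map_mul, ← map_mul, hS, hfix]
    rw [map_mul conjSL, conjSL_scalar, one_mul, map_mul conjSL, map_mul conjSL, map_mul, map_mul,
      map_inv, map_inv]
    set G := toPSLAut (conjSL g)
    set P := toPSLAut (fieldSL σ * invTransSL : MulAut (Matrix.SpecialLinearGroup (Fin n) F))
    set B := toPSLAut (conjSL h)
    calc G * B * G⁻¹ * (G * P * G⁻¹) = G * (B * P) * G⁻¹ := by group
      _ = G * (P * B) * G⁻¹ := by rw [hc]
      _ = _ := by group

/-- Let T = PSL_n(F) over the field F with p^f elements, n ≥ 3, and G = Inndiag(T) the image of PGL_n(F). If x is an involutory graph-field automorphism of T then f is even; x is G-conjugate to every other involutory graph-field automorphism; C_G(x) is isomorphic to the projective general unitary group PGU_n(q₀) with q₀² = p^f, realised over F itself through the Hermitian form Σ uᵢ vᵢ^{q₀}; and the G-class of x is the union of exactly gcd(n, q₀ − 1) T-classes. -/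
theorem result {F : Type*} [Field F] [Fintype F] {p f : ℕ} [Fact p.Prime] (hF : Fintype.card F = p ^ f) (hf : 1 ≤ f) {n : ℕ} (hn : 3 ≤ n) (x : MulAut (Matrix.ProjectiveSpecialLinearGroup (Fin n) F)) (hx : Cfsg.IsGraphFieldAutClassPSL x) (hx2 : orderOf x = 2) :
    Even f ∧ (∀ y : MulAut (Matrix.ProjectiveSpecialLinearGroup (Fin n) F), Cfsg.IsGraphFieldAutClassPSL y → orderOf y = 2 → Cfsg.IsConjUnder (Cfsg.inndiagPSL n F) x y) ∧ Nonempty (↥(Cfsg.inndiagPSL n F ⊓ Subgroup.centralizer {x}) ≃* Cfsg.PGU n F (p ^ (f / 2))) ∧ Cfsg.splitClassCount (Cfsg.inndiagPSL n F) (Cfsg.Inn (Matrix.ProjectiveSpecialLinearGroup (Fin n) F)) x = Nat.gcd n (p ^ (f / 2) - 1) := by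
  classical
  obtain ⟨-, σ, g, hσ1, hxe⟩ := CfsgLib.AutPSL.graphFieldAutClass_cases hx
  have hord : ∀ (y : MulAut (Matrix.ProjectiveSpecialLinearGroup (Fin n) F)) (τ : F ≃+* F) (k : GL (Fin n) F),
      τ ≠ 1 → orderOf y = 2 → y = CfsgLib.AutPSL.toPSLAut (CfsgLib.AutPSL.conjSL k) *
        CfsgLib.AutPSL.toPSLAut (CfsgLib.AutPSL.fieldSL τ * CfsgLib.AutPSL.invTransSL) *
        (CfsgLib.AutPSL.toPSLAut (CfsgLib.AutPSL.conjSL k))⁻¹ → orderOf τ = 2 := fun y τ k hτ hy2 hy =>
    (CfsgLib.AutPSL.graphField_order hn Nat.prime_two hτ (n := n) (by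
      rw [← hy2, hy, ← MulAut.conj_apply, MulEquiv.orderOf_eq])).2
  have hσ := hord x σ g hσ1 hx2 hxe
  obtain ⟨hev, hcard, hq⟩ := CfsgLib.AutPSL.involution_eq_pow hF hf hσ
  set q₀ := p ^ (f / 2) with hq₀
  have hC := centralizer_data hn hσ hq g x hxe
  refine ⟨hev, ?_, ?_, ?_⟩
  · intro y hy hy2
    obtain ⟨-, τ, k, hτ1, hye⟩ := CfsgLib.AutPSL.graphFieldAutClass_cases hy
    have hτ := hord y τ k hτ1 hy2 hye
    have : τ = σ := CfsgLib.AutPSL.eq_of_sq_eq_one hτ1 hσ1 (hτ ▸ pow_orderOf_eq_one τ) (hσ ▸ pow_orderOf_eq_one σ)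
    subst this
    refine ⟨_, CfsgLib.AutPSL.mem_inndiagPSL_iff.2 ⟨k * g⁻¹, rfl⟩, ?_⟩
    rw [hye, hxe]
    simp only [map_mul, map_inv]
    group
  · let ψ₀ : ↥(Cfsg.GU n F q₀) →* MulAut (Matrix.ProjectiveSpecialLinearGroup (Fin n) F) :=
      CfsgLib.AutPSL.innDiagHom.comp ((MulAut.conj g).toMonoidHom.comp (Cfsg.GU n F q₀).subtype)
    let ψ : ↥(Cfsg.GU n F q₀) →* ↥(Cfsg.inndiagPSL n F ⊓ Subgroup.centralizer {x}) :=
      ψ₀.codRestrict _ fun b => ⟨CfsgLib.AutPSL.mem_inndiagPSL_iff.2 ⟨_, rfl⟩,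
        (hC _).2 ⟨1, b, b.2, by rw [map_one, one_mul]; rfl⟩⟩
    have hsurj : Function.Surjective ψ := by
      rintro ⟨y, hy, hyc⟩
      obtain ⟨a, rfl⟩ := CfsgLib.AutPSL.mem_inndiagPSL_iff.1 hy
      obtain ⟨u, b, hb, rfl⟩ := (hC a).1 hyc
      refine ⟨⟨b, hb⟩, Subtype.ext ?_⟩
      change CfsgLib.AutPSL.toPSLAut (CfsgLib.AutPSL.conjSL (g * b * g⁻¹)) =
        CfsgLib.AutPSL.toPSLAut (CfsgLib.AutPSL.conjSL (Matrix.GeneralLinearGroup.scalar (Fin n) u *
          (g * b * g⁻¹)))
      rw [map_mul CfsgLib.AutPSL.conjSL (Matrix.GeneralLinearGroup.scalar (Fin n) u),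
        CfsgLib.AutPSL.conjSL_scalar, one_mul]
    have hker : ψ.ker = (Cfsg.Geo.scalars (Fin n) F).subgroupOf (Cfsg.GU n F q₀) := by
      have : ψ.ker = ψ₀.ker := MonoidHom.ker_codRestrict _ _ _
      rw [this]
      haveI : CharP F p := charP_of_card_eq_prime_pow hF
      haveI : Nontrivial (Fin n) := Fin.nontrivial_iff_two_le.2 (by omega)
      ext b
      rw [MonoidHom.mem_ker, Subgroup.mem_subgroupOf]
      change CfsgLib.AutPSL.toPSLAut (CfsgLib.AutPSL.conjSL (g * (b : GL (Fin n) F) * g⁻¹)) = 1 ↔ _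
      rw [map_eq_one_iff _ (CfsgLib.AutPSL.toPSLAut_injective p), map_mul, map_mul, map_inv, conj_eq_one_iff,
        CfsgLib.AutPSL.conjSL_eq_one_iff]
      constructor
      · rintro ⟨u, hu⟩; exact ⟨u, hu.symm⟩
      · rintro ⟨u, hu⟩; exact ⟨u, hu.symm⟩
    exact ⟨((QuotientGroup.quotientMulEquivOfEq hker.symm).trans
      (QuotientGroup.quotientKerEquivOfSurjective ψ hsurj)).symm⟩
  · rw [CfsgLib.AutPSL.splitClassCount_eq (by omega)]
    have hσσ : ∀ y, σ (σ y) = y := fun y => by
      have h2 : σ ^ 2 = 1 := by rw [← hσ, pow_orderOf_eq_one]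
      exact RingEquiv.congr_fun (pow_two σ ▸ h2) y
    have hnorm : ∀ a : Fˣ, CfsgLib.AutPSL.unitsNorm σ 2 a = a * Units.map (σ : F →* F) a := fun a => by
      apply Units.ext
      simp [CfsgLib.AutPSL.unitsNorm, Finset.prod_range_succ]
    have hdet : (((Subgroup.centralizer ({x} : Set (MulAut (Matrix.ProjectiveSpecialLinearGroup (Fin n) F)))).comap
        CfsgLib.AutPSL.innDiagHom).map Matrix.GeneralLinearGroup.det) =
        (powMonoidHom n : Fˣ →* Fˣ).range ⊔ (CfsgLib.AutPSL.unitsNorm σ 2).ker := by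
      refine le_antisymm ?_ (sup_le ?_ ?_)
      · rintro _ ⟨a, ha, rfl⟩
        obtain ⟨u, b, hb, rfl⟩ := (hC a).1 ha
        rw [map_mul]
        refine Subgroup.mul_mem_sup ⟨u, ?_⟩ ?_
        · ext; simp
        · rw [map_mul, map_mul, map_inv, mul_inv_cancel_comm, MonoidHom.mem_ker, hnorm]
          have hfix := congrArg (fun A : GL (Fin n) F => Matrix.GeneralLinearGroup.det (CfsgLib.AutPSL.mapGL σ A))
            ((fixed_iff_mem_GU hq b).2 hb)
          apply Units.ext
          have h2 : ((CfsgLib.AutPSL.mapGL σ (CfsgLib.AutPSL.mapGL σ (CfsgLib.AutPSL.invTransGL b)) : GL (Fin n) F) :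
              Matrix (Fin n) (Fin n) F) = ((b⁻¹ : GL (Fin n) F) : Matrix (Fin n) (Fin n) F).transpose := by
            ext i j
            simp [CfsgLib.AutPSL.invTransGL, hσσ]
          have h3 := congrArg (fun v : Fˣ => (v : F)) hfix
          simp only [Matrix.GeneralLinearGroup.val_det_apply, h2, Matrix.det_transpose] at h3
          have h4 : ((CfsgLib.AutPSL.mapGL σ b : GL (Fin n) F) : Matrix (Fin n) (Fin n) F).det =
              σ (b : Matrix (Fin n) (Fin n) F).det := (σ.toRingHom.map_det _).symm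
          rw [Units.val_mul, Units.coe_map, MonoidHom.coe_coe, Matrix.GeneralLinearGroup.val_det_apply, ← h4,
            ← h3, ← Matrix.det_mul, ← Units.val_mul, mul_inv_cancel, Units.val_one, Matrix.det_one, Units.val_one]
      · rintro _ ⟨u, rfl⟩
        refine ⟨Matrix.GeneralLinearGroup.scalar (Fin n) u, (hC _).2 ⟨u, 1, Subgroup.one_mem _, by simp⟩, ?_⟩
        ext; simp
      · intro c hc
        rw [MonoidHom.mem_ker, hnorm] at hc
        let d : Fin n → Fˣ := fun i => if i = (⟨0, by omega⟩ : Fin n) then c else 1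
        let D : GL (Fin n) F := Units.map (Matrix.diagonalRingHom (Fin n) F).toMonoidHom (MulEquiv.piUnits.symm d)
        have hDval : (D : Matrix (Fin n) (Fin n) F) = Matrix.diagonal fun i => (d i : F) := rfl
        have hdd : ∀ i, (d i : F) * σ (d i : F) = 1 := fun i => by
          by_cases hi : i = (⟨0, by omega⟩ : Fin n)
          · simpa [d, hi] using congrArg Units.val hc
          · simp [d, hi]
        have hD : D ∈ Cfsg.GU n F q₀ := by
          intro u v
          change Cfsg.hermForm n F q₀ (Matrix.mulVec (D : Matrix (Fin n) (Fin n) F) u) (Matrix.mulVec (D : Matrix (Fin n) (Fin n) F) v) = _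
          rw [hDval]
          unfold Cfsg.hermForm
          refine Finset.sum_congr rfl fun i _ => ?_
          rw [Matrix.mulVec_diagonal, Matrix.mulVec_diagonal, mul_pow, ← hq (d i : F),
            mul_mul_mul_comm, hdd, one_mul]
        refine ⟨g * D * g⁻¹, (hC _).2 ⟨1, D, hD, by rw [map_one, one_mul]⟩, ?_⟩
        rw [map_mul, map_mul, map_inv, mul_inv_cancel_comm]
        apply Units.ext
        rw [Matrix.GeneralLinearGroup.val_det_apply, hDval, Matrix.det_diagonal]
        rw [Finset.prod_eq_single (⟨0, by omega⟩ : Fin n)]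
        · simp [d]
        · intro i _ hi; simp [d, hi]
        · simp
    rw [hdet, CfsgLib.AutPSL.index_sup_of_isCyclic, IsCyclic.index_powMonoidHom_range, Subgroup.index_ker]
    have hrange : (CfsgLib.AutPSL.unitsNorm σ 2).range = CfsgLib.AutPSL.fixedUnits σ := by
      ext c
      refine ⟨?_, fun h => CfsgLib.AutPSL.exists_unitsNorm_eq hσ two_pos h⟩
      rintro ⟨a, rfl⟩
      exact CfsgLib.AutPSL.unitsNorm_mem_fixedUnits hσ a
    rw [hrange]
    have hfix : Nat.card (CfsgLib.FixedField.fixedSub σ) = q₀ :=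
      CfsgLib.FixedField.card_fixed σ (by norm_num) hσ (by rw [hcard, pow_two])
    have hfixu : Nat.card (CfsgLib.AutPSL.fixedUnits σ) = q₀ - 1 := by
      rw [← hfix, ← Nat.card_units]
      refine Nat.card_eq_of_bijective (fun y => Units.mk0 (⟨((y : Fˣ) : F), y.2⟩ : CfsgLib.FixedField.fixedSub σ)
        (fun h => (y : Fˣ).ne_zero (congrArg Subtype.val h))) ⟨?_, ?_⟩
      · intro a b h
        have h' := congrArg (fun z : (CfsgLib.FixedField.fixedSub σ)ˣ => ((z : CfsgLib.FixedField.fixedSub σ) : F)) h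
        exact Subtype.ext (Units.ext h')
      · intro z
        have hz : ((z : CfsgLib.FixedField.fixedSub σ) : F) ≠ 0 := fun h => z.ne_zero (Subtype.ext h)
        exact ⟨⟨Units.mk0 _ hz, (z : CfsgLib.FixedField.fixedSub σ).2⟩, Units.ext (Subtype.ext rfl)⟩
    rw [hfixu, Nat.gcd_comm (Nat.card Fˣ) n, Nat.gcd_assoc]
    congr 1
    refine Nat.gcd_eq_right ?_
    rw [Nat.card_units, Nat.card_eq_fintype_card, hcard]
    refine ⟨q₀ + 1, ?_⟩
    have h1 : 1 ≤ q₀ := Nat.one_le_pow _ _ (Fact.out : p.Prime).pos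
    obtain ⟨k, hk⟩ := Nat.exists_eq_add_of_le h1
    rw [hk, Nat.add_sub_cancel_left]
    ring_nf
    omega

end Cfsg.Agent.S2704
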