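import Cfsg.Statements.S2705
import Cfsg.Agent.AutPSU.Field

set_option autoImplicit false
open Cfsg

namespace Cfsg.Agent.S2705

/-- Let T = PSU_n(q) be simple (n ≥ 3, (n, q) ≠ (3, 2), q = p^f), realised over the field F with q² elements, G = Inndiag(T) the image of PGU_n(q) in Aut(T), and x a field automorphism of T (conjugate to a standard field automorphism of odd order) of odd prime order r. Then r divides f; C_G(x) is isomorphic to PGU_n(q₀) with q₀ = p^(f/r), realised over a field F₀ with q₀² elements; and the G-class of x is the union of exactly gcd(n, (q + 1)/(q₀ + 1)) T-classes. -/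
theorem result {F : Type*} [Field F] [Fintype F] {p f q : ℕ} [Fact p.Prime] (hq : q = p ^ f) (hf : 1 ≤ f) (hF : Fintype.card F = q ^ 2) {n : ℕ} (hn : 3 ≤ n) (hs : ¬ (n = 3 ∧ q = 2)) (x : MulAut (Cfsg.PSU n F q)) (hx : Cfsg.IsFieldAutClassPSU x) {r : ℕ} (hr : r.Prime) (hro : Odd r) (hxr : orderOf x = r) (F₀ : Type*) [Field F₀] [Fintype F₀] (hF₀ : Fintype.card F₀ = p ^ (2 * (f / r))) :
    r ∣ f ∧ Nonempty (↥(Cfsg.inndiagPSU n F q ⊓ Subgroup.centralizer {x}) ≃* Cfsg.PGU n F₀ (p ^ (f / r))) ∧ Cfsg.splitClassCount (Cfsg.inndiagPSU n F q) (Cfsg.Inn (Cfsg.PSU n F q)) x = Nat.gcd n ((q + 1) / (p ^ (f / r) + 1)) := by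
  classical
  obtain ⟨α, σ, -, rfl⟩ := CfsgLib.AutPSU.fieldAutClass_cases hx
  have hord : orderOf σ = r := by
    rw [← CfsgLib.AutPSU.orderOf_field hF hn hs σ, ← hxr, ← MulAut.conj_apply, MulEquiv.orderOf_eq]
  have hF' : Fintype.card F = p ^ (2 * f) := by rw [hF, hq, ← pow_mul, mul_comm]
  have hr2f : r ∣ 2 * f := hord ▸ CfsgLib.AutPSL.orderOf_dvd_degree hF' (by omega) σ
  have hrf : r ∣ f := (Nat.coprime_two_right.2 hro).dvd_of_dvd_mul_left hr2f
  have hnorm : ∀ g, g ∈ Cfsg.inndiagPSU n F q ↔ α * g * α⁻¹ ∈ Cfsg.inndiagPSU n F q :=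
    CfsgLib.AutPSL.mem_iff_conj_mem (fun β _ h => CfsgLib.AutPSU.conj_mem_inndiagPSU hF hn hs β h) α
  have hinn : ∀ g, g ∈ Cfsg.Inn (Cfsg.PSU n F q) ↔ α * g * α⁻¹ ∈ Cfsg.Inn (Cfsg.PSU n F q) :=
    CfsgLib.AutPSL.mem_iff_conj_mem (fun β _ h => CfsgLib.AutPSL.conj_mem_inn β h) α
  obtain ⟨e, he⟩ := CfsgLib.AutPSL.exists_embedding_fixed hF' σ hord hr.pos hr2f F₀
    (by rw [hF₀, Nat.mul_div_assoc 2 hrf])
  set q₀ := p ^ (f / r) with hq₀
  have hcard₀ : Fintype.card F₀ = q₀ ^ 2 := by rw [hF₀, hq₀, ← pow_mul, mul_comm]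
  obtain ⟨k, hk⟩ := hro
  have hqq : q = (q₀ ^ 2) ^ k * q₀ := by
    rw [← pow_mul, ← pow_succ, ← hk, hq, hq₀, ← pow_mul, Nat.div_mul_cancel hrf]
  have hpow : ∀ y : F₀, y ^ q = y ^ q₀ := fun y => by
    rw [hqq, pow_mul, ← hcard₀, FiniteField.pow_card_pow]
  refine ⟨hrf, ?_, ?_⟩
  · obtain ⟨E⟩ := CfsgLib.AutPSU.nonempty_centralizer_field hF hn hs hord ⟨k, hk⟩ q₀ e he hpow
    exact ⟨(CfsgLib.AutPSL.centralizerConjEquiv _ α _ hnorm).symm.trans E⟩
  · rw [CfsgLib.AutPSL.splitClassCount_conj _ _ α _ hnorm hinn,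
      CfsgLib.AutPSU.splitClassCount_field hF hn hs hord ⟨k, hk⟩, CfsgLib.AutPSL.index_sup_of_isCyclic,
      IsCyclic.index_powMonoidHom_range, CfsgLib.AutPSU.card_normOne hF]
    set N := (CfsgLib.AutPSL.fixedUnits σ).subgroupOf (CfsgLib.AutPSU.normOne F q)
    have hN : Nat.card N = q₀ + 1 := by
      rw [← CfsgLib.AutPSU.card_normOne hcard₀]
      have hmem : ∀ y : F₀ˣ, y ^ (q₀ + 1) = 1 ↔ (Units.map (e : F₀ →* F) y) ^ (q + 1) = 1 := by
        intro y
        rw [← map_pow]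
        refine Iff.trans ?_ (map_eq_one_iff (Units.map (e : F₀ →* F))
          (Units.map_injective (f := (e : F₀ →* F)) e.injective)).symm
        rw [Units.ext_iff, Units.ext_iff, Units.val_pow_eq_pow_val, Units.val_pow_eq_pow_val, pow_succ, pow_succ, hpow]
      refine (Nat.card_eq_of_bijective
        (fun y : CfsgLib.AutPSU.normOne F₀ q₀ =>
          (⟨⟨Units.map (e : F₀ →* F) y.1, (hmem y.1).1 y.2⟩, (he _).2 ⟨_, rfl⟩⟩ : N)) ⟨?_, ?_⟩).symm
      · intro y y' h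
        exact Subtype.ext (Units.map_injective e.injective (congrArg (fun z : N => z.1.1) h))
      · rintro ⟨⟨c, hc1⟩, hc⟩
        obtain ⟨y, hy⟩ := (he _).1 hc
        have hy0 : y ≠ 0 := fun h => c.ne_zero (by
          have hy' : e y = (c : F) := hy
          rw [← hy', h, map_zero])
        have hyc : Units.map (e : F₀ →* F) (Units.mk0 y hy0) = c := Units.ext hy
        exact ⟨⟨Units.mk0 y hy0, (hmem _).2 (by rw [hyc]; exact hc1)⟩, Subtype.ext (Subtype.ext hyc)⟩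
    have hcm := N.card_mul_index
    rw [hN, CfsgLib.AutPSU.card_normOne hF] at hcm
    have hidx : N.index = (q + 1) / (q₀ + 1) := by
      rw [← hcm, Nat.mul_div_cancel_left _ (Nat.succ_pos _)]
    rw [← hidx, Nat.gcd_assoc, Nat.gcd_comm (q + 1), Nat.gcd_assoc,
      Nat.gcd_eq_left (Dvd.intro_left _ hcm)]

end Cfsg.Agent.S2705
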