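import Cfsg.Statements.S2709
import Cfsg.Agent.GraphClass.Base
import Cfsg.Agent.GraphClass.SplitPSU
-- import your own Cfsg.Agent.* helpers here

set_option autoImplicit false
open Cfsg

namespace Cfsg.Agent.S2709

/-- Let T = PSU_n(q) be simple (n ≥ 3, (n,q) ≠ (3,2), q = p^f), realised over the field F with q² elements, G = Inndiag(T) the image of PGU_n(q), and γ an involutory graph automorphism of T. The G-class of γ is the union of exactly c T-classes, where: if n is even and q is odd, c = gcd(n/2, q + 1) when C_G(γ) is isomorphic to PGSp_n(F₀) for a field F₀ with q elements (symplectic type) and c = gcd(n, q + 1)/2 otherwise; and c = gcd(n, q + 1) when n is odd or q is even. -/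
theorem result {F : Type*} [Field F] [Fintype F] {p f q : ℕ} [Fact p.Prime] (hq : q = p ^ f) (hf : 1 ≤ f) (hF : Fintype.card F = q ^ 2) {n : ℕ} (hn : 3 ≤ n) (hs : ¬ (n = 3 ∧ q = 2)) (F₀ : Type*) [Field F₀] [Fintype F₀] (hF₀ : Fintype.card F₀ = q) (γ : MulAut (Cfsg.PSU n F q)) (hγ : Cfsg.IsGraphAutClassPSU γ) (hγ2 : orderOf γ = 2) :
    ((Even n ∧ Odd q ∧ Nonempty (↥(Cfsg.inndiagPSU n F q ⊓ Subgroup.centralizer {γ}) ≃* Cfsg.PGSp (n / 2) F₀)) → Cfsg.splitClassCount (Cfsg.inndiagPSU n F q) (Cfsg.Inn (Cfsg.PSU n F q)) γ = Nat.gcd (n / 2) (q + 1)) ∧ ((Even n ∧ Odd q ∧ ¬ Nonempty (↥(Cfsg.inndiagPSU n F q ⊓ Subgroup.centralizer {γ}) ≃* Cfsg.PGSp (n / 2) F₀)) → Cfsg.splitClassCount (Cfsg.inndiagPSU n F q) (Cfsg.Inn (Cfsg.PSU n F q)) γ = Nat.gcd n (q + 1) / 2) ∧ (¬ (Even n ∧ Odd q) → Cfsg.splitClassCount (Cfsg.inndiagPSU n F q) (Cfsg.Inn (Cfsg.PSU n F q)) γ = Nat.gcd n (q + 1)) := by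
  classical
  obtain ⟨C, rfl⟩ := CfsgLib.RepBounds.Unit.exists_conjField q hF
  obtain ⟨e, hfix⟩ := CfsgLib.GraphClass.exists_base_embedding C F₀ hF₀
  obtain ⟨g, rfl⟩ := CfsgLib.GraphClass.isGraphAutClassPSU_cases hn hs hγ hγ2
  obtain ⟨B, hB, hr⟩ := CfsgLib.GraphClass.exists_rep hfix hn hs g (hγ2 ▸ pow_orderOf_eq_one _)
  obtain ⟨E⟩ := CfsgLib.GraphClass.nonempty_centralizer_rep hfix hn hs hr
  obtain ⟨D, hcount, hD⟩ := CfsgLib.GraphClass.exists_detImage hfix hn hs hr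
  rw [hcount]
  have hU : Nat.card (CfsgLib.AutPSU.normOne F C.q) = C.q + 1 := CfsgLib.AutPSU.card_normOne C.card
  have hodd2 : Odd C.q → (2 : F₀) ≠ 0 := fun ho => Ring.two_ne_zero fun hc => by
    have h := FiniteField.even_card_of_char_two hc
    rw [hF₀] at h
    exact (Nat.not_even_iff_odd.2 ho) (Nat.even_iff.2 h)
  refine ⟨?_, ?_, ?_⟩
  · rintro ⟨⟨m, hm⟩, ho, hC⟩
    obtain ⟨k, rfl⟩ : ∃ k, m = k + 1 := ⟨m - 1, by omega⟩
    have h2 := hodd2 ho
    rw [show n / 2 = k + 1 by omega] at hC ⊢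
    rcases hB.symm with hs' | hs'
    · exact absurd (hC.map fun E' => E.symm.trans E')
        (CfsgLib.GraphClass.not_equiv_pgsp h2 hs' hB.det (by simp; omega))
    · rw [CfsgLib.GraphClass.detImage_alt hfix hD hB.det (CfsgLib.GraphClass.bil_self_of_skew h2 hs')
        (m := k + 1) (by omega), CfsgLib.GraphClass.index_powRange, hU, Nat.gcd_comm]
  · rintro ⟨⟨m, hm⟩, ho, hC⟩
    obtain ⟨k, rfl⟩ : ∃ k, m = k + 1 := ⟨m - 1, by omega⟩
    have h2 := hodd2 ho
    rw [show n / 2 = k + 1 by omega] at hC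
    rcases hB.symm with hs' | hs'
    · obtain ⟨ε, hε⟩ : ∃ ε : CfsgLib.AutPSU.normOne F C.q, ((ε : Fˣ) : F) = -1 :=
        ⟨⟨-1, CfsgLib.GraphClass.normOne_iff.2 (by simp)⟩, by simp⟩
      have hεo : orderOf ε = 2 := by
        refine orderOf_eq_prime (Subtype.ext (Units.ext (by simp [hε]))) fun h => h2 ?_
        have h1 : ((ε : Fˣ) : F) = 1 := by rw [h]; simp
        rw [hε] at h1
        apply e.injective
        rw [map_ofNat, map_zero]
        linear_combination -h1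
      rw [CfsgLib.GraphClass.detImage_symm hfix hD h2 hs' hB.det (m := k + 1) (by omega) (by omega) hε,
        CfsgLib.GraphClass.index_sign_powRange hεo, hU, show 2 * (k + 1) = n by omega]
    · exfalso
      obtain ⟨E'⟩ := (CfsgLib.GraphClass.cong_J hB.det (CfsgLib.GraphClass.bil_self_of_skew h2 hs')
        (m := k + 1) (by simp; omega)).nonempty_projQuot
      exact hC ⟨E.trans E'⟩
  · intro h
    rw [CfsgLib.GraphClass.detImage_pow hfix hD, CfsgLib.GraphClass.index_powRange, hU, Nat.gcd_comm]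
    intro x c hc
    by_cases he : Even n
    · have hev : Even C.q := Nat.not_odd_iff_even.1 fun ho => h ⟨he, ho⟩
      have hc2 : ringChar F₀ = 2 := FiniteField.even_card_iff_char_two.2 (by rw [hF₀]; exact Nat.even_iff.1 hev)
      have := ringChar.eq_iff.1 hc2
      exact CfsgLib.GraphClass.det_of_two hB.det hc
    · obtain ⟨k, hk⟩ := Nat.not_even_iff_odd.1 he
      exact CfsgLib.GraphClass.det_of_odd hB.det (k := k) (by simpa using hk) hc

end Cfsg.Agent.S2709
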