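import Cfsg.Statements.S2710
import Cfsg.Agent.GraphClass.Base
import Cfsg.Agent.GraphClass.SplitPSU
-- import your own Cfsg.Agent.* helpers here

set_option autoImplicit false
open Cfsg

namespace Cfsg.Agent.S2710

/-- Let T = PSU_n(q) with n ≥ 4 divisible by 4 (n = 2m) and q odd, realised over the field F with q² elements, G = Inndiag(T) the image of PGU_n(q), and φ the standard field automorphism of T attached to the q-th power map of F (it induces inverse-transpose on the unitary matrices and is a graph automorphism). Its centralizer in G is isomorphic to the projective conformal orthogonal group of the plus-type form Σ xᵢ yᵢ in dimension n over a field F₀ with q elements. (Dimensions n ≡ 2 (mod 4) are not covered.) -/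
theorem result {F : Type*} [Field F] [Fintype F] {q : ℕ} (hodd : Odd q) (hF : Fintype.card F = q ^ 2) {n m : ℕ} (hm : 2 ≤ m) (hnm : n = 2 * m) (h4 : 4 ∣ n) (F₀ : Type*) [Field F₀] [Fintype F₀] (hF₀ : Fintype.card F₀ = q) (σ : F ≃+* F) (hσ : ∀ a : F, σ a = a ^ q) (φ : MulAut (Cfsg.PSU n F q)) (hφ : Cfsg.IsFieldAutPSUOf σ φ) :
    Nonempty (↥(Cfsg.inndiagPSU n F q ⊓ Subgroup.centralizer {φ}) ≃* Cfsg.PGO F₀ (Cfsg.quadFormPlus m F₀)) := by
  classical
  obtain ⟨C, rfl⟩ := CfsgLib.RepBounds.Unit.exists_conjField q hF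
  obtain ⟨e, hfix⟩ := CfsgLib.GraphClass.exists_base_embedding C F₀ hF₀
  have h2 : (2 : F₀) ≠ 0 := Ring.two_ne_zero fun hc => by
    have h := FiniteField.even_card_of_char_two hc
    rw [hF₀] at h
    exact (Nat.not_even_iff_odd.2 hodd) (Nat.even_iff.2 h)
  have hσ' : σ = CfsgLib.AutPSU.barEquiv C := RingEquiv.ext fun x => by
    rw [hσ, CfsgLib.AutPSU.barEquiv_apply, C.pow]
  have hφ' : φ = CfsgLib.AutPSU.semiAut (1 : ↥(Cfsg.GU n F C.q)) (CfsgLib.AutPSU.barEquiv C) := by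
    rw [CfsgLib.AutPSU.semiAut, map_one, one_mul, ← hσ']
    exact (CfsgLib.AutPSU.isFieldAutPSUOf_iff σ φ).1 hφ
  have hr : CfsgLib.GraphClass.Rep C e ((1 : ↥(Cfsg.GU n F C.q)) : Matrix.GeneralLinearGroup (Fin n) F)
      (1 : Matrix (Fin n) (Fin n) F₀) := by
    refine ⟨1, 1, 1, one_ne_zero, one_ne_zero, ?_, ?_⟩
    · simp
    · simp [Matrix.map_one]
  obtain ⟨E⟩ := CfsgLib.GraphClass.nonempty_centralizer_rep hfix (by omega) (by omega) hr
  rw [← hφ'] at E
  obtain ⟨k, hk⟩ : Even m := by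
    obtain ⟨j, hj⟩ := h4
    exact ⟨j, by omega⟩
  have hc : CfsgLib.GraphClass.Cong (1 : Matrix (Fin n) (Fin n) F₀) (CfsgLib.GraphClass.plusM F₀ m) := by
    refine CfsgLib.GraphClass.cong_symm h2 Matrix.transpose_one (CfsgLib.GraphClass.plusM_transpose _)
      (by simp [hnm, two_mul]) (by rw [Matrix.det_one]; exact one_ne_zero)
      (CfsgLib.GraphClass.det_plusM_ne h2 _) ?_
    exact ⟨(2⁻¹ : F₀) ^ m * (-1) ^ k, by
      rw [Matrix.det_one, CfsgLib.GraphClass.det_plusM, hk, pow_add (-1 : F₀)]; ring⟩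
  obtain ⟨E'⟩ := hc.nonempty_projQuot
  change Nonempty (_ ≃* Cfsg.projQuot (Cfsg.Geo.quadSimilarityGroup (Cfsg.quadFormPlus m F₀)))
  rw [CfsgLib.GraphClass.quadSim_plus m h2]
  exact ⟨E.trans E'⟩

end Cfsg.Agent.S2710
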