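import Cfsg.Statements.S2711
import Cfsg.Agent.AutPSU.Field

set_option autoImplicit false
open Cfsg

namespace Cfsg.Agent.S2711

/-- Let T = PSU_n(q) be simple (n ≥ 3, (n,q) ≠ (3,2)), realised over the field F with q² elements, and let x be a field automorphism of T (conjugate to a standard field automorphism of odd order) of prime order r. Then an element y of the coset Inndiag(T)·x (y = δ x with δ in the image of PGU_n(q)) has order r if and only if y is conjugate to x by an element of Inndiag(T). (T has no graph-field automorphisms.) -/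
theorem result {F : Type*} [Field F] [Fintype F] {p f q : ℕ} [Fact p.Prime] (hq : q = p ^ f) (hf : 1 ≤ f) (hF : Fintype.card F = q ^ 2) {n : ℕ} (hn : 3 ≤ n) (hs : ¬ (n = 3 ∧ q = 2)) (x δ : MulAut (Cfsg.PSU n F q)) (hx : Cfsg.IsFieldAutClassPSU x) {r : ℕ} (hr : r.Prime) (hxr : orderOf x = r) (hδ : δ ∈ Cfsg.inndiagPSU n F q) :
    orderOf (δ * x) = r ↔ Cfsg.IsConjUnder (Cfsg.inndiagPSU n F q) x (δ * x) := by
  classical
  obtain ⟨α, σ, hodd, rfl⟩ := CfsgLib.AutPSU.fieldAutClass_cases hx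
  have hord : orderOf σ = r := by
    rw [← CfsgLib.AutPSU.orderOf_field hF hn hs σ, ← hxr, ← MulAut.conj_apply, MulEquiv.orderOf_eq]
  rw [hord] at hodd
  refine ⟨fun ho => ?_, ?_⟩
  · have hδ' : α⁻¹ * δ * α ∈ Cfsg.inndiagPSU n F q := by
      simpa using CfsgLib.AutPSU.conj_mem_inndiagPSU hF hn hs α⁻¹ hδ
    obtain ⟨a, ha⟩ := (CfsgLib.AutPSU.mem_inndiagPSU_iff _).1 hδ'
    set S := CfsgLib.AutPSU.toPSUAut (CfsgLib.AutPSU.fieldSU (n := n) (q := q) σ) with hS
    set A := CfsgLib.AutPSU.toPSUAut (CfsgLib.AutPSU.conjSU a) with hA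
    have hy : δ * (α * S * α⁻¹) = α * (A * S) * α⁻¹ := by
      rw [← ha]; group
    have hpow : (A * S) ^ r = 1 := by
      have h := pow_orderOf_eq_one (δ * (α * S * α⁻¹))
      rwa [ho, hy, conj_pow, conj_eq_one_iff] at h
    obtain ⟨h, hh⟩ := CfsgLib.AutPSU.isConj_field_of_pow_eq_one hF hn hs hord hodd a
      (by rw [map_mul]; exact hpow)
    rw [map_mul, ← hA, ← hS] at hh
    refine ⟨α * CfsgLib.AutPSU.toPSUAut (CfsgLib.AutPSU.conjSU h) * α⁻¹,
      CfsgLib.AutPSU.conj_mem_inndiagPSU hF hn hs α ((CfsgLib.AutPSU.mem_inndiagPSU_iff _).2 ⟨h, rfl⟩), ?_⟩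
    rw [hy, hh]
    group
  · rintro ⟨h, -, he⟩
    rw [he, ← MulAut.conj_apply, MulEquiv.orderOf_eq, hxr]

end Cfsg.Agent.S2711
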