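import Cfsg.Statements.S2712
import Cfsg.Agent.AutPSp.Field
-- import your own Cfsg.Agent.* helpers here

set_option autoImplicit false
open Cfsg

namespace Cfsg.Agent.S2712

/-- Let T = PSp_{2m}(F) be simple over the field F with p^f elements (m ≥ 2, (2m, |F|) ≠ (4, 2)), G = Inndiag(T) the image of the projective conformal symplectic group PGSp_{2m}(F), and x a field automorphism of T of prime order r. Then r divides f; C_G(x) is isomorphic to PGSp_{2m}(F₀) for a field F₀ with p^(f/r) elements; and the G-class of x is the union of exactly gcd(gcd(2, p^f − 1), r) T-classes. -/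
theorem result {F : Type*} [Field F] [Fintype F] {p f : ℕ} [Fact p.Prime] (hF : Fintype.card F = p ^ f) (hf : 1 ≤ f) {m : ℕ} (hm : 2 ≤ m) (hs : m = 2 → 3 ≤ Fintype.card F) (x : MulAut (Cfsg.PSp m F)) (hx : Cfsg.IsFieldAutClassPSp x) {r : ℕ} (hr : r.Prime) (hxr : orderOf x = r) (F₀ : Type*) [Field F₀] [Fintype F₀] (hF₀ : Fintype.card F₀ = p ^ (f / r)) :
    r ∣ f ∧ Nonempty (↥(Cfsg.inndiagPSp m F ⊓ Subgroup.centralizer {x}) ≃* Cfsg.PGSp m F₀) ∧ Cfsg.splitClassCount (Cfsg.inndiagPSp m F) (Cfsg.Inn (Cfsg.PSp m F)) x = Nat.gcd (Nat.gcd 2 (p ^ f - 1)) r := by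
  classical
  haveI : CharP F p := charP_of_card_eq_prime_pow hF
  obtain ⟨α, σ, rfl⟩ := CfsgLib.AutPSp.fieldAutClass_cases hx
  have hord : orderOf σ = r := by
    rw [← CfsgLib.AutPSp.orderOf_field hm σ, ← hxr, ← MulAut.conj_apply, MulEquiv.orderOf_eq]
  have hrf : r ∣ f := hord ▸ CfsgLib.AutPSL.orderOf_dvd_degree hF hf σ
  have hnorm : ∀ g, g ∈ Cfsg.inndiagPSp m F ↔ α * g * α⁻¹ ∈ Cfsg.inndiagPSp m F :=
    CfsgLib.AutPSL.mem_iff_conj_mem (fun β _ h => CfsgLib.AutPSp.conj_mem_inndiagPSp p hm β h) α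
  have hinn : ∀ g, g ∈ Cfsg.Inn (Cfsg.PSp m F) ↔ α * g * α⁻¹ ∈ Cfsg.Inn (Cfsg.PSp m F) :=
    CfsgLib.AutPSL.mem_iff_conj_mem (fun β _ h => CfsgLib.AutPSL.conj_mem_inn β h) α
  obtain ⟨e, he⟩ := CfsgLib.AutPSL.exists_embedding_fixed hF σ hord hr.pos hrf F₀ hF₀
  refine ⟨hrf, ?_, ?_⟩
  · obtain ⟨E⟩ := CfsgLib.AutPSp.nonempty_centralizer_field hm hord hr.pos e he
    exact ⟨(CfsgLib.AutPSL.centralizerConjEquiv _ α _ hnorm).symm.trans E⟩
  · rw [CfsgLib.AutPSL.splitClassCount_conj _ _ α _ hnorm hinn,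
      CfsgLib.AutPSp.splitClassCount_field hm hord hr.pos, CfsgLib.AutPSL.index_sup_of_isCyclic,
      IsCyclic.index_powMonoidHom_range]
    have hcardu : Nat.card Fˣ = p ^ f - 1 := by rw [Nat.card_units, Nat.card_eq_fintype_card, hF]
    have hcardfix : Nat.card (CfsgLib.AutPSL.fixedUnits σ) = p ^ (f / r) - 1 := by
      rw [← hF₀, ← Nat.card_eq_fintype_card (α := F₀), ← Nat.card_units]
      refine (Nat.card_eq_of_bijective (fun y : F₀ˣ => (⟨Units.map (e : F₀ →* F) y,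
        (he _).2 ⟨y, rfl⟩⟩ : CfsgLib.AutPSL.fixedUnits σ)) ⟨?_, ?_⟩).symm
      · intro y y' h
        exact Units.ext (e.injective (congrArg (fun z : CfsgLib.AutPSL.fixedUnits σ => ((z : Fˣ) : F)) h))
      · rintro ⟨c, hc⟩
        obtain ⟨y, hy⟩ := (he _).1 hc
        exact ⟨Units.mk0 y (fun h => c.ne_zero (by rw [← hy, h, map_zero])), Subtype.ext (Units.ext hy)⟩
    have hidx : (CfsgLib.AutPSL.fixedUnits σ).index = (p ^ f - 1) / (p ^ (f / r) - 1) := by
      rw [← hcardu, ← hcardfix, ← (CfsgLib.AutPSL.fixedUnits σ).card_mul_index,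
        Nat.mul_div_cancel_left _ Nat.card_pos]
    rw [hidx, hcardu, Nat.gcd_comm (p ^ f - 1) 2]
    have hq1 : 2 ≤ p ^ (f / r) := hF₀ ▸ Fintype.one_lt_card
    have hpow : p ^ f = (p ^ (f / r)) ^ r := by rw [← pow_mul, Nat.div_mul_cancel hrf]
    rcases Nat.even_or_odd (p ^ f) with hev | hodd
    · have h1 : Nat.gcd 2 (p ^ f - 1) = 1 := by
        have : Odd (p ^ f - 1) := by
          obtain ⟨k, hk⟩ := hev
          have h0 : 0 < p ^ f := hF ▸ Fintype.card_pos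
          exact ⟨k - 1, by omega⟩
        exact (Nat.coprime_two_left.2 this)
      rw [h1, Nat.gcd_one_left, Nat.gcd_one_left]
    · have h1 : Nat.gcd 2 (p ^ f - 1) = 2 := by
        obtain ⟨k, hk⟩ := hodd
        rw [hk, Nat.add_sub_cancel]
        exact Nat.gcd_eq_left ⟨k, rfl⟩
      have hoddp : Odd (p ^ (f / r)) := by
        rw [hpow] at hodd
        exact (Nat.odd_pow_iff hr.pos.ne').1 hodd
      rw [h1, hpow, ← Nat.geomSum_eq hq1, Nat.gcd_rec 2, Nat.gcd_rec 2 r]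
      congr 1
      rw [Finset.sum_nat_mod]
      simp [Nat.pow_mod, Nat.odd_iff.1 hoddp]

end Cfsg.Agent.S2712
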