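import Cfsg.Statements.S2713
import Cfsg.Agent.AutPSp.Field
-- import your own Cfsg.Agent.* helpers here

set_option autoImplicit false
open Cfsg

namespace Cfsg.Agent.S2713

/-- Let T = PSp_{2m}(F) be simple over a finite field (m ≥ 2, (2m, |F|) ≠ (4, 2)) and let x be a field automorphism of T of prime order r. Then an element y of the coset Inndiag(T)·x (y = δ x with δ in the image of the projective conformal symplectic group) has order r if and only if y is conjugate to x by an element of Inndiag(T). -/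
theorem result {F : Type*} [Field F] [Fintype F] {m : ℕ} (hm : 2 ≤ m) (hs : m = 2 → 3 ≤ Fintype.card F) (x δ : MulAut (Cfsg.PSp m F)) (hx : Cfsg.IsFieldAutClassPSp x) {r : ℕ} (hr : r.Prime) (hxr : orderOf x = r) (hδ : δ ∈ Cfsg.inndiagPSp m F) :
    orderOf (δ * x) = r ↔ Cfsg.IsConjUnder (Cfsg.inndiagPSp m F) x (δ * x) := by
  classical
  obtain ⟨p, hp⟩ := CharP.exists F
  have : Fact p.Prime := ⟨CharP.char_is_prime F p⟩
  obtain ⟨α, σ, rfl⟩ := CfsgLib.AutPSp.fieldAutClass_cases hx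
  have hord : orderOf σ = r := by
    rw [← CfsgLib.AutPSp.orderOf_field hm σ, ← hxr, ← MulAut.conj_apply, MulEquiv.orderOf_eq]
  refine ⟨fun ho => ?_, ?_⟩
  · have hδ' : α⁻¹ * δ * α ∈ Cfsg.inndiagPSp m F := by
      simpa using CfsgLib.AutPSp.conj_mem_inndiagPSp p hm α⁻¹ hδ
    obtain ⟨a, ha⟩ := CfsgLib.AutPSp.mem_inndiagPSp_iff.1 hδ'
    set S := CfsgLib.AutPSp.toPSpAut (CfsgLib.AutPSp.fieldSp (m := m) σ) with hS
    set A := CfsgLib.AutPSp.toPSpAut (CfsgLib.AutPSp.conjSp a) with hA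
    have hy : δ * (α * S * α⁻¹) = α * (A * S) * α⁻¹ := by
      rw [← ha]; group
    have hpow : (A * S) ^ r = 1 := by
      have h := pow_orderOf_eq_one (δ * (α * S * α⁻¹))
      rwa [ho, hy, conj_pow, conj_eq_one_iff] at h
    obtain ⟨h, hh⟩ := CfsgLib.AutPSp.isConj_field_of_pow_eq_one hm hord hr.pos a
      (by rw [map_mul]; exact hpow)
    rw [map_mul, ← hA, ← hS] at hh
    refine ⟨α * CfsgLib.AutPSp.toPSpAut (CfsgLib.AutPSp.conjSp h) * α⁻¹,
      CfsgLib.AutPSp.conj_mem_inndiagPSp p hm α (CfsgLib.AutPSp.mem_inndiagPSp_iff.2 ⟨h, rfl⟩), ?_⟩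
    rw [hy, hh]
    group
  · rintro ⟨h, -, he⟩
    rw [he, ← MulAut.conj_apply, MulEquiv.orderOf_eq, hxr]

end Cfsg.Agent.S2713
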