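import Cfsg.Statements.S2718
import Cfsg.Agent.POmegaDiag.Split

set_option autoImplicit false
open Cfsg CfsgLib.POmegaDiag CfsgLib.Spinor CfsgLib.StdForms CfsgLib.Forms4 CfsgLib.OutPOmega

namespace Cfsg.Agent.S2718

/-- Let T = PΩ⁺_{2m}(F) with m ≥ 4 and |F| = q odd, G = Inndiag(T), and γ an involutory graph automorphism of T induced by a similarity (one interchanging the two classes of maximal totally singular subspaces). Then the G-class of γ is either a single T-class or the union of exactly two T-classes, and it is the union of two unless m is odd and q ≡ 3 (mod 4). -/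
theorem result {F : Type*} [Field F] [Fintype F] (hodd : Odd (Fintype.card F)) {m : ℕ} (hm : 4 ≤ m) (γ : MulAut (Cfsg.POmega F (Cfsg.quadFormPlus m F))) (hγ : Cfsg.IsSimilarityGraphAutPOmegaPlus m γ) (hγ2 : orderOf γ = 2) :
    (Cfsg.splitClassCount (Cfsg.inndiagPOmegaPlus m F) (Cfsg.Inn (Cfsg.POmega F (Cfsg.quadFormPlus m F))) γ = 1 ∨ Cfsg.splitClassCount (Cfsg.inndiagPOmegaPlus m F) (Cfsg.Inn (Cfsg.POmega F (Cfsg.quadFormPlus m F))) γ = 2) ∧ (¬ (Odd m ∧ Fintype.card F % 4 = 3) → Cfsg.splitClassCount (Cfsg.inndiagPOmegaPlus m F) (Cfsg.Inn (Cfsg.POmega F (Cfsg.quadFormPlus m F))) γ = 2) := by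
  classical
  have h2 : (2 : F) ≠ 0 := two_ne hodd
  have hQ := plusQ_nondegenerate (F := F) m
  have hn : 5 ≤ Fintype.card (Fin m ⊕ Fin m) := by clear hγ2; simp; omega
  let P := plusPairs (F := F) m (le_trans (by norm_num) hm)
  have hc := card_plus m
  have hiff := negIso_plus_iff (m := m) hodd
  obtain ⟨g, hg, t, hgt, -, -⟩ := exists_swap_plus hodd P
  have key : Cfsg.autSubgroupOf (fun β : MulAut (Cfsg.POmega F (Cfsg.quadFormPlus m F)) =>
      ∃ g : GL (Fin m ⊕ Fin m) F,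
        g ∈ Cfsg.Geo.quadSimilarityGroup (F := F) (Cfsg.quadFormPlus m F) ∧
        Cfsg.PreservesSingularClasses (Cfsg.quadFormPlus m F) g.1 ∧
        Cfsg.IsInducedBySemilinearPOmega (Cfsg.quadFormPlus m F) g (RingEquiv.refl F) β) =
      Cfsg.inndiagPOmegaPlus m F := rfl
  unfold Cfsg.IsSimilarityGraphAutPOmegaPlus at hγ
  rw [← key]
  clear key
  revert γ
  rw [← coe_plusQ, inndiag_eq h2 hQ P hc
    (fun x => Cfsg.PreservesSingularClasses ⇑(plusQ m F) x.1) (preserves_iff_eps_plus hodd P h2)]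
  intro γ hγ hγ2
  obtain ⟨g', hg', hnp, hind⟩ := hγ
  obtain ⟨y, rfl, rfl⟩ := exists_lin hg' hind
  have hy2 : thetaLin (plusQ m F) y * thetaLin (plusQ m F) y = 1 := by
    rw [← pow_two, ← hγ2, pow_orderOf_eq_one]
  have hε := (Int.units_eq_one_or (eps h2 hQ P hc y)).resolve_left
    fun h => hnp ((preserves_iff_eps_plus hodd P h2 y).2 h)
  by_cases hneg : negIso (plusQ m F) ∈ Cfsg.Omega F ⇑(plusQ m F)
  · have h := splitCount_of_mem h2 hQ hn P hc (by omega) hneg g hg t hgt y hy2 hε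
    exact ⟨Or.inr h, fun _ => h⟩
  · exact ⟨(splitCount_of_not_mem h2 hQ hn P hc hneg g hg y hy2 hε).1,
      fun h => absurd (hiff.2 h) hneg⟩

end Cfsg.Agent.S2718
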