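import Cfsg.Statements.S2719
import Cfsg.Agent.POmegaDiag.Split

set_option autoImplicit false
open Cfsg CfsgLib.POmegaDiag CfsgLib.Spinor CfsgLib.StdForms CfsgLib.Forms4 CfsgLib.OutPOmega

namespace Cfsg.Agent.S2719

/-- Let T = PΩ⁻_{2m+2}(F) with m ≥ 3 and |F| = q odd (form with anisotropic binary part z₁² + a z₁ z₂ + b z₂²), G = Inndiag(T), and γ an involutory graph automorphism of T (an automorphism in the image of the semisimilarity group, not inner-diagonal, of order 2). Then the G-class of γ is either a single T-class or the union of exactly two T-classes, and it is the union of two unless m is even and q ≡ 1 (mod 4). -/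
theorem result {F : Type*} [Field F] [Fintype F] (hodd : Odd (Fintype.card F)) {m : ℕ} (hm : 3 ≤ m) (a b : F) (hab : (∀ z₁ z₂ : F, z₁ ^ 2 + a * z₁ * z₂ + b * z₂ ^ 2 = 0 → z₁ = 0 ∧ z₂ = 0)) (γ : MulAut (Cfsg.POmega F (Cfsg.quadFormMinus m F a b))) (hγ : Cfsg.IsGraphAutClassPOmegaMinus m a b γ) (hγ2 : orderOf γ = 2) :
    (Cfsg.splitClassCount (Cfsg.inndiagPOmegaMinus m F a b) (Cfsg.Inn (Cfsg.POmega F (Cfsg.quadFormMinus m F a b))) γ = 1 ∨ Cfsg.splitClassCount (Cfsg.inndiagPOmegaMinus m F a b) (Cfsg.Inn (Cfsg.POmega F (Cfsg.quadFormMinus m F a b))) γ = 2) ∧ (¬ (Even m ∧ Fintype.card F % 4 = 1) → Cfsg.splitClassCount (Cfsg.inndiagPOmegaMinus m F a b) (Cfsg.Inn (Cfsg.POmega F (Cfsg.quadFormMinus m F a b))) γ = 2) := by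
  classical
  have h2 : (2 : F) ≠ 0 := two_ne hodd
  have hQ := minusQ_nondegenerate m (disc_ne_zero hab)
  have hn : 5 ≤ Fintype.card ((Fin m ⊕ Fin m) ⊕ Fin 2) := by clear hγ2; simp; omega
  let P := minusPairs m (le_trans (by norm_num) hm) a b
  have hc := card_minus m
  have hiff := negIso_minus_iff (m := m) hodd hab
  obtain ⟨g, hg, t, hgt, -, -⟩ := exists_swap_minus hodd hab P
  have key : Cfsg.autSubgroupOf (fun β : MulAut (Cfsg.POmega F (Cfsg.quadFormMinus m F a b)) =>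
      ∃ g : GL ((Fin m ⊕ Fin m) ⊕ Fin 2) F,
        g ∈ Cfsg.Geo.quadSimilarityGroup (F := F) (Cfsg.quadFormMinus m F a b) ∧
        Cfsg.PreservesSingularClassesMinus m a b g.1 ∧
        Cfsg.IsInducedBySemilinearPOmega (Cfsg.quadFormMinus m F a b) g (RingEquiv.refl F) β) =
      Cfsg.inndiagPOmegaMinus m F a b := rfl
  replace hγ : γ ∈ Cfsg.gammaPOmega F (Cfsg.quadFormMinus m F a b) ∧
      γ ∉ Cfsg.autSubgroupOf (fun β : MulAut (Cfsg.POmega F (Cfsg.quadFormMinus m F a b)) =>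
      ∃ g : GL ((Fin m ⊕ Fin m) ⊕ Fin 2) F,
        g ∈ Cfsg.Geo.quadSimilarityGroup (F := F) (Cfsg.quadFormMinus m F a b) ∧
        Cfsg.PreservesSingularClassesMinus m a b g.1 ∧
        Cfsg.IsInducedBySemilinearPOmega (Cfsg.quadFormMinus m F a b) g (RingEquiv.refl F) β) := by
    rw [key]; exact ⟨hγ.1, hγ.2.1⟩
  rw [← key]
  clear key
  revert γ
  rw [← coe_minusQ, inndiag_eq h2 hQ P hc
    (fun x => Cfsg.PreservesSingularClassesMinus m a b x.1)
    (preserves_iff_eps_minus hodd hab P h2)]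
  intro γ hγ2 hγ
  obtain ⟨hΓ, hnd⟩ := hγ
  obtain ⟨x, rfl⟩ := gamma_le_range hΓ
  have hxx : theta ⇑(minusQ m F a b) (x * x) = 1 := by
    rw [map_mul, ← pow_two]; exact orderOf_dvd_iff_pow_eq_one.1 (dvd_of_eq hγ2)
  obtain ⟨s, hs⟩ := eq_scalar_of_theta_eq_one hQ hn P hxx
  obtain ⟨p, f, hp, hF⟩ : ∃ p f, Nat.Prime p ∧ Fintype.card F = p ^ f := by
    obtain ⟨p, _⟩ := CharP.exists F
    obtain ⟨k, hp, hk⟩ := FiniteField.card F p
    exact ⟨p, k, hp, hk⟩
  have : Fact p.Prime := ⟨hp⟩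
  have hf : 1 ≤ f := by
    rcases Nat.eq_zero_or_pos f with rfl | h
    · rw [pow_zero] at hF; exact absurd hF (Fintype.one_lt_card).ne'
    · exact h
  obtain ⟨Φ, hΦ⟩ := exists_minus_fieldGen hab hF hf h2 m P
  let y : ↥(Lin (minusQ m F a b)) := ⟨x, fld_trivial h2 hQ P hc Φ hΦ hs⟩
  have hy2 : thetaLin (minusQ m F a b) y * thetaLin (minusQ m F a b) y = 1 := by
    rw [thetaLin_apply, ← pow_two]; exact orderOf_dvd_iff_pow_eq_one.1 (dvd_of_eq hγ2)
  have hε := (Int.units_eq_one_or (eps h2 hQ P hc y)).resolve_left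
    fun h => hnd ⟨y, h, rfl⟩
  show (Cfsg.splitClassCount _ _ (thetaLin (minusQ m F a b) y) = 1 ∨ _) ∧ _
  by_cases hneg : negIso (minusQ m F a b) ∈ Cfsg.Omega F ⇑(minusQ m F a b)
  · have h := splitCount_of_mem h2 hQ hn P hc (by omega) hneg g hg t hgt y hy2 hε
    exact ⟨Or.inr h, fun _ => h⟩
  · obtain ⟨h1, h2'⟩ := splitCount_of_not_mem h2 hQ hn P hc hneg g hg y hy2 hε
    refine ⟨h1, fun h => h2' ?_⟩
    rw [Nat.even_add_one, Nat.not_even_iff_odd]
    by_contra hm'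
    rw [Nat.not_odd_iff_even] at hm'
    refine hneg (hiff.2 ⟨hm', ?_⟩)
    have := Nat.odd_iff.1 hodd
    rcases (by omega : Fintype.card F % 4 = 1 ∨ Fintype.card F % 4 = 3) with e | e
    · exact absurd ⟨hm', e⟩ h
    · exact e

end Cfsg.Agent.S2719
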