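import Cfsg.Statements.S2722
import Cfsg.Agent.POmegaDiag.Cases

set_option autoImplicit false
open Cfsg CfsgLib.POmegaDiag CfsgLib.Spinor CfsgLib.StdForms CfsgLib.Forms4 CfsgLib.OutPOmega

namespace Cfsg.Agent.S2722

/-- Let T = PΩ⁺_{2m}(F) with m ≥ 4 and |F| = q odd. Inside Aut(T), the image G̃ of the conformal orthogonal group of the form modulo the image of the special orthogonal group is elementary abelian of order 4. -/
theorem result {F : Type*} [Field F] [Fintype F] (hodd : Odd (Fintype.card F)) {m : ℕ} (hm : 4 ≤ m) :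
    (∃ φ : ↥(Cfsg.pgoAut F (Cfsg.quadFormPlus m F)) →* Multiplicative (ZMod 2 × ZMod 2), Function.Surjective φ ∧ φ.ker = (Cfsg.psoAut F (Cfsg.quadFormPlus m F)).subgroupOf (Cfsg.pgoAut F (Cfsg.quadFormPlus m F))) := by
  classical
  have h2 : (2 : F) ≠ 0 := two_ne hodd
  have hQ := plusQ_nondegenerate (F := F) m
  have hn : 5 ≤ Fintype.card (Fin m ⊕ Fin m) := by simp; omega
  let P := plusPairs (F := F) m (by omega)
  have hc := card_plus m
  have hiff := negIso_plus_iff (m := m) hodd
  obtain ⟨g, hg, t, hgt, hgm, hgd⟩ := exists_swap_plus hodd P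

  rw [← coe_plusQ]
  exact pgo_mod_pso h2 hQ hn P hc g hg

end Cfsg.Agent.S2722
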