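import Cfsg.Statements.S2723
import Cfsg.Agent.POmegaDiag.Cases

set_option autoImplicit false
open Cfsg CfsgLib.POmegaDiag CfsgLib.Spinor CfsgLib.StdForms CfsgLib.Forms4 CfsgLib.OutPOmega

namespace Cfsg.Agent.S2723

/-- Let T = PΩ⁺_{2m}(F) with m ≥ 4 and |F| = q odd. The image of the special orthogonal group in Aut(T) contains the inner automorphism group T with index 1 (they coincide) when m is odd and q ≡ 3 (mod 4), and with index 2 otherwise (the index is 2 exactly when the discriminant of the form is a square). -/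
theorem result {F : Type*} [Field F] [Fintype F] (hodd : Odd (Fintype.card F)) {m : ℕ} (hm : 4 ≤ m) :
    ((Odd m ∧ Fintype.card F % 4 = 3) → (Cfsg.Inn (Cfsg.POmega F (Cfsg.quadFormPlus m F))).relIndex (Cfsg.psoAut F (Cfsg.quadFormPlus m F)) = 1) ∧ (¬ (Odd m ∧ Fintype.card F % 4 = 3) → (Cfsg.Inn (Cfsg.POmega F (Cfsg.quadFormPlus m F))).relIndex (Cfsg.psoAut F (Cfsg.quadFormPlus m F)) = 2) := by
  classical
  have h2 : (2 : F) ≠ 0 := two_ne hodd
  have hQ := plusQ_nondegenerate (F := F) m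
  have hn : 5 ≤ Fintype.card (Fin m ⊕ Fin m) := by simp; omega
  let P := plusPairs (F := F) m (by omega)
  have hc := card_plus m
  have hiff := negIso_plus_iff (m := m) hodd
  obtain ⟨g, hg, t, hgt, hgm, hgd⟩ := exists_swap_plus hodd P

  rw [← coe_plusQ]
  obtain ⟨h1, h2'⟩ := relIndex_inn_pso h2 hQ hn P hc
  exact ⟨fun h => h1 fun hm' => hiff.1 hm' h, fun h => h2' (hiff.2 h)⟩

end Cfsg.Agent.S2723
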