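import Cfsg.Statements.S2725
import Cfsg.Agent.POmegaDiag.Cases

set_option autoImplicit false
open Cfsg CfsgLib.POmegaDiag CfsgLib.Spinor CfsgLib.StdForms CfsgLib.Forms4 CfsgLib.OutPOmega

namespace Cfsg.Agent.S2725

/-- Let T = PΩ⁺_{2m}(F) with m ≥ 4 and |F| = q odd. The inner-diagonal group G = Inndiag(T) (image of the class-preserving similarities) taken modulo the inner automorphism group T is cyclic of order 2 when m is odd and q ≡ 3 (mod 4), cyclic of order 4 when m is odd and q ≡ 1 (mod 4), and elementary abelian of order 4 when m is even. -/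
theorem result {F : Type*} [Field F] [Fintype F] (hodd : Odd (Fintype.card F)) {m : ℕ} (hm : 4 ≤ m) :
    ((Odd m ∧ Fintype.card F % 4 = 3) → (∃ φ : ↥(Cfsg.inndiagPOmegaPlus m F) →* Multiplicative (ZMod 2), Function.Surjective φ ∧ φ.ker = (Cfsg.Inn (Cfsg.POmega F (Cfsg.quadFormPlus m F))).subgroupOf (Cfsg.inndiagPOmegaPlus m F))) ∧ ((Odd m ∧ Fintype.card F % 4 = 1) → (∃ φ : ↥(Cfsg.inndiagPOmegaPlus m F) →* Multiplicative (ZMod 4), Function.Surjective φ ∧ φ.ker = (Cfsg.Inn (Cfsg.POmega F (Cfsg.quadFormPlus m F))).subgroupOf (Cfsg.inndiagPOmegaPlus m F))) ∧ (Even m → (∃ φ : ↥(Cfsg.inndiagPOmegaPlus m F) →* Multiplicative (ZMod 2 × ZMod 2), Function.Surjective φ ∧ φ.ker = (Cfsg.Inn (Cfsg.POmega F (Cfsg.quadFormPlus m F))).subgroupOf (Cfsg.inndiagPOmegaPlus m F))) := by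
  classical
  have h2 : (2 : F) ≠ 0 := two_ne hodd
  have hQ := plusQ_nondegenerate (F := F) m
  have hn : 5 ≤ Fintype.card (Fin m ⊕ Fin m) := by simp; omega
  let P := plusPairs (F := F) m (by omega)
  have hc := card_plus m
  have hiff := negIso_plus_iff (m := m) hodd
  obtain ⟨g, hg, t, hgt, hgm, hgd⟩ := exists_swap_plus hodd P

  have key : Cfsg.autSubgroupOf (fun β : MulAut (Cfsg.POmega F (Cfsg.quadFormPlus m F)) =>
      ∃ g : GL (Fin m ⊕ Fin m) F,
        g ∈ Cfsg.Geo.quadSimilarityGroup (F := F) (Cfsg.quadFormPlus m F) ∧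
        Cfsg.PreservesSingularClasses (Cfsg.quadFormPlus m F) g.1 ∧
        Cfsg.IsInducedBySemilinearPOmega (Cfsg.quadFormPlus m F) g (RingEquiv.refl F) β) =
      Cfsg.inndiagPOmegaPlus m F := rfl
  rw [← key, ← coe_plusQ, inndiag_eq h2 hQ P hc
    (fun x => Cfsg.PreservesSingularClasses ⇑(plusQ m F) x.1) (preserves_iff_eps_plus hodd P h2)]
  have hε := eps_swap h2 hQ P hc hgm hgd
  refine ⟨fun h => inndiag_mod_inn h2 hQ hn P hc (fun hm' => hiff.1 hm' h) g hg,
    fun h => ?_, fun h => ?_⟩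
  · exact (inndiag_mod_inn_four h2 hQ hn P hc (hiff.2 (by omega)) g hg t hgt).1
      (hε.trans h.1.neg_one_pow)
  · exact (inndiag_mod_inn_four h2 hQ hn P hc
      (hiff.2 fun h' => Nat.not_odd_iff_even.2 h h'.1) g hg t hgt).2 (hε.trans h.neg_one_pow)

end Cfsg.Agent.S2725
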