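import Cfsg.Statements.S2726
import Cfsg.Agent.POmegaDiag.Cases

set_option autoImplicit false
open Cfsg CfsgLib.POmegaDiag CfsgLib.Spinor CfsgLib.StdForms CfsgLib.Forms4 CfsgLib.OutPOmega

namespace Cfsg.Agent.S2726

/-- Let T = PΩ⁻_{2m+2}(F) with m ≥ 3 and |F| = q odd (form with anisotropic binary part). Inside Aut(T), the image G̃ of the conformal orthogonal group of the form modulo the image of the special orthogonal group is elementary abelian of order 4. -/
theorem result {F : Type*} [Field F] [Fintype F] (hodd : Odd (Fintype.card F)) {m : ℕ} (hm : 3 ≤ m) (a b : F) (hab : (∀ z₁ z₂ : F, z₁ ^ 2 + a * z₁ * z₂ + b * z₂ ^ 2 = 0 → z₁ = 0 ∧ z₂ = 0)) :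
    (∃ φ : ↥(Cfsg.pgoAut F (Cfsg.quadFormMinus m F a b)) →* Multiplicative (ZMod 2 × ZMod 2), Function.Surjective φ ∧ φ.ker = (Cfsg.psoAut F (Cfsg.quadFormMinus m F a b)).subgroupOf (Cfsg.pgoAut F (Cfsg.quadFormMinus m F a b))) := by
  classical
  have h2 : (2 : F) ≠ 0 := two_ne hodd
  have hQ := minusQ_nondegenerate m (disc_ne_zero hab)
  have hn : 5 ≤ Fintype.card ((Fin m ⊕ Fin m) ⊕ Fin 2) := by simp; omega
  let P := minusPairs m (by omega) a b
  have hc := card_minus m
  have hiff := negIso_minus_iff (m := m) hodd hab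
  obtain ⟨g, hg, t, hgt, hgm, hgd⟩ := exists_swap_minus hodd hab P

  rw [← coe_minusQ]
  exact pgo_mod_pso h2 hQ hn P hc g hg

end Cfsg.Agent.S2726
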