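import Cfsg.Statements.S2729
import Cfsg.Agent.POmegaDiag.Cases

set_option autoImplicit false
open Cfsg CfsgLib.POmegaDiag CfsgLib.Spinor CfsgLib.StdForms CfsgLib.Forms4 CfsgLib.OutPOmega

namespace Cfsg.Agent.S2729

/-- Let T = PΩ⁻_{2m+2}(F) with m ≥ 3 and |F| = q odd (form with anisotropic binary part). The inner-diagonal group G = Inndiag(T) (image of the class-preserving similarities) taken modulo the inner automorphism group T is cyclic of order 4 when m is even and q ≡ 3 (mod 4), and of order 2 otherwise. -/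
theorem result {F : Type*} [Field F] [Fintype F] (hodd : Odd (Fintype.card F)) {m : ℕ} (hm : 3 ≤ m) (a b : F) (hab : (∀ z₁ z₂ : F, z₁ ^ 2 + a * z₁ * z₂ + b * z₂ ^ 2 = 0 → z₁ = 0 ∧ z₂ = 0)) :
    ((Even m ∧ Fintype.card F % 4 = 3) → (∃ φ : ↥(Cfsg.inndiagPOmegaMinus m F a b) →* Multiplicative (ZMod 4), Function.Surjective φ ∧ φ.ker = (Cfsg.Inn (Cfsg.POmega F (Cfsg.quadFormMinus m F a b))).subgroupOf (Cfsg.inndiagPOmegaMinus m F a b))) ∧ (¬ (Even m ∧ Fintype.card F % 4 = 3) → (∃ φ : ↥(Cfsg.inndiagPOmegaMinus m F a b) →* Multiplicative (ZMod 2), Function.Surjective φ ∧ φ.ker = (Cfsg.Inn (Cfsg.POmega F (Cfsg.quadFormMinus m F a b))).subgroupOf (Cfsg.inndiagPOmegaMinus m F a b))) := by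
  classical
  have h2 : (2 : F) ≠ 0 := two_ne hodd
  have hQ := minusQ_nondegenerate m (disc_ne_zero hab)
  have hn : 5 ≤ Fintype.card ((Fin m ⊕ Fin m) ⊕ Fin 2) := by simp; omega
  let P := minusPairs m (by omega) a b
  have hc := card_minus m
  have hiff := negIso_minus_iff (m := m) hodd hab
  obtain ⟨g, hg, t, hgt, hgm, hgd⟩ := exists_swap_minus hodd hab P

  have key : Cfsg.autSubgroupOf (fun β : MulAut (Cfsg.POmega F (Cfsg.quadFormMinus m F a b)) =>
      ∃ g : GL ((Fin m ⊕ Fin m) ⊕ Fin 2) F,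
        g ∈ Cfsg.Geo.quadSimilarityGroup (F := F) (Cfsg.quadFormMinus m F a b) ∧
        Cfsg.PreservesSingularClassesMinus m a b g.1 ∧
        Cfsg.IsInducedBySemilinearPOmega (Cfsg.quadFormMinus m F a b) g (RingEquiv.refl F) β) =
      Cfsg.inndiagPOmegaMinus m F a b := rfl
  rw [← key, ← coe_minusQ, inndiag_eq h2 hQ P hc
    (fun x => Cfsg.PreservesSingularClassesMinus m a b x.1)
    (preserves_iff_eps_minus hodd hab P h2)]
  have hε := eps_swap h2 hQ P hc hgm hgd
  refine ⟨fun h => ?_, fun h => inndiag_mod_inn h2 hQ hn P hc (fun hm' => h (hiff.1 hm')) g hg⟩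
  exact (inndiag_mod_inn_four h2 hQ hn P hc (hiff.2 h) g hg t hgt).1
    (hε.trans (h.1.add_one).neg_one_pow)

end Cfsg.Agent.S2729
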