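import Cfsg.Statements.S2730
import Cfsg.Agent.AutPSp.FieldCentralizer
-- import your own Cfsg.Agent.* helpers here

set_option autoImplicit false
open Cfsg

namespace Cfsg.Agent.S2730

open CfsgLib.AutPSp in
theorem semiAut_mul {F : Type*} [Field F] [Fintype F] {m : ℕ} (g g' : ↥(Cfsg.GSp m F)) (σ σ' : F ≃+* F) :
    semiAut g σ * semiAut g' σ' = semiAut (g * mapGSp σ g') (σ * σ') := by
  rw [semiAut, semiAut, semiAut, ← map_mul]
  congr 1
  rw [map_mul conjSp, map_mul fieldSp, mul_assoc, ← mul_assoc (fieldSp σ), field_conj]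
  simp only [mul_assoc]

open CfsgLib.AutPSp in
theorem semiAut_inv {F : Type*} [Field F] [Fintype F] {m : ℕ} (g : ↥(Cfsg.GSp m F)) (σ : F ≃+* F) :
    (semiAut g σ)⁻¹ = semiAut (mapGSp σ⁻¹ g⁻¹) σ⁻¹ := by
  rw [semiAut, semiAut, ← map_inv]
  congr 1
  rw [_root_.mul_inv_rev, ← map_inv, ← map_inv, field_conj]

open CfsgLib.AutPSp in
theorem exists_semiAut_of_pow {F : Type*} [Field F] [Fintype F] {r : ℕ} [Fact r.Prime] [CharP F r] {m : ℕ}
    (hm : 2 ≤ m) (hs : m = 2 → 3 ≤ Fintype.card F) {p : ℕ} (hp : p.Prime) (hpr : p ≠ r)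
    (x : MulAut (Cfsg.PSp m F)) (hx : x ^ p = 1) : ∃ g σ, x = semiAut g σ := by
  by_cases h : m = 2 ∧ r = 2
  · obtain ⟨rfl, rfl⟩ := h
    rcases exists_semiAut_or (hs rfl) x with h | ⟨g, σ, hx'⟩
    · exact h
    rcases exists_semiAut_or (hs rfl) (x * x) with ⟨g', σ', h2⟩ | ⟨g', σ', h2⟩
    · obtain ⟨k, hk⟩ := hp.odd_of_ne_two hpr
      have hx1 : x = (x * x) ^ (k + 1) := by
        rw [← pow_two, ← pow_mul, show 2 * (k + 1) = p + 1 by omega, pow_succ, hx, one_mul]
      rw [hx1, h2]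
      clear * -
      induction k with
      | zero => exact ⟨g', σ', pow_one _⟩
      | succ k ih =>
        obtain ⟨a, b, hab⟩ := ih
        exact ⟨_, _, by rw [pow_succ, hab, semiAut_mul]⟩
    · have hx2 : x = (semiAut g σ)⁻¹ * semiAut g' σ' := by
        rw [hx', mul_assoc, mul_right_inj] at h2
        rw [← h2, inv_mul_cancel_left, hx']
      rw [hx2, semiAut_inv, semiAut_mul]
      exact ⟨_, _, rfl⟩
  · exact exists_semiAut r hm (fun h1 h2 => h ⟨h1, h2⟩) x

/-- A criterion for the failure of local balance in almost simple groups whose socle is a projective symplectic group PSp_{2m}(F) (m ≥ 2, (2m, |F|) ≠ (4, 2)). Let F be a finite field of characteristic r and K the (simple) group in question; let A be a group of automorphisms of K containing all inner automorphisms, and x ∈ A an automorphism of prime order p ≠ r that is not inner-diagonal (not induced by a conformal symplectic matrix). Then the largest normal subgroup of C_A(x) of order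 prime to p is nontrivial if and only if x is a field automorphism of K (conjugate under Aut(K) to a non-identity standard field automorphism) and p does not divide the number of fixed points of x on K. -/
theorem result {F : Type*} [Field F] [Fintype F] {r : ℕ} [Fact r.Prime] [CharP F r] {m : ℕ} (hm : 2 ≤ m) (hs : m = 2 → 3 ≤ Fintype.card F) (hK : IsSimpleGroup (Cfsg.PSp m F)) (A : Subgroup (MulAut (Cfsg.PSp m F))) (hinn : ∀ k : Cfsg.PSp m F, MulAut.conj k ∈ A) {p : ℕ} [Fact p.Prime] (hpr : p ≠ r) (x : MulAut (Cfsg.PSp m F)) (hxA : x ∈ A) (hord : orderOf x = p) (hnot : ¬ Cfsg.IsInnerDiagonalAutPSp x) :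
    Cfsg.pPrimeCore p ↥(A ⊓ Subgroup.centralizer {x}) ≠ ⊥ ↔ (Cfsg.IsFieldAutClassPSp x ∧ Nat.Coprime p (Nat.card ↥(MonoidHom.eqLocus x.toMonoidHom (MonoidHom.id (Cfsg.PSp m F))))) := by
  classical
  have hpp : p.Prime := Fact.out
  have hx1 : x ^ p = 1 := hord ▸ pow_orderOf_eq_one x
  obtain ⟨g, σ, hx⟩ := exists_semiAut_of_pow hm hs hpp hpr x hx1
  have hσ1 : σ ≠ 1 := by
    rintro rfl
    refine hnot ((CfsgLib.AutPSp.isInnerDiagonalAutPSp_iff x).2 ⟨g, ?_⟩)
    rw [hx, CfsgLib.AutPSp.semiAut, map_one, mul_one]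
  have hσ : orderOf σ = p := by
    obtain ⟨n, -, hn⟩ := CfsgLib.AutPSp.conjSp_fieldSp_pow σ g p
    have h := hx1
    rw [hx, CfsgLib.AutPSp.semiAut, ← map_pow, map_eq_one_iff _ (CfsgLib.AutPSp.toPSpAut_injective r (by omega : 1 ≤ m)),
      hn] at h
    exact orderOf_eq_prime (CfsgLib.AutPSp.semilinear_faithful hm h).1 hσ1
  obtain ⟨h, hh⟩ := CfsgLib.AutPSp.isConj_field_of_pow_eq_one hm hσ hpp.pos g
    (by rw [← CfsgLib.AutPSp.semiAut, ← hx]; exact hx1)
  set δ := CfsgLib.AutPSp.toPSpAut (CfsgLib.AutPSp.conjSp h) with hδ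
  set φ := CfsgLib.AutPSp.toPSpAut (CfsgLib.AutPSp.fieldSp (m := m) σ) with hφ
  rw [← CfsgLib.AutPSp.semiAut, ← hx] at hh
  have hclass : Cfsg.IsFieldAutClassPSp x := by
    refine ⟨δ⁻¹, σ, hσ1, (CfsgLib.AutPSp.isStdFieldAutPSp_iff σ _).2 ?_⟩
    rw [← hφ, hh]; group
  have hxφ : δ⁻¹ * x * δ = φ := by rw [hh]; group
  let A' := A.map (MulAut.conj δ⁻¹).toMonoidHom
  have hinn' : ∀ k, MulAut.conj k ∈ A' := fun k => by
    refine ⟨MulAut.conj (δ k), hinn _, ?_⟩
    ext1 y
    simp [MulAut.mul_apply, MulAut.inv_def]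
  have hmemA : ∀ y, y ∈ A' ↔ δ * y * δ⁻¹ ∈ A := by
    intro y
    constructor
    · rintro ⟨a, ha, rfl⟩
      simpa [mul_assoc] using ha
    · intro hy
      exact ⟨_, hy, by simp [mul_assoc]⟩
  let e : ↥(A ⊓ Subgroup.centralizer {x}) ≃* ↥(A' ⊓ Subgroup.centralizer {φ}) :=
    { toFun := fun a => ⟨δ⁻¹ * a.1 * δ, (hmemA _).2 (by simpa [mul_assoc] using a.2.1),
        Subgroup.mem_centralizer_singleton_iff.2 (by
          have h1 := Subgroup.mem_centralizer_singleton_iff.1 a.2.2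
          rw [← hxφ]
          calc δ⁻¹ * a.1 * δ * (δ⁻¹ * x * δ) = δ⁻¹ * (a.1 * x) * δ := by group
            _ = δ⁻¹ * (x * a.1) * δ := by rw [h1]
            _ = _ := by group)⟩
      invFun := fun a => ⟨δ * a.1 * δ⁻¹, (hmemA _).1 a.2.1, Subgroup.mem_centralizer_singleton_iff.2 (by
          have h1 := Subgroup.mem_centralizer_singleton_iff.1 a.2.2
          rw [hh]
          calc δ * a.1 * δ⁻¹ * (δ * φ * δ⁻¹) = δ * (a.1 * φ) * δ⁻¹ := by group
            _ = δ * (φ * a.1) * δ⁻¹ := by rw [h1]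
            _ = _ := by group)⟩
      left_inv := fun a => Subtype.ext (by simp [mul_assoc])
      right_inv := fun a => Subtype.ext (by simp [mul_assoc])
      map_mul' := fun a b => Subtype.ext (by simp [mul_assoc]) }
  have hcard : Nat.card ↥(MonoidHom.eqLocus x.toMonoidHom (MonoidHom.id (Cfsg.PSp m F))) =
      Nat.card ↥(MonoidHom.eqLocus φ.toMonoidHom (MonoidHom.id (Cfsg.PSp m F))) := by
    refine Nat.card_congr (Equiv.subtypeEquiv (δ⁻¹).toEquiv fun k => ?_)
    change x k = k ↔ φ (δ⁻¹ k) = δ⁻¹ k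
    rw [← hxφ]
    simp [MulAut.mul_apply, MulAut.inv_def]
  have key := CfsgLib.AutPSp.core_field_iff hm A' hinn' (p := p) (σ := σ) (fun h0 => hpr ((Nat.prime_dvd_prime_iff_eq
    (Fact.out : r.Prime) hpp).1 ((CharP.cast_eq_zero_iff F r p).1 h0)).symm) hσ
  rw [hcard, and_iff_right hclass, ← key]
  exact ⟨CfsgLib.AutPSL.pPrimeCore_ne_bot_congr e, CfsgLib.AutPSL.pPrimeCore_ne_bot_congr e.symm⟩

end Cfsg.Agent.S2730
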