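import Cfsg.Statements.S2734
import Cfsg.Agent.D4Fold.Fold
import Cfsg.Agent.D4Fold.Data
import Cfsg.Agent.E6Fold.GraphAut
import Cfsg.Agent.Chevalley.WeylData
import Cfsg.Agent.ChevSubfield.RootData

set_option autoImplicit false
open Cfsg

namespace Cfsg.Agent.S2734

open Cfsg.Lie CfsgLib CfsgLib.Chevalley CfsgLib.E6Fold

/-- A graph automorphism of order three or its square is the fixed symmetry. -/
theorem graphAut_eq {F : Type*} [Field F] (hW : GoodWeyl chevD4)
    (τ : MulAut ↥(chevD4.group F)) (hτ : chevD4.IsGraphAut τ) (h3 : orderOf τ = 3) :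
    ∃ σ : MulAut ↥(chevD4.group F), (σ = τ ∨ σ = τ * τ) ∧
      ∀ g : ↥(chevD4.group F), ((σ g : ↥(chevD4.group F)) : GL chevD4.Idx F) =
        D4Fold.psi D4Fold.d4_valid (g : GL chevD4.Idx F) := by
  obtain ⟨π, hπ, hX⟩ := hτ
  have hd := D4Fold.d4_diagram
  simp only [D4Fold.chkDiagram, Bool.and_eq_true, List.all_eq_true, List.mem_range,
    Bool.or_eq_true, Bool.not_eq_true', beq_iff_eq, List.all_eq_false] at hd
  obtain ⟨hperm, hlong⟩ := hd
  have hexp : ∀ i j : Fin chevD4.rank, chevD4.graphExp (ringChar F) i j = 1 := fun i j => by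
    rw [ChevalleyDatum.graphExp, hlong j j.isLt]
    rfl
  have hgen : ∀ (i : Fin chevD4.rank) (t : F) (b : Bool),
      τ ⟨X hW.good (genR hW.good b i) t, X_mem_group _ _ _⟩ =
        ⟨X hW.good (genR hW.good b (π i)) t, X_mem_group _ _ _⟩ := by
    intro i t b
    apply Subtype.ext
    have hx : ∀ r : Root chevD4,
        ((X hW.good r t : GL chevD4.Idx F) : Matrix chevD4.Idx chevD4.Idx F) = chevD4.x F r t :=
      fun r => (coe_eq_x_iff hW.good r.isLt).2 rfl
    have hneg : ∀ j : Fin chevD4.rank,
        chevD4.neg (chevD4.simple j) = (genR hW.good true j : ℕ) := by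
      intro j
      rw [hW.good.neg_eq (hW.good.simple_lt j.isLt)]
      rfl
    cases b with
    | false =>
      have e := (hX ⟨X hW.good (genR hW.good false i) t, X_mem_group _ _ _⟩ i t).1 (hx _)
      rw [hexp, pow_one] at e
      exact (coe_eq_x_iff hW.good (genR hW.good false (π i)).isLt).1 e
    | true =>
      have e := (hX ⟨X hW.good (genR hW.good true i) t, X_mem_group _ _ _⟩ i t).2
        (by rw [hneg]; exact hx _)
      rw [hexp, pow_one, hneg] at e
      exact (coe_eq_x_iff hW.good (genR hW.good true (π i)).isLt).1 e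
  have hgen2 : ∀ (i : Fin chevD4.rank) (t : F) (b : Bool),
      (τ * τ) ⟨X hW.good (genR hW.good b i) t, X_mem_group _ _ _⟩ =
        ⟨X hW.good (genR hW.good b (π (π i))) t, X_mem_group _ _ _⟩ := by
    intro i t b
    rw [MulAut.mul_apply, hgen, hgen]
  set L := List.ofFn fun i : Fin 4 => ((π i : Fin chevD4.rank) : ℕ) with hL
  have hget : ∀ i : Fin 4, L.getD i 0 = ((π i : Fin chevD4.rank) : ℕ) := by
    intro i
    fin_cases i <;> rfl
  have hmem : L ∈ D4Fold.injLists 4 := by
    have hlen : L.length = 4 := List.length_ofFn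
    rw [← hlen]
    refine D4Fold.mem_injLists (List.nodup_ofFn.2 fun a b e => π.injective (Fin.ext e)) fun a ha => ?_
    obtain ⟨i, rfl⟩ := List.mem_ofFn.1 ha
    exact (π i).isLt
  have hrev : ∀ k, genR hW.good true k = (pRoot hW k).rev := fun k => Fin.ext (by
    simp [genR, gen, opp, Fin.val_rev]
    omega)
  have done : ∀ σ : MulAut ↥(chevD4.group F),
      (∀ (i : Fin chevD4.rank) (t : F) (b : Bool),
        σ ⟨X hW.good (genR hW.good b i) t, X_mem_group _ _ _⟩ =
          ⟨X hW.good (genR hW.good b (D4Fold.nodeP D4Fold.d4_valid i)) t, X_mem_group _ _ _⟩) →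
      ∀ g : ↥(chevD4.group F), ((σ g : ↥(chevD4.group F)) : GL chevD4.Idx F) =
        D4Fold.psi D4Fold.d4_valid (g : GL chevD4.Idx F) := by
    intro σ hσ g
    have := hom_ext_simple hW ((chevD4.group F).subtype.comp σ.toMonoidHom)
      ((D4Fold.psi D4Fold.d4_valid).comp (chevD4.group F).subtype) fun i t b => by
        show ((σ _ : ↥(chevD4.group F)) : GL chevD4.Idx F) =
          D4Fold.psi D4Fold.d4_valid (X hW.good _ t)
        rw [hσ]
        cases b with
        | false => exact (D4Fold.psi_X_pRoot D4Fold.d4_valid hW i t).symm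
        | true =>
          simp only [hrev]
          exact (D4Fold.psi_X_pRoot_rev D4Fold.d4_valid hW i t).symm
    exact DFunLike.congr_fun this g
  rcases hperm L hmem with ((⟨i, hi, hne⟩ | hinv) | hrot) | hrot
  · exfalso
    push Not at hne
    obtain ⟨j, hj, hne⟩ := hne
    apply hne.2
    have := hπ ⟨i, hi⟩ ⟨j, hj⟩ fun e => hne.1 (congrArg Fin.val e)
    rwa [hget ⟨i, hi⟩, hget ⟨j, hj⟩]
  · exfalso
    have h2 : τ * τ = 1 := by
      have hππ : ∀ i, π (π i) = i := fun i => Fin.ext (by
        have := hinv i i.isLt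
        rwa [hget i, hget (π i)] at this)
      have := hom_ext_simple hW ((chevD4.group F).subtype.comp (τ * τ).toMonoidHom)
        (chevD4.group F).subtype fun i t b => by
          show (((τ * τ) _ : ↥(chevD4.group F)) : GL chevD4.Idx F) = _
          rw [hgen2, hππ]
          rfl
      exact MulEquiv.ext fun x => Subtype.ext (DFunLike.congr_fun this x)
    have := orderOf_dvd_of_pow_eq_one (show τ ^ 2 = 1 by rw [pow_two, h2])
    rw [h3] at this
    norm_num at this
  · refine ⟨τ, Or.inl rfl, done τ fun i t b => ?_⟩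
    rw [hgen, show π i = D4Fold.nodeP D4Fold.d4_valid i from Fin.ext (by
      rw [← hget i, hrot]; rfl)]
  · refine ⟨τ * τ, Or.inr rfl, done (τ * τ) fun i t b => ?_⟩
    have e : π (π i) = D4Fold.nodeP D4Fold.d4_valid i := Fin.ext (by
      rw [← hget (π i), ← hget i, hrot]
      fin_cases i <;> rfl)
    rw [hgen2, e]

/-- In the Chevalley group of type D₄ over a finite field F (the matrix group generated by the root elements), a graph automorphism attached to a symmetry π of the Dynkin diagram (sending each fundamental root element x_p(t) to x_{π(p)}(t) and each x_{−p}(t) to x_{−π(p)}(t)) that has order 3 — a standard triality graph automorphism, π being a 3-cycle of the three outer nodes — has fixed-point subgroup isomorphic to the Chevalley group of type G₂ over F. -/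
theorem result {F : Type*} [Field F] [Fintype F] (τ : MulAut ↥(Cfsg.Lie.chevD4.group F)) (hτ : Cfsg.Lie.chevD4.IsGraphAut τ) (hτ3 : orderOf τ = 3) :
    Nonempty (↥(MonoidHom.eqLocus τ.toMonoidHom (MonoidHom.id ↥(Cfsg.Lie.chevD4.group F))) ≃* ↥(Cfsg.Lie.chevG2.group F)) := by
  have hW : GoodWeyl chevD4 := goodWeyl_of_mem (by simp)
  have hWE : GoodWeyl chevG2 := goodWeyl_of_mem (by simp)
  obtain ⟨C, M, R, h⟩ := ChevSubfield.exists_rootGood (D := chevD4) (by simp)
  obtain ⟨e⟩ := D4Fold.nonempty_foldEquiv (F := F) D4Fold.d4_valid hW hWE h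
  obtain ⟨σ, hσ, hψ⟩ := graphAut_eq hW τ hτ hτ3
  have hττ : ∀ g, τ (τ (τ g)) = g := fun g => by
    have := pow_orderOf_eq_one τ
    rw [hτ3, pow_succ, pow_two] at this
    exact DFunLike.congr_fun this g
  have hfix : ∀ g, τ g = g ↔ σ g = g := fun g => by
    rcases hσ with rfl | rfl
    · rfl
    · rw [MulAut.mul_apply]
      exact ⟨fun e => by rw [e, e], fun e => by
        have := hττ g
        rwa [e] at this⟩
  have hmap : (MonoidHom.eqLocus τ.toMonoidHom (MonoidHom.id _)).map (chevD4.group F).subtype =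
      D4Fold.sFix D4Fold.d4_valid hW F := by
    apply le_antisymm
    · rintro _ ⟨g, hg, rfl⟩
      refine D4Fold.fixed_mem D4Fold.d4_valid hW h g.2 ?_
      show D4Fold.psi D4Fold.d4_valid (g : GL chevD4.Idx F) = g
      rw [← hψ g, (hfix g).1 hg]
    · intro g hg
      refine ⟨⟨g, D4Fold.sFix_le_group D4Fold.d4_valid hW hg⟩, (hfix _).2 (Subtype.ext ?_), rfl⟩
      rw [hψ]
      exact D4Fold.psi_sFix D4Fold.d4_valid hW hg
  exact ⟨((Subgroup.equivMapOfInjective _ _ (Subgroup.subtype_injective _)).trans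
    (MulEquiv.subgroupCongr hmap)).trans e⟩

end Cfsg.Agent.S2734
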