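import Cfsg.Statements.S2738
-- import your own Cfsg.Agent.* helpers here

set_option autoImplicit false
open Cfsg

namespace Cfsg.Agent.S2738


theorem omega_cubed {F : Type*} [Field F] [Fintype F] (hF : Fintype.card F = 4) {a : F} (ha : a ≠ 0) :
    a ^ 3 = 1 := by
  have := FiniteField.pow_card_sub_one_eq_one a ha
  rwa [hF] at this

theorem exists_omega {F : Type*} [Field F] [Fintype F] (hF : Fintype.card F = 4) :
    ∃ w : F, w ≠ 0 ∧ w ≠ 1 ∧ w ^ 3 = 1 ∧ w ^ 2 + w + 1 = 0 := by
  classical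
  obtain ⟨w, -, hw⟩ := Finset.exists_mem_notMem_of_card_lt_card
    (s := ({0, 1} : Finset F)) (t := Finset.univ) (by
      rw [Finset.card_univ, hF]
      exact lt_of_le_of_lt Finset.card_le_two (by norm_num))
  simp only [Finset.mem_insert, Finset.mem_singleton, not_or] at hw
  refine ⟨w, hw.1, hw.2, omega_cubed hF hw.1, ?_⟩
  have h : (w - 1) * (w ^ 2 + w + 1) = 0 := by linear_combination omega_cubed hF hw.1
  exact (mul_eq_zero.1 h).resolve_left (sub_ne_zero.2 hw.2)

open Matrix in
/-- The diagonal element. -/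
def diagElt {F : Type*} [Field F] (w : F) (h : w ^ 3 = 1) : Matrix.SpecialLinearGroup (Fin 3) F :=
  ⟨Matrix.diagonal ![1, w, w ^ 2], by simp [Fin.prod_univ_three, ← pow_succ', h]⟩

/-- The cyclic permutation element. -/
def cycElt (F : Type*) [Field F] : Matrix.SpecialLinearGroup (Fin 3) F :=
  ⟨!![0, 1, 0; 0, 0, 1; 1, 0, 0], by simp [Matrix.det_fin_three]⟩

/-- The special linear group SL(3, 4) has centre of order 3 and does not split over it: no subgroup is a complement to the centre (so SL(3, 4) is a non-split central extension of PSL(3, 4) by a group of order 3). -/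
theorem result (F : Type*) [Field F] [Fintype F] (hF : Fintype.card F = 4) : Nat.card ↥(Subgroup.center (Matrix.SpecialLinearGroup (Fin 3) F)) = 3 ∧ ¬ ∃ K : Subgroup (Matrix.SpecialLinearGroup (Fin 3) F), Subgroup.IsComplement' (Subgroup.center (Matrix.SpecialLinearGroup (Fin 3) F)) K := by
  obtain ⟨w, hw0, hw1, hw3, hw⟩ := exists_omega hF
  refine ⟨?_, ?_⟩
  · rw [Nat.card_congr Matrix.SpecialLinearGroup.center_equiv_rootsOfUnity.toEquiv]
    have : rootsOfUnity (max (Fintype.card (Fin 3)) 1) F = ⊤ := by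
      refine eq_top_iff.2 fun u _ => ?_
      rw [mem_rootsOfUnity]
      ext
      simpa using omega_cubed hF u.ne_zero
    rw [this, Nat.card_congr Subgroup.topEquiv.toEquiv, Nat.card_units, Nat.card_eq_fintype_card, hF]
  · rintro ⟨K, hK⟩
    set Z := Subgroup.center (Matrix.SpecialLinearGroup (Fin 3) F)
    set a := diagElt w hw3 with ha
    set b := cycElt F with hb
    set z : Matrix.SpecialLinearGroup (Fin 3) F := ⟨Matrix.scalar (Fin 3) w, by simp [hw3]⟩ with hz
    have key : z * (a * b) = b * a := by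
      apply Subtype.ext
      change Matrix.scalar (Fin 3) w * (Matrix.diagonal ![1, w, w ^ 2] * !![0, 1, 0; 0, 0, 1; 1, 0, 0]) =
        (!![0, 1, 0; 0, 0, 1; 1, 0, 0] : Matrix (Fin 3) (Fin 3) F) * Matrix.diagonal ![1, w, w ^ 2]
      ext i j
      fin_cases i <;> fin_cases j <;>
        simp [Matrix.mul_apply, Fin.sum_univ_three, pow_two] <;>
        linear_combination hw3
    have hzZ : z ∈ Z := Matrix.SpecialLinearGroup.mem_center_iff.2 ⟨w, by simp [hw3], rfl⟩
    obtain ⟨⟨⟨za, hza⟩, ⟨ka, hka⟩⟩, hea⟩ := hK.2 a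
    obtain ⟨⟨⟨zb, hzb⟩, ⟨kb, hkb⟩⟩, heb⟩ := hK.2 b
    have hc1 := Subgroup.mem_center_iff.1 hza
    have hc2 := Subgroup.mem_center_iff.1 hzb
    simp only at hea heb
    have e : z = kb * ka * kb⁻¹ * ka⁻¹ := by
      have h1 : z * (za * ka * (zb * kb)) = zb * kb * (za * ka) := by rw [hea, heb, key]
      have h2 : za * ka * (zb * kb) = za * zb * (ka * kb) := by
        rw [mul_assoc, ← mul_assoc ka, hc2 ka]; simp only [mul_assoc]
      have h3 : zb * kb * (za * ka) = za * zb * (kb * ka) := by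
        rw [mul_assoc, ← mul_assoc kb, hc1 kb, ← mul_assoc, ← mul_assoc, hc1 zb]
        simp only [mul_assoc]
      rw [h2, h3, ← mul_assoc, ← Subgroup.mem_center_iff.1 hzZ (za * zb), mul_assoc,
        mul_right_inj] at h1
      calc z = z * (ka * kb) * (ka * kb)⁻¹ := (mul_inv_cancel_right _ _).symm
        _ = kb * ka * (ka * kb)⁻¹ := by rw [h1]
        _ = _ := by group
    have hzK : z ∈ K := e ▸ K.mul_mem (K.mul_mem (K.mul_mem hkb hka) (K.inv_mem hkb)) (K.inv_mem hka)
    have hz1 : z = 1 := by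
      have := hK.disjoint.le_bot ⟨hzZ, hzK⟩
      simpa using this
    have := congrArg (fun g : Matrix.SpecialLinearGroup (Fin 3) F => (g : Matrix (Fin 3) (Fin 3) F) 0 0) hz1
    simp [hz] at this
    exact hw1 this

end Cfsg.Agent.S2738
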