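import Cfsg.Statements.S2739
-- import your own Cfsg.Agent.* helpers here

set_option autoImplicit false
open scoped Pointwise
open Cfsg

namespace Cfsg.Agent.S2739


theorem omega_cubed {F : Type*} [Field F] [Fintype F] (hF : Fintype.card F = 4) {a : F} (ha : a ≠ 0) :
    a ^ 3 = 1 := by
  have := FiniteField.pow_card_sub_one_eq_one a ha
  rwa [hF] at this

theorem exists_omega {F : Type*} [Field F] [Fintype F] (hF : Fintype.card F = 4) :
    ∃ w : F, w ≠ 0 ∧ w ≠ 1 ∧ w ^ 3 = 1 ∧ w ^ 2 + w + 1 = 0 := by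
  classical
  obtain ⟨w, -, hw⟩ := Finset.exists_mem_notMem_of_card_lt_card
    (s := ({0, 1} : Finset F)) (t := Finset.univ) (by
      rw [Finset.card_univ, hF]
      exact lt_of_le_of_lt Finset.card_le_two (by norm_num))
  simp only [Finset.mem_insert, Finset.mem_singleton, not_or] at hw
  refine ⟨w, hw.1, hw.2, omega_cubed hF hw.1, ?_⟩
  have h : (w - 1) * (w ^ 2 + w + 1) = 0 := by linear_combination omega_cubed hF hw.1
  exact (mul_eq_zero.1 h).resolve_left (sub_ne_zero.2 hw.2)

variable {F : Type*} [Field F]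

/-- The standard element of order three. -/
def diagElt (w : F) (h : w ^ 3 = 1) : Matrix.SpecialLinearGroup (Fin 3) F :=
  ⟨Matrix.diagonal ![1, w, w ^ 2], by simp [Fin.prod_univ_three, ← pow_succ', h]⟩

open Matrix in
theorem isConj_diagElt [Fintype F] (hF : Fintype.card F = 4) (w : F) (hw : w ^ 2 + w + 1 = 0)
    (hw1 : w ≠ 1) (hw3 : w ^ 3 = 1) (s : Matrix.SpecialLinearGroup (Fin 3) F) (hs : s ^ 3 = 1)
    (hns : ∀ c : F, (s : Matrix (Fin 3) (Fin 3) F) ≠ Matrix.scalar (Fin 3) c) :
    ∃ P : Matrix.SpecialLinearGroup (Fin 3) F, P * diagElt w hw3 * P⁻¹ = s := by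
  classical
  set S : Matrix (Fin 3) (Fin 3) F := ↑s with hS
  have h3 : S * (S * S) = 1 := by
    have := congrArg (fun g : Matrix.SpecialLinearGroup (Fin 3) F => (g : Matrix (Fin 3) (Fin 3) F)) hs
    simpa [pow_succ, mul_assoc] using this
  have three : (3 : F) = 1 := by
    have h2 : (2 : F) = 0 := by
      have h4 : ((4 : ℕ) : F) = 0 := by rw [← hF]; simp
      have : (2 : F) * 2 = 0 := by rw [← h4]; norm_num
      simpa using this
    linear_combination h2
  -- every vector is a combination of eigenvectors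
  let L : Set (Fin 3 → F) := {v | ∃ l : F, l ^ 3 = 1 ∧ S *ᵥ v = l • v}
  have hspan : ⊤ ≤ Submodule.span F L := by
    intro v _
    have hmem : ∀ l : F, l ^ 3 = 1 → v + l ^ 2 • S *ᵥ v + l • S *ᵥ (S *ᵥ v) ∈ L := by
      intro l hl
      refine ⟨l, hl, ?_⟩
      have e3 : S *ᵥ (S *ᵥ (S *ᵥ v)) = v := by
        rw [Matrix.mulVec_mulVec, Matrix.mulVec_mulVec, Matrix.mul_assoc, h3, Matrix.one_mulVec]
      rw [Matrix.mulVec_add, Matrix.mulVec_add, Matrix.mulVec_smul, Matrix.mulVec_smul, e3,
        smul_add, smul_add, smul_smul, smul_smul, ← pow_succ', hl, one_smul, ← pow_two]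
      abel
    have hw6 : (w ^ 2) ^ 3 = 1 := by rw [← pow_mul, pow_mul', hw3, one_pow]
    have e : v = (v + (1 : F) ^ 2 • S *ᵥ v + (1 : F) • S *ᵥ (S *ᵥ v)) +
        (v + w ^ 2 • S *ᵥ v + w • S *ᵥ (S *ᵥ v)) +
        (v + (w ^ 2) ^ 2 • S *ᵥ v + w ^ 2 • S *ᵥ (S *ᵥ v)) := by
      funext i
      simp only [Pi.add_apply, Pi.smul_apply, smul_eq_mul]
      linear_combination (-v i) * three - (S *ᵥ v) i * (hw + w * hw3) - (S *ᵥ (S *ᵥ v)) i * hw
    rw [e]
    exact add_mem (add_mem (Submodule.subset_span (hmem 1 (one_pow 3))) (Submodule.subset_span (hmem w hw3)))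
      (Submodule.subset_span (hmem _ hw6))
  let B := Module.Basis.ofSpan hspan
  let e := (Fintype.equivFinOfCardEq (by
    rw [← Module.finrank_eq_card_basis B, Module.finrank_fintype_fun_eq_card, Fintype.card_fin]))
  let B' : Module.Basis (Fin 3) F (Fin 3 → F) := B.reindex e
  have heig : ∀ i, ∃ l : F, l ^ 3 = 1 ∧ S *ᵥ B' i = l • B' i := fun i => by
    have := Module.Basis.ofSpan_subset hspan (Set.mem_range_self (e.symm i))
    simpa [B', B, L] using this
  choose l hl hl' using heig
  let Q : Matrix (Fin 3) (Fin 3) F := (Pi.basisFun F (Fin 3)).toMatrix B'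
  have hQ : ∀ i j, Q i j = B' j i := fun i j => by simp [Q, Module.Basis.toMatrix_apply]
  have hQd : Q.det ≠ 0 := by
    let := (Pi.basisFun F (Fin 3)).invertibleToMatrix B'
    exact (Matrix.isUnit_det_of_invertible Q).ne_zero
  have hSQ : ∀ r j, (S * Q) r j = l j * Q r j := by
    intro r j
    have := congrFun (hl' j) r
    simpa [Matrix.mul_apply, Matrix.mulVec, dotProduct, hQ] using this
  have hdiag : S * Q = Q * Matrix.diagonal l := by
    ext r j
    rw [hSQ, Matrix.mul_diagonal, mul_comm]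
  have hprod : l 0 * l 1 * l 2 = 1 := by
    have := congrArg Matrix.det hdiag
    rw [Matrix.det_mul, Matrix.det_mul, s.2, one_mul, Matrix.det_diagonal, Fin.prod_univ_three] at this
    exact mul_left_cancel₀ hQd (by rw [mul_one, ← this])
  have hnc : ¬ (l 0 = l 1 ∧ l 1 = l 2) := by
    rintro ⟨h0, h1⟩
    refine hns (l 0) ?_
    have hd : Matrix.diagonal l = Matrix.scalar (Fin 3) (l 0) := by
      ext r j
      fin_cases r <;> fin_cases j <;> simp [h0, h1]
    rw [hd, Matrix.scalar_commute _ (Commute.all _) Q |>.eq.symm] at hdiag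
    have := congrArg (· * Q⁻¹) hdiag
    simpa [Matrix.mul_assoc, Matrix.mul_nonsing_inv _ (isUnit_iff_ne_zero.2 hQd), hS] using this
  have h01 : l 0 ≠ l 1 := fun h => hnc ⟨h, by
    have : l 1 * l 1 * l 2 = 1 := h ▸ hprod
    linear_combination (-l 1) * this + l 2 * hl 1⟩
  have h12 : l 1 ≠ l 2 := fun h => hnc ⟨by
    have : l 0 * l 1 * l 1 = 1 := by rw [← h] at hprod; exact hprod
    linear_combination l 1 * this - l 0 * hl 1, h⟩
  have h02 : l 0 ≠ l 2 := fun h => h01 (by
    have : l 0 * l 1 * l 0 = 1 := by rw [← h] at hprod; exact hprod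
    linear_combination (-l 0) * this + l 1 * hl 0)
  have hmem : ∀ j, ∃ i : Fin 3, ![1, w, w ^ 2] i = l j := by
    intro j
    have h : (l j - 1) * ((l j - w) * (l j - w ^ 2)) = 0 := by
      linear_combination hl j - (l j ^ 2 - (l j) * w) * hw - hw3
    rcases mul_eq_zero.1 h with h | h
    · exact ⟨0, by simpa using (sub_eq_zero.1 h).symm⟩
    rcases mul_eq_zero.1 h with h | h
    · exact ⟨1, by simpa using (sub_eq_zero.1 h).symm⟩
    · exact ⟨2, by simpa using (sub_eq_zero.1 h).symm⟩
  choose k hk using hmem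
  have hkinj : Function.Injective k := by
    intro i j h
    have hij : l i = l j := (hk i).symm.trans ((congrArg _ h).trans (hk j))
    have hinj : ∀ a b : Fin 3, l a = l b → a = b := by
      intro a b hab
      fin_cases a <;> fin_cases b <;>
        first
          | rfl
          | exact absurd hab h01 | exact absurd hab h02 | exact absurd hab h12
          | exact absurd hab.symm h01 | exact absurd hab.symm h02 | exact absurd hab.symm h12
    exact hinj i j hij
  let π := Equiv.ofBijective k (Finite.injective_iff_bijective.1 hkinj)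
  -- reorder the eigenvectors and correct the determinant
  let Q' : Matrix (Fin 3) (Fin 3) F := Q.submatrix id π.symm
  have hQ'd : Q'.det ≠ 0 := by
    rw [Matrix.det_permute']
    rcases Int.units_eq_one_or (Equiv.Perm.sign π.symm) with h | h <;> simp [h, hQd]
  let P : Matrix (Fin 3) (Fin 3) F := Q' * Matrix.diagonal ![Q'.det⁻¹, 1, 1]
  have hP : P.det = 1 := by simp [P, Fin.prod_univ_three, hQ'd]
  let P' : Matrix.SpecialLinearGroup (Fin 3) F := ⟨P, hP⟩
  suffices hkey : P' * diagElt w hw3 = s * P' from ⟨P', by rw [hkey, mul_inv_cancel_right]⟩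
  apply Subtype.ext
  change P * Matrix.diagonal ![1, w, w ^ 2] = S * P
  have hSQ' : S * Q' = Q' * Matrix.diagonal ![1, w, w ^ 2] := by
    ext r j
    rw [Matrix.mul_diagonal]
    change (S * Q) r (π.symm j) = Q r (π.symm j) * _
    rw [hSQ, ← hk (π.symm j), mul_comm]
    congr 2
    exact Equiv.ofBijective_apply_symm_apply k _ j
  rw [← Matrix.mul_assoc, hSQ', Matrix.mul_assoc, Matrix.mul_assoc,
    Matrix.diagonal_mul_diagonal, Matrix.diagonal_mul_diagonal]
  congr 2
  funext i
  exact mul_comm _ _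

theorem pow_three_eq_one [Fintype F] (hF : Fintype.card F = 4)
    (s : Matrix.SpecialLinearGroup (Fin 3) F)
    (hs : s ^ 3 ∈ Subgroup.center (Matrix.SpecialLinearGroup (Fin 3) F)) : s ^ 3 = 1 := by
  obtain ⟨c, hc3, hc⟩ := Matrix.SpecialLinearGroup.mem_center_iff.1 hs
  by_contra hne
  set S : Matrix (Fin 3) (Fin 3) F := ↑s with hS
  have hc1 : c ≠ 1 := by
    rintro rfl
    exact hne (Subtype.ext (by rw [← hc]; simp))
  have hc0 : c ≠ 0 := by rintro rfl; simp at hc3
  have hirr : Irreducible (Polynomial.X ^ 3 - Polynomial.C c) := by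
    refine X_pow_sub_C_irreducible_of_prime Nat.prime_three fun b hb => ?_
    rcases eq_or_ne b 0 with rfl | hb0
    · exact hc0 (by simpa using hb.symm)
    · exact hc1 (hb.symm.trans (omega_cubed hF hb0))
  have hmon : (Polynomial.X ^ 3 - Polynomial.C c).Monic := Polynomial.monic_X_pow_sub_C c (by norm_num)
  have haeval : Polynomial.aeval S (Polynomial.X ^ 3 - Polynomial.C c) = 0 := by
    rw [map_sub, map_pow, Polynomial.aeval_X, Polynomial.aeval_C, sub_eq_zero, hS,
      ← Matrix.SpecialLinearGroup.coe_pow, ← hc]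
    rfl
  have hmin : minpoly F S = Polynomial.X ^ 3 - Polynomial.C c :=
    (minpoly.eq_of_irreducible_of_monic hirr haeval hmon).symm
  have hchar : Polynomial.X ^ 3 - Polynomial.C c = S.charpoly :=
    Polynomial.eq_of_monic_of_dvd_of_natDegree_le hmon (Matrix.charpoly_monic S)
      (hmin ▸ Matrix.minpoly_dvd_charpoly S) (by simp [Polynomial.natDegree_X_pow_sub_C]) |>.symm
  have hd := Matrix.det_eq_sign_charpoly_coeff S
  rw [← hchar, hS, s.2] at hd
  simp at hd
  exact hc1 (by linear_combination -hd)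

/-- In the projective special linear group PSL(3, 4) all subgroups of order 3 are conjugate. -/
theorem result (F : Type*) [Field F] [Fintype F] (hF : Fintype.card F = 4) (X Y : Subgroup (Matrix.ProjectiveSpecialLinearGroup (Fin 3) F)) (hX : Nat.card ↥X = 3) (hY : Nat.card ↥Y = 3) : ∃ g : Matrix.ProjectiveSpecialLinearGroup (Fin 3) F, MulAut.conj g • X = Y := by
  classical
  obtain ⟨w, -, hw1, hw3, hw⟩ := exists_omega hF
  suffices h : ∀ Z : Subgroup (Matrix.ProjectiveSpecialLinearGroup (Fin 3) F), Nat.card ↥Z = 3 →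
      ∃ g : Matrix.ProjectiveSpecialLinearGroup (Fin 3) F,
        MulAut.conj g • Subgroup.zpowers (QuotientGroup.mk (diagElt w hw3) :
          Matrix.ProjectiveSpecialLinearGroup (Fin 3) F) = Z by
    obtain ⟨g, hg⟩ := h X hX
    obtain ⟨g', hg'⟩ := h Y hY
    exact ⟨g' * g⁻¹, by rw [← hg, ← hg', smul_smul, ← map_mul, inv_mul_cancel_right]⟩
  intro Z hZ
  have : Fact (Nat.Prime 3) := ⟨Nat.prime_three⟩
  obtain ⟨x, hx, hx1⟩ : ∃ x ∈ Z, x ≠ 1 := by
    by_contra hc
    push Not at hc
    have : Z = ⊥ := eq_bot_iff.2 fun y hy => Subgroup.mem_bot.2 (hc y hy)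
    rw [this, Subgroup.card_bot] at hZ
    omega
  obtain ⟨s, rfl⟩ := QuotientGroup.mk_surjective x
  have hxpow : (QuotientGroup.mk s : Matrix.ProjectiveSpecialLinearGroup (Fin 3) F) ^ 3 = 1 := by
    have := congrArg Subtype.val (pow_card_eq_one' (x := (⟨_, hx⟩ : Z)))
    rw [hZ, SubmonoidClass.coe_pow] at this
    exact this
  have hz : Subgroup.zpowers (QuotientGroup.mk s : Matrix.ProjectiveSpecialLinearGroup (Fin 3) F) = Z := by
    refine Subgroup.eq_of_le_of_card_ge (Subgroup.zpowers_le.2 hx) ?_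
    rw [hZ, Nat.card_zpowers, orderOf_eq_prime hxpow hx1]
  have hs3 : s ^ 3 = 1 := by
    refine pow_three_eq_one hF s ?_
    rw [← QuotientGroup.eq_one_iff, QuotientGroup.mk_pow]
    exact hxpow
  obtain ⟨P, hP⟩ := isConj_diagElt hF w hw hw1 hw3 s hs3 fun c hc => hx1 (by
    rw [QuotientGroup.eq_one_iff, Matrix.SpecialLinearGroup.mem_center_iff]
    refine ⟨c, ?_, hc.symm⟩
    have := s.2
    rw [hc] at this
    simpa using this)
  refine ⟨QuotientGroup.mk P, ?_⟩
  rw [← hz, ← hP]
  change (Subgroup.zpowers _).map (MulAut.conj (QuotientGroup.mk P :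
    Matrix.ProjectiveSpecialLinearGroup (Fin 3) F)).toMonoidHom = _
  rw [MonoidHom.map_zpowers]
  congr 1

end Cfsg.Agent.S2739
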