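import Cfsg.Statements.S2756
import Cfsg.Agent.ZJInversion.Main

set_option autoImplicit false
open Cfsg

namespace Cfsg.Agent.S2756

open Subgroup
open scoped commutatorElement

theorem mem_of_two_pow {G : Type*} [Group G] (P : Sylow 2 G) [(P : Subgroup G).Normal] [Finite G]
    {g : G} {k : ℕ} (hk : g ^ 2 ^ k = 1) : g ∈ (P : Subgroup G) := by
  have h : IsPGroup 2 (zpowers g) := CfsgLib.ZJInversion.zpowers_p_group hk
  have h2 : IsPGroup 2 ↥((P : Subgroup G) ⊔ zpowers g) := P.2.to_sup_of_normal_left h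
  exact (P.3 h2 le_sup_left).le (mem_sup_right (mem_zpowers g))

theorem sylow_normal_subgroup {G : Type*} [Group G] [Finite G]
    (h : ∀ P : Sylow 2 G, (P : Subgroup G).Normal) (H : Subgroup G) (P : Sylow 2 H) :
    (P : Subgroup H).Normal := by
  obtain ⟨Q⟩ : Nonempty (Sylow 2 G) := inferInstance
  haveI := h Q
  have hle : (P : Subgroup H) ≤ (Q : Subgroup G).subgroupOf H := fun x hx => by
    obtain ⟨k, hk⟩ := CfsgLib.ZJInversion.exists_pow_prime_pow P.2 hx
    exact mem_subgroupOf.mpr (mem_of_two_pow Q (k := k) (by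
      simpa using congrArg Subtype.val hk))
  rw [← P.3 (Q.2.comap_subtype (K := H)) hle]
  infer_instance

theorem no_inverted_of_normal_sylow {G : Type*} [Group G] [Finite G] {q : ℕ} [Fact q.Prime]
    (hq : q ≠ 2) (h : ∀ P : Sylow 2 G, (P : Subgroup G).Normal) :
    CfsgLib.ZJInversion.InvFree q (⊤ : Subgroup G) := by
  intro x _ g _ hx hgx
  obtain ⟨k, hk⟩ := hx
  obtain ⟨P⟩ : Nonempty (Sylow 2 G) := inferInstance
  haveI := h P
  obtain ⟨a, m, hm, ham⟩ := Nat.exists_eq_pow_mul_and_not_dvd (orderOf_pos g).ne' 2 (by norm_num)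
  have hinv := CfsgLib.ZJInversion.pow_odd_inverts hgx (Nat.odd_iff.mpr (by omega) : Odd m)
  have hgP : g ^ m ∈ (P : Subgroup G) :=
    mem_of_two_pow P (k := a) (by rw [← pow_mul, mul_comm, ← ham, pow_orderOf_eq_one])
  have hxP : (x⁻¹) ^ 2 ∈ (P : Subgroup G) := by
    have h1 := mul_mem hgP ((h P).conj_mem _ (inv_mem hgP) x)
    have e : g ^ m * (x * (g ^ m)⁻¹ * x⁻¹) = (x⁻¹) ^ 2 := by
      calc g ^ m * (x * (g ^ m)⁻¹ * x⁻¹) = g ^ m * x * (g ^ m)⁻¹ * x⁻¹ := by group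
        _ = (x⁻¹) ^ 2 := by rw [hinv, pow_two]
    rwa [e] at h1
  obtain ⟨j, hj⟩ := CfsgLib.ZJInversion.exists_pow_prime_pow P.2 hxP
  have h3 : orderOf x⁻¹ ∣ 2 ^ (j + 1) := orderOf_dvd_of_pow_eq_one (by
    rw [pow_succ', pow_mul]; exact hj)
  have h4 : orderOf x⁻¹ ∣ q ^ k := by rw [orderOf_inv]; exact orderOf_dvd_of_pow_eq_one hk
  have := Nat.eq_one_of_dvd_coprimes (((Nat.coprime_primes Fact.out Nat.prime_two).mpr hq).pow k (j + 1))
    h4 h3
  rwa [orderOf_inv, orderOf_eq_one_iff] at this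

theorem normal_sylow_of_no_inverted {G : Type*} [Group G] [Finite G]
    (h : ∀ (q : ℕ) [Fact q.Prime], q ≠ 2 → CfsgLib.ZJInversion.InvFree q (⊤ : Subgroup G))
    (P : Sylow 2 G) : (P : Subgroup G).Normal := by
  classical
  suffices hle : (P : Subgroup G) ≤ pCore 2 G by
    rw [le_antisymm hle (CfsgLib.PLocal.pCore_le_sylow P)]
    infer_instance
  set O := pCore 2 G with hO
  by_contra hnot
  obtain ⟨t, htP, htO⟩ := SetLike.not_le_iff_exists.mp hnot
  obtain ⟨k, hk⟩ := CfsgLib.ZJInversion.exists_pow_prime_pow P.2 htP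
  have hex : ∃ j, t ^ 2 ^ j ∈ O := ⟨k, hk ▸ one_mem _⟩
  have hj := Nat.find_spec hex
  obtain ⟨j, hjeq⟩ : ∃ j, Nat.find hex = j + 1 :=
    Nat.exists_eq_add_one.2 (Nat.pos_of_ne_zero fun h0 => htO (by
      rw [h0, pow_zero, pow_one] at hj; exact hj))
  set π := QuotientGroup.mk' O with hπ
  set a := π (t ^ 2 ^ j) with ha
  have ha1 : a ≠ 1 := fun e => Nat.find_min hex (by omega) ((QuotientGroup.eq_one_iff _).mp e)
  have ha2 : a * a = 1 := by
    rw [ha, ← map_mul, ← pow_add, ← two_mul, ← pow_succ', ← hjeq]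
    exact (QuotientGroup.eq_one_iff _).mpr hj
  have hainv : a⁻¹ = a := inv_eq_of_mul_eq_one_right ha2
  obtain ⟨y, hy⟩ : ∃ y, ¬ IsPGroup 2 ↥(Subgroup.closure ({a, y * a * y⁻¹} : Set (G ⧸ O))) := by
    by_contra hall
    push Not at hall
    obtain ⟨N, hN, hNp, haN⟩ := CfsgLib.Small.baerSuzuki_elem (p := 2) a hall
    haveI : (N.comap π).Normal := hN.comap π
    have hker : IsPGroup 2 π.ker := by
      rw [QuotientGroup.ker_mk']; exact CfsgLib.PLocal.isPGroup_pCore 2 G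
    have hmem : t ^ 2 ^ j ∈ O :=
      CfsgLib.PLocal.le_pCore (hNp.comap_of_ker_isPGroup π hker) haN
    exact ha1 ((QuotientGroup.eq_one_iff _).mpr hmem)
  set b := y * a * y⁻¹ with hb
  have hbinv : b⁻¹ = b := by rw [hb, mul_inv_rev, mul_inv_rev, inv_inv, hainv, mul_assoc]
  set u := a * b with hu
  have hau : a * u * a⁻¹ = u⁻¹ := by
    rw [hu, mul_inv_rev, hbinv, hainv, ← mul_assoc a a b, ha2, one_mul]
  -- the order of `u` has an odd prime divisor
  obtain ⟨r, hr, hr2, hrd⟩ : ∃ r : ℕ, r.Prime ∧ r ≠ 2 ∧ r ∣ orderOf u := by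
    by_contra hcon
    push Not at hcon
    refine hy ?_
    have hu2 : ∃ i, orderOf u = 2 ^ i := by
      refine ⟨_, Nat.eq_prime_pow_of_unique_prime_dvd (orderOf_pos u).ne' fun {d} hd hdu => ?_⟩
      by_contra hd2
      exact hcon d hd hd2 hdu
    obtain ⟨i, hi⟩ := hu2
    have hUp : IsPGroup 2 (zpowers u) :=
      CfsgLib.ZJInversion.zpowers_p_group (k := i) (by rw [← hi, pow_orderOf_eq_one])
    have hAp : IsPGroup 2 (zpowers a) :=
      CfsgLib.ZJInversion.zpowers_p_group (k := 1) (by rw [pow_one, pow_two, ha2])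
    have hnorm : zpowers a ≤ normalizer (zpowers u : Set (G ⧸ O)) := by
      rw [zpowers_le, mem_normalizer_iff_map_conj_eq, MonoidHom.map_zpowers]
      show zpowers (a * u * a⁻¹) = _
      rw [hau, zpowers_inv]
    refine (hUp.to_sup_of_normal_left' hAp hnorm).to_le ((closure_le _).mpr ?_)
    rintro w (rfl | rfl)
    · exact mem_sup_right (mem_zpowers _)
    · have e : b = a⁻¹ * u := by rw [hu, inv_mul_cancel_left]
      rw [SetLike.mem_coe, e]
      exact mul_mem (mem_sup_right (inv_mem (mem_zpowers a))) (mem_sup_left (mem_zpowers u))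
  haveI : Fact r.Prime := ⟨hr⟩
  set w := u ^ (orderOf u / r) with hw
  have hwo : orderOf w = r := orderOf_pow_orderOf_div (orderOf_pos u).ne' hrd
  have hfree := CfsgLib.ZJInversion.invFree_range hr2 π (h r hr2)
  have hw1 := hfree w (QuotientGroup.mk'_surjective O w) a (QuotientGroup.mk'_surjective O a)
    ⟨1, by rw [pow_one, ← hwo, pow_orderOf_eq_one]⟩ (by
      rw [hw, ← conj_pow, hau, inv_pow])
  rw [hw1, orderOf_one] at hwo
  exact hr.one_lt.ne hwo

/-- For a finite group G the following are equivalent: (a) G has a normal Sylow 2-subgroup; (b) for every odd prime q dividing the order of G and every Sylow q-subgroup T, the normalizer of Z(J(T)) has a normal Sylow 2-subgroup; (c) for every odd prime q and every Sylow q-subgroup T, no nonidentity element of T is inverted by an element of the normalizer of Z(J(T)). Here J(T) is the Thompson subgroup generated by the abelian subgroups of T of largest order. Stated as the two equivalences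 (a) ⇔ (b) and (a) ⇔ (c). -/
theorem result {G : Type*} [Group G] [Finite G] : ((∀ P : Sylow 2 G, (P : Subgroup G).Normal) ↔ ∀ (q : ℕ) [Fact q.Prime], q ≠ 2 → q ∣ Nat.card G → ∀ T : Sylow q G, ∀ P : Sylow 2 ↥(Subgroup.normalizer (Cfsg.centerThompsonAOf (T : Subgroup G) : Set G)), (P : Subgroup ↥(Subgroup.normalizer (Cfsg.centerThompsonAOf (T : Subgroup G) : Set G))).Normal) ∧ ((∀ P : Sylow 2 G, (P : Subgroup G).Normal) ↔ ∀ (q : ℕ) [Fact q.Prime], q ≠ 2 → ∀ T : Sylow q G, ∀ x ∈ (T : Subgroup G), x ≠ 1 → ∀ g ∈ Subgroup.normalizer (Cfsg.centerThompsonAOf (T : Subgroup G) : Set G), g * x * g⁻¹ ≠ x⁻¹) := by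
  have step : (∀ (q : ℕ) [Fact q.Prime], q ≠ 2 → ∀ T : Sylow q G, ∀ x ∈ (T : Subgroup G), x ≠ 1 →
      ∀ g ∈ Subgroup.normalizer (Cfsg.centerThompsonAOf (T : Subgroup G) : Set G),
        g * x * g⁻¹ ≠ x⁻¹) → ∀ P : Sylow 2 G, (P : Subgroup G).Normal := fun hc => by
    refine normal_sylow_of_no_inverted fun q _ hq => ?_
    obtain ⟨T⟩ : Nonempty (Sylow q G) := inferInstance
    refine CfsgLib.ZJInversion.invFree_top hq T ?_
    set N := Subgroup.normalizer (Cfsg.centerThompsonAOf (T : Subgroup G) : Set G) with hN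
    intro x hx g hg hxk hgx
    obtain ⟨k, hk⟩ := hxk
    have hTN : (T : Subgroup G) ≤ N :=
      le_normalizer.trans (CfsgLib.PLocal.normalizer_le_normalizer_centerThompsonAOf _)
    -- move `x` into `T` inside `N`
    obtain ⟨S, hS⟩ :=
      (CfsgLib.ZJInversion.zpowers_p_group (p := q) (x := (⟨x, hx⟩ : N)) (k := k)
        (Subtype.ext hk)).exists_le_sylow
    obtain ⟨c, hc'⟩ := MulAction.exists_smul_eq N S (T.subtype hTN)
    have hcx : (c : G) * x * (c : G)⁻¹ ∈ (T : Subgroup G) := by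
      have h1 : c * ⟨x, hx⟩ * c⁻¹ ∈ ((c • S : Sylow q N) : Subgroup N) :=
        ⟨⟨x, hx⟩, hS (mem_zpowers _), rfl⟩
      rw [hc'] at h1
      exact h1
    by_contra hx1
    refine hc q hq T _ hcx (fun e => hx1 (conj_eq_one_iff.mp e)) ((c : G) * g * (c : G)⁻¹)
      (mul_mem (mul_mem c.2 hg) (inv_mem c.2)) ?_
    calc (c : G) * g * (c : G)⁻¹ * ((c : G) * x * (c : G)⁻¹) * ((c : G) * g * (c : G)⁻¹)⁻¹
        = (c : G) * (g * x * g⁻¹) * (c : G)⁻¹ := by group
      _ = ((c : G) * x * (c : G)⁻¹)⁻¹ := by rw [hgx]; group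
  have bc : (∀ (q : ℕ) [Fact q.Prime], q ≠ 2 → q ∣ Nat.card G → ∀ T : Sylow q G,
      ∀ P : Sylow 2 ↥(Subgroup.normalizer (Cfsg.centerThompsonAOf (T : Subgroup G) : Set G)),
        (P : Subgroup ↥(Subgroup.normalizer (Cfsg.centerThompsonAOf (T : Subgroup G) : Set G))).Normal) →
      ∀ (q : ℕ) [Fact q.Prime], q ≠ 2 → ∀ T : Sylow q G, ∀ x ∈ (T : Subgroup G), x ≠ 1 →
      ∀ g ∈ Subgroup.normalizer (Cfsg.centerThompsonAOf (T : Subgroup G) : Set G),
        g * x * g⁻¹ ≠ x⁻¹ := fun hb q _ hq T x hx hx1 g hg hgx => by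
    obtain ⟨k, hk⟩ := CfsgLib.ZJInversion.exists_pow_prime_pow T.2 hx
    have hdvd : q ∣ Nat.card G := by
      have h1 : orderOf x ∣ q ^ k := orderOf_dvd_of_pow_eq_one hk
      obtain ⟨i, -, hi⟩ := (Nat.dvd_prime_pow Fact.out).mp h1
      rcases i with _ | i
      · exact absurd (orderOf_eq_one_iff.mp (by rw [hi, pow_zero])) hx1
      · exact (dvd_pow_self q i.succ_ne_zero).trans (hi ▸ orderOf_dvd_natCard x)
    have hxN : x ∈ Subgroup.normalizer (Cfsg.centerThompsonAOf (T : Subgroup G) : Set G) :=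
      le_normalizer.trans (CfsgLib.PLocal.normalizer_le_normalizer_centerThompsonAOf _) hx
    have := no_inverted_of_normal_sylow hq (hb q hq hdvd T) ⟨x, hxN⟩ (mem_top _) ⟨g, hg⟩
      (mem_top _) ⟨k, Subtype.ext hk⟩ (Subtype.ext hgx)
    exact hx1 (congrArg Subtype.val this)
  have ab : (∀ P : Sylow 2 G, (P : Subgroup G).Normal) → ∀ (q : ℕ) [Fact q.Prime], q ≠ 2 →
      q ∣ Nat.card G → ∀ T : Sylow q G,
      ∀ P : Sylow 2 ↥(Subgroup.normalizer (Cfsg.centerThompsonAOf (T : Subgroup G) : Set G)),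
        (P : Subgroup ↥(Subgroup.normalizer (Cfsg.centerThompsonAOf (T : Subgroup G) : Set G))).Normal :=
    fun ha _ _ _ _ _ P => sylow_normal_subgroup ha _ P
  exact ⟨⟨ab, fun hb => step (bc hb)⟩, ⟨fun ha => bc (ab ha), step⟩⟩

end Cfsg.Agent.S2756
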