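import Cfsg.Statements.S2758
import Cfsg.Agent.LocalEven.Involves

set_option autoImplicit false
open Cfsg

namespace Cfsg.Agent.S2758

/-- For an odd prime p and a finite group G the following are equivalent: the dihedral group of order 2p is involved in G; some element of 2-power order normalizes but does not centralize some p-subgroup of G; some element of 2-power order inverts some nonidentity element of p-power order. -/
theorem result {G : Type*} [Group G] [Finite G] {p : ℕ} [Fact p.Prime] (hp : p ≠ 2) : (Cfsg.Involves (DihedralGroup p) G ↔ ∃ (x : G) (P : Subgroup G), (∃ k : ℕ, orderOf x = 2 ^ k) ∧ IsPGroup p ↥P ∧ x ∈ Subgroup.normalizer (P : Set G) ∧ x ∉ Subgroup.centralizer (P : Set G)) ∧ (Cfsg.Involves (DihedralGroup p) G ↔ ∃ x y : G, (∃ k : ℕ, orderOf x = 2 ^ k) ∧ (∃ k : ℕ, orderOf y = p ^ k) ∧ y ≠ 1 ∧ x * y * x⁻¹ = y⁻¹) := by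
  have hab : Cfsg.Involves (DihedralGroup p) G →
      ∃ (x : G) (P : Subgroup G), (∃ k : ℕ, orderOf x = 2 ^ k) ∧ IsPGroup p ↥P ∧
        x ∈ Subgroup.normalizer (P : Set G) ∧ x ∉ Subgroup.centralizer (P : Set G) := by
    intro h
    obtain ⟨K, f, hf⟩ := CfsgLib.LocalEven.exists_surjective_of_involves' h
    obtain ⟨x, P, ⟨k, hk⟩, hP, hxP, u, hu, hfu⟩ :=
      CfsgLib.LocalEven.exists_twisted_of_surjective hp hf (r := DihedralGroup.r 1)
        (s := DihedralGroup.sr 0) DihedralGroup.orderOf_r_one (DihedralGroup.sr_mul_self 0)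
        (by simp) (by
          rintro (i | i)
          · exact Subgroup.mem_zpowers_iff.mpr ⟨1, by simp⟩
          · exact Subgroup.mem_zpowers_iff.mpr ⟨-1, by simp⟩)
    refine ⟨x, P.map K.subtype, ⟨k, by rw [Subgroup.orderOf_coe, hk]⟩, hP.map _,
      Subgroup.le_normalizer_map K.subtype ⟨x, hxP, rfl⟩, fun hc => hfu ?_⟩
    have hux : (x : G) * u = u * x :=
      (Subgroup.mem_centralizer_iff.mp hc (u : G) ⟨u, hu, rfl⟩).symm
    have hux' : x * u = u * x := Subtype.ext hux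
    rw [show u⁻¹ * x * u * x⁻¹ = u⁻¹ * (x * u) * x⁻¹ by group, hux']
    simp
  have hbc : (∃ (x : G) (P : Subgroup G), (∃ k : ℕ, orderOf x = 2 ^ k) ∧ IsPGroup p ↥P ∧
      x ∈ Subgroup.normalizer (P : Set G) ∧ x ∉ Subgroup.centralizer (P : Set G)) →
      ∃ x y : G, (∃ k : ℕ, orderOf x = 2 ^ k) ∧ (∃ k : ℕ, orderOf y = p ^ k) ∧ y ≠ 1 ∧
        x * y * x⁻¹ = y⁻¹ := by
    rintro ⟨x, P, hx2, hP, hxP, hxc⟩
    obtain ⟨z, hz, y, hy, hyM, hinv⟩ := CfsgLib.LocalEven.exists_inverted_not_mem hp (M := ⊥) hP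
      hx2 hxP (by rw [Subgroup.normalizer_eq_top_iff.mpr inferInstance]; exact Subgroup.mem_top x)
      (by
        by_contra hall
        push Not at hall
        refine hxc (Subgroup.mem_centralizer_iff.mpr fun u hu => ?_)
        have := Subgroup.mem_bot.mp (hall u hu)
        rw [mul_inv_eq_one, mul_assoc, inv_mul_eq_iff_eq_mul] at this
        exact this.symm)
    obtain ⟨k, hk⟩ := hx2
    refine ⟨z, y, CfsgLib.LocalEven.exists_orderOf_eq_pow_of_mem_zpowers hz hk, ?_,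
      fun h => hyM (h ▸ one_mem _), hinv⟩
    obtain ⟨j, hj⟩ := hP ⟨y, hy⟩
    obtain ⟨i, -, hi⟩ := (Nat.dvd_prime_pow Fact.out).mp
      (orderOf_dvd_of_pow_eq_one (congrArg Subtype.val hj : y ^ p ^ j = 1))
    exact ⟨i, hi⟩
  have hca : (∃ x y : G, (∃ k : ℕ, orderOf x = 2 ^ k) ∧ (∃ k : ℕ, orderOf y = p ^ k) ∧ y ≠ 1 ∧
      x * y * x⁻¹ = y⁻¹) → Cfsg.Involves (DihedralGroup p) G := by
    rintro ⟨x, y, hx, ⟨k, hk⟩, hy1, hinv⟩
    obtain ⟨i, hi1, hi2⟩ := CfsgLib.LocalEven.exists_pow_step hk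
      (fun h => hy1 (Subgroup.mem_bot.mp h) : y ∉ (⊥ : Subgroup G))
    exact CfsgLib.LocalEven.involves_dihedral_of_inverted hp
      (orderOf_eq_prime (Subgroup.mem_bot.mp hi2) fun h => hi1 (Subgroup.mem_bot.mpr h)) hx
      (by rw [← conj_pow, hinv, inv_pow])
  exact ⟨⟨hab, fun h => hca (hbc h)⟩, ⟨fun h => hbc (hab h), hca⟩⟩

end Cfsg.Agent.S2758
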