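import Cfsg.Statements.S2760
import Cfsg.Agent.LocalStructure.Cores
import Cfsg.Agent.LocalStructure.Reduced

set_option autoImplicit false
open Cfsg

namespace Cfsg.Agent.S2760

/-- Let G be a finite group with C_G(O₂(G)) ≤ O₂(G) and H a subgroup of G such that H is normal in G, or the subgroup O²(H) generated by the elements of H of odd order is normal in G. Then C_H(O₂(H)) ≤ O₂(H). -/
theorem result {G : Type*} [Group G] [Finite G] (hchar : Subgroup.centralizer (Cfsg.pCore 2 G : Set G) ≤ Cfsg.pCore 2 G) (H : Subgroup G) (hH : H.Normal ∨ ((Cfsg.pResidual 2 ↥H).map H.subtype).Normal) : Subgroup.centralizer (Cfsg.pCore 2 ↥H : Set ↥H) ≤ Cfsg.pCore 2 ↥H := by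
  have hR : (CfsgLib.LocalStructure.pResOf 2 H).Normal := by
    rcases hH with h | h
    · exact CfsgLib.LocalStructure.pResOf_normal H
    · rwa [CfsgLib.LocalStructure.map_pResidual] at h
  rw [CfsgLib.LocalStructure.charP_iff]
  set D := Cfsg.pCoreOf 2 H with hD
  set R := CfsgLib.LocalStructure.pResOf 2 H with hRdef
  have hQR : Cfsg.pCore 2 G ⊓ R ≤ D := by
    refine CfsgLib.LocalStructure.le_pCoreOf (inf_le_right.trans (CfsgLib.LocalStructure.pResOf_le H))
      ?_ (CfsgLib.LocalStructure.pCore_isPGroup.to_inf_left)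
    haveI := CfsgLib.LocalStructure.pCore_normal (p := 2) (G := G)
    rw [Subgroup.normalizer_eq_top_iff.mpr
      (inferInstance : (Cfsg.pCore 2 G ⊓ R).Normal)]
    exact le_top
  have hodd : ∀ x ∈ H ⊓ Subgroup.centralizer (D : Set G), (orderOf x).Coprime 2 → x = 1 := by
    intro x hx hox
    have hxR : x ∈ R := CfsgLib.LocalStructure.mem_pResOf hx.1 hox
    suffices hxQ : x ∈ Cfsg.pCore 2 G by
      obtain ⟨k, hk⟩ := CfsgLib.LocalStructure.pCore_isPGroup (p := 2) (G := G) ⟨x, hxQ⟩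
      have h1 : orderOf x ∣ 2 ^ k := orderOf_dvd_of_pow_eq_one (congrArg Subtype.val hk)
      exact orderOf_eq_one_iff.mp (Nat.eq_one_of_dvd_coprimes (hox.pow_right k) dvd_rfl h1)
    refine hchar (Subgroup.mem_centralizer_iff.mpr fun q hq => ?_)
    haveI := CfsgLib.LocalStructure.pCore_normal (p := 2) (G := G)
    set d := q * x * q⁻¹ * x⁻¹ with hd
    have hdQ : d ∈ Cfsg.pCore 2 G := by
      have := mul_mem (hq : q ∈ Cfsg.pCore 2 G) ((inferInstance : (Cfsg.pCore 2 G).Normal).conj_mem _ (inv_mem hq) x)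
      rw [hd]; simpa [mul_assoc] using this
    have hdR : d ∈ R := by
      rw [hd]
      exact mul_mem (hR.conj_mem x hxR q) (inv_mem hxR)
    have hc : Commute d x := Subgroup.mem_centralizer_iff.mp hx.2 d (hQR ⟨hdQ, hdR⟩)
    obtain ⟨k, hk⟩ := CfsgLib.LocalStructure.pCore_isPGroup (p := 2) (G := G) ⟨d, hdQ⟩
    have h1 : orderOf d ∣ 2 ^ k := orderOf_dvd_of_pow_eq_one (congrArg Subtype.val hk)
    have hcop : (orderOf d).Coprime (orderOf x) :=
      Nat.Coprime.coprime_dvd_left h1 (hox.pow_right k).symm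
    have h2 : orderOf d * orderOf x = orderOf x := by
      rw [← hc.orderOf_mul_eq_mul_orderOf_of_coprime hcop,
        show d * x = MulAut.conj q x by simp [hd, mul_assoc], MulEquiv.orderOf_eq]
    have h3 : d = 1 := orderOf_eq_one_iff.mp
      (Nat.eq_of_mul_eq_mul_right (orderOf_pos x) (h2.trans (one_mul _).symm))
    rw [hd] at h3
    exact mul_inv_eq_iff_eq_mul.mp (mul_inv_eq_one.mp h3)
  refine CfsgLib.LocalStructure.le_pCoreOf inf_le_left ?_ ?_
  · intro g hg
    refine Subgroup.mem_normalizer_iff.mpr fun x => ?_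
    have h1 : ∀ g ∈ H, ∀ x ∈ H ⊓ Subgroup.centralizer (D : Set G),
        g * x * g⁻¹ ∈ H ⊓ Subgroup.centralizer (D : Set G) := fun g hg x hx =>
      Subgroup.mem_inf.mpr ⟨mul_mem (mul_mem hg hx.1) (inv_mem hg),
        (Subgroup.mem_normalizer_iff.mp (CfsgLib.LocalStructure.normalizer_le_normalizer_centralizer D
          (CfsgLib.LocalStructure.le_normalizer_pCoreOf H hg)) x).mp hx.2⟩
    refine ⟨h1 g hg x, fun hx => ?_⟩
    have := h1 g⁻¹ (inv_mem hg) _ hx
    simpa [mul_assoc] using this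
  · refine IsPGroup.iff_card.mpr ⟨(Nat.card ↥(H ⊓ Subgroup.centralizer (D : Set G))).primeFactorsList.length,
      Nat.eq_prime_pow_of_unique_prime_dvd Nat.card_pos.ne' fun {r} hr hrdvd => ?_⟩
    by_contra hr2
    haveI : Fact r.Prime := ⟨hr⟩
    obtain ⟨x, hx⟩ := exists_prime_orderOf_dvd_card'
      (G := ↥(H ⊓ Subgroup.centralizer (D : Set G))) r hrdvd
    rw [← Subgroup.orderOf_coe] at hx
    have := hodd x x.2 (hx ▸ (Nat.coprime_primes hr Nat.prime_two).mpr hr2)
    rw [this, orderOf_one] at hx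
    exact hr.ne_one hx.symm

end Cfsg.Agent.S2760
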