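import Cfsg.Statements.S2762
import Cfsg.Agent.LocalEven.QdOver

set_option autoImplicit false
open Cfsg

namespace Cfsg.Agent.S2762

open CfsgLib.LocalEven.QdOver in
lemma natural {F : Type*} [Field F] :
    Cfsg.IsNaturalSL2Module F (transl F) (emb (F := F)).range := by
  refine ⟨by rw [Subgroup.normalizer_eq_top_iff.mpr inferInstance]; exact le_top, ?_⟩
  let ψ : Additive ↥(transl F) ≃+ (Fin 2 → F) :=
    { toFun := fun v => ![v.toMul.1.1.1 0 2, v.toMul.1.1.1 1 2]
      invFun := fun w => Additive.ofMul ⟨tr (w 0) (w 1), tr_mem _ _⟩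
      left_inv := fun v => by
        obtain ⟨x, y, e⟩ := exists_eq_tr v.toMul.2
        apply Additive.toMul.injective
        apply Subtype.ext
        show tr _ _ = v.toMul.1
        refine (mk_congr rfl rfl rfl rfl ?_ ?_).trans e.symm
        · show v.toMul.1.1.1 0 2 = x
          rw [e]; rfl
        · show v.toMul.1.1.1 1 2 = y
          rw [e]; rfl
      right_inv := fun w => by
        ext i
        fin_cases i <;> simp [tr, val_mk]
      map_add' := fun v w => by
        obtain ⟨x, y, e⟩ := exists_eq_tr v.toMul.2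
        obtain ⟨x', y', e'⟩ := exists_eq_tr w.toMul.2
        have e2 : (v + w).toMul.1 = tr (x + x') (y + y') := by
          show v.toMul.1 * w.toMul.1 = _
          rw [e, e', tr_mul]
        ext i
        fin_cases i <;> simp [e, e', tr, val_mk] <;> ring }
  have hψ : ∀ x y : F, ∀ h, ψ (Additive.ofMul ⟨tr x y, h⟩) = ![x, y] := fun x y h => by
    ext i
    fin_cases i <;> simp [ψ, tr, val_mk]
  refine ⟨block.comp (emb (F := F)).range.subtype, ψ, fun g => ⟨⟨emb g, g, rfl⟩, block_emb g⟩, ?_, ?_⟩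
  · ext ⟨M, g, rfl⟩
    rw [MonoidHom.mem_ker, MonoidHom.comp_apply, Subgroup.mem_subgroupOf, Subgroup.coe_subtype,
      block_emb, Subgroup.mem_centralizer_iff]
    constructor
    · rintro rfl v -
      show v * emb 1 = emb 1 * v
      rw [map_one, mul_one, one_mul]
    · intro h
      have key : ∀ x y : F,
          tr (g.1 0 0 * x + g.1 0 1 * y) (g.1 1 0 * x + g.1 1 1 * y) = tr x y := fun x y => by
        rw [← mk_conj_tr, ← h _ (tr_mem x y), mul_inv_cancel_right]
      obtain ⟨-, -, -, -, a, c⟩ := mk_inj (key 1 0)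
      obtain ⟨-, -, -, -, b, d⟩ := mk_inj (key 0 1)
      simp at a b c d
      apply Subtype.ext
      ext i j
      fin_cases i <;> fin_cases j <;> simp [a, b, c, d]
  · rintro ⟨l, g, rfl⟩ ⟨v, hv⟩
    obtain ⟨x, y, rfl⟩ := exists_eq_tr hv
    refine ⟨⟨tr (g.1 0 0 * x + g.1 0 1 * y) (g.1 1 0 * x + g.1 1 1 * y), tr_mem _ _⟩,
      (mk_conj_tr g x y).symm, ?_⟩
    rw [hψ, hψ, MonoidHom.comp_apply, Subgroup.coe_subtype, block_emb]
    ext i
    fin_cases i <;> simp [Matrix.mulVec, dotProduct, Fin.sum_univ_two]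

/-- Structure of Qd over a finite field F of characteristic p (the affine subgroup of SL₃(F)): its largest normal p-subgroup is the group of translations (matrices with upper-left block the identity), the block-diagonal matrices form a complement isomorphic to SL₂(F), and the translation subgroup is a natural SL₂(F)-module for that complement. -/
theorem result {F : Type*} [Field F] [Fintype F] {p : ℕ} [Fact p.Prime] [CharP F p] : (∀ M : ↥(Cfsg.qdOver F), M ∈ Cfsg.pCore p ↥(Cfsg.qdOver F) ↔ ((M : Matrix.SpecialLinearGroup (Fin 3) F) : Matrix (Fin 3) (Fin 3) F) 0 0 = 1 ∧ ((M : Matrix.SpecialLinearGroup (Fin 3) F) : Matrix (Fin 3) (Fin 3) F) 0 1 = 0 ∧ ((M : Matrix.SpecialLinearGroup (Fin 3) F) : Matrix (Fin 3) (Fin 3) F) 1 0 = 0 ∧ ((M : Matrix.SpecialLinearGroup (Fin 3) F) : Matrix (Fin 3) (Fin 3) F) 1 1 = 1) ∧ ∃ K : Subgroup ↥(Cfsg.qdOver F), (∀ M : ↥(Cfsg.qdOver F), M ∈ K ↔ ((M : Matrix.SpecialLinearGroup (Fin 3) F) : Matrix (Fin 3) (Fin 3)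 F) 0 2 = 0 ∧ ((M : Matrix.SpecialLinearGroup (Fin 3) F) : Matrix (Fin 3) (Fin 3) F) 1 2 = 0) ∧ K ⊓ Cfsg.pCore p ↥(Cfsg.qdOver F) = ⊥ ∧ K ⊔ Cfsg.pCore p ↥(Cfsg.qdOver F) = ⊤ ∧ Nonempty (↥K ≃* Matrix.SpecialLinearGroup (Fin 2) F) ∧ Cfsg.IsNaturalSL2Module F (Cfsg.pCore p ↥(Cfsg.qdOver F)) K := by
  rw [CfsgLib.LocalEven.QdOver.pCore_eq_transl]
  refine ⟨fun M => CfsgLib.LocalEven.QdOver.mem_transl_iff M,
    (CfsgLib.LocalEven.QdOver.emb (F := F)).range, ?_, ?_, ?_, ?_, natural⟩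
  · intro M
    constructor
    · rintro ⟨g, rfl⟩
      simp [CfsgLib.LocalEven.QdOver.emb, CfsgLib.LocalEven.QdOver.val_mk]
    · rintro ⟨h1, h2⟩
      obtain ⟨a, b, c, d, x, y, h, rfl⟩ := CfsgLib.LocalEven.QdOver.exists_eq_mk M
      have hx : x = 0 := by simpa [CfsgLib.LocalEven.QdOver.val_mk] using h1
      have hy : y = 0 := by simpa [CfsgLib.LocalEven.QdOver.val_mk] using h2
      exact ⟨CfsgLib.LocalEven.QdOver.sl2 a b c d h, CfsgLib.LocalEven.QdOver.mk_congr
        (h := CfsgLib.LocalEven.QdOver.sl2_eta (CfsgLib.LocalEven.QdOver.sl2 a b c d h)) (by simp [CfsgLib.LocalEven.QdOver.sl2]) (by simp [CfsgLib.LocalEven.QdOver.sl2])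
        (by simp [CfsgLib.LocalEven.QdOver.sl2]) (by simp [CfsgLib.LocalEven.QdOver.sl2]) hx.symm hy.symm⟩
  · rw [eq_bot_iff]
    rintro M ⟨⟨g, rfl⟩, h2⟩
    have hg : g = 1 := (CfsgLib.LocalEven.QdOver.block_emb g).symm.trans (MonoidHom.mem_ker.mp h2)
    rw [hg, map_one]
    exact one_mem _
  · rw [eq_top_iff]
    intro M _
    have e : M = CfsgLib.LocalEven.QdOver.emb (CfsgLib.LocalEven.QdOver.block M) *
        ((CfsgLib.LocalEven.QdOver.emb (CfsgLib.LocalEven.QdOver.block M))⁻¹ * M) := by group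
    rw [e]
    refine mul_mem (Subgroup.mem_sup_left ⟨_, rfl⟩) (Subgroup.mem_sup_right ?_)
    rw [CfsgLib.LocalEven.QdOver.transl, MonoidHom.mem_ker, map_mul, map_inv,
      CfsgLib.LocalEven.QdOver.block_emb, inv_mul_cancel]
  · exact ⟨(MonoidHom.ofInjective (Function.LeftInverse.injective
      (g := CfsgLib.LocalEven.QdOver.block) CfsgLib.LocalEven.QdOver.block_emb)).symm⟩

end Cfsg.Agent.S2762
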