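import Cfsg.Statements.S2763
import Cfsg.Agent.LocalEven.QdOver

set_option autoImplicit false
open Cfsg

namespace Cfsg.Agent.S2763

open CfsgLib.LocalEven.QdOver Subgroup
open scoped Pointwise

variable {p : ℕ} [hp : Fact p.Prime]

/-- The upper unitriangular subgroup. -/
def unip (p : ℕ) [Fact p.Prime] : Subgroup ↥(Cfsg.qdOver (ZMod p)) :=
  (CfsgLib.Linear.upperSL (F := ZMod p)).comap block

lemma mem_unip {a b c d x y : ZMod p} {h : a * d - b * c = 1} :
    mk a b c d x y h ∈ unip p ↔ a = 1 ∧ c = 0 ∧ d = 1 := by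
  rw [unip, mem_comap, block_mk]
  constructor
  · rintro ⟨z, hz⟩
    have e : !![1, Multiplicative.toAdd z; 0, 1] = !![a, b; c, d] := by
      rw [← CfsgLib.Linear.upperUni_val]; exact congrArg Subtype.val hz
    exact ⟨(congrFun (congrFun e 0) 0).symm, (congrFun (congrFun e 1) 0).symm,
      (congrFun (congrFun e 1) 1).symm⟩
  · rintro ⟨rfl, rfl, rfl⟩
    exact ⟨Multiplicative.ofAdd b, Subtype.ext (by
      show (CfsgLib.Linear.upperUni b).1 = _
      rw [CfsgLib.Linear.upperUni_val, sl2_val])⟩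

lemma transl_le_unip : transl (ZMod p) ≤ unip p := fun M hM => by
  rw [unip, mem_comap, MonoidHom.mem_ker.mp hM]
  exact one_mem _

lemma isPGroup_unip : IsPGroup p ↥(unip p) :=
  IsPGroup.comap_of_ker_isPGroup (CfsgLib.Linear.isPGroup_upperSL (F := ZMod p) p) block isPGroup_transl

/-- The standard Sylow subgroup. -/
noncomputable def stdSylow (p : ℕ) [Fact p.Prime] : Sylow p ↥(Cfsg.qd p) :=
  (isPGroup_unip (p := p)).toSylow (by
    rw [unip, Subgroup.index_comap_of_surjective _ block_surjective,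
      CfsgLib.Linear.index_upperSL, ZMod.card]
    intro h
    have hp' := (Fact.out : p.Prime)
    have h1 : p ∣ p ^ 2 := dvd_pow_self p (by norm_num)
    have h2 := Nat.dvd_sub h1 h
    rw [Nat.sub_sub_self (Nat.one_le_pow _ _ hp'.pos)] at h2
    exact hp'.one_lt.ne' (Nat.dvd_one.mp h2))

lemma coe_stdSylow : ((stdSylow p : Sylow p ↥(Cfsg.qd p)) : Subgroup ↥(Cfsg.qd p)) = unip p := rfl

/-- The Borel subgroup. -/
def borel (p : ℕ) [Fact p.Prime] : Subgroup ↥(Cfsg.qdOver (ZMod p)) :=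
  Subgroup.normalizer (unip p : Set ↥(Cfsg.qdOver (ZMod p)))

lemma mem_borel {a b c d x y : ZMod p} {h : a * d - b * c = 1} :
    mk a b c d x y h ∈ borel p ↔ c = 0 := by
  constructor
  · intro hn
    have hu : mk (1 : ZMod p) 1 0 1 0 0 (by ring) ∈ unip p := mem_unip.mpr ⟨rfl, rfl, rfl⟩
    obtain ⟨a', b', c', d', x', y', h', e⟩ := exists_eq_mk
      (mk a b c d x y h * mk 1 1 0 1 0 0 (by ring) * (mk a b c d x y h)⁻¹)
    have hm := (mem_normalizer_iff.mp hn _).mp hu
    rw [e, mem_unip] at hm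
    obtain ⟨rfl, rfl, rfl⟩ := hm
    rw [mul_inv_eq_iff_eq_mul, mk_mul, mk_mul] at e
    obtain ⟨e1, e2, e3, e4, -, -⟩ := mk_inj e
    have : c * c = 0 := by linear_combination c * e4 - d * e3
    simpa using this
  · rintro rfl
    have key : ∀ (a b d x y : ZMod p) (h : a * d - b * 0 = 1), ∀ M ∈ unip p,
        mk a b 0 d x y h * M * (mk a b 0 d x y h)⁻¹ ∈ unip p := by
      intro a b d x y h M hM
      obtain ⟨a₁, b₁, c₁, d₁, x₁, y₁, h₁, rfl⟩ := exists_eq_mk M
      obtain ⟨rfl, rfl, rfl⟩ := mem_unip.mp hM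
      obtain ⟨a', b', c', d', x', y', h', e⟩ := exists_eq_mk
        (mk a b 0 d x y h * mk 1 b₁ 0 1 x₁ y₁ h₁ * (mk a b 0 d x y h)⁻¹)
      rw [e, mem_unip]
      rw [mul_inv_eq_iff_eq_mul, mk_mul, mk_mul] at e
      obtain ⟨e1, e2, e3, e4, -, -⟩ := mk_inj e
      have ha : a ≠ 0 := fun ha => by simp [ha] at h
      have hd : d ≠ 0 := fun hd => by simp [hd] at h
      have hc' : c' = 0 := by
        have : c' * a = 0 := by linear_combination -e3
        simpa [ha] using this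
      subst hc'
      refine ⟨?_, rfl, ?_⟩
      · have : (a' - 1) * a = 0 := by linear_combination -e1
        simpa [ha, sub_eq_zero] using this
      · have : (d' - 1) * d = 0 := by linear_combination -e4
        simpa [hd, sub_eq_zero] using this
    rw [borel]
    refine mem_normalizer_iff.mpr fun M => ⟨key a b d x y h M, fun hM => ?_⟩
    obtain ⟨a', b', c', d', x', y', h', e⟩ := exists_eq_mk (mk a b 0 d x y h)⁻¹
    have e0 := inv_eq_iff_mul_eq_one.mp e
    rw [mk_mul, ← mk_one] at e0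
    obtain ⟨-, -, e3, -, -, -⟩ := mk_inj e0
    have hd : d ≠ 0 := fun hd => by simp [hd] at h
    have hc' : c' = 0 := by
      have : d * c' = 0 := by linear_combination e3
      simpa [hd] using this
    subst hc'
    have := key a' b' d' x' y' h' _ hM
    rw [← e] at this
    simpa [mul_assoc] using this

lemma borel_maximal (H : Subgroup ↥(Cfsg.qdOver (ZMod p))) (hH : borel p ≤ H) :
    H = borel p ∨ H = ⊤ := by
  by_cases hle : H ≤ borel p
  · exact Or.inl (le_antisymm hle hH)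
  right
  obtain ⟨M, hM, hMB⟩ := SetLike.not_le_iff_exists.mp hle
  have hfac : ∀ M ∉ borel p, ∃ B₁ ∈ borel p, ∃ B₂ ∈ borel p,
      M = B₁ * mk 0 (-1) 1 0 0 0 (by ring) * B₂ := by
    intro M hM
    obtain ⟨a, b, c, d, x, y, h, rfl⟩ := exists_eq_mk M
    have hc : c ≠ 0 := fun hc => hM (mem_borel.mpr hc)
    refine ⟨mk 1 (a / c) 0 1 x y (by ring), mem_borel.mpr rfl,
      mk c d 0 c⁻¹ 0 0 (by field_simp; ring), mem_borel.mpr rfl, ?_⟩
    rw [mk_mul, mk_mul]
    refine mk_congr (by field_simp; ring) ?_ (by ring) (by ring) (by ring) (by ring)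
    field_simp
    linear_combination -c * h
  obtain ⟨B₁, hB₁, B₂, hB₂, rfl⟩ := hfac M hMB
  rw [eq_top_iff]
  intro N _
  by_cases hN : N ∈ borel p
  · exact hH hN
  obtain ⟨C₁, hC₁, C₂, hC₂, rfl⟩ := hfac N hN
  have hw : mk (0 : ZMod p) (-1) 1 0 0 0 (by ring) ∈ H := by
    have := mul_mem (mul_mem (inv_mem (hH hB₁)) hM) (inv_mem (hH hB₂))
    simpa [mul_assoc] using this
  exact mul_mem (mul_mem (hH hC₁) hw) (hH hC₂)

lemma borel_ne_top : borel p ≠ ⊤ := fun h => by
  have := mem_borel.mp (h ▸ mem_top (mk (0 : ZMod p) (-1) 1 0 0 0 (by ring)))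
  exact one_ne_zero this

lemma normal_le_unip (W : Subgroup ↥(Cfsg.qdOver (ZMod p))) [W.Normal] (hW : W ≤ unip p)
    (hne : W ≠ ⊥) : W = transl (ZMod p) := by
  have hle : W ≤ transl (ZMod p) := by
    have := CfsgLib.PLocal.le_pCore (isPGroup_unip.to_le hW)
    rwa [pCore_eq_transl] at this
  refine le_antisymm hle ?_
  obtain ⟨M, hM, hM1⟩ := (bot_or_exists_ne_one W).resolve_left hne
  obtain ⟨x, y, rfl⟩ := exists_eq_tr (hle hM)
  have hconj : ∀ (g : Matrix.SpecialLinearGroup (Fin 2) (ZMod p)) x y, tr x y ∈ W →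
      tr (g.1 0 0 * x + g.1 0 1 * y) (g.1 1 0 * x + g.1 1 1 * y) ∈ W := fun g x y h => by
    rw [← mk_conj_tr]
    exact (inferInstance : W.Normal).conj_mem _ h _
  have hswap : ∀ x y, tr x y ∈ W → tr (-y) x ∈ W := fun x y h => by
    simpa [sl2] using hconj (sl2 0 (-1) 1 0 (by ring)) x y h
  obtain ⟨x, y, hxy, hy⟩ : ∃ x y, tr x y ∈ W ∧ y ≠ (0 : ZMod p) := by
    by_cases hy : y = 0
    · subst hy
      refine ⟨_, x, hswap x 0 hM, fun hx => hM1 ?_⟩
      rw [hx, tr_zero]
    · exact ⟨x, y, hM, hy⟩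
  have h0 : ∀ t : ZMod p, tr t 0 ∈ W := by
    intro t
    have h1 := mul_mem (hconj (sl2 1 (t / y) 0 1 (by ring)) x y hxy) (inv_mem hxy)
    have e : tr x y * tr t 0 = tr (x + t) y := by rw [tr_mul]; simp
    simp [sl2, hy] at h1
    have h2 : tr (x + t) y * (tr x y)⁻¹ = tr t 0 := by
      rw [mul_inv_eq_iff_eq_mul, tr_mul]; congr 1 <;> ring
    rwa [h2] at h1
  intro N hN
  obtain ⟨s, t, rfl⟩ := exists_eq_tr hN
  have h3 := mul_mem (h0 s) (hswap _ _ (h0 t))
  rw [tr_mul] at h3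
  simpa using h3

lemma normalizer_le_normalizer_map {G : Type*} [Group G] (S : Subgroup G) (T : Subgroup ↥S)
    [T.Characteristic] :
    Subgroup.normalizer (S : Set G) ≤ Subgroup.normalizer ((T.map S.subtype : Subgroup G) : Set G) := by
  have key : ∀ n ∈ Subgroup.normalizer (S : Set G), ∀ x ∈ T.map S.subtype,
      n * x * n⁻¹ ∈ T.map S.subtype := by
    rintro n hn _ ⟨t, ht, rfl⟩
    let α : ↥S ≃* ↥S :=
      { toFun := fun z => ⟨n * z * n⁻¹, (mem_normalizer_iff.mp hn _).mp z.2⟩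
        invFun := fun z => ⟨n⁻¹ * z * n, (mem_normalizer_iff.mp hn _).mpr (by
          simp [mul_assoc, z.2])⟩
        left_inv := fun z => Subtype.ext (by simp [mul_assoc])
        right_inv := fun z => Subtype.ext (by simp [mul_assoc])
        map_mul' := fun z w => Subtype.ext (by simp [mul_assoc]) }
    exact ⟨α t, Subgroup.characteristic_iff_le_comap.mp ‹T.Characteristic› α ht, rfl⟩
  intro n hn
  refine mem_normalizer_iff.mpr fun x => ⟨key n hn x, fun hx => ?_⟩
  have h := key n⁻¹ (inv_mem hn) _ hx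
  simpa [mul_assoc] using h

lemma main (g : ↥(Cfsg.qdOver (ZMod p))) (S : Subgroup ↥(Cfsg.qdOver (ZMod p)))
    (hSU : S = (unip p).map (MulAut.conj g).toMonoidHom) (T : Subgroup ↥S)
    (hT : T ≠ ⊥) [T.Characteristic] :
    Subgroup.normalizer ((T.map S.subtype : Subgroup ↥(Cfsg.qdOver (ZMod p))) : Set ↥(Cfsg.qdOver (ZMod p))) =
      Subgroup.normalizer (S : Set ↥(Cfsg.qdOver (ZMod p))) ∧
    Subgroup.normalizer (S : Set ↥(Cfsg.qdOver (ZMod p))) ≠ ⊤ := by
  set W := T.map S.subtype with hW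
  have hNW : Subgroup.normalizer (S : Set ↥(Cfsg.qdOver (ZMod p))) ≤ Subgroup.normalizer (W : Set ↥(Cfsg.qdOver (ZMod p))) :=
    normalizer_le_normalizer_map S T
  have hNS : Subgroup.normalizer (S : Set ↥(Cfsg.qdOver (ZMod p))) =
      (borel p).map (MulAut.conj g).toMonoidHom := by
    rw [hSU, borel]
    exact (Subgroup.map_equiv_normalizer_eq (unip p) (MulAut.conj g)).symm
  have hne : Subgroup.normalizer (S : Set ↥(Cfsg.qdOver (ZMod p))) ≠ ⊤ := by
    rw [hNS]
    intro h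
    refine borel_ne_top (p := p) (map_injective (f := (MulAut.conj g).toMonoidHom) (MulAut.conj g).injective ?_)
    rw [h, Subgroup.map_top_of_surjective _ (MulAut.conj g).surjective]
  refine ⟨?_, hne⟩
  have hcomap : (Subgroup.normalizer (W : Set ↥(Cfsg.qdOver (ZMod p)))).comap (MulAut.conj g).toMonoidHom = borel p ∨
      (Subgroup.normalizer (W : Set ↥(Cfsg.qdOver (ZMod p)))).comap (MulAut.conj g).toMonoidHom = ⊤ := by
    refine borel_maximal _ fun x hx => ?_
    exact hNW (hNS ▸ ⟨x, hx, rfl⟩)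
  rcases hcomap with h | h
  · rw [hNS, ← h, Subgroup.map_comap_eq_self_of_surjective (MulAut.conj g).surjective]
  exfalso
  have hWn : W.Normal := by
    refine normalizer_eq_top_iff.mp ?_
    rw [← Subgroup.map_comap_eq_self_of_surjective (f := (MulAut.conj g).toMonoidHom)
      (MulAut.conj g).surjective (Subgroup.normalizer (W : Set ↥(Cfsg.qdOver (ZMod p)))), h,
      Subgroup.map_top_of_surjective _ (MulAut.conj g).surjective]
  set W₀ := W.comap (MulAut.conj g).toMonoidHom with hW₀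
  have : W₀.Normal := hWn.comap _
  have hW₀U : W₀ ≤ unip p := by
    intro x hx
    have hxS : MulAut.conj g x ∈ S := Subgroup.map_subtype_le _ hx
    rw [hSU] at hxS
    obtain ⟨u, hu, e⟩ := hxS
    exact (MulAut.conj g).injective e ▸ hu
  have hW₀ne : W₀ ≠ ⊥ := fun e => hT (by
    have h1 : W = ⊥ := by
      rw [eq_bot_iff]
      intro x hx
      have hx' : (MulAut.conj g).symm x ∈ W₀ := by
        show MulAut.conj g ((MulAut.conj g).symm x) ∈ W
        rwa [MulEquiv.apply_symm_apply]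
      rw [e, mem_bot] at hx'
      rw [mem_bot, ← (MulAut.conj g).apply_symm_apply x, hx', map_one]
    exact (Subgroup.map_eq_bot_iff_of_injective _ S.subtype_injective).mp h1)
  have hW₀T := normal_le_unip W₀ hW₀U hW₀ne
  -- an automorphism of `S` moves `T`
  let e₁ : ↥(unip p) ≃* ↥S := ((unip p).equivMapOfInjective (MulAut.conj g).toMonoidHom
    (MulAut.conj g).injective).trans (MulEquiv.subgroupCongr hSU.symm)
  have he₁ : ∀ u : ↥(unip p), (e₁ u : ↥(Cfsg.qdOver (ZMod p))) = MulAut.conj g u := fun u => rfl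
  let φ : ↥(unip p) → ↥(unip p) := fun M => ⟨mk 1 (M.1.1.1 1 2) 0 1
    (M.1.1.1 0 1 * M.1.1.1 1 2 - M.1.1.1 0 2) (M.1.1.1 0 1) (by ring), mem_unip.mpr ⟨rfl, rfl, rfl⟩⟩
  have hrep : ∀ M : ↥(unip p), ∃ b x y, M.1 = mk (1 : ZMod p) b 0 1 x y (by ring) := by
    rintro ⟨M, hM⟩
    obtain ⟨a, b, c, d, x, y, h, rfl⟩ := exists_eq_mk M
    obtain ⟨rfl, rfl, rfl⟩ := mem_unip.mp hM
    exact ⟨b, x, y, rfl⟩
  have hφ : ∀ M b x y, M.1 = mk (1 : ZMod p) b 0 1 x y (by ring) →
      (φ M).1 = mk 1 y 0 1 (b * y - x) b (by ring) := by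
    intro M b x y e
    exact mk_congr (h := by ring) rfl (by rw [e]; simp [val_mk]) rfl rfl (by rw [e]; simp [val_mk])
      (by rw [e]; simp [val_mk])
  have hinv : ∀ M, φ (φ M) = M := fun M => by
    obtain ⟨b, x, y, e⟩ := hrep M
    apply Subtype.ext
    rw [hφ _ _ _ _ (hφ M b x y e), e]
    exact mk_congr rfl rfl rfl rfl (by ring) rfl
  let Φ : ↥(unip p) ≃* ↥(unip p) :=
    { toFun := φ, invFun := φ, left_inv := hinv, right_inv := hinv
      map_mul' := fun M N => by
        obtain ⟨b, x, y, e⟩ := hrep M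
        obtain ⟨b', x', y', e'⟩ := hrep N
        apply Subtype.ext
        show (φ (M * N)).1 = (φ M).1 * (φ N).1
        rw [hφ _ _ _ _ e, hφ _ _ _ _ e', mk_mul, hφ (M * N) (b + b') (x + x' + b * y') (y + y')
          (by
            rw [Subgroup.coe_mul, e, e', mk_mul]
            exact mk_congr (by ring) (by ring) (by ring) (by ring) (by ring) (by ring))]
        exact mk_congr (by ring) (by ring) (by ring) (by ring) (by ring) (by ring) }
  let v : ↥(unip p) := ⟨tr 0 1, transl_le_unip (tr_mem _ _)⟩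
  have hv : e₁ v ∈ T := by
    have h1 : (v : ↥(Cfsg.qdOver (ZMod p))) ∈ W₀ := hW₀T ▸ tr_mem (0 : ZMod p) 1
    obtain ⟨s, hs, es⟩ := (h1 : MulAut.conj g (v : ↥(Cfsg.qdOver (ZMod p))) ∈ W)
    have : s = e₁ v := Subtype.ext (es.trans (he₁ v).symm)
    exact this ▸ hs
  have hfix := Subgroup.characteristic_iff_le_comap.mp ‹T.Characteristic›
    ((e₁.symm.trans Φ).trans e₁) hv
  simp only [mem_comap, MulEquiv.coe_toMonoidHom, MulEquiv.trans_apply,
    MulEquiv.symm_apply_apply] at hfix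
  have h2 : ((Φ v : ↥(unip p)) : ↥(Cfsg.qdOver (ZMod p))) ∈ W₀ := by
    show MulAut.conj g _ ∈ W
    rw [← he₁]
    exact ⟨_, hfix, rfl⟩
  rw [hW₀T] at h2
  obtain ⟨-, h3, -, -⟩ := (mem_transl_iff _).mp h2
  have h4 : (φ v).1 = mk 1 (1 : ZMod p) 0 1 (0 * 1 - 0) 0 (by ring) := hφ v 0 0 1 rfl
  have h5 : ((Φ v : ↥(unip p)) : ↥(Cfsg.qdOver (ZMod p))) = mk 1 (1 : ZMod p) 0 1 (0 * 1 - 0) 0 (by ring) := h4
  rw [h5] at h3
  simp [val_mk] at h3

/-- In the group Qd(p) (p prime; the natural semidirect product of an elementary abelian group of order p² by SL₂(p)), the normalizer of every nontrivial characteristic subgroup of a Sylow p-subgroup S equals the normalizer of S, which is a proper subgroup; in particular no such characteristic subgroup is normal. -/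
theorem result {p : ℕ} [Fact p.Prime] (S : Sylow p ↥(Cfsg.qd p)) (T : Subgroup ↥(S : Subgroup ↥(Cfsg.qd p))) (hT : T ≠ ⊥) (hTc : T.Characteristic) : Subgroup.normalizer ((T.map (S : Subgroup ↥(Cfsg.qd p)).subtype : Subgroup ↥(Cfsg.qd p)) : Set ↥(Cfsg.qd p)) = Subgroup.normalizer ((S : Subgroup ↥(Cfsg.qd p)) : Set ↥(Cfsg.qd p)) ∧ Subgroup.normalizer ((S : Subgroup ↥(Cfsg.qd p)) : Set ↥(Cfsg.qd p)) ≠ ⊤ := by
  obtain ⟨g, rfl⟩ := MulAction.exists_smul_eq ↥(Cfsg.qd p) (stdSylow p) S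
  exact @main p _ g _ (by rw [Sylow.coe_subgroup_smul, coe_stdSylow]; rfl) T hT hTc

end Cfsg.Agent.S2763
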