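import Cfsg.Statements.S2765
import Cfsg.Agent.LocalEven50.PushingUpRankOne

set_option autoImplicit false
open Cfsg

namespace Cfsg.Agent.S2765

open CfsgLib.LocalEven50

/-- In the same pushing-up situation (G finite, C_G(O_p(G)) ≤ O_p(G), G/K ≅ PSL₂(p^n) with n ≥ 1, a Sylow p-subgroup S in exactly one maximal subgroup, no nontrivial characteristic subgroup of S normal in G), one of the following holds: (I) S has nilpotency class 2, exponent 4 if p = 2 and exponent p otherwise, and G has exactly one noncentral chief factor inside O_p(G); or (II) p = 3, S has class 3 and exponent 9, and G has exactly two noncentral chief factors inside O_p(G). 'Exactly one' is phrased as: some noncentral chief factor U/W inside O_p(G) with G acting hypercentrally on W and on O_p(G)/U; 'exactly two' analogously with a chain. -/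
theorem result {G : Type*} [Group G] [Finite G] {p : ℕ} [Fact p.Prime] (S : Sylow p G) (hE₁ : Subgroup.centralizer (Cfsg.pCore p G : Set G) ≤ Cfsg.pCore p G) (hE₂ : ∃! M : Subgroup G, IsCoatom M ∧ (S : Subgroup G) ≤ M) (K : Subgroup G) [K.Normal] (F : Type) [Field F] [Fintype F] (n : ℕ) (hn : 1 ≤ n) (hF : Fintype.card F = p ^ n) (hE₃ : Nonempty (G ⧸ K ≃* Matrix.ProjectiveSpecialLinearGroup (Fin 2) F)) (hd : ∀ T : Subgroup ↥(S : Subgroup G), T ≠ ⊥ → T.Characteristic → ¬ (T.map (S : Subgroup G).subtype).Normal) : ((S : Subgroup G).lowerCentralSeries 2 = ⊥ ∧ (S : Subgroup G).lowerCentralSeries 1 ≠ ⊥ ∧ (p = 2 → Monoid.exponent ↥(S : Subgroup G) = 4) ∧ (p ≠ 2 → Monoid.exponent ↥(S : Subgroup G) = p) ∧ (∃ U W : Subgroup G, W ≤ U ∧ U ≤ (Cfsg.pCore p G) ∧ Cfsg.IsChiefFactor U W ∧ ¬ ⁅U, (⊤ : Subgroup G)⁆ ≤ W ∧ (∃ k : ℕ, Cfsg.iterCommutator W ⊤ k = ⊥) ∧ (∃ k : ℕ, Cfsg.iterCommutator (Cfsg.pCore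 p G) ⊤ k ≤ U))) ∨ (p = 3 ∧ (S : Subgroup G).lowerCentralSeries 3 = ⊥ ∧ (S : Subgroup G).lowerCentralSeries 2 ≠ ⊥ ∧ Monoid.exponent ↥(S : Subgroup G) = 9 ∧ (∃ U₁ W₁ U₂ W₂ : Subgroup G, W₁ ≤ U₁ ∧ U₁ ≤ W₂ ∧ W₂ ≤ U₂ ∧ U₂ ≤ (Cfsg.pCore p G) ∧ Cfsg.IsChiefFactor U₁ W₁ ∧ Cfsg.IsChiefFactor U₂ W₂ ∧ ¬ ⁅U₁, (⊤ : Subgroup G)⁆ ≤ W₁ ∧ ¬ ⁅U₂, (⊤ : Subgroup G)⁆ ≤ W₂ ∧ (∃ k : ℕ, Cfsg.iterCommutator W₁ ⊤ k = ⊥) ∧ (∃ k : ℕ, Cfsg.iterCommutator W₂ ⊤ k ≤ U₁) ∧ (∃ k : ℕ, Cfsg.iterCommutator (Cfsg.pCore p G) ⊤ k ≤ U₂))) := by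
  haveI := pCore_normal p G
  obtain ⟨ρ, h⟩ := CfsgLib.LocalEven50.pushUp_rank_one S hE₁ hE₂ K F n hF hE₃ hd
  have hV : zR p G ≤ pCore p G := inf_le_left
  have hzero : ∃ k : ℕ, Cfsg.iterCommutator (zG p G) ⊤ k = ⊥ :=
    ⟨1, Subgroup.commutator_eq_bot_iff_le_centralizer.mpr inf_le_right⟩
  rcases h with h | ⟨T, h⟩
  · left
    obtain ⟨N, hN, hNS, hRN⟩ := h.central
    obtain ⟨hchief, hnon⟩ := h.rep.chief h.surj inf_le_left
    exact ⟨h.class_two, h.nonabelian, h.exponent_two, h.exponent_odd, zR p G, zG p G, inf_le_left,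
      hV, hchief, hnon, hzero, exists_iterCommutator_le S.2 (CfsgLib.PLocal.pCore_le_sylow S) hNS hRN⟩
  · right
    obtain ⟨N, hN, hNS, hTN⟩ := h.central
    haveI := h.normal
    obtain ⟨hchief, hnon⟩ := h.rep.chief h.surj inf_le_left
    obtain ⟨hchief', hnon'⟩ := h.rep'.chief h.surj h.le_core
    exact ⟨h.eq_three, h.class_three, h.class_ne_two, h.exponent, zR p G, zG p G, pCore p G, T,
      inf_le_left, h.zR_le, h.le_core, le_rfl, hchief, hchief', hnon, hnon', hzero,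
      exists_iterCommutator_le S.2 (h.le_core.trans (CfsgLib.PLocal.pCore_le_sylow S)) hNS hTN,
      0, le_rfl⟩

end Cfsg.Agent.S2765
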