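import Cfsg.Statements.S2766
import Cfsg.Agent.LocalEven50.QdSplit
import Cfsg.Agent.LocalEven50.QdUnip

set_option autoImplicit false
open Cfsg
open scoped commutatorElement

namespace Cfsg.Agent.S2766

theorem le_normalizer_map_of_normal {H : Type*} [Group H] (G : Subgroup H) (X : Subgroup ↥G)
    [X.Normal] : G ≤ Subgroup.normalizer ((X.map G.subtype : Subgroup H) : Set H) := by
  refine le_trans ?_ (Subgroup.le_normalizer_map G.subtype)
  rw [Subgroup.normalizer_eq_top, ← MonoidHom.range_eq_map, Subgroup.range_subtype]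

theorem normalizer_le_of_char {H : Type*} [Group H] {G : Subgroup H} (S : Subgroup ↥G)
    (T : Subgroup ↥S) [T.Characteristic] :
    Subgroup.normalizer ((S.map G.subtype : Subgroup H) : Set H) ≤
      Subgroup.normalizer (((T.map S.subtype).map G.subtype : Subgroup H) : Set H) := by
  intro g hg
  set K := S.map G.subtype with hK
  obtain ⟨e, he⟩ : ∃ e : ↥S ≃* ↥K, ∀ x : ↥S, ((e x : ↥K) : H) = ((x : ↥G) : H) :=
    ⟨S.equivMapOfInjective G.subtype G.subtype_injective,
      fun x => Subgroup.coe_equivMapOfInjective_apply S G.subtype G.subtype_injective x⟩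
  have hT : (T.map S.subtype).map G.subtype = (T.map e.toMonoidHom).map K.subtype := by
    rw [Subgroup.map_map, Subgroup.map_map]
    congr 1
    ext x
    exact (he x).symm
  rw [hT, Subgroup.mem_normalizer_iff_map_conj_eq]
  let φ : MulAut ↥K := K.normalizerMonoidHom ⟨g, hg⟩
  conv_rhs => rw [← Subgroup.characteristic_iff_map_eq.mp (inferInstance : T.Characteristic)
    ((e.trans φ).trans e.symm)]
  rw [Subgroup.map_map, Subgroup.map_map, Subgroup.map_map, Subgroup.map_map]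
  congr 1
  ext x
  simp [φ]

/-- Let p ≥ 5 be prime and G a maximal p-local subgroup of a finite group H (G is the normalizer of a nontrivial p-subgroup and lies in no other such normalizer). Suppose C_G(O_p(G)) ≤ O_p(G), G/K ≅ PSL₂(p^n) for some normal K and n ≥ 1, a Sylow p-subgroup S of G lies in exactly one maximal subgroup of G, and N_H(S) is not contained in G. Then G = G₀ × E for subgroups G₀ ≅ Qd(p^n) (the natural semidirect product of the plane over the field with p^n elements by SL₂) and E an elementary abelian p-group. -/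
theorem result {H : Type*} [Group H] [Finite H] {p : ℕ} [Fact p.Prime] (hp : 5 ≤ p) (G : Subgroup H) (hloc : ∃ R : Subgroup H, IsPGroup p ↥R ∧ R ≠ ⊥ ∧ G = Subgroup.normalizer (R : Set H)) (hmax : ∀ R : Subgroup H, IsPGroup p ↥R → R ≠ ⊥ → G ≤ Subgroup.normalizer (R : Set H) → Subgroup.normalizer (R : Set H) = G) (S : Sylow p ↥G) (hE₁ : Subgroup.centralizer (Cfsg.pCore p ↥G : Set ↥G) ≤ Cfsg.pCore p ↥G) (hE₂ : ∃! M : Subgroup ↥G, IsCoatom M ∧ (S : Subgroup ↥G) ≤ M) (K : Subgroup ↥G) [K.Normal] (F : Type) [Field F] [Fintype F] (n : ℕ) (hn : 1 ≤ n) (hF : Fintype.card F = p ^ n) (hE₃ : Nonempty (↥G ⧸ K ≃* Matrix.ProjectiveSpecialLinearGroup (Fin 2) F)) (hN : ¬ Subgroup.normalizer (((S : Subgroup ↥G).map G.subtype : Subgroup H) : Set H) ≤ G) : ∃ G₀ E : Subgroup H, Cfsg.IsInternalDirectProduct G₀ E G ∧ Cfsg.IsElementaryAbelian p E ∧ Nonempty (↥G₀ ≃* ↥(Cfsg.qdOver F)) := by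
  classical
  obtain ⟨R₀, hR₀, hR₀1, hGR₀⟩ := hloc
  have hpr : p.Prime := Fact.out
  haveI := pCore_normal p ↥G
  -- normalizers of nontrivial `p`-subgroups normalised by `G`
  have hmaxel : ∀ d : H, d ≠ 1 → d ^ p = 1 → (∀ g ∈ G, g * d = d * g) →
      ∀ g : H, g * d * g⁻¹ ∈ Subgroup.zpowers d → g ∈ G := by
    intro d hd hdp hdG g hg
    have hne : Subgroup.zpowers d ≠ ⊥ := by rwa [Ne, Subgroup.zpowers_eq_bot]
    have hpg : IsPGroup p ↥(Subgroup.zpowers d) := by
      refine IsPGroup.of_card (n := 1) ?_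
      rw [Nat.card_zpowers, orderOf_eq_prime hdp hd, pow_one]
    have hle : G ≤ Subgroup.normalizer (Subgroup.zpowers d : Set H) := fun x hx =>
      Subgroup.centralizer_le_normalizer _ (Subgroup.mem_centralizer_iff.mpr fun y hy => by
        obtain ⟨i, rfl⟩ := hy
        exact ((Commute.zpow_right (show Commute x d from hdG x hx) i).eq).symm)
    rw [← hmax _ hpg hne hle]
    refine Subgroup.mem_normalizer_iff_map_conj_eq.mpr ?_
    refine Subgroup.eq_of_le_of_card_ge ?_ (Nat.card_congr ((Subgroup.zpowers d).equivMapOfInjective _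
      (MulAut.conj g).injective).toEquiv).le
    rw [MonoidHom.map_zpowers, Subgroup.zpowers_le]
    simpa using hg
  -- normal subgroups of `G` characteristic in `S`
  have hd : ∀ T : Subgroup ↥(S : Subgroup ↥G), T ≠ ⊥ → T.Characteristic →
      ¬ (T.map (S : Subgroup ↥G).subtype).Normal := by
    intro T hT hc hn
    apply hN
    set T' := (T.map (S : Subgroup ↥G).subtype).map G.subtype with hT'
    have hne : T' ≠ ⊥ := by
      rw [hT', Ne, Subgroup.map_eq_bot_iff_of_injective _ G.subtype_injective,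
        Subgroup.map_eq_bot_iff_of_injective _ (Subgroup.subtype_injective _)]
      exact hT
    have hpg : IsPGroup p ↥T' := ((S.2.to_subgroup T).map _).map _
    haveI := hn
    haveI := hc
    have hle := le_normalizer_map_of_normal G (T.map (S : Subgroup ↥G).subtype)
    exact (normalizer_le_of_char _ T).trans (hmax T' hpg hne hle).le
  obtain ⟨ρ, hcase⟩ := CfsgLib.LocalEven50.pushUp_rank_one S hE₁ hE₂ K F n hF hE₃ hd
  have hI : CfsgLib.LocalEven50.PUCaseI p (S : Subgroup ↥G) ρ := by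
    rcases hcase with h | ⟨T, h⟩
    · exact h
    · have := h.eq_three; omega
  haveI : CharP F p := by
    obtain ⟨r, hr⟩ := CharP.exists F
    haveI : Fact r.Prime := ⟨CharP.char_is_prime F r⟩
    obtain ⟨k, -, hk⟩ := FiniteField.card F r
    have : r ∣ p ^ n := hF ▸ hk ▸ dvd_pow_self r k.pos.ne'
    rwa [(Nat.prime_dvd_prime_iff_eq (Fact.out) hpr).mp ((Fact.out : r.Prime).dvd_of_dvd_pow this)] at hr
  obtain ⟨R₁, e, hR₁, he⟩ := hI.exists_split hp
  have hR₁S : R₁ ≤ (S : Subgroup ↥G) := hR₁.trans (CfsgLib.PLocal.pCore_le_sylow S)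
  have hexp : ∀ r : ↥R₁, r ^ p = 1 := fun r => by
    have h1 := Monoid.pow_exponent_eq_one (⟨r, hR₁S r.2⟩ : ↥(S : Subgroup ↥G))
    rw [hI.exponent_odd (by omega)] at h1
    exact Subtype.ext (congrArg (fun z : ↥(S : Subgroup ↥G) => ((z : ↥G))) h1)
  have hclass : ∀ a b c : ↥R₁, ⁅⁅a, b⁆, c⁆ = 1 := fun a b c => by
    have h2 := hI.class_two
    rw [show (2 : ℕ) = 1 + 1 from rfl, Subgroup.lowerCentralSeries_succ,
      Subgroup.lowerCentralSeries_succ, Subgroup.lowerCentralSeries_zero] at h2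
    exact Subtype.ext (Subgroup.mem_bot.mp (h2.le (Subgroup.commutator_mem_commutator
      (Subgroup.commutator_mem_commutator (hR₁S a.2) (hR₁S b.2)) (hR₁S c.2))))
  have hab : ∀ a b : ↥R₁, a * b = b * a := by
    by_contra hne
    push Not at hne
    obtain ⟨r, r', hrr⟩ := hne
    -- the Sylow subgroup `Unip × R₁`
    set U := CfsgLib.LocalEven50.qdUnip F with hU
    let ι₀ : ↥U × ↥R₁ →* ↥(qdOver F) × ↥R₁ := U.subtype.prodMap (MonoidHom.id _)
    let ι : ↥U × ↥R₁ →* H := G.subtype.comp (e.toMonoidHom.comp ι₀)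
    have hιinj : Function.Injective ι := by
      intro z w h
      have h1 := e.injective (G.subtype_injective h)
      exact Prod.ext (Subtype.ext (congrArg Prod.fst h1)) (congrArg Prod.snd h1 : _)
    have hidx : ¬ p ∣ U.index := by
      rw [hU, CfsgLib.LocalEven50.qdUnip,
        Subgroup.index_comap_of_surjective _ CfsgLib.LocalEven.QdOver.block_surjective]
      intro hd'
      have hinj : Function.Injective (CfsgLib.LocalEven50.upperHom F) := fun s t h => by
        have h' := congrArg (fun g : Matrix.SpecialLinearGroup (Fin 2) F =>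
          (g : Matrix (Fin 2) (Fin 2) F) 0 1) h
        change !![1, s.toAdd; 0, 1] 0 1 = !![1, t.toAdd; 0, 1] 0 1 at h'
        exact Multiplicative.toAdd.injective (by simpa using h')
      have h1 := (CfsgLib.LocalEven50.upperHom F).range.card_mul_index
      rw [← Nat.card_congr (MonoidHom.ofInjective hinj).toEquiv,
        Nat.card_congr Multiplicative.toAdd, Nat.card_eq_fintype_card,
        CfsgLib.Linear.card_SL_two, hF] at h1
      rw [Nat.eq_of_mul_eq_mul_left (pow_pos hpr.pos _) h1] at hd'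
      have h4 : p ∣ (p ^ n) ^ 2 := (dvd_pow_self p (by omega)).trans (dvd_pow_self _ two_ne_zero)
      have h5 := Nat.dvd_sub h4 hd'
      rw [Nat.sub_sub_self (Nat.one_le_pow _ _ (pow_pos hpr.pos _)), Nat.dvd_one] at h5
      omega
    let P : Subgroup ↥G := (U.prod ⊤).map e.toMonoidHom
    have hUp : IsPGroup p ↥U := by
      refine IsPGroup.comap_of_ker_isPGroup ?_ _ (CfsgLib.LocalEven.QdOver.isPGroup_transl)
      intro x
      obtain ⟨_, s, rfl⟩ := x
      exact ⟨1, Subtype.ext (by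
        rw [pow_one, SubmonoidClass.coe_pow, ← map_pow]
        rw [show s ^ p = 1 from Multiplicative.toAdd.injective (by
          rw [toAdd_pow, nsmul_eq_mul, CharP.cast_eq_zero, zero_mul, toAdd_one]), map_one]
        rfl)⟩
    have hPp : IsPGroup p ↥P := by
      refine IsPGroup.map ?_ _
      rintro ⟨⟨u, r⟩, hu⟩
      obtain ⟨k, hk⟩ := hUp ⟨u, hu.1⟩
      refine ⟨k + 1, Subtype.ext (Prod.ext ?_ ?_)⟩
      · show u ^ p ^ (k + 1) = 1
        rw [pow_succ, pow_mul, show u ^ p ^ k = 1 from congrArg Subtype.val hk, one_pow]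
      · show r ^ p ^ (k + 1) = 1
        rw [pow_succ', pow_mul, hexp, one_pow]
    have hPidx : ¬ p ∣ P.index := by
      rw [show P.index = (U.prod ⊤).index from Subgroup.index_map_equiv _ e, Subgroup.index_prod,
        Subgroup.index_top, mul_one]
      exact hidx
    obtain ⟨g, hg⟩ := MulAction.exists_smul_eq ↥G (hPp.toSylow hPidx) S
    obtain ⟨x, hxN, hxG⟩ := SetLike.not_le_iff_exists.mp hN
    have hPmap : (S : Subgroup ↥G).map G.subtype =
        (P.map G.subtype).map (MulAut.conj (g : H)).toMonoidHom := by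
      rw [← hg, Sylow.coe_subgroup_smul]
      show (P.map (MulAut.conj g).toMonoidHom).map G.subtype = _
      rw [Subgroup.map_map P, Subgroup.map_map P]
      congr 1
    set y := (g : H)⁻¹ * x * g with hy
    have hyG : y ∉ G := fun h => hxG (by
      have := G.mul_mem (G.mul_mem g.2 h) (G.inv_mem g.2)
      simpa [hy, mul_assoc] using this)
    have hrange : ∀ z : ↥U × ↥R₁, ∃ w, ι w = y * ι z * y⁻¹ := by
      intro z
      have hz : (ι z : H) ∈ P.map G.subtype := ⟨_, ⟨ι₀ z, ⟨z.1.2, trivial⟩, rfl⟩, rfl⟩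
      have hgz : (g : H) * ι z * (g : H)⁻¹ ∈ (S : Subgroup ↥G).map G.subtype :=
        hPmap ▸ ⟨ι z, hz, rfl⟩
      have hx' := (Subgroup.mem_normalizer_iff.mp hxN _).mp hgz
      rw [hPmap] at hx'
      obtain ⟨_, ⟨_, ⟨⟨u, r⟩, ⟨hu, -⟩, rfl⟩, rfl⟩, hw⟩ := hx'
      refine ⟨(⟨u, hu⟩, r), ?_⟩
      simp only [MulEquiv.coe_toMonoidHom, MulAut.conj_apply] at hw
      calc ι (⟨u, hu⟩, r) = (g : H)⁻¹ * ((g : H) * ι (⟨u, hu⟩, r) * (g : H)⁻¹) * g := by group
        _ = (g : H)⁻¹ * (x * ((g : H) * ι z * (g : H)⁻¹) * x⁻¹) * g := by rw [← hw]; rfl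
        _ = _ := by rw [hy]; group
    choose θ₀ hθ₀ using hrange
    let θ : ↥U × ↥R₁ →* ↥U × ↥R₁ := MonoidHom.mk' θ₀ fun z w => hιinj (by
      rw [map_mul, hθ₀, hθ₀, hθ₀, map_mul]; group)
    -- derived elements of `R₁` are central in `G`
    have hcen : ∀ a b : ↥R₁, ∀ h ∈ G, h * ι (1, ⁅a, b⁆) = ι (1, ⁅a, b⁆) * h := by
      intro a b h hh
      have hc : ∀ z, z * ((1 : ↥(qdOver F)), ⁅a, b⁆) = ((1 : ↥(qdOver F)), ⁅a, b⁆) * z := fun z =>
        Prod.ext (by simp) (commutatorElement_eq_one_iff_mul_comm.mp (hclass a b z.2)).symm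
      have h2 := congrArg e (hc (e.symm ⟨h, hh⟩))
      rw [map_mul, map_mul, e.apply_symm_apply] at h2
      exact congrArg Subtype.val h2
    have hpow : ∀ a b : ↥R₁, ι (1, ⁅a, b⁆) ^ p = 1 := fun a b => by
      rw [← map_pow, show ((1 : ↥U), ⁅a, b⁆) ^ p = 1 from Prod.ext (one_pow p) (hexp _), map_one]
    have hdis : ∀ a b : ↥R₁, θ (1, ⁅r, r'⁆) ≠ (1, ⁅a, b⁆) := by
      intro a b h
      set d := ι (1, ⁅r, r'⁆) with hdd
      set d' := ι (1, ⁅a, b⁆) with hdd'
      have hconj : y * d * y⁻¹ = d' := by rw [hdd', ← h]; exact (hθ₀ _).symm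
      have hd1 : d ≠ 1 := fun h1 => by
        have := hιinj (h1.trans (map_one ι).symm)
        exact hrr (commutatorElement_eq_one_iff_mul_comm.mp (congrArg Prod.snd this))
      have hd'1 : d' ≠ 1 := fun h1 => hd1 (by
        rw [h1, mul_inv_eq_one] at hconj
        simpa using hconj)
      -- so `y` normalises `G`
      have hyn : ∀ h ∈ G, y * h * y⁻¹ ∈ G := fun h hh =>
        hmaxel d' hd'1 (hpow a b) (hcen a b) _ (by
          rw [← hconj, show y * h * y⁻¹ * (y * d * y⁻¹) * (y * h * y⁻¹)⁻¹ =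
            y * (h * d * h⁻¹) * y⁻¹ by group, hcen r r' h hh, mul_inv_cancel_right]
          exact Subgroup.mem_zpowers _)
      have hyN : G.map (MulAut.conj y).toMonoidHom = G :=
        Subgroup.eq_of_le_of_card_ge (by rintro _ ⟨h, hh, rfl⟩; exact hyn h hh)
          (Nat.card_congr (G.equivMapOfInjective _ (MulAut.conj y).injective).toEquiv).le
      let c : ↥G ≃* ↥G := ((MulAut.conj y).subgroupMap G).trans (MulEquiv.subgroupCongr hyN)
      set R' := (pCore p ↥G).map G.subtype with hR'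
      have hR'1 : R' ≠ ⊥ := by
        rw [hR', Ne, Subgroup.map_eq_bot_iff_of_injective _ G.subtype_injective]
        intro hb
        have hr : (r : ↥G) = 1 := Subgroup.mem_bot.mp (hb.le (hR₁ r.2))
        exact hrr (by rw [show r = 1 from Subtype.ext hr, one_mul, mul_one])
      have hle := le_normalizer_map_of_normal G (pCore p ↥G)
      apply hyG
      refine (hmax R' ((CfsgLib.PLocal.isPGroup_pCore p ↥G).map _) hR'1 hle).le ?_
      refine Subgroup.mem_normalizer_iff_map_conj_eq.mpr ?_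
      conv_rhs => rw [hR', ← CfsgLib.PLocal.map_pCore_equiv (p := p) c]
      rw [hR', Subgroup.map_map, Subgroup.map_map]
      rfl
    let uu : ↥U := ⟨_, CfsgLib.LocalEven50.mk_mem_qdUnip F 1 0 0⟩
    let vv : ↥U := ⟨_, CfsgLib.LocalEven50.mk_mem_qdUnip F 0 0 1⟩
    obtain ⟨a, b, hab⟩ := CfsgLib.LocalEven50.map_commutator_qdUnip F θ hdis uu vv
    have huv : ((⁅uu, vv⁆ : ↥U) : ↥(qdOver F)) = CfsgLib.LocalEven.QdOver.tr 1 0 := by
      rw [Subgroup.coe_mk _ , commutatorElement_def]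
      push_cast
      rw [mul_inv_eq_iff_eq_mul, mul_inv_eq_iff_eq_mul]
      simp only [uu, vv, CfsgLib.LocalEven.QdOver.tr, CfsgLib.LocalEven.QdOver.mk_mul]
      exact CfsgLib.LocalEven.QdOver.mk_congr (by ring) (by ring) (by ring) (by ring) (by ring) (by ring)
    set c := ι (⁅uu, vv⁆, 1) with hc
    set d' := ι (1, ⁅a, b⁆) with hdd'
    have hconj : y * c * y⁻¹ = d' := by rw [hdd', ← hab]; exact (hθ₀ _).symm
    have hc1 : c ≠ 1 := fun h1 => by
      have := hιinj (h1.trans (map_one ι).symm)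
      have h2 := huv.symm.trans (congrArg (fun z => ((Prod.fst z : ↥U) : ↥(qdOver F))) this)
      have h3 := (CfsgLib.LocalEven.QdOver.mk_inj (h2.trans CfsgLib.LocalEven.QdOver.mk_one.symm)).2.2.2.2.1
      exact one_ne_zero h3
    let τ : ↥(qdOver F) := CfsgLib.LocalEven.QdOver.emb (-1)
    have hτ : τ * CfsgLib.LocalEven.QdOver.tr 1 0 * τ⁻¹ = (CfsgLib.LocalEven.QdOver.tr (1 : F) 0)⁻¹ := by
      rw [CfsgLib.LocalEven.QdOver.mk_conj_tr, eq_inv_iff_mul_eq_one,
        CfsgLib.LocalEven.QdOver.tr_mul, ← CfsgLib.LocalEven.QdOver.tr_zero]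
      congr 1 <;> simp
    set t : H := ((e (τ, 1) : ↥G) : H) with ht
    have htc : t * c * t⁻¹ = c⁻¹ := by
      show G.subtype (e (τ, 1)) * G.subtype (e (ι₀ (⁅uu, vv⁆, 1))) * (G.subtype (e (τ, 1)))⁻¹ =
        (G.subtype (e (ι₀ (⁅uu, vv⁆, 1))))⁻¹
      rw [← map_inv G.subtype, ← map_inv G.subtype, ← map_mul G.subtype, ← map_mul G.subtype,
        ← map_inv e, ← map_inv e, ← map_mul e, ← map_mul e]
      refine congrArg (fun z => G.subtype (e z)) (Prod.ext ?_ ?_)
      · show τ * ((⁅uu, vv⁆ : ↥U) : ↥(qdOver F)) * τ⁻¹ = (((⁅uu, vv⁆ : ↥U) : ↥(qdOver F)))⁻¹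
        rw [huv]; exact hτ
      · show (1 : ↥R₁) * 1 * 1⁻¹ = 1⁻¹
        simp
    have hd'1 : d' ≠ 1 := fun h1 => hc1 (by
      rw [h1, mul_inv_eq_one] at hconj
      simpa using hconj)
    have h6 : y * t * y⁻¹ * d' * (y * t * y⁻¹)⁻¹ = d'⁻¹ := by
      rw [← hconj, show y * t * y⁻¹ * (y * c * y⁻¹) * (y * t * y⁻¹)⁻¹ = y * (t * c * t⁻¹) * y⁻¹ by
        group, htc]
      group
    have hmem := hmaxel d' hd'1 (hpow a b) (hcen a b) (y * t * y⁻¹) (h6 ▸ inv_mem (Subgroup.mem_zpowers d'))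
    have h7 : y * t * y⁻¹ * d' * (y * t * y⁻¹)⁻¹ = d' := by
      rw [hcen a b _ hmem, mul_inv_cancel_right]
    rw [h6] at h7
    have h8 : d' ^ 2 = 1 := by rw [sq]; nth_rewrite 1 [← h7]; exact inv_mul_cancel d'
    have h9 := orderOf_eq_prime (hpow a b) hd'1
    have := Nat.le_of_dvd two_pos (h9 ▸ orderOf_dvd_of_pow_eq_one h8)
    omega
  -- the decomposition
  let f₀ : ↥(qdOver F) →* H := G.subtype.comp (e.toMonoidHom.comp (MonoidHom.inl _ _))
  have hf₀ : Function.Injective f₀ := fun z w h =>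
    congrArg Prod.fst (e.injective (G.subtype_injective h) : ((z, (1 : ↥R₁))) = (w, 1))
  refine ⟨f₀.range, R₁.map G.subtype, ⟨?_, Subgroup.map_subtype_le _, ?_, ?_, ?_⟩, ⟨⟨⟨?_⟩⟩, ?_⟩,
    ⟨(MonoidHom.ofInjective hf₀).symm⟩⟩
  · rintro _ ⟨z, rfl⟩
    exact (e (z, 1)).2
  · rintro _ ⟨z, rfl⟩ _ ⟨r, hr, rfl⟩
    have h := congrArg (fun w => G.subtype (e w))
      (show ((z, 1) : ↥(qdOver F) × ↥R₁) * (1, ⟨r, hr⟩) = (1, ⟨r, hr⟩) * (z, 1) from
        Prod.ext (by simp) (by simp))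
    simp only [map_mul, he] at h
    exact h
  · rw [eq_bot_iff]
    rintro _ ⟨⟨z, rfl⟩, r, hr, hrz⟩
    have h1 : ((1 : ↥(qdOver F)), (⟨r, hr⟩ : ↥R₁)) = (z, 1) := e.injective (by
      rw [he]; exact G.subtype_injective hrz)
    rw [Subgroup.mem_bot, show z = 1 from (congrArg Prod.fst h1).symm, map_one]
  · refine le_antisymm (sup_le ?_ (Subgroup.map_subtype_le _)) fun x hx => ?_
    · rintro _ ⟨z, rfl⟩
      exact (e (z, 1)).2
    · obtain ⟨⟨z, r⟩, hzr⟩ := e.surjective ⟨x, hx⟩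
      have : x = f₀ z * ((r : ↥G) : H) := by
        show x = G.subtype (e (z, 1)) * G.subtype (r : ↥G)
        rw [← he r, ← map_mul, ← map_mul, Prod.mk_mul_mk, mul_one, one_mul, hzr]
        rfl
      rw [this]
      exact Subgroup.mul_mem_sup ⟨z, rfl⟩ ⟨_, r.2, rfl⟩
  · rintro ⟨_, a, ha, rfl⟩ ⟨_, b, hb, rfl⟩
    exact Subtype.ext (congrArg (fun z : ↥R₁ => ((z : ↥G) : H)) (hab ⟨a, ha⟩ ⟨b, hb⟩))
  · rintro _ ⟨a, ha, rfl⟩
    exact congrArg (fun z : ↥R₁ => ((z : ↥G) : H)) (hexp ⟨a, ha⟩)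


end Cfsg.Agent.S2766
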