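import Cfsg.Statements.S2769
import Cfsg.Agent.LocalEven50.PushingUpThompson

set_option autoImplicit false
open Cfsg

namespace Cfsg.Agent.S2769

open Subgroup CfsgLib.LocalEven50
open scoped commutatorElement


/-- Let G be a finite group and p a prime with C_G(O_p(G)) ≤ O_p(G), S a Sylow p-subgroup lying in exactly one maximal subgroup of G, and G/K ≅ PSL₂(p^n) for some normal K and n ≥ 1. Let J(S) be generated by the abelian subgroups of S of largest order. If [Z(J(S)), S] ≠ 1, then either [Z(J(S)), S] ∩ Z(S) is normal in G or C_S(Z(J(S))) is normal in G. -/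
theorem result {G : Type*} [Group G] [Finite G] {p : ℕ} [Fact p.Prime] (S : Sylow p G) (hE₁ : Subgroup.centralizer (Cfsg.pCore p G : Set G) ≤ Cfsg.pCore p G) (hE₂ : ∃! M : Subgroup G, IsCoatom M ∧ (S : Subgroup G) ≤ M) (K : Subgroup G) [K.Normal] (F : Type) [Field F] [Fintype F] (n : ℕ) (hn : 1 ≤ n) (hF : Fintype.card F = p ^ n) (hE₃ : Nonempty (G ⧸ K ≃* Matrix.ProjectiveSpecialLinearGroup (Fin 2) F)) (h : ⁅(Cfsg.centerThompsonAOf (S : Subgroup G)), (S : Subgroup G)⁆ ≠ ⊥) : (⁅(Cfsg.centerThompsonAOf (S : Subgroup G)), (S : Subgroup G)⁆ ⊓ ((S : Subgroup G) ⊓ Subgroup.centralizer ((S : Subgroup G) : Set G))).Normal ∨ (((S : Subgroup G) ⊓ Subgroup.centralizer (Cfsg.centerThompsonAOf (S : Subgroup G) : Set G))).Normal := by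
  have hE := isPushingUpSituation_of S hE₁ hE₂ K F n hF hE₃
  obtain ⟨M, q, g, hd⟩ := pushUpData hE
  have hcentral : ∀ Y : Subgroup G, Y ≤ centralizer ((⊤ : Subgroup G) : Set G) → Y.Normal :=
    fun Y hY => ⟨fun y hy x => by
      rwa [mem_centralizer_iff.mp (hY hy) x (mem_top x), mul_inv_cancel_right]⟩
  by_cases hnc : (S : Subgroup G) ⊓ centralizer ((S : Subgroup G) : Set G) ≤
      centralizer ((⊤ : Subgroup G) : Set G)
  · exact Or.inl (hcentral _ (inf_le_right.trans hnc))
  by_cases hJ : Cfsg.thompsonSubgroupAOf (S : Subgroup G) ≤ pCore p G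
  · exact Or.inr (normal_of_thompson_le hd hnc hJ)
  obtain ⟨W₀, D⟩ := exists_thompsonData hE hd hnc hJ
  haveI := pCore_normal p G
  refine Or.inl (hcentral _ ?_)
  obtain ⟨s₀, hs₀, hs₀R⟩ := SetLike.not_le_iff_exists.mp hJ
  have hs₀S := thompsonSubgroupAOf_le (S : Subgroup G) hs₀
  have htop : (S : Subgroup G) ⊔ ((S : Subgroup G)).map (MulAut.conj g).toMonoidHom = ⊤ :=
    top_le_iff.mp ((hd.gen s₀ hs₀S hs₀R).ge.trans
      (sup_le_sup_right (zpowers_le.mpr hs₀S) _))
  have hYS : ⁅centerThompsonAOf (S : Subgroup G), (S : Subgroup G)⁆ ≤ W₀ := by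
    rw [commutator_le]
    intro y hy x hx
    have hyc := hy
    rw [D.eq_sup, ← SetLike.mem_coe, coe_mul_of_left_le_normalizer_right W₀ _ (by
      refine ((le_sup_left.trans_eq D.eq_sup.symm : W₀ ≤ _).trans ?_).trans
        (centralizer_le_normalizer _)
      exact (inf_le_left.trans (thompsonSubgroupAOf_le _)).trans
        (le_centralizer_iff.mp inf_le_right))] at hyc
    obtain ⟨w, hw, c, hc, rfl⟩ := hyc
    have h1 : x ∈ ((thompsonSubgroupAOf (S : Subgroup G) ⊔ pCore p G : Subgroup G) : Set G) :=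
      D.sup_core.ge hx
    rw [mul_normal] at h1
    obtain ⟨j, hj, r, hr, rfl⟩ := h1
    have hr' := mem_normalizer_iff.mp (D.core_normalizes hr) w⁻¹
    have hjw : j ∈ centralizer (W₀ : Set G) := D.centralizes (mem_sup_left hj)
    have hcc : ∀ z ∈ (S : Subgroup G), c * z = z * c := fun z hz =>
      (mem_centralizer_iff.mp hc.2 z hz).symm
    have hwj : ∀ z ∈ W₀, j * z = z * j := fun z hz => (mem_centralizer_iff.mp hjw z hz).symm
    show ⁅w * c, j * r⁆ ∈ W₀
    have e : ⁅w * c, j * r⁆ = w * (r * w⁻¹ * r⁻¹) := by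
      have hjr := (S : Subgroup G).mul_mem (thompsonSubgroupAOf_le (S : Subgroup G) hj)
        (hd.core_le hr)
      calc ⁅w * c, j * r⁆ = w * (c * (j * r) * c⁻¹) * w⁻¹ * (j * r)⁻¹ := by
            rw [commutatorElement_def]; group
        _ = (w * j) * (r * w⁻¹ * r⁻¹) * j⁻¹ := by
            rw [hcc _ hjr, mul_inv_cancel_right]; group
        _ = w * ((j * (r * w⁻¹ * r⁻¹)) * j⁻¹) := by group
        _ = _ := by rw [hwj _ (hr'.mp (W₀.inv_mem hw)), mul_inv_cancel_right]
    rw [e]
    exact W₀.mul_mem hw (hr'.mp (W₀.inv_mem hw))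
  rw [← htop]
  refine le_centralizer_iff.mp (sup_le (le_centralizer_iff.mp (inf_le_right.trans inf_le_right)) ?_)
  rw [show ((S : Subgroup G)).map (MulAut.conj g).toMonoidHom =
      (thompsonSubgroupAOf (S : Subgroup G)).map (MulAut.conj g).toMonoidHom ⊔
        (pCore p G).map (MulAut.conj g).toMonoidHom by rw [← Subgroup.map_sup, D.sup_core]]
  refine sup_le ?_ ?_
  · exact ((le_sup_right : _ ≤ _).trans D.centralizes).trans (centralizer_le (inf_le_left.trans hYS))
  · rw [show (pCore p G).map (MulAut.conj g).toMonoidHom = pCore p G from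
      mem_normalizer_iff_map_conj_eq.mp ((normalizer_eq_top (H := pCore p G)).ge (mem_top g))]
    exact hd.core_le.trans (le_centralizer_iff.mp (inf_le_right.trans inf_le_right))

end Cfsg.Agent.S2769
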