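import Cfsg.Statements.S2770
import Cfsg.Agent.LocalEven50.PushingUpThompson

set_option autoImplicit false
open Cfsg

namespace Cfsg.Agent.S2770

open Subgroup CfsgLib.LocalEven50
open scoped commutatorElement


/-- Let G be a finite group and p a prime with C_G(O_p(G)) ≤ O_p(G), S a Sylow p-subgroup lying in exactly one maximal subgroup of G, and G/K ≅ PSL₂(p^n) for some normal K and n ≥ 1. If Z(S) is not elementary abelian, then either ℧¹(Z(S)) (the subgroup generated by the p-th powers of the elements of Z(S)) is normal in G or C_S(Z(J(S))) is normal in G, J(S) being generated by the abelian subgroups of S of largest order. -/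
theorem result {G : Type*} [Group G] [Finite G] {p : ℕ} [Fact p.Prime] (S : Sylow p G) (hE₁ : Subgroup.centralizer (Cfsg.pCore p G : Set G) ≤ Cfsg.pCore p G) (hE₂ : ∃! M : Subgroup G, IsCoatom M ∧ (S : Subgroup G) ≤ M) (K : Subgroup G) [K.Normal] (F : Type) [Field F] [Fintype F] (n : ℕ) (hn : 1 ≤ n) (hF : Fintype.card F = p ^ n) (hE₃ : Nonempty (G ⧸ K ≃* Matrix.ProjectiveSpecialLinearGroup (Fin 2) F)) (h : ¬ Cfsg.IsElementaryAbelian p ((S : Subgroup G) ⊓ Subgroup.centralizer ((S : Subgroup G) : Set G))) : (Cfsg.powerClosure p 1 ((S : Subgroup G) ⊓ Subgroup.centralizer ((S : Subgroup G) : Set G))).Normal ∨ (((S : Subgroup G) ⊓ Subgroup.centralizer (Cfsg.centerThompsonAOf (S : Subgroup G) : Set G))).Normal := by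
  have hE := isPushingUpSituation_of S hE₁ hE₂ K F n hF hE₃
  obtain ⟨M, q, g, hd⟩ := pushUpData hE
  have hcentral : ∀ Y : Subgroup G, Y ≤ centralizer ((⊤ : Subgroup G) : Set G) → Y.Normal :=
    fun Y hY => ⟨fun y hy x => by
      rwa [mem_centralizer_iff.mp (hY hy) x (mem_top x), mul_inv_cancel_right]⟩
  by_cases hnc : (S : Subgroup G) ⊓ centralizer ((S : Subgroup G) : Set G) ≤
      centralizer ((⊤ : Subgroup G) : Set G)
  · refine Or.inl (hcentral _ (((closure_le _).mpr ?_)))
    rintro _ ⟨z, hz, rfl⟩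
    exact pow_mem (hnc hz) _
  by_cases hJ : Cfsg.thompsonSubgroupAOf (S : Subgroup G) ≤ pCore p G
  · exact Or.inr (normal_of_thompson_le hd hnc hJ)
  obtain ⟨W₀, D⟩ := exists_thompsonData hE hd hnc hJ
  haveI := pCore_normal p G
  refine Or.inl (hcentral _ ?_)
  obtain ⟨s₀, hs₀, hs₀R⟩ := SetLike.not_le_iff_exists.mp hJ
  have hs₀S := thompsonSubgroupAOf_le (S : Subgroup G) hs₀
  have htop : (S : Subgroup G) ⊔ ((S : Subgroup G)).map (MulAut.conj g).toMonoidHom = ⊤ :=
    top_le_iff.mp ((hd.gen s₀ hs₀S hs₀R).ge.trans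
      (sup_le_sup_right (zpowers_le.mpr hs₀S) _))
  set R := pCore p G
  set V := R ⊓ centralizer (R : Set G)
  haveI : V.Normal := Subgroup.normal_inf_normal R _
  have hVS : V ≤ (S : Subgroup G) := inf_le_left.trans hd.core_le
  have hRV : R ≤ centralizer (V : Set G) := le_centralizer_iff.mp inf_le_right
  have hVab : IsMulCommutative ↥V := le_centralizer_iff_isMulCommutative.mp
    (inf_le_right.trans (centralizer_le inf_le_left))
  have hncV : ¬ V ⊓ centralizer ((S : Subgroup G) : Set G) ≤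
      centralizer ((⊤ : Subgroup G) : Set G) := by rw [hd.center_eq]; exact hnc
  obtain ⟨hquad, -, -⟩ := quadratic_of_offender hE hd V hVS hVab hRV hncV D.hasOffender
  obtain ⟨-, hinf, -, -⟩ := structure_of_offender hE hd V hVS hVab hRV hncV D.hasOffender
  obtain ⟨-, -, hpowR⟩ := pushUp_torus hE
  -- `p`-th powers of `V` are fixed by `S`
  have hpow : ∀ v ∈ V, v ^ p ∈ V ⊓ centralizer ((S : Subgroup G) : Set G) := by
    intro v hv
    refine ⟨V.pow_mem hv p, mem_centralizer_iff.mpr fun x hx => ?_⟩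
    have hxp : x ^ p ∈ R := hpowR x hx
    set c := ⁅v, x⁆ with hcdef
    have hcV : c ∈ V := by
      rw [hcdef, commutatorElement_def, mul_assoc v, mul_assoc v]
      exact V.mul_mem hv (Normal.conj_mem inferInstance _ (V.inv_mem hv) x)
    have hcx : Commute x c :=
      mem_centralizer_iff.mp (hquad (commutator_mem_commutator hv hx)) x hx
    have key : ∀ k : ℕ, v * x ^ k * v⁻¹ = c ^ k * x ^ k := by
      intro k
      rw [← conj_pow, show v * x * v⁻¹ = c * x by rw [hcdef, commutatorElement_def]; group,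
        (Commute.mul_pow hcx.symm k)]
    have hcp : c ^ p = 1 := by
      have h1 := key p
      rw [(mem_centralizer_iff.mp (hRV hxp) v hv), mul_inv_cancel_right, right_eq_mul] at h1
      exact h1
    have hvc : Commute v c := mem_centralizer_iff.mp
      ((le_centralizer_iff_isMulCommutative.mpr hVab) hcV) v hv
    have key2 : ∀ k : ℕ, x * v ^ k * x⁻¹ = (c⁻¹ * v) ^ k := by
      intro k
      rw [← conj_pow, show x * v * x⁻¹ = c⁻¹ * v by rw [hcdef, commutatorElement_def]; group]
    have h2 := key2 p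
    rw [(hvc.symm.inv_left).mul_pow, inv_pow, hcp, inv_one, one_mul, mul_inv_eq_iff_eq_mul] at h2
    exact h2
  refine (closure_le _).mpr ?_
  rintro _ ⟨z, hz, rfl⟩
  show z ^ p ^ 1 ∈ centralizer ((⊤ : Subgroup G) : Set G)
  rw [pow_one]
  have hzV : z ∈ V ⊓ centralizer ((S : Subgroup G) : Set G) := by rw [hd.center_eq]; exact hz
  refine (hinf.le ⟨pow_mem hzV p, ?_⟩).2
  refine ⟨(g⁻¹ * z * g) ^ p, hpow _ (by simpa using Normal.conj_mem ‹V.Normal› z hzV.1 g⁻¹), ?_⟩
  rw [map_pow]
  simp [mul_assoc]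

end Cfsg.Agent.S2770
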