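import Cfsg.Statements.S2773
import Cfsg.Agent.Yoshida49.Statements

set_option autoImplicit false
universe u
open Cfsg CfsgLib CfsgLib.Yoshida49

namespace Cfsg.Agent.S2773

/-- For every nontrivial finite 3-group S there is a nontrivial characteristic subgroup K of S such that, in every finite group G containing S as a Sylow 3-subgroup, S ∩ G' is the product of S ∩ (C_G(Z(S)))' and S ∩ (N_G(K))' (derived subgroups; product taken elementwise). -/
theorem result {S : Type u} [Group S] [Finite S] [Nontrivial S] (hS : IsPGroup 3 S) : ∃ K : Subgroup S, K ≠ ⊥ ∧ K.Characteristic ∧ ∀ (G : Type u) [Group G] [Finite G] (τ : S →* G), Function.Injective τ → (∃ P : Sylow 3 G, (P : Subgroup G) = τ.range) → ∀ g : G, g ∈ τ.range ⊓ commutator G ↔ ∃ a ∈ τ.range ⊓ ⁅Subgroup.centralizer ((τ.range ⊓ Subgroup.centralizer (τ.range : Set G) : Subgroup G) : Set G), Subgroup.centralizer ((τ.range ⊓ Subgroup.centralizer (τ.range : Set G) : Subgroup G) : Set G)⁆, ∃ b ∈ τ.range ⊓ ⁅Subgroup.normalizer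 ((K.map τ : Subgroup G) : Set G), Subgroup.normalizer ((K.map τ : Subgroup G) : Set G)⁆, g = a * b := by
  haveI : Fact (Nat.Prime 3) := ⟨Nat.prime_three⟩
  refine ⟨kFun S, isCharPFunctor_kFun.1 S hS inferInstance,
    Subgroup.characteristic_iff_map_eq.mpr fun φ => isCharPFunctor_kFun.2 S S hS φ, ?_⟩
  intro G _ _ τ hτ hP g
  obtain ⟨P, hP⟩ := hP
  have hK : (kFun S).map τ = kOf τ.range := by
    show (kOf (⊤ : Subgroup S)).map τ = _
    rw [map_kOf hτ, ← MonoidHom.range_eq_map]
  rw [hK]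
  have hSyl : ConjFunctor.IsSylowIn 3 τ.range ⊤ := hP ▸ ConjFunctor.isSylowIn_top P
  set T := τ.range
  set C := Subgroup.centralizer ((T ⊓ Subgroup.centralizer (T : Set G) : Subgroup G) : Set G)
  set N := Subgroup.normalizer ((kOf T : Subgroup G) : Set G)
  constructor
  · intro hg
    have h1 : g ∈ (((T ⊓ ⁅C, C⁆) ⊔ (T ⊓ ⁅N, N⁆) : Subgroup G) : Set G) :=
      inf_commutator_le_centralizer hSyl hg
    have hTN : T ≤ N := le_normalizer_kOf T
    have hTn : T ⊓ ⁅C, C⁆ ≤ Subgroup.normalizer ((T ⊓ ⁅N, N⁆ : Subgroup G) : Set G) :=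
      inf_le_left.trans (LocalEven50.le_normalizer_inf Subgroup.le_normalizer
        fun x hx => mem_norm.mpr (by rw [Subgroup.map_commutator, mem_norm.mp (Subgroup.le_normalizer (hTN hx))]))
    · rw [Subgroup.coe_mul_of_left_le_normalizer_right _ _ hTn] at h1
      obtain ⟨a, ha, b, hb, e⟩ := h1
      exact ⟨a, ha, b, hb, e.symm⟩
  · rintro ⟨a, ha, b, hb, rfl⟩
    exact ⟨mul_mem ha.1 hb.1, mul_mem (Subgroup.commutator_mono le_top le_top ha.2)
      (Subgroup.commutator_mono le_top le_top hb.2)⟩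

end Cfsg.Agent.S2773
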