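import Cfsg.Statements.S2774
import Cfsg.Agent.Yoshida49.Statements

set_option autoImplicit false
open Cfsg CfsgLib CfsgLib.Yoshida49

namespace Cfsg.Agent.S2774

/-- Let p be an odd prime and S a nontrivial Sylow p-subgroup of a finite group G. Then S ∩ G' is generated by the subgroups S ∩ (N_G(K))' as K ranges over the nontrivial characteristic subgroups of S (derived subgroups of the normalizers). -/
theorem result {G : Type*} [Group G] [Finite G] {p : ℕ} [Fact p.Prime] (hp : p ≠ 2) (S : Sylow p G) (hS : (S : Subgroup G) ≠ ⊥) : (S : Subgroup G) ⊓ commutator G = ⨆ K : {K : Subgroup ↥(S : Subgroup G) // K ≠ ⊥ ∧ K.Characteristic}, (S : Subgroup G) ⊓ ⁅Subgroup.normalizer ((((K : Subgroup ↥(S : Subgroup G))).map (S : Subgroup G).subtype : Subgroup G) : Set G), Subgroup.normalizer ((((K : Subgroup ↥(S : Subgroup G))).map (S : Subgroup G).subtype : Subgroup G) : Set G)⁆ := by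
  haveI : Nontrivial ↥(S : Subgroup G) := (Subgroup.nontrivial_iff_ne_bot _).mpr hS
  have hchar : ∀ {W : ∀ (Q : Type _) [Group Q], Subgroup Q}, IsCharPFunctor p W →
      W ↥(S : Subgroup G) ≠ ⊥ ∧ (W ↥(S : Subgroup G)).Characteristic := fun {W} hW =>
    ⟨hW.1 _ S.2 inferInstance, Subgroup.characteristic_iff_map_eq.mpr fun φ => hW.2 _ _ S.2 φ⟩
  have hSyl := ConjFunctor.isSylowIn_top S
  refine le_antisymm ?_ (iSup_le fun K => inf_le_inf_left _ (Subgroup.commutator_mono le_top le_top))
  rcases eq_or_ne p 3 with rfl | hp3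
  · refine (inf_commutator_le_two hSyl).trans (sup_le ?_ ?_)
    · rw [← inducedFunctor_center]
      exact le_iSup_of_le ⟨_, hchar (NoOffender.isCharPFunctor_center 3)⟩ le_rfl
    · rw [← inducedFunctor_kFun]
      exact le_iSup_of_le ⟨_, hchar isCharPFunctor_kFun⟩ le_rfl
  · have hp5 : 5 ≤ p := by
      have h2 := (Fact.out : p.Prime).two_le
      have h4 : p ≠ 4 := fun e => absurd (e ▸ (Fact.out : p.Prime)) (by norm_num)
      omega
    rw [ConjFunctor.inf_commutator_eq_kInf hp5 (W := fun Q [Group Q] => kInfLower Q) (Or.inl rfl) hSyl]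
    exact le_iSup_of_le ⟨_, hchar ConjFunctor.isCharPFunctor_kInfLower⟩ le_rfl

end Cfsg.Agent.S2774
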