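import Cfsg.Statements.S2779
import Cfsg.Agent.LocalEven.NaturalModule
import Mathlib.FieldTheory.Finite.Basic

set_option autoImplicit false
open Cfsg

namespace Cfsg.Agent.S2779

open scoped commutatorElement

lemma charP_of_card {p : ℕ} [Fact p.Prime] {F : Type*} [Field F] [Fintype F] {n : ℕ}
    (hF : Fintype.card F = p ^ n) : CharP F p := charP_of_card_eq_prime_pow hF

lemma fix_le_commutator {G : Type*} [Group G] {F : Type*} [Field F] {V L T : Subgroup G}
    (C : CfsgLib.LocalEven.Coord F V L T) {l : ↥L} {x : F}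
    (hρ : C.ρ l = CfsgLib.Linear.upperUni x) (hx : x ≠ 0) :
    V ⊓ Subgroup.centralizer (T : Set G) ≤ ⁅V, Subgroup.zpowers (l : G)⁆ := by
  rintro a ⟨haV, ha⟩
  have h0 := (C.mem_centralizer_T ⟨a, haV⟩).mp ha
  obtain ⟨v, hv⟩ := C.exists_φ ![0, -(C.φ ⟨a, haV⟩ 0) / x]
  obtain ⟨w, hw, hφ⟩ := C.exists_commutator l x hρ v
  have he : C.φ w = C.φ ⟨a, haV⟩ := by
    rw [hφ, hv]
    ext i
    fin_cases i <;> simp [h0, hx, mul_div_cancel₀]
  have hwa : (w : G) = a := congrArg Subtype.val (C.φ_bij.1 he)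
  rw [← hwa, hw]
  exact Subgroup.commutator_mem_commutator v.2 (Subgroup.mem_zpowers _)

/-- Let L act on the elementary abelian p-group V (inside a finite group, by conjugation, faithfully) as SL₂(F) on its natural module, F a field with p^n elements, and let S be a Sylow p-subgroup of L. Then [V, S, S] = 1; |V| = p^(2n) and |C_V(S)| = p^n; and for every nonidentity s ∈ S and every v ∈ V outside C_V(S): C_V(s) = C_V(S) = [V, S] = [V, s] = the subgroup generated by the commutators [v, t], t ∈ S. -/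
theorem result {G : Type*} [Group G] [Finite G] {p : ℕ} [Fact p.Prime] {F : Type*} [Field F] [Fintype F] (n : ℕ) (hF : Fintype.card F = p ^ n) (V L : Subgroup G) (hnat : Cfsg.IsNaturalSL2Module F V L) (hf : L ⊓ Subgroup.centralizer (V : Set G) = ⊥) (S : Sylow p ↥L) (T : Subgroup G) (hT : T = ((S : Subgroup ↥L).map L.subtype)) : ⁅⁅V, T⁆, T⁆ = ⊥ ∧ Nat.card V = p ^ (2 * n) ∧ Nat.card ↥(V ⊓ Subgroup.centralizer ((T : Subgroup G) : Set G)) = p ^ n ∧ ∀ s ∈ T, s ≠ 1 → (V ⊓ Subgroup.centralizer ({s} : Set G)) = (V ⊓ Subgroup.centralizer ((T : Subgroup G) : Set G)) ∧ ⁅V, T⁆ = (V ⊓ Subgroup.centralizer ((T : Subgroup G) : Set G)) ∧ ⁅V, Subgroup.zpowers s⁆ = (V ⊓ Subgroup.centralizer ((T : Subgroup G) : Set G)) ∧ ∀ v ∈ V, v ∉ Subgroup.centralizer (T : Set G) → Subgroup.closure {x : G | ∃ t ∈ T, x = v * t * v⁻¹ * t⁻¹} = (V ⊓ Subgroup.centralizer ((T : Subgroup G) : Set G)) := by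
  haveI : CharP F p := charP_of_card hF
  obtain ⟨C⟩ := CfsgLib.LocalEven.exists_coord hnat hf S hT
  have hle := C.commutator_le_fix
  refine ⟨?_, ?_, ?_, ?_⟩
  · rw [eq_bot_iff, Subgroup.commutator_le]
    intro a ha t ht
    rw [Subgroup.mem_bot, commutatorElement_eq_one_iff_mul_comm]
    exact (Subgroup.mem_centralizer_iff.mp (hle ha).2 t ht).symm
  · rw [C.card_V, hF, ← pow_mul, mul_comm]
  · rw [C.card_fix, hF]
  intro s hs hs1
  obtain ⟨l, x, rfl, hρ⟩ := C.exists_of_mem_T hs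
  have hx : x ≠ 0 := by
    rintro rfl
    refine hs1 ?_
    have : l = 1 := C.ρ.injective (by
      rw [hρ, map_one]; exact Matrix.SpecialLinearGroup.transvection_coeff_zero _)
    simp [this]
  refine ⟨le_antisymm ?_ ?_, le_antisymm hle ?_, le_antisymm ?_ ?_, ?_⟩
  · rintro a ⟨haV, ha⟩
    have h1 := (C.mem_centralizer_iff_fixed l ⟨a, haV⟩).mp ha
    rw [hρ, CfsgLib.LocalEven.Coord.upperUni_mulVec] at h1
    have h2 := congrFun h1 0
    simp [hx] at h2
    exact (C.mem_fix ⟨a, haV⟩).mpr h2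
  · exact inf_le_inf_left _ (Subgroup.centralizer_le (Set.singleton_subset_iff.mpr hs))
  · exact (fix_le_commutator C hρ hx).trans
      (Subgroup.commutator_mono le_rfl (Subgroup.zpowers_le.mpr hs))
  · exact (Subgroup.commutator_mono le_rfl (Subgroup.zpowers_le.mpr hs)).trans hle
  · exact fix_le_commutator C hρ hx
  intro v hv hvT
  refine le_antisymm (Subgroup.closure_le _ |>.mpr ?_) ?_
  · rintro a ⟨t, ht, rfl⟩
    exact hle (Subgroup.commutator_mem_commutator hv ht)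
  · rintro a ⟨haV, ha⟩
    have h0 := (C.mem_centralizer_T ⟨a, haV⟩).mp ha
    have h1 : C.φ ⟨v, hv⟩ 1 ≠ 0 := fun e => hvT ((C.mem_centralizer_T ⟨v, hv⟩).mpr e)
    obtain ⟨m, hmT, hm⟩ := C.exists_upper (-(C.φ ⟨a, haV⟩ 0) / C.φ ⟨v, hv⟩ 1)
    obtain ⟨w, hw, hφ⟩ := C.exists_commutator m _ hm ⟨v, hv⟩
    have he : C.φ w = C.φ ⟨a, haV⟩ := by
      rw [hφ]
      ext i
      fin_cases i <;> simp [h0, h1]
    exact Subgroup.subset_closure ⟨m, hmT, by
      rw [← commutatorElement_def, ← hw, C.φ_bij.1 he]⟩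

end Cfsg.Agent.S2779
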