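import Cfsg.Statements.S2780
import Cfsg.Agent.LocalEven.NaturalModule
import Mathlib.FieldTheory.Finite.Basic

set_option autoImplicit false
open Cfsg

namespace Cfsg.Agent.S2780

open CfsgLib.LocalEven in
lemma direct {G : Type*} [Group G] {F : Type*} [Field F] {V L T : Subgroup G}
    (C : Coord F V L T) (g : ↥L) (hg : (g : G) ∉ Subgroup.normalizer (T : Set G)) :
    Cfsg.IsInternalDirectProduct (V ⊓ Subgroup.centralizer (T : Set G))
      (V ⊓ Subgroup.centralizer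
        ((T.map (MulAut.conj (g : G)).toMonoidHom : Subgroup G) : Set G)) V := by
  have hc : (C.ρ g).1 1 0 ≠ 0 := fun e => hg (C.mem_normalizer_T g e)
  have hmem : ∀ v : ↥V, (v : G) ∈ Subgroup.centralizer
      ((T.map (MulAut.conj (g : G)).toMonoidHom : Subgroup G) : Set G) ↔
      -((C.ρ g).1 1 0) * C.φ v 0 + (C.ρ g).1 0 0 * C.φ v 1 = 0 := by
    intro v
    obtain ⟨w, hw, hφ⟩ := C.act g⁻¹ v
    have h1 : C.φ w 1 = -((C.ρ g).1 1 0) * C.φ v 0 + (C.ρ g).1 0 0 * C.φ v 1 := by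
      rw [hφ, map_inv, Matrix.SpecialLinearGroup.coe_inv, Matrix.adjugate_fin_two]
      simp [Matrix.mulVec, dotProduct, Fin.sum_univ_two]
    rw [← h1, ← C.mem_centralizer_T, hw, InvMemClass.coe_inv, Subgroup.mem_centralizer_iff,
      Subgroup.mem_centralizer_iff]
    constructor
    · intro h t ht
      have h2 := h _ (Subgroup.mem_map_of_mem (MulAut.conj (g : G)).toMonoidHom ht)
      simp only [MulEquiv.coe_toMonoidHom, MulAut.conj_apply] at h2
      calc t * ((g : G)⁻¹ * v * (g : G)⁻¹⁻¹)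
          = (g : G)⁻¹ * ((g : G) * t * (g : G)⁻¹ * v) * g := by group
        _ = (g : G)⁻¹ * (v * ((g : G) * t * (g : G)⁻¹)) * g := by rw [h2]
        _ = ((g : G)⁻¹ * v * (g : G)⁻¹⁻¹) * t := by group
    · rintro h _ ⟨t, ht, rfl⟩
      simp only [MulEquiv.coe_toMonoidHom, MulAut.conj_apply]
      calc (g : G) * t * (g : G)⁻¹ * v
          = g * (t * ((g : G)⁻¹ * v * (g : G)⁻¹⁻¹)) * (g : G)⁻¹ := by group
        _ = g * (((g : G)⁻¹ * v * (g : G)⁻¹⁻¹) * t) * (g : G)⁻¹ := by rw [h t ht]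
        _ = v * ((g : G) * t * (g : G)⁻¹) := by group
  refine ⟨inf_le_left, inf_le_left, fun a ha b hb => C.commute ha.1 hb.1, ?_, ?_⟩
  · rw [eq_bot_iff]
    rintro a ⟨⟨haV, ha⟩, -, hb⟩
    have h1 := (C.mem_centralizer_T ⟨a, haV⟩).mp ha
    have h2 := (hmem ⟨a, haV⟩).mp hb
    rw [h1] at h2
    simp [hc] at h2
    have : C.φ ⟨a, haV⟩ = C.φ 1 := by
      rw [C.φ_one]
      ext i
      fin_cases i <;> simp [h1, h2]
    exact Subgroup.mem_bot.mpr (congrArg Subtype.val (C.φ_bij.1 this))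
  · refine le_antisymm (sup_le inf_le_left inf_le_left) fun b hb => ?_
    set t := C.φ ⟨b, hb⟩ 1 / (C.ρ g).1 1 0 with ht
    obtain ⟨v, hv⟩ := C.exists_φ ![t * (C.ρ g).1 0 0, t * (C.ρ g).1 1 0]
    have hv2 : (v : G) ∈ Subgroup.centralizer
        ((T.map (MulAut.conj (g : G)).toMonoidHom : Subgroup G) : Set G) := by
      rw [hmem, hv]
      simp
      ring
    have hv1 : C.φ (⟨b, hb⟩ * v⁻¹) 1 = 0 := by
      rw [C.φ_mul, C.φ_inv, hv, ht]
      simp [hc]
    have h := Subgroup.mul_mem_sup ((C.mem_fix (⟨b, hb⟩ * v⁻¹)).mpr hv1)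
      (Subgroup.mem_inf.mpr ⟨v.2, hv2⟩ : (v : G) ∈ V ⊓ Subgroup.centralizer
        ((T.map (MulAut.conj (g : G)).toMonoidHom : Subgroup G) : Set G))
    simpa using h

/-- Let L act on the elementary abelian p-group V (inside a finite group, faithfully) as SL₂(F) on its natural module, F a field with p^n elements, S a Sylow p-subgroup of L. Then: for every g ∈ L not normalizing S, V is the internal direct product of C_V(S) and C_V(gSg⁻¹); every nonidentity element of L of order prime to p acts on V without nonidentity fixed points; and C_V(S) and V/C_V(S) are irreducible for N_L(S): the only N_L(S)-invariant subgroups of C_V(S) are 1 and C_V(S), and the only N_L(S)-invariant subgroups between C_V(S) and V are those two. -/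
theorem result {G : Type*} [Group G] [Finite G] {p : ℕ} [Fact p.Prime] {F : Type*} [Field F] [Fintype F] (n : ℕ) (hF : Fintype.card F = p ^ n) (V L : Subgroup G) (hnat : Cfsg.IsNaturalSL2Module F V L) (hf : L ⊓ Subgroup.centralizer (V : Set G) = ⊥) (S : Sylow p ↥L) (T : Subgroup G) (hT : T = ((S : Subgroup ↥L).map L.subtype)) : (∀ g ∈ L, g ∉ Subgroup.normalizer (T : Set G) → Cfsg.IsInternalDirectProduct (V ⊓ Subgroup.centralizer ((T : Subgroup G) : Set G)) (V ⊓ Subgroup.centralizer ((T.map (MulAut.conj g).toMonoidHom : Subgroup G) : Set G)) V) ∧ (∀ x ∈ L, x ≠ 1 → (orderOf x).Coprime p → (V ⊓ Subgroup.centralizer ({x} : Set G)) = ⊥) ∧ (∀ U : Subgroup G, U ≤ (V ⊓ Subgroup.centralizer ((T : Subgroup G) : Set G)) → L ⊓ Subgroup.normalizer (T : Set G) ≤ Subgroup.normalizer (U : Set G) → U = ⊥ ∨ U = (V ⊓ Subgroup.centralizer ((T : Subgroup G) : Set G))) ∧ (∀ U : Subgroup G, (V ⊓ Subgroup.centralizer ((T : Subgroup G) : Set G))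 ≤ U → U ≤ V → L ⊓ Subgroup.normalizer (T : Set G) ≤ Subgroup.normalizer (U : Set G) → U = (V ⊓ Subgroup.centralizer ((T : Subgroup G) : Set G)) ∨ U = V) := by
  haveI : CharP F p := charP_of_card_eq_prime_pow hF
  obtain ⟨C⟩ := CfsgLib.LocalEven.exists_coord hnat hf S hT
  refine ⟨fun g hg hgT => direct C ⟨g, hg⟩ hgT, ?_, ?_, ?_⟩
  · intro x hx hx1 hco
    rw [eq_bot_iff]
    rintro a ⟨haV, ha⟩
    rw [Subgroup.mem_bot]
    by_contra ha1
    have hp : (⟨x, hx⟩ : ↥L) ^ p = 1 :=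
      C.pow_eq_one_of_fixed p ⟨x, hx⟩ ⟨a, haV⟩ (fun e => ha1 (congrArg Subtype.val e)) ha
    have hd : orderOf x ∣ p := orderOf_dvd_of_pow_eq_one (congrArg Subtype.val hp)
    exact hx1 (orderOf_eq_one_iff.mp (Nat.eq_one_of_dvd_coprimes hco dvd_rfl hd))
  · intro U hU hinv
    by_cases h : ∀ a, ∀ ha : a ∈ U, C.φ ⟨a, (hU ha).1⟩ 0 = 0
    · left
      rw [eq_bot_iff]
      intro a ha
      rw [Subgroup.mem_bot]
      have h1 := (C.mem_centralizer_T ⟨a, (hU ha).1⟩).mp (hU ha).2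
      have : C.φ ⟨a, (hU ha).1⟩ = C.φ 1 := by
        rw [C.φ_one]
        ext i
        fin_cases i
        · exact h a ha
        · exact h1
      exact congrArg Subtype.val (C.φ_bij.1 this)
    right
    push Not at h
    obtain ⟨a, ha, ha0⟩ := h
    refine le_antisymm hU ?_
    rintro b ⟨hbV, hb⟩
    have hb1 := (C.mem_centralizer_T ⟨b, hbV⟩).mp hb
    have ha1 := (C.mem_centralizer_T ⟨a, (hU ha).1⟩).mp (hU ha).2
    by_cases hb0 : C.φ ⟨b, hbV⟩ 0 = 0
    · have : C.φ ⟨b, hbV⟩ = C.φ 1 := by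
        rw [C.φ_one]
        ext i
        fin_cases i
        · exact hb0
        · exact hb1
      have hb' : b = 1 := congrArg Subtype.val (C.φ_bij.1 this)
      exact hb' ▸ one_mem U
    obtain ⟨l, hl, hact⟩ := C.exists_torus (C.φ ⟨b, hbV⟩ 0 / C.φ ⟨a, (hU ha).1⟩ 0)
      (div_ne_zero hb0 ha0)
    obtain ⟨w, hw, hφ⟩ := hact ⟨a, (hU ha).1⟩
    have he : C.φ w = C.φ ⟨b, hbV⟩ := by
      rw [hφ]
      ext i
      fin_cases i <;> simp [ha0, ha1, hb1]
    have hwb : (w : G) = b := congrArg Subtype.val (C.φ_bij.1 he)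
    rw [← hwb, hw]
    exact (Subgroup.mem_normalizer_iff.mp (hinv hl) a).mp ha
  · intro U hCU hUV hinv
    by_cases h : U ≤ V ⊓ Subgroup.centralizer (T : Set G)
    · exact Or.inl (le_antisymm h hCU)
    right
    obtain ⟨a, ha, haC⟩ := SetLike.not_le_iff_exists.mp h
    have ha1 : C.φ ⟨a, hUV ha⟩ 1 ≠ 0 := fun e => haC ((C.mem_fix ⟨a, hUV ha⟩).mpr e)
    refine le_antisymm hUV fun b hb => ?_
    by_cases hb1 : C.φ ⟨b, hb⟩ 1 = 0
    · exact hCU ((C.mem_fix ⟨b, hb⟩).mpr hb1)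
    obtain ⟨l, hl, hact⟩ := C.exists_torus (C.φ ⟨a, hUV ha⟩ 1 / C.φ ⟨b, hb⟩ 1)
      (div_ne_zero ha1 hb1)
    obtain ⟨w, hw, hφ⟩ := hact ⟨a, hUV ha⟩
    have hwU : (w : G) ∈ U := by
      rw [hw]; exact (Subgroup.mem_normalizer_iff.mp (hinv hl) a).mp ha
    have h2 : C.φ (w⁻¹ * ⟨b, hb⟩) 1 = 0 := by
      rw [C.φ_mul, C.φ_inv, hφ]
      simp
      field_simp
      ring
    have h3 := mul_mem hwU (hCU ((C.mem_fix (w⁻¹ * ⟨b, hb⟩)).mpr h2))
    simpa using h3

end Cfsg.Agent.S2780
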