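import Cfsg.Statements.S2781
import Cfsg.Agent.LocalStructure.Averaging
import Cfsg.Agent.LocalStructure.Cores

set_option autoImplicit false
open Cfsg

namespace Cfsg.Agent.S2781

/-- Let H act faithfully by conjugation on the elementary abelian p-subgroup V of a finite group, let O^p(H) be the subgroup of H generated by its elements of order prime to p, and T a Sylow p-subgroup of O^p(H). If V is generated by the H-conjugates of C_V(T) (V is the smallest H-invariant subgroup containing C_V(T)), then V = [V, O^p(H)]·C_V(O^p(H)). -/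
theorem result {G : Type*} [Group G] [Finite G] {p : ℕ} [Fact p.Prime] (V H : Subgroup G) (hV : Cfsg.IsElementaryAbelian p V) (hHV : H ≤ Subgroup.normalizer (V : Set G)) (hf : H ⊓ Subgroup.centralizer (V : Set G) = ⊥) (R : Subgroup G) (hR : R = (Cfsg.pResidual p ↥H).map H.subtype) (S : Sylow p ↥R) (T : Subgroup G) (hT : T = ((S : Subgroup ↥R).map R.subtype)) (hgen : ∀ W : Subgroup G, H ≤ Subgroup.normalizer (W : Set G) → (V ⊓ Subgroup.centralizer ((T : Subgroup G) : Set G)) ≤ W → V ≤ W) : ⁅V, R⁆ ⊔ (V ⊓ Subgroup.centralizer ((R : Subgroup G) : Set G)) = V := by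
  have hVc : IsMulCommutative ↥V := hV.1
  have hVp : IsPGroup p ↥V := fun x => ⟨1, by
    rw [pow_one]; exact Subtype.ext (by simpa using hV.2 x x.2)⟩
  rw [CfsgLib.LocalStructure.map_pResidual] at hR
  have hRH : R ≤ H := hR ▸ CfsgLib.LocalStructure.pResOf_le H
  have hRV : R ≤ Subgroup.normalizer (V : Set G) := hRH.trans hHV
  have hDV : ⁅V, R⁆ ≤ V := by
    rw [Subgroup.commutator_le]
    intro a ha b hb
    have := mul_mem ha ((Subgroup.mem_normalizer_iff.mp (hRV hb) a⁻¹).mp (inv_mem ha))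
    simpa [commutatorElement_def, mul_assoc] using this
  refine le_antisymm (sup_le hDV inf_le_left) (hgen _ ?_ ?_)
  · have hHR : H ≤ Subgroup.normalizer (R : Set G) :=
      hR ▸ Subgroup.le_normalizer.trans (CfsgLib.LocalStructure.normalizer_le_normalizer_pResOf H)
    have key : ∀ g ∈ H, (⁅V, R⁆ ⊔ (V ⊓ Subgroup.centralizer (R : Set G))).map
        (MulAut.conj g).toMonoidHom ≤ ⁅V, R⁆ ⊔ (V ⊓ Subgroup.centralizer (R : Set G)) := by
      intro g hg
      rw [Subgroup.map_sup, Subgroup.map_commutator]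
      refine sup_le_sup (Subgroup.commutator_mono ?_ ?_) ?_
      · rintro _ ⟨v, hv, rfl⟩; exact (Subgroup.mem_normalizer_iff.mp (hHV hg) v).mp hv
      · rintro _ ⟨v, hv, rfl⟩; exact (Subgroup.mem_normalizer_iff.mp (hHR hg) v).mp hv
      · rintro _ ⟨v, hv, rfl⟩
        exact ⟨(Subgroup.mem_normalizer_iff.mp (hHV hg) v).mp hv.1, (Subgroup.mem_normalizer_iff.mp
          (CfsgLib.LocalStructure.normalizer_le_normalizer_centralizer R (hHR hg)) v).mp hv.2⟩
    intro g hg
    refine Subgroup.mem_normalizer_iff.mpr fun x => ⟨fun hx => key g hg ⟨x, hx, rfl⟩, fun hx => ?_⟩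
    have := key g⁻¹ (inv_mem hg) ⟨_, hx, rfl⟩
    simpa [mul_assoc] using this
  · rintro z ⟨hzV, hzT⟩
    have hTR : T ≤ R := hT ▸ Subgroup.map_subtype_le _
    have hidx : ¬ p ∣ T.relIndex R := by
      rw [Subgroup.relIndex, hT, Subgroup.subgroupOf, Subgroup.comap_map_eq_self_of_injective R.subtype_injective]
      exact S.not_dvd_index
    obtain ⟨z₀, hz₀, w, hw, rfl⟩ :=
      CfsgLib.LocalStructure.exists_fixed_mul_commutator hVp hVc hRV hidx hzV hzT
    exact mul_mem (Subgroup.mem_sup_right hz₀) (Subgroup.mem_sup_left hw)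

end Cfsg.Agent.S2781
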