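import Cfsg.Statements.S2788
import Cfsg.Agent.LocalEven.ModuleBounds

set_option autoImplicit false
open Cfsg

namespace Cfsg.Agent.S2788

/-- Let H act faithfully by conjugation on the elementary abelian p-subgroup V of a finite group with H ≅ SL₂(F), F a field with p^n elements, S a Sylow p-subgroup of H, and A ≤ S a subgroup of order at least 3 acting quadratically on V ([V, A, A] = 1). Then |V/C_V(a)| ≥ p^n for every nonidentity a ∈ A. -/
theorem result {G : Type*} [Group G] [Finite G] {p : ℕ} [Fact p.Prime] (V H : Subgroup G) (hV : Cfsg.IsElementaryAbelian p V) (hHV : H ≤ Subgroup.normalizer (V : Set G)) (hf : H ⊓ Subgroup.centralizer (V : Set G) = ⊥) {F : Type*} [Field F] [Fintype F] (n : ℕ) (hF : Fintype.card F = p ^ n) (hiso : Nonempty (↥H ≃* Matrix.SpecialLinearGroup (Fin 2) F)) (S : Sylow p ↥H) (T : Subgroup G) (hT : T = ((S : Subgroup ↥H).map H.subtype)) (A : Subgroup G) (hA : A ≤ T) (hA3 : 3 ≤ Nat.card A) (hquad : ⁅⁅V, A⁆, A⁆ = ⊥) : ∀ a ∈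 A, a ≠ 1 → p ^ n ≤ ((V ⊓ Subgroup.centralizer ({a} : Set G))).relIndex V := by
  intro a ha ha1
  obtain ⟨e⟩ := hiso
  haveI := CfsgLib.LocalEven.ModuleBounds.charP_of_card hF
  have hVp : IsPGroup p V := fun x => ⟨1, by
    rw [pow_one]; exact Subtype.ext (by simpa using hV.2 _ x.2)⟩
  have ha' := hA ha
  rw [hT] at ha'
  obtain ⟨a', haS, rfl⟩ := ha'
  obtain ⟨k, hk⟩ := S.isPGroup' ⟨a', haS⟩
  have hk' : a' ^ p ^ k = 1 := congrArg Subtype.val hk
  refine (CfsgLib.LocalEven.ModuleBounds.bounds hVp hHV hf hF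
    ((QuotientGroup.mk' (Subgroup.center (Matrix.SpecialLinearGroup (Fin 2) F))).comp e.toMonoidHom)
    ((QuotientGroup.mk'_surjective _).comp e.surjective) (s := a') ⟨k, hk'⟩ ?_).1
  intro h
  obtain ⟨c, hc, hs⟩ := Matrix.SpecialLinearGroup.mem_center_iff.mp
    ((QuotientGroup.eq_one_iff (e a')).mp h)
  have h1 : c ^ p ^ k = 1 := by
    have h2 : (e a' ^ p ^ k).1 = 1 := by rw [← map_pow, hk', map_one]; rfl
    rw [Matrix.SpecialLinearGroup.coe_pow, ← hs, ← map_pow] at h2
    have h3 := congrFun (congrFun h2 0) 0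
    simpa using h3
  have hc1 : c = 1 := sub_eq_zero.mp ((pow_eq_zero_iff (pow_ne_zero k (Fact.out : p.Prime).ne_zero)).mp
    (by rw [sub_pow_char_pow, h1, one_pow, sub_self]))
  apply ha1
  have h4 : e a' = 1 := Subtype.ext (by rw [← hs, hc1, map_one]; rfl)
  rw [e.injective (h4.trans (map_one e).symm), map_one]

end Cfsg.Agent.S2788
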