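import Cfsg.Statements.S2796
import Cfsg.Agent.LocalEven.OffenderBound.Glauberman
import Cfsg.Agent.S1997
import Cfsg.Agent.S0602

set_option autoImplicit false
universe u
open Cfsg

namespace Cfsg.Agent.S2796

open Subgroup CfsgLib
open CfsgLib.LocalEven.OffenderBound (jHatOf isEGroup_congr isEGroup_thompson)

/-- `Ω₁(Z(Ĵ(Q)))`. -/
abbrev omegaHat (Q : Type u) [Group Q] : Subgroup Q :=
  omegaOne 2 (jHat Q ⊓ centralizer (jHat Q : Set Q))

theorem thompsonSubgroup_le_jHat (Q : Type u) [Group Q] [Finite Q] :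
    thompsonSubgroup 2 Q ≤ jHat Q := by
  refine le_sSup ⟨?_, le_rfl⟩
  have h := isEGroup_thompson (G := Q) ⊤
  rwa [PLocal.thompsonSubgroupOf_top] at h

theorem map_jHat_le {Q R : Type u} [Group Q] [Group R] (φ : Q ≃* R) :
    (jHat Q).map φ.toMonoidHom ≤ jHat R :=
  map_le_iff_le_comap.2 (sSup_le fun U hU => map_le_iff_le_comap.1 (le_sSup
    ⟨isEGroup_congr (U.equivMapOfInjective φ.toMonoidHom φ.injective) hU.1, by
      refine le_trans (le_of_eq ?_) (map_mono hU.2)
      rw [PLocal.map_thompsonSubgroup (p := 2) (f := φ.toMonoidHom) φ.injective,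
        MonoidHom.range_eq_top.mpr φ.surjective, PLocal.thompsonSubgroupOf_top]⟩))

theorem map_jHat {Q R : Type u} [Group Q] [Group R] (φ : Q ≃* R) :
    (jHat Q).map φ.toMonoidHom = jHat R := by
  refine le_antisymm (map_jHat_le φ) fun x hx => ?_
  exact ⟨φ.symm x, map_jHat_le φ.symm ⟨x, hx, rfl⟩, φ.apply_symm_apply x⟩

theorem map_omegaHat {Q R : Type u} [Group Q] [Group R] (φ : Q ≃* R) :
    (omegaHat Q).map φ.toMonoidHom = omegaHat R := by
  rw [PLocal.map_omegaOne (f := φ.toMonoidHom) φ.injective,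
    PLocal.map_inf_centralizer φ.injective, map_jHat]

theorem isCharPFunctor_thompson :
    IsCharPFunctor.{u} 2 (fun Q [Group Q] => thompsonSubgroup 2 Q) := by
  have : Fact (Nat.Prime 2) := ⟨Nat.prime_two⟩
  refine ⟨fun Q _ _ hQ hnt => ?_, fun Q R _ _ _ _ φ => ?_⟩
  · obtain ⟨k, hk⟩ := IsPGroup.iff_card.1 hQ
    refine (Cfsg.Agent.S0602.result (G := Q) (p := 2)).2 (hk ▸ dvd_pow_self 2 fun e => ?_)
    rw [e, pow_zero] at hk
    exact absurd (Finite.one_lt_card (α := Q)) (by omega)
  · rw [PLocal.map_thompsonSubgroup (f := φ.toMonoidHom) φ.injective,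
      MonoidHom.range_eq_top.mpr φ.surjective, PLocal.thompsonSubgroupOf_top]

theorem isCharPFunctor_omegaHat : IsCharPFunctor.{u} 2 (fun Q [Group Q] => omegaHat Q) := by
  have : Fact (Nat.Prime 2) := ⟨Nat.prime_two⟩
  refine ⟨fun Q _ _ hQ hnt => PLocal.omegaOne_ne_bot ?_, fun Q R _ _ _ _ φ => map_omegaHat φ⟩
  set H := jHat Q with hH
  have : Nontrivial H := (nontrivial_iff_ne_bot H).2 fun e =>
    (isCharPFunctor_thompson.{u}).1 Q hQ hnt (le_bot_iff.1 (e ▸ thompsonSubgroup_le_jHat Q))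
  have := (hQ.to_subgroup H).center_nontrivial
  obtain ⟨k, hk⟩ := IsPGroup.iff_card.1 (hQ.to_subgroup (H ⊓ centralizer (H : Set Q)))
  rw [hk]
  refine dvd_pow_self 2 fun e => ?_
  rw [e, pow_zero, card_eq_one] at hk
  obtain ⟨z, hz⟩ := exists_ne (1 : center H)
  refine hz (Subtype.ext (Subtype.ext (mem_bot.1 (hk ▸ mem_inf.2 ⟨(z : H).2, ?_⟩))))
  exact mem_centralizer_iff.2 fun h hh => congrArg Subtype.val (mem_center_iff.1 z.2 ⟨h, hh⟩)

theorem inducedFunctor_omegaHat {G : Type u} [Group G] (T : Subgroup G) :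
    inducedFunctor (G := G) (fun Q [Group Q] => omegaHat Q) T =
      omegaOne 2 (jHatOf T ⊓ centralizer (jHatOf T : Set G)) := by
  rw [inducedFunctor, PLocal.map_omegaOne T.subtype_injective,
    PLocal.map_inf_centralizer T.subtype_injective]

theorem omega_center_le {G : Type u} [Group G] [Finite G] (T : Subgroup G) :
    omegaOne 2 (T ⊓ centralizer (T : Set G)) ≤ thompsonSubgroupOf 2 T ⊓
      omegaOne 2 (jHatOf T ⊓ centralizer (jHatOf T : Set G)) := by
  set Z := T ⊓ centralizer (T : Set G) with hZ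
  have hZc : IsMulCommutative Z := ⟨⟨fun a b => Subtype.ext (mem_centralizer_iff.1 b.2.2 a a.2.1)⟩⟩
  have hZe : IsElementaryAbelian 2 (omegaOne 2 Z) := PLocal.isElementaryAbelian_omegaOne hZc
  have hZle : omegaOne 2 Z ≤ Z := PLocal.omegaOne_le 2 Z
  obtain ⟨E, hE⟩ := PLocal.maxEAIn_nonempty 2 T
  have hsup : IsElementaryAbelian 2 (E ⊔ omegaOne 2 Z) :=
    PLocal.isElementaryAbelian_sup hE.2.1 hZe fun e he => mem_centralizer_iff.2 fun z hz =>
      (mem_centralizer_iff.1 (hZle hz).2 e (hE.1 he)).symm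
  have h1 := eq_of_le_of_card_ge (le_sup_left : E ≤ E ⊔ omegaOne 2 Z)
    (hE.2.2 _ (sup_le hE.1 (hZle.trans inf_le_left)) hsup)
  have hJ : omegaOne 2 Z ≤ thompsonSubgroupOf 2 T :=
    (le_sup_right.trans h1.ge).trans (PLocal.le_thompsonSubgroupOf hE)
  refine le_inf hJ ?_
  rw [← PLocal.omegaOne_eq_self hZe]
  exact PLocal.omegaOne_mono (le_inf
    (hJ.trans (LocalEven.OffenderBound.thompson_le_jHatOf T)) fun z hz =>
      centralizer_le (LocalEven.OffenderBound.jHatOf_le T) (hZle hz).2)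

/-- Let G be a finite group in which the symmetric group of degree 4 is not involved, such that for every section K/R of G with C(O₂(K/R)) ≤ O₂(K/R) every non-abelian composition factor of K/R is a Suzuki group Sz(2^(2n+1)) or PSL₂ over a field with 3^(2n+1) elements. Let S be a Sylow 2-subgroup, J_e(S) the subgroup generated by its elementary abelian subgroups of largest order, and A the normal closure of Ω₁(Z(S)) in N_G(J_e(S)). Then A is an elementary abelian subgroup of S, strongly closed in S with respect to G, and A controls strong fusion in G. -/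
theorem result {G : Type u} [Group G] [Finite G] (hfree : ¬ Cfsg.Involves (Equiv.Perm (Fin 4)) G) (hsec : ∀ (K R : Subgroup G) [hR : (R.subgroupOf K).Normal], Subgroup.centralizer (Cfsg.pCore 2 (K ⧸ R.subgroupOf K) : Set (K ⧸ R.subgroupOf K)) ≤ Cfsg.pCore 2 (K ⧸ R.subgroupOf K) → Cfsg.IsCompositionKGroupWith Cfsg.IsSuzukiOrPSL2OddPowerThree (K ⧸ R.subgroupOf K)) (S : Sylow 2 G) (N : Subgroup G) (hN : N = Subgroup.normalizer (Cfsg.thompsonSubgroupOf 2 (S : Subgroup G) : Set G)) (A : Subgroup G) (hA : A = (Subgroup.normalClosure (((Cfsg.omegaOne 2 ((S : Subgroup G) ⊓ Subgroup.centralizer ((S : Subgroup G) : Set G))).subgroupOf N : Subgroup ↥N) : Set ↥N)).map N.subtype) : A ≤ S ∧ Cfsg.IsElementaryAbelian 2 A ∧ Cfsg.IsStronglyClosed A (S : Subgroup G) ∧ Cfsg.ControlsStrongFusion 2 A := by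
  have : Fact (Nat.Prime 2) := ⟨Nat.prime_two⟩
  refine Cfsg.Agent.S1997.result S (fun Q [Group Q] => thompsonSubgroup 2 Q)
    (fun Q [Group Q] => omegaHat Q) isCharPFunctor_thompson isCharPFunctor_omegaHat ?_ ?_ N hN A hA
  · intro K R hR hchar T
    set X := ↥K ⧸ R.subgroupOf K
    have hfree' : ¬ Involves (Equiv.Perm (Fin 4)) X := fun h => hfree
      (ConjFunctor.involves_trans (ConjFunctor.involves_subgroup K)
        (ConjFunctor.involves_trans (ConjFunctor.involves_quotient _) h))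
    have hG := LocalEven.OffenderBound.goodX_of_composition
      (LocalEven.OffenderBound.not_involves_s3_of_constrained hchar hfree') (hsec K R hchar)
    have hcle : centralizer (((T : Subgroup X) ⊓ centralizer ((T : Subgroup X) : Set X) :
        Subgroup X) : Set X) ≤ centralizer (omegaOne 2 ((T : Subgroup X) ⊓
          centralizer ((T : Subgroup X) : Set X)) : Set X) :=
      centralizer_le (PLocal.omegaOne_le 2 _)
    have hNW : normalizer (jHatOf (T : Subgroup X) : Set X) ≤ normalizer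
        (omegaOne 2 (jHatOf (T : Subgroup X) ⊓ centralizer (jHatOf (T : Subgroup X) : Set X)) :
          Set X) := fun n hn => by
      rw [mem_normalizer_iff_map_conj_eq] at hn ⊢
      exact (PLocal.map_omegaOne (f := (MulAut.conj n).toMonoidHom) (MulAut.conj n).injective _).trans
        (congrArg _ ((PLocal.map_inf_centralizer (f := (MulAut.conj n).toMonoidHom)
          (MulAut.conj n).injective _ _).trans
            (congrArg₂ (· ⊓ ·) hn (congrArg (fun H : Subgroup X => centralizer (H : Set X)) hn))))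
    refine ⟨fun x => ?_, fun x => ?_, fun x => ?_⟩
    · obtain ⟨c, hc, m, hm, e⟩ := LocalEven.OffenderBound.factor_jHat hG hchar T x
      exact ⟨c, hcle hc, m, LocalEven.OffenderBound.normalizer_jHatOf_le _ hm, e⟩
    · obtain ⟨c, hc, m, hm, e⟩ := LocalEven.OffenderBound.factor_jHat hG hchar T x
      refine ⟨c, hcle hc, m, ?_, e⟩
      rw [inducedFunctor_omegaHat]
      exact hNW hm
    · obtain ⟨c, hc, m, hm, e⟩ := LocalEven.OffenderBound.factor_omega_jHat hG hchar T x⁻¹
      refine ⟨m⁻¹, inv_mem hm, c⁻¹, ?_, by rw [← mul_inv_rev, ← e, inv_inv]⟩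
      rw [inducedFunctor_omegaHat]
      exact inv_mem (centralizer_le_normalizer _ hc)
  · rw [inducedFunctor_omegaHat]
    exact omega_center_le (S : Subgroup G)

end Cfsg.Agent.S2796
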