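import Cfsg.Statements.S2799
import Cfsg.Agent.WeakClosed.GroupApps

set_option autoImplicit false
open Cfsg

namespace Cfsg.Agent.S2799

/-- Let S be a Sylow p-subgroup of the finite group G, J(S) the subgroup generated by the abelian subgroups of S of largest order, and x an element of S lying in the centre of N_G(J(S)). Assume that p is odd, or that x is a p-th power of an element of Z(S), or that the symmetric group of degree 4 is not involved in G. Then x is weakly closed in S with respect to G: every G-conjugate of x that lies in S equals x. -/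
theorem result {G : Type*} [Group G] [Finite G] {p : ℕ} [Fact p.Prime] (S : Sylow p G) (x : G) (hxS : x ∈ (S : Subgroup G)) (hxZ : x ∈ (Subgroup.center ↥(Subgroup.normalizer ((Cfsg.thompsonSubgroupAOf (S : Subgroup G)) : Set G))).map (Subgroup.normalizer ((Cfsg.thompsonSubgroupAOf (S : Subgroup G)) : Set G)).subtype) (h : p ≠ 2 ∨ (∃ z ∈ (S : Subgroup G) ⊓ Subgroup.centralizer ((S : Subgroup G) : Set G), z ^ p = x) ∨ ¬ Cfsg.Involves (Equiv.Perm (Fin 4)) G) : ∀ g : G, g * x * g⁻¹ ∈ (S : Subgroup G) → g * x * g⁻¹ = x := by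
  intro g hg
  obtain ⟨⟨w, hwN⟩, hw, hwx⟩ := hxZ
  obtain rfl : w = x := hwx
  have hN : Subgroup.normalizer (thompsonSubgroupAOf (S : Subgroup G) : Set G) ≤
      Subgroup.centralizer ({w} : Set G) := fun n hn =>
    Subgroup.mem_centralizer_singleton_iff.2
      (congrArg Subtype.val (Subgroup.mem_center_iff.1 hw ⟨n, hn⟩))
  have hxz : w ∈ (S : Subgroup G) ⊓ Subgroup.centralizer ((S : Subgroup G) : Set G) :=
    ⟨hxS, Subgroup.mem_centralizer_iff.2 fun s hs => Subgroup.mem_centralizer_singleton_iff.1
      (hN (CfsgLib.PLocal.normalizer_le_normalizer_thompsonSubgroupAOf _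
        (Subgroup.le_normalizer hs)))⟩
  have hJ := CfsgLib.WeakClosed.autFixes_group S hN
  have hsat := CfsgLib.Fusion.isSaturated_groupFusion S
  refine CfsgLib.WeakClosed.conj_eq_of_fixes S hxS hg ?_
  rcases h with h | ⟨z, hz, rfl⟩ | h
  · exact CfsgLib.WeakClosed.fixes_of_thompson S.isPGroup' hsat (Or.inl h) hxz hJ
  · refine CfsgLib.WeakClosed.fixes_of_agemo S.isPGroup' hsat ?_ hJ
    exact Subgroup.subset_closure ⟨z, hz, by simp⟩
  · exact CfsgLib.WeakClosed.fixes_of_thompson S.isPGroup' hsat
      (CfsgLib.WeakClosed.freeSys_group S (Or.inr h)) hxz hJ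

end Cfsg.Agent.S2799
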