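import Cfsg.Statements.S2804
import Cfsg.Agent.LocalStructure.Largest

set_option autoImplicit false
open Cfsg

namespace Cfsg.Agent.S2804

open Subgroup CfsgLib.LocalStructure
open scoped commutatorElement

/-- Let L be a finite group and p a prime with C_L(O_p(L)) ≤ O_p(L), V a p-reduced normal subgroup of L and K a subnormal subgroup of L. Then [V, O^p(K)] is contained in K and is a p-reduced normal subgroup of K, where O^p(K) is the subgroup of K generated by its elements of order prime to p. -/
theorem result {L : Type*} [Group L] [Finite L] {p : ℕ} [Fact p.Prime] (hchar : Subgroup.centralizer (Cfsg.pCore p L : Set L) ≤ Cfsg.pCore p L) (V : Subgroup L) (hV : Cfsg.IsPReducedNormal p V) (K : Subgroup L) (hK : K.IsSubnormal) : ⁅V, (Cfsg.pResidual p ↥K).map K.subtype⁆ ≤ K ∧ Cfsg.IsPReducedNormal p ((⁅V, (Cfsg.pResidual p ↥K).map K.subtype⁆).subgroupOf K) := by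
  obtain ⟨hVn, hVe, hC, hcore⟩ := hV
  have hVp : IsPGroup p V := isElementaryAbelian_isPGroup hVe
  rw [map_pResidual]
  set R := pResOf p K
  have hVR : V ≤ normalizer (R : Set L) :=
    (le_pCore hVp).trans (pCore_le_normalizer_pResOf (p := p) hK)
  have hWK : ⁅V, R⁆ ≤ K := (le_normalizer_iff_commutator_le_right.1 hVR).trans (pResOf_le K)
  have hWV : ⁅V, R⁆ ≤ V := commutator_le_left _ _
  refine ⟨hWK, (isPReducedNormal_subgroupOf_iff hWK).2 ⟨hWK, ?_, isElementaryAbelian_of_le hVe hWV,
    fun D hDK hKD hp d hd => centralizer_le hWV ?_⟩⟩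
  · exact (le_inf ((normalizer_eq_top (H := V)).ge.trans' le_top)
      (Subgroup.le_normalizer.trans (normalizer_le_normalizer_pResOf K))).trans
      (normalizer_le_normalizer_commutator V R)
  have hRD : pResOf p D ≤ centralizer (V : Set L) := pResOf_le_of_forall fun e he hc => by
    refine mem_centralizer_of_stab (hVp.to_le hWV) hc
      (le_centralizer_of_forall_pow_mem hp (mem_pResOf he hc)) fun v hv => ?_
    rw [commutator_comm V R]
    exact commutator_mem_commutator (mem_pResOf (hDK he) hc) hv
  have hDsn : D.IsSubnormal :=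
    IsSubnormal.step _ K hDK hK ((normal_subgroupOf_iff_le_normalizer hDK).2 hKD)
  have hDp : IsPGroup p (D.map (QuotientGroup.mk' (centralizer (V : Set L)))) := by
    rintro ⟨_, e, he, rfl⟩
    obtain ⟨k, hk⟩ := exists_pow_mem_pResOf (p := p) he
    exact ⟨k, Subtype.ext (by simpa [← QuotientGroup.mk_pow, QuotientGroup.eq_one_iff] using hRD hk)⟩
  have h := (le_pCore_of_isSubnormal hDsn.quotient hDp).trans hcore.le
  exact (QuotientGroup.eq_one_iff d).1 (mem_bot.1 (h ⟨d, hd, rfl⟩))

end Cfsg.Agent.S2804
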