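import Cfsg.Statements.S2806
import Cfsg.Agent.LocalStructure.Large
import Cfsg.Agent.LocalEven50.SubnormalSylow

set_option autoImplicit false
open Cfsg

namespace Cfsg.Agent.S2806

open Subgroup CfsgLib.LocalStructure
open scoped commutatorElement

variable {H : Type*} [Group H] [Finite H] {p : ℕ} [Fact p.Prime]

theorem omegaZ_ne_bot {R : Subgroup H} (hR : IsPGroup p R) (h : R ≠ ⊥) : omegaZ p R ≠ ⊥ := by
  obtain ⟨w, hw, hw1, hwc⟩ := exists_fixed_of_isPGroup hR hR h Subgroup.le_normalizer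
  obtain ⟨n, hn⟩ := hR ⟨w, hw⟩
  have hn' : w ^ p ^ n = 1 := by simpa using congrArg Subtype.val hn
  obtain ⟨k, hk, hk'⟩ : ∃ k, w ^ p ^ k ≠ 1 ∧ w ^ p ^ (k + 1) = 1 := by
    clear hn
    induction n with
    | zero => exact absurd (by simpa using hn') hw1
    | succ n ih =>
      by_cases h : w ^ p ^ n = 1
      · exact ih h
      · exact ⟨n, h, hn'⟩
  intro e
  refine hk (mem_bot.1 (e ▸ mem_omegaZ.2 ⟨pow_mem hw _, pow_mem hwc _, ?_⟩))
  rwa [← pow_mul, ← pow_succ]

theorem card_sylow_inf (T : Sylow p H) {L : Subgroup H} (hL : L.IsSubnormal) :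
    Nat.card ↥((T : Subgroup H) ⊓ L) = p ^ (Nat.card ↥L).factorization p := by
  obtain ⟨Q, hQ⟩ := Cfsg.Agent.S0542.result p L hL T
  rw [← Q.card_eq_multiplicity, hQ, ← inf_subgroupOf_right,
    Nat.card_congr (subgroupOfEquivOfLe inf_le_right).toEquiv]

theorem not_dvd_relIndex_inf (T : Sylow p H) {L X : Subgroup H} (hL : L.IsSubnormal)
    (hX : X ≤ L) (hTX : (T : Subgroup H) ⊓ L ≤ X) : ¬ p ∣ ((T : Subgroup H) ⊓ L).relIndex X := by
  obtain ⟨Q, hQ⟩ := Cfsg.Agent.S0542.result p L hL T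
  intro h
  refine Q.not_dvd_index ?_
  rw [hQ, ← inf_subgroupOf_right, ← relIndex,
    ← relIndex_mul_relIndex ((T : Subgroup H) ⊓ L) X L hTX hX]
  exact dvd_mul_of_dvd_left h _

theorem le_of_normalized {R X Q : Subgroup H} (hR : IsPGroup p R) (hRX : R ≤ X)
    (hidx : ¬ p ∣ R.relIndex X) (hQ : IsPGroup p Q) (hQX : Q ≤ X) (hn : R ≤ normalizer (Q : Set H)) :
    Q ≤ R := by
  obtain ⟨n, hn'⟩ := IsPGroup.index (isPGroup_sup hR hQ hn) (R.subgroupOf (R ⊔ Q))
  refine le_sup_right.trans (relIndex_eq_one.1 ?_ : R ⊔ Q ≤ R)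
  rcases n with _ | n
  · simpa [relIndex] using hn'
  · refine (hidx ?_).elim
    rw [← relIndex_mul_relIndex R (R ⊔ Q) X le_sup_left (sup_le hRX hQX)]
    exact dvd_mul_of_dvd_left ((dvd_pow_self p n.succ_ne_zero).trans hn'.symm.dvd) _

/-- Kieler's Lemma for a normal step, inside the local subgroup `N(U)`. -/
theorem kieler_local (hH : IsOfLocalCharacteristic p H) (T : Sylow p H) {L K U : Subgroup H}
    (hL : L.IsSubnormal) (hK : K.IsSubnormal) (hLK : L ≤ K) (hn : K ≤ normalizer (L : Set H))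
    (hUp : IsPGroup p U) (hU : U ≠ ⊥) (hT : (T : Subgroup H) ⊓ K ≤ normalizer (U : Set H)) :
    L ⊓ normalizer (U : Set H) ⊓ centralizer (omegaZ p ((T : Subgroup H) ⊓ K) : Set H) =
      L ⊓ normalizer (U : Set H) ⊓ centralizer (omegaZ p ((T : Subgroup H) ⊓ L) : Set H) := by
  set N := normalizer (U : Set H)
  have hN : centralizer (pCore p ↥N : Set ↥N) ≤ pCore p ↥N := hH.2 U hUp hU
  have hKc : (K ⊓ N) ⊓ centralizer (pCoreOf p (K ⊓ N) : Set H) ≤ pCoreOf p (K ⊓ N) := by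
    have h := CfsgLib.LocalStructure.charP_of_isSubnormal (IsSubnormal.subgroupOf (K := N) hK) hN
    have hmap : (K.subgroupOf N).map N.subtype = K ⊓ N := subgroupOf_map_subtype K N
    have hcore : (pCoreOf p (K.subgroupOf N)).map N.subtype = pCoreOf p (K ⊓ N) := by
      refine le_antisymm ?_ ?_
      · refine CfsgLib.LocalStructure.le_pCoreOf ((map_mono (pCoreOf_le _)).trans hmap.le) ?_
          ((pCoreOf_isPGroup _).map _)
        rw [← hmap]
        exact (map_mono (le_normalizer_pCoreOf _)).trans (le_normalizer_map _)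
      · rintro x hx
        refine ⟨⟨x, (pCoreOf_le (K ⊓ N) hx).2⟩, ?_, rfl⟩
        refine CfsgLib.LocalStructure.le_pCoreOf (N := (pCoreOf p (K ⊓ N)).subgroupOf N) ?_ ?_
          (pCoreOf_isPGroup (K ⊓ N)).comap_subtype hx
        · exact fun y hy => (pCoreOf_le (K ⊓ N) hy).1
        · exact fun y hy => le_normalizer_comap N.subtype (le_normalizer_pCoreOf (K ⊓ N) ⟨hy, y.2⟩)
    rintro x ⟨⟨hxK, hxN⟩, hxc⟩
    rw [← hcore] at hxc ⊢
    exact ⟨⟨x, hxN⟩, h ⟨hxK, (coe_mem_centralizer_iff _ _).1 hxc⟩, rfl⟩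
  have hTL : (T : Subgroup H) ⊓ K ⊓ (L ⊓ N) = (T : Subgroup H) ⊓ L :=
    le_antisymm (le_inf (inf_le_left.trans inf_le_left) (inf_le_right.trans inf_le_left))
      (le_inf (le_inf inf_le_left (inf_le_right.trans hLK))
        (le_inf inf_le_right ((inf_le_inf le_rfl hLK).trans hT)))
  have hTLN : (T : Subgroup H) ⊓ L ≤ L ⊓ N := le_inf inf_le_right ((inf_le_inf le_rfl hLK).trans hT)
  have h := kieler_step (p := p) (K := K ⊓ N) (L := L ⊓ N) (T := (T : Subgroup H) ⊓ K)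
    (le_normalizer_inf' (inf_le_left.trans hn) (inf_le_right.trans Subgroup.le_normalizer))
    T.2.to_inf_left (le_inf inf_le_right hT) (by rw [hTL]; exact not_dvd_relIndex_inf T hL inf_le_left hTLN)
    (le_of_normalized T.2.to_inf_left (le_inf inf_le_right hT)
      (not_dvd_relIndex_inf T hK inf_le_left (le_inf inf_le_right hT)) (pCoreOf_isPGroup _)
      (pCoreOf_le _) ((le_inf inf_le_right hT).trans (le_normalizer_pCoreOf _)))
    ((le_of_normalized T.2.to_inf_left hTLN (not_dvd_relIndex_inf T hL inf_le_left hTLN)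
      (pCoreOf_isPGroup _) (pCoreOf_le _) (hTLN.trans (le_normalizer_pCoreOf _))).trans
      (inf_le_inf le_rfl hLK))
    (inf_le_inf_right _ hLK) hKc
  rwa [hTL] at h

theorem mem_centralizer_iff_omegaZ (hH : IsOfLocalCharacteristic p H) (T : Sylow p H) {L : Subgroup H}
    (hL : L.IsSubnormal) {x : H} (hx : x ∈ L) (hp : ∃ k : ℕ, orderOf x = p ^ k) :
    x ∈ centralizer (omegaZ p ((T : Subgroup H) ⊓ L) : Set H) ↔
      x ∈ centralizer (omegaZ p (T : Subgroup H) : Set H) := by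
  revert x
  induction hL with
  | top => intro x _ _; rw [inf_top_eq]
  | step L K hle hK hN ih =>
    intro x hx hp
    have hL : L.IsSubnormal := IsSubnormal.step L K hle hK hN
    have hn := (normal_subgroupOf_iff_le_normalizer hle).1 hN
    rw [← ih (hle hx) hp]
    by_cases hR : (T : Subgroup H) ⊓ L = ⊥
    · have h1 : Nat.card ↥((T : Subgroup H) ⊓ L) = 1 := by rw [hR]; exact Subgroup.card_bot
      obtain ⟨k, hk⟩ := hp
      have h2 : p ^ k ∣ p ^ (Nat.card ↥L).factorization p := pow_dvd_pow p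
        (((Fact.out : p.Prime).pow_dvd_iff_le_factorization Nat.card_pos.ne').1
          (hk ▸ Subgroup.orderOf_dvd_natCard L hx))
      rw [← card_sylow_inf T hL, h1, Nat.dvd_one] at h2
      rw [h2, orderOf_eq_one_iff] at hk
      subst hk
      exact ⟨fun _ => one_mem _, fun _ => one_mem _⟩
    · have hR' : (T : Subgroup H) ⊓ K ≠ ⊥ := fun e => hR (le_bot_iff.1 (e ▸ inf_le_inf le_rfl hle))
      constructor
      · intro h
        refine ((kieler_local hH T hL hK hle hn (T.2.to_le ((omegaZ_le _).trans inf_le_left))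
          (omegaZ_ne_bot T.2.to_inf_left hR) ?_).ge ⟨⟨hx, centralizer_le_normalizer _ h⟩, h⟩).2
        refine le_trans ?_ (normalizer_le_normalizer_omegaZ _)
        exact le_normalizer_inf' (inf_le_left.trans Subgroup.le_normalizer) (inf_le_right.trans hn)
      · intro h
        exact ((kieler_local hH T hL hK hle hn (T.2.to_le ((omegaZ_le _).trans inf_le_left))
          (omegaZ_ne_bot T.2.to_inf_left hR') (Subgroup.le_normalizer.trans
            (normalizer_le_normalizer_omegaZ _))).le ⟨⟨hx, centralizer_le_normalizer _ h⟩, h⟩).2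

theorem pointStabilizer_sup (hH : IsOfLocalCharacteristic p H) (T : Sylow p H) {L₁ L₂ : Subgroup H}
    (h₁ : L₁.IsSubnormal) (h₂ : L₂.IsSubnormal) :
    pointStabilizer p (L₁ ⊔ L₂) ((T : Subgroup H) ⊓ (L₁ ⊔ L₂)) =
      pointStabilizer p L₁ ((T : Subgroup H) ⊓ L₁) ⊔ pointStabilizer p L₂ ((T : Subgroup H) ⊓ L₂) := by
  set Z := omegaZ p (T : Subgroup H)
  set C := centralizer (Z : Set H)
  have hL := CfsgLib.Subnormal.isSubnormal_sup h₁ h₂
  let E : Subgroup H → Subgroup H := fun L => Subgroup.closure {x | x ∈ L ⊓ C ∧ ∃ k : ℕ, orderOf x = p ^ k}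
  have hPS : ∀ L : Subgroup H, L.IsSubnormal → pointStabilizer p L ((T : Subgroup H) ⊓ L) = E L :=
    fun L hL => congrArg Subgroup.closure (Set.ext fun x =>
      ⟨fun h => ⟨⟨h.1.1, (mem_centralizer_iff_omegaZ hH T hL h.1.1 h.2).1 h.1.2⟩, h.2⟩,
       fun h => ⟨⟨h.1.1, (mem_centralizer_iff_omegaZ hH T hL h.1.1 h.2).2 h.1.2⟩, h.2⟩⟩)
  rw [hPS _ hL, hPS _ h₁, hPS _ h₂]
  refine le_antisymm ?_ (sup_le (Subgroup.closure_mono fun x hx => ⟨⟨mem_sup_left hx.1.1, hx.1.2⟩, hx.2⟩)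
    (Subgroup.closure_mono fun x hx => ⟨⟨mem_sup_right hx.1.1, hx.1.2⟩, hx.2⟩))
  have hTC : (T : Subgroup H) ≤ C := le_centralizer_omegaZ _
  have hEle : ∀ L, E L ≤ L ⊓ C := fun L => (closure_le _).2 fun x hx => hx.1
  have hTE : ∀ L : Subgroup H, L ⊓ (T : Subgroup H) ≤ E L := fun L x hx =>
    subset_closure ⟨⟨hx.1, hTC hx.2⟩, (IsPGroup.iff_orderOf.1 T.2 ⟨x, hx.2⟩).imp fun k hk => by
      rwa [Subgroup.orderOf_mk] at hk⟩
  have hEsn : ∀ L : Subgroup H, L.IsSubnormal → ((E L).subgroupOf C).IsSubnormal := by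
    intro L hL
    refine IsSubnormal.step _ (L.subgroupOf C) (fun x hx => (hEle L hx).1) hL.subgroupOf ?_
    refine normal_subgroupOf_of_le_normalizer fun g hg => mem_normalizer_of_forall fun y hy => ?_
    have hle : (E L).map (MulAut.conj (g : H)).toMonoidHom ≤ E L := by
      rw [MonoidHom.map_closure]
      apply Subgroup.closure_mono
      rintro _ ⟨z, ⟨⟨hzL, hzC⟩, hk⟩, rfl⟩
      refine ⟨⟨mul_mem (mul_mem hg hzL) (L.inv_mem hg), mul_mem (mul_mem g.2 hzC) (C.inv_mem g.2)⟩, ?_⟩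
      rwa [MulEquiv.toMonoidHom_eq_coe, MonoidHom.coe_coe, MulEquiv.orderOf_eq]
    exact hle ⟨(y : H), hy, rfl⟩
  set X := E L₁ ⊔ E L₂
  have hXL : X ≤ (L₁ ⊔ L₂) ⊓ C := sup_le ((hEle L₁).trans (inf_le_inf_right _ le_sup_left))
    ((hEle L₂).trans (inf_le_inf_right _ le_sup_right))
  have hTX : (L₁ ⊔ L₂) ⊓ (T : Subgroup H) ≤ X := by
    rw [CfsgLib.LocalEven50.sup_inf_sylow T h₁ h₂]
    exact sup_le ((hTE _).trans le_sup_left) ((hTE _).trans le_sup_right)
  have hXsn : (X.subgroupOf C).IsSubnormal := by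
    rw [subgroupOf_sup ((hEle L₁).trans inf_le_right) ((hEle L₂).trans inf_le_right)]
    exact CfsgLib.Subnormal.isSubnormal_sup (hEsn _ h₁) (hEsn _ h₂)
  refine (closure_le _).2 ?_
  rintro x ⟨⟨hxL, hxC⟩, k, hk⟩
  obtain ⟨S, hS⟩ := (isPEl_zpowers (p := p) (g := (⟨x, hxC⟩ : ↥C))
    ⟨k, Subtype.ext (by simpa using hk ▸ pow_orderOf_eq_one x)⟩).exists_le_sylow
  set X' := X.subgroupOf C
  set L' := (L₁ ⊔ L₂).subgroupOf C
  have hle : X' ≤ L' := fun z hz => (hXL hz).1
  have heq : (S : Subgroup ↥C) ⊓ X' = (S : Subgroup ↥C) ⊓ L' := by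
    refine Subgroup.eq_of_le_of_card_ge (inf_le_inf le_rfl hle) ?_
    rw [card_sylow_inf S hL.subgroupOf, ← card_sylow_inf (T.subtype hTC) hL.subgroupOf,
      card_sylow_inf S hXsn, ← card_sylow_inf (T.subtype hTC) hXsn]
    refine (Nat.card_le_card_of_injective _ (inclusion_injective (le_inf inf_le_left fun z hz => ?_)))
    rw [Sylow.coe_subtype] at hz
    exact hTX ⟨hz.2, hz.1⟩
  exact (heq.ge (show (⟨x, hxC⟩ : ↥C) ∈ (S : Subgroup ↥C) ⊓ L' from ⟨hS (mem_zpowers _), hxL⟩)).2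

/-- Let H be a finite group of local characteristic p, T a Sylow p-subgroup, and L₁, L₂ subnormal subgroups of H generating the subgroup L. Then the point stabilizer of L with respect to T ∩ L is generated by the point stabilizers of L₁ and L₂ with respect to T ∩ L₁ and T ∩ L₂ (point stabilizer of X w.r.t. R: the subgroup generated by the p-elements of X centralizing Ω₁(Z(R))). -/
theorem result {H : Type*} [Group H] [Finite H] {p : ℕ} [Fact p.Prime] (hH : Cfsg.IsOfLocalCharacteristic p H) (T : Sylow p H) (L₁ L₂ : Subgroup H) (h₁ : L₁.IsSubnormal) (h₂ : L₂.IsSubnormal) : Cfsg.pointStabilizer p (L₁ ⊔ L₂) ((T : Subgroup H) ⊓ (L₁ ⊔ L₂)) = Cfsg.pointStabilizer p L₁ ((T : Subgroup H) ⊓ L₁) ⊔ Cfsg.pointStabilizer p L₂ ((T : Subgroup H) ⊓ L₂) := by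
  exact pointStabilizer_sup hH T h₁ h₂

end Cfsg.Agent.S2806
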