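import Cfsg.Statements.S2809
import Cfsg.Agent.LocalStructure.Cores

set_option autoImplicit false
open Cfsg

namespace Cfsg.Agent.S2809

open Subgroup CfsgLib.LocalStructure
open scoped commutatorElement

/-- Let H be a finite group, p a prime, R a p-subgroup of H with C_H(R) ≤ R, and L a subgroup of N_H(R) acting nilpotently on R (some iterated commutator [R, L, …, L] is trivial). Then L is a p-group. -/
theorem result {H : Type*} [Group H] [Finite H] {p : ℕ} [Fact p.Prime] (R : Subgroup H) (hR : IsPGroup p ↥R) (hC : Subgroup.centralizer (R : Set H) ≤ R) (L : Subgroup H) (hL : L ≤ Subgroup.normalizer (R : Set H)) (hnil : ∃ n : ℕ, Cfsg.iterCommutator R L n = ⊥) : IsPGroup p ↥L := by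
  obtain ⟨n, hn⟩ := hnil
  have hC : ∀ i, iterCommutator R L i ≤ R ∧ L ≤ normalizer ((iterCommutator R L i : Subgroup H) : Set H) := by
    intro i
    induction i with
    | zero => exact ⟨le_rfl, hL⟩
    | succ i ih =>
      exact ⟨(le_normalizer_iff_commutator_le_left.1 ih.2).trans ih.1,
        normalizer_commutator_ge_right _ _⟩
  refine isPGroup_of_coprime_eq_one fun x hx hc => eq_one_of_coprime_of_mem hR ((show centralizer (R : Set H) ≤ R from ‹_›) ?_) hc
  refine mem_centralizer_of_chain (iterCommutator R L) hc n (fun i _ => hR.to_le (hC i).1)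
    (fun i _ b hb => ?_) ?_
  · show ⁅x, b⁆ ∈ ⁅iterCommutator R L i, L⁆
    rw [commutator_comm]
    exact commutator_mem_commutator hx hb
  · rw [hn, mem_centralizer_iff]
    intro y hy
    simp [mem_bot.1 hy]

end Cfsg.Agent.S2809
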