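import Cfsg.Statements.S2810
import Cfsg.Agent.LocalStructure.Reduced

set_option autoImplicit false
open Cfsg

namespace Cfsg.Agent.S2810

open Subgroup CfsgLib.LocalStructure
open scoped commutatorElement

/-- Let H be a finite group of characteristic p and L a subgroup of H centralizing every factor of some H-invariant chain 1 = A₀ ≤ A₁ ≤ … ≤ Aₙ = O_p(H) of normal subgroups (that is, [A_{i+1}, L] ≤ Aᵢ for each i). Then L ≤ O_p(H). -/
theorem result {H : Type*} [Group H] [Finite H] {p : ℕ} [Fact p.Prime] (hchar : Subgroup.centralizer (Cfsg.pCore p H : Set H) ≤ Cfsg.pCore p H) (L : Subgroup H) (n : ℕ) (A : Fin (n + 1) → Subgroup H) (h0 : A 0 = ⊥) (hn : A (Fin.last n) = Cfsg.pCore p H) (hmono : Monotone A) (hnorm : ∀ i, (A i).Normal) (hcent : ∀ i : Fin n, ⁅A i.succ, L⁆ ≤ A i.castSucc) : L ≤ Cfsg.pCore p H := by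
  have : ∀ i, (A i).Normal := hnorm
  let K : Fin n → Subgroup H := fun i => sectionKernel (A i.succ) (A i.castSucc)
  have hK : ∀ i, (K i).Normal := fun i => by
    have := (hnorm i.succ).map (QuotientGroup.mk' (A i.castSucc)) (QuotientGroup.mk'_surjective _)
    exact Subgroup.Normal.comap (centralizer_normal_of_normal _) _
  have hMn : (⨅ i, K i).Normal := normal_iInf_normal hK
  have hLM : L ≤ ⨅ i, K i := le_iInf fun i => by
    intro l hl
    show QuotientGroup.mk' (A i.castSucc) l ∈ centralizer _
    rw [mem_centralizer_iff]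
    rintro _ ⟨a, ha, rfl⟩
    exact (commutatorElement_eq_one_iff_mul_comm).1 (by
      rw [← map_commutatorElement, QuotientGroup.mk'_apply, QuotientGroup.eq_one_iff]
      exact hcent i (commutator_mem_commutator ha hl))
  refine hLM.trans (le_pCore (isPGroup_of_coprime_eq_one fun x hx hc =>
    eq_one_of_coprime_of_mem pCore_isPGroup (hchar ?_) hc))
  let C : ℕ → Subgroup H := fun i => A ⟨n - i, by omega⟩
  have h := mem_centralizer_of_chain C hc n
    (fun i _ => pCore_isPGroup.to_le (hn ▸ hmono (Fin.le_last _))) (fun i hi b hb => ?_) ?_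
  · have e : C 0 = pCore p H := hn
    exact e ▸ h
  · have hj : n - (i + 1) < n := by omega
    have h1 := mem_iInf.1 hx ⟨_, hj⟩
    have hb' : b ∈ A (Fin.succ ⟨n - (i + 1), hj⟩) := by
      have e : (⟨n - i, by omega⟩ : Fin (n + 1)) = Fin.succ ⟨n - (i + 1), hj⟩ := by
        ext; simp; omega
      exact e ▸ hb
    have h2 := mem_centralizer_iff.1 h1 _ (mem_map_of_mem _ hb')
    rw [← commutatorElement_eq_one_iff_mul_comm, ← map_commutatorElement, QuotientGroup.mk'_apply,
      QuotientGroup.eq_one_iff] at h2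
    rw [← commutatorElement_inv]
    exact inv_mem h2
  · have e : C n = ⊥ := by
      show A _ = ⊥
      rw [← h0]; congr 1; ext; simp
    rw [e, mem_centralizer_iff]
    intro y hy
    simp [mem_bot.1 hy]

end Cfsg.Agent.S2810
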