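import Cfsg.Statements.S2813
import Cfsg.Agent.LocalStructure.Cores

set_option autoImplicit false
open Cfsg

namespace Cfsg.Agent.S2813

open Subgroup CfsgLib.LocalStructure
open scoped commutatorElement

/-- Let K be a subgroup of the finite group H with O_p(K) = 1 and Y a p-subgroup of N_H(K) with [K, Y, Y] = 1. Then [K, Y] = 1. -/
theorem result {H : Type*} [Group H] [Finite H] {p : ℕ} [Fact p.Prime] (K : Subgroup H) (hO : Cfsg.pCore p ↥K = ⊥) (Y : Subgroup H) (hY : IsPGroup p ↥Y) (hYK : Y ≤ Subgroup.normalizer (K : Set H)) (hq : ⁅⁅K, Y⁆, Y⁆ = ⊥) : ⁅K, Y⁆ = ⊥ := by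
  set L := ⁅K, Y⁆ with hLdef
  have hLK : L ≤ K := le_normalizer_iff_commutator_le_left.1 hYK
  have hKL : K ≤ normalizer (L : Set H) := normalizer_commutator_ge_left _ _
  have hLY : L ≤ centralizer (Y : Set H) := commutator_eq_bot_iff_le_centralizer.1 hq
  have hab : L ≤ centralizer (L : Set H) := by
    refine le_centralizer_iff.1 (commutator_le.2 fun k hk y hy => ?_)
    rw [mem_centralizer_iff]
    intro l hl
    have h1 : Commute y (k⁻¹ * l * k) := by
      have := (mem_normalizer_iff.1 (hKL (K.inv_mem hk)) l).1 hl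
      simp only [inv_inv] at this
      exact mem_centralizer_iff.1 (hLY this) y hy
    have h2 : Commute (k * y * k⁻¹) l := by
      show _ = _
      have e := congrArg (fun z => k * z * k⁻¹) h1.eq
      simpa [mul_assoc] using e
    have h3 : Commute y l := mem_centralizer_iff.1 (hLY hl) y hy
    rw [commutatorElement_def]
    exact ((h2.mul_left h3.inv_left).symm).eq
  have hp : IsPGroup p ↥L := by
    rintro ⟨l, hl⟩
    suffices h : ∃ e, l ^ p ^ e = 1 from h.imp fun e he => Subtype.ext he
    have key : ∀ g ∈ L, g ∈ L ∧ ∃ e, g ^ p ^ e = 1 := by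
      intro g hg
      rw [hLdef, Subgroup.commutator_def] at hg
      induction hg using closure_induction with
      | mem x hx =>
        obtain ⟨k, hk, y, hy, rfl⟩ := hx
        have hm : ⁅k, y⁆ ∈ L := commutator_mem_commutator hk hy
        refine ⟨hm, ?_⟩
        obtain ⟨e, he⟩ := hY ⟨y, hy⟩
        have he' : y ^ p ^ e = 1 := congrArg Subtype.val he
        have hc : Commute ⁅k, y⁆ y := (mem_centralizer_iff.1 (hLY hm) y hy).symm
        have h1 : (k * y * k⁻¹) ^ p ^ e = 1 := by rw [conj_pow, he']; group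
        have h2 : k * y * k⁻¹ = ⁅k, y⁆ * y := by rw [commutatorElement_def]; group
        rw [h2, hc.mul_pow, he', mul_one] at h1
        exact ⟨e, h1⟩
      | one => exact ⟨L.one_mem, 0, one_pow _⟩
      | mul a b _ _ ha hb =>
        obtain ⟨ha, e, hea⟩ := ha
        obtain ⟨hb, f, hfb⟩ := hb
        refine ⟨L.mul_mem ha hb, e + f, ?_⟩
        rw [(show Commute a b from mem_centralizer_iff.1 (hab hb) a ha).mul_pow, pow_add, pow_mul,
          hea, one_pow, one_mul, mul_comm, pow_mul, hfb, one_pow]
      | inv a _ ha => exact ⟨L.inv_mem ha.1, ha.2.imp fun e he => by rw [inv_pow, he, inv_one]⟩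
    exact (key l hl).2
  have := (le_pCoreOf hLK hKL hp)
  rw [Cfsg.pCoreOf, hO, Subgroup.map_bot] at this
  exact eq_bot_iff.2 this

end Cfsg.Agent.S2813
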