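import Cfsg.Statements.S2814
import Cfsg.Agent.LocalStructure.FrakH
import Cfsg.Agent.Subnormal.Zipper

set_option autoImplicit false
open Cfsg

namespace Cfsg.Agent.S2814

open Subgroup CfsgLib.LocalStructure
open scoped commutatorElement

/-- Let A be a subgroup of the finite group H and K the subnormal closure of A (intersection of the subnormal subgroups containing A). Then K is the normal closure of A inside K and N_H(A) ≤ N_H(K); K = A·O^p(K), O^p(K) being generated by the elements of K of order prime to p; and if A is a p-group, O^p(K) = [O^p(K), A]. -/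
theorem result {H : Type*} [Group H] [Finite H] {p : ℕ} [Fact p.Prime] (A : Subgroup H) (K : Subgroup H) (hK : K = Cfsg.subnormalClosure A) : (Subgroup.normalClosure ((A.subgroupOf K : Subgroup ↥K) : Set ↥K)).map K.subtype = K ∧ Subgroup.normalizer (A : Set H) ≤ Subgroup.normalizer (K : Set H) ∧ A ⊔ (Cfsg.pResidual p ↥K).map K.subtype = K ∧ (IsPGroup p ↥A → ⁅(Cfsg.pResidual p ↥K).map K.subtype, A⁆ = (Cfsg.pResidual p ↥K).map K.subtype) := by
  have hKsn : K.IsSubnormal := by
    rw [hK]
    have key : ∀ s : Finset (Subgroup H), (∀ X ∈ s, X.IsSubnormal) → (s.inf id).IsSubnormal := fun s hs => by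
      induction s using Finset.cons_induction with
      | empty => exact IsSubnormal.top
      | cons a s _ ih =>
        rw [Finset.inf_cons]
        exact IsSubnormal.inf (hs a (Finset.mem_cons_self _ _))
          (ih fun X hX => hs X (Finset.mem_cons_of_mem hX))
    have e := key (Set.toFinite {X : Subgroup H | A ≤ X ∧ X.IsSubnormal}).toFinset
      fun X hX => ((Set.Finite.mem_toFinset _).1 hX).2
    rwa [Finset.inf_id_eq_sInf, Set.Finite.coe_toFinset] at e
  have hAK : A ≤ K := hK ▸ le_sInf fun X hX => hX.1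
  have hmin : ∀ X : Subgroup H, A ≤ X → X.IsSubnormal → K ≤ X := fun X h1 h2 => hK ▸ sInf_le ⟨h1, h2⟩
  have hstep : ∀ N : Subgroup H, A ≤ N → N ≤ K → K ≤ normalizer (N : Set H) → N = K :=
    fun N h1 h2 h3 => le_antisymm h2 (hmin N h1
      (IsSubnormal.step N K h2 hKsn ((normal_subgroupOf_iff_le_normalizer h2).2 h3)))
  have hncl : nclIn A K = K :=
    hstep _ (le_nclIn hAK) (nclIn_le _ _) (le_normalizer_nclIn _ _)
  have hR := map_pResidual (p := p) K
  set R := pResOf p K
  have hKR : K ≤ normalizer (R : Set H) :=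
    Subgroup.le_normalizer.trans (normalizer_le_normalizer_pResOf K)
  have hle : A ⊔ R ≤ K := sup_le hAK (pResOf_le K)
  have hsup : A ⊔ R = K := by
    have hRn : (R.subgroupOf K).Normal := normal_subgroupOf_of_le_normalizer hKR
    have hq : IsPGroup p (↥K ⧸ R.subgroupOf K) := by
      intro x
      obtain ⟨g, rfl⟩ := QuotientGroup.mk_surjective x
      obtain ⟨k, hk⟩ := exists_pow_mem_pResOf (p := p) g.2
      exact ⟨k, by rw [← QuotientGroup.mk_pow, QuotientGroup.eq_one_iff, mem_subgroupOf]; simpa using hk⟩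
    have h := eq_top_of_normalClosure_of_isPGroup hq (B := (A ⊔ R).subgroupOf K)
      (fun x hx => mem_sup_right (S := A) hx) ?_
    · exact le_antisymm hle (subgroupOf_eq_top.1 h)
    · refine eq_top_iff.2 fun x _ => ?_
      obtain ⟨y, hy, he⟩ := hncl.ge x.2
      exact (Subtype.ext he : y = x) ▸ normalClosure_mono (fun z hz => mem_subgroupOf.2 (mem_sup_left (T := R) (mem_subgroupOf.1 hz))) hy
  refine ⟨hncl, fun g hg => ?_, hR.symm ▸ hsup, fun hA => hR.symm ▸ ?_⟩
  · have h1 : K ≤ conjS g K := hmin _
      ((conj_map_eq_of_mem_normalizer hg).ge.trans (conjS_mono hAK))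
      (CfsgLib.SubnormalZipper.isSubnormal_map (MulAut.conj g) hKsn)
    exact mem_normalizer_of_conjS_eq (Subgroup.eq_of_le_of_card_ge h1
      (card_map_of_injective (MulAut.conj g).injective).le).symm
  · set C := ⁅R, A⁆
    have hCR : C ≤ R := le_normalizer_iff_commutator_le_left.1 (hAK.trans hKR)
    have hKC : K ≤ normalizer (C : Set H) := hsup.ge.trans
      (sup_le (normalizer_commutator_ge_right R A) (normalizer_commutator_ge_left R A))
    have hKAC : K ≤ normalizer ((A ⊔ C : Subgroup H) : Set H) := hsup.ge.trans (sup_le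
      (le_normalizer_sup Subgroup.le_normalizer (hAK.trans hKC)) (fun r hr =>
        mem_normalizer_of_forall fun z hz => by
          obtain ⟨y, hy, k, hk, rfl⟩ := exists_mul_of_mem_sup (hAK.trans hKC) hz
          rw [show r * (y * k) * r⁻¹ = ⁅r, y⁆ * y * (r * k * r⁻¹) by rw [commutatorElement_def]; group]
          exact mul_mem (mul_mem (mem_sup_right (commutator_mem_commutator hr hy)) (mem_sup_left hy))
            (mem_sup_right ((mem_normalizer_iff.1 (hKC (pResOf_le K hr)) k).1 hk))))
    have hAC := hstep (A ⊔ C) le_sup_left (sup_le hAK (hCR.trans (pResOf_le K))) hKAC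
    refine le_antisymm hCR (pResOf_le_of_forall fun x hx hc => ?_)
    obtain ⟨k, hk⟩ := exists_pow_mem_of_mem_sup hA (hAK.trans hKC) (hAC.ge hx)
    exact mem_of_coprime_of_pow_mem hc hk

end Cfsg.Agent.S2814
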