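import Cfsg.Statements.S2815
import Cfsg.Agent.LocalStructure.FStarAction

set_option autoImplicit false
open Cfsg

namespace Cfsg.Agent.S2815

open Subgroup CfsgLib.LocalStructure
open scoped commutatorElement

/-- Let H be a finite group and p a prime dividing its order with O_p(H) = 1, and suppose K = O^p(H) (generated by the elements of order prime to p) is quasisimple. Then K = F*(H); for every nontrivial p-subgroup Y of H, K = [K, Y] and K lies in the subgroup generated by the K-conjugates of Y; every normal subgroup of H not containing K has order prime to p; and H is p-irreducible. -/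
theorem result {H : Type*} [Group H] [Finite H] {p : ℕ} [Fact p.Prime] (hp : p ∣ Nat.card H) (hO : Cfsg.pCore p H = ⊥) (hq : Cfsg.IsQuasisimple ↥(Cfsg.pResidual p H)) : Cfsg.pResidual p H = Cfsg.generalizedFittingSubgroup H ∧ (∀ Y : Subgroup H, IsPGroup p ↥Y → Y ≠ ⊥ → ⁅Cfsg.pResidual p H, Y⁆ = Cfsg.pResidual p H ∧ Cfsg.pResidual p H ≤ ⨆ k : ↥(Cfsg.pResidual p H), Y.map (MulAut.conj (k : H)).toMonoidHom) ∧ (∀ C : Subgroup H, C.Normal → ¬ Cfsg.pResidual p H ≤ C → (Nat.card ↥C).Coprime p) ∧ Cfsg.IsPIrreducible p H := by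
  set K := pResidual p H
  have hKn : K.Normal := pResidual_normal
  have hKc : IsComponent K := ⟨hKn.isSubnormal, hq⟩
  have hperf : ⁅K, K⁆ = K := CfsgLib.Components.IsComponent.commutator_eq_self hKc
  have hKne : K ≠ ⊥ := CfsgLib.Components.IsComponent.ne_bot hKc
  have hmem : ∀ {x : H}, (orderOf x).Coprime p → x ∈ K := fun hx => subset_closure hx
  have hlayerK : layer H ≤ K := by
    refine sSup_le fun L hL => ?_
    by_contra hLK
    have hne : L ≠ K := fun e => hLK e.le
    have hp' : IsPGroup p (L.map (QuotientGroup.mk' K)) :=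
      (isPGroup_quotient_pResidual (p := p) (G := H)).to_subgroup _
    have hsol : Group.IsSolvable (H ⧸ K) :=
      IsNilpotent.to_isSolvable (h := (isPGroup_quotient_pResidual (p := p) (G := H)).isNilpotent)
    have hperfL : ⁅L.map (QuotientGroup.mk' K), L.map (QuotientGroup.mk' K)⁆ = L.map (QuotientGroup.mk' K) := by
      rw [← map_commutator, CfsgLib.Components.IsComponent.commutator_eq_self hL]
    by_cases hb : L.map (QuotientGroup.mk' K) = ⊥
    · rw [Subgroup.map_eq_bot_iff, QuotientGroup.ker_mk'] at hb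
      exact hLK hb
    · exact (Group.IsSolvable.commutator_lt_of_ne_bot hb).ne hperfL
  have hfitK : fittingSubgroup H ≤ K := fun x hx =>
    hmem ((coprime_card_fitting hO).of_dvd_left (Subgroup.orderOf_dvd_natCard _ hx))
  have hKF : K = generalizedFittingSubgroup H := le_antisymm
    ((CfsgLib.Components.IsComponent.le_layer hKc).trans le_sup_left) (sup_le hlayerK hfitK)
  have hsmall : ∀ C : Subgroup H, C ≤ centralizer (K : Set H) → (Nat.card ↥C).Coprime p := fun C hC =>
    (coprime_card_fitting hO).of_dvd_left (card_dvd_of_le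
      ((hKF ▸ hC).trans CfsgLib.Components.centralizer_generalizedFitting_le))
  have hnormal : ∀ N : Subgroup H, K ≤ normalizer (N : Set H) → ¬ K ≤ N →
      ∀ y : H, (∀ k ∈ K, ⁅y, k⁆ ∈ N) → y ∈ centralizer (K : Set H) := by
    intro N hn hne y hy
    refine mem_centralizer_of_commutator_mem_center hperf (fun k hk => mem_centralizer_iff.2 fun m hm => ?_)
      ((normalizer_eq_top_iff.2 hKn).ge (mem_top y))
    have hN' : (N.subgroupOf K).Normal := normal_subgroupOf_of_le_normalizer hn
    have h := (CfsgLib.Components.IsQuasisimple.normal_eq_top_or_le_center hq (N.subgroupOf K)).resolve_left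
      fun h => hne (subgroupOf_eq_top.1 h)
    have hk' : ⁅y, k⁆ ∈ K := by
      rw [commutatorElement_def]
      exact mul_mem (hKn.conj_mem k hk y) (inv_mem hk)
    exact congrArg Subtype.val (mem_center_iff.1 (h (show (⟨_, hk'⟩ : ↥K) ∈ N.subgroupOf K from hy k hk)) ⟨m, hm⟩)
  refine ⟨hKF, fun Y hY hY1 => ?_, fun C hC hCK => hsmall C ?_, ?_, ?_⟩
  · have hle : ⁅K, Y⁆ ≤ K := le_normalizer_iff_commutator_le_left.1 ((normalizer_eq_top_iff.2 hKn).ge.trans' le_top)
    have hKY : K ≤ ⁅K, Y⁆ := by
      by_contra hne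
      refine hY1 (eq_bot_iff.2 fun y hy => mem_bot.2 ?_)
      have hyc := hnormal _ (normalizer_commutator_ge_left K Y) hne y fun k hk => by
        rw [← commutatorElement_inv]
        exact inv_mem (commutator_mem_commutator hk hy)
      exact eq_one_of_coprime_of_mem hY hy ((hsmall _ le_rfl).of_dvd_left (Subgroup.orderOf_dvd_natCard _ hyc))
    refine ⟨le_antisymm hle hKY, hKY.trans (commutator_le.2 fun k hk y hy => ?_)⟩
    rw [commutatorElement_def]
    refine mul_mem (le_iSup (fun k : ↥K => Y.map (MulAut.conj (k : H)).toMonoidHom) ⟨k, hk⟩ ⟨y, hy, rfl⟩) ?_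
    exact le_iSup (fun k : ↥K => Y.map (MulAut.conj (k : H)).toMonoidHom) 1 ⟨y⁻¹, inv_mem hy, by simp⟩
  · exact fun c hc => hnormal C ((normalizer_eq_top_iff.2 hC).ge.trans' le_top) hCK c fun k hk => by
      rw [commutatorElement_def, mul_assoc c k, mul_assoc c]
      exact mul_mem hc (hC.conj_mem _ (inv_mem hc) k)
  · intro h
    obtain ⟨P⟩ : Nonempty (Sylow p H) := inferInstance
    have := h P
    exact P.ne_bot_of_dvd_card hp (eq_bot_iff.2 ((CfsgLib.LocalStructure.le_pCore P.2).trans hO.le))
  · intro N hN hNc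
    by_contra hNK
    refine hNc fun P => ?_
    have hcop : (Nat.card ↥N).Coprime p := hsmall N fun c hc =>
      hnormal N ((normalizer_eq_top_iff.2 hN).ge.trans' le_top) hNK c fun k hk => by
        rw [commutatorElement_def, mul_assoc c k, mul_assoc c]
        exact mul_mem hc (hN.conj_mem _ (inv_mem hc) k)
    have : (P : Subgroup ↥N) = ⊥ := eq_bot_iff.2 fun x hx => mem_bot.2
      (eq_one_of_coprime_of_mem P.2 hx (hcop.of_dvd_left (orderOf_dvd_natCard x)))
    rw [this]
    infer_instance

end Cfsg.Agent.S2815
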