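import Cfsg.Statements.S2816
import Cfsg.Agent.LocalStructure.FStarAction

set_option autoImplicit false
open Cfsg

namespace Cfsg.Agent.S2816

open Subgroup CfsgLib.LocalStructure
open scoped commutatorElement

/-- Let H be a finite group and p a prime with O_p(H) = 1, and Y a p-subgroup of H. Then for every subnormal subgroup K of H containing Y, [F*(H), Y] = [F*(K), Y] = [F*(K), Y, Y]; and if Y₀ ≤ Y with [F*(H), Y, Y₀] = 1 then Y₀ = 1 (in particular [F*(H), Y] = 1 forces Y = 1). -/
theorem result {H : Type*} [Group H] [Finite H] {p : ℕ} [Fact p.Prime] (hO : Cfsg.pCore p H = ⊥) (Y : Subgroup H) (hY : IsPGroup p ↥Y) : (∀ K : Subgroup H, K.IsSubnormal → Y ≤ K → ⁅Cfsg.generalizedFittingSubgroup H, Y⁆ = ⁅(Cfsg.generalizedFittingSubgroup ↥K).map K.subtype, Y⁆ ∧ ⁅(Cfsg.generalizedFittingSubgroup ↥K).map K.subtype, Y⁆ = ⁅⁅(Cfsg.generalizedFittingSubgroup ↥K).map K.subtype, Y⁆, Y⁆) ∧ (∀ Y₀ : Subgroup H, Y₀ ≤ Y → ⁅⁅Cfsg.generalizedFittingSubgroup H, Y⁆, Y₀⁆ = ⊥ → Y₀ = ⊥) := by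
  set F := generalizedFittingSubgroup H
  have hFn : F.Normal := CfsgLib.Signalizer.generalizedFitting_normal
  have hYF : Y ≤ normalizer (F : Set H) := (normalizer_eq_top_iff.2 hFn).ge.trans' le_top
  obtain ⟨h1, h2⟩ := fstar_decomposition_top hO hY le_rfl hFn.isSubnormal hYF
  set M := ⁅F, Y⁆
  refine ⟨fun K hK hYK => ?_, fun Y₀ hY₀ h => ?_⟩
  · have hKF : (generalizedFittingSubgroup ↥K).map K.subtype = F ⊓ K := by
      refine le_antisymm (le_inf ?_ (map_subtype_le _)) ?_
      · rw [generalizedFittingSubgroup, Subgroup.map_sup]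
        exact sup_le_sup (CfsgLib.Components.layer_map_subtype_le hK)
          (CfsgLib.Signalizer.fittingSubgroup_map_subtype_le hK)
      · set S := F ⊓ K
        have hsn : S.IsSubnormal := hFn.isSubnormal.inf hK
        have htop := congrArg (Subgroup.map S.subtype)
          (CfsgLib.Signalizer.fitting_sup_layer_eq_top (inf_le_left : S ≤ F) hsn)
        rw [← MonoidHom.range_eq_map, range_subtype, Subgroup.map_sup,
          CfsgLib.Signalizer.fittingSubgroup_of_subnormal hsn] at htop
        rw [← htop, generalizedFittingSubgroup, Subgroup.map_sup]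
        refine sup_le (le_trans ?_ le_sup_right) (le_trans ?_ le_sup_left)
        · rw [CfsgLib.Signalizer.fittingSubgroup_of_subnormal hK]
          exact inf_le_inf_left _ inf_le_right
        · rw [layer, (gc_map_comap S.subtype).l_sSup]
          refine iSup₂_le fun L hL => ?_
          exact CfsgLib.Components.IsComponent.le_layer_map_subtype
            ((CfsgLib.Components.isComponent_map_subtype hsn L).mp hL) ((map_subtype_le L).trans inf_le_right)
    rw [hKF]
    have hMK : M ≤ K := by
      clear hKF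
      induction hK with
      | top => exact le_top
      | step L J hle _ hN ih =>
        exact h2.le.trans ((commutator_mono (ih (hYK.trans hle)) hYK).trans
          (le_normalizer_iff_commutator_le_right.1 ((normal_subgroupOf_iff_le_normalizer hle).1 hN)))
    have heq : M = ⁅F ⊓ K, Y⁆ := le_antisymm
      (h2.le.trans (commutator_mono (le_inf (le_normalizer_iff_commutator_le_left.1 hYF) hMK) le_rfl))
      (commutator_mono inf_le_left le_rfl)
    exact ⟨heq, heq ▸ h2⟩
  · have hc : Y₀ ≤ centralizer (F : Set H) := by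
      refine le_centralizer_iff.1 (h1.ge.trans (sup_le (commutator_eq_bot_iff_le_centralizer.1 h) ?_))
      exact inf_le_right.trans (centralizer_le hY₀)
    refine eq_bot_iff.2 fun y hy => mem_bot.2 ?_
    have hyF := CfsgLib.Components.centralizer_generalizedFitting_le (hc hy)
    exact orderOf_eq_one_iff.1 (Nat.eq_one_of_dvd_coprimes (coprime_card_of_le_card hY (coprime_card_fitting hO))
      (Subgroup.orderOf_dvd_natCard Y (hY₀ hy)) (Subgroup.orderOf_dvd_natCard _ hyF))

end Cfsg.Agent.S2816
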