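import Cfsg.Statements.S2817
import Cfsg.Agent.LocalStructure.FStarAction
import Cfsg.Agent.LocalStructure.FrattiniResidual
import Cfsg.Agent.Coprime.Abelian

set_option autoImplicit false
open Cfsg

namespace Cfsg.Agent.S2817

open Subgroup CfsgLib.LocalStructure
open scoped commutatorElement

/-- Let H be a finite group and p a prime with O_p(H) = 1, Q a p-subgroup of H, L = [F*(H), Q], and F the largest normal subgroup of F*(H) centralized by Q (a normal subgroup of F*(H) centralized by Q and containing every such). Then F = C_{F*(H)}(LQ); L = [L, Q]; L ∩ F ≤ Φ(L); every p-subgroup B of N_H(Q) with [L, B] ≤ F satisfies [L, B] = 1; and C_H(FL) has order prime to p. -/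
theorem result {H : Type*} [Group H] [Finite H] {p : ℕ} [Fact p.Prime] (hO : Cfsg.pCore p H = ⊥) (Q : Subgroup H) (hQ : IsPGroup p ↥Q) (L : Subgroup H) (hL : L = ⁅Cfsg.generalizedFittingSubgroup H, Q⁆) (F : Subgroup H) (hF : F ≤ Cfsg.generalizedFittingSubgroup H ∧ Cfsg.generalizedFittingSubgroup H ≤ Subgroup.normalizer (F : Set H) ∧ Q ≤ Subgroup.centralizer (F : Set H) ∧ ∀ N : Subgroup H, N ≤ Cfsg.generalizedFittingSubgroup H → Cfsg.generalizedFittingSubgroup H ≤ Subgroup.normalizer (N : Set H) → Q ≤ Subgroup.centralizer (N : Set H) → N ≤ F) : F = Cfsg.generalizedFittingSubgroup H ⊓ Subgroup.centralizer ((L ⊔ Q : Subgroup H) : Set H) ∧ ⁅L, Q⁆ = L ∧ L ⊓ F ≤ (frattini ↥L).map L.subtype ∧ (∀ B : Subgroup H, IsPGroup p ↥B → B ≤ Subgroup.normalizer (Q : Set H) → ⁅L, B⁆ ≤ F → ⁅L, B⁆ = ⊥) ∧ (Nat.card ↥(Subgroup.centralizer ((F ⊔ L : Subgroup H) : Set H))).Coprime p := by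
  set E := generalizedFittingSubgroup H
  have hEn : E.Normal := CfsgLib.Signalizer.generalizedFitting_normal
  have hnE : ∀ X : Subgroup H, X ≤ normalizer (E : Set H) := fun X =>
    (normalizer_eq_top_iff.2 hEn).ge.trans' le_top
  obtain ⟨h1, h2⟩ := fstar_decomposition_top hO hQ le_rfl hEn.isSubnormal (hnE Q)
  rw [← hL] at h1 h2
  obtain ⟨hFE, hEF, hQF, hFmax⟩ := hF
  have hLE : L ≤ E := hL ▸ le_normalizer_iff_commutator_le_left.1 (hnE Q)
  have hEL : E ≤ normalizer (L : Set H) := hL ▸ normalizer_commutator_ge_left E Q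
  have hQL : Q ≤ normalizer (L : Set H) := hL ▸ normalizer_commutator_ge_right E Q
  have hEQ : E ⊓ centralizer (Q : Set H) ≤ normalizer (Q : Set H) :=
    inf_le_right.trans (centralizer_le_normalizer _)
  set R := E ⊓ centralizer ((L ⊔ Q : Subgroup H) : Set H)
  have hRL : R ≤ centralizer (L : Set H) :=
    inf_le_right.trans (centralizer_le (SetLike.coe_subset_coe.2 le_sup_left))
  have hRQ : R ≤ centralizer (Q : Set H) :=
    inf_le_right.trans (centralizer_le (SetLike.coe_subset_coe.2 le_sup_right))
  have hFR : F = R := by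
    refine le_antisymm (le_inf hFE ?_) (hFmax R inf_le_left ?_ (le_centralizer_iff.1 hRQ))
    · have h3 : ⁅⁅E, Q⁆, F⁆ = ⊥ := commutator_commutator_eq_bot_of_rotate
        (by rw [show ⁅Q, F⁆ = ⊥ from commutator_eq_bot_iff_le_centralizer.2 hQF, commutator_bot_left])
        (by
          refine eq_bot_iff.2 ((commutator_mono (le_normalizer_iff_commutator_le_left.1 hEF) le_rfl).trans ?_)
          exact (commutator_eq_bot_iff_le_centralizer.2 (le_centralizer_iff.1 hQF)).le)
      rw [← hL] at h3
      exact le_centralizer_iff.1 (sup_le (commutator_eq_bot_iff_le_centralizer.1 h3) hQF)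
    · refine h1.ge.trans (sup_le ?_ ?_)
      · intro l hl
        refine mem_normalizer_of_forall fun r hr => ?_
        rwa [mem_centralizer_iff.1 (hRL hr) l hl, mul_inv_cancel_right]
      · refine le_normalizer_inf' (inf_le_left.trans (hnE E)) (le_trans ?_
          (normalizer_le_normalizer_centralizer _))
        exact le_normalizer_sup (inf_le_left.trans hEL) hEQ
  have hLQ : ⁅L, Q⁆ = L := h2.symm
  -- the Frattini subgroup of L
  have hLsn : L.IsSubnormal := IsSubnormal.step L E hLE hEn.isSubnormal
    ((normal_subgroupOf_iff_le_normalizer hLE).2 hEL)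
  have hOL : pCore p ↥L = ⊥ := by
    rw [← Subgroup.map_eq_bot_iff_of_injective _ L.subtype_injective]
    exact eq_bot_iff.2 ((pCoreOf_le_of_isSubnormal hLsn).trans hO.le)
  have hZ : L ⊓ F ≤ (frattini ↥L).map L.subtype := by
    intro z hz
    rw [hFR] at hz
    have hzL := mem_centralizer_iff.1 (hRL hz.2)
    have hzQ := mem_centralizer_iff.1 (hRQ hz.2)
    refine ⟨⟨z, hz.1⟩, ?_, rfl⟩
    have hz' : (⟨z, hz.1⟩ : ↥L) ∈ commutator ↥L := by
      -- in the abelian group L/L' the coprime Q fixes nothing
      set D := ⁅L, L⁆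
      have hD : D ≤ L := le_normalizer_iff_commutator_le_left.1 Subgroup.le_normalizer
      have hLD : L ≤ normalizer (D : Set H) := normalizer_commutator_ge_left L L
      have hQD : Q ≤ normalizer (D : Set H) :=
        (le_inf hQL hQL).trans (normalizer_le_normalizer_commutator L L)
      rw [← mem_map_iff_mem L.subtype_injective, show Subgroup.map L.subtype (commutator ↥L) = D from
        map_subtype_commutator L]
      set N := normalizer (D : Set H)
      set g := QuotientGroup.mk' (D.subgroupOf N)
      set V := (L.subgroupOf N).map g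
      set A := (Q.subgroupOf N).map g
      have hVc : IsMulCommutative ↥V := ⟨⟨by
        rintro ⟨_, a, ha, rfl⟩ ⟨_, b, hb, rfl⟩
        refine Subtype.ext (commutatorElement_eq_one_iff_mul_comm.1 ?_)
        rw [← map_commutatorElement]
        exact (QuotientGroup.eq_one_iff _).2 (commutator_mem_commutator ha hb)⟩⟩
      have hAV : A ≤ normalizer (V : Set (↥N ⧸ D.subgroupOf N)) := by
        refine (map_mono ?_).trans (le_normalizer_map g)
        exact (comap_mono hQL).trans (le_normalizer_comap N.subtype)
      have hAp : IsPGroup p A := hQ.comap_subtype.map g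
      have hcop : (Nat.card ↥A).Coprime (Nat.card ↥V) := by
        obtain ⟨n, hn⟩ := hAp.exists_card_eq
        refine hn ▸ (Nat.Coprime.pow_left n ((Nat.Prime.coprime_iff_not_dvd Fact.out).2 fun hdvd => ?_))
        -- a p-element of V would be a p-element of an abelian normal subgroup
        obtain ⟨⟨x, hx⟩, hxp⟩ := exists_prime_orderOf_dvd_card' p hdvd
        have hxp' : IsPEl p x := ⟨1, by
          rw [pow_one, ← hxp, ← Subgroup.orderOf_coe, pow_orderOf_eq_one]⟩
        obtain ⟨a, ha, hap, hax⟩ := exists_pEl_lift g hx hxp'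
        have hdec : L ≤ D ⊔ fittingSubgroup H := by
          have htop := congrArg (Subgroup.map L.subtype)
            (CfsgLib.Signalizer.fitting_sup_layer_eq_top hLE hLsn)
          rw [← MonoidHom.range_eq_map, range_subtype, Subgroup.map_sup,
            CfsgLib.Signalizer.fittingSubgroup_of_subnormal hLsn] at htop
          refine htop.ge.trans (sup_le (inf_le_left.trans le_sup_right) (le_trans ?_ le_sup_left))
          rw [← CfsgLib.Components.layer_commutator_self, map_commutator]
          exact commutator_mono (map_subtype_le _) (map_subtype_le _)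
        have : (fittingSubgroup H).Normal := CfsgLib.Components.fittingSubgroup_normal
        obtain ⟨d, hd, e, he, hde⟩ := mem_sup_of_normal_right.1 (hdec ha)
        have heN : e ∈ N := by
          have h5 : e = d⁻¹ * (a : H) := by rw [show (a : H) = d * e from hde.symm]; group
          exact h5 ▸ mul_mem (inv_mem (hLD (hD hd))) a.2
        have hge : g a = g ⟨e, heN⟩ := by
          refine QuotientGroup.eq.2 ?_
          rw [mem_subgroupOf]
          show (a : H)⁻¹ * e ∈ D
          have h6 : (a : H)⁻¹ * e = e⁻¹ * d⁻¹ * e := by rw [show (a : H) = d * e from hde.symm]; group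
          rw [h6]
          simpa using (mem_normalizer_iff.1 (inv_mem heN) d⁻¹).1 (inv_mem hd)
        have hord : (orderOf x).Coprime p := by
          rw [← hax, hge]
          exact (coprime_card_fitting hO).of_dvd_left ((orderOf_map_dvd g _).trans
            (Subgroup.orderOf_mk e heN ▸ Subgroup.orderOf_dvd_natCard _ he))
        rw [← Subgroup.orderOf_coe] at hxp
        rw [hxp, Nat.coprime_self] at hord
        exact (Fact.out : p.Prime).ne_one hord
      have h3 := CfsgLib.Coprime.inf_centralizer_inf_commutator_eq_bot hAV hcop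
      have hzV : g ⟨z, hLD hz.1⟩ ∈ (V ⊓ centralizer (A : Set (↥N ⧸ D.subgroupOf N))) ⊓ ⁅V, A⁆ := by
        refine ⟨⟨⟨_, hz.1, rfl⟩, ?_⟩, ?_⟩
        · refine mem_centralizer_iff.2 ?_
          rintro _ ⟨q, hq, rfl⟩
          rw [← map_mul, ← map_mul]
          exact congrArg g (Subtype.ext (hzQ q hq))
        · rw [← map_commutator]
          refine ⟨⟨z, hLD hz.1⟩, ?_, rfl⟩
          have := hLQ.ge hz.1
          refine (mem_map_iff_mem N.subtype_injective).1 ?_
          rw [map_commutator, map_subgroupOf_eq_of_le hLD, map_subgroupOf_eq_of_le hQD]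
          exact this
      rw [h3, mem_bot] at hzV
      exact mem_subgroupOf.1 ((QuotientGroup.eq_one_iff (N := D.subgroupOf N) _).1 hzV)
    refine CfsgLib.Solvable.mem_frattini_iff.2 fun V hV => ?_
    by_contra hzV
    have hsup : zpowers (⟨z, hz.1⟩ : ↥L) ⊔ V = ⊤ :=
      hV.2 _ (right_lt_sup.2 fun h => hzV (h (mem_zpowers _)))
    have hzc : zpowers (⟨z, hz.1⟩ : ↥L) ≤ Subgroup.center ↥L := zpowers_le.2
      (mem_center_iff.2 fun x => Subtype.ext (hzL x x.2))
    have hVn : V.Normal := normalizer_eq_top_iff.1 (top_unique (hsup.ge.trans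
      (sup_le (fun x hx => mem_normalizer_of_forall fun v hv => by
        rwa [← mem_center_iff.1 (hzc hx) v, mul_inv_cancel_right]) Subgroup.le_normalizer)))
    refine hzV ((commutator_le.2 fun a _ b _ => ?_ : commutator ↥L ≤ V) hz')
    obtain ⟨i, hi, v, hv, rfl⟩ := mem_sup_of_normal_right.1 (hsup.ge (mem_top a))
    obtain ⟨j, hj, w, hw, rfl⟩ := mem_sup_of_normal_right.1 (hsup.ge (mem_top b))
    have hi' := mem_center_iff.1 (hzc hi)
    have hj' := mem_center_iff.1 (hzc hj)
    have e : ⁅i * v, j * w⁆ = ⁅v, w⁆ := by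
      simp only [commutatorElement_def, mul_inv_rev]
      calc i * v * (j * w) * (v⁻¹ * i⁻¹) * (w⁻¹ * j⁻¹)
          = i * (v * j) * w * v⁻¹ * (i⁻¹ * w⁻¹) * j⁻¹ := by group
        _ = i * (j * v) * w * v⁻¹ * (w⁻¹ * i⁻¹) * j⁻¹ := by
            rw [hj' v, ← (show Commute w⁻¹ i⁻¹ from (show Commute w i from hi' w).inv_inv).eq]
        _ = i * (j * (v * w * v⁻¹ * w⁻¹)) * i⁻¹ * j⁻¹ := by group
        _ = i * ((v * w * v⁻¹ * w⁻¹) * j) * i⁻¹ * j⁻¹ := by rw [hj']
        _ = (i * (v * w * v⁻¹ * w⁻¹)) * (j * i⁻¹) * j⁻¹ := by group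
        _ = ((v * w * v⁻¹ * w⁻¹) * i) * (i⁻¹ * j) * j⁻¹ := by
            rw [← hi', (show Commute j i from hi' j).inv_right.eq]
        _ = v * w * v⁻¹ * w⁻¹ := by group
    rw [e, commutatorElement_def]
    exact mul_mem (mul_mem (mul_mem hv hw) (inv_mem hv)) (inv_mem hw)
  refine ⟨hFR, hLQ, hZ, fun B hB hBQ hLB => ?_, ?_⟩
  · have hBL : B ≤ normalizer (L : Set H) := by
      rw [hL]
      exact (le_inf (hnE B) hBQ).trans (normalizer_le_normalizer_commutator E Q)
    have hnil : Group.IsNilpotent ↥(frattini ↥L) := frattini_nilpotent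
    have hc := CfsgLib.Coprime.le_centralizer_of_commutator_le_frattini hBL
      (by
        have h := coprime_card_of_le_card hB (N := (frattini ↥L).map L.subtype)
          (by rw [card_map_of_injective L.subtype_injective]; exact coprime_card_of_isNilpotent hOL hnil)
        rwa [card_map_of_injective L.subtype_injective] at h)
      ((le_inf (le_normalizer_iff_commutator_le_left.1 hBL) hLB).trans hZ)
    rw [commutator_comm]
    exact commutator_eq_bot_iff_le_centralizer.2 hc
  · refine Nat.Coprime.symm ((Nat.Prime.coprime_iff_not_dvd Fact.out).2 fun hdvd => ?_)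
    set C := centralizer ((F ⊔ L : Subgroup H) : Set H)
    obtain ⟨⟨x, hxC⟩, hx⟩ := exists_prime_orderOf_dvd_card' p hdvd
    rw [Subgroup.orderOf_mk] at hx
    set D := C ⊓ E
    have hCn : E ≤ normalizer (C : Set H) :=
      (le_normalizer_sup hEF hEL).trans (normalizer_le_normalizer_centralizer _)
    have hQC : Q ≤ normalizer (C : Set H) := (le_normalizer_sup
      (hQF.trans (centralizer_le_normalizer _)) hQL).trans (normalizer_le_normalizer_centralizer _)
    have hED : E ≤ normalizer (D : Set H) := le_normalizer_inf' hCn (hnE E)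
    have hDsn : D.IsSubnormal := IsSubnormal.step D E inf_le_right hEn.isSubnormal
      ((normal_subgroupOf_iff_le_normalizer inf_le_right).2 hED)
    have hD := (fstar_decomposition_top hO hQ inf_le_right hDsn (le_normalizer_inf' hQC (hnE Q))).1
    have hDFL : D ≤ F ⊔ L := hD.ge.trans (sup_le
      ((commutator_mono inf_le_right le_rfl).trans (hL.ge.trans le_sup_right))
      (le_trans (hFR.ge.trans' (le_inf (inf_le_left.trans inf_le_right)
        (le_centralizer_iff.1 (sup_le
          (le_centralizer_iff.1 ((inf_le_left.trans inf_le_left).trans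
            (centralizer_le (SetLike.coe_subset_coe.2 le_sup_right))))
          (le_centralizer_iff.1 inf_le_right))))) le_sup_left))
    -- x centralizes D and E modulo D
    have hDn : Group.IsNilpotent ↥D := by
      refine CfsgLib.Components.isNilpotent_of_commutator_commutator_eq_bot ?_
      rw [show ⁅D, D⁆ = ⊥ from commutator_eq_bot_iff_le_centralizer.2
        (inf_le_left.trans (centralizer_le (SetLike.coe_subset_coe.2 hDFL))), commutator_bot_left]
    have hDcop : (Nat.card ↥(pCore p ↥D)) = 1 := by
      rw [show pCore p ↥D = ⊥ from (Subgroup.map_eq_bot_iff_of_injective _ D.subtype_injective).1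
        (eq_bot_iff.2 ((pCoreOf_le_of_isSubnormal hDsn).trans hO.le)), card_bot]
    have hDc : (Nat.card ↥D).Coprime p := by
      have hOD : pCore p ↥D = ⊥ := Subgroup.eq_bot_of_card_eq _ hDcop
      have := coprime_card_of_isNilpotent hOD (N := ⊤) (Group.isNilpotent_top.2 hDn)
      rwa [card_top] at this
    have hxE : x ∈ centralizer (E : Set H) := mem_centralizer_iff.2 fun e he => by
      set c := ⁅x, e⁆
      have hcD : c ∈ D := ⟨le_normalizer_iff_commutator_le_left.1 hCn (commutator_mem_commutator hxC he),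
        le_normalizer_iff_commutator_le_right.1 (hnE C) (commutator_mem_commutator hxC he)⟩
      have hxc : x * c * x⁻¹ = c := by
        rw [← mem_centralizer_iff.1 hxC c (hDFL hcD), mul_inv_cancel_right]
      have key : ∀ n : ℕ, x ^ n * e * (x ^ n)⁻¹ = c ^ n * e := by
        intro n
        induction n with
        | zero => simp
        | succ n ih =>
          calc x ^ (n + 1) * e * (x ^ (n + 1))⁻¹ = x * (x ^ n * e * (x ^ n)⁻¹) * x⁻¹ := by
                rw [pow_succ']; group
            _ = (x * c * x⁻¹) ^ n * (x * e * x⁻¹) := by rw [ih, conj_pow]; group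
            _ = c ^ (n + 1) * e := by
                rw [hxc, pow_succ, show c = x * e * x⁻¹ * e⁻¹ from commutatorElement_def x e]; group
      have h4 := key (orderOf x)
      rw [pow_orderOf_eq_one, one_mul, inv_one, mul_one, hx] at h4
      have hcp : c ^ p = 1 := by simpa using h4.symm
      have hc1 : c = 1 := orderOf_eq_one_iff.1 (Nat.eq_one_of_dvd_coprimes hDc
        (Subgroup.orderOf_dvd_natCard D hcD) (orderOf_dvd_of_pow_eq_one hcp))
      exact (commutatorElement_eq_one_iff_mul_comm.1 hc1).symm
    have hxF := CfsgLib.Components.centralizer_generalizedFitting_le hxE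
    have := (coprime_card_fitting hO).of_dvd_left (hx ▸ Subgroup.orderOf_dvd_natCard _ hxF)
    rw [Nat.coprime_self] at this
    exact (Fact.out : p.Prime).ne_one this

end Cfsg.Agent.S2817
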