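import Cfsg.Statements.S2818
import Cfsg.Agent.LocalStructure.Tools

set_option autoImplicit false
open Cfsg

namespace Cfsg.Agent.S2818

open Subgroup CfsgLib.LocalStructure
open scoped commutatorElement

/-- Let P be a finite p-subgroup of a group G and H a subgroup of N_G(P) with [P, H] ≤ Ω₁(Z(P)) (the elements of order dividing p in the centre of P). Then H centralizes the Frattini subgroup of P. -/
theorem result {G : Type*} [Group G] [Finite G] {p : ℕ} [Fact p.Prime] (P : Subgroup G) (hP : IsPGroup p ↥P) (H : Subgroup G) (hH : H ≤ Subgroup.normalizer (P : Set G)) (h : ⁅P, H⁆ ≤ Cfsg.omegaOne p (P ⊓ Subgroup.centralizer (P : Set G))) : ⁅(frattini ↥P).map P.subtype, H⁆ = ⊥ := by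
  have key : ∀ x ∈ P, ∀ j ∈ H, ∃ z ∈ omegaZ p P, j * x * j⁻¹ = z * x := by
    intro x hx j hj
    refine ⟨⁅j, x⁆, ?_, by rw [commutatorElement_def]; group⟩
    exact h (commutator_comm H P ▸ commutator_mem_commutator hj hx)
  suffices hD : frattini ↥P ≤ (centralizer (H : Set G)).subgroupOf P by
    refine commutator_eq_bot_iff_le_centralizer.2 ?_
    exact (map_mono hD).trans (map_comap_le _ _)
  refine frattini_le_of_commutator_le_of_pow_mem (p := p) ?_ fun x => ?_
  · rw [_root_.commutator_def, commutator_le]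
    intro x _ y _
    rw [mem_subgroupOf, mem_centralizer_iff]
    intro j hj
    obtain ⟨z, hz, hzx⟩ := key x x.2 j hj
    obtain ⟨w, hw, hwy⟩ := key y y.2 j hj
    have hz2 := fun a (ha : a ∈ P) => mem_centralizer_iff.1 (omegaZ_le_centralizer P hz) a ha
    have hw2 := fun a (ha : a ∈ P) => mem_centralizer_iff.1 (omegaZ_le_centralizer P hw) a ha
    refine mul_inv_eq_iff_eq_mul.1 ?_
    rw [← coe_subtype, map_commutatorElement, conjugate_commutatorElement]
    simp only [coe_subtype, hzx, hwy]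
    have e1 : ⁅z * (x : G), w * (y : G)⁆ = ⁅(x : G), (y : G)⁆ := by
      simp only [commutatorElement_def, mul_inv_rev]
      have a1 : (x : G) * w = w * x := hw2 x x.2
      have a2 : (y : G) * (x : G)⁻¹ * z⁻¹ = z⁻¹ * ((y : G) * (x : G)⁻¹) :=
        ((show Commute z ((y : G) * (x : G)⁻¹) from (hz2 _ (P.mul_mem y.2 (P.inv_mem x.2))).symm).inv_left).eq.symm
      have a3 : (x : G) * y * (x : G)⁻¹ * (y : G)⁻¹ * w⁻¹ = w⁻¹ * ((x : G) * y * (x : G)⁻¹ * (y : G)⁻¹) :=
        ((show Commute w _ from (hw2 _ (P.mul_mem (P.mul_mem (P.mul_mem x.2 y.2) (P.inv_mem x.2))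
          (P.inv_mem y.2))).symm).inv_left).eq.symm
      calc z * (x : G) * (w * y) * ((x : G)⁻¹ * z⁻¹) * ((y : G)⁻¹ * w⁻¹)
          = z * ((x : G) * w) * ((y : G) * (x : G)⁻¹ * z⁻¹) * ((y : G)⁻¹ * w⁻¹) := by group
        _ = z * (w * x) * (z⁻¹ * ((y : G) * (x : G)⁻¹)) * ((y : G)⁻¹ * w⁻¹) := by rw [a1, a2]
        _ = z * w * ((x : G) * z⁻¹) * ((y : G) * (x : G)⁻¹) * ((y : G)⁻¹ * w⁻¹) := by group
        _ = z * w * (z⁻¹ * x) * ((y : G) * (x : G)⁻¹) * ((y : G)⁻¹ * w⁻¹) := by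
            rw [((show Commute z (x : G) from (hz2 x x.2).symm).inv_left).eq.symm]
        _ = (z * w * z⁻¹) * ((x : G) * y * (x : G)⁻¹ * (y : G)⁻¹ * w⁻¹) := by group
        _ = (z * w * z⁻¹) * (w⁻¹ * ((x : G) * y * (x : G)⁻¹ * (y : G)⁻¹)) := by rw [a3]
        _ = _ := by rw [hw2 z (omegaZ_le P hz)]; group
    rw [e1]
  · rw [mem_subgroupOf, mem_centralizer_iff]
    intro j hj
    obtain ⟨z, hz, hzx⟩ := key x x.2 j hj
    refine mul_inv_eq_iff_eq_mul.1 ?_
    rw [coe_pow, ← conj_pow, hzx,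
      (show Commute z (x : G) from (mem_centralizer_iff.1 (omegaZ_le_centralizer P hz) x x.2).symm).mul_pow,
      (mem_omegaZ.1 hz).2.2, one_mul]

end Cfsg.Agent.S2818
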