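import Cfsg.Statements.S2819
import Cfsg.Agent.LocalStructure.Tools

set_option autoImplicit false
open Cfsg

namespace Cfsg.Agent.S2819

open Subgroup CfsgLib.LocalStructure
open scoped commutatorElement

/-- Let P be a finite p-subgroup of a group G, H a subgroup of N_G(P), and Y a subgroup of H centralizing the derived subgroup P' such that [P, Y] is elementary abelian. Then O^p(⟨Y^H⟩), the subgroup of the normal closure of Y in H generated by its elements of order prime to p, centralizes the Frattini subgroup of P. -/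
theorem result {G : Type*} [Group G] [Finite G] {p : ℕ} [Fact p.Prime] (P : Subgroup G) (hP : IsPGroup p ↥P) (H : Subgroup G) (hH : H ≤ Subgroup.normalizer (P : Set G)) (Y : Subgroup G) (hYH : Y ≤ H) (hYc : Y ≤ Subgroup.centralizer ((⁅P, P⁆ : Subgroup G) : Set G)) (hel : Cfsg.IsElementaryAbelian p ⁅P, Y⁆) (NY : Subgroup G) (hNY : NY = (Subgroup.normalClosure ((Y.subgroupOf H : Subgroup ↥H) : Set ↥H)).map H.subtype) : (Cfsg.pResidual p ↥NY).map NY.subtype ≤ Subgroup.centralizer (((frattini ↥P).map P.subtype : Subgroup G) : Set G) := by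
  subst hNY
  set Φ := (frattini ↥P).map P.subtype
  set P' := ⁅P, P⁆
  have hP'P : P' ≤ P := commutator_le_self P
  have hΦP : Φ ≤ P := map_subtype_le _
  have hP'n : normalizer (P : Set G) ≤ normalizer (P' : Set G) := fun x hx =>
    mem_normalizer_of_forall fun y hy => by
      have := mem_map_of_mem (MulAut.conj x).toMonoidHom hy
      rw [map_commutator, conj_map_eq_of_mem_normalizer hx] at this
      exact this
  have hΦn : ∀ x ∈ normalizer (P : Set G), ∀ a ∈ Φ, x * a * x⁻¹ ∈ Φ := by
    rintro x hx _ ⟨a, ha, rfl⟩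
    let e : ↥P →* ↥P :=
      { toFun := fun b => ⟨x * b * x⁻¹, (mem_normalizer_iff.1 hx b).1 b.2⟩
        map_one' := Subtype.ext (show x * (1 : G) * x⁻¹ = 1 by group)
        map_mul' := fun a b => Subtype.ext (show
          x * ((a : G) * b) * x⁻¹ = (x * a * x⁻¹) * (x * b * x⁻¹) by group) }
    have he : Function.Surjective e := Finite.surjective_of_injective fun a b h => Subtype.ext (by
      have : x * (a : G) * x⁻¹ = x * b * x⁻¹ := congrArg Subtype.val h
      simpa using this)
    exact ⟨e a, frattini_le_comap_frattini_of_surjective he ha, rfl⟩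
  let M : Subgroup G :=
    { carrier := {g | g ∈ H ∧ g ∈ centralizer (P' : Set G) ∧ ∀ a ∈ Φ, ⁅g, a⁆ ∈ P'}
      one_mem' := ⟨H.one_mem, one_mem _, fun a _ => by simp [P'.one_mem]⟩
      mul_mem' := fun {g k} hg hk => ⟨H.mul_mem hg.1 hk.1, mul_mem hg.2.1 hk.2.1, fun a ha => by
        rw [commutatorElement_mul_left_eq_conj_mul]
        exact P'.mul_mem ((mem_normalizer_iff.1 (hP'n (hH hg.1)) _).1 (hk.2.2 a ha)) (hg.2.2 a ha)⟩
      inv_mem' := fun {g} hg => ⟨H.inv_mem hg.1, inv_mem hg.2.1, fun a ha => by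
        rw [commutatorElement_inv_left, ← commutatorElement_inv]
        simpa using (mem_normalizer_iff.1 (hP'n (hH (H.inv_mem hg.1))) _).1
          (P'.inv_mem (hg.2.2 a ha))⟩ }
  have hHM : H ≤ normalizer (M : Set G) := fun j hj => mem_normalizer_of_forall fun g hg => by
    refine ⟨H.mul_mem (H.mul_mem hj hg.1) (H.inv_mem hj),
      (mem_normalizer_iff.1 (normalizer_le_normalizer_centralizer P' (hP'n (hH hj))) g).1 hg.2.1,
      fun a ha => ?_⟩
    have h1 := hg.2.2 _ (hΦn j⁻¹ (inv_mem (hH hj)) a ha)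
    have h2 := (mem_normalizer_iff.1 (hP'n (hH hj)) _).1 h1
    simp only [conjugate_commutatorElement, inv_inv] at h2
    simpa [mul_assoc] using h2
  have hYM : Y ≤ M := fun y hy => ⟨hYH hy, hYc hy, fun a ha => by
    obtain ⟨a, ha, rfl⟩ := ha
    let D : Subgroup ↥P :=
      { carrier := {a | ⁅y, (a : G)⁆ ∈ P'}
        one_mem' := by simp [P'.one_mem]
        mul_mem' := fun {a b} ha hb => by
          show ⁅y, ((a * b : ↥P) : G)⁆ ∈ P'
          rw [coe_mul, commutatorElement_mul_right_eq_mul_conj, mul_assoc ⁅y, (a : G)⁆, mul_assoc ⁅y, (a : G)⁆]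
          exact P'.mul_mem ha ((mem_normalizer_iff.1 (hP'n (Subgroup.le_normalizer a.2)) _).1 hb)
        inv_mem' := fun {a} ha => by
          show ⁅y, ((a⁻¹ : ↥P) : G)⁆ ∈ P'
          rw [coe_inv, commutatorElement_inv_right, ← commutatorElement_inv]
          simpa using (mem_normalizer_iff.1 (hP'n (Subgroup.le_normalizer (P.inv_mem a.2))) _).1
            (P'.inv_mem ha) }
    refine frattini_le_of_commutator_le_of_pow_mem (p := p) (D := D) ?_ (fun x => ?_) ha
    · intro c hc
      show ⁅y, (c : G)⁆ ∈ P'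
      have hc' : (c : G) ∈ P' := by
        show (c : G) ∈ ⁅P, P⁆
        rw [← P.map_subtype_commutator]
        exact ⟨c, hc, rfl⟩
      rw [(commutatorElement_eq_one_iff_mul_comm).2 (mem_centralizer_iff.1 (hYc hy) _ hc').symm]
      exact P'.one_mem
    · show ⁅y, ((x ^ p : ↥P) : G)⁆ ∈ P'
      have hc1 : ⁅y, (x : G)⁆ ∈ ⁅P, Y⁆ := commutator_comm Y P ▸ commutator_mem_commutator hy x.2
      have hcP : ⁅y, (x : G)⁆ ∈ P :=
        (le_normalizer_iff_commutator_le_left.1 (hYH.trans hH)) hc1
      set c : ↥P := ⟨_, hcP⟩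
      have e : ⁅y, ((x ^ p : ↥P) : G)⁆ = (((c * x) ^ p * (x ^ p)⁻¹ : ↥P) : G) := by
        rw [coe_mul, coe_inv, coe_pow, coe_pow, coe_mul]
        show ⁅y, (x : G) ^ p⁆ = (⁅y, (x : G)⁆ * (x : G)) ^ p * ((x : G) ^ p)⁻¹
        rw [show ⁅y, (x : G)⁆ * (x : G) = y * (x : G) * y⁻¹ by rw [commutatorElement_def]; group,
          conj_pow, commutatorElement_def]
      rw [e, show P' = (_root_.commutator ↥P).map P.subtype from P.map_subtype_commutator.symm]
      refine ⟨(c * x) ^ p * (x ^ p)⁻¹, ?_, rfl⟩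
      rw [SetLike.mem_coe, ← Abelianization.ker_of, MonoidHom.mem_ker, map_mul, map_inv, map_pow,
        map_pow, map_mul, mul_pow, mul_inv_cancel_right, ← map_pow,
        show c ^ p = 1 from Subtype.ext (hel.2 _ hc1), map_one]⟩
  have hNY : (normalClosure ((Y.subgroupOf H : Subgroup ↥H) : Set ↥H)).map H.subtype ≤ M := by
    have hMH : M ≤ H := fun g hg => hg.1
    have : (M.subgroupOf H).Normal := (normal_subgroupOf_iff_le_normalizer hMH).2 hHM
    exact (map_mono (normalClosure_le_normal (N := M.subgroupOf H) (fun g hg => hYM hg))).trans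
      (map_comap_le _ _)
  rw [map_pResidual]
  refine pResOf_le_of_forall fun g hg hc => ?_
  exact mem_centralizer_of_stab (hP.to_le hP'P) hc (hNY hg).2.1 (hNY hg).2.2

end Cfsg.Agent.S2819
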