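import Cfsg.Statements.S2823
import Cfsg.Agent.LocalStructure.Largest

set_option autoImplicit false
open Cfsg

namespace Cfsg.Agent.S2823

open Subgroup CfsgLib.LocalStructure
open scoped commutatorElement

/-- Let H be a finite group, p a prime, T a Sylow p-subgroup and L a subgroup of characteristic p containing T; let Z_L be the subgroup generated by the Ω₁(Z(S)) over the Sylow p-subgroups S of L and O^p(L) the subgroup generated by the elements of L of order prime to p. Then Z_L = Ω₁(Z(L))·[Z_L, O^p(L)] and [Z_L, L] = [Z_L, O^p(L)]. -/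
theorem result {H : Type*} [Group H] [Finite H] {p : ℕ} [Fact p.Prime] (T : Sylow p H) (L : Subgroup H) (hTL : (T : Subgroup H) ≤ L) (hL : Subgroup.centralizer (Cfsg.pCore p ↥L : Set ↥L) ≤ Cfsg.pCore p ↥L) : Cfsg.sylowCenterClosure p L = (Cfsg.omegaOne p (L ⊓ Subgroup.centralizer ((L : Subgroup H) : Set H))) ⊔ ⁅Cfsg.sylowCenterClosure p L, (Cfsg.pResidual p ↥L).map L.subtype⁆ ∧ ⁅Cfsg.sylowCenterClosure p L, L⁆ = ⁅Cfsg.sylowCenterClosure p L, (Cfsg.pResidual p ↥L).map L.subtype⁆ := by
  rw [map_pResidual]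
  set R := pResOf p L
  set Z := sylowCenterClosure p L
  set W := ⁅Z, R⁆
  have hY := isReducedIn_largest (p := p) L
  have hZY : Z ≤ largestPReducedOf p L := sylowCenterClosure_le_largest hL
  have hZe : IsElementaryAbelian p Z := isElementaryAbelian_of_le hY.elab' hZY
  have hLR : L ≤ normalizer (R : Set H) := Subgroup.le_normalizer.trans (normalizer_le_normalizer_pResOf L)
  have hLZ : L ≤ normalizer (Z : Set H) := by
    intro x hx
    refine mem_normalizer_of_forall fun y hy => ?_
    have h := mem_map_of_mem (MulAut.conj x).toMonoidHom hy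
    refine (show Z.map (MulAut.conj x).toMonoidHom ≤ Z from ?_) h
    rw [show Z = ⨆ S : Sylow p ↥L, omegaOne p _ from rfl, Subgroup.map_iSup]
    refine iSup_le fun S => le_trans (le_of_eq ?_) (le_iSup _ ((⟨x, hx⟩ : ↥L) • S))
    show (omegaZ p ((S : Subgroup ↥L).map L.subtype)).map (MulAut.conj x).toMonoidHom = _
    rw [map_omegaZ (MulAut.conj x).injective]
    show omegaZ p _ = omegaZ p _
    congr 1
    ext z
    constructor
    · rintro ⟨_, ⟨w, hw, rfl⟩, rfl⟩
      refine ⟨(⟨x, hx⟩ : ↥L) * w * (⟨x, hx⟩ : ↥L)⁻¹, ?_, rfl⟩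
      rw [Sylow.smul_def, Sylow.pointwise_smul_def]
      exact ⟨w, hw, rfl⟩
    · rintro ⟨v, hv, rfl⟩
      rw [Sylow.smul_def, Sylow.pointwise_smul_def] at hv
      obtain ⟨w, hw, rfl⟩ := hv
      exact ⟨_, ⟨w, hw, rfl⟩, rfl⟩
  have hLW : L ≤ normalizer (W : Set H) :=
    (le_inf hLZ hLR).trans (normalizer_le_normalizer_commutator Z R)
  have hWZ : W ≤ Z := le_normalizer_iff_commutator_le_left.1 ((pResOf_le L).trans hLZ)
  have hΩ : omegaOne p (L ⊓ centralizer (L : Set H)) ≤ Z := by
    intro z hz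
    have h1 : omegaZ p L ≤ pCoreOf p L := le_pCoreOf (omegaZ_le L)
      ((Subgroup.le_normalizer).trans (normalizer_le_normalizer_omegaZ L))
      (isElementaryAbelian_isPGroup (omegaZ_elab L))
    refine (le_iSup (fun S : Sylow p ↥L => omegaOne p (((S : Subgroup ↥L).map L.subtype) ⊓
      centralizer (((S : Subgroup ↥L).map L.subtype : Subgroup H) : Set H))) (T.subtype hTL)) ?_
    refine mem_omegaZ.2 ⟨?_, centralizer_le (map_subtype_le _) (mem_omegaZ.1 hz).2.1,
      (mem_omegaZ.1 hz).2.2⟩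
    rw [T.coe_subtype hTL, map_subgroupOf_eq_of_le hTL]
    exact pCoreOf_le_sylow T hTL (h1 hz)
  have hmain : Z ≤ omegaOne p (L ⊓ centralizer (L : Set H)) ⊔ W := by
    refine iSup_le fun S => ?_
    intro z hz
    set P := (S : Subgroup ↥L).map L.subtype
    have hPL : P ≤ L := map_subtype_le _
    have hidx : ¬ p ∣ (P ⊓ R).relIndex R := by
      have h := not_dvd_relIndex_sylow_inf S (X := Cfsg.pResidual p ↥L)
        ((normalizer_eq_top_iff.2 pResidual_normal).ge.trans' le_top)
      rw [← relIndex_map_map_of_injective _ _ L.subtype_injective,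
        Subgroup.map_inf _ _ _ L.subtype_injective, map_pResidual] at h
      exact h
    have hzZ : z ∈ Z := le_iSup (fun S : Sylow p ↥L => omegaOne p (((S : Subgroup ↥L).map L.subtype) ⊓
      centralizer (((S : Subgroup ↥L).map L.subtype : Subgroup H) : Set H))) S hz
    have hzP : z ∈ centralizer (P : Set H) := (mem_omegaZ.1 hz).2.1
    obtain ⟨z₀, hz₀, hz₀P, w, hw, rfl⟩ := exists_fixed_mul_commutator' (X := R) (S := P ⊓ R) (P := P)
      (isElementaryAbelian_isPGroup hZe) hZe.1 ((pResOf_le L).trans hLZ) hidx (hPL.trans hLZ)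
      (hPL.trans hLR) (le_normalizer_inf' Subgroup.le_normalizer (hPL.trans hLR)) hzZ
      (centralizer_le inf_le_left hzP) hzP
    refine mul_mem (mem_sup_left (mem_omegaZ.2 ⟨?_, ?_, hZe.2 _ hz₀.1⟩)) (mem_sup_right hw)
    · exact (hZY.trans hY.le) hz₀.1
    · have hsup : P ⊔ R = L := by
        have h := congrArg (Subgroup.map L.subtype) (sylow_sup_pResidual S)
        rw [Subgroup.map_sup, map_pResidual, ← MonoidHom.range_eq_map, range_subtype] at h
        exact h
      have h2 : P ⊔ R ≤ centralizer ({z₀} : Set H) := sup_le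
        (fun a ha => mem_centralizer_iff.2 fun b hb => hb ▸ (mem_centralizer_iff.1 hz₀P a ha).symm)
        (fun a ha => mem_centralizer_iff.2 fun b hb => hb ▸ (mem_centralizer_iff.1 hz₀.2 a ha).symm)
      rw [hsup] at h2
      exact mem_centralizer_iff.2 fun l hl => (mem_centralizer_iff.1 (h2 hl) z₀ rfl).symm
  refine ⟨le_antisymm hmain (sup_le hΩ hWZ), le_antisymm (commutator_le.2 fun u hu l hl => ?_)
    (commutator_mono le_rfl (pResOf_le L))⟩
  obtain ⟨a, ha, b, hb, rfl⟩ := exists_mul_of_mem_sup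
    (((hΩ.trans hZY).trans hY.le).trans hLW) (hmain hu)
  rw [commutatorElement_mul_left_eq_conj_mul,
    commutatorElement_eq_one_iff_mul_comm.2 (mem_centralizer_iff.1 (mem_omegaZ.1 ha).2.1 l hl).symm,
    mul_one]
  refine (mem_normalizer_iff.1 (hLW (((hΩ.trans hZY).trans hY.le) ha)) _).1 ?_
  rw [commutatorElement_def, mul_assoc b l, mul_assoc b]
  exact W.mul_mem hb ((mem_normalizer_iff.1 (hLW hl) _).1 (W.inv_mem hb))

end Cfsg.Agent.S2823
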