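import Cfsg.Statements.S2825
import Cfsg.Agent.LocalStructure.SubnormalReduced

set_option autoImplicit false
open Cfsg

namespace Cfsg.Agent.S2825

open Subgroup CfsgLib.LocalStructure
open scoped commutatorElement

/-- Let L be a subnormal subgroup of the finite group H, p a prime, Y_H and Y_L the largest p-reduced normal subgroups. Then Y_H ∩ L = Y_H ∩ Y_L and this subgroup is a p-reduced normal subgroup of L; C_L(Y_L) = C_L(Y_H) = C_L(Y_H ∩ L); and if O^p(H) ≤ L, then [Y_L, L] = 1 if and only if [Y_H, H] = 1. -/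
theorem result {H : Type*} [Group H] [Finite H] {p : ℕ} [Fact p.Prime] (L : Subgroup H) (hL : L.IsSubnormal) : Cfsg.largestPReduced p H ⊓ L = Cfsg.largestPReduced p H ⊓ (Cfsg.largestPReducedOf p L) ∧ Cfsg.IsPReducedNormal p ((Cfsg.largestPReduced p H ⊓ L).subgroupOf L) ∧ L ⊓ Subgroup.centralizer ((Cfsg.largestPReducedOf p L : Subgroup H) : Set H) = L ⊓ Subgroup.centralizer (Cfsg.largestPReduced p H : Set H) ∧ L ⊓ Subgroup.centralizer (Cfsg.largestPReduced p H : Set H) = L ⊓ Subgroup.centralizer ((Cfsg.largestPReduced p H ⊓ L : Subgroup H) : Set H) ∧ (Cfsg.pResidual p H ≤ L → (⁅(Cfsg.largestPReducedOf p L), L⁆ = ⊥ ↔ ⁅Cfsg.largestPReduced p H, (⊤ : Subgroup H)⁆ = ⊥)) := by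
  set Y := largestPReduced p H
  set W := largestPReducedOf p L
  have hred : IsReducedIn p (Y ⊓ L) L := isReducedIn_inf_of_isSubnormal hL
  have hle : Y ⊓ L ≤ W := hred.le_largest
  have h3 : L ⊓ centralizer ((W : Subgroup H) : Set H) = L ⊓ centralizer (Y : Set H) :=
    le_antisymm (le_inf inf_le_left ((inf_le_inf le_rfl (centralizer_le
      (show ((Y ⊓ L : Subgroup H) : Set H) ⊆ W from hle))).trans (centralizer_inf_largest hL)))
      (le_inf inf_le_left (inf_centralizer_le_of_isSubnormal hL))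
  refine ⟨le_antisymm (le_inf inf_le_left hle)
      (le_inf inf_le_left (inf_le_right.trans (isReducedIn_largest L).le)),
    (isPReducedNormal_subgroupOf_iff inf_le_right).2 hred, h3,
    le_antisymm (inf_le_inf le_rfl (centralizer_le (show ((Y ⊓ L : Subgroup H) : Set H) ⊆ Y from inf_le_left)))
      (le_inf inf_le_left (centralizer_inf_largest hL)), fun hres => ?_⟩
  rw [commutator_comm W L, commutator_comm Y ⊤, commutator_eq_bot_iff_le_centralizer,
    commutator_eq_bot_iff_le_centralizer]
  refine ⟨fun h => ?_, fun h => (le_inf le_rfl (le_top.trans h)).trans (h3.ge.trans inf_le_right)⟩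
  have hLY : L ≤ centralizer (Y : Set H) := (le_inf le_rfl h).trans (h3.le.trans inf_le_right)
  refine le_centralizer_of_isSubnormal isPReducedNormal_largest IsSubnormal.top fun d hd => ?_
  obtain ⟨k, hk⟩ := exists_pow_mem_pResOf (p := p) hd
  exact ⟨k, hLY (hres (pResOf_top.le hk))⟩

end Cfsg.Agent.S2825
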