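import Cfsg.Statements.S2826
import Cfsg.Agent.LocalStructure.Largest

set_option autoImplicit false
open Cfsg

namespace Cfsg.Agent.S2826

open Subgroup CfsgLib.LocalStructure
open scoped commutatorElement

/-- Let H be a finite group of characteristic p, T a Sylow p-subgroup, and V a normal elementary abelian p-subgroup of H containing Ω₁(Z(T)). Then C_H(Ω₁(Z(T))) = C_H([V, O^p(H)] ∩ Ω₁(Z(T))), O^p(H) being generated by the elements of order prime to p. -/
theorem result {H : Type*} [Group H] [Finite H] {p : ℕ} [Fact p.Prime] (hH : Subgroup.centralizer (Cfsg.pCore p H : Set H) ≤ Cfsg.pCore p H) (T : Sylow p H) (V : Subgroup H) [V.Normal] (hV : Cfsg.IsElementaryAbelian p V) (hZV : (Cfsg.omegaOne p ((T : Subgroup H) ⊓ Subgroup.centralizer (((T : Subgroup H) : Subgroup H) : Set H))) ≤ V) : Subgroup.centralizer ((Cfsg.omegaOne p ((T : Subgroup H) ⊓ Subgroup.centralizer (((T : Subgroup H) : Subgroup H) : Set H))) : Set H) = Subgroup.centralizer (((⁅V, Cfsg.pResidual p H⁆ ⊓ (Cfsg.omegaOne p ((T :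 Subgroup H) ⊓ Subgroup.centralizer (((T : Subgroup H) : Subgroup H) : Set H)))) : Subgroup H) : Set H) := by
  set Z := omegaZ p (T : Subgroup H)
  set W := ⁅V, Cfsg.pResidual p H⁆
  have hR' := pResidual_normal (p := p) (G := H)
  refine le_antisymm (centralizer_le inf_le_right) ?_
  set X := centralizer ((W ⊓ Z : Subgroup H) : Set H)
  have hTX : (T : Subgroup H) ≤ X :=
    (le_centralizer_omegaZ _).trans (centralizer_le inf_le_right)
  set R := X ⊓ Cfsg.pResidual p H
  have hTR : (T : Subgroup H) ≤ normalizer (R : Set H) :=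
    le_normalizer_inf' (hTX.trans Subgroup.le_normalizer)
      ((normalizer_eq_top (H := Cfsg.pResidual p H)).ge.trans' le_top)
  have hVn : ∀ {K : Subgroup H}, K ≤ normalizer (V : Set H) :=
    fun {K} => (normalizer_eq_top (H := V)).ge.trans' le_top
  refine le_centralizer_iff.1 fun z hz => ?_
  obtain ⟨z₀, hz₀, hz₀T, w, hw, rfl⟩ := exists_fixed_mul_commutator' (X := R) (S := (T : Subgroup H) ⊓ R)
    (P := (T : Subgroup H)) (isElementaryAbelian_isPGroup hV) hV.1 hVn
    (not_dvd_relIndex_sylow_inf T hTR) hVn hTR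
    (le_normalizer_inf' Subgroup.le_normalizer hTR) (hZV hz)
    (centralizer_le inf_le_left (omegaZ_le_centralizer _ hz)) (omegaZ_le_centralizer _ hz)
  have hwW : w ∈ W := commutator_mono le_rfl inf_le_right hw
  have hwV : w ∈ V := commutator_le_left _ _ hwW
  have hwZ : w ∈ Z := mem_omegaZ.2 ⟨IsPGroup.le_sylow_of_normal (isElementaryAbelian_isPGroup hV) T hwV,
    by simpa using mul_mem (inv_mem hz₀T) (omegaZ_le_centralizer _ hz), hV.2 w hwV⟩
  have hX : X ≤ centralizer ({z₀} : Set H) := by
    conv_lhs => rw [← pResOf_sup_sylow_inf (p := p) T (X.le_normalizer.trans' hTX)]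
    refine sup_le (fun x hx => mem_centralizer_iff.2 fun b hb => ?_)
      (fun x hx => mem_centralizer_iff.2 fun b hb => ?_)
    · subst hb
      refine (mem_centralizer_iff.1 hz₀.2 x ⟨pResOf_le X hx, ?_⟩).symm
      rw [← pResOf_top]; exact pResOf_mono le_top hx
    · subst hb; exact (mem_centralizer_iff.1 hz₀T x hx.1).symm
  exact mul_mem (mem_centralizer_iff.2 fun x hx => (mem_centralizer_iff.1 (hX hx) z₀ rfl).symm)
    (le_centralizer_iff.1 le_rfl ⟨hwW, hwZ⟩)

end Cfsg.Agent.S2826
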