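import Cfsg.Statements.S2827
import Cfsg.Agent.LocalStructure.PClosed

set_option autoImplicit false
open Cfsg

namespace Cfsg.Agent.S2827

open Subgroup CfsgLib.LocalStructure
open scoped commutatorElement

/-- Let H be a finite p-irreducible group (not p-closed, and O^p(H) lies in every normal subgroup that is not p-closed) and T a Sylow p-subgroup. Then H is generated by the conjugates of T and H = H'·T; O^p(H) ≤ H'; and for every normal subgroup Y of T not contained in O_p(H), O^p(H) = [O^p(H), Y] and O^p(H) is contained in the normal closure of Y in H. -/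
theorem result {H : Type*} [Group H] [Finite H] {p : ℕ} [Fact p.Prime] (hH : Cfsg.IsPIrreducible p H) (T : Sylow p H) : Subgroup.normalClosure ((T : Subgroup H) : Set H) = ⊤ ∧ commutator H ⊔ (T : Subgroup H) = ⊤ ∧ Cfsg.pResidual p H ≤ commutator H ∧ ∀ Y : Subgroup H, Y ≤ (T : Subgroup H) → (T : Subgroup H) ≤ Subgroup.normalizer (Y : Set H) → ¬ Y ≤ Cfsg.pCore p H → ⁅Cfsg.pResidual p H, Y⁆ = Cfsg.pResidual p H ∧ Cfsg.pResidual p H ≤ Subgroup.normalClosure (Y : Set H) := by
  obtain ⟨hnc, hirr⟩ := hH
  set R := Cfsg.pResidual p H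
  have hRn : R.Normal := pResidual_normal
  have hnotc : ∀ (Y : Subgroup H), IsPGroup p Y → ¬ Y ≤ Cfsg.pCore p H →
      R ≤ normalClosure (Y : Set H) := by
    intro Y hY hYQ
    refine hirr _ normalClosure_normal fun hc => hYQ fun y hy => ?_
    exact mem_pCore_of_isPClosed_normal hc (subset_normalClosure hy) (isPEl_of_mem hY hy)
  have hTQ : ¬ (T : Subgroup H) ≤ Cfsg.pCore p H := by
    intro h
    refine hnc ((isPClosed_iff_forall).2 fun g hg => ?_)
    obtain ⟨P, hP⟩ := (isPEl_zpowers hg).exists_le_sylow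
    obtain ⟨x, rfl⟩ := MulAction.exists_smul_eq H T P
    have hg' := hP (mem_zpowers g)
    rw [Sylow.smul_def, Sylow.pointwise_smul_def] at hg'
    obtain ⟨t, ht, rfl⟩ := hg'
    exact (pCore_normal p H).conj_mem t (h ht) x
  have h1 : normalClosure ((T : Subgroup H) : Set H) = ⊤ := by
    refine eq_top_iff.2 ((sylow_sup_pResidual T).ge.trans (sup_le (fun x hx => subset_normalClosure hx) ?_))
    exact hnotc _ T.2 hTQ
  have h2 : commutator H ⊔ (T : Subgroup H) = ⊤ := by
    have : (commutator H ⊔ (T : Subgroup H)).Normal :=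
      Subgroup.Normal.of_commutator_le (G := H) le_sup_left
    exact eq_top_iff.2 (h1.ge.trans (normalClosure_le_normal fun x hx => mem_sup_right hx))
  refine ⟨h1, h2, pResidual_le_of_sup_eq_top T.2 (sup_comm (commutator H) _ ▸ h2), fun Y hYT hTY hY => ?_⟩
  have hYp : IsPGroup p Y := T.2.to_le hYT
  have hRY := hnotc Y hYp hY
  refine ⟨?_, hRY⟩
  set K := ⁅R, Y⁆
  have hKR : K ≤ R := commutator_le_left _ _
  have htop : ∀ {A : Subgroup H}, A.Normal → ∀ {B : Subgroup H}, B ≤ normalizer (A : Set H) :=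
    fun {A} hA {B} => (normalizer_eq_top_iff.2 hA).ge.trans' le_top
  have hKn : K.Normal := by
    refine normalizer_eq_top_iff.1 (eq_top_iff.2 ((sylow_sup_pResidual T).ge.trans (sup_le ?_ ?_)))
    · exact (le_inf (htop hRn) hTY).trans (normalizer_le_normalizer_commutator R Y)
    · exact normalizer_commutator_ge_left _ _
  have hMn : (Y ⊔ K).Normal := by
    refine normalizer_eq_top_iff.1 (eq_top_iff.2 ((sylow_sup_pResidual T).ge.trans (sup_le ?_ ?_)))
    · exact le_normalizer_sup hTY (htop hKn)
    · intro r hr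
      refine mem_normalizer_of_forall fun m hm => ?_
      obtain ⟨y, hy, k, hk, rfl⟩ := mem_sup_of_normal_right.1 hm
      have e : r * (y * k) * r⁻¹ = ⁅r, y⁆ * y * (r * k * r⁻¹) := by rw [commutatorElement_def]; group
      rw [e]
      exact mul_mem (mul_mem (mem_sup_right (commutator_mem_commutator hr hy)) (mem_sup_left hy))
        (mem_sup_right (hKn.conj_mem k hk r))
  have hRM : R ≤ Y ⊔ K :=
    hRY.trans (normalClosure_le_normal fun y hy => mem_sup_left hy)
  refine le_antisymm hKR ?_
  rw [show R = pResOf p R from (pResOf_pResidual).symm]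
  refine pResOf_le_of_forall fun g hg hc => ?_
  obtain ⟨k, hk⟩ := exists_pow_mem_of_mem_sup hYp (htop hKn) (hRM hg)
  exact mem_of_coprime_of_pow_mem hc hk

end Cfsg.Agent.S2827
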