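import Cfsg.Statements.S2828
import Cfsg.Agent.LocalStructure.PClosed

set_option autoImplicit false
open Cfsg

namespace Cfsg.Agent.S2828

open Subgroup CfsgLib.LocalStructure
open scoped commutatorElement

/-- Let H be a finite group, p a prime and D a normal p-subgroup of H. Then H is p-irreducible if and only if H/D is p-irreducible, and H is strongly p-irreducible if and only if H/D is strongly p-irreducible. -/
theorem result {H : Type*} [Group H] [Finite H] {p : ℕ} [Fact p.Prime] (D : Subgroup H) [D.Normal] (hD : IsPGroup p ↥D) : (Cfsg.IsPIrreducible p H ↔ Cfsg.IsPIrreducible p (H ⧸ D)) ∧ (Cfsg.IsStronglyPIrreducible p H ↔ Cfsg.IsStronglyPIrreducible p (H ⧸ D)) := by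
  set f := QuotientGroup.mk' D
  have hf : Function.Surjective f := QuotientGroup.mk'_surjective D
  have hcl : IsPClosed p (H ⧸ D) ↔ IsPClosed p H := by
    rw [← isPClosed_top_iff (G := H), ← isPClosed_top_iff (G := H ⧸ D), ← map_top_of_surjective f hf]
    exact isPClosed_map_iff hD le_top
  have hcore : Cfsg.pCore p (H ⧸ D) = (Cfsg.pCore p H).map f := pCore_quotient hD
  have hres : Cfsg.pResidual p (H ⧸ D) = (Cfsg.pResidual p H).map f := by
    rw [← pResOf_top, ← pResOf_top, map_pResOf, map_top_of_surjective f hf]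
  have hback : ∀ N : Subgroup H, N.Normal →
      Cfsg.pResidual p (H ⧸ D) ≤ N.map f → Cfsg.pResidual p H ≤ N := by
    intro N hN h
    rw [hres] at h
    have h' : Cfsg.pResidual p H ≤ D ⊔ N := by
      refine le_trans (map_le_iff_le_comap.1 h) (le_of_eq ?_)
      rw [comap_map_eq, QuotientGroup.ker_mk', sup_comm]
    rw [← pResOf_pResidual]
    exact (pResOf_mono h').trans ((pResOf_sup_eq_of_isSubnormal hD hN.isSubnormal).le.trans
      (pResOf_le N))
  have hDQ : D ≤ Cfsg.pCore p H := le_pCore hD
  constructor
  · constructor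
    · rintro ⟨h1, h2⟩
      refine ⟨hcl.not.2 h1, fun N hN h => ?_⟩
      rw [hres]
      refine map_le_iff_le_comap.2 (h2 _ (hN.comap f) fun hc => h ?_)
      have := (isPClosed_map_iff hD (K := N.comap f)
        (le_of_eq_of_le (QuotientGroup.ker_mk' D).symm (ker_le_comap f N))).2 hc
      rwa [map_comap_eq_self_of_surjective hf] at this
    · rintro ⟨h1, h2⟩
      refine ⟨hcl.not.1 h1, fun N hN h => hback N hN (h2 _ (hN.map f hf) fun hc => h ?_)⟩
      have e : N.map f = (N ⊔ D).map f := by
        rw [Subgroup.map_sup, (map_eq_bot_iff D).2 (QuotientGroup.ker_mk' D).ge, sup_bot_eq]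
      rw [e] at hc
      exact IsPClosed.mono ((isPClosed_map_iff hD le_sup_right).1 hc) le_sup_left
  · constructor
    · rintro ⟨h1, h2⟩
      refine ⟨hcl.not.2 h1, fun N hN h => ?_⟩
      rw [hres]
      refine map_le_iff_le_comap.2 (h2 _ (hN.comap f) fun hc => h ?_)
      have := map_mono (f := f) hc
      rwa [map_commutator, map_comap_eq_self_of_surjective hf, map_top_of_surjective f hf,
        ← hcore] at this
    · rintro ⟨h1, h2⟩
      refine ⟨hcl.not.1 h1, fun N hN h => hback N hN (h2 _ (hN.map f hf) fun hc => h ?_)⟩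
      rw [← map_top_of_surjective f hf, ← map_commutator, hcore, map_le_iff_le_comap, comap_map_eq,
        QuotientGroup.ker_mk', sup_eq_left.2 hDQ] at hc
      exact hc

end Cfsg.Agent.S2828
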