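import Cfsg.Statements.S2829
import Cfsg.Agent.LocalStructure.PClosed

set_option autoImplicit false
open Cfsg

namespace Cfsg.Agent.S2829

open Subgroup CfsgLib.LocalStructure
open scoped commutatorElement

/-- Every strongly p-irreducible finite group is p-irreducible. -/
theorem result {H : Type*} [Group H] [Finite H] {p : ℕ} [Fact p.Prime] (hH : Cfsg.IsStronglyPIrreducible p H) : Cfsg.IsPIrreducible p H := by
  refine ⟨hH.1, fun N hN hnc => hH.2 N hN fun h => hnc ((isPClosed_subgroup_iff N).2 fun g hg hp => ?_)⟩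
  obtain ⟨P, hP⟩ := ((isPEl_zpowers hp).comap_subtype (K := N)).exists_le_sylow
  have hgP : (⟨g, hg⟩ : ↥N) ∈ (P : Subgroup ↥N) := hP (mem_zpowers g)
  have hQN : (Cfsg.pCore p H).subgroupOf N ≤ (P : Subgroup ↥N) :=
    IsPGroup.le_sylow_of_normal pCore_isPGroup.comap_subtype P
  have hPn : (P : Subgroup ↥N).Normal := by
    refine ⟨fun x hx n => ?_⟩
    have e : n * x * n⁻¹ = ⁅n, x⁆ * x := by rw [commutatorElement_def]; group
    rw [e]
    refine mul_mem (hQN ?_) hx
    rw [mem_subgroupOf, show ((⁅n, x⁆ : ↥N) : H) = ⁅(n : H), (x : H)⁆ from rfl]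
    exact h (commutator_mem_commutator n.2 (mem_top _))
  exact ⟨⟨g, hg⟩, le_pCore P.2 hgP, rfl⟩

end Cfsg.Agent.S2829
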