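import Cfsg.Statements.S2830
import Cfsg.Agent.LocalStructure.PClosed

set_option autoImplicit false
open Cfsg

namespace Cfsg.Agent.S2830

open Subgroup CfsgLib.LocalStructure
open scoped commutatorElement

/-- Let H act by conjugation on the elementary abelian p-subgroup V of a finite group G (H ≤ N(V)), with H p-irreducible and O^p(H) not centralizing V. Then C_H(V) is p-closed and C_T(V) ≤ O_p(H) for every p-subgroup T of H. If in addition O_p(H) centralizes V, then C_T(V) = T ∩ O_p(H) for every p-subgroup T of H, and V is p-reduced for H: O_p(H/C_H(V)) = 1. -/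
theorem result {G : Type*} [Group G] [Finite G] {p : ℕ} [Fact p.Prime] (V H : Subgroup G) (hV : Cfsg.IsElementaryAbelian p V) (hHV : H ≤ Subgroup.normalizer (V : Set G)) (hH : Cfsg.IsPIrreducible p ↥H) (hnc : ¬ (Cfsg.pResidual p ↥H).map H.subtype ≤ Subgroup.centralizer (V : Set G)) [hn : ((Subgroup.centralizer (V : Set G)).subgroupOf H).Normal] : Cfsg.IsPClosed p ↥(H ⊓ Subgroup.centralizer (V : Set G)) ∧ (∀ T : Subgroup G, T ≤ H → IsPGroup p ↥T → T ⊓ Subgroup.centralizer (V : Set G) ≤ Cfsg.pCoreOf p H) ∧ (Cfsg.pCoreOf p H ≤ Subgroup.centralizer (V : Set G) → (∀ T : Subgroup G, T ≤ H → IsPGroup p ↥T → T ⊓ Subgroup.centralizer (V : Set G) = T ⊓ Cfsg.pCoreOf p H) ∧ Cfsg.pCore p (↥H ⧸ (Subgroup.centralizer (V : Set G)).subgroupOf H) = ⊥) := by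
  set C := (centralizer (V : Set G)).subgroupOf H
  have hcl : IsPClosed p ↥C := by
    by_contra h
    refine hnc ((map_mono (hH.2 C hn h)).trans (map_comap_le _ _))
  have hHn : H ≤ normalizer ((H ⊓ centralizer (V : Set G) : Subgroup G) : Set G) :=
    le_normalizer_inf' Subgroup.le_normalizer (hHV.trans (normalizer_le_normalizer_centralizer V))
  have hCmap : C.map H.subtype = H ⊓ centralizer (V : Set G) := by
    rw [show C = (centralizer (V : Set G)).subgroupOf H from rfl, subgroupOf_map_subtype, inf_comm]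
  have hcl' : IsPClosed p ↥(H ⊓ centralizer (V : Set G)) := by
    rw [isPClosed_subgroup_iff]
    intro g hg ⟨k, hk⟩
    have h1 : (⟨g, hg.1⟩ : ↥H) ∈ pCoreOf p C :=
      (isPClosed_subgroup_iff C).1 hcl _ hg.2 ⟨k, Subtype.ext (by simpa using hk)⟩
    refine le_pCoreOf ((map_mono (pCoreOf_le C)).trans hCmap.le) ?_
      ((pCoreOf_isPGroup C).map _) ⟨_, h1, rfl⟩
    exact hCmap.ge.trans ((map_mono (le_normalizer_pCoreOf (p := p) C)).trans (le_normalizer_map _))
  have h2 : ∀ T : Subgroup G, T ≤ H → IsPGroup p ↥T →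
      T ⊓ centralizer (V : Set G) ≤ pCoreOf p H := by
    intro T hTH hT g hg
    refine le_pCoreOf (inf_le_left.trans' (pCoreOf_le (p := p) (H ⊓ centralizer (V : Set G)))) ?_
      (pCoreOf_isPGroup _) ((isPClosed_subgroup_iff _).1 hcl' g ⟨hTH hg.1, hg.2⟩ (isPEl_of_mem hT hg.1))
    exact hHn.trans (normalizer_le_normalizer_pCoreOf _)
  refine ⟨hcl', h2, fun hQ => ⟨fun T hTH hT => le_antisymm (le_inf inf_le_left (h2 T hTH hT))
    (inf_le_inf_left T hQ), eq_bot_iff.2 fun x hx => ?_⟩⟩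
  have hPn : (Cfsg.pCore p (↥H ⧸ C)).Normal := pCore_normal p _
  set D := (Cfsg.pCore p (↥H ⧸ C)).comap (QuotientGroup.mk' C)
  have hDn : D.Normal := hPn.comap _
  have hDC : D ≤ C := by
    have hp' : ∀ d ∈ D, (orderOf d).Coprime p → d ∈ C := by
      intro d hd hc
      obtain ⟨k, hk⟩ := pCore_isPGroup ⟨_, hd⟩
      refine mem_of_coprime_of_pow_mem (k := k) hc ((QuotientGroup.eq_one_iff _).1 ?_)
      simpa using congrArg Subtype.val hk
    by_cases hcD : IsPClosed p ↥D
    · intro d hd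
      obtain ⟨a, b, ha, hb, ⟨k, hk⟩, hbc, hab⟩ := exists_pPart_mul (p := p) d
      rw [← hab]
      refine mul_mem ?_ (hp' b (zpowers_le.2 hd hb) hbc)
      exact hQ ⟨a, mem_pCore_of_isPClosed_normal hcD (zpowers_le.2 hd ha)
        ⟨k, hk ▸ pow_orderOf_eq_one a⟩, rfl⟩
    · refine absurd ?_ hnc
      refine (map_mono ?_).trans (map_comap_le _ (centralizer (V : Set G)))
      rw [← pResOf_pResidual]
      exact pResOf_le_of_forall fun d hd hc => hp' d (hH.2 D hDn hcD hd) hc
  obtain ⟨g, rfl⟩ := QuotientGroup.mk_surjective x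
  exact mem_bot.2 ((QuotientGroup.eq_one_iff g).2 (hDC hx))

end Cfsg.Agent.S2830
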