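import Cfsg.Statements.S2832
import Cfsg.Agent.LocalStructure.PClosed

set_option autoImplicit false
open Cfsg

namespace Cfsg.Agent.S2832

open Subgroup CfsgLib.LocalStructure
open scoped commutatorElement

/-- Let H be a finite group with Sylow p-subgroup T such that H is T-minimal (generated by the conjugates of T, with T in exactly one maximal subgroup), and let N be a normal subgroup of H. Then either H/N is a p-group or H/N is minimal over the image of T in the same sense. -/
theorem result {H : Type*} [Group H] [Finite H] {p : ℕ} [Fact p.Prime] (T : Sylow p H) (hmin : Cfsg.IsMinimalOver (T : Subgroup H)) (N : Subgroup H) [N.Normal] : IsPGroup p (H ⧸ N) ∨ Cfsg.IsMinimalOver ((T : Subgroup H).map (QuotientGroup.mk' N)) := by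
  obtain ⟨hcl, M, ⟨hM, hTM⟩, huniq⟩ := hmin
  set f := QuotientGroup.mk' N
  have hf : Function.Surjective f := QuotientGroup.mk'_surjective N
  by_cases htop : (T : Subgroup H) ⊔ N = ⊤
  · left
    intro x
    obtain ⟨g, rfl⟩ := hf x
    obtain ⟨k, hk⟩ := exists_pow_mem_of_mem_sup T.2
      ((normalizer_eq_top (H := N)).ge.trans' le_top) (htop.ge (mem_top g))
    exact ⟨k, by rw [← map_pow]; exact (QuotientGroup.eq_one_iff _).2 hk⟩
  · right
    refine ⟨?_, M.map f, ⟨?_, map_mono hTM⟩, ?_⟩
    · rw [eq_top_iff, ← map_top_of_surjective f hf, ← hcl, map_normalClosure _ f hf]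
      exact le_of_eq (by rw [coe_map])
    · have hNM : N ≤ M := by
        obtain h | ⟨M', hM', hle⟩ := eq_top_or_exists_le_coatom ((T : Subgroup H) ⊔ N)
        · exact absurd h htop
        · exact (huniq M' ⟨hM', le_sup_left.trans hle⟩) ▸ le_sup_right.trans hle
      have hcm : (M.map f).comap f = M := by
        rw [comap_map_eq, QuotientGroup.ker_mk']; exact sup_eq_left.2 hNM
      refine ⟨fun h => hM.1 ?_, fun L hL => ?_⟩
      · rw [← hcm, h, comap_top]
      · have h1 : M < L.comap f := hcm ▸ (comap_lt_comap_of_surjective hf).2 hL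
        rw [← map_comap_eq_self_of_surjective hf L, hM.2 _ h1, map_top_of_surjective f hf]
    · rintro L ⟨hL, hTL⟩
      have hL' : IsCoatom (L.comap f) := by
        refine ⟨fun h => hL.1 ?_, fun K hK => ?_⟩
        · rw [← map_comap_eq_self_of_surjective hf L, h, map_top_of_surjective f hf]
        · have hk : N ≤ K := le_trans (le_of_eq_of_le (QuotientGroup.ker_mk' N).symm (ker_le_comap f L)) hK.le
          have hKeq : (K.map f).comap f = K := by
            rw [comap_map_eq, QuotientGroup.ker_mk']; exact sup_eq_left.2 hk
          rw [← hKeq, hL.2 (K.map f) ?_, comap_top]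
          rw [← comap_lt_comap_of_surjective hf, hKeq]
          exact hK
      rw [← huniq _ ⟨hL', map_le_iff_le_comap.1 hTL⟩, map_comap_eq_self_of_surjective hf L]

end Cfsg.Agent.S2832
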