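import Cfsg.Statements.S2833
import Cfsg.Agent.LocalStructure.Largest

set_option autoImplicit false
open Cfsg

namespace Cfsg.Agent.S2833

open Subgroup CfsgLib.LocalStructure
open scoped commutatorElement

/-- Let V be a subgroup of a finite group G normalized by the subgroup L, let X ≤ L and g ∈ L with [V, X, X] = 1 and L generated by X and gXg⁻¹. Put W = [V, L]. Then W = [V, X]·[V, gXg⁻¹], C_W(X) = [V, X], and C_W(L) = [V, X] ∩ [V, gXg⁻¹]. -/
theorem result {G : Type*} [Group G] [Finite G] (V L : Subgroup G) (hLV : L ≤ Subgroup.normalizer (V : Set G)) (X : Subgroup G) (hX : X ≤ L) (g : G) (hg : g ∈ L) (hq : ⁅⁅V, X⁆, X⁆ = ⊥) (hgen : X ⊔ X.map (MulAut.conj g).toMonoidHom = L) (W : Subgroup G) (hW : W = ⁅V, L⁆) : ⁅V, X⁆ ⊔ ⁅V, X.map (MulAut.conj g).toMonoidHom⁆ = W ∧ W ⊓ Subgroup.centralizer (X : Set G) = ⁅V, X⁆ ∧ W ⊓ Subgroup.centralizer (L : Set G) = ⁅V, X⁆ ⊓ ⁅V, X.map (MulAut.conj g).toMonoidHom⁆ := by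
  subst hW
  set X' := X.map (MulAut.conj g).toMonoidHom
  set I := ⁅V, X⁆
  set I' := ⁅V, X'⁆
  have hgV := hLV hg
  have hX' : X' ≤ L := le_sup_right.trans hgen.le
  have hI' : I' = I.map (MulAut.conj g).toMonoidHom := by
    rw [map_commutator, conj_map_eq_of_mem_normalizer hgV]
  have hIX : I ≤ centralizer (X : Set G) := commutator_eq_bot_iff_le_centralizer.1 hq
  have hI'X : I' ≤ centralizer (X' : Set G) := by
    refine commutator_eq_bot_iff_le_centralizer.1 ?_
    rw [hI', ← map_commutator, hq, Subgroup.map_bot]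
  have hIV : I ≤ V := le_normalizer_iff_commutator_le_left.1 (hX.trans hLV)
  have hI'V : I' ≤ V := le_normalizer_iff_commutator_le_left.1 (hX'.trans hLV)
  have hVA : V ≤ normalizer ((I ⊔ I' : Subgroup G) : Set G) :=
    le_normalizer_sup (normalizer_commutator_ge_left V X) (normalizer_commutator_ge_left V X')
  have hXA : ∀ Y : Subgroup G, ⁅V, Y⁆ ≤ I ⊔ I' → Y ≤ normalizer ((I ⊔ I' : Subgroup G) : Set G) := by
    intro Y hY y hy
    refine mem_normalizer_of_forall fun u hu => ?_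
    have e : y * u * y⁻¹ = ⁅y, u⁆ * u := by rw [commutatorElement_def]; group
    rw [e]
    refine mul_mem (hY ?_) hu
    rw [commutator_comm]
    exact commutator_mem_commutator hy ((sup_le hIV hI'V) hu)
  let M : Subgroup G :=
    { carrier := {l | l ∈ normalizer ((I ⊔ I' : Subgroup G) : Set G) ∧ ∀ v ∈ V, ⁅v, l⁆ ∈ I ⊔ I'}
      one_mem' := ⟨one_mem _, fun v _ => by simp [(I ⊔ I').one_mem]⟩
      mul_mem' := fun {a b} ha hb => ⟨mul_mem ha.1 hb.1, fun v hv => by
        rw [commutatorElement_mul_right_eq_mul_conj, mul_assoc ⁅v, a⁆, mul_assoc ⁅v, a⁆]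
        exact mul_mem (ha.2 v hv) ((mem_normalizer_iff.1 ha.1 _).1 (hb.2 v hv))⟩
      inv_mem' := fun {a} ha => ⟨inv_mem ha.1, fun v hv => by
        rw [commutatorElement_inv_right, ← commutatorElement_inv]
        simpa using (mem_normalizer_iff.1 (inv_mem ha.1) _).1 (inv_mem (ha.2 v hv))⟩ }
  have hLM : L ≤ M := hgen.ge.trans (sup_le
    (fun x hx => ⟨hXA X le_sup_left hx, fun v hv => mem_sup_left (commutator_mem_commutator hv hx)⟩)
    (fun x hx => ⟨hXA X' le_sup_right hx, fun v hv => mem_sup_right (commutator_mem_commutator hv hx)⟩))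
  have hW : I ⊔ I' = ⁅V, L⁆ := le_antisymm
    (sup_le (commutator_mono le_rfl hX) (commutator_mono le_rfl hX'))
    (commutator_le.2 fun v hv l hl => (hLM hl).2 v hv)
  have hCX : ⁅V, L⁆ ⊓ centralizer (X : Set G) ≤ I := by
    rintro w ⟨hw, hwX⟩
    rw [← hW] at hw
    obtain ⟨b, hb, a, ha, rfl⟩ := exists_mul_of_mem_sup (H := I') (K := I)
      (hI'V.trans (normalizer_commutator_ge_left V X)) (sup_comm I I' ▸ hw)
    have hbX : b ∈ centralizer (X : Set G) := by
      simpa using (centralizer (X : Set G)).mul_mem hwX ((centralizer (X : Set G)).inv_mem (hIX ha))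
    have hbL : L ≤ centralizer ({b} : Set G) := hgen.ge.trans (sup_le
      (fun x hx => mem_centralizer_iff.2 fun y hy => hy ▸ (mem_centralizer_iff.1 hbX x hx).symm)
      (fun x hx => mem_centralizer_iff.2 fun y hy => hy ▸ (mem_centralizer_iff.1 (hI'X hb) x hx).symm))
    rw [hI'] at hb
    obtain ⟨c, hc, hcb⟩ := hb
    have hgb := mem_centralizer_iff.1 (hbL hg) b rfl
    have : c = b := by
      have h1 : g * c * g⁻¹ = b := hcb
      calc c = g⁻¹ * (g * c * g⁻¹) * g := by group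
        _ = g⁻¹ * (b * g) := by rw [h1]; group
        _ = b := by rw [hgb]; group
    exact mul_mem (this ▸ hc) ha
  refine ⟨hW, le_antisymm hCX (le_inf (hW ▸ le_sup_left) hIX), le_antisymm ?_ ?_⟩
  · intro w hw
    have hwI := hCX ⟨hw.1, centralizer_le hX hw.2⟩
    refine ⟨hwI, hI' ▸ ⟨w, hwI, ?_⟩⟩
    have := mem_centralizer_iff.1 hw.2 g hg
    show g * w * g⁻¹ = w
    rw [this]; group
  · refine le_inf (inf_le_left.trans (hW ▸ le_sup_left)) (le_centralizer_iff.1 (hgen.ge.trans
      (sup_le ?_ ?_)))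
    · exact (le_centralizer_iff.1 hIX).trans (centralizer_le inf_le_left)
    · exact (le_centralizer_iff.1 hI'X).trans (centralizer_le inf_le_right)

end Cfsg.Agent.S2833
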