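import Cfsg.Statements.S2835
import Cfsg.Agent.LocalStructure.MinimalOver

set_option autoImplicit false
open Cfsg

namespace Cfsg.Agent.S2835

open Subgroup CfsgLib.LocalStructure
open scoped commutatorElement

/-- Let L be a finite group, L₀ a maximal subgroup, T a Sylow p-subgroup of L₀ and Y ≤ T, and suppose L is Y-minimal (generated by the conjugates of Y, with Y in exactly one maximal subgroup, necessarily L₀). Then N_L(T) ≤ L₀, O_p(L) ≤ L₀ and T is a Sylow p-subgroup of L; N_L(L₀) = L₀; L = ⟨Y, gYg⁻¹⟩ for each g ∈ L outside L₀; and if Y is abelian then Y ∩ gYg⁻¹ = C_Y(L) for each such g. -/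
theorem result {L : Type*} [Group L] [Finite L] {p : ℕ} [Fact p.Prime] (L₀ : Subgroup L) (hL₀ : IsCoatom L₀) (T : Sylow p ↥L₀) (Y : Subgroup L) (hYT : Y ≤ (T : Subgroup ↥L₀).map L₀.subtype) (hmin : Cfsg.IsMinimalOver Y) : Subgroup.normalizer (((T : Subgroup ↥L₀).map L₀.subtype : Subgroup L) : Set L) ≤ L₀ ∧ Cfsg.pCore p L ≤ L₀ ∧ (∃ P : Sylow p L, (P : Subgroup L) = (T : Subgroup ↥L₀).map L₀.subtype) ∧ Subgroup.normalizer (L₀ : Set L) = L₀ ∧ (∀ g : L, g ∉ L₀ → Y ⊔ Y.map (MulAut.conj g).toMonoidHom = ⊤) ∧ (IsMulCommutative ↥Y → ∀ g : L, g ∉ L₀ → Y ⊓ Y.map (MulAut.conj g).toMonoidHom = Y ⊓ Subgroup.center L) := by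
  set T' := (T : Subgroup ↥L₀).map L₀.subtype
  have hY : Y ≤ L₀ := hYT.trans (map_subtype_le _)
  refine ⟨minimalOver_normalizer_le hL₀ (map_subtype_le _) hmin hYT,
    minimalOver_pCore_le hL₀ hY hmin ((T.2.map L₀.subtype).to_le hYT), minimalOver_sylow hL₀ T hYT hmin,
    minimalOver_normalizer hL₀ hY hmin, ?_⟩
  have key : ∀ g : L, g ∉ L₀ → Y ⊔ conjS g Y = ⊤ := fun g hg => by_contra fun h =>
    hg (minimalOver_conj_mem hL₀ hY hmin (le_sup_right.trans (minimalOver_le hL₀ hY hmin le_sup_left h)))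
  refine ⟨key, fun hc g hg => le_antisymm ?_ ?_⟩
  · intro y hy
    refine ⟨hy.1, mem_center_iff.2 fun x => ?_⟩
    have h : Y ⊔ conjS g Y ≤ centralizer ({y} : Set L) := sup_le
      (fun a ha => mem_centralizer_singleton_iff.2
        (congrArg Subtype.val (_root_.mul_comm' (⟨a, ha⟩ : Y) ⟨y, hy.1⟩)))
      (fun a ha => mem_centralizer_singleton_iff.2 (by
        obtain ⟨a', ha', rfl⟩ := ha
        obtain ⟨y', hy', hyy⟩ := hy.2
        rw [← hyy, ← map_mul, ← map_mul]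
        exact congrArg _ (congrArg Subtype.val (_root_.mul_comm' (⟨a', ha'⟩ : Y) ⟨y', hy'⟩))))
    rw [key g hg] at h
    exact mem_centralizer_singleton_iff.1 (h (mem_top x))
  · intro y hy
    refine ⟨hy.1, y, hy.1, ?_⟩
    show g * y * g⁻¹ = y
    rw [mem_center_iff.1 hy.2 g, mul_inv_cancel_right]

end Cfsg.Agent.S2835
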