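import Cfsg.Statements.S2836
import Cfsg.Agent.LocalStructure.MinimalOver

set_option autoImplicit false
open Cfsg

namespace Cfsg.Agent.S2836

open Subgroup CfsgLib.LocalStructure
open scoped commutatorElement

/-- Let L be a finite group, L₀ a maximal subgroup, T a Sylow p-subgroup of L₀, Y ≤ T, and suppose L is Y-minimal. Let D be the intersection of the conjugates of L₀ (the core of L₀). Then D contains O_p(L) and D/O_p(L) is the Frattini subgroup of L/O_p(L), so D is p-closed; and every normal subgroup N of L contained in L₀ is p-closed with N/O_p(N) a nilpotent group of order prime to p. -/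
theorem result {L : Type*} [Group L] [Finite L] {p : ℕ} [Fact p.Prime] (L₀ : Subgroup L) (hL₀ : IsCoatom L₀) (T : Sylow p ↥L₀) (Y : Subgroup L) (hYT : Y ≤ (T : Subgroup ↥L₀).map L₀.subtype) (hmin : Cfsg.IsMinimalOver Y) : (Cfsg.pCore p L ≤ L₀.normalCore ∧ (L₀.normalCore).map (QuotientGroup.mk' (Cfsg.pCore p L)) = frattini (L ⧸ Cfsg.pCore p L) ∧ Cfsg.IsPClosed p ↥(L₀.normalCore)) ∧ ∀ (N : Subgroup L) [N.Normal], N ≤ L₀ → Cfsg.IsPClosed p ↥N ∧ Group.IsNilpotent (↥N ⧸ Cfsg.pCore p ↥N) ∧ (Nat.card (↥N ⧸ Cfsg.pCore p ↥N)).Coprime p := by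
  obtain ⟨P, hP⟩ := minimalOver_sylow hL₀ T hYT hmin
  have hYP : Y ≤ (P : Subgroup L) := hP ▸ hYT
  have hPL : (P : Subgroup L) ≤ L₀ := hP ▸ map_subtype_le _
  obtain ⟨hQD, hDΦ⟩ := minimalOver_core_frattini hL₀ P hYP hPL hmin
  refine ⟨⟨hQD, hDΦ, (minimalOver_normal_sylow hL₀ P hYP hPL hmin (normalCore_le L₀)).2.1⟩,
    fun N _ hN => ?_⟩
  obtain ⟨-, h2, h3⟩ := minimalOver_normal_sylow hL₀ P hYP hPL hmin (N := N) hN
  set Q := Cfsg.pCore p L
  set f := (QuotientGroup.mk' Q).comp N.subtype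
  have hker : f.ker = Cfsg.pCore p ↥N := by
    rw [← MonoidHom.comap_ker, QuotientGroup.ker_mk']
    apply map_injective N.subtype_injective
    rw [← subgroupOf, subgroupOf_map_subtype, inf_comm]
    exact ((inf_comm N Q).trans (pCoreOf_eq_inf_of_isSubnormal (Subgroup.Normal.isSubnormal ‹_›)).symm)
  have hidx : Nat.card (↥N ⧸ Cfsg.pCore p ↥N) = (Cfsg.pCoreOf p N).relIndex N := by
    rw [relIndex, Cfsg.pCoreOf, subgroupOf, comap_map_eq_self_of_injective N.subtype_injective]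
    rfl
  refine ⟨h2, ?_, hidx ▸ ((Nat.Prime.coprime_iff_not_dvd Fact.out).2 h3).symm⟩
  have hrange : f.range ≤ frattini (L ⧸ Q) := by
    rw [MonoidHom.range_comp, range_subtype]
    exact (map_mono (normal_le_normalCore.2 hN)).trans hDΦ.le
  have : Group.IsNilpotent ↥(frattini (L ⧸ Q)) := frattini_nilpotent
  have h4 : Group.IsNilpotent ↥(f.range.subgroupOf (frattini (L ⧸ Q))) := Subgroup.isNilpotent _
  have h5 : Group.IsNilpotent ↥f.range := Group.nilpotent_of_mulEquiv (subgroupOfEquivOfLe hrange)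
  have h6 : Group.IsNilpotent (↥N ⧸ f.ker) :=
    Group.nilpotent_of_mulEquiv (QuotientGroup.quotientKerEquivRange f).symm
  exact Group.nilpotent_of_mulEquiv (QuotientGroup.quotientMulEquivOfEq hker)

end Cfsg.Agent.S2836
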