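import Cfsg.Statements.S2837
import Cfsg.Agent.LocalStructure.MinimalOver
import Cfsg.Agent.Solvable.Frattini

set_option autoImplicit false
open Cfsg

namespace Cfsg.Agent.S2837

open Subgroup CfsgLib.LocalStructure
open scoped commutatorElement

/-- Let L be a finite group of characteristic p, L₀ a maximal subgroup, Y an elementary abelian p-subgroup of L₀ with L Y-minimal and O_p(L) ≤ N_L(Y). Put A = the normal closure of O_p(L) ∩ Y in L. Then for every g ∈ L outside L₀: Φ(A) = A' = [A ∩ Y, A] = [A ∩ Y, A ∩ gYg⁻¹] ≤ C_Y(L), and Y ∩ gYg⁻¹ = (A ∩ Y) ∩ (A ∩ gYg⁻¹) = C_Y(L) = C_A(L). -/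
theorem result {L : Type*} [Group L] [Finite L] {p : ℕ} [Fact p.Prime] (hchar : Subgroup.centralizer (Cfsg.pCore p L : Set L) ≤ Cfsg.pCore p L) (L₀ : Subgroup L) (hL₀ : IsCoatom L₀) (Y : Subgroup L) (hYL₀ : Y ≤ L₀) (hYel : Cfsg.IsElementaryAbelian p Y) (hmin : Cfsg.IsMinimalOver Y) (hOY : Cfsg.pCore p L ≤ Subgroup.normalizer (Y : Set L)) (A : Subgroup L) (hA : A = Subgroup.normalClosure (((Cfsg.pCore p L ⊓ Y : Subgroup L)) : Set L)) (g : L) (hg : g ∉ L₀) : (frattini ↥A).map A.subtype = ⁅A, A⁆ ∧ ⁅A, A⁆ = ⁅A ⊓ Y, A⁆ ∧ ⁅A ⊓ Y, A⁆ = ⁅A ⊓ Y, A ⊓ Y.map (MulAut.conj g).toMonoidHom⁆ ∧ ⁅A ⊓ Y, A⁆ ≤ Y ⊓ Subgroup.center L ∧ Y ⊓ Y.map (MulAut.conj g).toMonoidHom = Y ⊓ Subgroup.center L ∧ (A ⊓ Y) ⊓ (A ⊓ Y.map (MulAut.conj g).toMonoidHom) = Y ⊓ Subgroup.center L ∧ A ⊓ Subgroup.center L = Y ⊓ Subgroup.center L := by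
  set O := pCore p L
  have hOn : O.Normal := CfsgLib.LocalStructure.pCore_normal
  set Z := Y ⊓ Subgroup.center L
  set B := O ⊓ Y
  have hconjg : ∀ U : Subgroup L, conjS g U = U.map (MulAut.conj g).toMonoidHom := fun U => rfl
  rw [← hconjg Y]
  have htop : Y ⊔ conjS g Y = ⊤ := by
    by_contra h
    exact hg (minimalOver_conj_mem hL₀ hYL₀ hmin
      (le_sup_right.trans (minimalOver_le hL₀ hYL₀ hmin le_sup_left h)))
  have hcent : ∀ z : L, (∀ y ∈ Y, y * z = z * y) → (∀ y ∈ conjS g Y, y * z = z * y) → z ∈ Subgroup.center L := by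
    intro z h1 h2
    have hle : (⊤ : Subgroup L) ≤ centralizer ({z} : Set L) := htop.ge.trans (sup_le
      (fun y hy => mem_centralizer_singleton_iff.2 (h1 y hy))
      (fun y hy => mem_centralizer_singleton_iff.2 (h2 y hy)))
    exact Subgroup.mem_center_iff.2 fun x => mem_centralizer_singleton_iff.1 (hle (mem_top x))
  have hgc : ∀ z ∈ Subgroup.center L, g⁻¹ * z * g = z := fun z hz => by
    rw [mul_assoc, ← Subgroup.mem_center_iff.1 hz g, inv_mul_cancel_left]
  have hYe : ∀ a ∈ Y, ∀ b ∈ Y, a * b = b * a := fun a ha b hb => elab_comm hYel ha hb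
  have hYge : ∀ a ∈ conjS g Y, ∀ b ∈ conjS g Y, a * b = b * a := by
    rintro _ ⟨a, ha, rfl⟩ _ ⟨b, hb, rfl⟩
    rw [← map_mul, ← map_mul, hYe a ha b hb]
  have hYYg : Y ⊓ conjS g Y = Z := le_antisymm
    (fun z hz => ⟨hz.1, hcent z (fun y hy => hYe y hy z hz.1) (fun y hy => hYge y hy z hz.2)⟩)
    (fun z hz => ⟨hz.1, mem_conjS.2 (by rw [hgc z hz.2]; exact hz.1)⟩)
  have hZO : Z ≤ O := by
    have : Z.Normal := ⟨fun z hz x => by
      rwa [Subgroup.mem_center_iff.1 hz.2 x, mul_inv_cancel_right]⟩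
    exact CfsgLib.LocalStructure.le_pCore ((isElementaryAbelian_isPGroup hYel).to_le inf_le_left)
  have hZB : Z ≤ B := le_inf hZO inf_le_left
  set Bg := conjS g B
  have hOg : conjS g O = O := conjS_eq_self_iff.2 ((normalizer_eq_top_iff.2 hOn).ge (mem_top g))
  have hOYg : O ≤ normalizer (conjS g Y : Set L) := by
    rw [normalizer_conjS]
    exact hOg.ge.trans (conjS_mono hOY)
  have hBg : Bg = O ⊓ conjS g Y := by
    rw [show Bg = conjS g O ⊓ conjS g Y from map_inf _ _ _ (MulAut.conj g).injective, hOg]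
  have hOB : O ≤ normalizer (B : Set L) := le_normalizer_inf' Subgroup.le_normalizer hOY
  have hOBg : O ≤ normalizer (Bg : Set L) := hBg ▸ le_normalizer_inf' Subgroup.le_normalizer hOYg
  have hsup : Y ≤ normalizer ((B ⊔ Bg : Subgroup L) : Set L) := by
    intro y hy
    refine mem_normalizer_of_forall fun z hz => ?_
    obtain ⟨b, hb, c, hc, rfl⟩ := exists_mul_of_mem_sup (inf_le_left.trans hOBg) hz
    have hc' : c ∈ O := (hBg.le hc).1
    have h1 : ⁅y, c⁆ ∈ B := ⟨le_normalizer_iff_commutator_le_right.1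
      ((normalizer_eq_top_iff.2 hOn).ge.trans' le_top) (commutator_mem_commutator hy hc'),
      le_normalizer_iff_commutator_le_left.1 hOY (commutator_mem_commutator hy hc')⟩
    rw [show y * (b * c) * y⁻¹ = (y * b * y⁻¹) * (⁅y, c⁆ * c) by rw [commutatorElement_def]; group]
    refine mul_mem (mem_sup_left ?_) (mul_mem (mem_sup_left h1) (mem_sup_right hc))
    rwa [hYe y hy b hb.2, mul_inv_cancel_right]
  have hsupg : conjS g Y ≤ normalizer ((B ⊔ Bg : Subgroup L) : Set L) := by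
    intro y hy
    refine mem_normalizer_of_forall fun z hz => ?_
    obtain ⟨b, hb, c, hc, rfl⟩ := exists_mul_of_mem_sup (inf_le_left.trans hOBg) hz
    have h1 : ⁅y, b⁆ ∈ Bg := hBg.ge ⟨le_normalizer_iff_commutator_le_right.1
      ((normalizer_eq_top_iff.2 hOn).ge.trans' le_top) (commutator_mem_commutator hy hb.1),
      le_normalizer_iff_commutator_le_left.1 hOYg (commutator_mem_commutator hy hb.1)⟩
    rw [show y * (b * c) * y⁻¹ = (⁅y, b⁆ * b) * (y * c * y⁻¹) by rw [commutatorElement_def]; group]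
    refine mul_mem (mul_mem (mem_sup_right h1) (mem_sup_left hb)) (mem_sup_right ?_)
    rwa [hYge y hy c (hBg.le hc).2, mul_inv_cancel_right]
  have hAeq : A = B ⊔ Bg := by
    subst hA
    refine le_antisymm ?_ (sup_le Subgroup.subset_normalClosure ?_)
    · have : (B ⊔ Bg).Normal :=
        normalizer_eq_top_iff.1 (top_unique (htop.ge.trans (sup_le hsup hsupg)))
      exact normalClosure_le_normal (SetLike.coe_subset_coe.2 le_sup_left)
    · rintro _ ⟨b, hb, rfl⟩
      exact Subgroup.normalClosure_normal.conj_mem b (Subgroup.subset_normalClosure hb) g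
  have hAO : A ≤ O := hAeq.le.trans (sup_le inf_le_left (hBg.le.trans inf_le_left))
  have hAY : A ⊓ Y = B := le_antisymm (fun z hz => ⟨hAO hz.1, hz.2⟩)
    (le_inf (le_sup_left.trans hAeq.ge) inf_le_right)
  have hAYg : A ⊓ conjS g Y = Bg := le_antisymm (fun z hz => hBg.ge ⟨hAO hz.1, hz.2⟩)
    (le_inf (le_sup_right.trans hAeq.ge) (conjS_mono inf_le_right))
  have hBB : ⁅B, Bg⁆ ≤ Z := by
    rw [← hYYg]
    exact le_inf ((le_normalizer_iff_commutator_le_left.1 ((hBg.le.trans inf_le_left).trans hOB)).trans inf_le_right)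
      ((le_normalizer_iff_commutator_le_right.1 (inf_le_left.trans hOBg)).trans (hBg.le.trans inf_le_right))
  set C := ⁅B, Bg⁆
  have hCc : ∀ c ∈ C, ∀ x : L, x * c * x⁻¹ = c := fun c hc x => by
    rw [Subgroup.mem_center_iff.1 (hBB hc).2 x, mul_inv_cancel_right]
  have hBcomm : ∀ b ∈ B, ∀ a ∈ A, ⁅b, a⁆ ∈ C := by
    intro b hb a ha
    obtain ⟨b', hb', c, hc, rfl⟩ := exists_mul_of_mem_sup (inf_le_left.trans hOBg) (hAeq.le ha)
    rw [commutatorElement_mul_right_eq_mul_conj, commutatorElement_eq_one_iff_mul_comm.2 (hYe b hb.2 b' hb'.2),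
      one_mul, hCc _ (commutator_mem_commutator hb hc)]
    exact commutator_mem_commutator hb hc
  have hAA : ⁅A, A⁆ ≤ C := commutator_le.2 fun a ha a' ha' => by
    obtain ⟨b, hb, c, hc, rfl⟩ := exists_mul_of_mem_sup (inf_le_left.trans hOBg) (hAeq.le ha)
    rw [commutatorElement_mul_left_eq_conj_mul]
    refine mul_mem ?_ (hBcomm b hb a' ha')
    have h1 : ⁅c, a'⁆ ∈ C := by
      obtain ⟨b', hb', c', hc', rfl⟩ := exists_mul_of_mem_sup (inf_le_left.trans hOBg) (hAeq.le ha')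
      rw [commutatorElement_mul_right_eq_mul_conj,
        commutatorElement_eq_one_iff_mul_comm.2 (hYge c (hBg.le hc).2 c' (hBg.le hc').2)]
      simp only [mul_one, mul_inv_cancel_right]
      rw [← commutatorElement_inv]
      exact inv_mem (commutator_mem_commutator hb' hc)
    rw [hCc _ h1]
    exact h1
  have hCA : C ≤ ⁅A, A⁆ := commutator_mono (le_sup_left.trans hAeq.ge) (le_sup_right.trans hAeq.ge)
  have hBA : ⁅B, A⁆ = C := le_antisymm (commutator_le.2 hBcomm)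
    (commutator_mono le_rfl (le_sup_right.trans hAeq.ge))
  have hAAC : ⁅A, A⁆ = C := le_antisymm hAA hCA
  rw [hAY, hAYg, hBA, hAAC]
  refine ⟨le_antisymm ?_ ?_, rfl, rfl, hBB, hYYg, ?_, ?_⟩
  · rw [map_le_iff_le_comap]
    refine frattini_le_of_commutator_le_of_pow_mem (p := p) ?_ fun x => ?_
    · rw [← map_le_iff_le_comap, map_subtype_commutator, hAAC]
    obtain ⟨a, ha⟩ := x
    show (a ^ p : L) ∈ C
    obtain ⟨b, hb, c, hc, rfl⟩ := exists_mul_of_mem_sup (inf_le_left.trans hOBg) (hAeq.le ha)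
    have hcp : c ^ p = 1 := by
      obtain ⟨b', hb', rfl⟩ := hc
      rw [← map_pow, hYel.2 b' hb'.2, map_one]
    have key : ∀ n : ℕ, ∃ d ∈ C, (b * c) ^ n = b ^ n * c ^ n * d := by
      intro n
      induction n with
      | zero => exact ⟨1, one_mem _, by simp⟩
      | succ n ih =>
        obtain ⟨d, hd, he⟩ := ih
        have hcb : ⁅(c ^ n)⁻¹, b⁻¹⁆ ∈ C := by
          rw [← commutatorElement_inv]
          exact inv_mem (commutator_mem_commutator (inv_mem hb) (inv_mem (pow_mem hc _)))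
        refine ⟨c⁻¹ * ⁅(c ^ n)⁻¹, b⁻¹⁆ * c * d,
          mul_mem (by rw [show c⁻¹ * ⁅(c ^ n)⁻¹, b⁻¹⁆ * c = ⁅(c ^ n)⁻¹, b⁻¹⁆ by
            simpa using hCc _ hcb c⁻¹]; exact hcb) hd, ?_⟩
        rw [pow_succ, he]
        calc b ^ n * c ^ n * d * (b * c) = b ^ n * c ^ n * ((b * c) * d) := by
              rw [mul_assoc, Subgroup.mem_center_iff.1 (hBB hd).2 (b * c)]
          _ = _ := by rw [pow_succ, pow_succ, commutatorElement_def]; group
    obtain ⟨d, hd, he⟩ := key p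
    rwa [he, hYel.2 b hb.2, hcp, one_mul, one_mul]
  · have h := CfsgLib.Solvable.commutator_le_frattini (pCore_isPGroup.to_le hAO : IsPGroup p A)
    rw [← hAAC, ← map_subtype_commutator A]
    exact map_mono h
  · rw [hBg]
    exact le_antisymm (fun z hz => hYYg.le ⟨hz.1.2, hz.2.2⟩)
      fun z hz => ⟨hZB hz, hZO hz, (hYYg.ge hz).2⟩
  · refine le_antisymm (fun z hz => ⟨?_, hz.2⟩)
      fun z hz => ⟨(le_sup_left.trans hAeq.ge) (hZB hz), hz.2⟩
    obtain ⟨b, hb, c, hc, rfl⟩ := exists_mul_of_mem_sup (inf_le_left.trans hOBg) (hAeq.le hz.1)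
    have hcY : ∀ y ∈ Y, y * c = c * y := fun y hy => by
      have h1 := Subgroup.mem_center_iff.1 hz.2 y
      have h2 := hYe y hy b hb.2
      calc y * c = b⁻¹ * ((y * b) * c) := by rw [h2]; group
        _ = b⁻¹ * ((b * c) * y) := by rw [mul_assoc y, h1]
        _ = c * y := by group
    have hcZ : c ∈ Subgroup.center L := hcent c hcY fun y hy => hYge y hy c (hBg.le hc).2
    refine mul_mem hb.2 ?_
    have := mem_conjS.1 (hBg.le hc).2
    rwa [hgc c hcZ] at this

end Cfsg.Agent.S2837
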