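import Cfsg.Statements.S2839
import Cfsg.Agent.LocalStructure.WeaklyClosed

set_option autoImplicit false
open Cfsg

namespace Cfsg.Agent.S2839

open Subgroup CfsgLib.LocalStructure
open scoped commutatorElement

/-- Let Q be a nontrivial p-subgroup of the finite group H that is a weakly closed subgroup, K a subgroup containing Q and N a normal subgroup of H. Then Q is a weakly closed subgroup of K; every H-conjugate of Q contained in K is a K-conjugate of Q; N_K(Q) contains a Sylow p-subgroup of K; N = N_N(Q)·O^p(N); and QN/N is a weakly closed subgroup of H/N. -/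
theorem result {H : Type*} [Group H] [Finite H] {p : ℕ} [Fact p.Prime] (Q : Subgroup H) (hQp : IsPGroup p ↥Q) (hQ1 : Q ≠ ⊥) (hwc : Cfsg.IsWeaklyClosedSubgroup p Q) (K : Subgroup H) (hQK : Q ≤ K) (N' : Subgroup H) [N'.Normal] : Cfsg.IsWeaklyClosedSubgroup p (Q.subgroupOf K) ∧ (∀ g : H, ((Q : Subgroup H).map (MulAut.conj (g : H)).toMonoidHom) ≤ K → ∃ k ∈ K, ((Q : Subgroup H).map (MulAut.conj (g : H)).toMonoidHom) = ((Q : Subgroup H).map (MulAut.conj (k : H)).toMonoidHom)) ∧ Cfsg.IsParabolic p ((Subgroup.normalizer ((Q : Subgroup H) : Set H)).subgroupOf K) ∧ (N' ⊓ Subgroup.normalizer ((Q : Subgroup H) : Set H)) ⊔ (Cfsg.pResidual p ↥N').map N'.subtype = N' ∧ Cfsg.IsWeaklyClosedSubgroup p (Q.map (QuotientGroup.mk' N')) := by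
  obtain ⟨A, hA⟩ := (hQp.comap_subtype (K := K)).exists_le_sylow
  obtain ⟨B, hB⟩ := hQp.exists_le_sylow
  have hAQ : Q ≤ (A : Subgroup ↥K).map K.subtype := fun x hx => ⟨⟨x, hQK hx⟩, hA hx, rfl⟩
  refine ⟨⟨A, hA, fun k hk => ?_⟩, fun g hg => wc_conj_in hQp hwc hQK hg, ⟨A, ?_⟩, ?_,
    wc_map_quotient hQp hwc N'⟩
  · have h1 : conjS (k : H) Q ≤ (A : Subgroup ↥K).map K.subtype := by
      rintro _ ⟨x, hx, rfl⟩
      exact ⟨k * ⟨x, hQK hx⟩ * k⁻¹, hk ⟨⟨x, hQK hx⟩, hx, rfl⟩, rfl⟩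
    have h2 := wc_unique hwc (A.2.map _) hAQ h1
    ext x
    constructor
    · rintro ⟨y, hy, rfl⟩
      show (k : H) * (y : H) * (k : H)⁻¹ ∈ Q
      exact h2.le ⟨y, hy, rfl⟩
    · intro hx
      obtain ⟨y, hy, he⟩ := h2.ge (show (x : H) ∈ Q from hx)
      exact ⟨⟨y, hQK hy⟩, hy, Subtype.ext he⟩
  · intro x hx
    exact wc_le_normalizer hwc (A.2.map K.subtype) hAQ ⟨x, hx, rfl⟩
  · rw [map_pResidual]
    refine le_antisymm (sup_le inf_le_left (pResOf_le N')) ?_
    conv_lhs => rw [← pResOf_sup_sylow_inf (p := p) B ((normalizer_eq_top (H := N')).ge.trans' le_top)]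
    exact sup_le le_sup_right (le_sup_of_le_left
      (le_inf inf_le_right (inf_le_left.trans (wc_le_normalizer hwc B.2 hB))))

end Cfsg.Agent.S2839
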