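import Cfsg.Statements.S2840
import Cfsg.Agent.LocalStructure.WeaklyClosed

set_option autoImplicit false
open Cfsg

namespace Cfsg.Agent.S2840

open Subgroup CfsgLib.LocalStructure
open scoped commutatorElement

/-- Let Q be a nontrivial p-subgroup of the finite group H that is a weakly closed subgroup and K a subgroup containing Q; let K° be the weak closure of Q in K (generated by the H-conjugates of Q inside K). Then K° is generated by the K-conjugates of Q, and K° is the subnormal closure of Q in K. -/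
theorem result {H : Type*} [Group H] [Finite H] {p : ℕ} [Fact p.Prime] (Q : Subgroup H) (hQp : IsPGroup p ↥Q) (hQ1 : Q ≠ ⊥) (hwc : Cfsg.IsWeaklyClosedSubgroup p Q) (K : Subgroup H) (hQK : Q ≤ K) (Kc : Subgroup H) (hKc : Kc = Cfsg.weakClosure Q K) : Kc = ⨆ k : ↥K, ((Q : Subgroup H).map (MulAut.conj ((k : H) : H)).toMonoidHom) ∧ Kc = (Cfsg.subnormalClosure (Q.subgroupOf K)).map K.subtype := by
  subst hKc
  have h1 : weakClosure Q K = ⨆ k : ↥K, conjS (k : H) Q := by
    refine le_antisymm (weakClosure_le_iff.2 fun g hg => ?_) (iSup_le fun k => ?_)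
    · obtain ⟨k, hk, he⟩ := wc_conj_in hQp hwc hQK hg
      exact he.le.trans (le_iSup (fun k : ↥K => conjS (k : H) Q) ⟨k, hk⟩)
    · exact conjS_le_weakClosure ((conjS_mono hQK).trans
        (conj_map_eq_of_mem_normalizer (Subgroup.le_normalizer k.2)).le)
  have hWK : weakClosure Q K ≤ K := weakClosure_le
  refine ⟨h1, le_antisymm ?_ ?_⟩
  · rw [← map_subgroupOf_eq_of_le hWK]
    refine map_mono (le_sInf ?_)
    rintro S ⟨hQS, hS⟩
    suffices h : ∀ k : ↥K, conjS (k : H) Q ≤ S.map K.subtype by
      intro x hx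
      have := (h1.le.trans (iSup_le h)) hx
      obtain ⟨y, hy, he⟩ := this
      exact (Subtype.ext he : y = x) ▸ hy
    induction hS with
    | top =>
      exact fun k => le_trans (conjS_mono hQK)
        (le_trans (conjS_eq_self_iff.2 (Subgroup.le_normalizer k.2)).le
          (by rw [← MonoidHom.range_eq_map, range_subtype]))
    | step S S' hle _ hN ih =>
      intro k
      have hQS' : Q ≤ S'.map K.subtype := fun x hx => ⟨⟨x, hQK hx⟩, hle (hQS hx), rfl⟩
      obtain ⟨s, hs, he⟩ := wc_conj_in hQp hwc hQS' (ih (hQS.trans hle) k)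
      obtain ⟨t, ht, rfl⟩ := hs
      rw [he]
      rintro _ ⟨x, hx, rfl⟩
      refine ⟨t * ⟨x, hQK hx⟩ * t⁻¹, ?_, rfl⟩
      exact (mem_normalizer_iff.1 ((normal_subgroupOf_iff_le_normalizer hle).1 hN ht) _).1 (hQS hx)
  · refine le_trans (map_mono (sInf_le ⟨fun x hx => self_le_weakClosure hQK hx, ?_⟩))
      (map_subgroupOf_eq_of_le hWK).le
    exact ((normal_subgroupOf_iff_le_normalizer hWK).2 (Subgroup.le_normalizer.trans
      (normalizer_le_normalizer_weakClosure Q K))).isSubnormal

end Cfsg.Agent.S2840
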