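import Cfsg.Statements.S2841
import Cfsg.Agent.LocalStructure.WeaklyClosed

set_option autoImplicit false
open Cfsg

namespace Cfsg.Agent.S2841

open Subgroup CfsgLib.LocalStructure
open scoped commutatorElement

theorem le_normalizer_inf_comm {G : Type*} [Group G] (M Q : Subgroup G) {a : G}
    (ha : a ∈ normalizer (M : Set G) ⊓ normalizer (Q : Set G)) :
    a ∈ normalizer ((⁅M, Q⁆ : Subgroup G) : Set G) := by
  rw [mem_normalizer_iff]
  intro y
  have h : conjS a ⁅M, Q⁆ = ⁅M, Q⁆ := by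
    rw [conjS, map_commutator, conj_map_eq_of_mem_normalizer ha.1,
      conj_map_eq_of_mem_normalizer ha.2]
  conv_rhs => rw [← h, mem_conjS]
  simp [mul_assoc]

/-- Let Q be a nontrivial p-subgroup of the finite group H that is a weakly closed subgroup and N a normal subgroup of H. Then N = N_N(Q)·[N, Q] and [N, Q] = (Q ∩ [N, Q])·[N, Q, Q]. -/
theorem result {H : Type*} [Group H] [Finite H] {p : ℕ} [Fact p.Prime] (Q : Subgroup H) (hQp : IsPGroup p ↥Q) (hQ1 : Q ≠ ⊥) (hwc : Cfsg.IsWeaklyClosedSubgroup p Q) (N' : Subgroup H) [N'.Normal] : (∀ n : H, n ∈ N' → ∃ a ∈ N' ⊓ Subgroup.normalizer ((Q : Subgroup H) : Set H), ∃ b ∈ ⁅N', Q⁆, n = a * b) ∧ (∀ c : H, c ∈ ⁅N', Q⁆ → ∃ a ∈ Q ⊓ ⁅N', Q⁆, ∃ b ∈ ⁅⁅N', Q⁆, Q⁆, c = a * b) := by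
  set M := ⁅N', Q⁆ with hM
  have hMN : M ≤ N' := commutator_le_left _ _
  have hQM : Q ≤ normalizer (M : Set H) := normalizer_commutator_ge_right _ _
  have hNM : N' ≤ normalizer (M : Set H) := normalizer_commutator_ge_left _ _
  have h1 : ∀ n : H, n ∈ N' → ∃ a ∈ N' ⊓ normalizer (Q : Set H), ∃ b ∈ M, n = a * b := by
    intro n hn
    have hle : conjS n Q ≤ Q ⊔ M := by
      rintro _ ⟨q, hq, rfl⟩
      have e : n * q * n⁻¹ = ⁅n, q⁆ * q := by rw [commutatorElement_def]; group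
      show n * q * n⁻¹ ∈ Q ⊔ M
      rw [e]
      exact mul_mem (mem_sup_right (commutator_mem_commutator hn hq)) (mem_sup_left hq)
    obtain ⟨k, hk, he⟩ := wc_conj_in hQp hwc le_sup_left hle
    obtain ⟨q, hq, c, hc, rfl⟩ := exists_mul_of_mem_sup hQM hk
    set c' := q * c * q⁻¹
    have hc' : c' ∈ M := (mem_normalizer_iff.1 (hQM hq) c).1 hc
    have hcQ : c'⁻¹ * n ∈ normalizer (Q : Set H) := by
      rw [← conjS_eq_conjS_iff, he, show q * c = c' * q from by simp [c', mul_assoc], ← conjS_conjS,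
        conjS_eq_self_iff.2 (Subgroup.le_normalizer hq)]
    have hcN : c'⁻¹ * n ∈ N' := mul_mem (inv_mem (hMN hc')) hn
    refine ⟨c'⁻¹ * n, ⟨hcN, hcQ⟩, (c'⁻¹ * n)⁻¹ * c' * (c'⁻¹ * n)⁻¹⁻¹, ?_, by group⟩
    exact (mem_normalizer_iff.1 (hNM (inv_mem hcN)) c').1 hc'
  refine ⟨h1, fun c hc => ?_⟩
  have hX : Q ⊓ M ≤ normalizer ((⁅M, Q⁆ : Subgroup H) : Set H) :=
    inf_le_left.trans (normalizer_commutator_ge_right _ _)
  suffices hle : M ≤ Q ⊓ M ⊔ ⁅M, Q⁆ by
    obtain ⟨a, ha, b, hb, he⟩ := exists_mul_of_mem_sup hX (hle hc)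
    exact ⟨a, ha, b, hb, he.symm⟩
  refine commutator_le.2 fun n hn q hq => ?_
  obtain ⟨a, ha, b, hb, rfl⟩ := h1 n hn
  rw [commutatorElement_mul_left_eq_conj_mul]
  refine mul_mem (mem_sup_right ?_) (mem_sup_left ⟨?_, commutator_mem_commutator ha.1 hq⟩)
  · exact (mem_normalizer_iff.1 (((le_inf (hNM ha.1 |> fun h => show zpowers a ≤ normalizer (M : Set H) from zpowers_le.2 h)
      (zpowers_le.2 ha.2)).trans (le_inf inf_le_left inf_le_right |>.trans (le_refl _)) |> fun h =>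
        (le_normalizer_inf_comm M Q (h (mem_zpowers a))))) _).1 (commutator_mem_commutator hb hq)
  · rw [commutatorElement_def]
    exact Q.mul_mem ((mem_normalizer_iff.1 ha.2 q).1 hq) (Q.inv_mem hq)

end Cfsg.Agent.S2841
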