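import Cfsg.Statements.S2842
import Cfsg.Agent.LocalStructure.Large

set_option autoImplicit false
open Cfsg

namespace Cfsg.Agent.S2842

open Subgroup CfsgLib.LocalStructure
open scoped commutatorElement

/-- Let Q be a nontrivial p-subgroup of the finite group H that is a weakly closed subgroup with C_H(Q) ≤ Q, and Q ≤ L ≤ H. Suppose H has characteristic p, or more generally that C_H(y) has characteristic p for some nonidentity y ∈ C_{O_p(L)}(Q). Then [Q, C_H(O_p(L))] ≤ Q ∩ O_p(L), C_H(O_p(L)) is a p-group, and L has characteristic p. -/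
theorem result {H : Type*} [Group H] [Finite H] {p : ℕ} [Fact p.Prime] (Q : Subgroup H) (hQp : IsPGroup p ↥Q) (hQ1 : Q ≠ ⊥) (hwc : Cfsg.IsWeaklyClosedSubgroup p Q) (hCQ : Subgroup.centralizer ((Q : Subgroup H) : Set H) ≤ Q) (L : Subgroup H) (hQL : Q ≤ L) (hyp : Subgroup.centralizer (Cfsg.pCore p H : Set H) ≤ Cfsg.pCore p H ∨ ∃ y : H, y ≠ 1 ∧ y ∈ (Cfsg.pCoreOf p L) ⊓ Subgroup.centralizer ((Q : Subgroup H) : Set H) ∧ Subgroup.centralizer (Cfsg.pCore p ↥(Subgroup.centralizer ({y} : Set H)) : Set ↥(Subgroup.centralizer ({y} : Set H))) ≤ Cfsg.pCore p ↥(Subgroup.centralizer ({y} : Set H))) : ⁅Q, Subgroup.centralizer (((Cfsg.pCoreOf p L) : Subgroup H) : Set H)⁆ ≤ Q ⊓ (Cfsg.pCoreOf p L) ∧ IsPGroup p ↥(Subgroup.centralizer (((Cfsg.pCoreOf p L) : Subgroup H) : Set H)) ∧ Subgroup.centralizer (Cfsg.pCore p ↥L : Set ↥L) ≤ Cfsg.pCore p ↥L := by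
  have hE : CfsgLib.CharPLocal.IsCharP p (centralizer (Cfsg.pCoreOf p L : Set H)) := by
    rcases hyp with h | ⟨y, -, ⟨hyL, -⟩, hy⟩
    · have h' := (CfsgLib.CharPLocal.isCharP_top_iff (p := p)).2 h
      refine (h'.inf_normalizer (pCoreOf_isPGroup L) le_top).of_normal
        (le_inf le_top (centralizer_le_normalizer _)) ?_
      exact inf_le_right.trans (normalizer_le_normalizer_centralizer _)
    · exact CfsgLib.CharPLocal.isCharP_centralizer_of_mem
        ((CfsgLib.CharPLocal.isCharP_iff_type _).2 hy) _ _ le_rfl (pCoreOf_isPGroup L) hyL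
  obtain ⟨h1, h2, h3⟩ := wc_centralizer_pCoreOf hQp hwc hCQ hQL hE
  exact ⟨h1, h2, (CfsgLib.LocalStructure.charP_iff L).2 h3⟩

end Cfsg.Agent.S2842
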