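import Cfsg.Statements.S2843
import Cfsg.Agent.LocalStructure.Large

set_option autoImplicit false
open Cfsg

namespace Cfsg.Agent.S2843

open Subgroup CfsgLib.LocalStructure
open scoped commutatorElement

/-- Let Q be a nontrivial large p-subgroup of the finite group H, Q ≤ L ≤ H, and Y a nontrivial p-subgroup of H normalized by L. Let L° be the weak closure of Q in L (generated by the conjugates of Q inside L). Then L° equals the weak closure of Q in L·C_H(Y), and [L°, C_H(Y)] ≤ O_p(L°); in particular C_H(Y) normalizes L°. -/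
theorem result {H : Type*} [Group H] [Finite H] {p : ℕ} [Fact p.Prime] (Q : Subgroup H) (hQp : IsPGroup p ↥Q) (hQ1 : Q ≠ ⊥) (hL : Cfsg.IsLarge Q) (L : Subgroup H) (hQL : Q ≤ L) (Y : Subgroup H) (hYp : IsPGroup p ↥Y) (hY1 : Y ≠ ⊥) (hLY : L ≤ Subgroup.normalizer ((Y : Subgroup H) : Set H)) : Cfsg.weakClosure Q L = Cfsg.weakClosure Q (L ⊔ Subgroup.centralizer ((Y : Subgroup H) : Set H)) ∧ ⁅Cfsg.weakClosure Q L, Subgroup.centralizer ((Y : Subgroup H) : Set H)⁆ ≤ (Cfsg.pCoreOf p (Cfsg.weakClosure Q L)) ∧ Subgroup.centralizer ((Y : Subgroup H) : Set H) ≤ Subgroup.normalizer (((Cfsg.weakClosure Q L) : Subgroup H) : Set H) := by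
  have hwc := large_wc hQp hQ1 hL
  set C := centralizer ((Y : Subgroup H) : Set H)
  have hLC : L ≤ normalizer (C : Set H) := hLY.trans (normalizer_le_normalizer_centralizer Y)
  have hCQ : C ≤ normalizer (Q : Set H) :=
    centralizer_le_normalizer_large hQp hL hYp hY1 (hQL.trans hLY)
  have hCP : ∀ g : H, conjS g Q ≤ L → C ≤ normalizer (conjS g Q : Set H) := fun g hg =>
    centralizer_le_normalizer_large (hQp.map _) (isLarge_conjS g hL) hYp hY1 (hg.trans hLY)
  have hCW : C ≤ normalizer (weakClosure Q L : Set H) := fun c hc => by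
    refine mem_normalizer_of_forall fun y hy => ?_
    have : conjS c (weakClosure Q L) ≤ weakClosure Q L := by
      rw [conjS, map_le_iff_le_comap, weakClosure_le_iff]
      intro g hg
      rw [← map_le_iff_le_comap]
      exact (conj_map_eq_of_mem_normalizer (hCP g hg hc)).le.trans (conjS_le_weakClosure hg)
    exact this ⟨y, hy, rfl⟩
  refine ⟨le_antisymm (weakClosure_le_iff.2 fun g hg => conjS_le_weakClosure (hg.trans le_sup_left))
    (weakClosure_le_iff.2 fun g hg => ?_), ?_, hCW⟩
  · obtain ⟨k, hk, he⟩ := wc_conj_in hQp hwc (hQL.trans le_sup_left) hg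
    obtain ⟨l, hl, c, hc, rfl⟩ := exists_mul_of_mem_sup hLC hk
    rw [he, ← conjS_conjS, conjS_eq_self_iff.2 (hCQ hc)]
    exact conjS_le_weakClosure ((conjS_mono hQL).trans
      (conj_map_eq_of_mem_normalizer (Subgroup.le_normalizer hl)).le)
  · set R := Cfsg.pCoreOf p C ⊓ weakClosure Q L
    have hWn : weakClosure Q L ≤ normalizer (R : Set H) := le_normalizer_inf'
      (weakClosure_le.trans (hLC.trans (normalizer_le_normalizer_pCoreOf C))) Subgroup.le_normalizer
    have hRW : R ≤ Cfsg.pCoreOf p (weakClosure Q L) :=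
      le_pCoreOf inf_le_right hWn (pCoreOf_isPGroup C).to_inf_left
    let M : Subgroup H :=
      { carrier := {x | x ∈ normalizer (R : Set H) ∧ ∀ c ∈ C, ⁅x, c⁆ ∈ R}
        one_mem' := ⟨one_mem _, fun c _ => by simp [R.one_mem]⟩
        mul_mem' := fun {a b} ha hb => ⟨mul_mem ha.1 hb.1, fun c hc => by
          rw [commutatorElement_mul_left_eq_conj_mul]
          exact R.mul_mem ((mem_normalizer_iff.1 ha.1 _).1 (hb.2 c hc)) (ha.2 c hc)⟩
        inv_mem' := fun {a} ha => ⟨inv_mem ha.1, fun c hc => by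
          rw [commutatorElement_inv_left, ← commutatorElement_inv]
          simpa using (mem_normalizer_iff.1 (inv_mem ha.1) _).1 (R.inv_mem (ha.2 c hc))⟩ }
    have hWM : weakClosure Q L ≤ M := weakClosure_le_iff.2 fun g hg x hx =>
      ⟨hWn (conjS_le_weakClosure hg hx), fun c hc => by
        have hP := hCP g hg
        have hPC : conjS g Q ≤ normalizer (C : Set H) := hg.trans hLC
        have h1 : ⁅x, c⁆ ∈ conjS g Q :=
          le_normalizer_iff_commutator_le_left.1 hP (commutator_mem_commutator hx hc)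
        have h2 : ⁅x, c⁆ ∈ C :=
          le_normalizer_iff_commutator_le_right.1 hPC (commutator_mem_commutator hx hc)
        refine ⟨le_pCoreOf (inf_le_right : conjS g Q ⊓ C ≤ C)
          (le_normalizer_inf' hP Subgroup.le_normalizer) (hQp.map _).to_inf_left ⟨h1, h2⟩,
          conjS_le_weakClosure hg h1⟩⟩
    exact commutator_le.2 fun x hx c hc => hRW ((hWM hx).2 c hc)

end Cfsg.Agent.S2843
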