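import Cfsg.Statements.S2844
import Cfsg.Agent.LocalStructure.Large

set_option autoImplicit false
open Cfsg

namespace Cfsg.Agent.S2844

open Subgroup CfsgLib.LocalStructure
open scoped commutatorElement

/-- Let Q be a nontrivial large p-subgroup of the finite group H and Q• = O_p(N_H(Q)). Then for every g ∈ H outside N_H(Q): C_H(Q) ∩ C_H(gQg⁻¹) = 1, C_H(Q•) ∩ C_H(gQ•g⁻¹) = 1, Z(Q) ∩ Z(gQg⁻¹) = 1 and Z(Q•) ∩ Z(gQ•g⁻¹) = 1; moreover N_H(Q) = N_H(Q•) and Q• is large in H. -/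
theorem result {H : Type*} [Group H] [Finite H] {p : ℕ} [Fact p.Prime] (Q : Subgroup H) (hQp : IsPGroup p ↥Q) (hQ1 : Q ≠ ⊥) (hL : Cfsg.IsLarge Q) (Qb : Subgroup H) (hQb : Qb = Cfsg.largeBullet p Q) : (∀ g : H, g ∉ Subgroup.normalizer ((Q : Subgroup H) : Set H) → Subgroup.centralizer ((Q : Subgroup H) : Set H) ⊓ Subgroup.centralizer ((((Q : Subgroup H).map (MulAut.conj (g : H)).toMonoidHom) : Subgroup H) : Set H) = ⊥ ∧ Subgroup.centralizer ((Qb : Subgroup H) : Set H) ⊓ Subgroup.centralizer ((((Qb : Subgroup H).map (MulAut.conj (g : H)).toMonoidHom) : Subgroup H) : Set H) = ⊥ ∧ (Q ⊓ Subgroup.centralizer ((Q : Subgroup H) : Set H)) ⊓ (((Q : Subgroup H).map (MulAut.conj (g : H)).toMonoidHom) ⊓ Subgroup.centralizer ((((Q : Subgroup H).map (MulAut.conj (g : H)).toMonoidHom) : Subgroup H) : Set H)) = ⊥ ∧ (Qb ⊓ Subgroup.centralizer ((Qb : Subgroup H) : Set H)) ⊓ (((Qb : Subgroup H).map (MulAut.conj (g : H)).toMonoidHom) ⊓ Subgroup.centralizer ((((Qb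 : Subgroup H).map (MulAut.conj (g : H)).toMonoidHom) : Subgroup H) : Set H)) = ⊥) ∧ Subgroup.normalizer ((Q : Subgroup H) : Set H) = Subgroup.normalizer ((Qb : Subgroup H) : Set H) ∧ Cfsg.IsLarge Qb := by
  have hwc := large_wc hQp hQ1 hL
  subst hQb
  set N := normalizer ((Q : Subgroup H) : Set H)
  set Qb := Cfsg.pCoreOf p N
  have hQQb : Q ≤ Qb := le_pCoreOf Subgroup.le_normalizer le_rfl hQp
  have hmain : ∀ g : H, g ∉ N → centralizer (Q : Set H) ⊓ centralizer (conjS g Q : Set H) = ⊥ := by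
    intro g hg
    refine eq_bot_iff.2 fun u hu => mem_bot.2 (by_contra fun hu1 => hg ?_)
    have h1 := centralizer_le_normalizer_of_mem (isLarge_conjS g hL) hu.2 hu1
    have h2 := centralizer_le_normalizer_of_mem hL hu.1 hu1
    have hPC : conjS g Q ≤ centralizer ({u} : Set H) := fun x hx =>
      mem_centralizer_singleton_iff.2 (mem_centralizer_iff.1 hu.2 x hx)
    exact mem_normalizer_of_conjS_eq (wc_eq_of_normalizing hQp hwc (hPC.trans h2))
  have hN : N = normalizer ((Qb : Subgroup H) : Set H) :=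
    le_antisymm (le_normalizer_pCoreOf N) (wc_normalizer_le hwc (pCoreOf_isPGroup N) hQQb)
  have hC : centralizer (Qb : Set H) ≤ centralizer (Q : Set H) := centralizer_le hQQb
  refine ⟨fun g hg => ⟨hmain g hg, ?_, ?_, ?_⟩, hN, hC.trans (hL.1.trans hQQb), fun U hU hU1 => ?_⟩
  · exact eq_bot_iff.2 ((inf_le_inf hC (centralizer_le (conjS_mono hQQb))).trans (hmain g hg).le)
  · exact eq_bot_iff.2 ((inf_le_inf inf_le_right inf_le_right).trans (hmain g hg).le)
  · exact eq_bot_iff.2 ((inf_le_inf (inf_le_right.trans hC)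
      (inf_le_right.trans (centralizer_le (conjS_mono hQQb)))).trans (hmain g hg).le)
  · exact (large_normalizer_le hL (hU.trans hC) hU1).trans hN.le

end Cfsg.Agent.S2844
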