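import Cfsg.Statements.S2845
import Cfsg.Agent.LocalStructure.Large

set_option autoImplicit false
open Cfsg

namespace Cfsg.Agent.S2845

open Subgroup CfsgLib.LocalStructure
open scoped commutatorElement

/-- Let Q be a nontrivial large p-subgroup of the finite group H. Then for every subgroup L ≥ Q with O_p(L) ≠ 1, C_H(O_p(L)) is a p-group and L has characteristic p, and either the weak closure L° of Q in L equals Q or C_H(L°) = 1; for every subgroup R of H containing a Sylow p-subgroup of H with O_p(R) ≠ 1, C_H(O_p(R)) ≤ O_p(R); and H has parabolic characteristic p. -/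
theorem result {H : Type*} [Group H] [Finite H] {p : ℕ} [Fact p.Prime] (Q : Subgroup H) (hQp : IsPGroup p ↥Q) (hQ1 : Q ≠ ⊥) (hL : Cfsg.IsLarge Q) : (∀ L : Subgroup H, Q ≤ L → Cfsg.pCore p ↥L ≠ ⊥ → IsPGroup p ↥(Subgroup.centralizer (((Cfsg.pCoreOf p L) : Subgroup H) : Set H)) ∧ Subgroup.centralizer (Cfsg.pCore p ↥L : Set ↥L) ≤ Cfsg.pCore p ↥L ∧ (Cfsg.weakClosure Q L = Q ∨ Subgroup.centralizer (((Cfsg.weakClosure Q L) : Subgroup H) : Set H) = ⊥)) ∧ (∀ R : Subgroup H, Cfsg.IsParabolic p R → Cfsg.pCore p ↥R ≠ ⊥ → Subgroup.centralizer (((Cfsg.pCoreOf p R) : Subgroup H) : Set H) ≤ (Cfsg.pCoreOf p R)) ∧ Cfsg.IsOfParabolicCharacteristic p H := by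
  have hwc := large_wc hQp hQ1 hL
  have hne : ∀ {L : Subgroup H}, Cfsg.pCore p ↥L ≠ ⊥ → Cfsg.pCoreOf p L ≠ ⊥ := fun {L} h e =>
    h ((map_eq_bot_iff_of_injective _ L.subtype_injective).1 e)
  have hpar : ∀ R : Subgroup H, Cfsg.IsParabolic p R → Cfsg.pCore p ↥R ≠ ⊥ →
      centralizer ((Cfsg.pCoreOf p R : Subgroup H) : Set H) ≤ Cfsg.pCoreOf p R := fun R hR hY =>
    large_centralizer_parabolic hQp hQ1 hL hR (hne hY)
  refine ⟨fun L hQL hY => ?_, hpar, fun R hR hR1 hRpar => ?_⟩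
  · obtain ⟨h1, h2⟩ := large_centralizer_pCoreOf hQp hQ1 hL hQL (hne hY)
    refine ⟨h1, (CfsgLib.LocalStructure.charP_iff L).2 h2, ?_⟩
    rcases eq_or_ne (centralizer ((weakClosure Q L : Subgroup H) : Set H)) ⊥ with h | h
    · exact Or.inr h
    · left
      obtain ⟨u, hu, hu1⟩ := (centralizer ((weakClosure Q L : Subgroup H) : Set H)).ne_bot_iff_exists_ne_one.1 h
        |> fun ⟨x, hx⟩ => (⟨x.1, x.2, fun e => hx (Subtype.ext e)⟩ : ∃ u, u ∈ centralizer ((weakClosure Q L : Subgroup H) : Set H) ∧ u ≠ 1)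
      have hQW := self_le_weakClosure (Q := Q) hQL
      refine le_antisymm (weakClosure_le_iff.2 fun g hg => ?_) hQW
      have hle := conjS_le_weakClosure hg
      have hPC : conjS g Q ≤ centralizer ({u} : Set H) := fun x hx =>
        mem_centralizer_singleton_iff.2 (mem_centralizer_iff.1 hu x (hle hx))
      exact (wc_eq_of_normalizing hQp hwc (hPC.trans
        (centralizer_le_normalizer_of_mem hL (centralizer_le hQW hu) hu1))).le
  · have hne' : Cfsg.pCore p ↥(normalizer (R : Set H)) ≠ ⊥ := fun e => hR1 (by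
      have := le_pCoreOf (p := p) (N := R) Subgroup.le_normalizer le_rfl hR
      rw [Cfsg.pCoreOf, e, Subgroup.map_bot] at this
      exact le_bot_iff.1 this)
    exact (CfsgLib.LocalStructure.charP_iff _).2 (inf_le_right.trans (hpar _ hRpar hne'))

end Cfsg.Agent.S2845
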