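import Cfsg.Statements.S2846
import Cfsg.Agent.LocalStructure.FrakM
import Cfsg.Agent.S2843

set_option autoImplicit false
open Cfsg

namespace Cfsg.Agent.S2846

open Subgroup CfsgLib.LocalStructure
open scoped commutatorElement

/-- Let Q be a nontrivial large p-subgroup of the finite group H, S a Sylow p-subgroup containing Q, and L a subgroup containing S with O_p(L) ≠ 1 and C_H(O_p(L)) ≤ O_p(L). Then there are a subgroup M containing S having the basic property (M ∈ 𝔐_H, writing Y_X for the largest p-reduced normal subgroup of X and 𝓛_H for the set of subgroups X with O_p(X) ≠ 1 and C_H(O_p(X)) ≤ O_p(X): M ∈ 𝓛_H, M·C_H(Y_M) is the only maximal member of 𝓛_H containing M and its largest p-reduced normal subgroup is again Y_M, C_M(Y_M) is p-closed, and the image of C_M(Y_M) in M/O_p(M) lies in the Frattini subgroup of M/O_p(M)) and a subgroup L* with S ≤ L* ≤ M, O_p(L*) ≠ 1, C_H(O_p(L*)) ≤ O_p(L*), such that L·C_H(Y_L) = L*·C_H(Y_L), the weak closures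 of Q in L and in L* agree and lie in that of M, and Y_L = Y_{L*} ≤ Y_M. If moreover Q is not normal in L, then Q is normal in neither L* nor M. -/
theorem result {H : Type*} [Group H] [Finite H] {p : ℕ} [Fact p.Prime] (Q : Subgroup H) (hQp : IsPGroup p ↥Q) (hQ1 : Q ≠ ⊥) (hLg : Cfsg.IsLarge Q) (S : Sylow p H) (hQS : Q ≤ (S : Subgroup H)) (L : Subgroup H) (hSL : (S : Subgroup H) ≤ L) (hL : L ∈ Cfsg.charPSubgroups p H) : ∃ M Ls : Subgroup H, (S : Subgroup H) ≤ M ∧ Cfsg.IsInFrakM p M ∧ (S : Subgroup H) ≤ Ls ∧ Ls ≤ M ∧ Ls ∈ Cfsg.charPSubgroups p H ∧ L ⊔ Subgroup.centralizer (((Cfsg.largestPReducedOf p L) : Subgroup H) : Set H) = Ls ⊔ Subgroup.centralizer (((Cfsg.largestPReducedOf p L) : Subgroup H) : Set H) ∧ Cfsg.weakClosure Q L = Cfsg.weakClosure Q Ls ∧ Cfsg.weakClosure Q Ls ≤ Cfsg.weakClosure Q M ∧ (Cfsg.largestPReducedOf p L) = (Cfsg.largestPReducedOf p Ls) ∧ (Cfsg.largestPReducedOf p Ls) ≤ (Cfsg.largestPReducedOf p M) ∧ (¬ L ≤ Subgroup.normalizer ((Q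 : Subgroup H) : Set H) → ¬ Ls ≤ Subgroup.normalizer ((Q : Subgroup H) : Set H) ∧ ¬ M ≤ Subgroup.normalizer ((Q : Subgroup H) : Set H)) := by
  have hpar : IsOfParabolicCharacteristic p H := fun R hR hR1 hpar =>
    (CfsgLib.LocalStructure.charP_iff _).2 (inf_le_right.trans
      (large_centralizer_parabolic hQp hQ1 hLg hpar
        (pCoreOf_ne_bot_of_normalizes hR hR1 Subgroup.le_normalizer le_rfl)))
  obtain ⟨M, Ls, hSM, hM, hSLs, hLsM, hLs, hY, hYM, hsup⟩ := exists_frakM hpar S hSL hL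
  have hYp : IsPGroup p ↥(largestPReducedOf p L) :=
    isElementaryAbelian_isPGroup (isReducedIn_largest L).elab'
  have hY1 := largest_ne_bot S hSL hL
  have hLn := (isReducedIn_largest (p := p) L).le_normalizer
  have hLsn : Ls ≤ normalizer (largestPReducedOf p L : Set H) :=
    hY ▸ (isReducedIn_largest (p := p) Ls).le_normalizer
  have h1 := (Cfsg.Agent.S2843.result Q hQp hQ1 hLg L (hQS.trans hSL) _ hYp hY1 hLn).1
  have h2 := (Cfsg.Agent.S2843.result Q hQp hQ1 hLg Ls (hQS.trans hSLs) _ hYp hY1 hLsn).1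
  refine ⟨M, Ls, hSM, hM, hSLs, hLsM, hLs, hsup, by rw [h1, h2, hsup], ?_, hY, hY ▸ hYM, fun hL' => ?_⟩
  · exact weakClosure_le_iff.2 fun g hg => conjS_le_weakClosure (hg.trans hLsM)
  · have hn : ¬ Ls ≤ normalizer (Q : Set H) := fun h => hL' ((le_sup_left.trans hsup.le).trans
      (sup_le h (centralizer_le_normalizer_large hQp hLg hYp hY1 ((hQS.trans hSL).trans hLn))))
    exact ⟨hn, fun h => hn (hLsM.trans h)⟩

end Cfsg.Agent.S2846
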