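import Cfsg.Statements.S2848
import Cfsg.Agent.LocalStructure.Asymmetric

set_option autoImplicit false
open Cfsg

namespace Cfsg.Agent.S2848

open Subgroup CfsgLib.LocalStructure
open scoped commutatorElement

/-- Standing hypotheses: G a finite group, S a Sylow p-subgroup, Q a nontrivial large p-subgroup of G contained in S (C_G(Q) ≤ Q and N_G(U) ≤ N_G(Q) for all nontrivial U ≤ C_G(Q)), and M a subgroup containing S with the basic property (M ∈ 𝔐_G(S)); Y_M denotes the largest p-reduced normal subgroup of M and M† = M·C_G(Y_M). Then O_p(M) is a weakly closed subgroup of M† (for p): it is the only M†-conjugate of itself inside some Sylow p-subgroup of M† containing it. -/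
theorem result {G : Type*} [Group G] [Finite G] {p : ℕ} [Fact p.Prime] (S : Sylow p G) (Q : Subgroup G) (hQp : IsPGroup p ↥Q) (hQ1 : Q ≠ ⊥) (hQS : Q ≤ (S : Subgroup G)) (hQ : Cfsg.IsLarge Q) (M : Subgroup G) (hSM : (S : Subgroup G) ≤ M) (hM : Cfsg.IsInFrakM p M) : Cfsg.IsWeaklyClosedSubgroup p (((Cfsg.pCoreOf p M)).subgroupOf (M ⊔ Subgroup.centralizer (((Cfsg.largestPReducedOf p M) : Subgroup G) : Set G))) := by
  set X := M ⊔ centralizer (largestPReducedOf p M : Set G)
  set Q0 := pCoreOf p M
  have hQX : Q0 ≤ X := (pCoreOf_le M).trans le_sup_left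
  have hSX : (S : Subgroup G) ≤ X := hSM.trans le_sup_left
  refine ⟨S.subtype hSX, fun x hx => ?_, fun g hg => ?_⟩
  · rw [Sylow.coe_subtype]
    exact pCoreOf_le_sylow S hSM hx
  · refine Subgroup.eq_of_le_of_card_ge ?_
      (card_map_of_injective (MulAut.conj g).injective).ge
    rintro _ ⟨y, hy, rfl⟩
    have h1 := hg ⟨y, hy, rfl⟩
    rw [Sylow.coe_subtype] at h1
    refine (frakM_core S hSM hM).ge ⟨h1, ?_⟩
    exact (mem_normalizer_iff.1 ((frakM_le_normalizer.trans
      (normalizer_le_normalizer_centralizer _)) g.2) _).1 (frakM_core_le_centralizer hy)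

end Cfsg.Agent.S2848
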