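import Cfsg.Statements.S2849
import Cfsg.Agent.LocalStructure.Asymmetric

set_option autoImplicit false
open Cfsg

namespace Cfsg.Agent.S2849

open Subgroup CfsgLib.LocalStructure
open scoped commutatorElement

/-- Standing hypotheses: G a finite group, S a Sylow p-subgroup, Q a nontrivial large p-subgroup of G contained in S (C_G(Q) ≤ Q and N_G(U) ≤ N_G(Q) for all nontrivial U ≤ C_G(Q)), and M a subgroup containing S with the basic property (M ∈ 𝔐_G(S)); Y_M denotes the largest p-reduced normal subgroup of M and M† = M·C_G(Y_M). Suppose Y_M is asymmetric in G. Then for every subgroup R with Y_M ≤ R ≤ M†, the normal closure of Y_M in N_G(R) is elementary abelian. -/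
theorem result {G : Type*} [Group G] [Finite G] {p : ℕ} [Fact p.Prime] (S : Sylow p G) (Q : Subgroup G) (hQp : IsPGroup p ↥Q) (hQ1 : Q ≠ ⊥) (hQS : Q ≤ (S : Subgroup G)) (hQ : Cfsg.IsLarge Q) (M : Subgroup G) (hSM : (S : Subgroup G) ≤ M) (hM : Cfsg.IsInFrakM p M) (hasym : ¬ Cfsg.IsSymmetricIn (Cfsg.largestPReducedOf p M)) (R : Subgroup G) (hYR : (Cfsg.largestPReducedOf p M) ≤ R) (hRM : R ≤ (M ⊔ Subgroup.centralizer (((Cfsg.largestPReducedOf p M) : Subgroup G) : Set G))) : Cfsg.IsElementaryAbelian p ((Subgroup.normalClosure ((((Cfsg.largestPReducedOf p M)).subgroupOf (Subgroup.normalizer ((R : Subgroup G) : Set G)) : Subgroup ↥(Subgroup.normalizer ((R : Subgroup G) : Set G))) : Set ↥(Subgroup.normalizer ((R : Subgroup G) : Set G)))).map (Subgroup.normalizer ((R : Subgroup G) : Set G)).subtype) := by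
  set Y := largestPReducedOf p M
  set N := normalizer (R : Set G)
  have hRY : R ≤ normalizer (Y : Set G) := hRM.trans frakM_le_normalizer
  have hle : ∀ a ∈ N, conjS a Y ≤ normalizer (Y : Set G) := fun a ha =>
    (((conjS_mono hYR).trans (conj_map_eq_of_mem_normalizer ha).le)).trans hRY
  have hcom : ∀ a ∈ N, ∀ b ∈ N, ∀ x ∈ conjS a Y, ∀ y ∈ conjS b Y, x * y = y * x := by
    intro a ha b hb x hx y hy
    have hab : a⁻¹ * b ∈ N := mul_mem (inv_mem ha) hb
    have h := asym_le_centralizer hasym (hle _ hab) (le_normalizer_conjS_of_inv (hle _ (inv_mem hab)))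
    have h2 := conjS_mono (g := a) h
    rw [conjS_conjS, mul_inv_cancel_left, ← centralizer_conjS] at h2
    exact mem_centralizer_iff.1 (h2 hy) x hx
  have hE : IsElementaryAbelian p (Subgroup.closure {x | ∃ a ∈ N, x ∈ conjS a Y}) := by
    refine isElementaryAbelian_closure (fun x ⟨a, ha, hx⟩ y ⟨b, hb, hy⟩ => hcom a ha b hb x hx y hy)
      ?_
    rintro x ⟨a, -, hx⟩
    have e : x = MulAut.conj a (a⁻¹ * x * a) := by simp [mul_assoc]
    rw [e, ← map_pow, (isReducedIn_largest (p := p) M).elab'.2 _ (mem_conjS.1 hx), map_one]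
  refine isElementaryAbelian_of_le hE ?_
  rw [Subgroup.map_le_iff_le_comap, Subgroup.normalClosure, Subgroup.closure_le]
  intro z hz
  obtain ⟨y, hy, hc⟩ := Group.mem_conjugatesOfSet_iff.1 hz
  obtain ⟨c, hc⟩ := isConj_iff.1 hc
  refine subset_closure ⟨(c : G), c.2, mem_conjS.2 ?_⟩
  rw [← hc]
  show (c : G)⁻¹ * ((c : G) * (y : G) * (c : G)⁻¹) * (c : G) ∈ Y
  simpa [mul_assoc, mem_subgroupOf] using hy

end Cfsg.Agent.S2849
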