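import Cfsg.Statements.S2850
import Cfsg.Agent.LocalStructure.Asymmetric

set_option autoImplicit false
open Cfsg

namespace Cfsg.Agent.S2850

open Subgroup CfsgLib.LocalStructure
open scoped commutatorElement

/-- Standing hypotheses: G a finite group, S a Sylow p-subgroup, Q a nontrivial large p-subgroup of G contained in S (C_G(Q) ≤ Q and N_G(U) ≤ N_G(Q) for all nontrivial U ≤ C_G(Q)), and M a subgroup containing S with the basic property (M ∈ 𝔐_G(S)); Y_M denotes the largest p-reduced normal subgroup of M and M† = M·C_G(Y_M). Suppose Y_M is asymmetric in G. Then N_G(L) ≤ N_G(O_p(M)) ≤ M† for every p-subgroup L containing O_p(M); O_p(M) is a weakly closed subgroup of G; for every subgroup L containing O_p(M), L ∩ M† contains a Sylow p-subgroup of L; and two elements of Y_M conjugate in G are conjugate in M. -/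
theorem result {G : Type*} [Group G] [Finite G] {p : ℕ} [Fact p.Prime] (S : Sylow p G) (Q : Subgroup G) (hQp : IsPGroup p ↥Q) (hQ1 : Q ≠ ⊥) (hQS : Q ≤ (S : Subgroup G)) (hQ : Cfsg.IsLarge Q) (M : Subgroup G) (hSM : (S : Subgroup G) ≤ M) (hM : Cfsg.IsInFrakM p M) (hasym : ¬ Cfsg.IsSymmetricIn (Cfsg.largestPReducedOf p M)) : (∀ L : Subgroup G, IsPGroup p ↥L → (Cfsg.pCoreOf p M) ≤ L → Subgroup.normalizer ((L : Subgroup G) : Set G) ≤ Subgroup.normalizer (((Cfsg.pCoreOf p M) : Subgroup G) : Set G) ∧ Subgroup.normalizer (((Cfsg.pCoreOf p M) : Subgroup G) : Set G) ≤ (M ⊔ Subgroup.centralizer (((Cfsg.largestPReducedOf p M) : Subgroup G) : Set G))) ∧ Cfsg.IsWeaklyClosedSubgroup p (Cfsg.pCoreOf p M) ∧ (∀ L : Subgroup G, (Cfsg.pCoreOf p M) ≤ L → Cfsg.IsParabolic p ((L ⊓ (M ⊔ Subgroup.centralizer (((Cfsg.largestPReducedOf p M) : Subgroup G) : Set G))).subgroupOf L)) ∧ (∀ x ∈ (Cfsg.largestPReducedOf p M), ∀ g : G, g * x * g⁻¹ ∈ (Cfsg.largestPReducedOf p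 M) → ∃ m ∈ M, m * x * m⁻¹ = g * x * g⁻¹) := by
  have hG := parabolicChar_of_large hQp hQ1 hQ
  set Y := largestPReducedOf p M
  set X := M ⊔ centralizer (Y : Set G)
  set Q0 := pCoreOf p M
  have hX := asym_normalizer_core_le hG S hSM hM
  have hwc := asym_wc hG S hSM hM hasym
  refine ⟨fun L hL hQL => ⟨asym_normalizer_le hG S hSM hM hasym hL hQL, hX⟩, hwc,
    fun L hQL => ?_, fun x hx g hg => ?_⟩
  · obtain ⟨P, hP⟩ := ((pCoreOf_isPGroup (p := p) M).comap_subtype (K := L)).exists_le_sylow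
    have hPX := asym_le hG S hSM hM hasym (P.2.map L.subtype) fun z hz => ⟨⟨z, hQL hz⟩, hP hz, rfl⟩
    exact ⟨P, fun z hz => ⟨z.2, hPX ⟨z, hz, rfl⟩⟩⟩
  · set K := centralizer ({g * x * g⁻¹} : Set G)
    have hQK : ∀ z ∈ Y, Q0 ≤ centralizer ({z} : Set G) := fun z hz => frakM_core_le_centralizer.trans
      (centralizer_le (Set.singleton_subset_iff.2 hz))
    have hgK : conjS g Q0 ≤ K := by
      rintro _ ⟨q, hq, rfl⟩
      have := mem_centralizer_singleton_iff.1 (hQK x hx hq)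
      rw [mem_centralizer_singleton_iff]
      simp only [MulEquiv.toMonoidHom_eq_coe, MonoidHom.coe_coe, MulAut.conj_apply]
      calc g * q * g⁻¹ * (g * x * g⁻¹) = g * (q * x) * g⁻¹ := by group
        _ = g * (x * q) * g⁻¹ := by rw [this]
        _ = _ := by group
    obtain ⟨k, hk, he⟩ := wc_conj_in (pCoreOf_isPGroup M) hwc (hQK _ hg) hgK
    obtain ⟨m, hm, c, hc, hmc⟩ := exists_mul_of_mem_sup ((isReducedIn_largest M).le_normalizer.trans
      (normalizer_le_normalizer_centralizer _)) (hX (conjS_eq_conjS_iff.1 he))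
    refine ⟨m, hm, ?_⟩
    have h1 : c * x * c⁻¹ = x := by
      rw [← mem_centralizer_iff.1 hc x hx, mul_inv_cancel_right]
    have h2 : k⁻¹ * (g * x * g⁻¹) * k = g * x * g⁻¹ := by
      rw [mul_assoc, ← mem_centralizer_singleton_iff.1 hk, inv_mul_cancel_left]
    calc m * x * m⁻¹ = m * (c * x * c⁻¹) * m⁻¹ := by rw [h1]
      _ = (m * c) * x * (m * c)⁻¹ := by group
      _ = k⁻¹ * (g * x * g⁻¹) * k := by rw [hmc]; group
      _ = g * x * g⁻¹ := h2

end Cfsg.Agent.S2850
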