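import Cfsg.Statements.S2851
import Cfsg.Agent.LocalStructure.Asymmetric
import Cfsg.Agent.Components.FStar

set_option autoImplicit false
open Cfsg

namespace Cfsg.Agent.S2851

open Subgroup CfsgLib.LocalStructure
open scoped commutatorElement

/-- Standing hypotheses: G a finite group, S a Sylow p-subgroup, Q a nontrivial large p-subgroup of G contained in S, M a subgroup containing S with the basic property (M ∈ 𝔐_G(S)); Y_M the largest p-reduced normal subgroup of M and M† = M·C_G(Y_M). Let F be the preimage in M† of the generalized Fitting subgroup of M†/C_{M†}(Y_M). If Y_M is asymmetric in G and H is a subgroup of characteristic p containing F, then Y_M ≤ Y_H. -/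
theorem result {G : Type*} [Group G] [Finite G] {p : ℕ} [Fact p.Prime] (S : Sylow p G) (Q : Subgroup G) (hQp : IsPGroup p ↥Q) (hQ1 : Q ≠ ⊥) (hQS : Q ≤ (S : Subgroup G)) (hQ : Cfsg.IsLarge Q) (M : Subgroup G) (hSM : (S : Subgroup G) ≤ M) (hM : Cfsg.IsInFrakM p M) (hasym : ¬ Cfsg.IsSymmetricIn (Cfsg.largestPReducedOf p M)) [hn : ((Subgroup.centralizer (((Cfsg.largestPReducedOf p M) : Subgroup G) : Set G)).subgroupOf (M ⊔ Subgroup.centralizer (((Cfsg.largestPReducedOf p M) : Subgroup G) : Set G))).Normal] (F : Subgroup G) (hF : F = ((Cfsg.generalizedFittingSubgroup (↥(M ⊔ Subgroup.centralizer (((Cfsg.largestPReducedOf p M) : Subgroup G) : Set G)) ⧸ (Subgroup.centralizer (((Cfsg.largestPReducedOf p M) : Subgroup G) : Set G)).subgroupOf (M ⊔ Subgroup.centralizer (((Cfsg.largestPReducedOf p M) : Subgroup G) : Set G)))).comap (QuotientGroup.mk' ((Subgroup.centralizer (((Cfsg.largestPReducedOf p M) : Subgroup G) : Set G)).subgroupOf (M ⊔ Subgroup.centralizer (((Cfsg.largestPReducedOf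 p M) : Subgroup G) : Set G))))).map ((M ⊔ Subgroup.centralizer (((Cfsg.largestPReducedOf p M) : Subgroup G) : Set G))).subtype) (H : Subgroup G) (hFH : F ≤ H) (hH : Subgroup.centralizer (Cfsg.pCore p ↥H : Set ↥H) ≤ Cfsg.pCore p ↥H) : (Cfsg.largestPReducedOf p M) ≤ Cfsg.largestPReducedOf p H := by
  have hG := parabolicChar_of_large hQp hQ1 hQ
  set Y := largestPReducedOf p M
  set C := centralizer (Y : Set G)
  set X := M ⊔ C
  set F0 := generalizedFittingSubgroup (↥X ⧸ C.subgroupOf X)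
  set f := QuotientGroup.mk' (C.subgroupOf X)
  have hCH : C ≤ H := by
    refine le_trans (fun c hc => ?_) hFH
    rw [hF]
    refine ⟨⟨c, le_sup_right (a := M) hc⟩, ?_, rfl⟩
    show f ⟨c, _⟩ ∈ F0
    rw [show f ⟨c, le_sup_right (a := M) hc⟩ = 1 from (QuotientGroup.eq_one_iff _).2 hc]
    exact one_mem _
  have hYr : IsReducedIn p Y X := by
    rw [show Y = largestPReducedOf p X from hM.2.2.2.1]
    exact isReducedIn_largest X
  have hK : pCore p (↥X ⧸ C.subgroupOf X) = ⊥ := by
    refine eq_bot_iff.2 fun z hz => ?_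
    obtain ⟨d, rfl⟩ := QuotientGroup.mk'_surjective _ z
    rw [mem_bot, QuotientGroup.mk'_apply, QuotientGroup.eq_one_iff, mem_subgroupOf]
    have hn := (pCore_normal (p := p) (G := ↥X ⧸ C.subgroupOf X)).comap f
    refine hYr.reduced (((pCore p (↥X ⧸ C.subgroupOf X)).comap f).map X.subtype) (map_subtype_le _)
      (fun x hx => mem_normalizer_of_forall ?_) ?_ ⟨d, hz, rfl⟩
    · rintro _ ⟨e, he, rfl⟩
      exact ⟨_, hn.conj_mem e he ⟨x, hx⟩, rfl⟩
    · rintro _ ⟨e, he, rfl⟩
      obtain ⟨k, hk⟩ := pCore_isPGroup ⟨_, he⟩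
      refine ⟨k, ?_⟩
      have := (QuotientGroup.eq_one_iff (N := C.subgroupOf X) (e ^ p ^ k)).1
        (by simpa [f] using congrArg Subtype.val hk)
      simpa [mem_subgroupOf] using this
  have hred : IsReducedIn p Y (H ⊓ X) := by
    refine ⟨le_inf ((le_centralizer_of_isElementaryAbelian hYr.elab').trans hCH) hYr.le,
      inf_le_right.trans hYr.le_normalizer, hYr.elab', fun D hD hn hp => ?_⟩
    set P := (D.subgroupOf X).map f
    have hPp : IsPGroup p P := by
      rintro ⟨_, d, hd, rfl⟩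
      obtain ⟨k, hk⟩ := hp _ hd
      refine ⟨k, Subtype.ext ?_⟩
      show (f d) ^ p ^ k = 1
      rw [← map_pow]
      exact (QuotientGroup.eq_one_iff _).2 (by simpa [mem_subgroupOf] using hk)
    have hPn : F0 ≤ normalizer (P : Set (↥X ⧸ C.subgroupOf X)) := by
      intro a ha
      obtain ⟨x, rfl⟩ := QuotientGroup.mk'_surjective _ a
      refine mem_normalizer_of_forall ?_
      rintro _ ⟨d, hd, rfl⟩
      have hxH : (x : G) ∈ H ⊓ X := ⟨hFH (hF ▸ ⟨x, ha, rfl⟩), x.2⟩
      exact ⟨x * d * x⁻¹, (mem_normalizer_iff.1 (hn hxH) _).1 hd, by simp [f]⟩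
    have hF0 : F0.Normal := by
      haveI := CfsgLib.Components.layer_normal (G := ↥X ⧸ C.subgroupOf X)
      haveI := CfsgLib.Components.fittingSubgroup_normal (G := ↥X ⧸ C.subgroupOf X)
      exact Subgroup.sup_normal _ _
    have hi : P ⊓ F0 = ⊥ := eq_bot_iff.2 ((le_pCoreOf inf_le_right (le_normalizer_inf' hPn
      Subgroup.le_normalizer) hPp.to_inf_left).trans
      ((pCoreOf_le_of_isSubnormal hF0.isSubnormal).trans hK.le))
    have hPC : P ≤ centralizer (F0 : Set (↥X ⧸ C.subgroupOf X)) :=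
      commutator_eq_bot_iff_le_centralizer.1 (eq_bot_iff.2 (hi ▸ le_inf
        (le_normalizer_iff_commutator_le_left.1 hPn) (Subgroup.commutator_le_right P F0)))
    have hP : P = ⊥ := eq_bot_iff.2 (hi ▸ le_inf le_rfl
      (hPC.trans CfsgLib.Components.centralizer_generalizedFitting_le_self))
    intro d hd
    have : f ⟨d, (hD hd).2⟩ = 1 := mem_bot.1 (hP ▸ ⟨_, hd, rfl⟩)
    exact mem_subgroupOf.1 ((QuotientGroup.eq_one_iff (N := C.subgroupOf X) ⟨d, (hD hd).2⟩).1 this)
  have hQH : pCoreOf p M ≤ H := frakM_core_le_centralizer.trans hCH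
  obtain ⟨P, hP⟩ := ((pCoreOf_isPGroup (p := p) M).comap_subtype (K := H)).exists_le_sylow
  refine hred.le_largest_of_le hH P (le_inf (map_subtype_le _)
    (asym_le hG S hSM hM hasym (P.2.map H.subtype) fun z hz => ⟨⟨z, hQH hz⟩, hP hz, rfl⟩))
    inf_le_left

end Cfsg.Agent.S2851
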