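import Cfsg.Statements.S2853
import Cfsg.Agent.LocalStructure.FrakH

set_option autoImplicit false
open Cfsg

namespace Cfsg.Agent.S2853

open Subgroup CfsgLib.LocalStructure
open scoped commutatorElement

/-- Standing hypotheses: G a finite group, S a Sylow p-subgroup, Q a nontrivial large p-subgroup of G contained in S, M a subgroup containing S with the basic property (M ∈ 𝔐_G(S)); Y_M the largest p-reduced normal subgroup of M and M† = M·C_G(Y_M). Suppose Y_M is char-p-tall and asymmetric in G and H ∈ ℌ_G(O_p(M)). Then every Sylow p-subgroup of H ∩ M† is a Sylow p-subgroup of H; O_p(H) normalizes O_p(M) and Y_M; O^p(H) = [O^p(H), Y_M] and H = O^p(H)·O_p(M); O^p(H)·Y_M is the normal closure of Y_M in H; and H is the normal closure of O_p(M) in H. Here O^p(H) is the subgroup generated by the elements of H of order prime to p. -/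
theorem result {G : Type*} [Group G] [Finite G] {p : ℕ} [Fact p.Prime] (S : Sylow p G) (Q : Subgroup G) (hQp : IsPGroup p ↥Q) (hQ1 : Q ≠ ⊥) (hQS : Q ≤ (S : Subgroup G)) (hQ : Cfsg.IsLarge Q) (M : Subgroup G) (hSM : (S : Subgroup G) ≤ M) (hM : Cfsg.IsInFrakM p M) (htall : Cfsg.IsCharPTall p (Cfsg.largestPReducedOf p M)) (hasym : ¬ Cfsg.IsSymmetricIn (Cfsg.largestPReducedOf p M)) (H : Subgroup G) (hH : Cfsg.IsInFrakH p M H) (R : Subgroup G) (hR : R = (Cfsg.pResidual p ↥H).map H.subtype) : (∀ T : Sylow p ↥(H ⊓ (M ⊔ Subgroup.centralizer (((Cfsg.largestPReducedOf p M) : Subgroup G) : Set G))), ∃ P : Sylow p ↥H, ((P : Subgroup ↥H).map H.subtype) = (T : Subgroup ↥(H ⊓ (M ⊔ Subgroup.centralizer (((Cfsg.largestPReducedOf p M) : Subgroup G) : Set G)))).map (H ⊓ (M ⊔ Subgroup.centralizer (((Cfsg.largestPReducedOf p M) : Subgroup G) : Set G))).subtype) ∧ Cfsg.pCoreOf p H ≤ Subgroup.normalizer (((Cfsg.pCoreOf p M) : Subgroup G) : Set G) ⊓ Subgroup.normalizer (((Cfsg.largestPReducedOf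 p M) : Subgroup G) : Set G) ∧ ⁅R, (Cfsg.largestPReducedOf p M)⁆ = R ∧ R ⊔ (Cfsg.pCoreOf p M) = H ∧ R ⊔ (Cfsg.largestPReducedOf p M) = (Subgroup.normalClosure ((((Cfsg.largestPReducedOf p M)).subgroupOf H : Subgroup ↥H) : Set ↥H)).map H.subtype ∧ (Subgroup.normalClosure ((((Cfsg.pCoreOf p M)).subgroupOf H : Subgroup ↥H) : Set ↥H)).map H.subtype = H := by
  have hG := parabolicChar_of_large hQp hQ1 hQ
  set X := M ⊔ centralizer (largestPReducedOf p M : Set G)
  have hwc := asym_wc hG S hSM hM hasym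
  rw [map_pResidual] at hR
  subst hR
  obtain ⟨h1, h2⟩ := frakH_commutator hH
  refine ⟨fun T => ?_, le_inf (frakH_core_le_normalizer hwc hH.2.1)
    ((frakH_core_le_normalizer hwc hH.2.1).trans (frakM_normalizer_core S hSM hM)), h1,
    frakH_pResOf_sup hH, h2, frakH_ncl hH⟩
  obtain ⟨P0, hP0⟩ := ((pCoreOf_isPGroup (p := p) M).comap_subtype (K := H)).exists_le_sylow
  have hP0X : (P0 : Subgroup ↥H).map H.subtype ≤ H ⊓ X := le_inf (map_subtype_le _)
    (asym_le hG S hSM hM hasym (P0.2.map H.subtype) fun z hz => ⟨⟨z, hH.2.1 hz⟩, hP0 hz, rfl⟩)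
  set T' := (T : Subgroup ↥(H ⊓ X)).map (H ⊓ X).subtype
  have hT'H : T' ≤ H := (map_subtype_le _).trans inf_le_left
  obtain ⟨P, hP⟩ := ((T.2.map (H ⊓ X).subtype).comap_subtype (K := H)).exists_le_sylow
  refine ⟨P, (Subgroup.eq_of_le_of_card_ge (H := T') (K := (P : Subgroup ↥H).map H.subtype)
    (fun z hz => ⟨⟨z, hT'H hz⟩, hP hz, rfl⟩) ?_).symm⟩
  obtain ⟨P1, hP1⟩ := ((P0.2.map H.subtype).comap_subtype (K := H ⊓ X)).exists_le_sylow
  rw [card_map_of_injective H.subtype_injective, P.card_eq_multiplicity, ← P0.card_eq_multiplicity,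
    card_map_of_injective (H ⊓ X).subtype_injective, T.card_eq_multiplicity,
    ← P1.card_eq_multiplicity]
  calc Nat.card ↥(P0 : Subgroup ↥H)
      = Nat.card ↥((P0 : Subgroup ↥H).map H.subtype) :=
        (card_map_of_injective H.subtype_injective).symm
    _ = Nat.card ↥(((P0 : Subgroup ↥H).map H.subtype).subgroupOf (H ⊓ X)) :=
        (Nat.card_congr (subgroupOfEquivOfLe hP0X).toEquiv).symm
    _ ≤ _ := Nat.card_le_card_of_injective _ (inclusion_injective hP1)

end Cfsg.Agent.S2853
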