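import Cfsg.Statements.S2854
import Cfsg.Agent.LocalStructure.FrakH

set_option autoImplicit false
open Cfsg

namespace Cfsg.Agent.S2854

open Subgroup CfsgLib.LocalStructure
open scoped commutatorElement

/-- Standing hypotheses: G a finite group, S a Sylow p-subgroup, Q a nontrivial large p-subgroup of G contained in S, M a subgroup containing S with the basic property (M ∈ 𝔐_G(S)); Y_M the largest p-reduced normal subgroup of M and M† = M·C_G(Y_M). Suppose Y_M is asymmetric in G, H ∈ ℌ_G(O_p(M)), and H ≤ N_G(gQg⁻¹) for some g ∈ G. Then gQg⁻¹ ≤ O_p(H·gQg⁻¹) ≤ N_G(O_p(M)) ≤ N_G(Y_M) = M†; H is normal in H·gQg⁻¹ with O^p(H) = O^p(H·gQg⁻¹); and H·gQg⁻¹ is p-irreducible. -/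
theorem result {G : Type*} [Group G] [Finite G] {p : ℕ} [Fact p.Prime] (S : Sylow p G) (Q : Subgroup G) (hQp : IsPGroup p ↥Q) (hQ1 : Q ≠ ⊥) (hQS : Q ≤ (S : Subgroup G)) (hQ : Cfsg.IsLarge Q) (M : Subgroup G) (hSM : (S : Subgroup G) ≤ M) (hM : Cfsg.IsInFrakM p M) (hasym : ¬ Cfsg.IsSymmetricIn (Cfsg.largestPReducedOf p M)) (H : Subgroup G) (hH : Cfsg.IsInFrakH p M H) (g : G) (hHQ : H ≤ Subgroup.normalizer ((((Q : Subgroup G).map (MulAut.conj (g : G)).toMonoidHom) : Subgroup G) : Set G)) : ((Q : Subgroup G).map (MulAut.conj (g : G)).toMonoidHom) ≤ Cfsg.pCoreOf p (H ⊔ ((Q : Subgroup G).map (MulAut.conj (g : G)).toMonoidHom)) ∧ Cfsg.pCoreOf p (H ⊔ ((Q : Subgroup G).map (MulAut.conj (g : G)).toMonoidHom)) ≤ Subgroup.normalizer (((Cfsg.pCoreOf p M) : Subgroup G) : Set G) ∧ Subgroup.normalizer (((Cfsg.pCoreOf p M) : Subgroup G) : Set G) ≤ Subgroup.normalizer (((Cfsg.largestPReducedOf p M) : Subgroup G) : Set G) ∧ Subgroup.normalizer (((Cfsg.largestPReducedOf p M) : Subgroup G) : Set G)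 = (M ⊔ Subgroup.centralizer (((Cfsg.largestPReducedOf p M) : Subgroup G) : Set G)) ∧ (H.subgroupOf (H ⊔ ((Q : Subgroup G).map (MulAut.conj (g : G)).toMonoidHom))).Normal ∧ (Cfsg.pResidual p ↥H).map H.subtype = (Cfsg.pResidual p ↥(H ⊔ ((Q : Subgroup G).map (MulAut.conj (g : G)).toMonoidHom))).map (H ⊔ ((Q : Subgroup G).map (MulAut.conj (g : G)).toMonoidHom)).subtype ∧ Cfsg.IsPIrreducible p ↥(H ⊔ ((Q : Subgroup G).map (MulAut.conj (g : G)).toMonoidHom)) := by
  have hG := parabolicChar_of_large hQp hQ1 hQ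
  have hwc := asym_wc hG S hSM hM hasym
  set P := Q.map (MulAut.conj g).toMonoidHom
  set HP := H ⊔ P
  set Y := largestPReducedOf p M
  set Q0 := pCoreOf p M
  have hPp : IsPGroup p P := hQp.map _
  have hHP : HP ≤ normalizer (P : Set G) := sup_le hHQ Subgroup.le_normalizer
  have hPO : P ≤ pCoreOf p HP := CfsgLib.LocalStructure.le_pCoreOf le_sup_right hHP hPp
  have hON : pCoreOf p HP ≤ normalizer (Q0 : Set G) :=
    frakH_core_le_normalizer hwc (hH.2.1.trans le_sup_left)
  have hPQ0 : P ≤ normalizer (Q0 : Set G) := hPO.trans hON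
  -- `H ⊴ HP`
  let K : Subgroup G :=
    { carrier := {y | y ∈ H ∧ ∀ a ∈ P, a * y * a⁻¹ ∈ H}
      one_mem' := ⟨one_mem _, fun a _ => by simp [H.one_mem]⟩
      mul_mem' := fun {x y} hx hy => ⟨mul_mem hx.1 hy.1, fun a ha => by
        rw [show a * (x * y) * a⁻¹ = (a * x * a⁻¹) * (a * y * a⁻¹) by group]
        exact mul_mem (hx.2 a ha) (hy.2 a ha)⟩
      inv_mem' := fun {x} hx => ⟨inv_mem hx.1, fun a ha => by
        rw [show a * x⁻¹ * a⁻¹ = (a * x * a⁻¹)⁻¹ by group]
        exact inv_mem (hx.2 a ha)⟩ }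
  have hHK : H ≤ K := (frakH_ncl hH).ge.trans (nclIn_le_of
    (fun q hq => ⟨hH.2.1 hq, fun a ha => hH.2.1 ((mem_normalizer_iff.1 (hPQ0 ha) q).1 hq)⟩)
    fun h hh => mem_normalizer_of_forall fun y hy => ⟨mul_mem (mul_mem hh hy.1) (inv_mem hh),
      fun a ha => by
        have ha' : h⁻¹ * a * h ∈ P := by
          simpa using (mem_normalizer_iff.1 (hHQ (inv_mem hh)) a).1 ha
        rw [show a * (h * y * h⁻¹) * a⁻¹ = h * ((h⁻¹ * a * h) * y * (h⁻¹ * a * h)⁻¹) * h⁻¹ by group]
        exact mul_mem (mul_mem hh (hy.2 _ ha')) (inv_mem hh)⟩)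
  have hPH : P ≤ normalizer (H : Set G) := fun a ha =>
    mem_normalizer_of_forall fun y hy => (hHK hy).2 a ha
  have hHn : HP ≤ normalizer (H : Set G) := sup_le Subgroup.le_normalizer hPH
  have hres : pResOf p H = pResOf p HP := le_antisymm (pResOf_mono le_sup_left)
    (pResOf_le_of_forall fun x hx hc => by
      obtain ⟨k, hk⟩ := exists_pow_mem_of_mem_sup hPp hPH ((sup_comm H P).le hx)
      exact mem_pResOf (mem_of_coprime_of_pow_mem hc hk) hc)
  refine ⟨hPO, hON, frakM_normalizer_core S hSM hM, frakM_normalizer hG S hSM hM,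
    normal_subgroupOf_of_le_normalizer hHn, by rw [map_pResidual, map_pResidual, hres], ?_, ?_⟩
  · intro h
    have h1 : IsPClosed p ↥H := (isPClosed_top_iff.2 h) |> fun h => by
      rw [isPClosed_subgroup_iff] at h ⊢
      intro x hx hp
      obtain ⟨k, hk⟩ := hp
      have h2 := h (⟨x, le_sup_left (b := P) hx⟩ : ↥HP) (mem_top _) ⟨k, Subtype.ext (by simpa using hk)⟩
      rw [pCoreOf_top] at h2
      exact pCoreOf_inf_le le_sup_left ⟨⟨_, h2, rfl⟩, hx⟩
    exact hH.2.2.1 fun y hy => (isPClosed_subgroup_iff H).1 h1 y (frakH_Y_le hH hy)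
      (isPEl_of_mem (isElementaryAbelian_isPGroup (isReducedIn_largest (p := p) M).elab') hy)
  · intro N hN hNc
    have : (pResidual p ↥HP).Normal := pResidual_normal
    set R := pResidual p ↥HP
    set f := HP.subtype
    have hf : Function.Injective f := HP.subtype_injective
    have hRmap : R.map f = pResOf p H := (map_pResidual HP).trans hres.symm
    have hRH : pResOf p H ≤ H := pResOf_le H
    by_contra hRN
    set E := R ⊓ N
    set E' := E.map f
    have hEH : E' ≤ H := (map_mono inf_le_left).trans (hRmap.le.trans hRH)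
    have hEn : H ≤ normalizer (E' : Set G) := fun x hx =>
      mem_normalizer_of_forall fun z hz => by
        obtain ⟨e, he, rfl⟩ := hz
        exact ⟨_, (Subgroup.Normal.conj_mem inferInstance e he ⟨x, le_sup_left (b := P) hx⟩), rfl⟩
    set J := E' ⊔ Q0
    have hJlt : J < H := by
      refine lt_of_le_of_ne (sup_le hEH hH.2.1) fun hJ => hRN ?_
      have h1 : pResOf p H ≤ E' := pResOf_le_of_forall fun x hx hc => by
        obtain ⟨k, hk⟩ := exists_pow_mem_of_mem_sup (pCoreOf_isPGroup M) (hH.2.1.trans hEn)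
          ((sup_comm E' Q0).le (hJ.ge hx))
        exact mem_of_coprime_of_pow_mem hc hk
      exact ((map_le_map_iff_of_injective hf).1 (hRmap.le.trans h1)).trans inf_le_right
    have hYJ : Y ≤ pCoreOf p J := hH.2.2.2 J le_sup_right hJlt
    set O := pCoreOf p E'
    have hOH : H ≤ normalizer (O : Set G) := hEn.trans (normalizer_le_normalizer_pCoreOf E')
    have hEJ : pCoreOf p J ⊓ E' ≤ O := pCoreOf_inf_le le_sup_left
    let K1 : Subgroup G :=
      { carrier := {x | x ∈ H ∧ ∀ e ∈ E', ⁅x, e⁆ ∈ O}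
        one_mem' := ⟨one_mem _, fun e _ => by simp [O.one_mem]⟩
        mul_mem' := fun {a b} ha hb => ⟨mul_mem ha.1 hb.1, fun e he => by
          rw [commutatorElement_mul_left_eq_conj_mul]
          exact O.mul_mem ((mem_normalizer_iff.1 (hOH ha.1) _).1 (hb.2 e he)) (ha.2 e he)⟩
        inv_mem' := fun {a} ha => ⟨inv_mem ha.1, fun e he => by
          rw [commutatorElement_inv_left, ← commutatorElement_inv]
          simpa using (mem_normalizer_iff.1 (inv_mem (hOH ha.1)) _).1 (O.inv_mem (ha.2 e he))⟩ }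
    have hYK : ∀ y ∈ Y, ∀ e ∈ E', ⁅y, e⁆ ∈ O := fun y hy e he => hEJ
      ⟨le_normalizer_iff_commutator_le_left.1
          ((le_sup_left : E' ≤ J).trans (le_normalizer_pCoreOf J))
          (commutator_mem_commutator (hYJ hy) he),
        le_normalizer_iff_commutator_le_right.1 ((frakH_Y_le hH).trans hEn)
          (commutator_mem_commutator hy he)⟩
    have hK1n : H ≤ normalizer (K1 : Set G) := fun h hh => mem_normalizer_of_forall fun y hy =>
      ⟨mul_mem (mul_mem hh hy.1) (inv_mem hh), fun e he => by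
        have he' : h⁻¹ * e * h ∈ E' := by
          simpa using (mem_normalizer_iff.1 (hEn (inv_mem hh)) e).1 he
        have := (mem_normalizer_iff.1 (hOH hh) _).1 (hy.2 _ he')
        rw [conjugate_commutatorElement] at this
        simpa [mul_assoc] using this⟩
    have hRK1 : pResOf p H ≤ K1 := (frakH_res_le_ncl hH).trans
      (nclIn_le_of (fun y hy => ⟨frakH_Y_le hH hy, hYK y hy⟩) hK1n)
    have hOE : (pCoreOf p E).map f = O := by
      apply le_antisymm
      · exact CfsgLib.LocalStructure.le_pCoreOf (map_mono (pCoreOf_le E))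
          ((map_mono (le_normalizer_pCoreOf E)).trans (le_normalizer_map f))
          ((pCoreOf_isPGroup E).map f)
      · have h1 : O.comap f ≤ pCoreOf p E := CfsgLib.LocalStructure.le_pCoreOf
          (fun x hx => by
            obtain ⟨e, he, h2⟩ := pCoreOf_le E' hx
            exact hf h2 ▸ he)
          ((map_le_iff_le_comap.1 (le_normalizer_pCoreOf E')).trans (le_normalizer_comap f))
          ((pCoreOf_isPGroup E').comap_of_injective f hf)
        refine le_trans ?_ (map_mono h1)
        rw [map_comap_eq, range_subtype]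
        exact le_inf (((pCoreOf_le E').trans hEH).trans le_sup_left) le_rfl
    have hYle : Y ≤ HP := (frakH_Y_le hH).trans le_sup_left
    refine hNc (isPClosed_of_irreducible_step (R := R) (N := N) (Y := Y.subgroupOf HP) ?_ ?_ ?_ ?_)
    · refine map_injective hf ?_
      rw [map_commutator, hRmap, map_subgroupOf_eq_of_le hYle]
      exact (frakH_commutator hH).1
    · rw [← map_le_map_iff_of_injective hf, hOE, map_commutator, map_subgroupOf_eq_of_le hYle]
      exact commutator_le.2 fun e he y hy => by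
        rw [← commutatorElement_inv]; exact inv_mem (hYK y hy e he)
    · rw [← map_le_map_iff_of_injective hf, hOE, map_commutator, hRmap]
      exact commutator_le.2 fun e he r hr => by
        rw [← commutatorElement_inv]; exact inv_mem ((hRK1 hr).2 e he)
    · intro n hn
      obtain ⟨k, hk⟩ := isPGroup_quotient_pResidual (p := p) (G := ↥HP) (n : ↥HP ⧸ R)
      rw [← QuotientGroup.mk_pow, QuotientGroup.eq_one_iff] at hk
      exact ⟨k, hk, pow_mem hn _⟩

end Cfsg.Agent.S2854
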