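import Cfsg.Statements.S2860
import Cfsg.Agent.LocalEven48.LargeSection

set_option autoImplicit false
open Cfsg

namespace Cfsg.Agent.S2860

/-- Let Q be a nontrivial large p-subgroup of the finite group H, U a nontrivial elementary abelian p-subgroup of H, and Q ≤ E ≤ N_H(U) with Q not normal in E. Suppose O_p(E/C_E(U)) = 1 and O^p(E)·C_E(U)/C_E(U) is quasisimple. Let E° be the weak closure of Q in E (generated by the conjugates of Q inside E) and E_∘ = O^p(E°). Then O^p(E)·C_E(U) = E_∘·C_E(U); E_∘ is perfect and equals O^p(E_∘); E_∘/C_{E_∘}(U) and E_∘/O_p(E_∘) are quasisimple; and E_∘ = [E_∘, Y] for every p-subgroup Y of E not centralizing U. -/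
theorem result {G : Type*} [Group G] [Finite G] {p : ℕ} [Fact p.Prime] (Q : Subgroup G) (hQp : IsPGroup p ↥Q) (hQ1 : Q ≠ ⊥) (hQ : Cfsg.IsLarge Q) (U : Subgroup G) (hU : Cfsg.IsElementaryAbelian p U) (hU1 : U ≠ ⊥) (E : Subgroup G) (hQE : Q ≤ E) (hEU : E ≤ Subgroup.normalizer ((U : Subgroup G) : Set G)) (hQn : ¬ E ≤ Subgroup.normalizer ((Q : Subgroup G) : Set G)) [hn : ((Subgroup.centralizer ((U : Subgroup G) : Set G)).subgroupOf E).Normal] (hred : Cfsg.pCore p (↥E ⧸ (Subgroup.centralizer ((U : Subgroup G) : Set G)).subgroupOf E) = ⊥) (hqs : Cfsg.IsQuasisimple ↥(((Cfsg.pResidual p ↥E) ⊔ (Subgroup.centralizer ((U : Subgroup G) : Set G)).subgroupOf E).map (QuotientGroup.mk' ((Subgroup.centralizer ((U : Subgroup G) : Set G)).subgroupOf E)))) (Er : Subgroup G) (hEr : Er = ((Cfsg.pResidual p ↥(Cfsg.weakClosure Q E)).map ((Cfsg.weakClosure Q E)).subtype)) [hn2 : ((Subgroup.centralizer ((U : Subgroup G) : Set G)).subgroupOf Er).Normal] : ((Cfsg.pResidual p ↥E).map (E).subtype)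 ⊔ (E ⊓ Subgroup.centralizer ((U : Subgroup G) : Set G)) = Er ⊔ (E ⊓ Subgroup.centralizer ((U : Subgroup G) : Set G)) ∧ ⁅Er, Er⁆ = Er ∧ ((Cfsg.pResidual p ↥Er).map (Er).subtype) = Er ∧ Cfsg.IsQuasisimple (↥Er ⧸ (Subgroup.centralizer ((U : Subgroup G) : Set G)).subgroupOf Er) ∧ Cfsg.IsQuasisimple (↥Er ⧸ Cfsg.pCore p ↥Er) ∧ ∀ Y : Subgroup G, Y ≤ E → IsPGroup p ↥Y → ¬ Y ≤ Subgroup.centralizer ((U : Subgroup G) : Set G) → ⁅Er, Y⁆ = Er := by
  open CfsgLib in
  have hCQ : E ⊓ Subgroup.centralizer (U : Set G) ≤ Subgroup.normalizer (Q : Set G) :=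
    inf_le_right.trans (LocalStructure.centralizer_le_normalizer_large hQp hQ
      (LocalStructure.isElementaryAbelian_isPGroup hU) hU1 (hQE.trans hEU))
  have hd := CfsgLib.LocalEven48.LargeSection.sectionData (p := p)
    (Subgroup.centralizer (U : Set G)) hred hqs
  rw [CfsgLib.LocalStructure.map_pResidual] at hEr
  obtain ⟨hK, hperf, hidem, hqs', hY⟩ := CfsgLib.LocalEven48.LargeSection.main hQp
    (CfsgLib.LocalStructure.large_wc hQp hQ1 hQ) hQE hQn hd hCQ hEr
  refine ⟨?_, hperf, ?_, ?_, hqs', fun Y hYE hYp hYU =>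
    hY Y hYE hYp fun h => hYU (h.trans inf_le_right)⟩
  · rw [CfsgLib.LocalStructure.map_pResidual]; exact hK
  · rw [CfsgLib.LocalStructure.map_pResidual]; exact hidem
  · set D := (Subgroup.centralizer (U : Set G)).subgroupOf E with hD
    set f := QuotientGroup.mk' D with hf
    have hErE : Er ≤ E := hEr ▸ (CfsgLib.LocalStructure.pResOf_le _).trans
      CfsgLib.LocalStructure.weakClosure_le
    have hrange : (f.comp (Subgroup.inclusion hErE)).range =
        (Cfsg.pResidual p ↥E ⊔ D).map f := by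
      have hle : ∀ x : E, x ∈ Cfsg.pResidual p ↥E ⊔ D ↔
          (x : G) ∈ Er ⊔ (E ⊓ Subgroup.centralizer (U : Set G)) := fun x => by
        rw [← hK, hD, ← CfsgLib.LocalEven48.LargeSection.mem_pResidual_sup_iff inf_le_left x,
          Subgroup.inf_subgroupOf_left]
      apply le_antisymm
      · rintro _ ⟨x, rfl⟩
        exact Subgroup.mem_map_of_mem f ((hle _).2 (Subgroup.mem_sup_left x.2))
      · rintro _ ⟨x, hx, rfl⟩
        obtain ⟨a, ha, c, hc, e⟩ := CfsgLib.LocalStructure.exists_mul_of_mem_sup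
          (hErE.trans hd.hEC) ((hle x).1 hx)
        refine ⟨⟨a, ha⟩, ?_⟩
        refine (QuotientGroup.eq.2 ?_)
        rw [hD, Subgroup.mem_subgroupOf]
        have : a⁻¹ * (x : G) = c := by rw [← e, inv_mul_cancel_left]
        simpa [this] using hc.2
    have hker : (f.comp (Subgroup.inclusion hErE)).ker =
        (Subgroup.centralizer (U : Set G)).subgroupOf Er := by
      ext x
      simp only [MonoidHom.mem_ker, MonoidHom.comp_apply, Subgroup.mem_subgroupOf]
      exact QuotientGroup.eq_one_iff _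
    exact CfsgLib.Components.isQuasisimple_congr
      (((QuotientGroup.quotientMulEquivOfEq hker.symm).trans
        (QuotientGroup.quotientKerEquivRange _)).trans (MulEquiv.subgroupCongr hrange)).symm hqs

end Cfsg.Agent.S2860
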