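import Cfsg.Statements.S2872
import Cfsg.Agent.Solvable.Frattini
import Cfsg.Agent.Transfer.Residual

set_option autoImplicit false
open Cfsg

namespace Cfsg.Agent.S2872

open scoped Pointwise
open Subgroup

/-- A central involution `z` of `S`, outside a maximal subgroup `M` of `S` and fixed by `N_G(S)`,
has nontrivial transfer into `S ⧸ M`. -/
theorem transfer_ne_one {G : Type*} [Group G] [Finite G] (S : Sylow 2 G) {A : Type*} [CommGroup A]
    (hA : Nat.card A = 2) (φ : ↥(S : Subgroup G) →* A) (z : G) (hzS : z ∈ (S : Subgroup G))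
    (hz2 : z * z = 1) (hzc : ∀ s ∈ (S : Subgroup G), s * z = z * s)
    (hzN : ∀ g ∈ normalizer ((S : Subgroup G) : Set G), g * z * g⁻¹ = z)
    (hφ : φ ⟨z, hzS⟩ ≠ 1) : MonoidHom.transfer φ z ≠ 1 := by
  classical
  letI : Fintype (G ⧸ (S : Subgroup G)) := Subgroup.fintypeQuotientOfFiniteIndex
  set c : A := φ ⟨z, hzS⟩ with hc
  have hAall : ∀ a : A, a = 1 ∨ a = c := by
    obtain ⟨u, v, huv, huniv⟩ := Nat.card_eq_two_iff.mp hA
    have hall : ∀ a : A, a = u ∨ a = v := fun a => by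
      have := Set.eq_univ_iff_forall.mp huniv a
      simpa using this
    intro a
    rcases hall a with h1 | h1 <;> rcases hall 1 with h2 | h2 <;> rcases hall c with h3 | h3 <;>
      first
        | exact Or.inl (h1.trans h2.symm)
        | exact Or.inr (h1.trans h3.symm)
        | exact absurd (h3.trans h2.symm) hφ
  let T : Subgroup.LeftTransversal (S : Subgroup G) := default
  let t : G ⧸ (S : Subgroup G) → G := fun q => (T.2.leftQuotientEquiv q : G)
  have ht : ∀ q : G ⧸ (S : Subgroup G), (QuotientGroup.mk (t q) : G ⧸ (S : Subgroup G)) = q := fun q =>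
    T.2.leftQuotientEquiv.symm_apply_apply q
  have hmem : ∀ q : G ⧸ (S : Subgroup G), (t q)⁻¹ * (z * t (z⁻¹ • q)) ∈ (S : Subgroup G) := fun q => by
    apply QuotientGroup.eq.mp
    rw [ht]
    show q = z • (QuotientGroup.mk (t (z⁻¹ • q)) : G ⧸ (S : Subgroup G))
    rw [ht, smul_inv_smul]
  let f : G ⧸ (S : Subgroup G) → A := fun q => φ ⟨_, hmem q⟩
  have hV : MonoidHom.transfer φ z = ∏ q, f q := by
    rw [MonoidHom.transfer_def φ T z]
    refine Fintype.prod_congr _ _ fun q => congrArg φ (Subtype.ext ?_)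
    simp only [t, smul_apply_eq_smul_apply_inv_smul, smul_eq_mul]
  -- the cosets moved by `z` cancel in pairs
  set F : Finset (G ⧸ (S : Subgroup G)) := Finset.univ.filter fun q => z • q = q with hF
  have hzi : z⁻¹ = z := inv_eq_of_mul_eq_one_right hz2
  have hpair : ∀ q, f q * f (z • q) = 1 := by
    intro q
    rw [← map_mul]
    refine (congrArg φ (Subtype.ext ?_)).trans φ.map_one
    simp only [Subgroup.coe_mul, Subgroup.coe_one, hzi, smul_smul, hz2, one_smul]
    calc (t q)⁻¹ * (z * t (z • q)) * ((t (z • q))⁻¹ * (z * t q))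
        = (t q)⁻¹ * (z * z) * t q := by group
      _ = 1 := by rw [hz2]; group
  have hrest : ∏ q ∈ Finset.univ.filter (fun q => ¬ z • q = q), f q = 1 := by
    refine Finset.prod_involution (fun q _ => z • q) (fun q _ => hpair q) ?_ ?_ ?_
    · intro q hq _
      exact (Finset.mem_filter.mp hq).2
    · intro q hq
      simp only [Finset.mem_filter, Finset.mem_univ, true_and] at hq ⊢
      rwa [(MulAction.injective z).eq_iff]
    · intro q _
      rw [smul_smul, hz2, one_smul]
  have hfix : ∀ q ∈ F, ∀ g : G, (QuotientGroup.mk g : G ⧸ (S : Subgroup G)) = q →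
      ∃ h : g⁻¹ * z * g ∈ (S : Subgroup G), f q = φ ⟨_, h⟩ := by
    intro q hq g hg
    have hq' : z • q = q := (Finset.mem_filter.mp hq).2
    have hq'' : z⁻¹ • q = q := inv_smul_eq_iff.mpr hq'.symm
    have hd : (t q)⁻¹ * g ∈ (S : Subgroup G) := QuotientGroup.eq.mp ((ht q).trans hg.symm)
    have h0 : (t q)⁻¹ * z * t q ∈ (S : Subgroup G) := by
      have := hmem q
      rwa [hq'', ← mul_assoc] at this
    have e : g⁻¹ * z * g = ((t q)⁻¹ * g)⁻¹ * ((t q)⁻¹ * z * t q) * ((t q)⁻¹ * g) := by group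
    have h1 : g⁻¹ * z * g ∈ (S : Subgroup G) := e ▸ (S : Subgroup G).mul_mem ((S : Subgroup G).mul_mem ((S : Subgroup G).inv_mem hd) h0) hd
    refine ⟨h1, ?_⟩
    have e2 : (⟨_, h1⟩ : (S : Subgroup G)) = (⟨_, hd⟩ : (S : Subgroup G))⁻¹ * ⟨_, h0⟩ * ⟨_, hd⟩ := Subtype.ext e
    rw [e2, map_mul, map_mul, map_inv, mul_comm (φ ⟨_, hd⟩)⁻¹, mul_assoc, inv_mul_cancel, mul_one]
    refine congrArg φ (Subtype.ext ?_)
    show (t q)⁻¹ * (z * t (z⁻¹ • q)) = (t q)⁻¹ * z * t q
    rw [hq'', mul_assoc]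
  set X : Finset (G ⧸ (S : Subgroup G)) := F.filter fun q => f q = c with hX
  have hprod : ∏ q ∈ F, f q = c ^ X.card := by
    rw [← Finset.prod_filter_mul_prod_filter_not F (fun q => f q = c)]
    rw [Finset.prod_eq_one (s := F.filter fun q => ¬ f q = c) (fun q hq => ?_), mul_one,
      Finset.prod_congr rfl (g := fun _ => c) (fun q hq => (Finset.mem_filter.mp hq).2),
      Finset.prod_const]
    exact (hAall _).resolve_right (Finset.mem_filter.mp hq).2
  -- the number of fixed cosets with value `c` is odd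
  have hXinv : ∀ s ∈ (S : Subgroup G), ∀ q ∈ X, s • q ∈ X := by
    intro s hs q hq
    obtain ⟨hqF, hqc⟩ := Finset.mem_filter.mp hq
    have hsqF : s • q ∈ F := by
      simp only [hF, Finset.mem_filter, Finset.mem_univ, true_and]
      rw [smul_smul, ← hzc s hs, ← smul_smul, (Finset.mem_filter.mp hqF).2]
    refine Finset.mem_filter.mpr ⟨hsqF, ?_⟩
    have hg : (QuotientGroup.mk (s * t q) : G ⧸ (S : Subgroup G)) = s • q := by
      conv_rhs => rw [← ht q]
      rfl
    obtain ⟨h1, e1⟩ := hfix _ hsqF _ hg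
    obtain ⟨h2, e2⟩ := hfix _ hqF _ (ht q)
    rw [e1, ← hqc, e2]
    refine congrArg φ (Subtype.ext ?_)
    show (s * t q)⁻¹ * z * (s * t q) = (t q)⁻¹ * z * t q
    calc (s * t q)⁻¹ * z * (s * t q) = (t q)⁻¹ * s⁻¹ * (z * s) * t q := by group
      _ = (t q)⁻¹ * s⁻¹ * (s * z) * t q := by rw [hzc s hs]
      _ = _ := by group
  let Xs : SubMulAction (S : Subgroup G) (G ⧸ (S : Subgroup G)) :=
    { carrier := {q | q ∈ X}
      smul_mem' := fun s q hq => hXinv s s.2 q hq }
  have hfixX : ∀ q : G ⧸ (S : Subgroup G), (∀ s : (S : Subgroup G), (s : G) • q = q) → q ∈ X := by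
    intro q hq
    have hqF : q ∈ F := Finset.mem_filter.mpr ⟨Finset.mem_univ _, hq ⟨z, hzS⟩⟩
    refine Finset.mem_filter.mpr ⟨hqF, ?_⟩
    obtain ⟨h1, e1⟩ := hfix q hqF _ (ht q)
    have hN : (t q)⁻¹ ∈ normalizer ((S : Subgroup G) : Set G) := by
      apply mem_normalizer_iff_map_conj_eq.mpr
      refine eq_of_le_of_card_ge ?_ (card_map_of_injective (MulAut.conj _).injective).ge
      rintro _ ⟨s, hs, rfl⟩
      have h2 := hq ⟨s, hs⟩
      rw [← ht q] at h2
      have h3 := QuotientGroup.eq.mp h2.symm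
      simpa [mul_assoc] using h3
    rw [e1]
    refine congrArg φ (Subtype.ext ?_)
    simpa using hzN _ hN
  have hodd : ¬ 2 ∣ X.card := by
    have h1 : Nat.card (G ⧸ (S : Subgroup G)) ≡ Nat.card (MulAction.fixedPoints (S : Subgroup G) (G ⧸ (S : Subgroup G))) [MOD 2] :=
      S.isPGroup'.card_modEq_card_fixedPoints (G ⧸ (S : Subgroup G))
    have h2 : Nat.card Xs ≡ Nat.card (MulAction.fixedPoints (S : Subgroup G) Xs) [MOD 2] :=
      S.isPGroup'.card_modEq_card_fixedPoints Xs
    have e1 : Nat.card (MulAction.fixedPoints (S : Subgroup G) Xs) =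
        Nat.card (MulAction.fixedPoints (S : Subgroup G) (G ⧸ (S : Subgroup G))) :=
      Nat.card_congr
        { toFun := fun x => ⟨(x.1 : G ⧸ (S : Subgroup G)), fun s => congrArg Subtype.val (x.2 s)⟩
          invFun := fun q => ⟨⟨q.1, hfixX q.1 fun s => q.2 s⟩, fun s => Subtype.ext (q.2 s)⟩
          left_inv := fun _ => rfl
          right_inv := fun _ => rfl }
    have e2 : Nat.card Xs = X.card := by
      show Nat.card {q // q ∈ X} = X.card
      rw [Nat.card_eq_fintype_card, Fintype.card_coe]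
    rw [e2, e1] at h2
    intro h
    have h3 : (Nat.card (G ⧸ (S : Subgroup G))) % 2 = 0 := by
      rw [h1.trans h2.symm]; omega
    exact S.not_dvd_index (Nat.dvd_of_mod_eq_zero h3)
  rw [hV, ← Finset.prod_filter_mul_prod_filter_not Finset.univ (fun q => z • q = q), hrest,
    mul_one, hprod]
  intro h
  apply hodd
  have hc2 : orderOf c = 2 := orderOf_eq_prime (by rw [← hA]; exact pow_card_eq_one') hφ
  have := orderOf_dvd_of_pow_eq_one h
  rwa [hc2] at this


/-- Let S be a Sylow 2-subgroup of the finite group G. Then G has a proper normal subgroup of 2-power index (O²(G) ≠ G), or Ω₁(Z(S)) is contained in the Frattini subgroup of S, or N_G(S) acts nontrivially on Ω₁(Z(S)) by conjugation. -/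
theorem result {G : Type*} [Group G] [Finite G] (S : Sylow 2 G) : Cfsg.pResidual 2 G ≠ ⊤ ∨ Cfsg.omegaOne 2 ((S : Subgroup G) ⊓ Subgroup.centralizer ((S : Subgroup G) : Set G)) ≤ (frattini ↥(S : Subgroup G)).map (S : Subgroup G).subtype ∨ ∃ g ∈ Subgroup.normalizer ((S : Subgroup G) : Set G), ∃ z ∈ Cfsg.omegaOne 2 ((S : Subgroup G) ⊓ Subgroup.centralizer ((S : Subgroup G) : Set G)), g * z * g⁻¹ ≠ z := by
  by_contra hcon
  push Not at hcon
  obtain ⟨hres, hΦ, hN⟩ := hcon
  obtain ⟨z, ⟨⟨hzS, hzC⟩, hz2⟩, hzΦ⟩ : ∃ z ∈ {x : G | x ∈ (S : Subgroup G) ⊓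
      Subgroup.centralizer ((S : Subgroup G) : Set G) ∧ x ^ 2 = 1},
      z ∉ (frattini ↥(S : Subgroup G)).map (S : Subgroup G).subtype := by
    by_contra h
    push Not at h
    exact hΦ ((Subgroup.closure_le _).mpr h)
  have hzf : (⟨z, hzS⟩ : ↥(S : Subgroup G)) ∉ frattini ↥(S : Subgroup G) := fun h =>
    hzΦ ⟨_, h, rfl⟩
  rw [CfsgLib.Solvable.mem_frattini_iff] at hzf
  push Not at hzf
  obtain ⟨M, hM, hzM⟩ := hzf
  have hMn := CfsgLib.Solvable.normal_of_coatom S.isPGroup' hM
  have hA : Nat.card (↥(S : Subgroup G) ⧸ M) = 2 := by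
    rw [← Subgroup.index_eq_card]; exact CfsgLib.Solvable.index_coatom S.isPGroup' hM
  have hcyc : IsCyclic (↥(S : Subgroup G) ⧸ M) := isCyclic_of_prime_card hA
  letI : CommGroup (↥(S : Subgroup G) ⧸ M) := IsCyclic.commGroup
  have hne := transfer_ne_one S hA (QuotientGroup.mk' M) z hzS (by rw [← sq]; exact hz2)
    (fun s hs => Subgroup.mem_centralizer_iff.mp hzC s hs)
    (fun g hg => hN g hg z (Subgroup.subset_closure ⟨⟨hzS, hzC⟩, hz2⟩))
    (fun h => hzM ((QuotientGroup.eq_one_iff _).mp h))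
  refine hne (MonoidHom.mem_ker.mp ?_)
  have hker : Cfsg.pResidual 2 G ≤ (MonoidHom.transfer (QuotientGroup.mk' M)).ker :=
    CfsgLib.Transfer.pResidual_le_ker _ (IsPGroup.of_card (n := 1) (by rw [hA]; rfl))
  exact hker (hres ▸ Subgroup.mem_top z)

end Cfsg.Agent.S2872
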