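import Cfsg.Statements.S2874
import Cfsg.Agent.LocalEven48.GL2ModTwoPow

set_option autoImplicit false
open Cfsg

namespace Cfsg.Agent.S2874

/-- For k ≥ 2, any two subgroups of GL₂(ℤ/2ᵏℤ) (the automorphism group of the homocyclic group ℤ/2ᵏ × ℤ/2ᵏ) that are isomorphic to the alternating group of degree 4 are conjugate. -/
theorem result (k : ℕ) (hk : 2 ≤ k) (H₁ H₂ : Subgroup (GL (Fin 2) (ZMod (2 ^ k)))) (h₁ : Nonempty (↥H₁ ≃* ↥(alternatingGroup (Fin 4)))) (h₂ : Nonempty (↥H₂ ≃* ↥(alternatingGroup (Fin 4)))) : ∃ g : GL (Fin 2) (ZMod (2 ^ k)), H₂ = H₁.map (MulAut.conj g).toMonoidHom := by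
  obtain ⟨e₁⟩ := h₁
  obtain ⟨e₂⟩ := h₂
  obtain ⟨P₁, S₁, A₁, hc₁, hS₁, hA₁⟩ := CfsgLib.LocalEven48.GL2A4.exists_standard hk H₁ e₁
  obtain ⟨P₂, S₂, A₂, hc₂, hS₂, hA₂⟩ := CfsgLib.LocalEven48.GL2A4.exists_standard hk H₂ e₂
  obtain rfl : S₁ = S₂ := Units.ext (hS₁.trans hS₂.symm)
  obtain rfl : A₁ = A₂ := Units.ext (hA₁.trans hA₂.symm)
  refine ⟨P₂⁻¹ * P₁, ?_⟩
  rw [show (MulAut.conj (P₂⁻¹ * P₁)).toMonoidHom =
      (MulAut.conj P₂⁻¹).toMonoidHom.comp (MulAut.conj P₁).toMonoidHom from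
    MonoidHom.ext fun x => by simp [mul_assoc], ← Subgroup.map_map, hc₁, ← hc₂, Subgroup.map_map]
  refine ((congrArg (H₂.map ·) (MonoidHom.ext fun x => ?_)).trans (Subgroup.map_id H₂)).symm
  simp [mul_assoc]

end Cfsg.Agent.S2874
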