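import Cfsg.Statements.S2879
import Cfsg.Agent.S0106
import Cfsg.Agent.TwoGroups.Semidihedral
import Cfsg.Agent.TwoGroups.Basic
import Cfsg.Agent.CharPLocal.Basic
import Cfsg.Agent.LocalStructure.Tools
import Cfsg.Agent.Components.Basic

set_option autoImplicit false
open Cfsg

namespace Cfsg.Agent.S2879

open Subgroup
open scoped commutatorElement

variable {G : Type*} [Group G] [Finite G]

/-- The properties used of a dihedral or semidihedral 2-group `T` with cyclic part `⟨c⟩`. -/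
structure TData (T : Subgroup G) (c : G) : Prop where
  mem : c ∈ T
  four : 4 ≤ orderOf c
  mul : ∀ t ∈ T, ∀ u ∈ T, t ∉ zpowers c → u ∉ zpowers c → t * u ∈ zpowers c
  outside : ∀ t ∈ T, t ∉ zpowers c → t * t = 1 ∨ (orderOf t = 4 ∧
    ∀ w ∈ zpowers c, orderOf w = 4 → t * w * t⁻¹ = w⁻¹ ∧ t * t = w * w)

theorem tdata_of_dihedral {T : Subgroup G} {n : ℕ} (hn : 4 ≤ n) (e : T ≃* DihedralGroup n) :
    ∃ c, TData T c := by
  haveI : NeZero n := ⟨by omega⟩
  refine ⟨(e.symm (DihedralGroup.r 1) : G), (e.symm _).2, ?_, ?_, ?_⟩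
  · rw [orderOf_coe, MulEquiv.orderOf_eq, DihedralGroup.orderOf_r_one]; exact hn
  all_goals
    have hr : ∀ t : T, ∀ k : ZMod n, e t = DihedralGroup.r k →
        (t : G) ∈ zpowers (e.symm (DihedralGroup.r 1) : G) := by
      intro t k hk
      have : t = (e.symm (DihedralGroup.r 1)) ^ k.val := by
        apply e.injective
        rw [map_pow, MulEquiv.apply_symm_apply, hk, DihedralGroup.r_one_pow, ZMod.natCast_zmod_val]
      rw [this, coe_pow]
      exact pow_mem (mem_zpowers _) _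
  · intro t ht u hu h1 h2
    rcases ht' : e ⟨t, ht⟩ with k | k
    · exact absurd (hr _ k ht') h1
    rcases hu' : e ⟨u, hu⟩ with l | l
    · exact absurd (hr _ l hu') h2
    exact hr (⟨t, ht⟩ * ⟨u, hu⟩) (l - k) (by rw [map_mul, ht', hu', DihedralGroup.sr_mul_sr])
  · intro t ht h1
    rcases ht' : e ⟨t, ht⟩ with k | k
    · exact absurd (hr _ k ht') h1
    left
    have : (⟨t, ht⟩ * ⟨t, ht⟩ : T) = 1 := e.injective (by
      rw [map_mul, ht', DihedralGroup.sr_mul_self, map_one])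
    exact congrArg Subtype.val this

theorem tdata_of_semidihedral {T : Subgroup G} (h : Cfsg.IsQuasiDihedral ↥T) :
    ∃ c, TData T c := by
  obtain ⟨n, x, y, d⟩ := CfsgLib.TwoGroups.exists_sdPair h
  have hz : ∀ t : T, (t : G) ∈ zpowers (x : G) ↔ t ∈ zpowers x := fun t => by
    constructor
    · rintro ⟨i, hi⟩; exact ⟨i, Subtype.ext (by simpa using hi)⟩
    · rintro ⟨i, rfl⟩; exact ⟨i, by simp⟩
  refine ⟨(x : G), x.2, ?_, ?_, ?_⟩
  · rw [orderOf_coe, d.ox]
    calc 4 = 2 ^ 2 := rfl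
      _ ≤ 2 ^ n := Nat.pow_le_pow_right (by omega) (by have := d.le; omega)
  · intro t ht u hu h1 h2
    obtain ⟨i, hi | hi⟩ := d.eq_cases ⟨t, ht⟩
    · exact absurd ((hz ⟨t, ht⟩).2 (hi ▸ zpow_mem_zpowers x i)) h1
    obtain ⟨j, hj | hj⟩ := d.eq_cases ⟨u, hu⟩
    · exact absurd ((hz ⟨u, hu⟩).2 (hj ▸ zpow_mem_zpowers x j)) h2
    refine (hz (⟨t, ht⟩ * ⟨u, hu⟩)).2 ?_
    rw [hi, hj, mul_assoc, ← mul_assoc y, d.y_mul, mul_assoc, d.y_mul_y, mul_one, ← zpow_add]
    exact zpow_mem_zpowers x _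
  · intro t ht h1
    obtain ⟨i, hi | hi⟩ := d.eq_cases ⟨t, ht⟩
    · exact absurd ((hz ⟨t, ht⟩).2 (hi ▸ zpow_mem_zpowers x i)) h1
    by_cases hev : (2 : ℤ) ∣ i
    · left
      have h2 : (⟨t, ht⟩ : T) ^ 2 = 1 := by
        rw [hi, ← d.orderOf_zpow_y_even hev]; exact pow_orderOf_eq_one _
      simpa [sq] using congrArg Subtype.val h2
    · right
      have ho : orderOf t = 4 := by
        rw [← orderOf_mk t ht, hi]; exact d.orderOf_zpow_y_odd hev
      refine ⟨ho, fun w hw hw4 => ?_⟩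
      obtain ⟨k, rfl⟩ := hw
      have hnot : (⟨t, ht⟩ : T) ∉ zpowers x := fun hh => h1 ((hz ⟨t, ht⟩).2 hh)
      have hk4 : orderOf (x ^ k : T) = 4 := by rw [← orderOf_coe]; simpa using hw4
      have hinv := d.conj_zpow_qq ⟨t, ht⟩ hnot
      have hsq : (⟨t, ht⟩ : T) * ⟨t, ht⟩ = x ^ CfsgLib.TwoGroups.hh n := by
        rw [hi]; exact d.sq_zpow_y_odd hev
      have hww : (x ^ k : T) = x ^ CfsgLib.TwoGroups.qq n ∨
          (x ^ k : T) = x ^ (-CfsgLib.TwoGroups.qq n) := by
        rcases d.orderOf_eq_four_iff.1 hk4 with h | h | ⟨l, -, h⟩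
        · exact Or.inl h
        · exact Or.inr h
        · exact absurd (h ▸ zpow_mem_zpowers x k) (d.zpow_y_notMem l)
      have key : (⟨t, ht⟩ : T) * (x ^ k) * (⟨t, ht⟩ : T)⁻¹ = (x ^ k)⁻¹ ∧
          (⟨t, ht⟩ : T) * ⟨t, ht⟩ = x ^ k * x ^ k := by
        rcases hww with e | e <;> rw [e]
        · refine ⟨by rw [hinv, zpow_neg], ?_⟩
          rw [hsq, ← zpow_add, d.hh_eq]; congr 1; ring
        · refine ⟨?_, ?_⟩
          · rw [zpow_neg, ← conj_inv, hinv, zpow_neg]
          · rw [hsq, ← zpow_add, d.zpow_eq, d.hh_eq]; exact ⟨-1, by ring⟩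
      exact ⟨by simpa using congrArg Subtype.val key.1, by simpa using congrArg Subtype.val key.2⟩

theorem quaternion_card_pairs : (Finset.univ.filter fun p : QuaternionGroup 2 × QuaternionGroup 2 =>
    p.1 * p.2 ≠ p.2 * p.1).card = 24 := by decide +kernel

theorem quaternion_center : ∀ q : QuaternionGroup 2, (∀ r, q * r = r * q) →
    q = 1 ∨ q = QuaternionGroup.a 2 := by decide +kernel

/-- `O₂(G)` is quaternion of order eight. -/
theorem pCore_quaternion (T : Sylow 2 G) {c₀ : G} (hd : TData (T : Subgroup G) c₀)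
    (hCQ : centralizer (pCore 2 G : Set G) ≤ pCore 2 G)
    (hZ : ((T : Subgroup G) ⊓ centralizer ((T : Subgroup G) : Set G)).Normal)
    {g : G} (hg : Nat.Coprime (orderOf g) 2) (hgQ : g ∉ centralizer (pCore 2 G : Set G)) :
    Nonempty (↥(pCore 2 G) ≃* QuaternionGroup 2) := by
  haveI : Fact (Nat.Prime 2) := ⟨Nat.prime_two⟩
  set Q := pCore 2 G with hQ
  haveI hQn : Q.Normal := CfsgLib.LocalStructure.pCore_normal
  have hQp : IsPGroup 2 Q := CfsgLib.LocalStructure.pCore_isPGroup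
  have hQT : Q ≤ (T : Subgroup G) := CfsgLib.LocalStructure.pCore_le_sylow T
  have hconj : ∀ q ∈ Q, g * q * g⁻¹ ∈ Q := fun q hq => hQn.conj_mem q hq g
  haveI : IsCyclic (Q ⊓ zpowers c₀ : Subgroup G) :=
    isCyclic_of_injective (inclusion (inf_le_right : Q ⊓ zpowers c₀ ≤ zpowers c₀))
      (inclusion_injective _)
  obtain ⟨c', hc'⟩ := IsCyclic.exists_generator (α := (Q ⊓ zpowers c₀ : Subgroup G))
  set c : G := (c' : G) with hc
  have hcQ : c ∈ Q := c'.2.1
  have hcgen : ∀ q ∈ Q, q ∈ zpowers c₀ → q ∈ zpowers c := fun q hq hq' => by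
    obtain ⟨k, hk⟩ := hc' ⟨q, hq, hq'⟩
    exact ⟨k, by simpa [hc] using congrArg Subtype.val hk⟩
  have hcle : zpowers c ≤ zpowers c₀ := zpowers_le.2 c'.2.2
  obtain ⟨s, hs⟩ := IsPGroup.iff_orderOf.1 hQp ⟨c, hcQ⟩
  rw [orderOf_mk] at hs
  have hsplit : ∀ q ∈ Q, ∀ r ∈ Q, r ∉ zpowers c → q ∈ zpowers c ∨ ∃ k : ℤ, q = r * c ^ k := by
    intro q hq r hr hrc
    by_cases hqc : q ∈ zpowers c₀
    · exact Or.inl (hcgen q hq hqc)
    right
    have h := hd.mul r⁻¹ (inv_mem (hQT hr)) q (hQT hq)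
      (fun h => hrc (hcgen r hr ((inv_mem_iff).1 h))) hqc
    obtain ⟨k, hk⟩ := hcgen _ (Q.mul_mem (Q.inv_mem hr) hq) h
    exact ⟨k, by simp only at hk; rw [hk]; group⟩
  set d := g * c * g⁻¹ with hd'
  have hdQ : d ∈ Q := hconj c hcQ
  have hdc : d ∉ zpowers c := by
    intro h
    have hgc : Commute g c := Cfsg.Agent.S0106.cyclic_fix hs hg h
    refine hgQ fun q hq => ?_
    by_cases hqc : q ∈ zpowers c
    · obtain ⟨k, rfl⟩ := hqc
      exact (hgc.zpow_right k).eq.symm
    rcases hsplit (g * q * g⁻¹) (hconj q hq) q hq hqc with h' | ⟨k, hk⟩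
    · obtain ⟨k, hk⟩ := h'
      refine absurd (show q ∈ zpowers c from ⟨k, ?_⟩) hqc
      simp only at hk ⊢
      calc c ^ k = g⁻¹ * (g * c ^ k) := by group
        _ = g⁻¹ * (c ^ k * g) := by rw [(hgc.zpow_right k).eq]
        _ = q := by rw [hk]; group
    · exact (Cfsg.Agent.S0106.shift_fix hs hg hgc hk).eq.symm
  have hod : orderOf d = orderOf c := MulEquiv.orderOf_eq (MulAut.conj g) c
  have hdc₀ : d ∉ zpowers c₀ := fun h => hdc (hcgen d hdQ h)
  rcases hd.outside d (hQT hdQ) hdc₀ with h2 | ⟨h4, hinv⟩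
  · -- a four group cannot occur
    exfalso
    have hc2 : c * c = 1 := by
      have : orderOf c ∣ 2 := hod ▸ orderOf_dvd_of_pow_eq_one (by rw [sq]; exact h2)
      rw [← sq]; exact orderOf_dvd_iff_pow_eq_one.1 this
    have hzc : ∀ q ∈ zpowers c, q = 1 ∨ q = c := by
      rintro q ⟨k, rfl⟩
      rcases Int.even_or_odd' k with ⟨l, rfl | rfl⟩
      · left; simp [zpow_mul, zpow_ofNat, sq, hc2]
      · right; simp [zpow_add, zpow_mul, zpow_ofNat, sq, hc2]
    have hmem : ∀ q ∈ Q, q = 1 ∨ q = c ∨ q = d ∨ q = d * c := by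
      intro q hq
      rcases hsplit q hq d hdQ hdc with h | ⟨k, rfl⟩
      · rcases hzc q h with h | h <;> simp [h]
      · rcases hzc (c ^ k) ⟨k, rfl⟩ with h | h <;> simp [h]
    have hne : d ≠ c := fun e => hdc (e ▸ mem_zpowers c)
    -- `g` moves `d` to `d * c`
    have hdd : g * d * g⁻¹ = d * c := by
      rcases hmem _ (hconj d hdQ) with h | h | h | h
      · exact absurd (conj_eq_one_iff.1 h) fun e => hdc (e ▸ one_mem _)
      · refine absurd (Cfsg.Agent.S0106.commute_of_sq hg (show Commute (g ^ 2) c from ?_))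
          (fun hgc => hne (by rw [hd', hgc.eq, mul_inv_cancel_right]))
        refine mul_inv_eq_iff_eq_mul.1 ?_
        calc g ^ 2 * c * (g ^ 2)⁻¹ = g * d * g⁻¹ := by rw [hd', sq]; group
          _ = c := h
      · exact absurd ((MulAut.conj g).injective (h.trans hd' : MulAut.conj g d = MulAut.conj g c)) hne
      · exact h
    set Z := (T : Subgroup G) ⊓ centralizer ((T : Subgroup G) : Set G) with hZd
    haveI := hZ
    have hZQ : Z ≤ Q := CfsgLib.LocalStructure.le_pCore (T.isPGroup'.to_le inf_le_left)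
    have hZne : Z ≠ ⊥ := by
      have hnt : Nontrivial (T : Subgroup G) := by
        refine (nontrivial_iff_ne_bot _).2 fun e => ?_
        have := hd.mem
        rw [e, mem_bot] at this
        have h4 := hd.four
        rw [this, orderOf_one] at h4; omega
      haveI := T.isPGroup'.center_nontrivial
      intro e
      obtain ⟨⟨w, hw⟩, hw1⟩ := exists_ne (1 : center (T : Subgroup G))
      apply hw1
      have : (w : G) ∈ Z := ⟨w.2, fun u hu => congrArg Subtype.val (mem_center_iff.1 hw ⟨u, hu⟩)⟩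
      rw [e, mem_bot] at this
      exact Subtype.ext (Subtype.ext this)
    obtain ⟨w, hwZ, hw1⟩ := (bot_or_exists_ne_one Z).resolve_left hZne
    have hgd : g * (d * c) * g⁻¹ = (d * c) * d := by
      calc g * (d * c) * g⁻¹ = (g * d * g⁻¹) * (g * c * g⁻¹) := by group
        _ = (d * c) * d := by rw [hdd]
    have hcomm : c * d = d * c := by
      have h3 : (d * c) * (d * c) = 1 := by
        calc (d * c) * (d * c) = g * (d * d) * g⁻¹ := by rw [← hdd]; group
          _ = 1 := by rw [h2]; group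
      calc c * d = d⁻¹ * (d * c * (d * c)) * c⁻¹ := by group
        _ = d⁻¹ * c⁻¹ := by rw [h3, mul_one]
        _ = d * c := by rw [inv_eq_of_mul_eq_one_right h2, inv_eq_of_mul_eq_one_right hc2]
    have hgd' : g * (d * c) * g⁻¹ = c := by
      rw [hgd, mul_assoc, hcomm, ← mul_assoc, h2, one_mul]
    have hcyc : c ∈ Z ∧ d ∈ Z := by
      have step : ∀ a, a ∈ Z → g * a * g⁻¹ ∈ Z := fun a ha => hZ.conj_mem a ha g
      rcases hmem w (hZQ hwZ) with rfl | rfl | rfl | rfl
      · exact absurd rfl hw1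
      · exact ⟨hwZ, step _ hwZ⟩
      · have := step _ hwZ; rw [hdd] at this
        have h' := step _ this; rw [hgd'] at h'
        exact ⟨h', hwZ⟩
      · have := step _ hwZ; rw [hgd'] at this
        exact ⟨this, step _ this⟩
    have hQZ : Q ≤ Z := fun q hq => by
      rcases hmem q hq with rfl | rfl | rfl | rfl
      exacts [one_mem _, hcyc.1, hcyc.2, mul_mem hcyc.2 hcyc.1]
    have hTQ : (T : Subgroup G) ≤ Q := by
      refine (le_centralizer_iff.1 (hQZ.trans inf_le_right)).trans hCQ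
    have hdc0 : c₀ ∈ Q := hTQ hd.mem
    have : orderOf c₀ ≤ 2 := by
      refine Nat.le_of_dvd two_pos (orderOf_dvd_of_pow_eq_one ?_)
      rw [sq]
      rcases hmem c₀ hdc0 with h | h | h | h <;> rw [h]
      · simp
      · exact hc2
      · exact h2
      · rw [mul_assoc, ← mul_assoc c, hcomm, mul_assoc d, hc2, mul_one, h2]
    exact absurd hd.four (by omega)
  · have hc4 : orderOf c = 4 := hod ▸ h4
    obtain ⟨hi, hsq⟩ := hinv c c'.2.2 hc4
    have hgen : Q ≤ zpowers c ⊔ zpowers d := fun q hq => by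
      rcases hsplit q hq d hdQ hdc with h | ⟨k, rfl⟩
      · exact mem_sup_left h
      · exact mul_mem (mem_sup_right (mem_zpowers d)) (mem_sup_left ⟨k, rfl⟩)
    refine CfsgLib.TwoGroups.nonempty_equiv_quaternion (m := 2) hcQ hdQ hc4 ?_ hi hdc ?_
    · rw [sq]; exact hsq
    · -- index two over `⟨c⟩`
      have h2i : ((zpowers c).subgroupOf Q).index = 2 := by
        rw [index_eq_two_iff]
        refine ⟨⟨d, hdQ⟩, fun q => ?_⟩
        simp only [mem_subgroupOf, coe_mul]
        by_cases hq : (q : G) ∈ zpowers c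
        · exact Or.inr ⟨hq, fun h => hdc (by simpa using mul_mem (inv_mem hq) h)⟩
        · refine Or.inl ⟨hcgen _ (Q.mul_mem q.2 hdQ) (hd.mul _ (hQT q.2) d (hQT hdQ)
            (fun h => hq (hcgen _ q.2 h)) hdc₀), hq⟩
      rw [← ((zpowers c).subgroupOf Q).card_mul_index, h2i,
        Nat.card_congr (subgroupOfEquivOfLe (zpowers_le.2 hcQ)).toEquiv, Nat.card_zpowers, hc4]


/-- Let G be a finite solvable group with O(G) = 1 whose Sylow 2-subgroup T is dihedral of order at least 8 or semidihedral, with G ≠ T and Z(T) normal in G. Then G has a normal subgroup isomorphic to SL₂(3). -/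
theorem result {G : Type*} [Group G] [Finite G] (hsol : IsSolvable G) (hO : Cfsg.oddCore G = ⊥) (T : Sylow 2 G) (hT : (∃ n : ℕ, 4 ≤ n ∧ Nonempty (↥(T : Subgroup G) ≃* DihedralGroup n)) ∨ Cfsg.IsQuasiDihedral ↥(T : Subgroup G)) (hne : (T : Subgroup G) ≠ ⊤) (hZ : ((T : Subgroup G) ⊓ Subgroup.centralizer ((T : Subgroup G) : Set G)).Normal) : ∃ U : Subgroup G, U.Normal ∧ Nonempty (↥U ≃* Matrix.SpecialLinearGroup (Fin 2) (ZMod 3)) := by
  haveI : Fact (Nat.Prime 2) := ⟨Nat.prime_two⟩
  haveI : Group.IsSolvable G := hsol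
  obtain ⟨c₀, hd⟩ : ∃ c, TData (T : Subgroup G) c := by
    rcases hT with ⟨n, hn, ⟨e⟩⟩ | h
    · exact tdata_of_dihedral hn e
    · exact tdata_of_semidihedral h
  set Q := Cfsg.pCore 2 G with hQ
  haveI hQn : Q.Normal := CfsgLib.LocalStructure.pCore_normal
  have hnc : ∀ K : Subgroup G, ¬ Cfsg.IsComponent K := fun K hK =>
    CfsgLib.Components.IsComponent.not_isSolvable hK
      (Group.isSolvable_of_isSolvable_injective K.subtype_injective)
  have hCQ := CfsgLib.CharPLocal.centralizer_pCore_le_of_no_component (p := 2) hO hnc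
  -- an element of order three
  obtain ⟨r, hr, hrd⟩ : ∃ r, r.Prime ∧ r ∣ (T : Subgroup G).index :=
    Nat.exists_prime_and_dvd fun h => hne (index_eq_one.1 h)
  haveI := Fact.mk hr
  have hr2 : r ≠ 2 := fun e => T.not_dvd_index (e ▸ hrd)
  obtain ⟨x, hx⟩ := exists_prime_orderOf_dvd_card' r (hrd.trans (T : Subgroup G).index_dvd_card)
  have hxQ : x ∉ centralizer (Q : Set G) := fun h => by
    obtain ⟨k, hk⟩ := IsPGroup.iff_orderOf.1
      (CfsgLib.LocalStructure.pCore_isPGroup (p := 2) (G := G)) ⟨x, hCQ h⟩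
    rw [orderOf_mk, hx] at hk
    exact hr2 ((Nat.prime_dvd_prime_iff_eq hr Nat.prime_two).1 (hr.dvd_of_dvd_pow (dvd_of_eq hk)))
  obtain ⟨e⟩ := pCore_quaternion T hd hCQ hZ
    (by rw [hx]; exact (Nat.coprime_primes hr Nat.prime_two).2 hr2) hxQ
  have hQ8 : Nat.card Q = 8 := CfsgLib.TwoGroups.card_quaternion8 e
  -- the automorphisms of `Q`
  let ψ : Q →* QuaternionGroup 2 := e.toMonoidHom
  obtain ⟨i, j, hiQ, hjQ, hio, hjj, hji, hgi, hgj, hjzi, hgen⟩ :=
    Cfsg.Agent.S0106.generators Q ψ e.injective CfsgLib.LocalStructure.pCore_isPGroup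
      (g := x) (by rw [normalizer_eq_top]; trivial)
      (by rw [hx]; exact (Nat.coprime_primes hr Nat.prime_two).2 hr2) hxQ
  have hij : i * j ≠ j * i := by
    intro h
    rw [hji] at h
    have h' : i ^ 2 = 1 := by
      have h1 : i * j = i * (i ^ 2 * j) := by rw [h, pow_succ' i 2, mul_assoc]
      have h2 := mul_left_cancel h1
      exact (mul_eq_right.1 h2.symm)
    have := orderOf_dvd_of_pow_eq_one h'
    rw [hio] at this
    omega
  have hcard : Nat.card G ≤ 48 := by
    have h1 : (centralizer (Q : Set G)).index ≤ 24 := by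
      let f : G ⧸ centralizer (Q : Set G) → QuaternionGroup 2 × QuaternionGroup 2 :=
        Quotient.lift (fun g => (e ⟨g * i * g⁻¹, hQn.conj_mem i hiQ g⟩,
          e ⟨g * j * g⁻¹, hQn.conj_mem j hjQ g⟩)) (by
          intro a b hab
          have hab' : a⁻¹ * b ∈ centralizer (Q : Set G) := QuotientGroup.leftRel_apply.1 hab
          have key : ∀ q ∈ Q, a * q * a⁻¹ = b * q * b⁻¹ := fun q hq => by
            have := hab' q hq
            calc a * q * a⁻¹ = a * (q * (a⁻¹ * b)) * b⁻¹ := by group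
              _ = a * ((a⁻¹ * b) * q) * b⁻¹ := by rw [this]
              _ = b * q * b⁻¹ := by group
          simp only [Prod.mk.injEq, EmbeddingLike.apply_eq_iff_eq, Subtype.mk.injEq]
          exact ⟨key i hiQ, key j hjQ⟩)
      have hinj : Function.Injective f := by
        intro a b
        induction a using QuotientGroup.induction_on with | H a => ?_
        induction b using QuotientGroup.induction_on with | H b => ?_
        intro h
        obtain ⟨h1, h2⟩ := Prod.mk.inj (h : _ = _)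
        have h1' : a * i * a⁻¹ = b * i * b⁻¹ := congrArg Subtype.val (e.injective h1)
        have h2' : a * j * a⁻¹ = b * j * b⁻¹ := congrArg Subtype.val (e.injective h2)
        refine QuotientGroup.eq.2 fun q hq => ?_
        have hmem : a⁻¹ * b ∈ centralizer (closure {i, j} : Set G) := by
          rw [centralizer_closure]
          intro q hq
          have aux : ∀ q, a * q * a⁻¹ = b * q * b⁻¹ → q * (a⁻¹ * b) = a⁻¹ * b * q := fun q h =>
            calc q * (a⁻¹ * b) = a⁻¹ * (a * q * a⁻¹) * b := by group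
              _ = a⁻¹ * (b * q * b⁻¹) * b := by rw [h]
              _ = a⁻¹ * b * q := by group
          rcases hq with rfl | rfl
          exacts [aux _ h1', aux _ h2']
        exact hmem q (hgen q hq)
      have hmaps : ∀ a, f a ∈ Finset.univ.filter
          fun p : QuaternionGroup 2 × QuaternionGroup 2 => p.1 * p.2 ≠ p.2 * p.1 := by
        intro a
        induction a using QuotientGroup.induction_on with | H a => ?_
        refine Finset.mem_filter.2 ⟨Finset.mem_univ _, fun h => hij ?_⟩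
        have h' : e ⟨a * i * a⁻¹, hQn.conj_mem i hiQ a⟩ * e ⟨a * j * a⁻¹, hQn.conj_mem j hjQ a⟩ =
            e ⟨a * j * a⁻¹, hQn.conj_mem j hjQ a⟩ * e ⟨a * i * a⁻¹, hQn.conj_mem i hiQ a⟩ := h
        rw [← map_mul, ← map_mul] at h'
        have h'' : (a * i * a⁻¹) * (a * j * a⁻¹) = (a * j * a⁻¹) * (a * i * a⁻¹) :=
          congrArg Subtype.val (e.injective h')
        refine mul_left_cancel (a := a) (mul_right_cancel (b := a⁻¹) ?_)
        calc a * (i * j) * a⁻¹ = (a * i * a⁻¹) * (a * j * a⁻¹) := by group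
          _ = (a * j * a⁻¹) * (a * i * a⁻¹) := h''
          _ = a * (j * i) * a⁻¹ := by group
      have := Nat.card_le_card_of_injective (fun a => (⟨f a, hmaps a⟩ : {x // x ∈ _}))
        fun a b h => hinj (congrArg Subtype.val h)
      rw [Nat.card_eq_finsetCard, quaternion_card_pairs] at this
      exact this
    have h2 : Nat.card (centralizer (Q : Set G)) ≤ 2 := by
      have hle : ∀ q : centralizer (Q : Set G),
          e ⟨q, hCQ q.2⟩ ∈ ({1, QuaternionGroup.a 2} : Finset (QuaternionGroup 2)) := fun q => by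
        have := quaternion_center (e ⟨q, hCQ q.2⟩) fun r => by
          obtain ⟨r, rfl⟩ := e.surjective r
          rw [← map_mul, ← map_mul]
          exact congrArg e (Subtype.ext (q.2 r r.2).symm)
        simpa using this
      have := Nat.card_le_card_of_injective
        (fun q : centralizer (Q : Set G) => (⟨_, hle q⟩ : {x // x ∈ _}))
        fun a b h => Subtype.ext (congrArg (fun y : Q => (y : G))
          (e.injective (congrArg Subtype.val h)))
      rw [Nat.card_eq_finsetCard] at this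
      exact this.trans (Finset.card_le_two)
    rw [← (centralizer (Q : Set G)).card_mul_index]
    exact (Nat.mul_le_mul h2 h1)
  have hij1 : x * (i * j) * x⁻¹ = i := by
    calc x * (i * j) * x⁻¹ = (x * i * x⁻¹) * (x * j * x⁻¹) := by group
      _ = j * (i * j) := by rw [hgi, hgj]
      _ = i ^ 3 * (j * j) := by rw [← mul_assoc, hji, mul_assoc]
      _ = i ^ 4 * i := by rw [hjj]; group
      _ = i := by rw [← hio, pow_orderOf_eq_one, one_mul]
  have h3i : x ^ 3 * i * (x ^ 3)⁻¹ = i := by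
    calc x ^ 3 * i * (x ^ 3)⁻¹ = x * (x * (x * i * x⁻¹) * x⁻¹) * x⁻¹ := by
            rw [pow_succ, pow_two]; group
      _ = i := by rw [hgi, hgj, hij1]
  have h3j : x ^ 3 * j * (x ^ 3)⁻¹ = j := by
    calc x ^ 3 * j * (x ^ 3)⁻¹ = x * (x ^ 3 * i * (x ^ 3)⁻¹) * x⁻¹ := by rw [← hgi]; group
      _ = j := by rw [h3i, hgi]
  have hx3 : x ^ 3 = 1 := by
    have hc : x ^ 3 ∈ centralizer (Q : Set G) := fun q hq => by
      have hmem : x ^ 3 ∈ centralizer (closure {i, j} : Set G) := by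
        rw [centralizer_closure]
        intro q hq
        rcases hq with rfl | rfl
        exacts [(mul_inv_eq_iff_eq_mul.1 h3i).symm, (mul_inv_eq_iff_eq_mul.1 h3j).symm]
      exact hmem q (hgen q hq)
    obtain ⟨k, hk⟩ := IsPGroup.iff_orderOf.1
      (CfsgLib.LocalStructure.pCore_isPGroup (p := 2) (G := G)) ⟨x ^ 3, hCQ hc⟩
    rw [orderOf_mk] at hk
    refine orderOf_eq_one_iff.1 (Nat.eq_one_of_dvd_coprimes ?_ (orderOf_pow_dvd (x := x) 3) hk.dvd)
    rw [hx]
    exact ((Nat.coprime_primes hr Nat.prime_two).2 hr2).pow_right k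
  have hr3 : r = 3 := (Nat.prime_dvd_prime_iff_eq hr Nat.prime_three).1
    (hx ▸ orderOf_dvd_of_pow_eq_one hx3)
  subst hr3
  set H := Q ⊔ zpowers x with hH
  let I : H := ⟨i, mem_sup_left hiQ⟩
  let J : H := ⟨j, mem_sup_left hjQ⟩
  let X : H := ⟨x, mem_sup_right (mem_zpowers x)⟩
  have hR : Cfsg.Agent.S0106.Rel I J X := by
    refine ⟨?_, ?_, ?_, ?_, ?_, ?_⟩ <;> apply Subtype.ext <;>
      simp only [coe_mul, coe_pow, coe_one, I, J, X]
    · rw [← hio, pow_orderOf_eq_one]
    · exact hjj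
    · exact hji
    · exact mul_inv_eq_iff_eq_mul.1 hgi
    · exact mul_inv_eq_iff_eq_mul.1 hgj
    · exact hx3
  obtain ⟨M, hM⟩ := Cfsg.Agent.S0106.exists_hom hR
  have hsurj : Function.Surjective M := by
    have hle : H ≤ M.range.map H.subtype := by
      refine sup_le (fun q hq => (closure_le _).2 ?_ (hgen q hq)) (zpowers_le.2 ?_)
      · rintro z (rfl | rfl)
        · exact ⟨I, ⟨Cfsg.Agent.S0106.W (1, 0, 0), by rw [hM]; simp [Cfsg.Agent.S0106.F]⟩, rfl⟩
        · exact ⟨J, ⟨Cfsg.Agent.S0106.W (0, 1, 0), by rw [hM]; simp [Cfsg.Agent.S0106.F]⟩, rfl⟩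
      · exact ⟨X, ⟨Cfsg.Agent.S0106.W (0, 0, 1), by rw [hM]; simp [Cfsg.Agent.S0106.F]⟩, rfl⟩
    intro y
    obtain ⟨y', hy', hyy⟩ := hle y.2
    obtain rfl : y' = y := Subtype.ext hyy
    exact hy'
  have hSL : Nat.card (Matrix.SpecialLinearGroup (Fin 2) (ZMod 3)) = 24 := by
    rw [← Nat.card_congr (Equiv.ofBijective _ Cfsg.Agent.S0106.W_bijective)]
    simp [Cfsg.Agent.S0106.T3]
  have h24 : 24 ∣ Nat.card H := by
    have h8 : 8 ∣ Nat.card H := hQ8 ▸ card_dvd_of_le le_sup_left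
    have h3 : 3 ∣ Nat.card H :=
      (by rw [Nat.card_zpowers, hx] : Nat.card (zpowers x) = 3) ▸ card_dvd_of_le le_sup_right
    exact Nat.Coprime.mul_dvd_of_dvd_of_dvd (by norm_num : Nat.Coprime 8 3) h8 h3
  have hH24 : Nat.card H = 24 := le_antisymm (hSL ▸ Nat.card_le_card_of_surjective M hsurj)
    (Nat.le_of_dvd Nat.card_pos h24)
  refine ⟨H, ?_, ⟨(MulEquiv.ofBijective M ((Nat.bijective_iff_surjective_and_card _).2
    ⟨hsurj, hSL.trans hH24.symm⟩)).symm⟩⟩
  have hidx : H.index ≤ 2 := by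
    have := H.card_mul_index
    rw [hH24] at this
    omega
  have hpos : H.index ≠ 0 := index_ne_zero_of_finite
  rcases (show H.index = 1 ∨ H.index = 2 by omega) with h | h
  · rw [index_eq_one.1 h]; infer_instance
  · exact normal_of_index_eq_two h

end Cfsg.Agent.S2879
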