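import Cfsg.Statements.S2880
import Cfsg.Agent.Solvable.Frattini

set_option autoImplicit false
open Cfsg

namespace Cfsg.Agent.S2880

open scoped commutatorElement
open CfsgLib

variable {E : Type*} [Group E]

theorem comm_mem_center (hE : Cfsg.IsExtraspecial 2 E) (x y : E) : ⁅x, y⁆ ∈ Subgroup.center E := by
  rw [← hE.1.2.2, commutator_def]
  exact Subgroup.commutator_mem_commutator (Subgroup.mem_top _) (Subgroup.mem_top _)

theorem sq_mem_center [Finite E] (hE : Cfsg.IsExtraspecial 2 E) (x : E) :
    x ^ 2 ∈ Subgroup.center E := by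
  rw [← hE.1.2.1]
  exact Solvable.pow_mem_frattini hE.1.1 x

theorem comm_mul (hE : Cfsg.IsExtraspecial 2 E) (x a b : E) :
    ⁅x, a * b⁆ = ⁅x, a⁆ * ⁅x, b⁆ := by
  rw [commutatorElement_mul_right_eq_mul_conj, mul_assoc ⁅x, a⁆,
    Subgroup.mem_center_iff.mp (comm_mem_center hE x b) a]
  group

/-- A maximal elementary abelian subgroup of plus type is its own centralizer. -/
theorem centralizer_eq [Finite E] (m : ℕ) (hE : Cfsg.IsExtraspecial 2 E)
    (hcard : Nat.card E = 2 ^ (2 * m + 1)) (A : Subgroup E) (hA : Cfsg.IsElementaryAbelian 2 A)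
    (hAc : Nat.card A = 2 ^ (m + 1)) : Subgroup.centralizer (A : Set E) = A := by
  set C := Subgroup.centralizer (A : Set E) with hC
  have hAC : A ≤ C := Subgroup.le_centralizer_iff_isMulCommutative.mpr hA.1
  let P : Subgroup E → Prop := fun D =>
    C ≤ D ∧ Nat.card A * Nat.card C ≤ Nat.card D * Nat.card ↥(A ⊓ Subgroup.centralizer (D : Set E))
  have hP : P C := by
    refine ⟨le_rfl, ?_⟩
    rw [inf_eq_left.mpr (Subgroup.le_centralizer_iff.mp le_rfl), mul_comm]
  obtain ⟨D, ⟨hCD, hD⟩, hmax⟩ := WellFounded.has_min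
    (wellFounded_gt : WellFounded ((· > ·) : Subgroup E → Subgroup E → Prop)) {D | P D} ⟨C, hP⟩
  have hDtop : D = ⊤ := by
    by_contra hne
    obtain ⟨e, he⟩ : ∃ e, e ∉ D := by
      by_contra h
      push Not at h
      exact hne (Subgroup.eq_top_iff' D |>.mpr h)
    have hlt : D < D ⊔ Subgroup.zpowers e := left_lt_sup.mpr fun h => he (h (Subgroup.mem_zpowers e))
    refine hmax (D ⊔ Subgroup.zpowers e) ⟨hCD.trans le_sup_left, ?_⟩ hlt
    refine hD.trans ?_
    have h2 : 2 * Nat.card D ≤ Nat.card ↥(D ⊔ Subgroup.zpowers e) := by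
      rw [← Subgroup.index_mul_card (D.subgroupOf (D ⊔ Subgroup.zpowers e)),
        Nat.card_congr (Subgroup.subgroupOfEquivOfLe hlt.le).toEquiv]
      refine Nat.mul_le_mul_right _ (Subgroup.one_lt_index_of_ne_top ?_)
      rw [Ne, Subgroup.subgroupOf_eq_top]
      exact hlt.not_ge
    set X := A ⊓ Subgroup.centralizer (D : Set E) with hX
    set X' := A ⊓ Subgroup.centralizer ((D ⊔ Subgroup.zpowers e : Subgroup E) : Set E) with hX'
    let f : ↥X →* ↥(Subgroup.center E) :=
      MonoidHom.mk' (fun a => ⟨⁅e, (a : E)⁆, comm_mem_center hE _ _⟩) fun a b =>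
        Subtype.ext (comm_mul hE e a b)
    have hker : f.ker.map X.subtype ≤ X' := by
      rintro _ ⟨a, ha, rfl⟩
      have ha1 : ⁅e, (a : E)⁆ = 1 := congrArg Subtype.val (MonoidHom.mem_ker.mp ha)
      obtain ⟨haA, haD⟩ := Subgroup.mem_inf.mp a.2
      refine Subgroup.mem_inf.mpr ⟨haA, ?_⟩
      have hDle : D ⊔ Subgroup.zpowers e ≤ Subgroup.centralizer ({(a : E)} : Set E) := by
        refine sup_le (fun d hd => ?_) (Subgroup.zpowers_le.mpr ?_)
        · rw [Subgroup.mem_centralizer_singleton_iff]
          exact Subgroup.mem_centralizer_iff.mp haD d hd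
        · rw [Subgroup.mem_centralizer_singleton_iff]
          exact commutatorElement_eq_one_iff_mul_comm.mp ha1
      rw [Subgroup.mem_centralizer_iff]
      intro d hd
      exact Subgroup.mem_centralizer_singleton_iff.mp (hDle hd)
    have hXX' : Nat.card X ≤ 2 * Nat.card X' := by
      rw [← Subgroup.index_mul_card f.ker, Subgroup.index_ker]
      refine Nat.mul_le_mul ?_ ?_
      · exact (Subgroup.card_le_card_group _).trans hE.2.le
      · rw [← Subgroup.card_map_of_injective X.subtype_injective]
        exact Subgroup.card_le_of_le hker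
    calc Nat.card D * Nat.card X ≤ Nat.card D * (2 * Nat.card X') := Nat.mul_le_mul_left _ hXX'
      _ = 2 * Nat.card D * Nat.card X' := by ring
      _ ≤ _ := Nat.mul_le_mul_right _ h2
  subst hDtop
  rw [Subgroup.coe_top, Subgroup.centralizer_univ, Subgroup.card_top, hcard, hAc] at hD
  have h3 : Nat.card ↥(A ⊓ Subgroup.center E) ≤ 2 :=
    (Subgroup.card_le_of_le inf_le_right).trans hE.2.le
  have h4 : Nat.card C ≤ 2 ^ (m + 1) := by
    refine Nat.le_of_mul_le_mul_left (hD.trans ((Nat.mul_le_mul_left _ h3).trans (le_of_eq ?_)))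
      (Nat.two_pow_pos (m + 1))
    ring
  exact (Subgroup.eq_of_le_of_card_ge hAC (hAc ▸ h4)).symm


/-- Let E be an extraspecial 2-group of order 2^(2m+1) of plus type, that is, containing an elementary abelian subgroup of order 2^(m+1) (equivalently, a central product of m dihedral groups of order 8). Then E has exactly 2^(2m) − 2^m elements of order 4. -/
theorem result {E : Type*} [Group E] [Finite E] (m : ℕ) (hm : 1 ≤ m) (hE : Cfsg.IsExtraspecial 2 E) (hcard : Nat.card E = 2 ^ (2 * m + 1)) (hplus : ∃ A : Subgroup E, Cfsg.IsElementaryAbelian 2 A ∧ Nat.card A = 2 ^ (m + 1)) : Nat.card {x : E // orderOf x = 4} = 2 ^ (2 * m) - 2 ^ m := by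
  classical
  obtain ⟨A, hA, hAc⟩ := hplus
  have hC := centralizer_eq m hE hcard A hA hAc
  have : Fintype E := Fintype.ofFinite E
  obtain ⟨z, hz1, hzall⟩ : ∃ z ∈ Subgroup.center E, ∀ w ∈ Subgroup.center E, w = 1 ∨ w = z := by
    obtain ⟨u, v, huv, huniv⟩ := Nat.card_eq_two_iff.mp hE.2
    have hall : ∀ w : ↥(Subgroup.center E), w = u ∨ w = v := fun w => by
      have := Set.eq_univ_iff_forall.mp huniv w
      simpa using this
    rcases hall 1 with h | h
    · exact ⟨v, v.2, fun w hw => (hall ⟨w, hw⟩).imp
        (fun e => by rw [← h] at e; exact congrArg Subtype.val e) (congrArg Subtype.val)⟩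
    · exact ⟨u, u.2, fun w hw => ((hall ⟨w, hw⟩).imp (congrArg Subtype.val)
        (fun e => by rw [← h] at e; exact congrArg Subtype.val e)).symm⟩
  have hsq : ∀ x a : E, a ∈ A → (x * a) ^ 2 = x ^ 2 * ⁅x⁻¹, a⁆ := fun x a ha => by
    have h2 := hA.2 a ha
    rw [sq] at h2
    have h3 : a⁻¹ = a := inv_eq_of_mul_eq_one_left h2
    rw [sq, sq, commutatorElement_def, h3]
    group
  have hz4 : ∀ w ∈ Subgroup.center E, w ^ 2 = 1 := fun w hw => by
    have := pow_card_eq_one' (G := ↥(Subgroup.center E)) (x := ⟨w, hw⟩)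
    rw [hE.2] at this
    exact congrArg Subtype.val this
  have hS : ∀ x : E, orderOf x = 4 ↔ x ^ 2 ≠ 1 := by
    intro x
    constructor
    · intro h h2
      have := orderOf_dvd_of_pow_eq_one h2
      rw [h] at this
      norm_num at this
    · intro h
      refine orderOf_eq_prime_pow (p := 2) (n := 1) (by simpa using h) ?_
      rw [pow_succ, pow_mul, pow_one]
      exact hz4 _ (sq_mem_center hE x)
  rw [Nat.card_congr (Equiv.subtypeEquivRight hS), Nat.card_eq_fintype_card, Fintype.card_subtype]
  set As : Finset E := Finset.univ.filter (· ∈ A) with hAs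
  have hAsc : As.card = 2 ^ (m + 1) := by
    rw [← hAc, Nat.card_eq_fintype_card, Fintype.card_subtype]
  -- count the pairs `(x, a)` with `(x * a)^2 ≠ 1`
  have hfib : ∀ x : E, ((As.filter fun a => (x * a) ^ 2 ≠ 1).card) =
      if x ∈ A then 0 else 2 ^ m := by
    intro x
    split_ifs with hx
    · rw [Finset.card_eq_zero, Finset.filter_eq_empty_iff]
      intro a ha
      simp only [hAs, Finset.mem_filter, Finset.mem_univ, true_and] at ha
      simpa using hA.2 _ (A.mul_mem hx ha)
    · let f : ↥A →* ↥(Subgroup.center E) :=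
        MonoidHom.mk' (fun a => ⟨⁅x⁻¹, (a : E)⁆, comm_mem_center hE _ _⟩) fun a b =>
          Subtype.ext (comm_mul hE x⁻¹ a b)
      have hne : f.ker ≠ ⊤ := by
        intro h
        apply hx
        rw [← inv_mem_iff, ← hC, Subgroup.mem_centralizer_iff]
        intro a ha
        have : (⟨a, ha⟩ : A) ∈ f.ker := h ▸ Subgroup.mem_top _
        exact (commutatorElement_eq_one_iff_mul_comm.mp
          (congrArg Subtype.val (MonoidHom.mem_ker.mp this))).symm
      have hk : Nat.card f.ker = 2 ^ m := by
        have h1 := Subgroup.one_lt_index_of_ne_top hne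
        have h2 : f.ker.index ≤ 2 := by
          rw [Subgroup.index_ker]; exact (Subgroup.card_le_card_group _).trans hE.2.le
        have h3 := Subgroup.index_mul_card f.ker
        rw [show f.ker.index = 2 by omega, hAc, pow_succ'] at h3
        omega
      set K : Finset E := As.filter fun a => ⁅x⁻¹, a⁆ = 1 with hK
      have hKc : K.card = 2 ^ m := by
        rw [← hk, ← Subgroup.card_map_of_injective A.subtype_injective,
          Nat.card_eq_fintype_card, Fintype.card_subtype]
        congr 1
        ext a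
        simp only [hK, hAs, Finset.mem_filter, Finset.mem_univ, true_and, Subgroup.mem_map]
        constructor
        · rintro ⟨ha, h1⟩
          exact ⟨⟨a, ha⟩, MonoidHom.mem_ker.mpr (Subtype.ext h1), rfl⟩
        · rintro ⟨b, hb, rfl⟩
          exact ⟨b.2, congrArg Subtype.val (MonoidHom.mem_ker.mp hb)⟩
      rcases hzall _ (sq_mem_center hE x) with h1 | h1
      · have : (As.filter fun a => (x * a) ^ 2 ≠ 1) = As \ K := by
          ext a
          simp only [hK, Finset.mem_filter, Finset.mem_sdiff]
          constructor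
          · rintro ⟨ha, h⟩
            refine ⟨ha, fun hh => h ?_⟩
            rw [hsq x a (by simpa [hAs] using ha), h1, hh.2, one_mul]
          · rintro ⟨ha, h⟩
            refine ⟨ha, fun hh => h ⟨ha, ?_⟩⟩
            rwa [hsq x a (by simpa [hAs] using ha), h1, one_mul] at hh
        rw [this, Finset.card_sdiff_of_subset (Finset.filter_subset _ _), hKc, hAsc, pow_succ']
        omega
      · by_cases hz : z = 1
        · exfalso
          obtain ⟨u, v, huv, -⟩ := Nat.card_eq_two_iff.mp hE.2
          apply huv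
          have hu : ∀ w : ↥(Subgroup.center E), (w : E) = 1 := fun w =>
            (hzall w w.2).elim id fun h => h.trans hz
          exact Subtype.ext ((hu u).trans (hu v).symm)
        have : (As.filter fun a => (x * a) ^ 2 ≠ 1) = K := by
          ext a
          simp only [hK, Finset.mem_filter]
          refine and_congr_right fun ha => ?_
          rw [hsq x a (by simpa [hAs] using ha), h1]
          constructor
          · intro h
            rcases hzall _ (comm_mem_center hE x⁻¹ a) with h2 | h2
            · exact h2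
            · exact absurd (by rw [h2, ← sq, hz4 z hz1]) h
          · intro h2
            rw [h2, mul_one]
            exact hz
        rw [this, hKc]
  have hsum := Finset.card_filter (fun q : E × E => (q.1 * q.2) ^ 2 ≠ 1) (Finset.univ ×ˢ As)
  have hleft : ((Finset.univ ×ˢ As).filter fun q : E × E => (q.1 * q.2) ^ 2 ≠ 1).card =
      ((Finset.univ.filter fun x : E => x ^ 2 ≠ 1) ×ˢ As).card := by
    refine Finset.card_nbij' (fun q => (q.1 * q.2, q.2)) (fun q => (q.1 * q.2⁻¹, q.2)) ?_ ?_ ?_ ?_
    · intro q hq; simp only [Finset.coe_filter, Finset.mem_product, Set.mem_setOf_eq, Finset.coe_product, Set.mem_prod, Finset.mem_coe, Finset.mem_univ, true_and] at hq ⊢; exact ⟨hq.2, hq.1⟩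
    · intro q hq; simp only [Finset.coe_filter, Finset.mem_product, Set.mem_setOf_eq, Finset.coe_product, Set.mem_prod, Finset.mem_coe, Finset.mem_univ, true_and] at hq ⊢; exact ⟨hq.2, by simpa using hq.1⟩
    · intro q _; simp
    · intro q _; simp
  rw [hleft, Finset.sum_product, Finset.card_product, hAsc] at hsum
  simp only [← Finset.card_filter, hfib] at hsum
  rw [Finset.sum_ite, Finset.sum_const_zero, zero_add, Finset.sum_const, smul_eq_mul] at hsum
  have hnot : (Finset.univ.filter fun x : E => ¬ x ∈ A).card = 2 ^ (2 * m + 1) - 2 ^ (m + 1) := by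
    rw [Finset.filter_not, Finset.card_sdiff_of_subset (Finset.filter_subset _ _), ← hAs, hAsc,
      Finset.card_univ, ← Nat.card_eq_fintype_card, hcard]
  rw [hnot] at hsum
  refine Nat.eq_of_mul_eq_mul_right (Nat.two_pow_pos (m + 1)) (hsum.trans ?_)
  rw [Nat.sub_mul, Nat.sub_mul]
  congr 1 <;> ring

end Cfsg.Agent.S2880
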