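import Cfsg.Statements.S2881
import Cfsg.Agent.S2880

set_option autoImplicit false
open Cfsg

namespace Cfsg.Agent.S2881

/-- Let E be an extraspecial 2-group of order 2^(2m+1) of plus type (containing an elementary abelian subgroup of order 2^(m+1)), and let ω be an automorphism of E of order 5 whose fixed points are exactly the centre of E. Then m is divisible by 4. -/
theorem result {E : Type*} [Group E] [Finite E] (m : ℕ) (hm : 1 ≤ m) (hE : Cfsg.IsExtraspecial 2 E) (hcard : Nat.card E = 2 ^ (2 * m + 1)) (hplus : ∃ A : Subgroup E, Cfsg.IsElementaryAbelian 2 A ∧ Nat.card A = 2 ^ (m + 1)) (ω : E ≃* E) (hω : orderOf ω = 5) (hfix : ∀ x : E, ω x = x ↔ x ∈ Subgroup.center E) : 4 ∣ m := by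
  classical
  have hcnt := S2880.result m hm hE hcard hplus
  have : Fintype E := Fintype.ofFinite E
  let σ : Equiv.Perm {x : E // orderOf x = 4} :=
    Equiv.subtypeEquiv ω.toEquiv fun x => by simp
  have hσ : ∀ n : ℕ, ∀ x : {x : E // orderOf x = 4},
      (((σ ^ n) x : {x : E // orderOf x = 4}) : E) = (ω ^ n : MulAut E) (x : E) := by
    intro n
    induction n with
    | zero => intro x; rfl
    | succ n ih => intro x; rw [pow_succ', pow_succ', Equiv.Perm.mul_apply, MulAut.mul_apply, ← ih x]; rfl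
  have hσ5 : σ ^ 5 ^ 1 = 1 := by
    refine Equiv.ext fun x => Subtype.ext ?_
    rw [pow_one, hσ 5 x, ← hω, pow_orderOf_eq_one]
    rfl
  have h5 : 5 ∣ Fintype.card {x : E // orderOf x = 4} := by
    by_contra h
    have : Fact (Nat.Prime 5) := ⟨by decide⟩
    obtain ⟨a, ha⟩ := Equiv.Perm.exists_fixed_point_of_prime h hσ5
    have hfa : ω (a : E) = a := congrArg Subtype.val ha
    have hc := (hfix _).mp hfa
    have h2 := pow_card_eq_one' (G := ↥(Subgroup.center E)) (x := ⟨(a : E), hc⟩)
    rw [hE.2] at h2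
    have h3 := orderOf_dvd_of_pow_eq_one (congrArg Subtype.val h2 : (a : E) ^ 2 = 1)
    rw [a.2] at h3
    norm_num at h3
  rw [← Nat.card_eq_fintype_card, hcnt] at h5
  have hfac : 2 ^ (2 * m) - 2 ^ m = 2 ^ m * (2 ^ m - 1) := by
    rw [Nat.mul_sub, mul_one, ← pow_add, two_mul]
  rw [hfac] at h5
  rcases (Nat.Prime.dvd_mul (by decide : Nat.Prime 5)).mp h5 with h | h
  · exact absurd ((Nat.Prime.dvd_of_dvd_pow (by decide : Nat.Prime 5)) h) (by decide)
  · have h1 : 2 ^ m % 5 = 1 := by
      have := Nat.two_pow_pos m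
      omega
    rw [← Nat.div_add_mod m 4, pow_add, pow_mul, Nat.mul_mod, Nat.pow_mod] at h1
    norm_num at h1
    have hlt := Nat.mod_lt m (show 4 > 0 by norm_num)
    have : m % 4 = 0 := by
      interval_cases m % 4 <;> simp_all
    exact Nat.dvd_of_mod_eq_zero this

end Cfsg.Agent.S2881
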