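import Cfsg.Statements.S2907

set_option autoImplicit false
open Cfsg

namespace Cfsg.Agent.S2907

open scoped commutatorElement


/-- Let X be a finite semi-extraspecial p-group and x an element of X outside the centre. Then the index of C_X(x) in X equals the order of Z(X), and the commutators [x, y], y ∈ X, form exactly the centre Z(X). -/
theorem result {X : Type*} [Group X] [Finite X] {p : ℕ} [Fact p.Prime] (hX : Cfsg.IsSemiExtraspecial p X) (x : X) (hx : x ∉ Subgroup.center X) : (Subgroup.centralizer ({x} : Set X)).index = Nat.card ↥(Subgroup.center X) ∧ {z : X | ∃ y : X, z = x * y * x⁻¹ * y⁻¹} = (Subgroup.center X : Set X) := by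
  obtain ⟨⟨_hXp, _hΦ, hcomm⟩, hY⟩ := hX
  have hmem : ∀ y : X, ⁅x, y⁆ ∈ Subgroup.center X := fun y => by
    rw [← hcomm, commutator_def]
    exact Subgroup.commutator_mem_commutator (Subgroup.mem_top _) (Subgroup.mem_top _)
  let f : X →* ↥(Subgroup.center X) :=
    MonoidHom.mk' (fun y => ⟨⁅x, y⁆, hmem y⟩) fun y z => Subtype.ext (by
      show ⁅x, y * z⁆ = ⁅x, y⁆ * ⁅x, z⁆
      rw [commutatorElement_mul_right_eq_mul_conj, mul_assoc ⁅x, y⁆,
        Subgroup.mem_center_iff.mp (hmem z) y]
      group)
  have hker : f.ker = Subgroup.centralizer ({x} : Set X) := by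
    ext y
    rw [MonoidHom.mem_ker, Subgroup.mem_centralizer_singleton_iff, Subtype.ext_iff]
    show ⁅x, y⁆ = 1 ↔ _
    rw [commutatorElement_eq_one_iff_mul_comm]
    exact eq_comm
  have hsurj : f.range = ⊤ := by
    by_contra hne
    obtain ⟨M, hM, hle⟩ := (eq_top_or_exists_le_coatom f.range).resolve_left hne
    set Y := M.map (Subgroup.center X).subtype with hYdef
    have hYM : Y.subgroupOf (Subgroup.center X) = M :=
      Subgroup.comap_map_eq_self_of_injective (Subgroup.center X).subtype_injective M
    obtain ⟨hn, hex⟩ := hY Y (Subgroup.map_subtype_le _) (by rw [hYM]; exact hM)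
    have hxc : (x : X ⧸ Y) ∈ Subgroup.center (X ⧸ Y) := by
      rw [Subgroup.mem_center_iff]
      intro q
      induction q using QuotientGroup.induction_on with | H y => ?_
      have h1 : ⁅x, y⁆ ∈ Y := ⟨f y, hle ⟨y, rfl⟩, rfl⟩
      rw [← QuotientGroup.eq_one_iff (N := Y)] at h1
      have h2 : ⁅(x : X ⧸ Y), (y : X ⧸ Y)⁆ = 1 := by
        rw [← h1]
        exact (map_commutatorElement (QuotientGroup.mk' Y) x y).symm
      exact (commutatorElement_eq_one_iff_mul_comm.mp h2).symm
    set Zb := (Subgroup.center X).map (QuotientGroup.mk' Y) with hZb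
    have hZle : Zb ≤ Subgroup.center (X ⧸ Y) := by
      rintro _ ⟨z, hz, rfl⟩
      rw [Subgroup.mem_center_iff]
      intro q
      induction q using QuotientGroup.induction_on with | H y => ?_
      exact congrArg (QuotientGroup.mk' Y) (Subgroup.mem_center_iff.mp hz y)
    have hZne : Zb ≠ ⊥ := by
      rw [hZb, Ne, Subgroup.map_eq_bot_iff, QuotientGroup.ker_mk']
      intro h
      apply hM.1
      rw [← hYM, Subgroup.subgroupOf_eq_top]
      exact h
    have hZeq : Zb = Subgroup.center (X ⧸ Y) := by
      refine Subgroup.eq_of_le_of_card_ge hZle ?_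
      rw [hex.2]
      have hd : Nat.card Zb ∣ p := hex.2 ▸ Subgroup.card_dvd_of_le hZle
      rcases (Nat.dvd_prime Fact.out).mp hd with h | h
      · exact absurd (Subgroup.eq_bot_of_card_eq _ h) hZne
      · exact h.ge
    rw [← hZeq] at hxc
    obtain ⟨z, hz, hzx⟩ := hxc
    have h3 : z⁻¹ * x ∈ Y := QuotientGroup.eq.mp hzx
    apply hx
    have := Subgroup.mul_mem _ hz (Subgroup.map_subtype_le _ h3)
    simpa using this
  constructor
  · rw [← hker, Subgroup.index_ker, hsurj, Subgroup.card_top]
  · ext z
    constructor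
    · rintro ⟨y, rfl⟩
      simpa [commutatorElement_def] using hmem y
    · intro hz
      obtain ⟨y, hy⟩ := (hsurj ▸ Subgroup.mem_top _ : (⟨z, hz⟩ : ↥(Subgroup.center X)) ∈ f.range)
      exact ⟨y, by rw [← commutatorElement_def]; exact (congrArg Subtype.val hy).symm⟩

end Cfsg.Agent.S2907
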