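import Cfsg.Statements.S2908
import Cfsg.Agent.LocalEven48.Basic

set_option autoImplicit false
open Cfsg

namespace Cfsg.Agent.S2908

open CfsgLib
open scoped commutatorElement


/-- Let P be a p-subgroup of a finite group, normalized by a p-subgroup A and by a subgroup B of order prime to p that commutes elementwise with A. If [P, B] ≤ [P, A], then B centralizes P. -/
theorem result {G : Type*} [Group G] [Finite G] {p : ℕ} [Fact p.Prime] (P A B : Subgroup G) (hP : IsPGroup p ↥P) (hA : IsPGroup p ↥A) (hB : ¬ p ∣ Nat.card ↥B) (hnA : A ≤ Subgroup.normalizer (P : Set G)) (hnB : B ≤ Subgroup.normalizer (P : Set G)) (hAB : ⁅A, B⁆ = ⊥) (hcomm : ⁅P, B⁆ ≤ ⁅P, A⁆) : ⁅P, B⁆ = ⊥ := by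
  set T := P ⊔ A with hT
  have hTp : IsPGroup p T := hP.to_sup_of_normal_left' hA hnA
  have hBA : B ≤ Subgroup.centralizer (A : Set G) := by
    rw [← Subgroup.commutator_eq_bot_iff_le_centralizer, Subgroup.commutator_comm]; exact hAB
  have hBT : B ≤ Subgroup.normalizer (T : Set G) :=
    LocalEven48.le_normalizer_sup hnB (hBA.trans (Subgroup.centralizer_le_normalizer _))
  have hsub : ⁅T, B⁆ ≤ (frattini T).map T.subtype := by
    refine le_trans ?_ (Subgroup.map_mono (Solvable.commutator_le_frattini hTp))
    rw [commutator_def, Subgroup.map_commutator, ← MonoidHom.range_eq_map,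
      Subgroup.range_subtype]
    rw [Subgroup.commutator_le]
    intro t ht b hb
    obtain ⟨x, hx, a, ha, rfl⟩ := Coprime.exists_mul_of_mem_sup hnA ht
    have h0 : ⁅a, b⁆ = 1 := commutatorElement_eq_one_iff_mul_comm.mpr
      (Subgroup.mem_centralizer_iff.mp (hBA hb) a ha)
    rw [commutatorElement_mul_left_eq_conj_mul, h0]
    simp only [mul_one, mul_inv_cancel, one_mul]
    exact Subgroup.commutator_mono le_sup_left le_sup_right
      (hcomm (Subgroup.commutator_mem_commutator hx hb))
  have h := Coprime.le_centralizer_of_commutator_le_frattini hBT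
    ((LocalEven48.coprime_card hTp hB).coprime_dvd_right
      (Subgroup.card_subgroup_dvd_card (frattini T))) hsub
  rw [eq_bot_iff, ← (Subgroup.commutator_comm B P)]
  refine le_of_eq (Subgroup.commutator_eq_bot_iff_le_centralizer.mpr
    (h.trans (Subgroup.centralizer_le (SetLike.coe_subset_coe.mpr le_sup_left))))

end Cfsg.Agent.S2908
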