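import Cfsg.Statements.S2910
import Cfsg.Agent.Transfer.Frobenius
import Cfsg.Agent.OddOrder.BG1Stab

set_option autoImplicit false
open Cfsg

namespace Cfsg.Agent.S2910

/-- Let p be an odd prime dividing the order of the finite group G and P a Sylow p-subgroup of G. If Ω₁(P) (generated by the elements of order dividing p) is contained in the centre of G, then G has a normal p-complement. In particular, if G is quasisimple then Ω₁(P) is not central in G. -/
theorem result {G : Type*} [Group G] [Finite G] {p : ℕ} [Fact p.Prime] (hp : p ≠ 2) (hdiv : p ∣ Nat.card G) (P : Sylow p G) (hZ : Cfsg.omegaOne p (P : Subgroup G) ≤ Subgroup.center G) : Cfsg.HasNormalPComplement p G ∧ ¬ Cfsg.IsQuasisimple G := by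
  have h : Cfsg.HasNormalPComplement p G := by
    refine CfsgLib.Transfer.hasNormalPComplement_of_local P fun Q hQ g hg hgp => ?_
    refine Subgroup.mem_centralizer_iff.mpr fun x hx => ?_
    refine (CfsgLib.OddOrder.Stab.commute_of_fix_prime_order hp (P.2.to_le hQ) hgp hg
      (fun y hy hyp => ?_) x hx).eq.symm
    exact Subgroup.mem_center_iff.mp (hZ (Subgroup.subset_closure ⟨hQ hy, hyp⟩)) g
  refine ⟨h, fun hq => ?_⟩
  obtain ⟨hperf, -⟩ := hq
  obtain ⟨R, N, hN, hc⟩ := h
  have hcard : Nat.card (G ⧸ N) = Nat.card (R : Subgroup G) := by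
    rw [← Subgroup.index_eq_card]; exact hc.symm.index_eq_card
  have hR : 1 < Nat.card (R : Subgroup G) := by
    haveI := (Subgroup.nontrivial_iff_ne_bot (R : Subgroup G)).mpr (R.ne_bot_of_dvd_card hdiv)
    exact Finite.one_lt_card
  haveI : Nontrivial (G ⧸ N) := Finite.one_lt_card_iff_nontrivial.mp (hcard ▸ hR)
  obtain ⟨k, hk⟩ := IsPGroup.iff_card.mp R.2
  haveI : Group.IsNilpotent (G ⧸ N) :=
    (IsPGroup.of_card (p := p) (n := k) (hcard.trans hk)).isNilpotent
  have h1 := IsSolvable.commutator_lt_top_of_nontrivial (G ⧸ N)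
  refine h1.ne ?_
  rw [commutator_def, ← Subgroup.map_top_of_surjective _ (QuotientGroup.mk'_surjective N),
    ← Subgroup.map_commutator, ← commutator_def, hperf.commutator_eq_top]

end Cfsg.Agent.S2910
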