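import Cfsg.Statements.S2911
import Cfsg.Agent.S2872
import Mathlib.GroupTheory.SpecificGroups.Dihedral

set_option autoImplicit false
open Cfsg

namespace Cfsg.Agent.S2911

open Subgroup

theorem facts : (∀ x : Multiplicative (ZMod 2) × DihedralGroup 4, x * x = 1 →
      (∀ y, x * y = y * x) → x ∈ [1, (Multiplicative.ofAdd 1, 1), (1, DihedralGroup.r 2),
        (Multiplicative.ofAdd 1, DihedralGroup.r 2)]) ∧
    (∀ y : Multiplicative (ZMod 2) × DihedralGroup 4,
      y * y = 1 ∨ y * y = (1, DihedralGroup.r 2)) := by
  refine ⟨?_, ?_⟩ <;> decide +kernel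


/-- A finite group whose Sylow 2-subgroups are isomorphic to the direct product of a group of order 2 and a dihedral group of order 8 has a subgroup of index two. -/
theorem result {G : Type*} [Group G] [Finite G] (S : Sylow 2 G) (hS : Nonempty (↥(S : Subgroup G) ≃* Multiplicative (ZMod 2) × DihedralGroup 4)) : ∃ H : Subgroup G, H.index = 2 := by
  obtain ⟨e⟩ := hS
  rcases S2872.result S with h | h | h
  · have hp := CfsgLib.Transfer.isPGroup_quotient_pResidual (G := G) (p := 2)
    obtain ⟨M, hM, -⟩ := CfsgLib.Solvable.exists_coatom_ge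
      (H := (⊥ : Subgroup (G ⧸ Cfsg.pResidual 2 G))) (fun hb => h (by
        rw [eq_top_iff]
        intro g _
        have : (QuotientGroup.mk g : G ⧸ Cfsg.pResidual 2 G) ∈ (⊤ : Subgroup _) := mem_top _
        rw [← hb, mem_bot] at this
        exact (QuotientGroup.eq_one_iff g).mp this))
    refine ⟨M.comap (QuotientGroup.mk' _), ?_⟩
    rw [index_comap_of_surjective _ (QuotientGroup.mk'_surjective _)]
    exact CfsgLib.Solvable.index_coatom hp hM
  · exfalso
    set c0 : ↥(S : Subgroup G) := e.symm (Multiplicative.ofAdd 1, 1) with hc0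
    have hcent : ∀ y, c0 * y = y * c0 := fun y => by
      apply e.injective
      rw [map_mul, map_mul, hc0, MulEquiv.apply_symm_apply]
      exact Prod.ext (mul_comm _ _) (by simp)
    have hmem : (c0 : G) ∈ Cfsg.omegaOne 2
        ((S : Subgroup G) ⊓ centralizer ((S : Subgroup G) : Set G)) := by
      refine subset_closure ⟨⟨c0.2, ?_⟩, ?_⟩
      · intro s hs
        exact congrArg Subtype.val (hcent ⟨s, hs⟩).symm
      · have : c0 ^ 2 = 1 := e.injective (by
          rw [map_pow, map_one e, hc0, MulEquiv.apply_symm_apply]; rfl)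
        exact congrArg Subtype.val this
    obtain ⟨y, hy, hyc⟩ := h hmem
    obtain rfl : y = c0 := Subtype.ext hyc
    let f : ↥(S : Subgroup G) →* Multiplicative (ZMod 2) :=
      (MonoidHom.fst _ _).comp e.toMonoidHom
    have hker : frattini ↥(S : Subgroup G) ≤ f.ker := by
      refine CfsgLib.Solvable.frattini_le_of_elementary (p := 2) ?_ fun x => ?_
      · exact Abelianization.commutator_subset_ker f
      · rw [MonoidHom.mem_ker, map_pow]
        have := pow_card_eq_one' (x := f x)
        rwa [Nat.card_congr Multiplicative.toAdd, Nat.card_zmod] at this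
    have h1 := MonoidHom.mem_ker.mp (hker hy)
    simp [f, hc0] at h1
  · exfalso
    obtain ⟨g, hg, z, hz, hne⟩ := h
    apply hne
    clear hne
    -- conjugation by `g` on `S`
    have hconj : ∀ x : ↥(S : Subgroup G), g * (x : G) * g⁻¹ ∈ (S : Subgroup G) := fun x =>
      (mem_normalizer_iff.mp hg _).mp x.2
    set d : ↥(S : Subgroup G) := e.symm (1, DihedralGroup.r 2) with hd
    have hdfix : g * (d : G) * g⁻¹ = d := by
      set r : ↥(S : Subgroup G) := e.symm (1, DihedralGroup.r 1) with hr
      have hrd : r * r = d := e.injective (by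
        rw [map_mul, hr, hd, MulEquiv.apply_symm_apply, MulEquiv.apply_symm_apply]; rfl)
      have h2 : (⟨_, hconj r⟩ : ↥(S : Subgroup G)) * ⟨_, hconj r⟩ = d := by
        rcases facts.2 (e ⟨_, hconj r⟩) with h3 | h3
        · exfalso
          rw [← map_mul, ← map_one e] at h3
          have h4 := congrArg Subtype.val (e.injective h3)
          simp only [Subgroup.coe_mul, OneMemClass.coe_one] at h4
          have h5 : ((r * r : ↥(S : Subgroup G)) : G) = 1 := by
            rw [Subgroup.coe_mul]
            calc (r : G) * r = g⁻¹ * (g * r * g⁻¹ * (g * r * g⁻¹)) * g := by group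
              _ = 1 := by rw [h4]; group
          rw [hrd] at h5
          have h6 : e d = e 1 := congrArg e (Subtype.ext h5)
          rw [hd, MulEquiv.apply_symm_apply, map_one] at h6
          exact absurd h6 (by decide)
        · apply e.injective
          rw [map_mul, h3, hd, MulEquiv.apply_symm_apply]
      have h7 := congrArg Subtype.val h2
      rw [← hrd] at h7
      simp only [Subgroup.coe_mul] at h7
      rw [← hrd, Subgroup.coe_mul]
      calc g * ((r : G) * r) * g⁻¹ = (g * r * g⁻¹) * (g * r * g⁻¹) := by group
        _ = _ := h7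
    suffices hle : Cfsg.omegaOne 2 ((S : Subgroup G) ⊓ centralizer ((S : Subgroup G) : Set G)) ≤
        centralizer ({g} : Set G) by
      have := mem_centralizer_singleton_iff.mp (hle hz)
      rw [← this, mul_inv_cancel_right]
    refine (closure_le _).mpr ?_
    rintro x ⟨⟨hxS, hxC⟩, hx2⟩
    -- image of a central involution of `S`
    have key : ∀ y : G, y ∈ (S : Subgroup G) → (∀ s ∈ (S : Subgroup G), s * y = y * s) → y ^ 2 = 1 →
        y = 1 ∨ y = d ∨ y = (e.symm (Multiplicative.ofAdd 1, 1) : ↥(S : Subgroup G)) ∨
          y = (e.symm (Multiplicative.ofAdd 1, 1) : ↥(S : Subgroup G)) * (d : G) := by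
      intro y hyS hyC hy2
      have h1 : e ⟨y, hyS⟩ * e ⟨y, hyS⟩ = 1 := by
        rw [← map_mul, ← map_one e]
        exact congrArg e (Subtype.ext (by simpa [sq] using hy2))
      have h2 : ∀ w, e ⟨y, hyS⟩ * w = w * e ⟨y, hyS⟩ := fun w => by
        obtain ⟨u, rfl⟩ := e.surjective w
        rw [← map_mul, ← map_mul]
        exact congrArg e (Subtype.ext (hyC u u.2).symm)
      have h3 := facts.1 _ h1 h2
      simp only [List.mem_cons, List.not_mem_nil, or_false] at h3
      rcases h3 with h | h | h | h
      · exact Or.inl (congrArg Subtype.val (e.injective (h.trans e.map_one.symm) :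
          (⟨y, hyS⟩ : ↥(S : Subgroup G)) = 1))
      · exact Or.inr (Or.inr (Or.inl (congrArg Subtype.val ((e.eq_symm_apply).mpr h))))
      · exact Or.inr (Or.inl (congrArg Subtype.val ((e.eq_symm_apply).mpr h)))
      · refine Or.inr (Or.inr (Or.inr ?_))
        show y = ((e.symm (Multiplicative.ofAdd 1, 1) * d : ↥(S : Subgroup G)) : G)
        refine congrArg Subtype.val (e.injective (h.trans ?_) : (⟨y, hyS⟩ : ↥(S : Subgroup G)) = _)
        rw [map_mul, hd, MulEquiv.apply_symm_apply, MulEquiv.apply_symm_apply]
        rfl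
    set c : G := ((e.symm (Multiplicative.ofAdd 1, 1) : ↥(S : Subgroup G)) : G) with hc
    have hcS : c ∈ (S : Subgroup G) := SetLike.coe_mem _
    have hcC : ∀ s ∈ (S : Subgroup G), s * c = c * s := fun s hs => by
      refine congrArg Subtype.val (e.injective ?_ : (⟨s, hs⟩ : ↥(S : Subgroup G)) *
        e.symm (Multiplicative.ofAdd 1, 1) = e.symm (Multiplicative.ofAdd 1, 1) * ⟨s, hs⟩)
      rw [map_mul, map_mul, MulEquiv.apply_symm_apply]
      exact Prod.ext (mul_comm _ _) (by simp)
    have hc2 : c ^ 2 = 1 := by
      refine congrArg Subtype.val (e.injective ?_ :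
        (e.symm (Multiplicative.ofAdd 1, 1)) ^ 2 = (1 : ↥(S : Subgroup G)))
      rw [map_pow, map_one e, MulEquiv.apply_symm_apply]; rfl
    have hgc : g * c * g⁻¹ = c := by
      have hinS : g * c * g⁻¹ ∈ (S : Subgroup G) := (mem_normalizer_iff.mp hg _).mp hcS
      have hcc : ∀ s ∈ (S : Subgroup G), s * (g * c * g⁻¹) = (g * c * g⁻¹) * s := by
        intro s hs
        have h1 : g⁻¹ * s * g ∈ (S : Subgroup G) := by
          have := (mem_normalizer_iff.mp (inv_mem hg) s).mp hs
          simpa using this
        calc s * (g * c * g⁻¹) = g * ((g⁻¹ * s * g) * c) * g⁻¹ := by group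
          _ = g * (c * (g⁻¹ * s * g)) * g⁻¹ := by rw [hcC _ h1]
          _ = g * c * g⁻¹ * s := by group
      have hsq : (g * c * g⁻¹) ^ 2 = 1 := by
        rw [conj_pow, hc2]; group
      rcases key _ hinS hcc hsq with h | h | h | h
      · exfalso
        have : c = 1 := by
          calc c = g⁻¹ * (g * c * g⁻¹) * g := by group
            _ = 1 := by rw [h]; group
        have h6 := (e.symm_apply_eq).mp (Subtype.ext this :
          e.symm (Multiplicative.ofAdd 1, 1) = 1)
        rw [map_one e] at h6
        exact absurd h6 (by decide)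
      · exfalso
        have : c = (d : G) := by
          rw [← hdfix] at h
          exact mul_left_cancel (mul_right_cancel h)
        have h6 := e.symm.injective (Subtype.ext this :
          e.symm (Multiplicative.ofAdd 1, 1) = e.symm (1, DihedralGroup.r 2))
        exact absurd h6 (by decide)
      · exact h
      · -- `g` would swap `c` and `c * d`, but an odd power of `g` lies in `S`
        exfalso
        have hd2 : (d : G) * d = 1 := by
          refine congrArg Subtype.val (e.injective ?_ : d * d = 1)
          rw [map_mul, map_one e, hd, MulEquiv.apply_symm_apply]; rfl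
        have hiter : ∀ k : ℕ, g ^ k * c * (g ^ k)⁻¹ = c * (d : G) ^ k := by
          intro k
          induction k with
          | zero => simp
          | succ k ih =>
            calc g ^ (k + 1) * c * (g ^ (k + 1))⁻¹ = g * (g ^ k * c * (g ^ k)⁻¹) * g⁻¹ := by
                  rw [pow_succ']; group
              _ = g * c * g⁻¹ * (g * (d : G) * g⁻¹) ^ k := by rw [ih, conj_pow]; group
              _ = c * (d : G) ^ (k + 1) := by rw [h, hdfix, mul_assoc, ← pow_succ']
        set N := normalizer ((S : Subgroup G) : Set G) with hNdef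
        set SN := (S : Subgroup G).subgroupOf N with hSN
        have hn : SN.Normal := (normal_subgroupOf_iff_le_normalizer le_normalizer).mpr le_rfl
        have hk : g ^ SN.index ∈ (S : Subgroup G) := SN.pow_index_mem ⟨g, hg⟩
        have hkodd : ¬ 2 ∣ SN.index := (S.subtype le_normalizer).not_dvd_index
        have h8 := hiter SN.index
        rw [hcC _ hk, mul_inv_cancel_right] at h8
        obtain ⟨j, hj⟩ : ∃ j, SN.index = 2 * j + 1 := ⟨SN.index / 2, by omega⟩
        rw [hj, pow_succ, pow_mul, sq, hd2, one_pow, one_mul] at h8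
        have h9 : d = 1 := Subtype.ext (left_eq_mul.mp h8)
        rw [hd, MulEquiv.symm_apply_eq, map_one e] at h9
        exact absurd h9 (by decide)
    show x ∈ centralizer ({g} : Set G)
    rw [mem_centralizer_singleton_iff]
    have hcomm : ∀ y : G, g * y * g⁻¹ = y → y * g = g * y := fun y hy => by
      calc y * g = g * y * g⁻¹ * g := by rw [hy]
        _ = g * y := by group
    rcases key x hxS (fun s hs => mem_centralizer_iff.mp hxC s hs) hx2 with rfl | rfl | rfl | rfl
    · simp
    · exact hcomm _ hdfix
    · exact hcomm _ hgc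
    · refine hcomm _ ?_
      calc g * (c * (d : G)) * g⁻¹ = (g * c * g⁻¹) * (g * (d : G) * g⁻¹) := by group
        _ = _ := by rw [hgc, hdfix]

end Cfsg.Agent.S2911
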