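import Cfsg.Statements.S2922
import Cfsg.Agent.CharP49.Basic

namespace Cfsg.Agent.S2922

open CfsgLib.CharP49

theorem result {X : Type*} [Group X] [Finite X] {p : ℕ} [Fact p.Prime] (B C : Subgroup X) (hB : IsPGroup p ↥B) (hCB : C ≤ B) (hCn : (C.subgroupOf B).Normal) (hC : Cfsg.generalizedFittingSubgroup ↥(Subgroup.normalizer (C : Set X)) = Cfsg.pCore p ↥(Subgroup.normalizer (C : Set X))) : Cfsg.generalizedFittingSubgroup ↥(Subgroup.normalizer (B : Set X)) = Cfsg.pCore p ↥(Subgroup.normalizer (B : Set X)) ∧ Cfsg.generalizedFittingSubgroup ↥(Subgroup.centralizer (B : Set X)) = Cfsg.pCore p ↥(Subgroup.centralizer (B : Set X)) := by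
  set M := Subgroup.normalizer (C : Set X) with hM
  set N := Subgroup.normalizer (B : Set X) with hN
  set K := Subgroup.centralizer (B : Set X) with hK
  have hBM : B ≤ M := (Subgroup.normal_subgroupOf_iff_le_normalizer hCB).1 hCn
  have hKM : K ≤ M := (Subgroup.centralizer_le hCB).trans (Subgroup.centralizer_le_normalizer _)
  have hKN : K ≤ N := Subgroup.centralizer_le_normalizer _
  have hBN : B ≤ N := Subgroup.le_normalizer
  have hMchar : CharP p M := fstar_eq_pCore_iff.1 hC
  -- the centraliser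
  have h1 : CharP p (Subgroup.centralizer ((B.subgroupOf M : Subgroup M) : Set M)) :=
    charP_centralizer hMchar (hB.comap_of_injective M.subtype M.subtype_injective)
  have heq : Subgroup.centralizer ((B.subgroupOf M : Subgroup M) : Set M) = K.subgroupOf M := by
    ext x
    simp only [hK, Subgroup.mem_subgroupOf, Subgroup.mem_centralizer_iff]
    constructor
    · intro h b hb
      exact congrArg Subtype.val (h ⟨b, hBM hb⟩ hb)
    · intro h b hb
      exact Subtype.ext (h b hb)
  rw [heq] at h1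
  have hKchar : CharP p K := charP_congr (Subgroup.subgroupOfEquivOfLe hKM) h1
  refine ⟨fstar_eq_pCore_iff.2 (charP_of_forall fun x hx hc => ?_), fstar_eq_pCore_iff.2 hKchar⟩
  have hBn : (B.subgroupOf N).Normal := (Subgroup.normal_subgroupOf_iff_le_normalizer hBN).2 le_rfl
  have hxK : (x : X) ∈ K := coe_mem_centralizer
    (CfsgLib.PLocal.le_pCore (hB.comap_of_injective N.subtype N.subtype_injective)) hBN hx
  have hKn : (K.subgroupOf N).Normal := by
    refine ⟨fun a ha h => ?_⟩
    refine Subgroup.mem_centralizer_iff.2 fun z hz => ?_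
    have h2 := Subgroup.mem_centralizer_iff.1 (show (a : X) ∈ K from ha) _
      ((Subgroup.mem_normalizer_iff.1 (N.inv_mem h.2) z).1 hz)
    simp only [inv_inv] at h2
    simp only [Subgroup.coe_subtype, Subgroup.coe_mul, Subgroup.coe_inv]
    calc z * ((h : X) * a * (h : X)⁻¹) = (h : X) * ((h : X)⁻¹ * z * h * a) * (h : X)⁻¹ := by group
      _ = (h : X) * (a * ((h : X)⁻¹ * z * h)) * (h : X)⁻¹ := by rw [h2]
      _ = (h : X) * a * (h : X)⁻¹ * z := by group
  have hxc : (⟨(x : X), hxK⟩ : K) ∈ Subgroup.centralizer (Cfsg.pCore p K : Set K) := by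
    rw [Subgroup.mem_centralizer_iff]
    intro y hy
    have hy' : (Subgroup.subgroupOfEquivOfLe hKN).symm y ∈ Cfsg.pCore p (K.subgroupOf N) := by
      rw [← CfsgLib.PLocal.map_pCore_equiv (Subgroup.subgroupOfEquivOfLe hKN).symm]
      exact ⟨y, hy, rfl⟩
    have hy2 := Subgroup.mem_centralizer_iff.1 hx _
      (CfsgLib.PLocal.pCore_map_subtype_le (K.subgroupOf N) ⟨_, hy', rfl⟩)
    exact Subtype.ext (congrArg Subtype.val hy2 : (y : X) * x = x * y)
  have := eq_one_of_coprime hKchar hxc (by rwa [Subgroup.orderOf_mk, Subgroup.orderOf_coe])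
  exact Subtype.ext (congrArg Subtype.val this : (x : X) = 1)

end Cfsg.Agent.S2922
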