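import Cfsg.Statements.S2923
import Cfsg.Agent.CharP49.Basic

namespace Cfsg.Agent.S2923

theorem result {X : Type*} [Group X] [Finite X] {p : ℕ} [Fact p.Prime]
    (hX : Subgroup.centralizer (Cfsg.pCore p X : Set X) ≤ Cfsg.pCore p X) (Y : Subgroup X)
    (hY : Y.IsSubnormal) : Subgroup.centralizer (Cfsg.pCore p ↥Y : Set ↥Y) ≤ Cfsg.pCore p ↥Y :=
  CfsgLib.CharP49.charP_of_isSubnormal hX hY

end Cfsg.Agent.S2923
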