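import Cfsg.Statements.S2924
import Cfsg.Agent.CharP49.Basic

namespace Cfsg.Agent.S2924

open CfsgLib.CharP49
open scoped commutatorElement

variable {X : Type*} [Group X] [Finite X]

/-- `O(C(y))` inside `X`. -/
abbrev theta (y : X) : Subgroup X :=
  (Cfsg.oddCore ↥(Subgroup.centralizer ({y} : Set X))).map (Subgroup.centralizer ({y} : Set X)).subtype

theorem theta_le (y : X) : theta y ≤ Subgroup.centralizer ({y} : Set X) := Subgroup.map_subtype_le _

theorem theta_coprime (y : X) : (Nat.card (theta y)).Coprime 2 := by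
  rw [Subgroup.card_map_of_injective (Subgroup.subtype_injective _)]
  exact CfsgLib.PLocal.coprime_card_pPrimeCore 2 _

theorem conj_mem_theta {y c w : X} (hc : c ∈ Subgroup.centralizer ({y} : Set X)) (hw : w ∈ theta y) :
    c * w * c⁻¹ ∈ theta y := by
  obtain ⟨u, hu, rfl⟩ := hw
  refine ⟨⟨c, hc⟩ * u * ⟨c, hc⟩⁻¹, ?_, rfl⟩
  exact (inferInstance : (Cfsg.oddCore ↥(Subgroup.centralizer ({y} : Set X))).Normal).conj_mem u hu _

theorem le_theta {y : X} {K : Subgroup X} (hK : K ≤ Subgroup.centralizer ({y} : Set X))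
    (hn : ∀ c ∈ Subgroup.centralizer ({y} : Set X), ∀ w ∈ K, c * w * c⁻¹ ∈ K)
    (hcop : (Nat.card K).Coprime 2) : K ≤ theta y := by
  have : (K.subgroupOf (Subgroup.centralizer ({y} : Set X))).Normal := ⟨fun w hw c => hn c c.2 w hw⟩
  have h := CfsgLib.PLocal.le_pPrimeCore (p := 2) (N := K.subgroupOf (Subgroup.centralizer ({y} : Set X)))
    (by rwa [Nat.card_congr (Subgroup.subgroupOfEquivOfLe hK).toEquiv])
  intro k hk
  exact ⟨⟨k, hK hk⟩, h hk, rfl⟩

theorem coprime_of_mem {y w : X} (hw : w ∈ theta y) : (orderOf w).Coprime 2 :=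
  Nat.Coprime.coprime_dvd_left (Subgroup.orderOf_dvd_natCard _ hw) (theta_coprime y)

theorem comm_of_mem_centralizer {y w : X} (hw : w ∈ Subgroup.centralizer ({y} : Set X)) : Commute w y :=
  Subgroup.mem_centralizer_singleton_iff.1 hw

theorem mem_centralizer_of_comm {y w : X} (hw : Commute w y) : w ∈ Subgroup.centralizer ({y} : Set X) :=
  Subgroup.mem_centralizer_singleton_iff.2 hw.eq

/-- If `w ^ 2 ∈ H` and `w` has odd order then `w ∈ H`. -/
theorem mem_of_sq_mem {w : X} (hw : (orderOf w).Coprime 2) {H : Subgroup X} (h : w ^ 2 ∈ H) : w ∈ H :=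
  CfsgLib.LocalStructure.mem_of_coprime_of_pow_mem (p := 2) (k := 1) hw (by simpa using h)

/-- The 2-part: an element of `θ y` centralises every 2-subgroup `O` normalised by `⟨y, θ y⟩`,
provided it centralises `C_O(y)`. -/
theorem centralizes_two {y w : X} (hy : IsPGroup 2 (Subgroup.zpowers y)) (hw : w ∈ theta y)
    {O : Subgroup X} (hO : IsPGroup 2 O) (hwO : w ∈ Subgroup.normalizer (O : Set X))
    (hyO : y ∈ Subgroup.normalizer (O : Set X)) : w ∈ Subgroup.centralizer (O : Set X) := by
  refine mem_centralizer_of_pTimesQ hO hy (coprime_of_mem hw) hwO (Subgroup.zpowers_le.2 hyO) ?_ ?_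
  · refine Subgroup.mem_centralizer_iff.2 ?_
    rintro _ ⟨k, rfl⟩
    exact ((comm_of_mem_centralizer (theta_le y hw)).zpow_right k).symm.eq
  · refine Subgroup.mem_centralizer_iff.2 ?_
    intro o ho
    have hoy : o ∈ Subgroup.centralizer ({y} : Set X) :=
      mem_centralizer_of_comm (Subgroup.mem_centralizer_iff.1 ho.2 y (Subgroup.mem_zpowers y)).symm
    have h1 : w * o * w⁻¹ * o⁻¹ ∈ O :=
      O.mul_mem ((Subgroup.mem_normalizer_iff.1 hwO o).1 ho.1) (O.inv_mem ho.1)
    have h2 : w * o * w⁻¹ * o⁻¹ ∈ theta y := by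
      have := (theta y).mul_mem hw (conj_mem_theta hoy ((theta y).inv_mem hw))
      simpa [mul_assoc] using this
    have h3 := CfsgLib.LocalStructure.eq_one_of_coprime_of_mem hO h1 (coprime_of_mem h2)
    rw [mul_inv_eq_one, mul_inv_eq_iff_eq_mul] at h3
    exact h3.symm

theorem inv_of_fixed_free {W : Subgroup X} {z : X} (hodd : (Nat.card W).Coprime 2) (hz : z * z = 1)
    (hn : ∀ w ∈ W, z * w * z⁻¹ ∈ W) (hfix : ∀ w ∈ W, Commute w z → w = 1) :
    ∀ w ∈ W, z * w * z⁻¹ = w⁻¹ := by
  have hzinv : z⁻¹ = z := inv_eq_of_mul_eq_one_right hz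
  have hinj : Function.Injective (fun t : W => (⟨(t : X)⁻¹ * (z * t * z⁻¹),
      W.mul_mem (W.inv_mem t.2) (hn t t.2)⟩ : W)) := by
    intro s t hst
    simp only [Subtype.mk.injEq] at hst
    have h1 : (t : X) * (s : X)⁻¹ ∈ W := W.mul_mem t.2 (W.inv_mem s.2)
    have h2 : Commute ((t : X) * (s : X)⁻¹) z := by
      show (t : X) * (s : X)⁻¹ * z = z * ((t : X) * (s : X)⁻¹)
      calc (t : X) * (s : X)⁻¹ * z
          = (t : X) * ((s : X)⁻¹ * (z * s * z⁻¹)) * (z * (s : X)⁻¹) := by group
        _ = (t : X) * ((t : X)⁻¹ * (z * t * z⁻¹)) * (z * (s : X)⁻¹) := by rw [hst]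
        _ = z * ((t : X) * (s : X)⁻¹) := by group
    exact Subtype.ext (mul_inv_eq_one.1 (hfix _ h1 h2)).symm
  intro w hw
  obtain ⟨t, ht⟩ := (Finite.injective_iff_surjective.1 hinj) ⟨w, hw⟩
  have := congrArg Subtype.val ht
  simp only at this
  rw [← this]
  calc z * ((t : X)⁻¹ * (z * t * z⁻¹)) * z⁻¹
      = z * (t : X)⁻¹ * z * t * (z⁻¹ * z⁻¹) := by group
    _ = z * (t : X)⁻¹ * z * t := by rw [← mul_inv_rev, hz, inv_one, mul_one]
    _ = z * (t : X)⁻¹ * z⁻¹ * t := by rw [hzinv]
    _ = ((t : X)⁻¹ * (z * t * z⁻¹))⁻¹ := by group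

theorem result {X : Type*} [Group X] [Finite X] (Y : Subgroup X) (hY : Cfsg.IsElementaryAbelian 2 Y) (h8 : 8 ≤ Nat.card ↥Y) (hE : ∀ x ∈ Y, x ≠ 1 → Cfsg.layer ↥(Subgroup.centralizer ({x} : Set X)) = ⊥) (hz : ∃ z ∈ Y, z ≠ 1 ∧ Cfsg.generalizedFittingSubgroup ↥(Subgroup.centralizer ({z} : Set X)) = Cfsg.pCore 2 ↥(Subgroup.centralizer ({z} : Set X))) : Odd (Nat.card ↥(⨆ y : {y : X // y ∈ Y ∧ y ≠ 1}, (Cfsg.oddCore ↥(Subgroup.centralizer ({(y : X)} : Set X))).map (Subgroup.centralizer ({(y : X)} : Set X)).subtype)) ∧ Subgroup.normalizer (Y : Set X) ≤ Subgroup.normalizer ((⨆ y : {y : X // y ∈ Y ∧ y ≠ 1}, (Cfsg.oddCore ↥(Subgroup.centralizer ({(y : X)} : Set X))).map (Subgroup.centralizer ({(y : X)} : Set X)).subtype : Subgroup X) : Set X) := by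
  obtain ⟨z, hzY, hz1, hzF⟩ := hz
  have hYc : ∀ a b : X, a ∈ Y → b ∈ Y → Commute a b := fun a b ha hb =>
    congrArg Subtype.val (hY.1.is_comm.comm (⟨a, ha⟩ : Y) ⟨b, hb⟩)
  have hsq : ∀ a ∈ Y, a * a = 1 := fun a ha => by rw [← pow_two]; exact hY.2 a ha
  have hinv : ∀ a ∈ Y, a⁻¹ = a := fun a ha => inv_eq_of_mul_eq_one_right (hsq a ha)
  have hYp : ∀ a ∈ Y, IsPGroup 2 (Subgroup.zpowers a) := by
    intro a ha g
    refine ⟨1, ?_⟩
    obtain ⟨k, hk⟩ := g.2
    apply Subtype.ext
    simp only [pow_one, Subgroup.coe_pow, OneMemClass.coe_one]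
    rw [← hk, ← zpow_natCast, zpow_comm, zpow_natCast, pow_two, hsq a ha, one_zpow]
  have hmemC : ∀ a b : X, a ∈ Y → b ∈ Y → a ∈ Subgroup.centralizer ({b} : Set X) := fun a b ha hb =>
    mem_centralizer_of_comm (hYc a b ha hb)
  set Hz := Subgroup.centralizer ({z} : Set X) with hHz
  -- Step 1: `z` acts fixed point freely on each `θ y`
  have step1 : ∀ y ∈ Y, ∀ w ∈ theta y, Commute w z → w = 1 := by
    intro y hy w hw hwz
    have hwH : w ∈ Hz := mem_centralizer_of_comm hwz
    have hyH : y ∈ Hz := hmemC y z hy hzY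
    set O := (Cfsg.pCore 2 Hz).map Hz.subtype with hO
    have hnorm : ∀ g ∈ Hz, g ∈ Subgroup.normalizer (O : Set X) := by
      intro g hg
      refine Subgroup.le_normalizer_map Hz.subtype ⟨⟨g, hg⟩, ?_, rfl⟩
      exact Subgroup.normalizer_eq_top (H := Cfsg.pCore 2 Hz) ▸ trivial
    have h1 := centralizes_two (hYp y hy) hw ((CfsgLib.PLocal.isPGroup_pCore 2 Hz).map Hz.subtype)
      (hnorm w hwH) (hnorm y hyH)
    have h2 : (⟨w, hwH⟩ : Hz) ∈ Subgroup.centralizer (Cfsg.pCore 2 Hz : Set Hz) := by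
      rw [Subgroup.mem_centralizer_iff]
      intro o ho
      exact Subtype.ext (Subgroup.mem_centralizer_iff.1 h1 (o : X) ⟨o, ho, rfl⟩)
    exact congrArg Subtype.val
      (eq_one_of_coprime (fstar_eq_pCore_iff.1 hzF) h2 (by rw [Subgroup.orderOf_mk]; exact coprime_of_mem hw))
  -- Step 2: `z` inverts each `θ y`
  have step2 : ∀ y ∈ Y, ∀ w ∈ theta y, z * w * z⁻¹ = w⁻¹ := fun y hy =>
    inv_of_fixed_free (theta_coprime y) (hsq z hzY) (fun w hw => conj_mem_theta (hmemC z y hzY hy) hw)
      (fun w hw h => step1 y hy w hw h)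
  have hab : ∀ y ∈ Y, ∀ v ∈ theta y, ∀ w ∈ theta y, Commute v w := by
    intro y hy v hv w hw
    have h := step2 y hy _ ((theta y).mul_mem hv hw)
    rw [mul_inv_rev] at h
    have h' : z * (v * w) * z⁻¹ = v⁻¹ * w⁻¹ := by
      rw [← step2 y hy v hv, ← step2 y hy w hw]; group
    have h'' : (w * v)⁻¹ = (v * w)⁻¹ := by rw [mul_inv_rev, mul_inv_rev, ← h', h]
    exact (inv_inj.1 h'').symm
  -- Step 3: balance
  have step3 : ∀ a ∈ Y, ∀ b ∈ Y, b ≠ 1 → ∀ w ∈ theta a, Commute w b → w ∈ theta b := by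
    intro a ha b hb hb1 w hw hwb
    set H := Subgroup.centralizer ({b} : Set X) with hH
    have hwH : w ∈ H := mem_centralizer_of_comm hwb
    have haH : a ∈ H := hmemC a b ha hb
    set O := (Cfsg.pCore 2 H).map H.subtype with hO
    have hnorm : ∀ g ∈ H, g ∈ Subgroup.normalizer (O : Set X) := by
      intro g hg
      refine Subgroup.le_normalizer_map H.subtype ⟨⟨g, hg⟩, ?_, rfl⟩
      exact Subgroup.normalizer_eq_top (H := Cfsg.pCore 2 H) ▸ trivial
    have h1 := centralizes_two (hYp a ha) hw ((CfsgLib.PLocal.isPGroup_pCore 2 H).map H.subtype)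
      (hnorm w hwH) (hnorm a haH)
    have h2 : ∀ d ∈ theta b, Commute w d := by
      intro d hd
      have hdd := step2 b hb _ (conj_mem_theta hwH hd)
      have h5 : z * (w * d * w⁻¹) * z⁻¹ = w⁻¹ * d⁻¹ * w := by
        calc z * (w * d * w⁻¹) * z⁻¹ = (z * w * z⁻¹) * (z * d * z⁻¹) * (z * w * z⁻¹)⁻¹ := by group
          _ = w⁻¹ * d⁻¹ * w := by rw [step2 a ha w hw, step2 b hb d hd, inv_inv]
      rw [h5] at hdd
      have h6 : w ^ 2 * d = d * w ^ 2 := by
        have : w * d * w⁻¹ = w⁻¹ * d * w := by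
          rw [← inv_inj, ← hdd]; group
        calc w ^ 2 * d = w * (w * d * w⁻¹) * w := by rw [pow_two]; group
          _ = w * (w⁻¹ * d * w) * w := by rw [this]
          _ = d * w ^ 2 := by rw [pow_two]; group
      have h7 := mem_of_sq_mem (coprime_of_mem hw) (mem_centralizer_of_comm h6 : w ^ 2 ∈ _)
      exact comm_of_mem_centralizer h7
    let w' : H := ⟨w, hwH⟩
    set O2 := Cfsg.pCore 2 H with hO2
    set OD := Cfsg.oddCore H with hOD
    have hFle : Cfsg.fittingSubgroup H ≤ O2 ⊔ OD := by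
      rw [Cfsg.fittingSubgroup]
      refine sSup_le fun N ⟨hN, hnil⟩ => ?_
      refine CfsgLib.Solvable.le_iSup_pCore_of_isNilpotent.trans (iSup_le fun q => ?_)
      by_cases h2q : (q : ℕ) = 2
      · exact le_trans (le_of_eq (by rw [h2q])) le_sup_left
      · refine le_trans ?_ le_sup_right
        have : Fact (q : ℕ).Prime := ⟨q.2⟩
        refine CfsgLib.PLocal.le_pPrimeCore ?_
        obtain ⟨k, hk⟩ := (CfsgLib.PLocal.isPGroup_pCore (q : ℕ) H).exists_card_eq
        rw [hk]
        exact ((Nat.coprime_primes q.2 Nat.prime_two).2 h2q).pow_left k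
    have hwc : w' ∈ Subgroup.centralizer (Cfsg.fittingSubgroup H : Set H) := by
      refine Subgroup.centralizer_le hFle ?_
      refine Subgroup.mem_centralizer_iff.2 fun u hu => ?_
      rw [SetLike.mem_coe, Subgroup.mem_sup_of_normal_right] at hu
      obtain ⟨o, ho, d, hd, rfl⟩ := hu
      apply Subtype.ext
      simp only [Subgroup.coe_mul]
      have e1 : Commute (o : X) w := Subgroup.mem_centralizer_iff.1 h1 (o : X) ⟨o, ho, rfl⟩
      have e2 : Commute (d : X) w := (h2 (d : X) ⟨d, hd, rfl⟩).symm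
      exact (e1.mul_left e2).eq
    have hwF : w' ∈ Cfsg.fittingSubgroup H := by
      have h8 := CfsgLib.Components.centralizer_generalizedFitting_le_self (G := H)
      rw [Cfsg.generalizedFittingSubgroup, hE b hb hb1, bot_sup_eq] at h8
      exact h8 hwc
    refine ⟨w', ?_, rfl⟩
    have h9 := hFle hwF
    rw [Subgroup.mem_sup_of_normal_right] at h9
    obtain ⟨o, ho, d, hd, he⟩ := h9
    obtain ⟨k, hk⟩ := CfsgLib.PLocal.isPGroup_pCore 2 H ⟨o, ho⟩
    refine CfsgLib.LocalStructure.mem_of_coprime_of_pow_mem (p := 2) (k := k)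
      (by rw [Subgroup.orderOf_mk]; exact coprime_of_mem hw) ?_
    rw [← QuotientGroup.eq_one_iff, QuotientGroup.mk_pow, ← he, QuotientGroup.mk_mul,
      (QuotientGroup.eq_one_iff d).2 hd, mul_one, ← QuotientGroup.mk_pow,
      show o ^ 2 ^ k = 1 by simpa using congrArg Subtype.val hk, QuotientGroup.mk_one]
  -- Step 4: splitting by an element of `Y`
  have split : ∀ a ∈ Y, ∀ c ∈ Y, ∀ H : Subgroup X, ∀ x ∈ theta a,
      (∀ u ∈ theta a, Commute u c → u ∈ H) → (∀ u ∈ theta a, Commute u (c * z) → u ∈ H) → x ∈ H := by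
    intro a ha c hc H x hx h1 h2
    set x' := c * x * c⁻¹ with hx'
    have hx'm : x' ∈ theta a := conj_mem_theta (hmemC c a hc ha) hx
    have hcx : c * x' * c⁻¹ = x := by
      rw [hx']
      calc c * (c * x * c⁻¹) * c⁻¹ = (c * c) * x * (c * c)⁻¹ := by group
        _ = x := by rw [hsq c hc]; group
    have hu : x * x' ∈ H := by
      refine h1 _ ((theta a).mul_mem hx hx'm) ?_
      have : c * (x * x') * c⁻¹ = x * x' := by
        calc c * (x * x') * c⁻¹ = (c * x * c⁻¹) * (c * x' * c⁻¹) := by group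
          _ = x' * x := by rw [← hx', hcx]
          _ = x * x' := (hab a ha x hx x' hx'm).eq.symm
      exact (mul_inv_eq_iff_eq_mul.1 this).symm
    have hv : x * x'⁻¹ ∈ H := by
      refine h2 _ ((theta a).mul_mem hx ((theta a).inv_mem hx'm)) ?_
      have hm := (theta a).mul_mem hx'm ((theta a).inv_mem hx)
      have : (c * z) * (x * x'⁻¹) * (c * z)⁻¹ = x * x'⁻¹ := by
        calc (c * z) * (x * x'⁻¹) * (c * z)⁻¹ = c * (z * (x * x'⁻¹) * z⁻¹) * c⁻¹ := by group
          _ = c * (x' * x⁻¹) * c⁻¹ := by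
            rw [step2 a ha _ ((theta a).mul_mem hx ((theta a).inv_mem hx'm))]; group
          _ = (c * x' * c⁻¹) * (c * x * c⁻¹)⁻¹ := by group
          _ = x * x'⁻¹ := by rw [hcx, ← hx']
      exact (mul_inv_eq_iff_eq_mul.1 this).symm
    refine mem_of_sq_mem (coprime_of_mem hx) ?_
    have h3 := H.mul_mem hu hv
    have hcm : Commute x x' := hab a ha x hx x' hx'm
    rwa [show x * x' * (x * x'⁻¹) = x ^ 2 by rw [mul_assoc, ← mul_assoc x' x, ← hcm.eq, pow_two]; group] at h3
  -- Step 5: everything commutes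
  have step5 : ∀ a ∈ Y, ∀ b ∈ Y, a ≠ 1 → b ≠ 1 → ∀ x ∈ theta a, ∀ y ∈ theta b, Commute x y := by
    intro a ha b hb ha1 hb1 x hx y hy
    have fin : ∀ e ∈ Y, e ≠ 1 → ∀ u ∈ theta a, ∀ v ∈ theta b, Commute u e → Commute v e → Commute u v :=
      fun e he he1 u hu v hv hue hve =>
        hab e he u (step3 a ha e he he1 u hu hue) v (step3 b hb e he he1 v hv hve)
    have selfc : ∀ e : X, ∀ u ∈ theta e, Commute u e := fun e u hu => comm_of_mem_centralizer (theta_le e hu)
    by_cases haz : a = z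
    · subst haz
      rw [step1 _ ha x hx (selfc _ x hx)]; exact Commute.one_left y
    by_cases hbz : b = z
    · subst hbz
      rw [step1 _ hb y hy (selfc _ y hy)]; exact Commute.one_right x
    by_cases hba : b = a
    · subst hba; exact hab b hb x hx y hy
    by_cases hbaz : b = a * z
    · -- choose `c` outside `⟨a, z⟩`
      obtain ⟨c, hc, hcn⟩ : ∃ c ∈ Y, c ∉ ({1, a, z, a * z} : Set X) := by
        by_contra hh
        push Not at hh
        have hsub : (Y : Set X) ⊆ {1, a, z, a * z} := hh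
        have hle := Set.ncard_le_ncard hsub (Set.toFinite _)
        rw [← Nat.card_coe_set_eq] at hle
        have h4 : ({1, a, z, a * z} : Set X).ncard ≤ 4 := by
          refine le_trans (Set.ncard_insert_le _ _) ?_
          refine Nat.succ_le_succ (le_trans (Set.ncard_insert_le _ _) ?_)
          refine Nat.succ_le_succ (le_trans (Set.ncard_insert_le _ _) ?_)
          simp
        have : 8 ≤ 4 := le_trans (le_trans h8 hle) h4
        omega
      simp only [Set.mem_insert_iff, Set.mem_singleton_iff, not_or] at hcn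
      obtain ⟨hc1, hca, hcz, hcaz⟩ := hcn
      have hcz1 : c * z ≠ 1 := fun h => hcz (by rw [← inv_inv c, inv_eq_of_mul_eq_one_right h, hinv z hzY])
      have hac1 : a * c ≠ 1 := fun h => hca (by rw [← inv_eq_of_mul_eq_one_right h, hinv a ha])
      have hacz1 : a * (c * z) ≠ 1 := fun h => hcaz (by
        have h9 : c * z = a := by rw [← inv_eq_of_mul_eq_one_right h, hinv a ha]
        rw [← h9, mul_assoc, hsq z hzY, mul_one])
      suffices hmain : x ∈ Subgroup.centralizer ({y} : Set X) from comm_of_mem_centralizer hmain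
      refine split a ha c hc _ x hx (fun u hu huc => ?_) (fun u hu huc => ?_) <;>
        refine mem_centralizer_of_comm (Commute.symm ?_) <;>
        refine comm_of_mem_centralizer (split b hb c hc (Subgroup.centralizer ({u} : Set X)) y hy ?_ ?_) <;>
        intro v hv hvc <;> refine mem_centralizer_of_comm (Commute.symm ?_)
      · exact fin c hc hc1 u hu v hv huc hvc
      · refine fin (a * c) (Y.mul_mem ha hc) hac1 u hu v hv ((selfc a u hu).mul_right huc) ?_
        have h10 : a * c = b * (c * z) := by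
          rw [hbaz, show a * z * (c * z) = a * (z * c) * z by group, (hYc z c hzY hc).eq,
            show a * (c * z) * z = a * c * (z * z) by group, hsq z hzY, mul_one]
        rw [h10]; exact (selfc b v hv).mul_right hvc
      · refine fin (a * (c * z)) (Y.mul_mem ha (Y.mul_mem hc hzY)) hacz1 u hu v hv
          ((selfc a u hu).mul_right huc) ?_
        have h10 : a * (c * z) = b * c := by
          rw [hbaz, (hYc c z hc hzY).eq, mul_assoc]
        rw [h10]; exact (selfc b v hv).mul_right hvc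
      · exact fin (c * z) (Y.mul_mem hc hzY) hcz1 u hu v hv huc hvc
    · have hbz1 : b * z ≠ 1 := fun h => hbz (by rw [← inv_inv b, inv_eq_of_mul_eq_one_right h, hinv z hzY])
      have habz : a * (b * z) ≠ 1 := fun h => hbaz (by
        have h9 : b * z = a := by rw [← inv_eq_of_mul_eq_one_right h, hinv a ha]
        rw [← h9, mul_assoc, hsq z hzY, mul_one])
      suffices hmain : x ∈ Subgroup.centralizer ({y} : Set X) from comm_of_mem_centralizer hmain
      refine split a ha b hb _ x hx (fun u hu hub => ?_) (fun u hu hub => ?_)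
      · exact mem_centralizer_of_comm (fin b hb hb1 u hu y hy hub (selfc b y hy))
      · refine mem_centralizer_of_comm (Commute.symm ?_)
        refine comm_of_mem_centralizer (split b hb a ha (Subgroup.centralizer ({u} : Set X)) y hy
          (fun v hv hva => ?_) (fun v hv hva => ?_))
        · exact mem_centralizer_of_comm (fin a ha ha1 u hu v hv (selfc a u hu) hva).symm
        · refine mem_centralizer_of_comm (Commute.symm ?_)
          refine fin (a * (b * z)) (Y.mul_mem ha (Y.mul_mem hb hzY)) habz u hu v hv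
            ((selfc a u hu).mul_right hub) ?_
          rw [show a * (b * z) = b * (a * z) by rw [← mul_assoc, (hYc a b ha hb).eq, mul_assoc]]
          exact (selfc b v hv).mul_right hva
  constructor
  · -- odd order
    change Odd (Nat.card ↥(⨆ y : {y : X // y ∈ Y ∧ y ≠ 1}, theta (y : X)))
    set S := ⨆ y : {y : X // y ∈ Y ∧ y ≠ 1}, theta (y : X) with hS
    have hS' : S ≤ Subgroup.centralizer (S : Set X) := by
      refine iSup_le fun a u hu => ?_
      refine Subgroup.mem_centralizer_iff.2 fun v hv => ?_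
      have hle : S ≤ Subgroup.centralizer ({u} : Set X) := iSup_le fun b w hw =>
        mem_centralizer_of_comm (step5 b b.2.1 a a.2.1 b.2.2 a.2.2 w hw u hu)
      exact (comm_of_mem_centralizer (hle hv)).eq
    have hcop : ∀ u ∈ S, (orderOf u).Coprime 2 := by
      intro u hu
      induction hu using Subgroup.iSup_induction' with
      | hp a v hv => exact coprime_of_mem hv
      | h1 => simp
      | hmul u v hu hv ihu ihv =>
        have hc : Commute u v := (Subgroup.mem_centralizer_iff.1 (hS' hv) u hu)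
        exact Nat.Coprime.coprime_dvd_left hc.orderOf_mul_dvd_mul_orderOf (Nat.Coprime.mul_left ihu ihv)
    rw [Nat.odd_iff]
    by_contra hh
    have h2 : 2 ∣ Nat.card S := by omega
    obtain ⟨u, hu⟩ := exists_prime_orderOf_dvd_card' 2 h2
    have := hcop u u.2
    rw [Subgroup.orderOf_coe, hu] at this
    norm_num at this
  · -- normalised by `N(Y)`
    intro n hn
    have key : ∀ m ∈ Subgroup.normalizer (Y : Set X), ∀ s ∈ (⨆ y : {y : X // y ∈ Y ∧ y ≠ 1}, theta (y : X)),
        m * s * m⁻¹ ∈ (⨆ y : {y : X // y ∈ Y ∧ y ≠ 1}, theta (y : X)) := by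
      intro m hm s hs
      induction hs using Subgroup.iSup_induction' with
      | hp a v hv =>
        let a' : {y : X // y ∈ Y ∧ y ≠ 1} := ⟨m * a * m⁻¹, (Subgroup.mem_normalizer_iff.1 hm _).1 a.2.1,
          fun h => a.2.2 (by simpa using h)⟩
        refine Subgroup.mem_iSup_of_mem a' ?_
        refine le_theta (K := (theta (a : X)).map (MulAut.conj m).toMonoidHom) ?_ ?_ ?_ ⟨v, hv, rfl⟩
        · rintro _ ⟨u, hu, rfl⟩
          refine mem_centralizer_of_comm ?_
          have := (comm_of_mem_centralizer (theta_le (a : X) hu)).map (MulAut.conj m)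
          simpa [a'] using this
        · rintro c hc _ ⟨u, hu, rfl⟩
          have hc' : m⁻¹ * c * m ∈ Subgroup.centralizer ({(a : X)} : Set X) := by
            refine mem_centralizer_of_comm ?_
            have h11 : Commute c (m * (a : X) * m⁻¹) := comm_of_mem_centralizer hc
            have := h11.map (MulAut.conj m⁻¹)
            simpa [mul_assoc] using this
          refine ⟨_, conj_mem_theta hc' hu, ?_⟩
          simp [mul_assoc]
        · rw [Subgroup.card_map_of_injective (MulAut.conj m).injective]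
          exact theta_coprime _
      | h1 => simp
      | hmul u v _ _ ihu ihv =>
        have := Subgroup.mul_mem _ ihu ihv
        simpa [mul_assoc] using this
    rw [Subgroup.mem_normalizer_iff]
    intro s
    refine ⟨key n hn s, fun h => ?_⟩
    have := key n⁻¹ (Subgroup.inv_mem _ hn) _ h
    simpa [mul_assoc] using this

end Cfsg.Agent.S2924
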