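import Cfsg.Statements.S2925
import Cfsg.Agent.Components.Basic
import Cfsg.Agent.LocalStructure.Tools

namespace Cfsg.Agent.S2925

open scoped commutatorElement

theorem result {X : Type*} [Group X] [Finite X] (K : Subgroup X) (hK : Cfsg.IsComponent K) (T : Sylow 2 X) (Y : Subgroup X) (hYT : Y ≤ (T : Subgroup X)) (hYn : (Y.subgroupOf (T : Subgroup X)).Normal) (hYab : IsMulCommutative ↥Y) (hnot : ¬ Y ≤ Subgroup.normalizer (K : Set X)) (P : Sylow 2 (↥K ⧸ Subgroup.center ↥K)) : IsMulCommutative ↥(P : Subgroup (↥K ⧸ Subgroup.center ↥K)) := by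
  obtain ⟨y, hyY, hyK⟩ := Set.not_subset.1 hnot
  set K' := K.map (MulAut.conj y).toMonoidHom with hK'
  have hne : K ≠ K' := by
    intro h
    apply hyK
    rw [SetLike.mem_coe, Subgroup.mem_normalizer_iff]
    intro k
    conv_rhs => rw [h, hK', Subgroup.mem_map]
    constructor
    · intro hk; exact ⟨k, hk, rfl⟩
    · rintro ⟨k', hk', e⟩
      simp only [MulEquiv.coe_toMonoidHom, MulAut.conj_apply] at e
      rwa [mul_left_cancel (mul_right_cancel e)] at hk'
  have hcomm : ⁅K, K'⁆ = ⊥ :=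
    CfsgLib.Components.IsComponent.commutator_eq_bot_of_ne hK
      (CfsgLib.Components.IsComponent.conj hK y) hne
  rw [Subgroup.commutator_eq_bot_iff_le_centralizer] at hcomm
  have hYnorm : (T : Subgroup X) ≤ Subgroup.normalizer (Y : Set X) :=
    (Subgroup.normal_subgroupOf_iff_le_normalizer hYT).1 hYn
  have hC : ∀ a b : X, a ∈ Y → b ∈ Y → a * b = b * a := fun a b ha hb =>
    congrArg Subtype.val (hYab.is_comm.comm (⟨a, ha⟩ : Y) ⟨b, hb⟩)
  -- a Sylow subgroup of `K` inside `T`, with central derived subgroup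
  obtain ⟨R, hR, hcen⟩ : ∃ R : Sylow 2 K, (R : Subgroup K).map K.subtype ≤ (T : Subgroup X) ∧ True := by
    suffices key : ∀ H : Subgroup X, H.IsSubnormal →
        ∃ R : Sylow 2 H, (R : Subgroup H).map H.subtype ≤ (T : Subgroup X) by
      obtain ⟨R, hR⟩ := key K hK.1
      exact ⟨R, hR, trivial⟩
    intro H hH
    induction hH with
    | top => exact ⟨T.subtype le_top, by rw [Sylow.coe_subtype, Subgroup.map_subgroupOf_eq_of_le le_top]⟩
    | step H L hle _ hN ih =>
      obtain ⟨S, hS⟩ := ih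
      obtain ⟨Q, hQ⟩ := CfsgLib.LocalStructure.sylow_inf S (X := H.subgroupOf L)
        (by rw [Subgroup.normalizer_eq_top]; exact le_top)
      let e : ↥(H.subgroupOf L) →* ↥H := (Subgroup.subgroupOfEquivOfLe hle).toMonoidHom
      have he : Function.Surjective e := (Subgroup.subgroupOfEquivOfLe hle).surjective
      refine ⟨Q.mapSurjective he, ?_⟩
      rw [Sylow.coe_mapSurjective, hQ]
      rintro _ ⟨_, ⟨a, ha, rfl⟩, rfl⟩
      exact hS ⟨(a : L), ha.1, rfl⟩
  have hcentral : ∀ a b : K, a ∈ (R : Subgroup K) → b ∈ (R : Subgroup K) →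
      ⁅a, b⁆ ∈ Subgroup.center K := by
    intro a b ha hb
    have haT : (a : X) ∈ (T : Subgroup X) := hR ⟨a, ha, rfl⟩
    have hbT : (b : X) ∈ (T : Subgroup X) := hR ⟨b, hb, rfl⟩
    have hmemY : ∀ s : X, s ∈ (T : Subgroup X) → ⁅s, y⁆ ∈ Y := fun s hs => by
      rw [commutatorElement_def]
      exact Y.mul_mem ((Subgroup.mem_normalizer_iff.1 (hYnorm hs) y).1 hyY) (Y.inv_mem hyY)
    -- the `K'`-parts
    set a' := y * (a : X)⁻¹ * y⁻¹ with ha'
    set b' := y * (b : X)⁻¹ * y⁻¹ with hb'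
    have ha'K : a' ∈ K' := ⟨(a : X)⁻¹, K.inv_mem a.2, rfl⟩
    have hb'K : b' ∈ K' := ⟨(b : X)⁻¹, K.inv_mem b.2, rfl⟩
    have hcK : ∀ u v : X, u ∈ K → v ∈ K' → Commute u v := fun u v hu hv =>
      (Subgroup.mem_centralizer_iff.1 (hcomm hu) v hv).symm
    have h1 : (a : X) * a' ∈ Y := by
      have := hmemY (a : X) haT; rw [commutatorElement_def] at this
      rwa [ha', show (a : X) * (y * (a : X)⁻¹ * y⁻¹) = (a : X) * y * (a : X)⁻¹ * y⁻¹ by group]
    have h2 : (b : X) * b' ∈ Y := by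
      have := hmemY (b : X) hbT; rw [commutatorElement_def] at this
      rwa [hb', show (b : X) * (y * (b : X)⁻¹ * y⁻¹) = (b : X) * y * (b : X)⁻¹ * y⁻¹ by group]
    have h3 : ((a : X) * b) * (a' * b') = ((b : X) * a) * (b' * a') := by
      have := hC _ _ h1 h2
      calc ((a : X) * b) * (a' * b') = (a : X) * ((b : X) * a') * b' := by group
        _ = (a : X) * (a' * (b : X)) * b' := by rw [(hcK _ _ b.2 ha'K).eq]
        _ = ((a : X) * a') * ((b : X) * b') := by group
        _ = ((b : X) * b') * ((a : X) * a') := this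
        _ = (b : X) * (b' * (a : X)) * a' := by group
        _ = (b : X) * ((a : X) * b') * a' := by rw [(hcK _ _ a.2 hb'K).eq]
        _ = ((b : X) * a) * (b' * a') := by group
    have h4 : ((b : X) * a)⁻¹ * ((a : X) * b) ∈ K' := by
      rw [show ((b : X) * a)⁻¹ * ((a : X) * b) = (b' * a') * (a' * b')⁻¹ by
        rw [eq_mul_inv_iff_mul_eq, mul_assoc, h3]; group]
      exact K'.mul_mem (K'.mul_mem hb'K ha'K) (K'.inv_mem (K'.mul_mem ha'K hb'K))
    have h5 : ((b : X) * a)⁻¹ * ((a : X) * b) ∈ K :=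
      K.mul_mem (K.inv_mem (K.mul_mem b.2 a.2)) (K.mul_mem a.2 b.2)
    have hz : (⟨_, h5⟩ : K) ∈ Subgroup.center K := by
      rw [Subgroup.mem_center_iff]
      exact fun u => Subtype.ext (hcK u _ u.2 h4).eq
    have heq : ⁅a, b⁆ = (b * a) * ⟨_, h5⟩ * (b * a)⁻¹ := by
      apply Subtype.ext
      simp only [commutatorElement_def, Subgroup.coe_mul, Subgroup.coe_inv]
      group
    rw [heq, Subgroup.mem_center_iff.1 hz (b * a), mul_inv_cancel_right]
    exact hz
  -- pass to the quotient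
  obtain ⟨g, hg⟩ := MulAction.exists_smul_eq (↥K ⧸ Subgroup.center ↥K)
    (R.mapSurjective (QuotientGroup.mk'_surjective (Subgroup.center ↥K))) P
  refine ⟨⟨fun u v => Subtype.ext ?_⟩⟩
  obtain ⟨u, hu⟩ := u
  obtain ⟨v, hv⟩ := v
  rw [← hg, Sylow.coe_subgroup_smul, Sylow.coe_mapSurjective] at hu hv
  obtain ⟨_, ⟨a, ha, rfl⟩, rfl⟩ := Subgroup.mem_map.1 hu
  obtain ⟨_, ⟨b, hb, rfl⟩, rfl⟩ := Subgroup.mem_map.1 hv
  show MulAut.conj g _ * MulAut.conj g _ = MulAut.conj g _ * MulAut.conj g _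
  rw [← map_mul, ← map_mul, ← map_mul, ← map_mul]
  congr 1
  rw [QuotientGroup.mk'_apply, QuotientGroup.mk'_apply, QuotientGroup.eq_iff_div_mem, div_eq_mul_inv,
    show a * b * (b * a)⁻¹ = ⁅a, b⁆ by rw [commutatorElement_def]; group]
  exact hcentral a b ha hb

end Cfsg.Agent.S2925
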