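import Cfsg.Statements.S2929
import Cfsg.Agent.AltBlocks.ThreeCycles
import Cfsg.Agent.AltBlocks.QuasiFStar
import Mathlib.Data.Nat.Choose.Basic

namespace Cfsg.Agent.S2929

open Equiv Equiv.Perm CfsgLib.AltBlocks

theorem result (n : ℕ) (hn : 5 ≤ n) (H : Subgroup (Equiv.Perm (Fin n))) (hF : Cfsg.IsQuasisimple ↥(Cfsg.generalizedFittingSubgroup ↥H)) (hS : ∃ P : Sylow 3 (Equiv.Perm (Fin n)), (P : Subgroup (Equiv.Perm (Fin n))) ≤ H) : ∃ m : ℕ, (m = n - 2 ∨ m = n - 1 ∨ m = n) ∧ Nonempty (↥(Cfsg.generalizedFittingSubgroup ↥H) ≃* ↥(alternatingGroup (Fin m))) := by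
  classical
  obtain ⟨P, hP⟩ := hS
  have : Fact (Nat.Prime 3) := ⟨Nat.prime_three⟩
  set K := Cfsg.generalizedFittingSubgroup ↥H with hKdef
  have hKc := isComponent_fstar (H := ↥H) hF
  -- disjoint 3-cycles in `H` covering all but at most two points
  obtain ⟨Λ, hΛ, hcover⟩ : ∃ Λ : Finset (Fin n), n ≤ Λ.card + 2 ∧
      ∀ a ∈ Λ, ∃ c : Perm (Fin n), IsThreeCycle c ∧ c ∈ H ∧ a ∈ c.support := by
    suffices key : ∀ k, 3 * k ≤ n → ∃ (L : List (Perm (Fin n))) (Λ : Finset (Fin n)),
        (∀ c ∈ L, IsThreeCycle c) ∧ L.Pairwise Perm.Disjoint ∧ Λ.card = 3 * k ∧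
        ∀ a, a ∈ Λ ↔ ∃ c ∈ L, a ∈ c.support by
      obtain ⟨L, Λ, hL3, hLd, hcard, hmem⟩ := key (n / 3) (Nat.mul_div_le n 3)
      have hcomm : ∀ c ∈ L, ∀ d ∈ L, c * d = d * c := by
        intro c hc d hd
        rcases eq_or_ne c d with rfl | hne
        · rfl
        · exact ((hLd.forall hc hd) hne).commute.eq
      set A := Subgroup.closure {c | c ∈ L} with hA
      have : IsMulCommutative A := Subgroup.isMulCommutative_closure hcomm
      have hA3 : IsPGroup 3 A := by
        intro a
        refine ⟨1, ?_⟩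
        obtain ⟨a, ha⟩ := a
        apply Subtype.ext
        simp only [Subgroup.coe_pow, pow_one, OneMemClass.coe_one]
        induction ha using Subgroup.closure_induction with
        | mem c hc => rw [← (hL3 c hc).orderOf]; exact pow_orderOf_eq_one c
        | one => simp
        | mul u v hu hv ihu ihv =>
          rw [Commute.mul_pow (congrArg Subtype.val (this.is_comm.comm ⟨u, hu⟩ ⟨v, hv⟩)), ihu, ihv, one_mul]
        | inv u _ ihu => rw [inv_pow, ihu, inv_one]
      obtain ⟨Q, hQ⟩ := hA3.exists_le_sylow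
      obtain ⟨g, hg⟩ := MulAction.exists_smul_eq (Perm (Fin n)) Q P
      refine ⟨Λ.image g, ?_, ?_⟩
      · rw [Finset.card_image_of_injective _ g.injective, hcard]; omega
      · intro a ha
        obtain ⟨b, hb, rfl⟩ := Finset.mem_image.1 ha
        obtain ⟨c, hc, hbc⟩ := (hmem b).1 hb
        refine ⟨g * c * g⁻¹, isThreeCycle_conj (hL3 c hc) g, hP ?_, ?_⟩
        · rw [← hg, Sylow.coe_subgroup_smul]
          exact Subgroup.mem_map.2 ⟨c, hQ (Subgroup.subset_closure hc), rfl⟩
        · rw [mem_support, Perm.mul_apply, Perm.mul_apply,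
            show g⁻¹ (g b) = b from Perm.inv_eq_iff_eq.2 rfl]
          exact fun h => mem_support.1 hbc (g.injective h)
    intro k
    induction k with
    | zero => exact fun _ => ⟨[], ∅, by simp, List.Pairwise.nil, by simp, by simp⟩
    | succ k ih =>
      intro hk
      obtain ⟨L, Λ, hL3, hLd, hcard, hmem⟩ := ih (by omega)
      obtain ⟨t, hts, ht⟩ := Finset.exists_subset_card_eq (s := Λᶜ) (n := 3)
        (by rw [Finset.card_compl, Fintype.card_fin]; omega)
      obtain ⟨a, b, c, hab, hac, hbc, rfl⟩ := Finset.card_eq_three.1 ht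
      obtain ⟨g, hg, hgs, -, -, -⟩ := exists_threeCycle (Δ := {a, b, c}) (a := a) (b := b) (c := c)
        (by simp) (by simp) (by simp) hab hac hbc
      have hsupp : g.support = {a, b, c} :=
        Finset.eq_of_subset_of_card_le hgs (by rw [hg.card_support, ht])
      refine ⟨g :: L, Λ ∪ {a, b, c}, ?_, List.pairwise_cons.2 ⟨fun d hd => ?_, hLd⟩, ?_, fun x => ?_⟩
      · intro d hd
        rcases List.mem_cons.1 hd with rfl | hd
        exacts [hg, hL3 d hd]
      · rw [Perm.disjoint_iff_disjoint_support, hsupp]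
        refine Finset.disjoint_left.2 fun x hx hxd => ?_
        exact Finset.mem_compl.1 (hts hx) ((hmem x).2 ⟨d, hd, hxd⟩)
      · rw [Finset.card_union_of_disjoint (Finset.disjoint_left.2 fun x hx hx' =>
          Finset.mem_compl.1 (hts hx') hx), hcard, ht]
        omega
      · rw [Finset.mem_union, hmem x, ← hsupp]
        simp [List.mem_cons]
        exact or_comm
  -- every block gives `F*`
  have key : ∀ c : Perm (Fin n), IsThreeCycle c → c ∈ H → ∃ Δ : Finset (Fin n), c.support ⊆ Δ ∧ 5 ≤ Δ.card ∧
      K.map H.subtype = altOn Δ := by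
    intro c hc hcH
    obtain ⟨Δ, hcΔ, h3, hfull, hblock⟩ := exists_block hc hcH
    have hAH : altOn Δ ≤ H := (Subgroup.closure_le _).2 fun d hd => hfull d hd.1 hd.2
    have hsn := isSubnormal_altOn hfull hblock
    let e : (altOn Δ).subgroupOf H ≃* alternatingGroup (Fin Δ.card) :=
      (Subgroup.subgroupOfEquivOfLe hAH).trans (altOnEquiv Δ)
    by_cases h5 : 5 ≤ Δ.card
    · refine ⟨Δ, hcΔ, h5, ?_⟩
      have : IsSimpleGroup (alternatingGroup (Fin Δ.card)) := alternatingGroup.isSimpleGroup (by simp [h5])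
      have hs : IsSimpleGroup ((altOn Δ).subgroupOf H) := e.isSimpleGroup
      have hna : ¬ IsMulCommutative ((altOn Δ).subgroupOf H) := by
        intro h
        have h' : IsMulCommutative (alternatingGroup (Fin Δ.card)) := ⟨⟨fun a b => by
          apply e.symm.injective; rw [map_mul, map_mul]; exact h.is_comm.comm _ _⟩⟩
        have := alternatingGroup.isMulCommutative_iff_card_le_three.1 h'
        simp at this; omega
      have := component_eq hF (isComponent_of_simple hsn hs hna)
      rw [hKdef, ← this, Subgroup.map_subgroupOf_eq_of_le hAH]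
    · exfalso
      have hsol : Group.IsSolvable ((altOn Δ).subgroupOf H) := by
        have := isSolvable_alternatingGroup_of_le_four (β := Fin Δ.card) (by simp; omega)
        exact Group.isSolvable_of_isSolvable_injective (f := e.toMonoidHom) e.injective
      have hle := le_center_of_solvable hF hsn hsol
      have hck := hle (show (⟨c, hcH⟩ : H) ∈ (altOn Δ).subgroupOf H from
        Subgroup.subset_closure ⟨hc, hcΔ⟩)
      -- each element of `K` acts on `supp c` as a power of `c`
      have hcomm : ∀ k ∈ K, Commute ((k : H) : Perm (Fin n)) c := fun k hk =>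
        congrArg Subtype.val (Subgroup.mem_centralizer_iff.1 hck.2 k hk)
      obtain ⟨a, ha⟩ : c.support.Nonempty := by rw [← Finset.card_pos, hc.card_support]; norm_num
      have hmove : ∀ k ∈ K, ∀ z ∈ c.support, ((k : H) : Perm (Fin n)) z ∈ c.support := by
        intro k hk z hz
        rw [mem_support] at hz ⊢
        intro h
        have h2 := congrArg (fun g : Perm (Fin n) => g z) (hcomm k hk).eq
        simp only [Perm.mul_apply] at h2
        rw [h] at h2
        exact hz (((k : H) : Perm (Fin n)).injective h2)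
      have hiff : ∀ k ∈ K, ∀ z, ((k : H) : Perm (Fin n)) z ∈ c.support ↔ z ∈ c.support := by
        intro k hk z
        refine ⟨fun h => ?_, hmove k hk z⟩
        have := hmove k⁻¹ (K.inv_mem hk) _ h
        simpa using this
      let f : K →* Perm {z // z ∈ c.support} :=
        { toFun := fun k => Perm.subtypePerm ((k : H) : Perm (Fin n)) (fun z => hiff k k.2 z)
          map_one' := by ext z; simp
          map_mul' := fun k l => Equiv.ext fun z => Subtype.ext rfl }
      have hab : ∀ u v : K, Commute (f u) (f v) := by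
        intro u v
        have hpow : ∀ w : K, ∃ i : ℕ, ∀ z ∈ c.support, ((w : H) : Perm (Fin n)) z = (c ^ i) z := by
          intro w
          have key : ∀ i : ℕ, ((w : H) : Perm (Fin n)) a = (c ^ i) a →
              ∀ z ∈ c.support, ((w : H) : Perm (Fin n)) z = (c ^ i) z := by
            intro i hi z hz
            have hw : ∀ y, ((w : H) : Perm (Fin n)) (c y) = c (((w : H) : Perm (Fin n)) y) := fun y =>
              congrArg (fun g : Perm (Fin n) => g y) (hcomm w w.2).eq
            have hc' : ∀ y, c ((c ^ i) y) = (c ^ i) (c y) := fun y =>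
              congrArg (fun g : Perm (Fin n) => g y) ((Commute.self_pow c i).eq)
            rcases mem_three hc ha hz with rfl | rfl | rfl
            · exact hi
            · rw [hw, hi, hc']
            · rw [hw, hw, hi, hc', hc']
          rcases mem_three hc ha (hmove w w.2 a ha) with h | h | h
          · exact ⟨0, key 0 (by simpa using h)⟩
          · exact ⟨1, key 1 (by simpa using h)⟩
          · exact ⟨2, key 2 (by simpa [pow_two] using h)⟩
        obtain ⟨i, hi⟩ := hpow u
        obtain ⟨j, hj⟩ := hpow v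
        refine Equiv.ext fun z => Subtype.ext ?_
        show ((u : H) : Perm (Fin n)) (((v : H) : Perm (Fin n)) z) = ((v : H) : Perm (Fin n)) (((u : H) : Perm (Fin n)) z)
        rw [hi _ (hmove v v.2 _ z.2), hj _ z.2, hj _ (hmove u u.2 _ z.2), hi _ z.2, ← Perm.mul_apply,
          ← Perm.mul_apply, ← pow_add, ← pow_add, add_comm]
      have h1 := map_eq_one_of_perfect (CfsgLib.Components.IsComponent.commutator_eq_self hKc) f hab
        ⟨⟨c, hcH⟩, hck.1⟩
      have h2 := congrArg (fun g : Perm {z // z ∈ c.support} => ((g ⟨a, ha⟩ : {z // z ∈ c.support}) : Fin n)) h1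
      simp [f] at h2
      exact mem_support.1 ha h2
  -- all points covered lie in one block
  obtain ⟨a0, ha0⟩ : Λ.Nonempty := by rw [← Finset.card_pos]; omega
  obtain ⟨c0, hc0, hc0H, hc0a⟩ := hcover a0 ha0
  obtain ⟨Δ, hcΔ, h5, hKΔ⟩ := key c0 hc0 hc0H
  have hsub : Λ ⊆ Δ := by
    intro a ha
    obtain ⟨c, hc, hcH, hca⟩ := hcover a ha
    obtain ⟨Δ', hcΔ', h5', hKΔ'⟩ := key c hc hcH
    have hmem : c ∈ altOn Δ := hKΔ ▸ hKΔ'.symm ▸ Subgroup.subset_closure ⟨hc, hcΔ'⟩
    have : ∀ y ∈ altOn Δ, ∀ z, z ∉ Δ → y z = z := by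
      intro y hy
      induction hy using Subgroup.closure_induction with
      | mem d hd => exact fun z hz => apply_of_fix hd.2 hz
      | one => simp
      | mul u v _ _ hu hv => intro z hz; rw [Perm.mul_apply, hv z hz, hu z hz]
      | inv u _ hu => intro z hz; rw [Perm.inv_eq_iff_eq, hu z hz]
    by_contra hn
    exact mem_support.1 hca (this c hmem a hn)
  refine ⟨Δ.card, ?_, ⟨((K.equivMapOfInjective H.subtype H.subtype_injective).trans
    (MulEquiv.subgroupCongr hKΔ)).trans (altOnEquiv Δ)⟩⟩
  have h1 := Finset.card_le_card hsub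
  have h2 : Δ.card ≤ n := by simpa using Finset.card_le_univ Δ
  omega

end Cfsg.Agent.S2929
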