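import Cfsg.Statements.S2932
import Cfsg.Agent.FFNatural.Four
import Cfsg.Agent.FFBlocks.Setup

set_option autoImplicit false
set_option linter.style.haveILetI false
open Cfsg

namespace Cfsg.Agent.S2932

open CfsgLib.FFCells CfsgLib.FFBlocks CfsgLib.FFNatural CfsgLib.Linear CfsgLib.SL2Recognition
open scoped IsMulCommutative

/-- Let p be a prime. Inside a finite ambient group let V be an elementary abelian p-subgroup and G a subgroup normalizing V and acting faithfully on it (G ∩ C(V) = 1), and let L ≤ G act on V as SL₂(F) on its natural module, F a finite field of characteristic p, with L ≅ SL₂(F). If every Sylow p-subgroup of N_G(L) is a Sylow p-subgroup of G, then either L is normal in G, or F has 4 elements and G is isomorphic to the alternating group of degree 7. -/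
theorem result {X : Type*} [Group X] [Finite X] {p : ℕ} [Fact p.Prime] (F : Type) [Field F] [Fintype F] [CharP F p] (V G L : Subgroup X) (hV : Cfsg.IsElementaryAbelian p V) (hGV : G ≤ Subgroup.normalizer (V : Set X)) (hfaith : G ⊓ Subgroup.centralizer (V : Set X) = ⊥) (hLG : L ≤ G) (hnat : Cfsg.IsNaturalSL2Module F V L) (hLiso : Nonempty (↥L ≃* Matrix.SpecialLinearGroup (Fin 2) F)) (hSyl : ∀ S : Sylow p ↥(G ⊓ Subgroup.normalizer (L : Set X)), ∀ P : Sylow p ↥G, Nat.card S = Nat.card P) : (L.subgroupOf G).Normal ∨ (Fintype.card F = 4 ∧ Nonempty (↥G ≃* ↥(alternatingGroup (Fin 7)))) := by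
  classical
  haveI : IsMulCommutative V := hV.1
  obtain ⟨hLV, ρ, ψ, hρs, hρk, hact⟩ := hnat
  set σ := convRep hGV with hσ
  have hA := act_self hGV hfaith
  have hρi : Function.Injective ρ := by
    rw [← MonoidHom.ker_eq_bot_iff, hρk, Subgroup.eq_bot_iff_forall]
    intro x hx
    exact Subtype.ext (Subgroup.mem_bot.1 (hfaith.le ⟨hLG x.2, Subgroup.mem_subgroupOf.1 hx⟩))
  set L' : Subgroup G := L.subgroupOf G
  let φ : L' ≃* Matrix.SpecialLinearGroup (Fin 2) F :=
    (Subgroup.subgroupOfEquivOfLe hLG).trans (MulEquiv.ofBijective ρ ⟨hρi, hρs⟩)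
  let ψ' : Additive V →+ (Fin 2 → F) := AddMonoidHom.mk' ψ fun a b => map_add ψ a b
  have hequiv : ∀ (g : L') (v : Additive V), ψ' (σ g v) = (φ g).1.mulVec (ψ' v) := by
    intro g v
    obtain ⟨w, hw, hψw⟩ := hact (Subgroup.subgroupOfEquivOfLe hLG g) (Additive.toMul v)
    have e : σ g v = Additive.ofMul w :=
      Additive.toMul.injective (Subtype.ext ((hA.conj g.1 v).trans hw.symm))
    rw [e]
    exact hψw
  have hfix0 : ∀ v, v ∈ fix σ L' → ψ' v = 0 := by
    intro v hv
    have h1 : ψ' (σ (φ.symm (upperUni 1) : L') v) = ψ' v := by rw [hv _ (SetLike.coe_mem _)]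
    have h2 : ψ' (σ (φ.symm (lowerUni 1) : L') v) = ψ' v := by rw [hv _ (SetLike.coe_mem _)]
    rw [hequiv, φ.apply_symm_apply, upperUni_mulVec] at h1
    rw [hequiv, φ.apply_symm_apply, lowerUni_val] at h2
    have a := congrFun h1 0
    have b := congrFun h2 1
    simp [Matrix.mulVec, dotProduct, Fin.sum_univ_two] at a b
    ext i; fin_cases i
    · exact b
    · exact a
  let B : Subgroup G := ((CfsgLib.LocalEven50.upperHom F).range.comap φ.toMonoidHom).map L'.subtype
  have hup : ∀ t : Multiplicative F, CfsgLib.LocalEven50.upperHom F t = upperUni t.toAdd := fun t => by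
    refine Subtype.ext ?_; rw [upperUni_val]; rfl
  have hroot : ∀ g : L', (g : G) ∈ B ↔ ∃ t, φ g = upperUni t := by
    intro g
    refine ⟨fun ⟨y, ⟨t, ht⟩, hy⟩ => ⟨t.toAdd, ?_⟩, fun ⟨t, ht⟩ => ⟨g, ⟨Multiplicative.ofAdd t, ?_⟩, rfl⟩⟩
    · rw [show g = y from Subtype.ext hy.symm, ← hup, ht]; rfl
    · rw [hup]; exact ht.symm
  let D : CellData σ B L' := {
    F := F
    φ := φ
    ψ := ψ'
    le := Subgroup.map_subtype_le _
    surj := ψ.surjective
    ker := fun v => ⟨fun h0 => by
        rw [show v = 0 from ψ.injective (h0.trans (map_zero ψ).symm)]; exact zero_mem _,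
      hfix0 v⟩
    equiv := hequiv
    root := hroot
    fixB := fun v hv g hg => by
      obtain ⟨t, ht⟩ := (hroot ⟨g, Subgroup.map_subtype_le _ hg⟩).1 hg
      refine ψ.injective ?_
      show ψ' (σ g v) = ψ' v
      rw [show g = ((⟨g, Subgroup.map_subtype_le _ hg⟩ : L') : G) from rfl, hequiv, ht, upperUni_mulVec]
      ext i; fin_cases i <;> simp [hv] }
  have hBp : IsPGroup p B := D.isMinOff.isPGroup hA.inj (exp_additive hV)
  set N := Subgroup.normalizer (L' : Set G)
  have hBN : B ≤ N := D.le.trans Subgroup.le_normalizer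
  obtain ⟨S₀, hS₀⟩ := (hBp.comap_subtype (K := N)).exists_le_sylow
  have hcN : Nat.card N = Nat.card ↥(G ⊓ Subgroup.normalizer (L : Set X)) := by
    have e : N = (Subgroup.normalizer (L : Set X)).subgroupOf G :=
      (Subgroup.subgroupOf_normalizer_eq hLG).symm
    rw [e, ← Subgroup.inf_subgroupOf_left, Nat.card_congr (Subgroup.subgroupOfEquivOfLe inf_le_left).toEquiv]
  obtain ⟨S₁⟩ : Nonempty (Sylow p ↥(G ⊓ Subgroup.normalizer (L : Set X))) := Sylow.nonempty
  obtain ⟨P₁⟩ : Nonempty (Sylow p ↥G) := Sylow.nonempty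
  have hcS : Nat.card ↥((S₀ : Subgroup N).map N.subtype) = p ^ (Nat.card G).factorization p := by
    rw [Subgroup.card_map_of_injective N.subtype_injective, S₀.card_eq_multiplicity, hcN,
      ← S₁.card_eq_multiplicity, hSyl S₁ P₁, P₁.card_eq_multiplicity]
  set S : Sylow p G := Sylow.ofCard ((S₀ : Subgroup N).map N.subtype) hcS
  have hset : Setting σ S B L' :=
    { inj := hA.inj
      exp := exp_additive hV
      cell := ⟨D⟩
      fix_bot := (AddSubgroup.eq_bot_iff_forall _).2 fun v hv =>
        ψ.injective ((hfix0 v hv).trans (map_zero ψ).symm)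
      le := fun b hb => by
        rw [Sylow.coe_ofCard]
        exact ⟨⟨b, hBN hb⟩, hS₀ (Subgroup.mem_subgroupOf.2 hb), rfl⟩
      norm := by rw [Sylow.coe_ofCard]; exact Subgroup.map_subtype_le _ }
  by_cases hL : L'.Normal
  · exact Or.inl hL
  obtain ⟨hp, hq, r, hr, hrB⟩ := hset.exists_four hL
  have hFc : Fintype.card F = 4 := by
    have e1 : Nat.card (Additive V) = Fintype.card F * Fintype.card F := by
      rw [Nat.card_congr ψ.toEquiv, Nat.card_eq_fintype_card, Fintype.card_fun, Fintype.card_fin, sq]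
    rw [hset.card_module, hq] at e1
    exact (Nat.mul_self_inj.1 e1.symm)
  have hV16 : Nat.card V ≤ 16 := by
    refine le_of_eq ?_
    rw [Nat.card_congr (Additive.ofMul : V ≃ Additive V), hset.card_module, hq]
  obtain ⟨f, hf⟩ := CfsgLib.GLFourTwo.exists_mulAut_to_alt (V := V) (fun a b => mul_comm' a b)
    (fun a => Subtype.ext (by rw [← hp]; exact hV.2 _ a.2)) hV16
  let g : G →* MulAut V := V.normalizerMonoidHom.comp (Subgroup.inclusion hGV)
  have hg : Function.Injective g := by
    rw [← MonoidHom.ker_eq_bot_iff, Subgroup.eq_bot_iff_forall]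
    intro x hx
    have h1 : Subgroup.inclusion hGV x ∈ V.normalizerMonoidHom.ker := hx
    rw [Subgroup.normalizerMonoidHom_ker, Subgroup.mem_subgroupOf] at h1
    exact Subtype.ext (Subgroup.mem_bot.1 (hfaith.le ⟨x.2, h1⟩))
  exact Or.inr ⟨hFc, hset.equiv_alt_seven hp hq hr hrB hL (f.comp g) (hf.comp hg)⟩

end Cfsg.Agent.S2932
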