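import Cfsg.Statements.S2933
import Cfsg.Agent.LocalEven49.FoursCenter

set_option autoImplicit false
open Cfsg

namespace Cfsg.Agent.S2933

/-- Let T be a 2-subgroup of a finite group G, V ≤ Z(T) a four-group, and t, ρ ∈ N_G(V) ∩ N_G(T) elements of order 2 and 3 with t commuting with ρ and with V. If [V, ρ] = V and C_T(t) = V, then T is elementary abelian of order 16, or homocyclic of rank 2 (ℤ/2ⁿ × ℤ/2ⁿ for some n ≥ 1), or isomorphic to a Sylow 2-subgroup of PSL₃(4) or of PSU₃(4). -/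
theorem result {G : Type*} [Group G] [Finite G] (T V : Subgroup G) (hT : IsPGroup 2 ↥T) (hVT : V ≤ T ⊓ Subgroup.centralizer (T : Set G)) (hV : Nat.card ↥V = 4 ∧ ∀ v ∈ V, v ^ 2 = 1) (t ρ : G) (ht : orderOf t = 2) (hρ : orderOf ρ = 3) (htn : t ∈ Subgroup.normalizer (V : Set G) ⊓ Subgroup.normalizer (T : Set G)) (hρn : ρ ∈ Subgroup.normalizer (V : Set G) ⊓ Subgroup.normalizer (T : Set G)) (htρ : t * ρ = ρ * t) (htV : t ∈ Subgroup.centralizer (V : Set G)) (hVρ : ⁅V, Subgroup.zpowers ρ⁆ = V) (hCt : T ⊓ Subgroup.centralizer ({t} : Set G) = V) : (Nat.card ↥T = 16 ∧ ∀ x ∈ T, x ^ 2 = 1) ∨ (∃ n : ℕ, 1 ≤ n ∧ Nonempty (↥T ≃* Multiplicative (ZMod (2 ^ n)) × Multiplicative (ZMod (2 ^ n)))) ∨ (∃ (F : Type) (_ : Field F) (_ : Fintype F), Fintype.card F = 4 ∧ ∀ P : Sylow 2 (Matrix.ProjectiveSpecialLinearGroup (Fin 3) F), Nonempty (↥T ≃* ↥(P : Subgroup (Matrix.ProjectiveSpecialLinearGroup (Fin 3) F)))) ∨ (∃ (F : Type) (_ : Field F) (_ : Fintype F), Fintype.card F = 16 ∧ ∀ P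 : Sylow 2 (Cfsg.PSU 3 F 4), Nonempty (↥T ≃* ↥(P : Subgroup (Cfsg.PSU 3 F 4)))) := by
  classical
  haveI : Fact (Nat.Prime 2) := ⟨Nat.prime_two⟩
  obtain ⟨hVT', hVc'⟩ := le_inf_iff.1 hVT
  have hconj : ∀ (g : G) (hg : g ∈ Subgroup.normalizer (T : Set G)) (a : ↥T),
      ((Subgroup.normalizerMonoidHom T ⟨g, hg⟩ a : ↥T) : G) = g * a * g⁻¹ := fun _ _ _ => rfl
  set σ := Subgroup.normalizerMonoidHom T ⟨ρ, hρn.2⟩
  set τ := Subgroup.normalizerMonoidHom T ⟨t, htn.2⟩
  have hρ3 : ρ * (ρ * ρ) = 1 := by rw [← mul_assoc, ← pow_three', ← hρ, pow_orderOf_eq_one]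
  have ht2 : t * t = 1 := by rw [← sq, ← ht, pow_orderOf_eq_one]
  have hH : CfsgLib.FoursCenter.Hyp σ τ (V.subgroupOf T) :=
    { two := hT
      hV := fun a ha => Subgroup.mem_center_iff.2 fun b =>
        Subtype.ext (Subgroup.mem_centralizer_iff.1 (hVc' ha) b b.2)
      card := (Nat.card_congr (Subgroup.subgroupOfEquivOfLe hVT').toEquiv).trans hV.1
      exp := fun a ha => Subtype.ext (by rw [Subgroup.coe_mul, ← sq]; exact hV.2 _ ha)
      hσ3 := fun a => Subtype.ext (by
        rw [hconj, hconj, hconj,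
          show ρ * (ρ * (ρ * (a : G) * ρ⁻¹) * ρ⁻¹) * ρ⁻¹ =
            (ρ * (ρ * ρ)) * a * (ρ * (ρ * ρ))⁻¹ by group, hρ3, one_mul, inv_one, mul_one])
      hτ2 := fun a => Subtype.ext (by
        rw [hconj, hconj, show t * (t * (a : G) * t⁻¹) * t⁻¹ = (t * t) * a * (t * t)⁻¹ by group,
          ht2, one_mul, inv_one, mul_one])
      comm := fun a => Subtype.ext (by
        rw [hconj, hconj, hconj, hconj, show ρ * (t * (a : G) * t⁻¹) * ρ⁻¹ =
          (ρ * t) * a * (ρ * t)⁻¹ by group, show t * (ρ * (a : G) * ρ⁻¹) * t⁻¹ =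
          (t * ρ) * a * (t * ρ)⁻¹ by group, htρ])
      fix := fun a => by
        rw [Subgroup.mem_subgroupOf, ← hCt, Subgroup.mem_inf, Subgroup.mem_centralizer_singleton_iff,
          Subtype.ext_iff, hconj, mul_inv_eq_iff_eq_mul]
        exact ⟨fun e => ⟨a.2, e.symm⟩, fun e => e.2.symm⟩
      fpV := by
        intro v hv hfix
        by_contra hv1
        have hfixv : ρ * (v : G) * ρ⁻¹ = v := by rw [← hconj ρ hρn.2]; exact congrArg Subtype.val hfix
        have hρV : ∀ a ∈ V, ρ * a * ρ⁻¹ ∈ V := fun a ha =>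
          (Subgroup.mem_normalizer_iff.1 hρn.1 a).1 ha
        -- the fours group is pointwise fixed
        have hall : ∀ a ∈ V, ρ * a * ρ⁻¹ = a := by
          intro a ha
          by_contra hne
          haveI : Fintype ↥V := Fintype.ofFinite _
          have hc : (V : Set G).toFinset.card = 4 := by
            rw [Set.toFinset_card, ← Nat.card_eq_fintype_card]; exact hV.1
          have hsub : ({1, (v : G), a, ρ * a * ρ⁻¹} : Finset G) ⊆ (V : Set G).toFinset := by
            intro b hb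
            simp only [Finset.mem_insert, Finset.mem_singleton] at hb
            rw [Set.mem_toFinset]
            rcases hb with rfl | rfl | rfl | rfl
            exacts [one_mem _, hv, ha, hρV a ha]
          have hinj : ∀ b b' : G, ρ * b * ρ⁻¹ = ρ * b' * ρ⁻¹ → b = b' := fun b b' e =>
            mul_left_cancel (mul_right_cancel e)
          have ha1 : a ≠ 1 := fun e => hne (by rw [e, mul_one, mul_inv_cancel])
          have hav : a ≠ (v : G) := fun e => hne (by rw [e, hfixv])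
          have hb1 : ρ * a * ρ⁻¹ ≠ 1 := fun e => ha1 (hinj _ _ (by rw [e, mul_one, mul_inv_cancel]))
          have hbv : ρ * a * ρ⁻¹ ≠ (v : G) := fun e => hav (hinj _ _ (e.trans hfixv.symm))
          have hv1' : (v : G) ≠ 1 := fun e => hv1 (Subtype.ext e)
          have heq : ({1, (v : G), a, ρ * a * ρ⁻¹} : Finset G) = (V : Set G).toFinset := by
            refine Finset.eq_of_subset_of_card_le hsub ?_
            rw [hc, Finset.card_insert_of_notMem, Finset.card_insert_of_notMem,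
              Finset.card_insert_of_notMem, Finset.card_singleton] <;>
              simp [ha1.symm, hav.symm, hb1.symm, hbv.symm, hv1'.symm, Ne.symm hne]
          have hmem : ρ * (ρ * a * ρ⁻¹) * ρ⁻¹ ∈ ({1, (v : G), a, ρ * a * ρ⁻¹} : Finset G) := by
            rw [heq, Set.mem_toFinset]; exact hρV _ (hρV a ha)
          simp only [Finset.mem_insert, Finset.mem_singleton] at hmem
          rcases hmem with e | e | e | e
          · exact hb1 (hinj _ _ (e.trans (by group)))
          · exact hbv (hinj _ _ (e.trans hfixv.symm))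
          · refine hne ?_
            conv_rhs => rw [show a = (ρ * (ρ * ρ)) * a * (ρ * (ρ * ρ))⁻¹ by
              rw [hρ3, one_mul, inv_one, mul_one]]
            rw [show (ρ * (ρ * ρ)) * a * (ρ * (ρ * ρ))⁻¹ =
              ρ * (ρ * (ρ * a * ρ⁻¹) * ρ⁻¹) * ρ⁻¹ by group, e]
          · exact hne (hinj _ _ e)
        have hbot : ⁅V, Subgroup.zpowers ρ⁆ = ⊥ := by
          rw [Subgroup.commutator_eq_bot_iff_le_centralizer, Subgroup.zpowers_eq_closure,
            Subgroup.centralizer_closure]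
          intro a ha
          rw [Subgroup.mem_centralizer_singleton_iff]
          exact (mul_inv_eq_iff_eq_mul.1 (hall a ha)).symm
        have h4 := hV.1
        rw [← hVρ, hbot, Subgroup.card_bot] at h4
        norm_num at h4 }
  rcases hH.main with ⟨h16, he⟩ | hhom | hL | hU
  · exact Or.inl ⟨h16, fun x hx => by
      rw [sq]; exact congrArg Subtype.val (he ⟨x, hx⟩)⟩
  · exact Or.inr (Or.inl hhom)
  · refine Or.inr (Or.inr (Or.inl ⟨CfsgLib.Linear.GF4, inferInstance, inferInstance,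
      CfsgLib.Linear.card_gf4, fun P => ?_⟩))
    obtain ⟨S, ⟨e⟩⟩ := Cfsg.Agent.S3157.Uni.exists_sylow
    obtain ⟨f⟩ := hL.nonempty_mulEquiv CfsgLib.SixtyFourModel.data_uni
    exact ⟨(f.trans e).trans (S.equiv P)⟩
  · haveI : Fintype (GaloisField 2 4) := Fintype.ofFinite _
    have hc : Fintype.card (GaloisField 2 4) = 16 := by
      rw [← Nat.card_eq_fintype_card, GaloisField.card 2 4 (by norm_num)]; norm_num
    have h : CfsgLib.UThreeSylow.Good (GaloisField 2 4) 2 4 :=
      ⟨by norm_num, by norm_num, by rw [hc]; norm_num⟩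
    refine Or.inr (Or.inr (Or.inr ⟨GaloisField 2 4, inferInstance, inferInstance, hc, fun P => ?_⟩))
    obtain ⟨e⟩ := CfsgLib.UThreeSylow.nonempty_equiv_sylow_PSU h P
    obtain ⟨f⟩ := hU.nonempty_mulEquiv (CfsgLib.SixtyFourModel.data_uSub h)
    exact ⟨f.trans e⟩

end Cfsg.Agent.S2933
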