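import Cfsg.Statements.S2934
import Cfsg.Agent.LocalEven49.OneInvolutionFixed

set_option autoImplicit false
open Cfsg

namespace Cfsg.Agent.S2934

/-- Let p be an odd prime, W a finite 2-group and E a non-cyclic abelian p-subgroup of Aut(W) such that, for every nontrivial e ∈ E, the fixed points of e in W contain at most one involution. Then E has order 9, W is extraspecial of order 2⁵, 2⁷ or 2⁹, and the common fixed points of E in W form exactly the centre Z(W). -/
theorem result {W : Type*} [Group W] [Finite W] (hW : IsPGroup 2 W) {p : ℕ} [Fact p.Prime] (hp : p ≠ 2) (E : Subgroup (MulAut W)) (hE : IsPGroup p ↥E) (hab : IsMulCommutative ↥E) (hnc : ¬ IsCyclic ↥E) (hfix : ∀ e ∈ E, e ≠ 1 → ∀ x y : W, orderOf x = 2 → orderOf y = 2 → e x = x → e y = y → x = y) : Nat.card ↥E = 9 ∧ Cfsg.IsExtraspecial 2 W ∧ (Nat.card W = 2 ^ 5 ∨ Nat.card W = 2 ^ 7 ∨ Nat.card W = 2 ^ 9) ∧ {x : W | ∀ e ∈ E, e x = x} = (Subgroup.center W : Set W) := by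
  classical
  have hpp : p.Prime := Fact.out
  letI : CommGroup ↥E := { (inferInstance : Group ↥E) with mul_comm := fun u v => hab.is_comm.comm u v }
  -- two independent elements of order `p`
  obtain ⟨q, hq, x, y, hx, hy, hx1, hyx⟩ := CfsgLib.Coprime.exists_independent_of_not_isCyclic hnc
  haveI := Fact.mk hq
  obtain rfl : q = p := by
    obtain ⟨n, hn⟩ := IsPGroup.iff_orderOf.1 hE x
    have ho : orderOf x = q := orderOf_eq_prime hx hx1
    rw [ho] at hn
    exact (Nat.prime_dvd_prime_iff_eq hq hpp).1 (hq.dvd_of_dvd_pow (dvd_of_eq hn))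
  have hy1 : y ≠ 1 := fun h => hyx (h ▸ one_mem _)
  set A : Subgroup ↥E := Subgroup.zpowers x ⊔ Subgroup.zpowers y with hA
  have hinf : Subgroup.zpowers x ⊓ Subgroup.zpowers y = ⊥ := by
    refine Subgroup.eq_bot_of_card_le _ ?_
    have hd : Nat.card ↥(Subgroup.zpowers x ⊓ Subgroup.zpowers y) ∣ q := by
      rw [← orderOf_eq_prime hy hy1, ← Nat.card_zpowers]
      exact Subgroup.card_dvd_of_le inf_le_right
    rcases (Nat.dvd_prime hq).1 hd with h | h
    · exact h.le
    · exfalso
      have heq : Subgroup.zpowers x ⊓ Subgroup.zpowers y = Subgroup.zpowers y :=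
        Subgroup.eq_of_le_of_card_ge inf_le_right
          (by rw [h, Nat.card_zpowers, orderOf_eq_prime hy hy1])
      exact hyx ((inf_eq_right.1 heq) (Subgroup.mem_zpowers y))
  have hAcard : Nat.card A = q * q := by
    have h := CfsgLib.LocalEven50.card_sup_mul_card_inf (Subgroup.zpowers x) (Subgroup.zpowers y)
    rwa [hinf, Subgroup.card_bot, mul_one, Nat.card_zpowers, Nat.card_zpowers,
      orderOf_eq_prime hx hx1, orderOf_eq_prime hy hy1] at h
  have hAexp : A ≤ (powMonoidHom q : ↥E →* ↥E).ker :=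
    sup_le (Subgroup.zpowers_le.2 hx) (Subgroup.zpowers_le.2 hy)
  refine CfsgLib.OneInvolutionFixed.main hW hp E (A.map E.subtype) (Subgroup.map_subtype_le A) hE
    (fun e he f hf => congrArg Subtype.val (mul_comm (⟨e, he⟩ : ↥E) ⟨f, hf⟩)) ?_ ?_ hfix
  · rintro _ ⟨a, ha, rfl⟩
    exact congrArg Subtype.val (MonoidHom.mem_ker.1 (hAexp ha))
  · rw [Subgroup.card_map_of_injective E.subtype_injective, hAcard]

end Cfsg.Agent.S2934
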