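import Cfsg.Statements.S2939
import Cfsg.Agent.SylowControl.Basic

namespace Cfsg.Agent.S2939
open CfsgLib.SylowControl

theorem conjRight_eq {G : Type*} [Group G] (g : G) (A : Set G) {y : G} :
    y ∈ Cfsg.conjRight g A ↔ g * y * g⁻¹ ∈ A := by
  simp only [Cfsg.conjRight, Set.mem_image]
  constructor
  · rintro ⟨a, ha, rfl⟩; simpa [mul_assoc] using ha
  · intro h; exact ⟨_, h, by group⟩

theorem conjRight_sub {G : Type*} [Group G] {g : G} {A : Set G} {X : Subgroup G} (h : A ⊆ (X : Set G)) :
    Cfsg.conjRight g A ⊆ (Cfsg.subgroupConjRight g X : Set G) := fun y hy =>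
  mem_conjRightSub.2 (h ((conjRight_eq g A).1 hy))

theorem result {G : Type*} [Group G] [Finite G] {p : ℕ} [Fact p.Prime] (hdiv : p ∣ Nat.card G)
    (𝓕 : Set (Subgroup G)) (h𝓕 : Cfsg.IsNormalSet 𝓕) :
    Cfsg.ControlsSylowIntersections p 𝓕 ↔ Cfsg.FamilyStronglyControlsFusion p 𝓕 := by
  constructor
  · intro hc S A g hA hA1 hAg
    let T : Sylow p G := sylowConjRight g⁻¹ S
    have hAT : A ⊆ ((T : Subgroup G) : Set G) := fun a ha => by
      rw [coe_sylowConjRight, SetLike.mem_coe, mem_conjRightSub]
      have h9 : g⁻¹ * a * g ∈ Cfsg.conjRight g A := ⟨a, ha, rfl⟩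
      rw [inv_inv]; exact hAg h9
    have hD : Subgroup.closure A ≠ ⊥ := by
      obtain ⟨a, ha, ha1⟩ := hA1
      exact fun h => ha1 (by simpa [h] using Subgroup.subset_closure ha)
    have hl : Linked p 𝓕 (Subgroup.closure A) S T :=
      Linked.of_controls hc hD ((Subgroup.closure_le _).2 hA) ((Subgroup.closure_le _).2 hAT)
    have main : ∀ T : Sylow p G, Linked p 𝓕 (Subgroup.closure A) S T →
        ∃ (n : ℕ) (Y : Fin n → Subgroup G) (y : Fin n → G),
          (∀ i : Fin n, Y i ∈ Cfsg.sylowMembers p 𝓕 (S : Subgroup G) ∧ y i ∈ Y i) ∧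
          Cfsg.subgroupConjRight (List.ofFn y).prod (T : Subgroup G) = (S : Subgroup G) ∧
          ∀ i : Fin n, Cfsg.conjRight (((List.ofFn y).take (i.val + 1)).prod) A ⊆
            ((S : Subgroup G) : Set G) ∩ (Y i : Set G) := by
      intro T hl
      induction hl with
      | refl => exact ⟨0, Fin.elim0, Fin.elim0, fun i => i.elim0, by simp [conjRightSub_one],
          fun i => i.elim0⟩
      | @tail b d _ h2 ih =>
        obtain ⟨n, Y, y, hY, hb, hp⟩ := ih
        obtain ⟨X, x, h1, _, hx, hd, hDX⟩ := h2
        set w := (List.ofFn y).prod with hw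
        have hlist : List.ofFn (Fin.snoc y (w⁻¹ * x * w) : Fin (n + 1) → G) =
            List.ofFn y ++ [w⁻¹ * x * w] := by
          rw [List.ofFn_succ', List.concat_eq_append]; simp
        have hprod : (List.ofFn (Fin.snoc y (w⁻¹ * x * w) : Fin (n + 1) → G)).prod = x * w := by
          rw [hlist, List.prod_append, ← hw]; simp [mul_assoc]
        refine ⟨n + 1, Fin.snoc Y (Cfsg.subgroupConjRight w X), Fin.snoc y (w⁻¹ * x * w), ?_, ?_, ?_⟩
        · refine Fin.lastCases ?_ (fun i => ?_)
          · simp only [Fin.snoc_last]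
            exact ⟨hb ▸ conjRightSub_mem_sylowMembers h𝓕 h1 w,
              mem_conjRightSub.2 (by convert hx using 1; group)⟩
          · simpa using hY i
        · rw [hprod, ← conjRightSub_mul, hd, hb]
        · refine Fin.lastCases ?_ (fun i => ?_)
          · rw [Fin.snoc_last, List.take_of_length_le (by simp), hprod]
            have hAX : A ⊆ ((d : Subgroup G) ⊓ X : Subgroup G) := fun a ha =>
              hDX (Subgroup.subset_closure ha)
            intro z hz
            have := conjRight_sub (g := x * w) hAX hz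
            rw [conjRightSub_inf, ← conjRightSub_mul x w, hd, hb, ← conjRightSub_mul x w,
              conjRightSub_of_mem hx] at this
            exact this
          · rw [Fin.snoc_castSucc, hlist, List.take_append_of_le_length (by simp)]
            exact hp i
    obtain ⟨n, Y, y, hY, hT, hp⟩ := main T hl
    refine ⟨n, Y, y, ((List.ofFn y).prod)⁻¹ * g, ?_, hY, by group, hp⟩
    rw [mem_normalizer_iff_conjRightSub, ← conjRightSub_mul]
    have : Cfsg.subgroupConjRight (List.ofFn y).prod⁻¹ (S : Subgroup G) = (T : Subgroup G) :=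
      (eq_conjRightSub_iff.1 hT).symm
    rw [this, coe_sylowConjRight, conjRightSub_mul, inv_mul_cancel, conjRightSub_one]
  · intro hf
    rw [controls_iff_linked]
    intro S T hne hD
    obtain ⟨g, hg⟩ := exists_sylowConjRight_eq S T
    set D := (S : Subgroup G) ⊓ (T : Subgroup G) with hDdef
    obtain ⟨n, Y, y, y₀, hy₀, hY, hgy, hp⟩ := hf S (D : Set G) g (fun _ h => h.1) (by
        by_contra hh
        push Not at hh
        exact hD (D.eq_bot_iff_forall.2 hh)) (fun z hz => by
          have h3 : z ∈ (sylowConjRight g T : Subgroup G) :=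
            mem_conjRightSub.2 ((conjRight_eq g _).1 hz).2
          rw [hg] at h3; exact h3)
    let w : ℕ → G := fun k => ((List.ofFn y).take k).prod
    have main : ∀ k, k ≤ n → Linked p 𝓕 D S (sylowConjRight (w k)⁻¹ S) := by
      intro k
      induction k with
      | zero =>
        intro _
        have : sylowConjRight (w 0)⁻¹ S = S := Sylow.ext (by simp [w, coe_sylowConjRight, conjRightSub_one])
        rw [this]; exact .refl
      | succ k ih =>
        intro hk
        refine (ih (by omega)).tail ?_
        have hws : w (k + 1) = w k * y ⟨k, by omega⟩ := by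
          simp only [w]
          rw [List.prod_take_succ _ _ (by simp; omega)]
          simp
        obtain ⟨hm, hyY⟩ := hY ⟨k, by omega⟩
        have hsub := hp ⟨k, by omega⟩
        set Z := Y ⟨k, by omega⟩ with hZ
        set yk := y ⟨k, by omega⟩ with hyk
        refine ⟨Cfsg.subgroupConjRight (w k)⁻¹ Z, w k * yk * (w k)⁻¹,
          conjRightSub_mem_sylowMembers h𝓕 hm _, ?_, ?_, ?_, ?_⟩
        · have : Cfsg.subgroupConjRight (w k)⁻¹ Z = Cfsg.subgroupConjRight (w (k + 1))⁻¹ Z := by
            rw [hws, mul_inv_rev, ← conjRightSub_mul, conjRightSub_of_mem (Z.inv_mem hyY)]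
          rw [this]
          exact conjRightSub_mem_sylowMembers h𝓕 hm _
        · rw [mem_conjRightSub]; convert hyY using 1; group
        · rw [coe_sylowConjRight, coe_sylowConjRight, conjRightSub_mul, hws]
          congr 1; group
        · intro d hd
          have h1 : (w (k + 1))⁻¹ * d * w (k + 1) ∈ Cfsg.conjRight (w (k + 1)) (D : Set G) :=
            ⟨d, hd, rfl⟩
          obtain ⟨h2, h3⟩ := hsub h1
          refine ⟨mem_conjRightSub.2 (by rw [inv_inv]; exact h2), mem_conjRightSub.2 ?_⟩
          have h4 := Z.mul_mem (Z.mul_mem hyY h3) (Z.inv_mem hyY)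
          convert h4 using 1
          rw [hws]; group
    have hlast := main n le_rfl
    have : sylowConjRight (w n)⁻¹ S = T := by
      refine Sylow.ext ?_
      have hwn : w n = g * y₀⁻¹ := by
        simp only [w]; rw [List.take_of_length_le (by simp), hgy, mul_inv_cancel_right]
      rw [coe_sylowConjRight, hwn, mul_inv_rev, inv_inv, ← conjRightSub_mul,
        mem_normalizer_iff_conjRightSub.1 hy₀, ← hg, coe_sylowConjRight, conjRightSub_mul,
        mul_inv_cancel, conjRightSub_one]
    rwa [this] at hlast

end Cfsg.Agent.S2939
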