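import Cfsg.Statements.S2940
import Cfsg.Agent.SylowControl.Basic

namespace Cfsg.Agent.S2940

theorem result {G : Type*} [Group G] [Finite G] {p : ℕ} [Fact p.Prime] (S : Sylow p G) (G₁ G₂ : Subgroup G)
    (h1 : (S : Subgroup G) ≤ G₁) (h2 : (S : Subgroup G) ≤ G₂)
    (hfact : ∀ g : G, ∃ g₁ ∈ G₁, ∃ g₂ ∈ G₂, g = g₁ * g₂) (g : G) :
    ∃ U : Sylow p G, (S : Subgroup G) ⊓ Cfsg.subgroupConjRight g (S : Subgroup G) ≤ (U : Subgroup G) ∧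
      (U : Subgroup G) ≤ G₁ ⊓ Cfsg.subgroupConjRight g G₂ :=
  CfsgLib.SylowControl.exists_sylow_le_inf_conj S G₁ G₂ h1 h2 hfact g

end Cfsg.Agent.S2940
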