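import Cfsg.Statements.S2941
import Cfsg.Agent.LocalStructure.Elements

namespace Cfsg.Agent.S2941

open scoped commutatorElement

theorem result {G : Type*} [Group G] [Finite G] (hL : Cfsg.IsCharacteristicTwoType G) (hN : ∀ N : Subgroup G, Cfsg.IsTwoLocal N → Group.IsSolvable ↥N)
    (hZ : ∀ S : Sylow 2 G, Subgroup.centralizer (Cfsg.omegaCenterOf (S : Subgroup G) : Set G) ≤ Subgroup.normalizer ((S : Subgroup G) : Set G)) (T : Subgroup G) (hT : IsPGroup 2 ↥T) (hT1 : T ≠ ⊥) (K : Subgroup G) (hK : Cfsg.IsJComponent T K)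
    (Q : Subgroup G) (hQ1 : K ⊔ Cfsg.thompsonSubgroupOf 2 T ≤ Subgroup.normalizer (Q : Set G)) (hQ2 : Q ≤ Subgroup.normalizer (Cfsg.thompsonSubgroupOf 2 T : Set G)) :
    Q ≤ Subgroup.normalizer (K : Set G) := by
  obtain ⟨hKgen, hKJ, -, -, -⟩ := hK
  set J := Cfsg.thompsonSubgroupOf 2 T with hJdef
  set H := K ⊔ J with hH
  have hJ : IsPGroup 2 J := hT.to_le (Subgroup.map_subtype_le _)
  -- `J` normalises `K`
  have hJK : ∀ j ∈ J, ∀ k ∈ K, j * k * j⁻¹ ∈ K := by
    intro j hj k hk
    rw [← hKJ] at hk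
    induction hk using Subgroup.closure_induction with
    | mem x hx =>
      obtain ⟨a, ha, b, hb, rfl⟩ := hx
      have h1 : ⁅a, j⁆ ∈ K := hKJ ▸ Subgroup.commutator_mem_commutator ha hj
      have h2 : ⁅a, j * b⁆ ∈ K := hKJ ▸ Subgroup.commutator_mem_commutator ha (J.mul_mem hj hb)
      have := K.mul_mem (K.inv_mem h1) h2
      simp only [commutatorElement_def] at this ⊢
      convert this using 1
      group
    | one => simp
    | mul x y _ _ ihx ihy => have := K.mul_mem ihx ihy; simpa [mul_assoc] using this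
    | inv x _ ihx => have := K.inv_mem ihx; simpa [mul_assoc] using this
  have hKn : H ≤ Subgroup.normalizer (K : Set G) := by
    refine sup_le Subgroup.le_normalizer fun j hj => Subgroup.mem_normalizer_iff.2 fun k => ⟨hJK j hj k, fun h => ?_⟩
    have := hJK j⁻¹ (J.inv_mem hj) _ h
    simpa [mul_assoc] using this
  -- `Q` normalises `H = ⟨J^H⟩`
  let R := Subgroup.closure {y : G | ∃ h ∈ H, ∃ j ∈ J, h * j * h⁻¹ = y}
  have hRH : R = H := by
    refine le_antisymm ((Subgroup.closure_le _).2 ?_) (sup_le ?_ ?_)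
    · rintro _ ⟨h, hh, j, hj, rfl⟩
      exact H.mul_mem (H.mul_mem hh (Subgroup.mem_sup_right hj)) (H.inv_mem hh)
    · conv_lhs => rw [← hKJ]
      rw [Subgroup.commutator_le]
      intro k hk j hj
      rw [commutatorElement_def]
      exact R.mul_mem (Subgroup.subset_closure ⟨k, Subgroup.mem_sup_left hk, j, hj, rfl⟩)
        (R.inv_mem (Subgroup.subset_closure ⟨1, H.one_mem, j, hj, by simp⟩))
    · exact fun j hj => Subgroup.subset_closure ⟨1, H.one_mem, j, hj, by simp⟩
  have hQH : ∀ q ∈ Q, ∀ x ∈ H, q * x * q⁻¹ ∈ H := by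
    intro q hq x hx
    rw [← hRH] at hx ⊢
    induction hx using Subgroup.closure_induction with
    | mem y hy =>
      obtain ⟨h, hh, j, hj, rfl⟩ := hy
      have h1 : h⁻¹ * q * h ∈ Q := by
        have := (Subgroup.mem_normalizer_iff.1 (hQ1 (H.inv_mem hh)) q).1 hq
        simpa using this
      exact Subgroup.subset_closure ⟨h, hh, _, (Subgroup.mem_normalizer_iff.1 (hQ2 h1) j).1 hj, by group⟩
    | one => simp
    | mul x y _ _ ihx ihy => have := R.mul_mem ihx ihy; simpa [mul_assoc] using this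
    | inv x _ ihx => have := R.inv_mem ihx; simpa [mul_assoc] using this
  have hQK : ∀ q ∈ Q, ∀ x ∈ K, q * x * q⁻¹ ∈ K := by
    intro q hq x hx
    rw [← hKgen] at hx
    induction hx using Subgroup.closure_induction with
    | mem y hy =>
      have hyH := hQH q hq y (Subgroup.mem_sup_left hy.1)
      have hodd : (orderOf (q * y * q⁻¹)).Coprime 2 := by
        rw [← MulAut.conj_apply, MulEquiv.orderOf_eq]
        exact Nat.coprime_two_right.2 hy.2
      have : (K.subgroupOf H).Normal := (Subgroup.normal_subgroupOf_iff_le_normalizer le_sup_left).2 hKn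
      -- `H / K` is a 2-group
      have hmem : (⟨q * y * q⁻¹, hyH⟩ : H) ∈ K.subgroupOf H ⊔ J.subgroupOf H := by
        rw [← Subgroup.subgroupOf_sup le_sup_left le_sup_right, Subgroup.subgroupOf_self]; trivial
      rw [Subgroup.mem_sup_of_normal_left] at hmem
      obtain ⟨k, hk, j, hj, e⟩ := hmem
      obtain ⟨m, hm⟩ := hJ ⟨(j : G), hj⟩
      have h2 : (⟨q * y * q⁻¹, hyH⟩ : H) ^ 2 ^ m ∈ K.subgroupOf H := by
        rw [← e, ← QuotientGroup.eq_one_iff, QuotientGroup.mk_pow, QuotientGroup.mk_mul,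
          (QuotientGroup.eq_one_iff k).2 hk, one_mul, ← QuotientGroup.mk_pow,
          show j ^ 2 ^ m = 1 from Subtype.ext (by simpa using congrArg Subtype.val hm), QuotientGroup.mk_one]
      have h3 := CfsgLib.LocalStructure.mem_of_coprime_of_pow_mem (p := 2) (k := m) (K := K.subgroupOf H)
        (b := (⟨q * y * q⁻¹, hyH⟩ : H)) (by rwa [Subgroup.orderOf_mk]) h2
      exact h3
    | one => simp
    | mul x y _ _ ihx ihy => have := K.mul_mem ihx ihy; simpa [mul_assoc] using this
    | inv x _ ihx => have := K.inv_mem ihx; simpa [mul_assoc] using this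
  intro q hq
  rw [Subgroup.mem_normalizer_iff]
  intro k
  refine ⟨hQK q hq k, fun h => ?_⟩
  have := hQK q⁻¹ (Q.inv_mem hq) _ h
  simpa [mul_assoc] using this

end Cfsg.Agent.S2941
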