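import Cfsg.Statements.S2946
import Cfsg.Agent.JComp.Center
-- import your own Cfsg.Agent.* helpers here

set_option autoImplicit false
open Cfsg

namespace Cfsg.Agent.S2946

/-- Let G be a finite group of characteristic 2 type in which every 2-local subgroup is solvable and the centralizer of Ω₁(Z(S)) lies in N_G(S) for every Sylow 2-subgroup S, and let T be a nontrivial 2-subgroup (below, J is the Thompson subgroup generated by the elementary abelian 2-subgroups of largest order), K a J(T)-component and Z₀ = Ω₁(Z(J(T))). Then Z₀ meets W_K = [Ω₁(Z(O₂(K))), K] in a subgroup of order 2, and Z₀ is the product of Z₀ ∩ Z(⟨K, J(T)⟩) and Z₀ ∩ W_K. -/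
theorem result {G : Type*} [Group G] [Finite G] (hL : Cfsg.IsCharacteristicTwoType G) (hN : ∀ N : Subgroup G, Cfsg.IsTwoLocal N → Group.IsSolvable ↥N)
    (hZ : ∀ S : Sylow 2 G, Subgroup.centralizer (Cfsg.omegaCenterOf (S : Subgroup G) : Set G) ≤ Subgroup.normalizer ((S : Subgroup G) : Set G)) (T : Subgroup G) (hT : IsPGroup 2 ↥T) (hT1 : T ≠ ⊥) (K : Subgroup G) (hK : Cfsg.IsJComponent T K)
    (Z₀ : Subgroup G) (hZ₀ : Z₀ = Cfsg.omegaCenterOf (Cfsg.thompsonSubgroupOf 2 T)) :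
    Nat.card ↥(Z₀ ⊓ Cfsg.wOf K) = 2 ∧
      (Z₀ ⊓ ((K ⊔ Cfsg.thompsonSubgroupOf 2 T) ⊓ Subgroup.centralizer ((K ⊔ Cfsg.thompsonSubgroupOf 2 T) : Set G))) ⊔ (Z₀ ⊓ Cfsg.wOf K) = Z₀ := by
  subst hZ₀
  obtain ⟨S, k, d⟩ := CfsgLib.JComp.exists_compData hT hK
  set W := Cfsg.wOf K with hW
  set J := Cfsg.thompsonSubgroupOf 2 T with hJ
  have hmem : ∀ v ∈ W ⊓ Subgroup.centralizer (J : Set G), v ∈ Cfsg.omegaCenterOf J := fun v hv =>
    CfsgLib.PLocal.mem_omegaOne ⟨d.wOf_le_J hv.1, hv.2⟩ (d.wOf_elem.2 v hv.1)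
  have heq : Cfsg.omegaCenterOf J ⊓ W = W ⊓ Subgroup.centralizer (J : Set G) :=
    le_antisymm (fun v hv => ⟨hv.2, CfsgLib.JComp.omegaCenterOf_le_centralizer _ hv.1⟩)
      (fun v hv => ⟨hmem v hv, hv.1⟩)
  refine ⟨by rw [heq]; exact d.card_fixed, le_antisymm (sup_le inf_le_left inf_le_left) ?_⟩
  intro u hu
  obtain ⟨v, hv, huv⟩ := d.exists_decomp hu
  have hvv : v * v = 1 := by simpa [pow_two] using d.wOf_elem.2 v hv.1
  have e : u = u * v * v := by rw [mul_assoc, hvv, mul_one]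
  rw [e]
  refine Subgroup.mul_mem_sup ⟨Subgroup.mul_mem _ hu (hmem v hv), ?_,
    Subgroup.centralizer_le (Set.union_subset (SetLike.coe_subset_coe.mpr le_sup_left)
      (SetLike.coe_subset_coe.mpr le_sup_right)) huv⟩ ⟨hmem v hv, hv.1⟩
  exact Subgroup.mul_mem _ (Subgroup.mem_sup_right (CfsgLib.JComp.omegaCenterOf_le J hu))
    (Subgroup.mem_sup_right (d.wOf_le_J hv.1))

end Cfsg.Agent.S2946
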