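import Cfsg.Statements.S2951
import Cfsg.Agent.JComp.TopCase

set_option autoImplicit false
open Cfsg

namespace Cfsg.Agent.S2951

/-- Let G be a finite group of characteristic 2 type in which every 2-local subgroup is solvable and the centralizer of Ω₁(Z(S)) lies in N_G(S) for every Sylow 2-subgroup S; suppose O₂(G) = 1, fix a Sylow 2-subgroup S and a 2-local subgroup M containing N_G(J(S)) (J the Thompson subgroup generated by the elementary abelian 2-subgroups of largest order), and put Z = Ω₁(Z(S)). Let T ≤ S be maximal (for the order of a largest elementary abelian subgroup, then the order of J(T), then the order of T) among the nontrivial 2-subgroups of M lying in a 2-local subgroup not inside M, K a J(T)-component not contained in M with J(T) the Thompson subgroup of every Sylow 2-subgroup of N_G(W_K) containing J(T), and O₂(⟨K, T⟩) ≠ 1, L a maximal 2-local subgroup containing ⟨K, J(T)⟩ (there is only one), and Z₀ = Ω₁(Z(J(T))). Then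 Z₀ ∩ W_K ≠ 1, and one of: Z = Z₀ has order 2; Z = Z₀ has order 4 and T = S; Ω₁(Z(T)) = Z₀ has order 4 and C_L(Z₀) has index 2 in N_G(Z₀). -/
theorem result {G : Type*} [Group G] [Finite G] (hL : Cfsg.IsCharacteristicTwoType G) (hN : ∀ N : Subgroup G, Cfsg.IsTwoLocal N → Group.IsSolvable ↥N)
    (hZ : ∀ S : Sylow 2 G, Subgroup.centralizer (Cfsg.omegaCenterOf (S : Subgroup G) : Set G) ≤ Subgroup.normalizer ((S : Subgroup G) : Set G)) (hO : Cfsg.pCore 2 G = ⊥) (S : Sylow 2 G) (M : Subgroup G) (hM : Cfsg.IsTwoLocal M)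
    (hMJ : Subgroup.normalizer (Cfsg.thompsonSubgroupOf 2 (S : Subgroup G) : Set G) ≤ M) (T : Subgroup G) (hT : T ∈ Cfsg.maxStraddlingTwoSubgroups M)
    (hTS : T ≤ (S : Subgroup G)) (K : Subgroup G) (hK : K ∈ Cfsg.jComponentsOutside M T)
    (L : Subgroup G) (hLmax : Cfsg.IsMaximalTwoLocal L) (hKL : K ⊔ Cfsg.thompsonSubgroupOf 2 T ≤ L)
    (Z Z₀ : Subgroup G) (hZdef : Z = Cfsg.omegaCenterOf (S : Subgroup G)) (hZ₀ : Z₀ = Cfsg.omegaCenterOf (Cfsg.thompsonSubgroupOf 2 T)) :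
    Z₀ ⊓ Cfsg.wOf K ≠ ⊥ ∧
      ((Z = Z₀ ∧ Nat.card ↥Z₀ = 2) ∨ (Z = Z₀ ∧ Nat.card ↥Z₀ = 4 ∧ T = (S : Subgroup G)) ∨
        (Cfsg.omegaCenterOf T = Z₀ ∧ Nat.card ↥Z₀ = 4 ∧
          (L ⊓ Subgroup.centralizer (Z₀ : Set G)).relIndex (Subgroup.normalizer (Z₀ : Set G)) = 2)) := by
  subst hZdef hZ₀
  have d : CfsgLib.JComp.Straddle S M T := ⟨hL, hN, hZ, hMJ, hT⟩
  obtain ⟨L₁, m⟩ := d.exists_main ⟨hK.1.1, hK.2.1⟩ hK.2.2
  obtain rfl : L₁ = L := hLmax.2 L₁ m.above.max.1 (m.above.top L hLmax.1 hKL)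
  obtain ⟨K', L', p⟩ := d.exists_pair hO m
  obtain ⟨hTK, hD, hZ4, hΩ⟩ := p.facts
  have hT2 := m.ctx.isPGroup
  have hle : Cfsg.omegaCenterOf (S : Subgroup G) ≤ CfsgLib.JComp.jZ T :=
    hΩ ▸ m.omega_S_le hTS
  obtain ⟨w, hw, hw1⟩ := m.exists_w
  refine ⟨fun e => hw1 (Subgroup.mem_bot.mp (e ▸ hw)), ?_⟩
  have hcard := CfsgLib.JComp.card_jZ hT2 m.comp
  have hDpos := Nat.card_pos (α := ↥(CfsgLib.JComp.cen T K))
  obtain ⟨z, hz, hz1⟩ : ∃ z ∈ Cfsg.omegaCenterOf (S : Subgroup G), z ≠ 1 := by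
    by_contra hno
    push Not at hno
    refine CfsgLib.JComp.omegaCenterOf_ne_bot S.isPGroup' (fun e => d.max.1.2.1 ?_)
      ((Subgroup.eq_bot_iff_forall _).mpr hno)
    exact le_bot_iff.mp (e ▸ hTS)
  rcases (show Nat.card ↥(CfsgLib.JComp.jZ T) = 2 ∨ Nat.card ↥(CfsgLib.JComp.jZ T) = 4 by omega) with
    h2 | h4
  · refine Or.inl ⟨le_antisymm hle fun x hx => ?_, h2⟩
    rcases CfsgLib.JComp.eq_one_or_eq_of_card_two h2 (hle hz) hz1 hx with rfl | rfl
    · exact one_mem _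
    · exact hz
  by_cases hne : T = (S : Subgroup G)
  · exact Or.inr (Or.inl ⟨by rw [← hne]; exact hΩ, h4, hne⟩)
  refine Or.inr (Or.inr ⟨hΩ, h4, ?_⟩)
  obtain ⟨τ, hτS, hτT, hτL, -⟩ := m.exists_pair_of_lt hTS hne
  obtain ⟨x, hxD, hx1⟩ : ∃ x ∈ CfsgLib.JComp.cen T K, x ≠ 1 := by
    by_contra hno
    push Not at hno
    rw [(Subgroup.eq_bot_iff_forall _).mpr hno, Subgroup.card_bot] at hcard
    omega
  have hxx : x * x = 1 := by
    simpa [pow_two] using (CfsgLib.JComp.isElementaryAbelian_omegaCenterOf _).2 x hxD.1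
  have hCx : Subgroup.centralizer ({x} : Set G) ≤ L₁ := m.above.centralizer_le hx1 hxx hxD.2
  have hτZ : τ ∈ Subgroup.normalizer (CfsgLib.JComp.jZ T : Set G) :=
    CfsgLib.JComp.normalizer_le_normalizer_omegaCenterOf _
      (CfsgLib.PLocal.normalizer_le_normalizer_thompsonSubgroupOf 2 T hτT)
  set y := τ * x * τ⁻¹ with hy
  have hyZ : y ∈ CfsgLib.JComp.jZ T := (Subgroup.mem_normalizer_iff.mp hτZ x).mp hxD.1
  have hy1 : y ≠ 1 := fun e => hx1 (conj_eq_one_iff.mp e)
  have hyx : y ≠ x := fun e => hτL (hCx (Subgroup.mem_centralizer_singleton_iff.mpr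
    (mul_inv_eq_iff_eq_mul.mp e)))
  have hyx1 : y * x ≠ 1 := fun e => hyx (mul_right_cancel (e.trans hxx.symm))
  have hall : ∀ {u : G}, u ∈ CfsgLib.JComp.jZ T → u = 1 ∨ u = x ∨ u = y ∨ u = y * x := fun {u} hu =>
    CfsgLib.JComp.eq_of_card_four h4 hxD.1 hyZ hx1 hy1 hyx hyx1 hu
  have hτz : ∀ {u : G}, u ∈ Cfsg.omegaCenterOf (S : Subgroup G) → τ * u * τ⁻¹ = u := fun {u} hu => by
    rw [Subgroup.mem_centralizer_iff.mp (CfsgLib.JComp.omegaCenterOf_le_centralizer _ hu) τ hτS,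
      mul_inv_cancel_right]
  have hZS : ∀ {u : G}, u ∈ Cfsg.omegaCenterOf (S : Subgroup G) → u = 1 ∨ u = y * x := fun {u} hu => by
    have h := hτz hu
    rcases hall (hle hu) with rfl | rfl | rfl | rfl
    · exact Or.inl rfl
    · exact absurd h hyx
    · rw [hy] at h
      exact absurd (mul_left_cancel (mul_right_cancel h)) hyx
    · exact Or.inr rfl
  have hfixz : ∀ {g : G}, g ∈ Subgroup.normalizer (CfsgLib.JComp.jZ T : Set G) →
      g * (y * x) * g⁻¹ = y * x := by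
    have hno : ∀ {g : G}, g * (y * x) * g⁻¹ ≠ x := by
      intro g e
      refine CfsgLib.JComp.not_le_centralizer hT2 m.comp hZ (g • S) fun a ha => ?_
      rw [CfsgLib.JComp.exists_sylow_eq_map, ← CfsgLib.JComp.map_omegaCenterOf
        (f := (MulAut.conj g).toMonoidHom) (MulAut.conj g).injective]
      refine Subgroup.mem_centralizer_iff.mpr ?_
      rintro _ ⟨u, hu, rfl⟩
      rcases hZS hu with rfl | rfl
      · simp
      · show g * (y * x) * g⁻¹ * a = a * (g * (y * x) * g⁻¹)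
        rw [e]
        exact (Subgroup.mem_centralizer_iff.mp hxD.2 a ha).symm
    intro g hg
    rcases hall ((Subgroup.mem_normalizer_iff.mp hg _).mp (mul_mem hyZ hxD.1)) with e | e | e | e
    · exact absurd (conj_eq_one_iff.mp e) hyx1
    · exact absurd e hno
    · refine absurd (show τ⁻¹ * g * (y * x) * (τ⁻¹ * g)⁻¹ = x from ?_) hno
      calc τ⁻¹ * g * (y * x) * (τ⁻¹ * g)⁻¹ = τ⁻¹ * (g * (y * x) * g⁻¹) * τ := by group
        _ = x := by rw [e, hy]; group
    · exact e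
  have hcases : ∀ {g : G}, g ∈ Subgroup.normalizer (CfsgLib.JComp.jZ T : Set G) →
      g * x * g⁻¹ = x ∨ g * x * g⁻¹ = y := by
    intro g hg
    rcases hall ((Subgroup.mem_normalizer_iff.mp hg _).mp hxD.1) with e | e | e | e
    · exact absurd (conj_eq_one_iff.mp e) hx1
    · exact Or.inl e
    · exact Or.inr e
    · exact absurd (mul_eq_right.mp (mul_left_cancel (mul_right_cancel
        (e.trans (hfixz hg).symm))).symm) hy1
  have hmem : ∀ {g : G}, g ∈ Subgroup.normalizer (CfsgLib.JComp.jZ T : Set G) →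
      (g ∈ L₁ ⊓ Subgroup.centralizer (CfsgLib.JComp.jZ T : Set G) ↔ g * x * g⁻¹ = x) := by
    intro g hg
    constructor
    · intro h
      rw [← Subgroup.mem_centralizer_iff.mp h.2 x hxD.1, mul_inv_cancel_right]
    · intro h
      have hgx : g * x = x * g := mul_inv_eq_iff_eq_mul.mp h
      refine ⟨hCx (Subgroup.mem_centralizer_singleton_iff.mpr hgx),
        Subgroup.mem_centralizer_iff.mpr fun u hu => ?_⟩
      have hgz : g * (y * x) = y * x * g := mul_inv_eq_iff_eq_mul.mp (hfixz hg)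
      have hgy : g * y = y * g := by
        have h' := (show Commute g (y * x) from hgz).mul_right (show Commute g x from hgx).inv_right
        rw [mul_inv_cancel_right] at h'
        exact h'
      rcases hall hu with rfl | rfl | rfl | rfl
      · simp
      · exact hgx.symm
      · exact hgy.symm
      · exact hgz.symm
  have hτy : τ * y * τ⁻¹ = x := by
    rcases hall ((Subgroup.mem_normalizer_iff.mp hτZ y).mp hyZ) with e | e | e | e
    · exact absurd (conj_eq_one_iff.mp e) hy1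
    · exact e
    · rw [hy] at e
      exact absurd (mul_left_cancel (mul_right_cancel e)) hyx
    · exact absurd (mul_eq_left.mp (mul_left_cancel (mul_right_cancel
        (e.trans (hfixz hτZ).symm))).symm) hx1
  show ((L₁ ⊓ Subgroup.centralizer (CfsgLib.JComp.jZ T : Set G)).subgroupOf
    (Subgroup.normalizer (CfsgLib.JComp.jZ T : Set G))).index = 2
  rw [Subgroup.index_eq_two_iff']
  refine ⟨⟨τ, hτZ⟩, fun b => ?_⟩
  rw [_root_.xor_comm]
  rw [Subgroup.mem_subgroupOf, Subgroup.mem_subgroupOf, Subgroup.coe_mul, hmem b.2,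
    hmem (mul_mem hτZ b.2)]
  have e0 : τ * (b : G) * x * (τ * (b : G))⁻¹ = τ * ((b : G) * x * (b : G)⁻¹) * τ⁻¹ := by group
  rcases hcases b.2 with e | e
  · exact Or.inl ⟨e, fun h => hyx (by rw [e0, e] at h; exact h)⟩
  · exact Or.inr ⟨by rw [e0, e, hτy], fun h => hyx (e.symm.trans h)⟩

end Cfsg.Agent.S2951
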