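import Cfsg.Statements.S2953
import Cfsg.Agent.JComp.TopCase

set_option autoImplicit false
open Cfsg

namespace Cfsg.Agent.S2953

/-- Let G be a finite group of characteristic 2 type in which every 2-local subgroup is solvable and the centralizer of Ω₁(Z(S)) lies in N_G(S) for every Sylow 2-subgroup S; suppose O₂(G) = 1, fix a Sylow 2-subgroup S and a 2-local subgroup M containing N_G(J(S)) (J the Thompson subgroup generated by the elementary abelian 2-subgroups of largest order). Let T be maximal (for the order of a largest elementary abelian subgroup, then the order of J(T), then the order of T) among the nontrivial 2-subgroups of M lying in a 2-local subgroup not inside M. Then there are two distinct J(T)-components K₁, K₂ such that, with Pᵢ = ⟨Kᵢ, T⟩: C_G(O₂(Pᵢ)) ≤ O₂(Pᵢ), T is a Sylow 2-subgroup of Pᵢ, O₂(Pᵢ) has index 6 in Pᵢ with Pᵢ/O₂(Pᵢ) non-abelian, [Ω₁(Z(T)), Pᵢ] ≠ 1, O₂(⟨P₁,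 P₂⟩) = 1, and each Pᵢ lies in exactly one maximal 2-local subgroup Lᵢ of G, in which T is a Sylow 2-subgroup. -/
theorem result {G : Type*} [Group G] [Finite G] (hL : Cfsg.IsCharacteristicTwoType G) (hN : ∀ N : Subgroup G, Cfsg.IsTwoLocal N → Group.IsSolvable ↥N)
    (hZ : ∀ S : Sylow 2 G, Subgroup.centralizer (Cfsg.omegaCenterOf (S : Subgroup G) : Set G) ≤ Subgroup.normalizer ((S : Subgroup G) : Set G)) (hO : Cfsg.pCore 2 G = ⊥) (S : Sylow 2 G) (M : Subgroup G) (hM : Cfsg.IsTwoLocal M)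
    (hMJ : Subgroup.normalizer (Cfsg.thompsonSubgroupOf 2 (S : Subgroup G) : Set G) ≤ M) (T : Subgroup G) (hT : T ∈ Cfsg.maxStraddlingTwoSubgroups M) :
    ∃ K₁ K₂ : Subgroup G, K₁ ≠ K₂ ∧ Cfsg.IsJComponent T K₁ ∧ Cfsg.IsJComponent T K₂ ∧
      Cfsg.pCoreOf 2 ((K₁ ⊔ T) ⊔ (K₂ ⊔ T)) = ⊥ ∧
      ∀ P ∈ [K₁ ⊔ T, K₂ ⊔ T],
        Subgroup.centralizer (Cfsg.pCoreOf 2 P : Set G) ≤ Cfsg.pCoreOf 2 P ∧ Cfsg.IsSylowTwoIn T P ∧
        (Cfsg.pCoreOf 2 P).relIndex P = 6 ∧ ¬ ⁅P, P⁆ ≤ Cfsg.pCoreOf 2 P ∧ ⁅Cfsg.omegaCenterOf T, P⁆ ≠ ⊥ ∧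
        ∃ L : Subgroup G, Cfsg.IsMaximalTwoLocal L ∧ P ≤ L ∧ Cfsg.IsSylowTwoIn T L ∧
          ∀ L' : Subgroup G, Cfsg.IsMaximalTwoLocal L' → P ≤ L' → L' = L := by
  have d : CfsgLib.JComp.Straddle S M T := ⟨hL, hN, hZ, hMJ, hT⟩
  obtain ⟨K, hK⟩ := d.jComponentsOutside_nonempty
  obtain ⟨L, m⟩ := d.exists_main ⟨hK.1.1, hK.2.1⟩ hK.2.2
  obtain ⟨K', L', p⟩ := d.exists_pair hO m
  refine ⟨K, K', fun e => p.not_le (e ▸ p.one.K_le), p.one.comp, p.two.comp, p.core_eq_bot, ?_⟩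
  have key : ∀ {A B LA LB : Subgroup G}, CfsgLib.JComp.Pair T A B LA LB →
      Subgroup.centralizer (Cfsg.pCoreOf 2 (A ⊔ T) : Set G) ≤ Cfsg.pCoreOf 2 (A ⊔ T) ∧
      Cfsg.IsSylowTwoIn T (A ⊔ T) ∧ (Cfsg.pCoreOf 2 (A ⊔ T)).relIndex (A ⊔ T) = 6 ∧
      ¬ ⁅A ⊔ T, A ⊔ T⁆ ≤ Cfsg.pCoreOf 2 (A ⊔ T) ∧ ⁅Cfsg.omegaCenterOf T, A ⊔ T⁆ ≠ ⊥ ∧
      ∃ L : Subgroup G, Cfsg.IsMaximalTwoLocal L ∧ A ⊔ T ≤ L ∧ Cfsg.IsSylowTwoIn T L ∧
        ∀ L' : Subgroup G, Cfsg.IsMaximalTwoLocal L' → A ⊔ T ≤ L' → L' = L := by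
    intro A B LA LB p
    have hTK := p.T_le_normalizer
    rw [p.one.pCoreOf_sup hTK]
    refine ⟨p.one.centralizer_cw_le, p.one.isSylowTwoIn_sup hTK, ?_, ?_, ?_,
      LA, p.one.above.max, sup_le p.one.K_le p.one.ctx.le, p.one.ctx.mem.1, fun L' hL' hle => ?_⟩
    · have h := CfsgLib.PLocal.card_mul_relIndex
        ((inf_le_left.trans le_sup_right) : CfsgLib.JComp.cw T A ≤ A ⊔ T)
      rw [p.one.card_sup hTK, mul_comm 6] at h
      exact Nat.eq_of_mul_eq_mul_left Nat.card_pos h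
    · intro h
      apply p.one.not_le_T
      rw [← p.one.comp.2.1]
      exact ((Subgroup.commutator_mono le_sup_left
        ((CfsgLib.PLocal.thompsonSubgroupOf_le 2 T).trans le_sup_right)).trans h).trans inf_le_left
    · intro h
      rw [Subgroup.commutator_eq_bot_iff_le_centralizer] at h
      obtain ⟨k, hk, -, hfpf, -⟩ := p.one.exists_k
      obtain ⟨w, hw, hw1⟩ := p.one.exists_w
      refine hw1 (hfpf w hw.2 ?_)
      rw [Subgroup.mem_centralizer_iff.mp (h (p.facts.2.2.2.ge hw.1)) k (Subgroup.mem_sup_left hk),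
        mul_inv_cancel_right]
    · exact (hL'.2 LA p.one.above.max.1 (p.one.above.top L' hL'.1
        ((sup_le_sup_left (CfsgLib.PLocal.thompsonSubgroupOf_le 2 T) A).trans hle))).symm
  intro P hP
  rcases List.mem_cons.mp hP with rfl | hP
  · exact key p
  · rw [List.mem_singleton] at hP
    subst hP
    exact key p.symm

end Cfsg.Agent.S2953
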