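import Cfsg.Statements.S2955
import Cfsg.Agent.SylowControl.Basic

namespace Cfsg.Agent.S2955
open CfsgLib.SylowControl

theorem result {G : Type*} [Group G] [Finite G] (p : ℕ) [Fact p.Prime] (hdiv : p ∣ Nat.card G)
    (𝓕 : Set (Subgroup G)) (h𝓕 : Cfsg.IsNormalSet 𝓕) (hc : Cfsg.ControlsSylowIntersections p 𝓕)
    (hconn : Cfsg.IsSylowChainConnected p G) (S : Sylow p G) :
    (⨆ X ∈ Cfsg.sylowMembers p 𝓕 (S : Subgroup G), X) ⊔
      Subgroup.normalizer ((S : Subgroup G) : Set G) = ⊤ := by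
  set H := (⨆ X ∈ Cfsg.sylowMembers p 𝓕 (S : Subgroup G), X) ⊔
      Subgroup.normalizer ((S : Subgroup G) : Set G) with hH
  have step : ∀ D : Subgroup G, ∀ U V : Sylow p G, Linked p 𝓕 D U V →
      (∃ w ∈ H, sylowConjRight w S = U) → ∃ w ∈ H, sylowConjRight w S = V := by
    intro D U V hl hU
    induction hl with
    | refl => exact hU
    | @tail b d _ h2 ih =>
      obtain ⟨w, hw, hb⟩ := ih
      obtain ⟨X, x, h1, _, hx, hd, _⟩ := h2
      have hm := conjRightSub_mem_sylowMembers h𝓕 h1 w⁻¹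
      rw [← hb, coe_sylowConjRight, conjRightSub_mul, mul_inv_cancel, conjRightSub_one] at hm
      have h3 : w * x * w⁻¹ ∈ H := by
        refine Subgroup.mem_sup_left (Subgroup.mem_iSup_of_mem _ (Subgroup.mem_iSup_of_mem hm ?_))
        rw [mem_conjRightSub]; convert hx using 1; group
      have hxH : x ∈ H := by simpa [mul_assoc] using H.mul_mem (H.mul_mem (H.inv_mem hw) h3) hw
      refine ⟨w * x⁻¹, H.mul_mem hw (H.inv_mem hxH), Sylow.ext ?_⟩
      rw [coe_sylowConjRight, ← conjRightSub_mul, ← coe_sylowConjRight, hb, ← hd, conjRightSub_mul,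
        mul_inv_cancel, conjRightSub_one]
  rw [eq_top_iff]
  intro g _
  obtain ⟨n, c, h0, hlast, -, hc2⟩ := hconn S (sylowConjRight g S)
  have hall : ∀ i : Fin (n + 1), ∃ w ∈ H, sylowConjRight w S = c i := by
    intro i
    induction i using Fin.induction with
    | zero => exact ⟨1, H.one_mem, Sylow.ext (by rw [coe_sylowConjRight, conjRightSub_one, h0])⟩
    | succ i ih => exact step _ _ _ (controls_iff_linked.1 hc _ _ (hc2 i).1 (hc2 i).2) ih
  obtain ⟨w, hw, hw'⟩ := hall (Fin.last n)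
  rw [hlast] at hw'
  have hN : g * w⁻¹ ∈ H := by
    refine Subgroup.mem_sup_right (mem_normalizer_iff_conjRightSub.2 ?_)
    have := congrArg (fun P : Sylow p G => Cfsg.subgroupConjRight w⁻¹ (P : Subgroup G)) hw'
    simp only [coe_sylowConjRight, conjRightSub_mul, mul_inv_cancel, conjRightSub_one] at this
    exact this.symm
  simpa using H.mul_mem hN hw

end Cfsg.Agent.S2955
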