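import Cfsg.Statements.S2956
import Cfsg.Agent.SylowControl.Functor
import Mathlib.GroupTheory.Nilpotent

namespace Cfsg.Agent.S2956
open CfsgLib.SylowControl

theorem result {G : Type*} [Group G] [Finite G] (p : ℕ) [Fact p.Prime] (hdiv : p ∣ Nat.card G)
    (f : Subgroup G → Set (Subgroup G)) (hf : Cfsg.IsNormalizerFunctor p f)
    (hf1 : ∀ P : Subgroup G, IsPGroup p ↥P → P ≠ ⊥ → ∀ F ∈ f P, F ≠ ⊥)
    (𝓕 𝓕' : Set (Subgroup G)) (h𝓕 : 𝓕 = Cfsg.functorFamily p f ⊤)
    (h𝓕' : 𝓕' = {M | Cfsg.IsMaximalPLocal p M ∧ ¬ Cfsg.IsFunctorRegular p f M}) :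
    Cfsg.ControlsSylowIntersections p (𝓕 ∪ 𝓕') := by
  set 𝓖 := 𝓕 ∪ 𝓕' with h𝓖
  have hsub : Cfsg.functorFamily p f (⊤ : Subgroup G) ⊆ 𝓖 := by rw [← h𝓕]; exact Set.subset_union_left
  -- maximal p-local overgroups exist
  have hmaxex : ∀ N : Subgroup G, Cfsg.IsPLocal p N → ∃ M, Cfsg.IsMaximalPLocal p M ∧ N ≤ M := by
    intro N hN
    obtain ⟨M, hM⟩ := Set.Finite.exists_maximal
      (Set.toFinite {M : Subgroup G | Cfsg.IsPLocal p M ∧ N ≤ M}) ⟨N, hN, le_rfl⟩
    exact ⟨M, ⟨hM.prop.1, fun K hK hMK => le_antisymm (hM.2 ⟨hK, hM.prop.2.trans hMK⟩ hMK) hMK⟩, hM.prop.2⟩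
  -- `D < S ∩ N(D)`
  have hgrow : ∀ (S : Subgroup G) (D : Subgroup G), IsPGroup p S → D < S →
      D < S ⊓ Subgroup.normalizer (D : Set G) := by
    intro S D hS hDS
    have := hS.isNilpotent
    have hlt : D.subgroupOf S < ⊤ := lt_top_iff_ne_top.2 fun h =>
      not_le_of_gt hDS (Subgroup.subgroupOf_eq_top.1 h)
    obtain ⟨y, hy, hyD⟩ := Set.exists_of_ssubset (Group.normalizerCondition_of_isNilpotent _ hlt)
    refine lt_of_le_of_ne (le_inf hDS.le Subgroup.le_normalizer) fun he => hyD ?_
    rw [SetLike.mem_coe, Subgroup.mem_subgroupOf, he]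
    refine ⟨y.2, Subgroup.mem_normalizer_iff.2 fun z => ?_⟩
    constructor
    · intro hz
      exact (Subgroup.mem_normalizer_iff.1 hy ⟨z, hDS.le hz⟩).1 hz
    · intro hz
      have hzS : z ∈ S := by
        have := S.mul_mem (S.mul_mem (S.inv_mem y.2) (hDS.le hz)) y.2
        simpa [mul_assoc] using this
      exact (Subgroup.mem_normalizer_iff.1 hy ⟨z, hzS⟩).2 hz
  suffices main : ∀ k, ∀ D : Subgroup G, D ≠ ⊥ → Nat.card G - Nat.card D = k →
      ∀ S T : Sylow p G, D ≤ (S : Subgroup G) → D ≤ (T : Subgroup G) → Linked p 𝓖 D S T by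
    rw [controls_iff_linked]
    intro S T _ hD
    exact main _ _ hD rfl S T inf_le_left inf_le_right
  intro k
  induction k using Nat.strong_induction_on with
  | _ k ih =>
  intro D hD hk S T hDS hDT
  have hDp : IsPGroup p D := S.2.to_le hDS
  -- the inductive hypothesis
  have IH : ∀ S T : Sylow p G, ∀ E : Subgroup G, D < E → E ≤ (S : Subgroup G) → E ≤ (T : Subgroup G) →
      Linked p 𝓖 D S T := by
    intro S T E hDE hES hET
    refine (ih _ ?_ E (ne_bot_of_gt hDE) rfl S T hES hET).mono hDE.le
    have h1 : Nat.card D < Nat.card E := by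
      by_contra h
      exact hDE.ne (Subgroup.eq_of_le_of_card_ge hDE.le (not_lt.1 h))
    have h2 := Subgroup.card_le_card_group E
    omega
  rcases eq_or_lt_of_le hDS with h | hDSlt
  · have : (S : Subgroup G) = T :=
      Subgroup.eq_of_le_of_card_ge (h ▸ hDT) (by rw [S.card_eq_multiplicity, T.card_eq_multiplicity])
    rw [Sylow.ext this]; exact .refl
  have hDTlt : D < (T : Subgroup G) := lt_of_le_of_ne hDT fun h => by
    have : (T : Subgroup G) = S :=
      Subgroup.eq_of_le_of_card_ge (h ▸ hDS) (by rw [S.card_eq_multiplicity, T.card_eq_multiplicity])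
    exact hDSlt.ne (h.trans this)
  -- the secondary induction, over maximal p-local subgroups
  have Q : ∀ l, ∀ M : Subgroup G, Cfsg.IsMaximalPLocal p M → ∀ A₁ A₂ : Sylow p M,
      Nat.card G - Nat.card (A₁ : Subgroup M) = l →
      D < (A₁ : Subgroup M).map M.subtype → D < (A₂ : Subgroup M).map M.subtype →
      ∀ R₁ R₂ : Sylow p G, (A₁ : Subgroup M).map M.subtype ≤ (R₁ : Subgroup G) →
        (A₂ : Subgroup M).map M.subtype ≤ (R₂ : Subgroup G) → Linked p 𝓖 D R₁ R₂ := by
    intro l
    induction l using Nat.strong_induction_on with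
    | _ l ihl =>
    intro M hM A₁ A₂ hl hD1 hD2 R₁ R₂ hR1 hR2
    by_cases hr : Cfsg.IsFunctorRegular p f M
    swap
    · -- singular
      have hMmem : M ∈ 𝓖 := Set.mem_union_right _ (h𝓕' ▸ ⟨hM, hr⟩)
      obtain ⟨m, hm⟩ := exists_sylowConjRight_eq A₁ A₂
      obtain ⟨R, hR⟩ := exists_sylow_inf_eq A₁
      let R' := sylowConjRight (m : G)⁻¹ R
      have hA2 : (R' : Subgroup G) ⊓ M = (A₂ : Subgroup M).map M.subtype := by
        have h2 : (A₂ : Subgroup M).map M.subtype =
            Cfsg.subgroupConjRight (m : G)⁻¹ ((A₁ : Subgroup M).map M.subtype) := by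
          rw [← hm, coe_sylowConjRight, Cfsg.subgroupConjRight, Cfsg.subgroupConjRight, Subgroup.map_map,
            Subgroup.map_map]
          congr 1
          ext z
          simp [mul_assoc]
        rw [h2, ← hR, conjRightSub_inf, coe_sylowConjRight, conjRightSub_of_mem (M.inv_mem m.2)]
      have hmem : ∀ (R : Sylow p G) (A : Sylow p M), (R : Subgroup G) ⊓ M = (A : Subgroup M).map M.subtype →
          M ∈ Cfsg.sylowMembers p 𝓖 (R : Subgroup G) := fun R A h => ⟨hMmem, A, h.symm⟩
      have hlink : Link p 𝓖 D R R' := by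
        refine ⟨M, m, hmem R A₁ hR, hmem R' A₂ hA2, m.2, ?_, ?_⟩
        · rw [coe_sylowConjRight, conjRightSub_mul, inv_mul_cancel, conjRightSub_one]
        · rw [hA2]; exact hD2.le
      exact ((IH R₁ R _ hD1 hR1 (hR ▸ inf_le_left)).tail hlink).trans
        (IH R' R₂ _ hD2 (hA2 ▸ inf_le_left) hR2)
    -- regular
    have hchain := links_of_regular hf hr A₁ A₂ hD hD1.le hD2.le
    have hlt : ∀ A : Sylow p M, D ≤ (A : Subgroup M).map M.subtype → D < (A : Subgroup M).map M.subtype := by
      intro A hA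
      refine lt_of_le_of_ne hA fun h => ?_
      refine hD1.ne (Subgroup.eq_of_le_of_card_ge hD1.le ?_)
      rw [h, Subgroup.card_map_of_injective M.subtype_injective,
        Subgroup.card_map_of_injective M.subtype_injective, A₁.card_eq_multiplicity,
        A.card_eq_multiplicity]
    have key : ∀ B : Sylow p M, Relation.ReflTransGen (fun A B : Sylow p M => RegStep f M A B ∧
        D ≤ (B : Subgroup M).map M.subtype) A₁ B →
        D < (B : Subgroup M).map M.subtype ∧
        ∀ R : Sylow p G, (B : Subgroup M).map M.subtype ≤ (R : Subgroup G) → Linked p 𝓖 D R₁ R := by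
      intro B hB
      induction hB with
      | refl => exact ⟨hD1, fun R hR => IH R₁ R _ hD1 hR1 hR⟩
      | @tail a b _ h2 ih' =>
        obtain ⟨⟨P', F, x, hF, -, hx, hA, hB, hc⟩, hDb⟩ := h2
        have hDb' := hlt b hDb
        refine ⟨hDb', fun R hR => ?_⟩
        obtain ⟨R', hP'⟩ := (P'.2.map M.subtype).exists_le_sylow
        set P₀ := (P' : Subgroup M).map M.subtype with hP₀
        have hcardP : ∀ A : Sylow p M, Nat.card ↥((A : Subgroup M).map M.subtype) = Nat.card P₀ := by
          intro A
          rw [hP₀, Subgroup.card_map_of_injective M.subtype_injective,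
            Subgroup.card_map_of_injective M.subtype_injective, A.card_eq_multiplicity,
            P'.card_eq_multiplicity]
        rcases eq_or_lt_of_le hP' with hfull | hsmall
        · -- full Sylow subgroups
          obtain ⟨Ra, hRa⟩ := (a.2.map M.subtype).exists_le_sylow
          have hRa' : (a : Subgroup M).map M.subtype = Ra := Subgroup.eq_of_le_of_card_ge hRa
            (by rw [hcardP, hfull, R'.card_eq_multiplicity, Ra.card_eq_multiplicity])
          have hRb' : (b : Subgroup M).map M.subtype = R := Subgroup.eq_of_le_of_card_ge hR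
            (by rw [hcardP, hfull, R'.card_eq_multiplicity, R.card_eq_multiplicity])
          exact (ih'.2 Ra hRa).tail (link_of_functor hsub (hfull ▸ hF) hx (hRa' ▸ hA) (hRb' ▸ hB)
            (by rw [← hRa', ← hRb', hc]) (hRb' ▸ hDb))
        · -- pass to a larger maximal p-local subgroup
          have hP0 : P₀ ≠ ⊥ := by
            intro h0
            have := hcardP A₁
            rw [h0, Subgroup.card_bot] at this
            rw [(Subgroup.card_eq_one).1 this] at hD1
            exact not_lt_bot hD1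
          obtain ⟨hFP, hNP⟩ := (hf P₀ (P'.2.map _)).1 F hF
          obtain ⟨M', hM', hNM'⟩ := hmaxex _ ⟨F, (P'.2.map _).to_le hFP, hf1 P₀ (P'.2.map _) hP0 F hF, rfl⟩
          have hbig := hgrow (R' : Subgroup G) P₀ R'.2 hsmall
          have hbigM : (R' : Subgroup G) ⊓ Subgroup.normalizer (P₀ : Set G) ≤ M' :=
            inf_le_right.trans (hNP.trans hNM')
          obtain ⟨Z, hZ⟩ := ((R'.2.to_le (inf_le_left (b := Subgroup.normalizer (P₀ : Set G)))
            ).comap_of_injective M'.subtype M'.subtype_injective).exists_le_sylow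
          have hbM : (b : Subgroup M).map M.subtype ≤ M' := hB.trans hNM'
          obtain ⟨B', hB'⟩ := ((b.2.map M.subtype).comap_of_injective M'.subtype
            M'.subtype_injective).exists_le_sylow
          have hbB' : (b : Subgroup M).map M.subtype ≤ (B' : Subgroup M').map M'.subtype := fun y hy =>
            ⟨⟨y, hbM hy⟩, hB' hy, rfl⟩
          let A' : Sylow p M' := sylowConjRight ⟨x, hNM' hx⟩ B'
          have hA'eq : (A' : Subgroup M').map M'.subtype =
              Cfsg.subgroupConjRight x ((B' : Subgroup M').map M'.subtype) := by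
            rw [coe_sylowConjRight, Cfsg.subgroupConjRight, Cfsg.subgroupConjRight, Subgroup.map_map,
              Subgroup.map_map]
            congr 1
          have haA' : (a : Subgroup M).map M.subtype ≤ (A' : Subgroup M').map M'.subtype := by
            rw [hA'eq, ← hc]; exact conjRightSub_mono x hbB'
          have hlarge : Nat.card (A₁ : Subgroup M) < Nat.card (A' : Subgroup M') := by
            rw [← Subgroup.card_map_of_injective M.subtype_injective (K := (A₁ : Subgroup M)), hcardP A₁]
            have h1 : Nat.card P₀ < Nat.card ↥((R' : Subgroup G) ⊓ Subgroup.normalizer (P₀ : Set G)) := by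
              by_contra h
              exact hbig.ne (Subgroup.eq_of_le_of_card_ge hbig.le (not_lt.1 h))
            refine lt_of_lt_of_le h1 ?_
            rw [← Subgroup.map_subgroupOf_eq_of_le hbigM, Subgroup.card_map_of_injective M'.subtype_injective,
              A'.card_eq_multiplicity, ← Z.card_eq_multiplicity]
            exact Subgroup.card_le_of_le hZ
          have hDa : D < (a : Subgroup M).map M.subtype := ih'.1
          obtain ⟨RA, hRA⟩ := (A'.2.map M'.subtype).exists_le_sylow
          refine (ih'.2 RA (haA'.trans hRA)).trans ?_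
          obtain ⟨RB, hRB⟩ := (B'.2.map M'.subtype).exists_le_sylow
          refine Relation.ReflTransGen.trans (ihl _ ?_ M' hM' A' B' rfl (hDa.trans_le haA')
            (hDb'.trans_le hbB') RA RB hRA hRB) (IH RB R _ hDb' (hbB'.trans hRB) hR)
          have := Subgroup.card_le_card_group ((A' : Subgroup M').map M'.subtype)
          rw [Subgroup.card_map_of_injective M'.subtype_injective] at this
          omega
    exact (key A₂ hchain).2 R₂ hR2
  obtain ⟨M, hM, hNM⟩ := hmaxex _ ⟨D, hDp, hD, rfl⟩
  have ext : ∀ U : Sylow p G, D < (U : Subgroup G) →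
      ∃ (A : Sylow p M) (R : Sylow p G) (E : Subgroup G), D < E ∧ E ≤ (U : Subgroup G) ∧
        E ≤ (A : Subgroup M).map M.subtype ∧ (A : Subgroup M).map M.subtype ≤ (R : Subgroup G) := by
    intro U hU
    have hgt := hgrow (U : Subgroup G) D U.2 hU
    obtain ⟨A, hA⟩ := ((U.2.to_le (inf_le_left (b := Subgroup.normalizer (D : Set G)))
      ).comap_of_injective M.subtype M.subtype_injective).exists_le_sylow
    obtain ⟨R, hR⟩ := (A.2.map M.subtype).exists_le_sylow
    exact ⟨A, R, _, hgt, inf_le_left, fun y hy => ⟨⟨y, hNM hy.2⟩, hA hy, rfl⟩, hR⟩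
  obtain ⟨A, R, E, hDE, hES, hEA, hAR⟩ := ext S hDSlt
  obtain ⟨A', R', E', hDE', hET, hEA', hAR'⟩ := ext T hDTlt
  exact ((IH S R E hDE hES (hEA.trans hAR)).trans
    (Q _ M hM A A' rfl (hDE.trans_le hEA) (hDE'.trans_le hEA') R R' hAR hAR')).trans
    (IH R' T E' hDE' (hEA'.trans hAR') hET)

end Cfsg.Agent.S2956
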