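import Cfsg.Statements.S2957
import Cfsg.Agent.SylowControl.Functor

namespace Cfsg.Agent.S2957
open CfsgLib.SylowControl

theorem result {G : Type*} [Group G] [Finite G] (p : ℕ) [Fact p.Prime] (hdiv : p ∣ Nat.card G)
    (f : Subgroup G → Set (Subgroup G)) (hf : Cfsg.IsNormalizerFunctor p f) (S : Sylow p G)
    (G₁ G₂ : Subgroup G) (h₁ : (S : Subgroup G) ≤ G₁) (h₂ : (S : Subgroup G) ≤ G₂)
    (hprod : ∀ g : G, ∃ g₁ ∈ G₁, ∃ g₂ ∈ G₂, g = g₁ * g₂)
    (hr₁ : Cfsg.IsFunctorRegular p f G₁) (hr₂ : Cfsg.IsFunctorRegular p f G₂) :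
    Cfsg.IsFunctorRegular p f ⊤ := by
  set 𝓕 := Cfsg.functorFamily p f (⊤ : Subgroup G) with h𝓕def
  have hn : Cfsg.IsNormalSet 𝓕 := isNormalSet_functorFamily_top hf
  -- the same statement in `G`
  have inG : ∀ U V : Sylow p G, ∀ D : Subgroup G, D ≠ ⊥ → D ≤ (U : Subgroup G) → D ≤ (V : Subgroup G) →
      Linked p 𝓕 D U V := by
    have base : ∀ g : G, ∀ D : Subgroup G, D ≠ ⊥ → D ≤ (S : Subgroup G) →
        D ≤ (sylowConjRight g S : Subgroup G) → Linked p 𝓕 D S (sylowConjRight g S) := by
      intro g D hD hS hT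
      obtain ⟨W, hW, hW'⟩ := exists_sylow_le_inf_conj S G₁ G₂ h₁ h₂ hprod g
      have hDW : D ≤ (W : Subgroup G) := (le_inf hS hT).trans hW
      have l1 := linked_of_regular_of_le hf hr₁ S W h₁ (hW'.trans inf_le_left) hD hS hDW
      have hback : ∀ X : Subgroup G, Cfsg.subgroupConjRight g⁻¹ (Cfsg.subgroupConjRight g X) = X := by
        intro X; rw [conjRightSub_mul, mul_inv_cancel, conjRightSub_one]
      have l2 := linked_of_regular_of_le hf hr₂ (sylowConjRight g⁻¹ W) S
        (D := Cfsg.subgroupConjRight g⁻¹ D)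
        (by rw [coe_sylowConjRight]; exact (conjRightSub_mono _ (hW'.trans inf_le_right)).trans (hback G₂).le)
        h₂ (by rw [Cfsg.subgroupConjRight, Ne, Subgroup.map_eq_bot_iff_of_injective _ (MulAut.conj g⁻¹⁻¹).injective]; exact hD)
        (conjRightSub_mono _ hDW) ((conjRightSub_mono _ hT).trans (hback _).le)
      have l3 := l2.conj hn g
      rw [conjRightSub_mul, inv_mul_cancel, conjRightSub_one] at l3
      have he : sylowConjRight g (sylowConjRight g⁻¹ W) = W :=
        Sylow.ext (by rw [coe_sylowConjRight, coe_sylowConjRight, conjRightSub_mul, inv_mul_cancel, conjRightSub_one])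
      rw [he] at l3
      exact l1.trans l3
    intro U V D hD hU hV
    obtain ⟨h, hh⟩ := exists_sylowConjRight_eq S U
    obtain ⟨g, hg⟩ := exists_sylowConjRight_eq (sylowConjRight h V) S
    have l := base g (Cfsg.subgroupConjRight h D)
      (by rw [Cfsg.subgroupConjRight, Ne, Subgroup.map_eq_bot_iff_of_injective _ (MulAut.conj h⁻¹).injective]; exact hD)
      (hh ▸ conjRightSub_mono _ hU) (hg ▸ conjRightSub_mono _ hV)
    have l' := l.conj hn h⁻¹
    rw [conjRightSub_mul, mul_inv_cancel, conjRightSub_one, hg, ← hh] at l'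
    have he : ∀ W : Sylow p G, sylowConjRight h⁻¹ (sylowConjRight h W) = W := fun W =>
      Sylow.ext (by rw [coe_sylowConjRight, coe_sylowConjRight, conjRightSub_mul, mul_inv_cancel, conjRightSub_one])
    rwa [he, he] at l'
  -- read it inside the subgroup `⊤`
  rw [Cfsg.IsFunctorRegular, controls_iff_linked]
  intro A B hne hD
  have hsurj : Function.Surjective (⊤ : Subgroup G).subtype := fun a => ⟨⟨a, trivial⟩, rfl⟩
  have hinj := (⊤ : Subgroup G).subtype_injective
  let π : Sylow p (⊤ : Subgroup G) → Sylow p G := fun C => C.mapSurjective hsurj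
  have hπ : ∀ C, (π C : Subgroup G) = (C : Subgroup (⊤ : Subgroup G)).map (⊤ : Subgroup G).subtype :=
    fun C => Sylow.coe_mapSurjective _ _
  have l := inG (π A) (π B) _
    (fun h => hD ((Subgroup.map_eq_bot_iff_of_injective _ hinj).1 h))
    ((hπ A).symm ▸ Subgroup.map_mono inf_le_left) ((hπ B).symm ▸ Subgroup.map_mono inf_le_right)
  have main : ∀ V : Sylow p G, Linked p 𝓕
      (((A : Subgroup (⊤ : Subgroup G)) ⊓ B).map (⊤ : Subgroup G).subtype) (π A) V →
      ∀ C : Sylow p (⊤ : Subgroup G), π C = V → Linked p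
        ((fun X : Subgroup G => X.subgroupOf ⊤) '' Cfsg.functorFamily p f (⊤ : Subgroup G))
        ((A : Subgroup (⊤ : Subgroup G)) ⊓ B) A C := by
    intro V hV
    induction hV with
    | refl =>
      intro C hC
      have : C = A := Sylow.ext (Subgroup.map_injective hinj (by rw [← hπ, ← hπ, hC]))
      rw [this]; exact .refl
    | @tail b c _ h2 ih =>
      intro C hC
      obtain ⟨X, x, h1, h3, hx, hc, hDX⟩ := h2
      have hpre : ∀ W : Sylow p G, π (W.subtype le_top) = W := fun W =>
        Sylow.ext (by rw [hπ, Sylow.coe_subtype, Subgroup.map_subgroupOf_eq_of_le le_top])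
      have hmem : ∀ W : Sylow p (⊤ : Subgroup G), X ∈ Cfsg.sylowMembers p 𝓕 (π W : Subgroup G) →
          X.subgroupOf ⊤ ∈ Cfsg.sylowMembers p
            ((fun X : Subgroup G => X.subgroupOf ⊤) '' Cfsg.functorFamily p f (⊤ : Subgroup G))
            (W : Subgroup (⊤ : Subgroup G)) := by
        intro W hW
        rw [mem_sylowMembers_iff] at hW ⊢
        have hinf : ((W : Subgroup (⊤ : Subgroup G)) ⊓ X.subgroupOf ⊤).map (⊤ : Subgroup G).subtype =
            (π W : Subgroup G) ⊓ X := by
          rw [hπ, Subgroup.map_inf _ _ _ hinj, Subgroup.map_subgroupOf_eq_of_le le_top]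
        refine ⟨⟨X, hW.1, rfl⟩, ?_, ?_⟩
        · exact W.2.to_le inf_le_left
        · have hr : (((W : Subgroup (⊤ : Subgroup G)) ⊓ X.subgroupOf ⊤).map (⊤ : Subgroup G).subtype).relIndex
              ((X.subgroupOf ⊤).map (⊤ : Subgroup G).subtype) =
              ((W : Subgroup (⊤ : Subgroup G)) ⊓ X.subgroupOf ⊤).relIndex (X.subgroupOf ⊤) :=
            Subgroup.relIndex_map_map_of_injective _ _ hinj
          rw [hinf, Subgroup.map_subgroupOf_eq_of_le le_top] at hr
          rw [← hr]; exact hW.2.2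
      refine (ih (b.subtype le_top) (hpre b)).tail
        ⟨X.subgroupOf ⊤, ⟨x, trivial⟩, hmem _ ((hpre b).symm ▸ h1), hmem C (hC.symm ▸ h3), hx, ?_, ?_⟩
      · refine Subgroup.map_injective hinj ?_
        rw [← hπ, hpre, ← hc, ← hC, hπ]
        ext y
        simp only [mem_conjRightSub, Subgroup.mem_map]
        constructor
        · rintro ⟨w, hw, rfl⟩
          exact ⟨_, hw, by simp⟩
        · rintro ⟨w, hw, e⟩
          refine ⟨⟨y, trivial⟩, ?_, rfl⟩
          convert hw using 1
          apply Subtype.ext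
          simp only [Subgroup.coe_subtype] at e
          simp [e]
      · intro d hd
        obtain ⟨hd1, hd2⟩ := hDX ⟨d, hd, rfl⟩
        rw [← hC, hπ] at hd1
        obtain ⟨w, hw, e⟩ := hd1
        exact ⟨(Subtype.ext e : w = d) ▸ hw, hd2⟩
  exact main _ l B rfl

end Cfsg.Agent.S2957
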