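import Cfsg.Statements.S2958
import Mathlib.Algebra.Group.Subgroup.Pointwise

namespace Cfsg.Agent.S2958

theorem result {G : Type*} [Group G] (X A B : Subgroup G)
    (hgen : (⨆ g : G, X.map (MulAut.conj g).toMonoidHom) = ⊤)
    (hcover : ∀ g : G, X.map (MulAut.conj g).toMonoidHom ≤ A ∨ X.map (MulAut.conj g).toMonoidHom ≤ B) :
    A = ⊤ ∨ B = ⊤ := by
  by_cases hA : A = ⊤
  · exact Or.inl hA
  right
  set c : G → Subgroup G := fun g => X.map (MulAut.conj g).toMonoidHom with hc
  have hmem : ∀ g y, y ∈ c g ↔ g⁻¹ * y * g ∈ X := by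
    intro g y
    simp only [hc, Subgroup.mem_map, MulEquiv.coe_toMonoidHom, MulAut.conj_apply]
    constructor
    · rintro ⟨x, hx, rfl⟩; simpa [mul_assoc] using hx
    · intro h; exact ⟨_, h, by group⟩
  set W : Subgroup G := ⨆ g : {g : G // ¬ c g ≤ B}, c g.1 with hW
  have hWA : W ≤ A := iSup_le fun g => (hcover g.1).resolve_right g.2
  -- conjugation by an element of `B` preserves the members outside `B`
  have key : ∀ b ∈ B, ∀ g : G, ¬ c g ≤ B → ¬ c (b * g) ≤ B := by
    intro b hb g hg h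
    apply hg
    intro y hy
    have h1 : b * y * b⁻¹ ∈ c (b * g) := by
      rw [hmem] at hy ⊢; convert hy using 1; group
    have := B.mul_mem (B.mul_mem (B.inv_mem hb) (h h1)) hb
    simpa [mul_assoc] using this
  have hnormB : ∀ b ∈ B, ∀ w ∈ W, b * w * b⁻¹ ∈ W := by
    intro b hb w hw
    induction hw using Subgroup.iSup_induction' with
    | hp g y hy =>
      refine (le_iSup (fun g : {g : G // ¬ c g ≤ B} => c g.1) ⟨b * g.1, key b hb g.1 g.2⟩) ?_
      rw [hmem] at hy ⊢; convert hy using 1; group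
    | h1 => simp
    | hmul x y _ _ hx hy => have := W.mul_mem hx hy; simpa [mul_assoc] using this
  have hnorm : (⨆ g : G, c g) ≤ Subgroup.normalizer (W : Set G) := by
    refine iSup_le fun g => ?_
    by_cases hg : c g ≤ B
    · intro b hb
      rw [Subgroup.mem_normalizer_iff]
      intro w
      refine ⟨fun hw => hnormB b (hg hb) w hw, fun hw => ?_⟩
      have := hnormB b⁻¹ (B.inv_mem (hg hb)) _ hw
      simpa [mul_assoc] using this
    · exact le_trans (le_iSup (fun g : {g : G // ¬ c g ≤ B} => c g.1) ⟨g, hg⟩) Subgroup.le_normalizer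
  by_contra hB
  obtain ⟨g, hg⟩ : ∃ g, ¬ c g ≤ B := by
    by_contra h
    push Not at h
    exact hB (top_le_iff.1 (hgen ▸ iSup_le h))
  have hN : ∀ y : G, ∀ w ∈ W, y * w * y⁻¹ ∈ W := fun y w hw => by
    have hy : y ∈ Subgroup.normalizer (W : Set G) := hnorm (by rw [hgen]; trivial)
    exact (Subgroup.mem_normalizer_iff.1 hy w).1 hw
  apply hA
  apply top_le_iff.1
  rw [← hgen]
  refine iSup_le fun k => le_trans ?_ hWA
  intro y hy
  have h1 : (g * k⁻¹) * y * (g * k⁻¹)⁻¹ ∈ W := by
    refine (le_iSup (fun g : {g : G // ¬ c g ≤ B} => c g.1) ⟨g, hg⟩) ?_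
    rw [hmem]; have := (hmem k y).1 hy; convert this using 1; group
  have := hN (g * k⁻¹)⁻¹ _ h1
  simpa [mul_assoc] using this

end Cfsg.Agent.S2958
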