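import Cfsg.Statements.S2959
import Cfsg.Agent.CharP49.Basic

namespace Cfsg.Agent.S2959

theorem result {G : Type*} [Group G] [Finite G] {p : ℕ} [Fact p.Prime]
    (hG : Subgroup.centralizer (Cfsg.pCore p G : Set G) ≤ Cfsg.pCore p G) (L : Subgroup G)
    (hL : Cfsg.pCore p G ≤ Subgroup.normalizer (L : Set G)) :
    Subgroup.centralizer (Cfsg.pCore p ↥L : Set ↥L) ≤ Cfsg.pCore p ↥L :=
  CfsgLib.CharP49.charP_of_le_normalizer hG L hL

end Cfsg.Agent.S2959
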