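import Cfsg.Statements.S2963
import Mathlib.GroupTheory.SpecificGroups.Alternating.MaximalSubgroups
import Mathlib.GroupTheory.PGroup

namespace Cfsg.Agent.S2963

open scoped Pointwise

theorem result (n : ℕ) (hn : Odd n) (h : Cfsg.IsPMinimal 2 (Equiv.Perm (Fin n))) :
    ∃ m : ℕ, n = 2 ^ m + 1 := by
  obtain ⟨S⟩ : Nonempty (Sylow 2 (Equiv.Perm (Fin n))) := inferInstance
  obtain ⟨hSn, M, hM, huniq⟩ := h S
  have hn1 : 1 < n := by
    by_contra hh
    have : n = 1 := by obtain ⟨k, hk⟩ := hn; omega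
    subst this
    exact hSn (Subgroup.eq_top_of_card_eq (S : Subgroup (Equiv.Perm (Fin 1)))
      (by rw [Nat.card_unique, Nat.card_unique]) ▸ inferInstance)
  have hnt : Nontrivial (Fin n) := Fin.nontrivial_iff_two_le.2 hn1
  -- a fixed point
  obtain ⟨a, ha⟩ := (S.2 : IsPGroup 2 (S : Subgroup (Equiv.Perm (Fin n)))).nonempty_fixed_point_of_prime_not_dvd_card
    (Fin n) (by rw [Nat.card_eq_fintype_card, Fintype.card_fin]; obtain ⟨k, hk⟩ := hn; omega)
  have hfix : ∀ s ∈ (S : Subgroup (Equiv.Perm (Fin n))), s a = a := fun s hs => ha ⟨s, hs⟩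
  have hstab : MulAction.stabilizer (Equiv.Perm (Fin n)) a = M :=
    huniq _ ⟨MulAction.IsPreprimitive.isCoatom_stabilizer_of_isPreprimitive (Equiv.Perm (Fin n)) a, fun s hs => hfix s hs⟩
  obtain ⟨o, ho⟩ := exists_ne a
  set O := MulAction.orbit (S : Subgroup (Equiv.Perm (Fin n))) o with hO
  by_cases hfull : O ∪ {a} = Set.univ
  · -- transitive off `a`
    have haO : a ∉ O := by
      rintro ⟨s, hs⟩
      refine ho ?_
      have h1 : (s : Equiv.Perm (Fin n)) o = (s : Equiv.Perm (Fin n)) a := by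
        rw [hfix s.1 s.2]; exact hs
      exact (s : Equiv.Perm (Fin n)).injective h1
    obtain ⟨m, hm⟩ := (S.2 : IsPGroup 2 (S : Subgroup (Equiv.Perm (Fin n)))).card_orbit o
    refine ⟨m, ?_⟩
    have h2 : (O ∪ {a}).ncard = O.ncard + 1 := by
      rw [Set.union_singleton, Set.ncard_insert_of_notMem haO]
    rw [hfull, Set.ncard_univ, Nat.card_eq_fintype_card, Fintype.card_fin, ← Nat.card_coe_set_eq] at h2
    rw [h2, hO, hm]
  · exfalso
    set B := O ∪ {a} with hB
    set L := MulAction.stabilizer (Equiv.Perm (Fin n)) B with hL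
    have hSL : (S : Subgroup (Equiv.Perm (Fin n))) ≤ L := by
      intro s hs
      rw [hL, MulAction.mem_stabilizer_iff, hB, Set.smul_set_union, Set.smul_set_singleton]
      congr 1
      · exact MulAction.smul_orbit (⟨s, hs⟩ : (S : Subgroup (Equiv.Perm (Fin n)))) o
      · rw [Equiv.Perm.smul_def, hfix s hs]
    have hne : L ≠ ⊤ := by
      intro htop
      obtain ⟨x, hx⟩ := (Set.ne_univ_iff_exists_notMem B).1 hfull
      have h1 : (Equiv.swap a x) ∈ L := by rw [htop]; trivial
      rw [hL, MulAction.mem_stabilizer_iff] at h1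
      apply hx
      rw [← h1]
      exact ⟨a, Or.inr rfl, Equiv.swap_apply_left a x⟩
    obtain ⟨M', hM', hLM'⟩ := (eq_top_or_exists_le_coatom L).resolve_left hne
    have hMM' : M' = M := huniq M' ⟨hM', hSL.trans hLM'⟩
    have hswap : (Equiv.swap a o) ∈ L := by
      rw [hL, MulAction.mem_stabilizer_iff]
      have hoB : o ∈ B := Or.inl (MulAction.mem_orbit_self o)
      have haB : a ∈ B := Or.inr rfl
      have key : ∀ y ∈ B, Equiv.swap a o y ∈ B := by
        intro y hy
        rcases eq_or_ne y a with rfl | hya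
        · rwa [Equiv.swap_apply_left]
        rcases eq_or_ne y o with rfl | hyo
        · rwa [Equiv.swap_apply_right]
        · rwa [Equiv.swap_apply_of_ne_of_ne hya hyo]
      ext y
      constructor
      · rintro ⟨z, hz, rfl⟩; exact key z hz
      · intro hy; exact ⟨_, key y hy, Equiv.swap_apply_self a o y⟩
    have h3 : (Equiv.swap a o) ∈ MulAction.stabilizer (Equiv.Perm (Fin n)) a := by
      rw [hstab, ← hMM']; exact hLM' hswap
    exact ho (by simpa [Equiv.swap_apply_left] using MulAction.mem_stabilizer_iff.1 h3)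

end Cfsg.Agent.S2963
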