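import Cfsg.Statements.S2968
import Cfsg.Agent.IsolatedP.Basic

namespace Cfsg.Agent.S2968
open CfsgLib.IsolatedP

theorem result {G : Type*} [Group G] [Finite G] {p : ℕ} [Fact p.Prime] (P : Sylow p G) (x : G)
    (hxP : x ∈ (P : Subgroup G)) (hx : ∃ k : ℕ, orderOf x = p ^ k) (hiso : Cfsg.IsIsolated x) :
    x ∈ (P : Subgroup G) ⊓ Subgroup.centralizer ((P : Subgroup G) : Set G) ∧
      Cfsg.IsStronglyClosed (Subgroup.zpowers x) (P : Subgroup G) ∧
      Cfsg.IsWeaklyClosed (Subgroup.zpowers x) (P : Subgroup G) := by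
  have hcen := commute_of_mem hiso P.2 hxP
  have hle : Subgroup.zpowers x ≤ (P : Subgroup G) := Subgroup.zpowers_le.2 hxP
  have hsc : ∀ y ∈ Subgroup.zpowers x, ∀ g : G, g * y * g⁻¹ ∈ (P : Subgroup G) →
      g * y * g⁻¹ = y := by
    intro y hy g hz
    obtain ⟨i, rfl⟩ := Subgroup.mem_zpowers_iff.1 hy
    set z := g * x ^ i * g⁻¹ with hzdef
    set C := Subgroup.centralizer ({z} : Set G) with hC
    have hxC : x ∈ C := Subgroup.mem_centralizer_singleton_iff.2 (hcen z hz).eq.symm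
    have hxC' : g * x * g⁻¹ ∈ C := by
      rw [hC, Subgroup.mem_centralizer_singleton_iff, hzdef, ← conj_zpow]
      exact (Commute.self_zpow _ i).eq
    have hp1 : IsPGroup p (Subgroup.zpowers (⟨x, hxC⟩ : C)) := by
      refine isPGroup_zpowers ?_; rwa [Subgroup.orderOf_mk]
    have hp2 : IsPGroup p (Subgroup.zpowers (⟨_, hxC'⟩ : C)) := by
      refine isPGroup_zpowers ?_
      obtain ⟨k, hk⟩ := hx
      exact ⟨k, by rw [Subgroup.orderOf_mk, ← MulAut.conj_apply, MulEquiv.orderOf_eq, hk]⟩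
    obtain ⟨A, hA⟩ := hp1.exists_le_sylow
    obtain ⟨B, hB⟩ := hp2.exists_le_sylow
    obtain ⟨c, hc⟩ := MulAction.exists_smul_eq C B A
    have hmem : c * ⟨_, hxC'⟩ * c⁻¹ ∈ (A : Subgroup C) := by
      rw [← hc, Sylow.coe_subgroup_smul]
      exact Subgroup.mem_map.2 ⟨⟨_, hxC'⟩, hB (Subgroup.mem_zpowers _), by rfl⟩
    have h3 := conj_eq_of_mem hiso (A.2.map C.subtype) ⟨⟨x, hxC⟩, hA (Subgroup.mem_zpowers _), rfl⟩
      ((c : G) * g) ⟨_, hmem, by simp [mul_assoc]⟩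
    have h4 : (c : G) * z * (c : G)⁻¹ = z := by
      rw [mul_inv_eq_iff_eq_mul]
      first
        | exact Subgroup.mem_centralizer_singleton_iff.1 c.2
        | exact (Subgroup.mem_centralizer_singleton_iff.1 c.2).symm
    calc z = (c : G) * z * (c : G)⁻¹ := h4.symm
      _ = ((c : G) * g * x * ((c : G) * g)⁻¹) ^ i := by rw [hzdef, conj_zpow]; group
      _ = x ^ i := by rw [h3]
  refine ⟨⟨hxP, Subgroup.mem_centralizer_iff.2 fun y hy => (hcen y hy).eq⟩,
    ⟨hle, fun y hy g hg => by rw [hsc y hy g hg]; exact hy⟩, hle, fun g hg => ?_⟩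
  ext y
  constructor
  · rintro ⟨w, hw, rfl⟩
    have := hg ⟨w, hw, rfl⟩
    simp only [MulEquiv.coe_toMonoidHom, MulAut.conj_apply] at this ⊢
    rwa [hsc w hw g this]
  · intro hy
    refine ⟨y, hy, ?_⟩
    simp only [MulEquiv.coe_toMonoidHom, MulAut.conj_apply]
    exact hsc y hy g (by simpa using hg ⟨y, hy, rfl⟩)

end Cfsg.Agent.S2968
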