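import Cfsg.Statements.S2969
import Cfsg.Agent.IsolatedP.Basic

namespace Cfsg.Agent.S2969
open CfsgLib.IsolatedP

theorem result {G : Type*} [Group G] [Finite G] {p : ℕ} [Fact p.Prime] (x : G)
    (hx : ∃ k : ℕ, orderOf x = p ^ k) (hiso : Cfsg.IsIsolated x) :
    (∀ R : Subgroup G, IsPGroup p ↥R → x ∈ R →
      Subgroup.normalizer (R : Set G) ≤ Subgroup.centralizer ({x} : Set G)) ∧
    (∀ H N : Subgroup G, N ≤ H → H ≤ Subgroup.normalizer (N : Set G) → x ∈ N →
      N ⊔ (H ⊓ Subgroup.centralizer ({x} : Set G)) = H) := by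
  refine ⟨fun R hR hxR n hn => ?_, fun H N hNH hHN hxN => le_antisymm (sup_le hNH inf_le_left) ?_⟩
  · have h := conj_eq_of_mem hiso hR hxR n ((Subgroup.mem_normalizer_iff.1 hn x).1 hxR)
    rw [Subgroup.mem_centralizer_singleton_iff]
    first | exact mul_inv_eq_iff_eq_mul.1 h | exact (mul_inv_eq_iff_eq_mul.1 h).symm
  · have : (N.subgroupOf H).Normal := (Subgroup.normal_subgroupOf_iff_le_normalizer hNH).2 hHN
    have htop := sup_centralizer_eq_top (isIsolated_subtype hiso H (hNH hxN))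
      (by rwa [Subgroup.orderOf_mk]) (N.subgroupOf H) (show (⟨x, hNH hxN⟩ : H) ∈ N.subgroupOf H from hxN)
    have h1 := congrArg (Subgroup.map H.subtype) htop
    rw [Subgroup.map_sup, ← MonoidHom.range_eq_map, Subgroup.range_subtype] at h1
    refine h1.symm.le.trans (sup_le_sup ?_ ?_)
    · rintro _ ⟨y, hy, rfl⟩; exact hy
    · rintro _ ⟨y, hy, rfl⟩
      refine ⟨y.2, Subgroup.mem_centralizer_singleton_iff.2 ?_⟩
      exact congrArg Subtype.val (Subgroup.mem_centralizer_singleton_iff.1 hy)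

end Cfsg.Agent.S2969
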