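import Cfsg.Statements.S2970
import Cfsg.Agent.IsolatedP.Basic

namespace Cfsg.Agent.S2970
open CfsgLib.IsolatedP

theorem result {G : Type*} [Group G] [Finite G] {p : ℕ} [Fact p.Prime] (x : G)
    (hx : ∃ k : ℕ, orderOf x = p ^ k) (hiso : Cfsg.IsIsolated x) :
    (∀ (N : Subgroup G) [N.Normal], Cfsg.IsIsolated (QuotientGroup.mk x : G ⧸ N)) ∧
    (x ≠ 1 → (∀ P : Sylow p G, IsCyclic ↥(P : Subgroup G)) → Cfsg.HasNormalPComplement p G) := by
  refine ⟨fun N _ => isIsolated_mk hiso hx N, fun hx1 hcyc => ?_⟩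
  obtain ⟨P, hP⟩ := (isPGroup_zpowers hx).exists_le_sylow
  have := hcyc P
  exact ⟨P, exists_complement hiso hx1 P (hP (Subgroup.mem_zpowers x))⟩

end Cfsg.Agent.S2970
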