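import Cfsg.Statements.S2971
import Cfsg.Agent.IsolatedP.Basic
import Cfsg.Agent.IsolatedP.RankOne

namespace Cfsg.Agent.S2971
open CfsgLib.IsolatedP

theorem result {G : Type*} [Group G] [Finite G] {p : ℕ} [Fact p.Prime] (hp : p ≠ 2)
    (hrk : Cfsg.PRankLE p 1 G) (x : G) (hx : orderOf x = p) (hiso : Cfsg.IsIsolated x) :
    Cfsg.InZStar p x := by
  have hx1 : x ≠ 1 := fun h => (Fact.out : p.Prime).ne_one (by rw [← hx, h, orderOf_one])
  have hx' : ∃ k : ℕ, orderOf x = p ^ k := ⟨1, by rw [hx, pow_one]⟩
  obtain ⟨P, hP⟩ := (isPGroup_zpowers hx').exists_le_sylow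
  have hxP : x ∈ (P : Subgroup G) := hP (Subgroup.mem_zpowers x)
  have hmem : ∀ y ∈ (P : Subgroup G), y ^ p = 1 → y ∈ Subgroup.zpowers x := by
    intro y hy hyp
    have hc : Commute y x := commute_of_mem hiso P.2 hxP y hy
    let A := Subgroup.closure ({x, y} : Set G)
    have hA : IsMulCommutative A := by
      refine Subgroup.isMulCommutative_closure fun a ha b hb => ?_
      simp only [Set.mem_insert_iff, Set.mem_singleton_iff] at ha hb
      rcases ha with rfl | rfl <;> rcases hb with rfl | rfl <;> first | rfl | exact hc.eq | exact hc.eq.symm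
    have hpow : ∀ a ∈ A, a ^ p = 1 := by
      intro a ha
      induction ha using Subgroup.closure_induction with
      | mem a ha =>
        simp only [Set.mem_insert_iff, Set.mem_singleton_iff] at ha
        rcases ha with rfl | rfl
        · rw [← hx]; exact pow_orderOf_eq_one _
        · exact hyp
      | one => simp
      | mul a b ha hb iha ihb =>
        have : Commute a b := congrArg Subtype.val (hA.is_comm.comm ⟨a, ha⟩ ⟨b, hb⟩)
        rw [this.mul_pow, iha, ihb, one_mul]
      | inv a _ iha => rw [inv_pow, iha, inv_one]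
    have hle : Subgroup.zpowers x ≤ A :=
      Subgroup.zpowers_le.2 (Subgroup.subset_closure (Set.mem_insert _ _))
    have := Subgroup.eq_of_le_of_card_ge hle
      (by rw [Nat.card_zpowers, hx]; simpa using hrk A hA hpow)
    rw [this]
    exact Subgroup.subset_closure (by simp)
  have hcyc : IsCyclic (P : Subgroup G) := by
    refine isCyclic_of_card_pow_eq_one_le_prime p hp _ (P : Subgroup G) rfl P.2 ?_
    refine le_trans (Nat.card_le_card_of_injective
      (fun y => (⟨(y.1 : G), hmem _ y.1.2 ?_⟩ : Subgroup.zpowers x)) ?_) (le_of_eq (by rw [Nat.card_zpowers, hx]))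
    · exact_mod_cast (congrArg Subtype.val y.2)
    · intro y z h
      simp only [Subtype.mk.injEq] at h
      exact Subtype.ext (Subtype.ext h)
  obtain ⟨N, hN, hc⟩ := exists_complement hiso hx1 P hxP
  have hle : N ≤ Cfsg.pPrimeCore p G := by
    refine le_sSup ⟨hN, ?_⟩
    refine Nat.Coprime.symm (((Fact.out : p.Prime).coprime_iff_not_dvd).2 ?_)
    rw [← hc.index_eq_card]
    exact P.not_dvd_index
  intro g
  apply hle
  rw [← QuotientGroup.eq_one_iff]
  have hcomm : ∀ a b : G ⧸ N, a * b = b * a := by
    have e := hc.symm.QuotientMulEquiv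
    intro a b
    apply e.injective
    simp only [map_mul]
    exact IsMulCommutative.is_comm.comm _ _
  simp only [QuotientGroup.mk_mul, QuotientGroup.mk_inv]
  rw [hcomm (g : G ⧸ N) x, mul_inv_cancel_right, mul_inv_cancel]

end Cfsg.Agent.S2971
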