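import Cfsg.Statements.S2972
import Cfsg.Agent.IsolatedP.Basic
import Cfsg.Agent.PLocal.Cores
import Cfsg.Agent.LocalStructure.Elements
import Mathlib.GroupTheory.SchurZassenhaus
import Mathlib.GroupTheory.Abelianization.Defs

namespace Cfsg.Agent.S2972

open CfsgLib.IsolatedP
open scoped commutatorElement

theorem result {G : Type*} [Group G] [Finite G] {p : ℕ} [Fact p.Prime] (x : G) (hx : orderOf x = p) (hiso : Cfsg.IsIsolated x) (hnz : ¬ Cfsg.InZStar p x) (hmin : ∀ (H : Subgroup G) (hxH : x ∈ H), H ≠ ⊤ → Cfsg.InZStar p (⟨x, hxH⟩ : ↥H)) (hquot : ∀ (N : Subgroup G) [N.Normal], N ≠ ⊥ → Cfsg.InZStar p (QuotientGroup.mk x : G ⧸ N)) : IsSimpleGroup ↥(commutator G) ∧ ¬ IsMulCommutative ↥(commutator G) ∧ commutator G ⊔ Subgroup.zpowers x = ⊤ := by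
  have hp : p.Prime := Fact.out
  have hx1 : x ≠ 1 := fun h => hp.ne_one (by rw [← hx, h, orderOf_one])
  have hx' : ∃ k : ℕ, orderOf x = p ^ k := ⟨1, by rw [hx, pow_one]⟩
  -- `x` is not central
  have hnc : ∃ g : G, ¬ Commute g x := by
    by_contra h
    push Not at h
    refine hnz fun g => ?_
    rw [(h g).eq, mul_inv_cancel_right, mul_inv_cancel]
    exact Subgroup.one_mem _
  -- `O_{p'}(G) = 1`
  have hcore : Cfsg.pPrimeCore p G = ⊥ := by
    by_contra h
    refine hnz fun g => ?_
    have h2 := hquot (Cfsg.pPrimeCore p G) h (g : G ⧸ Cfsg.pPrimeCore p G)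
    rw [CfsgLib.PLocal.pPrimeCore_quotient_pPrimeCore_eq_bot, Subgroup.mem_bot] at h2
    rw [← QuotientGroup.eq_one_iff]
    exact h2
  have hcop : ∀ N : Subgroup G, N.Normal → (Nat.card N).Coprime p → N = ⊥ := fun N hN h =>
    le_bot_iff.1 (hcore ▸ CfsgLib.PLocal.le_pPrimeCore h)
  -- a proper subgroup `H ∋ x` with trivial `p'`-core centralises `x`
  have hcent : ∀ H : Subgroup G, ∀ hxH : x ∈ H, H ≠ ⊤ → Cfsg.pPrimeCore p H = ⊥ →
      ∀ h ∈ H, Commute h x := by
    intro H hxH hne hc h hh
    have h3 := hmin H hxH hne ⟨h, hh⟩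
    rw [hc, Subgroup.mem_bot] at h3
    have h4 := congrArg Subtype.val h3
    simp only [Subgroup.coe_mul, Subgroup.coe_inv, OneMemClass.coe_one] at h4
    exact mul_inv_eq_iff_eq_mul.1 (mul_inv_eq_one.1 h4)
  -- a minimal normal subgroup which together with `x` generates `G`
  obtain ⟨N, hN, hN1, hNmin, hNx⟩ : ∃ N : Subgroup G, N.Normal ∧ N ≠ ⊥ ∧
      (∀ K : Subgroup G, K.Normal → K ≤ N → K ≠ ⊥ → K = N) ∧ N ⊔ Subgroup.zpowers x = ⊤ := by
    by_contra hno
    push Not at hno
    have hall : ∀ N : Subgroup G, N.Normal → N ≠ ⊥ →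
        (∀ K : Subgroup G, K.Normal → K ≤ N → K ≠ ⊥ → K = N) → x ∈ Subgroup.centralizer (N : Set G) := by
      intro N hN hN1 hNmin
      have hne := hno N hN hN1 hNmin
      set H := N ⊔ Subgroup.zpowers x with hH
      have hxH : x ∈ H := Subgroup.mem_sup_right (Subgroup.mem_zpowers x)
      have hcH : Cfsg.pPrimeCore p H = ⊥ := by
        set O := Cfsg.pPrimeCore p H with hO
        have hOc := CfsgLib.PLocal.coprime_card_pPrimeCore p H
        have hON : O ≤ N.subgroupOf H := by
          intro o ho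
          obtain ⟨n, hn, z, hz, e⟩ := Subgroup.mem_sup_of_normal_left.1 o.2
          obtain ⟨i, rfl⟩ := Subgroup.mem_zpowers_iff.1 hz
          refine CfsgLib.LocalStructure.mem_of_coprime_of_pow_mem (p := p) (k := 1) (K := N.subgroupOf H)
            (Nat.Coprime.coprime_dvd_left (Subgroup.orderOf_dvd_natCard _ ho) hOc) ?_
          show ((o : G)) ^ p ^ 1 ∈ N
          rw [← e, pow_one, ← QuotientGroup.eq_one_iff, QuotientGroup.mk_pow, QuotientGroup.mk_mul,
            (QuotientGroup.eq_one_iff n).2 hn, one_mul, ← QuotientGroup.mk_pow, ← zpow_natCast,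
            zpow_comm, zpow_natCast, ← hx, pow_orderOf_eq_one, one_zpow, QuotientGroup.mk_one]
        have hle : (O.map H.subtype).subgroupOf N ≤ Cfsg.pPrimeCore p N := by
          have : ((O.map H.subtype).subgroupOf N).Normal := by
            refine ⟨fun a ha n => ?_⟩
            obtain ⟨b, hb, e⟩ := ha
            refine ⟨⟨(n : G), Subgroup.mem_sup_left n.2⟩ * b * ⟨(n : G), Subgroup.mem_sup_left n.2⟩⁻¹,
              (inferInstance : O.Normal).conj_mem b hb _, ?_⟩
            simp only [Subgroup.coe_subtype] at e ⊢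
            simp [e]
          refine CfsgLib.PLocal.le_pPrimeCore ?_
          rw [Nat.card_congr (Subgroup.subgroupOfEquivOfLe _).toEquiv, Subgroup.card_map_of_injective
            H.subtype_injective]
          · exact hOc
          · rintro _ ⟨o, ho, rfl⟩; exact hON ho
        have hN0 : Cfsg.pPrimeCore p N = ⊥ := by
          have h5 := CfsgLib.PLocal.pPrimeCore_map_subtype_le (p := p) N
          rw [hcore, le_bot_iff, Subgroup.map_eq_bot_iff_of_injective _ N.subtype_injective] at h5
          exact h5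
        rw [hN0, le_bot_iff] at hle
        rw [eq_bot_iff]
        intro o ho
        have h6 : (⟨(o : G), hON ho⟩ : N) ∈ (O.map H.subtype).subgroupOf N := ⟨o, ho, rfl⟩
        rw [hle, Subgroup.mem_bot] at h6
        exact Subgroup.mem_bot.2 (Subtype.ext (congrArg Subtype.val h6 : (o : G) = 1))
      exact Subgroup.mem_centralizer_iff.2 fun n hn =>
        hcent H hxH hne hcH n (Subgroup.mem_sup_left hn)
    -- hence `G` centralises every minimal normal subgroup
    have hCtop : ∀ N : Subgroup G, N.Normal → N ≠ ⊥ →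
        (∀ K : Subgroup G, K.Normal → K ≤ N → K ≠ ⊥ → K = N) → Subgroup.centralizer (N : Set G) = ⊤ := by
      intro N hN hN1 hNmin
      by_contra hne
      set C := Subgroup.centralizer (N : Set G) with hC
      have hCn : C.Normal := inferInstance
      have hxC : x ∈ C := hall N hN hN1 hNmin
      have hcC : Cfsg.pPrimeCore p C = ⊥ := by
        have h5 := CfsgLib.PLocal.pPrimeCore_map_subtype_le (p := p) C
        rw [hcore, le_bot_iff, Subgroup.map_eq_bot_iff_of_injective _ C.subtype_injective] at h5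
        exact h5
      have hxc := hcent C hxC hne hcC
      obtain ⟨g, hg⟩ := hnc
      have h6 := hxc _ (hCn.conj_mem x hxC g)
      have h7 := hiso g h6.symm
      exact hg (mul_inv_eq_iff_eq_mul.1 h7)
    obtain ⟨g0, hg0⟩ := hnc
    have : Nontrivial G := ⟨⟨x, 1, hx1⟩⟩
    obtain ⟨N, hN⟩ := Set.Finite.exists_minimal
      (Set.toFinite {K : Subgroup G | K.Normal ∧ K ≠ ⊥}) ⟨⊤, inferInstance, top_ne_bot⟩
    obtain ⟨⟨hNn, hN1⟩, hNmin⟩ := hN
    have hmin' : ∀ K : Subgroup G, K.Normal → K ≤ N → K ≠ ⊥ → K = N := fun K hK hle hK1 =>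
      le_antisymm hle (hNmin ⟨hK, hK1⟩ hle)
    have hCN := hCtop N hNn hN1 hmin'
    have hcen : ∀ n ∈ N, ∀ g : G, Commute n g := fun n hn g =>
      (Subgroup.mem_centralizer_iff.1 (by rw [hCN]; trivial : g ∈ Subgroup.centralizer (N : Set G)) n hn)
    -- `N` is a `p`-group
    have hNp : IsPGroup p N := by
      have hcomm : ∀ a b : N, a * b = b * a := fun a b => Subtype.ext (hcen a a.2 b).eq
      refine CfsgLib.LocalStructure.isPGroup_of_coprime_eq_one fun b hb hc => ?_
      have hn : (Subgroup.zpowers b).Normal := by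
        refine ⟨fun y hy g => ?_⟩
        have hyN : y ∈ N := (Subgroup.zpowers_le.2 hb) hy
        rwa [(hcen y hyN g).symm.eq, mul_inv_cancel_right]
      have := hcop _ hn (by rwa [Nat.card_zpowers])
      exact Subgroup.zpowers_eq_bot.1 this
    -- pass to the quotient
    have hq := hquot N hN1
    set Mq := Cfsg.pPrimeCore p (G ⧸ N) with hMq
    set M := Mq.comap (QuotientGroup.mk' N) with hM
    have hNM : N ≤ M := by
      intro n hn
      rw [hM, Subgroup.mem_comap, QuotientGroup.mk'_apply, (QuotientGroup.eq_one_iff n).2 hn]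
      exact Subgroup.one_mem _
    have hMn : M.Normal := inferInstance
    have hidx : N.relIndex M = Nat.card Mq := by
      have hker : N = (⊥ : Subgroup (G ⧸ N)).comap (QuotientGroup.mk' N) := by
        rw [MonoidHom.comap_bot, QuotientGroup.ker_mk']
      conv_lhs => rw [hker]
      rw [Subgroup.relIndex_comap, hM,
        Subgroup.map_comap_eq_self_of_surjective (QuotientGroup.mk'_surjective N), Subgroup.relIndex_bot_left]
    have hMN : M ≤ N := by
      obtain ⟨K, hK⟩ := Subgroup.exists_right_complement'_of_coprime (N := N.subgroupOf M) (by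
        show (Nat.card (N.subgroupOf M)).Coprime (N.relIndex M)
        rw [hidx, Nat.card_congr (Subgroup.subgroupOfEquivOfLe hNM).toEquiv]
        obtain ⟨k, hk⟩ := hNp.exists_card_eq
        rw [hk]
        exact ((CfsgLib.PLocal.coprime_card_pPrimeCore p (G ⧸ N)).symm).pow_left k)
      have hKc : (Nat.card K).Coprime p := by
        rw [← hK.symm.index_eq_card, show (N.subgroupOf M).index = N.relIndex M from rfl, hidx]
        exact CfsgLib.PLocal.coprime_card_pPrimeCore p (G ⧸ N)
      have hKn : K.Normal := by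
        refine ⟨fun k hk m => ?_⟩
        have hm : m ∈ K ⊔ N.subgroupOf M := by rw [sup_comm, hK.sup_eq_top]; trivial
        rw [Subgroup.mem_sup_of_normal_right] at hm
        obtain ⟨a, ha, b, hb, rfl⟩ := hm
        have hbk : b * k * b⁻¹ = k := by
          apply Subtype.ext
          simp only [Subgroup.coe_mul, Subgroup.coe_inv]
          rw [(hcen (b : G) hb (k : G)).eq, mul_inv_cancel_right]
        rw [show a * b * k * (a * b)⁻¹ = a * (b * k * b⁻¹) * a⁻¹ by group, hbk]
        exact K.mul_mem (K.mul_mem ha hk) (K.inv_mem ha)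
      have hK0 : K = ⊥ := by
        have h8 := CfsgLib.PLocal.le_pPrimeCore (N := K) hKc
        have h9 := CfsgLib.PLocal.pPrimeCore_map_subtype_le (p := p) M
        rw [hcore, le_bot_iff, Subgroup.map_eq_bot_iff_of_injective _ M.subtype_injective] at h9
        rwa [h9, le_bot_iff] at h8
      have htop := hK.sup_eq_top
      rw [hK0, sup_bot_eq, Subgroup.subgroupOf_eq_top] at htop
      exact htop
    apply hg0
    have h10 : g0 * x * g0⁻¹ * x⁻¹ ∈ N := hMN (by
      rw [hM, Subgroup.mem_comap]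
      exact hq (g0 : G ⧸ N))
    have h11 := hcen _ h10 x
    have h12 : Commute (g0 * x * g0⁻¹) x := by
      have := h11.mul_left (Commute.refl x)
      rwa [show g0 * x * g0⁻¹ * x⁻¹ * x = g0 * x * g0⁻¹ by group] at this
    exact mul_inv_eq_iff_eq_mul.1 (hiso g0 h12.symm)
  have hsupN : ∀ y : G, ∃ n ∈ N, ∃ i : ℤ, y = n * x ^ i := by
    intro y
    obtain ⟨n, hn, z, hz, e⟩ := Subgroup.mem_sup_of_normal_left.1 (hNx ▸ Subgroup.mem_top y)
    obtain ⟨i, rfl⟩ := Subgroup.mem_zpowers_iff.1 hz
    exact ⟨n, hn, i, e.symm⟩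
  -- `N` is perfect
  have hperf : ⁅N, N⁆ = N := by
    by_contra hne
    have hbot : ⁅N, N⁆ = ⊥ := by
      by_contra hb
      exact hne (hNmin _ inferInstance (Subgroup.commutator_le_self N) hb)
    rw [Subgroup.commutator_eq_bot_iff_le_centralizer] at hbot
    -- `N` abelian: a `p`-group
    have hNp : IsPGroup p N := by
      have hpd : p ∣ Nat.card N := by
        by_contra h
        exact hN1 (hcop N hN ((Nat.Prime.coprime_iff_not_dvd hp).2 h).symm)
      obtain ⟨P⟩ : Nonempty (Sylow p N) := inferInstance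
      have hPn : (P : Subgroup N).Normal := by
        refine ⟨fun a ha b => ?_⟩
        have : b * a * b⁻¹ = a := by
          apply Subtype.ext
          simp only [Subgroup.coe_mul, Subgroup.coe_inv]
          rw [Subgroup.mem_centralizer_iff.1 (hbot a.2) b b.2, mul_inv_cancel_right]
        rwa [this]
      have hPc := Sylow.characteristic_of_normal P hPn
      have hmap : ((P : Subgroup N).map N.subtype).Normal := CfsgLib.PLocal.normal_map_subtype N _
      have h13 := hNmin _ hmap (Subgroup.map_subtype_le _)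
        (fun h => P.ne_bot_of_dvd_card hpd ((Subgroup.map_eq_bot_iff_of_injective _ N.subtype_injective).1 h))
      rw [← h13]
      exact P.2.map N.subtype
    have hG : IsPGroup p (⊤ : Subgroup G) := by
      rw [← hNx]
      exact hNp.to_sup_of_normal_left (isPGroup_zpowers hx')
    obtain ⟨g, hg⟩ := hnc
    exact hg (commute_of_mem hiso hG (Subgroup.mem_top x) g (Subgroup.mem_top g))
  have hNcomm : commutator G = N := by
    refine le_antisymm ?_ ?_
    · refine Subgroup.Normal.commutator_le_of_self_sup_commutative_eq_top (H := Subgroup.zpowers x) hNx ?_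
      exact inferInstance
    · rw [← hperf, commutator_def]
      exact Subgroup.commutator_mono le_top le_top
  have hnab : ¬ IsMulCommutative N := by
    intro h
    apply hN1
    rw [← hperf, Subgroup.commutator_eq_bot_iff_le_centralizer]
    intro a ha
    exact Subgroup.mem_centralizer_iff.2 fun b hb =>
      congrArg Subtype.val (h.is_comm.comm (⟨b, hb⟩ : N) ⟨a, ha⟩)
  rw [hNcomm]
  refine ⟨?_, hnab, hNx⟩
  have : Nontrivial N := N.nontrivial_iff_ne_bot.2 hN1
  refine ⟨fun L hLn => ?_⟩
  by_cases hL1 : L = ⊥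
  · exact Or.inl hL1
  refine Or.inr ?_
  -- minimal normal subgroup of `N` inside `L`
  obtain ⟨K, hK⟩ := Set.Finite.exists_minimal
    (Set.toFinite {K : Subgroup N | K.Normal ∧ K ≠ ⊥ ∧ K ≤ L}) ⟨L, hLn, hL1, le_rfl⟩
  obtain ⟨⟨hKn, hK1, hKL⟩, hKmin⟩ := hK
  have hKp : p ∣ Nat.card K := by
    by_contra h
    have h5 := CfsgLib.PLocal.pPrimeCore_map_subtype_le (p := p) N
    rw [hcore, le_bot_iff, Subgroup.map_eq_bot_iff_of_injective _ N.subtype_injective] at h5
    exact hK1 (le_bot_iff.1 (h5 ▸ CfsgLib.PLocal.le_pPrimeCore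
      ((Nat.Prime.coprime_iff_not_dvd hp).2 h).symm))
  obtain ⟨P, hP⟩ := (isPGroup_zpowers (p := p) hx').exists_le_sylow
  -- a nontrivial element of `K` centralised by `x`
  obtain ⟨a, ha, ha1, hax⟩ : ∃ a : N, a ∈ K ∧ a ≠ 1 ∧ Commute (a : G) x := by
    obtain ⟨k, hk⟩ := exists_prime_orderOf_dvd_card' p hKp
    have hko : orderOf ((k : N) : G) = p := by rw [Subgroup.orderOf_coe, Subgroup.orderOf_coe, hk]
    obtain ⟨Q, hQ⟩ := (isPGroup_zpowers (p := p) (x := ((k : N) : G)) ⟨1, by rw [hko, pow_one]⟩).exists_le_sylow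
    obtain ⟨g, hg⟩ := MulAction.exists_smul_eq G Q P
    have hgk : g * ((k : N) : G) * g⁻¹ ∈ (P : Subgroup G) := by
      rw [← hg, Sylow.coe_subgroup_smul]
      exact Subgroup.mem_map.2 ⟨_, hQ (Subgroup.mem_zpowers _), rfl⟩
    obtain ⟨n, hn, i, hni⟩ := hsupN g⁻¹
    refine ⟨⟨n, hn⟩⁻¹ * (k : N) * ⟨n, hn⟩, ?_, ?_, ?_⟩
    · have := hKn.conj_mem (k : N) k.2 (⟨n, hn⟩⁻¹ : N)
      simpa using this
    · intro h
      have h' : (k : N) = 1 := by
        calc (k : N) = ⟨n, hn⟩ * (⟨n, hn⟩⁻¹ * (k : N) * ⟨n, hn⟩) * ⟨n, hn⟩⁻¹ := by group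
          _ = 1 := by rw [h]; group
      rw [h', OneMemClass.coe_one, orderOf_one] at hko
      exact hp.ne_one hko.symm
    · have hc := commute_of_mem hiso P.2 (hP (Subgroup.mem_zpowers x)) _ hgk
      have hg' : g = x ^ (-i) * n⁻¹ := by rw [← inv_inv g, hni]; group
      simp only [Subgroup.coe_mul, Subgroup.coe_inv]
      have h14 : n⁻¹ * ((k : N) : G) * n = x ^ i * (g * ((k : N) : G) * g⁻¹) * (x ^ i)⁻¹ := by
        rw [hg']; group
      have h15 : x ^ i * (g * ((k : N) : G) * g⁻¹) * (x ^ i)⁻¹ = g * ((k : N) : G) * g⁻¹ := by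
        rw [(hc.zpow_right i).symm.eq, mul_inv_cancel_right]
      rw [h14, h15]
      exact hc
  -- so `x` normalises `K`
  let φ : N →* N := (N.normalizerMonoidHom ⟨x, by rw [Subgroup.normalizer_eq_top]; trivial⟩).toMonoidHom
  have hφ : ∀ u : N, ((φ u : N) : G) = x * u * x⁻¹ := fun u => rfl
  have hφinj : Function.Injective φ :=
    (N.normalizerMonoidHom ⟨x, by rw [Subgroup.normalizer_eq_top]; trivial⟩).injective
  have hφsurj : Function.Surjective φ :=
    (N.normalizerMonoidHom ⟨x, by rw [Subgroup.normalizer_eq_top]; trivial⟩).surjective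
  have hK' : (K.map φ).Normal := hKn.map φ hφsurj
  have haK' : a ∈ K.map φ := ⟨a, ha, Subtype.ext (by rw [hφ, hax.symm.eq, mul_inv_cancel_right])⟩
  have hKeq : K.map φ = K := by
    have h16 : K ≤ K ⊓ K.map φ := hKmin ⟨inferInstance, fun h => ha1 (Subgroup.mem_bot.1 (h ▸ ⟨ha, haK'⟩)),
      inf_le_left.trans hKL⟩ inf_le_left
    exact (Subgroup.eq_of_le_of_card_ge (h16.trans inf_le_right)
      (by rw [Subgroup.card_map_of_injective hφinj])).symm
  have hKG : (K.map N.subtype).Normal := by
    have hxK : Subgroup.zpowers x ≤ Subgroup.normalizer ((K.map N.subtype : Subgroup G) : Set G) := by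
      rw [Subgroup.zpowers_le, Subgroup.mem_normalizer_iff]
      intro y
      constructor
      · rintro ⟨u, hu, rfl⟩
        exact ⟨φ u, hKeq ▸ ⟨u, hu, rfl⟩, hφ u⟩
      · rintro ⟨u, hu, e⟩
        rw [SetLike.mem_coe, ← hKeq] at hu
        obtain ⟨v, hv, rfl⟩ := hu
        rw [Subgroup.coe_subtype, hφ] at e
        exact ⟨v, hv, mul_left_cancel (mul_right_cancel e)⟩
    have hNK : N ≤ Subgroup.normalizer ((K.map N.subtype : Subgroup G) : Set G) := by
      intro n hn
      refine Subgroup.le_normalizer_map N.subtype ⟨⟨n, hn⟩, ?_, rfl⟩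
      rw [Subgroup.normalizer_eq_top]; trivial
    rw [← Subgroup.normalizer_eq_top_iff, eq_top_iff, ← hNx]
    exact sup_le hNK hxK
  have h17 := hNmin _ hKG (Subgroup.map_subtype_le _)
    (fun h => hK1 ((Subgroup.map_eq_bot_iff_of_injective _ N.subtype_injective).1 h))
  rw [eq_top_iff]
  intro u _
  have h18 : (u : G) ∈ K.map N.subtype := by rw [h17]; exact u.2
  obtain ⟨v, hv, e⟩ := h18
  exact hKL (Subtype.ext e ▸ hv)

end Cfsg.Agent.S2972
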