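import Cfsg.Statements.S2975
import Cfsg.Agent.LocalEven50.Isolated

set_option autoImplicit false
open Cfsg

namespace Cfsg.Agent.S2975

/-- Let G be a finite group, p a prime and x ∈ G an isolated element of order p (the only conjugate of x commuting with x is x) which is not central modulo the largest normal subgroup of order prime to p, while x is central modulo the largest normal subgroup of order prime to p in every proper subgroup containing x, and the image of x is so in every quotient of G by a nontrivial normal subgroup (a minimal counterexample to the Z*_p statement). Then for every prime q, every q-subgroup of G that is normalized by x and maximal among the q-subgroups normalized by x is either trivial or a Sylow q-subgroup of G; and C_G(x) permutes the x-invariant Sylow q-subgroups of G transitively by conjugation. -/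
theorem result {G : Type*} [Group G] [Finite G] {p : ℕ} [Fact p.Prime] (x : G) (hx : orderOf x = p) (hiso : Cfsg.IsIsolated x) (hnz : ¬ Cfsg.InZStar p x) (hmin : ∀ (H : Subgroup G) (hxH : x ∈ H), H ≠ ⊤ → Cfsg.InZStar p (⟨x, hxH⟩ : ↥H)) (hquot : ∀ (N : Subgroup G) [N.Normal], N ≠ ⊥ → Cfsg.InZStar p (QuotientGroup.mk x : G ⧸ N)) (q : ℕ) [Fact q.Prime] : (∀ Q : Subgroup G, IsPGroup q ↥Q → x ∈ Subgroup.normalizer (Q : Set G) → (∀ R : Subgroup G, IsPGroup q ↥R → x ∈ Subgroup.normalizer (R : Set G) → Q ≤ R → R = Q) → Q = ⊥ ∨ ∃ S : Sylow q G, (S : Subgroup G) = Q) ∧ (∀ S₁ S₂ : Sylow q G, x ∈ Subgroup.normalizer ((S₁ : Subgroup G) : Set G) → x ∈ Subgroup.normalizer ((S₂ : Subgroup G) : Set G) → ∃ c ∈ Subgroup.centralizer ({x} : Set G), (S₁ : Subgroup G).map (MulAut.conj c).toMonoidHom = (S₂ : Subgroup G)) := by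
  classical
  have hpp : IsPGroup p (Subgroup.zpowers x) :=
    IsPGroup.of_card (n := 1) (by rw [Nat.card_zpowers, hx, pow_one])
  refine ⟨?_, ?_⟩
  · intro Q hQ hxQ hmaxQ
    rcases eq_or_ne q p with rfl | hqp
    · right
      have hR : IsPGroup q ↥(Q ⊔ Subgroup.zpowers x) :=
        hQ.to_sup_of_normal_left' hpp (Subgroup.zpowers_le.mpr hxQ)
      have hxR : x ∈ Q ⊔ Subgroup.zpowers x :=
        (le_sup_right : Subgroup.zpowers x ≤ _) (Subgroup.mem_zpowers x)
      have hQR := hmaxQ _ hR (Subgroup.le_normalizer hxR) le_sup_left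
      rw [hQR] at hxR
      obtain ⟨S, hS⟩ := hQ.exists_le_sylow
      exact ⟨S, hmaxQ S S.2 (Subgroup.le_normalizer (hS hxR)) hS⟩
    · by_cases hQb : Q = ⊥
      · exact Or.inl hQb
      right
      have hcopq : ∀ R : Subgroup G, IsPGroup q R → (Nat.card R).Coprime p := by
        intro R hR
        obtain ⟨k, hk⟩ := IsPGroup.iff_card.mp hR
        rw [hk]
        exact ((Nat.coprime_primes Fact.out Fact.out).mpr hqp).pow_left k
      set N := Subgroup.normalizer (Q : Set G) with hN
      have hNtop : N ≠ ⊤ := by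
        intro htop
        haveI hQn : Q.Normal := Subgroup.normalizer_eq_top_iff.mp htop
        apply hnz
        have h := hquot Q hQb
        intro g
        set K := (Cfsg.pPrimeCore p (G ⧸ Q)).comap (QuotientGroup.mk' Q) with hK
        refine CfsgLib.LocalEven50.le_pPrimeCore (N := K) inferInstance ?_ ?_
        · have h1 := Subgroup.index_comap_of_surjective
            (Cfsg.pPrimeCore p (G ⧸ Q)) (QuotientGroup.mk'_surjective Q)
          have h2 := K.card_mul_index
          have h3 : Nat.card G = Nat.card (G ⧸ Q) * Nat.card Q :=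
            Subgroup.card_eq_card_quotient_mul_card_subgroup Q
          have h4 := (Cfsg.pPrimeCore p (G ⧸ Q)).card_mul_index
          have h5 : Nat.card K = Nat.card Q * Nat.card ↥(Cfsg.pPrimeCore p (G ⧸ Q)) := by
            refine Nat.eq_of_mul_eq_mul_right (Nat.pos_of_ne_zero K.index_ne_zero_of_finite) ?_
            rw [h2, h3, ← h4, h1]
            ring
          rw [h5]
          exact (hcopq Q hQ).mul_left (CfsgLib.LocalEven50.pPrimeCore_coprime p)
        · exact h (QuotientGroup.mk g)
      have hxN : x ∈ N := hxQ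
      have hz := hmin N hxN hNtop
      -- the `p'`-core of `N`, and its `x`-invariant Sylow subgroup
      have hcopK := CfsgLib.LocalEven50.pPrimeCore_coprime (G := ↥N) p
      have hpN : IsPGroup p (Subgroup.zpowers (⟨x, hxN⟩ : ↥N)) :=
        IsPGroup.of_card (n := 1) (by rw [Nat.card_zpowers, Subgroup.orderOf_mk, hx, pow_one])
      obtain ⟨S, hSx⟩ := CfsgLib.LocalEven50.exists_invariant_sylow hpN
        (Cfsg.pPrimeCore p ↥N) hcopK q
      have hQK : Q.subgroupOf N ≤ Cfsg.pPrimeCore p ↥N := by
        refine CfsgLib.LocalEven50.le_pPrimeCore Subgroup.normal_in_normalizer ?_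
        rw [Nat.card_congr (Subgroup.subgroupOfEquivOfLe Subgroup.le_normalizer).toEquiv]
        exact hcopq Q hQ
      set SN : Subgroup ↥N := (S : Subgroup ↥(Cfsg.pPrimeCore p ↥N)).map
        (Cfsg.pPrimeCore p ↥N).subtype with hSN
      have hQS : Q.subgroupOf N ≤ SN := by
        have hn : ((Q.subgroupOf N).subgroupOf (Cfsg.pPrimeCore p ↥N)).Normal :=
          haveI : (Q.subgroupOf N).Normal := Subgroup.normal_in_normalizer
          Subgroup.normal_subgroupOf
        have h1 : IsPGroup q ↥((Q.subgroupOf N).subgroupOf (Cfsg.pPrimeCore p ↥N)) :=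
          (hQ.comap_subtype).comap_subtype
        have h2 := h1.le_sylow_of_normal S
        intro z hz'
        exact ⟨⟨z, hQK hz'⟩, h2 hz', rfl⟩
      -- maximality gives `SN = Q`
      have hSQ : SN.map N.subtype = Q := by
        refine hmaxQ _ ((S.2.map _).map _) ?_ ?_
        · exact Subgroup.le_normalizer_map N.subtype ⟨⟨x, hxN⟩, hSx, rfl⟩
        · intro z hz'
          exact ⟨⟨z, Subgroup.le_normalizer hz'⟩, hQS hz', rfl⟩
      have hSQ' : SN = Q.subgroupOf N := by
        apply Subgroup.map_injective N.subtype_injective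
        rw [hSQ, Subgroup.map_subgroupOf_eq_of_le Subgroup.le_normalizer]
      -- `N = C_N(x) K`
      set C : Subgroup ↥N := Subgroup.centralizer {(⟨x, hxN⟩ : ↥N)} with hC
      have hsup : Cfsg.pPrimeCore p ↥N ⊔ C = ⊤ := by
        rw [eq_top_iff]
        intro n _
        have hiso' : Cfsg.IsIsolated (⟨x, hxN⟩ : ↥N) := fun g hg =>
          Subtype.ext (hiso g (congrArg Subtype.val hg))
        obtain ⟨k, hk, hkn⟩ := CfsgLib.LocalEven50.exists_commute_mul_mem
          (x := (⟨x, hxN⟩ : ↥N)) (by rw [Subgroup.orderOf_mk]; exact hx) hiso' hcopK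
          (by rw [Subgroup.normalizer_eq_top_iff.mpr inferInstance]; trivial) (hz n)
        rw [show n = k⁻¹ * (k * n) by group]
        exact Subgroup.mul_mem_sup (Subgroup.inv_mem _ hk)
          (Subgroup.mem_centralizer_singleton_iff.mpr hkn)
      obtain ⟨T⟩ : Nonempty (Sylow q ↥C) := inferInstance
      have hTQ : ((T : Subgroup ↥C).map C.subtype).map N.subtype ≤ Q := by
        set T' := ((T : Subgroup ↥C).map C.subtype).map N.subtype with hT'
        have hTN : T' ≤ N := Subgroup.map_subtype_le _
        have hR : IsPGroup q ↥(Q ⊔ T') :=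
          hQ.to_sup_of_normal_left' ((T.2.map _).map _) hTN
        have hxT : x ∈ Subgroup.normalizer (T' : Set G) := by
          refine Subgroup.centralizer_le_normalizer _ ?_
          rintro _ ⟨_, ⟨c, -, rfl⟩, rfl⟩
          exact congrArg Subtype.val (Subgroup.mem_centralizer_singleton_iff.mp c.2)
        have := hmaxQ _ hR ?_ le_sup_left
        · exact this ▸ le_sup_right
        · have e1 : Q.map (MulAut.conj x).toMonoidHom = Q :=
            Subgroup.mem_normalizer_iff_map_conj_eq.mp hxQ
          rw [Subgroup.mem_normalizer_iff_map_conj_eq] at hxT ⊢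
          exact (Subgroup.map_sup Q T' _).trans (congrArg₂ (· ⊔ ·) e1 hxT)
      have hCQ : ¬ q ∣ (Cfsg.pPrimeCore p ↥N ⊓ C).relIndex C := by
        intro h
        refine T.not_dvd_index (h.trans ?_)
        refine Subgroup.index_dvd_of_le ?_
        intro t ht
        refine ⟨?_, t.2⟩
        exact hQK (Subgroup.mem_subgroupOf.mpr (hTQ ⟨_, ⟨t, ht, rfl⟩, rfl⟩))
      have hidx : ¬ q ∣ (Q.subgroupOf N).index := by
        have h1 : (Cfsg.pPrimeCore p ↥N).index = (Cfsg.pPrimeCore p ↥N ⊓ C).relIndex C := by
          rw [Subgroup.inf_relIndex_right, ← Subgroup.relIndex_sup_left, hsup,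
            Subgroup.relIndex_top_right]
        have h2 : (Q.subgroupOf N).index =
            (S : Subgroup ↥(Cfsg.pPrimeCore p ↥N)).index * (Cfsg.pPrimeCore p ↥N).index := by
          rw [← hSQ', hSN, Subgroup.index_map_subtype]
        rw [h2, h1]
        exact (Fact.out : q.Prime).not_dvd_mul S.not_dvd_index hCQ
      obtain ⟨R, hR⟩ := hQ.exists_le_sylow
      refine ⟨R, ?_⟩
      by_contra hne
      obtain ⟨r, hrR, hrN, hrQ⟩ :=
        CfsgLib.LocalEven50.exists_mem_normalizer_not_mem R.2 hR (Ne.symm hne)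
      have hW : IsPGroup q ↥(Q ⊔ Subgroup.zpowers r) :=
        R.2.to_le (sup_le hR (Subgroup.zpowers_le.mpr hrR))
      have hWN : Q ⊔ Subgroup.zpowers r ≤ N :=
        sup_le Subgroup.le_normalizer (Subgroup.zpowers_le.mpr hrN)
      have hSyl : IsPGroup q ↥(Q.subgroupOf N) := hQ.comap_subtype
      have h3 := (IsPGroup.toSylow hSyl hidx).3 hW.comap_subtype
        (by
          rw [IsPGroup.toSylow_coe]
          exact Subgroup.comap_mono le_sup_left)
      apply hrQ
      have h4 : (⟨r, hrN⟩ : ↥N) ∈ (Q ⊔ Subgroup.zpowers r).subgroupOf N :=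
        (le_sup_right : Subgroup.zpowers r ≤ _) (Subgroup.mem_zpowers r)
      exact Subgroup.mem_subgroupOf.mp (h3.le h4)
  · intro S₁ S₂ h₁ h₂
    obtain ⟨g, hg⟩ := MulAction.exists_smul_eq G S₁ S₂
    have hgx : g⁻¹ * x * g⁻¹⁻¹ ∈ Subgroup.normalizer ((S₁ : Subgroup G) : Set G) := by
      rw [← hg, Sylow.coe_subgroup_smul, Subgroup.mem_normalizer_iff] at h₂
      rw [Subgroup.mem_normalizer_iff]
      intro z
      have := h₂ (g * z * g⁻¹)
      simpa [Subgroup.mem_pointwise_smul_iff_inv_smul_mem, MulAut.smul_def, mul_assoc] using this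
    obtain ⟨n, hn, hnx⟩ := CfsgLib.LocalEven50.exists_mul_commute hiso hpp h₁ hgx
    refine ⟨(n * g⁻¹)⁻¹, Subgroup.inv_mem _ (Subgroup.mem_centralizer_singleton_iff.mpr hnx), ?_⟩
    rw [← hg, Sylow.coe_subgroup_smul, mul_inv_rev, inv_inv]
    have hn' := Subgroup.inv_mem _ hn
    rw [Subgroup.mem_normalizer_iff_map_conj_eq] at hn'
    conv_lhs => rw [map_mul]
    change (S₁ : Subgroup G).map (MulAut.conj g * MulAut.conj n⁻¹ : MulAut G).toMonoidHom = _
    rw [show (MulAut.conj g * MulAut.conj n⁻¹ : MulAut G).toMonoidHom =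
      (MulAut.conj g).toMonoidHom.comp (MulAut.conj n⁻¹).toMonoidHom from rfl,
      ← Subgroup.map_map]
    exact congrArg (Subgroup.map (MulAut.conj g).toMonoidHom) hn' 

end Cfsg.Agent.S2975
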