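import Cfsg.Statements.S2989
import Cfsg.Agent.LocalEven50.GoodMCL
import Cfsg.Agent.LocalEven50.PushingUpOmega
import Cfsg.Agent.S3007

set_option autoImplicit false
open Cfsg

namespace Cfsg.Agent.S2989

open Subgroup CfsgLib.LocalEven50 CfsgLib

theorem map_frattini_equiv {A B : Type*} [Group A] [Group B] (e : A ≃* B) :
    (frattini A).map e.toMonoidHom = frattini B := by
  refine le_antisymm (map_le_iff_le_comap.mpr
    (frattini_le_comap_frattini_of_surjective e.surjective)) fun b hb => ?_
  exact ⟨e.symm b, frattini_le_comap_frattini_of_surjective (φ := e.symm.toMonoidHom)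
    e.symm.surjective hb, e.apply_symm_apply b⟩

theorem map_map_frattini {A B : Type*} [Group A] [Group B] {f : A →* B}
    (hf : Function.Injective f) (X : Subgroup A) :
    ((frattini ↥X).map X.subtype).map f = (frattini ↥(X.map f)).map (X.map f).subtype := by
  rw [← map_frattini_equiv (X.equivMapOfInjective f hf), map_map, map_map]
  rfl

theorem map_omegaOneCenter' {A B : Type*} [Group A] [Group B] {p : ℕ} {f : A →* B}
    (hf : Function.Injective f) (X : Subgroup A) :
    (omegaOneCenter p X).map f = omegaOneCenter p (X.map f) := by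
  unfold omegaOneCenter
  rw [PLocal.map_omegaOne hf, PLocal.map_inf_centralizer hf]


/-- Let G be a finite group and S a Sylow p-subgroup of G in the basic pushing-up situation (G ≠ 1, C_G(O_p(G)) ≤ O_p(G), S lies in a unique maximal subgroup of G, and some quotient of G is isomorphic to PSL₂ over a field of order a power of p), and suppose that S centralizes Z(J(S)), where J(S) is generated by the abelian subgroups of S of largest order (that is, J̃(S) = C_S(Z(J(S))) = S). Call a subgroup R of S centrally large if |R|·|Z(R)| is as large as possible among subgroups of S, and let S_Φ be the subgroup generated by the Frattini subgroups Φ(Q) of those minimal centrally large subgroups Q of S whose Ω₁(Z(Q)) has the largest order among minimal centrally large subgroups. Then Z(S) or S_Φ is normal in G; and if S_Φ = 1, the minimal centrally large subgroups of S are exactly the abelian subgroups of S of largest order, and at least one of them is elementary abelian. -/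
theorem result {G : Type*} [Group G] [Finite G] {p : ℕ} [Fact p.Prime] (S : Subgroup G) (hE : Cfsg.IsPushingUpSituation p S) (hJ : S ≤ Subgroup.centralizer (Cfsg.centerThompsonAOf S : Set G)) : ((S ⊓ Subgroup.centralizer (S : Set G)).Normal ∨ ((Cfsg.frattiniOfMinimalCLJoin p ↥S).map S.subtype).Normal) ∧ (Cfsg.frattiniOfMinimalCLJoin p ↥S = ⊥ → (∀ Q : Subgroup ↥S, Cfsg.IsMinimalCentrallyLarge Q ↔ Q ∈ Cfsg.maxAbelianSubgroups ↥S) ∧ ∃ A ∈ Cfsg.maxAbelianSubgroups ↥S, Cfsg.IsElementaryAbelian p A) := by
  refine ⟨?_, fun h0 => ?_⟩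
  · by_cases hnc : S ⊓ centralizer (S : Set G) ≤ centralizer ((⊤ : Subgroup G) : Set G)
    · exact Or.inl ⟨fun y hy x => by
        rwa [mem_centralizer_iff.mp (hnc hy) x (mem_top x), mul_inv_cancel_right]⟩
    right
    have hR := (center_central_or_core_centrallyLarge hE hJ).resolve_left hnc
    have hΩ := center_core_eq_omega_sup hE hJ hnc
    obtain ⟨M, q, g, h⟩ := pushUpData hE
    haveI := pCore_normal p G
    have hinj : Function.Injective S.subtype := S.subtype_injective
    set R := (pCore p G).subgroupOf S with hRdef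
    have hRmap : R.map S.subtype = pCore p G := map_subgroupOf_eq_of_le h.core_le
    have hV : centralizer (R : Set ↥S) =
        omegaOne p (centralizer (R : Set ↥S)) ⊔ center ↥S := by
      apply map_injective hinj
      have e1 : (centralizer (R : Set ↥S)).map S.subtype =
          pCore p G ⊓ centralizer (pCore p G : Set G) := by
        rw [← inf_eq_right.mpr (isCentrallyLarge_iff.mp hR).2,
          PLocal.map_inf_centralizer hinj, hRmap]
      have e2 : (center ↥S).map S.subtype = S ⊓ centralizer (S : Set G) := by
        rw [← centralizer_univ, ← coe_top,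
          ← top_inf_eq (centralizer ((⊤ : Subgroup ↥S) : Set ↥S)),
          PLocal.map_inf_centralizer hinj, ← MonoidHom.range_eq_map, range_subtype]
      rw [Subgroup.map_sup, PLocal.map_omegaOne hinj, e1, e2]
      exact hΩ
    refine ⟨fun w hw x => ?_⟩
    suffices hle : ((frattiniOfMinimalCLJoin p ↥S).map S.subtype).map
        (MulAut.conj x).toMonoidHom ≤ (frattiniOfMinimalCLJoin p ↥S).map S.subtype from
      hle (mem_map_of_mem (MulAut.conj x).toMonoidHom hw)
    rw [frattiniOfMinimalCLJoin, Subgroup.map_iSup, Subgroup.map_iSup]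
    refine iSup_le fun ⟨Q, hQ, hQg⟩ => ?_
    obtain ⟨Q', hQ', hQ'R, hQ'g, hΦ⟩ := exists_good_le h.isPGroup hR hV hQ hQg
    have hinjx : Function.Injective (MulAut.conj x).toMonoidHom := (MulAut.conj x).injective
    set Y := (Q'.map S.subtype).map (MulAut.conj x).toMonoidHom with hYdef
    have hYS : Y ≤ S := by
      rw [hYdef, map_map, map_le_iff_le_comap]
      intro y hy
      exact h.core_le (Normal.conj_mem inferInstance (y : G) (hQ'R hy) x)
    have hY : IsMinimalCentrallyLarge (Y.subgroupOf S) := by
      refine minimalCentrallyLarge_conj (map_subtype_le Q') ?_ x hYS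
      rwa [subgroupOf, comap_map_eq_self_of_injective hinj]
    have hYg : Nat.card ↥(omegaOneCenter p (Y.subgroupOf S)) =
        maxOmegaCenterOfMinimalCL p ↥S := by
      rw [← hQ'g, ← card_map_of_injective (f := S.subtype) hinj, map_omegaOneCenter' hinj,
        map_subgroupOf_eq_of_le hYS, hYdef, ← map_omegaOneCenter' hinjx,
        card_map_of_injective hinjx, ← map_omegaOneCenter' hinj, card_map_of_injective hinj]
    refine le_iSup_of_le ⟨Y.subgroupOf S, hY, hYg⟩ (le_of_eq ?_)
    show (((frattini ↥Q).map Q.subtype).map S.subtype).map _ = _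
    rw [hΦ, map_map_frattini hinj, map_map_frattini hinjx, map_map_frattini hinj]
    have e := map_subgroupOf_eq_of_le hYS
    rw [hYdef] at e
    rw [e]
  · obtain ⟨P, hP⟩ := hE.2.1
    have hS : IsPGroup p ↥S := hP ▸ P.2
    obtain ⟨Q, hQ, hQg⟩ := exists_maxOmega (P := ↥S) p
    have hle : (frattini ↥Q).map Q.subtype ≤ frattiniOfMinimalCLJoin p ↥S :=
      le_iSup (fun Q : {Q : Subgroup ↥S // IsMinimalCentrallyLarge Q ∧
        Nat.card ↥(omegaOneCenter p Q) = maxOmegaCenterOfMinimalCL p ↥S} =>
        (frattini ↥(Q : Subgroup ↥S)).map (Q : Subgroup ↥S).subtype) ⟨Q, hQ, hQg⟩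
    rw [h0, le_bot_iff, map_eq_bot_iff_of_injective _ Q.subtype_injective] at hle
    have hQp : IsPGroup p ↥Q := hS.to_subgroup Q
    have hab : IsMulCommutative ↥Q := ⟨⟨fun a b => commutatorElement_eq_one_iff_mul_comm.mp
      (mem_bot.mp (hle.le (Solvable.commutator_le_frattini hQp
        (commutator_mem_commutator (mem_top a) (mem_top b)))))⟩⟩
    have hiff := (S3007.result (p := p) ↥S hS Q Q hQ hQ).2.2.2.2 hab
    refine ⟨hiff, Q, (hiff Q).mp hQ, hab, fun a ha => ?_⟩
    exact congrArg Subtype.val (mem_bot.mp (hle.le (Solvable.pow_mem_frattini hQp ⟨a, ha⟩)))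

end Cfsg.Agent.S2989
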