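import Cfsg.Statements.S2988
import Cfsg.Agent.LocalEven50.Family.Pair
import Cfsg.Agent.S2989
-- import your own Cfsg.Agent.* helpers here

set_option autoImplicit false
universe u
open scoped Pointwise
open Cfsg

namespace Cfsg.Agent.S2988

open Subgroup CfsgLib.LocalEven50 CfsgLib.LocalEven50.Family CfsgLib

/-- Let p be a prime and S a nontrivial finite p-group. Write J(S) for the subgroup generated by the abelian subgroups of S of largest order (the large abelian subgroups) and J̃(S) = C_S(Z(J(S))). Unless S satisfies all of the following conditions — S is non-abelian; J(S) = S; Z(S) and Φ(S) are elementary abelian; Φ(S) ≤ Z(S) if p = 2, Φ(S) ≤ Z₂(S) if p = 3, and Φ(S) ≤ Z(S) with S of exponent p if p > 3; some large abelian subgroup is elementary abelian; and for all large abelian subgroups A, B and all subgroups Q of S one has |A|² = |S|·|Z(S)| ≥ |Q|·|Z(Q)| and ⟨A, B⟩ = AB = C_S(A ∩ B) — there exist nontrivial characteristic subgroups S₁ ≤ Z(S) and S₂ ≤ J̃(S) of S, S₂ characteristic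 in J̃(S), such that whenever S is embedded as a Sylow p-subgroup of a finite group G in the basic pushing-up situation, the image of S₁ or of S₂ is normal in G. -/
theorem result {p : ℕ} [Fact p.Prime] (S : Type u) [Group S] [Finite S] [Nontrivial S] (hS : IsPGroup p S) (hexc : ¬ (¬ IsMulCommutative S ∧ Cfsg.thompsonSubgroupA S = ⊤ ∧ Cfsg.IsElementaryAbelian p (Subgroup.center S) ∧ Cfsg.IsElementaryAbelian p (frattini S) ∧ (p = 2 → frattini S ≤ Subgroup.center S) ∧ (p = 3 → frattini S ≤ Subgroup.upperCentralSeries S 2) ∧ (3 < p → frattini S ≤ Subgroup.center S ∧ Monoid.exponent S = p) ∧ (∃ A ∈ Cfsg.maxAbelianSubgroups S, Cfsg.IsElementaryAbelian p A) ∧ (∀ A ∈ Cfsg.maxAbelianSubgroups S, ∀ B ∈ Cfsg.maxAbelianSubgroups S, ∀ Q : Subgroup S, Nat.card ↥A ^ 2 = Nat.card S * Nat.card ↥(Subgroup.center S) ∧ Nat.card ↥Q * Nat.card ↥(Subgroup.center ↥Q) ≤ Nat.card S * Nat.card ↥(Subgroup.center S) ∧ ((A ⊔ B : Subgroup S) : Set S) = (A : Set S) * (B : Set S) ∧ A ⊔ B = Subgroup.centralizer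 ((A ⊓ B : Subgroup S) : Set S)))) : ∃ S₁ S₂ : Subgroup S, S₁ ≠ ⊥ ∧ S₂ ≠ ⊥ ∧ S₁.Characteristic ∧ S₂.Characteristic ∧ S₁ ≤ Subgroup.center S ∧ S₂ ≤ Subgroup.centralizer ((Cfsg.thompsonSubgroupA S ⊓ Subgroup.centralizer (Cfsg.thompsonSubgroupA S : Set S) : Subgroup S) : Set S) ∧ (S₂.subgroupOf (Subgroup.centralizer ((Cfsg.thompsonSubgroupA S ⊓ Subgroup.centralizer (Cfsg.thompsonSubgroupA S : Set S) : Subgroup S) : Set S))).Characteristic ∧ ∀ (G : Type u) [Group G] [Finite G] (P : Subgroup G) (e : S ≃* ↥P), Cfsg.IsPushingUpSituation p P → ((S₁).map ((P.subtype).comp (e : S ≃* ↥P).toMonoidHom)).Normal ∨ ((S₂).map ((P.subtype).comp (e : S ≃* ↥P).toMonoidHom)).Normal := by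
  have hrange : ∀ (G : Type u) [Group G] (P : Subgroup G) (e : S ≃* ↥P),
      (P.subtype.comp e.toMonoidHom).range = P := fun G _ P e => by
    rw [MonoidHom.range_comp, MonoidHom.range_eq_top.mpr e.surjective, ← MonoidHom.range_eq_map,
      Subgroup.range_subtype]
  rcases pair_or_exceptional hS with ⟨S₁, S₂, h1, h2, h3, h4, h5, h6, h7, -, h9⟩ | E
  · exact ⟨S₁, S₂, h1, h2, h3, h4, h5, h6, h7, fun G _ _ P e hE =>
      h9 G _ (P.subtype_injective.comp e.injective) (by rwa [hrange G P e])⟩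
  by_cases h0 : frattiniOfMinimalCLJoin p S = ⊥
  · obtain ⟨Q, hQ, hQg⟩ := exists_maxOmega (P := S) p
    have hle : phiIn Q ≤ frattiniOfMinimalCLJoin p S :=
      le_iSup (fun Q : {Q : Subgroup S // IsMinimalCentrallyLarge Q ∧
        Nat.card ↥(omegaOneCenter p Q) = maxOmegaCenterOfMinimalCL p S} =>
        (frattini ↥(Q : Subgroup S)).map (Q : Subgroup S).subtype) ⟨Q, hQ, hQg⟩
    rw [h0, le_bot_iff] at hle
    have hA := (E.minimal_iff Q).mp hQ
    exact absurd ⟨E.noncomm, E.thompson, E.elementary_center, E.frattini_elementary hS, E.two,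
      E.three, E.large, ⟨Q, hA, hA.1, fun a ha => Subgroup.mem_bot.mp
        (hle.le (pow_mem_phiIn (hS.to_subgroup Q) ha))⟩, E.lattice⟩ hexc
  have hjt := jTilde_eq_top E.commutator_centerThompson
  haveI : Nontrivial (Subgroup.center S) := hS.center_nontrivial
  haveI hc : (frattiniOfMinimalCLJoin p S).Characteristic :=
    characteristic_iff_map_eq.mpr fun φ => frattiniOfMinimalCLJoin_map φ
  refine ⟨Subgroup.center S, frattiniOfMinimalCLJoin p S, (Subgroup.nontrivial_iff_ne_bot _).mp ‹_›,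
    h0, inferInstance, hc, le_rfl, le_top.trans hjt.ge, subgroupOf_characteristic_of_eq_top hjt _,
    fun G _ _ P e hE => ?_⟩
  set τ := P.subtype.comp e.toMonoidHom with hτd
  have hτ : Function.Injective τ := P.subtype_injective.comp e.injective
  have hJ : P ≤ centralizer (centerThompsonAOf P : Set G) := by
    have := map_jTilde_eq hτ
    rw [hjt, ← MonoidHom.range_eq_map, hrange G P e] at this
    exact this.le.trans inf_le_right
  refine (Cfsg.Agent.S2989.result P hE hJ).1.imp (fun h1 => ?_) fun h2 => ?_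
  · rw [map_center_eq hτ, hrange G P e]
    exact h1
  · rw [← frattiniOfMinimalCLJoin_map e, Subgroup.map_map] at h2
    exact h2

end Cfsg.Agent.S2988
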