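import Cfsg.Statements.S2998
import Cfsg.Agent.LocalEven50.Basic

set_option autoImplicit false
open Cfsg

namespace Cfsg.Agent.S2998

/-- Let G be a finite group, p a prime, P a Sylow p-subgroup of G and x ∈ P an element such that N_G(R) ≤ C_G(x) for every nontrivial subgroup R of P. Then P ≤ C_G(x); every G-conjugate of x lying in P equals x (so g ∈ C_G(x) whenever g x g⁻¹ ∈ P); and for every normal subgroup N of G, the image of x in G ⧸ N has the same property with respect to the image of P: the normalizer of every nontrivial subgroup of the image of P centralizes the image of x. -/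
theorem result {G : Type*} [Group G] [Finite G] {p : ℕ} [Fact p.Prime] (P : Sylow p G) (x : G) (hxP : x ∈ (P : Subgroup G)) (hlc : ∀ R : Subgroup G, R ≤ (P : Subgroup G) → R ≠ ⊥ → Subgroup.normalizer (R : Set G) ≤ Subgroup.centralizer ({x} : Set G)) : (P : Subgroup G) ≤ Subgroup.centralizer ({x} : Set G) ∧ (∀ g : G, g * x * g⁻¹ ∈ (P : Subgroup G) → g * x * g⁻¹ = x) ∧ ∀ (N : Subgroup G) [N.Normal], ∀ R : Subgroup (G ⧸ N), R ≤ (P : Subgroup G).map (QuotientGroup.mk' N) → R ≠ ⊥ → Subgroup.normalizer (R : Set (G ⧸ N)) ≤ Subgroup.centralizer ({(QuotientGroup.mk x : G ⧸ N)} : Set (G ⧸ N)) := by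
  have hPC : (P : Subgroup G) ≤ Subgroup.centralizer ({x} : Set G) := by
    by_cases hPb : (P : Subgroup G) = ⊥
    · rw [hPb]; exact bot_le
    · exact Subgroup.le_normalizer.trans (hlc P le_rfl hPb)
  refine ⟨hPC, fun g hg => ?_, ?_⟩
  · rcases eq_or_ne x 1 with rfl | hx1
    · simp
    set y := g * x * g⁻¹ with hy
    have hy1 : y ≠ 1 := fun h => hx1 (conj_eq_one_iff.mp h)
    have hPb : (P : Subgroup G) ≠ ⊥ := fun h => hx1 (Subgroup.mem_bot.mp (h ▸ hxP))
    -- `C(y) = C(x)`
    have hle : Subgroup.centralizer ({y} : Set G) ≤ Subgroup.centralizer ({x} : Set G) := by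
      refine le_trans ?_ (hlc (Subgroup.zpowers y) (Subgroup.zpowers_le.mpr hg)
        (fun h => hy1 (Subgroup.zpowers_eq_bot.mp h)))
      rw [Subgroup.zpowers_eq_closure]
      exact (Subgroup.centralizer_closure _).ge.trans (Subgroup.centralizer_le_normalizer _)
    have hmap : (Subgroup.centralizer ({x} : Set G)).map (MulAut.conj g).toMonoidHom =
        Subgroup.centralizer ({y} : Set G) := by
      ext z
      rw [Subgroup.mem_map_equiv, MulAut.conj_symm_apply, Subgroup.mem_centralizer_singleton_iff,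
        Subgroup.mem_centralizer_singleton_iff]
      constructor
      · intro h
        calc z * y = g * ((g⁻¹ * z * g) * x) * g⁻¹ := by rw [hy]; group
          _ = y * z := by rw [h, hy]; group
      · intro h
        calc g⁻¹ * z * g * x = g⁻¹ * (z * y) * g := by rw [hy]; group
          _ = x * (g⁻¹ * z * g) := by rw [h, hy]; group
    have heq : Subgroup.centralizer ({y} : Set G) = Subgroup.centralizer ({x} : Set G) :=
      Subgroup.eq_of_le_of_card_ge hle
        (hmap ▸ Subgroup.card_map_of_injective (MulAut.conj g).injective).ge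
    -- Sylow in `C(x)`
    have hPC' : ((g • P : Sylow p G) : Subgroup G) ≤ Subgroup.centralizer ({x} : Set G) := by
      rw [← heq, ← hmap]
      exact Subgroup.map_mono hPC
    obtain ⟨c, hc⟩ := MulAction.exists_smul_eq ↥(Subgroup.centralizer ({x} : Set G))
      ((g • P).subtype hPC') (P.subtype hPC)
    rw [Sylow.smul_subtype] at hc
    have hc' : ((c : G) * g) • P = P := by
      rw [mul_smul]
      exact Sylow.subtype_injective hc
    have h1 : (c : G) * g ∈ Subgroup.centralizer ({x} : Set G) :=
      hlc P le_rfl hPb (Sylow.smul_eq_iff_mem_normalizer.mp hc')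
    have h2 : g ∈ Subgroup.centralizer ({x} : Set G) := by
      have := Subgroup.mul_mem _ (Subgroup.inv_mem _ c.2) h1
      rwa [inv_mul_cancel_left] at this
    rw [hy, Subgroup.mem_centralizer_singleton_iff.mp h2]
    group
  · intro N _ R hR hRne
    set f := QuotientGroup.mk' N with hf
    set M : Subgroup G := R.comap f with hM
    set R₀ : Subgroup G := (P : Subgroup G) ⊓ M with hR₀
    have hNM : N ≤ M := by
      intro n hn
      rw [hM, Subgroup.mem_comap, (show f n = 1 from (QuotientGroup.eq_one_iff n).mpr hn)]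
      exact one_mem R
    have hdec : ∀ m ∈ M, ∃ a ∈ R₀, ∃ n ∈ N, m = a * n := by
      intro m hm
      obtain ⟨a, ha, ham⟩ := hR hm
      refine ⟨a, ⟨ha, ?_⟩, a⁻¹ * m, ?_, by group⟩
      · show f a ∈ R; rw [ham]; exact hm
      · rw [← QuotientGroup.eq]; exact ham
    have hR₀ne : R₀ ≠ ⊥ := by
      intro h
      apply hRne
      rw [eq_bot_iff]
      intro r hr
      obtain ⟨m, rfl⟩ := QuotientGroup.mk'_surjective N r
      obtain ⟨a, ha, n, hn, rfl⟩ := hdec m hr
      rw [h, Subgroup.mem_bot] at ha
      rw [ha, one_mul, Subgroup.mem_bot]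
      exact (QuotientGroup.eq_one_iff n).mpr hn
    -- `R₀` is a Sylow subgroup of `M`
    have hidx : ¬ p ∣ R₀.relIndex M := by
      have hsupM : R₀ ⊔ N = M := by
        refine le_antisymm (sup_le inf_le_right hNM) fun m hm => ?_
        obtain ⟨a, ha, n, hn, rfl⟩ := hdec m hm
        exact Subgroup.mul_mem_sup ha hn
      have h1 := CfsgLib.LocalEven50.card_sup_mul_card_inf R₀ N
      have h2 := CfsgLib.LocalEven50.card_sup_mul_card_inf (P : Subgroup G) N
      have h3 : R₀ ⊓ N = (P : Subgroup G) ⊓ N := by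
        rw [hR₀, inf_assoc, inf_eq_right.mpr hNM]
      rw [h3, hsupM] at h1
      have h4 := Subgroup.card_mul_index (R₀.subgroupOf M)
      have h5 := Subgroup.card_mul_index ((P : Subgroup G).subgroupOf ((P : Subgroup G) ⊔ N))
      rw [Nat.card_congr (Subgroup.subgroupOfEquivOfLe (inf_le_right : R₀ ≤ M)).toEquiv] at h4
      rw [Nat.card_congr (Subgroup.subgroupOfEquivOfLe
        (le_sup_left : (P : Subgroup G) ≤ (P : Subgroup G) ⊔ N)).toEquiv] at h5
      have h6 : R₀.relIndex M = (P : Subgroup G).relIndex ((P : Subgroup G) ⊔ N) := by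
        simp only [Subgroup.relIndex]
        rw [← h4] at h1
        rw [← h5] at h2
        have hI : (R₀.subgroupOf M).index * Nat.card ↥((P : Subgroup G) ⊓ N) = Nat.card N :=
          Nat.eq_of_mul_eq_mul_left (Nat.card_pos (α := R₀)) (by rw [← mul_assoc]; exact h1)
        have hJ : ((P : Subgroup G).subgroupOf ((P : Subgroup G) ⊔ N)).index *
            Nat.card ↥((P : Subgroup G) ⊓ N) = Nat.card N :=
          Nat.eq_of_mul_eq_mul_left (Nat.card_pos (α := (P : Subgroup G)))
            (by rw [← mul_assoc]; exact h2)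
        exact Nat.eq_of_mul_eq_mul_right Nat.card_pos (hI.trans hJ.symm)
      rw [h6]
      exact fun h => P.not_dvd_index (h.trans (Subgroup.relIndex_dvd_index_of_le le_sup_left))
    let T : Sylow p ↥M := (P.2.to_le (inf_le_left : R₀ ≤ _)).comap_subtype.toSylow hidx
    intro r hr
    obtain ⟨g, rfl⟩ := QuotientGroup.mk'_surjective N r
    have hgM : g ∈ Subgroup.normalizer (M : Set G) := by
      rw [Subgroup.mem_normalizer_iff]
      intro z
      rw [hM, Subgroup.mem_comap, Subgroup.mem_comap, map_mul, map_mul, map_inv]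
      exact Subgroup.mem_normalizer_iff.mp hr (f z)
    have hgR : R₀.map (MulAut.conj g).toMonoidHom ≤ M := by
      rintro _ ⟨z, hz, rfl⟩
      exact (Subgroup.mem_normalizer_iff.mp hgM z).mp hz.2
    have hU : IsPGroup p ↥((R₀.map (MulAut.conj g).toMonoidHom).subgroupOf M) :=
      ((P.2.to_le (inf_le_left : R₀ ≤ _)).map _).comap_subtype
    obtain ⟨U, hU'⟩ := hU.exists_le_sylow
    obtain ⟨m, hm⟩ := MulAction.exists_smul_eq ↥M U T
    have hnorm : (m : G) * g ∈ Subgroup.normalizer (R₀ : Set G) := by
      rw [Subgroup.mem_normalizer_iff_map_conj_eq]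
      refine Subgroup.eq_of_le_of_card_ge ?_
        (Subgroup.card_map_of_injective (MulAut.conj _).injective).ge
      rintro _ ⟨z, hz, rfl⟩
      have hzM : g * z * g⁻¹ ∈ M := hgR ⟨z, hz, rfl⟩
      have h : m * (⟨g * z * g⁻¹, hzM⟩ : ↥M) * m⁻¹ ∈ (T : Subgroup ↥M) := by
        rw [← hm, Sylow.coe_subgroup_smul]
        exact Subgroup.smul_mem_pointwise_smul _ (MulAut.conj m) _ (hU' ⟨z, hz, rfl⟩)
      have h' : (m : G) * (g * z * g⁻¹) * (m : G)⁻¹ ∈ R₀ := h
      simpa [mul_assoc] using h'
    have hmg := Subgroup.mem_centralizer_singleton_iff.mp (hlc R₀ inf_le_left hR₀ne hnorm)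
    obtain ⟨a, ha, hafm⟩ := hR (show f (m : G) ∈ R from m.2)
    have hax : a * x = x * a := Subgroup.mem_centralizer_singleton_iff.mp (hPC ha)
    rw [Subgroup.mem_centralizer_singleton_iff]
    have e1 : Commute (f (m : G) * f g) (f x) := by
      rw [← map_mul]; exact (show Commute ((m : G) * g) x from hmg).map f
    have e2 : Commute (f (m : G)) (f x) := hafm ▸ (show Commute a x from hax).map f
    have := e2.inv_left.mul_left e1
    rw [inv_mul_cancel_left] at this
    exact this.eq

end Cfsg.Agent.S2998
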