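import Cfsg.Statements.S2999
import Cfsg.Agent.SL2Recognition.Offender
import Cfsg.Agent.PLocal.Replacement
import Cfsg.Agent.PGV.Module

set_option autoImplicit false
open Cfsg

namespace Cfsg.Agent.S2999

open Subgroup CfsgLib.PLocal CfsgLib.SL2Recognition
open scoped commutatorElement

/-- Let p be a prime and let P and V be subgroups of a finite group with V elementary abelian, P normalizing V and acting faithfully on it (P ∩ C(V) = 1). Suppose P is p-minimal (a Sylow p-subgroup T of P is not normal and lies in a unique maximal subgroup M of P) and A ≤ T is an elementary abelian subgroup such that: |V/C_V(A)| ≤ |A| while |A₀|·|C_V(A₀)| < |A|·|C_V(A)| for every nontrivial proper subgroup A₀ of A; [C_V(T), P] ≠ 1; and P = ⟨A, xAx⁻¹⟩ for every x ∈ P outside M. Then, with q = |A|, there is a field F with q elements such that P ≅ SL₂(F), C_V(A) = [V, A]·C_V(P), and P acts on V/C_V(P) as SL₂(F) on its natural two-dimensional module. -/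
theorem result {G : Type*} [Group G] [Finite G] {p : ℕ} [Fact p.Prime] (V P : Subgroup G) (hV : Cfsg.IsElementaryAbelian p V) (hPV : P ≤ Subgroup.normalizer (V : Set G)) (hfaith : P ⊓ Subgroup.centralizer (V : Set G) = ⊥) (hmin : Cfsg.IsPMinimal p ↥P) (T : Sylow p ↥P) (M : Subgroup ↥P) (hM : IsCoatom M) (hTM : (T : Subgroup ↥P) ≤ M) (A : Subgroup G) (hAT : A ≤ ((T : Subgroup ↥P).map P.subtype)) (hAel : Cfsg.IsElementaryAbelian p A) (hi : Nat.card ↥V ≤ Nat.card ↥A * Nat.card ↥(V ⊓ Subgroup.centralizer ((A : Subgroup G) : Set G)) ∧ ∀ A₀ : Subgroup G, A₀ ≤ A → A₀ ≠ ⊥ → A₀ ≠ A → Nat.card ↥A₀ * Nat.card ↥(V ⊓ Subgroup.centralizer ((A₀ : Subgroup G) : Set G)) < Nat.card ↥A * Nat.card ↥(V ⊓ Subgroup.centralizer ((A : Subgroup G) : Set G))) (hii : ⁅(V ⊓ Subgroup.centralizer ((((T : Subgroup ↥P).map P.subtype) : Subgroup G) : Set G)), P⁆ ≠ ⊥) (hiii : ∀ x : ↥P, x ∉ M → A ⊔ A.map (MulAut.conj (x : G)).toMonoidHom = P) : ∃ (F : Type) (_ : Field F) (_ : Fintype F), Fintype.card F = Nat.card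 ↥A ∧ Nonempty (↥P ≃* Matrix.SpecialLinearGroup (Fin 2) F) ∧ (V ⊓ Subgroup.centralizer ((A : Subgroup G) : Set G)) = ⁅V, A⁆ ⊔ (V ⊓ Subgroup.centralizer ((P : Subgroup G) : Set G)) ∧ Cfsg.ActsAsSL2OnSection F ⊤ P V (V ⊓ Subgroup.centralizer ((P : Subgroup G) : Set G)) := by
  classical
  haveI := hV.1
  letI : CommGroup ↥V := { (inferInstance : Group ↥V) with mul_comm := fun a b => Std.Commutative.comm a b }
  set Tm := (T : Subgroup ↥P).map P.subtype with hTm
  have hAP : A ≤ P := hAT.trans (map_subtype_le _)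
  have hAV : A ≤ normalizer (V : Set G) := hAP.trans hPV
  obtain ⟨hi1, hi2⟩ := hi
  have hab : ⁅A, A⁆ ≤ centralizer (V : Set G) := by
    rw [commutator_self_eq_bot_iff.mpr hAel.1]; exact bot_le
  have hmax : ∀ B : Subgroup G, B ≤ A → offenderWeight V B ≤ offenderWeight V A := by
    intro B hB
    rcases eq_or_ne B ⊥ with rfl | hB1
    · refine le_trans ?_ hi1
      rw [offenderWeight, card_bot, one_mul]
      exact card_le_of_le inf_le_left
    · rcases eq_or_ne B A with rfl | hBA
      · exact le_rfl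
      · exact (hi2 B hB hB1 hBA).le
  obtain ⟨hwQ, hfixQ⟩ := replacement hV.1 hAV hab hmax (U := V) le_rfl
  have hVC : ⁅V, A⁆ ≤ V := le_normalizer_iff_commutator_le_left.mp hAV
  have hquadA : A ≤ centralizer ((⁅V, A⁆ : Subgroup G) : Set G) := by
    set Q := A ⊓ centralizer ((⁅V, A⁆ : Subgroup G) : Set G) with hQdef
    by_contra hcon
    have hQA : Q ≠ A := fun h => hcon (h.ge.trans inf_le_right)
    rcases eq_or_ne Q ⊥ with hQ | hQ
    · rw [hQ] at hfixQ
      have hle : V ≤ ⁅V, A⁆ ⊔ (V ⊓ centralizer (A : Set G)) := by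
        rw [← hfixQ]
        exact le_inf le_rfl fun x _ => mem_centralizer_iff.2 fun y hy => by
          rw [show y = 1 from mem_bot.1 hy, one_mul, mul_one]
      have hCn : V ⊓ centralizer (A : Set G) ≤ normalizer ((⁅V, A⁆ : Subgroup G) : Set G) :=
        inf_le_left.trans ((le_centralizer_iff_isMulCommutative.mpr hV.1).trans
          ((centralizer_le hVC).trans (centralizer_le_normalizer _)))
      have hXA : ⁅V, A⁆ ≤ ⁅⁅V, A⁆, A⁆ := by
        refine commutator_le.2 fun u hu a ha => ?_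
        obtain ⟨w, hw, c, hc, rfl⟩ := CfsgLib.Coprime.exists_mul_of_mem_sup hCn (hle hu)
        rw [commutatorElement_mul_left_of_abelian hV.1 (hVC hw) hc.1 (hAV ha),
          commutatorElement_eq_one_iff_mul_comm.mpr (mem_centralizer_iff.mp hc.2 a ha).symm, mul_one]
        exact commutator_mem_commutator hw ha
      have hbot := eq_bot_of_le_commutator (p := p) (fun x => ⟨1, Subtype.ext (by
          rw [pow_one]; exact hV.2 _ (hVC x.2))⟩) (normalizer_commutator_ge_right _ _)
        (fun a ha => by rw [hAel.2 a ha]; exact one_mem _) hXA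
      refine hcon ?_
      rw [hbot]
      exact fun a _ => mem_centralizer_iff.2 fun y hy => by
        rw [show y = 1 from mem_bot.1 hy, one_mul, mul_one]
    · exact absurd hwQ (hi2 Q inf_le_left hQ hQA).ne
  -- the additive module
  let σ : ↥P →* AddMonoid.End (Additive ↥V) :=
    { toFun := fun g => AddMonoidHom.mk'
        (fun v => Additive.ofMul (⟨(g : G) * (v.toMul : ↥V) * (g : G)⁻¹,
          (mem_normalizer_iff.1 (hPV g.2) _).1 v.toMul.2⟩ : ↥V))
        fun v w => Additive.toMul.injective (Subtype.ext (by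
          show (g : G) * ((v.toMul : G) * (w.toMul : G)) * (g : G)⁻¹ =
            ((g : G) * (v.toMul : G) * (g : G)⁻¹) * ((g : G) * (w.toMul : G) * (g : G)⁻¹)
          group))
      map_one' := AddMonoidHom.ext fun v => Additive.toMul.injective (Subtype.ext (by
          show ((1 : ↥P) : G) * (v.toMul : G) * ((1 : ↥P) : G)⁻¹ = (v.toMul : G)
          simp))
      map_mul' := fun g h => AddMonoidHom.ext fun v => Additive.toMul.injective (Subtype.ext (by
          show ((g : G) * h) * (v.toMul : G) * ((g : G) * h)⁻¹ =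
            (g : G) * ((h : G) * (v.toMul : G) * (h : G)⁻¹) * (g : G)⁻¹
          group)) }
  have hσ : ∀ (g : ↥P) (v : Additive ↥V), σ g v = v ↔ (g : G) * (v.toMul : G) = (v.toMul : G) * g := by
    intro g v
    rw [← mul_inv_eq_iff_eq_mul]
    exact ⟨fun h => congrArg (fun x : Additive ↥V => (x.toMul : G)) h,
      fun h => Additive.toMul.injective (Subtype.ext h)⟩
  have hfix : ∀ (H : Subgroup ↥P) (v : Additive ↥V),
      v ∈ fix σ H ↔ (v.toMul : G) ∈ centralizer ((H.map P.subtype : Subgroup G) : Set G) := by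
    intro H v
    rw [mem_centralizer_iff]
    refine ⟨?_, fun h g hg => (hσ g v).2 (h _ ⟨g, hg, rfl⟩)⟩
    rintro h _ ⟨g, hg, rfl⟩
    exact (hσ g v).1 (h g hg)
  have hcard : ∀ H : Subgroup ↥P, Nat.card (fix σ H) =
      Nat.card ↥(V ⊓ centralizer ((H.map P.subtype : Subgroup G) : Set G)) := fun H =>
    Nat.card_congr
      { toFun := fun v => ⟨v.1.toMul, v.1.toMul.2, (hfix H v.1).1 v.2⟩
        invFun := fun x => ⟨Additive.ofMul ⟨x.1, x.2.1⟩, (hfix H _).2 x.2.2⟩
        left_inv := fun _ => rfl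
        right_inv := fun _ => rfl }
  set A' := A.subgroupOf P with hA'
  have hA'm : A'.map P.subtype = A := by rw [subgroupOf_map_subtype, inf_eq_left.2 hAP]
  have hA'c : Nat.card A' = Nat.card A := Nat.card_congr (subgroupOfEquivOfLe hAP).toEquiv
  haveI : Finite ↥V := inferInstance
  haveI : Finite (Additive ↥V) := inferInstanceAs (Finite ↥V)
  have huniq : ∀ N : Subgroup ↥P, IsCoatom N → (T : Subgroup ↥P) ≤ N → N = M := fun N hN hTN => by
    obtain ⟨M', -, hM'⟩ := (hmin T).2
    rw [hM' N ⟨hN, hTN⟩, hM' M ⟨hM, hTM⟩]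
  obtain ⟨F, hF, hFt, φ, ψ, hFcard, hψs, hψ0, hψe, hfixA⟩ := exists_natural (p := p) σ
    (fun g h e => by
      have hmem : ∀ v ∈ V, ((g⁻¹ * h : ↥P) : G) * v = v * ((g⁻¹ * h : ↥P) : G) := fun v hv =>
        (hσ (g⁻¹ * h) (Additive.ofMul ⟨v, hv⟩)).1 (by
          rw [apply_mul, ← e, apply_inv_apply])
      have : ((g⁻¹ * h : ↥P) : G) ∈ P ⊓ centralizer (V : Set G) :=
        ⟨(g⁻¹ * h : ↥P).2, mem_centralizer_iff.2 fun v hv => (hmem v hv).symm⟩
      rw [hfaith, mem_bot] at this
      exact (inv_mul_eq_one.1 (Subtype.ext this : g⁻¹ * h = 1)))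
    (fun v => Additive.toMul.injective (Subtype.ext (hV.2 _ v.toMul.2)))
    T M hM hTM huniq A'
    (fun a ha => by
      obtain ⟨t, ht, he⟩ := hAT ha
      exact (Subtype.ext he : t = a) ▸ ht)
    (fun a ha b hb v => by
      refine (hσ a _).2 ?_
      have hc : ⁅(b : G), (v.toMul : G)⁆ ∈ ⁅V, A⁆ := by
        rw [commutator_comm]; exact commutator_mem_commutator hb v.toMul.2
      have hv : ((σ b v - v).toMul : G) = ⁅(b : G), (v.toMul : G)⁆ := by
        show (b : G) * (v.toMul : G) * (b : G)⁻¹ / (v.toMul : G) = _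
        rw [div_eq_mul_inv, commutatorElement_def]
      rw [hv]
      exact ((mem_centralizer_iff.1 (hquadA ha)) _ hc).symm)
    (by
      rw [hcard, hA'm, hA'c]; exact hi1)
    (fun A₀ hA₀ h1 h2 => by
      rw [hcard, hcard, hA'm, hA'c, ← card_map_of_injective (K := A₀) P.subtype_injective]
      refine hi2 _ ((map_mono hA₀).trans hA'm.le) ?_ ?_
      · exact fun h => h1 ((map_eq_bot_iff_of_injective _ P.subtype_injective).1 h)
      · exact fun h => h2 (map_injective P.subtype_injective (h.trans hA'm.symm)))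
    (by
      by_contra h
      push Not at h
      refine hii ((commutator_eq_bot_iff_le_centralizer).2 fun x hx => ?_)
      have h1 := (hfix ⊤ (Additive.ofMul ⟨x, hx.1⟩)).1 (h (Additive.ofMul ⟨x, hx.1⟩) ((hfix _ _).2 hx.2))
      rwa [← MonoidHom.range_eq_map, range_subtype] at h1)
    (fun x hx => by
      refine map_injective P.subtype_injective ?_
      rw [Subgroup.map_sup, hA'm, ← MonoidHom.range_eq_map, range_subtype]
      refine Eq.trans ?_ (hiii x hx)
      congr 1
      conv_rhs => rw [← hA'm]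
      rw [map_map, map_map]
      rfl)
  refine ⟨F, hF, hFt, hFcard.trans hA'c, ⟨φ⟩, ?_, hPV, inf_le_left, φ.toMonoidHom,
    { toFun := fun u => Multiplicative.ofAdd (ψ (Additive.ofMul u))
      map_one' := by rw [ofMul_one, map_zero]; rfl
      map_mul' := fun u v => by rw [ofMul_mul, map_add]; rfl },
    MonoidHom.range_eq_top.2 φ.surjective, ?_, ?_, ?_⟩
  · refine le_antisymm (fun x hx => ?_) (sup_le (le_inf hVC ?_) ?_)
    · set Z : Subgroup G := ⁅V, A⁆ ⊔ (V ⊓ centralizer (P : Set G))
      let Z' : AddSubgroup (Additive ↥V) :=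
        { carrier := {v | (v.toMul : G) ∈ Z}
          zero_mem' := one_mem Z
          add_mem' := fun {v w} hv hw => Z.mul_mem hv hw
          neg_mem' := fun {v} hv => Z.inv_mem hv }
      have h1 : (Additive.ofMul ⟨x, hx.1⟩ : Additive ↥V) ∈ fix σ A' := (hfix _ _).2 (hA'm.symm ▸ hx.2)
      rw [hfixA] at h1
      refine (show _ ≤ Z' from sup_le ((AddSubgroup.closure_le _).2 ?_) ?_) h1
      · rintro _ ⟨a, ha, u, rfl⟩
        show ((σ a u - u).toMul : G) ∈ Z
        refine le_sup_left (b := V ⊓ centralizer (P : Set G)) ?_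
        rw [commutator_comm]
        have : ((σ a u - u).toMul : G) = ⁅(a : G), (u.toMul : G)⁆ := by
          show (a : G) * (u.toMul : G) * (a : G)⁻¹ / (u.toMul : G) = _
          rw [div_eq_mul_inv, commutatorElement_def]
        rw [this]
        exact commutator_mem_commutator ha u.toMul.2
      · intro v hv
        refine le_sup_right (a := ⁅V, A⁆) ⟨v.toMul.2, ?_⟩
        have := (hfix ⊤ v).1 hv
        rwa [← MonoidHom.range_eq_map, range_subtype] at this
    · exact le_centralizer_iff.1 hquadA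
    · exact inf_le_inf_left V (centralizer_le hAP)
  · intro c
    obtain ⟨v, hv⟩ := hψs c.toAdd
    exact ⟨v.toMul, by simp [hv]⟩
  · intro u
    show Multiplicative.ofAdd (ψ (Additive.ofMul u)) = 1 ↔ _
    rw [ofAdd_eq_one, hψ0, hfix, ← MonoidHom.range_eq_map, range_subtype]
    exact ⟨fun h => ⟨u.2, h⟩, fun h => h.2⟩
  · intro e u
    exact ⟨(σ e (Additive.ofMul u)).toMul, rfl, hψe e (Additive.ofMul u)⟩

end Cfsg.Agent.S2999
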