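import Cfsg.Statements.S3001
import Cfsg.Agent.FFBlocks.Setup

set_option autoImplicit false
open Cfsg

namespace Cfsg.Agent.S3001

/-- Let p be a prime and let P and V be subgroups of a finite group with V elementary abelian, P normalizing V and acting faithfully on it (P ∩ C(V) = 1). Suppose P is p-minimal (a Sylow p-subgroup is not normal and lies in a unique maximal subgroup), O_p(P) = 1, and P has a best offender on V (a subgroup A not centralizing V, with A/C_A(V) elementary abelian and |B|·|C_V(B)| ≤ |A|·|C_V(A)| for every B ≤ A). Then [C_V(T), P] ≠ 1 for every Sylow p-subgroup T of P. -/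
theorem result {G : Type*} [Group G] [Finite G] {p : ℕ} [Fact p.Prime] (V P : Subgroup G) (hV : Cfsg.IsElementaryAbelian p V) (hPV : P ≤ Subgroup.normalizer (V : Set G)) (hfaith : P ⊓ Subgroup.centralizer (V : Set G) = ⊥) (hmin : Cfsg.IsPMinimal p ↥P) (hOp : Cfsg.pCore p ↥P = ⊥) (hoff : ∃ A : Subgroup G, A ≤ P ∧ ¬ A ≤ Subgroup.centralizer (V : Set G) ∧ Cfsg.IsBestOffenderOn p V A) (T : Sylow p ↥P) : ⁅(V ⊓ Subgroup.centralizer ((((T : Subgroup ↥P).map P.subtype) : Subgroup G) : Set G)), P⁆ ≠ ⊥ := by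
  obtain ⟨hnT, M, hMc, huniq⟩ := hmin T
  open scoped IsMulCommutative in
  haveI := hV.1
  have h := CfsgLib.FFBlocks.act_self hPV hfaith
  obtain ⟨⟨z, hzT, hz0⟩, -⟩ := CfsgLib.FFCells.exists_config _ h.inj
    (CfsgLib.FFBlocks.exp_additive hV) T M
    (CfsgLib.FFBlocks.pmin_of_unique hMc.1 hMc.2 fun M' h1 h2 => huniq M' ⟨h1, h2⟩)
    (CfsgLib.FFBlocks.pcore_spec hOp) (CfsgLib.FFBlocks.exists_offender hV hPV hfaith hoff)
  intro hbot
  refine hz0 (h.mem_fix.2 (Subgroup.mem_centralizer_iff.2 fun x hx => ?_))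
  have hzmem : ((Additive.toMul z : V) : G) ∈
      V ⊓ Subgroup.centralizer ((((T : Subgroup ↥P).map P.subtype) : Subgroup G) : Set G) :=
    ⟨(Additive.toMul z : V).2, h.mem_fix.1 hzT⟩
  exact Subgroup.mem_centralizer_iff.1 (Subgroup.commutator_eq_bot_iff_le_centralizer.1 hbot hzmem) x
    (CfsgLib.FFBlocks.up_le hx)

end Cfsg.Agent.S3001
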