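import Cfsg.Statements.S3003
import Cfsg.Agent.Coprime.Generation
import Cfsg.Agent.LocalEven50.MinimalCentrallyLarge

set_option autoImplicit false
open Cfsg

namespace Cfsg.Agent.S3003

open Subgroup
open scoped Pointwise commutatorElement

theorem inf_centralizer_eq_bot {G : Type*} [Group G] [Finite G] {p : ℕ} [Fact p.Prime]
    {Q G₁ R U : Subgroup G} (hQp : IsPGroup p ↥Q) (hlarge : Cfsg.IsLarge Q) (hQG : Q ≤ G₁)
    (hR : (Nat.card ↥R).Coprime p) (hGR : G₁ ≤ normalizer (R : Set G))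
    (h : ∃ x ∈ U, x ≠ 1 ∧ ∃ g ∈ G₁, g * x * g⁻¹ ∈ Q ⊓ centralizer (Q : Set G)) :
    R ⊓ centralizer (U : Set G) = ⊥ := by
  obtain ⟨x, hx, hx1, g, hg, hz⟩ := h
  set z := g * x * g⁻¹
  have hdisj : ∀ y ∈ Q, y ∈ R → y = 1 := by
    intro y hy hy'
    obtain ⟨k, hk⟩ := IsPGroup.iff_orderOf.mp hQp ⟨y, hy⟩
    rw [Subgroup.orderOf_mk] at hk
    exact orderOf_eq_one_iff.mp (Nat.eq_one_of_dvd_coprimes (hR.pow_right k)
      (Subgroup.orderOf_dvd_natCard R hy') hk.dvd)
  refine (Subgroup.eq_bot_iff_forall _).mpr fun r hr => ?_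
  have hr' : g * r * g⁻¹ ∈ R := (mem_normalizer_iff.mp (hGR hg) r).mp hr.1
  have hrz : g * r * g⁻¹ ∈ centralizer ((zpowers z : Subgroup G) : Set G) := by
    refine le_centralizer_iff.mp (zpowers_le.mpr ?_ : zpowers z ≤
      centralizer ((zpowers (g * r * g⁻¹) : Subgroup G) : Set G)) (mem_zpowers _)
    refine mem_centralizer_iff.mpr fun w hw => ?_
    obtain ⟨i, rfl⟩ := mem_zpowers_iff.mp hw
    have hc : Commute r x := (mem_centralizer_iff.mp hr.2 x hx).symm
    have : Commute (g * r * g⁻¹) z := hc.map (MulAut.conj g).toMonoidHom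
    exact this.zpow_left i
  have hrQ : g * r * g⁻¹ ∈ normalizer (Q : Set G) :=
    hlarge.2 _ (zpowers_le.mpr hz.2) (fun h => by
      rw [zpowers_eq_bot, show z = 1 ↔ x = 1 from conj_eq_one_iff] at h
      exact hx1 h) (centralizer_le_normalizer _ hrz)
  have hrC : g * r * g⁻¹ ∈ centralizer (Q : Set G) := by
    refine mem_centralizer_iff.mpr fun y hy => ?_
    have h1 : ⁅y, g * r * g⁻¹⁆ ∈ Q := by
      rw [commutatorElement_def, mul_assoc, mul_assoc]
      refine mul_mem hy ?_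
      rw [← mul_assoc]
      exact (mem_normalizer_iff.mp hrQ y⁻¹).mp (inv_mem hy)
    have h2 : ⁅y, g * r * g⁻¹⁆ ∈ R := by
      rw [commutatorElement_def]
      exact mul_mem ((mem_normalizer_iff.mp (hGR (hQG hy)) _).mp hr') (inv_mem hr')
    exact commutatorElement_eq_one_iff_mul_comm.mp (hdisj _ h1 h2)
  exact conj_eq_one_iff.mp (hdisj _ (hlarge.1 hrC) hr')

theorem eq_one_of_zpow_mem {G : Type*} [Group G] [Finite G] {p : ℕ} [Fact p.Prime] {b : G}
    (hb : b ^ p = 1) {K : Subgroup G} (hbK : b ∉ K) {i : ℤ} (h : b ^ i ∈ K) : b ^ i = 1 := by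
  by_contra h1
  apply hbK
  have hle : zpowers (b ^ i) ≤ zpowers b := zpowers_le.mpr (zpow_mem (mem_zpowers b) i)
  have hb1 : b ≠ 1 := fun h => hbK (h ▸ K.one_mem)
  have hc : Nat.card (zpowers b) ≤ Nat.card (zpowers (b ^ i)) := by
    rw [Nat.card_zpowers, Nat.card_zpowers, orderOf_eq_prime hb hb1,
      orderOf_eq_prime (by rw [← zpow_natCast, ← zpow_mul, mul_comm, zpow_mul, zpow_natCast, hb,
        one_zpow]) h1]
  exact zpowers_le.mpr h ((eq_of_le_of_card_ge hle hc).ge (mem_zpowers b))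


/-- Let G be a finite group, p a prime and Q a large p-subgroup of G: C_G(Q) ≤ Q and N_G(U) ≤ N_G(Q) for every nontrivial subgroup U of C_G(Q). Let Q ≤ G₁ ≤ G, let R be a subgroup of order prime to p normalized by G₁, and let U ≤ G₁ be a p-subgroup. If U contains a nontrivial element which is G₁-conjugate to an element of Z(Q), then C_R(U) = 1. In particular, if U is elementary abelian of order at least p² and every maximal subgroup of U contains a nontrivial element G₁-conjugate into Z(Q), then R = 1. -/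
theorem result {G : Type*} [Group G] [Finite G] {p : ℕ} [Fact p.Prime] (Q : Subgroup G) (hQp : IsPGroup p ↥Q) (hlarge : Cfsg.IsLarge Q) (G₁ : Subgroup G) (hQG : Q ≤ G₁) (R : Subgroup G) (hR : (Nat.card ↥R).Coprime p) (hGR : G₁ ≤ Subgroup.normalizer (R : Set G)) (U : Subgroup G) (hUG : U ≤ G₁) (hUp : IsPGroup p ↥U) : ((∃ x ∈ U, x ≠ 1 ∧ ∃ g ∈ G₁, g * x * g⁻¹ ∈ Q ⊓ Subgroup.centralizer (Q : Set G)) → R ⊓ Subgroup.centralizer (U : Set G) = ⊥) ∧ (Cfsg.IsElementaryAbelian p U → p ^ 2 ≤ Nat.card ↥U → (∀ U₀ : Subgroup G, U₀ ≤ U → IsCoatom (U₀.subgroupOf U) → ∃ x ∈ U₀, x ≠ 1 ∧ ∃ g ∈ G₁, g * x * g⁻¹ ∈ Q ⊓ Subgroup.centralizer (Q : Set G)) → R = ⊥) := by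
  refine ⟨inf_centralizer_eq_bot hQp hlarge hQG hR hGR, fun hE hp2 hmax => ?_⟩
  have hp := (Fact.out : p.Prime)
  have hUC := le_centralizer_iff_isMulCommutative.mpr hE.1
  have hmax' : ∀ U₀ : Subgroup G, U₀ ≤ U → IsCoatom (U₀.subgroupOf U) →
      R ⊓ centralizer (U₀ : Set G) = ⊥ :=
    fun U₀ h1 h2 => inf_centralizer_eq_bot hQp hlarge hQG hR hGR (hmax U₀ h1 h2)
  suffices key : ∀ (m : ℕ) (A : Subgroup G), A ≤ U → Nat.card U - Nat.card A = m →
      R ⊓ centralizer (A : Set G) = ⊥ by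
    have := key _ ⊥ bot_le rfl
    rwa [show centralizer ((⊥ : Subgroup G) : Set G) = ⊤ by
      rw [coe_bot]; exact centralizer_eq_top_iff_subset.mpr (by simp), inf_top_eq] at this
  intro m
  induction m using Nat.strong_induction_on with
  | _ m ih =>
  intro A hA hm
  by_cases hex : ∃ b ∈ U, b ∉ A ∧ ∃ c ∈ U, c ∉ A ⊔ zpowers b
  · obtain ⟨b, hb, hbA, c, hc, hcA⟩ := hex
    set B := zpowers b ⊔ zpowers c
    have hBU : B ≤ U := sup_le (zpowers_le.mpr hb) (zpowers_le.mpr hc)
    have hset := CfsgLib.LocalEven50.coe_sup_eq_mul_of_le_centralizer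
      (H := zpowers b) (K := zpowers c)
      ((zpowers_le.mpr hb).trans (hUC.trans (centralizer_le (zpowers_le.mpr hc))))
    haveI : IsMulCommutative B := le_centralizer_iff_isMulCommutative.mp
      (hBU.trans (hUC.trans (centralizer_le hBU)))
    have hBA : ∀ y ∈ B, y ∈ A → y = 1 := by
      intro y hy hyA
      obtain ⟨_, hu, _, hv, rfl⟩ := hset.le hy
      obtain ⟨i, rfl⟩ := mem_zpowers_iff.mp hu
      obtain ⟨j, rfl⟩ := mem_zpowers_iff.mp hv
      simp only at hyA ⊢
      have hj : c ^ j ∈ A ⊔ zpowers b := by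
        have := mul_mem (inv_mem (mem_sup_right (zpow_mem (mem_zpowers b) i) :
          b ^ i ∈ A ⊔ zpowers b)) (mem_sup_left hyA)
        rwa [inv_mul_cancel_left] at this
      rw [eq_one_of_zpow_mem (hE.2 c hc) hcA hj, mul_one] at hyA ⊢
      exact eq_one_of_zpow_mem (hE.2 b hb) hbA hyA
    have hBc : ¬ IsCyclic B := by
      intro hcyc
      obtain ⟨s, hs⟩ := (Subgroup.isCyclic_iff_exists_zpowers_eq_top B).mp hcyc
      have hs1 : orderOf s ≤ p :=
        orderOf_le_of_pow_eq_one hp.pos (hE.2 s (hBU (hs.le (mem_zpowers s))))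
      have hb1 : orderOf b = p :=
        orderOf_eq_prime (hE.2 b hb) (fun h => hbA (h ▸ A.one_mem))
      have : zpowers b = B := eq_of_le_of_card_ge le_sup_left (by
        rw [← hs, Nat.card_zpowers, Nat.card_zpowers, hb1]; exact hs1)
      exact hcA (mem_sup_right (this.ge (mem_sup_right (mem_zpowers c))))
    have hAcent : B ≤ centralizer ((A : Subgroup G) : Set G) :=
      hBU.trans (hUC.trans (centralizer_le hA))
    refine le_bot_iff.mp (CfsgLib.Coprime.le_of_forall_inf_centralizer_le hBc ?_ ?_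
      (fun a ha ha1 => ?_))
    · intro a ha
      refine mem_normalizer_iff.mpr fun r => ?_
      have hn := mem_normalizer_iff.mp (hGR (hUG (hBU ha))) r
      have hn' := mem_normalizer_iff.mp (le_normalizer (hAcent ha)) r
      exact Iff.and hn hn'
    · obtain ⟨k, hk⟩ := IsPGroup.iff_card.mp (hUp.to_le hBU)
      rw [hk]
      exact ((hR.coprime_dvd_left (card_dvd_of_le inf_le_left)).pow_right k).symm
    · have hlt : Nat.card U - Nat.card ↥(A ⊔ zpowers a) < m := by
        have h1 : Nat.card A < Nat.card ↥(A ⊔ zpowers a) := by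
          refine lt_of_le_of_ne (card_le_of_le le_sup_left) fun h => ha1 (hBA a ha ?_)
          exact (eq_of_le_of_card_ge le_sup_left h.ge).ge (mem_sup_right (mem_zpowers a))
        have h2 := card_le_of_le (sup_le hA (zpowers_le.mpr (hBU ha)))
        omega
      rw [← ih _ hlt (A ⊔ zpowers a) (sup_le hA (zpowers_le.mpr (hBU ha))) rfl,
        CfsgLib.LocalEven50.centralizer_sup_eq, ← inf_assoc]
      refine inf_le_inf_left _ ?_
      intro r hr
      refine mem_centralizer_iff.mpr fun w hw => ?_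
      obtain ⟨i, rfl⟩ := mem_zpowers_iff.mp hw
      exact Commute.zpow_left (mem_centralizer_iff.mp hr a rfl) i
  · push Not at hex
    by_cases hAU : A = U
    · obtain ⟨U₀, hU₀, -⟩ : ∃ U₀, IsCoatom U₀ ∧ (⊥ : Subgroup U) ≤ U₀ := by
        refine (eq_top_or_exists_le_coatom (⊥ : Subgroup U)).resolve_left fun h => ?_
        have hU1 : Nat.card U = 1 := by rw [← card_top (G := U), ← h, card_bot]
        have : 1 < p ^ 2 := Nat.one_lt_pow two_ne_zero hp.one_lt
        omega
      refine le_bot_iff.mp ((inf_le_inf_left R ?_).trans (hmax' (U₀.map U.subtype)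
        (map_subtype_le _) ?_).le)
      · exact centralizer_le (hAU ▸ map_subtype_le U₀)
      · rwa [subgroupOf, comap_map_eq_self_of_injective U.subtype_injective]
    refine hmax' A hA ⟨fun h => hAU (le_antisymm hA (subgroupOf_eq_top.mp h)), fun K hK => ?_⟩
    obtain ⟨⟨b, hb⟩, hbK, hbA⟩ := SetLike.exists_of_lt hK
    rw [eq_top_iff]
    rintro ⟨c, hc⟩ -
    have : A ⊔ zpowers b ≤ K.map U.subtype :=
      sup_le (by
        intro a ha
        exact ⟨⟨a, hA ha⟩, hK.le (mem_subgroupOf.mpr ha), rfl⟩)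
        (zpowers_le.mpr ⟨_, hbK, rfl⟩)
    obtain ⟨k, hk, hke⟩ := this (hex b hb (fun h => hbA (mem_subgroupOf.mpr h)) c hc)
    rwa [show (⟨c, hc⟩ : U) = k from Subtype.ext hke.symm]

end Cfsg.Agent.S3003
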