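import Cfsg.Statements.S3006
import Cfsg.Agent.LocalEven50.MinimalCentrallyLarge

set_option autoImplicit false
open scoped Pointwise
open Cfsg

namespace Cfsg.Agent.S3006

open CfsgLib.LocalEven50 Subgroup
open scoped Pointwise


/-- Let P be a finite p-group, Q a centrally large subgroup of P (|Q|·|Z(Q)| maximal among subgroups of P) and A an abelian subgroup of P of largest order. Then QA = AQ is a centrally large subgroup of P, C_{QA}(Q ∩ A) = Z(Q)·A, and the subgroup generated by all centrally large subgroups of P contains C_P(Z(J(P))), where J(P) is generated by the abelian subgroups of largest order. -/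
theorem result {p : ℕ} [Fact p.Prime] (P : Type*) [Group P] [Finite P] (hP : IsPGroup p P) (Q A : Subgroup P) (hQ : Cfsg.IsCentrallyLarge Q) (hA : A ∈ Cfsg.maxAbelianSubgroups P) : ((Q ⊔ A : Subgroup P) : Set P) = (Q : Set P) * (A : Set P) ∧ Cfsg.IsCentrallyLarge (Q ⊔ A) ∧ (Q ⊔ A) ⊓ Subgroup.centralizer ((Q ⊓ A : Subgroup P) : Set P) = (Q ⊓ Subgroup.centralizer (Q : Set P)) ⊔ A ∧ (((Q ⊓ Subgroup.centralizer (Q : Set P)) ⊔ A : Subgroup P) : Set P) = ((Q ⊓ Subgroup.centralizer (Q : Set P)) : Set P) * (A : Set P) ∧ Subgroup.centralizer ((Cfsg.thompsonSubgroupA P ⊓ Subgroup.centralizer (Cfsg.thompsonSubgroupA P : Set P) : Subgroup P) : Set P) ≤ Cfsg.centrallyLargeJoin P := by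
  obtain ⟨hQ1, hQ2⟩ := isCentrallyLarge_iff.mp hQ
  obtain ⟨hp, hL, hB⟩ := centrallyLarge_sup_maxAbelian hQ hA
  have hcoe : ((Q : Set P) ⊓ (centralizer (Q : Set P) : Set P)) = centralizer (Q : Set P) :=
    inf_eq_right.mpr hQ2
  rw [inf_eq_right.mpr hQ2, hcoe]
  have hAA := le_centralizer_iff_isMulCommutative.mpr hA.1
  have h1 : centralizer (Q : Set P) ⊔ A ≤ (Q ⊔ A) ⊓ centralizer ((Q ⊓ A : Subgroup P) : Set P) :=
    sup_le (le_inf (hQ2.trans le_sup_left) (centralizer_le (inf_le_left (a := Q) (b := A))))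
      (le_inf le_sup_right (hAA.trans (centralizer_le (inf_le_right (a := Q) (b := A)))))
  have h2 : (((Q ⊔ A) ⊓ centralizer ((Q ⊓ A : Subgroup P) : Set P) : Subgroup P) : Set P) ⊆
      (centralizer (Q : Set P) : Set P) * (A : Set P) := by
    intro y hy
    obtain ⟨q, hq, a, ha, rfl⟩ := hp.le hy.1
    have hq' : q ∈ (Q ⊓ A) ⊔ centralizer (Q : Set P) := by
      rw [← centralizer_maxAbelian hB, centralizer_sup_eq]
      have hyC : q * a ∈ centralizer ((Q ⊓ A : Subgroup P) : Set P) := hy.2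
      have haC : a ∈ centralizer ((Q ⊓ A : Subgroup P) : Set P) := (h1 (mem_sup_right ha)).2
      exact mem_inf.mpr
        ⟨(mul_mem_cancel_right haC).mp hyC, le_centralizer_centralizer Q hq⟩
    obtain ⟨d, hd, z, hz, rfl⟩ :=
      (coe_sup_eq_mul_of_le_centralizer (inf_le_left.trans (le_centralizer_centralizer Q))).le hq'
    exact ⟨z, hz, d * a, mul_mem hd.2 ha, by
      simp only
      rw [← mul_assoc, ← (mem_centralizer_iff.mp hz d hd.1)]⟩
  have h3 : (((centralizer (Q : Set P)) ⊔ A : Subgroup P) : Set P) =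
      (centralizer (Q : Set P) : Set P) * (A : Set P) := by
    refine le_antisymm (fun y hy => h2 (h1 hy)) ?_
    rintro _ ⟨z, hz, a, ha, rfl⟩
    exact mul_mem (mem_sup_left hz) (mem_sup_right ha)
  refine ⟨hp, hL, le_antisymm (fun y hy => h3.ge (h2 hy)) h1, h3, ?_⟩
  refine (centralizer_center_thompsonSubgroupA_le hQ).trans (sup_le (le_sSup hQ) (sSup_le ?_))
  exact fun B hB' => le_sup_right.trans (le_sSup (centrallyLarge_sup_maxAbelian hQ hB').2.1)

end Cfsg.Agent.S3006
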