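import Cfsg.Statements.S3008
import Cfsg.Agent.LocalEven50.MinimalCentrallyLarge

set_option autoImplicit false
open Cfsg

namespace Cfsg.Agent.S3008

open CfsgLib.LocalEven50 Subgroup
open scoped Pointwise


/-- Let P be a finite p-group, with J(P) generated by its abelian subgroups of largest order and J̃(P) = C_P(Z(J(P))); call R ≤ P centrally large if |R|·|Z(R)| is as large as possible, and let P_MCL be generated by the minimal centrally large subgroups. Then: for every centrally large Q, Q·J(P) ⊇ J̃(P); some minimal centrally large subgroup of P is normalized by both J(P) and P_MCL; if P = J(P) and d(P)² = |P|·|Z(P)|, where d(P) is the largest order of an abelian subgroup, then every minimal centrally large subgroup of P is abelian; and if every minimal centrally large subgroup is abelian then J̃(P) = J(P). -/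
theorem result {p : ℕ} [Fact p.Prime] (P : Type*) [Group P] [Finite P] (hP : IsPGroup p P) : (∀ Q : Subgroup P, Cfsg.IsCentrallyLarge Q → Subgroup.centralizer ((Cfsg.thompsonSubgroupA P ⊓ Subgroup.centralizer (Cfsg.thompsonSubgroupA P : Set P) : Subgroup P) : Set P) ≤ Q ⊔ Cfsg.thompsonSubgroupA P) ∧ (∃ Q : Subgroup P, Cfsg.IsMinimalCentrallyLarge Q ∧ Cfsg.thompsonSubgroupA P ≤ Subgroup.normalizer (Q : Set P) ∧ Cfsg.minimalCentrallyLargeJoin P ≤ Subgroup.normalizer (Q : Set P)) ∧ (Cfsg.thompsonSubgroupA P = ⊤ → (∀ A ∈ Cfsg.maxAbelianSubgroups P, Nat.card ↥A ^ 2 = Nat.card P * Nat.card ↥(Subgroup.center P)) → ∀ Q : Subgroup P, Cfsg.IsMinimalCentrallyLarge Q → IsMulCommutative ↥Q) ∧ ((∀ Q : Subgroup P, Cfsg.IsMinimalCentrallyLarge Q → IsMulCommutative ↥Q) → Subgroup.centralizer ((Cfsg.thompsonSubgroupA P ⊓ Subgroup.centralizer (Cfsg.thompsonSubgroupA P : Set P) : Subgroup P) : Set P) = Cfsg.thompsonSubgroupA P) := by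
  haveI := hP.isNilpotent
  refine ⟨fun Q hQ => centralizer_center_thompsonSubgroupA_le hQ,
    exists_normalized_minimalCentrallyLarge, fun hJ hsq Q hQ => ?_, fun hall => ?_⟩
  · obtain ⟨R₀, hR₀⟩ := exists_isCentrallyLarge (G := P)
    have htop : IsCentrallyLarge (⊤ : Subgroup P) := by
      have := centrallyLarge_sup_thompsonSubgroupA hR₀
      rwa [hJ, sup_top_eq] at this
    obtain ⟨htop1, -⟩ := isCentrallyLarge_iff.mp htop
    obtain ⟨A, hA⟩ := exists_maxAbelian (G := P)
    have hM : Nat.card A * Nat.card A = maxCentralizerProduct P := by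
      rw [← sq, hsq A hA, ← htop1, card_top, coe_top, centralizer_univ]
    have hAL : IsCentrallyLarge A := by
      refine isCentrallyLarge_iff.mpr ⟨?_, (centralizer_maxAbelian hA).le⟩
      show _ = _
      rw [centralizer_maxAbelian hA]
      exact hM
    obtain ⟨R, hRA, hR⟩ := exists_minimalCentrallyLarge_le hAL
    have hRR : ⁅R, R⁆ = ⊥ := by
      rw [commutator_eq_bot_iff_le_centralizer]
      exact hRA.trans ((le_centralizer_iff_isMulCommutative.mpr hA.1).trans (centralizer_le hRA))
    rw [← le_centralizer_iff_isMulCommutative, ← commutator_eq_bot_iff_le_centralizer,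
      commutator_eq_of_minimalCentrallyLarge hQ hR, hRR]
  · obtain ⟨R₀, hR₀⟩ := exists_isCentrallyLarge (G := P)
    obtain ⟨Q, -, hQ⟩ := exists_minimalCentrallyLarge_le hR₀
    obtain ⟨hQ1, hQ2⟩ := isCentrallyLarge_iff.mp hQ.1
    have hQA : Q ≤ thompsonSubgroupA P := by
      refine le_sSup ⟨hall Q hQ, fun B hB => Nat.mul_self_le_mul_self_iff.mp ?_⟩
      have hQC : centralizer (Q : Set P) = Q :=
        le_antisymm hQ2 (le_centralizer_iff_isMulCommutative.mpr (hall Q hQ))
      calc Nat.card B * Nat.card B ≤ Nat.card B * Nat.card (centralizer (B : Set P)) :=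
            Nat.mul_le_mul_left _ (card_le_of_le (le_centralizer_iff_isMulCommutative.mpr hB))
        _ ≤ maxCentralizerProduct P := le_maxCentralizerProduct B
        _ = Nat.card Q * Nat.card Q := by rw [← hQ1, hQC]
    refine le_antisymm ((centralizer_center_thompsonSubgroupA_le hQ.1).trans
      (sup_le hQA le_rfl)) ?_
    exact le_centralizer_iff.mp inf_le_right

end Cfsg.Agent.S3008
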