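import Cfsg.Statements.S3009
import Cfsg.Agent.LocalEven50.SL2Natural

set_option autoImplicit false
open Cfsg

namespace Cfsg.Agent.S3009

open Subgroup CfsgLib.LocalEven50
open scoped MatrixGroups


/-- Let p be a prime and let G and V be subgroups of a finite group with V elementary abelian and normalized by G, and G isomorphic to SL₂(F) for a finite field F with pⁿ elements. Suppose G acts irreducibly and nontrivially on V by conjugation (no G-invariant subgroups of V other than 1 and V, and [V, G] ≠ 1), and let S be a Sylow p-subgroup of G and V₀ = C_V(S). If [V, S, S] = 1 or |V| ≤ |V₀|², then G acts on V as SL₂(F) on its natural two-dimensional module; in particular |V| = |F|². -/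
theorem result {X : Type*} [Group X] [Finite X] {p : ℕ} [Fact p.Prime] (G V : Subgroup X) (hV : Cfsg.IsElementaryAbelian p V) (hGV : G ≤ Subgroup.normalizer (V : Set X)) (F : Type) [Field F] [Fintype F] (n : ℕ) (hF : Fintype.card F = p ^ n) (hG : Nonempty (↥G ≃* Matrix.SpecialLinearGroup (Fin 2) F)) (hirr : ∀ U : Subgroup X, U ≤ V → G ≤ Subgroup.normalizer (U : Set X) → U = ⊥ ∨ U = V) (hnt : ⁅V, G⁆ ≠ ⊥) (S : Sylow p ↥G) (hyp : ⁅⁅V, (S : Subgroup ↥G).map G.subtype⁆, (S : Subgroup ↥G).map G.subtype⁆ = ⊥ ∨ Nat.card ↥V ≤ Nat.card ↥(V ⊓ Subgroup.centralizer (((S : Subgroup ↥G).map G.subtype : Subgroup X) : Set X)) ^ 2) : Cfsg.ActsAsSL2OnSection F ⊤ G V ⊥ := by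
  obtain ⟨e⟩ := hG
  have hn0 : n ≠ 0 := by
    rintro rfl
    have := Fintype.one_lt_card (α := F)
    rw [hF, pow_zero] at this
    exact lt_irrefl 1 this
  haveI : CharP F p := by
    obtain ⟨r, hr⟩ := CharP.exists F
    obtain ⟨m, hrp, hm⟩ := FiniteField.card F r
    have h : p ∣ r := (Fact.out : p.Prime).dvd_of_dvd_pow (n := (m : ℕ))
      (by rw [← hm, hF]; exact dvd_pow_self p hn0)
    rw [(Nat.prime_dvd_prime_iff_eq Fact.out hrp).mp h]
    exact hr
  -- a root group inside `S`
  set W := ((upperHom F).range).map e.symm.toMonoidHom with hW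
  have hWp : IsPGroup p W := by
    refine IsPGroup.map ?_ _
    rw [MonoidHom.range_eq_map]
    refine IsPGroup.map (fun u => ⟨1, Subtype.ext ?_⟩) _
    apply Multiplicative.toAdd.injective
    show p ^ 1 • (u : Multiplicative F).toAdd = 0
    simp
  obtain ⟨P, hP⟩ := hWp.exists_le_sylow
  obtain ⟨g, hg⟩ := MulAction.exists_smul_eq (↥G) P S
  set σ := e.symm.trans (MulAut.conj g) with hσ
  set θ : SL(2, F) →* X := G.subtype.comp σ.toMonoidHom with hθ
  have hrange : θ.range = G := by
    rw [hθ, MonoidHom.range_comp, MonoidHom.range_eq_top.mpr σ.surjective,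
      ← MonoidHom.range_eq_map, range_subtype]
  have hU : (upperHom F).range.map θ ≤ (S : Subgroup ↥G).map G.subtype := by
    rw [hθ, ← map_map]
    refine map_mono ?_
    rintro _ ⟨u, hu, rfl⟩
    rw [← hg, Sylow.coe_subgroup_smul]
    exact ⟨e.symm u, hP ⟨u, hu, rfl⟩, rfl⟩
  obtain ⟨ψ, hψ⟩ := exists_natural θ hV (hrange.le.trans hGV)
    (fun U hU hn => hirr U hU (hrange.ge.trans hn)) (hrange.symm ▸ hnt) (by
      rcases hyp with h | h
      · exact Or.inl (le_bot_iff.mp
          ((commutator_mono (commutator_mono le_rfl hU) hU).trans h.le))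
      · exact Or.inr (h.trans (Nat.pow_le_pow_left
          (card_le_of_le (inf_le_inf_left V (centralizer_le hU))) 2)))
  refine ⟨hGV, bot_le, σ.symm.toMonoidHom, ψ.toMonoidHom,
    MonoidHom.range_eq_top.mpr σ.symm.surjective, ψ.surjective, fun u => ?_, fun x v => ?_⟩
  · rw [mem_bot]
    exact (ψ.map_eq_one_iff).trans ⟨fun h => congrArg Subtype.val h, fun h => Subtype.ext h⟩
  · refine ⟨⟨(x : X) * v * (x : X)⁻¹, (mem_normalizer_iff.mp (hGV x.2) v).mp v.2⟩, rfl,
      hψ (σ.symm x) v _ ?_⟩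
    show (x : X) * v * (x : X)⁻¹ = ((σ (σ.symm x) : ↥G) : X) * v * ((σ (σ.symm x) : ↥G) : X)⁻¹
    rw [σ.apply_symm_apply]

end Cfsg.Agent.S3009
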