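import Cfsg.Statements.S3012

set_option autoImplicit false
open Cfsg

namespace Cfsg.Agent.S3012

/-- Let G be a finite group, V a nontrivial elementary abelian 2-subgroup of G satisfying the Sidki pair condition (every odd-order element inverted by an element of V commutes with a nontrivial element of V), and K a normal subgroup of G with V ∩ K = 1. Then the image of V in G/K satisfies the Sidki pair condition in G/K. -/
theorem result {G : Type*} [Group G] [Finite G] (V K : Subgroup G) [K.Normal] (hV : Cfsg.IsElementaryAbelian 2 V) (hV1 : V ≠ ⊥) (hS : Cfsg.IsSidkiPair V) (hVK : V ⊓ K = ⊥) : Cfsg.IsSidkiPair (V.map (QuotientGroup.mk' K)) := by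
  rintro hbar _ ⟨v, hv, rfl⟩ hodd hinv
  obtain ⟨g, hg⟩ := QuotientGroup.mk'_surjective K hbar
  set f := QuotientGroup.mk' K with hf
  have hv2 : v * v = 1 := by rw [← pow_two]; exact hV.2 v hv
  have hvi : v⁻¹ = v := inv_eq_of_mul_eq_one_right hv2
  -- `u = v (g v g⁻¹)` is inverted by `v` and maps onto `(hbar)⁻²`
  set u := v * (g * v * g⁻¹) with hu
  have huv : v * u * v⁻¹ = u⁻¹ := by
    have hw : (g * v * g⁻¹)⁻¹ = g * v * g⁻¹ := by simp [mul_assoc, hvi]
    rw [hu, mul_inv_rev, hw, hvi,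
      show v * (v * (g * v * g⁻¹)) * v = (v * v) * (g * v * g⁻¹) * v by group, hv2, one_mul]
  have hfu : f u = hbar⁻¹ * hbar⁻¹ := by
    have h1 : f v * hbar * (f v)⁻¹ = hbar⁻¹ := hinv
    have h2 : f v * (f v)⁻¹ = 1 := mul_inv_cancel _
    have h3 : (f v)⁻¹ = f v := by rw [← map_inv, hvi]
    rw [hu]
    simp only [map_mul, map_inv, hg]
    calc f v * (hbar * f v * hbar⁻¹)
        = (f v * hbar * (f v)⁻¹) * (f v * f v) * hbar⁻¹ := by group
      _ = hbar⁻¹ * hbar⁻¹ := by rw [h1, ← map_mul, hv2, map_one, mul_one]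
  -- pass to the odd part
  obtain ⟨a, m, hm, ham⟩ : ∃ a m : ℕ, Odd m ∧ orderOf u = 2 ^ a * m := by
    obtain ⟨a, m, hm, h⟩ := Nat.exists_eq_two_pow_mul_odd (orderOf_pos u).ne'
    exact ⟨a, m, hm, h⟩
  have hord : Odd (orderOf (u ^ 2 ^ a)) := by
    rw [orderOf_pow' u (pow_ne_zero a two_ne_zero), Nat.gcd_eq_right (ham ▸ dvd_mul_right _ _),
      ham, Nat.mul_div_cancel_left _ (by positivity)]
    exact hm
  obtain ⟨w, hwV, hw1, hwu⟩ := hS (u ^ 2 ^ a) v hv hord (by
    rw [← conj_pow, huv, inv_pow])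
  refine ⟨f w, Subgroup.mem_map_of_mem f hwV, fun hfw => hw1 ?_, ?_⟩
  · have : w ∈ V ⊓ K := ⟨hwV, (QuotientGroup.eq_one_iff w).mp hfw⟩
    rwa [hVK, Subgroup.mem_bot] at this
  · have hc : Commute (f w) (f (u ^ 2 ^ a)) := (show Commute w (u ^ 2 ^ a) from hwu).map f
    rw [map_pow, hfu, ← pow_two, ← pow_mul, inv_pow] at hc
    replace hc := hc.inv_right
    rw [inv_inv] at hc
    obtain ⟨k, hk⟩ := exists_pow_eq_self_of_coprime
      (show Nat.Coprime (2 * 2 ^ a) (orderOf hbar) by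
        rw [← pow_succ']
        exact (Nat.coprime_two_left.mpr hodd).pow_left _)
    have := hc.pow_right k
    rw [hk] at this
    exact this.eq

end Cfsg.Agent.S3012
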