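import Cfsg.Statements.S3013

set_option autoImplicit false
open Cfsg

namespace Cfsg.Agent.S3013

/-- Let G be a finite group and V a nontrivial elementary abelian 2-subgroup of G satisfying the Sidki pair condition. Let v ∈ V and let x be an element of odd order inverted by v, and put C = C_G(v) ∩ C_G(x), the centralizer of the dihedral subgroup generated by v and x. Then C ∩ V is nontrivial and satisfies the Sidki pair condition inside C: every odd-order element of C inverted by an element of C ∩ V commutes with a nontrivial element of C ∩ V. -/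
theorem result {G : Type*} [Group G] [Finite G] (V : Subgroup G) (hV : Cfsg.IsElementaryAbelian 2 V) (hV1 : V ≠ ⊥) (hS : Cfsg.IsSidkiPair V) (v x : G) (hv : v ∈ V) (hx : Odd (orderOf x)) (hinv : v * x * v⁻¹ = x⁻¹) (C : Subgroup G) (hC : C = Subgroup.centralizer ({v} : Set G) ⊓ Subgroup.centralizer ({x} : Set G)) : C ⊓ V ≠ ⊥ ∧ Cfsg.IsSidkiPair ((C ⊓ V).subgroupOf C) := by
  have key : ∀ h : G, h ∈ C → ∀ u : G, u ∈ V → u ∈ C → Odd (orderOf h) → u * h * u⁻¹ = h⁻¹ →
      ∃ w ∈ V, w ∈ C ∧ w ≠ 1 ∧ w * h = h * w := by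
    intro h hhC u huV huC hodd hinvh
    rw [hC, Subgroup.mem_inf, Subgroup.mem_centralizer_singleton_iff,
      Subgroup.mem_centralizer_singleton_iff] at hhC huC
    have hhx : Commute h x := hhC.2
    have hho : Odd (orderOf (h * x)) := by
      obtain ⟨c, hc⟩ := hhx.orderOf_mul_dvd_lcm.trans (Nat.lcm_dvd_mul _ _)
      exact (Nat.odd_mul.mp (hc ▸ hodd.mul hx)).1
    have hinv2 : (v * u) * (h * x) * (v * u)⁻¹ = (h * x)⁻¹ := by
      have e1 : u * x * u⁻¹ = x := by rw [huC.2]; group
      have e2 : v * h⁻¹ * v⁻¹ = h⁻¹ := by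
        have := (show Commute h v from hhC.1).symm.inv_right.eq
        rw [this]; group
      calc (v * u) * (h * x) * (v * u)⁻¹
          = v * ((u * h * u⁻¹) * (u * x * u⁻¹)) * v⁻¹ := by group
        _ = (v * h⁻¹ * v⁻¹) * (v * x * v⁻¹) := by rw [hinvh, e1]; group
        _ = (h * x)⁻¹ := by rw [e2, hinv, mul_inv_rev]; exact (hhx.inv_inv).eq
    obtain ⟨w, hwV, hw1, hw⟩ := hS (h * x) (v * u) (V.mul_mem hv huV) hho hinv2
    have hwv : Commute w v := congrArg Subtype.val (hV.1.is_comm.comm ⟨w, hwV⟩ ⟨v, hv⟩)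
    have hwy : Commute w (h * x) := hw
    have hwy' : Commute w (v * (h * x) * v⁻¹) :=
      (hwv.mul_right hwy).mul_right hwv.inv_right
    have hxx : Commute w (x * x) := by
      have e : x * x = (v * (h * x) * v⁻¹)⁻¹ * (h * x) := by
        have e2 : v * h * v⁻¹ = h := by rw [← hhC.1]; group
        calc x * x = (h * x⁻¹)⁻¹ * (h * x) := by group
          _ = _ := by
            rw [show v * (h * x) * v⁻¹ = (v * h * v⁻¹) * (v * x * v⁻¹) by group, e2, hinv]
      rw [e]
      exact hwy'.inv_right.mul_right hwy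
    have hwx : Commute w x := by
      rw [← pow_two] at hxx
      obtain ⟨k, hk⟩ := exists_pow_eq_self_of_coprime (Nat.coprime_two_left.mpr hx)
      have := hxx.pow_right k
      rwa [hk] at this
    have hwh : Commute w h := by
      have := hwy.mul_right hwx.inv_right
      rwa [mul_inv_cancel_right] at this
    refine ⟨w, hwV, ?_, hw1, hwh⟩
    rw [hC, Subgroup.mem_inf, Subgroup.mem_centralizer_singleton_iff,
      Subgroup.mem_centralizer_singleton_iff]
    exact ⟨hwv, hwx⟩
  refine ⟨fun hbot => ?_, ?_⟩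
  · obtain ⟨w, hwV, hwC, hw1, -⟩ := key 1 C.one_mem 1 V.one_mem C.one_mem (by simp) (by simp)
    have : w ∈ C ⊓ V := ⟨hwC, hwV⟩
    rw [hbot, Subgroup.mem_bot] at this
    exact hw1 this
  · rintro ⟨h, hh⟩ ⟨u, hu⟩ huCV hodd hinvh
    rw [Subgroup.mem_subgroupOf] at huCV
    obtain ⟨w, hwV, hwC, hw1, hwh⟩ := key h hh u huCV.2 hu (by rwa [Subgroup.orderOf_mk] at hodd)
      (congrArg Subtype.val hinvh)
    exact ⟨⟨w, hwC⟩, Subgroup.mem_subgroupOf.mpr ⟨hwC, hwV⟩, fun h => hw1 (congrArg Subtype.val h),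
      Subtype.ext hwh⟩

end Cfsg.Agent.S3013
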