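import Cfsg.Statements.S3014
import Cfsg.Agent.LocalEven50.WielandtTransfer

set_option autoImplicit false
open Cfsg

namespace Cfsg.Agent.S3014

open Subgroup in
/-- Either the conclusion holds through a normal `T`, or `M ⊓ g M g⁻¹` lies in `H`. -/
theorem normalizer_sup_conj {G : Type*} [Group G] {H M : Subgroup G}
    (hHn : M ≤ normalizer (H : Set G)) (hmaxH : IsCoatom (H.subgroupOf M))
    (hHM : H ≤ M) {g m : G} (hT : (H ⊔ H.map (MulAut.conj g).toMonoidHom) ⊓ M = H)
    (hm : m ∈ M) (hgm : g⁻¹ * m * g ∈ M) (hmH : m ∉ H) :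
    M ≤ normalizer ((H ⊔ H.map (MulAut.conj g).toMonoidHom : Subgroup G) : Set G) := by
  set T := H ⊔ H.map (MulAut.conj g).toMonoidHom with hTdef
  set L := M ⊓ normalizer (T : Set G) with hL
  have hmT : m ∈ normalizer (T : Set G) := by
    have e1 : H.map (MulAut.conj m).toMonoidHom = H := mem_normalizer_iff_map_conj_eq.mp (hHn hm)
    have e2 : H.map (MulAut.conj (g⁻¹ * m * g)).toMonoidHom = H :=
      mem_normalizer_iff_map_conj_eq.mp (hHn hgm)
    rw [mem_normalizer_iff_map_conj_eq]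
    show T.map (MulAut.conj m).toMonoidHom = T
    rw [hTdef, Subgroup.map_sup, e1]
    congr 1
    conv_rhs => rw [← e2]
    rw [map_map, map_map]
    congr 1
    ext y
    simp [mul_assoc]
  have hHL : H.subgroupOf M < L.subgroupOf M := by
    refine SetLike.lt_iff_le_and_exists.mpr ⟨fun z hz => ?_, ⟨m, hm⟩, ?_, fun h => hmH h⟩
    · exact mem_subgroupOf.mpr ⟨z.2, le_normalizer (le_sup_left (b := H.map _) hz)⟩
    · exact mem_subgroupOf.mpr ⟨hm, hmT⟩
  intro z hz
  exact (mem_subgroupOf.mp ((hmaxH.2 _ hHL).ge (mem_top (⟨z, hz⟩ : ↥M)))).2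


/-- Let G be a finite group and H ≤ M ≤ G subgroups such that for every g ∈ G the subgroup generated by H and g H g⁻¹ meets M exactly in H. If H is a maximal subgroup of M and M is a maximal subgroup of G, then the normal closure of H in G meets M exactly in H. -/
theorem result {G : Type*} [Group G] [Finite G] (H M : Subgroup G) (hHM : H ≤ M) (hcl : ∀ g : G, (H ⊔ H.map (MulAut.conj g).toMonoidHom) ⊓ M = H) (hmaxH : IsCoatom (H.subgroupOf M)) (hmaxM : IsCoatom M) : Subgroup.normalClosure (H : Set G) ⊓ M = H := by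
  have hHn : M ≤ Subgroup.normalizer (H : Set G) := by
    have h : ∀ m ∈ M, ∀ z ∈ H, m * z * m⁻¹ ∈ H := by
      intro m hm z hz
      rw [← hcl m]
      exact ⟨le_sup_right (a := H) ⟨z, hz, rfl⟩, M.mul_mem (M.mul_mem hm (hHM hz)) (M.inv_mem hm)⟩
    intro m hm
    refine Subgroup.mem_normalizer_iff.mpr fun z => ⟨h m hm z, fun hz => ?_⟩
    simpa [mul_assoc] using h m⁻¹ (M.inv_mem hm) _ hz
  have hge : H ≤ Subgroup.normalClosure (H : Set G) ⊓ M :=
    le_inf Subgroup.le_normalClosure hHM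
  refine le_antisymm ?_ hge
  suffices hK : ∃ K : Subgroup G, K.Normal ∧ H ≤ K ∧ K ⊓ M ≤ H by
    obtain ⟨K, hKn, hHK, hKM⟩ := hK
    exact (inf_le_inf_right M (Subgroup.normalClosure_le_normal hHK)).trans hKM
  by_cases hN : Subgroup.normalizer (H : Set G) = ⊤
  · exact ⟨H, Subgroup.normalizer_eq_top_iff.mp hN, le_rfl, inf_le_left⟩
  have hNM : Subgroup.normalizer (H : Set G) = M := ((hmaxM.le_iff.mp hHn).resolve_left hN)
  by_cases hbad : ∃ g : G, g ∉ M ∧ ∃ m ∈ M, g⁻¹ * m * g ∈ M ∧ m ∉ H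
  · obtain ⟨g, hg, m, hm, hgm, hmH⟩ := hbad
    set T := H ⊔ H.map (MulAut.conj g).toMonoidHom with hT
    have hTn : Subgroup.normalizer (T : Set G) = ⊤ := by
      refine (hmaxM.le_iff.mp (normalizer_sup_conj hHn hmaxH hHM (hcl g) hm hgm hmH)).resolve_right
        fun h => ?_
      have hTM : T ≤ M := h ▸ Subgroup.le_normalizer
      have hTH : T = H := (inf_eq_left.mpr hTM).symm.trans (hcl g)
      refine hg (hNM ▸ Subgroup.mem_normalizer_iff_map_conj_eq.mpr ?_)
      exact Subgroup.eq_of_le_of_card_ge (le_sup_right.trans hTH.le)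
        (Subgroup.card_map_of_injective (MulAut.conj g).injective).ge
    exact ⟨T, Subgroup.normalizer_eq_top_iff.mp hTn, le_sup_left, (hcl g).le⟩
  · push Not at hbad
    obtain ⟨K, hKn, hKM⟩ := CfsgLib.LocalEven50.exists_normal_inf_eq hHM
      (Subgroup.normal_subgroupOf_of_le_normalizer hHn) hmaxH
      (fun g hg m hm hgm => hbad g⁻¹ (fun h => hg (inv_mem_iff.mp h)) m hm (by rwa [inv_inv]))
    exact ⟨K, hKn, hKM.ge.trans inf_le_left, hKM.le⟩

end Cfsg.Agent.S3014
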