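import Cfsg.Statements.S3015
import Cfsg.Agent.LocalEven50.WielandtTransfer
import Cfsg.Agent.LocalEven50.Basic

set_option autoImplicit false
open Cfsg

namespace Cfsg.Agent.S3015

open Subgroup in
/-- Either the conclusion holds through a normal `T`, or `M ⊓ g M g⁻¹` lies in `H`. -/
theorem normalizer_sup_conj {G : Type*} [Group G] {H M : Subgroup G}
    (hHn : M ≤ normalizer (H : Set G)) (hmaxH : IsCoatom (H.subgroupOf M))
    (hHM : H ≤ M) {g m : G} (hT : (H ⊔ H.map (MulAut.conj g).toMonoidHom) ⊓ M = H)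
    (hm : m ∈ M) (hgm : g⁻¹ * m * g ∈ M) (hmH : m ∉ H) :
    M ≤ normalizer ((H ⊔ H.map (MulAut.conj g).toMonoidHom : Subgroup G) : Set G) := by
  set T := H ⊔ H.map (MulAut.conj g).toMonoidHom with hTdef
  set L := M ⊓ normalizer (T : Set G) with hL
  have hmT : m ∈ normalizer (T : Set G) := by
    have e1 : H.map (MulAut.conj m).toMonoidHom = H := mem_normalizer_iff_map_conj_eq.mp (hHn hm)
    have e2 : H.map (MulAut.conj (g⁻¹ * m * g)).toMonoidHom = H :=
      mem_normalizer_iff_map_conj_eq.mp (hHn hgm)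
    rw [mem_normalizer_iff_map_conj_eq]
    show T.map (MulAut.conj m).toMonoidHom = T
    rw [hTdef, Subgroup.map_sup, e1]
    congr 1
    conv_rhs => rw [← e2]
    rw [map_map, map_map]
    congr 1
    ext y
    simp [mul_assoc]
  have hHL : H.subgroupOf M < L.subgroupOf M := by
    refine SetLike.lt_iff_le_and_exists.mpr ⟨fun z hz => ?_, ⟨m, hm⟩, ?_, fun h => hmH h⟩
    · exact mem_subgroupOf.mpr ⟨z.2, le_normalizer (le_sup_left (b := H.map _) hz)⟩
    · exact mem_subgroupOf.mpr ⟨hm, hmT⟩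
  intro z hz
  exact (mem_subgroupOf.mp ((hmaxH.2 _ hHL).ge (mem_top (⟨z, hz⟩ : ↥M)))).2


/-- Let G be a finite non-abelian simple group, M a maximal subgroup of G and H a normal subgroup of M of prime index in M. Then G is generated by H together with one of its conjugates. -/
theorem result {G : Type*} [Group G] [Finite G] [IsSimpleGroup G] (hG : ¬ IsMulCommutative G) (M H : Subgroup G) (hmaxM : IsCoatom M) (hHM : H ≤ M) (hHn : (H.subgroupOf M).Normal) (hidx : (H.relIndex M).Prime) : ∃ g : G, H ⊔ H.map (MulAut.conj g).toMonoidHom = ⊤ := by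
  by_contra hno
  push Not at hno
  have hHn' : M ≤ Subgroup.normalizer (H : Set G) :=
    (Subgroup.normal_subgroupOf_iff_le_normalizer hHM).mp hHn
  have hne : H ≠ M := fun h => hidx.ne_one (by rw [h, Subgroup.relIndex_self])
  have hsimple : ∀ K : Subgroup G, K.Normal → K = ⊥ ∨ K = ⊤ := fun K hK => hK.eq_bot_or_eq_top
  have hmaxH : IsCoatom (H.subgroupOf M) := by
    refine ⟨fun h => hne (le_antisymm hHM (Subgroup.subgroupOf_eq_top.mp h)), fun L hL => ?_⟩
    have h1 := Subgroup.relIndex_mul_index hL.le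
    have h2 : L.index ∣ H.relIndex M := Dvd.intro_left _ h1
    rcases hidx.eq_one_or_self_of_dvd _ h2 with h3 | h3
    · exact Subgroup.index_eq_one.mp h3
    · exfalso
      have h4 : (H.subgroupOf M).relIndex L = 1 := by
        have h5 : 0 < H.relIndex M := hidx.pos
        have h1' : (H.subgroupOf M).relIndex L * L.index = H.relIndex M := h1
        rw [h3] at h1'
        exact Nat.eq_of_mul_eq_mul_right h5 (by rw [one_mul]; exact h1')
      exact hL.not_ge (Subgroup.relIndex_eq_one.mp h4)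
  have hMtop : M ≠ ⊤ := hmaxM.1
  have hMnot : ¬ M.Normal := by
    intro h
    rcases hsimple M h with h1 | h1
    · exact hne (le_antisymm hHM (h1 ▸ bot_le))
    · exact hMtop h1
  have hNM' : Subgroup.normalizer (M : Set G) = M :=
    (hmaxM.le_iff.mp Subgroup.le_normalizer).resolve_left
      (fun h => hMnot (Subgroup.normalizer_eq_top_iff.mp h))
  -- Wielandt: some `g ∉ M` has `M ⊓ g M g⁻¹` outside `H`
  obtain ⟨g, hg, m, hm, hgm, hmH⟩ : ∃ g : G, g ∉ M ∧ ∃ m ∈ M, g⁻¹ * m * g ∈ M ∧ m ∉ H := by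
    by_contra hbad
    push Not at hbad
    haveI := hHn
    haveI := CfsgLib.LocalEven50.isCyclic_quotient_of_isCoatom (H.subgroupOf M) hmaxH
    letI : CommGroup (↥M ⧸ H.subgroupOf M) := IsCyclic.commGroup
    obtain ⟨ψ, hψ⟩ := CfsgLib.LocalEven50.exists_extension_of_killed M
      (QuotientGroup.mk' (H.subgroupOf M)) fun g hg m hgm => (QuotientGroup.eq_one_iff m).mpr
        (hbad g⁻¹ (fun h => hg (inv_mem_iff.mp h)) m m.2 (by rwa [inv_inv]))
    rcases hsimple ψ.ker inferInstance with h | h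
    · exact hG ⟨⟨fun a b => (MonoidHom.ker_eq_bot_iff ψ).mp h (by
        rw [map_mul, map_mul, mul_comm])⟩⟩
    · refine hne (le_antisymm hHM fun x hx => ?_)
      have h1 : ψ x = 1 := h.ge (Subgroup.mem_top x)
      rw [show x = ((⟨x, hx⟩ : ↥M) : G) from rfl, hψ] at h1
      exact Subgroup.mem_subgroupOf.mp ((QuotientGroup.eq_one_iff (⟨x, hx⟩ : ↥M)).mp h1)
  have hHb : H ≠ ⊥ := by
    intro hb
    apply hg
    rw [← hNM', Subgroup.mem_normalizer_iff_map_conj_eq]
    have hc : Nat.card M = H.relIndex M := by rw [hb, Subgroup.relIndex_bot_left]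
    haveI : Fact (Nat.card M).Prime := ⟨hc ▸ hidx⟩
    have hg2 : Subgroup.zpowers m = M := by
      refine Subgroup.eq_of_le_of_card_ge (Subgroup.zpowers_le.mpr hm) ?_
      rcases (hc ▸ hidx : (Nat.card M).Prime).eq_one_or_self_of_dvd _
        (Subgroup.card_dvd_of_le (Subgroup.zpowers_le.mpr hm)) with h | h
      · exact absurd (Subgroup.mem_bot.mp
          ((Subgroup.eq_bot_of_card_eq _ h).le (Subgroup.mem_zpowers m)))
          (fun h1 => hmH (h1 ▸ H.one_mem))
      · exact h.ge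
    refine (Subgroup.eq_of_le_of_card_ge ?_
      (Subgroup.card_map_of_injective (MulAut.conj g).injective).le).symm
    conv_lhs => rw [← hg2]
    refine Subgroup.zpowers_le.mpr ⟨g⁻¹ * m * g, hgm, ?_⟩
    show g * (g⁻¹ * m * g) * g⁻¹ = m
    group
  have hNH : Subgroup.normalizer (H : Set G) = M :=
    (hmaxM.le_iff.mp hHn').resolve_left fun h => by
      rcases hsimple H (Subgroup.normalizer_eq_top_iff.mp h) with h1 | h1
      · exact hHb h1
      · exact hMtop (top_le_iff.mp (h1 ▸ hHM))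
  set T := H ⊔ H.map (MulAut.conj g).toMonoidHom with hT
  have hgH : H.map (MulAut.conj g).toMonoidHom ≠ H := fun h =>
    hg (hNH ▸ Subgroup.mem_normalizer_iff_map_conj_eq.mpr h)
  have hgH' : ¬ H.map (MulAut.conj g).toMonoidHom ≤ H := fun h => hgH
    (Subgroup.eq_of_le_of_card_ge h (Subgroup.card_map_of_injective (MulAut.conj g).injective).ge)
  by_cases hTM : T ⊓ M = H
  · have h1 := normalizer_sup_conj hHn' hmaxH hHM hTM hm hgm hmH
    rcases hmaxM.le_iff.mp h1 with h | h
    · rcases hsimple T (Subgroup.normalizer_eq_top_iff.mp h) with h2 | h2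
      · exact hHb (le_bot_iff.mp (le_sup_left.trans h2.le))
      · exact hno g h2
    · have h2 : T ≤ M := h ▸ Subgroup.le_normalizer
      rw [inf_eq_left.mpr h2] at hTM
      exact hgH' (le_sup_right.trans hTM.le)
  -- otherwise the conjugate `g H g⁻¹` lies in `M`
  have hMT : M ≤ T := by
    have hlt : H.subgroupOf M < (T ⊓ M).subgroupOf M := by
      refine lt_of_le_of_ne (Subgroup.comap_mono (le_inf le_sup_left hHM)) fun h => hTM ?_
      have := congrArg (Subgroup.map M.subtype) h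
      rwa [Subgroup.map_subgroupOf_eq_of_le hHM, Subgroup.map_subgroupOf_eq_of_le inf_le_right,
        eq_comm] at this
    exact fun z hz => (Subgroup.mem_subgroupOf.mp
      ((hmaxH.2 _ hlt).ge (Subgroup.mem_top (⟨z, hz⟩ : ↥M)))).1
  have hTeq : T = M := (hmaxM.le_iff.mp hMT).resolve_left (hno g)
  set H₁ := H.map (MulAut.conj g).toMonoidHom with hH₁
  have hH₁M : H₁ ≤ M := le_sup_right.trans hTeq.le
  set p := H.relIndex M with hp
  haveI : Fact p.Prime := ⟨hidx⟩
  -- elements of order prime to `p`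
  let A : Set G := {x | x ∈ H ∧ (orderOf x).Coprime p}
  have hA : ∀ x ∈ M, (orderOf x).Coprime p → x ∈ H := by
    intro x hx hcop
    have h1 : (⟨x, hx⟩ : ↥M) ^ p ∈ H.subgroupOf M := by
      haveI := hHn
      exact Subgroup.pow_index_mem (H.subgroupOf M) _
    obtain ⟨k, hk⟩ := exists_pow_eq_self_of_coprime hcop.symm
    rw [← hk]
    exact H.pow_mem (Subgroup.mem_subgroupOf.mp h1) k
  have hAg : ∀ x ∈ A, g * x * g⁻¹ ∈ A := fun x hx => by
    have ho : orderOf (g * x * g⁻¹) = orderOf x :=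
      orderOf_injective (MulAut.conj g).toMonoidHom (MulAut.conj g).injective x
    refine ⟨hA _ (hH₁M ⟨x, hx.1, rfl⟩) ?_, ?_⟩ <;> rw [ho] <;> exact hx.2
  have hAM : ∀ y ∈ M, ∀ x ∈ A, y * x * y⁻¹ ∈ A := fun y hy x hx => by
    have ho : orderOf (y * x * y⁻¹) = orderOf x :=
      orderOf_injective (MulAut.conj y).toMonoidHom (MulAut.conj y).injective x
    exact ⟨(Subgroup.mem_normalizer_iff.mp (hHn' hy) x).mp hx.1, by rw [ho]; exact hx.2⟩
  set K := Subgroup.closure A with hK
  have hKmap : ∀ y : G, (∀ x ∈ A, y * x * y⁻¹ ∈ A) → y ∈ Subgroup.normalizer (K : Set G) := by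
    intro y hy
    rw [Subgroup.mem_normalizer_iff_map_conj_eq]
    refine Subgroup.eq_of_le_of_card_ge ?_
      (Subgroup.card_map_of_injective (MulAut.conj y).injective).ge
    show Subgroup.map _ (Subgroup.closure A) ≤ Subgroup.closure A
    rw [MonoidHom.map_closure]
    exact Subgroup.closure_mono (Set.image_subset_iff.mpr hy)
  have hKn : K.Normal := by
    refine Subgroup.normalizer_eq_top_iff.mp
      ((hmaxM.le_iff.mp fun y hy => hKmap y (hAM y hy)).resolve_right fun h => hg ?_)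
    exact h.le (hKmap g hAg)
  have hKH : K ≤ H := (Subgroup.closure_le H).mpr fun x hx => hx.1
  have hKb : K = ⊥ := (hsimple K hKn).resolve_right fun h =>
    hMtop (top_le_iff.mp (h ▸ hKH.trans hHM))
  have hMp : IsPGroup p ↥M := by
    intro ⟨x, hx⟩
    obtain ⟨k, m', hm', hord⟩ :=
      Nat.exists_eq_pow_mul_and_not_dvd (orderOf_pos x).ne' p hidx.ne_one
    refine ⟨k, Subtype.ext ?_⟩
    have hco : (orderOf (x ^ p ^ k)).Coprime p := by
      rw [orderOf_pow' x (pow_ne_zero k hidx.ne_zero),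
        Nat.gcd_eq_right (hord ▸ dvd_mul_right _ _), hord,
        Nat.mul_div_cancel_left _ (pow_pos hidx.pos k)]
      exact ((hidx.coprime_iff_not_dvd).mpr hm').symm
    exact Subgroup.mem_bot.mp (hKb.le (Subgroup.subset_closure
      ⟨hA _ (M.pow_mem hx _) hco, hco⟩))
  have hH₁ne : H₁ ≠ M := fun h => hne (Subgroup.eq_of_le_of_card_ge hHM (by
    rw [← h, hH₁, Subgroup.card_map_of_injective (MulAut.conj g).injective]))
  obtain ⟨y, hyM, hyN, hyH⟩ :=
    CfsgLib.LocalEven50.exists_mem_normalizer_not_mem hMp hH₁M hH₁ne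
  -- `N(H₁)` contains `g M g⁻¹` and an element of `M` outside it
  have hMg : M.map (MulAut.conj g).toMonoidHom ≤ Subgroup.normalizer (H₁ : Set G) := by
    rw [← hNH]
    exact Subgroup.le_normalizer_map _
  have hMg' : IsCoatom (M.map (MulAut.conj g).toMonoidHom) :=
    (OrderIso.isCoatom_iff (MulAut.conj g).mapSubgroup M).mpr hmaxM
  rcases hMg'.le_iff.mp hMg with h | h
  · rcases hsimple H₁ (Subgroup.normalizer_eq_top_iff.mp h) with h1 | h1
    · exact hHb ((Subgroup.map_eq_bot_iff_of_injective _ (MulAut.conj g).injective).mp h1)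
    · exact hMtop (top_le_iff.mp (h1 ▸ hH₁M))
  · -- then `M` meets `g M g⁻¹` above `H₁`, so `g` normalises `M`
    obtain ⟨w, hw, hwe⟩ : y ∈ M.map (MulAut.conj g).toMonoidHom := h.le hyN
    apply hg
    rw [← hNM', Subgroup.mem_normalizer_iff_map_conj_eq]
    refine Subgroup.eq_of_le_of_card_ge ?_
      (Subgroup.card_map_of_injective (MulAut.conj g).injective).ge
    have hwH : w ∉ H := fun hh => hyH ⟨w, hh, hwe⟩
    have hlt : H.subgroupOf M < ((M.comap (MulAut.conj g).toMonoidHom) ⊓ M).subgroupOf M := by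
      refine SetLike.lt_iff_le_and_exists.mpr
        ⟨fun z hz => Subgroup.mem_subgroupOf.mpr ⟨hH₁M ⟨z, hz, rfl⟩, z.2⟩, ⟨w, hw⟩,
          Subgroup.mem_subgroupOf.mpr ⟨?_, hw⟩, fun hh => hwH hh⟩
      show (MulAut.conj g).toMonoidHom w ∈ M
      rw [hwe]; exact hyM
    rintro _ ⟨z, hz, rfl⟩
    exact (Subgroup.mem_subgroupOf.mp
      ((hmaxH.2 _ hlt).ge (Subgroup.mem_top (⟨z, hz⟩ : ↥M)))).1

end Cfsg.Agent.S3015
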