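import Cfsg.Statements.S3020
import Mathlib.GroupTheory.Transfer
import Cfsg.Agent.LocalEven50.Basic

set_option autoImplicit false
open Cfsg

namespace Cfsg.Agent.S3020

/-- Let G be a finite group, p a prime and H an abelian p-subgroup of G that is extremely closed (for every g, the subgroup generated by H and g H g⁻¹ meets N_G(H) exactly in H). Then for every g ∈ G, the subgroup T generated by H and g H g⁻¹ is the product of H with O_{p'}(T), and H meets O_{p'}(T) trivially; that is, O_{p'}(T) is a normal p-complement of H in T. -/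
theorem result {G : Type*} [Group G] [Finite G] {p : ℕ} [Fact p.Prime] (H : Subgroup G) (hHp : IsPGroup p H) (hHab : IsMulCommutative H) (hcl : Cfsg.IsExtremelyClosed H) (g : G) (T : Subgroup G) (hT : T = H ⊔ H.map (MulAut.conj g).toMonoidHom) : H ⊔ (Cfsg.pPrimeCore p ↥T).map T.subtype = T ∧ H ⊓ (Cfsg.pPrimeCore p ↥T).map T.subtype = ⊥ := by
  subst hT
  set T := H ⊔ H.map (MulAut.conj g).toMonoidHom with hT
  have hHT : H ≤ T := le_sup_left
  have hHp' : IsPGroup p ↥(H.subgroupOf T) := hHp.of_equiv (Subgroup.subgroupOfEquivOfLe hHT).symm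
  obtain ⟨P, hP⟩ := hHp'.exists_le_sylow
  have hself : ∀ x : ↥T, x ∈ Subgroup.normalizer ((H.subgroupOf T : Subgroup ↥T) : Set ↥T) →
      x ∈ H.subgroupOf T := by
    intro x hx
    rw [Subgroup.mem_subgroupOf, ← hcl g]
    refine ⟨x.2, Subgroup.mem_normalizer_iff.mpr fun y => ⟨fun hy => ?_, fun hy => ?_⟩⟩
    · exact (Subgroup.mem_normalizer_iff.mp hx ⟨y, hHT hy⟩).mp (Subgroup.mem_subgroupOf.mpr hy)
    · have hyT : y ∈ T := by
        have := T.mul_mem (T.mul_mem (T.inv_mem x.2) (hHT hy)) x.2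
        simpa [mul_assoc] using this
      exact (Subgroup.mem_normalizer_iff.mp hx ⟨y, hyT⟩).mpr (Subgroup.mem_subgroupOf.mpr hy)
  have hPe : (P : Subgroup ↥T) = H.subgroupOf T :=
    CfsgLib.LocalEven50.eq_of_normalizer_inf_eq P.2 hP
      (le_antisymm (fun x hx => hself x hx.2) (le_inf hP Subgroup.le_normalizer))
  have hNC : Subgroup.normalizer ((P : Subgroup ↥T) : Set ↥T) ≤
      Subgroup.centralizer ((P : Subgroup ↥T) : Set ↥T) := by
    rw [hPe]
    intro x hx y hy
    exact Subtype.ext (congrArg Subtype.val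
      (hHab.is_comm.comm ⟨(y : G), Subgroup.mem_subgroupOf.mp hy⟩
        ⟨(x : G), Subgroup.mem_subgroupOf.mp (hself x hx)⟩) :)
  have hK := MonoidHom.ker_transferSylow_isComplement' P hNC
  have hKd := MonoidHom.not_dvd_card_ker_transferSylow P hNC
  have hKle : (MonoidHom.transferSylow P hNC).ker ≤ Cfsg.pPrimeCore p ↥T :=
    le_sSup ⟨inferInstance, ((Fact.out : p.Prime).coprime_iff_not_dvd.mpr hKd).symm⟩
  constructor
  · refine le_antisymm (sup_le hHT (Subgroup.map_subtype_le _)) fun x hx => ?_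
    have h1 : (⟨x, hx⟩ : ↥T) ∈ Cfsg.pPrimeCore p ↥T ⊔ H.subgroupOf T := by
      have h2 := hK.sup_eq_top
      exact (h2.ge.trans (sup_le_sup hKle hPe.le)) trivial
    rw [sup_comm H]
    have h3 := Subgroup.mem_map_of_mem T.subtype h1
    rwa [Subgroup.map_sup, Subgroup.map_subgroupOf_eq_of_le hHT] at h3
  · have hcop : (Nat.card ↥(Cfsg.pPrimeCore p ↥T)).Coprime p :=
      CfsgLib.LocalEven50.pPrimeCore_coprime p
    obtain ⟨n, hn⟩ := IsPGroup.iff_card.mp hHp
    refine disjoint_iff.mp (Subgroup.disjoint_of_coprime_natCard ?_)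
    rw [Subgroup.card_map_of_injective T.subtype_injective, hn]
    exact (hcop.pow_right n).symm

end Cfsg.Agent.S3020
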