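import Cfsg.Statements.S3021
import Cfsg.Agent.LocalEven50.Basic

set_option autoImplicit false
open Cfsg

namespace Cfsg.Agent.S3021

/-- Let G be a finite group, p a prime and H a p-subgroup of G that is extremely closed (for every g, the subgroup generated by H and g H g⁻¹ meets N_G(H) exactly in H). Then every p-subgroup Q of G containing H has N_G(Q) ≤ N_G(H); in particular every Sylow p-subgroup P of G containing H normalizes H, and H is strongly closed in P with respect to G. -/
theorem result {G : Type*} [Group G] [Finite G] {p : ℕ} [Fact p.Prime] (H : Subgroup G) (hHp : IsPGroup p H) (hcl : Cfsg.IsExtremelyClosed H) : (∀ Q : Subgroup G, IsPGroup p Q → H ≤ Q → Subgroup.normalizer (Q : Set G) ≤ Subgroup.normalizer (H : Set G)) ∧ ∀ P : Sylow p G, H ≤ (P : Subgroup G) → (P : Subgroup G) ≤ Subgroup.normalizer (H : Set G) ∧ Cfsg.IsStronglyClosed H (P : Subgroup G) := by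
  have hN : ∀ Q : Subgroup G, IsPGroup p Q → H ≤ Q →
      Subgroup.normalizer (Q : Set G) ≤ Subgroup.normalizer (H : Set G) := by
    intro Q hQ hHQ g hg
    have hle : H ⊔ H.map (MulAut.conj g).toMonoidHom ≤ Q := by
      refine sup_le hHQ ((Subgroup.map_mono hHQ).trans ?_)
      rw [Subgroup.mem_normalizer_iff_map_conj_eq] at hg
      exact hg.le
    have h1 := CfsgLib.LocalEven50.eq_of_normalizer_inf_eq (hQ.to_le hle) le_sup_left (hcl g)
    have h2 : H.map (MulAut.conj g).toMonoidHom ≤ H := le_sup_right.trans h1.le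
    rw [Subgroup.mem_normalizer_iff_map_conj_eq]
    exact Subgroup.eq_of_le_of_card_ge h2
      (Subgroup.card_map_of_injective (MulAut.conj g).injective).ge
  refine ⟨hN, fun P hHP => ?_⟩
  have hPN : (P : Subgroup G) ≤ Subgroup.normalizer (H : Set G) :=
    Subgroup.le_normalizer.trans (hN P P.2 hHP)
  refine ⟨hPN, hHP, fun x hx g hgP => ?_⟩
  rw [← hcl g]
  exact ⟨le_sup_right (a := H) ⟨x, hx, by simp⟩, hPN hgP⟩

end Cfsg.Agent.S3021
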