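import Cfsg.Statements.S3022
import Cfsg.Agent.PushAut85.Main

set_option autoImplicit false
open Cfsg

namespace Cfsg.Agent.S3022

open Subgroup CfsgLib CfsgLib.PushAut85

/-- A characteristic subgroup of an invariant subgroup is invariant. -/
theorem im_le_of_characteristic {G : Type*} [Group G] [Finite G] {S X Y : Subgroup G}
    (a : MulAut ↥S) (hY : Y ≤ S) (hXY : X ≤ Y) (hch : (X.subgroupOf Y).Characteristic)
    (ha : im a Y = Y) : im a X ≤ X := by
  let f : ↥Y →* ↥Y :=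
    (S.subtype.comp (a.toMonoidHom.comp (inclusion hY))).codRestrict Y fun y =>
      ha.le (apply_mem_im (a := a) (x := inclusion hY y) y.2)
  have hf : Function.Injective f := fun y z e =>
    inclusion_injective hY (a.injective (Subtype.ext (congrArg Subtype.val e :)))
  let e : ↥Y ≃* ↥Y := MulEquiv.ofBijective f (Finite.injective_iff_bijective.1 hf)
  intro z hz
  obtain ⟨x, hx, rfl⟩ := mem_im.1 hz
  exact (SetLike.ext_iff.1 (hch.fixed e) ⟨x, hXY hx⟩).2 hx

theorem omegaOneCenter_ne_bot {G : Type*} [Group G] [Finite G] {S : Subgroup G}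
    (hS : IsPGroup 2 S) (hne : S ≠ ⊥) : omegaOneCenter 2 S ≠ ⊥ := by
  haveI : Fact (Nat.Prime 2) := ⟨Nat.prime_two⟩
  haveI : Nontrivial ↥S := (nontrivial_iff_ne_bot S).2 hne
  haveI := hS.center_nontrivial
  obtain ⟨k, hk, hkc⟩ := (hS.to_subgroup (Subgroup.center ↥S)).nontrivial_iff_card.1 inferInstance
  obtain ⟨z, hz⟩ := exists_prime_orderOf_dvd_card' (G := ↥(Subgroup.center ↥S)) 2
    (hkc ▸ dvd_pow_self 2 hk.ne')
  intro e
  have h1 : ((z : ↥S) : G) ∈ omegaOneCenter 2 S := by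
    refine PLocal.mem_omegaOne (mem_inf.2 ⟨(z : ↥S).2, mem_centralizer_iff.2 fun s hs => ?_⟩) ?_
    · exact congrArg Subtype.val (Subgroup.mem_center_iff.1 z.2 ⟨s, hs⟩)
    · have h2 : z ^ 2 = 1 := hz ▸ pow_orderOf_eq_one z
      exact congrArg (fun w : ↥(Subgroup.center ↥S) => ((w : ↥S) : G)) h2
  rw [e, mem_bot] at h1
  have h3 : z = 1 := Subtype.ext (Subtype.ext h1)
  rw [h3, orderOf_one] at hz
  omega

/-- Let G be a finite group all of whose non-abelian simple sections are known simple groups, such that a Sylow 2-subgroup of G lies in exactly one maximal subgroup of G and C_G(O₂(G)) ≤ O₂(G). Let S be a Sylow 2-subgroup of G and A a group of automorphisms of S of odd order. Then some nontrivial A-invariant subgroup of S is normal in G. -/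
theorem result {G : Type*} [Group G] [Finite G] (hK : Cfsg.IsKGroup G) (hirr : ∀ S : Sylow 2 G, ∃! M : Subgroup G, IsCoatom M ∧ (S : Subgroup G) ≤ M) (hchar : Subgroup.centralizer (Cfsg.pCore 2 G : Set G) ≤ Cfsg.pCore 2 G) (S : Sylow 2 G) (A : Subgroup (MulAut ↥(S : Subgroup G))) (hA : Odd (Nat.card A)) : ∃ U : Subgroup G, U ≠ ⊥ ∧ U.Normal ∧ U ≤ (S : Subgroup G) ∧ ∀ a ∈ A, ∀ x : ↥(S : Subgroup G), (x : G) ∈ U → ((a x : ↥(S : Subgroup G)) : G) ∈ U := by
  haveI : Fact (Nat.Prime 2) := ⟨Nat.prime_two⟩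
  have hSne : (S : Subgroup G) ≠ ⊥ := fun e => by
    have h0 : pCore 2 G = ⊥ := le_bot_iff.1 (e ▸ PLocal.pCore_le_sylow S)
    rw [h0] at hchar
    obtain ⟨M, ⟨hM, -⟩, -⟩ := hirr S
    exact hM.1 (top_le_iff.1 (le_trans (le_trans (by simp) hchar) bot_le))
  by_cases hn : (S : Subgroup G).Normal
  · exact ⟨S, hSne, hn, le_rfl, fun a _ x _ => (a x).2⟩
  set B := baumannSubgroupOf 2 (S : Subgroup G)
  have hBS : B ≤ (S : Subgroup G) := inf_le_left
  by_cases hc : ∃ C : Subgroup G, C ≤ B ∧ C ≠ ⊥ ∧ (C.subgroupOf B).Characteristic ∧ C.Normal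
  · obtain ⟨C, hCB, hC0, hCc, hCn⟩ := hc
    exact ⟨C, hC0, hCn, hCB.trans hBS, fun a _ x hx =>
      im_le_of_characteristic a hBS hCB hCc (im_baumann a) (apply_mem_im hx)⟩
  by_cases hz : (omegaOneCenter 2 (S : Subgroup G)).Normal
  · refine ⟨_, omegaOneCenter_ne_bot S.isPGroup' hSne, hz, LocalEven50.omegaOneCenter_le _,
      fun a _ x hx => ?_⟩
    have h1 := LocalEven50.map_omegaOneCenter (p := 2)
      (comp_injective a) (⊤ : Subgroup ↥(S : Subgroup G))
    have h2 := LocalEven50.map_omegaOneCenter (p := 2)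
      (S : Subgroup G).subtype_injective (⊤ : Subgroup ↥(S : Subgroup G))
    rw [← MonoidHom.range_eq_map, Subgroup.range_subtype] at h2
    rw [← Subgroup.map_map, ← Subgroup.map_map, Subgroup.map_top_of_surjective a.toMonoidHom a.surjective,
      ← MonoidHom.range_eq_map, Subgroup.range_subtype, ← h2] at h1
    obtain ⟨w, hw, e⟩ := Subgroup.mem_map.1 (h2.ge hx)
    have hxw : w = x := Subtype.ext e
    exact h2.le (h1.le ⟨a x, ⟨x, hxw ▸ hw, rfl⟩, rfl⟩)
  haveI := (LocalEven50.isElementaryAbelian_omegaOneCenter (p := 2) (pCore 2 G)).1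
  refine exists_invariant_normal (T := S) ⟨hchar, fun P => ⟨?_, hirr P⟩, ?_, hz⟩ A hA
  · intro hP
    obtain ⟨g, rfl⟩ := MulAction.exists_smul_eq G P S
    refine hn ?_
    rw [Sylow.smul_eq_of_normal]
    exact hP
  · exact fun C h1 h2 h3 h4 => hc ⟨C, h1, h2, h3, h4⟩

end Cfsg.Agent.S3022
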