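import Cfsg.Statements.S3023
import Cfsg.Agent.S0542
import Cfsg.Agent.CharPLocal.Two
import Cfsg.Agent.Solvable.Nilpotent

set_option autoImplicit false
open Cfsg

namespace Cfsg.Agent.S3023

open Subgroup
open scoped Pointwise

theorem isSubnormal_comap {A B : Type*} [Group A] [Group B] (f : A →* B) {H : Subgroup B}
    (hH : H.IsSubnormal) : (H.comap f).IsSubnormal := by
  induction hH with
  | top => exact (Subgroup.comap_top f).symm ▸ IsSubnormal.top
  | step H K hle _ hN ih =>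
    exact IsSubnormal.step _ _ (comap_mono hle) ih ((normal_subgroupOf_iff_le_normalizer
      (comap_mono hle)).mpr ((comap_mono ((normal_subgroupOf_iff_le_normalizer hle).mp hN)).trans
        (le_normalizer_comap f)))

theorem charP_of_equiv {A B : Type*} [Group A] [Group B] {p : ℕ} (e : A ≃* B)
    (h : centralizer (Cfsg.pCore p A : Set A) ≤ Cfsg.pCore p A) :
    centralizer (Cfsg.pCore p B : Set B) ≤ Cfsg.pCore p B := by
  rw [← CfsgLib.PLocal.map_pCore_equiv e]
  intro x hx
  obtain ⟨y, rfl⟩ := e.surjective x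
  refine mem_map_of_mem e.toMonoidHom (h (mem_centralizer_iff.mpr fun z hz => e.injective ?_))
  rw [map_mul, map_mul]
  exact mem_centralizer_iff.mp hx (e z) (mem_map_of_mem e.toMonoidHom hz)


/-- Let p be a prime, G a finite group of parabolic characteristic p (every p-local subgroup containing a Sylow p-subgroup of G has characteristic p), S a Sylow p-subgroup of G and G₁ a subnormal subgroup of G. If the centre of S ∩ G₁ is nontrivial and contained in the centre of S, then G₁ has parabolic characteristic p. -/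
theorem result {G : Type*} [Group G] [Finite G] {p : ℕ} [Fact p.Prime] (hG : Cfsg.IsOfParabolicCharacteristic p G) (S : Sylow p G) (G₁ : Subgroup G) (hsn : G₁.IsSubnormal) (hne : ((S : Subgroup G) ⊓ G₁) ⊓ Subgroup.centralizer (((S : Subgroup G) ⊓ G₁ : Subgroup G) : Set G) ≠ ⊥) (hle : ((S : Subgroup G) ⊓ G₁) ⊓ Subgroup.centralizer (((S : Subgroup G) ⊓ G₁ : Subgroup G) : Set G) ≤ (S : Subgroup G) ⊓ Subgroup.centralizer ((S : Subgroup G) : Set G)) : Cfsg.IsOfParabolicCharacteristic p ↥G₁ := by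
  intro R hR hR1 hpar
  obtain ⟨T, hT⟩ := hpar
  -- conjugate `S` so that `T = S ∩ G₁`
  obtain ⟨Q₀, hQ₀⟩ := Cfsg.Agent.S0542.result p G₁ hsn S
  obtain ⟨g, hg⟩ := MulAction.exists_smul_eq ↥G₁ Q₀ T
  set c := (MulAut.conj (g : G)).toMonoidHom with hc
  have hST : ((S : Subgroup G) ⊓ G₁).map c = (T : Subgroup ↥G₁).map G₁.subtype := by
    rw [← hg, Sylow.coe_subgroup_smul, hQ₀]
    ext x
    constructor
    · rintro ⟨y, hy, rfl⟩
      exact ⟨g * ⟨y, hy.2⟩ * g⁻¹, smul_mem_pointwise_smul (⟨y, hy.2⟩ : G₁) (MulAut.conj g) _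
        (mem_subgroupOf.mpr hy.1), rfl⟩
    · rintro ⟨z, hz, rfl⟩
      obtain ⟨y, hy, rfl⟩ := (mem_map.mp hz : _)
      exact ⟨y, ⟨mem_subgroupOf.mp hy, y.2⟩, rfl⟩
  -- `R` lies in `T`
  have hRT : R ≤ (T : Subgroup ↥G₁) :=
    le_sup_right.trans (T.3 (T.2.to_sup_of_normal_right' hR hT) le_sup_left).le
  haveI : Group.IsNilpotent (T : Subgroup ↥G₁) := T.2.isNilpotent
  haveI : (R.subgroupOf (T : Subgroup ↥G₁)).Normal :=
    (normal_subgroupOf_iff_le_normalizer hRT).mpr hT
  obtain ⟨z₁, hz₁, hz₁1⟩ := ((R.subgroupOf (T : Subgroup ↥G₁) ⊓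
      center ↥(T : Subgroup ↥G₁)).bot_or_exists_ne_one).resolve_left
    (CfsgLib.Solvable.inf_center_ne_bot fun h => hR1 (by
      rwa [subgroupOf_eq_bot, disjoint_iff, inf_eq_left.mpr hRT] at h))
  set z : G := ((z₁ : G₁) : G) with hzdef
  -- `z` is a conjugate of a central element of `S`
  obtain ⟨z₀, hz₀, hz₀e⟩ : z ∈ ((S : Subgroup G) ⊓ G₁).map c :=
    hST ▸ ⟨(z₁ : G₁), z₁.2, rfl⟩
  have hz₀c : z₀ ∈ centralizer ((S : Subgroup G) : Set G) := by
    refine (hle ⟨hz₀, mem_centralizer_iff.mpr fun y hy => ?_⟩).2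
    obtain ⟨t, ht, hte⟩ : c y ∈ (T : Subgroup ↥G₁).map G₁.subtype := hST ▸ ⟨y, hy, rfl⟩
    apply (MulAut.conj (g : G)).injective
    show c (y * z₀) = c (z₀ * y)
    rw [map_mul, map_mul, ← hte, hz₀e]
    exact congrArg (fun w : (T : Subgroup ↥G₁) => ((w : G₁) : G))
      (mem_center_iff.mp hz₁.2 ⟨t, ht⟩)
  have hSc : ((g : G) • S : Sylow p G) ≤ centralizer ({z} : Set G) := by
    intro x hx
    rw [Sylow.coe_subgroup_smul] at hx
    obtain ⟨y, hy, rfl⟩ := hx
    refine mem_centralizer_singleton_iff.mpr ?_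
    show c y * z = z * c y
    rw [← hz₀e, ← map_mul, ← map_mul, mem_centralizer_iff.mp hz₀c y hy]
  have hzne : z ≠ 1 := fun h => hz₁1 (Subtype.ext (Subtype.ext h))
  have hRp : IsPGroup p (R.map G₁.subtype) := hR.map _
  have hzR : z ∈ R.map G₁.subtype := ⟨_, hz₁.1, rfl⟩
  have hcent : centralizer ({z} : Set G) ≤ normalizer (zpowers z : Set G) := by
    refine le_trans ?_ (centralizer_le_normalizer _)
    intro x hx
    refine mem_centralizer_iff.mpr fun w hw => ?_
    obtain ⟨i, rfl⟩ := mem_zpowers_iff.mp hw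
    exact Commute.zpow_left (mem_centralizer_singleton_iff.mp hx).symm i
  have hN := hG (zpowers z) (hRp.to_le (zpowers_le.mpr hzR))
    (fun h => hzne (zpowers_eq_bot.mp h)) ⟨(g : G) • S, hSc.trans hcent⟩
  have hCz : CfsgLib.CharPLocal.IsCharP p (centralizer ({z} : Set G)) := by
    refine ((CfsgLib.CharPLocal.isCharP_iff_type _).mpr hN).of_normal hcent ?_
    have : centralizer ({z} : Set G) = centralizer (zpowers z : Set G) := by
      rw [zpowers_eq_closure, centralizer_closure]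
    rw [this]
    exact CfsgLib.CharPLocal.normalizer_le_normalizer_centralizer _
  have hNR := CfsgLib.CharPLocal.isCharP_normalizer_of_mem hRp hzR hCz
  have hK := hNR.of_isSubnormal_subgroupOf (K := G₁ ⊓ normalizer (R.map G₁.subtype : Set G))
    inf_le_right (by
      rw [inf_subgroupOf_right]
      exact isSubnormal_comap _ hsn)
  have hmap : (normalizer (R : Set ↥G₁)).map G₁.subtype =
      G₁ ⊓ normalizer (R.map G₁.subtype : Set G) := by
    refine le_antisymm (le_inf (map_subtype_le _) (le_normalizer_map _)) ?_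
    rintro x ⟨hx1, hx2⟩
    refine ⟨⟨x, hx1⟩, ?_, rfl⟩
    rw [SetLike.mem_coe, mem_normalizer_iff]
    intro w
    have := mem_normalizer_iff.mp hx2 (w : G)
    exact ⟨fun hw => by
        obtain ⟨v, hv, hve⟩ := this.mp ⟨w, hw, rfl⟩
        rwa [show (⟨x, hx1⟩ * w * ⟨x, hx1⟩⁻¹ : G₁) = v from Subtype.ext hve.symm],
      fun hw => by
        obtain ⟨v, hv, hve⟩ := this.mpr ⟨_, hw, rfl⟩
        rwa [show w = v from Subtype.ext hve.symm]⟩
  exact charP_of_equiv (((normalizer (R : Set ↥G₁)).equivMapOfInjective G₁.subtype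
    G₁.subtype_injective).trans (MulEquiv.subgroupCongr hmap)).symm
    ((CfsgLib.CharPLocal.isCharP_iff_type _).mp hK)

end Cfsg.Agent.S3023
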