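import Cfsg.Statements.S3025
import Cfsg.Agent.TwoGroupsQ.UniqueInvolution
import Cfsg.Agent.Solvable.Basic

set_option autoImplicit false
open Cfsg

namespace Cfsg.Agent.S3025

open Subgroup

variable {F : Type*} [Group F] [Finite F]

theorem le_of_centralizes {H C : Subgroup F} (hmin : ∀ R : Subgroup F, R ≠ ⊥ →
    H ≤ normalizer (R : Set F) → H ≤ R) (hC : H ≤ centralizer (C : Set F))
    {R : Subgroup F} (hR : R ≠ ⊥) (hRC : R ≤ C) : H ≤ R :=
  hmin R hR ((hC.trans (centralizer_le (show (R : Set F) ⊆ C from hRC))).trans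
    (centralizer_le_normalizer _))


/-- Let F be a finite group and H a nontrivial subgroup of F that is contained in every nontrivial subgroup of F which H normalizes. Then F has a nontrivial normal subgroup N contained in every nontrivial normal subgroup of F (a unique minimal normal subgroup), N is simple, and one of the following holds: C_F(N) = 1; or H = N has prime order p, C_F(N) is cyclic of order a power of p, and F/C_F(N) is cyclic of order dividing p − 1; or H = N has order 2, N is central in F, and F is a generalized quaternion group. -/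
theorem result {F : Type*} [Group F] [Finite F] (H : Subgroup F) (hH : H ≠ ⊥)
    (hmin : ∀ R : Subgroup F, R ≠ ⊥ → H ≤ Subgroup.normalizer (R : Set F) → H ≤ R) :
    ∃ N : Subgroup F, N.Normal ∧ N ≠ ⊥ ∧ (∀ M : Subgroup F, M.Normal → M ≠ ⊥ → N ≤ M) ∧ IsSimpleGroup ↥N ∧
      (Subgroup.centralizer (N : Set F) = ⊥ ∨
       (H = N ∧ (Nat.card N).Prime ∧ IsCyclic ↥(Subgroup.centralizer (N : Set F)) ∧
          (∃ k : ℕ, 1 ≤ k ∧ Nat.card ↥(Subgroup.centralizer (N : Set F)) = Nat.card N ^ k) ∧
          (∃ g : F, Subgroup.centralizer (N : Set F) ⊔ Subgroup.zpowers g = ⊤) ∧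
          (Subgroup.centralizer (N : Set F)).index ∣ Nat.card N - 1) ∨
       (H = N ∧ Nat.card N = 2 ∧ Subgroup.centralizer (N : Set F) = ⊤ ∧
          ∃ k : ℕ, 1 ≤ k ∧ Nonempty (F ≃* QuaternionGroup (2 ^ k)))) := by
  set T : Set (Subgroup F) := {M | M.Normal ∧ M ≠ ⊥} with hT
  set N := sInf T with hN
  have hHT : ∀ M ∈ T, H ≤ M := fun M hM => hmin M hM.2 (by
    haveI := hM.1
    rw [normalizer_eq_top]; exact le_top)
  have hHN : H ≤ N := le_sInf hHT
  have hNne : N ≠ ⊥ := fun h => hH (le_bot_iff.mp (h ▸ hHN))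
  haveI hNn : N.Normal := ⟨fun x hx g => mem_sInf.mpr fun M hM =>
    hM.1.conj_mem x (mem_sInf.mp hx M hM) g⟩
  have hNmin : ∀ M : Subgroup F, M.Normal → M ≠ ⊥ → N ≤ M := fun M h1 h2 => sInf_le ⟨h1, h2⟩
  haveI : Nontrivial ↥N := (nontrivial_iff_ne_bot N).mpr hNne
  have hsimple : IsSimpleGroup ↥N := by
    refine ⟨fun L hL => or_iff_not_imp_left.mpr fun hLne => ?_⟩
    set M := ⨅ g : F, (L.map N.subtype).map (MulAut.conj g).toMonoidHom with hM
    have hMn : M.Normal := by
      refine ⟨fun x hx g => mem_iInf.mpr fun a => ?_⟩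
      obtain ⟨y, hy, e⟩ := mem_iInf.mp hx (g⁻¹ * a)
      refine ⟨y, hy, ?_⟩
      rw [← e]
      simp [mul_assoc]
    have hHM : H ≤ M := by
      refine le_iInf fun a => hmin _ ?_ ?_
      · rw [Ne, map_eq_bot_iff_of_injective _ (MulAut.conj a).injective,
          map_eq_bot_iff_of_injective _ N.subtype_injective]
        exact hLne
      · refine hHN.trans ?_
        have h1 : N ≤ normalizer (L.map N.subtype : Set F) := by
          have := le_normalizer_map (H := L) N.subtype
          rwa [normalizer_eq_top, ← MonoidHom.range_eq_map, range_subtype] at this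
        refine le_trans ?_ (le_normalizer_map _)
        intro x hx
        exact ⟨a⁻¹ * x * a, h1 (by simpa using hNn.conj_mem x hx a⁻¹), by simp [mul_assoc]⟩
    have h2 : N ≤ L.map N.subtype := by
      refine (hNmin M hMn fun h => hH (le_bot_iff.mp (h ▸ hHM))).trans ?_
      exact (iInf_le _ 1).trans (fun x hx => by
        obtain ⟨y, hy, rfl⟩ := hx
        simpa using hy)
    rw [eq_top_iff]
    intro x _
    obtain ⟨y, hy, e⟩ := h2 x.2
    rwa [show x = y from Subtype.ext e.symm]
  refine ⟨N, hNn, hNne, hNmin, hsimple, ?_⟩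
  set C := centralizer (N : Set F) with hC
  by_cases hC1 : C = ⊥
  · exact Or.inl hC1
  have hNC : N ≤ C := hNmin C inferInstance hC1
  letI : CommGroup ↥N := { (inferInstance : Group ↥N) with
    mul_comm := fun a b => Subtype.ext (mem_centralizer_iff.mp (hNC b.2) a a.2) }
  have hp : (Nat.card N).Prime := IsSimpleGroup.prime_card
  set p := Nat.card N with hpdef
  haveI : Fact p.Prime := ⟨hp⟩
  have hHeq : H = N := by
    refine eq_of_le_of_card_ge hHN ?_
    rcases (Nat.dvd_prime hp).mp (card_dvd_of_le hHN) with h | h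
    · exact absurd (eq_bot_of_card_eq H h) hH
    · exact h.ge
  subst hHeq
  have hsub : ∀ R : Subgroup F, R ≠ ⊥ → R ≤ C → N ≤ R :=
    fun R h1 h2 => le_of_centralizes hmin (le_centralizer_iff.mp le_rfl) h1 h2
  have hCp : IsPGroup p C := by
    rw [IsPGroup.iff_card]
    refine ⟨_, Nat.eq_prime_pow_of_unique_prime_dvd Nat.card_pos.ne' fun {q} hq hd => ?_⟩
    haveI := Fact.mk hq
    obtain ⟨x, hx⟩ := exists_prime_orderOf_dvd_card' q hd
    have h1 := hsub (zpowers (x : F)) (fun h => by
      rw [zpowers_eq_bot, ← orderOf_eq_one_iff, Subgroup.orderOf_coe, hx] at h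
      exact hq.ne_one h) (zpowers_le.mpr x.2)
    have h2 := card_dvd_of_le h1
    rw [Nat.card_zpowers, Subgroup.orderOf_coe, hx] at h2
    exact ((Nat.prime_dvd_prime_iff_eq hp hq).mp h2).symm
  have hu : CfsgLib.TwoGroupsQ.HasUniqueOrderP C p := by
    refine CfsgLib.TwoGroupsQ.hasUniqueOrderP_of_subgroups fun A B hA hB => ?_
    have key : ∀ A : Subgroup C, Nat.card A = p → A.map C.subtype = N := by
      intro A hA
      have hc : Nat.card (A.map C.subtype) = p := by
        rw [card_map_of_injective C.subtype_injective, hA]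
      refine (eq_of_le_of_card_ge (hsub _ (fun h => ?_) (map_subtype_le A)) hc.le).symm
      rw [h, card_bot] at hc
      exact hp.ne_one hc.symm
    exact map_injective C.subtype_injective ((key A hA).trans (key B hB).symm)
  obtain ⟨k, hk⟩ := IsPGroup.iff_card.mp hCp
  have hk1 : 1 ≤ k := by
    by_contra h
    have := card_le_of_le hNC
    rw [← hpdef, hk, show k = 0 by omega, pow_zero] at this
    have := hp.one_lt
    omega
  haveI : NeZero (Nat.card N) := ⟨hp.ne_zero⟩
  haveI : IsCyclic N := isCyclic_of_prime_card rfl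
  let χ : F →* (ZMod (Nat.card N))ˣ :=
    (IsCyclic.mulAutMulEquiv N).toMonoidHom.comp MulAut.conjNormal
  have hker : χ.ker = C := by
    ext x
    have h0 : χ x = 1 ↔ MulAut.conjNormal (H := N) x = 1 :=
      (IsCyclic.mulAutMulEquiv N).map_eq_one_iff
    rw [MonoidHom.mem_ker, h0]
    constructor
    · intro h
      refine mem_centralizer_iff.mpr fun y hy => ?_
      have := congrArg Subtype.val (MulEquiv.congr_fun h ⟨y, hy⟩)
      rw [MulAut.conjNormal_apply] at this
      exact (mul_inv_eq_iff_eq_mul.mp this).symm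
    · intro h
      refine MulEquiv.ext fun y => Subtype.ext ?_
      rw [MulAut.conjNormal_apply]
      exact mul_inv_eq_iff_eq_mul.mpr (mem_centralizer_iff.mp h y y.2).symm
  have hidx : C.index ∣ p - 1 := by
    rw [← hker, index_ker]
    refine (card_subgroup_dvd_card _).trans ?_
    rw [Nat.card_eq_fintype_card, ZMod.card_units_eq_totient, ← hpdef, Nat.totient_prime hp]
  rcases CfsgLib.TwoGroupsQ.isCyclic_or_quaternion hCp hu with hcyc | ⟨hp2, m, hm, ⟨e⟩⟩
  · refine Or.inr (Or.inl ⟨rfl, hp, hcyc, ⟨k, hk1, hk⟩, ?_, hidx⟩)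
    haveI : Fact (Nat.card N).Prime := ⟨hp⟩
    obtain ⟨⟨_, g, rfl⟩, hg⟩ := IsCyclic.exists_generator (α := χ.range)
    refine ⟨g, eq_top_iff.mpr fun x _ => ?_⟩
    obtain ⟨i, hi⟩ := mem_zpowers_iff.mp (hg ⟨χ x, x, rfl⟩)
    have h1 : x * (g ^ i)⁻¹ ∈ C := by
      rw [← hker, MonoidHom.mem_ker, map_mul, map_inv, map_zpow]
      have := congrArg Subtype.val hi
      simp only [SubgroupClass.coe_zpow] at this
      rw [this, mul_inv_cancel]
    have := mul_mem (mem_sup_left h1 : _ ∈ C ⊔ zpowers g)
      (mem_sup_right (zpow_mem (mem_zpowers g) i))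
    rwa [inv_mul_cancel_right] at this
  · have hCtop : C = ⊤ := by
      rw [← index_eq_one]
      rw [hp2] at hidx
      exact Nat.dvd_one.mp hidx
    refine Or.inr (Or.inr ⟨rfl, hp2, hCtop, m, hm, ⟨?_⟩⟩)
    exact ((topEquiv (G := F)).symm.trans (MulEquiv.subgroupCongr hCtop.symm)).trans e

end Cfsg.Agent.S3025
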