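import Cfsg.Statements.S3027

set_option autoImplicit false
open Cfsg

namespace Cfsg.Agent.S3027

universe u

open Subgroup in
theorem exists_least (n : ℕ) : ∀ (G : Type u) [Group G] [Finite G], Nat.card G = n →
    ∀ (D : Subgroup G) [D.Normal], ⁅(⊤ : Subgroup G), (⊤ : Subgroup G)⁆ ⊔ D = ⊤ →
    ∃ B : Subgroup G, B.Normal ∧ B ⊔ D = ⊤ ∧
      ∀ B' : Subgroup G, B'.IsSubnormal → B' ⊔ D = ⊤ → B ≤ B' := by
  induction n using Nat.strong_induction_on with
  | _ n ih =>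
  intro G _ _ hn D _ hperf
  set f := QuotientGroup.mk' D with hf
  have hsurj : Function.Surjective f := QuotientGroup.mk'_surjective D
  have htop : ∀ B : Subgroup G, B ⊔ D = ⊤ → B.map f = ⊤ := fun B h => by
    have h1 := congrArg (Subgroup.map f) h
    rw [Subgroup.map_sup, QuotientGroup.map_mk'_self, sup_bot_eq,
      map_top_of_surjective f hsurj] at h1
    exact h1
  have hsup : ∀ B : Subgroup G, B.map f = ⊤ → B ⊔ D = ⊤ := fun B h => by
    have h1 := congrArg (Subgroup.comap f) h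
    rwa [comap_map_eq, QuotientGroup.ker_mk', Subgroup.comap_top] at h1
  have hperfQ : ⁅(⊤ : Subgroup (G ⧸ D)), (⊤ : Subgroup (G ⧸ D))⁆ = ⊤ := by
    have h := htop _ hperf
    rwa [map_commutator, map_top_of_surjective f hsurj] at h
  have hinf : ∀ B₁ B₂ : Subgroup G, B₁.Normal → B₂.Normal → B₁ ⊔ D = ⊤ → B₂ ⊔ D = ⊤ →
      (B₁ ⊓ B₂) ⊔ D = ⊤ := fun B₁ B₂ h1 h2 e1 e2 => by
    refine hsup _ (top_le_iff.mp ?_)
    rw [← hperfQ]
    calc ⁅(⊤ : Subgroup (G ⧸ D)), (⊤ : Subgroup (G ⧸ D))⁆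
        = ⁅B₁.map f, B₂.map f⁆ := by rw [htop _ e1, htop _ e2]
      _ = ⁅B₁, B₂⁆.map f := (map_commutator B₁ B₂ f).symm
      _ ≤ (B₁ ⊓ B₂).map f :=
        map_mono (le_inf (commutator_le_left B₁ B₂) (commutator_le_right B₁ B₂))
  obtain ⟨R, ⟨hRn, hRD⟩, hRmin⟩ := WellFounded.has_min
    (wellFounded_lt : WellFounded ((· < ·) : Subgroup G → Subgroup G → Prop))
    {B : Subgroup G | B.Normal ∧ B ⊔ D = ⊤} ⟨⊤, inferInstance, by simp⟩
  have hleast : ∀ B : Subgroup G, B.Normal → B ⊔ D = ⊤ → R ≤ B := fun B hBn hB => by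
    haveI := hBn
    haveI := hRn
    by_contra hle
    exact hRmin (R ⊓ B) ⟨inferInstance, hinf R B hRn hBn hRD hB⟩
      (lt_of_le_of_ne inf_le_left fun h => hle (inf_eq_left.mp h))
  refine ⟨R, hRn, hRD, fun B' hB' hBD => ?_⟩
  rcases hB'.lt_normal with rfl | ⟨M, hMn, hBM, hMlt⟩
  · exact le_top
  haveI := hMn
  have hMD : M ⊔ D = ⊤ := top_le_iff.mp (hBD.ge.trans (sup_le_sup_right hBM D))
  -- restrict a supplement inside `M`
  have hres : ∀ B : Subgroup G, B ≤ M → B ⊔ D = ⊤ → B.subgroupOf M ⊔ D.subgroupOf M = ⊤ := by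
    intro B hB hBD
    rw [eq_top_iff]
    rintro ⟨m, hm⟩ -
    have : m ∈ B ⊔ D := hBD.ge (mem_top m)
    rw [← SetLike.mem_coe, mul_normal, Set.mem_mul] at this
    obtain ⟨b, hb, d, hd, rfl⟩ := this
    have hdM : d ∈ M := by simpa using M.mul_mem (M.inv_mem (hB hb)) hm
    exact show (⟨b, hB hb⟩ : ↥M) * ⟨d, hdM⟩ ∈ _ from
      mul_mem_sup (mem_subgroupOf.mpr hb) (mem_subgroupOf.mpr hd)
  have hperfM : ⁅(⊤ : Subgroup ↥M), (⊤ : Subgroup ↥M)⁆ ⊔ D.subgroupOf M = ⊤ := by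
    have h1 : ⁅M, M⁆ ⊔ D = ⊤ := hsup _ (by
      rw [map_commutator, htop _ hMD, hperfQ])
    have h2 := hres _ (commutator_le_right M M) h1
    convert h2 using 2
    apply map_injective M.subtype_injective
    rw [map_commutator, map_subgroupOf_eq_of_le (commutator_le_right M M), ← MonoidHom.range_eq_map,
      range_subtype]
  have hcardM : Nat.card ↥M < n := by
    rw [← hn]
    refine lt_of_le_of_ne (card_le_card_group M) fun h => hMlt.ne ?_
    exact eq_top_of_card_eq M h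
  obtain ⟨B₀, hB₀n, hB₀D, hB₀le⟩ := ih _ hcardM ↥M rfl (D.subgroupOf M) hperfM
  set C := B₀.map M.subtype with hC
  have hCM : C ≤ M := map_subtype_le _
  have hCD : C ⊔ D = ⊤ := by
    rw [eq_top_iff, ← hMD]
    refine sup_le ?_ le_sup_right
    intro m hm
    have h1 : (⟨m, hm⟩ : ↥M) ∈ B₀ ⊔ D.subgroupOf M := hB₀D.ge (mem_top _)
    have h2 := mem_map_of_mem M.subtype h1
    rw [Subgroup.map_sup] at h2
    exact (sup_le_sup (le_refl C) (fun x hx => by
      obtain ⟨y, hy, rfl⟩ := hx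
      exact hy)) h2
  have hCn : C.Normal := by
    refine ⟨fun c hc g => ?_⟩
    set C' := C.map (MulAut.conj g⁻¹).toMonoidHom with hC'
    have hC'M : C' ≤ M := by
      rintro _ ⟨z, hz, rfl⟩
      exact hMn.conj_mem z (hCM hz) g⁻¹
    have hC'sn : C'.IsSubnormal :=
      ((hB₀n.isSubnormal.trans' hMn.isSubnormal)).map (MulAut.conj g⁻¹).surjective
    have hC'D : C' ⊔ D = ⊤ := by
      have h := congrArg (Subgroup.map (MulAut.conj g⁻¹).toMonoidHom) hCD
      rw [Subgroup.map_sup, map_top_of_surjective _ (MulAut.conj g⁻¹).surjective] at h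
      rw [eq_top_iff, ← h]
      refine sup_le_sup le_rfl ?_
      rintro _ ⟨z, hz, rfl⟩
      exact Subgroup.Normal.conj_mem ‹D.Normal› z hz g⁻¹
    have hle := hB₀le (C'.subgroupOf M) hC'sn.subgroupOf (hres C' hC'M hC'D)
    obtain ⟨z, hz, rfl⟩ := hc
    obtain ⟨w, hw, hwz⟩ := mem_subgroupOf.mp (hle hz)
    have : g * (z : G) * g⁻¹ = w := by
      rw [← hwz]
      show g * (g⁻¹ * w * g⁻¹⁻¹) * g⁻¹ = w
      group
    exact this ▸ hw
  refine (hleast C hCn hCD).trans ?_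
  rintro _ ⟨z, hz, rfl⟩
  exact mem_subgroupOf.mp (hB₀le (B'.subgroupOf M) hB'.subgroupOf (hres B' hBM hBD) hz)


/-- Let G be a finite group and D a normal subgroup of G such that G/D is perfect (that is, G = G′D). Then among the subnormal subgroups B of G with BD = G there is a least one, and it is normal in G. -/
theorem result {G : Type*} [Group G] [Finite G] (D : Subgroup G) [D.Normal] (hperf : ⁅(⊤ : Subgroup G), (⊤ : Subgroup G)⁆ ⊔ D = ⊤) :
    ∃ B : Subgroup G, B.Normal ∧ B ⊔ D = ⊤ ∧ ∀ B' : Subgroup G, B'.IsSubnormal → B' ⊔ D = ⊤ → B ≤ B' := by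
  exact exists_least (Nat.card G) G rfl D hperf

end Cfsg.Agent.S3027
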