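import Cfsg.Statements.S3033

import Mathlib
import Cfsg.Agent.Supersolvable.Huppert
import Cfsg.Agent.Transfer.Frobenius
import Cfsg.Agent.Solvable.Basic

set_option autoImplicit false
open Cfsg

namespace Cfsg.Agent.S3033

section

universe u

/-- The hypothesis. -/
def Hyp (G : Type u) [Group G] : Prop :=
  ∀ (p q : ℕ), p.Prime → q.Prime → p ≠ q → ∀ (x g : G), (∃ a : ℕ, orderOf x = p ^ a) →
    (∃ b : ℕ, orderOf g = q ^ b) →
      ¬ q ^ 2 ∣ Nat.card ↥(Subgroup.zpowers x ⊔ Subgroup.zpowers (g * x * g⁻¹))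

theorem exists_prime_power_lift {G Q : Type u} [Group G] [Group Q] [Finite G] (f : G →* Q)
    (hf : Function.Surjective f) {p : ℕ} (hp : p.Prime) {y : Q} (hy : ∃ a, orderOf y = p ^ a) :
    ∃ x : G, f x = y ∧ ∃ a, orderOf x = p ^ a := by
  obtain ⟨a, ha⟩ := hy
  obtain ⟨x, rfl⟩ := hf y
  obtain ⟨j, m, hm, hx⟩ := Nat.exists_eq_pow_mul_and_not_dvd (orderOf_pos x).ne' p hp.ne_one
  have hco : m.Coprime (orderOf (f x)) := by
    rw [ha]
    exact Nat.Coprime.pow_right a ((hp.coprime_iff_not_dvd.mpr hm).symm)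
  obtain ⟨i, hi⟩ := exists_pow_eq_self_of_coprime hco
  refine ⟨(x ^ m) ^ i, by rw [map_pow, map_pow, hi], ?_⟩
  have h1 : ((x ^ m) ^ i) ^ (p ^ j) = 1 := by
    rw [← pow_mul, ← pow_mul, show m * (i * p ^ j) = orderOf x * i by rw [hx]; ring, pow_mul,
      pow_orderOf_eq_one, one_pow]
  obtain ⟨k, -, hk⟩ := (Nat.dvd_prime_pow hp).mp (orderOf_dvd_of_pow_eq_one h1)
  exact ⟨k, hk⟩

theorem Hyp.quotient {G : Type u} [Group G] [Finite G] (h : Hyp G) (N : Subgroup G) [N.Normal] :
    Hyp (G ⧸ N) := by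
  intro p q hp hq hpq x g hx hg hd
  obtain ⟨x', rfl, hx'⟩ := exists_prime_power_lift _ (QuotientGroup.mk'_surjective N) hp hx
  obtain ⟨g', rfl, hg'⟩ := exists_prime_power_lift _ (QuotientGroup.mk'_surjective N) hq hg
  refine h p q hp hq hpq x' g' hx' hg' (hd.trans ?_)
  rw [← MonoidHom.map_zpowers, ← map_inv, ← map_mul, ← map_mul, ← MonoidHom.map_zpowers,
    ← Subgroup.map_sup]
  exact Subgroup.card_map_dvd _ _

theorem Hyp.subgroup {G : Type u} [Group G] (h : Hyp G) (H : Subgroup G) : Hyp H := by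
  intro p q hp hq hpq x g hx hg hd
  refine h p q hp hq hpq (x : G) (g : G) ?_ ?_ (hd.trans (dvd_of_eq ?_))
  · simpa [Subgroup.orderOf_coe] using hx
  · simpa [Subgroup.orderOf_coe] using hg
  · rw [← Subgroup.card_map_of_injective (f := H.subtype) H.subtype_injective, Subgroup.map_sup,
      MonoidHom.map_zpowers, MonoidHom.map_zpowers]
    rfl

theorem smallest_aux (n : ℕ) : ∀ (G : Type u) [Group G] [Finite G], Nat.card G = n →
    Cfsg.IsSupersolvable G → ∀ p : ℕ, p.Prime → (∀ q : ℕ, q.Prime → q ∣ Nat.card G → p ≤ q) →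
      Cfsg.HasNormalPComplement p G := by
  induction n using Nat.strongRecOn with | ind n ih => ?_
  intro G _ _ hn h p hp hmin
  have := Fact.mk hp
  by_cases hd : p ∣ Nat.card G
  swap
  · exact CfsgLib.Transfer.hasNormalPComplement_of_not_dvd_card hd
  have hne : Nat.card G ≠ 1 := fun h1 => hp.ne_one (Nat.dvd_one.mp (h1 ▸ hd))
  have hfne : (Nat.card G).primeFactors.Nonempty :=
    ⟨p, Nat.mem_primeFactors.mpr ⟨hp, hd, Nat.card_pos.ne'⟩⟩
  set r := (Nat.card G).primeFactors.max' hfne with hr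
  obtain ⟨hrp, hrd, -⟩ := Nat.mem_primeFactors.mp (Finset.max'_mem _ hfne)
  have hrmax : ∀ q : ℕ, q.Prime → q ∣ Nat.card G → q ≤ r := fun q hq hqd =>
    Finset.le_max' _ _ (Nat.mem_primeFactors.mpr ⟨hq, hqd, Nat.card_pos.ne'⟩)
  rcases eq_or_ne r p with hrp' | hrp'
  · refine CfsgLib.Transfer.hasNormalPComplement_of_isPGroup (IsPGroup.of_card
      (n := (Nat.card G).primeFactorsList.length) ?_)
    refine Nat.eq_prime_pow_of_unique_prime_dvd Nat.card_pos.ne' fun {q} hq hqd => ?_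
    have h1 := hrmax q hq hqd
    have h2 := hmin q hq hqd
    omega
  obtain ⟨N, hN, hNc⟩ := CfsgLib.Supersolvable.exists_normal_card_largest h hrp hrd hrmax
  haveI := hN
  have hlt : Nat.card (G ⧸ N) < n := by
    rw [← hn, ← N.index_eq_card, ← N.card_mul_index, hNc]
    exact lt_mul_of_one_lt_left (Nat.pos_of_ne_zero Subgroup.index_ne_zero_of_finite) hrp.one_lt
  refine CfsgLib.Transfer.hasNormalPComplement_of_quotient N (by
    rw [hNc]; exact fun e => hrp' ((Nat.prime_dvd_prime_iff_eq hp hrp).mp e).symm) ?_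
  exact ih _ hlt _ rfl (CfsgLib.Supersolvable.quotient h N) p hp fun q hq hqd =>
    hmin q hq (hqd.trans (Subgroup.card_quotient_dvd_card N))

theorem solvable_aux (n : ℕ) : ∀ (G : Type u) [Group G] [Finite G], Nat.card G = n →
    (∀ H : Subgroup G, H ≠ ⊤ → Cfsg.IsSupersolvable H) → Group.IsSolvable G := by
  induction n using Nat.strongRecOn with | ind n ih => ?_
  intro G _ _ hn h
  by_cases h1 : Nat.card G = 1
  · haveI : Subsingleton G := (Nat.card_eq_one_iff_unique.mp h1).1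
    exact CfsgLib.Supersolvable.isSolvable CfsgLib.Supersolvable.of_subsingleton
  set p := (Nat.card G).minFac with hpdef
  have hp : p.Prime := Nat.minFac_prime h1
  have := Fact.mk hp
  have hdvd : p ∣ Nat.card G := Nat.minFac_dvd _
  by_cases hc : Cfsg.HasNormalPComplement p G
  · have hN := CfsgLib.Transfer.hasNormalPComplement_iff.mp hc
    have hne : Cfsg.pResidual p G ≠ ⊤ := fun e => hN (by rw [e, Subgroup.card_top]; exact hdvd)
    haveI := CfsgLib.Supersolvable.isSolvable (h _ hne)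
    haveI : Group.IsNilpotent (G ⧸ Cfsg.pResidual p G) :=
      (CfsgLib.Transfer.isPGroup_quotient_pResidual (p := p) (G := G)).isNilpotent
    exact solvable_of_ker_le_range (Cfsg.pResidual p G).subtype
      (QuotientGroup.mk' (Cfsg.pResidual p G)) (by simp)
  · obtain ⟨Q, hQ, hQ1, hQN⟩ : ∃ Q : Subgroup G, IsPGroup p Q ∧ Q ≠ ⊥ ∧
        ¬ Cfsg.HasNormalPComplement p (Subgroup.normalizer (Q : Set G)) := by
      by_contra hcon
      push Not at hcon
      exact hc (CfsgLib.Transfer.hasNormalPComplement_of_normalizers hcon)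
    haveI : Q.Normal := by
      rw [← Subgroup.normalizer_eq_top_iff]
      by_contra hne
      refine hQN (smallest_aux _ _ rfl (h _ hne) p hp fun q hq hqd => ?_)
      exact Nat.minFac_le_of_dvd hq.two_le (hqd.trans (Subgroup.card_subgroup_dvd_card _))
    haveI : Group.IsNilpotent Q := hQ.isNilpotent
    have hlt : Nat.card (G ⧸ Q) < n := by
      rw [← hn, ← Q.index_eq_card, ← Q.card_mul_index]
      exact lt_mul_of_one_lt_left (Nat.pos_of_ne_zero Subgroup.index_ne_zero_of_finite)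
        ((Subgroup.one_lt_card_iff_ne_bot Q).mpr hQ1)
    haveI := ih _ hlt (G ⧸ Q) rfl fun K hK => by
      have hKc : K.comap (QuotientGroup.mk' Q) ≠ ⊤ := fun e => hK (by
        rw [← Subgroup.map_comap_eq_self_of_surjective (QuotientGroup.mk'_surjective Q) K, e,
          Subgroup.map_top_of_surjective _ (QuotientGroup.mk'_surjective Q)])
      refine CfsgLib.Supersolvable.of_surjective
        (((QuotientGroup.mk' Q).comp (K.comap (QuotientGroup.mk' Q)).subtype).codRestrict K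
          fun y => y.2) ?_ (h _ hKc)
      rintro ⟨y, hy⟩
      obtain ⟨x, rfl⟩ := QuotientGroup.mk'_surjective Q y
      exact ⟨⟨x, hy⟩, rfl⟩
    exact solvable_of_ker_le_range Q.subtype (QuotientGroup.mk' Q) (by simp)

section Exponents

variable {G : Type u} [Group G] {p : ℕ} [Fact p.Prime]

theorem pw_nat {a : G} (ha : a ^ p = 1) (i : ℕ) : a ^ i = a ^ (i : ZMod p).val := by
  rw [ZMod.val_natCast]; exact pow_eq_pow_mod i ha

theorem pw_add {a : G} (ha : a ^ p = 1) (i j : ZMod p) :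
    a ^ (i + j).val = a ^ i.val * a ^ j.val := by
  rw [← pow_add, ZMod.val_add]; exact (pow_eq_pow_mod _ ha).symm

theorem pw_mul {a : G} (ha : a ^ p = 1) (i j : ZMod p) : a ^ (i * j).val = (a ^ i.val) ^ j.val := by
  rw [← pow_mul, ZMod.val_mul]; exact (pow_eq_pow_mod _ ha).symm

theorem pw_one (a : G) : a ^ (1 : ZMod p).val = a := by rw [ZMod.val_one, pow_one]

theorem pw_inj {a : G} (ha : a ^ p = 1) (ha1 : a ≠ 1) {i j : ZMod p}
    (h : a ^ i.val = a ^ j.val) : i = j := by
  have ho := orderOf_eq_prime ha ha1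
  exact ZMod.val_injective p (pow_injOn_Iio_orderOf
    (by simp only [Set.mem_Iio]; rw [ho]; exact ZMod.val_lt _)
    (by simp only [Set.mem_Iio]; rw [ho]; exact ZMod.val_lt _) h)

theorem pw_eq_one {a : G} (ha : a ^ p = 1) {i : ZMod p} (hi : i ≠ 0) (h : a ^ i.val = 1) : a = 1 := by
  rw [← pw_one (p := p) a, ← mul_inv_cancel₀ hi, pw_mul ha, h, one_pow]

end Exponents

/-- The module situation. -/
structure Setting {G : Type u} [Group G] (p : ℕ) (N M : Subgroup G) : Prop where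
  normal : N.Normal
  comm : ∀ a ∈ N, ∀ b ∈ N, a * b = b * a
  exp : ∀ a ∈ N, a ^ p = 1
  faithful : ∀ m ∈ M, (∀ a ∈ N, m * a * m⁻¹ = a) → m = 1
  irred : ∀ V : Subgroup G, V ≤ N → V ≠ ⊥ → (∀ m ∈ M, ∀ a ∈ V, m * a * m⁻¹ ∈ V) → V = N
  super : Cfsg.IsSupersolvable M
  hyp : Hyp G

variable {G : Type u} [Group G] [Finite G] {p : ℕ} [Fact p.Prime] {N M : Subgroup G}

/-- The displacement `g ↦ g (x g x⁻¹)⁻¹` on `N`. -/
def disp (h : Setting p N M) (x : G) : N →* G :=
  MonoidHom.mk' (fun g => (g : G) * (x * (g : G) * x⁻¹)⁻¹) fun a b => by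
    have h1 := h.normal.conj_mem _ a.2 x
    have h2 := h.normal.conj_mem _ b.2 x
    have h3 := h.comm _ b.2 _ (mul_mem (inv_mem h2) (inv_mem h1))
    have h4 := h.comm _ (inv_mem h2) _ (inv_mem h1)
    push_cast
    calc (a : G) * b * (x * (a * b) * x⁻¹)⁻¹
        = (a : G) * ((b : G) * ((x * b * x⁻¹)⁻¹ * (x * a * x⁻¹)⁻¹)) := by group
      _ = (a : G) * (((x * b * x⁻¹)⁻¹ * (x * a * x⁻¹)⁻¹) * b) := by rw [h3]
      _ = (a : G) * (((x * a * x⁻¹)⁻¹ * (x * b * x⁻¹)⁻¹) * b) := by rw [h4]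
      _ = (a : G) * (x * a * x⁻¹)⁻¹ * ((x * b * x⁻¹)⁻¹ * b) := by group
      _ = _ := by rw [h.comm _ (inv_mem h2) _ b.2]

omit [Finite G] [Fact p.Prime] in
theorem disp_mem (h : Setting p N M) (x : G) (g : N) : disp h x g ∈ N :=
  mul_mem g.2 (inv_mem (h.normal.conj_mem _ g.2 x))

/-- An element of prime power order prime to `p` acts as a scalar on the displacement subgroup. -/
theorem exists_scalar (h : Setting p N M) {q : ℕ} (hq : q.Prime) (hqp : q ≠ p) {x : G}
    (hx : ∃ a, orderOf x = q ^ a) :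
    ∃ l : ZMod p, ∀ c ∈ (disp h x).range, x * c * x⁻¹ = c ^ l.val := by
  have hp : p.Prime := Fact.out
  -- each element of the range is an eigenvector
  have heig : ∀ c ∈ (disp h x).range, ∃ i : ZMod p, x * c * x⁻¹ = c ^ i.val := by
    rintro c ⟨g, rfl⟩
    have hvN := disp_mem h x g
    have hwN : x * disp h x g * x⁻¹ ∈ N := h.normal.conj_mem _ hvN x
    have hvp := h.exp _ hvN
    by_cases hmem : x * disp h x g * x⁻¹ ∈ Subgroup.zpowers (disp h x g)
    · obtain ⟨k, hk⟩ := Submonoid.mem_powers_iff _ _ |>.mp (mem_powers_iff_mem_zpowers.mpr hmem)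
      exact ⟨(k : ZMod p), by rw [← pw_nat hvp, hk]⟩
    exfalso
    have hgp : ∃ b, orderOf (g : G) = p ^ b := by
      obtain ⟨b, -, hb⟩ := (Nat.dvd_prime_pow hp).mp
        (show orderOf (g : G) ∣ p ^ 1 by rw [pow_one]; exact orderOf_dvd_of_pow_eq_one (h.exp _ g.2))
      exact ⟨b, hb⟩
    refine h.hyp q p hq hp hqp x g hx hgp (dvd_trans ?_ (Subgroup.card_dvd_of_le
      (H := Subgroup.zpowers (disp h x g) ⊔ Subgroup.zpowers (x * disp h x g * x⁻¹)) ?_))
    · have hK : IsPGroup p ↥(Subgroup.zpowers (disp h x g) ⊔ Subgroup.zpowers (x * disp h x g * x⁻¹)) :=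
        (show IsPGroup p N from fun a => ⟨1, Subtype.ext (by simpa using h.exp _ a.2)⟩).to_le
          (sup_le (Subgroup.zpowers_le.mpr hvN) (Subgroup.zpowers_le.mpr hwN))
      obtain ⟨j, hj⟩ := IsPGroup.iff_card.mp hK
      rw [hj]
      refine pow_dvd_pow p ?_
      by_contra hj2
      apply hmem
      have hv1 : disp h x g ≠ 1 := fun e => hmem (by rw [e]; simp)
      have : Subgroup.zpowers (disp h x g) =
          Subgroup.zpowers (disp h x g) ⊔ Subgroup.zpowers (x * disp h x g * x⁻¹) := by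
        refine Subgroup.eq_of_le_of_card_ge le_sup_left ?_
        rw [hj, Nat.card_zpowers, orderOf_eq_prime hvp hv1]
        exact (Nat.pow_le_pow_right hp.pos (show j ≤ 1 by omega)).trans (pow_one p).le
      rw [this]
      exact Subgroup.mem_sup_right (Subgroup.mem_zpowers _)
    · have hv : disp h x g ∈ Subgroup.zpowers x ⊔ Subgroup.zpowers ((g : G) * x * (g : G)⁻¹) := by
        have e : disp h x g = (g : G) * x * (g : G)⁻¹ * x⁻¹ := by
          show (g : G) * (x * (g : G) * x⁻¹)⁻¹ = _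
          group
        rw [e]
        exact mul_mem (Subgroup.mem_sup_right (Subgroup.mem_zpowers _))
          (inv_mem (Subgroup.mem_sup_left (Subgroup.mem_zpowers _)))
      have hxm : x ∈ Subgroup.zpowers x ⊔ Subgroup.zpowers ((g : G) * x * (g : G)⁻¹) :=
        Subgroup.mem_sup_left (Subgroup.mem_zpowers _)
      exact sup_le (Subgroup.zpowers_le.mpr hv)
        (Subgroup.zpowers_le.mpr (mul_mem (mul_mem hxm hv) (inv_mem hxm)))
  have hRN : ∀ c ∈ (disp h x).range, c ∈ N := by rintro _ ⟨g, rfl⟩; exact disp_mem h x g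
  by_cases htriv : ∀ c ∈ (disp h x).range, c = 1
  · exact ⟨1, fun c hc => by rw [htriv c hc]; simp⟩
  push Not at htriv
  obtain ⟨c₀, hc₀, hc₀1⟩ := htriv
  obtain ⟨i, hi⟩ := heig c₀ hc₀
  refine ⟨i, fun d hd => ?_⟩
  have hc₀p := h.exp _ (hRN _ hc₀)
  have hdp := h.exp _ (hRN _ hd)
  have hcd := h.comm _ (hRN _ hc₀) _ (hRN _ hd)
  by_cases hdz : d ∈ Subgroup.zpowers c₀
  · obtain ⟨k, rfl⟩ := Submonoid.mem_powers_iff _ _ |>.mp (mem_powers_iff_mem_zpowers.mpr hdz)
    rw [← conj_pow, hi, pow_right_comm]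
  obtain ⟨j, hj⟩ := heig d hd
  obtain ⟨k, hk⟩ := heig _ (mul_mem hc₀ hd)
  have h1 : c₀ ^ (i - k).val = d ^ (k - j).val := by
    apply mul_right_cancel (b := d ^ j.val)
    rw [← pw_add hdp, sub_add_cancel]
    apply mul_left_cancel (a := c₀ ^ k.val)
    rw [← mul_assoc, ← pw_add hc₀p, add_sub_cancel, ← hi, ← hj,
      ← Commute.mul_pow (show Commute c₀ d from hcd), ← hk]
    group
  have hkj : k - j = 0 := by
    by_contra hne
    apply hdz
    rw [← pw_one (p := p) d, ← mul_inv_cancel₀ hne, pw_mul hdp, ← h1]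
    exact pow_mem (pow_mem (Subgroup.mem_zpowers _) _) _
  have hik : i - k = 0 := by
    by_contra hne
    rw [hkj, ZMod.val_zero, pow_zero] at h1
    exact hc₀1 (pw_eq_one hc₀p hne h1)
  rw [hj, sub_eq_zero.mp hik, sub_eq_zero.mp hkj]

/-- A fixed point free element of prime power order prime to `p` is a scalar. -/
theorem scalar_of_fpf (h : Setting p N M) {q : ℕ} (hq : q.Prime) (hqp : q ≠ p) {x : G}
    (hx : ∃ a, orderOf x = q ^ a) (hfix : ∀ a ∈ N, x * a * x⁻¹ = a → a = 1) :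
    ∃ l : ZMod p, ∀ a ∈ N, x * a * x⁻¹ = a ^ l.val := by
  obtain ⟨l, hl⟩ := exists_scalar h hq hqp hx
  refine ⟨l, fun a ha => ?_⟩
  let θ : N → N := fun g => ⟨disp h x g, disp_mem h x g⟩
  have hθ : Function.Injective θ := by
    intro a b e
    have e1 : disp h x (a * b⁻¹) = 1 := by
      rw [map_mul, map_inv]
      exact mul_inv_eq_one.mpr (congrArg Subtype.val e)
    have e2 := hfix _ (a * b⁻¹).2 (mul_inv_eq_one.mp e1).symm
    exact mul_inv_eq_one.mp (Subtype.ext e2)
  obtain ⟨g, hg⟩ := Finite.injective_iff_surjective.mp hθ ⟨a, ha⟩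
  exact hl a ⟨g, congrArg Subtype.val hg⟩

/-- The scalar elements of `M`. -/
def scalars (h : Setting p N M) : Subgroup M where
  carrier := {m | ∃ i : ℕ, ∀ a ∈ N, (m : G) * a * (m : G)⁻¹ = a ^ i}
  one_mem' := ⟨1, fun a _ => by simp⟩
  mul_mem' := by
    rintro m m' ⟨i, hi⟩ ⟨j, hj⟩
    refine ⟨i * j, fun a ha => ?_⟩
    have _ := h.normal
    calc ((m * m' : M) : G) * a * ((m * m' : M) : G)⁻¹
        = (m : G) * ((m' : G) * a * (m' : G)⁻¹) * (m : G)⁻¹ := by push_cast; group
      _ = _ := by rw [hj a ha, ← conj_pow, hi a ha, pow_mul]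
  inv_mem' := by
    rintro m ⟨i, hi⟩
    have hk : ∀ k : ℕ, ∀ a ∈ N, ((m ^ k : M) : G) * a * ((m ^ k : M) : G)⁻¹ = a ^ (i ^ k) := by
      intro k
      induction k with
      | zero => intro a _; simp
      | succ k ih =>
        intro a ha
        calc ((m ^ (k + 1) : M) : G) * a * ((m ^ (k + 1) : M) : G)⁻¹
            = ((m ^ k : M) : G) * ((m : G) * a * (m : G)⁻¹) * ((m ^ k : M) : G)⁻¹ := by
              push_cast; rw [pow_succ]; group
          _ = _ := by rw [hi a ha, ← conj_pow, ih a ha, ← pow_mul, pow_succ]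
    have : m⁻¹ = m ^ (orderOf m - 1) := by
      rw [inv_eq_iff_mul_eq_one, ← pow_succ', Nat.sub_add_cancel (orderOf_pos m), pow_orderOf_eq_one]
    rw [this]
    exact ⟨_, hk _⟩

theorem scalars_comm (h : Setting p N M) {s : M} (hs : s ∈ scalars h) (m : M) : m * s = s * m := by
  obtain ⟨i, hi⟩ := hs
  apply mul_inv_eq_one.mp
  apply Subtype.ext
  refine h.faithful _ (m * s * (s * m)⁻¹).2 fun a ha => ?_
  have hb := h.normal.conj_mem _ ha (m : G)⁻¹
  rw [inv_inv] at hb
  calc ((m * s * (s * m)⁻¹ : M) : G) * a * ((m * s * (s * m)⁻¹ : M) : G)⁻¹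
      = (m : G) * ((s : G) * ((m : G)⁻¹ * ((s : G)⁻¹ * a * (s : G)) * (m : G)) * (s : G)⁻¹) *
        (m : G)⁻¹ := by push_cast; group
    _ = ((s : G)⁻¹ * a * (s : G)) ^ i := by
        have hb' := h.normal.conj_mem _ ha (s : G)⁻¹
        rw [inv_inv] at hb'
        have hb'' := h.normal.conj_mem _ hb' (m : G)⁻¹
        rw [inv_inv] at hb''
        rw [hi _ hb'', ← conj_pow]
        group
    _ = _ := by
        have hb' := h.normal.conj_mem _ ha (s : G)⁻¹
        rw [inv_inv] at hb'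
        rw [← hi _ hb']
        group

instance scalars_normal (h : Setting p N M) : (scalars h).Normal :=
  ⟨fun s hs m => by rwa [scalars_comm h hs m, mul_inv_cancel_right]⟩

/-- An element exchanging two complementary invariant parts squares to `1` when it displaces by a
scalar. -/
theorem swap_sq (h : Setting p N M) {V W : Subgroup G} (hV : V ≤ N) (hW : W ≤ N)
    (hVW : ∀ a, a ∈ V → a ∈ W → a = 1) {t : G} (htV : ∀ a ∈ V, t * a * t⁻¹ ∈ W)
    (htW : ∀ a ∈ W, t * a * t⁻¹ ∈ V) {l : ZMod p}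
    (hl : ∀ c ∈ (disp h t).range, t * c * t⁻¹ = c ^ l.val) :
    ∀ a ∈ V, t * t * a * (t * t)⁻¹ = a := by
  intro a ha
  by_cases ha1 : a = 1
  · subst ha1; simp
  have ha' := htV a ha
  have ha'' := htW _ ha'
  have hlc := hl _ ⟨⟨a, hV ha⟩, rfl⟩
  have hap := h.exp a (hV ha)
  have hbp := h.exp _ (hW ha')
  generalize hb : t * a * t⁻¹ = b at ha' ha'' hbp
  generalize hc : t * b * t⁻¹ = c at ha''
  have hdisp : disp h t ⟨a, hV ha⟩ = a * b⁻¹ := by rw [← hb]; rfl
  rw [hdisp] at hlc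
  have hlc' : b * c⁻¹ = a ^ l.val * (b ^ l.val)⁻¹ := by
    rw [← hc, ← inv_pow, ← Commute.mul_pow (show Commute a b⁻¹ from h.comm _ (hV ha) _ (inv_mem (hW ha'))),
      ← hlc, ← hb]
    group
  -- separate the two parts
  have hsep : b * b ^ l.val = a ^ l.val * c := by
    have hc2 := h.comm _ (inv_mem (hV ha'')) _ (pow_mem (hW ha') l.val)
    calc b * b ^ l.val = b * c⁻¹ * c * b ^ l.val := by group
      _ = a ^ l.val * ((b ^ l.val)⁻¹ * c * b ^ l.val) := by rw [hlc']; group
      _ = _ := by rw [mul_assoc (b ^ l.val)⁻¹ c, h.comm _ (hV ha'') _ (pow_mem (hW ha') l.val),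
          inv_mul_cancel_left]
  have hone := hVW _ (mul_mem (pow_mem ha l.val) ha'')
    (hsep ▸ mul_mem ha' (pow_mem ha' l.val))
  rw [hone] at hsep
  have hl1 : l = -1 := by
    have hb1 : b ≠ 1 := by rw [← hb]; intro e; exact ha1 (conj_eq_one_iff.mp e)
    have : b ^ ((1 : ZMod p) + l).val = b ^ (0 : ZMod p).val := by
      rw [pw_add hbp, pw_one, hsep, ZMod.val_zero, pow_zero]
    exact eq_neg_of_add_eq_zero_right (pw_inj hbp hb1 this)
  have hca : c = a := by
    have h2 : a ^ ((l : ZMod p) + 1).val = 1 := by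
      rw [hl1, neg_add_cancel, ZMod.val_zero, pow_zero]
    rw [pw_add hap, pw_one] at h2
    exact mul_left_cancel (hone.trans h2.symm)
  calc t * t * a * (t * t)⁻¹ = t * (t * a * t⁻¹) * t⁻¹ := by group
    _ = a := by rw [hb, hc, hca]

set_option maxHeartbeats 1000000 in
/-- The module has prime order. -/
theorem card_eq_prime (h : Setting p N M) (hN1 : N ≠ ⊥) : Nat.card N = p := by
  classical
  have hp : p.Prime := Fact.out
  haveI := h.normal
  have hNp : IsPGroup p N := fun a => ⟨1, Subtype.ext (by simpa using h.exp _ a.2)⟩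
  by_cases htop : scalars h = ⊤
  · obtain ⟨⟨a, ha⟩, ha1⟩ := Subgroup.ne_bot_iff_exists_ne_one.mp hN1
    have ha1' : a ≠ 1 := fun e => ha1 (Subtype.ext e)
    have hV := h.irred (Subgroup.zpowers a) (Subgroup.zpowers_le.mpr ha)
      (by simpa using ha1') fun m hm b hb => by
        have hs : (⟨m, hm⟩ : M) ∈ scalars h := htop ▸ Subgroup.mem_top _
        obtain ⟨i, hi⟩ := hs
        have hbN : b ∈ N := (Subgroup.zpowers_le.mpr ha) hb
        rw [show m * b * m⁻¹ = b ^ i from hi b hbN]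
        exact pow_mem hb i
    rw [← hV, Nat.card_zpowers, orderOf_eq_prime (h.exp a ha) ha1']
  exfalso
  -- a normal subgroup of prime order modulo the scalars
  haveI : Nontrivial (M ⧸ scalars h) := QuotientGroup.nontrivial_iff.mpr htop
  obtain ⟨S, hS, hSq⟩ := CfsgLib.Supersolvable.exists_normal_prime_card
    (CfsgLib.Supersolvable.quotient h.super (scalars h))
  set q := Nat.card S with hqdef
  haveI := Fact.mk hSq
  obtain ⟨⟨y, hyS⟩, hy⟩ := IsCyclic.exists_ofOrder_eq_natCard (α := S) (h := isCyclic_of_prime_card (p := q) rfl)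
  have hyord : orderOf y = q ^ 1 := by rw [pow_one, hqdef, ← hy, Subgroup.orderOf_mk]
  obtain ⟨x, hxy, hxord⟩ :=
    exists_prime_power_lift (QuotientGroup.mk' (scalars h)) (QuotientGroup.mk'_surjective _) hSq
      ⟨1, hyord⟩
  have hxns : x ∉ scalars h := by
    intro hx
    have : y = 1 := by rw [← hxy]; exact (QuotientGroup.eq_one_iff x).mpr hx
    rw [this, orderOf_one, pow_one] at hyord
    exact hSq.ne_one hyord.symm
  have hconj : ∀ m : M, ∃ (i : ℕ) (s : M), s ∈ scalars h ∧ m * x * m⁻¹ = x ^ i * s := by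
    intro m
    have h1 := hS.conj_mem y hyS (QuotientGroup.mk' (scalars h) m)
    have hgen : Subgroup.zpowers y = S := by
      refine Subgroup.eq_of_le_of_card_ge (Subgroup.zpowers_le.mpr hyS) ?_
      rw [Nat.card_zpowers, hyord, pow_one]
    rw [← hgen] at h1
    obtain ⟨i, hi⟩ := Submonoid.mem_powers_iff _ _ |>.mp (mem_powers_iff_mem_zpowers.mpr h1)
    refine ⟨i, (x ^ i)⁻¹ * (m * x * m⁻¹), ?_, (mul_inv_cancel_left _ _).symm⟩
    rw [← QuotientGroup.eq]
    show QuotientGroup.mk' (scalars h) (x ^ i) = QuotientGroup.mk' (scalars h) (m * x * m⁻¹)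
    rw [map_pow, map_mul, map_mul, map_inv, hxy, hi]
  obtain ⟨a₀, hxa⟩ := hxord
  have hxa' : ∃ a, orderOf (x : G) = q ^ a := ⟨a₀, by rw [Subgroup.orderOf_coe, hxa]⟩
  have hx1 : x ≠ 1 := fun e => hxns (e ▸ one_mem _)
  let F : G → Subgroup G := fun g => N ⊓ Subgroup.centralizer ({g} : Set G)
  have hF : ∀ g a : G, a ∈ F g ↔ a ∈ N ∧ g * a * g⁻¹ = a := fun g a => by
    simp only [F, Subgroup.mem_inf, Subgroup.mem_centralizer_singleton_iff]
    constructor
    · rintro ⟨h1, h2⟩; exact ⟨h1, by rw [← h2, mul_inv_cancel_right]⟩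
    · rintro ⟨h1, h2⟩; exact ⟨h1, by rw [← eq_mul_inv_iff_mul_eq]; exact h2.symm⟩
  by_cases hqp : q = p
  · -- `p`-elements fix points
    have hnormal : ∀ m : M, ∃ i : ℕ, m * x * m⁻¹ = x ^ i := by
      intro m
      obtain ⟨i, s, hs, hms⟩ := hconj m
      refine ⟨i, ?_⟩
      have hspow : s ^ (p ^ a₀) = 1 := by
        have hcs : Commute (x ^ i) s := scalars_comm h hs _
        have h1 : (m * x * m⁻¹) ^ (p ^ a₀) = 1 := by
          rw [conj_pow, ← hqp, ← hxa, pow_orderOf_eq_one, mul_one, mul_inv_cancel]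
        rw [hms, hcs.mul_pow, ← pow_mul, mul_comm, pow_mul, ← hqp, ← hxa, pow_orderOf_eq_one,
          one_pow, one_mul] at h1
        rwa [← hqp, ← hxa]
      obtain ⟨j, hj⟩ := hs
      have hs1 : s = 1 := by
        apply Subtype.ext
        refine h.faithful _ s.2 fun a ha => ?_
        rw [hj a ha]
        by_cases ha1 : a = 1
        · rw [ha1, one_pow]
        have hk : ∀ k : ℕ, ((s ^ k : M) : G) * a * ((s ^ k : M) : G)⁻¹ = a ^ (j ^ k) := by
          intro k
          induction k with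
          | zero => simp
          | succ k ih =>
            calc ((s ^ (k + 1) : M) : G) * a * ((s ^ (k + 1) : M) : G)⁻¹
                = (s : G) * (((s ^ k : M) : G) * a * ((s ^ k : M) : G)⁻¹) * (s : G)⁻¹ := by
                  push_cast; rw [pow_succ']; group
              _ = _ := by rw [ih, ← conj_pow, hj a ha, ← pow_mul, pow_succ']
        have h2 := hk (p ^ a₀)
        rw [hspow] at h2
        have hap := h.exp a ha
        have h3 : ((j : ZMod p)) ^ (p ^ a₀) = 1 := by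
          apply pw_inj hap ha1
          rw [← Nat.cast_pow, ← pw_nat hap, ← h2, pw_one]
          simp
        rw [ZMod.pow_card_pow] at h3
        rw [pw_nat hap, h3, pw_one]
      rw [hms, hs1, mul_one]
    have hV := h.irred (F x) inf_le_left ?_ fun m hm a ha => ?_
    · apply hx1
      apply Subtype.ext
      exact h.faithful _ x.2 fun a ha => ((hF x a).mp (hV.symm ▸ ha)).2
    · -- a p-group fixes a point
      haveI : Fact q.Prime := ⟨hSq⟩
      let act : MulAction ↥(Subgroup.zpowers (x : G)) N :=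
        { smul := fun t a => ⟨(t : G) * a * (t : G)⁻¹, h.normal.conj_mem _ a.2 _⟩
          one_smul := fun a => Subtype.ext (by
            show ((1 : Subgroup.zpowers (x : G)) : G) * a * ((1 : Subgroup.zpowers (x : G)) : G)⁻¹ = a
            simp)
          mul_smul := fun s t a => Subtype.ext (by
            show ((s * t : Subgroup.zpowers (x : G)) : G) * a * ((s * t : Subgroup.zpowers (x : G)) : G)⁻¹ =
              (s : G) * ((t : G) * a * (t : G)⁻¹) * (s : G)⁻¹
            push_cast; group) }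
      have hX : IsPGroup p ↥(Subgroup.zpowers (x : G)) := by
        refine IsPGroup.of_card (n := a₀) ?_
        rw [Nat.card_zpowers, Subgroup.orderOf_coe, hxa, hqp]
      obtain ⟨j, hj⟩ := IsPGroup.iff_card.mp hNp
      have hpN : p ∣ Nat.card N := by
        rw [hj]
        exact dvd_pow_self p fun e => hN1 (Subgroup.card_eq_one.mp (by rw [hj, e, pow_zero]))
      obtain ⟨b, hb, hb1⟩ := hX.exists_fixed_point_of_prime_dvd_card_of_fixed_point N hpN
        (a := (1 : N)) (fun t => Subtype.ext (by show (t : G) * 1 * (t : G)⁻¹ = 1; group))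
      intro e
      have hbF : (b : G) ∈ F x := (hF x b).mpr ⟨b.2,
        congrArg Subtype.val (hb ⟨(x : G), Subgroup.mem_zpowers _⟩)⟩
      rw [e, Subgroup.mem_bot] at hbF
      exact hb1 (Subtype.ext hbF.symm)
    · obtain ⟨ha, hax⟩ := (hF x a).mp ha
      refine (hF x _).mpr ⟨h.normal.conj_mem a ha m, ?_⟩
      obtain ⟨i, hi⟩ := hnormal ⟨m, hm⟩⁻¹
      have hi' : m⁻¹ * (x : G) * m = (x : G) ^ i := by
        have := congrArg Subtype.val hi
        simpa using this
      have hfix : (m⁻¹ * (x : G) * m) * a * (m⁻¹ * (x : G) * m)⁻¹ = a := by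
        rw [hi']
        have hc : Commute (x : G) a := by
          show (x : G) * a = a * x
          rw [← mul_inv_eq_iff_eq_mul]; exact hax
        rw [(hc.pow_left i).eq, mul_inv_cancel_right]
      calc (x : G) * (m * a * m⁻¹) * (x : G)⁻¹
          = m * ((m⁻¹ * (x : G) * m) * a * (m⁻¹ * (x : G) * m)⁻¹) * m⁻¹ := by group
        _ = _ := by rw [hfix]
  -- `q ≠ p`
  obtain ⟨l, hl⟩ := exists_scalar h hSq hqp hxa'
  set V := F x with hVdef
  set W := (disp h (x : G)).range with hWdef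
  have hVN : V ≤ N := inf_le_left
  have hWN : W ≤ N := by rintro _ ⟨g, rfl⟩; exact disp_mem h _ g
  have hVx : ∀ a ∈ V, (x : G) * a * (x : G)⁻¹ = a := fun a ha => ((hF _ a).mp ha).2
  obtain ⟨v₀, hv₀, hv₀1⟩ : ∃ a ∈ V, a ≠ 1 := by
    by_contra hcon
    push Not at hcon
    obtain ⟨l', hl'⟩ := scalar_of_fpf h hSq hqp hxa'
      (fun a ha e => hcon a ((hF _ a).mpr ⟨ha, e⟩))
    exact hxns ⟨l'.val, hl'⟩
  obtain ⟨w₀, hw₀, hw₀1⟩ : ∃ a ∈ W, a ≠ 1 := by
    by_contra hcon
    push Not at hcon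
    refine hx1 (Subtype.ext (h.faithful _ x.2 fun a ha => ?_))
    exact (mul_inv_eq_one.mp (hcon _ ⟨⟨a, ha⟩, rfl⟩)).symm
  have hlpow : ∀ (k : ℕ) (a : G), a ∈ W →
      (x : G) ^ k * a * ((x : G) ^ k)⁻¹ = a ^ (l ^ k).val := by
    intro k
    induction k with
    | zero => intro a _; simp [pw_one]
    | succ k ih =>
      intro a ha
      calc (x : G) ^ (k + 1) * a * ((x : G) ^ (k + 1))⁻¹
          = (x : G) ^ k * ((x : G) * a * (x : G)⁻¹) * ((x : G) ^ k)⁻¹ := by rw [pow_succ]; group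
        _ = _ := by rw [hl a ha, ← conj_pow, ih a ha, ← pw_mul (h.exp a (hWN ha)), pow_succ]
  have hVpow : ∀ (k : ℕ) (a : G), a ∈ V → (x : G) ^ k * a * ((x : G) ^ k)⁻¹ = a := by
    intro k a ha
    have hc : Commute (x : G) a := by
      show (x : G) * a = a * x
      rw [← mul_inv_eq_iff_eq_mul]; exact hVx a ha
    rw [(hc.pow_left k).eq, mul_inv_cancel_right]
  have hl1 : l ≠ 1 := by
    intro e
    have h1 : ∀ k : ℕ, ∀ a ∈ N,
        (x : G) ^ k * a * ((x : G) ^ k)⁻¹ = a * (a⁻¹ * ((x : G) * a * (x : G)⁻¹)) ^ k := by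
      intro k
      induction k with
      | zero => intro a _; simp
      | succ k ih =>
        intro a ha
        set c := a⁻¹ * ((x : G) * a * (x : G)⁻¹) with hc
        have hcW : c ∈ W := by
          have : disp h (x : G) ⟨a, ha⟩ ∈ W := ⟨_, rfl⟩
          have e2 : c = (disp h (x : G) ⟨a, ha⟩)⁻¹ := by
            show c = (a * ((x : G) * a * (x : G)⁻¹)⁻¹)⁻¹
            rw [mul_inv_rev, inv_inv, hc]
            exact h.comm _ (inv_mem ha) _ (h.normal.conj_mem a ha _)
          rw [e2]; exact inv_mem this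
        have hcfix := hlpow k c hcW
        rw [e, one_pow, pw_one] at hcfix
        calc (x : G) ^ (k + 1) * a * ((x : G) ^ (k + 1))⁻¹
            = ((x : G) ^ k * a * ((x : G) ^ k)⁻¹) * ((x : G) ^ k * c * ((x : G) ^ k)⁻¹) := by
              rw [hc, pow_succ]; group
          _ = _ := by rw [ih a ha, hcfix, mul_assoc, ← hc, ← pow_succ]
    have h2 : x ^ p = 1 := by
      apply Subtype.ext
      refine h.faithful _ (x ^ p).2 fun a ha => ?_
      rw [SubgroupClass.coe_pow, h1 p a ha,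
        h.exp _ (mul_mem (inv_mem ha) (h.normal.conj_mem a ha _)), mul_one]
    have h3 := orderOf_dvd_of_pow_eq_one h2
    rw [hxa] at h3
    rcases Nat.eq_zero_or_pos a₀ with ha0 | ha0
    · rw [ha0, pow_zero] at hxa
      exact hx1 (orderOf_eq_one_iff.mp hxa)
    · exact hqp ((Nat.prime_dvd_prime_iff_eq hSq hp).mp ((dvd_pow_self q ha0.ne').trans h3))
  have hVW : ∀ a, a ∈ V → a ∈ W → a = 1 := by
    intro a ha hb
    have hap := h.exp a (hVN ha)
    by_contra ha1
    exact hl1 (pw_inj hap ha1 (by rw [← hl a hb, hVx a ha, pw_one]))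
  have hdec : ∀ v ∈ N, ∃ a ∈ V, ∃ b ∈ W, v = a * b := by
    intro v hv
    set c := disp h (x : G) ⟨v, hv⟩ with hc
    have hcW : c ∈ W := ⟨_, rfl⟩
    have hcp := h.exp c (hWN hcW)
    have hbW : c ^ ((1 - l)⁻¹).val ∈ W := pow_mem hcW _
    have hdb : disp h (x : G) ⟨_, hWN hbW⟩ = c := by
      show c ^ ((1 - l)⁻¹).val * ((x : G) * c ^ ((1 - l)⁻¹).val * (x : G)⁻¹)⁻¹ = c
      rw [← conj_pow, hl c hcW, ← pw_mul hcp, mul_inv_eq_iff_eq_mul]
      conv_rhs => rw [← pw_one (p := p) c]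
      rw [← pw_mul hcp, ← pw_add hcp, one_mul]
      congr 2
      have h0 : (1 : ZMod p) - l ≠ 0 := sub_ne_zero.mpr hl1.symm
      field_simp
      ring
    refine ⟨v * (c ^ ((1 - l)⁻¹).val)⁻¹, (hF _ _).mpr ⟨mul_mem hv (inv_mem (hWN hbW)), ?_⟩,
      _, hbW, by group⟩
    have e1 : disp h (x : G) (⟨v, hv⟩ * (⟨_, hWN hbW⟩ : N)⁻¹) = 1 := by
      rw [map_mul, map_inv, hdb, ← hc, mul_inv_cancel]
    exact (mul_inv_eq_one.mp e1).symm
  have huniq : ∀ a ∈ V, ∀ b ∈ W, a * b = 1 → a = 1 ∧ b = 1 := by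
    intro a ha b hb e
    have ha' : a = b⁻¹ := eq_inv_of_mul_eq_one_left e
    have ha1 := hVW a ha (ha' ▸ inv_mem hb)
    exact ⟨ha1, by rwa [ha1, one_mul] at e⟩
  -- every element stabilises or exchanges
  have hmove : ∀ m : M, (∀ a ∈ V, (m : G) * a * (m : G)⁻¹ ∈ V) ∨
      ((∀ a ∈ V, (m : G) * a * (m : G)⁻¹ ∈ W) ∧ (∀ a ∈ W, (m : G) * a * (m : G)⁻¹ ∈ V) ∧
        (∀ a ∈ V, ((m * x * m⁻¹ : M) : G) * a * ((m * x * m⁻¹ : M) : G)⁻¹ = a ^ l.val) ∧
        (∀ a ∈ W, ((m * x * m⁻¹ : M) : G) * a * ((m * x * m⁻¹ : M) : G)⁻¹ = a) ∧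
        Commute (m * x * m⁻¹) x) := by
    intro m
    obtain ⟨i, s, hs, hms⟩ := hconj m
    obtain ⟨j, hj⟩ := hs
    set μ : ZMod p := (j : ZMod p) with hμ
    have hy : ((m * x * m⁻¹ : M) : G) = (x : G) ^ i * (s : G) := by rw [hms]; simp
    set y' : G := ((m * x * m⁻¹ : M) : G) with hy'
    have hyV : ∀ a ∈ V, y' * a * y'⁻¹ = a ^ μ.val := by
      intro a ha
      calc y' * a * y'⁻¹ = (x : G) ^ i * ((s : G) * a * (s : G)⁻¹) * ((x : G) ^ i)⁻¹ := by
            rw [hy]; group
        _ = _ := by rw [hj a (hVN ha), ← conj_pow, hVpow i a ha, pw_nat (h.exp a (hVN ha))]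
    have hyW : ∀ a ∈ W, y' * a * y'⁻¹ = a ^ (μ * l ^ i).val := by
      intro a ha
      have hap := h.exp a (hWN ha)
      calc y' * a * y'⁻¹ = (x : G) ^ i * ((s : G) * a * (s : G)⁻¹) * ((x : G) ^ i)⁻¹ := by
            rw [hy]; group
        _ = _ := by rw [hj a (hWN ha), ← conj_pow, hlpow i a ha, pw_nat (show (a ^ (l ^ i).val) ^ p = 1 by rw [← pow_mul, mul_comm, pow_mul, hap, one_pow]), ← pw_mul hap, mul_comm]
    have hym : ∀ a, y' * ((m : G) * a * (m : G)⁻¹) * y'⁻¹ =
        (m : G) * ((x : G) * a * (x : G)⁻¹) * (m : G)⁻¹ := fun a => by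
      rw [hy']; push_cast; group
    have hsplit : ∀ a ∈ V, ∀ b ∈ W, ∀ ν : ZMod p, y' * (a * b) * y'⁻¹ = (a * b) ^ ν.val →
        a ^ μ.val = a ^ ν.val ∧ b ^ (μ * l ^ i).val = b ^ ν.val := by
      intro a ha b hb ν e
      rw [← conj_mul, hyV a ha, hyW b hb,
        Commute.mul_pow (show Commute a b from h.comm _ (hVN ha) _ (hWN hb))] at e
      have e2 := huniq _ (mul_mem (inv_mem (pow_mem ha ν.val)) (pow_mem ha μ.val)) _
        (mul_mem (pow_mem hb (μ * l ^ i).val) (inv_mem (pow_mem hb ν.val))) (by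
          calc (a ^ ν.val)⁻¹ * a ^ μ.val * (b ^ (μ * l ^ i).val * (b ^ ν.val)⁻¹)
              = (a ^ ν.val)⁻¹ * (a ^ μ.val * b ^ (μ * l ^ i).val) * (b ^ ν.val)⁻¹ := by group
            _ = 1 := by rw [e]; group)
      exact ⟨(inv_mul_eq_one.mp e2.1).symm, mul_inv_eq_one.mp e2.2⟩
    have hmV : ∀ a ∈ V, y' * ((m : G) * a * (m : G)⁻¹) * y'⁻¹ = (m : G) * a * (m : G)⁻¹ :=
      fun a ha => by rw [hym, hVx a ha]
    by_cases hμ1 : μ = 1
    · left
      have hinv : ∀ a ∈ V, (m : G)⁻¹ * a * (m : G) ∈ V := by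
        intro a ha
        have haN : (m : G)⁻¹ * a * (m : G) ∈ N := by
          have := h.normal.conj_mem a (hVN ha) (m : G)⁻¹
          rwa [inv_inv] at this
        refine (hF _ _).mpr ⟨haN, ?_⟩
        have h1 := hym ((m : G)⁻¹ * a * (m : G))
        rw [show (m : G) * ((m : G)⁻¹ * a * (m : G)) * (m : G)⁻¹ = a by group, hyV a ha, hμ1,
          pw_one] at h1
        conv_rhs => rw [h1]
        group
      have hmn : (m : G)⁻¹ ∈ Subgroup.normalizer (V : Set G) :=
        Subgroup.mem_normalizer_fintype fun a ha => by rw [inv_inv]; exact hinv a ha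
      have := inv_mem hmn
      rw [inv_inv] at this
      exact fun a ha => (Subgroup.mem_normalizer_iff.mp this a).mp ha
    · have hVW' : ∀ a ∈ V, (m : G) * a * (m : G)⁻¹ ∈ W := by
        intro a ha
        obtain ⟨b, hb, c, hc, e⟩ := hdec _ (h.normal.conj_mem a (hVN ha) (m : G))
        have h1 := hsplit b hb c hc 1 (by rw [← e, hmV a ha, pw_one])
        have hb1 : b = 1 := by
          by_contra hb1
          exact hμ1 (pw_inj (h.exp b (hVN hb)) hb1 h1.1)
        rw [e, hb1, one_mul]; exact hc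
      have hμl : μ * l ^ i = 1 := by
        have hw := hVW' v₀ hv₀
        have h1 := hyW _ hw
        rw [hmV v₀ hv₀] at h1
        refine (pw_inj (h.exp _ (hWN hw)) (fun e => hv₀1 (conj_eq_one_iff.mp e)) ?_)
        rw [← h1, pw_one]
      have hW' : ∀ a ∈ W, (m : G) * a * (m : G)⁻¹ ∈ V ∧ (a ≠ 1 → μ = l) := by
        intro a ha
        obtain ⟨b, hb, c, hc, e⟩ := hdec _ (h.normal.conj_mem a (hWN ha) (m : G))
        have h1 := hsplit b hb c hc l (by
          rw [← e, hym, hl a ha, conj_pow])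
        have hc1 : c = 1 := by
          by_contra hc1
          rw [hμl] at h1
          exact hl1 (pw_inj (h.exp c (hWN hc)) hc1 h1.2).symm
        rw [e, hc1, mul_one]
        refine ⟨hb, fun ha1 => pw_inj (h.exp b (hVN hb)) (fun hb1 => ha1 ?_) h1.1⟩
        rw [hb1, hc1, mul_one] at e
        exact conj_eq_one_iff.mp e
      have hμl' := (hW' w₀ hw₀).2 hw₀1
      refine Or.inr ⟨hVW', fun a ha => (hW' a ha).1, fun a ha => by rw [hyV a ha, hμl'],
        fun a ha => by rw [hyW a ha, hμl, pw_one], ?_⟩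
      rw [hms]
      exact ((Commute.refl x).pow_left i).mul_left (scalars_comm h ⟨j, hj⟩ x).symm
  -- some element exchanges
  obtain ⟨m, hm⟩ : ∃ m : M, ¬ ∀ a ∈ V, (m : G) * a * (m : G)⁻¹ ∈ V := by
    by_contra hcon
    push Not at hcon
    have hVN' := h.irred V hVN (fun e => hv₀1 (Subgroup.mem_bot.mp (e ▸ hv₀)))
      (fun m hm a ha => hcon ⟨m, hm⟩ a ha)
    exact hw₀1 (hVW w₀ (hVN' ▸ hWN hw₀) hw₀)
  obtain ⟨hmVW, hmWV, hy1, hy2, hycom⟩ := (hmove m).resolve_left hm
  -- `l = -1`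
  have hl2 : l * l = 1 := by
    have hlN : l ^ orderOf x = 1 := by
      apply pw_inj (h.exp w₀ (hWN hw₀)) hw₀1
      rw [← hlpow _ w₀ hw₀, ← SubgroupClass.coe_pow, pow_orderOf_eq_one, pw_one]
      simp
    have hN0 := orderOf_pos x
    set z : M := (m * x * m⁻¹) * x ^ (orderOf x - 1) with hz
    have hzV : ∀ a ∈ V, (z : G) * a * (z : G)⁻¹ = a ^ l.val := by
      intro a ha
      calc (z : G) * a * (z : G)⁻¹ = ((m * x * m⁻¹ : M) : G) *
            ((x : G) ^ (orderOf x - 1) * a * ((x : G) ^ (orderOf x - 1))⁻¹) *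
            ((m * x * m⁻¹ : M) : G)⁻¹ := by rw [hz]; push_cast; group
        _ = _ := by rw [hVpow _ a ha, hy1 a ha]
    have hzW : ∀ a ∈ W, (z : G) * a * (z : G)⁻¹ = a ^ (l ^ (orderOf x - 1)).val := by
      intro a ha
      calc (z : G) * a * (z : G)⁻¹ = ((m * x * m⁻¹ : M) : G) *
            ((x : G) ^ (orderOf x - 1) * a * ((x : G) ^ (orderOf x - 1))⁻¹) *
            ((m * x * m⁻¹ : M) : G)⁻¹ := by rw [hz]; push_cast; group
        _ = _ := by rw [hlpow _ a ha, hy2 _ (pow_mem ha _)]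
    have hzq : ∃ a, orderOf (z : G) = q ^ a := by
      have h1 : z ^ (q ^ a₀) = 1 := by
        rw [hz, (hycom.pow_right _).mul_pow, conj_pow, ← pow_mul, mul_comm, pow_mul, ← hxa,
          pow_orderOf_eq_one, one_pow, mul_one, mul_one, mul_inv_cancel]
      obtain ⟨k, -, hk⟩ := (Nat.dvd_prime_pow hSq).mp (orderOf_dvd_of_pow_eq_one h1)
      exact ⟨k, by rw [Subgroup.orderOf_coe, hk]⟩
    have hln1 : l ^ (orderOf x - 1) ≠ 1 := by
      intro e
      apply hl1
      calc l = l ^ (orderOf x - 1) * l := by rw [e, one_mul]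
        _ = 1 := by rw [← pow_succ, Nat.sub_add_cancel hN0, hlN]
    obtain ⟨ν, hν⟩ := scalar_of_fpf h hSq hqp hzq fun a ha e => by
      obtain ⟨b, hb, c, hc, rfl⟩ := hdec a ha
      rw [← conj_mul, hzV b hb, hzW c hc] at e
      have hcomm := h.comm _ (hVN hb) _ (hWN hc)
      obtain ⟨e1, e2⟩ := huniq _ (mul_mem (inv_mem hb) (pow_mem hb l.val)) _
        (mul_mem (pow_mem hc (l ^ (orderOf x - 1)).val) (inv_mem hc)) (by
          calc b⁻¹ * b ^ l.val * (c ^ (l ^ (orderOf x - 1)).val * c⁻¹)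
              = b⁻¹ * (b ^ l.val * c ^ (l ^ (orderOf x - 1)).val) * c⁻¹ := by group
            _ = 1 := by rw [e]; group)
      have hb1 : b = 1 := by
        by_contra hb1
        exact hl1 (pw_inj (h.exp b (hVN hb)) hb1 (by rw [pw_one]; exact (inv_mul_eq_one.mp e1).symm))
      have hc1 : c = 1 := by
        by_contra hc1
        exact hln1 (pw_inj (h.exp c (hWN hc)) hc1 (by rw [pw_one]; exact mul_inv_eq_one.mp e2))
      rw [hb1, hc1, one_mul]
    have hν1 : ν = l := pw_inj (h.exp v₀ (hVN hv₀)) hv₀1 (by rw [← hν v₀ (hVN hv₀), hzV v₀ hv₀])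
    have hν2 : ν = l ^ (orderOf x - 1) :=
      pw_inj (h.exp w₀ (hWN hw₀)) hw₀1 (by rw [← hν w₀ (hWN hw₀), hzW w₀ hw₀])
    calc l * l = l ^ (orderOf x - 1) * l := by rw [← hν2, hν1]
      _ = 1 := by rw [← pow_succ, Nat.sub_add_cancel hN0, hlN]
  have hlneg : l = -1 := (mul_self_eq_one_iff.mp hl2).resolve_left hl1
  have hp2 : p ≠ 2 := by
    intro e
    apply hl1
    subst e
    rw [hlneg]
    exact ZMod.neg_eq_self_mod_two 1
  -- an element of `M` centralising both parts is trivial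
  have hfaith : ∀ g : M, (∀ a ∈ V, (g : G) * a * (g : G)⁻¹ = a) →
      (∀ a ∈ W, (g : G) * a * (g : G)⁻¹ = a) → g = 1 := by
    intro g hgV hgW
    refine Subtype.ext (h.faithful _ g.2 fun a ha => ?_)
    obtain ⟨b, hb, c, hc, rfl⟩ := hdec a ha
    rw [← conj_mul, hgV b hb, hgW c hc]
  have hx2 : x * x = 1 := by
    refine hfaith _ (fun a ha => ?_) (fun a ha => ?_)
    · rw [← sq, SubgroupClass.coe_pow]; exact hVpow 2 a ha
    · rw [← sq, SubgroupClass.coe_pow, hlpow 2 a ha, sq, hl2, pw_one]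
  -- exchanging 2-elements square to 1
  have hsq : ∀ t : M, (∃ k, t ^ (2 ^ k) = 1) → (∀ a ∈ V, (t : G) * a * (t : G)⁻¹ ∈ W) →
      (∀ a ∈ W, (t : G) * a * (t : G)⁻¹ ∈ V) → t * t = 1 := by
    rintro t ⟨k, hk⟩ ht1 ht2
    obtain ⟨k', -, hk'⟩ := (Nat.dvd_prime_pow Nat.prime_two).mp (orderOf_dvd_of_pow_eq_one hk)
    obtain ⟨lt, hlt⟩ := exists_scalar h Nat.prime_two (Ne.symm hp2) (x := (t : G))
      ⟨k', by rw [Subgroup.orderOf_coe, hk']⟩
    exact hfaith _ (fun a ha => by simpa using swap_sq h hVN hWN hVW ht1 ht2 hlt a ha)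
      (fun a ha => by simpa using swap_sq h hWN hVN (fun b hb hb' => hVW b hb' hb) ht2 ht1 hlt a ha)
  -- the 2-part of `m` exchanges
  obtain ⟨k, o, ho, hord⟩ := Nat.exists_eq_two_pow_mul_odd (orderOf_pos m).ne'
  set t := m ^ o with ht
  have ht2 : t ^ (2 ^ k) = 1 := by rw [ht, ← pow_mul, mul_comm, ← hord, pow_orderOf_eq_one]
  obtain ⟨htV, htW⟩ : (∀ a ∈ V, (t : G) * a * (t : G)⁻¹ ∈ W) ∧
      (∀ a ∈ W, (t : G) * a * (t : G)⁻¹ ∈ V) := by
    obtain ⟨j, rfl⟩ := ho
    rw [ht]
    clear hord ht2 ht t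
    induction j with
    | zero => simpa using ⟨hmVW, hmWV⟩
    | succ j ih =>
      constructor <;> intro a ha
      · have := hmVW _ (hmWV _ (ih.1 a ha))
        convert this using 1
        push_cast
        rw [show 2 * (j + 1) + 1 = 1 + (1 + (2 * j + 1)) by ring, pow_add, pow_add, pow_one]
        group
      · have := hmWV _ (hmVW _ (ih.2 a ha))
        convert this using 1
        push_cast
        rw [show 2 * (j + 1) + 1 = 1 + (1 + (2 * j + 1)) by ring, pow_add, pow_add, pow_one]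
        group
  have htt := hsq t ⟨k, ht2⟩ htV htW
  obtain ⟨-, -, hu1, hu2, -⟩ := (hmove t).resolve_left fun hcon =>
    hv₀1 (conj_eq_one_iff.mp (hVW _ (hcon v₀ hv₀) (htV v₀ hv₀)))
  set t' := x * t with ht'
  have ht'sq : t' * t' = x * (t * x * t⁻¹) := by
    calc t' * t' = x * (t * x * t⁻¹) * (t * t) := by rw [ht']; group
      _ = _ := by rw [htt, mul_one]
  have hneg : ∀ a ∈ N, ((t' * t' : M) : G) * a * ((t' * t' : M) : G)⁻¹ = a ^ l.val := by
    intro a ha
    obtain ⟨b, hb, c, hc, rfl⟩ := hdec a ha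
    rw [ht'sq, ← conj_mul, Commute.mul_pow (show Commute b c from h.comm _ (hVN hb) _ (hWN hc))]
    congr 1
    · calc ((x * (t * x * t⁻¹) : M) : G) * b * ((x * (t * x * t⁻¹) : M) : G)⁻¹
          = (x : G) * (((t * x * t⁻¹ : M) : G) * b * ((t * x * t⁻¹ : M) : G)⁻¹) * (x : G)⁻¹ := by
            push_cast; group
        _ = _ := by rw [hu1 b hb, hVx _ (pow_mem hb _)]
    · calc ((x * (t * x * t⁻¹) : M) : G) * c * ((x * (t * x * t⁻¹) : M) : G)⁻¹
          = (x : G) * (((t * x * t⁻¹ : M) : G) * c * ((t * x * t⁻¹ : M) : G)⁻¹) * (x : G)⁻¹ := by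
            push_cast; group
        _ = _ := by rw [hu2 c hc, hl c hc]
  have ht'4 : t' ^ (2 ^ 2) = 1 := by
    refine hfaith _ (fun a ha => ?_) (fun a ha => ?_) <;>
    · have haN : a ∈ N := by first | exact hVN ha | exact hWN ha
      calc ((t' ^ (2 ^ 2) : M) : G) * a * ((t' ^ (2 ^ 2) : M) : G)⁻¹
          = ((t' * t' : M) : G) * (((t' * t' : M) : G) * a * ((t' * t' : M) : G)⁻¹) *
            ((t' * t' : M) : G)⁻¹ := by
            push_cast
            simp only [pow_succ, pow_zero, one_mul, Nat.reducePow]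
            group
        _ = a := by rw [hneg a haN, ← conj_pow, hneg a haN, ← pw_mul (h.exp a haN), hl2, pw_one]
  have ht'1 : ∀ a ∈ V, (t' : G) * a * (t' : G)⁻¹ ∈ W := by
    intro a ha
    have : (t' : G) * a * (t' : G)⁻¹ = (x : G) * ((t : G) * a * (t : G)⁻¹) * (x : G)⁻¹ := by
      rw [ht']; push_cast; group
    rw [this, hl _ (htV a ha)]
    exact pow_mem (htV a ha) _
  have ht'2 : ∀ a ∈ W, (t' : G) * a * (t' : G)⁻¹ ∈ V := by
    intro a ha
    have : (t' : G) * a * (t' : G)⁻¹ = (x : G) * ((t : G) * a * (t : G)⁻¹) * (x : G)⁻¹ := by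
      rw [ht']; push_cast; group
    rw [this, hVx _ (htW a ha)]
    exact htW a ha
  have h4 := hneg v₀ (hVN hv₀)
  rw [hsq t' ⟨2, ht'4⟩ ht'1 ht'2] at h4
  exact hl1 (pw_inj (h.exp v₀ (hVN hv₀)) hv₀1 (by rw [← h4, pw_one]; simp))

theorem supersolvable_aux (n : ℕ) : ∀ (G : Type u) [Group G] [Finite G], Nat.card G = n → Hyp G →
    Cfsg.IsSupersolvable G := by
  induction n using Nat.strongRecOn with | ind n ih => ?_
  intro G _ _ hn hG
  by_cases h1 : Nat.card G = 1
  · haveI : Subsingleton G := (Nat.card_eq_one_iff_unique.mp h1).1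
    exact CfsgLib.Supersolvable.of_subsingleton
  haveI : Group.IsSolvable G := solvable_aux _ G rfl fun H hH => ih _ (by
    rw [← hn]
    refine lt_of_le_of_ne (Subgroup.card_le_card_group H) fun e => hH (Subgroup.eq_top_of_card_eq H e)) H rfl
    (hG.subgroup H)
  have hquot : ∀ (N : Subgroup G) [N.Normal], N ≠ ⊥ → Cfsg.IsSupersolvable (G ⧸ N) := fun N _ hN =>
    ih _ (by
      rw [← hn, ← N.index_eq_card, ← N.card_mul_index]
      exact lt_mul_of_one_lt_left (Nat.pos_of_ne_zero Subgroup.index_ne_zero_of_finite)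
        ((Subgroup.one_lt_card_iff_ne_bot N).mpr hN)) _ rfl (hG.quotient N)
  refine CfsgLib.Supersolvable.of_prime_index fun M hM => ?_
  have hover : ∀ (K : Subgroup G) [K.Normal], K ≠ ⊥ → K ≤ M → M.index.Prime := by
    intro K _ hK hKM
    have hker : (QuotientGroup.mk' K).ker ≤ M := by rwa [QuotientGroup.ker_mk']
    have hMc : IsCoatom (M.map (QuotientGroup.mk' K)) := by
      refine ⟨fun e => hM.1 ?_, fun L hL => ?_⟩
      · rw [← Subgroup.comap_map_eq_self hker, e, Subgroup.comap_top]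
      · have h2 : M < L.comap (QuotientGroup.mk' K) := by
          refine lt_of_le_of_ne (Subgroup.map_le_iff_le_comap.mp hL.le) fun e => hL.ne ?_
          rw [e, Subgroup.map_comap_eq_self_of_surjective (QuotientGroup.mk'_surjective K)]
        rw [← Subgroup.map_comap_eq_self_of_surjective (QuotientGroup.mk'_surjective K) L,
          hM.2 _ h2, Subgroup.map_top_of_surjective _ (QuotientGroup.mk'_surjective K)]
    have h3 := CfsgLib.Supersolvable.maximal_prime_index (hquot K hK) _ hMc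
    rwa [Subgroup.index_map_eq _ (QuotientGroup.mk'_surjective K) hker] at h3
  haveI : Nontrivial G := by
    rw [← Finite.one_lt_card_iff_nontrivial]
    exact lt_of_le_of_ne Nat.card_pos (Ne.symm h1)
  obtain ⟨N, hN, hNne, hNmin⟩ := CfsgLib.Solvable.exists_minimal_normal (G := G)
  haveI := hN
  by_cases hNM : N ≤ M
  · exact hover N hNne hNM
  haveI : Group.IsSolvable N := inferInstance
  obtain ⟨p, hp, hexp⟩ :=
    CfsgLib.Solvable.exists_prime_pow_eq_one_of_minimal_normal hNne hNmin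
  haveI := Fact.mk hp
  have hcomm := CfsgLib.Solvable.mul_comm_of_minimal_normal hNne hNmin
  have hsup : M ⊔ N = ⊤ :=
    hM.2 _ (lt_of_le_of_ne le_sup_left fun e => hNM (e ▸ le_sup_right))
  have hnorm : ∀ V : Subgroup G, (∀ m ∈ M, ∀ a ∈ V, m * a * m⁻¹ ∈ V) →
      (∀ b ∈ N, ∀ a ∈ V, b * a * b⁻¹ ∈ V) → V.Normal := by
    intro V h2 h3
    rw [← Subgroup.normalizer_eq_top_iff, ← top_le_iff, ← hsup]
    exact sup_le (fun m hm => Subgroup.mem_normalizer_fintype fun a ha => h2 m hm a ha)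
      (fun b hb => Subgroup.mem_normalizer_fintype fun a ha => h3 b hb a ha)
  have hMN : M ⊓ N = ⊥ := by
    have hMNn : (M ⊓ N).Normal := hnorm _
      (fun m hm a ha => Subgroup.mem_inf.mpr
        ⟨mul_mem (mul_mem hm ha.1) (inv_mem hm), hN.conj_mem a ha.2 m⟩)
      (fun b hb a ha => by rw [hcomm b hb a ha.2, mul_inv_cancel_right]; exact ha)
    rcases hNmin _ hMNn inf_le_right with h2 | h2
    · exact h2
    · exact absurd (h2 ▸ inf_le_left : N ≤ M) hNM
  by_cases hC : M ⊓ Subgroup.centralizer (N : Set G) = ⊥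
  swap
  · haveI : (M ⊓ Subgroup.centralizer (N : Set G)).Normal := hnorm _
      (fun m hm a ha => Subgroup.mem_inf.mpr ⟨mul_mem (mul_mem hm ha.1) (inv_mem hm),
        (inferInstance : (Subgroup.centralizer (N : Set G)).Normal).conj_mem a ha.2 m⟩)
      (fun b hb a ha => by
        rw [Subgroup.mem_centralizer_iff.mp ha.2 b hb, mul_inv_cancel_right]; exact ha)
    exact hover _ hC inf_le_left
  have hset : Setting p N M :=
    { normal := hN
      comm := hcomm
      exp := hexp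
      faithful := fun m hm hma => by
        have : m ∈ M ⊓ Subgroup.centralizer (N : Set G) := ⟨hm, Subgroup.mem_centralizer_iff.mpr
          fun a ha => by
            conv_lhs => rw [← hma a ha]
            group⟩
        rwa [hC, Subgroup.mem_bot] at this
      irred := fun V hVN hV1 hV => by
        haveI := hnorm V hV fun b hb a ha => by
          rwa [hcomm b hb a (hVN ha), mul_inv_cancel_right]
        exact (hNmin V inferInstance hVN).resolve_left hV1
      super := ih _ (by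
        rw [← hn]
        exact lt_of_le_of_ne (Subgroup.card_le_card_group M) fun e => hM.1 (Subgroup.eq_top_of_card_eq M e))
        M rfl (hG.subgroup M)
      hyp := hG }
  have hidx : M.index = Nat.card N := by
    have h2 := Subgroup.relIndex_sup_right M N
    rw [hsup, Subgroup.relIndex_top_right, ← Subgroup.inf_relIndex_right, inf_comm, hMN,
      Subgroup.relIndex_bot_left] at h2
    have h3 := N.card_mul_index
    rw [h2, ← M.card_mul_index, mul_comm] at h3
    exact (Nat.eq_of_mul_eq_mul_left Nat.card_pos h3).symm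
  rw [hidx, card_eq_prime hset hNne]
  exact hp

end

/-- Let G be a finite group such that for every pair of distinct primes p and q, every p-element x and every q-element g of G, the order of the subgroup generated by x and g x g⁻¹ is not divisible by q². Then G is supersolvable. -/
theorem result {G : Type*} [Group G] [Finite G]
    (h : ∀ (p q : ℕ), p.Prime → q.Prime → p ≠ q → ∀ (x g : G), (∃ a : ℕ, orderOf x = p ^ a) → (∃ b : ℕ, orderOf g = q ^ b) →
      ¬ q ^ 2 ∣ Nat.card ↥(Subgroup.zpowers x ⊔ Subgroup.zpowers (g * x * g⁻¹))) :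
    Cfsg.IsSupersolvable G := by
  exact supersolvable_aux _ G rfl h

end Cfsg.Agent.S3033
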