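import Cfsg.Statements.S3035
import Cfsg.Agent.Inv54.DihedralEight

set_option autoImplicit false
open Cfsg

namespace Cfsg.Agent.S3035

/-- Let G be a finite group with an involution z whose centralizer is dihedral of order 8. Then G = C_G(z) O(G) with O(G) the largest normal subgroup of odd order, or G is isomorphic to the symmetric group of degree 4, the symmetric group of degree 5, the group SL₃(2), or the alternating group of degree 6. -/
theorem result {G : Type*} [Group G] [Finite G] (z : G) (hz : orderOf z = 2)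
    (hC : Nonempty (↥(Subgroup.centralizer ({z} : Set G)) ≃* DihedralGroup 4)) :
    Subgroup.centralizer ({z} : Set G) ⊔ Cfsg.oddCore G = ⊤ ∨ Nonempty (G ≃* Equiv.Perm (Fin 4)) ∨ Nonempty (G ≃* Equiv.Perm (Fin 5)) ∨
      Nonempty (G ≃* Matrix.SpecialLinearGroup (Fin 3) (ZMod 2)) ∨ Nonempty (G ≃* ↥(alternatingGroup (Fin 6))) := by
  rcases CfsgLib.Inv54.DihedralEight.trichotomy z hz hC with h | ⟨H, -, h | h⟩ | ⟨hs, h | h⟩
  · exact Or.inl h
  · exact Or.inr (Or.inl h)
  · exact Or.inr (Or.inr (Or.inl h))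
  · haveI := hs
    obtain ⟨e⟩ := CfsgLib.GLFourTwo.nonempty_equiv_GL32 h
    obtain ⟨e'⟩ := CfsgLib.Inv54.DihedralEight.nonempty_SL_GL
    exact Or.inr (Or.inr (Or.inr (Or.inl ⟨e.trans e'.symm⟩)))
  · haveI := hs
    exact Or.inr (Or.inr (Or.inr (Or.inr (Cfsg.Agent.S0497.result h))))

end Cfsg.Agent.S3035
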