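import Cfsg.Statements.S3036

import Cfsg.Agent.LocalEvenBasic.CardLattice

set_option autoImplicit false
open Cfsg

namespace Cfsg.Agent.S3036

open Subgroup CfsgLib.LocalEvenBasic

variable {G : Type*} [Group G] [Finite G]

/-- Chermak-Delgado measure. -/
noncomputable def meas (H : Subgroup G) : ℕ :=
  Nat.card H * Nat.card ↥(Subgroup.centralizer (H : Set G))

theorem meas_pos (H : Subgroup G) : 0 < meas H := Nat.mul_pos Nat.card_pos Nat.card_pos

theorem meas_submod (H K : Subgroup G) :
    meas H * meas K ≤ meas (H ⊓ K) * meas (H ⊔ K) := by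
  set C := Subgroup.centralizer (H : Set G) with hC
  set D := Subgroup.centralizer (K : Set G) with hD
  have h1 := card_mul_le_inf_mul_sup H K
  have h2 := card_mul_le_inf_mul_sup C D
  have h3 : C ⊔ D ≤ Subgroup.centralizer ((H ⊓ K : Subgroup G) : Set G) :=
    sup_le (Subgroup.centralizer_le (SetLike.coe_subset_coe.mpr inf_le_left))
      (Subgroup.centralizer_le (SetLike.coe_subset_coe.mpr inf_le_right))
  have h4 : C ⊓ D ≤ Subgroup.centralizer ((H ⊔ K : Subgroup G) : Set G) := by
    rw [Subgroup.le_centralizer_iff]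
    exact sup_le (Subgroup.le_centralizer_iff.mp inf_le_left)
      (Subgroup.le_centralizer_iff.mp inf_le_right)
  unfold meas
  calc _ = (Nat.card H * Nat.card K) * (Nat.card C * Nat.card D) := by rw [← hC, ← hD]; ring
    _ ≤ (Nat.card ↥(H ⊓ K) * Nat.card ↥(H ⊔ K)) * (Nat.card ↥(C ⊓ D) * Nat.card ↥(C ⊔ D)) :=
        Nat.mul_le_mul h1 h2
    _ ≤ (Nat.card ↥(H ⊓ K) * Nat.card ↥(H ⊔ K)) *
        (Nat.card ↥(Subgroup.centralizer ((H ⊔ K : Subgroup G) : Set G)) *
         Nat.card ↥(Subgroup.centralizer ((H ⊓ K : Subgroup G) : Set G))) := by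
        apply Nat.mul_le_mul_left
        rw [mul_comm (Nat.card ↥(C ⊓ D)), mul_comm (Nat.card ↥(Subgroup.centralizer ((H ⊔ K : Subgroup G) : Set G)))]
        exact Nat.mul_le_mul (Subgroup.card_le_of_le h3) (Subgroup.card_le_of_le h4)
    _ = _ := by ring

/-- Conjugation preserves the measure. -/
theorem meas_map (e : G ≃* G) (H : Subgroup G) : meas (H.map e.toMonoidHom) = meas H := by
  have h : Subgroup.centralizer ((H.map e.toMonoidHom : Subgroup G) : Set G)
      = (Subgroup.centralizer (H : Set G)).map e.toMonoidHom := by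
    ext x
    simp only [Subgroup.mem_centralizer_iff, Subgroup.coe_map, Subgroup.mem_map]
    constructor
    · intro hx
      refine ⟨e.symm x, ?_, by simp⟩
      intro a ha
      apply e.injective
      simpa using hx (e a) ⟨a, ha, rfl⟩
    · rintro ⟨y, hy, rfl⟩ _ ⟨a, ha, rfl⟩
      show e a * e y = e y * e a
      rw [← map_mul, ← map_mul, hy a ha]
  have hc : ∀ K : Subgroup G, Nat.card (K.map e.toMonoidHom) = Nat.card K := fun K =>
    Nat.card_congr (K.equivMapOfInjective e.toMonoidHom e.injective).symm.toEquiv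
  unfold meas; rw [h, hc, hc]

/-- Let G be a finite non-abelian simple group and A a proper nontrivial subgroup of G. Then |G| > |A| · |C_G(A)|. In particular |G| > |A|² for every nontrivial abelian subgroup A of G. -/
theorem result {G : Type*} [Group G] [Finite G] [IsSimpleGroup G] (hG : ¬ IsMulCommutative G) (A : Subgroup G) (hA1 : A ≠ ⊥) (hA2 : A ≠ ⊤) : Nat.card A * Nat.card ↥(Subgroup.centralizer (A : Set G)) < Nat.card G := by
  by_contra hcon
  push Not at hcon
  have hcenter : Subgroup.center G = ⊥ := by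
    rcases (inferInstance : (Subgroup.center G).Normal).eq_bot_or_eq_top with h | h
    · exact h
    · refine absurd ⟨⟨fun a b => ?_⟩⟩ hG
      exact (Subgroup.mem_center_iff.mp (h ▸ Subgroup.mem_top b)) a
  have hbot : meas (⊥ : Subgroup G) = Nat.card G := by
    unfold meas
    rw [Subgroup.coe_bot]
    have : Subgroup.centralizer ({1} : Set G) = ⊤ := by
      ext; simp [Subgroup.mem_centralizer_iff]
    rw [this]; simp
  have htop : meas (⊤ : Subgroup G) = Nat.card G := by
    unfold meas
    rw [Subgroup.coe_top, Subgroup.centralizer_univ, hcenter]; simp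
  obtain ⟨X₀, hX₀⟩ := Finite.exists_max (meas (G := G))
  set M := meas X₀ with hM
  have hclosed : ∀ X Y : Subgroup G, meas X = M → meas Y = M →
      meas (X ⊓ Y) = M ∧ meas (X ⊔ Y) = M := by
    intro X Y hX hY
    have h := meas_submod X Y
    rw [hX, hY] at h
    have ha := hX₀ (X ⊓ Y)
    have hb := hX₀ (X ⊔ Y)
    have hpos := meas_pos X₀
    constructor <;> nlinarith [meas_pos (X ⊓ Y), meas_pos (X ⊔ Y)]
  have hMle : M ≤ Nat.card G := by
    obtain ⟨m0, hm0, hmin⟩ := Set.Finite.exists_minimal
      (s := {X : Subgroup G | meas X = M}) (Set.toFinite _) ⟨X₀, rfl⟩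
    have hle : ∀ X : Subgroup G, meas X = M → m0 ≤ X := fun X hX =>
      inf_eq_left.mp (le_antisymm inf_le_left (hmin (hclosed m0 X hm0 hX).1 inf_le_left))
    have hn : m0.Normal := by
      constructor
      intro a ha g
      have h1 : m0 ≤ m0.map (MulAut.conj g⁻¹).toMonoidHom := hle _ (by rw [meas_map]; exact hm0)
      obtain ⟨b, hb, hba⟩ := Subgroup.mem_map.mp (h1 ha)
      have : g * a * g⁻¹ = b := by rw [← hba]; simp [mul_assoc]
      rw [this]; exact hb
    rcases hn.eq_bot_or_eq_top with h | h
    · exact le_of_eq (hm0 ▸ h ▸ hbot)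
    · exact le_of_eq (hm0 ▸ h ▸ htop)
  have hA : meas A = M := le_antisymm (hX₀ A) (hMle.trans hcon)
  have hMeq : M = Nat.card G := le_antisymm hMle (hA ▸ hcon)
  obtain ⟨B, ⟨hB, hAB, hBtop⟩, hBmax⟩ := Set.Finite.exists_maximal
    (s := {X : Subgroup G | meas X = M ∧ A ≤ X ∧ X ≠ ⊤}) (Set.toFinite _) ⟨A, hA, le_rfl, hA2⟩
  have hnorm : B.Normal := by
    constructor
    intro b hb g
    have hB' : meas (B.map (MulAut.conj g).toMonoidHom) = M := by rw [meas_map]; exact hB
    obtain ⟨hinf, hsup⟩ := hclosed B _ hB hB'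
    by_cases htopj : B ⊔ B.map (MulAut.conj g).toMonoidHom = ⊤
    · have key : Nat.card B * Nat.card (B.map (MulAut.conj g).toMonoidHom) =
          Nat.card ↥(B ⊓ B.map (MulAut.conj g).toMonoidHom) * Nat.card G := by
        set B' := B.map (MulAut.conj g).toMonoidHom with hB'def
        have h1 := card_mul_le_inf_mul_sup B B'
        have h2 := card_mul_le_inf_mul_sup (Subgroup.centralizer (B : Set G))
          (Subgroup.centralizer (B' : Set G))
        have h3 : Subgroup.centralizer (B : Set G) ⊔ Subgroup.centralizer (B' : Set G) ≤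
            Subgroup.centralizer ((B ⊓ B' : Subgroup G) : Set G) :=
          sup_le (Subgroup.centralizer_le (SetLike.coe_subset_coe.mpr inf_le_left))
            (Subgroup.centralizer_le (SetLike.coe_subset_coe.mpr inf_le_right))
        have h4 : Subgroup.centralizer (B : Set G) ⊓ Subgroup.centralizer (B' : Set G) ≤ ⊥ := by
          rw [← hcenter, ← Subgroup.centralizer_univ, ← Subgroup.coe_top, ← htopj,
            Subgroup.le_centralizer_iff]
          exact sup_le (Subgroup.le_centralizer_iff.mp inf_le_left)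
            (Subgroup.le_centralizer_iff.mp inf_le_right)
        rw [le_bot_iff.mp h4, Subgroup.card_bot, one_mul] at h2
        rw [htopj, Subgroup.card_top] at h1
        have h5 := h2.trans (Subgroup.card_le_of_le h3)
        unfold meas at hinf hB hB'
        rw [hMeq] at hinf hB hB'
        have h6 : (Nat.card B * Nat.card B') *
            (Nat.card ↥(Subgroup.centralizer (B : Set G)) * Nat.card ↥(Subgroup.centralizer (B' : Set G)))
            = Nat.card G * Nat.card G := by
          calc _ = (Nat.card B * Nat.card ↥(Subgroup.centralizer (B : Set G))) *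
                (Nat.card B' * Nat.card ↥(Subgroup.centralizer (B' : Set G))) := by ring
            _ = _ := by rw [hB, hB']
        refine le_antisymm h1 ?_
        by_contra hlt
        push Not at hlt
        have : Nat.card G * Nat.card G < Nat.card G * Nat.card G := by
          calc Nat.card G * Nat.card G = _ := h6.symm
            _ < (Nat.card ↥(B ⊓ B') * Nat.card G) *
              (Nat.card ↥(Subgroup.centralizer (B : Set G)) * Nat.card ↥(Subgroup.centralizer (B' : Set G))) :=
                Nat.mul_lt_mul_of_pos_right hlt (Nat.mul_pos Nat.card_pos Nat.card_pos)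
            _ ≤ (Nat.card ↥(B ⊓ B') * Nat.card G) *
              Nat.card ↥(Subgroup.centralizer ((B ⊓ B' : Subgroup G) : Set G)) :=
                Nat.mul_le_mul_left _ h5
            _ = (Nat.card ↥(B ⊓ B') * Nat.card ↥(Subgroup.centralizer ((B ⊓ B' : Subgroup G) : Set G)))
                * Nat.card G := by ring
            _ = _ := by rw [hinf]
        exact lt_irrefl _ this
      obtain ⟨k, hk, a, ha, hka⟩ := exists_mul_of_card_eq B _ key g
      obtain ⟨c, hc, rfl⟩ := Subgroup.mem_map.mp hk
      simp only [MulEquiv.coe_toMonoidHom, MulAut.conj_apply] at hka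
      have h1 : 1 = c * g⁻¹ * a := by
        have h2 := congrArg (fun t => g⁻¹ * t) hka
        simpa [mul_assoc] using h2
      have hg : g = a * c := by
        have h2 : c⁻¹ * a⁻¹ = g⁻¹ := by
          have h3 := congrArg (fun t => c⁻¹ * t * a⁻¹) h1
          simpa [mul_assoc] using h3
        calc g = (g⁻¹)⁻¹ := (inv_inv g).symm
          _ = (c⁻¹ * a⁻¹)⁻¹ := by rw [h2]
          _ = a * c := by group
      have hgB : g ∈ B := hg ▸ B.mul_mem ha hc
      exact B.mul_mem (B.mul_mem hgB hb) (B.inv_mem hgB)
    · have hle : B ⊔ B.map (MulAut.conj g).toMonoidHom ≤ B :=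
        hBmax ⟨hsup, hAB.trans le_sup_left, htopj⟩ le_sup_left
      exact hle (Subgroup.mem_sup_right ⟨b, hb, rfl⟩)
  rcases hnorm.eq_bot_or_eq_top with h | h
  · exact hA1 (le_bot_iff.mp (h ▸ hAB))
  · exact hBtop h

end Cfsg.Agent.S3036
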