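import Cfsg.Statements.S3037

import Cfsg.Agent.LocalEvenBasic.CardLattice

set_option autoImplicit false
open Cfsg

namespace Cfsg.Agent.S3037

open Subgroup CfsgLib.LocalEvenBasic

variable {X : Type*} [Group X] [Finite X]

theorem f_submod (V B C : Subgroup X) (α : ℝ) (hα : 0 < α) :
    ((Nat.card B : ℝ) ^ α * (Nat.card ↥(V ⊓ centralizer (B : Set X)) : ℝ)) *
      ((Nat.card C : ℝ) ^ α * (Nat.card ↥(V ⊓ centralizer (C : Set X)) : ℝ)) ≤
    ((Nat.card ↥(B ⊓ C) : ℝ) ^ α * (Nat.card ↥(V ⊓ centralizer ((B ⊓ C : Subgroup X) : Set X)) : ℝ)) *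
      ((Nat.card ↥(B ⊔ C) : ℝ) ^ α * (Nat.card ↥(V ⊓ centralizer ((B ⊔ C : Subgroup X) : Set X)) : ℝ)) := by
  have h1 := card_mul_le_inf_mul_sup B C
  have h2 := card_mul_le_inf_mul_sup (V ⊓ centralizer (B : Set X)) (V ⊓ centralizer (C : Set X))
  have h3 : (V ⊓ centralizer (B : Set X)) ⊔ (V ⊓ centralizer (C : Set X)) ≤
      V ⊓ centralizer ((B ⊓ C : Subgroup X) : Set X) :=
    sup_le (inf_le_inf_left _ (centralizer_le (SetLike.coe_subset_coe.mpr inf_le_left)))
      (inf_le_inf_left _ (centralizer_le (SetLike.coe_subset_coe.mpr inf_le_right)))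
  have h4 : (V ⊓ centralizer (B : Set X)) ⊓ (V ⊓ centralizer (C : Set X)) ≤
      V ⊓ centralizer ((B ⊔ C : Subgroup X) : Set X) := by
    refine le_inf (inf_le_left.trans inf_le_left) ?_
    rw [le_centralizer_iff]
    exact sup_le (le_centralizer_iff.mp (inf_le_left.trans inf_le_right))
      (le_centralizer_iff.mp (inf_le_right.trans inf_le_right))
  have h5 : Nat.card ↥(V ⊓ centralizer (B : Set X)) * Nat.card ↥(V ⊓ centralizer (C : Set X)) ≤
      Nat.card ↥(V ⊓ centralizer ((B ⊓ C : Subgroup X) : Set X)) *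
      Nat.card ↥(V ⊓ centralizer ((B ⊔ C : Subgroup X) : Set X)) := by
    refine h2.trans ?_
    rw [mul_comm]
    exact Nat.mul_le_mul (card_le_of_le h3) (card_le_of_le h4)
  have e1 : (Nat.card B : ℝ) ^ α * (Nat.card C : ℝ) ^ α ≤
      (Nat.card ↥(B ⊓ C) : ℝ) ^ α * (Nat.card ↥(B ⊔ C) : ℝ) ^ α := by
    rw [← Real.mul_rpow (by positivity) (by positivity), ← Real.mul_rpow (by positivity) (by positivity)]
    exact Real.rpow_le_rpow (by positivity) (by exact_mod_cast h1) hα.le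
  have e2 : (Nat.card ↥(V ⊓ centralizer (B : Set X)) : ℝ) * Nat.card ↥(V ⊓ centralizer (C : Set X)) ≤
      (Nat.card ↥(V ⊓ centralizer ((B ⊓ C : Subgroup X) : Set X)) : ℝ) *
      Nat.card ↥(V ⊓ centralizer ((B ⊔ C : Subgroup X) : Set X)) := by exact_mod_cast h5
  have := mul_le_mul e1 e2 (by positivity) (by positivity)
  linarith

/-- Let V and G be subgroups of a finite group with V an elementary abelian p-group (p prime) on which G acts faithfully and irreducibly by conjugation: G normalizes V, G ∩ C(V) = 1, and the only subgroups of V normalized by G are 1 and V. If for some nontrivial subgroup A of G and some real α > 0 one has |V| ≤ |A|^α · |C_V(A)|, then |V| ≤ |G|^α. -/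
theorem result {X : Type*} [Group X] [Finite X] {p : ℕ} [Fact p.Prime] (V G : Subgroup X) (hV : Cfsg.IsElementaryAbelian p V)
    (hGV : G ≤ Subgroup.normalizer (V : Set X)) (hfaith : G ⊓ Subgroup.centralizer (V : Set X) = ⊥)
    (hirr : ∀ W : Subgroup X, W ≤ V → G ≤ Subgroup.normalizer (W : Set X) → W = ⊥ ∨ W = V)
    (A : Subgroup X) (hA : A ≤ G) (hA1 : A ≠ ⊥) (α : ℝ) (hα : 0 < α)
    (hbig : (Nat.card V : ℝ) ≤ (Nat.card A : ℝ) ^ α * (Nat.card ↥(V ⊓ Subgroup.centralizer (A : Set X)) : ℝ)) :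
    (Nat.card V : ℝ) ≤ (Nat.card G : ℝ) ^ α := by
  let f : Subgroup X → ℝ := fun B => (Nat.card B : ℝ) ^ α * (Nat.card ↥(V ⊓ centralizer (B : Set X)) : ℝ)
  have hne : Nonempty {B : Subgroup X // B ≤ G} := ⟨⟨A, hA⟩⟩
  obtain ⟨B₀, hB₀⟩ := Finite.exists_max (fun B : {B : Subgroup X // B ≤ G} => f B.1)
  obtain ⟨B, ⟨hBG, hBf⟩, hBmax⟩ := Set.Finite.exists_maximal
    (s := {B : Subgroup X | B ≤ G ∧ f B = f B₀.1}) (Set.toFinite _) ⟨B₀.1, B₀.2, rfl⟩
  have hfmax : ∀ C, C ≤ G → f C ≤ f B := fun C hC => hBf ▸ hB₀ ⟨C, hC⟩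
  have hle : ∀ C, C ≤ G → f C = f B → C ≤ B := by
    intro C hC hCf
    have h := f_submod V B C α hα
    change f B * f C ≤ f (B ⊓ C) * f (B ⊔ C) at h
    rw [hCf] at h
    have ha := hfmax (B ⊓ C) (inf_le_left.trans hBG)
    have hb := hfmax (B ⊔ C) (sup_le hBG hC)
    have hpos : 0 < f B := mul_pos (Real.rpow_pos_of_pos (by exact_mod_cast Nat.card_pos) α)
      (by exact_mod_cast Nat.card_pos)
    have hsup : f (B ⊔ C) = f B := by
      refine le_antisymm hb (le_of_mul_le_mul_left ?_ hpos)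
      refine h.trans (mul_le_mul_of_nonneg_right ha ?_)
      exact mul_nonneg (Real.rpow_nonneg (Nat.cast_nonneg _) _) (Nat.cast_nonneg _)
    exact le_sup_right.trans (hBmax ⟨sup_le hBG hC, hsup.trans hBf⟩ le_sup_left)
  have hfA : (Nat.card V : ℝ) ≤ f A := hbig
  have hbot : f ⊥ = Nat.card V := by
    have : centralizer ((⊥ : Subgroup X) : Set X) = ⊤ := by
      ext; simp [mem_centralizer_iff]
    simp only [f]
    rw [this, inf_top_eq, Subgroup.card_bot]
    simp
  have hB1 : B ≠ ⊥ := by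
    intro h
    apply hA1
    rw [← le_bot_iff, ← h]
    exact hle A hA (le_antisymm (hfmax A hA) (by rw [h, hbot]; exact hfA))
  have hmap : ∀ g ∈ G, ∀ x : X, x ∈ B → g * x * g⁻¹ ∈ B := by
    intro g hg x hx
    have hBg : B.map (MulAut.conj g).toMonoidHom ≤ G := by
      rintro _ ⟨b, hb, rfl⟩
      exact G.mul_mem (G.mul_mem hg (hBG hb)) (G.inv_mem hg)
    refine hle _ hBg ?_ ⟨x, hx, rfl⟩
    have hc : ∀ K : Subgroup X, Nat.card (K.map (MulAut.conj g).toMonoidHom) = Nat.card K := fun K =>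
      Nat.card_congr (K.equivMapOfInjective _ (MulAut.conj g).injective).symm.toEquiv
    have hVC : V ⊓ centralizer ((B.map (MulAut.conj g).toMonoidHom : Subgroup X) : Set X) =
        (V ⊓ centralizer (B : Set X)).map (MulAut.conj g).toMonoidHom := by
      ext y
      simp only [mem_inf, mem_centralizer_iff, Subgroup.mem_map, Subgroup.coe_map, MulEquiv.coe_toMonoidHom]
      constructor
      · rintro ⟨hyV, hy⟩
        refine ⟨g⁻¹ * y * g, ⟨?_, ?_⟩, by simp [mul_assoc]⟩
        · exact (mem_normalizer_iff''.mp (hGV hg) y).mp hyV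
        · intro b hb
          apply (MulAut.conj g).injective
          simpa [mul_assoc] using hy _ ⟨b, hb, rfl⟩
      · rintro ⟨z, ⟨hzV, hz⟩, rfl⟩
        refine ⟨(mem_normalizer_iff.mp (hGV hg) z).mp hzV, ?_⟩
        rintro _ ⟨b, hb, rfl⟩
        rw [← map_mul, ← map_mul, hz b hb]
    simp only [f, hc, hVC]
  have hWbot : V ⊓ centralizer (B : Set X) = ⊥ := by
    refine (hirr _ inf_le_left ?_).resolve_right ?_
    · intro g hg
      have key : ∀ g ∈ G, ∀ y, y ∈ V ⊓ centralizer (B : Set X) → g * y * g⁻¹ ∈ V ⊓ centralizer (B : Set X) := by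
        intro g hg y hy
        refine ⟨(mem_normalizer_iff.mp (hGV hg) y).mp hy.1, mem_centralizer_iff.mpr fun b hb => ?_⟩
        have := mem_centralizer_iff.mp hy.2 _ (hmap g⁻¹ (G.inv_mem hg) b hb)
        apply (MulAut.conj g⁻¹).injective
        simpa [mul_assoc] using this
      rw [mem_normalizer_iff]
      intro y
      exact ⟨key g hg y, fun hy => by simpa [mul_assoc] using key g⁻¹ (G.inv_mem hg) _ hy⟩
    · intro h
      apply hB1
      rw [← le_bot_iff, ← hfaith]
      refine le_inf hBG ?_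
      rw [le_centralizer_iff]
      exact h ▸ inf_le_right
  calc (Nat.card V : ℝ) ≤ f A := hfA
    _ ≤ f B := hfmax A hA
    _ = (Nat.card B : ℝ) ^ α := by
      simp only [f]
      rw [hWbot, Subgroup.card_bot]
      simp
    _ ≤ _ := Real.rpow_le_rpow (by positivity) (by exact_mod_cast card_le_of_le hBG) hα.le

end Cfsg.Agent.S3037
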