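import Cfsg.Statements.S3049
import Cfsg.Agent.Balance.Core
import Cfsg.Agent.Components.FStar
import Cfsg.Agent.IsolatedP.Basic
import Cfsg.Agent.Transfer.Frobenius
import Cfsg.Agent.OddOrder.BG1Stab
import Cfsg.Agent.S0542
import Cfsg.Agent.Solvable.Fitting
import Cfsg.Agent.PLocal.Cores

set_option autoImplicit false
open Cfsg

namespace Cfsg.Agent.S3049
open Subgroup CfsgLib

universe u

/-- A perfect group of order divisible by the odd prime `p` has two conjugate elements of order
dividing `p` in a Sylow subgroup. -/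
theorem false_of_no_fusion {G : Type u} [Group G] [Finite G] {p : ℕ} [Fact p.Prime] (hp : p ≠ 2)
    (hperf : Group.IsPerfect G) (hdiv : p ∣ Nat.card G) (P : Sylow p G)
    (h : ∀ u ∈ (P : Subgroup G), u ^ p = 1 → ∀ g : G, g * u * g⁻¹ ∈ (P : Subgroup G) →
      g * u * g⁻¹ = u) : False := by
  obtain ⟨R, N, hN, hc⟩ : Cfsg.HasNormalPComplement p G := by
    refine CfsgLib.Transfer.hasNormalPComplement_of_local P fun Q hQ g hg hgp => ?_
    refine mem_centralizer_iff.mpr fun x hx => ?_
    refine (CfsgLib.OddOrder.Stab.commute_of_fix_prime_order hp (P.2.to_le hQ) hgp hg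
      (fun y hy hyp => ?_) x hx).eq.symm
    exact mul_inv_eq_iff_eq_mul.mp (h y (hQ hy) hyp g (hQ ((mem_normalizer_iff.mp hg y).mp hy)))
  have hcard : Nat.card (G ⧸ N) = Nat.card (R : Subgroup G) := by
    rw [← Subgroup.index_eq_card]; exact hc.symm.index_eq_card
  have hR : 1 < Nat.card (R : Subgroup G) := by
    haveI := (Subgroup.nontrivial_iff_ne_bot (R : Subgroup G)).mpr (R.ne_bot_of_dvd_card hdiv)
    exact Finite.one_lt_card
  haveI : Nontrivial (G ⧸ N) := Finite.one_lt_card_iff_nontrivial.mp (hcard ▸ hR)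
  obtain ⟨k, hk⟩ := IsPGroup.iff_card.mp R.2
  haveI : Group.IsNilpotent (G ⧸ N) :=
    (IsPGroup.of_card (p := p) (n := k) (hcard.trans hk)).isNilpotent
  refine (IsSolvable.commutator_lt_top_of_nontrivial (G ⧸ N)).ne ?_
  rw [commutator_def, ← Subgroup.map_top_of_surjective _ (QuotientGroup.mk'_surjective N),
    ← Subgroup.map_commutator, ← commutator_def, hperf.commutator_eq_top]

variable {G : Type u} [Group G] [Finite G] {p : ℕ} [Fact p.Prime]

/-- An element of order dividing `p` of a Sylow subgroup through `x` that centralizes a component lies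
in `⟨x⟩`. -/
theorem mem_zpowers_of_centralizes (hp : p ≠ 2) (hcore : Cfsg.pPrimeCore p G = ⊥)
    (hrank : Cfsg.PRankLE p 2 G) {x : G} (hx : orderOf x = p) (hiso : Cfsg.IsIsolated x)
    (P : Sylow p G) (hxP : x ∈ (P : Subgroup G)) {L : Subgroup G} (hL : Cfsg.IsComponent L)
    {z : G} (hzP : z ∈ (P : Subgroup G)) (hzp : z ^ p = 1) (hzL : ∀ l ∈ L, Commute l z) :
    z ∈ zpowers x := by
  classical
  by_contra hzx
  have hcx : ∀ y ∈ (P : Subgroup G), Commute y x :=
    CfsgLib.IsolatedP.commute_of_mem hiso P.2 hxP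
  have hxz : Commute x z := (hcx z hzP).symm
  have hxp : x ^ p = 1 := hx ▸ pow_orderOf_eq_one x
  set B : Subgroup G := closure {x, z} with hB
  have hform : ∀ w ∈ B, ∃ i j : ℤ, w = x ^ i * z ^ j := by
    intro w hw
    induction hw using closure_induction with
    | mem w hw =>
      rcases hw with rfl | rfl
      · exact ⟨1, 0, by simp⟩
      · exact ⟨0, 1, by simp⟩
    | one => exact ⟨0, 0, by simp⟩
    | mul a b _ _ ha hb =>
      obtain ⟨i, j, rfl⟩ := ha
      obtain ⟨i', j', rfl⟩ := hb
      refine ⟨i + i', j + j', ?_⟩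
      rw [zpow_add, zpow_add, Commute.mul_mul_mul_comm (hxz.symm.zpow_zpow j i')]
    | inv a _ ha =>
      obtain ⟨i, j, rfl⟩ := ha
      exact ⟨-i, -j, by rw [mul_inv_rev, ← zpow_neg, ← zpow_neg, (hxz.zpow_zpow (-i) (-j)).eq]⟩
  have hBP : B ≤ (P : Subgroup G) := (closure_le _).mpr (Set.insert_subset hxP (Set.singleton_subset_iff.mpr hzP))
  have hBcard : p ^ 2 ≤ Nat.card B := by
    have hxB : zpowers x ≤ B := zpowers_le.mpr (subset_closure (by simp))
    have hlt : zpowers x < B := lt_of_le_of_ne hxB fun e => hzx (e ▸ subset_closure (by simp))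
    have h1 : Nat.card (zpowers x) < Nat.card B := by
      by_contra h
      exact hlt.ne (eq_of_le_of_card_ge hxB (not_lt.mp h))
    rw [Nat.card_zpowers, hx] at h1
    obtain ⟨k, hk⟩ := IsPGroup.iff_card.mp (P.2.to_le hBP)
    rw [hk] at h1 ⊢
    refine Nat.pow_le_pow_right (Fact.out : p.Prime).pos ?_
    by_contra hk2
    interval_cases k
    · simp at h1; exact absurd h1 (by have := (Fact.out : p.Prime).two_le; omega)
    · simp at h1
  obtain ⟨Q, hQ⟩ := Cfsg.Agent.S0542.result p L hL.1 P
  have hdiv : p ∣ Nat.card L := CfsgLib.Balance.dvd_card_component hcore hL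
  refine false_of_no_fusion hp hL.2.1 hdiv Q fun u hu hup g hg => ?_
  rw [hQ, mem_subgroupOf] at hu hg
  set y : G := (u : G) with hy
  have hyp : y ^ p = 1 := by rw [hy, ← SubgroupClass.coe_pow, hup]; rfl
  have hyB : y ∈ B := by
    set A : Subgroup G := closure {x, z, y} with hA
    have hBA : B ≤ A := closure_mono (by simp [Set.insert_subset_iff])
    have hxy : Commute x y := (hcx y hu).symm
    have hzy : Commute z y := (hzL y u.2).symm
    haveI hAc : IsMulCommutative A := by
      refine isMulCommutative_closure ?_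
      rintro a (rfl | rfl | rfl) b (rfl | rfl | rfl)
      all_goals first
        | rfl | exact hxz.eq | exact hxz.eq.symm | exact hxy.eq | exact hxy.eq.symm
        | exact hzy.eq | exact hzy.eq.symm
    have hAe : ∀ a ∈ A, a ^ p = 1 := by
      intro a ha
      induction ha using closure_induction with
      | mem a ha => rcases ha with rfl | rfl | rfl <;> assumption
      | one => exact one_pow p
      | mul a b ha hb iha ihb =>
        have hab : Commute a b :=
          congrArg Subtype.val (hAc.is_comm.comm (⟨a, ha⟩ : A) ⟨b, hb⟩)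
        rw [hab.mul_pow, iha, ihb, one_mul]
      | inv a _ iha => rw [inv_pow, iha, inv_one]
    have h2 := eq_of_le_of_card_ge hBA ((hrank A hAc hAe).trans hBcard)
    rw [h2]
    exact subset_closure (by simp)
  obtain ⟨i, j, hij⟩ := hform y hyB
  refine Subtype.ext ?_
  show (g : G) * y * (g : G)⁻¹ = y
  have hgz : (g : G) * z ^ j * (g : G)⁻¹ = z ^ j := by
    rw [((hzL g g.2).zpow_right j).eq, mul_inv_cancel_right]
  have hgy : (g : G) * y * (g : G)⁻¹ = (g : G) * x ^ i * (g : G)⁻¹ * z ^ j := by
    conv_lhs => rw [hij]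
    calc (g : G) * (x ^ i * z ^ j) * (g : G)⁻¹
        = ((g : G) * x ^ i * (g : G)⁻¹) * ((g : G) * z ^ j * (g : G)⁻¹) := by group
      _ = _ := by rw [hgz]
  rw [hgy]
  by_cases hi : (p : ℤ) ∣ i
  · have : x ^ i = 1 := by rw [← orderOf_dvd_iff_zpow_eq_one, hx]; exact hi
    rw [this, mul_one, mul_inv_cancel, one_mul, hij, this, one_mul]
  · obtain ⟨a, b, hab⟩ := ((Nat.prime_iff_prime_int.1 Fact.out).coprime_iff_not_dvd.2 hi)
    have hxb : (x ^ i) ^ b = x := by
      rw [← zpow_mul]
      conv_rhs => rw [← zpow_one x, ← hab, zpow_add, mul_comm a, zpow_mul, zpow_natCast, hxp,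
        one_zpow, one_mul, mul_comm b i]
    have hgx : (g : G) * x ^ i * (g : G)⁻¹ ∈ (P : Subgroup G) := by
      have hg' : (g : G) * y * (g : G)⁻¹ ∈ (P : Subgroup G) := by simpa [hy] using hg
      rw [hgy] at hg'
      exact (Subgroup.mul_mem_cancel_right _ (zpow_mem hzP j)).mp hg'
    have hgx' : (g : G) * x * (g : G)⁻¹ ∈ (P : Subgroup G) := by
      have := zpow_mem hgx b
      rwa [conj_zpow, hxb] at this
    have h3 := CfsgLib.IsolatedP.conj_eq_of_mem hiso P.2 hxP _ hgx'
    rw [← conj_zpow, h3, ← hij]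

/-- Let G be a finite group and p an odd prime with O_{p'}(G) = 1. Suppose that G has p-rank at most 2 (no elementary abelian subgroup of order p³) and that some element x of order p is isolated in G (no G-conjugate of x other than x commutes with x) and not central. Then the generalized Fitting subgroup F*(G) is a non-abelian simple group. Since O_{p'}(G) = 1, such an x is not central modulo O_{p'}(G): the hypotheses describe a counterexample to the Z*_p statement in p-rank at most 2. -/
theorem result {G : Type*} [Group G] [Finite G] {p : ℕ} [Fact p.Prime] (hp : p ≠ 2) (hcore : Cfsg.pPrimeCore p G = ⊥)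
    (hrank : Cfsg.PRankLE p 2 G) (x : G) (hx : orderOf x = p) (hiso : Cfsg.IsIsolated x) (hnc : x ∉ Subgroup.center G) :
    IsSimpleGroup ↥(Cfsg.generalizedFittingSubgroup G) ∧ ¬ IsMulCommutative ↥(Cfsg.generalizedFittingSubgroup G) := by
  classical
  have hxp : x ^ p = 1 := hx ▸ pow_orderOf_eq_one x
  have hxP' : IsPGroup p (Subgroup.zpowers x) :=
    IsPGroup.of_card (n := 1) (by rw [Nat.card_zpowers, hx, pow_one])
  obtain ⟨P, hP⟩ := hxP'.exists_le_sylow
  have hxP : x ∈ (P : Subgroup G) := hP (Subgroup.mem_zpowers x)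
  have hOP : Cfsg.pCore p G ≤ (P : Subgroup G) := CfsgLib.PLocal.pCore_le_sylow P
  have hxO : x ∉ Cfsg.pCore p G := by
    intro h
    refine hnc (Subgroup.mem_center_iff.mpr fun g => mul_inv_eq_iff_eq_mul.mp ?_)
    exact CfsgLib.IsolatedP.conj_eq_of_mem hiso P.2 hxP g
      (hOP ((CfsgLib.Solvable.pCore_normal (G := G) p).conj_mem x h g))
  have hF : Cfsg.fittingSubgroup G = Cfsg.pCore p G :=
    CfsgLib.Balance.fittingSubgroup_eq_pCore hcore
  -- there is a component
  obtain ⟨L, hL⟩ : ∃ L : Subgroup G, Cfsg.IsComponent L := by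
    by_contra h
    push Not at h
    apply hxO
    have h0 : Cfsg.generalizedFittingSubgroup G = Cfsg.pCore p G := by
      rw [Cfsg.generalizedFittingSubgroup, CfsgLib.Components.layer_eq_bot_iff.mpr h, bot_sup_eq,
        hF]
    rw [← h0]
    refine CfsgLib.Components.centralizer_generalizedFitting_le_self ?_
    rw [h0, Subgroup.mem_centralizer_iff]
    exact fun z hz => (CfsgLib.IsolatedP.commute_of_mem hiso P.2 hxP z (hOP hz)).eq
  -- `O_p(G) = 1`
  have hO : Cfsg.pCore p G = ⊥ := by
    by_contra h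
    have := (Subgroup.nontrivial_iff_ne_bot _).mpr h
    obtain ⟨k, hk⟩ := IsPGroup.iff_card.mp (CfsgLib.PLocal.isPGroup_pCore p G)
    have hk0 : k ≠ 0 := by
      rintro rfl
      rw [pow_zero] at hk
      exact h (Subgroup.card_eq_one.mp hk)
    obtain ⟨z, hz⟩ := exists_prime_orderOf_dvd_card' (G := Cfsg.pCore p G) p
      (hk ▸ dvd_pow_self p hk0)
    have hzo : orderOf (z : G) = p := (Subgroup.orderOf_coe z).trans hz
    have hzx : (z : G) ∈ Subgroup.zpowers x := by
      refine mem_zpowers_of_centralizes hp hcore hrank hx hiso P hxP hL (hOP z.2)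
        (orderOf_dvd_iff_pow_eq_one.mp hzo.dvd) fun l hl => ?_
      have := CfsgLib.Components.layer_le_centralizer_fittingSubgroup
        (CfsgLib.Components.IsComponent.le_layer hL hl)
      exact ((Subgroup.mem_centralizer_iff.mp this) z (by rw [hF]; exact z.2)).symm
    have heq : Subgroup.zpowers (z : G) = Subgroup.zpowers x :=
      Subgroup.eq_of_le_of_card_ge (Subgroup.zpowers_le.mpr hzx)
        (by rw [Nat.card_zpowers, Nat.card_zpowers, hx, hzo])
    exact hxO (Subgroup.zpowers_le.mpr z.2 (heq ▸ Subgroup.mem_zpowers x))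
  -- components have trivial centre
  have hZ : ∀ K : Subgroup G, Cfsg.IsComponent K → K ⊓ Subgroup.centralizer (K : Set G) = ⊥ :=
    fun K hK => le_bot_iff.mp
      ((CfsgLib.Balance.component_inf_centralizer_le_pCore hcore hK).trans hO.le)
  -- the component is unique
  have huniq : ∀ M : Subgroup G, Cfsg.IsComponent M → M = L := by
    intro M hM
    by_contra hne
    have key : ∀ {A B : Subgroup G}, Cfsg.IsComponent A → Cfsg.IsComponent B → A ≠ B → x ∈ B := by
      intro A B hA hB hAB
      obtain ⟨Q, hQ⟩ := Cfsg.Agent.S0542.result p B hB.1 P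
      have hdiv : p ∣ Nat.card B := CfsgLib.Balance.dvd_card_component hcore hB
      obtain ⟨k, hk⟩ := IsPGroup.iff_card.mp Q.2
      obtain ⟨z, hz⟩ := exists_prime_orderOf_dvd_card' (G := (Q : Subgroup B)) p
        (Q.dvd_card_of_dvd_card hdiv)
      have hzP : ((z : B) : G) ∈ (P : Subgroup G) := by
        have := z.2
        simpa [hQ, Subgroup.mem_subgroupOf] using this
      have hzo : orderOf ((z : B) : G) = p := by rw [Subgroup.orderOf_coe, Subgroup.orderOf_coe, hz]
      have hzx : ((z : B) : G) ∈ Subgroup.zpowers x := by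
        refine mem_zpowers_of_centralizes hp hcore hrank hx hiso P hxP hA hzP
          (orderOf_dvd_iff_pow_eq_one.mp hzo.dvd) fun l hl => ?_
        have := Subgroup.commutator_eq_bot_iff_le_centralizer.mp
          (CfsgLib.Components.IsComponent.commutator_eq_bot_of_ne hA hB hAB) hl
        exact ((Subgroup.mem_centralizer_iff.mp this) _ (z : B).2).symm
      have heq : Subgroup.zpowers ((z : B) : G) = Subgroup.zpowers x :=
        Subgroup.eq_of_le_of_card_ge (Subgroup.zpowers_le.mpr hzx)
          (by rw [Nat.card_zpowers, Nat.card_zpowers, hx, hzo])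
      exact Subgroup.zpowers_le.mpr (z : B).2 (heq ▸ Subgroup.mem_zpowers x)
    have hxL : x ∈ L := key hM hL hne
    have hxM : x ∈ M := key hL hM (Ne.symm hne)
    have hcc := Subgroup.commutator_eq_bot_iff_le_centralizer.mp
      (CfsgLib.Components.IsComponent.commutator_eq_bot_of_ne hM hL hne) hxM
    have : x ∈ L ⊓ Subgroup.centralizer (L : Set G) := ⟨hxL, hcc⟩
    rw [hZ L hL, Subgroup.mem_bot] at this
    rw [this, orderOf_one] at hx
    exact (Fact.out : p.Prime).ne_one hx.symm
  have hlayer : Cfsg.layer G = L := le_antisymm (sSup_le fun K hK => (huniq K hK).le)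
    (CfsgLib.Components.IsComponent.le_layer hL)
  have hGF : Cfsg.generalizedFittingSubgroup G = L := by
    rw [Cfsg.generalizedFittingSubgroup, hlayer, hF, hO, sup_bot_eq]
  rw [hGF]
  have hc : Subgroup.center L = ⊥ := by
    refine (Subgroup.eq_bot_iff_forall _).mpr fun z hz => Subtype.ext ?_
    have : (z : G) ∈ L ⊓ Subgroup.centralizer (L : Set G) :=
      ⟨z.2, Subgroup.mem_centralizer_iff.mpr fun y hy =>
        congrArg Subtype.val (Subgroup.mem_center_iff.mp hz ⟨y, hy⟩)⟩
    rw [hZ L hL, Subgroup.mem_bot] at this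
    simpa using this
  refine ⟨?_, CfsgLib.Components.IsQuasisimple.not_isMulCommutative hL.2⟩
  have := hL.2.2
  exact ((QuotientGroup.quotientMulEquivOfEq hc).trans QuotientGroup.quotientBot).symm.isSimpleGroup

end Cfsg.Agent.S3049
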