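import Cfsg.Statements.S3038
import Cfsg.Agent.S3049
import Cfsg.Agent.IsolatedP.RankTwo
import Cfsg.Agent.IsolatedP.RankOne
import Cfsg.Agent.OddOrder.BG4.Aut2

set_option autoImplicit false
open Cfsg

namespace Cfsg.Agent.S3038
open Subgroup CfsgLib

universe u

variable {G : Type u} [Group G] [Finite G] {p : ℕ} [Fact p.Prime]

/-- A Sylow subgroup of a normal subgroup `L` meeting no conjugate of `x` is cyclic. -/
theorem isCyclic_of_notMem (hp : p ≠ 2) (hrank : Cfsg.PRankLE p 2 G) {x : G} (hx : orderOf x = p)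
    (hiso : Cfsg.IsIsolated x) (L : Subgroup G) [L.Normal] (P : Sylow p ↥L)
    (h : ∀ g : G, g * x * g⁻¹ ∉ (P : Subgroup ↥L).map L.subtype) : IsCyclic (P : Subgroup ↥L) := by
  classical
  rcases subsingleton_or_nontrivial (P : Subgroup ↥L) with hs | hs
  · infer_instance
  set P' : Subgroup G := (P : Subgroup ↥L).map L.subtype with hP'
  have hxp : IsPGroup p (zpowers x) := CfsgLib.IsolatedP.isPGroup_zpowers ⟨1, by rw [hx, pow_one]⟩
  obtain ⟨T, hT⟩ := (P.2.map L.subtype).exists_le_sylow
  obtain ⟨T₀, hT₀⟩ := hxp.exists_le_sylow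
  obtain ⟨g, hg⟩ := MulAction.exists_smul_eq G T₀ T
  set x₁ : G := g * x * g⁻¹ with hx₁
  have hx₁T : x₁ ∈ (T : Subgroup G) := by
    rw [← hg, Sylow.coe_subgroup_smul]
    exact smul_mem_pointwise_smul x (MulAut.conj g) (T₀ : Subgroup G) (hT₀ (mem_zpowers x))
  have hiso₁ : Cfsg.IsIsolated x₁ := CfsgLib.IsolatedP.isIsolated_conj hiso g
  have hx₁o : orderOf x₁ = p := by rw [hx₁, ← MulAut.conj_apply, MulEquiv.orderOf_eq, hx]
  -- `T ∩ L = P`
  have hTL : (T : Subgroup G).subgroupOf L = (P : Subgroup ↥L) := by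
    refine P.is_maximal' (T.2.comap_of_injective _ L.subtype_injective) fun y hy => ?_
    exact hT (mem_map_of_mem _ hy)
  have hx₁L : ∀ i : ℤ, x₁ ^ i ∈ L → x₁ ^ i = 1 := by
    intro i hi
    by_contra hne
    have hm : x₁ ∈ L := zpowers_le.mpr hi (CfsgLib.IsolatedP.mem_zpowers_of_mem_of_ne_one
      (p := p) (hx₁o ▸ pow_orderOf_eq_one x₁) (zpow_mem (mem_zpowers x₁) i) hne)
    refine h g ⟨⟨x₁, hm⟩, ?_, rfl⟩
    rw [SetLike.mem_coe, ← hTL]
    exact hx₁T
  haveI : Group.IsNilpotent (P : Subgroup ↥L) := P.2.isNilpotent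
  obtain ⟨z, hz⟩ : ∃ z : Subgroup.center (P : Subgroup ↥L), orderOf z = p := by
    obtain ⟨k, hk⟩ := (P.2.to_subgroup (Subgroup.center (P : Subgroup ↥L))).exists_card_eq
    refine exists_prime_orderOf_dvd_card' p (hk ▸ dvd_pow_self p ?_)
    rintro rfl
    exact Group.IsNilpotent.center_ne_bot (P : Subgroup ↥L)
      (Subgroup.card_eq_one.mp (hk.trans (pow_zero p)))
  set zG : G := (((z : (P : Subgroup ↥L)) : L) : G) with hzG
  have hzGo : orderOf zG = p := by
    rw [hzG, Subgroup.orderOf_coe, Subgroup.orderOf_coe, Subgroup.orderOf_coe, hz]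
  refine CfsgLib.IsolatedP.isCyclic_of_card_pow_eq_one_le_prime p hp _ _ rfl P.2 ?_
  have hsub : ∀ y : (P : Subgroup ↥L), y ^ p = 1 → ((y : L) : G) ∈ zpowers zG := by
    intro y hy
    set yG : G := ((y : L) : G) with hyG
    have hyp : yG ^ p = 1 := by
      simpa [hyG] using congrArg (fun w : (P : Subgroup ↥L) => ((w : L) : G)) hy
    have hyT : yG ∈ (T : Subgroup G) := hT (mem_map_of_mem _ y.2)
    have hzT : zG ∈ (T : Subgroup G) := hT (mem_map_of_mem _ (z : (P : Subgroup ↥L)).2)
    have hxz : Commute x₁ zG := (CfsgLib.IsolatedP.commute_of_mem hiso₁ T.2 hx₁T _ hzT).symm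
    have hxy : Commute x₁ yG := (CfsgLib.IsolatedP.commute_of_mem hiso₁ T.2 hx₁T _ hyT).symm
    have hzy : Commute zG yG := by
      have := congrArg (fun w : (P : Subgroup ↥L) => ((w : L) : G)) (mem_center_iff.mp z.2 y)
      simp only [Subgroup.coe_mul] at this
      exact this.symm
    set B : Subgroup G := closure {x₁, zG} with hB
    set A : Subgroup G := closure {x₁, zG, yG} with hA
    haveI hAc : IsMulCommutative A := by
      refine isMulCommutative_closure ?_
      rintro a (rfl | rfl | rfl) b (rfl | rfl | rfl)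
      all_goals first
        | rfl | exact hxz.eq | exact hxz.eq.symm | exact hxy.eq | exact hxy.eq.symm
        | exact hzy.eq | exact hzy.eq.symm
    have hxp₁ : x₁ ^ p = 1 := hx₁o ▸ pow_orderOf_eq_one x₁
    have hzp : zG ^ p = 1 := hzGo ▸ pow_orderOf_eq_one zG
    have hAe : ∀ a ∈ A, a ^ p = 1 := by
      intro a ha
      induction ha using closure_induction with
      | mem a ha => rcases ha with rfl | rfl | rfl <;> assumption
      | one => exact one_pow p
      | mul a b ha hb iha ihb =>
        have hab : Commute a b :=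
          congrArg Subtype.val (hAc.is_comm.comm (⟨a, ha⟩ : A) ⟨b, hb⟩)
        rw [hab.mul_pow, iha, ihb, one_mul]
      | inv a _ iha => rw [inv_pow, iha, inv_one]
    have hBA : B ≤ A := closure_mono (by simp [Set.insert_subset_iff])
    have hlt : zpowers x₁ < B := by
      refine lt_of_le_of_ne (zpowers_le.mpr (subset_closure (by simp))) fun e => ?_
      have hzx : zG ∈ zpowers x₁ := e ▸ subset_closure (by simp)
      obtain ⟨i, hi⟩ := mem_zpowers_iff.mp hzx
      have h1 := hx₁L i (hi ▸ ((z : (P : Subgroup ↥L)) : L).2)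
      rw [hi] at h1
      rw [h1, orderOf_one] at hzGo
      exact (Fact.out : p.Prime).ne_one hzGo.symm
    have hBcard : p ^ 2 ≤ Nat.card B := by
      obtain ⟨k, hk⟩ := IsPGroup.iff_card.mp (show IsPGroup p B from fun b =>
        ⟨1, Subtype.ext (by simpa using hAe _ (hBA b.2))⟩)
      have h1 : Nat.card (zpowers x₁) < Nat.card B := by
        by_contra hc
        exact hlt.ne (eq_of_le_of_card_ge hlt.le (not_lt.mp hc))
      rw [Nat.card_zpowers, hx₁o, hk] at h1
      rw [hk]
      refine Nat.pow_le_pow_right (Fact.out : p.Prime).pos ?_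
      by_contra hk2
      interval_cases k
      · simp at h1; exact absurd h1 (by have := (Fact.out : p.Prime).two_le; omega)
      · simp at h1
    have hyB : yG ∈ B := by
      rw [eq_of_le_of_card_ge hBA ((hrank A hAc hAe).trans hBcard)]
      exact subset_closure (by simp)
    have hform : ∀ w ∈ B, ∃ i j : ℤ, w = x₁ ^ i * zG ^ j := by
      intro w hw
      induction hw using closure_induction with
      | mem w hw =>
        rcases hw with rfl | rfl
        · exact ⟨1, 0, by simp⟩
        · exact ⟨0, 1, by simp⟩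
      | one => exact ⟨0, 0, by simp⟩
      | mul a b _ _ ha hb =>
        obtain ⟨i, j, rfl⟩ := ha
        obtain ⟨i', j', rfl⟩ := hb
        refine ⟨i + i', j + j', ?_⟩
        rw [zpow_add, zpow_add, Commute.mul_mul_mul_comm (hxz.symm.zpow_zpow j i')]
      | inv a _ ha =>
        obtain ⟨i, j, rfl⟩ := ha
        exact ⟨-i, -j, by rw [mul_inv_rev, ← zpow_neg, ← zpow_neg, (hxz.zpow_zpow (-i) (-j)).eq]⟩
    obtain ⟨i, j, hij⟩ := hform yG hyB
    have hiL : x₁ ^ i ∈ L := by
      rw [show x₁ ^ i = yG * (zG ^ j)⁻¹ by rw [hij, mul_inv_cancel_right]]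
      exact mul_mem (y : L).2 (inv_mem (zpow_mem ((z : (P : Subgroup ↥L)) : L).2 j))
    rw [hij, hx₁L i hiL, one_mul]
    exact zpow_mem (mem_zpowers zG) j
  calc Nat.card {y : (P : Subgroup ↥L) // y ^ p = 1} ≤ Nat.card (zpowers zG) :=
        Nat.card_le_card_of_injective (fun y => ⟨((y.1 : L) : G), hsub y.1 y.2⟩) fun a b hab =>
          Subtype.ext (Subtype.ext (Subtype.ext (congrArg (fun w : zpowers zG => (w : G)) hab)))
    _ = p := by rw [Nat.card_zpowers, hzGo]

/-- Let G be a finite group and p an odd prime with O_{p'}(G) = 1. Suppose that G has p-rank at most 2 and that some element x of order p is isolated in G and not central. Then F*(G) is a non-abelian simple group, and for every Sylow p-subgroup P of F*(G), either no conjugate of x lies in P and P is cyclic, or some conjugate of x lies in P and either P is extraspecial of order p³ and exponent p, or p = 3 and P has order 3^{2k+1} for some k ≥ 2 and is of maximal class (nilpotency class 2k). Since O_{p'}(G) = 1, such an x is not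 central modulo O_{p'}(G): the hypotheses describe a counterexample to the Z*_p statement in p-rank at most 2, and the conclusion records the structure it would have. -/
theorem result {G : Type*} [Group G] [Finite G] {p : ℕ} [Fact p.Prime] (hp : p ≠ 2) (hcore : Cfsg.pPrimeCore p G = ⊥)
    (hrank : Cfsg.PRankLE p 2 G) (x : G) (hx : orderOf x = p) (hiso : Cfsg.IsIsolated x) (hnc : x ∉ Subgroup.center G) :
    IsSimpleGroup ↥(Cfsg.generalizedFittingSubgroup G) ∧ ¬ IsMulCommutative ↥(Cfsg.generalizedFittingSubgroup G) ∧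
    ∀ P : Sylow p ↥(Cfsg.generalizedFittingSubgroup G),
      ((∀ g : G, g * x * g⁻¹ ∉ ((P : Subgroup ↥(Cfsg.generalizedFittingSubgroup G)).map (Cfsg.generalizedFittingSubgroup G).subtype)) ∧
          IsCyclic ↥(P : Subgroup ↥(Cfsg.generalizedFittingSubgroup G))) ∨
      ((∃ g : G, g * x * g⁻¹ ∈ ((P : Subgroup ↥(Cfsg.generalizedFittingSubgroup G)).map (Cfsg.generalizedFittingSubgroup G).subtype)) ∧
        ((Cfsg.IsExtraspecial p ↥(P : Subgroup ↥(Cfsg.generalizedFittingSubgroup G)) ∧
            Nat.card (P : Subgroup ↥(Cfsg.generalizedFittingSubgroup G)) = p ^ 3 ∧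
            ∀ y ∈ (P : Subgroup ↥(Cfsg.generalizedFittingSubgroup G)), y ^ p = 1) ∨
         (p = 3 ∧ ∃ k : ℕ, 2 ≤ k ∧ Nat.card (P : Subgroup ↥(Cfsg.generalizedFittingSubgroup G)) = 3 ^ (2 * k + 1) ∧
            ∃ _ : Group.IsNilpotent ↥(P : Subgroup ↥(Cfsg.generalizedFittingSubgroup G)),
              Group.nilpotencyClass ↥(P : Subgroup ↥(Cfsg.generalizedFittingSubgroup G)) = 2 * k))) := by
  obtain ⟨hs, hna⟩ := Cfsg.Agent.S3049.result hp hcore hrank x hx hiso hnc
  refine ⟨hs, hna, ?_⟩
  haveI hLn : (Cfsg.generalizedFittingSubgroup G).Normal := Subgroup.sup_normal _ _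
  revert hs hna hLn
  generalize Cfsg.generalizedFittingSubgroup G = L
  intro hs hna hLn P
  by_cases hex : ∀ g : G, g * x * g⁻¹ ∉ (P : Subgroup L).map L.subtype
  · exact Or.inl ⟨hex, isCyclic_of_notMem hp hrank hx hiso L P hex⟩
  push Not at hex
  refine Or.inr ⟨hex, ?_⟩
  obtain ⟨g, y, hy, hyg⟩ := hex
  have hperf : commutator L = ⊤ := by
    rcases (commutator L : Subgroup L).normal_of_characteristic.eq_bot_or_eq_top with h | h
    · refine absurd ?_ hna
      exact ⟨⟨fun a b => commutatorElement_eq_one_iff_mul_comm.mp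
        (Subgroup.mem_bot.mp (h.le (Subgroup.commutator_mem_commutator (Subgroup.mem_top a)
          (Subgroup.mem_top b))))⟩⟩
    · exact h
  have hiso' : Cfsg.IsIsolated y := by
    intro l hl
    refine Subtype.ext ?_
    have := CfsgLib.IsolatedP.isIsolated_conj hiso g
    rw [← hyg] at this
    exact this (l : G) (congrArg Subtype.val hl)
  have hyo : orderOf y = p := by
    rw [← Subgroup.orderOf_coe]
    rw [show ((y : L) : G) = g * x * g⁻¹ from hyg, ← MulAut.conj_apply, MulEquiv.orderOf_eq, hx]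
  have hrk : Cfsg.PRankLE p 2 (P : Subgroup L) :=
    CfsgLib.OddOrder.BG4.pRankLE_of_injective (L.subtype.comp (P : Subgroup L).subtype)
      (L.subtype_injective.comp (P : Subgroup L).subtype_injective) hrank
  rcases CfsgLib.IsolatedP.sylow_rank_two hp hperf hyo hiso' P hy hrk with ⟨h1, h2, h3⟩ | h
  · exact Or.inl ⟨h1, h2, fun z hz => by simpa using congrArg Subtype.val (h3 ⟨z, hz⟩)⟩
  · exact Or.inr h

end Cfsg.Agent.S3038
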