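import Cfsg.Statements.S3040
import Cfsg.Agent.ThreeFpf.Main

set_option autoImplicit false
set_option linter.style.haveILetI false
set_option linter.unusedVariables false
open Cfsg

namespace Cfsg.Agent.S3040

universe u

open CfsgLib.ThreeFpf in
theorem hyp_of_symThree {G : Type u} [Group G] [Finite G] (h3 : ¬ 3 ∣ Nat.card G)
    (Sig : Subgroup (MulAut G)) (e : ↥Sig ≃* Equiv.Perm (Fin 3))
    (hfpf : ∀ g : G, (∀ σ ∈ Sig, σ g = g) → g = 1) {σ : MulAut G} (hσ : σ ∈ Sig)
    (ho : orderOf σ = 3) : Hyp G σ := by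
  classical
  have h33 : σ ^ 3 = 1 := ho ▸ pow_orderOf_eq_one σ
  refine ⟨h3, h33, fun x hx => ?_⟩
  by_contra hodd
  rw [Nat.not_odd_iff_even] at hodd
  obtain ⟨z, hzσ, hz⟩ : ∃ z : G, σ z = z ∧ orderOf z = 2 :=
    ⟨x ^ (orderOf x / 2), by rw [map_pow, hx], orderOf_pow_orderOf_div
      (orderOf_pos x).ne' hodd.two_dvd⟩
  -- an involution `τ` normalising the fixed points
  let s : ↥Sig := ⟨σ, hσ⟩
  let t : ↥Sig := e.symm (Equiv.swap 0 1)
  have ht2 : orderOf t = 2 := by
    rw [show orderOf t = orderOf (Equiv.swap (0 : Fin 3) 1) from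
      MulEquiv.orderOf_eq e.symm _]
    exact orderOf_eq_prime (by decide) (by decide)
  have hs3 : orderOf s = 3 := by rwa [← Subgroup.orderOf_coe]
  have hconj : t * s * t⁻¹ = s ∨ t * s * t⁻¹ = s * s := by
    have key : ∀ a b : Equiv.Perm (Fin 3), a * a * a = 1 →
        b * a * b⁻¹ = a ∨ b * a * b⁻¹ = a * a := by decide
    have h := key (e s) (e t) (by
      rw [← map_mul, ← map_mul, ← pow_three', orderOf_dvd_iff_pow_eq_one.1 hs3.dvd, map_one])
    simp only [← map_mul, ← map_inv] at h
    exact h.imp (fun h => e.injective h) (fun h => e.injective h)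
  let F : Subgroup G :=
    { carrier := {y | σ y = y}
      one_mem' := map_one σ
      mul_mem' := fun {a b} ha hb => show σ (a * b) = a * b by
        rw [map_mul, show σ a = a from ha, show σ b = b from hb]
      inv_mem' := fun {a} ha => show σ a⁻¹ = a⁻¹ by rw [map_inv, show σ a = a from ha] }
  have hstab : ∀ y, σ y = y → (t : MulAut G) y = y → y = 1 := by
    intro y hy1 hy2
    let St : Subgroup ↥Sig := (MulAction.stabilizer (MulAut G) y).subgroupOf Sig
    have hs : s ∈ St := hy1
    have ht : t ∈ St := hy2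
    have hd : Nat.card ↥Sig ∣ Nat.card St := by
      rw [Nat.card_congr e.toEquiv, Nat.card_eq_fintype_card, Fintype.card_perm, Fintype.card_fin,
        show Nat.factorial 3 = 2 * 3 from rfl]
      refine Nat.Coprime.mul_dvd_of_dvd_of_dvd (by decide) ?_ ?_
      · rw [← ht2, ← Nat.card_zpowers]
        exact Subgroup.card_dvd_of_le (Subgroup.zpowers_le.2 ht)
      · rw [← hs3, ← Nat.card_zpowers]
        exact Subgroup.card_dvd_of_le (Subgroup.zpowers_le.2 hs)
    haveI : Finite ↥Sig := Finite.of_equiv _ e.toEquiv.symm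
    have htop : St = ⊤ := Subgroup.eq_top_of_card_eq St
      (Nat.dvd_antisymm (Subgroup.card_subgroup_dvd_card St) hd)
    refine hfpf y fun ρ hρ => ?_
    exact (htop ▸ Subgroup.mem_top (⟨ρ, hρ⟩ : ↥Sig) : (⟨ρ, hρ⟩ : ↥Sig) ∈ St)
  have htF : ∀ y, σ y = y → σ ((t : MulAut G) y) = (t : MulAut G) y := by
    intro y hy
    have ht' : t * t = 1 := by
      rw [← pow_two, ← ht2, pow_orderOf_eq_one]
    have hinv : t⁻¹ = t := inv_eq_of_mul_eq_one_right ht'
    rw [hinv] at hconj
    have hk : s * t = t * s ∨ s * t = t * (s * s) := by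
      rcases hconj with h | h
      · left
        calc s * t = t * s * t * t := by rw [h]
          _ = t * s := by rw [mul_assoc _ t t, ht', mul_one]
      · right
        calc s * t = t * t * s * t := by rw [ht', one_mul]
          _ = t * (t * s * t) := by group
          _ = t * (s * s) := by rw [h]
    rcases hk with h | h
    · have := DFunLike.congr_fun (congrArg Subtype.val h) y
      simpa [MulAut.mul_apply, s, hy] using this
    · have := DFunLike.congr_fun (congrArg Subtype.val h) y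
      simpa [MulAut.mul_apply, s, hy] using this
  -- every fixed point of `σ` is inverted by `τ`
  let D : F → F := fun y => ⟨(y : G)⁻¹ * (t : MulAut G) y, by
    show σ _ = _
    rw [map_mul, map_inv, show σ (y : G) = y from y.2, htF _ y.2]⟩
  have hD : Function.Injective D := by
    intro a b hab
    have hab' : (a : G)⁻¹ * (t : MulAut G) a = (b : G)⁻¹ * (t : MulAut G) b :=
      congrArg Subtype.val hab
    have h1 : (t : MulAut G) ((a : G) * (b : G)⁻¹) = (a : G) * (b : G)⁻¹ := by
      rw [map_mul, map_inv, inv_mul_eq_iff_eq_mul.1 hab']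
      group
    exact Subtype.ext (mul_inv_eq_one.1 (hstab _ (show σ _ = _ from (mul_mem a.2 (inv_mem b.2) :
      (a : G) * (b : G)⁻¹ ∈ F)) h1))
  obtain ⟨y, hy⟩ := (Finite.injective_iff_surjective.1 hD) ⟨z, hzσ⟩
  have hy' : (y : G)⁻¹ * (t : MulAut G) y = z := congrArg Subtype.val hy
  have htt : ∀ w : G, (t : MulAut G) ((t : MulAut G) w) = w := by
    intro w
    have ht' : t * t = 1 := by rw [← pow_two, ← ht2, pow_orderOf_eq_one]
    exact DFunLike.congr_fun (congrArg Subtype.val ht') w
  have htz : (t : MulAut G) z = z := by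
    have hzz : z⁻¹ = z := inv_eq_of_mul_eq_one_right (by
      have := pow_orderOf_eq_one z; rwa [hz, pow_two] at this)
    calc (t : MulAut G) z = (t : MulAut G) ((y : G)⁻¹ * (t : MulAut G) y) := by rw [hy']
      _ = ((y : G)⁻¹ * (t : MulAut G) y)⁻¹ := by rw [map_mul, map_inv, htt]; group
      _ = z := by rw [hy', hzz]
  rw [hstab z hzσ htz, orderOf_one] at hz
  exact absurd hz (by decide)

/-- Let G be a finite group of even order coprime to 3, and let Σ be a group of automorphisms of G isomorphic to the symmetric group of degree 3 that is fixed-point-free (only the identity of G is fixed by every element of Σ). Then G is solvable, O_{2′,2}(G) (the preimage in G of O₂(G/O(G))) has odd index in G, and G = O_{2′,2}(G) C_G(σ) for every element σ of Σ of order 3; that is, O₂(G/O(G)) is a Sylow 2-subgroup of G/O(G) and G/O(G) = O₂(G/O(G)) C_{G/O(G)}(σ). -/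
theorem result {G : Type*} [Group G] [Finite G] (heven : 2 ∣ Nat.card G) (h3 : ¬ 3 ∣ Nat.card G)
    (Sig : Subgroup (MulAut G)) (hS3 : Nonempty (↥Sig ≃* Equiv.Perm (Fin 3))) (hfpf : ∀ g : G, (∀ σ ∈ Sig, σ g = g) → g = 1) :
    Group.IsSolvable G ∧ ¬ 2 ∣ (Cfsg.pPrimePCore 2 G).index ∧ ∀ σ ∈ Sig, orderOf σ = 3 →
      Cfsg.pPrimePCore 2 G ⊔ Subgroup.closure {g : G | σ g = g} = ⊤ := by
  obtain ⟨e⟩ := hS3
  obtain ⟨σ, hσ, ho⟩ : ∃ σ ∈ Sig, orderOf σ = 3 := by
    refine ⟨_, (e.symm (Equiv.swap 0 1 * Equiv.swap 1 2)).2, ?_⟩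
    rw [Subgroup.orderOf_coe, MulEquiv.orderOf_eq]
    exact orderOf_eq_prime (by decide) (by decide)
  have h := hyp_of_symThree h3 Sig e hfpf hσ ho
  exact ⟨h.isSolvable, h.structure_eq.1,
    fun ρ hρ hoρ => (hyp_of_symThree h3 Sig e hfpf hρ hoρ).structure_eq.2⟩

end Cfsg.Agent.S3040
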