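import Cfsg.Statements.S3047

import Cfsg.Agent.LocalEvenBasic.RankOneP.SLTwo
import Cfsg.Agent.LocalEvenBasic.RankOneP.SUThree
import Cfsg.Agent.PLocal.Cores

set_option autoImplicit false
open Cfsg

namespace Cfsg.Agent.S3047

theorem residual_normal (p : ℕ) (X : Type*) [Group X] : (Cfsg.pResidual p X).Normal := by
  refine ⟨fun n hn g => ?_⟩
  rw [Cfsg.pResidual] at hn ⊢
  induction hn using Subgroup.closure_induction with
  | mem a ha =>
    refine Subgroup.subset_closure ?_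
    show Nat.Coprime (orderOf (g * a * g⁻¹)) p
    rw [show g * a * g⁻¹ = MulAut.conj g a by simp [MulAut.conj_apply], MulEquiv.orderOf_eq]
    exact ha
  | one => rw [mul_one, mul_inv_cancel]; exact one_mem _
  | mul a b _ _ ha hb =>
    rw [show g * (a * b) * g⁻¹ = (g * a * g⁻¹) * (g * b * g⁻¹) by group]
    exact mul_mem ha hb
  | inv a _ ha =>
    rw [show g * a⁻¹ * g⁻¹ = (g * a * g⁻¹)⁻¹ by group]
    exact inv_mem ha

theorem pow_mem_residual {p : ℕ} [hp : Fact p.Prime] {X : Type*} [Group X] [Finite X] (x : X) :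
    ∃ k : ℕ, x ^ p ^ k ∈ Cfsg.pResidual p X := by
  obtain ⟨k, m, hm, he⟩ := Nat.exists_eq_pow_mul_and_not_dvd (orderOf_pos x).ne' p hp.out.ne_one
  refine ⟨k, Subgroup.subset_closure ?_⟩
  show Nat.Coprime (orderOf (x ^ p ^ k)) p
  rw [orderOf_pow_of_dvd (pow_ne_zero k hp.out.ne_zero) (he ▸ dvd_mul_right _ _), he,
    Nat.mul_div_cancel_left _ (pow_pos hp.out.pos k)]
  exact (hp.out.coprime_iff_not_dvd.2 hm).symm

/-- Let p ≥ 5 be a prime, G a finite group all of whose composition factors are known simple groups, S a Sylow p-subgroup and P a p-minimal subgroup of G containing S such that O^p(P/O_p(P)) is isomorphic to SL₂(pᵃ), PSL₂(pᵃ), SU₃(pᵃ) or PSU₃(pᵃ) for some a ≥ 1. Let L be the subgroup generated by N_G(S) and the p-minimal subgroups of G containing S other than P. Then either O^p(P) is normal in G, or every p-element of the centre of L lies in O_p(P). -/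
theorem result {G : Type*} [Group G] [Finite G] {p : ℕ} [Fact p.Prime] (hp : 5 ≤ p) (hK : Cfsg.IsCompositionKGroup G)
    (S : Sylow p G) (P : Subgroup G) (hSP : (S : Subgroup G) ≤ P) (hPmin : Cfsg.IsPMinimal p ↥P) [hn : (Cfsg.pCore p ↥P).Normal]
    (hrk1 : ∃ (F : Type) (_ : Field F) (_ : Fintype F) (a : ℕ), 1 ≤ a ∧
      ((Fintype.card F = p ^ a ∧ (Nonempty (↥(Cfsg.pResidual p (↥P ⧸ Cfsg.pCore p ↥P)) ≃* Matrix.SpecialLinearGroup (Fin 2) F) ∨
                                  Nonempty (↥(Cfsg.pResidual p (↥P ⧸ Cfsg.pCore p ↥P)) ≃* Matrix.ProjectiveSpecialLinearGroup (Fin 2) F))) ∨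
       (Fintype.card F = p ^ (2 * a) ∧ (Nonempty (↥(Cfsg.pResidual p (↥P ⧸ Cfsg.pCore p ↥P)) ≃* ↥(Cfsg.SU 3 F (p ^ a))) ∨
                                        Nonempty (↥(Cfsg.pResidual p (↥P ⧸ Cfsg.pCore p ↥P)) ≃* Cfsg.PSU 3 F (p ^ a))))))
    (L : Subgroup G)
    (hL : L = Subgroup.normalizer ((S : Subgroup G) : Set G) ⊔ ⨆ P' : {P' : Subgroup G // (S : Subgroup G) ≤ P' ∧ Cfsg.IsPMinimal p ↥P' ∧ P' ≠ P}, (P' : Subgroup G)) :
    ((Cfsg.pResidual p ↥P).map P.subtype).Normal ∨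
    ∀ z ∈ L ⊓ Subgroup.centralizer (L : Set G), (∃ k : ℕ, orderOf z = p ^ k) → z ∈ (Cfsg.pCore p ↥P).map P.subtype := by
  classical
  right
  intro z hz hk
  obtain ⟨k, hk⟩ := hk
  obtain ⟨hzL, hzC⟩ := Subgroup.mem_inf.1 hz
  have hNL : Subgroup.normalizer ((S : Subgroup G) : Set G) ≤ L := hL ▸ le_sup_left
  have hzn : ∀ n ∈ Subgroup.normalizer ((S : Subgroup G) : Set G), n * z = z * n :=
    fun n hn => Subgroup.mem_centralizer_iff.1 hzC n (hNL hn)
  have hzS : z ∈ (S : Subgroup G) := by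
    have hzN : z ∈ Subgroup.normalizer ((S : Subgroup G) : Set G) :=
      Subgroup.mem_normalizer_iff.2 fun y => ⟨fun hy => by
          rwa [← hzn y (Subgroup.le_normalizer hy), mul_inv_cancel_right],
        fun hy => by
          have h := hzn _ (Subgroup.le_normalizer hy)
          have e : z * y * z⁻¹ = y := by
            have h2 : z * (z * y * z⁻¹) = z * y := by rw [← h]; group
            exact mul_left_cancel h2
          rwa [e] at hy⟩
    have hp' : IsPGroup p ↥(Subgroup.zpowers z) :=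
      IsPGroup.of_card (n := k) (by rw [Nat.card_zpowers, hk])
    exact (Subgroup.mem_inf.1
      ((hp'.inf_normalizer_sylow S).le ⟨Subgroup.mem_zpowers z, hzN⟩)).2
  let Q := Cfsg.pCore p ↥P
  let π : ↥P →* ↥P ⧸ Q := QuotientGroup.mk' Q
  have hπ : Function.Surjective π := QuotientGroup.mk'_surjective _
  let SP : Sylow p ↥P := S.subtype hSP
  let T : Sylow p (↥P ⧸ Q) := SP.mapSurjective hπ
  haveI hKn : (Cfsg.pResidual p (↥P ⧸ Q)).Normal := residual_normal p _
  have hQS : Q ≤ (SP : Subgroup ↥P) := CfsgLib.Solvable.pCore_le_sylow SP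
  have hTmem : ∀ y : ↥P, π y ∈ (T : Subgroup (↥P ⧸ Q)) → y ∈ (SP : Subgroup ↥P) := by
    intro y hy
    obtain ⟨s, hs, hse⟩ := Subgroup.mem_map.1 (show π y ∈ (SP : Subgroup ↥P).map π from hy)
    have : s⁻¹ * y ∈ Q := (QuotientGroup.eq).1 hse
    simpa using mul_mem hs (hQS this)
  have hdata : CfsgLib.RankOneP.RankOneData p ↥(Cfsg.pResidual p (↥P ⧸ Q)) := by
    obtain ⟨F, iF, iFin, a, ha, h⟩ := hrk1
    haveI : CharP F p := by
      rcases h with ⟨hF, -⟩ | ⟨hF, -⟩ <;>
        exact charP_of_card_eq_prime_pow hF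
    rcases h with ⟨-, ⟨⟨e⟩⟩ | ⟨⟨e⟩⟩⟩ | ⟨hF, ⟨⟨e⟩⟩ | ⟨⟨e⟩⟩⟩
    · exact (CfsgLib.RankOneP.data_SL hp).map (f := e.symm.toMonoidHom) e.symm.surjective
        (by rw [(MonoidHom.ker_eq_bot_iff _).2 e.symm.injective]; exact bot_le)
        (by rw [(MonoidHom.ker_eq_bot_iff _).2 e.symm.injective, Subgroup.card_bot]
            exact Nat.coprime_one_left p)
    · exact (CfsgLib.RankOneP.data_PSL hp).map (f := e.symm.toMonoidHom) e.symm.surjective
        (by rw [(MonoidHom.ker_eq_bot_iff _).2 e.symm.injective]; exact bot_le)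
        (by rw [(MonoidHom.ker_eq_bot_iff _).2 e.symm.injective, Subgroup.card_bot]
            exact Nat.coprime_one_left p)
    · exact (CfsgLib.RankOneP.data_SU hp (q := p ^ a) (by rw [hF, ← pow_mul, mul_comm])).map
        (f := e.symm.toMonoidHom) e.symm.surjective
        (by rw [(MonoidHom.ker_eq_bot_iff _).2 e.symm.injective]; exact bot_le)
        (by rw [(MonoidHom.ker_eq_bot_iff _).2 e.symm.injective, Subgroup.card_bot]
            exact Nat.coprime_one_left p)
    · exact (CfsgLib.RankOneP.data_PSU hp (q := p ^ a) (by rw [hF, ← pow_mul, mul_comm])).map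
        (f := e.symm.toMonoidHom) e.symm.surjective
        (by rw [(MonoidHom.ker_eq_bot_iff _).2 e.symm.injective]; exact bot_le)
        (by rw [(MonoidHom.ker_eq_bot_iff _).2 e.symm.injective, Subgroup.card_bot]
            exact Nat.coprime_one_left p)
  have hzP : z ∈ P := hSP hzS
  have h1 : π ⟨z, hzP⟩ = 1 := by
    refine hdata.eq_one (Cfsg.pResidual p (↥P ⧸ Q)) (fun x => pow_mem_residual x)
      (CfsgLib.PLocal.pCore_quotient_pCore_eq_bot p ↥P) T
      (Subgroup.mem_map_of_mem π (show (⟨z, hzP⟩ : ↥P) ∈ (SP : Subgroup ↥P) from hzS)) ?_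
    intro n hn
    obtain ⟨y, rfl⟩ := hπ n
    have hyN : (y : G) ∈ Subgroup.normalizer ((S : Subgroup G) : Set G) := by
      refine Subgroup.mem_normalizer_iff.2 fun s => ⟨fun hs => ?_, fun hs => ?_⟩
      · have h := (Subgroup.mem_normalizer_iff.1 hn (π ⟨s, hSP hs⟩)).1
          (Subgroup.mem_map_of_mem π hs)
        rw [← map_inv, ← map_mul, ← map_mul] at h
        exact hTmem _ h
      · have hsP : s ∈ P := by
          have := mul_mem (mul_mem (inv_mem y.2) (hSP hs)) y.2
          rwa [show (y : G)⁻¹ * ((y : G) * s * (y : G)⁻¹) * y = s by group] at this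
        have h := (Subgroup.mem_normalizer_iff.1 hn (π ⟨s, hsP⟩)).2 (by
          rw [← map_inv, ← map_mul, ← map_mul]
          exact Subgroup.mem_map_of_mem π hs)
        exact hTmem _ h
    rw [← map_mul, ← map_mul]
    congr 1
    exact Subtype.ext (hzn _ hyN)
  exact ⟨⟨z, hzP⟩, (QuotientGroup.eq_one_iff _).1 h1, rfl⟩

end Cfsg.Agent.S3047
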