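import Cfsg.Statements.S3048

import Cfsg.Agent.S3012
import Cfsg.Agent.S1325
import Cfsg.Agent.Components.FStar
import Cfsg.Agent.PLocal.Cores
import Cfsg.Agent.Solvable.Basic
import Cfsg.Agent.PLocal.Thompson

set_option autoImplicit false
universe u
open Cfsg

namespace Cfsg.Agent.S3048

open Subgroup CfsgLib
open scoped commutatorElement

universe v

variable {G : Type v} [Group G] [Finite G]

theorem eq_one_of_odd_inverse {h : G} (ho : Odd (orderOf h)) (h2 : h * h = 1) : h = 1 := by
  have h3 : orderOf h ∣ 2 := orderOf_dvd_of_pow_eq_one (by rw [sq]; exact h2)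
  rcases (Nat.dvd_prime Nat.prime_two).mp h3 with h4 | h4
  · exact orderOf_eq_one_iff.mp h4
  · rw [h4] at ho; exact absurd ho (by decide)

theorem commute_of_commute_sq {y w : G} (ho : Odd (orderOf y)) (h : Commute w (y * y)) : Commute w y := by
  obtain ⟨k, hk⟩ := exists_pow_eq_self_of_coprime (x := y) (n := 2) (Nat.coprime_two_left.mpr ho)
  rw [← hk, sq]
  exact h.pow_right k

/-- An odd element of `N X`, with `X` of exponent two normalising `N`, lies in `N`. -/
theorem mem_of_odd {N X : Subgroup G} (hX : X ≤ normalizer (N : Set G)) (hX2 : ∀ x ∈ X, x * x = 1)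
    {h : G} (hh : h ∈ N ⊔ X) (ho : Odd (orderOf h)) : h ∈ N := by
  rw [← SetLike.mem_coe, coe_mul_of_right_le_normalizer_left N X hX] at hh
  obtain ⟨n, hn, x, hx, rfl⟩ := hh
  have h2 : (n * x) * (n * x) ∈ N := by
    have e : (n * x) * (n * x) = n * (x * n * x⁻¹) * (x * x) := by group
    rw [e, hX2 x hx, mul_one]
    exact mul_mem hn ((mem_normalizer_iff.1 (hX hx) n).1 hn)
  obtain ⟨k, hk⟩ := exists_pow_eq_self_of_coprime (x := n * x) (n := 2) (Nat.coprime_two_left.mpr ho)
  show n * x ∈ N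
  rw [← hk, sq]
  exact pow_mem h2 k

/-- In a group with trivial `O₂`, every normal 2-subgroup of a subgroup normal in a normal subgroup is trivial. -/
theorem pCore_map_eq_bot (hO : Cfsg.pCore 2 G = ⊥) {N : Subgroup G} [N.Normal] {L : Subgroup G}
    (hLN : L ≤ N) (hNL : N ≤ normalizer (L : Set G)) : (Cfsg.pCore 2 L).map L.subtype = ⊥ := by
  set P := (Cfsg.pCore 2 L).map L.subtype with hP
  have hPp : IsPGroup 2 P := (PLocal.isPGroup_pCore 2 L).map L.subtype
  have hPN : P ≤ N := (map_subtype_le _).trans hLN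
  haveI : (P.subgroupOf N).Normal := normal_subgroupOf_of_le_normalizer
    (hNL.trans (Components.normalizer_le_normalizer_map_subtype L _))
  have h1 : P.subgroupOf N ≤ Cfsg.pCore 2 N :=
    PLocal.le_pCore hPp.comap_subtype
  haveI : ((Cfsg.pCore 2 N).map N.subtype).Normal := ConjAct.normal_of_characteristic_of_normal
  have h2 : (Cfsg.pCore 2 N).map N.subtype ≤ Cfsg.pCore 2 G :=
    PLocal.le_pCore ((PLocal.isPGroup_pCore 2 N).map N.subtype)
  have h3 : P ≤ Cfsg.pCore 2 G := by
    rw [← map_subgroupOf_eq_of_le hPN]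
    exact (map_mono h1).trans h2
  exact le_bot_iff.1 (hO ▸ h3)

/-- `O₂(H)` centralises such a subgroup `L ≤ H` normalised by `H`. -/
theorem core_le_centralizer (hO : Cfsg.pCore 2 G = ⊥) {N : Subgroup G} [N.Normal] {L H : Subgroup G}
    (hLN : L ≤ N) (hNL : N ≤ normalizer (L : Set G)) (hLH : L ≤ H) (hHL : H ≤ normalizer (L : Set G)) :
    (Cfsg.pCore 2 H).map H.subtype ≤ centralizer (L : Set G) := by
  set O := (Cfsg.pCore 2 H).map H.subtype
  have hOH : O ≤ H := map_subtype_le _
  have hLO : L ≤ normalizer (O : Set G) :=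
    (hLH.trans le_normalizer).trans (Components.normalizer_le_normalizer_map_subtype H _)
  rw [← commutator_eq_bot_iff_le_centralizer]
  have h1 : ⁅O, L⁆ ≤ O ⊓ L := le_inf
    (le_normalizer_iff_commutator_le_left.1 hLO)
    (le_normalizer_iff_commutator_le_right.1 (hOH.trans hHL))
  have h2 : ((O ⊓ L).subgroupOf L).Normal := normal_subgroupOf_of_le_normalizer (fun l hl =>
    mem_normalizer_fintype fun y hy => ⟨(mem_normalizer_iff.1 (hLO hl) y).1 hy.1,
      L.mul_mem (L.mul_mem hl hy.2) (L.inv_mem hl)⟩)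
  haveI := h2
  have h3 : IsPGroup 2 (O ⊓ L : Subgroup G) :=
    ((PLocal.isPGroup_pCore 2 H).map H.subtype).to_le inf_le_left
  have h4 : (O ⊓ L).subgroupOf L ≤ Cfsg.pCore 2 L := PLocal.le_pCore h3.comap_subtype
  have h5 := map_mono (f := L.subtype) h4
  rw [map_subgroupOf_eq_of_le inf_le_right, pCore_map_eq_bot hO hLN hNL] at h5
  exact le_bot_iff.1 (h1.trans h5)

/-- Minimal counterexample reduction for the Sidki pair problem. Let G be a finite group and V a nontrivial elementary abelian 2-subgroup satisfying the Sidki pair condition with V ∩ O₂(G) = 1. Suppose that for every finite group H of smaller order, every nontrivial elementary abelian 2-subgroup W of H satisfying the Sidki pair condition meets O₂(H) nontrivially, and that the same holds in G for every such subgroup W of order smaller than that of V. Then the generalized Fitting subgroup F*(G) is a non-abelian simple group and G = V F*(G). -/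
theorem result {G : Type u} [Group G] [Finite G] (V : Subgroup G) (hV : Cfsg.IsElementaryAbelian 2 V) (hV1 : V ≠ ⊥) (hS : Cfsg.IsSidkiPair V) (hVO : V ⊓ Cfsg.pCore 2 G = ⊥) (hminG : ∀ (H : Type u) [Group H] [Finite H] (W : Subgroup H), Nat.card H < Nat.card G → Cfsg.IsElementaryAbelian 2 W → W ≠ ⊥ → Cfsg.IsSidkiPair W → W ⊓ Cfsg.pCore 2 H ≠ ⊥) (hminV : ∀ W : Subgroup G, Nat.card W < Nat.card V → Cfsg.IsElementaryAbelian 2 W → W ≠ ⊥ → Cfsg.IsSidkiPair W → W ⊓ Cfsg.pCore 2 G ≠ ⊥) : IsSimpleGroup ↥(Cfsg.generalizedFittingSubgroup G) ∧ ¬ IsMulCommutative ↥(Cfsg.generalizedFittingSubgroup G) ∧ V ⊔ Cfsg.generalizedFittingSubgroup G = ⊤ := by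
  classical
  have hV2 : ∀ x ∈ V, x * x = 1 := fun x hx => by rw [← sq]; exact hV.2 x hx
  have hVc : ∀ x ∈ V, ∀ y ∈ V, x * y = y * x := fun x hx y hy =>
    congrArg Subtype.val (hV.1.is_comm.comm (⟨x, hx⟩ : V) ⟨y, hy⟩)
  have hVcom : ∀ x ∈ V, ∀ y ∈ V, Commute x y := hVc
  have hVinv : ∀ x ∈ V, x⁻¹ = x := fun x hx => inv_eq_of_mul_eq_one_right (hV2 x hx)
  have helem : ∀ {W : Subgroup G}, W ≤ V → Cfsg.IsElementaryAbelian 2 W := fun hWV =>
    PLocal.isElementaryAbelian_of_le hV hWV
  have hlt : ∀ H : Subgroup G, H ≠ ⊤ → Nat.card H < Nat.card G := fun H hH =>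
    lt_of_le_of_ne (card_le_card_group H) fun h => hH (eq_top_of_card_eq H h)
  -- induction applied to a proper subgroup
  have hsub : ∀ H W : Subgroup G, H ≠ ⊤ → W ≤ V → W ≤ H → W ≠ ⊥ →
      (∀ h v : G, h ∈ H → v ∈ W → Odd (orderOf h) → v * h * v⁻¹ = h⁻¹ → ∃ w ∈ W, w ≠ 1 ∧ w * h = h * w) →
      ∃ x ∈ W, x ≠ 1 ∧ x ∈ (Cfsg.pCore 2 H).map H.subtype := by
    intro H W hH hWV hWH hW1 hpair
    have h1 := hminG H (W.subgroupOf H) (hlt H hH)
      (by
        refine ⟨⟨⟨fun a b => Subtype.ext (Subtype.ext ?_)⟩⟩, fun a ha => Subtype.ext ?_⟩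
        · exact hVc _ (hWV a.2) _ (hWV b.2)
        · exact hV.2 _ (hWV ha))
      (by
        rw [Ne, subgroupOf_eq_bot, disjoint_iff, inf_of_le_left hWH]
        exact hW1)
      (by
        intro h v hv ho hi
        obtain ⟨w, hw, hw1, hwh⟩ := hpair h v h.2 hv (by rwa [orderOf_coe]) (congrArg Subtype.val hi)
        exact ⟨⟨w, hWH hw⟩, hw, fun e => hw1 (congrArg Subtype.val e), Subtype.ext hwh⟩)
    obtain ⟨x, hx, hx1⟩ := ((W.subgroupOf H ⊓ Cfsg.pCore 2 H).bot_or_exists_ne_one).resolve_left h1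
    exact ⟨x, hx.1, fun e => hx1 (Subtype.ext e), mem_map_of_mem H.subtype hx.2⟩
  -- `O₂(G) = 1`
  have hO : Cfsg.pCore 2 G = ⊥ := by
    by_contra hne
    set K := Cfsg.pCore 2 G
    set f := QuotientGroup.mk' K
    have hlt' : Nat.card (G ⧸ K) < Nat.card G := by
      rw [← index_eq_card, ← card_mul_index K]
      exact lt_mul_of_one_lt_left (Nat.pos_of_ne_zero index_ne_zero_of_finite)
        ((one_lt_card_iff_ne_bot K).2 hne)
    have h1 := hminG (G ⧸ K) (V.map f) hlt' (PLocal.isElementaryAbelian_map hV f) (by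
      rw [Ne, Subgroup.map_eq_bot_iff, QuotientGroup.ker_mk']
      intro h
      exact hV1 (by rw [← hVO, inf_of_le_left h]))
      (Cfsg.Agent.S3012.result V K hV hV1 hS hVO)
    exact h1 (by rw [PLocal.pCore_quotient_pCore_eq_bot 2 G, inf_bot_eq])
  have hnoW : ∀ W : Subgroup G, W ≤ V → W ≠ V → W ≠ ⊥ → Cfsg.IsSidkiPair W → False := by
    intro W hWV hne hW1 hWS
    refine hminV W (lt_of_le_of_ne (card_le_of_le hWV) fun h => hne (eq_of_le_of_card_ge hWV h.ge))
      (helem hWV) hW1 hWS ?_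
    rw [hO, inf_bot_eq]
  -- every nontrivial normal subgroup supplements `V`
  have hsupp : ∀ N : Subgroup G, N.Normal → N ≠ ⊥ → N ⊔ V = ⊤ := by
    intro N hN hN1
    haveI := hN
    by_contra hne
    have hnorm : ∀ H : Subgroup G, H ≤ normalizer (N : Set G) := fun H => le_normalizer_of_normal
    set W := V ⊓ centralizer (N : Set G) with hW
    have hfaith : ∀ X : Subgroup G, X ≤ V → X ≠ ⊥ → X ⊓ centralizer (N : Set G) = ⊥ →
        ∃ u ∈ X, ∃ y ∈ N, Odd (orderOf y) ∧ u * y * u⁻¹ = y⁻¹ ∧ ∀ w ∈ X, w * y = y * w → w = 1 := by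
      intro X hXV hX1 hXC
      by_contra hno
      push Not at hno
      obtain ⟨x, hx, hx1, hxO⟩ := hsub (N ⊔ X)
        X (fun h => hne (top_le_iff.1 (h.ge.trans (sup_le_sup_left hXV N)))) hXV le_sup_right hX1 (by
          intro h u hh hu ho hi
          obtain ⟨w, hw, hwy, hw1⟩ := hno u hu h (mem_of_odd (hnorm X) (fun a ha => hV2 a (hXV ha)) hh ho) ho hi
          exact ⟨w, hw, hw1, hwy⟩)
      exact hx1 (mem_bot.1 (hXC ▸ ⟨hx, core_le_centralizer hO le_rfl (hnorm N) le_sup_left (hnorm _) hxO⟩))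
    have hW1 : W ≠ ⊥ := by
      intro h
      obtain ⟨x, hx, hx1, hxO⟩ := hsub (N ⊔ V) V hne le_rfl le_sup_right hV1
        fun a u _ hu ho hi => hS a u hu ho hi
      exact hx1 (mem_bot.1 (h ▸ ⟨hx, core_le_centralizer hO le_rfl (hnorm N) le_sup_left (hnorm _) hxO⟩))
    have hWS : Cfsg.IsSidkiPair W := by
      intro h u hu ho hi
      by_contra hno
      push Not at hno
      have hhC : h ∈ centralizer (N : Set G) := by
        haveI : (centralizer (N : Set G)).Normal := inferInstance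
        obtain ⟨k, hk⟩ := exists_pow_eq_self_of_coprime (x := h) (n := 2) (Nat.coprime_two_left.mpr ho)
        have h2 : u * (h * u⁻¹ * h⁻¹) ∈ centralizer (N : Set G) :=
          mul_mem hu.2 ((inferInstance : (centralizer (N : Set G)).Normal).conj_mem _ (inv_mem hu.2) h)
        have h3 : h * h = (u * (h * u⁻¹ * h⁻¹))⁻¹ := by
          rw [show u * (h * u⁻¹ * h⁻¹) = u * h * u⁻¹ * h⁻¹ by group, hi, mul_inv_rev, inv_inv]
        rw [← hk, sq]
        exact pow_mem (h3 ▸ inv_mem h2) k
      set X := V ⊓ centralizer ({h} : Set G) with hX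
      have hXmem : ∀ w, w ∈ X ↔ w ∈ V ∧ w * h = h * w := fun w => by
        rw [hX, mem_inf, mem_centralizer_singleton_iff]
      obtain ⟨w₀, hw₀, hw₀1, hw₀h⟩ := hS h u hu.1 ho hi
      have hX1 : X ≠ ⊥ := fun e => hw₀1 (mem_bot.1 (e ▸ (hXmem w₀).2 ⟨hw₀, hw₀h⟩))
      have hXC : X ⊓ centralizer (N : Set G) = ⊥ := eq_bot_iff.2 fun w hw => mem_bot.2 (by
        by_contra hw1
        exact hno w ⟨((hXmem w).1 hw.1).1, hw.2⟩ hw1 ((hXmem w).1 hw.1).2)
      obtain ⟨x, hx, y, hy, hyo, hxy, hC⟩ := hfaith X inf_le_left hX1 hXC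
      have hxV := ((hXmem x).1 hx).1
      have hxh : x * h * x⁻¹ = h := by rw [((hXmem x).1 hx).2, mul_inv_cancel_right]
      have huy : u * y * u⁻¹ = y := by
        rw [← mem_centralizer_iff.1 hu.2 y hy, mul_inv_cancel_right]
      have hcomm : Commute h y := (mem_centralizer_iff.1 hhC y hy).symm
      have hi' : u * x * (h * y) * (u * x)⁻¹ = (h * y)⁻¹ := by
        calc u * x * (h * y) * (u * x)⁻¹ = u * ((x * h * x⁻¹) * (x * y * x⁻¹)) * u⁻¹ := by group
          _ = (u * h * u⁻¹) * (u * y * u⁻¹)⁻¹ := by rw [hxh, hxy]; group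
          _ = (h * y)⁻¹ := by rw [hi, huy, mul_inv_rev]; exact hcomm.inv_inv.eq
      obtain ⟨w, hw, hw1, hwhy⟩ := hS (h * y) (u * x) (mul_mem hu.1 hxV)
        (Odd.of_dvd_nat (ho.mul hyo) (hcomm.orderOf_mul_dvd_mul_orderOf)) hi'
      have hwx : Commute w x := hVc w hw x hxV
      have hwhy' : Commute w (h * y) := hwhy
      have h1 : Commute w (h * y⁻¹) := by
        have := (hwx.mul_right hwhy').mul_right hwx.inv_right
        rwa [show x * (h * y) * x⁻¹ = h * y⁻¹ by
          rw [show x * (h * y) * x⁻¹ = (x * h * x⁻¹) * (x * y * x⁻¹) by group, hxh, hxy]] at this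
      have h2 : Commute w (y * y) := by
        have := h1.inv_right.mul_right hwhy'
        rwa [show (h * y⁻¹)⁻¹ * (h * y) = y * y by group] at this
      have hwy := commute_of_commute_sq hyo h2
      have hwh : Commute w h := by
        have := hwhy'.mul_right hwy.inv_right
        rwa [mul_inv_cancel_right] at this
      exact hw1 (hC w ((hXmem w).2 ⟨hw, hwh⟩) hwy)
    have hVC : V ≤ centralizer (N : Set G) := by
      by_contra h
      exact hnoW W inf_le_left (fun e => h (e ▸ inf_le_right)) hW1 hWS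
    by_cases hCtop : centralizer (N : Set G) = ⊤
    · -- `N` central
      obtain ⟨q, hq, hqd⟩ := Nat.exists_prime_and_dvd ((one_lt_card_iff_ne_bot N).2 hN1).ne'
      haveI := Fact.mk hq
      obtain ⟨⟨z, hzN⟩, hz⟩ := exists_prime_orderOf_dvd_card' q hqd
      rw [Subgroup.orderOf_mk] at hz
      have hzc : ∀ g : G, g * z = z * g := fun g => (hCtop ▸ mem_top g : g ∈ centralizer (N : Set G)) z hzN |>.symm
      set Z := zpowers z with hZ
      have hZc : Z ≤ center G := zpowers_le.2 (mem_center_iff.2 hzc)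
      haveI : Z.Normal := ⟨fun a ha g => by
        rw [mem_center_iff.1 (hZc ha) g, mul_inv_cancel_right]; exact ha⟩
      have hZne : Z ≠ ⊥ := fun e => hq.ne_one (by
        rw [← hz, orderOf_eq_one_iff]; exact mem_bot.1 (e ▸ mem_zpowers z))
      by_cases hq2 : q = 2
      · subst hq2
        refine hZne (le_bot_iff.1 (hO ▸ PLocal.le_pCore (IsPGroup.of_card (n := 1) ?_)))
        rw [Nat.card_zpowers, hz, pow_one]
      have hVZ : V ⊓ Z = ⊥ := eq_bot_iff.2 fun a ha => mem_bot.2 (orderOf_eq_one_iff.1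
        (Nat.eq_one_of_dvd_coprimes ((Nat.coprime_primes Nat.prime_two hq).2 (Ne.symm hq2))
          (orderOf_dvd_of_pow_eq_one (hV.2 a ha.1))
          (by rw [← hz, ← Nat.card_zpowers z]; exact Z.orderOf_dvd_natCard ha.2)))
      set f := QuotientGroup.mk' Z
      have hlt' : Nat.card (G ⧸ Z) < Nat.card G := by
        rw [← index_eq_card, ← card_mul_index Z]
        exact lt_mul_of_one_lt_left (Nat.pos_of_ne_zero index_ne_zero_of_finite)
          ((one_lt_card_iff_ne_bot Z).2 hZne)
      have h1 := hminG (G ⧸ Z) (V.map f) hlt' (PLocal.isElementaryAbelian_map hV f) (by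
        rw [Ne, Subgroup.map_eq_bot_iff, QuotientGroup.ker_mk']
        intro h
        exact hV1 (by rw [← hVZ, inf_of_le_left h]))
        (Cfsg.Agent.S3012.result V Z hV hV1 hS hVZ)
      obtain ⟨_, ⟨⟨a, haV, rfl⟩, haO⟩, ha1⟩ :=
        ((V.map f ⊓ Cfsg.pCore 2 (G ⧸ Z)).bot_or_exists_ne_one).resolve_left h1
      set U := (Cfsg.pCore 2 (G ⧸ Z)).comap f with hU
      haveI : U.Normal := Subgroup.Normal.comap inferInstance _
      haveI := (PLocal.isPGroup_pCore 2 (G ⧸ Z)).isNilpotent
      haveI : Group.IsNilpotent U := Subgroup.isNilpotent_of_ker_le_center (f.subgroupComap (Cfsg.pCore 2 (G ⧸ Z)))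
        (fun b hb => by
          have hbZ : (b : G) ∈ Z := (QuotientGroup.eq_one_iff (b : G)).1
            (congrArg Subtype.val (MonoidHom.mem_ker.1 hb))
          exact mem_center_iff.2 fun c => Subtype.ext (mem_center_iff.1 (hZc hbZ) (c : G)))
      obtain ⟨T, hT⟩ := (IsPGroup.of_card (p := 2) (G := zpowers (⟨a, haO⟩ : U)) (n := 1) (by
        rw [Nat.card_zpowers, pow_one, ← orderOf_coe]
        exact orderOf_eq_prime (hV.2 a haV) fun e => ha1 (by rw [show a = 1 from e, map_one]))).exists_le_sylow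
      haveI : (T : Subgroup U).Normal := inferInstance
      haveI := T.characteristic_of_normal inferInstance
      haveI : ((T : Subgroup U).map U.subtype).Normal := ConjAct.normal_of_characteristic_of_normal
      have h4 : a ∈ Cfsg.pCore 2 G := PLocal.le_pCore (T.isPGroup'.map U.subtype)
        ⟨⟨a, haO⟩, hT (mem_zpowers _), rfl⟩
      rw [hO, mem_bot] at h4
      exact ha1 (by rw [h4, map_one])
    · obtain ⟨x, hx, hx1, hxO⟩ := hsub _ V hCtop le_rfl hVC hV1 fun a u _ hu ho hi => hS a u hu ho hi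
      haveI : (centralizer (N : Set G)).Normal := inferInstance
      haveI : ((Cfsg.pCore 2 (centralizer (N : Set G))).map (centralizer (N : Set G)).subtype).Normal :=
        ConjAct.normal_of_characteristic_of_normal
      exact hx1 (mem_bot.1 (hO ▸ PLocal.le_pCore ((PLocal.isPGroup_pCore 2 _).map _) hxO))
  -- the minimal normal subgroup
  haveI : Nontrivial G := by
    obtain ⟨x, -, hx⟩ := (V.bot_or_exists_ne_one).resolve_left hV1
    exact ⟨⟨x, 1, hx⟩⟩
  obtain ⟨N, hN, hN1, hNmin⟩ := Solvable.exists_minimal_normal (G := G)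
  haveI := hN
  have hNV := hsupp N hN hN1
  have hnormal : ∀ M : Subgroup G, V ≤ normalizer (M : Set G) → N ≤ normalizer (M : Set G) → M.Normal := by
    intro M h1 h2
    rw [← normalizer_eq_top_iff, eq_top_iff, ← hNV]
    exact sup_le h2 h1
  have hns : ¬ Group.IsSolvable N := by
    intro hs
    haveI := hs
    have hc := Solvable.mul_comm_of_minimal_normal hN1 hNmin
    obtain ⟨q, hq, hNq⟩ := Solvable.exists_prime_pow_eq_one_of_minimal_normal hN1 hNmin
    haveI := Fact.mk hq
    have hq2 : q ≠ 2 := by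
      rintro rfl
      exact hN1 (le_bot_iff.1 (hO ▸ PLocal.le_pCore
        (fun x => ⟨1, Subtype.ext (by rw [pow_one]; exact hNq x x.2)⟩ : IsPGroup 2 N)))
    have hodd : ∀ y ∈ N, Odd (orderOf y) := fun y hy =>
      (hq.odd_of_ne_two hq2).of_dvd_nat (orderOf_dvd_of_pow_eq_one (hNq y hy))
    have hfix : ∀ x ∈ V, x ≠ 1 → N ⊓ centralizer ({x} : Set G) = ⊥ := by
      intro x hx hx1
      set M := N ⊓ centralizer ({x} : Set G) with hM
      have hMn : M.Normal := hnormal M
        (fun u hu => mem_normalizer_fintype fun y hy => by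
          refine ⟨hN.conj_mem y hy.1 u, mem_centralizer_singleton_iff.2 ?_⟩
          have h1 : Commute (u * y * u⁻¹) x :=
            ((hVcom u hu x hx).mul_left (mem_centralizer_singleton_iff.1 hy.2)).mul_left
              (hVcom u hu x hx).inv_left
          exact h1.eq)
        (fun n hn => mem_normalizer_fintype fun y hy => by
          rw [hc n hn y hy.1, mul_inv_cancel_right]; exact hy)
      refine (hNmin M hMn inf_le_left).resolve_right fun e => hx1 ?_
      have hxN : x ∈ centralizer (N : Set G) := fun y hy =>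
        mem_centralizer_singleton_iff.1 (e.ge hy).2
      set W := V ⊓ centralizer (N : Set G) with hW
      have hWn : W.Normal := hnormal W
        (fun u hu => mem_normalizer_fintype fun w hw => by
          rw [hVc u hu w hw.1, mul_inv_cancel_right]; exact hw)
        (fun n hn => mem_normalizer_fintype fun w hw => by
          rw [mem_centralizer_iff.1 hw.2 n hn, mul_inv_cancel_right]; exact hw)
      haveI := hWn
      have hWp : IsPGroup 2 W := fun w => ⟨1, Subtype.ext (by rw [pow_one]; exact hV.2 w w.2.1)⟩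
      exact mem_bot.1 (hO ▸ PLocal.le_pCore hWp ⟨hx, hxN⟩)
    obtain ⟨x, hx, hx1⟩ := (V.bot_or_exists_ne_one).resolve_left hV1
    obtain ⟨y, hy, hy1⟩ := (N.bot_or_exists_ne_one).resolve_left hN1
    have hxy : x * y * x⁻¹ = y⁻¹ := by
      have hy' := hN.conj_mem y hy x
      have h2 : x * y * x⁻¹ * y ∈ N ⊓ centralizer ({x} : Set G) := by
        refine ⟨mul_mem hy' hy, mem_centralizer_singleton_iff.2 (mul_inv_eq_iff_eq_mul.1 ?_).symm⟩
        calc x * (x * y * x⁻¹ * y) * x⁻¹ = (x * x) * y * (x⁻¹ * x⁻¹) * (x * y * x⁻¹) := by group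
          _ = x * y * x⁻¹ * y := by
            rw [show x⁻¹ * x⁻¹ = 1 by rw [← mul_inv_rev, hV2 x hx, inv_one], hV2 x hx, one_mul, mul_one]
            exact (hc _ hy' y hy).symm
      rw [hfix x hx hx1, mem_bot] at h2
      exact eq_inv_of_mul_eq_one_left h2
    obtain ⟨w, hw, hw1, hwy⟩ := hS y x hx (hodd y hy) hxy
    exact hy1 (mem_bot.1 (hfix w hw hw1 ▸ ⟨hy, mem_centralizer_singleton_iff.2 hwy.symm⟩))
  have hZN : centralizer (N : Set G) = ⊥ := by
    haveI : (centralizer (N : Set G)).Normal := inferInstance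
    have h0 : N ⊓ centralizer (N : Set G) = ⊥ := by
      refine (hNmin _ inferInstance inf_le_left).resolve_right fun e => hns ?_
      haveI : IsMulCommutative N := le_centralizer_iff_isMulCommutative.1 (e.ge.trans inf_le_right)
      exact Group.isSolvable_of_comm fun a b => mul_comm' a b
    by_contra hne
    refine hne (le_bot_iff.1 (hO ▸ PLocal.le_pCore ?_))
    intro z
    obtain ⟨n, hn, u, hu, hnu⟩ := mem_sup_of_normal_left.1 (hNV ▸ mem_top (z : G))
    refine ⟨1, Subtype.ext ?_⟩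
    have h2 : (z : G) * z ∈ N := by
      have e : (z : G) * z = n * (u * n * u⁻¹) * (u * u) := by rw [← hnu]; group
      rw [e, hV2 u hu, mul_one]
      exact mul_mem hn (hN.conj_mem n hn u)
    rw [pow_one, SubgroupClass.coe_pow, sq]
    exact mem_bot.1 (h0 ▸ ⟨h2, mul_mem z.2 z.2⟩)
  have hNsub : ∀ M : Subgroup G, M.Normal → M ≠ ⊥ → N ≤ M := by
    intro M hM hM1
    haveI := hM
    rcases hNmin (N ⊓ M) inferInstance inf_le_left with h | h
    · refine absurd (le_bot_iff.1 (hZN ▸ ?_)) hM1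
      rw [← commutator_eq_bot_iff_le_centralizer]
      exact le_bot_iff.1 ((commutator_le_inf M N).trans (by rw [inf_comm, h]))
    · exact h ▸ inf_le_right
  -- `N` is simple
  obtain ⟨L, ⟨hLN, hNL, hL1⟩, hLmin⟩ := Set.exists_min_image
    {L : Subgroup G | L ≤ N ∧ N ≤ normalizer (L : Set G) ∧ L ≠ ⊥} (fun L => Nat.card L) (Set.toFinite _)
    ⟨N, le_rfl, le_normalizer, hN1⟩
  have hLmin' : ∀ M : Subgroup G, M ≤ L → N ≤ normalizer (M : Set G) → M = ⊥ ∨ M = L := by
    intro M hML hNM
    by_cases hM : M = ⊥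
    · exact Or.inl hM
    · exact Or.inr (eq_of_le_of_card_ge hML (hLmin M ⟨hML.trans hLN, hNM, hM⟩))
  let conjL : G → Subgroup G := fun u => L.map (MulAut.conj u).toMonoidHom
  have hconjN : ∀ u, conjL u ≤ N := by
    rintro u _ ⟨l, hl, rfl⟩
    exact hN.conj_mem l (hLN hl) u
  have hconjnorm : ∀ u, N ≤ normalizer (conjL u : Set G) := by
    intro u n hn
    refine mem_normalizer_fintype ?_
    rintro _ ⟨l, hl, rfl⟩
    have hn' : u⁻¹ * n * u ∈ N := by simpa using hN.conj_mem n hn u⁻¹
    refine ⟨(u⁻¹ * n * u) * l * (u⁻¹ * n * u)⁻¹, (mem_normalizer_iff.1 (hNL hn') l).1 hl, ?_⟩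
    simp only [MulEquiv.coe_toMonoidHom, MulAut.conj_apply]
    group
  have hcommL : ∀ u, conjL u ≠ L → ∀ a ∈ conjL u, ∀ l ∈ L, Commute a l := by
    intro u hu a ha l hl
    show a * l = l * a
    have h0 : L ⊓ conjL u = ⊥ := by
      refine (hLmin' _ inf_le_left fun n hn => mem_normalizer_fintype fun y hy =>
        ⟨(mem_normalizer_iff.1 (hNL hn) y).1 hy.1, (mem_normalizer_iff.1 (hconjnorm u hn) y).1 hy.2⟩).resolve_right
        fun e => hu (eq_of_le_of_card_ge (e ▸ inf_le_right) (by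
          rw [card_map_of_injective (MulAut.conj u).injective])).symm
    rw [← commutatorElement_eq_one_iff_mul_comm, ← mem_bot, ← h0]
    constructor
    · rw [commutatorElement_def]
      exact L.mul_mem ((mem_normalizer_iff.1 (hNL (hconjN u ha)) l).1 hl) (L.inv_mem hl)
    · rw [commutatorElement_def, mul_assoc, mul_assoc, ← mul_assoc l]
      exact (conjL u).mul_mem ha ((mem_normalizer_iff.1 (hconjnorm u (hLN hl)) _).1 ((conjL u).inv_mem ha))
  have hgen : Subgroup.closure (⋃ u ∈ V, (conjL u : Set G)) = N := by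
    set M := Subgroup.closure (⋃ u ∈ V, (conjL u : Set G))
    have hMN : M ≤ N := (closure_le _).2 (Set.iUnion₂_subset fun u _ => hconjN u)
    refine (hNmin M (hnormal M ?_ ?_) hMN).resolve_left fun e => hL1 (le_bot_iff.1 fun l hl =>
      e ▸ subset_closure (Set.mem_iUnion₂.2 ⟨1, V.one_mem, l, hl, by simp⟩))
    · intro x hx
      refine mem_normalizer_fintype fun y hy => ?_
      induction hy using closure_induction with
      | mem y hy =>
        obtain ⟨u, hu, l, hl, rfl⟩ := Set.mem_iUnion₂.1 hy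
        refine subset_closure (Set.mem_iUnion₂.2 ⟨x * u, mul_mem hx hu, l, hl, ?_⟩)
        simp only [MulEquiv.coe_toMonoidHom, MulAut.conj_apply]
        group
      | one => simp
      | mul a b _ _ ha hb => rw [conj_mul.symm]; exact mul_mem ha hb
      | inv a _ ha => rw [← conj_inv]; exact inv_mem ha
    · intro n hn
      refine mem_normalizer_fintype fun y hy => ?_
      induction hy using closure_induction with
      | mem y hy =>
        obtain ⟨u, hu, hy⟩ := Set.mem_iUnion₂.1 hy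
        exact subset_closure (Set.mem_iUnion₂.2 ⟨u, hu, (mem_normalizer_iff.1 (hconjnorm u hn) y).1 hy⟩)
      | one => simp
      | mul a b _ _ ha hb => rw [conj_mul.symm]; exact mul_mem ha hb
      | inv a _ ha => rw [← conj_inv]; exact inv_mem ha
  have hVcent : ∀ x ∈ V, (∀ l ∈ L, x * l = l * x) → x = 1 := by
    intro x hx hxl
    have : x ∈ centralizer (N : Set G) := by
      have hle : N ≤ centralizer ({x} : Set G) := hgen ▸ (closure_le _).2 (Set.iUnion₂_subset fun u hu => by
        rintro _ ⟨l, hl, rfl⟩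
        refine mem_centralizer_singleton_iff.2 ?_
        show u * l * u⁻¹ * x = x * (u * l * u⁻¹)
        exact (((hVcom u hu x hx).mul_left (hxl l hl).symm).mul_left
          (hVcom u hu x hx).inv_left).eq)
      exact fun n hn => mem_centralizer_singleton_iff.1 (hle hn)
    rwa [hZN, mem_bot] at this
  have hZL : ∀ y ∈ L, (∀ l ∈ L, y * l = l * y) → y = 1 := by
    intro y hy hyl
    have h0 : L ⊓ centralizer (L : Set G) = ⊥ := by
      refine (hLmin' _ inf_le_left fun n hn => mem_normalizer_fintype fun a ha =>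
        ⟨(mem_normalizer_iff.1 (hNL hn) a).1 ha.1, fun l hl => ?_⟩).resolve_right fun e => hns ?_
      · have hl' : n⁻¹ * l * n ∈ L := by simpa using (mem_normalizer_iff.1 (hNL (inv_mem hn)) l).1 hl
        calc l * (n * a * n⁻¹) = n * ((n⁻¹ * l * n) * a) * n⁻¹ := by group
          _ = n * (a * (n⁻¹ * l * n)) * n⁻¹ := by rw [mem_centralizer_iff.1 ha.2 _ hl']
          _ = _ := by group
      · have hLc : ∀ a ∈ L, ∀ b ∈ L, a * b = b * a := fun a ha b hb =>
          mem_centralizer_iff.1 (e.ge hb).2 a ha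
        haveI : IsMulCommutative N := hgen ▸ Subgroup.isMulCommutative_closure (by
          intro a ha b hb
          obtain ⟨u, hu, la, hla, rfl⟩ := Set.mem_iUnion₂.1 ha
          obtain ⟨u', hu', lb, hlb, rfl⟩ := Set.mem_iUnion₂.1 hb
          by_cases heq : conjL (u'⁻¹ * u) = L
          · have h1 : (u'⁻¹ * u) * la * (u'⁻¹ * u)⁻¹ ∈ L := heq ▸ ⟨la, hla, rfl⟩
            calc u * la * u⁻¹ * (u' * lb * u'⁻¹)
                = u' * ((u'⁻¹ * u) * la * (u'⁻¹ * u)⁻¹ * lb) * u'⁻¹ := by group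
              _ = u' * (lb * ((u'⁻¹ * u) * la * (u'⁻¹ * u)⁻¹)) * u'⁻¹ := by rw [hLc _ h1 _ hlb]
              _ = _ := by simp only [MulEquiv.coe_toMonoidHom, MulAut.conj_apply]; group
          · calc u * la * u⁻¹ * (u' * lb * u'⁻¹)
                = u' * ((u'⁻¹ * u) * la * (u'⁻¹ * u)⁻¹ * lb) * u'⁻¹ := by group
              _ = u' * (lb * ((u'⁻¹ * u) * la * (u'⁻¹ * u)⁻¹)) * u'⁻¹ := by
                  rw [(show Commute ((u'⁻¹ * u) * la * (u'⁻¹ * u)⁻¹) lb from hcommL _ heq _ ⟨la, hla, rfl⟩ _ hlb).eq]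
              _ = _ := by simp only [MulEquiv.coe_toMonoidHom, MulAut.conj_apply]; group)
        exact Group.isSolvable_of_comm fun a b => mul_comm' a b
    exact mem_bot.1 (h0 ▸ ⟨hy, fun l hl => (hyl l hl).symm⟩)
  have hVL : V ≤ normalizer (L : Set G) := by
    by_contra hVL
    set V₀ := V ⊓ normalizer (L : Set G) with hV₀
    have hout : ∀ x ∈ V, x ∉ V₀ → conjL x ≠ L := fun x hx hx0 e => hx0 ⟨hx, mem_normalizer_iff_map_conj_eq.2 e⟩
    have hLH : L ⊔ V₀ ≠ ⊤ := fun e =>
      hVL (le_top.trans (e.ge.trans (sup_le le_normalizer inf_le_right)))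
    by_cases hV₀1 : V₀ = ⊥
    · obtain ⟨x, hx, hx1⟩ := (V.bot_or_exists_ne_one).resolve_left hV1
      have hx0 : ∀ u ∈ V, u ≠ 1 → conjL u ≠ L := fun u hu hu1 => hout u hu fun h => hu1 (mem_bot.1 (hV₀1 ▸ h))
      obtain ⟨y, hy, hy1, hyo⟩ : ∃ y ∈ L, y ≠ 1 ∧ Odd (orderOf y) := by
        by_contra hno
        push Not at hno
        refine hL1 (le_bot_iff.1 ?_)
        rw [← pCore_map_eq_bot hO hLN hNL]
        intro l hl
        refine ⟨⟨l, hl⟩, PLocal.le_pCore (N := (⊤ : Subgroup L)) ?_ (mem_top _), rfl⟩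
        intro ⟨⟨a, ha⟩, _⟩
        obtain ⟨i, m, hm, hi⟩ := Nat.exists_eq_two_pow_mul_odd (orderOf_pos a).ne'
        refine ⟨i, Subtype.ext (Subtype.ext ?_)⟩
        show a ^ 2 ^ i = 1
        by_contra hne
        refine hno (a ^ 2 ^ i) (pow_mem ha _) hne ?_
        rw [orderOf_pow' _ (pow_ne_zero i two_ne_zero), Nat.gcd_eq_right (hi ▸ dvd_mul_right _ _), hi,
          Nat.mul_div_cancel_left _ (pow_pos two_pos i)]
        exact hm
      set z := x * y⁻¹ * x⁻¹ with hz
      have hzmem : z ∈ conjL x := ⟨y⁻¹, inv_mem hy, rfl⟩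
      have hzy : Commute z y := hcommL x (hx0 x hx hx1) z hzmem y hy
      have hi : x * (y * z) * x⁻¹ = (y * z)⁻¹ := by
        calc x * (y * z) * x⁻¹ = z⁻¹ * ((x * x) * y⁻¹ * (x * x)⁻¹) := by rw [hz]; group
          _ = z⁻¹ * y⁻¹ := by rw [hV2 x hx, inv_one, one_mul, mul_one]
          _ = _ := (mul_inv_rev _ _).symm
      have hzo : Odd (orderOf z) := by
        have e : orderOf z = orderOf y⁻¹ := MulEquiv.orderOf_eq (MulAut.conj x) y⁻¹
        rw [e, orderOf_inv]; exact hyo
      obtain ⟨w, hw, hw1, hwyz⟩ := hS (y * z) x hx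
        (Odd.of_dvd_nat (hyo.mul hzo) (hzy.symm.orderOf_mul_dvd_mul_orderOf)) hi
      have hwfix : w * (y * z) * w⁻¹ = y * z := by rw [hwyz, mul_inv_cancel_right]
      by_cases hwx : w = x
      · subst hwx
        rw [hwfix] at hi
        have h1 : y * z = 1 := by
          refine eq_one_of_odd_inverse (Odd.of_dvd_nat (hyo.mul hzo) (hzy.symm.orderOf_mul_dvd_mul_orderOf)) ?_
          calc y * z * (y * z) = y * z * (y * z)⁻¹ := congrArg (y * z * ·) hi
            _ = 1 := mul_inv_cancel _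
        refine hy1 (hZL y hy fun l hl => ?_)
        rw [eq_inv_of_mul_eq_one_left h1]
        exact ((hcommL w (hx0 w hw hw1) z hzmem l hl).inv_left).eq
      · refine hy1 (hZL y hy fun l hl => ?_)
        have hwx1 : w * x ≠ 1 := fun e => hwx (by
          rw [eq_inv_of_mul_eq_one_left e, hVinv x hx])
        have h1 : Commute (w * (y * z) * w⁻¹) l := by
          rw [show w * (y * z) * w⁻¹ = (w * y * w⁻¹) * (w * x * y⁻¹ * (w * x)⁻¹) by rw [hz]; group]
          exact (hcommL w (hx0 w hw hw1) _ ⟨y, hy, rfl⟩ l hl).mul_left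
            (hcommL (w * x) (hx0 _ (mul_mem hw hx) hwx1) _ ⟨y⁻¹, inv_mem hy, rfl⟩ l hl)
        rw [hwfix] at h1
        have h2 := h1.mul_left ((hcommL x (hx0 x hx hx1) z hzmem l hl).inv_left)
        rw [mul_inv_cancel_right] at h2
        exact h2.eq
    · obtain ⟨u, hu, y, hy, hyo, huy, hC⟩ : ∃ u ∈ V₀, ∃ y ∈ L, Odd (orderOf y) ∧ u * y * u⁻¹ = y⁻¹ ∧
          ∀ w ∈ V₀, w * y = y * w → w = 1 := by
        by_contra hno
        push Not at hno
        obtain ⟨x, hx, hx1, hxO⟩ := hsub (L ⊔ V₀) V₀ hLH inf_le_left le_sup_right hV₀1 (by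
          intro h u hh hu ho hi
          obtain ⟨w, hw, hwy, hw1⟩ := hno u hu h
            (mem_of_odd inf_le_right (fun a ha => hV2 a ha.1) hh ho) ho hi
          exact ⟨w, hw, hw1, hwy⟩)
        have hxc := core_le_centralizer hO hLN hNL le_sup_left (sup_le le_normalizer inf_le_right) hxO
        exact hx1 (hVcent x hx.1 fun l hl => (mem_centralizer_iff.1 hxc l hl).symm)
      have hy1 : y ≠ 1 := by
        rintro rfl
        obtain ⟨w, hw, hw1⟩ := (V₀.bot_or_exists_ne_one).resolve_left hV₀1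
        exact hw1 (hC w hw (by simp))
      obtain ⟨w, hw, hw1, hwy⟩ := hS y u hu.1 hyo huy
      refine hw1 (hC w (by_contra fun hw0 => hy1 (hZL y hy fun l hl => ?_)) hwy)
      have : w * y * w⁻¹ = y := by rw [hwy, mul_inv_cancel_right]
      rw [← this]
      exact hcommL w (hout w hw hw0) _ ⟨y, hy, rfl⟩ l hl
  have hLn : L.Normal := hnormal L hVL hNL
  obtain rfl : L = N := (hNmin L hLn hLN).resolve_left hL1
  have hsimple : IsSimpleGroup L := by
    haveI : Nontrivial L := (nontrivial_iff_ne_bot L).2 hL1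
    refine ⟨fun M hM => ?_⟩
    have h1 : L ≤ normalizer ((M.map L.subtype : Subgroup G) : Set G) := by
      intro n hn
      refine mem_normalizer_fintype ?_
      rintro _ ⟨a, ha, rfl⟩
      exact ⟨_, hM.conj_mem a ha ⟨n, hn⟩, rfl⟩
    rcases hLmin' _ (map_subtype_le M) h1 with h | h
    · exact Or.inl ((Subgroup.map_eq_bot_iff_of_injective _ L.subtype_injective).1 h)
    · refine Or.inr (Subgroup.map_injective L.subtype_injective ?_)
      rw [h, ← MonoidHom.range_eq_map, range_subtype]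
  have hF : Cfsg.fittingSubgroup G = ⊥ := le_bot_iff.1 (sSup_le fun M hM => le_bot_iff.2 (by
    by_contra hM1
    haveI := hM.2
    exact hns (Group.isSolvable_of_isSolvable_injective (inclusion_injective (hNsub M hM.1 hM1)))))
  have hFeq : Cfsg.generalizedFittingSubgroup G = L := by
    refine le_antisymm (Cfsg.Agent.S1325.result L (hF.le.trans bot_le) (hZN.le.trans bot_le)) ?_
    haveI : (Cfsg.layer G).Normal := inferInstance
    haveI : (Cfsg.generalizedFittingSubgroup G).Normal := sup_normal _ _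
    refine hNsub _ inferInstance fun h => ?_
    have := Components.centralizer_generalizedFitting_le_self (G := G)
    rw [h, le_bot_iff, eq_bot_iff] at this
    refine hL1 (le_bot_iff.1 fun l _ => this ?_)
    intro a ha
    rw [SetLike.mem_coe, mem_bot] at ha
    rw [ha, one_mul, mul_one]
  rw [hFeq]
  refine ⟨hsimple, fun hc => hns ?_, by rw [sup_comm]; exact hNV⟩
  exact Group.isSolvable_of_comm fun a b => hc.is_comm.comm a b

end Cfsg.Agent.S3048
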