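import Cfsg.Statements.S3053

import Mathlib

set_option autoImplicit false
open Cfsg

namespace Cfsg.Agent.S3053

open Subgroup
open scoped commutatorElement

variable {S : Type*} [Group S] [Finite S] {p : ℕ} [Fact p.Prime]

/-- Basic identities in a group whose commutators are central and killed by `p`. -/
theorem class2_facts (hp : p ≠ 2) (hcomm : commutator S ≤ Subgroup.center S)
    (hcard : Nat.card (Subgroup.center S) = p) :
    (∀ a b : S, a ^ p * b ^ p = (a * b) ^ p) ∧ (∀ a : S, a ^ p ∈ Subgroup.center S) ∧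
    (∀ a b c : S, ⁅a * b, c⁆ = ⁅a, c⁆ * ⁅b, c⁆) ∧
    (∀ a : S, a ∉ Subgroup.center S → ∀ z ∈ Subgroup.center S, ∃ y : S, ⁅y, a⁆ = z) := by
  have hc : ∀ a b : S, ⁅a, b⁆ ∈ Subgroup.center S := fun a b =>
    hcomm (commutator_mem_commutator (mem_top a) (mem_top b))
  have hcp : ∀ a b : S, ⁅a, b⁆ ^ p = 1 := fun a b => by
    have := pow_card_eq_one' (x := (⟨⁅a, b⁆, hc a b⟩ : Subgroup.center S))
    rw [hcard] at this
    simpa using congrArg Subtype.val this
  have hl : ∀ a b c : S, ⁅a * b, c⁆ = ⁅a, c⁆ * ⁅b, c⁆ := fun a b c => by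
    have h1 : ⁅a * b, c⁆ = a * ⁅b, c⁆ * a⁻¹ * ⁅a, c⁆ := by simp only [commutatorElement_def]; group
    rw [h1, mem_center_iff.mp (hc b c) a, mul_inv_cancel_right, ← mem_center_iff.mp (hc b c) ⁅a, c⁆]
  have hpw : ∀ (a c : S) (n : ℕ), ⁅a ^ n, c⁆ = ⁅a, c⁆ ^ n := fun a c n => by
    induction n with
    | zero => simp
    | succ n ih => rw [pow_succ, hl, ih, pow_succ]
  refine ⟨fun a b => ?_, fun a => ?_, hl, fun a ha z hz => ?_⟩
  · set d := ⁅b, a⁆ with hd
    have hd' : ∀ g : S, g * d = d * g := fun g => mem_center_iff.mp (hc b a) g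
    have hba : ∀ n : ℕ, b ^ n * a = d ^ n * (a * b ^ n) := fun n => by
      rw [← hpw b a n]; simp only [commutatorElement_def]; group
    have hmain : ∀ n : ℕ, (a * b) ^ n = d ^ (n.choose 2) * (a ^ n * b ^ n) := by
      intro n
      induction n with
      | zero => simp
      | succ n ih =>
        have hdn : ∀ k : ℕ, ∀ g : S, g * d ^ k = d ^ k * g := fun k g =>
          (Commute.pow_right (hd' g) k).eq
        rw [pow_succ, ih]
        calc d ^ n.choose 2 * (a ^ n * b ^ n) * (a * b)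
            = d ^ n.choose 2 * (a ^ n * (b ^ n * a)) * b := by group
          _ = d ^ n.choose 2 * ((a ^ n * d ^ n) * (a * b ^ n)) * b := by rw [hba n]; group
          _ = (d ^ n.choose 2 * d ^ n) * ((a ^ n * a) * (b ^ n * b)) := by rw [hdn n]; group
          _ = _ := by
            rw [← pow_add, ← pow_succ, ← pow_succ, Nat.choose_succ_succ', Nat.choose_one_right, add_comm]
    have h2 : p ∣ p.choose 2 :=
      (Fact.out : p.Prime).dvd_choose_self (by norm_num)
        (lt_of_le_of_ne (Fact.out : p.Prime).two_le (Ne.symm hp))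
    obtain ⟨k, hk⟩ := h2
    rw [hmain p, hk, pow_mul, hd, hcp, one_pow, one_mul]
  · refine mem_center_iff.mpr fun g => ?_
    exact (commutatorElement_eq_one_iff_commute.mp (by rw [hpw, hcp])).symm.eq
  · let f : S →* Subgroup.center S :=
      MonoidHom.mk' (fun y => ⟨⁅y, a⁆, hc y a⟩) (fun x y => Subtype.ext (hl x y a))
    have hne : f.range ≠ ⊥ := by
      intro h
      apply ha
      refine mem_center_iff.mpr fun g => ?_
      have h1 : f g ∈ f.range := ⟨g, rfl⟩
      rw [h, mem_bot] at h1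
      exact (commutatorElement_eq_one_iff_commute.mp (congrArg Subtype.val h1)).eq
    have : f.range = ⊤ := by
      haveI : Fact (Nat.card (Subgroup.center S)).Prime := ⟨hcard ▸ Fact.out⟩
      exact (Subgroup.eq_bot_or_eq_top_of_prime_card f.range).resolve_left hne
    obtain ⟨y, hy⟩ : (⟨z, hz⟩ : Subgroup.center S) ∈ f.range := this ▸ mem_top _
    exact ⟨y, congrArg Subtype.val hy⟩

/-- Let p be an odd prime and G a finite group with a Sylow p-subgroup P that is extraspecial of order p³ and exponent p². Then the centre of P is strongly closed in P with respect to G: a G-conjugate of an element of Z(P) that lies in P already lies in Z(P). In particular a nontrivial central element of P is conjugate in G to no noncentral element of P. -/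
theorem result {G : Type*} [Group G] [Finite G]
    {p : ℕ} [Fact p.Prime] (hp : p ≠ 2) (P : Sylow p G) (hE : Cfsg.IsExtraspecial p ↥P)
    (hcard : Nat.card P = p ^ 3) (hexp : Monoid.exponent ↥P = p ^ 2) :
    Cfsg.IsStronglyClosed ((Subgroup.center ↥P).map (P : Subgroup G).subtype) (P : Subgroup G) := by
  classical
  haveI : Finite ↥(P : Subgroup G) := inferInstance
  have hE' : Cfsg.IsExtraspecial p ↥(P : Subgroup G) := hE
  obtain ⟨⟨-, -, hcz⟩, hcc⟩ := hE'
  have hcardP : Nat.card ↥(P : Subgroup G) = p ^ 3 := hcard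
  have hexpP : Monoid.exponent ↥(P : Subgroup G) = p ^ 2 := hexp
  obtain ⟨hmul, hpc, hl, hsurj⟩ := class2_facts (S := ↥(P : Subgroup G)) hp hcz.le hcc
  refine ⟨map_subtype_le _, ?_⟩
  intro x hx g hgx
  obtain ⟨z, hz, rfl⟩ := Subgroup.mem_map.mp hx
  by_contra hne
  set e : ↥(P : Subgroup G) := ⟨g * (z : G) * g⁻¹, hgx⟩ with hedef
  have heZ : e ∉ Subgroup.center ↥(P : Subgroup G) := fun h => hne ⟨e, h, rfl⟩
  have hz1 : z ≠ 1 := by
    rintro rfl
    apply heZ
    have : e = 1 := Subtype.ext (by simp [e])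
    rw [this]; exact one_mem _
  have hzp : z ^ p = 1 := by
    have := pow_card_eq_one' (x := (⟨z, hz⟩ : Subgroup.center ↥(P : Subgroup G)))
    rw [hcc] at this
    simpa using congrArg Subtype.val this
  have hzgen : zpowers z = Subgroup.center ↥(P : Subgroup G) := by
    refine eq_of_le_of_card_ge (zpowers_le.mpr hz) ?_
    rw [Nat.card_zpowers, orderOf_eq_prime hzp hz1, hcc]
  have hep : e ^ p = 1 := Subtype.ext (by
    have h : ((z : G)) ^ p = 1 := by rw [← SubgroupClass.coe_pow, hzp]; rfl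
    show (g * (z : G) * g⁻¹) ^ p = 1
    rw [conj_pow, h]; group)
  -- the elements of order dividing p
  let π : ↥(P : Subgroup G) →* ↥(P : Subgroup G) := MonoidHom.mk' (fun a => a ^ p) (fun a b => (hmul a b).symm)
  set E := π.ker with hE
  have hEmem : ∀ a, a ∈ E ↔ a ^ p = 1 := fun a => Iff.rfl
  have hπne : π.range ≠ ⊥ := by
    intro h
    have hall : ∀ a : ↥(P : Subgroup G), a ^ p = 1 := fun a => by
      have h1 : π a ∈ π.range := ⟨a, rfl⟩
      rw [h, mem_bot] at h1; exact h1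
    have h2 := Monoid.exponent_dvd_of_forall_pow_eq_one hall
    rw [hexpP] at h2
    have h3 := Nat.le_of_dvd (Fact.out : p.Prime).pos h2
    nlinarith [(Fact.out : p.Prime).two_le]
  have hEcard : Nat.card E = p ^ 2 := by
    have h1 := E.card_mul_index
    rw [hE, Subgroup.index_ker, hcardP] at h1
    have h2 : π.range = Subgroup.center ↥(P : Subgroup G) := by
      refine eq_of_le_of_card_ge ?_ ?_
      · rintro _ ⟨a, rfl⟩; exact hpc a
      · have hle : π.range ≤ Subgroup.center ↥(P : Subgroup G) := by rintro _ ⟨a, rfl⟩; exact hpc a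
        have hd := card_dvd_of_le hle
        rw [hcc] at hd
        rcases ((Fact.out : p.Prime).eq_one_or_self_of_dvd _ hd) with h | h
        · exact absurd (card_eq_one.mp h) hπne
        · rw [h, hcc]
    rw [h2, hcc] at h1
    have h4 : Nat.card π.ker * p = p ^ 2 * p := by rw [h1]; ring
    exact Nat.eq_of_mul_eq_mul_right (Fact.out : p.Prime).pos h4
  have heE : e ∈ E := hep
  have hzE : z ∈ E := hzp
  haveI hEc : IsMulCommutative E := by
    refine IsPGroup.isMulCommutative_of_card_eq_prime_sq (p := p) hEcard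
  have hEcomm : ∀ {a b : ↥(P : Subgroup G)}, a ∈ E → b ∈ E → a * b = b * a := fun {a b} ha hb => by
    simpa using congrArg Subtype.val (mul_comm' (⟨a, ha⟩ : E) ⟨b, hb⟩)
  have hEgen : zpowers z ⊔ zpowers e = E := by
    refine eq_of_le_of_card_ge (sup_le (zpowers_le.mpr hzE) (zpowers_le.mpr heE)) ?_
    obtain ⟨i, hi, hci⟩ := (Nat.dvd_prime_pow Fact.out).mp
      (hEcard ▸ card_dvd_of_le (sup_le (zpowers_le.mpr hzE) (zpowers_le.mpr heE)))
    rw [hEcard, hci]
    refine Nat.pow_le_pow_right (Fact.out : p.Prime).pos ?_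
    by_contra hi2
    apply heZ
    have h1 : zpowers z = zpowers z ⊔ zpowers e := by
      refine eq_of_le_of_card_ge le_sup_left ?_
      rw [Nat.card_zpowers, orderOf_eq_prime hzp hz1, hci]
      exact (Nat.pow_le_pow_right (Fact.out : p.Prime).pos (by omega : i ≤ 1)).trans (pow_one p).le
    rw [← hzgen, h1]
    exact mem_sup_right (mem_zpowers e)
  -- `C_P(e) = E`
  have hCe : ∀ a : ↥(P : Subgroup G), a * e = e * a → a ∈ E := by
    intro a ha
    by_contra haE
    apply heZ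
    refine mem_center_iff.mpr fun b => ?_
    have hle : E ⊔ zpowers a ≤ Subgroup.centralizer {e} := by
      refine sup_le (fun c hc => mem_centralizer_iff.mpr ?_) (zpowers_le.mpr (mem_centralizer_iff.mpr ?_))
      · rintro _ rfl; exact hEcomm heE hc
      · rintro _ rfl; exact ha.symm
    have htop : E ⊔ zpowers a = ⊤ := by
      refine eq_top_of_le_card _ ?_
      obtain ⟨i, hi, hci⟩ := (Nat.dvd_prime_pow Fact.out).mp
        (hcardP ▸ card_subgroup_dvd_card (E ⊔ zpowers a) : Nat.card ↥(E ⊔ zpowers a) ∣ p ^ 3)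
      rw [hcardP, hci]
      refine Nat.pow_le_pow_right (Fact.out : p.Prime).pos ?_
      by_contra hi3
      apply haE
      have : E = E ⊔ zpowers a := eq_of_le_of_card_ge le_sup_left (by
        rw [hci, hEcard]; exact Nat.pow_le_pow_right (Fact.out : p.Prime).pos (by omega))
      rw [this]; exact mem_sup_right (mem_zpowers a)
    exact (mem_centralizer_iff.mp (hle (htop ▸ mem_top b)) e rfl).symm
  -- move `E` into a conjugate of `P` centralising `e`
  set EG := E.map (P : Subgroup G).subtype with hEG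
  set Ce := Subgroup.centralizer {(e : G)} with hCe'
  set R : Sylow p G := g • P with hR
  have hRC : (R : Subgroup G) ≤ Ce := by
    intro r hr
    rw [hR, Sylow.coe_subgroup_smul] at hr
    obtain ⟨s, hs, rfl⟩ := Subgroup.mem_map.mp hr
    refine mem_centralizer_iff.mpr fun w hw => ?_
    rw [Set.mem_singleton_iff.mp hw]
    show g * (z : G) * g⁻¹ * (g * s * g⁻¹) = g * s * g⁻¹ * (g * (z : G) * g⁻¹)
    have := congrArg Subtype.val (mem_center_iff.mp hz ⟨s, hs⟩)
    calc g * (z : G) * g⁻¹ * (g * s * g⁻¹) = g * ((z : G) * s) * g⁻¹ := by group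
      _ = g * (s * (z : G)) * g⁻¹ := by rw [show (z : G) * s = s * z from this.symm]
      _ = _ := by group
  have hEC : EG ≤ Ce := by
    rintro _ ⟨a, ha, rfl⟩
    refine mem_centralizer_iff.mpr fun w hw => ?_
    rw [Set.mem_singleton_iff.mp hw]
    exact congrArg Subtype.val (hEcomm heE ha)
  obtain ⟨R', hR'⟩ : ∃ R' : Sylow p ↥Ce, EG.subgroupOf Ce ≤ (R' : Subgroup ↥Ce) :=
    (((IsPGroup.of_card hEcard).map (P : Subgroup G).subtype).of_equiv (subgroupOfEquivOfLe hEC).symm).exists_le_sylow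
  obtain ⟨c, hc⟩ := MulAction.exists_smul_eq ↥Ce (R.subtype hRC) R'
  set h : G := (c : G) * g with hh
  have hEh : ∀ a ∈ E, ∃ b : ↥(P : Subgroup G), h * (b : G) * h⁻¹ = (a : G) ∧ b ∈ E := by
    intro a ha
    have h1 : (⟨(a : G), hEC ⟨a, ha, rfl⟩⟩ : ↥Ce) ∈ (R' : Subgroup ↥Ce) :=
      hR' (mem_subgroupOf.mpr ⟨a, ha, rfl⟩)
    rw [← hc, Sylow.coe_subgroup_smul] at h1
    obtain ⟨s, hs, hsa⟩ := Subgroup.mem_map.mp h1
    rw [Sylow.coe_subtype, mem_subgroupOf, hR, Sylow.coe_subgroup_smul] at hs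
    obtain ⟨b, hb, hbs⟩ := Subgroup.mem_map.mp hs
    have hba : h * b * h⁻¹ = (a : G) := by
      have e1 : (c : G) * (s : G) * (c : G)⁻¹ = (a : G) := by
        simpa [MulAut.smul_def] using congrArg Ce.subtype hsa
      have e2 : g * b * g⁻¹ = (s : G) := by simpa [MulAut.smul_def] using hbs
      rw [← e1, ← e2, hh]; group
    refine ⟨⟨b, hb⟩, hba, ?_⟩
    refine Subtype.ext (show b ^ p = (1 : G) from ?_)
    apply (MulAut.conj h).injective
    rw [map_pow, MulAut.conj_apply, hba, map_one]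
    exact congrArg Subtype.val ha
  choose! βinv hβ hβE using hEh
  have hze : h * (z : G) * h⁻¹ = (e : G) := by
    have hc' : (c : G) * (e : G) * (c : G)⁻¹ = e := by
      rw [← mem_centralizer_iff.mp c.2 (e : G) rfl, mul_inv_cancel_right]
    conv_rhs => rw [← hc']
    simp only [hh, e]; group
  -- the two unipotent automorphisms
  obtain ⟨u, hu⟩ := hsurj e heZ z hz
  have huz : (u : G) * z * (u : G)⁻¹ = z := by
    have := congrArg Subtype.val (mem_center_iff.mp hz u)
    simp only [Subgroup.coe_mul] at this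
    rw [this, mul_inv_cancel_right]
  have hue : (u : G) * e * (u : G)⁻¹ = z * e := by
    have := congrArg (Subtype.val) hu
    simp only [commutatorElement_def, Subgroup.coe_mul, Subgroup.coe_inv] at this
    rw [← this]; group
  set a₀ := βinv z with ha₀
  have ha₀Z : a₀ ∉ Subgroup.center ↥(P : Subgroup G) := by
    intro hmem
    rw [← hzgen] at hmem
    obtain ⟨k, hk⟩ := mem_zpowers_iff.mp hmem
    apply heZ
    have h1 : (z : G) = (e : G) ^ k := by
      rw [← hβ z hzE, ← hze, conj_zpow, ← ha₀, ← hk]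
      simp
    have h2 : z ∈ zpowers e := mem_zpowers_iff.mpr ⟨k, Subtype.ext (by simp [h1])⟩
    have h3 : zpowers z = zpowers e := eq_of_le_of_card_ge (zpowers_le.mpr h2) (by
      rw [Nat.card_zpowers, Nat.card_zpowers, orderOf_eq_prime hzp hz1]
      exact Nat.le_of_dvd (Fact.out : p.Prime).pos (orderOf_dvd_of_pow_eq_one hep))
    rw [← hzgen, h3]; exact mem_zpowers e
  obtain ⟨v₀, hv₀⟩ := hsurj a₀ ha₀Z z⁻¹ (inv_mem hz)
  set v : G := h * (v₀ : G) * h⁻¹ with hv
  have hve : v * (e : G) * v⁻¹ = e := by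
    have := congrArg Subtype.val (mem_center_iff.mp hz v₀)
    simp only [Subgroup.coe_mul] at this
    calc v * (e : G) * v⁻¹ = h * ((v₀ : G) * z * (v₀ : G)⁻¹) * h⁻¹ := by rw [hv, ← hze]; group
      _ = e := by rw [this, mul_inv_cancel_right, hze]
  have hvz : v * (z : G) * v⁻¹ = (e : G)⁻¹ * z := by
    have h1 := congrArg Subtype.val hv₀
    simp only [commutatorElement_def, Subgroup.coe_mul, Subgroup.coe_inv] at h1
    have h2 := hβ z hzE
    calc v * (z : G) * v⁻¹ = h * ((v₀ : G) * a₀ * (v₀ : G)⁻¹) * h⁻¹ := by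
          rw [hv]; conv_lhs => rw [← h2]
          rw [ha₀]; group
      _ = h * (((v₀ : G) * a₀ * (v₀ : G)⁻¹ * (a₀ : G)⁻¹) * a₀) * h⁻¹ := by group
      _ = (h * (z : G) * h⁻¹)⁻¹ * (h * a₀ * h⁻¹) := by rw [h1]; group
      _ = _ := by rw [hze, ha₀, h2]
  set w : G := (u : G) * v * u with hw
  have hcommze : (z : G) * e = e * z := congrArg Subtype.val (hEcomm hzE heE)
  have hwe : w * e * w⁻¹ = z := by
    calc w * e * w⁻¹ = (u : G) * (v * ((u : G) * e * (u : G)⁻¹) * v⁻¹) * (u : G)⁻¹ := by rw [hw]; group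
      _ = (u : G) * ((v * z * v⁻¹) * (v * e * v⁻¹)) * (u : G)⁻¹ := by rw [hue]; group
      _ = (u : G) * z * (u : G)⁻¹ := by rw [hvz, hve]; congr 2; rw [mul_assoc, hcommze]; group
      _ = z := huz
  have hwz : w * z * w⁻¹ = (e : G)⁻¹ := by
    calc w * z * w⁻¹ = (u : G) * (v * ((u : G) * z * (u : G)⁻¹) * v⁻¹) * (u : G)⁻¹ := by rw [hw]; group
      _ = ((u : G) * e * (u : G)⁻¹)⁻¹ * ((u : G) * z * (u : G)⁻¹) := by
        rw [huz, hvz]
        conv_rhs => rw [← huz]
        group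
      _ = _ := by rw [hue, huz]; group
  set n := w * w with hn
  have hne' : n * e * n⁻¹ = (e : G)⁻¹ := by
    calc n * e * n⁻¹ = w * (w * e * w⁻¹) * w⁻¹ := by rw [hn]; group
      _ = _ := by rw [hwe, hwz]
  have hnz : n * z * n⁻¹ = (z : G)⁻¹ := by
    calc n * z * n⁻¹ = w * (w * z * w⁻¹) * w⁻¹ := by rw [hn]; group
      _ = (w * e * w⁻¹)⁻¹ := by rw [hwz]; group
      _ = _ := by rw [hwe]
  have hEGgen : EG = zpowers (z : G) ⊔ zpowers (e : G) := by
    rw [hEG, ← hEgen, Subgroup.map_sup, MonoidHom.map_zpowers, MonoidHom.map_zpowers]; rfl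
  have hninv : ∀ a ∈ EG, n * a * n⁻¹ = a⁻¹ := by
    intro a ha
    rw [hEGgen] at ha
    obtain ⟨b, hb, d, hd, rfl⟩ : ∃ b ∈ zpowers (z : G), ∃ d ∈ zpowers (e : G), b * d = a := by
      obtain ⟨a', ha', rfl⟩ : ∃ a' ∈ E, (a' : G) = a := by
        rw [← hEGgen] at ha; obtain ⟨a', h1, h2⟩ := Subgroup.mem_map.mp ha; exact ⟨a', h1, h2⟩
      rw [← hEgen] at ha'
      haveI : (zpowers z).Normal := hzgen ▸ inferInstance
      obtain ⟨b, hb, d, hd, hbd⟩ := (mem_sup_of_normal_left (s := zpowers z) (t := zpowers e)).mp ha'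
      obtain ⟨i, rfl⟩ := mem_zpowers_iff.mp hb
      obtain ⟨j, rfl⟩ := mem_zpowers_iff.mp hd
      exact ⟨(z : G) ^ i, zpow_mem_zpowers _ i, (e : G) ^ j, zpow_mem_zpowers _ j, by rw [← hbd]; simp⟩
    obtain ⟨i, rfl⟩ := mem_zpowers_iff.mp hb
    obtain ⟨j, rfl⟩ := mem_zpowers_iff.mp hd
    calc n * ((z : G) ^ i * (e : G) ^ j) * n⁻¹ = (n * z * n⁻¹) ^ i * (n * e * n⁻¹) ^ j := by
          rw [show (n * z * n⁻¹) ^ i = n * (z : G) ^ i * n⁻¹ from conj_zpow,
            show (n * e * n⁻¹) ^ j = n * (e : G) ^ j * n⁻¹ from conj_zpow]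
          group
      _ = ((z : G) ^ i * (e : G) ^ j)⁻¹ := by
          rw [hnz, hne', inv_zpow', inv_zpow', mul_inv_rev, ← zpow_neg, ← zpow_neg]
          exact (Commute.zpow_zpow hcommze (-i) (-j)).eq
  set C := Subgroup.centralizer (EG : Set G) with hC
  have hPEG : ∀ s ∈ (P : Subgroup G), ∀ a ∈ EG, s * a * s⁻¹ ∈ EG := by
    intro s hs a ha
    obtain ⟨a', ha', rfl⟩ := Subgroup.mem_map.mp ha
    exact ⟨⟨s, hs⟩ * a' * ⟨s, hs⟩⁻¹, (inferInstance : π.ker.Normal).conj_mem a' ha' _, rfl⟩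
  have hPC : (P : Subgroup G) ≤ Subgroup.normalizer (C : Set G) := by
    intro s hs
    have key : ∀ s ∈ (P : Subgroup G), ∀ c ∈ C, s * c * s⁻¹ ∈ C := by
      intro s hs c hc
      refine mem_centralizer_iff.mpr fun a ha => ?_
      have h1 := mem_centralizer_iff.mp hc _ (hPEG s⁻¹ (inv_mem hs) a ha)
      have h2 := congrArg (fun t => s * t * s⁻¹) h1
      simpa [mul_assoc] using h2
    refine mem_normalizer_iff.mpr fun c => ⟨key s hs c, fun h => ?_⟩
    simpa [mul_assoc] using key s⁻¹ (inv_mem hs) _ h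
  set K := (P : Subgroup G) ⊔ C with hK
  have hnK : ∀ s ∈ (P : Subgroup G), n * s * n⁻¹ ∈ K := by
    intro s hs
    have h1 : s⁻¹ * (n * s * n⁻¹) ∈ C := by
      refine mem_centralizer_iff.mpr fun a ha => ?_
      have hni : n⁻¹ * a * n = a⁻¹ := by
        have := congrArg (fun t => n⁻¹ * t * n) (hninv _ (EG.inv_mem ha))
        simpa [mul_assoc] using this.symm
      have h3 := hninv _ (hPEG s hs _ (EG.inv_mem ha))
      have e1 : n * s * n⁻¹ * a * (n * s * n⁻¹)⁻¹ = s * a * s⁻¹ := by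
        calc n * s * n⁻¹ * a * (n * s * n⁻¹)⁻¹ = n * (s * (n⁻¹ * a * n) * s⁻¹) * n⁻¹ := by group
          _ = n * (s * a⁻¹ * s⁻¹) * n⁻¹ := by rw [hni]
          _ = _ := by rw [h3]; group
      calc a * (s⁻¹ * (n * s * n⁻¹)) = s⁻¹ * (s * a * s⁻¹) * (n * s * n⁻¹) := by group
        _ = s⁻¹ * (n * s * n⁻¹ * a * (n * s * n⁻¹)⁻¹) * (n * s * n⁻¹) := by rw [e1]
        _ = _ := by group
    have : n * s * n⁻¹ = s * (s⁻¹ * (n * s * n⁻¹)) := by group
    rw [this]; exact mul_mem (mem_sup_left hs) (mem_sup_right h1)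
  have hnP : ((n • P : Sylow p G) : Subgroup G) ≤ K := by
    intro y hy
    rw [Sylow.coe_subgroup_smul] at hy
    obtain ⟨s, hs, rfl⟩ := Subgroup.mem_map.mp hy
    exact hnK s hs
  obtain ⟨k, hk⟩ := MulAction.exists_smul_eq ↥K ((n • P : Sylow p G).subtype hnP) (P.subtype le_sup_left)
  have hkP : ∀ s ∈ (P : Subgroup G), (k : G) * (n * s * n⁻¹) * (k : G)⁻¹ ∈ (P : Subgroup G) := by
    intro s hs
    have h1 : ((k • (n • P : Sylow p G).subtype hnP : Sylow p ↥K) : Subgroup ↥K) = ((P.subtype le_sup_left : Sylow p ↥K) : Subgroup ↥K) := by rw [hk]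
    rw [Sylow.coe_subgroup_smul] at h1
    have h2 : k * ⟨n * s * n⁻¹, hnK s hs⟩ * k⁻¹ ∈ ((P.subtype le_sup_left : Sylow p ↥K) : Subgroup ↥K) := by
      rw [← h1]
      refine ⟨⟨n * s * n⁻¹, hnK s hs⟩, ?_, rfl⟩
      show (⟨n * s * n⁻¹, hnK s hs⟩ : ↥K) ∈ (((n • P : Sylow p G).subtype hnP : Sylow p ↥K) : Subgroup ↥K)
      rw [Sylow.coe_subtype, mem_subgroupOf, Sylow.coe_subgroup_smul]
      exact ⟨s, hs, rfl⟩
    rw [Sylow.coe_subtype] at h2
    exact mem_subgroupOf.mp h2
  obtain ⟨y, hy, d, hd, hyd⟩ : ∃ y ∈ (P : Subgroup G), ∃ d ∈ C, y * d = (k : G) := by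
    have h1 : (k : G) ∈ (P : Subgroup G) ⊔ C := k.2
    rw [← SetLike.mem_coe, Subgroup.coe_mul_of_left_le_normalizer_right (P : Subgroup G) C hPC] at h1
    exact Set.mem_mul.mp h1
  set t := d * n with ht
  have htP : ∀ s ∈ (P : Subgroup G), t * s * t⁻¹ ∈ (P : Subgroup G) := by
    intro s hs
    have := mul_mem (mul_mem (inv_mem hy) (hkP s hs)) hy
    rw [← hyd] at this
    have e1 : t * s * t⁻¹ = y⁻¹ * ((y * d) * (n * s * n⁻¹) * (y * d)⁻¹) * y := by rw [ht]; group
    rw [e1]; exact this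
  have htinv : ∀ a ∈ EG, t * a * t⁻¹ = a⁻¹ := by
    intro a ha
    calc t * a * t⁻¹ = d * (n * a * n⁻¹) * d⁻¹ := by rw [ht]; group
      _ = _ := by rw [hninv a ha, ← mem_centralizer_iff.mp hd _ (EG.inv_mem ha), mul_inv_cancel_right]
  set u' : ↥(P : Subgroup G) := ⟨t * u * t⁻¹, htP u u.2⟩ with hu'
  have hte : t * (e : G) * t⁻¹ = (e : G)⁻¹ := htinv _ ⟨e, heE, rfl⟩
  have htz : t * (z : G) * t⁻¹ = (z : G)⁻¹ := htinv _ ⟨z, hzE, rfl⟩
  have hu'e : (u' : G) * e * (u' : G)⁻¹ = z * e := by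
    have h1 : (u' : G) * (t * (e : G) * t⁻¹) * (u' : G)⁻¹ = t * ((u : G) * e * (u : G)⁻¹) * t⁻¹ := by
      simp only [hu']; group
    rw [hte, hue] at h1
    have h2 : t * ((z : G) * (e : G)) * t⁻¹ = (z : G)⁻¹ * (e : G)⁻¹ := by
      calc t * ((z : G) * (e : G)) * t⁻¹ = (t * z * t⁻¹) * (t * e * t⁻¹) := by group
        _ = _ := by rw [htz, hte]
    rw [h2] at h1
    calc (u' : G) * e * (u' : G)⁻¹ = ((u' : G) * (e : G)⁻¹ * (u' : G)⁻¹)⁻¹ := by group
      _ = e * z := by rw [h1]; group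
      _ = _ := hcommze.symm
  have hsame : u⁻¹ * u' ∈ E := by
    refine hCe _ (Subtype.ext ?_)
    simp only [Subgroup.coe_mul, Subgroup.coe_inv]
    calc (u : G)⁻¹ * (u' : G) * e = (u : G)⁻¹ * ((u' : G) * e * (u' : G)⁻¹) * u' := by group
      _ = (u : G)⁻¹ * ((u : G) * e * (u : G)⁻¹) * u' := by rw [hu'e, hue]
      _ = _ := by group
  have hpow : (u' : G) ^ p = (u : G) ^ p := by
    have h1 : π (u⁻¹ * u') = 1 := hsame
    rw [map_mul, map_inv, inv_mul_eq_one] at h1
    simpa [π] using (congrArg Subtype.val h1).symm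
  have hup : ((u : G) ^ p)⁻¹ = (u : G) ^ p := by
    have h1 : t * (u : G) ^ p * t⁻¹ = ((u : G) ^ p)⁻¹ := by
      refine htinv _ ⟨u ^ p, ?_, by simp⟩
      have := hpc u
      rw [← hzgen] at this
      exact zpowers_le.mpr hzE this
    rw [← h1, ← conj_pow]
    simpa [hu'] using hpow
  have huE : u ∈ E := by
    rw [hEmem]
    set c := u ^ p with hcdef
    have h1 : c * c = 1 := Subtype.ext (by
      simp only [Subgroup.coe_mul, hcdef, SubgroupClass.coe_pow, Subgroup.coe_one]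
      calc (u : G) ^ p * (u : G) ^ p = ((u : G) ^ p)⁻¹ * (u : G) ^ p := by rw [hup]
        _ = 1 := inv_mul_cancel _)
    have h2 : c ^ p = 1 := by
      have := pow_card_eq_one' (x := (⟨c, hpc u⟩ : Subgroup.center ↥(P : Subgroup G)))
      rw [hcc] at this
      simpa using congrArg Subtype.val this
    obtain ⟨k, hk⟩ := (Fact.out : p.Prime).odd_of_ne_two hp
    replace h2 : c ^ (2 * k + 1) = 1 := (congrArg (c ^ ·) hk).symm.trans h2
    rw [pow_succ, pow_mul, pow_two, h1, one_pow, one_mul] at h2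
    exact h2
  apply hz1
  rw [← hu]
  exact commutatorElement_eq_one_iff_commute.mpr (hEcomm huE heE)

end Cfsg.Agent.S3053
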