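import Cfsg.Statements.S3054

import Mathlib
import Cfsg.Agent.LocalEvenBasic.CubeLines

set_option autoImplicit false
open Cfsg

namespace Cfsg.Agent.S3054

open CfsgLib.LocalEvenBasic.CubeLines

/-- Let p be an odd prime and G a finite group with a Sylow p-subgroup P that is extraspecial of order p³ and exponent p. Suppose P contains three distinct subgroups A of order p² (each is elementary abelian of rank 2) such that every automorphism of A of order p is induced by conjugation by an element of G; equivalently the automorphism group induced on A by its normalizer contains the special linear group of A. Then p ≤ 13. -/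
theorem result {G : Type*} [Group G] [Finite G]
    {p : ℕ} [Fact p.Prime] (hp : p ≠ 2) (P : Sylow p G) (hE : Cfsg.IsExtraspecial p ↥P)
    (hcard : Nat.card P = p ^ 3) (hexp : Monoid.exponent ↥P = p)
    (A : Fin 3 → Subgroup G) (hA : Function.Injective A) (hAP : ∀ i, A i ≤ (P : Subgroup G))
    (hAcard : ∀ i, Nat.card ↥(A i) = p ^ 2)
    (hSL : ∀ i, ∀ φ : MulAut ↥(A i), orderOf φ = p → ∃ g : G, ∀ a : ↥(A i), (φ a : G) = g * (a : G) * g⁻¹) :
    p ≤ 13 := by
  classical
  have h : Cube P := ⟨hp, hE, hcard, fun q => by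
    have h1 := Monoid.pow_exponent_eq_one q
    have h2 : Monoid.exponent ↥(P : Subgroup G) = p := hexp
    rwa [h2] at h1⟩
  obtain ⟨z, hz, hz1⟩ := h.exists_center
  set C := Subgroup.center ↥(P : Subgroup G) with hC
  let A' : Fin 3 → Subgroup ↥(P : Subgroup G) := fun i => (A i).subgroupOf (P : Subgroup G)
  have hA'card : ∀ i, Nat.card ↥(A' i) = p ^ 2 := fun i => by
    rw [Nat.card_congr (Subgroup.subgroupOfEquivOfLe (hAP i)).toEquiv, hAcard i]
  have hA'comm : ∀ i, IsMulCommutative ↥(A' i) := fun i =>
    IsPGroup.isMulCommutative_of_card_eq_prime_sq (hA'card i)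
  -- the centre lies in each `A i`
  have hCA : ∀ i, C ≤ A' i := by
    intro i
    by_contra hle
    have hlt : A' i < A' i ⊔ C := lt_of_le_of_ne le_sup_left fun e => hle (e ▸ le_sup_right)
    have hsup : A' i ⊔ C = ⊤ := by
      obtain ⟨j, hj, hjc⟩ := (Nat.dvd_prime_pow (Fact.out : p.Prime)).mp
        (h.card ▸ Subgroup.card_subgroup_dvd_card (A' i ⊔ C))
      have hne : 2 < j := by
        by_contra h2
        refine hlt.ne (Subgroup.eq_of_le_of_card_ge hlt.le ?_)
        rw [hjc, hA'card i]
        exact Nat.pow_le_pow_right (Fact.out : p.Prime).pos (not_lt.mp h2)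
      exact Subgroup.eq_top_of_card_eq _ (by rw [hjc, h.card, show j = 3 by omega])
    -- then the whole group is abelian
    haveI := hA'comm i
    have hA'C : A' i ≤ Subgroup.centralizer (A' i : Set ↥(P : Subgroup G)) := fun a ha =>
      Subgroup.mem_centralizer_iff.mpr fun b hb =>
        congrArg Subtype.val (mul_comm' (⟨b, hb⟩ : ↥(A' i)) ⟨a, ha⟩)
    have htop : (⊤ : Subgroup ↥(P : Subgroup G)) ≤ Subgroup.centralizer (A' i : Set ↥(P : Subgroup G)) := by
      rw [← hsup]
      exact sup_le hA'C (Subgroup.center_le_centralizer _)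
    refine hle fun a _ => ?_
    have hAcen : A' i ≤ C := fun b hb => Subgroup.mem_center_iff.mpr fun q =>
      (Subgroup.mem_centralizer_iff.mp (htop (Subgroup.mem_top q)) b hb).symm
    have h1 := Subgroup.card_dvd_of_le hAcen
    rw [hA'card i, h.ext.2] at h1
    exact absurd (Nat.le_of_dvd (Fact.out : p.Prime).pos h1) (not_le.mpr (by
      have h2 := (Fact.out : p.Prime).one_lt
      nlinarith))
  have hxex : ∀ i, ∃ x ∈ A' i, x ∉ C := by
    intro i
    by_contra hcon
    push Not at hcon
    have h1 := Subgroup.card_dvd_of_le (show A' i ≤ C from hcon)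
    rw [hA'card i, h.ext.2] at h1
    exact absurd (Nat.le_of_dvd (Fact.out : p.Prime).pos h1) (not_le.mpr (by
      have h2 := (Fact.out : p.Prime).one_lt
      nlinarith))
  choose x hxA hxC using hxex
  -- coordinates on `A i`
  have hgen : ∀ i, Function.Injective (E (p := p) (z : G) (x i : G)) := fun i =>
    E_injective (h.pow_eq_one z.2) (h.pow_eq_one (x i).2) (h.commute hz (x i))
      (fun e => hz1 (Subtype.ext e)) (h.noncentral hz (hxC i))
  have hmemA : ∀ i v, E (p := p) (z : G) (x i : G) v ∈ A i := fun i v =>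
    mul_mem (pow_mem (Subgroup.mem_subgroupOf.mp (hCA i hz)) _)
      (pow_mem (Subgroup.mem_subgroupOf.mp (hxA i)) _)
  let f : ∀ i, Multiplicative (ZMod p × ZMod p) →* ↥(A i) := fun i =>
    MonoidHom.mk' (fun v => ⟨E (z : G) (x i : G) v.toAdd, hmemA i _⟩) fun v w =>
      Subtype.ext (E_add (h.pow_eq_one z.2) (h.pow_eq_one (x i).2) (h.commute hz (x i)) _ _)
  have hf : ∀ i, Function.Bijective (f i) := fun i => by
    refine (Nat.bijective_iff_injective_and_card _).mpr ⟨fun v w e => ?_, ?_⟩
    · exact Multiplicative.toAdd.injective (hgen i (congrArg Subtype.val e))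
    · rw [hAcard i, Nat.card_congr Multiplicative.toAdd, Nat.card_prod, Nat.card_zmod, sq]
  have htrans : ∀ i, HasTransvection (p := p) (z : G) (x i : G) := by
    intro i
    let sh : Multiplicative (ZMod p × ZMod p) ≃* Multiplicative (ZMod p × ZMod p) :=
      AddEquiv.toMultiplicative
        { toFun := fun v => (v.1, v.2 + v.1)
          invFun := fun v => (v.1, v.2 - v.1)
          left_inv := fun v => by simp
          right_inv := fun v => by simp
          map_add' := fun v w => by ext <;> simp [add_add_add_comm] }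
    let e := MulEquiv.ofBijective (f i) (hf i)
    let φ : MulAut ↥(A i) := e.symm.trans (sh.trans e)
    have hpow : ∀ (k : ℕ) (v : ZMod p × ZMod p),
        (φ ^ k) (e (Multiplicative.ofAdd v)) = e (Multiplicative.ofAdd (v.1, v.2 + k * v.1)) := by
      intro k
      induction k with
      | zero => intro v; simp
      | succ k ih =>
        intro v
        rw [pow_succ, MulAut.mul_apply]
        have : φ (e (Multiplicative.ofAdd v)) = e (Multiplicative.ofAdd (v.1, v.2 + v.1)) := by
          simp [φ, sh]
        rw [this, ih]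
        congr 2
        ext <;> push_cast <;> ring
    have hφ : orderOf φ = p := by
      refine orderOf_eq_prime ?_ ?_
      · refine MulEquiv.ext fun a => ?_
        obtain ⟨v, rfl⟩ := e.surjective a
        have := hpow p v.toAdd
        simpa using this
      · intro h1
        have := hpow 1 ((1, 0) : ZMod p × ZMod p)
        rw [pow_one, h1, MulAut.one_apply] at this
        simpa using e.injective this
    obtain ⟨g, hg⟩ := hSL i φ hφ
    refine ⟨g, 1, one_ne_zero, ?_, ?_⟩
    · have h1 := hg (e (Multiplicative.ofAdd (0, 1)))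
      have h2 := hpow 1 ((0, 1) : ZMod p × ZMod p)
      rw [pow_one] at h2
      rw [h2] at h1
      simpa [e, f, E, ZMod.val_one] using h1.symm
    · have h1 := hg (e (Multiplicative.ofAdd (1, 0)))
      have h2 := hpow 1 ((1, 0) : ZMod p × ZMod p)
      rw [pow_one] at h2
      rw [h2] at h1
      simpa [e, f, E, ZMod.val_one] using h1.symm
  have hind : ∀ i j, i ≠ j → ∀ k : ℕ, x i ^ k * (x j)⁻¹ ∉ C := by
    intro i j hij k hmem
    have hji : x j ∈ A' i := by
      have h1 := mul_mem (inv_mem (hCA i hmem)) (pow_mem (hxA i) k)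
      rwa [mul_inv_rev, inv_inv, mul_assoc, inv_mul_cancel, mul_one] at h1
    refine hij (hA (Subgroup.eq_of_le_of_card_ge (fun a ha => ?_) (by rw [hAcard, hAcard])).symm)
    obtain ⟨v, hv⟩ := (hf j).2 ⟨a, ha⟩
    have h2 : E (z : G) (x j : G) v.toAdd = a := congrArg Subtype.val hv
    rw [← h2]
    exact mul_mem (pow_mem (Subgroup.mem_subgroupOf.mp (hCA i hz)) _)
      (pow_mem (Subgroup.mem_subgroupOf.mp hji) _)
  by_contra hgt
  have hprime := (Fact.out : p.Prime)
  have h17 : 17 ≤ p := by
    by_contra hlt
    have h1 : p = 14 ∨ p = 15 ∨ p = 16 := by omega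
    rcases h1 with rfl | rfl | rfl <;> norm_num at hprime
  have := (lines_bound h hz hz1 x hxC hind htrans).1 (Or.inl h17)
  rw [Nat.card_eq_fintype_card, Fintype.card_fin] at this
  omega

end Cfsg.Agent.S3054
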