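import Cfsg.Statements.S3055

import Mathlib
import Cfsg.Agent.LocalEvenBasic.CubeLines

set_option autoImplicit false
open Cfsg

namespace Cfsg.Agent.S3055

open CfsgLib.LocalEvenBasic.CubeLines

/-- Let p be an odd prime and G a finite group with a Sylow p-subgroup P that is extraspecial of order p³ and exponent p. If all nonidentity elements of P are conjugate in G, then p ≤ 7. -/
theorem result {G : Type*} [Group G] [Finite G]
    {p : ℕ} [Fact p.Prime] (hp : p ≠ 2) (P : Sylow p G) (hE : Cfsg.IsExtraspecial p ↥P)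
    (hcard : Nat.card P = p ^ 3) (hexp : Monoid.exponent ↥P = p)
    (hconj : ∀ x y : ↥P, x ≠ 1 → y ≠ 1 → ∃ g : G, g * (x : G) * g⁻¹ = (y : G)) :
    p ≤ 7 := by
  classical
  have h : Cube P := ⟨hp, hE, hcard, fun q => by
    have h1 := Monoid.pow_exponent_eq_one q
    have h2 : Monoid.exponent ↥(P : Subgroup G) = p := hexp
    rwa [h2] at h1⟩
  obtain ⟨z, hz, hz1⟩ := h.exists_center
  obtain ⟨x, hxC, hind⟩ := h.exists_lines
  have htrans : ∀ i, HasTransvection (p := p) (z : G) (x i : G) := by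
    intro i
    set z' : G := (z : G) with hz'
    set x' : G := (x i : G) with hx'
    have hzp : z' ^ p = 1 := h.pow_eq_one z.2
    have hxp : x' ^ p = 1 := h.pow_eq_one (x i).2
    have hcm : Commute z' x' := h.commute hz (x i)
    have hzne : z' ≠ 1 := fun e => hz1 (Subtype.ext e)
    have hinj : Function.Injective (E (p := p) z' x') :=
      E_injective hzp hxp hcm hzne (h.noncentral hz (hxC i))
    have eL : E z' x' ((1, 0) : ZMod p × ZMod p) = z' := E_left hzp hxp hcm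
    have eR : E z' x' ((0, 1) : ZMod p × ZMod p) = x' := E_right hzp hxp hcm
    let fA : Multiplicative (ZMod p × ZMod p) →* G :=
      MonoidHom.mk' (fun v => E z' x' v.toAdd) fun v w => E_add hzp hxp hcm _ _
    set A : Subgroup G := fA.range with hA
    have hzA : z' ∈ A := ⟨Multiplicative.ofAdd (1, 0), eL⟩
    have hxA : x' ∈ A := ⟨Multiplicative.ofAdd (0, 1), eR⟩
    have hzc : ∀ q ∈ P, q * z' * q⁻¹ = z' := fun q hq => by
      rw [← (h.commute hz ⟨q, hq⟩).eq, mul_inv_cancel_right]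
    have hPA : ∀ q ∈ P, ∀ a ∈ A, q * a * q⁻¹ ∈ A := by
      rintro q hq _ ⟨v, rfl⟩
      obtain ⟨s, hs⟩ := h.conj_eq hz hz1 (x i) hq
      exact ⟨Multiplicative.ofAdd _,
        (act_of hzp hxp hcm q (1, 0) (s, 1) (by rw [eL, hzc q hq]) hs v.toAdd).symm⟩
    have hAP : A ≤ P := by
      rintro _ ⟨v, rfl⟩
      exact mul_mem (pow_mem z.2 _) (pow_mem (x i).2 _)
    -- fuse `x` into the centre
    obtain ⟨g, hg⟩ := hconj (x i) z (fun e => hxC i (e ▸ one_mem _)) hz1
    -- a conjugate of `A` in `P`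
    set Cz := Subgroup.centralizer ({z'} : Set G) with hCz
    have hPC : (P : Subgroup G) ≤ Cz := fun q hq =>
      Subgroup.mem_centralizer_singleton_iff.mpr (h.commute hz ⟨q, hq⟩).eq.symm
    have hgA : A.map (MulAut.conj g).toMonoidHom ≤ Cz := by
      rintro _ ⟨a, ha, rfl⟩
      refine Subgroup.mem_centralizer_singleton_iff.mpr ?_
      obtain ⟨v, rfl⟩ := ha
      have h1 : fA v * x' = x' * fA v := by
        show E z' x' v.toAdd * x' = x' * E z' x' v.toAdd
        exact ((hcm.symm.pow_right _).mul_right ((Commute.refl x').pow_right _)).eq.symm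
      show g * fA v * g⁻¹ * z' = z' * (g * fA v * g⁻¹)
      rw [show z' = g * x' * g⁻¹ from hg.symm]
      calc g * fA v * g⁻¹ * (g * x' * g⁻¹) = g * (fA v * x') * g⁻¹ := by group
        _ = _ := by rw [h1]; group
    obtain ⟨Q, hQ⟩ := (((P.2.to_le hAP).map (MulAut.conj g).toMonoidHom).of_equiv
      (Subgroup.subgroupOfEquivOfLe hgA).symm).exists_le_sylow
    obtain ⟨c, hc⟩ := MulAction.exists_smul_eq Cz Q (P.subtype hPC)
    set g' := (c : G) * g with hg'
    have hgx : g' * x' * g'⁻¹ = z' := by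
      have hcz : (c : G) * z' = z' * (c : G) := Subgroup.mem_centralizer_singleton_iff.mp c.2
      calc g' * x' * g'⁻¹ = (c : G) * (g * x' * g⁻¹) * (c : G)⁻¹ := by rw [hg']; group
        _ = z' := by rw [show g * x' * g⁻¹ = z' from hg, hcz, mul_inv_cancel_right]
    have hBP : ∀ a ∈ A, g' * a * g'⁻¹ ∈ P := by
      intro a ha
      have h1 : (⟨g * a * g⁻¹, hgA ⟨a, ha, rfl⟩⟩ : Cz) ∈ (Q : Subgroup Cz) :=
        hQ (Subgroup.mem_subgroupOf.mpr ⟨a, ha, rfl⟩)
      have h3 : (c * ⟨g * a * g⁻¹, hgA ⟨a, ha, rfl⟩⟩ * c⁻¹ : Cz) ∈ (P.subtype hPC : Subgroup Cz) := by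
        rw [← hc, Sylow.smul_def]
        exact ⟨_, h1, rfl⟩
      have h4 : (c : G) * (g * a * g⁻¹) * (c : G)⁻¹ ∈ P := h3
      simpa [hg', mul_assoc] using h4
    set B : Subgroup G := A.map (MulAut.conj g').toMonoidHom with hB
    have hzB : z' ∈ B := ⟨x', hxA, hgx⟩
    have hBP' : B ≤ P := by rintro _ ⟨a, ha, rfl⟩; exact hBP a ha
    have hPB : ∀ q ∈ P, ∀ b ∈ B, q * b * q⁻¹ ∈ B := by
      intro q hq b hb
      obtain ⟨s, hs⟩ := h.conj_eq hz hz1 ⟨b, hBP' hb⟩ hq
      rw [hs]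
      exact mul_mem (pow_mem hzB _) (pow_mem hb _)
    -- both Sylow subgroups normalise `B`
    set N := Subgroup.normalizer (B : Set G) with hN
    have hPN : (P : Subgroup G) ≤ N := fun q hq => Subgroup.mem_normalizer_fintype fun b hb => hPB q hq b hb
    have hgPN : ((g' • P : Sylow p G) : Subgroup G) ≤ N := by
      intro q hq
      rw [Sylow.smul_def] at hq
      obtain ⟨r, hr, rfl⟩ := Subgroup.mem_map.mp hq
      refine Subgroup.mem_normalizer_fintype fun b hb => ?_
      obtain ⟨a, ha, rfl⟩ := hb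
      refine ⟨r * a * r⁻¹, hPA r hr a ha, ?_⟩
      show g' * (r * a * r⁻¹) * g'⁻¹ = g' * r * g'⁻¹ * (g' * a * g'⁻¹) * (g' * r * g'⁻¹)⁻¹
      group
    obtain ⟨k, hk⟩ := MulAction.exists_smul_eq N (Sylow.subtype (g' • P) hgPN) (Sylow.subtype P hPN)
    rw [Sylow.smul_subtype] at hk
    replace hk := Sylow.subtype_injective hk
    have hnP : (k : G) * g' ∈ Subgroup.normalizer ((P : Subgroup G) : Set G) :=
      Sylow.smul_eq_iff_mem_normalizer.mp (by rw [mul_smul]; exact hk)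
    set n := (k : G) * g' with hn
    -- `n` fixes the centre, `B` comes back to `A`
    obtain ⟨r, hr⟩ : ∃ r : ℕ, n⁻¹ * z' * n = z' ^ r := by
      have h1 := (Subgroup.mem_normalizer_iff''.mp hnP z').mp z.2
      have h2 : (⟨_, h1⟩ : ↥(P : Subgroup G)) ∈ Subgroup.center ↥(P : Subgroup G) := by
        refine Subgroup.mem_center_iff.mpr fun q => Subtype.ext ?_
        have h3 := (Subgroup.mem_normalizer_iff.mp hnP (q : G)).mp q.2
        have h4 : Commute z' (n * (q : G) * n⁻¹) := h.commute hz ⟨_, h3⟩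
        show (q : G) * (n⁻¹ * z' * n) = n⁻¹ * z' * n * (q : G)
        calc (q : G) * (n⁻¹ * z' * n) = n⁻¹ * (n * (q : G) * n⁻¹ * z') * n := by group
          _ = n⁻¹ * (z' * (n * (q : G) * n⁻¹)) * n := by rw [h4.eq]
          _ = _ := by group
      rw [← h.center_zpowers hz hz1] at h2
      obtain ⟨r, hr⟩ := Submonoid.mem_powers_iff _ _ |>.mp (mem_powers_iff_mem_zpowers.mpr h2)
      exact ⟨r, (congrArg Subtype.val hr).symm.trans (by simp [hz'])⟩
    have hr0 : (r : ZMod p) ≠ 0 := by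
      intro h0
      apply hzne
      have h1 : n⁻¹ * z' * n = 1 := by rw [hr, pow_zmod_val hzp, h0, ZMod.val_zero, pow_zero]
      calc z' = n * (n⁻¹ * z' * n) * n⁻¹ := by group
        _ = 1 := by rw [h1]; group
    set K := n⁻¹ * g' with hK
    have hKx : K * x' * K⁻¹ = z' ^ r := by
      calc K * x' * K⁻¹ = n⁻¹ * (g' * x' * g'⁻¹) * n := by rw [hK]; group
        _ = z' ^ r := by rw [hgx, hr]
    obtain ⟨v, hv⟩ : ∃ v : ZMod p × ZMod p, K * z' * K⁻¹ = E z' x' v := by
      have h1 : g' * z' * g'⁻¹ ∈ B := ⟨z', hzA, rfl⟩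
      have h2 := (Subgroup.mem_normalizer_iff''.mp k.2 _).mp h1
      obtain ⟨a, ⟨v, hva⟩, ha⟩ := h2
      have ha' : g' * a * g'⁻¹ = (k : G)⁻¹ * (g' * z' * g'⁻¹) * (k : G) := ha
      refine ⟨v.toAdd, ?_⟩
      calc K * z' * K⁻¹ = g'⁻¹ * ((k : G)⁻¹ * (g' * z' * g'⁻¹) * (k : G)) * g' := by
            rw [hK, hn]; group
        _ = a := by rw [← ha']; group
        _ = E z' x' v.toAdd := hva.symm
    have hKi : K⁻¹ * z' * K = x' ^ ((r : ZMod p)⁻¹).val := by
      have h1 : z' = (z' ^ r) ^ ((r : ZMod p)⁻¹).val := by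
        rw [pow_zmod_val hzp r, ← pow_val_mul hzp, mul_inv_cancel₀ hr0, ZMod.val_one, pow_one]
      conv_lhs => rw [h1, ← hKx, conj_pow]
      group
    obtain ⟨y, hy⟩ := h.exists_comm_eq (hxC i) hz
    have hyz : (y : G) * z' * (y : G)⁻¹ = z' := hzc y y.2
    have hyx : (y : G) * x' * (y : G)⁻¹ = E z' x' ((1, 1) : ZMod p × ZMod p) := by
      have h1 := congrArg (fun a : ↥(P : Subgroup G) => (a : G) * x') hy
      simp only [commutatorElement_def, Subgroup.coe_mul, Subgroup.coe_inv, hx',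
        inv_mul_cancel_right] at h1
      rw [hx', h1, E, ZMod.val_one, pow_one, pow_one]
    refine ⟨K⁻¹ * (y : G) * K, v.2 * (r : ZMod p)⁻¹, mul_ne_zero ?_ (inv_ne_zero hr0), ?_, ?_⟩
    · intro h0
      -- otherwise `z` is a power of `x`
      have h1 : K * z' * K⁻¹ = z' ^ v.1.val := by
        rw [hv, E, h0, ZMod.val_zero, pow_zero, mul_one]
      have h2 : z' = (K⁻¹ * z' * K) ^ v.1.val := by
        conv_lhs => rw [show z' = K⁻¹ * (K * z' * K⁻¹) * K by group, h1]
        rw [show K⁻¹ * z' * K = K⁻¹ * z' * K⁻¹⁻¹ by group, conj_pow]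
        group
      rw [hKi, ← pow_val_mul hxp] at h2
      have h3 : E z' x' ((1, 0) : ZMod p × ZMod p) =
          E z' x' (0, (r : ZMod p)⁻¹ * v.1) := by
        rw [eL]
        simpa [E] using h2
      have := congrArg Prod.fst (hinj h3)
      simp at this
    · calc K⁻¹ * (y : G) * K * x' * (K⁻¹ * (y : G) * K)⁻¹
          = K⁻¹ * ((y : G) * (K * x' * K⁻¹) * (y : G)⁻¹) * K := by group
        _ = K⁻¹ * (z' ^ r) * K := by rw [hKx, ← conj_pow, hyz]
        _ = x' := by rw [← hKx]; group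
    · have h1 := act_of hzp hxp hcm (y : G) (1, 0) (1, 1) (by rw [eL, hyz]) hyx v
      calc K⁻¹ * (y : G) * K * z' * (K⁻¹ * (y : G) * K)⁻¹
          = K⁻¹ * ((y : G) * (K * z' * K⁻¹) * (y : G)⁻¹) * K := by group
        _ = K⁻¹ * (E z' x' (v + (v.2, 0))) * K := by
            rw [hv, h1]
            congr 3
            ext <;> simp
        _ = K⁻¹ * (K * z' * K⁻¹ * z' ^ v.2.val) * K := by
            rw [E_add hzp hxp hcm, ← hv]
            simp [E]
        _ = z' * (K⁻¹ * z' * K⁻¹⁻¹) ^ v.2.val := by rw [conj_pow]; group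
        _ = z' * x' ^ (((r : ZMod p)⁻¹ * v.2)).val := by rw [inv_inv, hKi, pow_val_mul hxp]
        _ = _ := by rw [mul_comm, E, ZMod.val_one, pow_one]
  by_contra hgt
  have hprime := (Fact.out : p.Prime)
  have hb := lines_bound h hz hz1 x hxC hind htrans
  rw [Nat.card_zmod] at hb
  have h13 : p = 11 ∨ p = 13 ∨ 17 ≤ p := by
    by_contra hcon
    have h1 : p = 8 ∨ p = 9 ∨ p = 10 ∨ p = 12 ∨ p = 14 ∨ p = 15 ∨ p = 16 := by omega
    rcases h1 with rfl | rfl | rfl | rfl | rfl | rfl | rfl <;> norm_num at hprime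
  rcases h13 with h1 | h1 | h1
  · have := hb.1 (Or.inr h1); omega
  · have := hb.2 h1; omega
  · have := hb.1 (Or.inl h1); omega

end Cfsg.Agent.S3055
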