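import Cfsg.Statements.S3057

import Cfsg.Agent.LocalEvenBasic.SylowGraph
import Cfsg.Agent.LocalEvenBasic.SylowNormal
import Cfsg.Agent.LocalEvenBasic.DStar
import Cfsg.Agent.Coprime.Generation
import Cfsg.Agent.PLocal.Constraint
import Cfsg.Agent.S0016
import Cfsg.Agent.S2777

set_option autoImplicit false
open Cfsg

namespace Cfsg.Agent.S3057

open Subgroup CfsgLib.LocalEven CfsgLib.LocalEvenBasic

variable {G : Type*} [Group G] [Finite G] {p : ℕ} [Fact p.Prime]

theorem zpowers_normal_le {H : Subgroup G} (hN : NormalizersLE p H) {P : Subgroup G} (hP : IsPGroup p P)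
    (hPH : P ≤ H) {x : G} (hx : x ∈ P) (hx1 : x ≠ 1) :
    Subgroup.centralizer {x} ≤ H := by
  intro y hy
  refine hN (zpowers x) (zpowers_le.mpr (hPH hx)) (hP.to_le (zpowers_le.mpr hx)) (by simpa using hx1) ?_
  have : Subgroup.centralizer ((zpowers x : Subgroup G) : Set G) ≤ normalizer (zpowers x : Set G) :=
    centralizer_le_normalizer _
  refine this (mem_centralizer_iff.mpr fun z hz => ?_)
  obtain ⟨k, rfl⟩ := mem_zpowers_iff.mp hz
  exact ((Commute.zpow_left (show Commute x y from mem_centralizer_iff.mp hy x rfl)) k).eq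

/-- A noncyclic situation: a `p × p` inside a Sylow subgroup contained in `H`. -/
theorem rank_one {H : Subgroup G} (hH : H ≠ ⊤) (hN : NormalizersLE p H) (hsol : Cfsg.IsPSolvable p G)
    (hdiv : p ∣ Nat.card G) (P : Sylow p G) (hPH : (P : Subgroup G) ≤ H) :
    ∀ X Y : Subgroup ↥(P : Subgroup G), Nat.card X = p → Nat.card Y = p → X = Y := by
  by_contra hcon
  push Not at hcon
  obtain ⟨X, Y, hX, hY, hXY⟩ := hcon
  haveI : Nontrivial ↥(P : Subgroup G) := by
    rw [← Finite.one_lt_card_iff_nontrivial]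
    exact (Fact.out : p.Prime).one_lt.trans_le (hX.symm.le.trans (Subgroup.card_le_card_group X))
  obtain ⟨z, hz, hz1⟩ := exists_mem_center_of_normal P.isPGroup' (⊤ : Subgroup ↥(P : Subgroup G)) top_ne_bot
  obtain ⟨k, hk⟩ := P.isPGroup'.exists_card_eq
  -- a central subgroup of order `p`
  obtain ⟨c, hc, hco⟩ : ∃ c ∈ Subgroup.center ↥(P : Subgroup G), orderOf c = p := by
    haveI : Nontrivial ↥(Subgroup.center ↥(P : Subgroup G)) := P.isPGroup'.center_nontrivial
    obtain ⟨c, hc⟩ := exists_prime_orderOf_dvd_card' (G := ↥(Subgroup.center ↥(P : Subgroup G))) p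
      (((P.isPGroup'.to_subgroup _).card_eq_or_dvd).resolve_left Finite.one_lt_card.ne')
    exact ⟨c, c.2, by rw [Subgroup.orderOf_coe, hc]⟩
  obtain ⟨W, hW, hWc⟩ : ∃ W : Subgroup ↥(P : Subgroup G), Nat.card W = p ∧ W ≠ zpowers c := by
    by_cases h : X = zpowers c
    · exact ⟨Y, hY, fun h' => hXY (h.trans h'.symm)⟩
    · exact ⟨X, hX, h⟩
  haveI hWcyc : IsCyclic W := isCyclic_of_prime_card hW
  haveI hEc : IsMulCommutative ↥(zpowers c ⊔ W) := isMulCommutative_sup inferInstance inferInstance
    ((zpowers_le.mpr hc).trans (Subgroup.center_le_centralizer _))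
  set E := (zpowers c ⊔ W).map (P : Subgroup G).subtype with hE
  haveI : IsMulCommutative ↥E := by rw [hE]; infer_instance
  have hEP : E ≤ (P : Subgroup G) := map_subtype_le _
  have hEnc : ¬ IsCyclic E := by
    intro hcyc
    haveI hc' : IsCyclic ↥(zpowers c ⊔ W) :=
      isCyclic_of_surjective (equivMapOfInjective _ _ (P : Subgroup G).subtype_injective).symm
        (equivMapOfInjective _ _ (P : Subgroup G).subtype_injective).symm.surjective
    classical
    haveI := Fintype.ofFinite ↥(zpowers c ⊔ W)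
    obtain ⟨w, hwW, hwc⟩ : ∃ w ∈ W, w ∉ zpowers c := by
      by_contra h
      push Not at h
      exact hWc (eq_of_le_of_card_ge h (by rw [hW, Nat.card_zpowers, hco]))
    have hwp : w ^ p = 1 := by
      have := pow_card_eq_one' (x := (⟨w, hwW⟩ : W))
      rw [hW] at this
      simpa using congrArg Subtype.val this
    set x : ↥(zpowers c ⊔ W) := ⟨w, mem_sup_right hwW⟩ with hx
    set y : ↥(zpowers c ⊔ W) := ⟨c, mem_sup_left (mem_zpowers c)⟩ with hy
    have hyo : orderOf y = p := by rw [hy, Subgroup.orderOf_mk, hco]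
    have hxn : x ∉ zpowers y := fun h => hwc (by
      obtain ⟨k, hk⟩ := mem_zpowers_iff.mp h
      exact mem_zpowers_iff.mpr ⟨k, by simpa [x, y] using congrArg Subtype.val hk⟩)
    have h1 : insert x (Finset.univ.filter fun z => z ∈ zpowers y) ⊆
        Finset.univ.filter fun z : ↥(zpowers c ⊔ W) => z ^ p = 1 := by
      intro z hz
      rcases Finset.mem_insert.mp hz with rfl | hz
      · exact Finset.mem_filter.mpr ⟨Finset.mem_univ _, Subtype.ext (by simpa [x] using hwp)⟩
      · obtain ⟨k, rfl⟩ := mem_zpowers_iff.mp (Finset.mem_filter.mp hz).2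
        have h1 : y ^ p = 1 := orderOf_dvd_iff_pow_eq_one.mp hyo.dvd
        rw [Finset.mem_filter, ← zpow_natCast, ← zpow_mul, mul_comm k, zpow_mul, zpow_natCast, h1,
          one_zpow]
        simp
    have h2 := (Finset.card_le_card h1).trans (IsCyclic.card_pow_eq_one_le (Fact.out : p.Prime).pos)
    rw [Finset.card_insert_of_notMem (by simp [hxn])] at h2
    have h3 : (Finset.univ.filter fun z => z ∈ zpowers y).card = p := by
      rw [← Fintype.card_subtype, ← Nat.card_eq_fintype_card, Nat.card_zpowers, hyo]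
    omega
  -- the `p'`-core lies in `H`
  have hK : Cfsg.pPrimeCore p G ≤ H := by
    refine CfsgLib.Coprime.le_of_forall_inf_centralizer_le hEnc (by rw [normalizer_eq_top]; exact le_top) ?_ ?_
    · obtain ⟨j, hj⟩ := (P.isPGroup'.to_le hEP).exists_card_eq
      rw [hj]
      exact Nat.Coprime.pow_left j (CfsgLib.PLocal.coprime_card_pPrimeCore p G).symm
    · exact fun x hx hx1 => inf_le_right.trans (zpowers_normal_le hN P.isPGroup' hPH (hEP hx) hx1)
  -- `O_{p',p}` has order divisible by `p`
  set M := Cfsg.pPrimePCore p G with hM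
  haveI hMn : M.Normal := inferInstanceAs ((Cfsg.pCore p (G ⧸ Cfsg.pPrimeCore p G)).comap _).Normal
  have hMne : ¬ M ≤ Cfsg.pPrimeCore p G := by
    intro hle
    haveI : Nontrivial (G ⧸ Cfsg.pPrimeCore p G) := by
      refine QuotientGroup.nontrivial_iff.mpr fun htop => ?_
      have := CfsgLib.PLocal.coprime_card_pPrimeCore p G
      rw [htop, Subgroup.card_top] at this
      exact (Fact.out : p.Prime).coprime_iff_not_dvd.mp this.symm hdiv
    rcases CfsgLib.PLocal.pCore_ne_bot_or_of_isPSolvable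
        (CfsgLib.PLocal.isPSolvable_quotient hsol (Cfsg.pPrimeCore p G)) with h | h
    · refine h (le_bot_iff.mp fun q hq => ?_)
      obtain ⟨g, rfl⟩ := QuotientGroup.mk'_surjective (Cfsg.pPrimeCore p G) q
      exact mem_bot.mpr ((QuotientGroup.eq_one_iff g).mpr (hle hq))
    · exact h (CfsgLib.PLocal.pPrimeCore_quotient_pPrimeCore_eq_bot p G)
  obtain ⟨Q, hQ⟩ := exists_sylow_map_eq_inf P M
  have hMH : M ≤ H := by
    rw [hM, ← CfsgLib.PLocal.sylow_pPrimePCore_sup Q]
    exact sup_le (hQ.le.trans (inf_le_left.trans hPH)) hK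
  have hQne : (Q : Subgroup ↥M).map M.subtype ≠ ⊥ := by
    intro h
    apply hMne
    rw [hM, ← CfsgLib.PLocal.sylow_pPrimePCore_sup Q, h, bot_sup_eq]
  apply hH
  rw [eq_top_iff, ← Sylow.normalizer_sup_eq_top Q]
  exact sup_le (hN _ (hQ.le.trans (inf_le_left.trans hPH)) (Q.isPGroup'.map _) hQne) hMH

/-- Let p be a prime and G a finite p-solvable group of order divisible by p, with Sylow p-subgroup P. Then the Sylow p-subgroups of G fail to be chain-connected through nontrivial intersections (equivalently, G has a strongly p-embedded subgroup) if and only if O_p(G) = 1 and P is cyclic or, for p = 2, generalized quaternion. -/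
theorem result {G : Type*} [Group G] [Finite G]
    (p : ℕ) [Fact p.Prime] (hdiv : p ∣ Nat.card G) (hsol : Cfsg.IsPSolvable p G) (P : Sylow p G) :
    ¬ Cfsg.IsSylowChainConnected p G ↔
      Cfsg.pCore p G = ⊥ ∧ (IsCyclic ↥P ∨ (p = 2 ∧ ∃ n : ℕ, Nonempty (↥P ≃* QuaternionGroup (2 ^ n)))) := by
  constructor
  · intro hcon
    obtain ⟨H, hH, hpH, hN⟩ := exists_normalizersLE_of_not_connected hcon
    obtain ⟨P₁, hP1, hP1H⟩ := exists_sylow_le_of_normalizersLE hN hpH
    refine ⟨?_, ?_⟩
    · by_contra hO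
      apply hH
      rw [eq_top_iff]
      have hOn : (Cfsg.pCore p G).Normal := inferInstance
      rw [← normalizer_eq_top (Cfsg.pCore p G)]
      exact hN _ ((CfsgLib.PLocal.pCore_le_sylow P₁).trans hP1H) (CfsgLib.PLocal.isPGroup_pCore p G) hO
    · have h1 := Cfsg.Agent.S0016.result p P.isPGroup' (fun X Y hX hY => by
        have e := (P.equiv P₁)
        have h2 := rank_one hH hN hsol hdiv P₁ hP1H (X.map e.toMonoidHom) (Y.map e.toMonoidHom)
          (by rw [← Nat.card_congr (X.equivMapOfInjective _ e.injective).toEquiv, hX])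
          (by rw [← Nat.card_congr (Y.equivMapOfInjective _ e.injective).toEquiv, hY])
        exact Subgroup.map_injective e.injective h2)
      exact h1
  · rintro ⟨hO, hP⟩
    have hPne : (P : Subgroup G) ≠ ⊥ := P.ne_bot_of_dvd_card hdiv
    have hP' : IsCyclic ↥(P : Subgroup G) ∨ ∃ n : ℕ, Nonempty (↥(P : Subgroup G) ≃* QuaternionGroup n) := by
      rcases hP with h | ⟨-, n, h⟩
      · exact Or.inl h
      · exact Or.inr ⟨2 ^ n, h⟩
    have h1 := Cfsg.Agent.S2777.result hO P hPne hP'
    have hH := h1.2.1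
    have hpH := dvd_card_of_isStronglyPEmbedded h1
    exact not_connected_of_normalizersLE hH hpH ((isStronglyPEmbedded_iff_normalizer hH hpH).mp h1)

end Cfsg.Agent.S3057
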