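import Cfsg.Statements.S3058

import Cfsg.Agent.LocalEvenBasic.SylowGraph
import Cfsg.Agent.Coprime.Generation
import Cfsg.Agent.LocalEvenBasic.CardLattice

set_option autoImplicit false
open Cfsg

namespace Cfsg.Agent.S3058

open Subgroup CfsgLib.LocalEven CfsgLib.LocalEvenBasic

variable {G : Type*} [Group G] [Finite G] {p : ℕ} [Fact p.Prime]

theorem inf_sylow (P : Sylow p G) (N : Subgroup G) [N.Normal] :
    ∃ Q : Sylow p ↥N, (Q : Subgroup ↥N).map N.subtype = (P : Subgroup G) ⊓ N := by
  have h0 : IsPGroup p ↥(((P : Subgroup G) ⊓ N).subgroupOf N) :=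
    (P.isPGroup'.to_le inf_le_left).of_equiv (subgroupOfEquivOfLe inf_le_right).symm
  obtain ⟨Q, hQ⟩ := h0.exists_le_sylow
  refine ⟨Q, (eq_of_le_of_card_ge ?_ ?_).symm⟩
  · intro y hy
    exact ⟨⟨y, hy.2⟩, hQ (mem_subgroupOf.mpr hy), rfl⟩
  · obtain ⟨R, hR⟩ := (Q.isPGroup'.map N.subtype).exists_le_sylow
    obtain ⟨g, hg⟩ := MulAction.exists_smul_eq G P R
    have hRN : (R : Subgroup G) ⊓ N = ((P : Subgroup G) ⊓ N).map (MulAut.conj g).toMonoidHom := by
      rw [map_inf _ _ _ (MulAut.conj g).injective, ← hg, Sylow.coe_subgroup_smul]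
      congr 1
      ext y
      constructor
      · intro hy
        exact ⟨g⁻¹ * y * g, by simpa using Subgroup.Normal.conj_mem inferInstance y hy g⁻¹, by simp [mul_assoc]⟩
      · rintro ⟨z, hz, rfl⟩
        exact Subgroup.Normal.conj_mem inferInstance z hz g
    calc Nat.card ((Q : Subgroup ↥N).map N.subtype) ≤ Nat.card ↥((R : Subgroup G) ⊓ N) :=
          card_le_of_le (le_inf hR (map_subtype_le _))
      _ = _ := by rw [hRN]; exact Nat.card_congr (equivMapOfInjective _ _ (MulAut.conj g).injective).symm.toEquiv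

theorem exists_order_p (P : Sylow p G) (N : Subgroup G) [N.Normal] (hN : p ∣ Nat.card N) :
    ∃ a ∈ (P : Subgroup G) ⊓ N, orderOf a = p := by
  obtain ⟨Q, hQ⟩ := inf_sylow P N
  obtain ⟨a, ha⟩ := exists_prime_orderOf_dvd_card' (G := ↥(Q : Subgroup ↥N)) p (Q.dvd_card_of_dvd_card hN)
  refine ⟨((a : ↥N) : G), hQ ▸ ⟨a, a.2, rfl⟩, ?_⟩
  rw [Subgroup.orderOf_coe, Subgroup.orderOf_coe, ha]

/-- Let p be a prime and G a finite group whose Sylow p-subgroups are not chain-connected through nontrivial intersections (so G has a strongly p-embedded subgroup). If N and M are normal subgroups of G whose orders are both divisible by p, then the order of N ∩ M is divisible by p. Consequently, among the normal subgroups of G whose order is divisible by p there is a smallest one (the intersection of all of them). -/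
theorem result {G : Type*} [Group G] [Finite G]
    (p : ℕ) [Fact p.Prime] (hG : ¬ Cfsg.IsSylowChainConnected p G)
    (N M : Subgroup G) [N.Normal] [M.Normal] (hN : p ∣ Nat.card N) (hM : p ∣ Nat.card M) :
    p ∣ Nat.card ↥(N ⊓ M) := by
  obtain ⟨H, hH, hpH, hHN⟩ := exists_normalizersLE_of_not_connected hG
  obtain ⟨P, hP1, hPH⟩ := exists_sylow_le_of_normalizersLE hHN hpH
  by_contra hND
  set D := N ⊓ M with hD
  have hcopD : ∀ Q : Subgroup G, IsPGroup p ↥Q → Q ⊓ D = ⊥ := by
    intro Q hQ
    obtain ⟨k, hk⟩ := (hQ.to_le (inf_le_left (b := D))).exists_card_eq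
    rcases Nat.eq_zero_or_pos k with rfl | hk0
    · exact card_eq_one.mp (by simpa using hk)
    · exact absurd ((dvd_pow_self p hk0.ne').trans (hk ▸ card_dvd_of_le (inf_le_right : Q ⊓ D ≤ D))) hND
  obtain ⟨a, ha, hao⟩ := exists_order_p P N hN
  obtain ⟨b, hb, hbo⟩ := exists_order_p P M hM
  have hcomm : ∀ x ∈ N, ∀ y ∈ M, x * y * x⁻¹ * y⁻¹ ∈ D := fun x hx y hy =>
    ⟨by
      have : x * y * x⁻¹ * y⁻¹ = x * (y * x⁻¹ * y⁻¹) := by group
      rw [this]; exact N.mul_mem hx (Subgroup.Normal.conj_mem inferInstance _ (N.inv_mem hx) y),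
     M.mul_mem (Subgroup.Normal.conj_mem inferInstance y hy x) (M.inv_mem hy)⟩
  have hab : Commute a b := by
    have h1 : a * b * a⁻¹ * b⁻¹ ∈ (P : Subgroup G) ⊓ D :=
      ⟨(P : Subgroup G).mul_mem ((P : Subgroup G).mul_mem ((P : Subgroup G).mul_mem ha.1 hb.1)
        ((P : Subgroup G).inv_mem ha.1)) ((P : Subgroup G).inv_mem hb.1), hcomm a ha.2 b hb.2⟩
    rw [hcopD _ P.isPGroup', mem_bot] at h1
    show a * b = b * a
    calc a * b = (a * b * a⁻¹ * b⁻¹) * (b * a) := by group
      _ = b * a := by rw [h1, one_mul]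
  set E := zpowers a ⊔ zpowers b with hE
  haveI hEc : IsMulCommutative ↥E := by
    rw [hE, zpowers_eq_closure, zpowers_eq_closure, ← Subgroup.closure_union]
    refine Subgroup.isMulCommutative_closure ?_
    rintro x (rfl | rfl) y (rfl | rfl)
    · rfl
    · exact hab
    · exact hab.symm
    · rfl
  have hEP : E ≤ (P : Subgroup G) := sup_le (zpowers_le.mpr ha.1) (zpowers_le.mpr hb.1)
  have hEnc : ¬ IsCyclic E := by
    intro hc
    have haE : zpowers a ≤ E := le_sup_left
    have hbE : zpowers b ≤ E := le_sup_right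
    have h2 : a ∈ zpowers b := by
      classical
      haveI := Fintype.ofFinite ↥E
      set y : E := ⟨b, hbE (mem_zpowers b)⟩ with hy
      set x : E := ⟨a, haE (mem_zpowers a)⟩ with hx
      have hyo : orderOf y = p := by rw [hy, Subgroup.orderOf_mk, hbo]
      by_contra hn
      have hxn : x ∉ zpowers y := fun h => hn (by
        obtain ⟨k, hk⟩ := mem_zpowers_iff.mp h
        exact mem_zpowers_iff.mpr ⟨k, by simpa [x, y] using congrArg Subtype.val hk⟩)
      have h1 : insert x (Finset.univ.filter fun z => z ∈ zpowers y) ⊆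
          Finset.univ.filter fun z : E => z ^ p = 1 := by
        intro z hz
        rcases Finset.mem_insert.mp hz with rfl | hz
        · refine Finset.mem_filter.mpr ⟨Finset.mem_univ _, Subtype.ext ?_⟩
          simp [x, ← hao, pow_orderOf_eq_one]
        · obtain ⟨k, rfl⟩ := mem_zpowers_iff.mp (Finset.mem_filter.mp hz).2
          have h1 : y ^ p = 1 := by rw [← hyo, pow_orderOf_eq_one]
          rw [Finset.mem_filter, ← zpow_natCast, ← zpow_mul, mul_comm k, zpow_mul, zpow_natCast, h1,
            one_zpow]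
          simp
      have h2 := (Finset.card_le_card h1).trans (IsCyclic.card_pow_eq_one_le (Fact.out : p.Prime).pos)
      rw [Finset.card_insert_of_notMem (by simp [hxn])] at h2
      have h3 : (Finset.univ.filter fun z => z ∈ zpowers y).card = p := by
        rw [← Fintype.card_subtype, ← Nat.card_eq_fintype_card, Nat.card_zpowers, hyo]
      omega
    have h3 : a ∈ (P : Subgroup G) ⊓ D := ⟨ha.1, ha.2, zpowers_le.mpr hb.2 h2⟩
    rw [hcopD _ P.isPGroup', mem_bot] at h3
    rw [h3, orderOf_one] at hao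
    exact (Fact.out : p.Prime).ne_one hao.symm
  have hDn : D.Normal := inferInstanceAs (N ⊓ M).Normal
  have hDH : D ≤ H := by
    refine CfsgLib.Coprime.le_of_forall_inf_centralizer_le hEnc
      (by rw [normalizer_eq_top D]; exact le_top) ?_ ?_
    · obtain ⟨k, hk⟩ := (P.isPGroup'.to_le hEP).exists_card_eq
      rw [hk]
      exact Nat.Coprime.pow_left k ((Fact.out : p.Prime).coprime_iff_not_dvd.mpr hND)
    · intro x hx hx1
      refine inf_le_right.trans ((fun y hy => hHN (zpowers x) (zpowers_le.mpr (hPH (hEP hx)))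
        (P.isPGroup'.to_le (zpowers_le.mpr (hEP hx))) (by simpa using hx1) ?_))
      rw [mem_normalizer_iff]
      intro z
      have hfix : ∀ z ∈ zpowers x, y * z * y⁻¹ = z := fun z hz => by
        obtain ⟨k, rfl⟩ := mem_zpowers_iff.mp hz
        rw [← conj_zpow, ← mem_centralizer_iff.mp hy x rfl, mul_inv_cancel_right]
      refine ⟨fun hz => by rwa [hfix z hz], fun hz => ?_⟩
      have := hfix _ hz
      have h5 : y * z * y⁻¹ = z := by
        apply (MulAut.conj y).injective
        simpa using this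
      rwa [h5] at hz
  -- `M ≤ H`
  set A := (P : Subgroup G) ⊓ N with hA
  have hAne : A ≠ ⊥ := fun h => by
    have := ha; rw [h, mem_bot] at this
    rw [this, orderOf_one] at hao
    exact (Fact.out : p.Prime).ne_one hao.symm
  have hNA : normalizer (A : Set G) ≤ H :=
    hHN A (inf_le_left.trans hPH) (P.isPGroup'.to_le inf_le_left) hAne
  have hMH : M ≤ H := by
    intro m hm
    set K := D ⊔ A with hK
    have hAK : A ≤ K := le_sup_right
    have hDp : IsPGroup p ↥A := P.isPGroup'.to_le inf_le_left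
    have hmemK : ∀ x ∈ A, m * x * m⁻¹ ∈ K := fun x hx => by
      have : m * x * m⁻¹ = (x * m * x⁻¹ * m⁻¹)⁻¹ * x := by group
      rw [this]
      exact mul_mem (inv_mem (mem_sup_left (hcomm x hx.2 m hm))) (mem_sup_right hx)
    have hidx : ¬ p ∣ (A.subgroupOf K).index := by
      intro hdvd
      haveI := hDn
      have h1 : Nat.card A * A.relIndex K = Nat.card K := CfsgLib.LocalEvenBasic.card_mul_relIndex_of_le _ _ hAK
      have h2 : Nat.card K ∣ Nat.card D * Nat.card A := by
        refine Dvd.intro (Nat.card ↥(D ⊓ A)) ?_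
        have e1 : Nat.card D * D.relIndex (A ⊔ D) = Nat.card ↥(A ⊔ D) := CfsgLib.LocalEvenBasic.card_mul_relIndex_of_le _ _ le_sup_right
        have e2 : Nat.card ↥(D ⊓ A) * D.relIndex A = Nat.card A := by
          rw [← inf_relIndex_right D A]; exact CfsgLib.LocalEvenBasic.card_mul_relIndex_of_le _ _ inf_le_right
        rw [relIndex_sup_right] at e1
        rw [hK, sup_comm D A, ← e1, ← e2]; ring
      rw [← h1, mul_comm (Nat.card D)] at h2
      exact hND (hdvd.trans (Nat.dvd_of_mul_dvd_mul_left Nat.card_pos h2))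
    let SA : Sylow p ↥K := (hDp.of_equiv (subgroupOfEquivOfLe hAK).symm).toSylow hidx
    have hmap : A.map (MulAut.conj m).toMonoidHom ≤ K := by
      rintro _ ⟨x, hx, rfl⟩; exact hmemK x hx
    obtain ⟨R, hR⟩ := ((hDp.map _).of_equiv (subgroupOfEquivOfLe hmap).symm).exists_le_sylow
    obtain ⟨k, hk⟩ := MulAction.exists_smul_eq ↥K SA R
    obtain ⟨c, hc, d, hd, hcd⟩ := (mem_sup_of_normal_right (s := A) (t := D)).mp
      (show (k : G) ∈ A ⊔ D by rw [sup_comm]; exact k.2)
    have hconj : ∀ x ∈ A, (k : G)⁻¹ * (m * x * m⁻¹) * k ∈ A := by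
      intro x hx
      have h1 : (⟨_, hmap ⟨x, hx, rfl⟩⟩ : ↥K) ∈ (R : Subgroup ↥K) := hR (mem_subgroupOf.mpr ⟨x, hx, rfl⟩)
      rw [← hk, Sylow.coe_subgroup_smul] at h1
      obtain ⟨s, hs, hsx⟩ := Subgroup.mem_map.mp h1
      have h2 : (k : G) * s * (k : G)⁻¹ = m * x * m⁻¹ := by
        simpa [MulAut.smul_def] using congrArg K.subtype hsx
      rw [← h2]
      simpa [mul_assoc] using mem_subgroupOf.mp hs
    have hn : (k : G)⁻¹ * m ∈ normalizer (A : Set G) := by
      have hle : A.map (MulAut.conj ((k : G)⁻¹ * m)).toMonoidHom ≤ A := by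
        rintro _ ⟨x, hx, rfl⟩
        simpa [mul_assoc] using hconj x hx
      have heq := eq_of_le_of_card_ge hle
        (Nat.card_congr (equivMapOfInjective A _ (MulAut.conj _).injective).toEquiv).le
      rw [mem_normalizer_iff]
      intro z
      refine ⟨fun hz => hle ⟨z, hz, rfl⟩, fun hz => ?_⟩
      obtain ⟨w, hw, hwz⟩ := Subgroup.mem_map.mp (heq.symm ▸ hz)
      exact (MulAut.conj _).injective hwz ▸ hw
    have hkH : (k : G) ∈ H := hcd ▸ mul_mem (hPH hc.1) (hDH hd)
    simpa using mul_mem hkH (hNA hn)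
  -- Frattini
  obtain ⟨Q, hQ⟩ := inf_sylow P M
  apply hH
  rw [eq_top_iff, ← Sylow.normalizer_sup_eq_top Q, hQ]
  refine sup_le (hHN _ (inf_le_left.trans hPH) (P.isPGroup'.to_le inf_le_left) fun h => ?_) hMH
  have := hb; rw [h, mem_bot] at this
  rw [this, orderOf_one] at hbo
  exact (Fact.out : p.Prime).ne_one hbo.symm

end Cfsg.Agent.S3058
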