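import Cfsg.Statements.S3059

import Mathlib

set_option autoImplicit false
open Cfsg

namespace Cfsg.Agent.S3059

open Subgroup

/-- Let p be a prime and H a strongly p-embedded subgroup of the finite group G in the classical sense: H is proper, p divides the order of H, and H ∩ gHg⁻¹ has order prime to p for every g outside H. Then for every normal subgroup N of G of order divisible by p, G = H · O^p(N), where O^p(N) is the subgroup generated by the elements of N of order prime to p. -/
theorem result {G : Type*} [Group G] [Finite G]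
    (p : ℕ) [Fact p.Prime] (H : Subgroup G) (hH : H ≠ ⊤) (hpH : p ∣ Nat.card H)
    (hse : ∀ g : G, g ∉ H → ¬ p ∣ Nat.card ↥(H ⊓ H.map (MulAut.conj g).toMonoidHom))
    (N : Subgroup G) [N.Normal] (hN : p ∣ Nat.card N) :
    H ⊔ Subgroup.closure {g : G | g ∈ N ∧ (orderOf g).Coprime p} = ⊤ := by
  set K := Subgroup.closure {g : G | g ∈ N ∧ (orderOf g).Coprime p} with hK
  have hKN : K ≤ N := (closure_le _).mpr fun g hg => hg.1
  have hKnorm : K.Normal := by
    constructor
    intro n hn g
    induction hn using closure_induction with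
    | mem x hx =>
      refine subset_closure ⟨Subgroup.Normal.conj_mem inferInstance x hx.1 g, ?_⟩
      have : orderOf (g * x * g⁻¹) = orderOf x := by
        simpa using orderOf_injective (MulAut.conj g).toMonoidHom (MulAut.conj g).injective x
      rw [this]; exact hx.2
    | one => simp
    | mul x y _ _ hx hy =>
      have : g * (x * y) * g⁻¹ = (g * x * g⁻¹) * (g * y * g⁻¹) := by group
      rw [this]; exact K.mul_mem hx hy
    | inv x _ hx =>
      have : g * x⁻¹ * g⁻¹ = (g * x * g⁻¹)⁻¹ := by group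
      rw [this]; exact K.inv_mem hx
  -- a Sylow p-subgroup of G inside H
  obtain ⟨PH⟩ : Nonempty (Sylow p ↥H) := inferInstance
  have hpPH : IsPGroup p ↥((PH : Subgroup ↥H).map H.subtype) :=
    PH.isPGroup'.map H.subtype
  obtain ⟨P, hP⟩ := hpPH.exists_le_sylow
  have hPHne : (PH : Subgroup ↥H).map H.subtype ≠ ⊥ := by
    intro h
    have h1 : (PH : Subgroup ↥H) = ⊥ := (map_eq_bot_iff_of_injective _ H.subtype_injective).mp h
    have h2 := PH.dvd_card_of_dvd_card hpH
    rw [h1, card_bot] at h2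
    exact (Fact.out : p.Prime).ne_one (Nat.dvd_one.mp h2)
  have hmem : ∀ g : G, ∀ R : Subgroup G, IsPGroup p ↥R → R ≠ ⊥ → R ≤ H →
      R ≤ H.map (MulAut.conj g).toMonoidHom → g ∈ H := by
    intro g R hR hR1 hRH hRg
    by_contra hg
    apply hse g hg
    have hdvd : p ∣ Nat.card R := by
      rcases hR.exists_card_eq with ⟨k, hk⟩
      rcases Nat.eq_zero_or_pos k with hk0 | hk0
      · exact absurd (Subgroup.card_eq_one.mp (by rw [hk, hk0, pow_zero])) hR1
      · rw [hk]; exact dvd_pow_self p hk0.ne'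
    exact hdvd.trans (card_dvd_of_le (le_inf hRH hRg))
  have hPH' : (P : Subgroup G) ≤ H := by
    by_contra hne
    have hlt : (PH : Subgroup ↥H).map H.subtype < (P : Subgroup G) :=
      lt_of_le_of_ne hP fun h => hne (h ▸ map_subtype_le _)
    obtain ⟨g, hg1, hg2⟩ : ∃ g ∈ (P : Subgroup G), g ∉ (PH : Subgroup ↥H).map H.subtype ∧
        ∀ y ∈ (PH : Subgroup ↥H).map H.subtype, g⁻¹ * y * g ∈ (PH : Subgroup ↥H).map H.subtype := by
      haveI : Group.IsNilpotent ↥(P : Subgroup G) := P.isPGroup'.isNilpotent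
      set R := ((PH : Subgroup ↥H).map H.subtype).subgroupOf (P : Subgroup G) with hR
      have hRlt : R < ⊤ := lt_top_iff_ne_top.mpr fun h => hlt.not_ge (subgroupOf_eq_top.mp h)
      obtain ⟨x, hx, hxn⟩ := SetLike.exists_of_lt (normalizerCondition_of_isNilpotent R hRlt)
      refine ⟨x, x.2, fun h => hxn (mem_subgroupOf.mpr h), fun y hy => ?_⟩
      have := (mem_normalizer_iff''.mp hx (⟨y, hP hy⟩ : ↥(P : Subgroup G))).mp (mem_subgroupOf.mpr hy)
      exact mem_subgroupOf.mp this
    apply hg2.1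
    have hgH : g ∈ H := hmem g _ hpPH hPHne (map_subtype_le _) fun y hy =>
      ⟨g⁻¹ * y * g, map_subtype_le _ (hg2.2 y hy), by simp [mul_assoc]⟩
    have : IsPGroup p ↥(((P : Subgroup G) ⊓ H).subgroupOf H) :=
      (P.isPGroup'.to_le inf_le_left).of_equiv (subgroupOfEquivOfLe inf_le_right).symm
    have h1 := PH.is_maximal' this (fun x hx =>
      mem_subgroupOf.mpr ⟨hP ⟨x, hx, rfl⟩, x.2⟩)
    exact ⟨⟨g, hgH⟩, h1 ▸ mem_subgroupOf.mpr ⟨hg1, hgH⟩, rfl⟩
  obtain ⟨Q, hQN⟩ : ∃ Q : Sylow p ↥N, (Q : Subgroup ↥N).map N.subtype = (P : Subgroup G) ⊓ N := by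
    have h0 : IsPGroup p ↥(((P : Subgroup G) ⊓ N).subgroupOf N) :=
      (P.isPGroup'.to_le inf_le_left).of_equiv (subgroupOfEquivOfLe inf_le_right).symm
    obtain ⟨Q, hQ⟩ := h0.exists_le_sylow
    refine ⟨Q, (eq_of_le_of_card_ge ?_ ?_).symm⟩
    · intro y hy
      exact ⟨⟨y, hy.2⟩, hQ (mem_subgroupOf.mpr hy), rfl⟩
    · obtain ⟨R, hR⟩ := (Q.isPGroup'.map N.subtype).exists_le_sylow
      obtain ⟨g, hg⟩ := MulAction.exists_smul_eq G P R
      have hRN : (R : Subgroup G) ⊓ N = ((P : Subgroup G) ⊓ N).map (MulAut.conj g).toMonoidHom := by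
        rw [map_inf _ _ _ (MulAut.conj g).injective, ← hg, Sylow.coe_subgroup_smul]
        congr 1
        ext y
        constructor
        · intro hy
          exact ⟨g⁻¹ * y * g, by simpa using Subgroup.Normal.conj_mem inferInstance y hy g⁻¹, by simp [mul_assoc]⟩
        · rintro ⟨z, hz, rfl⟩
          exact Subgroup.Normal.conj_mem inferInstance z hz g
      calc Nat.card ((Q : Subgroup ↥N).map N.subtype) ≤ Nat.card ↥((R : Subgroup G) ⊓ N) :=
            card_le_of_le (le_inf hR (map_subtype_le _))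
        _ = _ := by rw [hRN]; exact Nat.card_congr (equivMapOfInjective _ _ (MulAut.conj g).injective).symm.toEquiv
  set Q' := (Q : Subgroup ↥N).map N.subtype with hQ'
  have hQne : Q' ≠ ⊥ := by
    intro h
    have h1 : (Q : Subgroup ↥N) = ⊥ := (map_eq_bot_iff_of_injective _ N.subtype_injective).mp h
    have h2 := Q.dvd_card_of_dvd_card hN
    rw [h1, card_bot] at h2
    exact (Fact.out : p.Prime).ne_one (Nat.dvd_one.mp h2)
  have hQH : Q' ≤ H := hQN.le.trans (inf_le_left.trans hPH')
  have hNQ : normalizer (Q' : Set G) ≤ H := fun g hg =>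
    hmem g Q' (Q.isPGroup'.map _) hQne hQH fun y hy =>
      ⟨g⁻¹ * y * g, hQH ((mem_normalizer_iff''.mp hg y).mp hy), by simp [mul_assoc]⟩
  have hNle : N ≤ K ⊔ Q' := by
    haveI : (K.subgroupOf N).Normal := Subgroup.Normal.subgroupOf hKnorm N
    have h1 : IsPGroup p (↥N ⧸ K.subgroupOf N) := by
      intro q
      induction q using QuotientGroup.induction_on with
      | H x =>
        obtain ⟨k, m, hm, hcop⟩ : ∃ k m : ℕ, orderOf x = p ^ k * m ∧ m.Coprime p :=
          ⟨_, _, (Nat.ordProj_mul_ordCompl_eq_self (orderOf x) p).symm,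
            (Nat.coprime_ordCompl Fact.out (orderOf_pos x).ne').symm⟩
        refine ⟨k, ?_⟩
        rw [← QuotientGroup.mk_pow, QuotientGroup.eq_one_iff]
        refine mem_subgroupOf.mpr (subset_closure ⟨((x ^ p ^ k : ↥N)).2, ?_⟩)
        rw [Subgroup.orderOf_coe, orderOf_pow' x (pow_ne_zero _ (Fact.out : p.Prime).ne_zero), hm,
          Nat.gcd_comm, Nat.gcd_eq_left (dvd_mul_right _ _),
          Nat.mul_div_cancel_left _ (pow_pos (Fact.out : p.Prime).pos _)]
        exact hcop
    obtain ⟨j, hj⟩ := h1.exists_card_eq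
    have hle : (Q : Subgroup ↥N) ≤ (K ⊔ Q').subgroupOf N := fun y hy =>
      mem_subgroupOf.mpr (mem_sup_right ⟨y, hy, rfl⟩)
    have hd1 : ((K ⊔ Q').subgroupOf N).index ∣ (K.subgroupOf N).index :=
      index_dvd_of_le (fun y hy => mem_subgroupOf.mpr (mem_sup_left (mem_subgroupOf.mp hy)))
    have hd2 : ((K ⊔ Q').subgroupOf N).index ∣ (Q : Subgroup ↥N).index := index_dvd_of_le hle
    have hj' : (K.subgroupOf N).index = p ^ j := hj
    rw [hj'] at hd1
    obtain ⟨i, -, hi⟩ := (Nat.dvd_prime_pow Fact.out).mp hd1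
    have hi0 : i = 0 := by
      by_contra h
      exact Q.not_dvd_index ((dvd_pow_self p h).trans (hi ▸ hd2))
    exact subgroupOf_eq_top.mp (index_eq_one.mp (by rw [hi, hi0, pow_zero]))
  rw [eq_top_iff, ← Sylow.normalizer_sup_eq_top Q]
  exact sup_le (hNQ.trans le_sup_left) (hNle.trans (sup_le le_sup_right (hQH.trans le_sup_left)))

end Cfsg.Agent.S3059
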