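import Cfsg.Statements.S3060

import Cfsg.Agent.LocalEvenBasic.DStar

set_option autoImplicit false
open Cfsg

namespace Cfsg.Agent.S3060

open Subgroup CfsgLib.LocalEvenBasic
open scoped commutatorElement

/-- The D*-Theorem. For a finite p-group S let D*(S) be the subgroup generated by the abelian subgroups A of S such that every x ∈ S with ⟨A, x⟩ of nilpotency class at most two centralizes A. Let p be an odd prime and H a finite p-stable group with Sylow p-subgroup S. Here H is p-stable in the following sense: the largest normal p-subgroup O_p(H) contains its centralizer in H, and for every normal p-subgroup P of H, every element acting quadratically on P has image in O_p(H/C_H(P)). Then D*(S) is a normal subgroup of H. -/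
theorem result {G : Type*} [Group G] [Finite G] {p : ℕ} [Fact p.Prime] (hp : p ≠ 2)
    (hc : Subgroup.centralizer (Cfsg.pCore p G : Set G) ≤ Cfsg.pCore p G)
    (hst : ∀ (P : Subgroup G) [P.Normal], IsPGroup p P → Cfsg.IsPStableOn p P) (S : Sylow p G) :
    (Cfsg.dStarOf (S : Subgroup G)).Normal := by
  classical
  set D := Cfsg.dStarOf (S : Subgroup G) with hD
  set Q := Cfsg.pCore p G with hQ
  have hS0 : IsPGroup p ↥(S : Subgroup G) := S.isPGroup'
  set D0 := Cfsg.dStar ↥(S : Subgroup G) with hD0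
  have hD0fam : D0 ∈ Cfsg.dStarFamily ↥(S : Subgroup G) := dStar_mem_family hS0
  have hDS : D ≤ (S : Subgroup G) := map_subtype_le _
  have hDc : IsMulCommutative D := ⟨⟨fun a b => Subtype.ext (by
    obtain ⟨a', ha', hae⟩ := Subgroup.mem_map.mp a.2
    obtain ⟨b', hb', hbe⟩ := Subgroup.mem_map.mp b.2
    show (a : G) * b = b * a
    rw [← hae, ← hbe, ← map_mul, ← map_mul, commute_of_mem_isMulCommutative hD0fam.1 ha' hb'])⟩⟩
  have hDn : ∀ s ∈ (S : Subgroup G), ∀ d ∈ D, s * d * s⁻¹ ∈ D := by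
    intro s hs d hd
    obtain ⟨d', hd', rfl⟩ := Subgroup.mem_map.mp hd
    exact ⟨⟨s, hs⟩ * d' * ⟨s, hs⟩⁻¹, Subgroup.Normal.conj_mem inferInstance d' hd' _, rfl⟩
  have hcent : ∀ x ∈ (S : Subgroup G),
      (∀ d ∈ D, (∀ d' ∈ D, ⁅d, x⁆ * d' = d' * ⁅d, x⁆) ∧ ⁅d, x⁆ * x = x * ⁅d, x⁆) →
      ∀ d ∈ D, d * x = x * d := by
    intro x hx h d hd
    obtain ⟨d', hd', rfl⟩ := Subgroup.mem_map.mp hd
    have := hD0fam.2 ⟨x, hx⟩ (class_two_sup_zpowers hD0fam.1 fun a ha => ?_) d' hd'
    · exact congrArg Subtype.val this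
    · obtain ⟨h1, h2⟩ := h a ⟨a, ha, rfl⟩
      exact ⟨fun a' ha' => Subtype.ext (h1 a' ⟨a', ha', rfl⟩), Subtype.ext h2⟩
  -- basic facts on the core
  have hQn : Q.Normal := by
    refine ⟨fun n hn g => ?_⟩
    have hmap : Q ≤ Q.comap (MulAut.conj g).toMonoidHom := by
      rw [hQ, Cfsg.pCore]
      refine sSup_le fun N hN m hm => mem_comap.mpr (le_sSup hN ?_)
      exact hN.1.conj_mem m hm g
    exact hmap hn
  haveI := hQn
  have hQmax : ∀ N : Subgroup G, N.Normal → IsPGroup p N → N ≤ Q := fun N h1 h2 => le_sSup ⟨h1, h2⟩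
  have hQS : ∀ R : Sylow p G, Q ≤ (R : Subgroup G) := by
    intro R
    refine sSup_le fun N hN => ?_
    haveI := hN.1
    obtain ⟨R', hR'⟩ := hN.2.exists_le_sylow
    obtain ⟨g, rfl⟩ := MulAction.exists_smul_eq G R' R
    intro m hm
    rw [Sylow.coe_subgroup_smul]
    exact ⟨g⁻¹ * m * g, hR' (by simpa using hN.1.conj_mem m hm g⁻¹), by simp [mul_assoc]⟩
  have hQp : IsPGroup p Q := S.isPGroup'.to_le (hQS S)
  have hcore : ∀ (H : Type _) [Group H] [Finite H] (R : Sylow p H), Cfsg.pCore p H ≤ (R : Subgroup H) := by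
    intro H _ _ R
    refine sSup_le fun N hN => ?_
    obtain ⟨R', hR'⟩ := hN.2.exists_le_sylow
    obtain ⟨g, rfl⟩ := MulAction.exists_smul_eq H R' R
    intro m hm
    rw [Sylow.coe_subgroup_smul]
    exact ⟨g⁻¹ * m * g, hR' (by simpa using hN.1.conj_mem m hm g⁻¹), by simp [mul_assoc]⟩
  have hquad : ∀ (P : Subgroup G) (a : G), (∀ u ∈ P, ⁅⁅u, a⁆, a⁆ = 1) →
      (∀ u ∈ P, ⁅u, a⁆ ∈ P) → ⁅⁅P, zpowers a⁆, zpowers a⁆ = ⊥ := by
    intro P a h hP
    have hfix : ∀ u ∈ P, ∀ n : ℤ, ⁅u, a⁆ * a ^ n = a ^ n * ⁅u, a⁆ := fun u hu n =>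
      ((commutatorElement_eq_one_iff_commute.mp (h u hu)).zpow_right n).eq
    have hpow : ∀ u ∈ P, ∀ n : ℕ, ⁅u, a ^ n⁆ = ⁅u, a⁆ ^ n := by
      intro u hu n
      induction n with
      | zero => simp
      | succ n ih =>
        have : ⁅u, a ^ (n + 1)⁆ = ⁅u, a⁆ * (a * ⁅u, a ^ n⁆ * a⁻¹) := by
          simp only [commutatorElement_def, pow_succ']; group
        rw [this, ih, ← conj_pow, show a * ⁅u, a⁆ * a⁻¹ = ⁅u, a⁆ by
          have := hfix u hu 1
          rw [zpow_one] at this
          rw [← this]; group, pow_succ']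
    have hle : ⁅P, zpowers a⁆ ≤ Subgroup.centralizer (zpowers a : Set G) := by
      rw [commutator_le]
      intro u hu b hb
      obtain ⟨n, rfl⟩ := (mem_powers_iff_mem_zpowers (x := a)).mpr hb
      exact mem_centralizer_iff.mpr fun c hc => by
        obtain ⟨m, rfl⟩ := mem_zpowers_iff.mp hc
        rw [hpow u hu n]
        exact ((Commute.zpow_right (show Commute ⁅u, a⁆ a from
          commutatorElement_eq_one_iff_commute.mp (h u hu)) m).pow_left n).eq.symm
    exact commutator_eq_bot_iff_le_centralizer.mpr hle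
  -- Step 1: D lies in the core
  have hDQ : D ≤ Q := by
    intro d hd
    have h1 : ∀ u ∈ Q, ⁅u, d⁆ ∈ Q ⊓ D := by
      intro u hu
      refine ⟨?_, ?_⟩
      · have : ⁅u, d⁆ = u * (d * u⁻¹ * d⁻¹) := by simp only [commutatorElement_def]; group
        rw [this]; exact Q.mul_mem hu (hQn.conj_mem _ (Q.inv_mem hu) d)
      · have : ⁅u, d⁆ = (u * d * u⁻¹) * d⁻¹ := rfl
        rw [this]; exact D.mul_mem (hDn u (hQS S hu) d hd) (D.inv_mem hd)
    have h2 := hst Q hQp d (hquad Q d (fun u hu => commutatorElement_eq_one_iff_commute.mpr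
      (commute_of_mem_isMulCommutative hDc (h1 u hu).2 hd)) (fun u hu => (h1 u hu).1))
    set K := (Cfsg.pCore p (G ⧸ Subgroup.centralizer (Q : Set G))).comap
      (QuotientGroup.mk' (Subgroup.centralizer (Q : Set G))) with hK
    have hKn : K.Normal := by
      refine Subgroup.Normal.comap ⟨fun n hn g => ?_⟩ _
      have hmap : Cfsg.pCore p (G ⧸ Subgroup.centralizer (Q : Set G)) ≤
          (Cfsg.pCore p (G ⧸ Subgroup.centralizer (Q : Set G))).comap (MulAut.conj g).toMonoidHom :=
        sSup_le fun N hN m hm => mem_comap.mpr (le_sSup hN (hN.1.conj_mem m hm g))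
      exact hmap hn
    have hKp : IsPGroup p K := by
      obtain ⟨R⟩ : Nonempty (Sylow p (G ⧸ Subgroup.centralizer (Q : Set G))) := inferInstance
      refine IsPGroup.comap_of_ker_isPGroup (R.isPGroup'.to_le (hcore _ R)) _ ?_
      rw [QuotientGroup.ker_mk']
      exact hQp.to_le hc
    exact hQmax K hKn hKp (mem_comap.mpr h2)
  -- Step 2: the normal closure of D is abelian
  set W := Subgroup.normalClosure (D : Set G) with hW
  have hWQ : W ≤ Q := normalClosure_le_normal hDQ
  have hDconj : ∀ g : G, ∀ d ∈ D, ∀ e ∈ D, d * (g * e * g⁻¹) = (g * e * g⁻¹) * d := by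
    intro g d hd e he
    refine (hcent (g * e * g⁻¹) ?_ ?_ d hd)
    · exact hQS S (hQn.conj_mem e (hDQ he) g)
    intro c hc
    have hc1 : ⁅c, g * e * g⁻¹⁆ ∈ D := by
      have : ⁅c, g * e * g⁻¹⁆ = c * ((g * e * g⁻¹) * c⁻¹ * (g * e * g⁻¹)⁻¹) := by
        simp only [commutatorElement_def]; group
      rw [this]
      exact D.mul_mem hc (hDn _ (hQS S (hQn.conj_mem e (hDQ he) g)) _ (D.inv_mem hc))
    have hc2 : g⁻¹ * ⁅c, g * e * g⁻¹⁆ * g ∈ D := by
      have : g⁻¹ * ⁅c, g * e * g⁻¹⁆ * g = ((g⁻¹ * c * g) * e * (g⁻¹ * c * g)⁻¹) * e⁻¹ := by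
        simp only [commutatorElement_def]; group
      rw [this]
      refine D.mul_mem (hDn _ ?_ e he) (D.inv_mem he)
      exact hQS S (by simpa using hQn.conj_mem c (hDQ hc) g⁻¹)
    refine ⟨fun d' hd' => commute_of_mem_isMulCommutative hDc hc1 hd', ?_⟩
    have := congrArg (fun t => g * t * g⁻¹) (commute_of_mem_isMulCommutative hDc hc2 he)
    simpa [mul_assoc] using this
  have hWc : IsMulCommutative W := by
    refine Subgroup.isMulCommutative_closure ?_
    intro a ha b hb
    obtain ⟨d, hd, hda⟩ := Group.mem_conjugatesOfSet_iff.mp ha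
    obtain ⟨g, rfl⟩ := isConj_iff.mp hda
    obtain ⟨e, he, heb⟩ := Group.mem_conjugatesOfSet_iff.mp hb
    obtain ⟨k, rfl⟩ := isConj_iff.mp heb
    have := congrArg (fun t => g * t * g⁻¹) (hDconj (g⁻¹ * k) d hd e he)
    simpa [mul_assoc] using this
  have hWp : IsPGroup p W := hQp.to_le hWQ
  -- Step 3: W = D
  set W0 := W.subgroupOf (S : Subgroup G) with hW0
  have hW0fam : W0 ∈ Cfsg.dStarFamily ↥(S : Subgroup G) := by
    refine ⟨⟨⟨fun a b => Subtype.ext (Subtype.ext
      (commute_of_mem_isMulCommutative hWc (mem_subgroupOf.mp a.2) (mem_subgroupOf.mp b.2)))⟩⟩, ?_⟩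
    intro x hx w hw
    have hle := commutator_eq_bot_iff_le_centralizer.mp hx
    have hWS : W ≤ (S : Subgroup G) := hWQ.trans (hQS S)
    have hq : ∀ u ∈ W, ⁅⁅u, (x : G)⁆, (x : G)⁆ = 1 := by
      intro u hu
      have := hle (commutator_mem_commutator (mem_sup_left (mem_subgroupOf.mpr (show ((⟨u, hWS hu⟩ : ↥(S : Subgroup G)) : G) ∈ W from hu)))
        (mem_sup_right (mem_zpowers x)))
      exact commutatorElement_eq_one_iff_commute.mpr
        (congrArg Subtype.val (mem_centralizer_iff.mp this x (mem_sup_right (mem_zpowers x)))).symm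
    have hWin : ∀ u ∈ W, ∀ y : G, ⁅u, y⁆ ∈ W := fun u hu y => by
      have : ⁅u, y⁆ = u * (y * u⁻¹ * y⁻¹) := by simp only [commutatorElement_def]; group
      rw [this]; exact W.mul_mem hu (normalClosure_normal.conj_mem _ (W.inv_mem hu) y)
    have h2 := hst W hWp (x : G) (hquad W x hq fun u hu => hWin u hu x)
    set C := Subgroup.centralizer (W : Set G) with hC
    set K := (Cfsg.pCore p (G ⧸ C)).comap (QuotientGroup.mk' C) with hK
    have hKdec : ∀ k ∈ K, ∃ s ∈ (S : Subgroup G), k * s⁻¹ ∈ C := by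
      intro k hk
      have hmap := hcore (G ⧸ C) (S.mapSurjective (QuotientGroup.mk'_surjective C))
      obtain ⟨s, hs, hsk⟩ := hmap (mem_comap.mp hk)
      refine ⟨s, hs, ?_⟩
      rw [← QuotientGroup.eq_one_iff]
      show QuotientGroup.mk' C (k * s⁻¹) = 1
      rw [map_mul, map_inv, hsk, mul_inv_cancel]
    have hmain : ∀ g : G, ∀ d ∈ D, d * (g * x * g⁻¹) = (g * x * g⁻¹) * d := by
      intro g d hd
      have hgx : g * (x : G) * g⁻¹ ∈ K := by
        refine (Subgroup.Normal.comap ⟨fun n hn g => ?_⟩ (QuotientGroup.mk' C)).conj_mem _ (mem_comap.mpr h2) g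
        have hmap : Cfsg.pCore p (G ⧸ C) ≤ (Cfsg.pCore p (G ⧸ C)).comap (MulAut.conj g).toMonoidHom :=
          sSup_le fun N hN m hm => mem_comap.mpr (le_sSup hN (hN.1.conj_mem m hm g))
        exact hmap hn
      obtain ⟨s, hs, hsC⟩ := hKdec _ hgx
      set y := g * (x : G) * g⁻¹ with hy
      have hsame : ∀ u ∈ W, s * u * s⁻¹ = y * u * y⁻¹ := by
        intro u hu
        have h3 : s * u * s⁻¹ ∈ W := normalClosure_normal.conj_mem u hu s
        have := mem_centralizer_iff.mp hsC _ h3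
        calc s * u * s⁻¹ = (s * u * s⁻¹) * (y * s⁻¹) * (y * s⁻¹)⁻¹ := by group
          _ = (y * s⁻¹) * (s * u * s⁻¹) * (y * s⁻¹)⁻¹ := by rw [this]
          _ = y * u * y⁻¹ := by group
      have hds : d * s = s * d := by
        refine hcent s hs (fun c hc => ?_) d hd
        have hcW : c ∈ W := subset_normalClosure hc
        refine ⟨fun d' hd' => commute_of_mem_isMulCommutative hWc (hWin c hcW s) (subset_normalClosure hd'), ?_⟩
        have e1 : ⁅c, s⁆ = ⁅c, y⁆ := by
          rw [show ⁅c, s⁆ = c * (s * c⁻¹ * s⁻¹) by simp only [commutatorElement_def]; group,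
            hsame _ (W.inv_mem hcW)]
          simp only [commutatorElement_def]; group
        have e2 : y * ⁅c, y⁆ * y⁻¹ = ⁅c, y⁆ := by
          have hu : g⁻¹ * c * g ∈ W := by simpa using normalClosure_normal.conj_mem c hcW g⁻¹
          have h4 := commutatorElement_eq_one_iff_commute.mp (hq _ hu)
          have h5 := congrArg (fun t => g * t * g⁻¹) h4.eq
          have e3 : g * ⁅g⁻¹ * c * g, (x : G)⁆ * g⁻¹ = ⁅c, y⁆ := by
            simp only [commutatorElement_def, hy]; group
          have e4 : ⁅c, y⁆ * y = y * ⁅c, y⁆ := by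
            rw [← e3, hy]
            simpa [mul_assoc] using h5
          rw [← e4, mul_inv_cancel_right]
        have e5 : s * ⁅c, y⁆ * s⁻¹ = ⁅c, y⁆ := by rw [hsame _ (hWin c hcW y), e2]
        rw [e1]
        exact (mul_inv_eq_iff_eq_mul.mp e5).symm
      have h6 := hsame d (subset_normalClosure hd)
      rw [← hds, mul_inv_cancel_right] at h6
      exact (mul_inv_eq_iff_eq_mul.mp h6.symm).symm
    have hall : W ≤ Subgroup.centralizer {(x : G)} := by
      refine (closure_le _).mpr fun u hu => ?_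
      obtain ⟨d, hd, hdu⟩ := Group.mem_conjugatesOfSet_iff.mp hu
      obtain ⟨g, rfl⟩ := isConj_iff.mp hdu
      refine mem_centralizer_iff.mpr fun z hz => ?_
      rw [Set.mem_singleton_iff.mp hz]
      have := congrArg (fun t => g * t * g⁻¹) (hmain g⁻¹ d hd)
      simp only [inv_inv] at this
      simpa [mul_assoc] using this.symm
    exact Subtype.ext ((mem_centralizer_iff.mp (hall (mem_subgroupOf.mp hw)) (x : G) rfl).symm)
  have hWD : W ≤ D := fun w hw =>
    ⟨⟨w, hQS S (hWQ hw)⟩, le_sSup hW0fam (mem_subgroupOf.mpr hw), rfl⟩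
  have heq : D = W := le_antisymm (fun x hx => subset_normalClosure hx) hWD
  rw [heq]
  exact normalClosure_normal

end Cfsg.Agent.S3060
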