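import Cfsg.Statements.S3062

import Cfsg.Agent.LocalEvenBasic.DStar

set_option autoImplicit false
open Cfsg

namespace Cfsg.Agent.S3062

open Subgroup CfsgLib.LocalEvenBasic

/-- Let S be a finite p-group, J(S) the subgroup generated by the abelian subgroups of S of largest order and Z(J(S)) its centre. Then Z(S) ≤ D*(S) ≤ Z(J(S)), and every maximal normal abelian subgroup of S contains D*(S). -/
theorem result {S : Type*} [Group S] [Finite S] {p : ℕ} [Fact p.Prime]
    (hS : IsPGroup p S) :
    Subgroup.center S ≤ Cfsg.dStar S ∧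
    Cfsg.dStar S ≤ Cfsg.thompsonSubgroupA S ⊓ Subgroup.centralizer (Cfsg.thompsonSubgroupA S : Set S) ∧
    ∀ A : Subgroup S, A.Normal → IsMulCommutative A →
      (∀ B : Subgroup S, B.Normal → IsMulCommutative B → A ≤ B → B = A) → Cfsg.dStar S ≤ A := by
  refine ⟨center_le_dStar, le_inf ?_ ?_, fun A hAn hAc hA => ?_⟩
  · obtain ⟨B, hB, hBmax⟩ := Set.Finite.exists_maximalFor (fun B : Subgroup S => Nat.card B)
      {B : Subgroup S | IsMulCommutative B} (Set.toFinite _)
      ⟨⊥, (inferInstance : IsMulCommutative (⊥ : Subgroup S))⟩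
    have hmax : ∀ C : Subgroup S, IsMulCommutative C → Nat.card C ≤ Nat.card B := fun C hC => by
      by_contra h
      exact h (hBmax hC (le_of_lt (not_le.mp h)))
    exact (dStar_le_maxAbelian hS hB hmax).trans (le_sSup ⟨hB, hmax⟩)
  · rw [le_centralizer_iff, Cfsg.thompsonSubgroupA]
    refine sSup_le fun B hB b hb => mem_centralizer_iff.mpr fun d hd => ?_
    exact commute_of_mem_isMulCommutative hB.1 (dStar_le_maxAbelian hS hB.1 hB.2 hd) hb
  · haveI := hAn
    exact dStar_le_maximal_normal_abelian hS hAc hA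

end Cfsg.Agent.S3062
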