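import Cfsg.Statements.S3063

import Cfsg.Agent.LocalEvenBasic.Replacement

set_option autoImplicit false
open Cfsg

namespace Cfsg.Agent.S3063

open Subgroup CfsgLib.LocalEvenBasic

/-- A weak replacement Theorem for metabelian p-groups: let S be a finite p-group whose derived subgroup is abelian and A an abelian subgroup of S of largest possible order. Then the normal closure of A in S contains an abelian subgroup B of the same order as A that is normal in S. -/
theorem result {S : Type*} [Group S] [Finite S] {p : ℕ} [Fact p.Prime]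
    (hS : IsPGroup p S) (hmeta : IsMulCommutative ↥(commutator S))
    (A : Subgroup S) (hA : A ∈ Cfsg.maxAbelianSubgroups S) :
    ∃ B ∈ Cfsg.maxAbelianSubgroups S, B.Normal ∧ B ≤ Subgroup.normalClosure (A : Set S) := by
  set D := commutator S with hD
  set W := Subgroup.normalClosure (A : Set S) with hW
  obtain ⟨E, ⟨B, hB, hBE⟩, hEmax⟩ := Set.Finite.exists_maximal
    (s := (fun C => C ⊓ D) '' {C : Subgroup S | C ∈ Cfsg.maxAbelianSubgroups S ∧ C ≤ W})
    (Set.toFinite _) ⟨_, A, ⟨hA, subset_normalClosure⟩, rfl⟩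
  obtain ⟨⟨hBc, hBmax⟩, hBW⟩ := hB
  refine ⟨B, ⟨hBc, hBmax⟩, ?_, hBW⟩
  by_contra hn
  obtain ⟨x, hx⟩ : ∃ x : S, ¬ ∀ b ∈ B, x * b * x⁻¹ ∈ B := by
    by_contra h
    push Not at h
    exact hn ⟨fun b hb g => h g b hb⟩
  have hcom : ∀ b ∈ B, b * x * b⁻¹ * x⁻¹ ∈ D := fun b _ =>
    commutator_mem_commutator (mem_top b) (mem_top x)
  have hBD : B ≤ Subgroup.normalizer (D : Set S) := by rw [normalizer_eq_top]; exact le_top
  have hc := replaceAt_isMulCommutative hBc hmeta hcom
  have hmem : replaceAt B x ∈ Cfsg.maxAbelianSubgroups S :=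
    ⟨hc, fun C hC => (hBmax C hC).trans (card_le_replaceAt hBc hmeta hBD hcom)⟩
  have hW' : replaceAt B x ≤ W := by
    refine sup_le (commWith_le fun b hb => ?_) (inf_le_left.trans hBW)
    have : b * x * b⁻¹ * x⁻¹ = b * (x * b⁻¹ * x⁻¹) := by group
    rw [this]
    exact mul_mem (hBW hb) (normalClosure_normal.conj_mem _ (inv_mem (hBW hb)) x)
  have hlt := inf_lt_replaceAt_inf hmeta hcom hx hBc
  have h1 := hEmax ⟨_, ⟨hmem, hW'⟩, rfl⟩ (hBE ▸ hlt.le)
  exact hlt.not_ge (h1.trans hBE.ge)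

end Cfsg.Agent.S3063
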