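import Cfsg.Statements.S3064

import Cfsg.Agent.Characters.FrobeniusKernel
import Cfsg.Agent.LocalEvenBasic.DecidingSubgroup

set_option autoImplicit false
open Cfsg

namespace Cfsg.Agent.S3064

open Subgroup

universe u

theorem eq_one_of_mem_of_coprime {G : Type*} [Group G] [Finite G] {p : ℕ} [Fact p.Prime]
    {z : G} (hz : ∃ k, orderOf z ∣ p ^ k) {Z : Subgroup G} (hzZ : z ∈ Z)
    (hZ : (Nat.card Z).Coprime p) : z = 1 := by
  obtain ⟨k, hk⟩ := hz
  exact orderOf_eq_one_iff.1 (Nat.eq_one_of_dvd_coprimes (hZ.pow_right k)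
    (orderOf_dvd_natCard Z hzZ) hk)

theorem main (p : ℕ) [Fact p.Prime] : ∀ (n : ℕ) (G : Type u) [Group G] [Finite G], Nat.card G = n →
    ∀ (S : Sylow p G) (x : G), x ∈ S → (∀ g : G, g⁻¹ * x * g ∈ S → g⁻¹ * x * g = x) →
    (∀ H : Subgroup G, (Nat.card H).Coprime p → (∀ h ∈ H, x * h * x⁻¹ ∈ H) → ∀ h ∈ H, x * h = h * x) →
    x ∈ center G := by
  intro n
  induction n using Nat.strongRecOn with
  | ind n ih =>
  intro G _ _ hn S x hx hU hb
  subst hn
  by_contra hxc
  set C := centralizer ({x} : Set G) with hC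
  have hSC : (S : Subgroup G) ≤ C := fun s hs => by
    rw [hC, mem_centralizer_singleton_iff]
    have h1 := hU s⁻¹ (by
      rw [inv_inv]; exact mul_mem (mul_mem hs hx) (inv_mem hs))
    rw [inv_inv] at h1
    exact mul_inv_eq_iff_eq_mul.1 h1
  have hCtop : C ≠ ⊤ := fun h => hxc (mem_center_iff.2 fun g =>
    mem_centralizer_singleton_iff.1 (h.symm ▸ mem_top g : g ∈ C))
  obtain ⟨a, ha⟩ := S.isPGroup' ⟨x, hx⟩
  have hxp : orderOf x ∣ p ^ a := orderOf_dvd_of_pow_eq_one (congrArg Subtype.val ha)
  -- proper subgroups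
  have hproper : ∀ H : Subgroup G, x ∈ H → H ≠ ⊤ → H ≤ C := by
    intro H hxH hH
    have hp0 : IsPGroup p ↥(zpowers (⟨x, hxH⟩ : H)) := by
      refine IsPGroup.iff_orderOf.2 fun y => ?_
      obtain ⟨j, -, hj⟩ := (Nat.dvd_prime_pow Fact.out).1 (dvd_trans
        ((orderOf_coe y).symm.dvd.trans (orderOf_dvd_natCard _ y.2) |>.trans (Nat.card_zpowers _).dvd)
        ((Subgroup.orderOf_mk x hxH).dvd.trans hxp))
      exact ⟨j, hj⟩
    obtain ⟨T, hT⟩ := hp0.exists_le_sylow
    have hxT : (⟨x, hxH⟩ : H) ∈ T := hT (mem_zpowers _)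
    obtain ⟨S', hS'⟩ := (T.isPGroup'.map H.subtype).exists_le_sylow
    obtain ⟨g, hg⟩ := MulAction.exists_smul_eq G S S'
    have hmem : ∀ y : G, y ∈ S' → g⁻¹ * y * g ∈ S := by
      intro y hy
      rw [← hg] at hy
      have hy' : y ∈ ((g • S : Sylow p G) : Subgroup G) := hy
      rw [Sylow.coe_subgroup_smul, mem_pointwise_smul_iff_inv_smul_mem, ← map_inv] at hy'
      exact (show g⁻¹ * y * g ∈ (S : Subgroup G) by simpa using hy')
    have hxS' : x ∈ S' := hS' ⟨_, hxT, rfl⟩
    have hgx : g⁻¹ * x * g = x := hU g (hmem x hxS')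
    have hlt : Nat.card H < Nat.card G := lt_of_le_of_ne (card_le_card_group H)
      fun h => hH ((card_eq_iff_eq_top H).1 h)
    have hcen := ih _ hlt H rfl T ⟨x, hxH⟩ hxT (fun h hh => Subtype.ext (by
        have h1 : (h : G)⁻¹ * x * h ∈ S' := hS' ⟨_, hh, rfl⟩
        have h2 := hmem _ h1
        have h3 := hU ((h : G) * g) (by
          have e : ((h : G) * g)⁻¹ * x * (h * g) = g⁻¹ * ((h : G)⁻¹ * x * h) * g := by group
          rw [e]; exact h2)
        show (h : G)⁻¹ * x * h = x
        calc (h : G)⁻¹ * x * h = g * (((h : G) * g)⁻¹ * x * (h * g)) * g⁻¹ := by group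
          _ = g * x * g⁻¹ := by rw [h3]
          _ = x := by nth_rewrite 1 [← hgx]; group))
      fun K hK hKn k hk => Subtype.ext (hb (K.map H.subtype)
        (by rwa [card_map_of_injective H.subtype_injective])
        (by rintro _ ⟨k', hk', rfl⟩; exact ⟨_, hKn k' hk', rfl⟩) k ⟨k, hk, rfl⟩)
    intro h hh
    rw [hC, mem_centralizer_singleton_iff]
    exact congrArg Subtype.val (mem_center_iff.1 hcen ⟨h, hh⟩)
  -- the centre is trivial
  have hZ : center G = ⊥ := by
    by_contra hne
    obtain ⟨r, hr, hrd⟩ := Nat.exists_prime_and_dvd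
      (fun h => hne (card_eq_one.1 h) : Nat.card (center G) ≠ 1)
    haveI := Fact.mk hr
    obtain ⟨z, hz⟩ := exists_prime_orderOf_dvd_card' r hrd
    set Z := zpowers (z : G) with hZdef
    have hZc : Z ≤ center G := zpowers_le.2 z.2
    haveI : Z.Normal := ⟨fun y hy g => by
      rw [mem_center_iff.1 (hZc hy) g, mul_inv_cancel_right]; exact hy⟩
    have hZcard : Nat.card Z = r := by rw [hZdef, Nat.card_zpowers, orderOf_coe, hz]
    have hlt : Nat.card (G ⧸ Z) < Nat.card G := by
      rw [← index_eq_card, ← card_mul_index Z]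
      exact lt_mul_of_one_lt_left (Nat.pos_of_ne_zero index_ne_zero_of_finite)
        (hZcard ▸ hr.one_lt)
    set f := QuotientGroup.mk' Z with hf
    have hlift : ∀ g : G, f (g⁻¹ * x * g) ∈ (S : Subgroup G).map f → g⁻¹ * x * g = x := by
      rintro g ⟨s, hs, hsg⟩
      refine hU g ?_
      have hz0 : s⁻¹ * (g⁻¹ * x * g) ∈ Z := QuotientGroup.eq.1 hsg
      by_cases hrp : r = p
      · have hZS : Z ≤ (S : Subgroup G) := by
          obtain ⟨Q, hQ⟩ := (IsPGroup.of_card (p := p) (n := 1) (G := Z)
            (by rw [pow_one, hZcard, hrp])).exists_le_sylow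
          obtain ⟨c, hc⟩ := MulAction.exists_smul_eq G Q S
          intro y hy
          show y ∈ ((S : Sylow p G) : Subgroup G)
          rw [← hc, Sylow.coe_subgroup_smul, mem_pointwise_smul_iff_inv_smul_mem, ← map_inv]
          show c⁻¹ * y * c⁻¹⁻¹ ∈ (Q : Subgroup G)
          rw [mem_center_iff.1 (hZc hy) c⁻¹, mul_inv_cancel_right]
          exact hQ hy
        have := mul_mem (show s ∈ (S : Subgroup G) from hs) (hZS hz0)
        rwa [mul_inv_cancel_left] at this
      · have h1 : s⁻¹ * (g⁻¹ * x * g) = 1 := by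
          refine eq_one_of_mem_of_coprime (p := p) ?_ hz0
            (hZcard ▸ (Nat.coprime_primes hr Fact.out).2 hrp)
          obtain ⟨k, hk⟩ := S.isPGroup' ⟨s, hs⟩
          have hcomm : Commute s (s⁻¹ * (g⁻¹ * x * g)) := (mem_center_iff.1 (hZc hz0) s)
          refine ⟨a + k, orderOf_dvd_of_pow_eq_one ?_⟩
          have h2 : (g⁻¹ * x * g) ^ p ^ (a + k) = 1 := by
            rw [show g⁻¹ * x * g = g⁻¹ * x * g⁻¹⁻¹ by rw [inv_inv], conj_pow,
              orderOf_dvd_iff_pow_eq_one.1 (hxp.trans (pow_dvd_pow p (Nat.le_add_right a k)))]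
            simp
          have h3 : s ^ p ^ (a + k) = 1 := orderOf_dvd_iff_pow_eq_one.1
            ((orderOf_dvd_of_pow_eq_one (congrArg Subtype.val hk)).trans
              (pow_dvd_pow p (Nat.le_add_left k a)))
          have h4 := hcomm.mul_pow (p ^ (a + k))
          rw [mul_inv_cancel_left, h2, h3, one_mul] at h4
          exact h4.symm
        rw [inv_mul_eq_one] at h1
        exact h1 ▸ hs
    have hbq : ∀ K : Subgroup (G ⧸ Z), (Nat.card K).Coprime p → (∀ k ∈ K, f x * k * (f x)⁻¹ ∈ K) →
        ∀ k ∈ K, f x * k = k * f x := by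
      intro K hK hKn k hk
      obtain ⟨h, rfl⟩ := QuotientGroup.mk'_surjective Z k
      set M := K.comap f with hM
      set R := (Cfsg.pResidual p M).map M.subtype with hR
      have hRcop : (Nat.card R).Coprime p := by
        rw [hR, card_map_of_injective M.subtype_injective, Nat.coprime_comm,
          (Fact.out : p.Prime).coprime_iff_not_dvd]
        refine CfsgLib.Transfer.hasNormalPComplement_iff.1 ?_
        haveI : (Z.subgroupOf M).Normal := inferInstance
        have hcM : Z.subgroupOf M ≤ center M := fun z hz => mem_center_iff.2 fun m =>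
          Subtype.ext (mem_center_iff.1 (hZc hz) m)
        have hqc : Nat.card (M ⧸ Z.subgroupOf M) = Nat.card K := by
          rw [← index_eq_card, ← relIndex]
          have h2 := relIndex_ker (K := M) f
          rw [hM, map_comap_eq_self_of_surjective (QuotientGroup.mk'_surjective Z), ← hM, hf,
            QuotientGroup.ker_mk'] at h2
          exact h2
        have hq : ¬ p ∣ Nat.card (M ⧸ Z.subgroupOf M) := by
          rw [hqc]
          exact (Fact.out : p.Prime).coprime_iff_not_dvd.1 hK.symm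
        by_cases hrp : r = p
        · exact CfsgLib.LocalEvenBasic.hasNormalPComplement_of_central_pgroup (Z.subgroupOf M)
            ((IsPGroup.of_card (p := p) (n := 1) (G := Z) (by rw [pow_one, hZcard, hrp])).comap_subtype)
            hcM (CfsgLib.Transfer.hasNormalPComplement_of_not_dvd_card hq)
        · refine CfsgLib.Transfer.hasNormalPComplement_of_quotient (Z.subgroupOf M) ?_
            (CfsgLib.Transfer.hasNormalPComplement_of_not_dvd_card hq)
          intro hd
          rw [Nat.card_congr (subgroupOfEquivOfLe (show Z ≤ M from fun z hz => by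
            rw [hM, mem_comap, hf, QuotientGroup.mk'_apply, (QuotientGroup.eq_one_iff z).2 hz]
            exact one_mem _)).toEquiv, hZcard] at hd
          exact hrp ((Nat.prime_dvd_prime_iff_eq Fact.out hr).1 hd).symm
      obtain ⟨y, hy, hym, hyk⟩ := CfsgLib.LocalEvenBasic.exists_lift_coprime (p := p) f h
        (Nat.Coprime.coprime_dvd_left (orderOf_dvd_natCard K hk) hK)
      have hyM : y ∈ M := (zpowers_le.2 (show h ∈ M from hk)) hym
      have hyR : y ∈ R := ⟨⟨y, hyM⟩, CfsgLib.Transfer.mem_pResidual_of_coprime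
        (by rwa [Subgroup.orderOf_mk]), rfl⟩
      have hnorm : R ≤ R.comap (MulAut.conj x).toMonoidHom := by
        rw [hR, Cfsg.pResidual, MonoidHom.map_closure, closure_le]
        rintro _ ⟨m, hm, rfl⟩
        have hxm : x * (m : G) * x⁻¹ ∈ M := by
          show x * (m : G) * x⁻¹ ∈ K.comap f
          rw [mem_comap, map_mul, map_mul, map_inv]
          exact hKn _ (show (m : G) ∈ K.comap f from m.2)
        refine subset_closure ⟨⟨_, hxm⟩, ?_, rfl⟩
        show (orderOf _).Coprime p
        rw [Subgroup.orderOf_mk, ← MulAut.conj_apply, MulEquiv.orderOf_eq, orderOf_coe]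
        exact hm
      have hcomm : f x * f y = f y * f x := by
        rw [← map_mul, ← map_mul, hb R hRcop (fun _ hr' => hnorm hr') y hyR]
      obtain ⟨j, hj⟩ := mem_zpowers_iff.1 hyk
      rw [← hj]
      exact (show Commute (f x) (f y) from hcomm).zpow_right j
    have hq := ih _ hlt (G ⧸ Z) rfl (S.mapSurjective (QuotientGroup.mk'_surjective Z)) (f x)
      (mem_map_of_mem f hx) (fun gb hgb => by
        obtain ⟨g, rfl⟩ := QuotientGroup.mk'_surjective Z gb
        rw [← map_inv, ← map_mul, ← map_mul] at hgb ⊢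
        rw [hlift g hgb]) hbq
    refine hxc (mem_center_iff.2 fun g => ?_)
    have h1 : f (g⁻¹ * x * g) = f x := by
      have h2 := mem_center_iff.1 hq (f g)
      rw [map_mul, map_mul, map_inv, mul_assoc, ← h2, ← mul_assoc, inv_mul_cancel, one_mul]
    have h3 := hlift g (h1 ▸ mem_map_of_mem f hx)
    calc g * x = g * (g⁻¹ * x * g) := by rw [h3]
      _ = x * g := by group
  -- the centraliser is malnormal
  have hmal : ∀ g : G, g ∉ C → ∀ y ∈ C, g * y * g⁻¹ ∈ C → y = 1 := by
    intro g hg y hy hyg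
    set x' := g⁻¹ * x * g with hx'
    have hgen : zpowers x ⊔ zpowers x' = ⊤ := by
      by_contra hne
      have hxC := hproper _ (mem_sup_left (mem_zpowers x)) hne (mem_sup_right (mem_zpowers x'))
      rw [hC, mem_centralizer_singleton_iff] at hxC
      have hx'p : orderOf x' ∣ p ^ a := by
        rw [hx', show g⁻¹ * x * g = MulAut.conj g⁻¹ x by simp, MulEquiv.orderOf_eq]; exact hxp
      set T := zpowers x ⊔ zpowers x' with hT
      have hTC : T ≤ C := sup_le (zpowers_le.2 (mem_centralizer_singleton_iff.2 rfl))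
        (zpowers_le.2 (mem_centralizer_singleton_iff.2 hxC))
      have hpg : ∀ z : G, orderOf z ∣ p ^ a → IsPGroup p ↥(zpowers z) := fun z hz => by
        obtain ⟨j, -, hj⟩ := (Nat.dvd_prime_pow Fact.out).1 hz
        exact IsPGroup.of_card (n := j) (by rw [Nat.card_zpowers, hj])
      have hTp : IsPGroup p ↥T := (hpg x hxp).to_sup_of_normal_right'
        (hpg x' hx'p) (zpowers_le.2 (centralizer_le_normalizer _ (by
          rw [zpowers_eq_closure, centralizer_closure]
          exact mem_centralizer_singleton_iff.2 hxC.symm)))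
      let P : Sylow p C := S.subtype hSC
      obtain ⟨Q, hQ⟩ := (hTp.comap_subtype (K := C)).exists_le_sylow
      obtain ⟨c, hc⟩ := MulAction.exists_smul_eq C Q P
      have hxQ : (⟨x', mem_centralizer_singleton_iff.2 hxC⟩ : C) ∈ Q :=
        hQ (show x' ∈ T from mem_sup_right (mem_zpowers x'))
      have hmemP : c * ⟨x', mem_centralizer_singleton_iff.2 hxC⟩ * c⁻¹ ∈ (P : Subgroup C) := by
        rw [← hc, Sylow.coe_subgroup_smul]
        exact ⟨_, hxQ, rfl⟩
      rw [Sylow.coe_subtype, mem_subgroupOf] at hmemP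
      have h5 := hU (g * (c : G)⁻¹) (by
        have e : (g * (c : G)⁻¹)⁻¹ * x * (g * (c : G)⁻¹) = (c : G) * x' * (c : G)⁻¹ := by
          rw [hx']; group
        rw [e]; exact hmemP)
      apply hg
      rw [hC, mem_centralizer_singleton_iff]
      have hcx : (c : G) * x = x * c := mem_centralizer_singleton_iff.1 c.2
      calc g * x = g * ((c : G)⁻¹ * (x * c)) := by rw [← hcx, inv_mul_cancel_left]
        _ = g * (c : G)⁻¹ * ((g * (c : G)⁻¹)⁻¹ * x * (g * (c : G)⁻¹)) * c := by rw [h5]; group
        _ = x * g := by group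
    have hyc : ∀ w ∈ zpowers x ⊔ zpowers x', y * w = w * y := by
      have hle : zpowers x ⊔ zpowers x' ≤ centralizer ({y} : Set G) := by
        refine sup_le (zpowers_le.2 ?_) (zpowers_le.2 ?_)
        · exact mem_centralizer_singleton_iff.2 (mem_centralizer_singleton_iff.1 hy).symm
        · rw [mem_centralizer_singleton_iff, hx']
          have h6 : g * y * g⁻¹ * x = x * (g * y * g⁻¹) := mem_centralizer_singleton_iff.1 hyg
          calc g⁻¹ * x * g * y = g⁻¹ * (x * (g * y * g⁻¹)) * g := by group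
            _ = g⁻¹ * (g * y * g⁻¹ * x) * g := by rw [h6]
            _ = y * (g⁻¹ * x * g) := by group
      exact fun w hw => (mem_centralizer_singleton_iff.1 (hle hw)).symm
    have hyz : y ∈ center G := mem_center_iff.2 fun w => (hyc w (hgen ▸ mem_top w)).symm
    rwa [hZ, mem_bot] at hyz
  obtain ⟨N, hNn, hNc, -⟩ := CfsgLib.Characters.exists_frobenius_kernel C hmal
  have hNp : (Nat.card N).Coprime p := by
    rw [Nat.coprime_comm, (Fact.out : p.Prime).coprime_iff_not_dvd, ← hNc.index_eq_card]
    exact fun hd => S.not_dvd_index (hd.trans (index_dvd_of_le hSC))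
  have hNC : N ≤ C := fun m hm => by
    rw [hC, mem_centralizer_singleton_iff]
    exact (hb N hNp (fun h hh => hNn.conj_mem h hh x) m hm).symm
  apply hCtop
  rw [← hNc.sup_eq_top, sup_eq_right.2 hNC]

/-- Let S be a Sylow p-subgroup of the finite group G and x an element of S such that (i) x is the only G-conjugate of x lying in S, and (ii) x centralizes every subgroup of order prime to p that it normalizes. Then x lies in the centre of G. -/
theorem result {G : Type*} [Group G] [Finite G] {p : ℕ} [Fact p.Prime]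
    (S : Sylow p G) (x : G) (hx : x ∈ S)
    (hU : ∀ g : G, g⁻¹ * x * g ∈ S → g⁻¹ * x * g = x)
    (hb : ∀ H : Subgroup G, (Nat.card H).Coprime p → (∀ h ∈ H, x * h * x⁻¹ ∈ H) → ∀ h ∈ H, x * h = h * x) :
    x ∈ Subgroup.center G := by
  exact main p _ G rfl S x hx hU hb

end Cfsg.Agent.S3064
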