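import Cfsg.Statements.S3067

import Mathlib
import Cfsg.Agent.Coprime.ActionHom
import Cfsg.Agent.ZStar.Theorem
import Cfsg.Agent.S3042

set_option autoImplicit false
open Cfsg

namespace Cfsg.Agent.S3067

section

open scoped Pointwise

variable {G : Type*} [Group G] [Finite G]

/-- The fixed subgroup of an automorphism. -/
def fixedSub (α : MulAut G) : Subgroup G where
  carrier := {g | α g = g}
  one_mem' := map_one α
  mul_mem' := fun {a b} ha hb => by
    simp only [Set.mem_ofPred_eq] at ha hb ⊢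
    rw [map_mul, ha, hb]
  inv_mem' := fun {a} ha => by
    simp only [Set.mem_ofPred_eq] at ha ⊢
    rw [map_inv, ha]

omit [Finite G] in
theorem mem_fixedSub {α : MulAut G} {g : G} : g ∈ fixedSub α ↔ α g = g := Iff.rfl

/-- Coprime action: a coset of the fixed subgroup which is invariant is the trivial one. -/
theorem mem_fixedSub_of_inv_mul {α : MulAut G} (hcop : (orderOf α).Coprime (Nat.card G)) {g : G}
    (h : g⁻¹ * α g ∈ fixedSub α) : g ∈ fixedSub α := by
  rw [mem_fixedSub] at h ⊢
  generalize hc : g⁻¹ * α g = c at h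
  have hg : α g = g * c := by rw [← hc, mul_inv_cancel_left]
  have hk : ∀ k : ℕ, (α ^ k) g = g * c ^ k := by
    intro k
    induction k with
    | zero => simp
    | succ k ih =>
      rw [pow_succ', MulAut.mul_apply, ih, map_mul, map_pow, h, hg, mul_assoc, ← pow_succ']
  have h1 : c ^ orderOf α = 1 := by
    have := hk (orderOf α)
    rw [pow_orderOf_eq_one, MulAut.one_apply] at this
    exact left_eq_mul.mp this
  have h2 : orderOf c = 1 :=
    Nat.eq_one_of_dvd_coprimes hcop (orderOf_dvd_of_pow_eq_one h1) (orderOf_dvd_natCard c)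
  rw [hg, orderOf_eq_one_iff.mp h2, mul_one]

/-- An invariant 2-subgroup is fixed pointwise when the fixed points contain the normaliser of a
Sylow 2-subgroup. -/
theorem le_fixedSub_of_invariant {α : MulAut G} (hcop : (orderOf α).Coprime (Nat.card G))
    (S : Sylow 2 G) (hS : (S : Subgroup G) ≤ fixedSub α)
    (hNS : Subgroup.normalizer ((S : Subgroup G) : Set G) ≤ fixedSub α)
    {R : Subgroup G} (hR : IsPGroup 2 R) (hinv : ∀ a ∈ Subgroup.zpowers α, ∀ x ∈ R, a x ∈ R) :
    R ≤ fixedSub α := by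
  classical
  haveI : Fact (Nat.Prime 2) := ⟨Nat.prime_two⟩
  obtain ⟨V, hRV, hV⟩ := (Set.toFinite {V : Subgroup G | IsPGroup 2 V ∧
    ∀ a ∈ Subgroup.zpowers α, ∀ x ∈ V, a x ∈ V}).exists_le_maximal (a := R) ⟨hR, hinv⟩
  obtain ⟨hVp, hVinv⟩ := hV.1
  set K := Subgroup.normalizer (V : Set G) with hK
  have hKinv : ∀ a ∈ Subgroup.zpowers α, ∀ x ∈ K, a x ∈ K := by
    intro a ha x hx
    refine Subgroup.mem_normalizer_fintype fun v hv => ?_
    have h1 : a⁻¹ v ∈ V := hVinv _ (inv_mem ha) v hv
    have h2 := hVinv a ha _ ((Subgroup.mem_normalizer_iff.mp hx _).mp h1)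
    rw [map_mul, map_mul, map_inv, MulAut.apply_inv_self] at h2
    exact h2
  let φ : ↥(Subgroup.zpowers α) →* MulAut ↥K := MonoidHom.mk' (fun a =>
    { toFun := fun x => ⟨(a : MulAut G) x, hKinv _ a.2 _ x.2⟩
      invFun := fun x => ⟨(a : MulAut G)⁻¹ x, hKinv _ (inv_mem a.2) _ x.2⟩
      left_inv := fun x => Subtype.ext (MulAut.inv_apply_self G _ _)
      right_inv := fun x => Subtype.ext (MulAut.apply_inv_self G _ _)
      map_mul' := fun x y => Subtype.ext (map_mul (a : MulAut G) _ _) })
    (fun a b => MulEquiv.ext fun x => Subtype.ext rfl)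
  obtain ⟨P, hP⟩ := CfsgLib.Coprime.exists_invariant_sylow_hom φ
    (by
      rw [Nat.card_zpowers]
      exact hcop.coprime_dvd_right (Subgroup.card_subgroup_dvd_card K))
    (Or.inl (isSolvable_of_comm fun a b => mul_comm' a b)) 2
  have hVK : V ≤ K := Subgroup.le_normalizer
  have hVP : V ≤ (P : Subgroup K).map K.subtype := by
    have h1 := Subgroup.map_mono (f := K.subtype)
      ((hVp.of_equiv (Subgroup.subgroupOfEquivOfLe hVK).symm).le_sylow_of_normal P)
    rwa [Subgroup.subgroupOf_map_subtype, inf_eq_left.mpr hVK] at h1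
  have hPV : (P : Subgroup K).map K.subtype = V := by
    refine le_antisymm (hV.2 ⟨P.isPGroup'.map _, ?_⟩ hVP) hVP
    rintro a ha _ ⟨x, hx, rfl⟩
    exact ⟨φ ⟨a, ha⟩ x, hP _ x hx, rfl⟩
  have hVs : ¬ 2 ∣ V.relIndex K := by
    have h2 : (P : Subgroup K) = V.subgroupOf K := by
      rw [← hPV]
      exact (Subgroup.comap_map_eq_self_of_injective K.subtype_injective _).symm
    rw [Subgroup.relIndex, ← h2]
    exact Sylow.not_dvd_index' P Subgroup.FiniteIndex.index_ne_zero
  have hVi := Cfsg.Agent.S3042.not_dvd_index_of_normalizer_le hVp hVs le_rfl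
  obtain ⟨g, hg⟩ := MulAction.exists_smul_eq G S (hVp.toSylow hVi)
  have hgV : MulAut.conj g • (S : Subgroup G) = V := congrArg Sylow.toSubgroup hg
  have hmemV : ∀ x : G, g * x * g⁻¹ ∈ V ↔ x ∈ S := by
    intro x
    rw [← hgV]
    exact Subgroup.smul_mem_pointwise_smul_iff
  have hgfix : g ∈ fixedSub α := by
    refine mem_fixedSub_of_inv_mul hcop (hNS (Subgroup.mem_normalizer_fintype fun s hs => ?_))
    have h1 := hVinv α (Subgroup.mem_zpowers α) _ ((hmemV s).mpr hs)
    rw [map_mul, map_mul, map_inv, mem_fixedSub.mp (hS hs)] at h1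
    refine (hmemV _).mp ?_
    have e : g * (g⁻¹ * α g * s * (g⁻¹ * α g)⁻¹) * g⁻¹ = α g * s * (α g)⁻¹ := by group
    rw [e]; exact h1
  intro v hv
  have hv' := hRV hv
  have h1 : g⁻¹ * v * g ∈ S := (hmemV _).mp (by
    have e : g * (g⁻¹ * v * g) * g⁻¹ = v := by group
    rw [e]; exact hv')
  have h2 := mul_mem (mul_mem hgfix (hS h1)) (inv_mem hgfix)
  simpa [mul_assoc] using h2

set_option maxHeartbeats 400000 in
/-- An automorphism of order prime to `|G|` fixing the centraliser of an involution `τ` is trivial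
when `G` is simple and non-abelian. -/
theorem eq_one_of_fixes_centralizer [IsSimpleGroup G] (hG : ¬ IsMulCommutative G) (τ : G)
    (hτ : orderOf τ = 2) (α : MulAut G) (hcop : (orderOf α).Coprime (Nat.card G))
    (hC : ∀ c ∈ Subgroup.centralizer ({τ} : Set G), α c = c) : α = 1 := by
  classical
  haveI : Fact (Nat.Prime 2) := ⟨Nat.prime_two⟩
  by_contra hα
  set C := fixedSub α with hCdef
  have hCtop : C ≠ ⊤ := fun h => hα (MulEquiv.ext fun g => by
    have : g ∈ C := h ▸ Subgroup.mem_top g
    exact this)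
  have hcentC : ∀ g : G, g * τ = τ * g → g ∈ C := fun g hg =>
    hC g (Subgroup.mem_centralizer_singleton_iff.mpr hg)
  have hτC : τ ∈ C := hcentC τ rfl
  -- conjugates of `τ` in `C`
  have hconj : ∀ g : G, g * τ * g⁻¹ ∈ C → g ∈ C := by
    intro g hg
    refine mem_fixedSub_of_inv_mul hcop (hcentC _ ?_)
    have h1 : α g * τ * (α g)⁻¹ = g * τ * g⁻¹ := by
      rw [← mem_fixedSub.mp hg, map_mul, map_mul, map_inv, mem_fixedSub.mp hτC]
    calc g⁻¹ * α g * τ = g⁻¹ * (α g * τ * (α g)⁻¹) * α g := by group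
      _ = τ * (g⁻¹ * α g) := by rw [h1]; group
  -- a Sylow 2-subgroup of `G` inside `C`
  obtain ⟨T, hT⟩ := ((IsPGroup.of_card (n := 1) (by rw [Nat.card_zpowers, hτ, pow_one]) :
    IsPGroup 2 (Subgroup.zpowers τ)).of_equiv
      (Subgroup.subgroupOfEquivOfLe (Subgroup.zpowers_le.mpr hτC)).symm).exists_le_sylow
  set T' := (T : Subgroup C).map C.subtype with hT'
  have hτT : τ ∈ T' := ⟨⟨τ, hτC⟩, hT (Subgroup.mem_subgroupOf.mpr (Subgroup.mem_zpowers τ)), rfl⟩
  have hT'C : T' ≤ C := Subgroup.map_subtype_le _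
  have hNT : Subgroup.normalizer (T' : Set G) ≤ C := fun n hn =>
    hconj n (hT'C ((Subgroup.mem_normalizer_iff.mp hn τ).mp hτT))
  have hTs : ¬ 2 ∣ T'.relIndex C := by
    have h2 : T'.subgroupOf C = (T : Subgroup C) :=
      Subgroup.comap_map_eq_self_of_injective C.subtype_injective _
    rw [Subgroup.relIndex, h2]
    exact Sylow.not_dvd_index' T Subgroup.FiniteIndex.index_ne_zero
  have hTi := Cfsg.Agent.S3042.not_dvd_index_of_normalizer_le (T.isPGroup'.map C.subtype) hTs hNT
  set S : Sylow 2 G := (T.isPGroup'.map C.subtype).toSylow hTi with hSdef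
  have hS : (S : Subgroup G) = T' := rfl
  have hSC : (S : Subgroup G) ≤ C := hS ▸ hT'C
  have hNSC : Subgroup.normalizer ((S : Subgroup G) : Set G) ≤ C := hS ▸ hNT
  -- involution classes
  letI := Fintype.ofFinite G
  letI := Fintype.ofFinite (G ⧸ C)
  set X : Finset G := Finset.univ.filter (fun x => ∃ g, g * τ * g⁻¹ = x) with hXdef
  have hX : ∀ x, x ∈ X ↔ ∃ g, g * τ * g⁻¹ = x := fun x => by simp [X]
  have hXinv : ∀ x ∈ X, x * x = 1 := by
    intro x hx
    obtain ⟨g, rfl⟩ := (hX x).mp hx
    have hττ : τ * τ = 1 := by rw [← sq, ← hτ, pow_orderOf_eq_one]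
    calc g * τ * g⁻¹ * (g * τ * g⁻¹) = g * (τ * τ) * g⁻¹ := by group
      _ = 1 := by rw [hττ]; group
  have hXconj : ∀ w x, x ∈ X → w * x * w⁻¹ ∈ X := by
    intro w x hx
    obtain ⟨g, rfl⟩ := (hX x).mp hx
    exact (hX _).mpr ⟨w * g, by group⟩
  set Xc := X.filter (· ∈ C) with hXcdef
  set Xo := X.filter (· ∉ C) with hXodef
  have hτXc : τ ∈ Xc := Finset.mem_filter.mpr ⟨(hX τ).mpr ⟨1, by group⟩, hτC⟩
  have hXcard : X.card = Fintype.card (G ⧸ C) * Xc.card := by
    rw [← Finset.card_univ, ← Finset.card_product]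
    symm
    refine Finset.card_nbij (fun p => p.1.out * p.2 * p.1.out⁻¹) ?_ ?_ ?_
    · intro p hp
      exact hXconj _ _ (Finset.mem_filter.mp (Finset.mem_product.mp hp).2).1
    · intro p hp p' hp' e
      simp only [Finset.coe_product, Set.mem_prod, Finset.mem_coe, Finset.mem_filter, Xc] at hp hp'
      obtain ⟨a, ha⟩ := (hX _).mp hp.2.1
      obtain ⟨a', ha'⟩ := (hX _).mp hp'.2.1
      have haC : a ∈ C := hconj a (ha ▸ hp.2.2)
      have ha'C : a' ∈ C := hconj a' (ha' ▸ hp'.2.2)
      have e' : p.1.out * (a * τ * a⁻¹) * p.1.out⁻¹ = p'.1.out * (a' * τ * a'⁻¹) * p'.1.out⁻¹ := by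
        rw [ha, ha']; exact e
      have hh : (p'.1.out * a')⁻¹ * (p.1.out * a) ∈ C := by
        refine hcentC _ ?_
        calc (p'.1.out * a')⁻¹ * (p.1.out * a) * τ
            = (p'.1.out * a')⁻¹ * (p.1.out * (a * τ * a⁻¹) * p.1.out⁻¹) * (p.1.out * a) := by group
          _ = τ * ((p'.1.out * a')⁻¹ * (p.1.out * a)) := by rw [e']; group
      have hh' : p'.1.out⁻¹ * p.1.out ∈ C := by
        have := mul_mem (mul_mem ha'C hh) (inv_mem haC)
        simpa [mul_assoc] using this
      have h1 : p'.1 = p.1 := by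
        rw [← QuotientGroup.out_eq' p'.1, ← QuotientGroup.out_eq' p.1, QuotientGroup.eq]
        exact hh'
      refine Prod.ext h1.symm ?_
      have e2 : p.1.out * p.2 * p.1.out⁻¹ = p'.1.out * p'.2 * p'.1.out⁻¹ := e
      rw [h1] at e2
      exact mul_left_cancel (mul_right_cancel e2)
    · intro x hx
      obtain ⟨g, rfl⟩ := (hX x).mp hx
      obtain ⟨d, hd⟩ : ∃ d : C, (QuotientGroup.mk g : G ⧸ C).out = g * d :=
        QuotientGroup.mk_out_eq_mul C g
      refine ⟨(QuotientGroup.mk g, (d : G)⁻¹ * τ * (d : G)), ?_, ?_⟩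
      · simp only [Finset.coe_product, Set.mem_prod, Finset.coe_univ, Set.mem_univ, true_and,
          Finset.mem_coe, Finset.mem_filter, Xc]
        exact ⟨(hX _).mpr ⟨(d : G)⁻¹, by group⟩, mul_mem (mul_mem (inv_mem d.2) hτC) d.2⟩
      · show (QuotientGroup.mk g : G ⧸ C).out * ((d : G)⁻¹ * τ * (d : G)) *
          (QuotientGroup.mk g : G ⧸ C).out⁻¹ = g * τ * g⁻¹
        rw [hd]; group
  have hn2 : 2 ≤ Fintype.card (G ⧸ C) := by
    rw [← Nat.card_eq_fintype_card, ← Subgroup.index]
    have h0 : C.index ≠ 0 := Subgroup.index_ne_zero_of_finite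
    have h1 : C.index ≠ 1 := fun h => hCtop (Subgroup.index_eq_one.mp h)
    omega
  have hXo : Xo.card = (Fintype.card (G ⧸ C) - 1) * Xc.card := by
    have := Finset.card_filter_add_card_filter_not (s := X) (fun x => x ∈ C)
    rw [← hXcdef, ← hXodef, hXcard] at this
    rw [Nat.sub_mul, one_mul]
    omega
  by_cases hm : Xc.card = 1
  · -- `τ` is isolated
    obtain ⟨N, hN, hodd, hNc⟩ := CfsgLib.ZStar.exists_oddNormal_of_sylow S hτ hτT
      fun g hg => Finset.card_le_one.mp hm.le _
        (Finset.mem_filter.mpr ⟨(hX _).mpr ⟨g, rfl⟩, hSC hg⟩) _ hτXc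
    rcases hN.eq_bot_or_eq_top with h | h
    · have hcen : τ ∈ Subgroup.center G := Subgroup.mem_center_iff.mpr fun g => by
        have h1 := hNc g
        rw [h, Subgroup.mem_bot] at h1
        calc g * τ = (τ * g * τ⁻¹ * g⁻¹) * (g * τ) := by rw [h1, one_mul]
          _ = τ * g := by group
      rcases (inferInstance : (Subgroup.center G).Normal).eq_bot_or_eq_top with hz | hz
      · rw [hz, Subgroup.mem_bot] at hcen
        rw [hcen, orderOf_one] at hτ
        exact absurd hτ (by norm_num)
      · exact hG ⟨⟨fun a b => (Subgroup.mem_center_iff.mp (hz ▸ Subgroup.mem_top a) b).symm⟩⟩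
    · have : 2 ∣ Nat.card G := hτ ▸ orderOf_dvd_natCard τ
      rw [h, Subgroup.card_top] at hodd
      exact absurd (even_iff_two_dvd.mpr this) (Nat.not_even_iff_odd.mpr hodd)
  have hm2 : 2 ≤ Xc.card := by
    have : 0 < Xc.card := Finset.card_pos.mpr ⟨τ, hτXc⟩
    omega
  let Yin : G → Finset G := fun c => Xc.filter fun x => x * c ∈ X
  let Yo : G → Finset G := fun c => Xo.filter fun x => x * c ∈ X
  let Cf : Finset G := Finset.univ.filter (· ∈ C)
  let Q : Finset (G ⧸ C) := Finset.univ.erase ((1 : G) : G ⧸ C)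
  -- pairs inside `C`
  have hin : Xc.card * Xc.card = ∑ c ∈ Cf, (Yin c).card := by
    rw [← Finset.card_product, Finset.card_eq_sum_card_fiberwise (s := Xc ×ˢ Xc) (t := Cf)
      (f := fun p => p.1⁻¹ * p.2) (fun p hp => by
        simp only [Finset.coe_product, Set.mem_prod, Finset.mem_coe, Finset.mem_filter, Xc] at hp
        simp only [Cf, Finset.coe_filter, Finset.mem_univ, true_and, Set.mem_ofPred_eq]
        exact mul_mem (inv_mem hp.1.2) hp.2.2)]
    refine Finset.sum_congr rfl fun c hc => ?_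
    simp only [Cf, Finset.mem_filter, Finset.mem_univ, true_and] at hc
    refine Finset.card_nbij' (fun p => p.1) (fun x => (x, x * c)) ?_ ?_ ?_ ?_
    · rintro ⟨x, y⟩ hp
      simp only [Finset.coe_filter, Finset.mem_product, Finset.mem_filter, Set.mem_ofPred_eq, Yin,
        Xc] at hp ⊢
      obtain ⟨⟨h1, h2⟩, h3⟩ := hp
      refine ⟨h1, ?_⟩
      rw [← h3, mul_inv_cancel_left]; exact h2.1
    · intro x hx
      simp only [Finset.coe_filter, Finset.mem_product, Finset.mem_filter, Set.mem_ofPred_eq, Yin,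
        Xc] at hx ⊢
      exact ⟨⟨hx.1, hx.2, mul_mem hx.1.2 hc⟩, by group⟩
    · rintro ⟨x, y⟩ hp
      simp only [Finset.coe_filter, Set.mem_ofPred_eq] at hp
      refine Prod.ext rfl ?_
      show x * c = y
      rw [← hp.2]; group
    · intro x _; rfl
  -- pairs outside `C`
  let P : Finset (G × G) := (Xo ×ˢ Xo).filter fun p => p.1⁻¹ * p.2 ∈ C
  have hout : P.card = ∑ c ∈ Cf, (Yo c).card := by
    rw [Finset.card_eq_sum_card_fiberwise (s := P) (t := Cf) (f := fun p => p.1⁻¹ * p.2)
      (fun p hp => by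
        simp only [P, Finset.coe_filter, Set.mem_ofPred_eq] at hp
        simp only [Cf, Finset.coe_filter, Finset.mem_univ, true_and, Set.mem_ofPred_eq]
        exact hp.2)]
    refine Finset.sum_congr rfl fun c hc => ?_
    simp only [Cf, Finset.mem_filter, Finset.mem_univ, true_and] at hc
    refine Finset.card_nbij' (fun p => p.1) (fun x => (x, x * c)) ?_ ?_ ?_ ?_
    · rintro ⟨x, y⟩ hp
      simp only [Finset.coe_filter, Finset.mem_product, Finset.mem_filter, Set.mem_ofPred_eq, Yo,
        Xo, P] at hp ⊢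
      obtain ⟨⟨⟨h1, h2⟩, -⟩, h3⟩ := hp
      refine ⟨h1, ?_⟩
      rw [← h3, mul_inv_cancel_left]; exact h2.1
    · intro x hx
      simp only [Finset.coe_filter, Finset.mem_product, Finset.mem_filter, Set.mem_ofPred_eq, Yo,
        Xo, P] at hx ⊢
      refine ⟨⟨⟨hx.1, hx.2, fun h => hx.1.2 ?_⟩, ?_⟩, by group⟩
      · simpa using mul_mem h (inv_mem hc)
      · simpa using hc
    · rintro ⟨x, y⟩ hp
      simp only [Finset.coe_filter, Set.mem_ofPred_eq] at hp
      refine Prod.ext rfl ?_
      show x * c = y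
      rw [← hp.2]; group
    · intro x _; rfl
  -- by cosets
  let f : G ⧸ C → ℕ := fun q => (Xo.filter fun x : G => (x : G ⧸ C) = q).card
  have hf1 : ∑ q ∈ Q, f q = Xo.card :=
    (Finset.card_eq_sum_card_fiberwise (f := fun x : G => (x : G ⧸ C)) (fun x hx => by
      simp only [Q, Finset.coe_erase, Set.mem_sdiff, Finset.coe_univ, Set.mem_univ, true_and,
        Set.mem_singleton_iff]
      intro e
      exact (Finset.mem_filter.mp hx).2 (by simpa [QuotientGroup.eq] using e.symm))).symm
  have hf2 : P.card = ∑ q ∈ Q, f q ^ 2 := by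
    rw [Finset.card_eq_sum_card_fiberwise (s := P) (t := Q) (f := fun p => (p.1 : G ⧸ C))
      (fun p hp => by
        simp only [P, Finset.coe_filter, Set.mem_ofPred_eq, Finset.mem_product] at hp
        simp only [Q, Finset.coe_erase, Set.mem_sdiff, Finset.coe_univ, Set.mem_univ, true_and,
          Set.mem_singleton_iff]
        intro e
        exact (Finset.mem_filter.mp hp.1.1).2 (by simpa [QuotientGroup.eq] using e.symm))]
    refine Finset.sum_congr rfl fun q _ => ?_
    rw [sq, ← Finset.card_product]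
    congr 1
    ext ⟨x, y⟩
    simp only [P, Finset.mem_filter, Finset.mem_product]
    constructor
    · rintro ⟨⟨⟨hx, hy⟩, hC'⟩, rfl⟩
      exact ⟨⟨hx, rfl⟩, hy, (QuotientGroup.eq.mpr hC').symm⟩
    · rintro ⟨⟨hx, rfl⟩, hy, hq⟩
      exact ⟨⟨⟨hx, hy⟩, QuotientGroup.eq.mp hq.symm⟩, rfl⟩
  have hQcard : Q.card = Fintype.card (G ⧸ C) - 1 := by
    simp [Q, Finset.card_erase_of_mem]
  have hcauchy : (∑ q ∈ Q, f q) ^ 2 ≤ Q.card * ∑ q ∈ Q, f q ^ 2 := sq_sum_le_card_mul_sum_sq
  rw [hf1, ← hf2, hQcard, hXo] at hcauchy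
  -- the terms
  have h1C : (1 : G) ∈ Cf := Finset.mem_filter.mpr ⟨Finset.mem_univ _, one_mem C⟩
  have hYo1 : Yo 1 = Xo := Finset.filter_true_of_mem fun x hx => by
    rw [mul_one]; exact (Finset.mem_filter.mp hx).1
  have hYin1 : Yin 1 = Xc := Finset.filter_true_of_mem fun x hx => by
    rw [mul_one]; exact (Finset.mem_filter.mp hx).1
  have hterm : ∀ c ∈ Cf.erase 1,
      (Yo c).card ≤ (Fintype.card (G ⧸ C) - 2) * (Yin c).card := by
    intro c hc
    obtain ⟨hc1, hcC'⟩ := Finset.mem_erase.mp hc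
    simp only [Cf, Finset.mem_filter, Finset.mem_univ, true_and] at hcC'
    let Q' : Finset (G ⧸ C) := Q.filter fun q => ∃ w : G, w * c = c * w ∧ (w : G ⧸ C) = q
    have hQ' : Q'.card ≤ Fintype.card (G ⧸ C) - 2 := by
      obtain ⟨q, hq, hq'⟩ : ∃ q ∈ Q, q ∉ Q' := by
        by_contra hcon
        push Not at hcon
        have hall : ∀ g : G, g * c * g⁻¹ ∈ C := by
          intro g
          by_cases hgC : g ∈ C
          · exact mul_mem (mul_mem hgC hcC') (inv_mem hgC)
          have hgQ : ((g⁻¹ : G) : G ⧸ C) ∈ Q := by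
            simp only [Q, Finset.mem_erase, Finset.mem_univ, and_true]
            intro e
            exact hgC (by simpa [QuotientGroup.eq] using e)
          obtain ⟨w, hw, hwq⟩ := (Finset.mem_filter.mp (hcon _ hgQ)).2
          have he : w⁻¹ * g⁻¹ ∈ C := QuotientGroup.eq.mp hwq
          have hw' : w⁻¹ * c * w = c := by rw [mul_assoc, ← hw, inv_mul_cancel_left]
          have e1 : g * c * g⁻¹ = (w⁻¹ * g⁻¹)⁻¹ * (w⁻¹ * c * w) * (w⁻¹ * g⁻¹) := by group
          rw [e1, hw']
          exact mul_mem (mul_mem (inv_mem he) hcC') he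
        have hnc : Subgroup.normalClosure {c} ≤ C := by
          rw [Subgroup.normalClosure, Subgroup.closure_le]
          intro y hy
          obtain ⟨a, ha, hay⟩ := Group.mem_conjugatesOfSet_iff.mp hy
          obtain ⟨g, hg⟩ := isConj_iff.mp hay
          rw [Set.mem_singleton_iff] at ha
          rw [← hg, ha]
          exact hall g
        rcases (Subgroup.normalClosure_normal (s := {c})).eq_bot_or_eq_top with h | h
        · exact hc1 (Subgroup.mem_bot.mp (h ▸ Subgroup.subset_normalClosure rfl))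
        · exact hCtop (top_le_iff.mp (h ▸ hnc))
      have hsub : Q' ⊆ Q.erase q := fun a ha => Finset.mem_erase.mpr
        ⟨fun e => hq' (e ▸ ha), (Finset.mem_filter.mp ha).1⟩
      have h3 := Finset.card_le_card hsub
      rw [Finset.card_erase_of_mem hq, hQcard] at h3
      omega
    let rep : G ⧸ C → G := fun q =>
      if h : ∃ w : G, w * c = c * w ∧ (w : G ⧸ C) = q then h.choose else 1
    have hsurj : Yo c ⊆ (Q' ×ˢ Yin c).image fun p => rep p.1 * p.2 * (rep p.1)⁻¹ := by
      intro y hy
      simp only [Yo, Xo, Finset.mem_filter] at hy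
      obtain ⟨⟨hyX, hyC⟩, hycX⟩ := hy
      have hyy := hXinv y hyX
      have hyinv : y * c * y⁻¹ = c⁻¹ := by
        rw [inv_eq_of_mul_eq_one_right hyy]
        apply eq_inv_of_mul_eq_one_left
        rw [mul_assoc]
        exact hXinv _ hycX
      -- the extended centraliser
      let K : Subgroup G :=
        { carrier := {g | g * c * g⁻¹ = c ∨ g * c * g⁻¹ = c⁻¹}
          one_mem' := Or.inl (by simp)
          mul_mem' := by
            rintro a b ha hb
            have e : a * b * c * (a * b)⁻¹ = a * (b * c * b⁻¹) * a⁻¹ := by group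
            rcases hb with hb | hb <;> rcases ha with ha | ha <;>
              simp only [Set.mem_ofPred_eq, e, hb]
            · exact Or.inl ha
            · exact Or.inr ha
            · exact Or.inr (by rw [← conj_inv, ha])
            · exact Or.inl (by rw [← conj_inv, ha, inv_inv])
          inv_mem' := by
            rintro a (ha | ha)
            · left
              conv_lhs => rw [← ha]
              group
            · right
              have : a⁻¹ * c⁻¹ * a = c := by rw [← ha]; group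
              rw [inv_inv]
              calc a⁻¹ * c * a = (a⁻¹ * c⁻¹ * a)⁻¹ := by group
                _ = c⁻¹ := by rw [this] }
      have hcfix : ∀ a ∈ Subgroup.zpowers α, a c = c := by
        intro a ha
        obtain ⟨k, rfl⟩ := Submonoid.mem_powers_iff _ _ |>.mp (mem_powers_iff_mem_zpowers.mpr ha)
        induction k with
        | zero => simp
        | succ k ih =>
          rw [pow_succ, MulAut.mul_apply, mem_fixedSub.mp hcC']
          exact ih (Subgroup.pow_mem _ (Subgroup.mem_zpowers α) k)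
      have hKinv : ∀ a ∈ Subgroup.zpowers α, ∀ x ∈ K, a x ∈ K := by
        intro a ha x hx
        show a x * c * (a x)⁻¹ = c ∨ a x * c * (a x)⁻¹ = c⁻¹
        have e : a x * c * (a x)⁻¹ = a (x * c * x⁻¹) := by
          rw [map_mul, map_mul, map_inv, hcfix a ha]
        rw [e]
        rcases hx with hx | hx <;> rw [hx]
        · exact Or.inl (hcfix a ha)
        · exact Or.inr (by rw [map_inv, hcfix a ha])
      let φ : ↥(Subgroup.zpowers α) →* MulAut ↥K := MonoidHom.mk' (fun a =>
        { toFun := fun x => ⟨(a : MulAut G) x, hKinv _ a.2 _ x.2⟩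
          invFun := fun x => ⟨(a : MulAut G)⁻¹ x, hKinv _ (inv_mem a.2) _ x.2⟩
          left_inv := fun x => Subtype.ext (MulAut.inv_apply_self G _ _)
          right_inv := fun x => Subtype.ext (MulAut.apply_inv_self G _ _)
          map_mul' := fun x y => Subtype.ext (map_mul (a : MulAut G) _ _) })
        (fun a b => MulEquiv.ext fun x => Subtype.ext rfl)
      obtain ⟨R, hR⟩ := CfsgLib.Coprime.exists_invariant_sylow_hom φ
        (by
          rw [Nat.card_zpowers]
          exact hcop.coprime_dvd_right (Subgroup.card_subgroup_dvd_card K))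
        (Or.inl (isSolvable_of_comm fun a b => mul_comm' a b)) 2
      have hRC : (R : Subgroup K).map K.subtype ≤ C := by
        refine le_fixedSub_of_invariant hcop S hSC hNSC (R.isPGroup'.map _) ?_
        rintro a ha _ ⟨x, hx, rfl⟩
        exact ⟨φ ⟨a, ha⟩ x, hR _ x hx, rfl⟩
      have hyK : y ∈ K := Or.inr hyinv
      obtain ⟨R', hR'⟩ := (IsPGroup.of_card (p := 2) (n := 1) (G := Subgroup.zpowers (⟨y, hyK⟩ : K))
        (by rw [Nat.card_zpowers, ← Subgroup.orderOf_coe, pow_one]
            exact orderOf_eq_prime (by rw [sq, hyy]) (fun e => hyC (by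
              show y ∈ C
              have : y = 1 := e
              rw [this]; exact one_mem _)))).exists_le_sylow
      obtain ⟨w, hw⟩ := MulAction.exists_smul_eq K R' R
      have hwy : (w : G) * y * (w : G)⁻¹ ∈ C := by
        refine hRC ⟨w * ⟨y, hyK⟩ * w⁻¹, ?_, rfl⟩
        rw [← hw]
        exact ⟨_, hR' (Subgroup.mem_zpowers _), rfl⟩
      -- replace `w` by an element centralising `c`
      obtain ⟨v, hv, hvy⟩ : ∃ v : G, v * c = c * v ∧ v⁻¹ * y * v ∈ C := by
        rcases w.2 with h | h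
        · refine ⟨(w : G)⁻¹, ?_, by rwa [inv_inv]⟩
          have h' : (w : G) * c = c * (w : G) := mul_inv_eq_iff_eq_mul.mp h
          calc (w : G)⁻¹ * c = (w : G)⁻¹ * (c * (w : G)) * (w : G)⁻¹ := by group
            _ = c * (w : G)⁻¹ := by rw [← h']; group
        · refine ⟨((w : G) * y)⁻¹, ?_, ?_⟩
          · have h' : (w : G) * y * c * ((w : G) * y)⁻¹ = c := by
              calc (w : G) * y * c * ((w : G) * y)⁻¹ = (w : G) * (y * c * y⁻¹) * (w : G)⁻¹ := by group
                _ = ((w : G) * c * (w : G)⁻¹)⁻¹ := by rw [hyinv]; group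
                _ = c := by rw [h, inv_inv]
            calc ((w : G) * y)⁻¹ * c
                = ((w : G) * y)⁻¹ * ((w : G) * y * c * ((w : G) * y)⁻¹) := by rw [h']
              _ = c * ((w : G) * y)⁻¹ := by group
          · rw [inv_inv]
            have : (w : G) * y * y * ((w : G) * y)⁻¹ = (w : G) * y * (w : G)⁻¹ := by
              rw [mul_inv_rev, inv_eq_of_mul_eq_one_right hyy]
              calc (w : G) * y * y * (y * (w : G)⁻¹) = (w : G) * (y * y) * y * (w : G)⁻¹ := by group
                _ = _ := by rw [hyy, mul_one]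
            rw [this]; exact hwy
      have hvC : v ∉ C := fun h => hyC (by
        have := mul_mem (mul_mem h hvy) (inv_mem h)
        simpa [mul_assoc] using this)
      set q : G ⧸ C := (v : G ⧸ C) with hqdef
      have hex : ∃ w : G, w * c = c * w ∧ (w : G ⧸ C) = q := ⟨v, hv, rfl⟩
      have hrep : rep q * c = c * rep q ∧ (rep q : G ⧸ C) = q := by
        simp only [rep, dif_pos hex]
        exact hex.choose_spec
      obtain ⟨hrc, hrq⟩ := hrep
      have hd : v⁻¹ * rep q ∈ C := by
        have := QuotientGroup.eq.mp hrq.symm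
        exact this
      refine Finset.mem_image.mpr ⟨(q, (rep q)⁻¹ * y * rep q), Finset.mem_product.mpr ⟨?_, ?_⟩,
        by group⟩
      · refine Finset.mem_filter.mpr ⟨Finset.mem_erase.mpr ⟨fun e => hvC ?_, Finset.mem_univ _⟩, hex⟩
        simpa [q, QuotientGroup.eq] using e.symm
      · refine Finset.mem_filter.mpr ⟨Finset.mem_filter.mpr ⟨?_, ?_⟩, ?_⟩
        · simpa using hXconj (rep q)⁻¹ y hyX
        · have e : (rep q)⁻¹ * y * rep q = (v⁻¹ * rep q)⁻¹ * (v⁻¹ * y * v) * (v⁻¹ * rep q) := by group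
          rw [e]
          exact mul_mem (mul_mem (inv_mem hd) hvy) hd
        · have e : (rep q)⁻¹ * y * rep q * c = (rep q)⁻¹ * (y * c) * (rep q)⁻¹⁻¹ := by
            rw [mul_assoc _ (rep q) c, hrc]; group
          rw [e]
          exact hXconj _ _ hycX
    calc (Yo c).card ≤ (Q' ×ˢ Yin c).card :=
          (Finset.card_le_card hsurj).trans Finset.card_image_le
      _ ≤ _ := by rw [Finset.card_product]; exact Nat.mul_le_mul_right _ hQ'
  have hA : ∑ c ∈ Cf.erase 1, (Yo c).card ≤
      (Fintype.card (G ⧸ C) - 2) * ∑ c ∈ Cf.erase 1, (Yin c).card := by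
    rw [Finset.mul_sum]
    exact Finset.sum_le_sum hterm
  rw [← Finset.add_sum_erase _ _ h1C, hYin1] at hin
  rw [← Finset.add_sum_erase _ _ h1C, hYo1, hXo] at hout
  obtain ⟨k, hk⟩ := Nat.exists_eq_add_of_le hn2
  rw [hk, show 2 + k - 1 = k + 1 by omega] at hout hcauchy
  rw [hk, show 2 + k - 2 = k by omega] at hA
  generalize ∑ c ∈ Cf.erase 1, (Yin c).card = B at hin hA
  generalize ∑ c ∈ Cf.erase 1, (Yo c).card = A at hout hA
  rw [hout] at hcauchy
  have h1 : (k + 1) * (Xc.card * Xc.card) ≤ (k + 1) * Xc.card + A := by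
    have h2 : (k + 1) * ((k + 1) * (Xc.card * Xc.card)) ≤
        (k + 1) * ((k + 1) * Xc.card + A) := by
      calc (k + 1) * ((k + 1) * (Xc.card * Xc.card)) = ((k + 1) * Xc.card) ^ 2 := by ring
        _ ≤ _ := hcauchy
    exact Nat.le_of_mul_le_mul_left h2 (Nat.succ_pos k)
  nlinarith [Nat.mul_le_mul_left Xc.card hm2]

end

/-- Let G be a finite non-abelian simple group, τ an involution of G, and α a nontrivial automorphism of G whose order is coprime to the order of G. Then α moves some element of the centralizer of τ: α does not fix C_G(τ) elementwise. -/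
theorem result {G : Type*} [Group G] [Finite G] [IsSimpleGroup G]
    (hG : ¬ IsMulCommutative G) (τ : G) (hτ : orderOf τ = 2) (α : MulAut G) (hα : α ≠ 1)
    (hcop : (orderOf α).Coprime (Nat.card G)) :
    ∃ c ∈ Subgroup.centralizer ({τ} : Set G), α c ≠ c := by
  by_contra hcon
  push Not at hcon
  exact hα (eq_one_of_fixes_centralizer hG τ hτ α hcop hcon)

end Cfsg.Agent.S3067
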