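import Mathlib
import Cfsg.Statements.S3068
import Cfsg.Agent.ConjFunctor.JEngel
import Cfsg.Agent.ConjFunctor.Corollaries
import Cfsg.Agent.Transfer.Tate
import Cfsg.Agent.Transfer.Residual

set_option autoImplicit false
open Cfsg

namespace Cfsg.Agent.S3068

open Subgroup in
/-- The normalizer of `J(S)` controls transfer. -/
theorem inf_commutator_le {G : Type*} [Group G] [Finite G] {p : ℕ} [Fact p.Prime] (hp : 7 ≤ p)
    (S : Sylow p G) :
    commutator G ⊓ (S : Subgroup G) ≤
      ⁅Subgroup.normalizer (thompsonSubgroupAOf (S : Subgroup G) : Set G),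
        Subgroup.normalizer (thompsonSubgroupAOf (S : Subgroup G) : Set G)⁆ := by
  have hW := CfsgLib.ConjFunctor.JEngel.isCharPFunctor_thompsonA (p := p)
  have hc := CfsgLib.ConjFunctor.transfer_of_goodElement hW G
    fun Y _ _ _ _ => CfsgLib.ConjFunctor.JEngel.goodElement_thompsonA hp Y
  have h := CfsgLib.ConjFunctor.inf_commutator_le_transferGen
    (CfsgLib.ConjFunctor.isConjugacyFunctor_induced_image (fun V hV => by
      rw [Set.mem_singleton_iff] at hV; subst hV; exact hW)) hc (CfsgLib.ConjFunctor.isSylowIn_top S)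
  rintro x ⟨hx, hxS⟩
  have h1 := h (Subgroup.mem_inf.mpr ⟨hxS, hx⟩)
  refine SetLike.le_def.mp (iSup₂_le ?_) h1
  rintro _ ⟨W', hW', rfl⟩
  rw [Set.mem_singleton_iff] at hW'
  subst hW'
  rw [top_inf_eq]
  exact inf_le_right

/-- Let p ≥ 7 be a prime, S a Sylow p-subgroup of the finite group G, J(S) the subgroup generated by the abelian subgroups of S of largest order and M = N_G(J(S)). Then G/O^p(G) ≅ M/O^p(M): the largest p-factor group of G is that of M (here O^p(X) is the subgroup generated by the elements of X of order prime to p). -/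
theorem result {G : Type*} [Group G] [Finite G] {p : ℕ} [Fact p.Prime]
    (hp : 7 ≤ p) (S : Sylow p G)
    [hn : (Cfsg.pResidual p G).Normal]
    [hm : (Cfsg.pResidual p ↥(Subgroup.normalizer (Cfsg.thompsonSubgroupAOf (S : Subgroup G) : Set G))).Normal] :
    Nonempty (G ⧸ Cfsg.pResidual p G ≃*
      ↥(Subgroup.normalizer (Cfsg.thompsonSubgroupAOf (S : Subgroup G) : Set G)) ⧸
        Cfsg.pResidual p ↥(Subgroup.normalizer (Cfsg.thompsonSubgroupAOf (S : Subgroup G) : Set G))) := by
  set J := Cfsg.thompsonSubgroupAOf (S : Subgroup G) with hJ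
  set M := Subgroup.normalizer (J : Set G) with hM
  have hSM : (S : Subgroup G) ≤ M := Subgroup.le_normalizer.trans
    (CfsgLib.PLocal.normalizer_le_normalizer_thompsonSubgroupAOf _)
  have ht := CfsgLib.Transfer.tate_of_focal S hSM (inf_commutator_le hp S)
  let f : ↥M →* G ⧸ Cfsg.pResidual p G := (QuotientGroup.mk' _).comp M.subtype
  have hf : Function.Surjective f := by
    intro q
    obtain ⟨g, rfl⟩ := QuotientGroup.mk_surjective q
    have hg : g ∈ (S : Subgroup G) ⊔ Cfsg.pResidual p G := by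
      rw [CfsgLib.Transfer.sylow_sup_pResidual S]; trivial
    obtain ⟨s, hs, r, hr, rfl⟩ := Subgroup.mem_sup_of_normal_right.mp hg
    refine ⟨⟨s, hSM hs⟩, QuotientGroup.eq.mpr ?_⟩
    simpa using hr
  have hker : f.ker = Cfsg.pResidual p ↥M := by
    ext x
    rw [MonoidHom.mem_ker]
    refine (QuotientGroup.eq_one_iff _).trans ⟨fun hx => ?_, fun hx => ?_⟩
    · have h2 : (x : G) ∈ M ⊓ Cfsg.pResidual p G := ⟨x.2, hx⟩
      rw [ht] at h2
      obtain ⟨y, hy, hyx⟩ := h2
      rwa [← Subtype.ext hyx]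
    · exact (ht ▸ Subgroup.mem_map_of_mem M.subtype hx :
        (x : G) ∈ M ⊓ Cfsg.pResidual p G).2
  exact ⟨((QuotientGroup.quotientMulEquivOfEq hker.symm).trans
    (QuotientGroup.quotientKerEquivOfSurjective f hf)).symm⟩

end Cfsg.Agent.S3068
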