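import Cfsg.Statements.S3069
import Cfsg.Agent.ConjFunctor.PGroupAutomizer

set_option autoImplicit false
open Cfsg

namespace Cfsg.Agent.S3069

/-- Let p ≥ 7 be a prime and S a nontrivial Sylow p-subgroup of the finite group G. If N_G(S)/C_G(S) is a p-group (every element of N_G(S) of order prime to p centralizes S), then O^p(G) < G, i.e. G has a nontrivial p-factor group. -/
theorem result {G : Type*} [Group G] [Finite G] {p : ℕ} [Fact p.Prime]
    (hp : 7 ≤ p) (S : Sylow p G) (hS : (S : Subgroup G) ≠ ⊥)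
    (hN : ∀ g ∈ Subgroup.normalizer ((S : Subgroup G) : Set G), (orderOf g).Coprime p →
      g ∈ Subgroup.centralizer ((S : Subgroup G) : Set G)) :
    Cfsg.pResidual p G ≠ ⊤ := by
  intro htop
  refine CfsgLib.ConjFunctor.not_le_commutator_of_automizer (by omega) S hS hN fun s hs => ?_
  obtain ⟨k, hk⟩ := S.2 ⟨s, hs⟩
  have hk' : s ^ p ^ k = 1 := congrArg Subtype.val hk
  have hcop : ∀ q : Abelianization G, ∃ m : ℕ, m.Coprime p ∧ q ^ m = 1 := by
    intro q
    obtain ⟨g, rfl⟩ : ∃ g, Abelianization.of g = q := QuotientGroup.mk_surjective q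
    have hg : g ∈ Cfsg.pResidual p G := htop ▸ Subgroup.mem_top g
    induction hg using Subgroup.closure_induction with
    | mem x hx =>
      exact ⟨orderOf x, hx, by rw [← map_pow, pow_orderOf_eq_one, map_one]⟩
    | one => exact ⟨1, Nat.coprime_one_left p, by simp⟩
    | mul x y _ _ h1 h2 =>
      obtain ⟨m, hm, e1⟩ := h1
      obtain ⟨m', hm', e2⟩ := h2
      refine ⟨m * m', Nat.Coprime.mul_left hm hm', ?_⟩
      rw [map_mul, mul_pow, pow_mul, e1, one_pow, one_mul, mul_comm m, pow_mul, e2, one_pow]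
    | inv x _ h =>
      obtain ⟨m, hm, e⟩ := h
      exact ⟨m, hm, by rw [map_inv, inv_pow, e, inv_one]⟩
  obtain ⟨m, hm, e⟩ := hcop (Abelianization.of s)
  refine (QuotientGroup.eq_one_iff s).mp ?_
  show Abelianization.of s = 1
  refine orderOf_eq_one_iff.mp (Nat.eq_one_of_dvd_coprimes (hm.pow_right k)
    (orderOf_dvd_of_pow_eq_one e) (orderOf_dvd_of_pow_eq_one ?_))
  rw [← map_pow, hk', map_one]

end Cfsg.Agent.S3069
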