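import Cfsg.Statements.S3070

import Cfsg.Agent.LocalEvenBasic.JThompsonFive

set_option autoImplicit false
open Cfsg

namespace Cfsg.Agent.S3070

open Subgroup CfsgLib
universe u

theorem isCharPFunctor_thompsonA (p : ℕ) [Fact p.Prime] :
    Cfsg.IsCharPFunctor.{u} p fun Q _ => Cfsg.thompsonSubgroupA Q := by
  refine ⟨fun Q _ _ _ hQ h => ?_, fun Q R _ _ _ _ φ => ?_⟩
  · obtain ⟨x, hx⟩ := exists_ne (1 : Q)
    obtain ⟨A, hA⟩ := PLocal.maxAbIn_nonempty (⊤ : Subgroup Q)
    have hle := PLocal.le_thompsonSubgroupAOf hA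
    rw [PLocal.thompsonSubgroupAOf_top, show Cfsg.thompsonSubgroupA Q = ⊥ from h, le_bot_iff] at hle
    have h1 := hA.2.2 (zpowers x) le_top inferInstance
    rw [hle, card_bot, Nat.card_zpowers] at h1
    exact hx (orderOf_eq_one_iff.1 (le_antisymm h1 (orderOf_pos x)))
  · show (Cfsg.thompsonSubgroupA Q).map φ.toMonoidHom = Cfsg.thompsonSubgroupA R
    rw [← PLocal.thompsonSubgroupAOf_top, PLocal.map_thompsonSubgroupAOf (f := φ.toMonoidHom) φ.injective,
      Subgroup.map_top_of_surjective _ φ.surjective, PLocal.thompsonSubgroupAOf_top]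

theorem normalizer_pnil {G : Type u} [Group G] [Finite G] {p : ℕ} [Fact p.Prime] (S : Sylow p G)
    (h : ∀ g ∈ normalizer (Cfsg.thompsonSubgroupAOf (S : Subgroup G) : Set G), (orderOf g).Coprime p →
      g ∈ centralizer (Cfsg.thompsonSubgroupAOf (S : Subgroup G) : Set G)) :
    Cfsg.HasNormalPComplement p
      ↥(normalizer (Cfsg.thompsonSubgroupAOf (S : Subgroup G) : Set G)) := by
  set J := Cfsg.thompsonSubgroupAOf (S : Subgroup G) with hJ
  set N := normalizer (J : Set G) with hN
  set C := centralizer (J : Set G) with hC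
  have hSN : (S : Subgroup G) ≤ N :=
    le_normalizer.trans (PLocal.normalizer_le_normalizer_thompsonSubgroupAOf _)
  haveI : (C.subgroupOf N).Normal := ⟨fun x hx n => mem_subgroupOf.2 fun z hz => by
    have hz' := (mem_normalizer_iff''.1 n.2 z).1 hz
    have h1 := mem_subgroupOf.1 hx _ hz'
    show z * ((n : G) * x * (n : G)⁻¹) = (n : G) * x * (n : G)⁻¹ * z
    calc z * ((n : G) * x * (n : G)⁻¹) = (n : G) * ((n : G)⁻¹ * z * n * x) * (n : G)⁻¹ := by group
      _ = (n : G) * (x * ((n : G)⁻¹ * z * n)) * (n : G)⁻¹ := by rw [h1]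
      _ = _ := by group⟩
  have hJmem : ∀ x ∈ (S : Subgroup G), x ∈ C → x ∈ J := by
    intro x hxS hxC
    obtain ⟨A, hA⟩ := PLocal.maxAbIn_nonempty (S : Subgroup G)
    have hAJ : A ≤ J := PLocal.le_thompsonSubgroupAOf hA
    have hxA : zpowers x ≤ centralizer (A : Set G) :=
      zpowers_le.2 fun a ha => hxC a (hAJ ha)
    have hAA : A ≤ centralizer (A : Set G) := le_centralizer_iff_isMulCommutative.2 hA.2.1
    have hD : IsMulCommutative ↥(A ⊔ zpowers x) :=
      le_centralizer_iff_isMulCommutative.1 (le_centralizer_iff.1 (sup_le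
        (le_centralizer_iff.1 (sup_le hAA hxA))
        (le_centralizer_iff.1 (sup_le (le_centralizer_iff.1 hxA)
          (le_centralizer_iff_isMulCommutative.2 inferInstance)))))
    have hle := hA.2.2 _ (sup_le hA.1 (zpowers_le.2 hxS)) hD
    refine hAJ ?_
    rw [eq_of_le_of_card_ge le_sup_left hle]
    exact mem_sup_right (mem_zpowers x)
  obtain ⟨T, hT⟩ := UniqueMaximal.exists_sylow_map_eq_inf (C.subgroupOf N) (S.subtype hSN)
  refine LocalEvenBasic.hasNormalPComplement_of_coprime_mem (C.subgroupOf N)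
    ⟨T, _, inferInstance, MonoidHom.ker_transferSylow_isComplement' T fun m _ z hz => ?_⟩
    fun g hg => h g g.2 (by rwa [orderOf_coe])
  have hz' : ((z : N) : N) ∈ ((S.subtype hSN : Sylow p N) : Subgroup N) ⊓ C.subgroupOf N :=
    hT ▸ mem_map_of_mem _ hz
  have h1 : ((z : N) : G) ∈ J := hJmem _ hz'.1 hz'.2
  exact Subtype.ext (Subtype.ext (m.2 _ h1))

/-- Let p ≥ 5 be a prime, S a Sylow p-subgroup of the finite group G and J(S) the subgroup generated by the abelian subgroups of S of largest order. Then G has a normal p-complement if and only if N_G(J(S))/C_G(J(S)) is a p-group (every element of N_G(J(S)) of order prime to p centralizes J(S)). -/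
theorem result {G : Type*} [Group G] [Finite G] {p : ℕ} [Fact p.Prime]
    (hp : 5 ≤ p) (S : Sylow p G) :
    Cfsg.HasNormalPComplement p G ↔
      ∀ g ∈ Subgroup.normalizer (Cfsg.thompsonSubgroupAOf (S : Subgroup G) : Set G), (orderOf g).Coprime p →
        g ∈ Subgroup.centralizer (Cfsg.thompsonSubgroupAOf (S : Subgroup G) : Set G) := by
  constructor
  · intro h g hg hgc
    exact LocalEvenBasic.mem_centralizer_of_hasNormalPComplement h
      (S.isPGroup'.to_le (PLocal.thompsonSubgroupAOf_le _)) hg hgc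
  · intro h
    refine ConjFunctor.hasNormalPComplement_of_functor (isCharPFunctor_thompsonA p) S
      (normalizer_pnil S h) fun G' _ _ S' hcrit => ?_
    refine ConjFunctor.not_normal_of_critical hcrit ?_
    show (Cfsg.thompsonSubgroupAOf (S' : Subgroup G')).Normal
    have hle : Cfsg.thompsonSubgroupAOf (S' : Subgroup G') ≤ Cfsg.pCore p G' := by
      rw [PLocal.thompsonSubgroupAOf_eq]
      refine sSup_le fun A hA => ?_
      haveI := hA.2.1
      exact LocalEvenBasic.maxAbelian_le_pCore hp S' hcrit.constrained hcrit.quotient hcrit.abelian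
        hcrit.coatom hA.1 hA.2.2
    rw [← PLocal.thompsonSubgroupAOf_eq_of_le (PLocal.pCore_le_sylow S') hle]
    refine normalizer_eq_top_iff.1 (top_le_iff.1 ?_)
    rw [← normalizer_eq_top (H := Cfsg.pCore p G')]
    exact PLocal.normalizer_le_normalizer_thompsonSubgroupAOf _

end Cfsg.Agent.S3070
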