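import Cfsg.Statements.S3072
import Cfsg.Agent.AlperinGoldschmidt.Strong

set_option autoImplicit false
open Cfsg

namespace Cfsg.Agent.S3072

/-- A strong form of the Alperin–Goldschmidt fusion Theorem. Let P be a Sylow p-subgroup of the finite group G, A a subset of P containing a nonidentity element, and g an element with g⁻¹Ag ⊆ P. Then g = c·x₁⋯xₙ·y with c ∈ C_G(A), y ∈ N_G(P) and, for each i, an element xᵢ and a subgroup Hᵢ ≤ P such that: N_P(Hᵢ) is a Sylow p-subgroup of N_G(Hᵢ); C_P(Hᵢ) ≤ Hᵢ; O_{p',p}(N_G(Hᵢ)) = Hᵢ·C_G(Hᵢ); the Sylow p-subgroups of N_G(Hᵢ)/Hᵢ are not chain-connected through nontrivial intersections (the quotient has a strongly p-embedded subgroup); xᵢ lies in O^p(Xᵢ), where Xᵢ/Hᵢ is the smallest normal subgroup of N_G(Hᵢ)/Hᵢ of order divisible by p; and (x₁⋯xᵢ₋₁)⁻¹A(x₁⋯xᵢ₋₁) ⊆ Hᵢ. -/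
theorem result {G : Type*} [Group G] [Finite G] {p : ℕ} [Fact p.Prime]
    (P : Sylow p G) (A : Set G) (hA : A ⊆ (P : Set G)) (hA1 : ∃ a ∈ A, a ≠ 1)
    (g : G) (hAg : (fun a => g⁻¹ * a * g) '' A ⊆ (P : Set G)) :
    ∃ (n : ℕ) (H X : Fin n → Subgroup G) (x : Fin n → G) (c y : G),
      c ∈ Subgroup.centralizer A ∧ y ∈ Subgroup.normalizer ((P : Subgroup G) : Set G) ∧
      g = c * (List.ofFn x).prod * y ∧
      ∀ i : Fin n,
        H i ≤ (P : Subgroup G) ∧
        ¬ p ∣ ((P : Subgroup G) ⊓ Subgroup.normalizer (H i : Set G)).relIndex (Subgroup.normalizer (H i : Set G)) ∧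
        (P : Subgroup G) ⊓ Subgroup.centralizer (H i : Set G) ≤ H i ∧
        (Cfsg.pPrimePCore p ↥(Subgroup.normalizer (H i : Set G))).map (Subgroup.normalizer (H i : Set G)).subtype =
          H i ⊔ Subgroup.centralizer (H i : Set G) ∧
        ¬ Cfsg.IsSylowChainConnected p
            (↥(Subgroup.normalizer (H i : Set G)) ⧸ (H i).subgroupOf (Subgroup.normalizer (H i : Set G))) ∧
        (H i ≤ X i ∧ X i ≤ Subgroup.normalizer (H i : Set G) ∧
          ((X i).subgroupOf (Subgroup.normalizer (H i : Set G))).Normal ∧ p ∣ (H i).relIndex (X i) ∧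
          ∀ Y : Subgroup G, H i ≤ Y → Y ≤ Subgroup.normalizer (H i : Set G) →
            (Y.subgroupOf (Subgroup.normalizer (H i : Set G))).Normal → p ∣ (H i).relIndex Y → X i ≤ Y) ∧
        x i ∈ (Cfsg.pResidual p ↥(X i)).map (X i).subtype ∧
        (fun a => (((List.ofFn x).take i.val).prod)⁻¹ * a * ((List.ofFn x).take i.val).prod) '' A ⊆ (H i : Set G) := by
  have key : ∀ {A : Set G} {g : G}, CfsgLib.AlperinGoldschmidt.SChain P A g →
      ∃ (n : ℕ) (H X : Fin n → Subgroup G) (x : Fin n → G) (c y : G),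
        c ∈ Subgroup.centralizer A ∧ y ∈ Subgroup.normalizer ((P : Subgroup G) : Set G) ∧
        g = c * (List.ofFn x).prod * y ∧
        ∀ i : Fin n, CfsgLib.AlperinGoldschmidt.IsStep P (H i) (X i) (x i) ∧
          (fun a => (((List.ofFn x).take i.val).prod)⁻¹ * a * ((List.ofFn x).take i.val).prod) '' A
            ⊆ (H i : Set G) := by
    intro A g h
    induction h with
    | nil A c y hA hc hy =>
      exact ⟨0, Fin.elim0, Fin.elim0, Fin.elim0, c, y, hc, hy, by simp, fun i => i.elim0⟩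
    | cons A H X x g hH hA _ ih =>
      obtain ⟨n, Hs, Xs, xs, c, y, hc, hy, rfl, hs⟩ := ih
      refine ⟨n + 1, Fin.cons H Hs, Fin.cons X Xs, Fin.cons x xs, x * c * x⁻¹, y, ?_, hy, ?_, ?_⟩
      · refine Subgroup.mem_centralizer_iff.2 fun a ha => ?_
        have h1 := Subgroup.mem_centralizer_iff.1 hc _ ⟨a, ha, rfl⟩
        calc a * (x * c * x⁻¹) = x * (x⁻¹ * a * x * c) * x⁻¹ := by group
          _ = x * (c * (x⁻¹ * a * x)) * x⁻¹ := by rw [h1]
          _ = x * c * x⁻¹ * a := by group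
      · rw [List.ofFn_succ, List.prod_cons]
        simp only [Fin.cons_zero, Fin.cons_succ]
        group
      · intro i
        induction i using Fin.cases with
        | zero =>
          refine ⟨by simpa using hH, ?_⟩
          simpa using hA
        | succ j =>
          refine ⟨by simpa using (hs j).1, ?_⟩
          rw [List.ofFn_succ]
          simp only [Fin.val_succ, List.take_succ_cons, List.prod_cons, Fin.cons_zero, Fin.cons_succ]
          rintro _ ⟨a, ha, rfl⟩
          have h1 := (hs j).2 ⟨x⁻¹ * a * x, ⟨a, ha, rfl⟩, rfl⟩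
          simpa [mul_assoc] using h1
  obtain ⟨n, H, X, x, c, y, hc, hy, hg, hs⟩ :=
    key (CfsgLib.AlperinGoldschmidt.exists_schain hA hAg)
  exact ⟨n, H, X, x, c, y, hc, hy, hg, fun i =>
    ⟨(hs i).1.le, (hs i).1.sylow, (hs i).1.centric, (hs i).1.core, (hs i).1.disc, (hs i).1.least,
      (hs i).1.mem, (hs i).2⟩⟩

end Cfsg.Agent.S3072
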