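import Cfsg.Statements.S3073

import Cfsg.Agent.LocalEvenBasic.DecidingSubgroup

set_option autoImplicit false
universe u
open Cfsg

namespace Cfsg.Agent.S3073

open CfsgLib.LocalEvenBasic

/-- For an odd prime p, every finite p-group S has a characteristic subgroup K with C_S(K) ≤ K such that, whenever S is (isomorphic to) a Sylow p-subgroup of a finite group G, G has a normal p-complement if and only if N_G(K)/C_G(K) is a p-group, i.e. every element of N_G(K) of order prime to p centralizes K (K transported into G along the isomorphism). -/
theorem result (p : ℕ) [Fact p.Prime] (hp : p ≠ 2)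
    (S : Type u) [Group S] [Finite S] (hS : IsPGroup p S) :
    ∃ K : Subgroup S, K.Characteristic ∧ Subgroup.centralizer (K : Set S) ≤ K ∧
      ∀ (G : Type u) [Group G] [Finite G] (P : Sylow p G) (e : ↥(P : Subgroup G) ≃* S),
        Cfsg.HasNormalPComplement p G ↔
          ∀ g ∈ Subgroup.normalizer (((K.comap (e : ↥(P : Subgroup G) →* S)).map (P : Subgroup G).subtype : Subgroup G) : Set G),
            (orderOf g).Coprime p →
              g ∈ Subgroup.centralizer (((K.comap (e : ↥(P : Subgroup G) →* S)).map (P : Subgroup G).subtype : Subgroup G) : Set G) := by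
  obtain ⟨K, hK1, hK2, hK3⟩ := exists_deciding hp S hS
  refine ⟨K, hK1, hK2, fun G _ _ P e => ?_⟩
  set ι : S →* G := (P : Subgroup G).subtype.comp e.symm.toMonoidHom with hι
  have hmap : (K.comap (e : ↥(P : Subgroup G) →* S)).map (P : Subgroup G).subtype = K.map ι := by
    rw [hι, ← Subgroup.map_map]
    exact congrArg _ (Subgroup.comap_equiv_eq_map_symm e K)
  rw [hmap]
  have hinj : Function.Injective ι := Subtype.val_injective.comp e.symm.injective
  have hr : ι.range = (P : Subgroup G) := by
    rw [hι, MonoidHom.range_comp, MonoidHom.range_eq_top.2 e.symm.surjective, ← MonoidHom.range_eq_map,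
      Subgroup.range_subtype]
  refine ⟨fun h g hg hgc => mem_centralizer_of_hasNormalPComplement h ?_ hg hgc,
    fun h => hK3 G ι hinj P hr h⟩
  exact (hS.to_subgroup K).map ι

end Cfsg.Agent.S3073
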