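import Cfsg.Statements.S3074

import Cfsg.Agent.QdPerm.Basic
import Cfsg.Agent.S3799
import Cfsg.Agent.Linear.SylowChar

set_option autoImplicit false
open Cfsg

namespace Cfsg.Agent.S3074

open Subgroup Cfsg.Agent.S3799 CfsgLib.QdPerm
open scoped commutatorElement

theorem IsExtraspecial.of_equiv' {A B : Type*} [Group A] [Group B] [Finite A] {p : ℕ} [Fact p.Prime]
    (e : A ≃* B) (hexp : ∀ x : A, x ^ p = 1) (hcen : Nat.card (Subgroup.center A) = p)
    (hcomm : ∀ x y : A, ⁅x, y⁆ ∈ Subgroup.center A) (hna : ∃ x y : A, ¬ Commute x y) :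
    Cfsg.IsExtraspecial p B := by
  haveI : Finite B := Finite.of_equiv A e.toEquiv
  have hc : ∀ a : A, a ∈ Subgroup.center A ↔ e a ∈ Subgroup.center B := fun a => by
    simp only [Subgroup.mem_center_iff]
    refine ⟨fun h b => ?_, fun h b => e.injective (by simpa using h (e b))⟩
    rw [← e.apply_symm_apply b, ← map_mul, ← map_mul, h]
  refine extraspecial_of_exponent ?_ ?_ ?_ ?_
  · intro x
    apply e.symm.injective
    rw [map_pow, map_one, hexp]
  · rw [← hcen]
    exact (Nat.card_congr (Equiv.subtypeEquiv e.toEquiv hc)).symm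
  · intro x y
    have h := (hc _).mp (hcomm (e.symm x) (e.symm y))
    simpa [commutatorElement_def] using h
  · obtain ⟨x, y, h⟩ := hna
    exact ⟨e x, e y, fun hxy => h (e.injective (by simpa using hxy.eq))⟩

open scoped commutatorElement

/-- The upper unitriangular matrices inside `Qd(p)`. -/
def heisToQd (p : ℕ) [Fact p.Prime] : Heis (ZMod p) 1 →* ↥(Cfsg.qd p) where
  toFun x := ⟨CfsgLib.QdPerm.mk 1 (x.a 0) 0 1 x.c (x.b 0) (by ring), by
    rw [qd_eq]; exact mk_mem ..⟩
  map_one' := by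
    apply Subtype.ext; apply Subtype.ext
    ext i j
    fin_cases i <;> fin_cases j <;> simp [CfsgLib.QdPerm.mk, one_def]
  map_mul' x y := by
    apply Subtype.ext
    refine Eq.trans ?_ (mk_mul 1 (x.a 0) 0 1 x.c (x.b 0) (by ring) 1 (y.a 0) 0 1 y.c (y.b 0) (by ring)).symm
    refine mk_congr (h := by ring) ?_ ?_ ?_ ?_ ?_ ?_ <;> simp [mul_def] <;> ring

theorem heisToQd_injective (p : ℕ) [Fact p.Prime] : Function.Injective (heisToQd p) := by
  intro x y h
  have h1 := congrArg (fun M : ↥(Cfsg.qd p) => (M.1.1 : Matrix (Fin 3) (Fin 3) (ZMod p))) h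
  ext k
  · have := congrFun (congrFun h1 0) 1
    simpa [heisToQd, CfsgLib.QdPerm.mk, Subsingleton.elim k 0] using this
  · have := congrFun (congrFun h1 1) 2
    simpa [heisToQd, CfsgLib.QdPerm.mk, Subsingleton.elim k 0] using this
  · have := congrFun (congrFun h1 0) 2
    simpa [heisToQd, CfsgLib.QdPerm.mk] using this

/-- Let p be an odd prime. A Sylow p-subgroup of Qd(p), the split extension of an elementary abelian group of order p² by SL₂(p) acting naturally, is extraspecial of order p³ and exponent p. -/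
theorem result (p : ℕ) [Fact p.Prime] (hp : p ≠ 2) (P : Sylow p ↥(Cfsg.qd p)) :
    Cfsg.IsExtraspecial p ↥P ∧ Nat.card P = p ^ 3 ∧ Monoid.exponent ↥P = p := by
  classical
  haveI : Finite (Heis (ZMod p) 1) := Finite.of_equiv _ heisEquiv.symm
  have hcard : Nat.card (Heis (ZMod p) 1) = p ^ 3 := by
    rw [Nat.card_congr heisEquiv]
    simp [Nat.card_prod, Nat.card_fun]
    ring
  have hexp : ∀ x : Heis (ZMod p) 1, x ^ p = 1 := by
    intro x
    have h2 : p ∣ p.choose 2 := (Fact.out : p.Prime).dvd_choose_self (by norm_num)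
      (lt_of_le_of_ne (Fact.out : p.Prime).two_le (fun h => hp h.symm))
    rw [pow_formula, one_def, (ZMod.natCast_eq_zero_iff _ _).2 h2]
    ext <;> simp
  have hcen : Nat.card (Subgroup.center (Heis (ZMod p) 1)) = p := by
    have e : Subgroup.center (Heis (ZMod p) 1) ≃ ZMod p :=
      { toFun := fun z => z.1.c
        invFun := fun c => ⟨⟨0, 0, c⟩, (mem_center_iff' _).mpr ⟨rfl, rfl⟩⟩
        left_inv := fun z => by
          obtain ⟨ha, hb⟩ := (mem_center_iff' z.1).mp z.2
          apply Subtype.ext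
          ext k
          · simp [ha]
          · simp [hb]
          · rfl
        right_inv := fun c => rfl }
    rw [Nat.card_congr e, Nat.card_zmod]
  have hna : ∃ x y : Heis (ZMod p) 1, ¬ Commute x y := by
    refine ⟨⟨fun _ => 1, 0, 0⟩, ⟨0, fun _ => 1, 0⟩, fun h => ?_⟩
    simpa using (commute_iff _ _).mp h
  set U := (heisToQd p).range with hU
  have hUcard : Nat.card U = p ^ 3 := by
    rw [← Nat.card_congr (MonoidHom.ofInjective (heisToQd_injective p)).toEquiv, hcard]
  obtain ⟨P₀, hP₀⟩ := (IsPGroup.of_card hUcard : IsPGroup p U).exists_le_sylow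
  have hle : Nat.card P₀ ≤ p ^ 3 := by
    let ι : ↥(P₀ : Subgroup ↥(Cfsg.qd p)) →* GL (Fin 3) (ZMod p) :=
      Matrix.SpecialLinearGroup.toGL.comp ((Cfsg.qd p).subtype.comp (P₀ : Subgroup ↥(Cfsg.qd p)).subtype)
    have hι : Function.Injective ι :=
      Matrix.SpecialLinearGroup.toGL_injective.comp ((Cfsg.qd p).subtype_injective.comp
        (P₀ : Subgroup ↥(Cfsg.qd p)).subtype_injective)
    obtain ⟨T, hT⟩ := (P₀.isPGroup'.of_surjective ι.rangeRestrict ι.rangeRestrict_surjective).exists_le_sylow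
    have h1 := Subgroup.card_le_of_le hT
    rw [← Nat.card_congr (MonoidHom.ofInjective hι).toEquiv] at h1
    refine h1.trans (le_of_eq ?_)
    have h2 := CfsgLib.Linear.card_sylow_GL (F := ZMod p) p (n := Fin 3) T
    simpa [ZMod.card] using h2
  have hP₀eq : (P₀ : Subgroup ↥(Cfsg.qd p)) = U :=
    (eq_of_le_of_card_ge hP₀ (hUcard ▸ hle)).symm
  have eUP : Heis (ZMod p) 1 ≃* ↥(P : Subgroup ↥(Cfsg.qd p)) :=
    (MonoidHom.ofInjective (heisToQd_injective p)).trans
      ((MulEquiv.subgroupCongr hP₀eq.symm).trans (P₀.equiv P))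
  have hexpP : ∀ x : ↥(P : Subgroup ↥(Cfsg.qd p)), x ^ p = 1 := fun x => by
    apply eUP.symm.injective
    rw [map_pow, map_one, hexp]
  have hcardP : Nat.card ↥(P : Subgroup ↥(Cfsg.qd p)) = p ^ 3 := by
    rw [← Nat.card_congr eUP.toEquiv, hcard]
  refine ⟨IsExtraspecial.of_equiv' eUP hexp hcen commutator_center hna, hcardP, ?_⟩
  have hdvd : Monoid.exponent ↥(P : Subgroup ↥(Cfsg.qd p)) ∣ p := Monoid.exponent_dvd_of_forall_pow_eq_one hexpP
  refine ((Fact.out : p.Prime).eq_one_or_self_of_dvd _ hdvd).resolve_left fun h1 => ?_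
  haveI := Monoid.exp_eq_one_iff.mp h1
  have h3 : Nat.card ↥(P : Subgroup ↥(Cfsg.qd p)) = 1 := Nat.card_of_subsingleton 1
  rw [hcardP] at h3
  exact (Fact.out : p.Prime).ne_one (by simpa using h3)

end Cfsg.Agent.S3074
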