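import Cfsg.Statements.S3075

import Mathlib

set_option autoImplicit false
open Cfsg

namespace Cfsg.Agent.S3075

open Subgroup
open scoped commutatorElement

/-- Let p be an odd prime and N a finite group with a normal elementary abelian subgroup A of order p² that is its own centralizer in N, such that N/A is isomorphic to SL₂(p) (over any field F with p elements). Then N splits over A: some subgroup U of N satisfies A ∩ U = 1 and AU = N. -/
theorem result {N : Type*} [Group N] [Finite N] {p : ℕ} [Fact p.Prime] (hp : p ≠ 2)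
    (A : Subgroup N) [A.Normal] (hAcomm : IsMulCommutative A) (hAcard : Nat.card A = p ^ 2) (hAexp : Monoid.exponent ↥A = p)
    (hAself : Subgroup.centralizer (A : Set N) = A)
    {F : Type*} [Field F] [Fintype F] (hF : Fintype.card F = p) (e : N ⧸ A ≃* Matrix.SpecialLinearGroup (Fin 2) F) :
    ∃ U : Subgroup N, A ⊓ U = ⊥ ∧ A ⊔ U = ⊤ := by
  classical
  obtain ⟨k, hk⟩ : ∃ k, p = 2 * k + 1 :=
    (Nat.Prime.odd_of_ne_two Fact.out hp)
  have hApow : ∀ a ∈ A, a ^ p = 1 := by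
    intro a ha
    have := Monoid.pow_exponent_eq_one (⟨a, ha⟩ : ↥A)
    rw [hAexp] at this
    simpa using congrArg Subtype.val this
  have hsq : ∀ a ∈ A, a * a = 1 → a = 1 := by
    intro a ha h2
    have := hApow a ha
    rw [hk, pow_succ, pow_mul, pow_two, h2, one_pow, one_mul] at this
    exact this
  have hAc : ∀ {a b : N}, a ∈ A → b ∈ A → a * b = b * a := fun {a b} ha hb => by
    haveI := hAcomm
    simpa using congrArg Subtype.val (mul_comm' (⟨a, ha⟩ : A) ⟨b, hb⟩)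
  have hAn : ∀ {a : N}, a ∈ A → ∀ g : N, g * a * g⁻¹ ∈ A := fun ha g => Subgroup.Normal.conj_mem inferInstance _ ha g
  have hFne : (-1 : F) ≠ 1 := by
    intro h
    have h2 : (2 : F) = 0 := by linear_combination -h
    obtain ⟨q, hq⟩ := CharP.exists F
    have hqp : q.Prime := CharP.char_is_prime F q
    have h3 : q ∣ 2 := (CharP.cast_eq_zero_iff F q 2).mp (by exact_mod_cast h2)
    have h4 : q = 2 := (Nat.prime_dvd_prime_iff_eq hqp Nat.prime_two).mp h3
    obtain ⟨n, -, hn⟩ := FiniteField.card F q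
    rw [hF, h4] at hn
    exact hp ((Nat.prime_dvd_prime_iff_eq Nat.prime_two Fact.out).mp (hn ▸ dvd_pow_self 2 n.ne_zero)).symm
  set π := QuotientGroup.mk' A with hπ
  obtain ⟨t₀, ht₀⟩ := QuotientGroup.mk'_surjective A (e.symm (-1))
  set t := t₀ ^ p with ht
  have hneg : ∀ M : Matrix.SpecialLinearGroup (Fin 2) F, -1 * M = M * -1 := fun M => by
    apply Subtype.ext; simp
  have hnegsq : (-1 : Matrix.SpecialLinearGroup (Fin 2) F) ^ 2 = 1 := by
    apply Subtype.ext; simp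
  have hte : e (π t) = -1 := by
    rw [ht, map_pow, map_pow, hπ, ht₀, MulEquiv.apply_symm_apply, hk, pow_succ, pow_mul, hnegsq]
    simp
  have htA : t ∉ A := fun h => by
    have h1 : π t = 1 := (QuotientGroup.eq_one_iff t).mpr h
    rw [h1, map_one] at hte
    have h2 := congrArg (fun M : Matrix.SpecialLinearGroup (Fin 2) F => (M : Matrix (Fin 2) (Fin 2) F) 0 0) hte
    simp at h2
    exact hFne h2.symm
  have ht2 : t * t = 1 := by
    have h0 : t₀ ^ 2 ∈ A := by
      rw [← QuotientGroup.eq_one_iff]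
      show π (t₀ ^ 2) = 1
      apply e.injective
      rw [map_pow, hπ, ht₀, map_pow, MulEquiv.apply_symm_apply, hnegsq, map_one]
    rw [ht, ← pow_two, ← pow_mul, mul_comm, pow_mul]
    exact hApow _ h0
  have htinv : t⁻¹ = t := inv_eq_of_mul_eq_one_right ht2
  have hcomm : ∀ g : N, t * g * t⁻¹ * g⁻¹ ∈ A := by
    intro g
    rw [← QuotientGroup.eq_one_iff]
    show π (t * g * t⁻¹ * g⁻¹) = 1
    apply e.injective
    simp only [map_mul, map_inv, map_one, hte]
    rw [hneg (e (π g))]; group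
  have hconj : ∀ g : N, ∀ a ∈ A, t * (g * a * g⁻¹) * t⁻¹ = g * (t * a * t⁻¹) * g⁻¹ := by
    intro g a ha
    have hb : g * (t * a * t⁻¹) * g⁻¹ ∈ A := hAn (hAn ha t) g
    calc t * (g * a * g⁻¹) * t⁻¹
        = (t * g * t⁻¹ * g⁻¹) * (g * (t * a * t⁻¹) * g⁻¹) * (t * g * t⁻¹ * g⁻¹)⁻¹ := by group
      _ = (g * (t * a * t⁻¹) * g⁻¹) * (t * g * t⁻¹ * g⁻¹) * (t * g * t⁻¹ * g⁻¹)⁻¹ := by
          rw [hAc (hcomm g) hb]
      _ = _ := by group
  -- the eigengroups of t on A
  let Ap : Subgroup N :=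
    { carrier := {a : N | a ∈ A ∧ t * a * t⁻¹ = a}
      one_mem' := ⟨A.one_mem, by group⟩
      mul_mem' := fun {a b} ha hb => ⟨A.mul_mem ha.1 hb.1, by
        calc t * (a * b) * t⁻¹ = (t * a * t⁻¹) * (t * b * t⁻¹) := by group
          _ = a * b := by rw [ha.2, hb.2]⟩
      inv_mem' := fun {a} ha => ⟨A.inv_mem ha.1, by
        calc t * a⁻¹ * t⁻¹ = (t * a * t⁻¹)⁻¹ := by group
          _ = a⁻¹ := by rw [ha.2]⟩ }
  let Am : Subgroup N :=
    { carrier := {a : N | a ∈ A ∧ t * a * t⁻¹ = a⁻¹}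
      one_mem' := ⟨A.one_mem, by group⟩
      mul_mem' := fun {a b} ha hb => ⟨A.mul_mem ha.1 hb.1, by
        calc t * (a * b) * t⁻¹ = (t * a * t⁻¹) * (t * b * t⁻¹) := by group
          _ = (a * b)⁻¹ := by rw [ha.2, hb.2, mul_inv_rev, hAc (A.inv_mem ha.1) (A.inv_mem hb.1)]⟩
      inv_mem' := fun {a} ha => ⟨A.inv_mem ha.1, by
        calc t * a⁻¹ * t⁻¹ = (t * a * t⁻¹)⁻¹ := by group
          _ = a⁻¹⁻¹ := by rw [ha.2]⟩ }
  have hsplit : ∀ a ∈ A, a * (t * a * t⁻¹) ∈ Ap ∧ a * (t * a * t⁻¹)⁻¹ ∈ Am := by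
    intro a ha
    have hb : t * a * t⁻¹ ∈ A := hAn ha t
    have h1 : t * (t * a * t⁻¹) * t⁻¹ = a := by
      rw [htinv]
      calc t * (t * a * t) * t = (t * t) * a * (t * t) := by group
        _ = a := by rw [ht2]; group
    constructor
    · refine ⟨A.mul_mem ha hb, ?_⟩
      calc t * (a * (t * a * t⁻¹)) * t⁻¹ = (t * a * t⁻¹) * (t * (t * a * t⁻¹) * t⁻¹) := by group
        _ = (t * a * t⁻¹) * a := by rw [h1]
        _ = _ := hAc hb ha
    · refine ⟨A.mul_mem ha (A.inv_mem hb), ?_⟩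
      calc t * (a * (t * a * t⁻¹)⁻¹) * t⁻¹ = (t * a * t⁻¹) * (t * (t * a * t⁻¹) * t⁻¹)⁻¹ := by group
        _ = (t * a * t⁻¹) * a⁻¹ := by rw [h1]
        _ = _ := by group
  have hinv : ∀ a ∈ A, t * a * t⁻¹ = a⁻¹ := by
    by_contra hcon
    push Not at hcon
    obtain ⟨a₀, ha₀, hna₀⟩ := hcon
    have hpne : Ap ≠ ⊥ := by
      intro h
      apply hna₀
      have h1 := (hsplit a₀ ha₀).1
      rw [h, mem_bot] at h1
      exact eq_inv_of_mul_eq_one_right h1
    have hmne : Am ≠ ⊥ := by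
      intro h
      apply htA
      rw [← hAself]
      refine mem_centralizer_iff.mpr fun a ha => ?_
      have h1 := (hsplit a ha).2
      rw [h, mem_bot] at h1
      have h2 : t * a * t⁻¹ = a := (mul_inv_eq_one.mp h1).symm
      exact (mul_inv_eq_iff_eq_mul.mp h2).symm
    have hdisj : Ap ⊓ Am = ⊥ := by
      rw [eq_bot_iff]
      intro a ha
      refine mem_bot.mpr (hsq a ha.1.1 ?_)
      have h1 : a = a⁻¹ := ha.1.2.symm.trans ha.2.2
      exact (congrArg (a * ·) h1).trans (mul_inv_cancel a)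
    have hne : ∀ E : Subgroup N, E ≤ A → E ≠ ⊥ → E ≠ A → IsCyclic E := by
      intro E hE h1 h2
      obtain ⟨i, hi, hcard⟩ := (Nat.dvd_prime_pow Fact.out).mp (hAcard ▸ card_dvd_of_le hE)
      interval_cases i
      · exact absurd (card_eq_one.mp (by simpa using hcard)) h1
      · exact isCyclic_of_prime_card (p := p) (by simpa using hcard)
      · exact absurd (eq_of_le_of_card_ge hE (by rw [hcard, hAcard])) h2
    have hpA : Ap ≤ A := fun a ha => ha.1
    have hmA : Am ≤ A := fun a ha => ha.1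
    have hcp := hne Ap hpA hpne (fun h => hmne (le_bot_iff.mp (hdisj ▸ le_inf (h ▸ hmA) le_rfl)))
    have hcm := hne Am hmA hmne (fun h => hpne (le_bot_iff.mp (hdisj ▸ le_inf le_rfl (h ▸ hpA))))
    have hinvp : ∀ g : N, ∀ a ∈ Ap, g * a * g⁻¹ ∈ Ap := fun g a ha =>
      ⟨hAn ha.1 g, by rw [hconj g a ha.1, ha.2]⟩
    have hinvm : ∀ g : N, ∀ a ∈ Am, g * a * g⁻¹ ∈ Am := fun g a ha =>
      ⟨hAn ha.1 g, by rw [hconj g a ha.1, ha.2]; group⟩
    have hkill : ∀ E : Subgroup N, IsCyclic E → (∀ g : N, ∀ a ∈ E, g * a * g⁻¹ ∈ E) →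
        ∀ g h : N, ∀ a ∈ E, g * h * a * (g * h)⁻¹ = h * g * a * (h * g)⁻¹ := by
      intro E hE hE' g h a ha
      obtain ⟨c, hc⟩ := IsCyclic.exists_generator (α := E)
      have hpow : ∀ g : N, ∃ i : ℤ, ∀ a ∈ E, g * a * g⁻¹ = a ^ i := by
        intro g
        obtain ⟨i, hi⟩ := mem_zpowers_iff.mp (hc ⟨_, hE' g c c.2⟩)
        refine ⟨i, fun a ha => ?_⟩
        obtain ⟨j, hj⟩ := mem_zpowers_iff.mp (hc ⟨a, ha⟩)
        have hj' : (c : N) ^ j = a := by simpa using congrArg Subtype.val hj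
        have hi' : (c : N) ^ i = g * c * g⁻¹ := by simpa using congrArg Subtype.val hi
        rw [← hj', ← conj_zpow, ← hi', ← zpow_mul, ← zpow_mul, mul_comm]
      obtain ⟨i, hi⟩ := hpow g
      obtain ⟨j, hj⟩ := hpow h
      calc g * h * a * (g * h)⁻¹ = g * (h * a * h⁻¹) * g⁻¹ := by group
        _ = (a ^ j) ^ i := by rw [hj a ha, hi _ (E.zpow_mem ha j)]
        _ = (a ^ i) ^ j := by rw [← zpow_mul, ← zpow_mul, mul_comm]
        _ = h * (g * a * g⁻¹) * h⁻¹ := by rw [hi a ha, hj _ (E.zpow_mem ha i)]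
        _ = _ := by group
    have hab : ∀ g h : N, (h * g)⁻¹ * (g * h) ∈ A := by
      intro g h
      rw [← hAself]
      set u := (h * g)⁻¹ * (g * h) with hu
      have hfixE : ∀ E : Subgroup N, IsCyclic E → (∀ g : N, ∀ a ∈ E, g * a * g⁻¹ ∈ E) →
          ∀ a ∈ E, u * a * u⁻¹ = a := by
        intro E h1 h2 a ha
        calc u * a * u⁻¹ = (h * g)⁻¹ * (g * h * a * (g * h)⁻¹) * (h * g) := by rw [hu]; group
          _ = (h * g)⁻¹ * (h * g * a * (h * g)⁻¹) * (h * g) := by rw [hkill E h1 h2 g h a ha]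
          _ = a := by group
      refine mem_centralizer_iff.mpr fun a ha => ?_
      obtain ⟨h1, h2⟩ := hsplit a ha
      have hb : t * a * t⁻¹ ∈ A := hAn ha t
      have haa : u * (a * a) * u⁻¹ = a * a := by
        have e1 : a * a = (a * (t * a * t⁻¹)) * (a * (t * a * t⁻¹)⁻¹) := by
          calc a * a = a * ((t * a * t⁻¹) * a) * (t * a * t⁻¹)⁻¹ := by
                rw [hAc hb ha]; group
            _ = _ := by group
        rw [e1]
        calc u * ((a * (t * a * t⁻¹)) * (a * (t * a * t⁻¹)⁻¹)) * u⁻¹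
            = (u * (a * (t * a * t⁻¹)) * u⁻¹) * (u * (a * (t * a * t⁻¹)⁻¹) * u⁻¹) := by group
          _ = _ := by rw [hfixE Ap hcp hinvp _ h1, hfixE Am hcm hinvm _ h2]
      have hd : u * a * u⁻¹ * a⁻¹ = 1 := by
        refine hsq _ (A.mul_mem (hAn ha u) (A.inv_mem ha)) ?_
        have hc := hAc (A.inv_mem ha) (hAn ha u)
        calc (u * a * u⁻¹ * a⁻¹) * (u * a * u⁻¹ * a⁻¹)
            = u * a * u⁻¹ * (a⁻¹ * (u * a * u⁻¹)) * a⁻¹ := by group
          _ = u * a * u⁻¹ * ((u * a * u⁻¹) * a⁻¹) * a⁻¹ := by rw [hc]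
          _ = (u * (a * a) * u⁻¹) * (a * a)⁻¹ := by group
          _ = 1 := by rw [haa, mul_inv_cancel]
      exact (mul_inv_eq_iff_eq_mul.mp (mul_inv_eq_one.mp hd)).symm
    have hcommSL : ∀ x y : Matrix.SpecialLinearGroup (Fin 2) F, x * y = y * x := by
      intro x y
      obtain ⟨g, hg⟩ := QuotientGroup.mk'_surjective A (e.symm x)
      obtain ⟨h, hh⟩ := QuotientGroup.mk'_surjective A (e.symm y)
      have : π (h * g) = π (g * h) := QuotientGroup.eq.mpr (hab g h)
      apply e.symm.injective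
      rw [map_mul, map_mul, ← hg, ← hh, ← map_mul, ← map_mul]
      exact this.symm
    let u₁ : Matrix.SpecialLinearGroup (Fin 2) F := ⟨!![1, 1; 0, 1], by simp [Matrix.det_fin_two]⟩
    let u₂ : Matrix.SpecialLinearGroup (Fin 2) F := ⟨!![1, 0; 1, 1], by simp [Matrix.det_fin_two]⟩
    have h00 : ((u₁ * u₂ : Matrix.SpecialLinearGroup (Fin 2) F) : Matrix (Fin 2) (Fin 2) F) 0 0 =
        ((u₂ * u₁ : Matrix.SpecialLinearGroup (Fin 2) F) : Matrix (Fin 2) (Fin 2) F) 0 0 := by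
      rw [hcommSL u₁ u₂]
    change ((!![1, 1; 0, 1] * !![1, 0; 1, 1] : Matrix (Fin 2) (Fin 2) F)) 0 0 =
      ((!![1, 0; 1, 1] * !![1, 1; 0, 1] : Matrix (Fin 2) (Fin 2) F)) 0 0 at h00
    simp [Matrix.mul_apply, Fin.sum_univ_two] at h00
  refine ⟨Subgroup.centralizer {t}, ?_, ?_⟩
  · rw [eq_bot_iff]
    intro a ha
    refine mem_bot.mpr (hsq a ha.1 ?_)
    have h1 : t * a * t⁻¹ = a := by
      rw [mem_centralizer_iff.mp ha.2 t rfl, mul_inv_cancel_right]
    have h2 : a = a⁻¹ := h1.symm.trans (hinv a ha.1)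
    exact (congrArg (a * ·) h2).trans (mul_inv_cancel a)
  · rw [eq_top_iff]
    intro n _
    set a := t⁻¹ * (n * t * n⁻¹) with ha
    have haA : a ∈ A := by
      have : a = (t⁻¹ * n * t * n⁻¹) := by rw [ha]; group
      rw [this]
      have := hcomm n
      rw [htinv] at this ⊢
      exact this
    set b := a ^ k with hb
    have hbA : b ∈ A := A.pow_mem haA k
    have hb2 : b * b * a = 1 := by
      rw [hb, ← pow_add, ← pow_succ, ← two_mul, ← hk]; exact hApow a haA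
    have hmem : b⁻¹ * n ∈ Subgroup.centralizer {t} := by
      refine mem_centralizer_iff.mpr fun z hz => ?_
      rw [Set.mem_singleton_iff.mp hz]
      have hnt : n * t * n⁻¹ = t * a := by rw [ha]; group
      have hbt : t⁻¹ * b⁻¹ * t = b := by
        have := hinv b hbA
        rw [htinv] at this ⊢
        calc t * b⁻¹ * t = (t⁻¹ * b * t⁻¹)⁻¹ := by group
          _ = b := by rw [htinv, this, inv_inv]
      have key : (b⁻¹ * n) * t * (b⁻¹ * n)⁻¹ = t := by
        calc (b⁻¹ * n) * t * (b⁻¹ * n)⁻¹ = b⁻¹ * (n * t * n⁻¹) * b := by group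
          _ = t * ((t⁻¹ * b⁻¹ * t) * (a * b)) := by rw [hnt]; group
          _ = t * (b * b * a) := by rw [hbt, hAc haA hbA]; group
          _ = t := by rw [hb2, mul_one]
      exact (mul_inv_eq_iff_eq_mul.mp key).symm
    have : n = b * (b⁻¹ * n) := by group
    rw [this]
    exact mul_mem (mem_sup_left hbA) (mem_sup_right hmem)

end Cfsg.Agent.S3075
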