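import Cfsg.Statements.S3076

import Cfsg.Agent.PLocal.Constraint
import Cfsg.Agent.SylowCount.Basic

set_option autoImplicit false
open Cfsg

namespace Cfsg.Agent.S3076

open Subgroup

variable {L : Type*} [Group L] [Finite L] {p : ℕ} [Fact p.Prime]

theorem card_rel (A B : Subgroup L) (h : A ≤ B) : Nat.card A * A.relIndex B = Nat.card B := by
  rw [← Subgroup.relIndex_bot_left A, Subgroup.relIndex_mul_relIndex _ _ _ bot_le h,
    Subgroup.relIndex_bot_left]

/-- The statement inside the normaliser. -/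
theorem key (H C : Subgroup L) [H.Normal] [C.Normal] (hH : IsPGroup p H)
    (hC : C = Subgroup.centralizer (H : Set L)) (S : Sylow p L) :
    let K := (Cfsg.pCore p (L ⧸ C)).comap (QuotientGroup.mk' C)
    (H ≤ K ∧ ¬ p ∣ H.relIndex K) ↔
      ((S : Subgroup L) ⊓ C ≤ H ∧ Cfsg.pPrimePCore p L = H ⊔ C) := by
  intro K
  haveI hKn : K.Normal := inferInstanceAs ((Cfsg.pCore p (L ⧸ C)).comap (QuotientGroup.mk' C)).Normal
  have hCK : C ≤ K := fun x hx => by
    show QuotientGroup.mk' C x ∈ Cfsg.pCore p (L ⧸ C)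
    rw [QuotientGroup.mk'_apply, (QuotientGroup.eq_one_iff x).mpr hx]; exact one_mem _
  have hHK : H ≤ K := by
    rw [← Subgroup.map_le_iff_le_comap]
    haveI := Subgroup.Normal.map (inferInstance : H.Normal) _ (QuotientGroup.mk'_surjective C)
    exact CfsgLib.PLocal.le_pCore (hH.map _)
  -- `O_{p'}(L)` centralises `H`
  have hO : Cfsg.pPrimeCore p L ≤ C := by
    rw [hC]
    exact (CfsgLib.PLocal.pPrimeCore_le_centralizer_pCore p L).trans
      (centralizer_le (SetLike.coe_subset_coe.mpr (CfsgLib.PLocal.le_pCore hH)))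
  have hOPn : (Cfsg.pPrimePCore p L).Normal :=
    inferInstanceAs ((Cfsg.pCore p (L ⧸ Cfsg.pPrimeCore p L)).comap _).Normal
  -- when `H` contains a Sylow subgroup of `C`, `C` has a normal `p`-complement
  have hcompl : (S : Subgroup L) ⊓ C ≤ H → K ≤ Cfsg.pPrimePCore p L ∧ ¬ p ∣ (C ⊓ H).relIndex C := by
    intro hle
    obtain ⟨R, hR⟩ : ∃ R : Sylow p ↥C, (R : Subgroup ↥C) ≤ H.subgroupOf C := by
      obtain ⟨R, hR⟩ := ((S.isPGroup'.to_le (inf_le_left (b := C))).of_equiv
        (subgroupOfEquivOfLe (inf_le_right (a := (S : Subgroup L)))).symm).exists_le_sylow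
      obtain ⟨S', hS'⟩ := (R.isPGroup'.map C.subtype).exists_le_sylow
      obtain ⟨g, hg⟩ := MulAction.exists_smul_eq L S S'
      refine ⟨R, fun r hr => ?_⟩
      have h1 := hS' ⟨r, hr, rfl⟩
      rw [← hg, Sylow.coe_subgroup_smul] at h1
      obtain ⟨s, hs, hsr⟩ := Subgroup.mem_map.mp h1
      have hsC : s ∈ C := by
        have h2 : s = g⁻¹ * (r : L) * g := by
          have : g * s * g⁻¹ = (r : L) := by simpa [MulAut.smul_def] using hsr
          rw [← this]; group
        rw [h2]; simpa using Subgroup.Normal.conj_mem inferInstance (r : L) r.2 g⁻¹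
      have : g * s * g⁻¹ ∈ H := Subgroup.Normal.conj_mem inferInstance s (hle ⟨hs, hsC⟩) g
      rw [mem_subgroupOf]
      have h3 : g * s * g⁻¹ = (r : L) := by simpa [MulAut.smul_def] using hsr
      rwa [← h3]
    have hN : normalizer ((R : Subgroup ↥C) : Set ↥C) ≤ Subgroup.centralizer ((R : Subgroup ↥C) : Set ↥C) := by
      intro c _
      refine mem_centralizer_iff.mpr fun r hr => Subtype.ext ?_
      exact mem_centralizer_iff.mp (hC ▸ c.2 : (c : L) ∈ Subgroup.centralizer (H : Set L)) _ (mem_subgroupOf.mp (hR hr))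
    have hcomp := MonoidHom.ker_transferSylow_isComplement' R hN
    set O := (MonoidHom.transferSylow R hN).ker with hOdef
    have hOcop : (Nat.card O).Coprime p := by
      refine Nat.Coprime.symm ((Fact.out : p.Prime).coprime_iff_not_dvd.mpr ?_)
      rw [← Subgroup.IsComplement'.index_eq_card hcomp]
      exact R.not_dvd_index
    refine ⟨?_, ?_⟩
    · intro x hx
      have hxq : QuotientGroup.mk' C x ∈ Cfsg.pCore p (L ⧸ C) := hx
      obtain ⟨⟨k, hk⟩⟩ : Nonempty {k : ℕ // x ^ p ^ k ∈ C} := by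
        obtain ⟨k, hk⟩ := (CfsgLib.PLocal.isPGroup_pCore p (L ⧸ C)) ⟨_, hxq⟩
        refine ⟨⟨k, (QuotientGroup.eq_one_iff _).mp ?_⟩⟩
        simpa using congrArg Subtype.val hk
      -- the image of `K` in `L / O_{p'}(L)` is a normal `p`-subgroup
      have hKp : IsPGroup p (K.map (QuotientGroup.mk' (Cfsg.pPrimeCore p L))) := by
        rintro ⟨_, y, hy, rfl⟩
        obtain ⟨i, hi⟩ := (CfsgLib.PLocal.isPGroup_pCore p (L ⧸ C)) ⟨_, (hy : QuotientGroup.mk' C y ∈ _)⟩
        have hyC : y ^ p ^ i ∈ C := (QuotientGroup.eq_one_iff _).mp (by simpa using congrArg Subtype.val hi)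
        obtain ⟨j, hj⟩ := R.isPGroup'.exists_card_eq
        have hmem : (⟨y ^ p ^ i, hyC⟩ : ↥C) ^ (p ^ j) ∈ O := by
          have h1 := O.pow_index_mem (⟨y ^ p ^ i, hyC⟩ : ↥C)
          rwa [Subgroup.IsComplement'.index_eq_card hcomp.symm, hj] at h1
        refine ⟨i + j, Subtype.ext ?_⟩
        have h2 : y ^ p ^ (i + j) ∈ Cfsg.pPrimeCore p L := by
          rw [pow_add, pow_mul]
          refine CfsgLib.PLocal.pPrimeCore_map_subtype_le C ⟨(⟨y ^ p ^ i, hyC⟩ : ↥C) ^ (p ^ j), ?_, by simp⟩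
          exact CfsgLib.PLocal.le_pPrimeCore hOcop hmem
        simpa using (QuotientGroup.eq_one_iff _).mpr h2
      haveI := Subgroup.Normal.map hKn _ (QuotientGroup.mk'_surjective (Cfsg.pPrimeCore p L))
      exact CfsgLib.PLocal.le_pCore hKp ⟨x, hx, rfl⟩
    · intro hdvd
      refine R.not_dvd_index (hdvd.trans ?_)
      refine index_dvd_of_le fun y hy => ?_
      exact mem_subgroupOf.mpr ⟨y.2, mem_subgroupOf.mp (hR hy)⟩
  constructor
  · rintro ⟨-, hrel⟩
    have hSCle : (S : Subgroup L) ⊓ C ≤ H := by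
      intro x hx
      obtain ⟨i, hi⟩ := S.isPGroup' ⟨x, hx.1⟩
      have hxK : x ∈ K := hCK hx.2
      have h1 : (QuotientGroup.mk' (H.subgroupOf K) ⟨x, hxK⟩) ^ (p ^ i) = 1 := by
        rw [← map_pow]
        have : (⟨x, hxK⟩ : ↥K) ^ (p ^ i) = 1 := Subtype.ext (by simpa using congrArg Subtype.val hi)
        rw [this, map_one]
      have h2 : (QuotientGroup.mk' (H.subgroupOf K) ⟨x, hxK⟩) ^ (H.relIndex K) = 1 := pow_card_eq_one'
      have h3 := pow_gcd_eq_one.mpr ⟨h1, h2⟩
      have hg : (p ^ i).gcd (H.relIndex K) = 1 :=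
        Nat.Coprime.pow_left i ((Fact.out : p.Prime).coprime_iff_not_dvd.mpr hrel)
      rw [hg, pow_one] at h3
      exact mem_subgroupOf.mp ((QuotientGroup.eq_one_iff (⟨x, hxK⟩ : ↥K)).mp h3)
    refine ⟨hSCle, le_antisymm ?_ ?_⟩
    · -- `O_{p',p}(L) ≤ K = H C`
      have hle : Cfsg.pPrimePCore p L ≤ K := by
        intro x hx
        show QuotientGroup.mk' C x ∈ Cfsg.pCore p (L ⧸ C)
        haveI := Subgroup.Normal.map hOPn _ (QuotientGroup.mk'_surjective C)
        refine CfsgLib.PLocal.le_pCore (N := (Cfsg.pPrimePCore p L).map (QuotientGroup.mk' C)) ?_ ⟨x, hx, rfl⟩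
        rintro ⟨_, y, hy, rfl⟩
        obtain ⟨i, hi⟩ := (CfsgLib.PLocal.isPGroup_pCore p (L ⧸ Cfsg.pPrimeCore p L)) ⟨_, (hy : QuotientGroup.mk' _ y ∈ _)⟩
        refine ⟨i, Subtype.ext ?_⟩
        have h2 : y ^ p ^ i ∈ C := hO ((QuotientGroup.eq_one_iff _).mp (by simpa using congrArg Subtype.val hi))
        simpa using (QuotientGroup.eq_one_iff _).mpr h2
      refine hle.trans ?_
      intro x hx
      obtain ⟨i, hi⟩ := (CfsgLib.PLocal.isPGroup_pCore p (L ⧸ C)) ⟨_, (hx : QuotientGroup.mk' C x ∈ _)⟩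
      have hxC : x ^ p ^ i ∈ C := (QuotientGroup.eq_one_iff _).mp (by simpa using congrArg Subtype.val hi)
      have h1 : (QuotientGroup.mk' ((H ⊔ C).subgroupOf K) ⟨x, hx⟩) ^ (p ^ i) = 1 := by
        rw [← map_pow]
        exact (QuotientGroup.eq_one_iff _).mpr (mem_subgroupOf.mpr (by simpa using mem_sup_right hxC))
      have h2 : (QuotientGroup.mk' ((H ⊔ C).subgroupOf K) ⟨x, hx⟩) ^ ((H ⊔ C).relIndex K) = 1 := pow_card_eq_one'
      have h3 := pow_gcd_eq_one.mpr ⟨h1, h2⟩
      have hg : (p ^ i).gcd ((H ⊔ C).relIndex K) = 1 := by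
        refine Nat.Coprime.pow_left i ((Fact.out : p.Prime).coprime_iff_not_dvd.mpr ?_)
        exact fun h => hrel (h.trans (relIndex_dvd_of_le_left K le_sup_left))
      rw [hg, pow_one] at h3
      exact mem_subgroupOf.mp ((QuotientGroup.eq_one_iff (⟨x, hx⟩ : ↥K)).mp h3)
    · exact sup_le (fun x hx => CfsgLib.PLocal.pCore_le_pPrimePCore p L (CfsgLib.PLocal.le_pCore hH hx))
        (hCK.trans (hcompl hSCle).1)
  · rintro ⟨hle, heq⟩
    refine ⟨hHK, ?_⟩
    obtain ⟨hK1, hK2⟩ := hcompl hle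
    rw [heq] at hK1
    have hKeq : K = H ⊔ C := le_antisymm hK1 (sup_le hHK hCK)
    rw [hKeq, sup_comm]
    rw [relIndex_sup_right]
    rwa [inf_comm, inf_relIndex_right] at hK2

/-- Let P be a Sylow p-subgroup of the finite group G and H ≤ P a subgroup with N_P(H) a Sylow p-subgroup of N_G(H). Let N be the preimage in N_G(H) of O_p(N_G(H)/C_G(H)). Then H is a Sylow p-subgroup of N if and only if C_P(H) ≤ H and O_{p',p}(N_G(H)) = H·C_G(H). -/
theorem result {G : Type*} [Group G] [Finite G] {p : ℕ} [Fact p.Prime]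
    (P : Sylow p G) (H : Subgroup G) (hHP : H ≤ (P : Subgroup G))
    (hSyl : ¬ p ∣ ((P : Subgroup G) ⊓ Subgroup.normalizer (H : Set G)).relIndex (Subgroup.normalizer (H : Set G)))
    [hC : ((Subgroup.centralizer (H : Set G)).subgroupOf (Subgroup.normalizer (H : Set G))).Normal] :
    (H ≤ ((Cfsg.pCore p (↥(Subgroup.normalizer (H : Set G)) ⧸
              (Subgroup.centralizer (H : Set G)).subgroupOf (Subgroup.normalizer (H : Set G)))).comap
            (QuotientGroup.mk' _)).map (Subgroup.normalizer (H : Set G)).subtype ∧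
      ¬ p ∣ H.relIndex (((Cfsg.pCore p (↥(Subgroup.normalizer (H : Set G)) ⧸
              (Subgroup.centralizer (H : Set G)).subgroupOf (Subgroup.normalizer (H : Set G)))).comap
            (QuotientGroup.mk' _)).map (Subgroup.normalizer (H : Set G)).subtype)) ↔
    ((P : Subgroup G) ⊓ Subgroup.centralizer (H : Set G) ≤ H ∧
      (Cfsg.pPrimePCore p ↥(Subgroup.normalizer (H : Set G))).map (Subgroup.normalizer (H : Set G)).subtype =
        H ⊔ Subgroup.centralizer (H : Set G)) := by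
  set N := Subgroup.normalizer (H : Set G) with hN
  have hHN : H ≤ N := Subgroup.le_normalizer
  set C := (Subgroup.centralizer (H : Set G)).subgroupOf N with hCdef
  have hCle : Subgroup.centralizer (H : Set G) ≤ N := Subgroup.centralizer_le_normalizer _
  haveI hH' : (H.subgroupOf N).Normal := Subgroup.normal_subgroupOf_iff_le_normalizer hHN |>.mpr le_rfl
  have hC' : C = Subgroup.centralizer ((H.subgroupOf N : Subgroup ↥N) : Set ↥N) := by
    ext x
    simp only [hCdef, Subgroup.mem_subgroupOf, Subgroup.mem_centralizer_iff, SetLike.mem_coe]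
    refine ⟨fun h y hy => Subtype.ext (h y hy), fun h y hy => ?_⟩
    exact congrArg Subtype.val (h ⟨y, hHN hy⟩ hy)
  have hp : IsPGroup p ↥(H.subgroupOf N) :=
    (P.isPGroup'.to_le hHP).of_equiv (Subgroup.subgroupOfEquivOfLe hHN).symm
  let S : Sylow p ↥N :=
    ((P.isPGroup'.to_le (inf_le_left (b := N))).of_equiv
      (Subgroup.subgroupOfEquivOfLe (inf_le_right (a := (P : Subgroup G)))).symm).toSylow hSyl
  have hk := key (H.subgroupOf N) C hp hC' S
  dsimp only at hk
  set K := (Cfsg.pCore p (↥N ⧸ C)).comap (QuotientGroup.mk' C) with hKdef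
  have hinj : Function.Injective N.subtype := N.subtype_injective
  have hmapH : (H.subgroupOf N).map N.subtype = H := by
    rw [Subgroup.subgroupOf_map_subtype, inf_eq_left.mpr hHN]
  have hmapC : C.map N.subtype = Subgroup.centralizer (H : Set G) := by
    rw [hCdef, Subgroup.subgroupOf_map_subtype, inf_eq_left.mpr hCle]
  have e1 : (H ≤ K.map N.subtype ∧ ¬ p ∣ H.relIndex (K.map N.subtype)) ↔
      (H.subgroupOf N ≤ K ∧ ¬ p ∣ (H.subgroupOf N).relIndex K) := by
    conv_lhs => rw [← hmapH]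
    rw [Subgroup.map_le_map_iff_of_injective hinj, Subgroup.relIndex_map_map_of_injective _ _ hinj]
  have e2 : ((P : Subgroup G) ⊓ Subgroup.centralizer (H : Set G) ≤ H) ↔
      ((S : Subgroup ↥N) ⊓ C ≤ H.subgroupOf N) := by
    rw [← Subgroup.map_le_map_iff_of_injective hinj, Subgroup.map_inf _ _ _ hinj, hmapC, hmapH]
    show _ ↔ (((P : Subgroup G) ⊓ N).subgroupOf N).map N.subtype ⊓ _ ≤ _
    rw [Subgroup.subgroupOf_map_subtype, inf_assoc, inf_assoc]
    rw [inf_eq_right.mpr (inf_le_right.trans hCle : N ⊓ Subgroup.centralizer (H : Set G) ≤ N), inf_eq_right.mpr hCle]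
  have e3 : (Cfsg.pPrimePCore p ↥N).map N.subtype = H ⊔ Subgroup.centralizer (H : Set G) ↔
      Cfsg.pPrimePCore p ↥N = H.subgroupOf N ⊔ C := by
    conv_lhs => rw [← hmapC]; rhs; rw [← hmapH]
    rw [← Subgroup.map_sup, (Subgroup.map_injective hinj).eq_iff]
  rw [e1, e2, e3]
  exact hk

end Cfsg.Agent.S3076
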