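import Cfsg.Statements.S3084
import Cfsg.Agent.ExtraspecialLift.Lift
import Cfsg.Agent.LargeExtraspecial.Quotient

set_option autoImplicit false
open Cfsg

namespace Cfsg.Agent.S3084

/-- Let K be a group acting faithfully and linearly on a finite-dimensional vector space U of dimension 2n ≥ 2 over the field with two elements, preserving a quadratic form q whose polar bilinear form is non-degenerate and which vanishes on some n-dimensional subspace (a non-singular form of plus type). Then there is a finite group R with a normal extraspecial 2-subgroup Q of order 2^(2n+1), an isomorphism of R/Q with K, and a surjective homomorphism χ from Q onto (the additive group of) U with kernel the centre of Q, such that χ carries conjugation by any r in R to the action of the image of r in K, and an element a of Q squares to the identity exactly when q vanishes at χ(a). -/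
theorem result {K : Type*} [Group K] {U : Type*} [AddCommGroup U] [Module (ZMod 2) U] [Module.Finite (ZMod 2) U] (n : ℕ) (hn1 : 1 ≤ n) (hn : Module.finrank (ZMod 2) U = 2 * n) (ρ : Representation (ZMod 2) K U) (hρ : Function.Injective ρ) (q : QuadraticForm (ZMod 2) U) (hq : ∀ (k : K) (u : U), q (ρ k u) = q u) (hnd : (QuadraticMap.polarBilin q).Nondegenerate) (hplus : ∃ W : Submodule (ZMod 2) U, Module.finrank (ZMod 2) ↥W = n ∧ ∀ w ∈ W, q w = 0) : ∃ (R : Type) (_ : Group R) (_ : Finite R) (Q : Subgroup R) (hN : Q.Normal) (e : R ⧸ Q ≃* K) (χ : ↥Q →* Multiplicative U), Cfsg.IsExtraspecial 2 ↥Q ∧ Nat.card ↥Q = 2 ^ (2 * n + 1) ∧ Function.Surjective χ ∧ χ.ker = Subgroup.center ↥Q ∧ (∀ (r : R) (a : ↥Q), χ ⟨r * a * r⁻¹, hN.conj_mem (a : R) a.2 r⟩ = Multiplicative.ofAdd (ρ (e (r : R ⧸ Q)) (Multiplicative.toAdd (χ a)))) ∧ ∀ a : ↥Q, a * a = 1 ↔ q (Multiplicative.toAdd (χ a)) = 0 := by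
  classical
  obtain ⟨L, hL⟩ := CfsgLib.ExtraspecialLift.exists_coordinates hn q hnd hplus
  let act : K →* Function.End (CfsgLib.ExtraspecialLift.Lab n) :=
    { toFun := fun k => (fun z => L.symm (ρ k (L z)))
      map_one' := by
        funext z
        show L.symm (ρ 1 (L z)) = z
        simp
      map_mul' := fun k k' => by
        funext z
        show L.symm (ρ (k * k') (L z)) = L.symm (ρ k (L (L.symm (ρ k' (L z)))))
        simp }
  let σ : K →* Equiv.Perm (CfsgLib.ExtraspecialLift.Lab n) := act.toHomPerm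
  have hσ : ∀ k z, σ k z = L.symm (ρ k (L z)) := fun _ _ => rfl
  have hσinj : Function.Injective σ := fun k k' h => hρ (LinearMap.ext fun u => by
    have h1 := Equiv.congr_fun h (L.symm u)
    rw [hσ, hσ, LinearEquiv.apply_symm_apply] at h1
    exact L.symm.injective h1)
  have hA : ∀ π ∈ σ.range, (∀ z w, π (z + w) = π z + π w) ∧
      ∃ η : CfsgLib.ExtraspecialLift.Lab n → ZMod 2, ∀ z w, η (z + w) = η z + η w +
        CfsgLib.ExtraspecialLift.coc z w + CfsgLib.ExtraspecialLift.coc (π z) (π w) := by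
    rintro π ⟨k, rfl⟩
    refine ⟨fun z w => by simp [hσ, map_add], ?_⟩
    obtain ⟨η, hη⟩ := CfsgLib.ExtraspecialLift.exists_signs
      (L.symm.toLinearMap.comp ((ρ k).comp L.toLinearMap)) (fun z => by
        rw [← hL, ← hL]
        simp [hq])
    exact ⟨η, hη⟩
  have hsurj := CfsgLib.ExtraspecialLift.liftProj_surjective σ.range hA
  set P := CfsgLib.ExtraspecialLift.liftProj σ.range with hP
  let e := (QuotientGroup.quotientKerEquivOfSurjective P hsurj).trans (MonoidHom.ofInjective hσinj).symm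
  have he : ∀ r, σ (e (QuotientGroup.mk r)) = r.1.2 := fun r => by
    have h1 : MonoidHom.ofInjective hσinj (e (QuotientGroup.mk r)) = P r := by
      simp only [e, MulEquiv.trans_apply, MulEquiv.apply_symm_apply]
      rfl
    exact congrArg Subtype.val h1
  let F : ZMod 2 × CfsgLib.ExtraspecialLift.Lab n ≃ P.ker :=
    Equiv.ofBijective _ ⟨CfsgLib.ExtraspecialLift.kerElem_injective σ.range,
      CfsgLib.ExtraspecialLift.kerElem_surjective σ.range⟩
  have hF : ∀ p p', F p * F p' = F (p.1 + p'.1 + CfsgLib.ExtraspecialLift.coc p.2 p'.2, p.2 + p'.2) :=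
    CfsgLib.ExtraspecialLift.kerElem_mul σ.range
  have hone : (1 : P.ker) = F (0, 0) := by
    have h := hF (0, 0) (0, 0)
    rw [show ((0 : ZMod 2) + 0 + CfsgLib.ExtraspecialLift.coc (0 : CfsgLib.ExtraspecialLift.Lab n) 0,
      (0 : CfsgLib.ExtraspecialLift.Lab n) + 0) = (0, 0) by
        simp [CfsgLib.ExtraspecialLift.coc, CfsgLib.ExtraspecialLift.dot]] at h
    exact (mul_eq_left.1 h).symm
  let χ : P.ker →* Multiplicative U := MonoidHom.mk'
    (fun a => Multiplicative.ofAdd (L (F.symm a).2)) (fun a b => by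
      obtain ⟨p, rfl⟩ := F.surjective a
      obtain ⟨p', rfl⟩ := F.surjective b
      rw [hF]
      simp only [Equiv.symm_apply_apply, map_add, ofAdd_add])
  have hχ : ∀ p, χ (F p) = Multiplicative.ofAdd (L p.2) := fun p => by
    simp [χ]
  have hcomm : ∀ p p', F p * F p' = F p' * F p ↔
      CfsgLib.ExtraspecialLift.coc p.2 p'.2 + CfsgLib.ExtraspecialLift.coc p'.2 p.2 = 0 := by
    intro p p'
    rw [hF, hF, F.injective.eq_iff, Prod.ext_iff]
    simp only [add_comm p'.2 p.2, and_true]
    generalize p.1 = a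
    generalize p'.1 = b
    generalize CfsgLib.ExtraspecialLift.coc p.2 p'.2 = c
    generalize CfsgLib.ExtraspecialLift.coc p'.2 p.2 = d
    revert a b c d
    decide +kernel
  have hsqr : ∀ p, F p * F p = F (CfsgLib.ExtraspecialLift.coc p.2 p.2, 0) := fun p => by
    rw [hF, CfsgLib.ExtraspecialLift.lab_add_self, CfsgLib.ExtraspecialLift.zmod_two_facts.1, zero_add]
  have hcent : ∀ a, a ∈ Subgroup.center P.ker ↔ (F.symm a).2 = 0 := by
    intro a
    obtain ⟨p, rfl⟩ := F.surjective a
    rw [Equiv.symm_apply_apply, Subgroup.mem_center_iff]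
    constructor
    · intro h
      refine CfsgLib.ExtraspecialLift.pairing_eq_zero fun w => ?_
      exact (hcomm p (0, w)).1 (h (F (0, w))).symm
    · intro h b
      obtain ⟨p', rfl⟩ := F.surjective b
      rw [hcomm, h]
      simp [CfsgLib.ExtraspecialLift.coc, CfsgLib.ExtraspecialLift.dot]
  have hz2 : ∀ p, p.2 = 0 → F p = 1 ∨ F p = F (1, 0) := by
    rintro ⟨c, w⟩ (rfl : w = 0)
    rcases CfsgLib.ExtraspecialLift.zmod_two_facts.2.1 c with rfl | rfl
    · exact Or.inl hone.symm
    · exact Or.inr rfl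
  have hne1 : F (1, 0) ≠ 1 := by
    rw [hone]
    exact F.injective.ne (by simp)
  have hz : orderOf (F (1, 0)) = 2 := by
    refine orderOf_eq_prime ?_ hne1
    rw [pow_two, hsqr, hone]
    simp [CfsgLib.ExtraspecialLift.coc, CfsgLib.ExtraspecialLift.dot]
  have hpg : IsPGroup 2 P.ker := fun a => by
    refine ⟨2, ?_⟩
    obtain ⟨p, rfl⟩ := F.surjective a
    rw [show (2 : ℕ) ^ 2 = 2 * 2 from rfl, pow_mul, pow_two (F p), hsqr, pow_two, hsqr, hone]
    simp [CfsgLib.ExtraspecialLift.coc, CfsgLib.ExtraspecialLift.dot]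
  refine ⟨CfsgLib.ExtraspecialLift.liftGroup σ.range, inferInstance, inferInstance, P.ker,
    P.normal_ker, e, χ, ?_, ?_, ?_, ?_, ?_, ?_⟩
  · refine (CfsgLib.LargeExtraspecial.isExtraspecial_of_props (z := (F (1, 0)).1) hpg
      (by rw [Subgroup.orderOf_coe, hz]) (F (1, 0)).2 ?_ ?_ ?_ ?_ ?_).1
    · intro x hx
      obtain ⟨p, hp⟩ := F.surjective ⟨x, hx⟩
      have h := (hcomm p (1, 0)).2 (by
        simp [CfsgLib.ExtraspecialLift.coc, CfsgLib.ExtraspecialLift.dot])
      rw [hp] at h
      exact congrArg Subtype.val h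
    · intro x hx
      obtain ⟨p, hp⟩ := F.surjective ⟨x, hx⟩
      have h := hz2 (CfsgLib.ExtraspecialLift.coc p.2 p.2, 0) rfl
      rw [← hsqr, hp] at h
      exact h.imp (fun e => congrArg Subtype.val e) (fun e => congrArg Subtype.val e)
    · intro x hx y hy
      obtain ⟨p, hp⟩ := F.surjective ⟨x, hx⟩
      obtain ⟨p', hp'⟩ := F.surjective ⟨y, hy⟩
      have h2 : (F.symm (F p * F p' * (F p)⁻¹ * (F p')⁻¹)).2 = 0 := by
        have h3 : χ (F p * F p' * (F p)⁻¹ * (F p')⁻¹) = 1 := by
          rw [map_mul, map_mul, map_mul, map_inv, map_inv, mul_comm (χ (F p)), mul_inv_cancel_right,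
            mul_inv_cancel]
        exact L.injective ((congrArg Multiplicative.toAdd h3).trans L.map_zero.symm)
      have h := hz2 _ h2
      rw [Equiv.apply_symm_apply, hp, hp'] at h
      exact h.imp (fun e => congrArg Subtype.val e) (fun e => congrArg Subtype.val e)
    · intro x hx hall
      obtain ⟨p, hp⟩ := F.surjective ⟨x, hx⟩
      have hc : F p ∈ Subgroup.center P.ker := Subgroup.mem_center_iff.2 fun b => by
        rw [hp]
        exact Subtype.ext (hall b.1 b.2)
      have h := hz2 p (by simpa using (hcent _).1 hc)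
      rw [hp] at h
      exact h.imp (fun e => congrArg Subtype.val e) (fun e => congrArg Subtype.val e)
    · refine ⟨_, (F (0, (Pi.single ⟨0, hn1⟩ 1, 0))).2, _, (F (0, (0, Pi.single ⟨0, hn1⟩ 1))).2,
        fun h => ?_⟩
      have h1 := (hcomm _ _).1 (Subtype.ext h)
      simp [CfsgLib.ExtraspecialLift.coc, CfsgLib.ExtraspecialLift.dot_single,
        CfsgLib.ExtraspecialLift.dot_zero_left] at h1
  · rw [← Nat.card_congr F, Nat.card_prod, Nat.card_prod, Nat.card_zmod, Nat.card_fun, Nat.card_zmod,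
      Nat.card_fin]
    ring
  · intro u
    obtain ⟨z, hz'⟩ := L.surjective (Multiplicative.toAdd u)
    exact ⟨F (0, z), by rw [hχ, hz', ofAdd_toAdd]⟩
  · ext a
    obtain ⟨p, rfl⟩ := F.surjective a
    rw [MonoidHom.mem_ker, hχ, hcent, Equiv.symm_apply_apply, ofAdd_eq_one, L.map_eq_zero_iff]
  · intro r a
    obtain ⟨⟨c, z⟩, rfl⟩ := F.surjective a
    obtain ⟨ε, hε⟩ := r.2.2 z
    have h1 : (⟨r * (F (c, z) : CfsgLib.ExtraspecialLift.liftGroup σ.range) * r⁻¹,
        (P.normal_ker).conj_mem _ (F (c, z)).2 r⟩ : P.ker) = F (c + ε, r.1.2 z) := by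
      refine Subtype.ext (Subtype.ext (Prod.ext (Units.ext ?_) ?_))
      · show r.1.1.1 * (CfsgLib.ExtraspecialLift.sgn c • CfsgLib.ExtraspecialLift.pauli z) *
          (r.1.1⁻¹).1 = CfsgLib.ExtraspecialLift.sgn (c + ε) •
            CfsgLib.ExtraspecialLift.pauli (r.1.2 z)
        rw [Matrix.mul_smul, hε, Matrix.smul_mul, Matrix.smul_mul, mul_assoc, Units.mul_inv,
          mul_one, smul_smul, CfsgLib.ExtraspecialLift.sgn_add]
      · show r.1.2 * 1 * r.1.2⁻¹ = 1
        rw [mul_one, mul_inv_cancel]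
    rw [h1, hχ, hχ, ← he r, hσ, LinearEquiv.apply_symm_apply, toAdd_ofAdd]
  · intro a
    obtain ⟨p, rfl⟩ := F.surjective a
    rw [hsqr, hone, hχ, toAdd_ofAdd, hL, F.injective.eq_iff, Prod.ext_iff]
    simp

end Cfsg.Agent.S3084
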