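import Cfsg.Statements.S3085

import Cfsg.Agent.ExtraspecialNonsplit.Exists

set_option autoImplicit false
open Cfsg

namespace Cfsg.Agent.S3085

open CfsgLib.ExtraspecialNonsplit

/-- Let Q be an extraspecial 2-group of order 2^(2n+1) with n ≥ 3 that is of plus type (it contains an elementary abelian subgroup of order 2^(n+1)). Then the group of inner automorphisms of Q has no complement in the full automorphism group of Q: the extension of the inner automorphism group (elementary abelian of order 2^(2n)) by the outer automorphism group (the orthogonal group of plus type) does not split. -/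
theorem result {Q : Type*} [Group Q] [Finite Q] (n : ℕ) (hn : 3 ≤ n) (hQ : Cfsg.IsExtraspecial 2 Q) (hcard : Nat.card Q = 2 ^ (2 * n + 1)) (hplus : ∃ E : Subgroup Q, Cfsg.IsElementaryAbelian 2 E ∧ Nat.card ↥E = 2 ^ (n + 1)) (L : Subgroup (MulAut Q)) : ¬ (Cfsg.Inn Q).IsComplement' L := by
  obtain ⟨E, hE, hEc⟩ := hplus
  have h16 : 16 ≤ Nat.card ↥E := by
    rw [hEc]
    calc (16 : ℕ) = 2 ^ 4 := by norm_num
      _ ≤ 2 ^ (n + 1) := Nat.pow_le_pow_right (by norm_num) (by omega)
  obtain ⟨F⟩ := exists_frame hQ E hE h16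
  intro hL
  obtain ⟨α, hα⟩ := F.exists_extension actA actA_mulM actA_flipM
    (Function.LeftInverse.injective actA_actA)
  obtain ⟨β, hβ⟩ := F.exists_extension actB actB_mulM actB_flipM
    (Function.LeftInverse.injective actB_actB)
  let π := QuotientGroup.mk' (Cfsg.Inn Q)
  have hπinn : ∀ u : Q, π (MulAut.conj u) = 1 := fun u =>
    (QuotientGroup.eq_one_iff _).2 ⟨u, rfl⟩
  have hαα : α * α = 1 := by
    ext q
    obtain ⟨x, c, hc, rfl⟩ := F.exists_decomp q
    rw [MulAut.mul_apply, hα x c hc, hα _ c hc, actA_actA, MulAut.one_apply]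
  have hββ : β * β = 1 := by
    ext q
    obtain ⟨x, c, hc, rfl⟩ := F.exists_decomp q
    rw [MulAut.mul_apply, hβ x c hc, hβ _ c hc, actB_actB, MulAut.one_apply]
  have hαβ : α * β = MulAut.conj (F.psi kAB) * (β * α) := by
    ext q
    obtain ⟨x, c, hc, rfl⟩ := F.exists_decomp q
    rw [MulAut.mul_apply, MulAut.mul_apply, MulAut.mul_apply, hβ x c hc, hα _ c hc, hα x c hc,
      hβ _ c hc, MulAut.conj_apply, actA_actB, ← F.psi_conj]
    simp only [mul_assoc]
    rw [(F.K_comm hc kAB).inv_right.eq]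
  have hlift : ∀ γ : MulAut Q, ∃ u : Q, MulAut.conj u * γ ∈ L := by
    intro γ
    obtain ⟨⟨⟨i, u, rfl⟩, l, hl⟩, h⟩ := hL.2 γ
    refine ⟨u⁻¹, ?_⟩
    have h' : MulAut.conj u * l = γ := h
    rw [← h', map_inv, inv_mul_cancel_left]
    exact hl
  have hbot : ∀ l ∈ L, π l = 1 → l = 1 := fun l hl h1 =>
    Subgroup.disjoint_def.1 hL.disjoint ((QuotientGroup.eq_one_iff _).1 h1) hl
  obtain ⟨u, hu⟩ := hlift α
  obtain ⟨v, hv⟩ := hlift β
  obtain ⟨k, c, hc, huk⟩ := F.exists_decomp u
  obtain ⟨m, d, hd, hvm⟩ := F.exists_decomp v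
  generalize hla : MulAut.conj u * α = la at hu
  generalize hlb : MulAut.conj v * β = lb at hv
  have hπa : π la = π α := by rw [← hla, map_mul, hπinn, one_mul]
  have hπb : π lb = π β := by rw [← hlb, map_mul, hπinn, one_mul]
  have ha2 : la * la = 1 := hbot _ (mul_mem hu hu) (by
    rw [map_mul, hπa, ← map_mul, hαα, map_one])
  have hb2 : lb * lb = 1 := hbot _ (mul_mem hv hv) (by
    rw [map_mul, hπb, ← map_mul, hββ, map_one])
  have hab : la * lb = lb * la := by
    have h1 : π (la * lb) = π (lb * la) := by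
      rw [map_mul, map_mul, hπa, hπb, ← map_mul, hαβ, map_mul, hπinn, one_mul, map_mul]
    have h2 : la * lb * (lb * la)⁻¹ = 1 := hbot _ (mul_mem (mul_mem hu hv) (inv_mem (mul_mem hv hu)))
      (by rw [map_mul, h1, map_inv, mul_inv_cancel])
    exact mul_inv_eq_one.1 h2
  have hpsia : ∀ x, la (F.psi x) = F.psi (conjM k (actA x)) := by
    intro x
    have h1 := hα x 1 (one_mem _)
    rw [mul_one, mul_one] at h1
    rw [← hla, MulAut.mul_apply, h1, MulAut.conj_apply, huk, ← F.psi_conj]
    rw [mul_inv_rev, mul_assoc _ c, (F.K_comm hc (actA x)).eq]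
    simp only [mul_assoc, mul_inv_cancel_left]
  have hpsib : ∀ x, lb (F.psi x) = F.psi (conjM m (actB x)) := by
    intro x
    have h1 := hβ x 1 (one_mem _)
    rw [mul_one, mul_one] at h1
    rw [← hlb, MulAut.mul_apply, h1, MulAut.conj_apply, hvm, ← F.psi_conj]
    rw [mul_inv_rev, mul_assoc _ d, (F.K_comm hd (actB x)).eq]
    simp only [mul_assoc, mul_inv_cancel_left]
  refine no_commuting_lifts k m (fun g _ => F.psi_injective ?_) (fun g _ => F.psi_injective ?_)
    (fun g _ => F.psi_injective ?_)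
  · rw [← hpsia, ← hpsia, ← MulAut.mul_apply, ha2, MulAut.one_apply]
  · rw [← hpsib, ← hpsib, ← MulAut.mul_apply, hb2, MulAut.one_apply]
  · rw [← hpsia, ← hpsib, ← hpsib, ← hpsia, ← MulAut.mul_apply, ← MulAut.mul_apply, hab]

end Cfsg.Agent.S3085
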