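import Cfsg.Statements.S3087

import Cfsg.Agent.LocalEvenBasic.CardLattice

set_option autoImplicit false
open Cfsg

namespace Cfsg.Agent.S3087

variable {G V : Type*} [Group G] [Finite G] [AddCommGroup V] [Finite V] {p : ℕ} [Module (ZMod p) V]

/-- The multiplicative image of the fixed points of a set of group elements. -/
def fixSub (ρ : Representation (ZMod p) G V) (B : Subgroup G) (W : Submodule (ZMod p) V) :
    Subgroup (Multiplicative V) :=
  AddSubgroup.toSubgroup
    { carrier := {v : V | v ∈ W ∧ ∀ b ∈ B, ρ b v = v}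
      zero_mem' := ⟨W.zero_mem, fun b _ => map_zero _⟩
      add_mem' := fun {u v} hu hv => ⟨W.add_mem hu.1 hv.1, fun b hb => by
        rw [map_add, hu.2 b hb, hv.2 b hb]⟩
      neg_mem' := fun {u} hu => ⟨W.neg_mem hu.1, fun b hb => by rw [map_neg, hu.2 b hb]⟩ }

/-- Let p be a prime, G a finite group acting linearly on a finite vector space V over the field with p elements, W a G-invariant subspace, and A a subgroup of G with |A|·|C_V(A)| ≥ |B|·|C_V(B)| for every subgroup B of A. Then |A|·|C_W(A)| ≥ |B|·|C_W(B)| for every subgroup B of A that contains C_A(W); that is, the image of A in the group induced on W satisfies the same maximality condition. -/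
theorem result {G V : Type*} [Group G] [Finite G] [AddCommGroup V] [Finite V] (p : ℕ) [Fact p.Prime] [Module (ZMod p) V]
    (ρ : Representation (ZMod p) G V) (W : Submodule (ZMod p) V) (hW : ∀ g : G, ∀ w ∈ W, ρ g w ∈ W)
    (A : Subgroup G)
    (hP : ∀ B : Subgroup G, B ≤ A →
      Nat.card ↥B * Nat.card {v : V // ∀ b ∈ B, ρ b v = v} ≤ Nat.card ↥A * Nat.card {v : V // ∀ a ∈ A, ρ a v = v})
    (B : Subgroup G) (hBA : B ≤ A) (hCB : ∀ a ∈ A, (∀ w ∈ W, ρ a w = w) → a ∈ B) :
    Nat.card ↥B * Nat.card {w : W // ∀ b ∈ B, ρ b w = w} ≤ Nat.card ↥A * Nat.card {w : W // ∀ a ∈ A, ρ a w = w} := by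
  classical
  have hT : ∀ C : Subgroup G, Nat.card {v : V // ∀ b ∈ C, ρ b v = v} = Nat.card (fixSub ρ C ⊤) := by
    intro C
    refine Nat.card_congr ((Equiv.subtypeEquiv Multiplicative.ofAdd fun v => ?_))
    exact ⟨fun h => ⟨Submodule.mem_top, h⟩, fun h => h.2⟩
  have hW' : ∀ C : Subgroup G, Nat.card {w : W // ∀ b ∈ C, ρ b w = w} = Nat.card (fixSub ρ C W) := by
    intro C
    refine Nat.card_congr ((Equiv.subtypeSubtypeEquivSubtypeInter (fun v => v ∈ W)
      (fun v => ∀ b ∈ C, ρ b v = v)).trans (Equiv.subtypeEquiv Multiplicative.ofAdd fun v => ?_))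
    rfl
  have h := hP B hBA
  rw [hT, hT] at h
  rw [hW', hW']
  have h2 := CfsgLib.LocalEvenBasic.card_mul_le_inf_mul_sup (fixSub ρ A ⊤) (fixSub ρ B W)
  have h3 : fixSub ρ A ⊤ ⊓ fixSub ρ B W ≤ fixSub ρ A W := fun v hv => ⟨hv.2.1, hv.1.2⟩
  have h4 : fixSub ρ A ⊤ ⊔ fixSub ρ B W ≤ fixSub ρ B ⊤ :=
    sup_le (fun v hv => ⟨Submodule.mem_top, fun b hb => hv.2 b (hBA hb)⟩)
      (fun v hv => ⟨Submodule.mem_top, hv.2⟩)
  have h5 := h2.trans (Nat.mul_le_mul (Subgroup.card_le_of_le h3) (Subgroup.card_le_of_le h4))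
  refine Nat.le_of_mul_le_mul_left ?_ (Nat.card_pos (α := ↥(fixSub ρ A ⊤)))
  calc Nat.card (fixSub ρ A ⊤) * (Nat.card B * Nat.card (fixSub ρ B W))
      = Nat.card B * (Nat.card (fixSub ρ A ⊤) * Nat.card (fixSub ρ B W)) := by ring
    _ ≤ Nat.card B * (Nat.card (fixSub ρ A W) * Nat.card (fixSub ρ B ⊤)) := Nat.mul_le_mul_left _ h5
    _ = Nat.card (fixSub ρ A W) * (Nat.card B * Nat.card (fixSub ρ B ⊤)) := by ring
    _ ≤ Nat.card (fixSub ρ A W) * (Nat.card A * Nat.card (fixSub ρ A ⊤)) := Nat.mul_le_mul_left _ h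
    _ = _ := by ring

end Cfsg.Agent.S3087
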