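import Cfsg.Statements.S3103
import Cfsg.Agent.Inv53.Constrained
import Cfsg.Agent.Coprime.Action
import Cfsg.Agent.Solvable.Frattini
import Cfsg.Agent.GLFourTwo.Embed

set_option autoImplicit false
open Cfsg

namespace Cfsg.Agent.S3103

open CfsgLib
open scoped commutatorElement

/-- The action of `X` on the Frattini quotient of its 2-core. -/
noncomputable def frattiniAction (X : Type*) [Group X] :
    X →* MulAut (↥(pCore 2 X) ⧸ frattini ↥(pCore 2 X)) :=
  MonoidHom.mk' (fun x => QuotientGroup.congr _ _ (MulAut.conjNormal x)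
      (Subgroup.characteristic_iff_map_eq.mp inferInstance _))
    fun x y => MulEquiv.ext fun q => by
      induction q using QuotientGroup.induction_on with
      | H k =>
        simp only [map_mul, MulAut.mul_apply]
        rfl

theorem frattiniAction_mk {X : Type*} [Group X] (x : X) (k : ↥(pCore 2 X)) :
    frattiniAction X x (k : ↥(pCore 2 X) ⧸ frattini ↥(pCore 2 X)) =
      ((MulAut.conjNormal x k : ↥(pCore 2 X)) : ↥(pCore 2 X) ⧸ frattini ↥(pCore 2 X)) :=
  rfl

/-- Let X be a finite 2-constrained group with no nontrivial normal subgroup of odd order such that O₂(X) has sectional 2-rank at most 4. Then X/O₂(X) is isomorphic to a subgroup of the alternating group of degree 8. -/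
theorem result {X : Type*} [Group X] [Finite X] (hc : Cfsg.IsPConstrained 2 X) (hO : Cfsg.oddCore X = ⊥)
    (h4 : Cfsg.SectionalPRankLE 2 4 ↥(Cfsg.pCore 2 X)) :
    ∃ f : X ⧸ Cfsg.pCore 2 X →* ↥(alternatingGroup (Fin 8)), Function.Injective f := by
  haveI : Fact (Nat.Prime 2) := ⟨Nat.prime_two⟩
  set P := pCore 2 X with hPdef
  have hP : IsPGroup 2 P := PLocal.isPGroup_pCore 2 X
  have hC : Subgroup.centralizer (P : Set X) ≤ P := Inv53.centralizer_pCore_le hc hO
  set Φ := frattini ↥P with hΦ
  have hcomm : ∀ a b : ↥P ⧸ Φ, a * b = b * a := by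
    intro a b
    induction a using QuotientGroup.induction_on with
    | H a =>
    induction b using QuotientGroup.induction_on with
    | H b =>
    rw [← commutatorElement_eq_one_iff_mul_comm, ← QuotientGroup.mk'_apply,
      ← QuotientGroup.mk'_apply, ← map_commutatorElement, QuotientGroup.mk'_apply,
      QuotientGroup.eq_one_iff]
    exact Solvable.commutator_le_frattini hP
      (Subgroup.commutator_mem_commutator (Subgroup.mem_top _) (Subgroup.mem_top _))
  have hexp : ∀ a : ↥P ⧸ Φ, a ^ 2 = 1 := by
    intro a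
    induction a using QuotientGroup.induction_on with
    | H a =>
    rw [← QuotientGroup.mk_pow, QuotientGroup.eq_one_iff]
    exact Solvable.pow_mem_frattini hP a
  have h16 : Nat.card (↥P ⧸ Φ) ≤ 16 := by
    let e : (⊤ : Subgroup ↥P) →* ↥P := Subgroup.topEquiv.toMonoidHom
    have he : Function.Surjective e := Subgroup.topEquiv.surjective
    let g := (QuotientGroup.mk' Φ).comp e
    have hg : Function.Surjective g := (QuotientGroup.mk'_surjective Φ).comp he
    let q := QuotientGroup.quotientKerEquivOfSurjective g hg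
    have hA := h4 ⊤ g.ker ⊤ ⟨⟨fun a b => Subtype.ext (q.injective (by
        simp only [Subgroup.coe_mul, map_mul]; exact hcomm _ _))⟩⟩
      (fun a _ => q.injective (by rw [map_pow, map_one]; exact hexp _))
    rw [Subgroup.card_top, Nat.card_congr q.toEquiv] at hA
    exact hA
  obtain ⟨f, hf⟩ := GLFourTwo.exists_mulAut_to_alt hcomm hexp h16
  set ψ := frattiniAction X with hψ
  have hker : ψ.ker = P := by
    refine le_antisymm ?_ ?_
    · refine PLocal.le_pCore (Inv53.isPGroup_of_forall_coprime ψ.ker fun x hx hcop => ?_)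
      have hn : Subgroup.zpowers x ≤ Subgroup.normalizer (P : Set X) :=
        le_top.trans_eq (Subgroup.normalizer_eq_top P).symm
      have hcop' : (Nat.card (Subgroup.zpowers x)).Coprime (Nat.card (frattini ↥P)) := by
        rw [Nat.card_zpowers]
        obtain ⟨n, hn⟩ := IsPGroup.iff_card.mp (hP.to_subgroup (frattini ↥P))
        rw [hn]
        exact hcop.pow_right n
      have hsub : ⁅P, Subgroup.zpowers x⁆ ≤ (frattini ↥P).map P.subtype := by
        rw [Subgroup.commutator_le]
        intro k hk a ha
        have haker : a ∈ ψ.ker := (Subgroup.zpowers_le.mpr hx) ha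
        have h1 := frattiniAction_mk a (⟨k, hk⟩ : ↥P)⁻¹
        rw [← hψ, MonoidHom.mem_ker.mp haker, MulAut.one_apply] at h1
        refine ⟨⟨k, hk⟩ * MulAut.conjNormal a (⟨k, hk⟩ : ↥P)⁻¹, ?_, ?_⟩
        · rw [SetLike.mem_coe, ← QuotientGroup.eq_one_iff, QuotientGroup.mk_mul]
          erw [← h1]
          rw [QuotientGroup.mk_inv, mul_inv_cancel]
        · simp [commutatorElement_def, MulAut.conjNormal_apply, mul_assoc]
      have hxC := Coprime.le_centralizer_of_commutator_le_frattini hn hcop' hsub
        (Subgroup.mem_zpowers x)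
      obtain ⟨n, hn'⟩ := IsPGroup.iff_card.mp hP
      have hdvd : orderOf x ∣ 2 ^ n := hn' ▸ P.orderOf_dvd_natCard (hC hxC)
      exact orderOf_eq_one_iff.mp (Nat.eq_one_of_dvd_coprimes (hcop.pow_right n) dvd_rfl hdvd)
    · intro x hx
      rw [MonoidHom.mem_ker]
      refine MulEquiv.ext fun q => ?_
      induction q using QuotientGroup.induction_on with
      | H k =>
      rw [hψ, frattiniAction_mk, MulAut.one_apply]
      have : MulAut.conjNormal x k = (⟨x, hx⟩ : ↥P) * k * (⟨x, hx⟩ : ↥P)⁻¹ := Subtype.ext (by simp)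
      rw [this, QuotientGroup.mk_mul, QuotientGroup.mk_mul, QuotientGroup.mk_inv, hcomm,
        inv_mul_cancel_left]
  refine ⟨f.comp (QuotientGroup.lift P ψ hker.ge), hf.comp ?_⟩
  rw [← MonoidHom.ker_eq_bot_iff, eq_bot_iff]
  intro q hq
  induction q using QuotientGroup.induction_on with
  | H x =>
  rw [MonoidHom.mem_ker, QuotientGroup.lift_mk, ← MonoidHom.mem_ker, hker] at hq
  exact (QuotientGroup.eq_one_iff x).mpr hq

end Cfsg.Agent.S3103
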