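import Cfsg.Statements.S3104
import Cfsg.Agent.GLFourTwo.RankFive
import Cfsg.Agent.S3103

set_option autoImplicit false
open Cfsg

namespace Cfsg.Agent.S3104

open CfsgLib

theorem det_eq_one (g : GLFourTwo.GL32) : (g : Matrix (Fin 3) (Fin 3) (ZMod 2)).det = 1 := by
  have h : IsUnit (g : Matrix (Fin 3) (Fin 3) (ZMod 2)).det :=
    (Matrix.isUnit_iff_isUnit_det _).1 g.isUnit
  revert h
  generalize (g : Matrix (Fin 3) (Fin 3) (ZMod 2)).det = a
  intro h
  obtain ⟨u, rfl⟩ := h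
  revert u
  decide

/-- `GL₃(2) ≅ PSL₃(2)`. -/
theorem GL32_equiv_PSL :
    Nonempty (GLFourTwo.GL32 ≃* Matrix.ProjectiveSpecialLinearGroup (Fin 3) (ZMod 2)) := by
  haveI : Fact (Nat.Prime 2) := ⟨Nat.prime_two⟩
  have hc : Subgroup.center (Matrix.SpecialLinearGroup (Fin 3) (ZMod 2)) = ⊥ := by
    rw [← Subgroup.card_eq_one, CfsgLib.Linear.card_center_SL]
    simp
  have hb : Function.Bijective
      (Matrix.SpecialLinearGroup.toGL : Matrix.SpecialLinearGroup (Fin 3) (ZMod 2) →* GLFourTwo.GL32) := by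
    refine ⟨fun a b h => Subtype.ext (congrArg Units.val h :), fun g => ?_⟩
    refine ⟨⟨(g : Matrix (Fin 3) (Fin 3) (ZMod 2)), ?_⟩, Units.ext rfl⟩
    exact det_eq_one g
  exact ⟨(MulEquiv.ofBijective _ hb).symm.trans
    (((QuotientGroup.quotientMulEquivOfEq hc).trans QuotientGroup.quotientBot).symm)⟩

/-- Let X be a finite nonsolvable 2-constrained group with no nontrivial normal subgroup of odd order such that O₂(X) has sectional 2-rank at most 4, and write Q for X/O₂(X). Then Q is isomorphic to the projective special linear group of dimension 3 over the field with 2 elements, to an alternating group of degree n with 5 ≤ n ≤ 8, to a symmetric group of degree n with 5 ≤ n ≤ 7, or else O₃(Q) has order 3 and Q/O₃(Q) is isomorphic to the alternating or the symmetric group of degree 5 (so Q is the direct product of a group of order 3 with the alternating group of degree 5, or an extension of that direct product by a group of order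 2). If moreover X itself has sectional 2-rank at most 4, then Q is not isomorphic to the symmetric group of degree 6 or 7 nor to the alternating group of degree 8. -/
theorem result {X : Type*} [Group X] [Finite X] (hns : ¬ Group.IsSolvable X) (hc : Cfsg.IsPConstrained 2 X) (hO : Cfsg.oddCore X = ⊥)
    (h4 : Cfsg.SectionalPRankLE 2 4 ↥(Cfsg.pCore 2 X)) :
    ((∃ (F : Type) (_ : Field F) (_ : Fintype F), Fintype.card F = 2 ∧
          Nonempty (X ⧸ Cfsg.pCore 2 X ≃* Matrix.ProjectiveSpecialLinearGroup (Fin 3) F)) ∨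
        (∃ n : ℕ, 5 ≤ n ∧ n ≤ 8 ∧ Nonempty (X ⧸ Cfsg.pCore 2 X ≃* ↥(alternatingGroup (Fin n)))) ∨
        (∃ n : ℕ, 5 ≤ n ∧ n ≤ 7 ∧ Nonempty (X ⧸ Cfsg.pCore 2 X ≃* Equiv.Perm (Fin n))) ∨
        (Nat.card ↥(Cfsg.pCore 3 (X ⧸ Cfsg.pCore 2 X)) = 3 ∧
          (Nonempty ((X ⧸ Cfsg.pCore 2 X) ⧸ Cfsg.pCore 3 (X ⧸ Cfsg.pCore 2 X) ≃* ↥(alternatingGroup (Fin 5))) ∨
            Nonempty ((X ⧸ Cfsg.pCore 2 X) ⧸ Cfsg.pCore 3 (X ⧸ Cfsg.pCore 2 X) ≃* Equiv.Perm (Fin 5))))) ∧
      (Cfsg.SectionalPRankLE 2 4 X →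
        ¬ (Nonempty (X ⧸ Cfsg.pCore 2 X ≃* Equiv.Perm (Fin 6)) ∨ Nonempty (X ⧸ Cfsg.pCore 2 X ≃* Equiv.Perm (Fin 7)) ∨
            Nonempty (X ⧸ Cfsg.pCore 2 X ≃* ↥(alternatingGroup (Fin 8))))) := by
  refine ⟨?_, fun hX hQ => GLFourTwo.not_sectionalPRankLE_four hc hO h4 ?_ hX⟩
  swap
  · rcases hQ with h | h | h
    · obtain ⟨e⟩ := h
      exact Or.inl (by rw [Nat.card_congr e.toEquiv, Nat.card_perm, Nat.card_eq_fintype_card,
        Fintype.card_fin] <;> rfl)
    · obtain ⟨e⟩ := h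
      exact Or.inr (Or.inl (by rw [Nat.card_congr e.toEquiv, Nat.card_perm, Nat.card_eq_fintype_card,
        Fintype.card_fin] <;> rfl))
    · obtain ⟨e⟩ := h
      exact Or.inr (Or.inr (by rw [Nat.card_congr e.toEquiv, GLFourTwo.card_alternating_eight]))
  haveI : Fact (Nat.Prime 2) := ⟨Nat.prime_two⟩
  haveI : Fact (Nat.Prime 3) := ⟨Nat.prime_three⟩
  obtain ⟨f, hf⟩ := Cfsg.Agent.S3103.result hc hO h4
  have hnsQ : ¬ Group.IsSolvable (X ⧸ Cfsg.pCore 2 X) := by
    intro h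
    refine hns (GLFourTwo.solvable_extension (Cfsg.pCore 2 X) ?_ h)
    haveI := (PLocal.isPGroup_pCore 2 X).isNilpotent
    infer_instance
  rcases GLFourTwo.bigList_of_embedding f hf hnsQ (PLocal.pCore_quotient_pCore_eq_bot 2 X) with
    h | h | h | h | ⟨N, hN, hc3, hQN⟩
  · rcases h with h | h | h | h
    · exact Or.inr (Or.inl ⟨5, le_rfl, by norm_num, h⟩)
    · exact Or.inr (Or.inl ⟨6, by norm_num, by norm_num, h⟩)
    · exact Or.inr (Or.inr (Or.inl ⟨5, le_rfl, by norm_num, h⟩))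
    · exact Or.inr (Or.inr (Or.inl ⟨6, by norm_num, by norm_num, h⟩))
  · exact Or.inr (Or.inl ⟨7, by norm_num, by norm_num, h⟩)
  · exact Or.inr (Or.inl ⟨8, by norm_num, le_rfl, h⟩)
  · obtain ⟨e⟩ := h
    obtain ⟨e'⟩ := GL32_equiv_PSL
    exact Or.inl ⟨ZMod 2, inferInstance, inferInstance, ZMod.card 2, ⟨e.trans e'⟩⟩
  · refine Or.inr (Or.inr (Or.inr ?_))
    have hN3 : Cfsg.pCore 3 (X ⧸ Cfsg.pCore 2 X) = N := by
      refine le_antisymm ?_ (PLocal.le_pCore (IsPGroup.of_card (n := 1) (by rw [hc3, pow_one])))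
      haveI : ((Cfsg.pCore 3 (X ⧸ Cfsg.pCore 2 X)).map (QuotientGroup.mk' N)).Normal :=
        (inferInstance : (Cfsg.pCore 3 (X ⧸ Cfsg.pCore 2 X)).Normal).map _ (QuotientGroup.mk'_surjective N)
      have h0 := GLFourTwo.eq_bot_of_three hQN
        ((Cfsg.pCore 3 (X ⧸ Cfsg.pCore 2 X)).map (QuotientGroup.mk' N))
        ((PLocal.isPGroup_pCore 3 _).map _)
      rwa [Subgroup.map_eq_bot_iff, QuotientGroup.ker_mk'] at h0
    revert hc3 hQN
    subst hN3
    intro hc3 hQN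
    exact ⟨hc3, hQN⟩

end Cfsg.Agent.S3104
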