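import Cfsg.Statements.S3106
import Cfsg.Agent.GLFourTwo.A5Radical
-- import your own Cfsg.Agent.* helpers here

set_option autoImplicit false
open Cfsg
open CfsgLib CfsgLib.GLFourTwo CfsgLib.GLFourTwo.A5Mod
open scoped commutatorElement

namespace Cfsg.Agent.S3106

/-- Let X be a finite nonsolvable 2-constrained group with no nontrivial normal subgroup of odd order and of sectional 2-rank at most 4, and suppose X/O₂(X) contains a subgroup isomorphic to the alternating group of degree 5. Then O₂(X) is elementary abelian of order 16, or O₂(X) is a central product of a quaternion group of order 8 and a dihedral group of order 8 (it has order 32 and is generated by two elementwise-commuting subgroups, one quaternion of order 8 and one dihedral of order 8, meeting in the centre). -/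
theorem result {X : Type*} [Group X] [Finite X] (hns : ¬ Group.IsSolvable X) (hc : Cfsg.IsPConstrained 2 X) (hO : Cfsg.oddCore X = ⊥)
    (h4 : Cfsg.SectionalPRankLE 2 4 X)
    (hQ : ∃ A : Subgroup (X ⧸ Cfsg.pCore 2 X), Nonempty (↥A ≃* ↥(alternatingGroup (Fin 5)))) :
    (Cfsg.IsElementaryAbelian 2 (Cfsg.pCore 2 X) ∧ Nat.card ↥(Cfsg.pCore 2 X) = 16) ∨
      (Nat.card ↥(Cfsg.pCore 2 X) = 32 ∧ ∃ A B : Subgroup ↥(Cfsg.pCore 2 X),
        Nonempty (↥A ≃* QuaternionGroup 2) ∧ Nonempty (↥B ≃* DihedralGroup 4) ∧ (∀ a ∈ A, ∀ b ∈ B, a * b = b * a) ∧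
          A ⊔ B = ⊤ ∧ A ⊓ B = Subgroup.center ↥(Cfsg.pCore 2 X)) := by
  classical
  haveI : Fact (Nat.Prime 2) := ⟨Nat.prime_two⟩
  set P := Cfsg.pCore 2 X with hPdef
  have hP : IsPGroup 2 ↥P := PLocal.isPGroup_pCore 2 X
  have h4P : Cfsg.SectionalPRankLE 2 4 ↥P := by
    intro H K hK A hAc hAe
    let e := H.equivMapOfInjective P.subtype P.subtype_injective
    refine Cfsg.Agent.S4400.card_le_of_hom h4 (H.map P.subtype)
      ((QuotientGroup.mk' K).comp e.symm.toMonoidHom) A ?_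
      (fun a ha b hb => congrArg Subtype.val (hAc.is_comm.comm (⟨a, ha⟩ : A) ⟨b, hb⟩)) hAe
    intro a _
    obtain ⟨w, rfl⟩ := QuotientGroup.mk'_surjective K a
    exact ⟨e w, congrArg (QuotientGroup.mk' K) (e.symm_apply_apply w)⟩
  obtain ⟨A, ⟨eA⟩⟩ := hQ
  obtain ⟨a, b, has, hbs, haa, ha1, hbb, hb1, hab⟩ : ∃ a b : Equiv.Perm (Fin 5),
      Equiv.Perm.sign a = 1 ∧ Equiv.Perm.sign b = 1 ∧ a * a = 1 ∧ a ≠ 1 ∧ b * b * b = 1 ∧ b ≠ 1 ∧
        (a * b) ^ 5 = 1 :=
    ⟨Equiv.swap 0 1 * Equiv.swap 2 3, Equiv.swap 0 2 * Equiv.swap 2 4, by decide +kernel⟩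
  let aA : alternatingGroup (Fin 5) := ⟨a, Equiv.Perm.mem_alternatingGroup.2 has⟩
  let bA : alternatingGroup (Fin 5) := ⟨b, Equiv.Perm.mem_alternatingGroup.2 hbs⟩
  let η : alternatingGroup (Fin 5) →* X ⧸ P := A.subtype.comp eA.symm.toMonoidHom
  have hη : Function.Injective η := A.subtype_injective.comp eA.symm.injective
  obtain ⟨x, hx'⟩ := QuotientGroup.mk'_surjective P (η aA)
  obtain ⟨y, hy'⟩ := QuotientGroup.mk'_surjective P (η bA)
  have hxn : x ∉ P := fun h => ha1 (congrArg Subtype.val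
    (hη ((hx'.symm.trans (mk_eq_one.2 h)).trans (map_one η).symm)))
  have hyn : y ∉ P := fun h => hb1 (congrArg Subtype.val
    (hη ((hy'.symm.trans (mk_eq_one.2 h)).trans (map_one η).symm)))
  have hxx : x * x ∈ P := mk_eq_one.1 (by
    rw [map_mul, hx', ← map_mul, show aA * aA = 1 from Subtype.ext haa, map_one])
  have hy3 : y * y * y ∈ P := mk_eq_one.1 (by
    rw [map_mul, map_mul, hy', ← map_mul, ← map_mul, show bA * bA * bA = 1 from Subtype.ext hbb,
      map_one])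
  have hxy : (x * y) ^ 5 ∈ P := mk_eq_one.1 (by
    rw [map_pow, map_mul, hx', hy', ← map_mul, ← map_pow,
      show (aA * bA) ^ 5 = 1 from Subtype.ext hab, map_one])
  have hker := ker_frattAct hc hO
  have hfr : ∀ u, frattAct X u = 1 ↔ u ∈ P := fun u => by
    rw [← MonoidHom.mem_ker, hker]
  obtain ⟨s, E0, hE0, hE0m, hE0a⟩ := coords_of_action (frattQuot_comm (X := X)) frattQuot_sq
    (card_frattQuot_le h4P) (frattAct X x) (frattAct X y)
    (by rw [← map_mul, hfr]; exact hxx)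
    (by rw [← map_pow, hfr, pow_succ, pow_two]; exact hy3)
    (fun h => hyn ((hfr y).1 h))
    (by rw [← map_mul, ← map_pow, hfr]; exact hxy)
  let E : ↥P → Fin 16 := fun k => E0 (k : ↥P ⧸ frattini ↥P)
  let N : Subgroup X := (frattini ↥P).map P.subtype
  have hN0 : E0 1 = 0 := by
    have h := hE0m 1 1
    rwa [one_mul, (xr_facts.1 _).1] at h
  have hNmem : ∀ k : ↥P, E k = 0 ↔ (k : X) ∈ N := fun k => by
    show E0 (k : ↥P ⧸ frattini ↥P) = 0 ↔ _
    rw [← hN0, hE0.1.eq_iff, QuotientGroup.eq_one_iff]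
    exact ⟨fun h => ⟨k, h, rfl⟩, fun ⟨k', hk', e⟩ => Subtype.ext e ▸ hk'⟩
  have hEm : ∀ k k', E (k * k') = xr (E k) (E k') := fun k k' => by
    simp only [E, QuotientGroup.mk_mul, hE0m]
  have hEs : Function.Surjective E := fun i => by
    obtain ⟨q, rfl⟩ := hE0.2 i
    obtain ⟨k, rfl⟩ := QuotientGroup.mk_surjective q
    exact ⟨k, rfl⟩
  have hNP : N ≤ P := Subgroup.map_subtype_le _
  haveI hNn : N.Normal := ⟨fun n hn g => by
    obtain ⟨n', hn', rfl⟩ := hn
    exact ⟨MulAut.conjNormal g n', (Subgroup.characteristic_iff_map_eq.mp inferInstance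
      (MulAut.conjNormal g : MulAut ↥P) : (frattini ↥P).map _ = frattini ↥P) ▸
        Subgroup.mem_map_of_mem _ hn', by simp⟩⟩
  have hsqN : ∀ k ∈ P, k * k ∈ N := fun k hk => ⟨⟨k, hk⟩ * ⟨k, hk⟩, by
    rw [SetLike.mem_coe, ← pow_two]; exact Solvable.pow_mem_frattini hP _, rfl⟩
  -- the quotient by the next layer
  set K := nextLayer P N with hK
  set π := QuotientGroup.mk' K with hπ
  have hKN : K ≤ N := nextLayer_le
  let Pq := P.map π
  let Nq := N.map π
  haveI : Nq.Normal := (inferInstance : N.Normal).map π (QuotientGroup.mk'_surjective K)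
  let Eq' : ↥Pq → Fin 16 := fun p =>
    E ⟨(Subgroup.mem_map.1 p.2).choose, (Subgroup.mem_map.1 p.2).choose_spec.1⟩
  have hEcongr : ∀ k k' : ↥P, π k = π k' → E k = E k' := by
    intro k k' h
    have h1 : ((k'⁻¹ * k : ↥P) : X) ∈ N := hKN (mk_eq_one.1 (by
      show π ((k' : X)⁻¹ * k) = 1
      rw [map_mul, map_inv, h, inv_mul_cancel]))
    have h2 := hEm k' (k'⁻¹ * k)
    rw [mul_inv_cancel_left, (hNmem _).2 h1, (xr_facts.1 _).2.2] at h2
    exact h2
  have hEq : ∀ (k : ↥P) (h : π k ∈ Pq), Eq' ⟨π k, h⟩ = E k := fun k h =>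
    hEcongr _ k (Subgroup.mem_map.1 h).choose_spec.2
  have hmemP : ∀ k : ↥P, π k ∈ Pq := fun k => ⟨k, k.2, rfl⟩
  have Lq : Layer Pq Nq Eq' :=
    { le := Subgroup.map_mono hNP
      central := by
        rintro _ ⟨n, hn, rfl⟩ _ ⟨k, hk, rfl⟩
        exact mk_comm (comm_mem_nextLayer hn hk)
      exp := by
        rintro _ ⟨n, hn, rfl⟩
        rw [← map_mul]
        exact mk_eq_one.2 (sq_mem_nextLayer hn)
      sq := by
        rintro _ ⟨k, hk, rfl⟩
        exact ⟨k * k, hsqN k hk, map_mul π k k⟩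
      surj := fun i => by
        obtain ⟨k, rfl⟩ := hEs i
        exact ⟨⟨π k, hmemP k⟩, hEq k _⟩
      map_mul := by
        rintro ⟨_, k, hk, rfl⟩ ⟨_, k', hk', rfl⟩
        rw [hEq ⟨k, hk⟩ (hmemP _), hEq ⟨k', hk'⟩ (hmemP _), ← hEm]
        exact (congrArg Eq' (Subtype.ext (map_mul π k k').symm :
          _ = (⟨π ((⟨k, hk⟩ * ⟨k', hk'⟩ : ↥P) : X), hmemP _⟩ : ↥Pq))).trans (hEq _ _)
      eq_zero := by
        rintro ⟨_, k, hk, rfl⟩
        rw [hEq ⟨k, hk⟩ (hmemP _), hNmem]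
        refine ⟨fun h => ⟨k, h, rfl⟩, ?_⟩
        rintro ⟨n, hn, e⟩
        have h1 : n⁻¹ * k ∈ N := hKN (mk_eq_one.1 (by rw [map_mul, map_inv, e, inv_mul_cancel]))
        have h2 := mul_mem hn h1
        rwa [mul_inv_cancel_left] at h2 }
  have hgenq : Nq ≤ Subgroup.closure (Set.range fun k : ↥Pq => (k : X ⧸ K) * k) := by
    refine (Subgroup.map_mono frattini_le_closure_squares).trans ?_
    rw [MonoidHom.map_closure]
    refine Subgroup.closure_mono ?_
    rintro _ ⟨_, ⟨k, rfl⟩, rfl⟩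
    exact ⟨⟨π k, hmemP k⟩, (map_mul π _ _).symm⟩
  have hxnq : π x ∉ Pq := by
    rintro ⟨k, hk, e⟩
    refine hxn ?_
    have h1 : k⁻¹ * x ∈ P := hNP (hKN (mk_eq_one.1 (by rw [map_mul, map_inv, e, inv_mul_cancel])))
    have h2 := mul_mem hk h1
    rwa [mul_inv_cancel_left] at h2
  have hconj : ∀ (g : X) (t : Bool), (∀ q, E0 (frattAct X g q) = act s t (E0 q)) →
      ∀ k : ↥Pq, ∃ h : π g * k * (π g)⁻¹ ∈ Pq, Eq' ⟨π g * k * (π g)⁻¹, h⟩ = act s t (Eq' k) := by
    rintro g t hg ⟨_, k, hk, rfl⟩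
    have e : π g * π k * (π g)⁻¹ = π ((MulAut.conjNormal g (⟨k, hk⟩ : ↥P) : ↥P) : X) := by
      rw [MulAut.conjNormal_apply, map_mul, map_mul, map_inv]
    refine ⟨e ▸ hmemP _, ?_⟩
    calc Eq' ⟨π g * π k * (π g)⁻¹, e ▸ hmemP _⟩
        = Eq' ⟨π ((MulAut.conjNormal g (⟨k, hk⟩ : ↥P) : ↥P) : X), hmemP _⟩ := by
          exact congrArg Eq' (Subtype.ext e)
      _ = E (MulAut.conjNormal g (⟨k, hk⟩ : ↥P)) := hEq _ _
      _ = act s t (E ⟨k, hk⟩) := hg (QuotientGroup.mk (⟨k, hk⟩ : ↥P))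
      _ = _ := by rw [hEq ⟨k, hk⟩ (hmemP _)]
  obtain ⟨zq, hzq, hsqq, hNqle⟩ := Layer.squares_cases Lq
    (FGS74.sectional_quotient h4 K) hgenq hxnq (⟨x * x, hxx, map_mul π x x⟩)
    (⟨y * y * y, hy3, by rw [map_mul, map_mul]⟩) (⟨(x * y) ^ 5, hxy, by rw [map_pow, map_mul]⟩)
    (hconj x false fun q => (hE0a q).1) (hconj y true fun q => (hE0a q).2)
  obtain ⟨z, hz, rfl⟩ := hzq
  by_cases hz1 : π z = 1
  · -- elementary abelian
    left
    have hNK : N ≤ K := fun n hn => mk_eq_one.1 (by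
      have h1 := hNqle ⟨n, hn, rfl⟩
      rw [hz1, Subgroup.zpowers_one_eq_bot, Subgroup.mem_bot] at h1
      exact h1)
    have hN : N = ⊥ := eq_bot_of_le_nextLayer hP hNP hNK
    have hexp : ∀ k ∈ P, k * k = 1 := fun k hk => Subgroup.mem_bot.1 (hN ▸ hsqN k hk)
    have hinv : ∀ k : ↥P, k⁻¹ = k := fun k =>
      inv_eq_of_mul_eq_one_right (Subtype.ext (hexp k k.2))
    refine ⟨⟨⟨⟨fun u v => ?_⟩⟩, fun k hk => by rw [pow_two]; exact hexp k hk⟩, ?_⟩
    · rw [← hinv (u * v), mul_inv_rev, hinv, hinv]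
    · have hbij : Function.Bijective E := ⟨fun k k' h => by
        have h1 : E (k'⁻¹ * k) = 0 := by
          have h2 := hEm k' (k'⁻¹ * k)
          rw [mul_inv_cancel_left, h] at h2
          have h3 := congrArg (xr (E k')) h2
          rw [(xr_facts.1 _).1, ← xr_facts.2.2.2, (xr_facts.1 _).1, (xr_facts.1 _).2.1] at h3
          exact h3.symm
        have h4 := (hNmem _).1 h1
        rw [hN, Subgroup.mem_bot, Subgroup.coe_mul, Subgroup.coe_inv] at h4
        exact Subtype.ext (inv_mul_eq_one.1 h4).symm, hEs⟩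
      rw [Nat.card_eq_of_bijective E hbij, Nat.card_fin]
  -- extraspecial
  right
  have hs : s = true := by
    by_contra hs
    have h0 : Nq ≤ ⊥ := hgenq.trans ((Subgroup.closure_le _).2 (by
      rintro _ ⟨k, rfl⟩
      show (k : X ⧸ K) * k ∈ (⊥ : Subgroup (X ⧸ K))
      rw [hsqq, if_neg (fun h => hs h.1)]
      exact one_mem _))
    exact hz1 (Subgroup.mem_bot.1 (h0 ⟨z, hz, rfl⟩))
  subst hs
  have hzdec : ∀ n ∈ N, ∃ i : ℤ, ∃ m ∈ K, n = z ^ i * m := by
    intro n hn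
    obtain ⟨i, hi⟩ := Subgroup.mem_zpowers_iff.1 (hNqle ⟨n, hn, rfl⟩)
    exact ⟨i, (z ^ i)⁻¹ * n, mk_eq_one.1 (by rw [map_mul, map_inv, map_zpow, hi, inv_mul_cancel]),
      (mul_inv_cancel_left _ _).symm⟩
  obtain ⟨sf1, sf2, sf3, sf4, sf5, sf6, sf7, sf8, sf9, sf10⟩ := supp_facts
  have hsupp : ∀ k : ↥P, supp true (E k) → z⁻¹ * ((k : X) * k) ∈ K := fun k hk => mk_eq_one.1 (by
    have h1 := hsqq ⟨π k, hmemP k⟩
    rw [hEq, if_pos hk] at h1
    rw [map_mul, map_mul, map_inv]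
    change π (k : X) * π (k : X) = π z at h1
    rw [h1, inv_mul_cancel])
  -- `N` is central in `P`
  set M := ⁅N, P⁆ with hM
  have hMN : M ≤ N := Subgroup.commutator_le_left _ _
  have hM0 : M = ⊥ := by
    refine eq_bot_of_le_nextLayer hP (hMN.trans hNP) ?_
    set σ := QuotientGroup.mk' (nextLayer P M) with hσ
    have hKc : ∀ m ∈ K, ∀ k ∈ P, σ m * σ k = σ k * σ m := by
      have hle : K ≤ (Subgroup.centralizer ((P.map σ : Subgroup _) : Set (X ⧸ nextLayer P M))).comap σ := by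
        refine sup_le ((Subgroup.closure_le _).2 ?_) ?_
        · intro w hw
          obtain ⟨_, ⟨n, hn, rfl⟩, hcj⟩ := Group.mem_conjugatesOfSet_iff.1 hw
          obtain ⟨c, rfl⟩ := isConj_iff.1 hcj
          rw [SetLike.mem_coe, Subgroup.mem_comap, Subgroup.mem_centralizer_iff]
          rintro _ ⟨k, hk, rfl⟩
          have hn' : c * n * c⁻¹ ∈ N := hNn.conj_mem n hn c
          rw [show c * (n * n) * c⁻¹ = (c * n * c⁻¹) * (c * n * c⁻¹) by group, map_mul]
          generalize c * n * c⁻¹ = u at hn'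
          have hd : ⁅u, k⁆ ∈ M := Subgroup.commutator_mem_commutator hn' hk
          have hcd : ∀ p ∈ P, σ ⁅u, k⁆ * σ p = σ p * σ ⁅u, k⁆ := fun p hp =>
            mk_comm (comm_mem_nextLayer hd hp)
          have hd2 : σ ⁅u, k⁆ * σ ⁅u, k⁆ = 1 := by
            rw [← map_mul]; exact mk_eq_one.2 (sq_mem_nextLayer hd)
          have e : σ u * σ k = σ ⁅u, k⁆ * σ k * σ u := by
            rw [← map_mul, ← map_mul, ← map_mul, commutatorElement_def]; congr 1; group
          calc σ k * (σ u * σ u) = σ ⁅u, k⁆ * σ ⁅u, k⁆ * σ k * (σ u * σ u) := by rw [hd2, one_mul]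
            _ = σ ⁅u, k⁆ * (σ ⁅u, k⁆ * σ k * σ u) * σ u := by group
            _ = σ ⁅u, k⁆ * σ u * (σ k * σ u) := by rw [← e]; group
            _ = σ u * (σ ⁅u, k⁆ * σ k * σ u) := by rw [hcd u (hNP hn')]; group
            _ = σ u * σ u * σ k := by rw [← e, mul_assoc]
        · intro m hm
          rw [Subgroup.mem_comap, Subgroup.mem_centralizer_iff]
          rintro _ ⟨k, hk, rfl⟩
          exact (mk_comm (comm_mem_nextLayer hm hk)).symm
      intro m hm k hk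
      exact (Subgroup.mem_centralizer_iff.1 (hle hm) (σ k) ⟨k, hk, rfl⟩).symm
    set C := (Subgroup.centralizer {σ z}).comap σ with hC
    have hCmem : ∀ w, w ∈ C ↔ σ z * σ w = σ w * σ z := fun w => by
      rw [hC, Subgroup.mem_comap, Subgroup.mem_centralizer_iff]
      exact ⟨fun h => h _ rfl, fun h _ e => e ▸ h⟩
    have hCs : ∀ k : ↥P, supp true (E k) → (k : X) ∈ C := by
      intro k hk
      have hm := hsupp k hk
      rw [hCmem, show σ z = σ k * σ k * (σ (z⁻¹ * ((k : X) * k)))⁻¹ by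
        rw [map_mul, map_mul, map_inv]; group]
      generalize z⁻¹ * ((k : X) * k) = m at hm
      have h1 : Commute (σ m) (σ k) := hKc m hm k k.2
      exact (((Commute.refl (σ k)).mul_left (Commute.refl _)).mul_left h1.inv_left).eq
    have hCN : ∀ n ∈ N, n ∈ C := by
      intro n hn
      obtain ⟨i, m, hm, rfl⟩ := hzdec n hn
      exact mul_mem (zpow_mem ((hCmem z).2 rfl) _) ((hCmem m).2 (hKc m hm z (hNP hz)).symm)
    have hPC : P ≤ C := by
      intro w hw
      obtain ⟨u1, hu1⟩ := hEs 2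
      obtain ⟨u2, hu2⟩ := hEs 4
      obtain ⟨g, hg⟩ := hEs 14
      obtain ⟨h, hh⟩ := hEs 1
      have h1C := hCs u1 (hu1 ▸ sf1)
      have hhC : (h : X) ∈ C := by
        have h2 := mul_mem (inv_mem h1C) (hCs (u1 * h) (by rw [hEm, hu1, hh]; exact sf8))
        rwa [Subgroup.coe_mul, inv_mul_cancel_left] at h2
      have hEmem : ∀ (i : Fin 16) (v : ↥P), E v = i → (v : X) ∈ C → ∀ a : Fin 16, a = 0 ∨ a = i →
          ∃ t : ↥P, (t : X) ∈ C ∧ E t = a := by
        intro i v hv hvm a ha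
        rcases ha with rfl | rfl
        · exact ⟨1, one_mem _, (hNmem 1).2 N.one_mem⟩
        · exact ⟨v, hvm, hv⟩
      obtain ⟨i, j, l, m, hi, hj, hl, hm, e⟩ := supp_span (E ⟨w, hw⟩)
      obtain ⟨w1, m1, e1⟩ := hEmem 2 u1 hu1 h1C i hi
      obtain ⟨w2, m2, e2⟩ := hEmem 4 u2 hu2 (hCs u2 (hu2 ▸ sf2)) j hj
      obtain ⟨w3, m3, e3⟩ := hEmem 14 g hg (hCs g (hg ▸ sf4)) l hl
      obtain ⟨w4, m4, e4⟩ := hEmem 1 h hh hhC m hm
      set t := w1 * w2 * w3 * w4
      have ht : E t = E ⟨w, hw⟩ := by rw [e, hEm, hEm, hEm, e1, e2, e3, e4]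
      have h0 : E (t⁻¹ * ⟨w, hw⟩) = 0 := by
        have h1 := hEm t (t⁻¹ * ⟨w, hw⟩)
        rw [mul_inv_cancel_left, ht] at h1
        have h2 := congrArg (xr (E ⟨w, hw⟩)) h1
        rw [(xr_facts.1 _).1, ← xr_facts.2.2.2, (xr_facts.1 _).1, (xr_facts.1 _).2.1] at h2
        exact h2.symm
      have h5 : (t : X) * ((t : X)⁻¹ * w) ∈ C := mul_mem (mul_mem (mul_mem (mul_mem m1 m2) m3) m4)
        (hCN _ ((hNmem _).1 h0))
      rwa [mul_inv_cancel_left] at h5
    rw [hM, Subgroup.commutator_le]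
    intro n hn k hk
    obtain ⟨i, m, hm, rfl⟩ := hzdec n hn
    have h1 : Commute (σ (z ^ i * m)) (σ k) := by
      rw [map_mul, map_zpow]
      exact ((show Commute (σ z) (σ k) from (hCmem k).1 (hPC hk)).zpow_left i).mul_left
        (hKc m hm k hk)
    refine mk_eq_one.1 ?_
    rw [map_commutatorElement, commutatorElement_eq_one_iff_mul_comm]
    exact h1.eq
  have hcent : ∀ n ∈ N, ∀ k ∈ P, n * k = k * n := fun n hn k hk =>
    commutatorElement_eq_one_iff_mul_comm.1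
      (Subgroup.mem_bot.1 (hM0 ▸ (Subgroup.commutator_mem_commutator hn hk : ⁅n, k⁆ ∈ M)))
  -- `N` is generated by `z`
  have hNP2 : IsPGroup 2 ↥N := hP.to_le hNP
  have hKΦ : ∀ m ∈ K, m ∈ (frattini ↥N).map N.subtype := by
    have hle : K ≤ (frattini ↥N).map N.subtype := by
      refine sup_le ((Subgroup.closure_le _).2 ?_) (hM0.trans_le bot_le)
      intro w hw
      obtain ⟨_, ⟨n, hn, rfl⟩, hcj⟩ := Group.mem_conjugatesOfSet_iff.1 hw
      obtain ⟨c, rfl⟩ := isConj_iff.1 hcj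
      refine ⟨⟨_, hNn.conj_mem n hn c⟩ ^ 2, Solvable.pow_mem_frattini hNP2 _, ?_⟩
      rw [map_pow, pow_two]
      show c * n * c⁻¹ * (c * n * c⁻¹) = c * (n * n) * c⁻¹
      group
    exact fun m hm => hle hm
  have hNz : N ≤ Subgroup.zpowers z := by
    have htop : Subgroup.zpowers (⟨z, hz⟩ : ↥N) = ⊤ := by
      refine Solvable.eq_top_of_sup_frattini (eq_top_iff.2 fun n _ => ?_)
      obtain ⟨i, m, hm, e⟩ := hzdec n n.2
      obtain ⟨m', hm', rfl⟩ := hKΦ m hm
      rw [show n = (⟨z, hz⟩ : ↥N) ^ i * m' from Subtype.ext (by rw [Subgroup.coe_mul, Subgroup.coe_zpow]; exact e)]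
      exact mul_mem (Subgroup.mem_sup_left (Subgroup.zpow_mem _ (Subgroup.mem_zpowers _) _))
        (Subgroup.mem_sup_right hm')
    intro n hn
    obtain ⟨i, hi⟩ := Subgroup.mem_zpowers_iff.1 (htop ▸ Subgroup.mem_top (⟨n, hn⟩ : ↥N))
    exact Subgroup.mem_zpowers_iff.2 ⟨i, by rw [← Subgroup.coe_zpow (H := N) ⟨z, hz⟩, hi]⟩
  have hzne : z ≠ 1 := fun h => hz1 (h ▸ map_one π)
  -- the element `z` is an involution
  have hzz : z * z = 1 := by
    obtain ⟨u, hu⟩ := hEs 2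
    obtain ⟨v, hv⟩ := hEs 4
    set c : X := (v : X) * u * (v : X)⁻¹ * (u : X)⁻¹ with hcdef
    have hπc : π c = π z := by
      have h1 := Lq.sq_mul ⟨π u, hmemP u⟩ ⟨π v, hmemP v⟩
      rw [hsqq] at h1
      have h2 : Eq' (⟨π u, hmemP u⟩ * ⟨π v, hmemP v⟩) = xr 2 4 := by
        rw [Lq.map_mul, hEq, hEq, hu, hv]
      rw [h2, if_pos sf3] at h1
      have hu2 := hsqq ⟨π u, hmemP u⟩
      have hv2 := hsqq ⟨π v, hmemP v⟩
      rw [hEq, hu, if_pos sf1] at hu2
      rw [hEq, hv, if_pos sf2] at hv2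
      change π z = π u * π u * (π v * π v) * (π v * π u * (π v)⁻¹ * (π u)⁻¹) at h1
      change π u * π u = π z at hu2
      change π v * π v = π z at hv2
      rw [hu2, hv2, Lq.exp _ ⟨z, hz, rfl⟩, one_mul] at h1
      rw [hcdef, map_mul, map_mul, map_mul, map_inv, map_inv]
      exact h1.symm
    have hcN : c ∈ N := by
      have h1 : π c ∈ Nq := hπc ▸ ⟨z, hz, rfl⟩
      obtain ⟨n, hn, e⟩ := h1
      have h2 : n⁻¹ * c ∈ N := hKN (mk_eq_one.1 (by rw [map_mul, map_inv, e, inv_mul_cancel]))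
      have h3 := mul_mem hn h2
      rwa [mul_inv_cancel_left] at h3
    have hcc : c * c = 1 := by
      have hvu : (v : X) * u = c * u * v := by rw [hcdef]; group
      have h1 := hcent _ (hsqN v v.2) u u.2
      have h2 : (v : X) * v * u = c * c * u * (v * v) := by
        calc (v : X) * v * u = (v : X) * (c * u * v) := by rw [← hvu, mul_assoc]
          _ = c * ((v : X) * u) * v := by
            rw [← mul_assoc, ← mul_assoc, ← hcent c hcN v v.2]; group
          _ = c * c * u * (v * v) := by rw [hvu]; group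
      rw [h1] at h2
      have h3 : c * c * ((u : X) * ((v : X) * v)) = 1 * ((u : X) * ((v : X) * v)) := by
        rw [one_mul, ← mul_assoc]; exact h2.symm
      exact mul_right_cancel h3
    obtain ⟨i, hi⟩ := Subgroup.mem_zpowers_iff.1 (hNz hcN)
    have hπ2 : π z * π z = 1 := Lq.exp _ ⟨z, hz, rfl⟩
    rcases Int.even_or_odd i with ⟨j, rfl⟩ | ⟨j, rfl⟩
    · exfalso
      refine hz1 ?_
      rw [← hπc, ← hi, map_zpow, ← two_mul, zpow_mul, zpow_ofNat, pow_two, hπ2, one_zpow]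
    · rw [← hi, ← zpow_add] at hcc
      have hdvd := orderOf_dvd_iff_zpow_eq_one.2 hcc
      obtain ⟨m, hm⟩ := hP ⟨z, hNP hz⟩
      obtain ⟨m', -, hm'⟩ := (Nat.dvd_prime_pow Nat.prime_two).1 (orderOf_dvd_of_pow_eq_one
        (congrArg Subtype.val hm : z ^ 2 ^ m = 1))
      rcases m' with - | - | m'
      · exact absurd (orderOf_eq_one_iff.1 hm') hzne
      · rw [← pow_two]; exact orderOf_dvd_iff_pow_eq_one.1 (by rw [hm']; norm_num)
      · exfalso
        rw [hm', pow_succ, pow_succ] at hdvd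
        push_cast at hdvd
        obtain ⟨q, hq⟩ := hdvd
        generalize (2 : ℤ) ^ m' = r at hq
        have h5 : 2 * (2 * j + 1) = 4 * (r * q) := by linarith
        omega
  have hN2 : ∀ n ∈ N, n * n = 1 := by
    intro n hn
    obtain ⟨i, rfl⟩ := Subgroup.mem_zpowers_iff.1 (hNz hn)
    rw [← zpow_add, ← two_mul, zpow_mul, zpow_ofNat, pow_two, hzz, one_zpow]
  have hK0 : K = ⊥ := by
    refine eq_bot_iff.2 (sup_le ((Subgroup.closure_le _).2 ?_) hM0.le)
    intro w hw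
    obtain ⟨_, ⟨n, hn, rfl⟩, hcj⟩ := Group.mem_conjugatesOfSet_iff.1 hw
    obtain ⟨c, rfl⟩ := isConj_iff.1 hcj
    simp [hN2 n hn]
  have hπi : Function.Injective π := by
    rw [← MonoidHom.ker_eq_bot_iff, hπ, QuotientGroup.ker_mk', hK0]
  have L : Layer P N E := ⟨hNP, hcent, hN2, hsqN, hEs, hEm, hNmem⟩
  refine extraspecial L hz hzne hNz fun k => hπi ?_
  have h1 := hsqq ⟨π k, hmemP k⟩
  rw [hEq] at h1
  change π (k : X) * π (k : X) = _ at h1
  rw [map_mul, h1]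
  split
  · rfl
  · exact (map_one π).symm

end Cfsg.Agent.S3106
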