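import Cfsg.Statements.S3117
import Cfsg.Agent.InvolutionChar.ThreeInvolutions

set_option autoImplicit false
open Cfsg

namespace Cfsg.Agent.S3117

/-- If X is a finite 2-group containing exactly three involutions, then the automorphism group of X is solvable. -/
theorem result {X : Type*} [Group X] [Finite X] (h2 : IsPGroup 2 X) (h3 : Nat.card {x : X // orderOf x = 2} = 3) : Group.IsSolvable (MulAut X) := by
  classical
  -- the derived series reaches a perfect term
  obtain ⟨n, hn⟩ : ∃ n, derivedSeries (MulAut X) n = derivedSeries (MulAut X) (n + 1) := by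
    by_contra h
    push Not at h
    have hlt : ∀ m, Nat.card ↥(derivedSeries (MulAut X) m) + m ≤ Nat.card (MulAut X) := by
      intro m; induction m with
      | zero => simp
      | succ m ih =>
        have hle : derivedSeries (MulAut X) (m + 1) ≤ derivedSeries (MulAut X) m := by
          rw [derivedSeries_succ]
          exact Subgroup.commutator_le_left _ _
        have : Nat.card ↥(derivedSeries (MulAut X) (m + 1)) < Nat.card ↥(derivedSeries (MulAut X) m) :=
          lt_of_le_of_ne (Subgroup.card_le_of_le hle)
            (fun he => h m (Subgroup.eq_of_le_of_card_ge hle he.ge).symm)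
        omega
    have h1 := hlt (Nat.card (MulAut X) + 1)
    omega
  refine ⟨n, ?_⟩
  set P := derivedSeries (MulAut X) n with hP
  have hperf : Group.IsPerfect ↥P := by
    refine ⟨Subgroup.map_injective P.subtype_injective ?_⟩
    rw [commutator_def, Subgroup.map_commutator, ← MonoidHom.range_eq_map, Subgroup.range_subtype,
      hP, ← derivedSeries_succ, ← hn]
  have h4 : Nat.card {x : X // x * x = 1} ≤ 4 := by
    let f : {x : X // x * x = 1} → Option {x : X // orderOf x = 2} := fun x =>
      if h : x.1 = 1 then none else some ⟨x.1, orderOf_eq_prime (by rw [sq]; exact x.2) h⟩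
    have hf : Function.Injective f := by
      intro u v huv
      by_cases hu : u.1 = 1 <;> by_cases hv : v.1 = 1 <;> simp [f, hu, hv] at huv
      · exact Subtype.ext (hu.trans hv.symm)
      · exact Subtype.ext huv
    refine le_trans (Nat.card_le_card_of_injective f hf) ?_
    rw [Finite.card_option, h3]
  let act : ↥P →* Equiv.Perm {x : X // orderOf x = 2} := MonoidHom.mk'
    (fun g => ((g : MulAut X).toEquiv).subtypeEquiv fun x => by
      show orderOf x = 2 ↔ orderOf ((g : MulAut X) x) = 2
      rw [MulEquiv.orderOf_eq])
    (fun g g' => Equiv.ext fun x => Subtype.ext rfl)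
  have hinv : ∀ (g : ↥P) (x : X), x * x = 1 → (g : MulAut X) x = x := by
    intro g x hx
    by_cases hx1 : x = 1
    · rw [hx1, map_one]
    have h1 := CfsgLib.InvolutionChar.ThreeInvolutions.perm_eq_one_of_card_le_four hperf act
      (by rw [h3]; norm_num) g
    have h2 := congrArg (fun e : Equiv.Perm {x : X // orderOf x = 2} =>
      (e ⟨x, orderOf_eq_prime (by rw [sq]; exact hx) hx1⟩).1) h1
    exact h2
  rw [Subgroup.eq_bot_iff_forall]
  intro g hg
  refine MulEquiv.ext fun x => ?_
  exact CfsgLib.InvolutionChar.ThreeInvolutions.fix_of_perfect h2 h4 hperf P.subtype hinv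
    _ (⊤ : Subgroup X) rfl (fun _ _ _ => Subgroup.mem_top _) ⟨g, hg⟩ x (Subgroup.mem_top x)

end Cfsg.Agent.S3117
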