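import Cfsg.Statements.S3153
import Mathlib.GroupTheory.Sylow
import Mathlib.GroupTheory.Commutator.Basic
import Mathlib.Tactic
import Cfsg.Agent.PLocal.Cores
import Cfsg.Agent.Coprime.Basic


set_option autoImplicit false
open Cfsg

namespace Cfsg.Agent.S3153
open scoped commutatorElement

section
variable {X : Type*} [Group X]

/-- A homomorphism from a perfect group to a commutative subgroup is trivial. -/
theorem hom_eq_one {A B : Type*} [Group A] [Group B] (hA : Group.IsPerfect A) (f : A →* B)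
    (hc : ∀ a b : A, f a * f b = f b * f a) (a : A) : f a = 1 := by
  have h : commutator A ≤ f.ker := by
    rw [commutator_def, Subgroup.commutator_le]
    intro a _ b _
    rw [MonoidHom.mem_ker, map_commutatorElement, commutatorElement_eq_one_iff_mul_comm]
    exact hc a b
  haveI := hA
  rw [Group.IsPerfect.commutator_eq_top] at h
  exact h (Subgroup.mem_top a)

/-- A normal subgroup of a quasisimple group is central or everything. -/
theorem normal_le_center_or_top {Q : Type*} [Group Q] (hq : Cfsg.IsQuasisimple Q)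
    (N : Subgroup Q) [N.Normal] : N ≤ Subgroup.center Q ∨ N = ⊤ := by
  obtain ⟨hperf, hsimp⟩ := hq
  rcases hsimp.eq_bot_or_eq_top_of_normal _
    (Subgroup.Normal.map (inferInstance : N.Normal) (QuotientGroup.mk' (Subgroup.center Q))
      (QuotientGroup.mk'_surjective _)) with h | h
  · left
    rwa [Subgroup.map_eq_bot_iff, QuotientGroup.ker_mk'] at h
  · right
    rw [eq_top_iff]
    intro a _
    rw [← QuotientGroup.eq_one_iff]
    refine hom_eq_one hperf (QuotientGroup.mk' N) ?_ a
    intro a b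
    have ha : QuotientGroup.mk' (Subgroup.center Q) a ∈ N.map (QuotientGroup.mk' (Subgroup.center Q)) :=
      h ▸ Subgroup.mem_top _
    obtain ⟨n, hn, hna⟩ := ha
    have hz : n⁻¹ * a ∈ Subgroup.center Q := QuotientGroup.eq.1 hna
    have hqa : QuotientGroup.mk' N a = QuotientGroup.mk' N (n⁻¹ * a) := by
      rw [map_mul, map_inv, show QuotientGroup.mk' N n = 1 from (QuotientGroup.eq_one_iff n).2 hn]
      simp
    rw [hqa, ← map_mul, ← map_mul, Subgroup.mem_center_iff.1 hz b]

/-- A perfect central extension of a quasisimple group is quasisimple. -/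
theorem quasisimple_of_surjective {A B : Type*} [Group A] [Group B] (hA : Group.IsPerfect A)
    (f : A →* B) (hf : Function.Surjective f) (hk : f.ker ≤ Subgroup.center A)
    (hB : Cfsg.IsQuasisimple B) : Cfsg.IsQuasisimple A := by
  refine ⟨hA, ?_⟩
  have hker : ((QuotientGroup.mk' (Subgroup.center B)).comp f).ker = Subgroup.center A := by
    refine le_antisymm (fun a ha => ?_) (fun a ha => ?_)
    · rw [MonoidHom.mem_ker, MonoidHom.comp_apply] at ha
      have hfa : f a ∈ Subgroup.center B := (QuotientGroup.eq_one_iff _).1 ha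
      have hk' : ∀ b, ⁅a, b⁆ ∈ Subgroup.center A := fun b => hk (by
        rw [MonoidHom.mem_ker, map_commutatorElement, commutatorElement_eq_one_iff_mul_comm]
        exact (Subgroup.mem_center_iff.1 hfa (f b)).symm)
      let φ : A →* A := MonoidHom.mk' (fun b => ⁅a, b⁆) (fun b c => by
        have h1 := Subgroup.mem_center_iff.1 (hk' c) b
        simp only [commutatorElement_def] at h1 ⊢
        calc a * (b * c) * a⁻¹ * (b * c)⁻¹
            = (a * b * a⁻¹ * b⁻¹) * (b * (a * c * a⁻¹ * c⁻¹)) * b⁻¹ := by group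
          _ = _ := by rw [h1]; group)
      rw [Subgroup.mem_center_iff]
      intro b
      have := hom_eq_one hA φ (fun x y => Subgroup.mem_center_iff.1 (hk' y) _) b
      exact (commutatorElement_eq_one_iff_mul_comm.1 this).symm
    · rw [MonoidHom.mem_ker, MonoidHom.comp_apply]
      refine (QuotientGroup.eq_one_iff _).2 (Subgroup.mem_center_iff.2 fun b => ?_)
      obtain ⟨b, rfl⟩ := hf b
      rw [← map_mul, ← map_mul, Subgroup.mem_center_iff.1 ha b]
  haveI := hB.2
  exact ((QuotientGroup.quotientMulEquivOfEq hker.symm).trans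
    (QuotientGroup.quotientKerEquivOfSurjective _
      ((QuotientGroup.mk'_surjective _).comp hf))).isSimpleGroup

theorem two_dvd_card_of_mem [Finite X] {H : Subgroup X} {v : X} (hv : orderOf v = 2) (h : v ∈ H) :
    2 ∣ Nat.card ↥H := by
  rw [← hv, ← Subgroup.orderOf_mk (H := H) v h]; exact orderOf_dvd_natCard _

theorem sq_one_odd [Finite X] {H : Subgroup X} (hH : Odd (Nat.card ↥H)) {v : X} (h : v ∈ H)
    (h2 : v * v = 1) : v = 1 := by
  by_contra hv
  have := two_dvd_card_of_mem (orderOf_eq_prime (by rw [sq]; exact h2) hv) h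
  exact absurd hH (Nat.not_odd_iff_even.2 (even_iff_two_dvd.2 this))

/-- In a group of odd order no nontrivial element is conjugate to its inverse. -/
theorem eq_one_of_conj_eq_inv [Finite X] {O : Subgroup X} (hO : Odd (Nat.card ↥O)) {a s : X}
    (ha : a ∈ O) (hs : s ∈ O) (h : s * a * s⁻¹ = a⁻¹) : a = 1 := by
  have h2 : Commute (s ^ 2) a := by
    have hc : s ^ 2 * a * (s ^ 2)⁻¹ = s * (s * a * s⁻¹) * s⁻¹ := by rw [sq]; group
    have h3 : s * a⁻¹ * s⁻¹ = a := by rw [← conj_inv, h, inv_inv]
    rw [h, h3] at hc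
    exact mul_inv_eq_iff_eq_mul.1 hc
  obtain ⟨k, hk⟩ := hO
  have hs1 : s ^ (2 * k + 1) = 1 := by
    rw [← hk]; exact congrArg Subtype.val (pow_card_eq_one' (x := (⟨s, hs⟩ : ↥O)))
  have hsk : s = (s ^ 2) ^ (k + 1) := by
    rw [← pow_mul, show 2 * (k + 1) = (2 * k + 1) + 1 by ring, pow_succ, hs1, one_mul]
  have h4 : Commute s a := hsk ▸ h2.pow_left (k + 1)
  rw [h4.eq, mul_inv_cancel_right] at h
  exact sq_one_odd ⟨k, hk⟩ ha (by nth_rw 2 [h]; exact mul_inv_cancel a)

/-- If two commuting involutions have the same centraliser in a normal subgroup of odd order then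
their product centralises it. -/
theorem comm_of_same_fix [Finite X] {O : Subgroup X} [O.Normal] (hO : Odd (Nat.card ↥O))
    {t u : X} (ht : t * t = 1) (hu : u * u = 1) (htu : t * u = u * t)
    (heq : ∀ x ∈ O, t * x = x * t ↔ u * x = x * u) : ∀ x ∈ O, t * u * x = x * (t * u) := by
  have hti : t⁻¹ = t := inv_eq_of_mul_eq_one_right ht
  have hui : u⁻¹ = u := inv_eq_of_mul_eq_one_right hu
  have hmem : ∀ g : X, ∀ x ∈ O, g * x * g⁻¹ ∈ O := fun g x hx =>
    Subgroup.Normal.conj_mem inferInstance x hx g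
  -- only the identity is inverted by `t * u`
  have key : ∀ x ∈ O, MulAut.conj (t * u) x = x⁻¹ → x = 1 := by
    intro x hx hw
    set r := x⁻¹ * MulAut.conj t x with hr
    have htt : ∀ y, MulAut.conj t (MulAut.conj t y) = y := fun y => by
      rw [← MulAut.mul_apply, ← map_mul, ht, map_one, MulAut.one_apply]
    have hrO : r ∈ O := mul_mem (inv_mem hx) (hmem t x hx)
    have hrt : MulAut.conj t r = r⁻¹ := by
      rw [hr, map_mul, map_inv, htt, mul_inv_rev, inv_inv]
    obtain ⟨k, hk⟩ := hO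
    have hr1 : r ^ (2 * k + 1) = 1 := by
      rw [← hk]; exact congrArg Subtype.val (pow_card_eq_one' (x := (⟨r, hrO⟩ : ↥O)))
    set s := r ^ (k + 1) with hs
    have hsO : s ∈ O := pow_mem hrO _
    have hss : s * s = r := by
      rw [hs, ← pow_add, show k + 1 + (k + 1) = (2 * k + 1) + 1 by ring, pow_succ, hr1, one_mul]
    have hst : MulAut.conj t s = s⁻¹ := by rw [hs, map_pow, hrt, inv_pow]
    set c := x * s with hc
    have hcO : c ∈ O := mul_mem hx hsO
    have hct : MulAut.conj t c = c := by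
      rw [hc, map_mul, hst, show MulAut.conj t x = x * r by rw [hr, mul_inv_cancel_left], ← hss]
      group
    have hcu : MulAut.conj u c = c := by
      have h1 : t * c = c * t := mul_inv_eq_iff_eq_mul.1 hct
      exact mul_inv_eq_iff_eq_mul.2 ((heq c hcO).1 h1)
    have hwc : MulAut.conj (t * u) c = c := by
      rw [map_mul MulAut.conj, MulAut.mul_apply, hcu, hct]
    have hx' : x = c * s⁻¹ := by rw [hc, mul_inv_cancel_right]
    have hws : MulAut.conj (t * u) s = c * s⁻¹ * c := by
      have h5 : c = x⁻¹ * MulAut.conj (t * u) s := by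
        calc c = MulAut.conj (t * u) (x * s) := hwc.symm
          _ = _ := by rw [map_mul (MulAut.conj (t * u)), hw]
      rw [← hx', h5, mul_inv_cancel_left]
    have hcomm : MulAut.conj t (MulAut.conj (t * u) s) = MulAut.conj (t * u) (MulAut.conj t s) := by
      simp only [← MulAut.mul_apply, ← map_mul]
      congr 2
      rw [mul_assoc t u, ← htu]
    rw [hst, map_inv, hws, map_mul, map_mul, map_inv, hct, hst, inv_inv] at hcomm
    have hcc : c * c = 1 := by
      refine eq_one_of_conj_eq_inv ⟨k, hk⟩ (mul_mem hcO hcO) (inv_mem hsO) ?_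
      calc s⁻¹ * (c * c) * s⁻¹⁻¹ = s⁻¹ * c * (c * s * c) * c⁻¹ := by group
        _ = s⁻¹ * c * (c * s⁻¹ * c)⁻¹ * c⁻¹ := by rw [hcomm]
        _ = (c * c)⁻¹ := by group
    have hc1 : c = 1 := sq_one_odd ⟨k, hk⟩ hcO hcc
    rw [hc1, one_mul] at hx'
    have hxu : MulAut.conj u x = x := by
      have htw : u = t * (t * u) := by rw [← mul_assoc, ht, one_mul]
      rw [htw, map_mul, MulAut.mul_apply, hw, map_inv, hx', map_inv, hst, inv_inv]
    have hxt : MulAut.conj t x = x :=
      mul_inv_eq_iff_eq_mul.2 ((heq x hx).2 (mul_inv_eq_iff_eq_mul.1 hxu))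
    refine sq_one_odd ⟨k, hk⟩ hx ?_
    have h6 : MulAut.conj t x = x⁻¹ := by rw [hx', map_inv, hst]
    rw [hxt] at h6
    nth_rw 2 [h6]
    exact mul_inv_cancel x
  intro x hx
  have hww : ∀ y, MulAut.conj (t * u) (MulAut.conj (t * u) y) = y := fun y => by
    rw [← MulAut.mul_apply, ← map_mul]
    have : t * u * (t * u) = 1 := by rw [mul_assoc, ← mul_assoc u, ← htu, mul_assoc t u, hu, mul_one, ht]
    rw [this, map_one, MulAut.one_apply]
  have h1 := key (x⁻¹ * MulAut.conj (t * u) x) (mul_mem (inv_mem hx) (hmem _ x hx))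
    (by rw [map_mul, map_inv, hww, mul_inv_rev, inv_inv])
  exact mul_inv_eq_iff_eq_mul.1 (inv_mul_eq_one.1 h1).symm

end

/-- Let X be a finite group and P a standard subgroup of X whose centralizer has 2-rank at most 1 and whose centre has odd order. Let S be a Sylow 2-subgroup of N_X(P) and t an involution of S centralizing P. Suppose some element g of X normalizes S, does not lie in S, has its square in S, and conjugates t into P·C_X(P). Then P commutes elementwise with the largest normal odd-order subgroup O(X) of X; consequently every t-invariant 2-component of X containing P is quasisimple. -/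
theorem result {X : Type*} [Group X] [Finite X] (P : Subgroup X) (hP : Cfsg.IsStandardSubgroup P)
    (hr : Cfsg.PRankLE 2 1 ↥(Subgroup.centralizer (P : Set X))) (hZ : Odd (Nat.card ↥(Subgroup.center ↥P)))
    (S : Sylow 2 ↥(Subgroup.normalizer (P : Set X))) (t : X) (ht : orderOf t = 2) (htS : t ∈ (S : Subgroup ↥(Subgroup.normalizer (P : Set X))).map (Subgroup.normalizer (P : Set X)).subtype)
    (htP : t ∈ Subgroup.centralizer (P : Set X))
    (g : X) (hgN : ∀ s ∈ (S : Subgroup ↥(Subgroup.normalizer (P : Set X))).map (Subgroup.normalizer (P : Set X)).subtype, g * s * g⁻¹ ∈ (S : Subgroup ↥(Subgroup.normalizer (P : Set X))).map (Subgroup.normalizer (P : Set X)).subtype)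
    (hgS : g ∉ (S : Subgroup ↥(Subgroup.normalizer (P : Set X))).map (Subgroup.normalizer (P : Set X)).subtype) (hg2 : g ^ 2 ∈ (S : Subgroup ↥(Subgroup.normalizer (P : Set X))).map (Subgroup.normalizer (P : Set X)).subtype)
    (hgt : g * t * g⁻¹ ∈ P ⊔ Subgroup.centralizer (P : Set X)) :
    ⁅P, Cfsg.oddCore X⁆ = ⊥ ∧
      ∀ L : Subgroup X, Cfsg.IsPComponent 2 L → P ≤ L → (∀ l ∈ L, t * l * t⁻¹ ∈ L) → Cfsg.IsQuasisimple ↥L := by
  classical
  haveI : Fact (Nat.Prime 2) := ⟨Nat.prime_two⟩
  obtain ⟨hq, ⟨-, htight⟩, -, hnorm⟩ := hP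
  set C := Subgroup.centralizer (P : Set X) with hC
  set Sm := (S : Subgroup ↥(Subgroup.normalizer (P : Set X))).map (Subgroup.normalizer (P : Set X)).subtype with hSm
  have hmC : ∀ {x}, x ∈ C ↔ ∀ a ∈ P, a * x = x * a := fun {x} => Subgroup.mem_centralizer_iff
  have hSN : Sm ≤ (Subgroup.normalizer (P : Set X)) := Subgroup.map_subtype_le _
  have htt : t * t = 1 := by rw [← sq, ← ht]; exact pow_orderOf_eq_one t
  have ht1 : t ≠ 1 := by rintro rfl; simp at ht
  -- involutions of `C` commuting with a given one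
  have huniq : ∀ v w : X, v ∈ C → w ∈ C → v * v = 1 → w * w = 1 → v * w = w * v → v ≠ 1 → w ≠ 1 →
      v = w := by
    intro v w hv hw hv2 hw2 hvw hv1 hw1
    by_contra hne
    let v' : ↥C := ⟨v, hv⟩
    let w' : ↥C := ⟨w, hw⟩
    set A : Subgroup ↥C := Subgroup.closure {v', w'} with hA
    haveI : IsMulCommutative ↥A := Subgroup.isMulCommutative_closure (by
      rintro a (rfl | rfl) b (rfl | rfl) <;>
        first
          | rfl
          | exact Subtype.ext hvw
          | exact Subtype.ext hvw.symm)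
    have hexp : ∀ a ∈ A, a ^ 2 = 1 := by
      intro a ha
      induction ha using Subgroup.closure_induction with
      | mem a ha =>
        rcases ha with rfl | rfl
        · exact Subtype.ext (by simpa [sq] using hv2)
        · exact Subtype.ext (by simpa [sq] using hw2)
      | one => exact one_pow 2
      | mul a b ha hb ia ib =>
        have hab : a * b = b * a :=
          congrArg Subtype.val (IsMulCommutative.is_comm.comm (⟨a, ha⟩ : ↥A) ⟨b, hb⟩)
        rw [(show Commute a b from hab).mul_pow, ia, ib, mul_one]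
      | inv a ha ia => rw [inv_pow, ia, inv_one]
    have hcard := hr A inferInstance hexp
    have h3 : 3 ≤ Nat.card ↥A := by
      let f : Fin 3 → ↥A := ![1, ⟨v', Subgroup.subset_closure (by simp)⟩,
        ⟨w', Subgroup.subset_closure (by simp)⟩]
      have hf : Function.Injective f := by
        intro i j h
        have h' : ((f i : ↥C) : X) = ((f j : ↥C) : X) := by rw [h]
        fin_cases i <;> fin_cases j <;>
          first
            | rfl
            | exact absurd h' hne
            | exact absurd h'.symm hne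
            | exact absurd h' hv1
            | exact absurd h'.symm hv1
            | exact absurd h' hw1
            | exact absurd h'.symm hw1
      simpa using Nat.card_le_card_of_injective f hf
    omega
  -- `C_X(t)` normalises `P`
  have hCt : ∀ x, x * t = t * x → x ∈ (Subgroup.normalizer (P : Set X)) := by
    intro x hx
    rw [hnorm]
    by_contra hxn
    have h1 := htight x hxn
    have htm : t ∈ C ⊓ C.map (MulAut.conj x).toMonoidHom :=
      ⟨htP, ⟨t, htP, mul_inv_eq_iff_eq_mul.2 hx⟩⟩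
    exact absurd h1 (Nat.not_odd_iff_even.2 (even_iff_two_dvd.2 (two_dvd_card_of_mem ht htm)))
  have hconjC : ∀ x ∈ (Subgroup.normalizer (P : Set X)), ∀ c ∈ C, x * c * x⁻¹ ∈ C := fun x hx c hc => by
    rw [hnorm] at hx; exact (Subgroup.mem_normalizer_iff.1 hx c).1 hc
  -- `t` is central in `Sm`
  have hSmP : IsPGroup 2 ↥Sm := S.2.map _
  have htc : ∀ s ∈ Sm, s * t = t * s := by
    intro s hs
    set T := Sm ⊓ C with hT
    have hTp : IsPGroup 2 ↥T := hSmP.to_le inf_le_left
    haveI : Nontrivial ↥T := ⟨⟨⟨t, htS, htP⟩, 1, fun h => ht1 (congrArg Subtype.val h)⟩⟩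
    haveI := hTp.center_nontrivial
    obtain ⟨z, hz⟩ := exists_prime_orderOf_dvd_card' (G := ↥(Subgroup.center ↥T)) 2 (by
      obtain ⟨m, hm, hm'⟩ := (IsPGroup.nontrivial_iff_card (hTp.to_subgroup (Subgroup.center ↥T))).1 inferInstance
      rw [hm']; exact dvd_pow_self 2 (by omega))
    have hz2 : ((z : ↥T) : X) * ((z : ↥T) : X) = 1 := by
      have := pow_orderOf_eq_one z
      rw [hz, sq] at this
      exact congrArg (fun a : ↥(Subgroup.center ↥T) => ((a : ↥T) : X)) this
    have hz1 : ((z : ↥T) : X) ≠ 1 := by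
      intro h
      have : z = 1 := Subtype.ext (Subtype.ext h)
      rw [this, orderOf_one] at hz; omega
    have hall : ∀ v ∈ T, v * v = 1 → v ≠ 1 → v = ((z : ↥T) : X) := by
      intro v hv hv2 hv1
      exact huniq v _ hv.2 (z : ↥T).2.2 hv2 hz2
        (congrArg Subtype.val (Subgroup.mem_center_iff.1 z.2 ⟨v, hv⟩)) hv1 hz1
    have hvT : s * t * s⁻¹ ∈ T := ⟨Sm.mul_mem (Sm.mul_mem hs htS) (Sm.inv_mem hs), hconjC s (hSN hs) t htP⟩
    have h1 := hall _ hvT (by
      calc s * t * s⁻¹ * (s * t * s⁻¹) = s * (t * t) * s⁻¹ := by group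
        _ = 1 := by rw [htt]; group) (fun h => ht1 (conj_eq_one_iff.1 h))
    rw [← hall t ⟨htS, htP⟩ htt ht1] at h1
    exact mul_inv_eq_iff_eq_mul.1 h1
  set u := g * t * g⁻¹ with hu
  have huS : u ∈ Sm := hgN t htS
  have huu : u * u = 1 := by
    calc u * u = g * (t * t) * g⁻¹ := by rw [hu]; group
      _ = 1 := by rw [htt]; group
  have hgu : g * u * g⁻¹ = t := by
    calc g * u * g⁻¹ = g ^ 2 * t * (g ^ 2)⁻¹ := by rw [hu, sq]; group
      _ = t := mul_inv_eq_iff_eq_mul.2 (htc _ hg2)
  -- `u ≠ t`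
  have hut : u ≠ t := by
    intro h
    have hgNm : g ∈ (Subgroup.normalizer (P : Set X)) := hCt g (mul_inv_eq_iff_eq_mul.1 h)
    set g' : ↥(Subgroup.normalizer (P : Set X)) := ⟨g, hgNm⟩
    have hnS : g' ∈ Subgroup.normalizer ((S : Subgroup ↥(Subgroup.normalizer (P : Set X))) : Set ↥(Subgroup.normalizer (P : Set X))) := by
      apply (Subgroup.mem_normalizer_iff_map_conj_eq).2
      apply Subgroup.eq_of_le_of_card_ge
      · rintro _ ⟨a, ha, rfl⟩
        obtain ⟨b, hb, hb'⟩ := hgN a ⟨a, ha, rfl⟩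
        have heq : MulAut.conj g' a = b := Subtype.ext hb'.symm
        show MulAut.conj g' a ∈ (S : Subgroup _)
        exact heq ▸ hb
      · rw [Subgroup.card_map_of_injective (MulEquiv.injective _)]
    apply hgS
    refine ⟨g', ?_, rfl⟩
    have hsq : g' ^ 2 ∈ (S : Subgroup ↥(Subgroup.normalizer (P : Set X))) := by
      obtain ⟨b, hb, hb'⟩ := hg2
      have heq : g' ^ 2 = b := Subtype.ext hb'.symm
      exact heq ▸ hb
    set M := Subgroup.normalizer ((S : Subgroup ↥(Subgroup.normalizer (P : Set X))) : Set ↥(Subgroup.normalizer (P : Set X))) with hM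
    haveI hnorm' : ((S : Subgroup ↥(Subgroup.normalizer (P : Set X))).subgroupOf M).Normal := Subgroup.normal_in_normalizer
    have hindex : ¬ 2 ∣ ((S : Subgroup ↥(Subgroup.normalizer (P : Set X))).subgroupOf M).index := fun hd =>
      S.not_dvd_index (hd.trans (Subgroup.relIndex_dvd_index_of_le Subgroup.le_normalizer))
    set q : ↥M ⧸ (S : Subgroup ↥(Subgroup.normalizer (P : Set X))).subgroupOf M := QuotientGroup.mk ⟨g', hnS⟩ with hqdef
    have hq2 : q ^ 2 = 1 := by
      rw [hqdef, ← QuotientGroup.mk_pow, QuotientGroup.eq_one_iff]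
      simpa [Subgroup.mem_subgroupOf] using hsq
    have hq1 : q = 1 := by
      rcases (Nat.dvd_prime Nat.prime_two).1 (orderOf_dvd_of_pow_eq_one hq2) with h | h
      · exact orderOf_eq_one_iff.1 h
      · exfalso; apply hindex; have hd := orderOf_dvd_natCard q; rw [h] at hd; exact hd
    exact Subgroup.mem_subgroupOf.1 ((QuotientGroup.eq_one_iff _).1 hq1)
  -- write `u` as a product
  have hCnorm : C ≤ (Subgroup.normalizer (P : Set X)) := by rw [hnorm]; exact Subgroup.le_normalizer
  have hcomm : ∀ a ∈ P, ∀ c ∈ C, a * c = c * a := fun a ha c hc => hmC.1 hc a ha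
  obtain ⟨p₀, hp₀, c₀, hc₀, hpc₀⟩ : ∃ p ∈ P, ∃ c ∈ C, u = p * c := by
    obtain ⟨a, ha, c, hc, h⟩ := CfsgLib.Coprime.exists_mul_of_mem_sup hCnorm hgt
    exact ⟨a, ha, c, hc, h.symm⟩
  set k := Nat.card ↥(Subgroup.center ↥P) with hk
  obtain ⟨j, hj⟩ := hZ
  have huk : u ^ k = u := by
    rw [hj, pow_succ, pow_mul, sq, huu, one_pow, one_mul]
  have hpp : p₀ * p₀ = (c₀ * c₀)⁻¹ := by
    have h1 : (p₀ * c₀) * (p₀ * c₀) = 1 := hpc₀ ▸ huu
    refine eq_inv_of_mul_eq_one_left ?_
    calc p₀ * p₀ * (c₀ * c₀) = p₀ * (p₀ * c₀) * c₀ := by group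
      _ = p₀ * (c₀ * p₀) * c₀ := by rw [hcomm p₀ hp₀ c₀ hc₀]
      _ = 1 := by rw [← h1]; group
  have hzk : (p₀ * p₀) ^ k = 1 := by
    have hz : (⟨p₀ * p₀, mul_mem hp₀ hp₀⟩ : ↥P) ∈ Subgroup.center ↥P := by
      rw [Subgroup.mem_center_iff]
      intro a
      have hppC : p₀ * p₀ ∈ C := hpp ▸ inv_mem (mul_mem hc₀ hc₀)
      exact Subtype.ext (hmC.1 hppC a a.2)
    have := pow_card_eq_one' (x := (⟨_, hz⟩ : ↥(Subgroup.center ↥P)))
    exact congrArg (fun a : ↥(Subgroup.center ↥P) => ((a : ↥P) : X)) this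
  set p := p₀ ^ k with hp
  set c := c₀ ^ k with hc
  have hpP : p ∈ P := pow_mem hp₀ _
  have hcC : c ∈ C := pow_mem hc₀ _
  have hupc : u = p * c := by
    rw [← huk, hpc₀, (show Commute p₀ c₀ from hcomm p₀ hp₀ c₀ hc₀).mul_pow]
  have hp2 : p * p = 1 := by rw [hp, ← (Commute.refl p₀).mul_pow, hzk]
  have hc2 : c * c = 1 := by
    rw [hc, ← (Commute.refl c₀).mul_pow]
    have : c₀ * c₀ = (p₀ * p₀)⁻¹ := by rw [hpp, inv_inv]
    rw [this, inv_pow, hzk, inv_one]
  have hpt : p * t = t * p := hcomm p hpP t htP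
  have hcv : c = 1 ∨ c = t := by
    by_cases hc1 : c = 1
    · exact Or.inl hc1
    refine Or.inr (huniq c t hcC htP hc2 htt ?_ hc1 ht1)
    have h1 : p * c * t = t * (p * c) := hupc ▸ htc u huS
    apply mul_left_cancel (a := p)
    rw [← mul_assoc, h1, ← mul_assoc, ← hpt, mul_assoc]
  have hp1 : p ≠ 1 := by
    intro h
    rw [h, one_mul] at hupc
    rcases hcv with hh | hh
    · apply ht1
      have : u = 1 := hupc.trans hh
      rwa [hu, conj_eq_one_iff] at this
    · exact hut (hupc.trans hh)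
  have hpnc : (⟨p, hpP⟩ : ↥P) ∉ Subgroup.center ↥P := by
    intro h
    have h2 : (⟨⟨p, hpP⟩, h⟩ : ↥(Subgroup.center ↥P)) ^ 2 = 1 := by
      apply Subtype.ext; apply Subtype.ext; simpa [sq] using hp2
    have h3 := Nat.dvd_gcd (orderOf_dvd_of_pow_eq_one h2)
      (orderOf_dvd_natCard (⟨⟨p, hpP⟩, h⟩ : ↥(Subgroup.center ↥P)))
    rw [← hk, hj, Nat.gcd_comm, show Nat.gcd (2 * j + 1) 2 = 1 by simp, Nat.dvd_one,
      orderOf_eq_one_iff] at h3
    exact hp1 (congrArg (fun a : ↥(Subgroup.center ↥P) => ((a : ↥P) : X)) h3)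
  -- the core
  set O := Cfsg.oddCore X with hO
  have hOodd : Odd (Nat.card ↥O) := by
    rw [← Nat.not_even_iff_odd, even_iff_two_dvd, ← CfsgLib.PLocal.not_dvd_iff_coprime]
    exact CfsgLib.PLocal.coprime_card_pPrimeCore 2 X
  haveI hOn : O.Normal := inferInstance
  -- `C_O(t)` centralises `P`
  have hfixP : ∀ x ∈ O, t * x = x * t → x ∈ C := by
    intro x hx hxt
    have hxN := hCt x hxt.symm
    have hPO : (O.subgroupOf P) ≤ Subgroup.center ↥P := by
      rcases normal_le_center_or_top hq (O.subgroupOf P) with h | h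
      · exact h
      · exfalso
        apply hp1
        have : (⟨p, hpP⟩ : ↥P) ∈ O.subgroupOf P := h ▸ Subgroup.mem_top _
        exact sq_one_odd hOodd (Subgroup.mem_subgroupOf.1 this) hp2
    have hval : ∀ a : ↥P, (a : X) * x * (a : X)⁻¹ * x⁻¹ ∈ P := fun a => by
      have h1 : x * ((a : X))⁻¹ * x⁻¹ ∈ P := (Subgroup.mem_normalizer_iff.1 hxN _).1 (inv_mem a.2)
      have h2 := mul_mem a.2 h1
      simpa [mul_assoc] using h2
    have hz : ∀ a : ↥P, (⟨_, hval a⟩ : ↥P) ∈ Subgroup.center ↥P := fun a => hPO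
      (Subgroup.mem_subgroupOf.2 (mul_mem (Subgroup.Normal.conj_mem hOn x hx _) (inv_mem hx)))
    let φ : ↥P →* ↥P := MonoidHom.mk' (fun a => ⟨_, hval a⟩) (fun a b => by
      have h1 := congrArg Subtype.val (Subgroup.mem_center_iff.1 (hz b) a)
      apply Subtype.ext
      simp only [Subgroup.coe_mul] at h1 ⊢
      calc (a : X) * b * x * ((a : X) * b)⁻¹ * x⁻¹
          = ((a : X) * (b * x * (b : X)⁻¹ * x⁻¹)) * (x * (a : X)⁻¹ * x⁻¹) := by group
        _ = _ := by
          rw [h1]
          have h2 := congrArg Subtype.val (Subgroup.mem_center_iff.1 (hz b) ⟨_, hval a⟩)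
          simp only [Subgroup.coe_mul] at h2
          rw [h2]; group)
    rw [hmC]
    intro a ha
    have h1 : a * x * a⁻¹ * x⁻¹ = 1 := congrArg Subtype.val
      (hom_eq_one hq.1 φ (fun b c => Subgroup.mem_center_iff.1 (hz c) _) ⟨a, ha⟩)
    exact commutatorElement_eq_one_iff_mul_comm.1 h1
  -- `C_O(u)` centralises the conjugate of `P`
  have hfixQ : ∀ x ∈ O, u * x = x * u → ∀ a ∈ P, g * a * g⁻¹ * x = x * (g * a * g⁻¹) := by
    intro x hx hxu a ha
    have h1 : t * (g⁻¹ * x * g) = g⁻¹ * x * g * t := by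
      calc t * (g⁻¹ * x * g) = g⁻¹ * (u * x) * g := by rw [hu]; group
        _ = g⁻¹ * x * g * t := by rw [hxu, hu]; group
    have h2 := hmC.1 (hfixP _ (by simpa using Subgroup.Normal.conj_mem hOn x hx g⁻¹) h1) a ha
    calc g * a * g⁻¹ * x = g * (a * (g⁻¹ * x * g)) * g⁻¹ := by group
      _ = x * (g * a * g⁻¹) := by rw [h2]; group
  have hfixeq : ∀ x ∈ O, t * x = x * t ↔ u * x = x * u := by
    intro x hx
    constructor
    · intro hxt
      have hxC := hfixP x hx hxt
      have hpx : p * x = x * p := hcomm p hpP x hxC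
      rw [hupc]
      rcases hcv with hh | hh
      · rw [hh, mul_one, hpx]
      · rw [hh, mul_assoc, hxt, ← mul_assoc, hpx, mul_assoc]
    · intro hxu
      have hpx := hfixQ x hx hxu p hpP
      rcases hcv with hh | hh
      · rw [hh, mul_one] at hupc
        rw [← hupc, hgu] at hpx
        exact hpx
      · -- here `g` centralises `p`
        rw [hh] at hupc
        have hpu : p = u * t := by rw [hupc, mul_assoc, htt, mul_one]
        have hgp : g * p * g⁻¹ = p := by
          calc g * p * g⁻¹ = (g * u * g⁻¹) * (g * t * g⁻¹) := by rw [hpu]; group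
            _ = t * u := by rw [hgu]
            _ = p := by rw [hpu, htc u huS]
        rw [hgp] at hpx
        have : t = p * u := by rw [hupc, ← mul_assoc, hp2, one_mul]
        rw [this, mul_assoc, hxu, ← mul_assoc, hpx, mul_assoc]
  have hw := comm_of_same_fix hOodd htt huu (htc u huS).symm hfixeq
  -- hence `P` centralises the core
  set K := Subgroup.centralizer (O : Set X) with hK
  haveI hKn : K.Normal := Subgroup.normal_centralizer
  have hpK : ∀ a ∈ P, p * a * p⁻¹ * a⁻¹ ∈ K := by
    intro a ha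
    have htuK : t * u ∈ K := by
      rw [hK, Subgroup.mem_centralizer_iff]; exact fun y hy => (hw y hy).symm
    have hpi : p⁻¹ = p := inv_eq_of_mul_eq_one_right hp2
    rcases hcv with hh | hh
    · rw [hh, mul_one] at hupc
      rw [hupc] at htuK
      have : p * a * p⁻¹ * a⁻¹ = (t * p) * (a * (t * p) * a⁻¹) := by
        have hta : t * a = a * t := (hcomm a ha t htP).symm
        calc p * a * p⁻¹ * a⁻¹ = p * (t * t) * a * p * a⁻¹ := by rw [htt, mul_one, hpi]
          _ = (p * t) * (t * a) * p * a⁻¹ := by group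
          _ = _ := by rw [hpt, hta]; group
      rw [this]; exact mul_mem htuK (hKn.conj_mem _ htuK a)
    · have hpe : p = t * u := by
        rw [hupc, hh, ← mul_assoc, ← hpt, mul_assoc, htt, mul_one]
      have hpKmem : p ∈ K := hpe ▸ htuK
      rw [mul_assoc, mul_assoc, ← mul_assoc a]
      exact mul_mem hpKmem (hKn.conj_mem _ (inv_mem hpKmem) a)
  have hPK : ∀ a ∈ P, a ∈ K := by
    rcases normal_le_center_or_top hq (K.subgroupOf P) with h | h
    · exfalso
      apply hpnc
      let φ : ↥P →* ↥P := MonoidHom.mk' (fun a => ⁅(⟨p, hpP⟩ : ↥P), a⁆) (fun a b => by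
        have h1 := Subgroup.mem_center_iff.1 (h (Subgroup.mem_subgroupOf.2
          (show ((⁅(⟨p, hpP⟩ : ↥P), b⁆ : ↥P) : X) ∈ K from hpK b b.2))) a
        simp only [commutatorElement_def] at h1 ⊢
        calc (⟨p, hpP⟩ : ↥P) * (a * b) * (⟨p, hpP⟩ : ↥P)⁻¹ * (a * b)⁻¹
            = ((⟨p, hpP⟩ : ↥P) * a * (⟨p, hpP⟩ : ↥P)⁻¹ * a⁻¹) *
              (a * ((⟨p, hpP⟩ : ↥P) * b * (⟨p, hpP⟩ : ↥P)⁻¹ * b⁻¹)) * a⁻¹ := by group
          _ = _ := by rw [h1]; group)
      rw [Subgroup.mem_center_iff]
      intro a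
      exact (commutatorElement_eq_one_iff_mul_comm.1 (hom_eq_one hq.1 φ (fun b c =>
        Subgroup.mem_center_iff.1 (h (Subgroup.mem_subgroupOf.2
          (show ((φ c : ↥P) : X) ∈ K from hpK c c.2))) _) a)).symm
    · intro a ha
      exact Subgroup.mem_subgroupOf.1 (h ▸ Subgroup.mem_top (⟨a, ha⟩ : ↥P))
  refine ⟨(Subgroup.commutator_eq_bot_iff_le_centralizer).2 hPK, ?_⟩
  intro L hL hPL _
  obtain ⟨hsub, ⟨-, hLq⟩, hmin⟩ := hL
  set q := QuotientGroup.mk' O with hqq
  let r : ↥L →* ↥(L.map q) := q.subgroupMap L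
  have hr : Function.Surjective r := MonoidHom.subgroupMap_surjective _ _
  -- `L` centralises the core
  have hLK : L ≤ K := by
    have hsub' : (K ⊓ L).IsSubnormal := by
      refine Subgroup.IsSubnormal.trans inf_le_right ?_ hsub
      rw [Subgroup.inf_subgroupOf_right]
      exact (Subgroup.Normal.subgroupOf hKn L).isSubnormal
    have heq : (K ⊓ L).map q = L.map q := by
      haveI : ((K.subgroupOf L).map r).Normal := Subgroup.Normal.map inferInstance r hr
      rcases normal_le_center_or_top hLq ((K.subgroupOf L).map r) with h | h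
      · exfalso
        let f : ↥P →* ↥(L.map q) := r.comp (Subgroup.inclusion hPL)
        have hf : ∀ a : ↥P, f a ∈ Subgroup.center ↥(L.map q) := fun a =>
          h ⟨Subgroup.inclusion hPL a, Subgroup.mem_subgroupOf.2 (hPK a a.2), rfl⟩
        have h1 := hom_eq_one hq.1 f (fun a b => Subgroup.mem_center_iff.1 (hf b) _) ⟨p, hpP⟩
        have h2 : q p = 1 := congrArg Subtype.val h1
        exact hp1 (sq_one_odd hOodd ((QuotientGroup.eq_one_iff p).1 h2) hp2)
      · refine le_antisymm (Subgroup.map_mono inf_le_right) ?_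
        rintro _ ⟨l, hl, rfl⟩
        have : (⟨q l, Subgroup.mem_map_of_mem q hl⟩ : ↥(L.map q)) ∈ (K.subgroupOf L).map r :=
          h ▸ Subgroup.mem_top _
        obtain ⟨l', hl', he⟩ := this
        exact ⟨l', ⟨Subgroup.mem_subgroupOf.1 hl', l'.2⟩, congrArg Subtype.val he⟩
    exact le_of_eq_of_le (hmin _ hsub' inf_le_right heq).symm inf_le_left
  -- `L` is perfect
  have hperf : Group.IsPerfect ↥L := by
    have hsub' : ((commutator ↥L).map L.subtype).IsSubnormal := by
      refine Subgroup.IsSubnormal.trans (Subgroup.map_subtype_le _) ?_ hsub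
      rw [Subgroup.subgroupOf, Subgroup.comap_map_eq_self_of_injective L.subtype_injective]
      exact (inferInstance : (commutator ↥L).Normal).isSubnormal
    have heq : ((commutator ↥L).map L.subtype).map q = L.map q := by
      haveI := hLq.1
      have h1 : (commutator ↥L).map r = ⊤ := by
        rw [commutator_def, Subgroup.map_commutator, Subgroup.map_top_of_surjective r hr,
          ← commutator_def, Group.IsPerfect.commutator_eq_top]
      refine le_antisymm (Subgroup.map_mono (Subgroup.map_subtype_le _)) ?_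
      rintro _ ⟨l, hl, rfl⟩
      have : (⟨q l, Subgroup.mem_map_of_mem q hl⟩ : ↥(L.map q)) ∈ (commutator ↥L).map r :=
        h1 ▸ Subgroup.mem_top _
      obtain ⟨l', hl', he⟩ := this
      exact ⟨l', ⟨l', hl', rfl⟩, congrArg Subtype.val he⟩
    have h3 := hmin _ hsub' (Subgroup.map_subtype_le _) heq
    refine ⟨Subgroup.map_injective L.subtype_injective ?_⟩
    rw [← MonoidHom.range_eq_map, Subgroup.range_subtype]
    exact h3
  refine quasisimple_of_surjective hperf r hr (fun l hl => ?_) hLq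
  rw [Subgroup.mem_center_iff]
  intro l'
  have hlO : (l : X) ∈ O := (QuotientGroup.eq_one_iff _).1 (congrArg Subtype.val hl)
  exact Subtype.ext ((Subgroup.mem_centralizer_iff.1 (hLK l'.2) _ hlO).symm)

end Cfsg.Agent.S3153
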