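import Cfsg.Statements.S3154
import Cfsg.Agent.PSLThreeFour.Parabolic
import Cfsg.Agent.Solvable.Gaschutz
-- import your own Cfsg.Agent.* helpers here

set_option autoImplicit false
open Cfsg

namespace Cfsg.Agent.S3154

open CfsgLib CfsgLib.Linear CfsgLib.PSLThreeFour
open Cfsg.Agent.S3157 (Uni)

/-- A 2-group of exponent two has complements. -/
theorem exists_compl {G : Type*} [Group G] [Finite G] (W K : Subgroup G) (hW : W ≤ K)
    (hK : ∀ k ∈ K, k * k = 1) : ∃ C : Subgroup G, C ≤ K ∧ C ⊓ W = ⊥ ∧ W ⊔ C = K := by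
  obtain ⟨C, ⟨hCK, hCW⟩, hmax⟩ := WellFounded.has_min
    (wellFounded_gt : WellFounded ((· > ·) : Subgroup G → Subgroup G → Prop))
    {C : Subgroup G | C ≤ K ∧ C ⊓ W = ⊥} ⟨⊥, bot_le, bot_inf_eq W⟩
  refine ⟨C, hCK, hCW, le_antisymm (sup_le hW hCK) fun k hk => ?_⟩
  by_contra hkn
  have hcomm : ∀ a ∈ K, ∀ b ∈ K, a * b = b * a := fun a ha b hb => by
    rw [← inv_eq_of_mul_eq_one_right (hK _ (mul_mem ha hb)), mul_inv_rev,
      inv_eq_of_mul_eq_one_right (hK b hb), inv_eq_of_mul_eq_one_right (hK a ha)]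
  let C' : Subgroup G :=
    { carrier := {g | g ∈ C ∨ g * k ∈ C}
      one_mem' := Or.inl C.one_mem
      mul_mem' := by
        rintro a b (ha | ha) (hb | hb)
        · exact Or.inl (mul_mem ha hb)
        · exact Or.inr (by rw [mul_assoc]; exact mul_mem ha hb)
        · refine Or.inr ?_
          rw [mul_assoc, hcomm b (hCK hb) k hk, ← mul_assoc]
          exact mul_mem ha hb
        · refine Or.inl ?_
          have e : a * b = (a * k) * (b * k) := by
            have hbK : b ∈ K := by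
              have := mul_mem (hCK hb) (inv_mem hk)
              rwa [mul_inv_cancel_right] at this
            rw [hcomm b hbK k hk, mul_assoc a k, ← mul_assoc k k, hK k hk, one_mul]
          rw [e]
          exact mul_mem ha hb
      inv_mem' := by
        rintro a (ha | ha)
        · exact Or.inl (inv_mem ha)
        · refine Or.inr ?_
          have haK : a ∈ K := by
            have := mul_mem (hCK ha) (inv_mem hk)
            rwa [mul_inv_cancel_right] at this
          rw [inv_eq_of_mul_eq_one_right (hK a haK)]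
          exact ha }
  have hle : C ≤ C' := fun c hc => Or.inl hc
  have hkC' : k ∈ C' := Or.inr (by rw [hK k hk]; exact C.one_mem)
  have hC'K : C' ≤ K := by
    rintro a (ha | ha)
    · exact hCK ha
    · have := mul_mem (hCK ha) (inv_mem hk)
      rwa [mul_inv_cancel_right] at this
  refine hmax C' ⟨hC'K, ?_⟩ (lt_of_le_of_ne hle fun h => hkn (Subgroup.mem_sup_right (h ▸ hkC')))
  rw [eq_bot_iff]
  rintro a ⟨ha | ha, haW⟩
  · rw [← hCW]; exact ⟨ha, haW⟩
  · exfalso
    refine hkn ?_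
    have e : k = a⁻¹ * (a * k) := (inv_mul_cancel_left a k).symm
    rw [e]
    exact Subgroup.mul_mem_sup (inv_mem haW) ha

variable {X : Type*} [Group X] [Finite X]

/-- Facts about one of the subgroups. -/
theorem one_side (φ : X →* L34) (hφ : Function.Surjective φ) (hker : φ.ker = Subgroup.center X)
    (hZ : ∀ z ∈ Subgroup.center X, z * z = 1) :
    (∀ h ∈ planeA.comap φ, h * h = 1) ∧
      ∀ (T : Sylow 2 X) (W C : Subgroup X), (T : Subgroup X) = sylow0.comap φ →
        W ≤ planeA.comap φ → C ≤ (T : Subgroup X) → C ⊓ planeA.comap φ = ⊥ →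
        planeA.comap φ ⊔ C = (T : Subgroup X) →
        ∃ D : Subgroup X, D ≤ Subgroup.normalizer ((planeA.comap φ : Subgroup X) : Set X) ∧
          D ⊓ planeA.comap φ = ⊥ ∧
          planeA.comap φ ⊔ D = Subgroup.normalizer ((planeA.comap φ : Subgroup X) : Set X) ∧
          Nonempty (↥D ≃* Matrix.ProjectiveSpecialLinearGroup (Fin 2) GF4) := by
  set H := planeA.comap φ with hH
  have hsq : ∀ h ∈ H, h * h ∈ Subgroup.center X := by
    intro h hh
    obtain ⟨x, hx, e⟩ := hh
    rw [← hker, MonoidHom.mem_ker, map_mul, ← e, ← map_mul, ← map_one Uni.toPSL]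
    congr 1
    refine Cfsg.Agent.S3157.Uni.ext' (gf4_facts.2.1 _) (gf4_facts.2.1 _) ?_
    show x.c + x.c + x.a * x.b = 0
    rw [gf4_facts.2.1, hx, mul_zero, add_zero]
  have hnorm : Subgroup.normalizer (H : Set X) = (Subgroup.normalizer (planeA : Set L34)).comap φ :=
    (Subgroup.comap_normalizer_eq_of_surjective planeA hφ).symm
  have hZc : ∀ z ∈ Subgroup.center X, ∀ y : X, y * z = z * y := fun z hz y =>
    Subgroup.mem_center_iff.1 hz y
  have hexp : ∀ h ∈ H, h * h = 1 := by
    -- all squares outside the centre agree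
    obtain ⟨p, hp⟩ := hφ (Uni.toPSL ⟨1, 0, 0⟩)
    have hpH : p ∈ H := ⟨_, rfl, hp.symm⟩
    have hcong : ∀ h k : X, φ h = φ k → h * h = k * k := by
      intro h k e
      have hz : k⁻¹ * h ∈ Subgroup.center X := by
        rw [← hker, MonoidHom.mem_ker, map_mul, map_inv, e, inv_mul_cancel]
      obtain ⟨z, hzm, rfl⟩ : ∃ z, z ∈ Subgroup.center X ∧ h = k * z :=
        ⟨_, hz, (mul_inv_cancel_left k h).symm⟩
      calc k * z * (k * z) = k * (z * k) * z := by group
        _ = k * (k * z) * z := by rw [← hZc z hzm k]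
        _ = k * k * (z * z) := by group
        _ = k * k := by rw [hZ z hzm, mul_one]
    have hconst : ∀ h ∈ H, φ h ≠ 1 → h * h = p * p := by
      intro h hh hne
      obtain ⟨⟨a, b, c⟩, hb, e⟩ := hh
      change b = 0 at hb
      subst hb
      obtain ⟨M, hM⟩ := exists_levi_conj (a, c) (fun h0 => hne (by
        obtain ⟨ha, hc⟩ := Prod.ext_iff.1 h0
        change a = 0 at ha
        change c = 0 at hc
        subst ha hc
        rw [← e]
        exact map_one _))
      obtain ⟨g, hg⟩ := hφ (leviP M)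
      have h1 : h * h = g * p * g⁻¹ * (g * p * g⁻¹) := hcong _ _ (by
        rw [map_mul, map_mul, map_inv, hg, hp, hM]; exact e.symm)
      rw [h1, show g * p * g⁻¹ * (g * p * g⁻¹) = g * (p * p) * g⁻¹ by group,
        hZc _ (hsq p hpH) g, mul_inv_cancel_right]
    have hcm : ∀ h ∈ H, ∀ k ∈ H, φ h ≠ 1 → φ k ≠ 1 → φ (h * k) ≠ 1 →
        k * h * k⁻¹ * h⁻¹ = p * p := by
      intro h hh k hk n1 n2 n3
      have hc2 : k * h * k⁻¹ * h⁻¹ ∈ Subgroup.center X := by
        rw [← hker, MonoidHom.mem_ker]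
        obtain ⟨x, hx, ex⟩ := hh
        obtain ⟨y, hy, ey⟩ := hk
        simp only [map_mul, map_inv, ← ex, ← ey]
        rw [mul_inv_eq_one, mul_inv_eq_iff_eq_mul, ← map_mul, ← map_mul, uni_mul, uni_mul]
        rw [hx, hy, mul_zero, mul_zero, add_comm y.a, add_comm y.c]
      have e := hconst _ (mul_mem hh hk) n3
      have eh := hconst _ hh n1
      have ek := hconst _ hk n2
      set c := k * h * k⁻¹ * h⁻¹ with hcdef
      have e2 : h * k * (h * k) = h * h * (k * k) * c := by
        calc h * k * (h * k) = h * (k * h * k⁻¹ * h⁻¹) * (h * k) * k := by group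
          _ = h * (c * (h * k)) * k := by rw [← hcdef]; group
          _ = h * (h * k * c) * k := by rw [hZc c hc2]
          _ = h * h * k * (c * k) := by group
          _ = h * h * k * (k * c) := by rw [hZc c hc2]
          _ = h * h * (k * k) * c := by group
      rw [e, eh, ek, hZ _ (hsq p hpH), one_mul] at e2
      exact e2.symm
    suffices hpp : p * p = 1 by
      intro h hh
      by_cases hne : φ h = 1
      · exact hZ h (hker ▸ hne)
      · exact (hconst h hh hne).trans hpp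
    obtain ⟨q, hq⟩ := hφ (Uni.toPSL ⟨⟨0, 1⟩, 0, 0⟩)
    obtain ⟨r, hr⟩ := hφ (Uni.toPSL ⟨0, 0, 1⟩)
    have hqH : q ∈ H := ⟨_, rfl, hq.symm⟩
    have hrH : r ∈ H := ⟨_, rfl, hr.symm⟩
    have hne : ∀ x : Uni, (x.a, x.c) ≠ (0, 0) → Uni.toPSL x ≠ 1 := fun x hx e => hx (by
      have := Uni.toPSL_injective (e.trans (map_one Uni.toPSL).symm)
      subst this
      rfl)
    have npq : φ (p * q) ≠ 1 := by
      rw [map_mul, hp, hq, ← map_mul, uni_mul]; exact hne _ (by decide)
    have npr : φ (p * r) ≠ 1 := by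
      rw [map_mul, hp, hr, ← map_mul, uni_mul]; exact hne _ (by decide)
    have nqr : φ (q * r) ≠ 1 := by
      rw [map_mul, hq, hr, ← map_mul, uni_mul]; exact hne _ (by decide)
    have npqr : φ (p * (q * r)) ≠ 1 := by
      rw [map_mul, map_mul, hp, hq, hr, ← map_mul, ← map_mul, uni_mul, uni_mul]
      exact hne _ (by decide)
    have np : φ p ≠ 1 := hp ▸ hne _ (by decide)
    have nq : φ q ≠ 1 := hq ▸ hne _ (by decide)
    have nr : φ r ≠ 1 := hr ▸ hne _ (by decide)
    have c1 := hcm p hpH q hqH np nq npq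
    have c2 := hcm p hpH r hrH np nr npr
    have c3 := hcm p hpH (q * r) (mul_mem hqH hrH) np nqr npqr
    have hcc : ∀ y : X, y * (p * p) = p * p * y := hZc _ (hsq p hpH)
    have e : q * r * p * (q * r)⁻¹ * p⁻¹ = q * (r * p * r⁻¹ * p⁻¹) * q⁻¹ * (q * p * q⁻¹ * p⁻¹) := by
      group
    rw [c3, c2, c1, hcc q, mul_inv_cancel_right, hZ _ (hsq p hpH)] at e
    exact e
  refine ⟨hexp, fun T W C hT hW hCT hCH hHC => ?_⟩
  set N := Subgroup.normalizer (H : Set X) with hN
  have hHN : H ≤ N := Subgroup.le_normalizer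
  haveI : IsMulCommutative ↥(H.subgroupOf N) := ⟨⟨fun a b => Subtype.ext (Subtype.ext (by
    show (a.1 : X) * b.1 = b.1 * a.1
    have h1 := inv_eq_of_mul_eq_one_right (hexp _ (mul_mem a.2 b.2))
    rw [mul_inv_rev, inv_eq_of_mul_eq_one_right (hexp _ b.2),
      inv_eq_of_mul_eq_one_right (hexp _ a.2)] at h1
    exact h1.symm))⟩⟩
  haveI : (H.subgroupOf N).Normal := (Subgroup.normal_subgroupOf_iff_le_normalizer hHN).2 le_rfl
  have hTN : (T : Subgroup X) ≤ N := by
    rw [hnorm, hT]
    refine Subgroup.comap_mono fun u hu => mem_normalizer_of_conj_le ?_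
    obtain ⟨x, rfl⟩ := hu
    rintro _ ⟨y, hy, rfl⟩
    refine ⟨x * y * x⁻¹, ?_, by rw [map_mul, map_mul, map_inv]⟩
    show x.b + y.b + -x.b = 0
    rw [hy, add_zero, add_neg_cancel]
  have hcop : (Nat.card (H.subgroupOf N)).Coprime ((T : Subgroup X).subgroupOf N).index := by
    have hHT : H ≤ T := hT ▸ Subgroup.comap_mono planeA_le
    have h2 : IsPGroup 2 ↥H := T.2.to_le hHT
    obtain ⟨n, hn⟩ := IsPGroup.iff_card.1 h2
    rw [Nat.card_congr (Subgroup.subgroupOfEquivOfLe hHN).toEquiv, hn]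
    refine Nat.Coprime.pow_left n ((Nat.Prime.coprime_iff_not_dvd Nat.prime_two).2 fun hd => ?_)
    exact T.not_dvd_index (hd.trans (Subgroup.relIndex_dvd_index_of_le hTN))
  obtain ⟨D, hD⟩ := Solvable.exists_complement_of_gaschutz (K := H.subgroupOf N)
    (U := (T : Subgroup X).subgroupOf N) (A := C.subgroupOf N)
    (fun a ha => (hT ▸ Subgroup.comap_mono planeA_le : H ≤ T) ha) hcop
    (by rw [eq_bot_iff]; intro a ha
        have : (a : X) ∈ C ⊓ H := ha
        rw [hCH, Subgroup.mem_bot] at this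
        exact Subtype.ext this)
    (by rw [← Subgroup.subgroupOf_sup hHN (hCT.trans hTN), hHC])
  refine ⟨D.map N.subtype, Subgroup.map_subtype_le _, ?_, ?_, ?_⟩
  · rw [eq_bot_iff]
    rintro _ ⟨⟨d, hd, rfl⟩, hdH⟩
    have := Subgroup.disjoint_def.1 hD.disjoint (show d ∈ H.subgroupOf N from hdH) hd
    rw [this]
    exact Subgroup.mem_bot.2 rfl
  · refine le_antisymm (sup_le hHN (Subgroup.map_subtype_le _)) fun g hg => ?_
    have h1 := congrArg (Subgroup.map N.subtype) hD.sup_eq_top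
    rw [Subgroup.map_sup, Subgroup.map_subgroupOf_eq_of_le hHN, ← MonoidHom.range_eq_map,
      Subgroup.range_subtype] at h1
    rw [h1]; exact hg
  · -- both `D` and the Levi subgroup are isomorphic to `N / H`
    have hsymm : Subgroup.IsComplement' D (H.subgroupOf N) := hD.symm
    set N0 := Subgroup.normalizer (planeA : Set L34) with hN0
    let ψ : Matrix.SpecialLinearGroup (Fin 2) GF4 →* ↥N0 := leviP.codRestrict N0 leviP_normalizes
    haveI : (planeA.subgroupOf N0).Normal :=
      (Subgroup.normal_subgroupOf_iff_le_normalizer Subgroup.le_normalizer).2 le_rfl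
    let ψ' := (QuotientGroup.mk' (planeA.subgroupOf N0)).comp ψ
    have hψ' : Function.Bijective ψ' := by
      refine ⟨(MonoidHom.ker_eq_bot_iff ψ').1 (eq_bot_iff.2 fun M hM => ?_), fun u => ?_⟩
      · rw [MonoidHom.mem_ker] at hM
        exact leviP_mem_planeA ((QuotientGroup.eq_one_iff (ψ M)).1 hM)
      · obtain ⟨⟨u, hu⟩, rfl⟩ := QuotientGroup.mk'_surjective _ u
        obtain ⟨M, a, ha, rfl⟩ := isLevi_complement u hu
        refine ⟨M, (QuotientGroup.eq).2 ?_⟩
        show (leviP M)⁻¹ * (leviP M * a) ∈ planeA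
        rwa [inv_mul_cancel_left]
    let θ : ↥N →* ↥N0 :=
      MonoidHom.codRestrict (φ.comp N.subtype) N0 fun n => (hnorm ▸ n.2 : (n : X) ∈ N0.comap φ)
    let θ' := (QuotientGroup.mk' (planeA.subgroupOf N0)).comp θ
    have hθker : θ'.ker = H.subgroupOf N := by
      ext n
      rw [MonoidHom.mem_ker]
      exact QuotientGroup.eq_one_iff (θ n)
    have hθ : Function.Surjective θ' := fun u => by
      obtain ⟨⟨u, hu⟩, rfl⟩ := QuotientGroup.mk'_surjective _ u
      obtain ⟨x, rfl⟩ := hφ u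
      exact ⟨⟨x, (hnorm ▸ hu : x ∈ N)⟩, rfl⟩
    have hbot : Subgroup.center (Matrix.SpecialLinearGroup (Fin 2) GF4) = ⊥ := by
      rw [eq_bot_iff]
      intro g hg
      obtain ⟨r, hr, he⟩ := Matrix.SpecialLinearGroup.mem_center_iff.1 hg
      rw [Fintype.card_fin, pow_two] at hr
      rw [gf4_facts.2.2.2 r hr, map_one] at he
      exact Subgroup.mem_bot.2 (Subtype.ext he.symm)
    exact ⟨(D.equivMapOfInjective _ N.subtype_injective).symm.trans
      (hsymm.QuotientMulEquiv.symm.trans ((QuotientGroup.quotientMulEquivOfEq hθker.symm).trans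
        ((QuotientGroup.quotientKerEquivOfSurjective θ' hθ).trans
          ((MulEquiv.ofBijective ψ' hψ').symm.trans
            ((QuotientGroup.quotientBot).symm.trans
              (QuotientGroup.quotientMulEquivOfEq hbot.symm))))))⟩

/-- Let X be a finite quasisimple group whose centre is an elementary abelian 2-group and whose central quotient is isomorphic to the projective special linear group of dimension 3 over the field with 4 elements. Let T be a Sylow 2-subgroup of X and H ≠ K subgroups of T containing the centre Z(X) whose images in X/Z(X) are elementary abelian of order 16 (the two such subgroups of a Sylow 2-subgroup of the quotient). Then H and K are elementary abelian, H ∩ K is the centre of the subgroup they generate, and each of N_X(H), N_X(K) is a split extension of H, respectively K, by the projective special linear group of dimension 2 over the field with 4 elements (there is a complement isomorphic to that group). -/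
theorem result {X : Type*} [Group X] [Finite X] (hq : Cfsg.IsQuasisimple X) (hZ : Cfsg.IsElementaryAbelian 2 (Subgroup.center X))
    {F : Type*} [Field F] [Fintype F] (hF : Fintype.card F = 4) (hXL : Nonempty ((X ⧸ Subgroup.center X) ≃* Matrix.ProjectiveSpecialLinearGroup (Fin 3) F))
    (T : Sylow 2 X) (H K : Subgroup X) (hHK : H ≠ K) (hHT : H ≤ T) (hKT : K ≤ T) (hZH : Subgroup.center X ≤ H) (hZK : Subgroup.center X ≤ K)
    (hH : Cfsg.IsElementaryAbelian 2 (H.map (QuotientGroup.mk' (Subgroup.center X))) ∧ Nat.card ↥(H.map (QuotientGroup.mk' (Subgroup.center X))) = 16)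
    (hK : Cfsg.IsElementaryAbelian 2 (K.map (QuotientGroup.mk' (Subgroup.center X))) ∧ Nat.card ↥(K.map (QuotientGroup.mk' (Subgroup.center X))) = 16) :
    Cfsg.IsElementaryAbelian 2 H ∧ Cfsg.IsElementaryAbelian 2 K ∧
      H ⊓ K = (Subgroup.center ↥(H ⊔ K)).map (H ⊔ K).subtype ∧
      (∃ C : Subgroup X, C ≤ Subgroup.normalizer (H : Set X) ∧ C ⊓ H = ⊥ ∧ H ⊔ C = Subgroup.normalizer (H : Set X) ∧
        Nonempty (↥C ≃* Matrix.ProjectiveSpecialLinearGroup (Fin 2) F)) ∧
      (∃ C : Subgroup X, C ≤ Subgroup.normalizer (K : Set X) ∧ C ⊓ K = ⊥ ∧ K ⊔ C = Subgroup.normalizer (K : Set X) ∧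
        Nonempty (↥C ≃* Matrix.ProjectiveSpecialLinearGroup (Fin 2) F)) := by
  classical
  haveI : Fact (Nat.Prime 2) := ⟨Nat.prime_two⟩
  obtain ⟨e0⟩ := hXL
  let e := e0.trans (pslFieldCongr (n := Fin 3) (K := GF4) (hF.trans card_gf4.symm))
  let φ0 : X →* L34 := e.toMonoidHom.comp (QuotientGroup.mk' (Subgroup.center X))
  have hφ0 : Function.Surjective φ0 := e.surjective.comp (QuotientGroup.mk'_surjective _)
  have hker0 : φ0.ker = Subgroup.center X := by
    ext x
    rw [MonoidHom.mem_ker]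
    exact (map_eq_one_iff e e.injective).trans (QuotientGroup.eq_one_iff x)
  obtain ⟨S0, ⟨eS⟩⟩ := Cfsg.Agent.S3157.Uni.exists_sylow
  have hS : IsPGroup 2 ↥sylow0 :=
    IsPGroup.of_card (n := 6) (by
      rw [sylow0, ← Nat.card_congr (MonoidHom.ofInjective Uni.toPSL_injective).toEquiv,
        Cfsg.Agent.S3157.Uni.card_uni]; rfl)
  have hc0 : Nat.card sylow0 = Nat.card (S0 : Subgroup L34) := by
    rw [sylow0, ← Nat.card_congr (MonoidHom.ofInjective Uni.toPSL_injective).toEquiv,
      Nat.card_congr eS.toEquiv]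
  let Ssyl : Sylow 2 L34 := Sylow.ofCard sylow0 (hc0.trans S0.card_eq_multiplicity)
  obtain ⟨g, hg⟩ := MulAction.exists_smul_eq L34 (T.mapSurjective hφ0) Ssyl
  let φ1 : X →* L34 := (MulAut.conj g).toMonoidHom.comp φ0
  have hφ1 : Function.Surjective φ1 := (MulAut.conj g).surjective.comp hφ0
  have hker1 : φ1.ker = Subgroup.center X := by
    rw [← hker0]
    ext x
    rw [MonoidHom.mem_ker, MonoidHom.mem_ker]
    exact map_eq_one_iff (MulAut.conj g) (MulAut.conj g).injective
  have hT1 : (T : Subgroup X).map φ1 = sylow0 := by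
    have h := congrArg (fun S : Sylow 2 L34 => (S : Subgroup L34)) hg
    rw [← Subgroup.map_map]
    exact h
  have hTZ : Subgroup.center X ≤ T := hZH.trans hHT
  have key : ∀ W : Subgroup X, W ≤ T → Subgroup.center X ≤ W →
      Cfsg.IsElementaryAbelian 2 (W.map (QuotientGroup.mk' (Subgroup.center X))) →
      Nat.card ↥(W.map (QuotientGroup.mk' (Subgroup.center X))) = 16 →
      W = planeA.comap φ1 ∨ W = planeB.comap φ1 := by
    intro W hWT hZW hWe hW16
    have hWS : W.map φ1 ≤ sylow0 := hT1 ▸ Subgroup.map_mono hWT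
    have he1 : ∀ u ∈ W.map φ1, u * u = 1 := by
      rintro _ ⟨w, hw, rfl⟩
      have h := hWe.2 _ ⟨w, hw, rfl⟩
      rw [pow_two] at h
      show φ1 w * φ1 w = 1
      rw [← map_mul]
      show MulAut.conj g (e (QuotientGroup.mk' _ (w * w))) = 1
      rw [map_mul (QuotientGroup.mk' _), h, map_one, map_one]
    have hc : Nat.card (W.map φ1) = 16 := by
      rw [← hW16, show φ1 = ((MulAut.conj g).toMonoidHom.comp e.toMonoidHom).comp
        (QuotientGroup.mk' (Subgroup.center X)) from rfl, ← Subgroup.map_map,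
        Subgroup.card_map_of_injective
          (f := (MulAut.conj g).toMonoidHom.comp e.toMonoidHom)
          ((MulAut.conj g).injective.comp e.injective)]
    have hW' : W = (W.map φ1).comap φ1 := by
      rw [Subgroup.comap_map_eq, hker1, sup_eq_left.2 hZW]
    exact (plane_cases _ hWS he1 hc).imp (fun h => hW'.trans (by rw [h]))
      (fun h => hW'.trans (by rw [h]))
  let φ2 : X →* L34 := dualPSL.toMonoidHom.comp φ1
  have hφ2 : Function.Surjective φ2 := dualPSL.surjective.comp hφ1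
  have hker2 : φ2.ker = Subgroup.center X := by
    rw [← hker1]
    ext x
    rw [MonoidHom.mem_ker, MonoidHom.mem_ker]
    exact map_eq_one_iff dualPSL dualPSL.injective
  have hB : planeA.comap φ2 = planeB.comap φ1 := by
    rw [← map_dualPSL_planeB, ← Subgroup.comap_comap,
      Subgroup.comap_map_eq_self_of_injective (f := dualPSL.toMonoidHom) dualPSL.injective]
  have hTc : (T : Subgroup X) = sylow0.comap φ1 := by
    rw [← hT1, Subgroup.comap_map_eq, hker1, sup_eq_left.2 hTZ]
  have hTc2 : (T : Subgroup X) = sylow0.comap φ2 := by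
    have hd : sylow0.comap dualPSL.toMonoidHom = sylow0 := by
      conv_lhs => rw [← map_dualPSL_sylow0]
      exact Subgroup.comap_map_eq_self_of_injective (f := dualPSL.toMonoidHom) dualPSL.injective _
    exact hTc.trans ((congrArg (Subgroup.comap φ1) hd.symm).trans (Subgroup.comap_comap _ _ _))
  have hZ2 : ∀ z ∈ Subgroup.center X, z * z = 1 := fun z hz => (pow_two z).symm.trans (hZ.2 z hz)
  set HA := planeA.comap φ1 with hHA
  set HB := planeB.comap φ1 with hHB
  obtain ⟨hexpA, hcompA⟩ := one_side φ1 hφ1 hker1 hZ2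
  obtain ⟨hexpB, hcompB⟩ := one_side φ2 hφ2 hker2 hZ2
  rw [hB] at hexpB hcompB
  have hEA : ∀ W : Subgroup X, (∀ w ∈ W, w * w = 1) → Cfsg.IsElementaryAbelian 2 W := fun W hW =>
    ⟨⟨⟨fun a b => Subtype.ext (by
      show (a.1 : X) * b.1 = b.1 * a.1
      have h1 := inv_eq_of_mul_eq_one_right (hW _ (mul_mem a.2 b.2))
      rw [mul_inv_rev, inv_eq_of_mul_eq_one_right (hW _ b.2),
        inv_eq_of_mul_eq_one_right (hW _ a.2)] at h1
      exact h1.symm)⟩⟩, fun a ha => (pow_two a).trans (hW a ha)⟩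
  have hsup : HA ⊔ HB = (T : Subgroup X) := by
    refine le_antisymm (sup_le (hTc ▸ Subgroup.comap_mono planeA_le)
      (hTc ▸ Subgroup.comap_mono planeB_le)) ?_
    rw [hTc]
    intro x hx
    have h1 := sylow0_le_sup hx
    rw [← Subgroup.map_comap_eq_self_of_surjective hφ1 planeA,
      ← Subgroup.map_comap_eq_self_of_surjective hφ1 planeB, ← Subgroup.map_sup] at h1
    obtain ⟨y, hy, hyx⟩ := h1
    have h2 : y⁻¹ * x ∈ φ1.ker := by rw [MonoidHom.mem_ker, map_mul, map_inv, hyx, inv_mul_cancel]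
    have h3 : y⁻¹ * x ∈ HA := by
      rw [hker1] at h2
      show φ1 (y⁻¹ * x) ∈ planeA
      rw [(MonoidHom.mem_ker).1 (hker1.symm ▸ h2)]
      exact one_mem _
    have h4 := mul_mem hy (Subgroup.mem_sup_left h3 : y⁻¹ * x ∈ HA ⊔ HB)
    rwa [mul_inv_cancel_left] at h4
  have hcen : HA ⊓ HB = (Subgroup.center ↥(HA ⊔ HB)).map (HA ⊔ HB).subtype := by
    refine le_antisymm ?_ ?_
    · rintro x ⟨hxA, hxB⟩
      refine ⟨⟨x, Subgroup.mem_sup_left hxA⟩, ?_, rfl⟩
      rw [SetLike.mem_coe, Subgroup.mem_center_iff]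
      intro y
      refine Subtype.ext ?_
      have hle : HA ⊔ HB ≤ Subgroup.centralizer {x} := by
        refine sup_le (fun a ha => ?_) (fun b hb => ?_) <;>
          rw [Subgroup.mem_centralizer_iff] <;> rintro _ rfl
        · exact congrArg Subtype.val ((hEA HA hexpA).1.is_comm.comm (⟨_, hxA⟩ : ↥HA) ⟨a, ha⟩)
        · exact congrArg Subtype.val ((hEA HB hexpB).1.is_comm.comm (⟨_, hxB⟩ : ↥HB) ⟨b, hb⟩)
      exact (Subgroup.mem_centralizer_iff.1 (hle y.2) x rfl).symm
    · rintro _ ⟨x, hx, rfl⟩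
      rw [SetLike.mem_coe, Subgroup.mem_center_iff] at hx
      have hxT : φ1 x ∈ sylow0 := (hTc ▸ hsup ▸ x.2 : (x : X) ∈ sylow0.comap φ1)
      exact center_sylow0 _ hxT fun u hu => by
        obtain ⟨y, rfl⟩ := hφ1 u
        have hy : y ∈ HA ⊔ HB := hsup.symm ▸ hTc.symm ▸ hu
        show φ1 (x : X) * φ1 y = φ1 y * φ1 x
        rw [← map_mul, ← map_mul]
        exact congrArg φ1 (congrArg Subtype.val (hx ⟨y, hy⟩)).symm
  -- complements
  have iso2 : Nonempty (Matrix.ProjectiveSpecialLinearGroup (Fin 2) GF4 ≃*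
      Matrix.ProjectiveSpecialLinearGroup (Fin 2) F) :=
    ⟨pslFieldCongr (n := Fin 2) (card_gf4.trans hF.symm)⟩
  obtain ⟨i2⟩ := iso2
  have hEB : ∀ b ∈ HB, b * b = 1 := hexpB
  obtain ⟨C1, hC1, hC1W, hC1s⟩ := exists_compl (HA ⊓ HB) HB inf_le_right hEB
  obtain ⟨C2, hC2, hC2W, hC2s⟩ := exists_compl (HA ⊓ HB) HA inf_le_left hexpA
  obtain ⟨DA, hDA1, hDA2, hDA3, ⟨iA⟩⟩ := hcompA T (HA ⊓ HB) C1 hTc inf_le_left
    (hC1.trans (le_sup_right.trans hsup.le))
    (le_antisymm (fun c hc => hC1W ▸ (⟨hc.1, hc.2, hC1 hc.1⟩ : c ∈ C1 ⊓ (HA ⊓ HB))) bot_le)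
    (le_antisymm (sup_le (le_sup_left.trans hsup.le) (hC1.trans (le_sup_right.trans hsup.le)))
      (hsup.ge.trans (sup_le le_sup_left (hC1s.ge.trans (sup_le_sup_right inf_le_left _)))))
  obtain ⟨DB, hDB1, hDB2, hDB3, ⟨iB⟩⟩ := hcompB T (HA ⊓ HB) C2 hTc2 inf_le_right
    (hC2.trans (le_sup_left.trans hsup.le))
    (le_antisymm (fun c hc => hC2W ▸ (⟨hc.1, hC2 hc.1, hc.2⟩ : c ∈ C2 ⊓ (HA ⊓ HB))) bot_le)
    (le_antisymm (sup_le (le_sup_right.trans hsup.le) (hC2.trans (le_sup_left.trans hsup.le)))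
      (hsup.ge.trans (sup_le (hC2s.ge.trans (sup_le_sup_right inf_le_right _)) le_sup_left)))
  rcases key H hHT hZH hH.1 hH.2 with rfl | rfl <;> rcases key K hKT hZK hK.1 hK.2 with rfl | rfl
  · exact absurd rfl hHK
  · exact ⟨hEA _ hexpA, hEA _ hexpB, hcen, ⟨DA, hDA1, hDA2, hDA3, ⟨iA.trans i2⟩⟩,
      ⟨DB, hDB1, hDB2, hDB3, ⟨iB.trans i2⟩⟩⟩
  · refine ⟨hEA _ hexpB, hEA _ hexpA, ?_, ⟨DB, hDB1, hDB2, hDB3, ⟨iB.trans i2⟩⟩,
      ⟨DA, hDA1, hDA2, hDA3, ⟨iA.trans i2⟩⟩⟩
    rw [inf_comm, sup_comm]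
    exact hcen
  · exact absurd rfl hHK

end Cfsg.Agent.S3154
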