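import Cfsg.Statements.S3155
import Mathlib.Algebra.Module.ZMod
import Mathlib.LinearAlgebra.Determinant
import Mathlib.LinearAlgebra.Dimension.Constructions
import Mathlib.LinearAlgebra.FreeModule.Finite.Basic


set_option autoImplicit false
open Cfsg

namespace Cfsg.Agent.S3155

/-- Let B be the direct product of three cyclic groups of order 4. Then the automorphism of B inverting every element is not the square of any automorphism of B. -/
theorem result {B : Type*} [CommGroup B] [Finite B] (hB : Nonempty (B ≃* Multiplicative (ZMod 4 × ZMod 4 × ZMod 4)))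
    (τ : B ≃* B) : τ.trans τ ≠ MulEquiv.inv B := by
  obtain ⟨e⟩ := hB
  intro h
  let σ : (ZMod 4 × ZMod 4 × ZMod 4) →+ (ZMod 4 × ZMod 4 × ZMod 4) :=
    { toFun := fun v => Multiplicative.toAdd (e (τ (e.symm (Multiplicative.ofAdd v))))
      map_zero' := by simp
      map_add' := fun u v => by simp }
  have hσ : ∀ v, σ (σ v) = -v := by
    intro v
    show Multiplicative.toAdd (e (τ (e.symm (Multiplicative.ofAdd
      (Multiplicative.toAdd (e (τ (e.symm (Multiplicative.ofAdd v))))))))) = -v
    simp only [ofAdd_toAdd, MulEquiv.symm_apply_apply]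
    have := congrArg (fun f : B ≃* B => f (e.symm (Multiplicative.ofAdd v))) h
    simp only [MulEquiv.trans_apply, MulEquiv.inv_apply] at this
    rw [this, map_inv, MulEquiv.apply_symm_apply]
    rfl
  let f := σ.toZModLinearMap 4
  have hf : f.comp f = (-1 : ZMod 4) • LinearMap.id := by
    apply LinearMap.ext
    intro v
    simp only [LinearMap.comp_apply, LinearMap.smul_apply, LinearMap.id_apply, f,
      AddMonoidHom.coe_toZModLinearMap, hσ]
    rw [neg_smul, one_smul]
  have hd := congrArg LinearMap.det hf
  rw [LinearMap.det_comp, LinearMap.det_smul, LinearMap.det_id, mul_one] at hd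
  haveI : Fact (1 < 4) := ⟨by norm_num⟩
  rw [Module.finrank_prod, Module.finrank_prod, Module.finrank_self] at hd
  revert hd
  generalize LinearMap.det f = d
  revert d
  decide

end Cfsg.Agent.S3155
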