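import Cfsg.Statements.S3156
import Cfsg.Agent.Forms4.UnitaryCenter
import Cfsg.Agent.Forms.UnitaryOrder
import Mathlib

set_option autoImplicit false
open Cfsg

namespace Cfsg.Agent.S3156

open Matrix

variable {F : Type*} [Field F] [Fintype F]

theorem charP_two (hF : Fintype.card F = 16) : CharP F 2 := by
  obtain ⟨n, hp, hn⟩ := FiniteField.card F (ringChar F)
  have h : ringChar F = 2 := by
    have h1 : ringChar F ∣ 2 ^ 4 := by
      rw [show (2 : ℕ) ^ 4 = Fintype.card F by rw [hF]; rfl, hn]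
      exact dvd_pow_self _ n.pos.ne'
    exact (Nat.prime_dvd_prime_iff_eq hp Nat.prime_two).1 (hp.dvd_of_dvd_pow h1)
  exact ringChar.of_eq h

theorem two_eq_zero (hF : Fintype.card F = 16) : (2 : F) = 0 := by
  haveI := charP_two hF
  exact_mod_cast CharP.cast_eq_zero F 2

theorem pow_sixteen (hF : Fintype.card F = 16) (a : F) : a ^ 16 = a := hF ▸ FiniteField.pow_card a

theorem add_pow_four (h2 : (2 : F) = 0) (a b : F) : (a + b) ^ 4 = a ^ 4 + b ^ 4 := by
  linear_combination (2 * a ^ 3 * b + 3 * a ^ 2 * b ^ 2 + 2 * a * b ^ 3) * h2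

/-- The unipotent matrix attached to a pair `(a, b)`. -/
def uMat (a b : F) : Matrix (Fin 3) (Fin 3) F :=
  !![1 + b, b, a ^ 4; b, 1 + b, a ^ 4; a, a, 1]

omit [Fintype F] in
theorem uMat_mul (h2 : (2 : F) = 0) (a b a' b' : F) (h : (a + a') ^ 4 = a ^ 4 + a' ^ 4) :
    uMat a b * uMat a' b' = uMat (a + a') (b + b' + a ^ 4 * a') := by
  ext i j
  fin_cases i <;> fin_cases j <;>
    simp only [uMat, Matrix.mul_apply, Fin.sum_univ_three, h] <;> simp <;> grind

omit [Fintype F] in
theorem uMat_inj {a b a' b' : F} (h : uMat a b = uMat a' b') : a = a' ∧ b = b' := by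
  have h1 := congrFun (congrFun h 2) 0
  have h3 := congrFun (congrFun h 0) 1
  simp [uMat] at h1 h3
  exact ⟨h1, h3⟩

/-- The unipotent subgroup of `SU₃(4)`. -/
def uSub (hF : Fintype.card F = 16) : Subgroup (Cfsg.SU 3 F 4) where
  carrier := {g | ∃ a b : F, b + b ^ 4 = a ^ 5 ∧ g.1.1 = uMat a b}
  mul_mem' := by
    have h2 := two_eq_zero hF
    rintro g g' ⟨a, b, hab, hg⟩ ⟨a', b', hab', hg'⟩
    refine ⟨a + a', b + b' + a ^ 4 * a', ?_, ?_⟩
    · have h16 := pow_sixteen hF a
      have e4 : (a ^ 4 * a') ^ 4 = a * a' ^ 4 := by rw [mul_pow, ← pow_mul, h16]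
      rw [add_pow_four h2, add_pow_four h2, e4, pow_succ' (a + a') 4, add_pow_four h2]
      linear_combination hab + hab'
    · rw [← uMat_mul h2 _ _ _ _ (add_pow_four h2 a a'), ← hg, ← hg']
      simp
  one_mem' := ⟨0, 0, by simp, by
    ext i j
    fin_cases i <;> fin_cases j <;> simp [uMat]⟩
  inv_mem' := by
    have h2 := two_eq_zero hF
    rintro g ⟨a, b, hab, hg⟩
    refine ⟨a, b + a ^ 5, ?_, ?_⟩
    · have h16 := pow_sixteen hF a
      have e5 : (a ^ 5) ^ 4 = a ^ 5 := by
        rw [← pow_mul, show 5 * 4 = 16 + 4 from rfl, pow_add, h16, ← pow_succ']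
      rw [add_pow_four h2, e5]
      linear_combination hab + a ^ 5 * h2
    · have h1 : uMat a b * uMat a (b + a ^ 5) = 1 := by
        rw [uMat_mul h2 _ _ _ _ (add_pow_four h2 a a),
          show a + a = (0 : F) by linear_combination a * h2,
          show b + (b + a ^ 5) + a ^ 4 * a = (0 : F) by linear_combination (b + a ^ 5) * h2]
        ext i j
        fin_cases i <;> fin_cases j <;> simp [uMat]
      rw [← hg] at h1
      have h3 : (g⁻¹).1.1 * g.1.1 = 1 := by
        rw [← Matrix.SpecialLinearGroup.coe_mul, ← Subgroup.coe_mul, inv_mul_cancel]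
        rfl
      exact left_inv_eq_right_inv h3 h1

theorem exists_uSub (hF : Fintype.card F = 16) (a b : F) (hab : b + b ^ 4 = a ^ 5) :
    ∃ g : uSub hF, g.1.1.1 = uMat a b := by
  have h2 := two_eq_zero hF
  have h16 := pow_sixteen hF a
  have hdet : (uMat a b).det = 1 := by
    simp [uMat, Matrix.det_fin_three]
    grind
  refine ⟨⟨⟨⟨uMat a b, hdet⟩, ?_⟩, a, b, hab, rfl⟩, rfl⟩
  intro u v
  change hermForm 3 F 4 (uMat a b *ᵥ u) (uMat a b *ᵥ v) = hermForm 3 F 4 u v
  simp only [hermForm, Matrix.mulVec, dotProduct, Fin.sum_univ_three]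
  simp [uMat, add_pow_four h2, mul_pow]
  grind

/-- First coordinate. -/
def cA {hF : Fintype.card F = 16} (g : uSub hF) : F := g.1.1.1 2 0

/-- Second coordinate. -/
def cB {hF : Fintype.card F = 16} (g : uSub hF) : F := g.1.1.1 0 1

variable {hF : Fintype.card F = 16}

theorem coords_spec (g : uSub hF) :
    cB g + cB g ^ 4 = cA g ^ 5 ∧ g.1.1.1 = uMat (cA g) (cB g) := by
  obtain ⟨a, b, hab, hg⟩ := g.2
  have ha : cA g = a := by simp [cA, hg, uMat]
  have hb : cB g = b := by simp [cB, hg, uMat]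
  rw [ha, hb]; exact ⟨hab, hg⟩

theorem coords_ext {g h : uSub hF} (ha : cA g = cA h) (hb : cB g = cB h) : g = h := by
  refine Subtype.ext (Subtype.ext (Subtype.ext ?_))
  rw [(coords_spec g).2, (coords_spec h).2, ha, hb]

theorem coords_mul (g h : uSub hF) :
    cA (g * h) = cA g + cA h ∧ cB (g * h) = cB g + cB h + cA g ^ 4 * cA h := by
  refine uMat_inj ?_
  rw [← uMat_mul (two_eq_zero hF) _ _ _ _ (add_pow_four (two_eq_zero hF) _ _),
    ← (coords_spec g).2, ← (coords_spec h).2, ← (coords_spec (g * h)).2]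
  rfl

theorem coords_one : cA (1 : uSub hF) = 0 ∧ cB (1 : uSub hF) = 0 := by
  simp [cA, cB]

theorem coords_sq (g : uSub hF) : cA (g * g) = 0 ∧ cB (g * g) = cA g ^ 5 := by
  have h2 := two_eq_zero hF
  rw [(coords_mul g g).1, (coords_mul g g).2]
  exact ⟨by linear_combination cA g * h2, by linear_combination cB g * h2⟩

theorem cA_map_zero (f : MulAut (uSub hF)) {g : uSub hF} (h : cA g = 0) : cA (f g) = 0 := by
  have h1 : g * g = 1 := coords_ext (by rw [(coords_sq g).1, coords_one.1])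
    (by rw [(coords_sq g).2, coords_one.2, h, zero_pow (by norm_num)])
  have h2 := congrArg f h1
  rw [map_mul, map_one] at h2
  have h3 := (coords_sq (f g)).2
  rw [h2, coords_one.2] at h3
  exact eq_zero_of_pow_eq_zero h3.symm

theorem exists_coordA (hF : Fintype.card F = 16) (w : F) (hw : w + w ^ 4 = 1) (a : F) :
    ∃ g : uSub hF, cA g = a := by
  have h16 := pow_sixteen hF a
  obtain ⟨g, hg⟩ := exists_uSub hF a (a ^ 5 * w) (by
    rw [mul_pow, show (a ^ 5) ^ 4 = a ^ 5 by
      rw [← pow_mul, show 5 * 4 = 16 + 4 from rfl, pow_add, h16, ← pow_succ'], ← mul_add, hw,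
      mul_one])
  exact ⟨g, (uMat_inj ((coords_spec g).2.symm.trans hg)).1⟩

theorem exists_coordB (hF : Fintype.card F = 16) {z : F} (hz : z ^ 4 = z) :
    ∃ g : uSub hF, cA g = 0 ∧ cB g = z := by
  obtain ⟨g, hg⟩ := exists_uSub hF 0 z (by
    rw [hz]; have := two_eq_zero hF; linear_combination z * this)
  exact ⟨g, uMat_inj ((coords_spec g).2.symm.trans hg)⟩

set_option maxRecDepth 100000 in
theorem perm_five_swap : ∀ π : Fin 5 → Fin 5, (∀ i, π (π i) = i) →
    ¬ ∀ i, π (i + 1) - π i = 2 ∨ π (i + 1) - π i = 3 := by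
  decide +kernel

set_option maxRecDepth 100000 in
theorem perm_five_id : ∀ π : Fin 5 → Fin 5, (∀ i, π (π (π i)) = i) →
    (∀ i, π (i + 1) - π i = 1 ∨ π (i + 1) - π i = 4) → ∀ i, π i = i := by
  decide +kernel

/-- `uSub` has no pair of automorphisms generating a symmetric group of degree 3. -/
theorem uSub_no_S3 (hF : Fintype.card F = 16) (ρ x : MulAut (uSub hF)) (h3 : ρ ^ 3 = 1)
    (hxx : x * x = 1) (hinv : x * ρ * x = ρ⁻¹) : ρ = 1 := by
  have h2 := two_eq_zero hF
  obtain ⟨u, hu⟩ : ∃ u : Fˣ, orderOf u = 5 := by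
    haveI : Fact (Nat.Prime 5) := ⟨by norm_num⟩
    apply exists_prime_orderOf_dvd_card' 5
    rw [Nat.card_units, Nat.card_eq_fintype_card, hF]
    norm_num
  set ε : F := (u : F) with hε
  have hprim : IsPrimitiveRoot ε 5 := by
    rw [hε, IsPrimitiveRoot.coe_units_iff, ← hu]; exact IsPrimitiveRoot.orderOf u
  have hsum : 1 + ε + ε ^ 2 + ε ^ 3 + ε ^ 4 = 0 := by
    simpa [Finset.sum_range_succ] using hprim.geom_sum_eq_zero (by norm_num)
  have h5 : ε ^ 5 = 1 := hprim.pow_eq_one
  have hne1 : ε ≠ 1 := hprim.ne_one (by norm_num)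
  set w := ε + ε ^ 4 with hw
  have hw2 : w ^ 2 + w = 1 := by grind
  have hw0 : w ≠ 0 := fun h => by rw [h] at hw2; simp at hw2
  have hw1 : w ≠ 1 := fun h => by rw [h] at hw2; exact one_ne_zero (α := F) (by grind)
  have hw3 : w ^ 3 = 1 := by grind
  have hw4 : w ^ 4 = w := by grind
  have hroots : ∀ z : F, z ^ 4 = z → z = 0 ∨ z = 1 ∨ z = w ∨ z = 1 + w := by
    intro z hz
    have : z * ((z - 1) * ((z - w) * (z - (1 + w)))) = 0 := by grind
    simpa [sub_eq_zero] using this
  obtain ⟨w₀, hw₀⟩ : ∃ w₀ : F, w₀ + w₀ ^ 4 = 1 := ⟨ε * w ^ 2, by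
    rw [mul_pow, ← pow_mul, show 2 * 4 = 3 + (3 + 2) from rfl, pow_add, pow_add, hw3, one_mul,
      one_mul, ← add_mul, ← hw, ← pow_succ', hw3]⟩
  choose gA hgA using fun a : F => exists_coordA hF w₀ hw₀ a
  -- the action on the centre
  classical
  let β : MulAut (uSub hF) → F → F := fun f z =>
    if hz : z ^ 4 = z then cB (f (exists_coordB hF hz).choose) else 0
  have hβdef : ∀ (f : MulAut (uSub hF)) (g : uSub hF), cA g = 0 → β f (cB g) = cB (f g) := by
    intro f g hg
    have hz : cB g ^ 4 = cB g := by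
      have := (coords_spec g).1
      rw [hg, zero_pow (by norm_num)] at this
      linear_combination this - cB g * h2
    have hs := (exists_coordB hF hz).choose_spec
    simp only [β, dif_pos hz]
    rw [coords_ext (hs.1.trans hg.symm) hs.2]
  have hfix4 : ∀ g : uSub hF, cA g = 0 → cB g ^ 4 = cB g := by
    intro g hg
    have := (coords_spec g).1
    rw [hg, zero_pow (by norm_num)] at this
    linear_combination this - cB g * h2
  have hA5 : ∀ a : F, (a ^ 5) ^ 4 = a ^ 5 := fun a => by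
    rw [← pow_mul, show 5 * 4 = 16 + 4 from rfl, pow_add, pow_sixteen hF, ← pow_succ']
  have hβmap : ∀ (f : MulAut (uSub hF)) (z : F), z ^ 4 = z → (β f z) ^ 4 = β f z := by
    intro f z hz
    obtain ⟨g, ha, hb⟩ := exists_coordB hF hz
    rw [← hb, hβdef f g ha]
    exact hfix4 _ (cA_map_zero f ha)
  have hβcomp : ∀ (f f' : MulAut (uSub hF)) (z : F), z ^ 4 = z → β (f * f') z = β f (β f' z) := by
    intro f f' z hz
    obtain ⟨g, ha, hb⟩ := exists_coordB hF hz
    rw [← hb, hβdef _ g ha, hβdef f' g ha, hβdef f _ (cA_map_zero f' ha)]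
    rfl
  have hβone : ∀ z : F, z ^ 4 = z → β 1 z = z := by
    intro z hz
    obtain ⟨g, ha, hb⟩ := exists_coordB hF hz
    rw [← hb, hβdef _ g ha]; rfl
  have hβadd : ∀ (f : MulAut (uSub hF)) (z z' : F), z ^ 4 = z → z' ^ 4 = z' →
      β f (z + z') = β f z + β f z' := by
    intro f z z' hz hz'
    obtain ⟨g, ha, hb⟩ := exists_coordB hF hz
    obtain ⟨g', ha', hb'⟩ := exists_coordB hF hz'
    have hA : cA (g * g') = 0 := by rw [(coords_mul g g').1, ha, ha', add_zero]
    have hB : cB (g * g') = z + z' := by rw [(coords_mul g g').2, ha, hb, hb']; ring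
    rw [← hb, ← hb', hβdef f g ha, hβdef f g' ha', hb, hb', ← hB, hβdef f _ hA, map_mul,
      (coords_mul (f g) (f g')).2, cA_map_zero f ha]
    ring
  have hβsq : ∀ (f : MulAut (uSub hF)) (g : uSub hF), cA (f g) ^ 5 = β f (cA g ^ 5) := by
    intro f g
    rw [← (coords_sq g).2, hβdef f _ (coords_sq g).1, map_mul, (coords_sq (f g)).2]
  have hαwell : ∀ (f : MulAut (uSub hF)) (g g' : uSub hF), cA g = cA g' → cA (f g) = cA (f g') := by
    intro f g g' h
    have hA : cA (g'⁻¹ * g) = 0 := by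
      have h1 := (coords_mul g' (g'⁻¹ * g)).1
      rw [mul_inv_cancel_left, h] at h1
      linear_combination -h1
    have h1 := (coords_mul (f g') (f (g'⁻¹ * g))).1
    rw [← map_mul, mul_inv_cancel_left, cA_map_zero f hA, add_zero] at h1
    exact h1
  let e : Fin 5 → F := fun i => ε ^ (i : ℕ)
  have he : ∀ i j : Fin 5, (e i + e j) ^ 5 = ![0, w, 1 + w, 1 + w, w] (j - i) := by
    intro i j
    fin_cases i <;> fin_cases j <;> simp [e, hw] <;> grind
  have hew : ∀ d : Fin 5, (![0, w, 1 + w, 1 + w, w] : Fin 5 → F) d = w → d = 1 ∨ d = 4 := by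
    intro d hd
    fin_cases d <;> simp at hd ⊢ <;> grind
  have hew' : ∀ d : Fin 5, (![0, w, 1 + w, 1 + w, w] : Fin 5 → F) d = 1 + w → d = 2 ∨ d = 3 := by
    intro d hd
    fin_cases d <;> simp at hd ⊢ <;> grind
  -- a fixed fibre gives a map on five points
  have key : ∀ (f : MulAut (uSub hF)) (c : F), c ≠ 0 → β f (c ^ 5) = c ^ 5 →
      ∃ π : Fin 5 → Fin 5, (∀ i, cA (f (gA (c * e i))) = c * e (π i)) ∧
        ∀ i, β f (c ^ 5 * w) = c ^ 5 * ![0, w, 1 + w, 1 + w, w] (π (i + 1) - π i) := by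
    intro f c hc hfix
    have hex : ∀ i : Fin 5, ∃ j : Fin 5, cA (f (gA (c * e i))) = c * e j := by
      intro i
      have h1 := hβsq f (gA (c * e i))
      rw [hgA, mul_pow, show e i ^ 5 = 1 by
        simp only [e]; rw [← pow_mul, mul_comm, pow_mul, h5, one_pow], mul_one, hfix] at h1
      have h5' : (cA (f (gA (c * e i))) / c) ^ 5 = 1 := by
        rw [div_pow, h1, div_self (pow_ne_zero _ hc)]
      obtain ⟨j, hj, hj'⟩ := hprim.eq_pow_of_pow_eq_one h5'
      exact ⟨⟨j, hj⟩, by simp only [e]; rw [hj', mul_div_cancel₀ _ hc]⟩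
    choose π hπ using hex
    refine ⟨π, hπ, fun i => ?_⟩
    have h1 := hβsq f (gA (c * e i) * gA (c * e (i + 1)))
    rw [map_mul, (coords_mul (f _) (f _)).1, (coords_mul (gA _) _).1, hπ, hπ, hgA, hgA,
      ← mul_add, ← mul_add, mul_pow, mul_pow, he, he, add_sub_cancel_left] at h1
    simpa using h1.symm
  have hiter : ∀ (f : MulAut (uSub hF)) (c : F) (π : Fin 5 → Fin 5),
      (∀ i, cA (f (gA (c * e i))) = c * e (π i)) →
      ∀ g i, cA g = c * e i → cA (f g) = c * e (π i) := fun f c π hπ g i hg => by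
    rw [hαwell f g (gA (c * e i)) (hg.trans (hgA _).symm), hπ]
  have heinj : ∀ (c : F) (i j : Fin 5), c ≠ 0 → c * e i = c * e j → i = j := fun c i j hc h =>
    Fin.ext (hprim.pow_inj i.2 j.2 (mul_left_cancel₀ hc h))
  have hz4 : (1 : F) ^ 4 = 1 := one_pow 4
  have hβ0 : ∀ f : MulAut (uSub hF), β f 0 = 0 := fun f => by
    have := hβdef f 1 coords_one.1
    rwa [map_one, coords_one.2] at this
  have hβinj : ∀ (f : MulAut (uSub hF)) (z z' : F), z ^ 4 = z → z' ^ 4 = z' → β f z = β f z' → z = z' := by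
    intro f z z' hz hz' h
    rw [← hβone z hz, ← hβone z' hz', ← inv_mul_cancel f, hβcomp _ _ _ hz, hβcomp _ _ _ hz', h]
  -- `x` centralises the centre
  have hx : ∀ z : F, z ^ 4 = z → β x z = z := by
    have hxxz : ∀ z : F, z ^ 4 = z → β x (β x z) = z := fun z hz => by
      rw [← hβcomp x x z hz, hxx, hβone z hz]
    obtain ⟨z, hz, hz0, hzf⟩ : ∃ z : F, z ^ 4 = z ∧ z ≠ 0 ∧ β x z = z := by
      by_cases h1 : β x 1 = 1
      · exact ⟨1, hz4, one_ne_zero, h1⟩
      · refine ⟨1 + β x 1, by rw [add_pow_four h2, one_pow, hβmap x 1 hz4], ?_, ?_⟩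
        · intro h; exact h1 (by linear_combination h - h2)
        · rw [hβadd x _ _ hz4 (hβmap x 1 hz4), hxxz 1 hz4, add_comm]
    have hc0 : z ^ 2 ≠ 0 := pow_ne_zero _ hz0
    have hc5 : (z ^ 2) ^ 5 = z := by grind
    obtain ⟨π, hπ, hd⟩ := key x (z ^ 2) hc0 (by rw [hc5]; exact hzf)
    rw [hc5] at hd
    have hπ2 : ∀ i, π (π i) = i := fun i => heinj _ _ _ hc0 (by
      have := hiter x _ π hπ (x (gA (z ^ 2 * e i))) (π i) (hπ i)
      rw [← MulAut.mul_apply, hxx, MulAut.one_apply, hgA] at this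
      exact this.symm)
    have hzw : (z * w) ^ 4 = z * w := by rw [mul_pow, hz, hw4]
    have hfw : β x (z * w) = z * w := by
      by_contra hne
      refine perm_five_swap π hπ2 fun i => hew' _ (mul_left_cancel₀ hz0 ((hd i).symm.trans ?_))
      have hne0 : β x (z * w) ≠ 0 := fun h => mul_ne_zero hz0 hw0
        (hβinj x _ _ hzw (by simp) (h.trans (hβ0 x).symm))
      have hnez : β x (z * w) ≠ z := fun h => by
        have := hβinj x _ _ hzw hz (h.trans hzf.symm)
        exact hw1 (mul_left_cancel₀ hz0 (this.trans (mul_one z).symm))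
      rcases hroots (β x (z * w) / z) (by rw [div_pow, hz, hβmap x _ hzw]) with h | h | h | h <;>
        rw [div_eq_iff hz0] at h
      · exact absurd (by simpa using h) hne0
      · exact absurd (by simpa using h) hnez
      · exact absurd (h.trans (mul_comm _ _)) hne
      · rw [h, mul_comm]
    intro y hy
    rcases hroots (y / z) (by rw [div_pow, hz, hy]) with h | h | h | h <;> rw [div_eq_iff hz0] at h
    · rw [h, zero_mul, hβ0]
    · rw [h, one_mul, hzf]
    · rw [h, mul_comm, hfw]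
    · rw [h, add_mul, one_mul, mul_comm w, hβadd x _ _ hz hzw, hzf, hfw]
  -- `ρ` centralises the centre
  have hρ : ∀ z : F, z ^ 4 = z → β ρ z = z := by
    intro z hz
    have h1 : β ρ z = β ρ⁻¹ z := by
      rw [← hinv, hβcomp _ _ _ hz, hx z hz, hβcomp _ _ _ hz, hx _ (hβmap _ _ hz)]
    have h2' : β ρ (β ρ z) = z := by
      conv_lhs => arg 2; rw [h1]
      rw [← hβcomp _ _ _ hz, mul_inv_cancel, hβone z hz]
    have h3' : β ρ (β ρ (β ρ z)) = z := by
      rw [← hβcomp _ _ _ hz, ← hβcomp _ _ _ hz, ← mul_assoc, ← sq, ← pow_succ, h3, hβone z hz]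
    rwa [h2'] at h3'
  have hA : ∀ g : uSub hF, cA (ρ g) = cA g := by
    intro g
    by_cases hg : cA g = 0
    · rw [hg, cA_map_zero ρ hg]
    obtain ⟨π, hπ, hd⟩ := key ρ (cA g) hg (hρ _ (hA5 _))
    have hπ3 : ∀ i, π (π (π i)) = i := fun i => heinj _ _ _ hg (by
      have := hiter ρ _ π hπ (ρ (ρ (gA (cA g * e i)))) (π (π i))
        (hiter ρ _ π hπ (ρ (gA (cA g * e i))) (π i) (hπ i))
      rw [← MulAut.mul_apply, ← MulAut.mul_apply, ← sq, ← pow_succ, h3, MulAut.one_apply, hgA] at this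
      exact this.symm)
    have hfw : β ρ (cA g ^ 5 * w) = cA g ^ 5 * w := hρ _ (by rw [mul_pow, hA5, hw4])
    have hid := perm_five_id π hπ3 fun i =>
      hew _ (mul_left_cancel₀ (pow_ne_zero _ hg) ((hd i).symm.trans hfw))
    have h0 : cA g = cA g * e 0 := by simp [e]
    rw [hiter ρ _ π hπ g 0 h0, hid, ← h0]
  refine MulEquiv.ext fun g => ?_
  have hk : cA (g⁻¹ * ρ g) = 0 := by
    have h1 := (coords_mul g (g⁻¹ * ρ g)).1
    rw [mul_inv_cancel_left, hA] at h1
    linear_combination -h1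
  set k := g⁻¹ * ρ g with hkdef
  have hρk : ρ k = k := coords_ext (by rw [cA_map_zero ρ hk, hk])
    (by rw [← hβdef ρ k hk, hρ _ (hfix4 k hk)])
  have hkk : k * k = 1 := coords_ext (by rw [(coords_sq k).1, coords_one.1])
    (by rw [(coords_sq k).2, coords_one.2, hk, zero_pow (by norm_num)])
  have h1 : ρ g = g * k := (mul_inv_cancel_left _ _).symm
  have h4 : ρ (ρ (ρ g)) = g := by
    rw [← MulAut.mul_apply, ← MulAut.mul_apply, ← sq, ← pow_succ, h3, MulAut.one_apply]
  rw [h1, map_mul, h1, hρk, map_mul, map_mul, h1, hρk, mul_assoc g k k, hkk, mul_one] at h4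
  rw [MulAut.one_apply, h1]
  exact h4

theorem card_uSub (hF : Fintype.card F = 16) (w₀ : F) (hw₀ : w₀ + w₀ ^ 4 = 1)
    (hz : Nat.card {z : F // z ^ 4 = z} = 4) : Nat.card (uSub hF) = 64 := by
  have h2 := two_eq_zero hF
  choose gA hgA using fun a : F => exists_coordA hF w₀ hw₀ a
  choose gB hgB using fun z : {z : F // z ^ 4 = z} => exists_coordB hF z.2
  have hbij : Function.Bijective fun p : F × {z : F // z ^ 4 = z} => gA p.1 * gB p.2 := by
    constructor
    · rintro ⟨a, z⟩ ⟨a', z'⟩ h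
      have h1 := congrArg cA h
      simp only [(coords_mul (gA _) _).1, hgA, (hgB _).1, add_zero] at h1
      subst h1
      have h3 := congrArg cB (mul_left_cancel h)
      rw [(hgB z).2, (hgB z').2] at h3
      rw [Subtype.ext h3]
    · intro g
      have hk : cA ((gA (cA g))⁻¹ * g) = 0 := by
        have h1 := (coords_mul (gA (cA g)) ((gA (cA g))⁻¹ * g)).1
        rw [mul_inv_cancel_left, hgA] at h1
        linear_combination -h1
      have hz' : cB ((gA (cA g))⁻¹ * g) ^ 4 = cB ((gA (cA g))⁻¹ * g) := by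
        have := (coords_spec ((gA (cA g))⁻¹ * g)).1
        rw [hk, zero_pow (by norm_num)] at this
        linear_combination this - cB ((gA (cA g))⁻¹ * g) * h2
      exact ⟨(cA g, ⟨_, hz'⟩), by
        change gA (cA g) * gB ⟨_, hz'⟩ = g
        rw [show gB ⟨_, hz'⟩ = (gA (cA g))⁻¹ * g from
          coords_ext ((hgB _).1.trans hk.symm) (hgB _).2, mul_inv_cancel_left]⟩
  rw [← Nat.card_congr (Equiv.ofBijective _ hbij), Nat.card_prod, hz, Nat.card_eq_fintype_card, hF]

/-- If a finite group T is isomorphic to a Sylow 2-subgroup of the projective special unitary group of dimension 3 with parameter 4 (realised over the field with 16 elements), then no subgroup of the automorphism group of T is isomorphic to the symmetric group of degree 3. -/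
theorem result {T : Type*} [Group T] [Finite T] (hT : (∃ (F : Type) (_ : Field F) (_ : Fintype F), Fintype.card F = 16 ∧ ∃ S : Sylow 2 (Cfsg.PSU 3 F 4), Nonempty (T ≃* ↥(S : Subgroup (Cfsg.PSU 3 F 4))))) (H : Subgroup (MulAut T)) : ¬ Nonempty (↥H ≃* Equiv.Perm (Fin 3)) := by
  rintro ⟨φ⟩
  obtain ⟨F, _, _, hF, S, ⟨eT⟩⟩ := hT
  haveI : Fact (Nat.Prime 2) := ⟨Nat.prime_two⟩
  have h2 := two_eq_zero hF
  have hF2 : Fintype.card F = 4 ^ 2 := by rw [hF]; norm_num
  -- field facts
  obtain ⟨u, hu⟩ : ∃ u : Fˣ, orderOf u = 3 := by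
    haveI : Fact (Nat.Prime 3) := ⟨Nat.prime_three⟩
    apply exists_prime_orderOf_dvd_card' 3
    rw [Nat.card_units, Nat.card_eq_fintype_card, hF]
    norm_num
  set w : F := (u : F) with hw
  have hw3 : w ^ 3 = 1 := by rw [hw, ← Units.val_pow_eq_pow_val, ← hu, pow_orderOf_eq_one]; rfl
  have hw1 : w ≠ 1 := fun h => by
    have : u = 1 := Units.ext h
    rw [this, orderOf_one] at hu; omega
  have hw2 : w ^ 2 + w + 1 = 0 := by
    have : (w - 1) * (w ^ 2 + w + 1) = 0 := by linear_combination hw3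
    exact (mul_eq_zero.1 this).resolve_left (sub_ne_zero.2 hw1)
  have hz : Nat.card {z : F // z ^ 4 = z} = 4 := by
    classical
    rw [Nat.card_eq_fintype_card, Fintype.card_subtype,
      show (Finset.univ.filter fun z : F => z ^ 4 = z) = ({0, 1, w, 1 + w} : Finset F) from ?_]
    · have : w ≠ 0 := Units.ne_zero u
      rw [Finset.card_insert_of_notMem, Finset.card_insert_of_notMem,
        Finset.card_insert_of_notMem, Finset.card_singleton] <;> simp <;> grind
    · ext z
      simp only [Finset.mem_filter, Finset.mem_univ, true_and, Finset.mem_insert,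
        Finset.mem_singleton]
      constructor
      · intro h
        have : z * ((z - 1) * ((z - w) * (z - (1 + w)))) = 0 := by grind
        simpa [sub_eq_zero] using this
      · rintro (rfl | rfl | rfl | rfl) <;> grind
  obtain ⟨u5, hu5⟩ : ∃ u : Fˣ, orderOf u = 5 := by
    haveI : Fact (Nat.Prime 5) := ⟨by norm_num⟩
    apply exists_prime_orderOf_dvd_card' 5
    rw [Nat.card_units, Nat.card_eq_fintype_card, hF]
    norm_num
  set ε : F := (u5 : F) with hε
  have hprim : IsPrimitiveRoot ε 5 := by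
    rw [hε, IsPrimitiveRoot.coe_units_iff, ← hu5]; exact IsPrimitiveRoot.orderOf u5
  have hsum : 1 + ε + ε ^ 2 + ε ^ 3 + ε ^ 4 = 0 := by
    simpa [Finset.sum_range_succ] using hprim.geom_sum_eq_zero (by norm_num)
  have he5 : ε ^ 5 = 1 := hprim.pow_eq_one
  obtain ⟨w₀, hw₀⟩ : ∃ w₀ : F, w₀ + w₀ ^ 4 = 1 :=
    ⟨ε * (ε + ε ^ 4) ^ 2, by grind⟩
  have hU := card_uSub hF w₀ hw₀ hz
  -- order of PSU
  have hSU : Nat.card (Cfsg.SU 3 F 4) = 62400 := by
    have h := CfsgLib.Forms4.card_SU_mul_GU hF2 (n := 3) (by norm_num)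
    rw [CfsgLib.Forms.card_GU hF2] at h
    simp [Finset.sum_range_succ, Finset.prod_range_succ, CfsgLib.Forms.u] at h
    norm_num at h
    omega
  have hcen : Subgroup.center (Cfsg.SU 3 F 4) = ⊥ := by
    rw [← Subgroup.card_eq_one, CfsgLib.Forms4.card_center_SU hF2 (by norm_num)]
    rfl
  let q := QuotientGroup.mk' (Subgroup.center (Cfsg.SU 3 F 4))
  have hqinj : Function.Injective q := by
    rw [← MonoidHom.ker_eq_bot_iff, QuotientGroup.ker_mk', hcen]
  have hcardP : Nat.card (Cfsg.PSU 3 F 4) = 62400 := by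
    rw [← hSU]
    exact (Nat.card_eq_of_bijective q ⟨hqinj, QuotientGroup.mk'_surjective _⟩).symm
  have hUc : Nat.card ((uSub hF).map q) = 2 ^ (Nat.card (Cfsg.PSU 3 F 4)).factorization 2 := by
    rw [Subgroup.card_map_of_injective hqinj, hU, hcardP,
      show (62400 : ℕ) = 2 ^ 6 * 975 from rfl, Nat.factorization_mul (by norm_num) (by norm_num),
      Finsupp.add_apply, Nat.factorization_pow_self Nat.prime_two,
      Nat.factorization_eq_zero_of_not_dvd (by norm_num : ¬ 2 ∣ 975)]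
    norm_num
  obtain ⟨g, hg⟩ := MulAction.exists_smul_eq (Cfsg.PSU 3 F 4) (Sylow.ofCard _ hUc) S
  let eU : ↥(uSub hF) ≃* T :=
    (((uSub hF).equivMapOfInjective q hqinj).trans
      (((Sylow.ofCard _ hUc).equiv S))).trans eT.symm
  let ψ : MulAut T ≃* MulAut (uSub hF) := MulAut.congr eU.symm
  let θ : Equiv.Perm (Fin 3) →* MulAut (uSub hF) :=
    ψ.toMonoidHom.comp (H.subtype.comp φ.symm.toMonoidHom)
  have hθ : Function.Injective θ :=
    ψ.injective.comp (H.subtype_injective.comp φ.symm.injective)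
  have h1 := uSub_no_S3 hF (θ (finRotate 3)) (θ (Equiv.swap 0 1))
    (by rw [← map_pow, show finRotate 3 ^ 3 = (1 : Equiv.Perm (Fin 3)) by decide, map_one])
    (by rw [← map_mul, Equiv.swap_mul_self, map_one])
    (by rw [← map_mul, ← map_mul, ← map_inv]; congr 1; decide)
  rw [← map_one θ] at h1
  exact absurd (hθ h1) (by decide)

end Cfsg.Agent.S3156
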