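import Cfsg.Statements.S3158
import Mathlib.GroupTheory.PGroup
import Mathlib.GroupTheory.GroupAction.ConjAct
import Mathlib.GroupTheory.Index
import Mathlib.GroupTheory.Commutator.Basic
import Mathlib.Tactic


set_option autoImplicit false
open Cfsg

namespace Cfsg.Agent.S3158

theorem exists_central {U : Type*} [Group U] [Finite U] (V : Subgroup U) [V.Normal]
    (hU : IsPGroup 2 U) (hV : Nontrivial ↥V) :
    ∃ z ∈ V, (∀ u : U, u * z = z * u) ∧ z ≠ 1 := by
  haveI : Fact (Nat.Prime 2) := ⟨Nat.prime_two⟩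
  obtain ⟨m, hm, hVm⟩ := (IsPGroup.nontrivial_iff_card (hU.to_subgroup V)).1 hV
  let _ : MulAction (ConjAct U) ↥V :=
    { smul := fun g v => ⟨g • (v : U), by
        rw [ConjAct.smul_def]; exact Subgroup.Normal.conj_mem inferInstance _ v.2 _⟩
      one_smul := fun v => Subtype.ext (one_smul (ConjAct U) (v : U))
      mul_smul := fun g h v => Subtype.ext (mul_smul g h (v : U)) }
  have hU' : IsPGroup 2 (ConjAct U) := hU.of_equiv ConjAct.toConjAct
  have h1 : (1 : ↥V) ∈ MulAction.fixedPoints (ConjAct U) ↥V := fun g =>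
    Subtype.ext (smul_one g)
  obtain ⟨b, hb, hb1⟩ := hU'.exists_fixed_point_of_prime_dvd_card_of_fixed_point (α := ↥V)
    (by rw [hVm]; exact dvd_pow_self 2 (by omega)) h1
  refine ⟨b, b.2, fun u => ?_, fun h => hb1 (Subtype.ext h.symm)⟩
  have h2 : ConjAct.toConjAct u • (b : U) = (b : U) := congrArg Subtype.val (hb (ConjAct.toConjAct u))
  rw [ConjAct.toConjAct_smul] at h2
  exact mul_inv_eq_iff_eq_mul.1 h2

/-- Let U be a group of order q² with q = 2^n ≥ 2, and y an automorphism of U of order q − 1 all of whose nontrivial powers fix only the identity. Let V be a proper normal y-invariant subgroup of U such that V and U/V are elementary abelian 2-groups and there is an isomorphism from V to U/V commuting with the actions of y. Then U is abelian. -/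
theorem result {U : Type*} [Group U] [Finite U] (n : ℕ) (hn : 1 ≤ n) (hU : Nat.card U = (2 ^ n) ^ 2)
    (y : MulAut U) (hy : orderOf y = 2 ^ n - 1) (hfp : ∀ k : ℕ, y ^ k ≠ 1 → ∀ u : U, (y ^ k) u = u → u = 1)
    (V : Subgroup U) [V.Normal] (hV : V ≠ ⊤) (hyV : ∀ v ∈ V, y v ∈ V)
    (hVe : ∀ v ∈ V, v ^ 2 = 1) (hQe : ∀ u : U, u ^ 2 ∈ V) (hQc : ∀ u w : U, u * w * u⁻¹ * w⁻¹ ∈ V)
    (φ : ↥V ≃* U ⧸ V) (hφ : ∀ (v : ↥V) (u : U), (QuotientGroup.mk u : U ⧸ V) = φ v → φ ⟨y v, hyV v v.2⟩ = QuotientGroup.mk (y u)) :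
    IsMulCommutative U := by
  rcases Nat.lt_or_ge n 2 with hn2 | hn2
  · have h4 : Nat.card U = 2 ^ 2 := by
      rw [hU, show n = 1 by omega, pow_one]
    exact IsPGroup.isMulCommutative_of_card_eq_prime_sq (p := 2) h4
  have hVcard : Nat.card ↥V = 2 ^ n := by
    have h1 := V.card_mul_index
    rw [Subgroup.index, ← Nat.card_congr φ.toEquiv, hU, sq] at h1
    exact Nat.mul_self_inj.1 h1
  haveI : Fact (Nat.Prime 2) := ⟨Nat.prime_two⟩
  -- the action of the powers of `y` on `V`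
  have hpowV : ∀ (k : ℕ), ∀ v ∈ V, (y ^ k) v ∈ V := by
    intro k; induction k with
    | zero => intro v hv; simpa using hv
    | succ k ih => intro v hv; rw [pow_succ', MulAut.mul_apply]; exact hyV _ (ih v hv)
  let Y : ℕ → ↥V → ↥V := fun k v => ⟨(y ^ k) v, hpowV k v v.2⟩
  have hYadd : ∀ i j v, Y i (Y j v) = Y (i + j) v := fun i j v => Subtype.ext (by
    simp [Y, pow_add])
  have hYmul : ∀ i v w, Y i (v * w) = Y i v * Y i w := fun i v w => Subtype.ext (map_mul _ _ _)
  have hperiod : ∀ k v, Y (k + (2 ^ n - 1)) v = Y k v := fun k v => Subtype.ext (by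
    show (y ^ (k + (2 ^ n - 1))) (v : U) = (y ^ k) (v : U)
    rw [pow_add, ← hy, pow_orderOf_eq_one, mul_one])
  -- transitivity on the non-identity elements of `V`
  have htrans : ∀ v w : ↥V, v ≠ 1 → w ≠ 1 → ∃ k : ℕ, Y k v = w := by
    intro v w hv hw
    haveI : Fintype ↥V := Fintype.ofFinite _
    classical
    let f : Fin (2 ^ n - 1) → {u : ↥V // u ≠ 1} := fun k => ⟨Y k v, fun h0 => hv (Subtype.ext (by
      have := congrArg Subtype.val h0
      exact (MulEquiv.map_eq_one_iff (y ^ (k : ℕ))).1 this))⟩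
    have hinj : Function.Injective f := by
      suffices ∀ k l : Fin (2 ^ n - 1), k ≤ l → f k = f l → k = l by
        intro k l h
        rcases le_total k l with hkl | hkl
        · exact this k l hkl h
        · exact (this l k hkl h.symm).symm
      intro k l hkl h
      have h1 : (y ^ (k : ℕ)) (v : U) = (y ^ (l : ℕ)) (v : U) :=
        congrArg (fun u => ((u : ↥V) : U)) (congrArg Subtype.val h)
      have h2 : (y ^ ((l : ℕ) - k)) (v : U) = v := by
        apply (y ^ (k : ℕ)).injective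
        rw [← MulAut.mul_apply, ← pow_add, Nat.add_sub_cancel' (by exact_mod_cast hkl), h1]
      by_contra hne
      refine hv (Subtype.ext (hfp _ ?_ _ h2))
      apply pow_ne_one_of_lt_orderOf
      · have : (k : ℕ) ≠ l := fun h => hne (Fin.ext h)
        omega
      · rw [hy]; omega
    have hcards : Fintype.card (Fin (2 ^ n - 1)) = Fintype.card {u : ↥V // u ≠ 1} := by
      rw [Fintype.card_fin, Fintype.card_subtype_compl, Fintype.card_subtype_eq,
        ← Nat.card_eq_fintype_card, hVcard]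
    obtain ⟨k, hk⟩ := ((Fintype.bijective_iff_injective_and_card f).2 ⟨hinj, hcards⟩).2 ⟨w, hw⟩
    exact ⟨k, congrArg Subtype.val hk⟩
  -- `V` is central
  have hU2 : IsPGroup 2 U := IsPGroup.of_card (n := n * 2) (by rw [hU, ← pow_mul])
  have hVne : Nontrivial ↥V := by
    rw [← Finite.one_lt_card_iff_nontrivial, hVcard]; exact Nat.one_lt_two_pow (by omega)
  have hcent : ∀ v ∈ V, ∀ u : U, u * v = v * u := by
    obtain ⟨z, hzV, hzZ, hz1⟩ := exists_central V hU2 hVne
    intro v hv u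
    by_cases hv1 : v = 1
    · simp [hv1]
    obtain ⟨k, hk⟩ := htrans ⟨z, hzV⟩ ⟨v, hv⟩ (fun h => hz1 (congrArg Subtype.val h))
      (fun h => hv1 (congrArg Subtype.val h))
    have hk' : (y ^ k) z = v := congrArg Subtype.val hk
    have := congrArg (y ^ k) (hzZ ((y ^ k).symm u))
    simpa [hk'] using this
  let c : U → U → ↥V := fun u w => ⟨_, hQc u w⟩
  let ψ : U → ↥V := fun u => φ.symm (QuotientGroup.mk u)
  have hψmul : ∀ u w, ψ (u * w) = ψ u * ψ w := fun u w => by simp [ψ]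
  have hψY : ∀ k u, ψ ((y ^ k) u) = Y k (ψ u) := by
    intro k; induction k with
    | zero => intro u; exact Subtype.ext (by simp [Y])
    | succ k ih =>
      intro u
      rw [pow_succ', MulAut.mul_apply]
      apply φ.injective
      rw [MulEquiv.apply_symm_apply, ← hφ (ψ ((y ^ k) u)) _ (by simp [ψ])]
      congr 1
      apply Subtype.ext
      rw [ih u]
      simp [Y, pow_succ']
  have hv2 : ∀ v : ↥V, v * v = 1 := fun v => Subtype.ext (by
    show (v : U) * v = 1
    rw [← sq]; exact hVe v v.2)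
  have hcomm : ∀ v w : ↥V, v * w = w * v := fun v w => Subtype.ext (hcent w w.2 v)
  have hcl : ∀ u u' w, c (u * u') w = c u w * c u' w := by
    intro u u' w
    apply Subtype.ext
    show u * u' * w * (u * u')⁻¹ * w⁻¹ = (u * w * u⁻¹ * w⁻¹) * (u' * w * u'⁻¹ * w⁻¹)
    have h1 := hcent _ (hQc u' w) u
    calc u * u' * w * (u * u')⁻¹ * w⁻¹
        = (u * (u' * w * u'⁻¹ * w⁻¹)) * (w * u⁻¹ * w⁻¹) := by group
      _ = (u' * w * u'⁻¹ * w⁻¹) * (u * w * u⁻¹ * w⁻¹) := by rw [h1]; group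
      _ = _ := (hcent _ (hQc u' w) _).symm
  have hcs : ∀ u w, c u w = c w u := by
    intro u w
    have h1 : c u w * c w u = 1 := Subtype.ext (by
      show u * w * u⁻¹ * w⁻¹ * (w * u * w⁻¹ * u⁻¹) = 1
      group)
    calc c u w = c u w * (c w u * c w u) := by rw [hv2, mul_one]
      _ = c w u := by rw [← mul_assoc, h1, one_mul]
  have hcone : ∀ u ∈ V, ∀ w, c u w = 1 := by
    intro u hu w; apply Subtype.ext
    show u * w * u⁻¹ * w⁻¹ = 1
    rw [← hcent u hu w]; group
  have hcψ : ∀ u u' w, ψ u = ψ u' → c u w = c u' w := by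
    intro u u' w h
    have h1 : u⁻¹ * u' ∈ V := QuotientGroup.eq.1 (φ.symm.injective h)
    rw [show u' = u * (u⁻¹ * u') by group, hcl, hcone _ h1, mul_one]
  have hcY : ∀ k u w, c ((y ^ k) u) ((y ^ k) w) = Y k (c u w) := fun k u w =>
    Subtype.ext (by simp [c, Y])
  -- the commutator of two elements is trivial
  refine ⟨⟨fun e w => ?_⟩⟩
  suffices hc1 : c e w = 1 by
    have h1 : e * w * e⁻¹ * w⁻¹ = 1 := congrArg Subtype.val hc1
    exact commutatorElement_eq_one_iff_mul_comm.1 h1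
  by_cases he : ψ e = 1
  · rw [hcψ e 1 w (by simpa [ψ] using he), hcone 1 V.one_mem]
  by_cases hw : ψ w = 1
  · rw [hcs, hcψ w 1 e (by simpa [ψ] using hw), hcone 1 V.one_mem]
  obtain ⟨k, hk⟩ := htrans _ _ he hw
  set i := k * 2 ^ (n - 1) with hi
  have h2i : ∀ v, Y (i + i) v = Y k v := by
    intro v
    have hper : ∀ t, Y (k + t * (2 ^ n - 1)) v = Y k v := by
      intro t; induction t with
      | zero => simp
      | succ t ih => rw [Nat.succ_mul, ← Nat.add_assoc, hperiod, ih]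
    have h2 : i + i = k + k * (2 ^ n - 1) := by
      obtain ⟨n', rfl⟩ := Nat.exists_eq_succ_of_ne_zero (by omega : n ≠ 0)
      have : 2 ^ (n' + 1) - 1 + 1 = 2 ^ (n' + 1) := Nat.sub_add_cancel Nat.one_le_two_pow
      calc i + i = k * 2 ^ (n' + 1) := by rw [hi, Nat.succ_sub_one, pow_succ]; ring
        _ = k + k * (2 ^ (n' + 1) - 1) := by (conv_lhs => rw [← this]); rw [Nat.mul_add, mul_one, Nat.add_comm]
    rw [h2, hper]
  have hwS : c e w = c e ((y ^ (i + i)) e) := by
    rw [hcs e, hcs e, hcψ w _ e (by rw [hψY, h2i, hk])]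
  rw [hwS]
  have hSe : (y ^ (i + i)) e = (y ^ i) ((y ^ i) e) := by rw [pow_add]; rfl
  rw [hSe]
  have hself : ∀ u, c u u = 1 := fun u => Subtype.ext (by
    show u * u * u⁻¹ * u⁻¹ = 1
    group)
  by_cases hfix : ψ e * Y i (ψ e) = 1
  · have : Y i (ψ e) = ψ e := by
      calc Y i (ψ e) = ψ e * ψ e * Y i (ψ e) := by rw [hv2, one_mul]
        _ = ψ e := by rw [mul_assoc, hfix, mul_one]
    rw [hcs, hcψ _ e e (by rw [hψY, hψY, this, this]), hself]
  obtain ⟨j, hj⟩ := htrans (ψ e) _ he hfix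
  have hJ : ∀ v, Y j v = v * Y i v := by
    intro v
    by_cases hv : v = 1
    · subst hv; apply Subtype.ext; simp [Y]
    obtain ⟨l, rfl⟩ := htrans (ψ e) v he hv
    rw [hYadd, Nat.add_comm, ← hYadd, hj, hYmul, hYadd, hYadd, Nat.add_comm l i]
  have hl1 : ∀ u u', c ((y ^ j) u) u' = c u u' * c ((y ^ i) u) u' := fun u u' => by
    rw [← hcl]; exact hcψ _ _ _ (by rw [hψmul, hψY, hψY, hJ])
  have hr1 : ∀ u u', c u' ((y ^ j) u) = c u' u * c u' ((y ^ i) u) := fun u u' => by
    rw [hcs, hl1, hcs u u', hcs _ u']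
  have key := hcY j e ((y ^ i) e)
  rw [hl1, hr1, hr1, hcY i e e, hself, hJ] at key
  have hY1 : Y i (1 : ↥V) = 1 := Subtype.ext (map_one _)
  have hlast : c ((y ^ i) e) ((y ^ i) ((y ^ i) e)) = Y i (c e ((y ^ i) e)) := hcY i _ _
  rw [hY1, one_mul, hlast] at key
  have h3 : c e ((y ^ i) e) * (c e ((y ^ i) ((y ^ i) e)) * Y i (c e ((y ^ i) e))) =
      c e ((y ^ i) e) * (1 * Y i (c e ((y ^ i) e))) := by
    rw [one_mul, ← mul_assoc]; exact key
  exact mul_right_cancel (mul_left_cancel h3)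

end Cfsg.Agent.S3158
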