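import Cfsg.Statements.S3162
import Cfsg.Agent.UThreeSylow.Aut

set_option autoImplicit false
open Cfsg

namespace Cfsg.Agent.S3162

/-- Let S be a Sylow 2-subgroup of the special unitary group of dimension 3 with parameter q = 2^n (n ≥ 2; realised over the field with q² elements). Then the largest normal 2-subgroup of the automorphism group of S is elementary abelian of order 2^(2n²), and the automorphism group has order 2^(2n²) · 2n(q² − 1). -/
theorem result {S : Type*} [Group S] [Finite S] (n : ℕ) (hn : 2 ≤ n) {F : Type*} [Field F] [Fintype F] (hF : Fintype.card F = 4 ^ n)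
    (P : Sylow 2 ↥(Cfsg.SU 3 F (2 ^ n))) (hS : Nonempty (S ≃* ↥(P : Subgroup ↥(Cfsg.SU 3 F (2 ^ n))))) :
    Cfsg.IsElementaryAbelian 2 (Cfsg.pCore 2 (MulAut S)) ∧ Nat.card ↥(Cfsg.pCore 2 (MulAut S)) = 2 ^ (2 * n ^ 2) ∧
      Nat.card (MulAut S) = 2 ^ (2 * n ^ 2) * (2 * n * ((2 ^ n) ^ 2 - 1)) := by
  obtain ⟨eS⟩ := hS
  have h : CfsgLib.UThreeSylow.Good F n (2 ^ n) := ⟨rfl, by omega, by
    rw [hF, ← pow_mul, mul_comm, pow_mul]; norm_num⟩
  obtain ⟨eP⟩ := CfsgLib.UThreeSylow.nonempty_equiv_sylow h P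
  let ψ : MulAut (CfsgLib.UThreeSylow.uSub h) ≃* MulAut S := MulAut.congr (eP.trans eS.symm)
  have hmap : (Cfsg.pCore 2 (MulAut (CfsgLib.UThreeSylow.uSub h))).map ψ.toMonoidHom =
      Cfsg.pCore 2 (MulAut S) := CfsgLib.PLocal.map_pCore_equiv ψ
  obtain ⟨hcomm, hexp⟩ := CfsgLib.UThreeSylow.pCore_aut_elementary h
  refine ⟨⟨?_, ?_⟩, ?_, ?_⟩
  · rw [← hmap]
    refine ⟨⟨?_⟩⟩
    rintro ⟨_, a, ha, rfl⟩ ⟨_, b, hb, rfl⟩
    refine Subtype.ext ?_
    show ψ.toMonoidHom a * ψ.toMonoidHom b = ψ.toMonoidHom b * ψ.toMonoidHom a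
    rw [← map_mul, ← map_mul]
    exact congrArg ψ.toMonoidHom (congrArg Subtype.val (hcomm.is_comm.comm ⟨a, ha⟩ ⟨b, hb⟩))
  · rw [← hmap]
    rintro _ ⟨a, ha, rfl⟩
    rw [← map_pow, hexp a ha, map_one]
  · rw [← hmap, Subgroup.card_map_of_injective (f := ψ.toMonoidHom) ψ.injective,
      CfsgLib.UThreeSylow.pCore_aut h, CfsgLib.UThreeSylow.card_ker_actHom h]
  · rw [← Nat.card_congr ψ.toEquiv, CfsgLib.UThreeSylow.card_aut h]

end Cfsg.Agent.S3162
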