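import Cfsg.Statements.S3163
import Mathlib.GroupTheory.Index
import Mathlib.Tactic.Group


set_option autoImplicit false
open Cfsg

namespace Cfsg.Agent.S3163

theorem comm_of {S : Type*} [Group S] {A : Subgroup S} (hA : Cfsg.IsElementaryAbelian 2 A) :
    ∀ a ∈ A, ∀ a' ∈ A, a * a' = a' * a := fun a ha a' ha' =>
  congrArg Subtype.val (hA.1.is_comm.comm (⟨a, ha⟩ : ↥A) ⟨a', ha'⟩)

theorem sq_of {S : Type*} [Group S] {A : Subgroup S} (hA : Cfsg.IsElementaryAbelian 2 A) :
    ∀ a ∈ A, a * a = 1 := fun a ha => by rw [← sq]; exact hA.2 a ha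

/-- If `S = Q P` and `C ⊓ P ≤ Q` then `|C| ≤ |Q|`. -/
theorem bound {S : Type*} [Group S] [Finite S] (C P Q : Subgroup S)
    (hQP : ∀ s : S, ∃ q ∈ Q, ∃ p ∈ P, s = q * p) (hCP : ∀ c ∈ C, c ∈ P → c ∈ Q) :
    Nat.card ↥C ≤ Nat.card ↥Q := by
  have h1 : P.index ≤ (P.subgroupOf Q).index := by
    rw [Subgroup.index, Subgroup.index]
    refine Nat.card_le_card_of_surjective
      (Quotient.map' (fun q : ↥Q => (q : S)) fun a b h => by
        rw [QuotientGroup.leftRel_apply] at h ⊢; simpa [Subgroup.mem_subgroupOf] using h) ?_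
    rintro ⟨s⟩
    obtain ⟨q, hq, p, hp, rfl⟩ := hQP s
    refine ⟨Quotient.mk'' ⟨q, hq⟩, ?_⟩
    apply Quotient.sound'
    rw [QuotientGroup.leftRel_apply]
    simpa using hp
  have h2 : (P.subgroupOf C).index ≤ P.index :=
    (Subgroup.relIndex_le_of_le_right le_top (by
      simpa [Subgroup.relIndex_top_right] using P.index_ne_zero_of_finite)).trans
      (le_of_eq P.relIndex_top_right)
  have h3 : Nat.card ↥(P.subgroupOf C) ≤ Nat.card ↥(P.subgroupOf Q) :=
    Nat.card_le_card_of_injective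
      (fun c => ⟨⟨(c : ↥C), hCP _ (c : ↥C).2 c.2⟩, c.2⟩) fun a b h => by
        exact Subtype.ext (Subtype.ext (congrArg (fun t : ↥(P.subgroupOf Q) => ((t : ↥Q) : S)) h :))
  rw [← Subgroup.card_mul_index (P.subgroupOf C), ← Subgroup.card_mul_index (P.subgroupOf Q)]
  exact Nat.mul_le_mul h3 (h2.trans h1)

/-- Let S be a non-abelian finite 2-group which is the product S = AB of two elementary abelian subgroups A and B, and suppose that the centralizer in S of every element of A outside B is exactly A. Then the centralizer of every element of B outside A is exactly B; A and B are maximal elementary abelian subgroups of S and the only ones; the centre of S is A ∩ B; and every element of S outside A ∪ B has centralizer of order at most min(|A|, |B|). -/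
theorem result {S : Type*} [Group S] [Finite S] (hS : IsPGroup 2 S) (hna : ¬ IsMulCommutative S) (A B : Subgroup S)
    (hA : Cfsg.IsElementaryAbelian 2 A) (hB : Cfsg.IsElementaryAbelian 2 B) (hAB : ∀ s : S, ∃ a ∈ A, ∃ b ∈ B, s = a * b)
    (hC : ∀ a ∈ A, a ∉ B → Subgroup.centralizer ({a} : Set S) = A) :
    (∀ b ∈ B, b ∉ A → Subgroup.centralizer ({b} : Set S) = B) ∧
      (∀ E : Subgroup S, Cfsg.IsElementaryAbelian 2 E → (∀ E' : Subgroup S, Cfsg.IsElementaryAbelian 2 E' → E ≤ E' → E' = E) → E = A ∨ E = B) ∧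
      (∀ E' : Subgroup S, Cfsg.IsElementaryAbelian 2 E' → A ≤ E' → E' = A) ∧ (∀ E' : Subgroup S, Cfsg.IsElementaryAbelian 2 E' → B ≤ E' → E' = B) ∧
      Subgroup.center S = A ⊓ B ∧
      (∀ x : S, x ∉ A → x ∉ B → Nat.card ↥(Subgroup.centralizer ({x} : Set S)) ≤ min (Nat.card ↥A) (Nat.card ↥B)) := by
  have hAc := comm_of hA
  have hBc := comm_of hB
  have hmem : ∀ a x : S, x ∈ Subgroup.centralizer ({a} : Set S) ↔ a * x = x * a := by
    intro a x; rw [Subgroup.mem_centralizer_singleton_iff]; exact eq_comm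
  have hAB' : ¬ A ≤ B := fun h => hna <| by
    refine ⟨⟨fun s t => ?_⟩⟩
    obtain ⟨a, ha, b, hb, rfl⟩ := hAB s
    obtain ⟨a', ha', b', hb', rfl⟩ := hAB t
    exact hBc _ (mul_mem (h ha) hb) _ (mul_mem (h ha') hb')
  have hBA' : ¬ B ≤ A := fun h => hna <| by
    refine ⟨⟨fun s t => ?_⟩⟩
    obtain ⟨a, ha, b, hb, rfl⟩ := hAB s
    obtain ⟨a', ha', b', hb', rfl⟩ := hAB t
    exact hAc _ (mul_mem ha (h hb)) _ (mul_mem ha' (h hb'))
  -- an element commuting with a product of a member of `A` and a member of `B`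
  have h1 : ∀ b ∈ B, b ∉ A → Subgroup.centralizer ({b} : Set S) = B := by
    intro b hb hbA
    refine le_antisymm ?_ (fun x hx => (hmem b x).2 (hBc b hb x hx))
    intro s hs
    obtain ⟨a, ha, b', hb', rfl⟩ := hAB s
    rw [hmem] at hs
    have hab : a * b = b * a := by
      apply mul_right_cancel (b := b')
      rw [mul_assoc a, hBc b hb b' hb', ← mul_assoc, ← hs, mul_assoc]
    by_cases haB : a ∈ B
    · exact mul_mem haB hb'
    · exfalso; apply hbA
      rw [← hC a ha haB]; exact (hmem a b).2 hab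
  have hsolo : ∀ (P Q : Subgroup S), (∀ a ∈ P, a ∉ Q → Subgroup.centralizer ({a} : Set S) = P) →
      ¬ P ≤ Q → ∀ E' : Subgroup S, Cfsg.IsElementaryAbelian 2 E' → P ≤ E' → E' = P := by
    intro P Q hPC hPQ E' hE' hle
    obtain ⟨a, ha, haQ⟩ := SetLike.not_le_iff_exists.1 hPQ
    refine le_antisymm (fun x hx => ?_) hle
    rw [← hPC a ha haQ]; exact (hmem a x).2 (comm_of hE' a (hle ha) x hx)
  refine ⟨h1, ?_, hsolo A B hC hAB', hsolo B A h1 hBA', ?_, ?_⟩
  · intro E hE hmax
    by_cases hEA : ∃ e ∈ E, e ∈ A ∧ e ∉ B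
    · obtain ⟨e, heE, heA, heB⟩ := hEA
      left; symm; refine hmax A hA (fun x hx => ?_)
      rw [← hC e heA heB]; exact (hmem e x).2 (comm_of hE e heE x hx)
    by_cases hEB : ∃ e ∈ E, e ∈ B ∧ e ∉ A
    · obtain ⟨e, heE, heB, heA⟩ := hEB
      right; symm; refine hmax B hB (fun x hx => ?_)
      rw [← h1 e heB heA]; exact (hmem e x).2 (comm_of hE e heE x hx)
    push Not at hEA hEB
    left; symm; refine hmax A hA (fun x hx => ?_)
    obtain ⟨a, ha, b, hb, rfl⟩ := hAB x
    have hab : a * b = b * a := by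
      have h2 := eq_inv_of_mul_eq_one_left (sq_of hE _ hx)
      rwa [mul_inv_rev, inv_eq_of_mul_eq_one_right (sq_of hA a ha),
        inv_eq_of_mul_eq_one_right (sq_of hB b hb)] at h2
    by_cases haB : a ∈ B
    · exact hEB _ hx (mul_mem haB hb)
    · exact mul_mem ha (by rw [← hC a ha haB]; exact (hmem a b).2 hab)
  · refine le_antisymm (fun z hz => ?_) (fun z hz => ?_)
    · rw [Subgroup.mem_center_iff] at hz
      constructor
      · obtain ⟨a, ha, haB⟩ := SetLike.not_le_iff_exists.1 hAB'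
        rw [← hC a ha haB]; exact (hmem a z).2 (hz a)
      · obtain ⟨b, hb, hbA⟩ := SetLike.not_le_iff_exists.1 hBA'
        rw [← h1 b hb hbA]; exact (hmem b z).2 (hz b)
    · rw [Subgroup.mem_center_iff]
      intro g
      obtain ⟨a, ha, b, hb, rfl⟩ := hAB g
      rw [mul_assoc, hBc b hb z hz.2, ← mul_assoc, hAc a ha z hz.1, mul_assoc]
  · intro x hxA hxB
    refine le_min ?_ ?_
    · refine bound _ B A hAB (fun c hc hcB => ?_)
      by_contra hcA
      apply hxB; rw [← h1 c hcB hcA]; exact (hmem c x).2 ((hmem x c).1 hc).symm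
    · refine bound _ A B (fun s => ?_) (fun c hc hcA => ?_)
      · obtain ⟨a, ha, b, hb, hs⟩ := hAB s⁻¹
        refine ⟨b⁻¹, inv_mem hb, a⁻¹, inv_mem ha, ?_⟩
        rw [← mul_inv_rev, ← hs, inv_inv]
      · by_contra hcB
        apply hxA; rw [← hC c hcA hcB]; exact (hmem c x).2 ((hmem x c).1 hc).symm

end Cfsg.Agent.S3163
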