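import Cfsg.Statements.S3164
import Cfsg.Agent.S3153
import Cfsg.Agent.Components.FStar
import Cfsg.Agent.Transfer.Residual
import Cfsg.Agent.Solvable.Fitting


set_option autoImplicit false
open Cfsg

namespace Cfsg.Agent.S3164

open Cfsg.Agent.S3153 (hom_eq_one normal_le_center_or_top sq_one_odd comm_of_same_fix two_dvd_card_of_mem)

/-- A normal subgroup of even order contains an involution commuting with a given 2-element. -/
theorem exists_fixed_involution {G : Type*} [Group G] [Finite G] (N : Subgroup G) [N.Normal]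
    (hN : Even (Nat.card ↥N)) {t : G} (ht : orderOf t = 2) :
    ∃ z ∈ N, orderOf z = 2 ∧ z * t = t * z := by
  haveI : Fact (Nat.Prime 2) := ⟨Nat.prime_two⟩
  obtain ⟨P, hP⟩ := (IsPGroup.of_card (n := 1) (by rw [Nat.card_zpowers, ht, pow_one]) :
    IsPGroup 2 ↥(Subgroup.zpowers t)).exists_le_sylow
  have htP : t ∈ (P : Subgroup G) := hP (Subgroup.mem_zpowers t)
  set M : Subgroup ↥(P : Subgroup G) := N.subgroupOf (P : Subgroup G) with hM
  have hne : M ≠ ⊥ := by
    intro h
    have h1 := CfsgLib.Transfer.not_dvd_relIndex_of_normal P N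
    rw [hM, Subgroup.subgroupOf_eq_bot] at h
    apply h1
    rw [← Subgroup.inf_relIndex_right, disjoint_iff.1 (Disjoint.symm h), Subgroup.relIndex_bot_left]
    exact even_iff_two_dvd.1 hN
  have hPp : IsPGroup 2 ↥(P : Subgroup G) := P.2
  haveI : Nontrivial ↥M := (Subgroup.nontrivial_iff_ne_bot M).2 hne
  obtain ⟨w, hwM, hwc, hw1⟩ : ∃ w ∈ M, (∀ u, u * w = w * u) ∧ w ≠ 1 := by
    obtain ⟨m, hm, hm'⟩ := (IsPGroup.nontrivial_iff_card (hPp.to_subgroup M)).1 inferInstance
    let _ : MulAction (ConjAct ↥(P : Subgroup G)) ↥M :=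
      { smul := fun g v => ⟨g • (v : ↥(P : Subgroup G)), by
          rw [ConjAct.smul_def]; exact Subgroup.Normal.conj_mem inferInstance _ v.2 _⟩
        one_smul := fun v => Subtype.ext (one_smul (ConjAct ↥(P : Subgroup G)) (v : ↥(P : Subgroup G)))
        mul_smul := fun g h v => Subtype.ext (mul_smul g h (v : ↥(P : Subgroup G))) }
    have hU' : IsPGroup 2 (ConjAct ↥(P : Subgroup G)) := hPp.of_equiv ConjAct.toConjAct
    have h1 : (1 : ↥M) ∈ MulAction.fixedPoints (ConjAct ↥(P : Subgroup G)) ↥M := fun g =>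
      Subtype.ext (smul_one g)
    obtain ⟨b, hb, hb1⟩ := hU'.exists_fixed_point_of_prime_dvd_card_of_fixed_point (α := ↥M)
      (by rw [hm']; exact dvd_pow_self 2 (by omega)) h1
    refine ⟨b, b.2, fun u => ?_, fun h => hb1 (Subtype.ext h.symm)⟩
    have h2 := congrArg Subtype.val (hb (ConjAct.toConjAct u))
    exact mul_inv_eq_iff_eq_mul.1 h2
  obtain ⟨k, hk⟩ := (IsPGroup.iff_orderOf.1 hPp) w
  have hk0 : k ≠ 0 := by rintro rfl; exact hw1 (orderOf_eq_one_iff.1 (by simpa using hk))
  refine ⟨((w ^ (2 ^ (k - 1)) : ↥(P : Subgroup G)) : G), ?_, ?_, ?_⟩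
  · exact Subgroup.mem_subgroupOf.1 (pow_mem hwM _)
  · rw [Subgroup.orderOf_coe, orderOf_pow, hk,
      Nat.gcd_eq_right (pow_dvd_pow 2 (by omega)), Nat.pow_div (by omega) (by norm_num),
      show k - (k - 1) = 1 by omega, pow_one]
  · exact congrArg Subtype.val
      ((show Commute w ⟨t, htP⟩ from (hwc _).symm).pow_left (2 ^ (k - 1))).eq

/-- Let A be a standard subgroup of a finite group G whose centralizer has cyclic Sylow 2-subgroups, t an involution centralizing A, and X the normal closure of A in G. If X has a t-invariant 2-subgroup R with [R, t] nontrivial and contained in A, then X is semisimple (X equals its own layer, a central product of quasisimple groups) and the centre of X has odd order. -/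
theorem result {G : Type*} [Group G] [Finite G] (A : Subgroup G) (hA : Cfsg.IsStandardSubgroup A)
    (hcyc : ∀ R : Sylow 2 ↥(Subgroup.centralizer (A : Set G)), IsCyclic ↥(R : Subgroup ↥(Subgroup.centralizer (A : Set G)))) (t : G) (ht : orderOf t = 2) (htA : t ∈ Subgroup.centralizer (A : Set G))
    (R : Subgroup G) (hR2 : IsPGroup 2 ↥R) (hRX : R ≤ Subgroup.normalClosure (A : Set G)) (hRt : ∀ r ∈ R, t * r * t⁻¹ ∈ R)
    (hc1 : ⁅R, Subgroup.zpowers t⁆ ≠ ⊥) (hc2 : ⁅R, Subgroup.zpowers t⁆ ≤ A) :
    Cfsg.layer ↥(Subgroup.normalClosure (A : Set G)) = ⊤ ∧ Odd (Nat.card ↥(Subgroup.center ↥(Subgroup.normalClosure (A : Set G)))) := by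
  classical
  haveI : Fact (Nat.Prime 2) := ⟨Nat.prime_two⟩
  obtain ⟨hq, ⟨-, htight⟩, -, hnorm⟩ := hA
  haveI hperf : Group.IsPerfect ↥A := hq.1
  set C := Subgroup.centralizer (A : Set G) with hC
  have hmC : ∀ {x}, x ∈ C ↔ ∀ a ∈ A, a * x = x * a := fun {x} => Subgroup.mem_centralizer_iff
  have htt : t * t = 1 := by rw [← sq, ← ht]; exact pow_orderOf_eq_one t
  have hti : t⁻¹ = t := inv_eq_of_mul_eq_one_right htt
  -- the involutions of `C` commuting with `t`
  have huniq : ∀ v, v ∈ C → orderOf v = 2 → v * t = t * v → v = t := by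
    intro v hv hv2 hvt
    let v' : ↥C := ⟨v, hv⟩
    let t' : ↥C := ⟨t, htA⟩
    have hv' : orderOf v' = 2 := by rw [← Subgroup.orderOf_coe]; exact hv2
    have ht' : orderOf t' = 2 := by rw [← Subgroup.orderOf_coe]; exact ht
    have hVp : IsPGroup 2 ↥(Subgroup.zpowers v' ⊔ Subgroup.zpowers t') := by
      refine IsPGroup.to_sup_of_normal_right' ?_ ?_ ?_
      · exact IsPGroup.of_card (n := 1) (by rw [Nat.card_zpowers, hv', pow_one])
      · exact IsPGroup.of_card (n := 1) (by rw [Nat.card_zpowers, ht', pow_one])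
      · refine (Subgroup.zpowers_le.2 ?_).trans (Subgroup.centralizer_le_normalizer _)
        rw [Subgroup.mem_centralizer_iff]
        rintro _ ⟨i, rfl⟩
        exact ((show Commute v' t' from Subtype.ext hvt).symm.zpow_left i).eq
    obtain ⟨Q, hQ⟩ := hVp.exists_le_sylow
    haveI := hcyc Q
    let a : ↥(Q : Subgroup ↥C) := ⟨v', hQ (Subgroup.mem_sup_left (Subgroup.mem_zpowers _))⟩
    let b : ↥(Q : Subgroup ↥C) := ⟨t', hQ (Subgroup.mem_sup_right (Subgroup.mem_zpowers _))⟩
    have ha : orderOf a = 2 := by rw [← Subgroup.orderOf_coe]; exact hv'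
    have hb : orderOf b = 2 := by rw [← Subgroup.orderOf_coe]; exact ht'
    letI := Fintype.ofFinite ↥(Q : Subgroup ↥C)
    by_contra hne
    have hab : a ≠ b := fun h =>
      hne (congrArg (fun q : ↥(Q : Subgroup ↥C) => ((q : ↥C) : G)) h)
    have hle := IsCyclic.card_pow_eq_one_le (α := ↥(Q : Subgroup ↥C)) (n := 2) two_pos
    have h3 : ({1, a, b} : Finset ↥(Q : Subgroup ↥C)).card = 3 := by
      have h1a : (1 : ↥(Q : Subgroup ↥C)) ≠ a := fun h => by rw [← h, orderOf_one] at ha; omega
      have h1b : (1 : ↥(Q : Subgroup ↥C)) ≠ b := fun h => by rw [← h, orderOf_one] at hb; omega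
      simp [hab, h1a, h1b]
    have hsub : ({1, a, b} : Finset ↥(Q : Subgroup ↥C)) ⊆
        Finset.univ.filter (fun x => x ^ 2 = 1) := by
      intro x hx
      simp only [Finset.mem_insert, Finset.mem_singleton] at hx
      rw [Finset.mem_filter]
      rcases hx with rfl | rfl | rfl
      · simp
      · exact ⟨Finset.mem_univ _, orderOf_dvd_iff_pow_eq_one.1 ha.dvd⟩
      · exact ⟨Finset.mem_univ _, orderOf_dvd_iff_pow_eq_one.1 hb.dvd⟩
    have := Finset.card_le_card hsub
    omega
  -- `C_G(t)` normalises `A`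
  have hCt : ∀ x, x * t = t * x → x ∈ Subgroup.normalizer (A : Set G) := by
    intro x hx
    rw [hnorm]
    by_contra hxn
    have htm : t ∈ C ⊓ C.map (MulAut.conj x).toMonoidHom :=
      ⟨htA, ⟨t, htA, mul_inv_eq_iff_eq_mul.2 hx⟩⟩
    exact absurd (htight x hxn)
      (Nat.not_odd_iff_even.2 (even_iff_two_dvd.2 (two_dvd_card_of_mem ht htm)))
  -- the special element of `A`
  obtain ⟨r, hr, hrt⟩ : ∃ r ∈ R, r * t * r⁻¹ * t⁻¹ ≠ 1 := by
    by_contra h
    push Not at h
    apply hc1
    rw [Subgroup.commutator_eq_bot_iff_le_centralizer]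
    intro r hr
    rw [Subgroup.mem_centralizer_iff]
    rintro _ ⟨i, rfl⟩
    exact ((show Commute t r from
      (commutatorElement_eq_one_iff_mul_comm.1 (h r hr)).symm).zpow_left i).eq
  set c := r * t * r⁻¹ * t⁻¹ with hc
  have hcA : c ∈ A := hc2 (Subgroup.commutator_mem_commutator hr (Subgroup.mem_zpowers t))
  have hct : c * t = t * c := hmC.1 htA c hcA
  have hu : r * t * r⁻¹ = c * t := by rw [hc]; group
  have hcc : c * c = 1 := by
    have h1 : (c * t) * (c * t) = 1 := by
      rw [← hu]
      calc r * t * r⁻¹ * (r * t * r⁻¹) = r * (t * t) * r⁻¹ := by group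
        _ = 1 := by rw [htt]; group
    rw [mul_assoc, ← mul_assoc t, ← hct, mul_assoc c t, htt, mul_one] at h1
    exact h1
  have hcC : c ∉ C := by
    intro h
    have hceq := huniq c h (orderOf_eq_prime (by rw [sq]; exact hcc) hrt) hct
    have : t = 1 := by
      rw [hceq, htt, conj_eq_one_iff] at hu
      exact hu
    rw [this, orderOf_one] at ht; omega
  -- every normal subgroup contains `A`, or has odd order and centralises `A`
  have key : ∀ M : Subgroup G, M.Normal →
      A ≤ M ∨ (Odd (Nat.card ↥M) ∧ A ≤ Subgroup.centralizer (M : Set G)) := by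
    intro M hM
    by_cases hAM : A ≤ M
    · exact Or.inl hAM
    right
    have hcent : M.subgroupOf A ≤ Subgroup.center ↥A := by
      rcases normal_le_center_or_top hq (M.subgroupOf A) with h | h
      · exact h
      · exact absurd (fun a ha => Subgroup.mem_subgroupOf.1 (h ▸ Subgroup.mem_top (⟨a, ha⟩ : ↥A))) hAM
    have hfix : ∀ x ∈ M, x * t = t * x → x ∈ C := by
      intro x hx hxt
      have hxN := hCt x hxt
      have hval : ∀ a : ↥A, (a : G) * x * (a : G)⁻¹ * x⁻¹ ∈ A := fun a => by
        have h1 : x * ((a : G))⁻¹ * x⁻¹ ∈ A := (Subgroup.mem_normalizer_iff.1 hxN _).1 (inv_mem a.2)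
        simpa [mul_assoc] using mul_mem a.2 h1
      have hz : ∀ a : ↥A, (⟨_, hval a⟩ : ↥A) ∈ Subgroup.center ↥A := fun a => hcent
        (Subgroup.mem_subgroupOf.2 (mul_mem (hM.conj_mem x hx _) (inv_mem hx)))
      let φ : ↥A →* ↥A := MonoidHom.mk' (fun a => ⟨_, hval a⟩) (fun a b => by
        have h1 := congrArg Subtype.val (Subgroup.mem_center_iff.1 (hz b) a)
        have h2 := congrArg Subtype.val (Subgroup.mem_center_iff.1 (hz b) ⟨_, hval a⟩)
        apply Subtype.ext
        simp only [Subgroup.coe_mul] at h1 h2 ⊢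
        calc (a : G) * b * x * ((a : G) * b)⁻¹ * x⁻¹
            = ((a : G) * (b * x * (b : G)⁻¹ * x⁻¹)) * (x * (a : G)⁻¹ * x⁻¹) := by group
          _ = _ := by rw [h1, h2]; group)
      rw [hmC]
      intro a ha
      exact commutatorElement_eq_one_iff_mul_comm.1 (congrArg Subtype.val
        (hom_eq_one hq.1 φ (fun b c => Subgroup.mem_center_iff.1 (hz c) _) ⟨a, ha⟩) : _)
    have hodd : Odd (Nat.card ↥M) := by
      rw [← Nat.not_even_iff_odd]
      intro hev
      haveI := hM
      obtain ⟨z, hzM, hz2, hzt⟩ := exists_fixed_involution M hev ht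
      have hzeq := huniq z (hfix z hzM hzt) hz2 hzt
      have hcM : c ∈ M := mul_mem (hM.conj_mem t (hzeq ▸ hzM) r) (inv_mem (hzeq ▸ hzM))
      have := hcent (Subgroup.mem_subgroupOf.2 hcM : (⟨c, hcA⟩ : ↥A) ∈ M.subgroupOf A)
      refine hcC (hmC.2 fun a ha => ?_)
      exact congrArg Subtype.val (Subgroup.mem_center_iff.1 this ⟨a, ha⟩)
    refine ⟨hodd, ?_⟩
    haveI := hM
    -- the fixed points of `t` and of `c * t` coincide, so `c` centralises `M`
    have hc' : r⁻¹ * c * r ∈ A := by
      have h1 : r⁻¹ * t * r⁻¹⁻¹ * t⁻¹ ∈ A :=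
        hc2 (Subgroup.commutator_mem_commutator (inv_mem hr) (Subgroup.mem_zpowers t))
      have h2 : r⁻¹ * c * r = (r⁻¹ * t * r⁻¹⁻¹ * t⁻¹)⁻¹ := by rw [hc, hti]; simp [mul_assoc, hti]
      rw [h2]; exact inv_mem h1
    have hsame : ∀ x ∈ M, t * x = x * t ↔ c * t * x = x * (c * t) := by
      intro x hx
      constructor
      · intro h
        have := hmC.1 (hfix x hx h.symm) c hcA
        rw [mul_assoc, h, ← mul_assoc, this, mul_assoc]
      · intro h
        have h1 : (r⁻¹ * x * r) * t = t * (r⁻¹ * x * r) := by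
          calc (r⁻¹ * x * r) * t = r⁻¹ * (x * (r * t * r⁻¹)) * r := by group
            _ = r⁻¹ * ((r * t * r⁻¹) * x) * r := by rw [hu, h]
            _ = t * (r⁻¹ * x * r) := by group
        have h2 := hmC.1 (hfix _ (by simpa using hM.conj_mem x hx r⁻¹) h1) _ hc'
        have hcx : c * x = x * c := by
          calc c * x = r * ((r⁻¹ * c * r) * (r⁻¹ * x * r)) * r⁻¹ := by group
            _ = r * ((r⁻¹ * x * r) * (r⁻¹ * c * r)) * r⁻¹ := by rw [h2]
            _ = x * c := by group
        apply mul_left_cancel (a := c)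
        rw [← mul_assoc, h, ← mul_assoc, ← hcx, mul_assoc]
    have hw := comm_of_same_fix hodd htt
      (by rw [← hu]; calc r * t * r⁻¹ * (r * t * r⁻¹) = r * (t * t) * r⁻¹ := by group
            _ = 1 := by rw [htt]; group)
      (by rw [mul_assoc c, htt, mul_one, hct, ← mul_assoc, htt, one_mul]) hsame
    have hcK : c ∈ Subgroup.centralizer (M : Set G) := by
      rw [Subgroup.mem_centralizer_iff]
      intro y hy
      have h1 : c = t * (c * t) := by rw [hct, ← mul_assoc, htt, one_mul]
      rw [h1]; exact (hw y hy).symm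
    haveI : (Subgroup.centralizer (M : Set G)).Normal := Subgroup.normal_centralizer
    rcases normal_le_center_or_top hq ((Subgroup.centralizer (M : Set G)).subgroupOf A) with h | h
    · refine absurd (hmC.2 fun a ha => ?_) hcC
      exact congrArg Subtype.val (Subgroup.mem_center_iff.1
        (h (Subgroup.mem_subgroupOf.2 hcK : (⟨c, hcA⟩ : ↥A) ∈ _)) ⟨a, ha⟩)
    · exact fun a ha => Subgroup.mem_subgroupOf.1 (h ▸ Subgroup.mem_top (⟨a, ha⟩ : ↥A))
  set X := Subgroup.normalClosure (A : Set G) with hX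
  haveI hXn : X.Normal := Subgroup.normalClosure_normal
  have hAX : A ≤ X := Subgroup.subset_normalClosure
  -- each characteristic subgroup of `X` is everything or central of odd order
  have keyX : ∀ K : Subgroup ↥X, K.Characteristic →
      K = ⊤ ∨ (Odd (Nat.card ↥K) ∧ K ≤ Subgroup.center ↥X) := by
    intro K hK
    haveI := hK
    haveI hKn : (K.map X.subtype).Normal := inferInstance
    rcases key _ hKn with h | ⟨h1, h2⟩
    · left
      rw [eq_top_iff]
      intro x _
      obtain ⟨y, hy, hyx⟩ := (Subgroup.normalClosure_le_normal (N := K.map X.subtype) h) x.2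
      rwa [← Subtype.ext hyx]
    · right
      refine ⟨by rwa [← Subgroup.card_map_of_injective X.subtype_injective], fun k hk => ?_⟩
      rw [Subgroup.mem_center_iff]
      intro x
      haveI : (Subgroup.centralizer ((K.map X.subtype : Subgroup G) : Set G)).Normal :=
        Subgroup.normal_centralizer
      have := Subgroup.normalClosure_le_normal h2 x.2
      exact Subtype.ext ((Subgroup.mem_centralizer_iff.1 this _ (Subgroup.mem_map_of_mem _ hk)).symm)
  have hXna : ∀ h : ∀ x y : ↥X, x * y = y * x, False := by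
    intro h
    refine hcC (hmC.2 fun a ha => ?_)
    exact congrArg Subtype.val (h ⟨a, hAX ha⟩ ⟨c, hAX hcA⟩)
  refine ⟨?_, ?_⟩
  · rcases keyX (Cfsg.layer ↥X) inferInstance with h | ⟨-, h⟩
    · exact h
    exfalso
    have hbot : Cfsg.layer ↥X = ⊥ := by
      rw [CfsgLib.Components.layer_eq_bot_iff]
      intro L hL
      have hle := (CfsgLib.Components.IsComponent.le_layer hL).trans h
      apply CfsgLib.Components.IsComponent.not_commute hL
      rw [Subgroup.commutator_eq_bot_iff_le_centralizer]
      intro l hl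
      rw [Subgroup.mem_centralizer_iff]
      intro m hm
      exact (Subgroup.mem_center_iff.1 (hle hl) m)
    haveI hFc : (Cfsg.fittingSubgroup ↥X).Characteristic := CfsgLib.Solvable.fittingSubgroup_characteristic
    have hFstar : Cfsg.generalizedFittingSubgroup ↥X = Cfsg.fittingSubgroup ↥X := by
      rw [Cfsg.generalizedFittingSubgroup, hbot, bot_sup_eq]
    have hnil := CfsgLib.Solvable.fittingSubgroup_isNilpotent (G := ↥X)
    rcases keyX _ hFc with hF | ⟨-, hF⟩
    · -- then `X` is nilpotent, so `A` is solvable and perfect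
      rw [hF] at hnil
      haveI : Group.IsSolvable ↥X := by
        haveI := hnil
        exact Group.isSolvable_of_surjective (f := Subgroup.topEquiv.toMonoidHom) (MulEquiv.surjective _)
      haveI : Group.IsSolvable ↥A := Group.isSolvable_of_isSolvable_injective (Subgroup.inclusion_injective hAX)
      obtain ⟨n, hn⟩ := (inferInstance : Group.IsSolvable ↥A).solvable
      have hall : ∀ m, derivedSeries ↥A m = ⊤ := by
        intro m; induction m with
        | zero => rfl
        | succ m ih => rw [derivedSeries_succ, ih, ← commutator_def, Group.IsPerfect.commutator_eq_top]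
      rw [hall] at hn
      refine hcC (hmC.2 fun a ha => ?_)
      have h1 : (⟨c, hcA⟩ : ↥A) = 1 := Subgroup.mem_bot.1 (hn ▸ Subgroup.mem_top _)
      rw [show c = 1 from congrArg Subtype.val h1, mul_one, one_mul]
    · apply hXna
      intro x y
      have hall : x ∈ Subgroup.centralizer (Cfsg.generalizedFittingSubgroup ↥X : Set ↥X) := by
        rw [hFstar, Subgroup.mem_centralizer_iff]
        exact fun k hk => ((Subgroup.mem_center_iff.1 (hF hk)) x).symm
      exact (Subgroup.mem_center_iff.1 (hF (CfsgLib.Components.centralizer_generalizedFitting_le hall)) y).symm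
  · rcases keyX (Subgroup.center ↥X) inferInstance with h | ⟨h, -⟩
    · exfalso
      exact hXna fun x y => Subgroup.mem_center_iff.1 (h ▸ Subgroup.mem_top y) x
    · exact h

end Cfsg.Agent.S3164
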