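import Cfsg.Statements.S3165
import Mathlib.Tactic.Group
import Mathlib.Algebra.Group.Commute.Basic


set_option autoImplicit false
open Cfsg

namespace Cfsg.Agent.S3165

/-- Let a group X act on a group Y by automorphisms and let z be an element of Y all of whose Y-conjugates are fixed by X. Then every element of the form (x·y)y⁻¹, x ∈ X, y ∈ Y (these generate the commutator [X, Y]) commutes with z. -/
theorem result {X Y : Type*} [Group X] [Group Y] [MulDistribMulAction X Y] (z : Y)
    (hz : ∀ y : Y, ∀ x : X, x • (y * z * y⁻¹) = y * z * y⁻¹) :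
    ∀ x : X, ∀ y : Y, Commute ((x • y) * y⁻¹) z := by
  intro x y
  have h := hz (y⁻¹) x
  have hzf : x • z = z := by simpa using hz 1 x
  simp only [smul_mul', smul_inv', hzf, inv_inv] at h
  rw [commute_iff_eq]
  calc (x • y) * y⁻¹ * z = (x • y) * (y⁻¹ * z * y) * y⁻¹ := by group
    _ = (x • y) * ((x • y)⁻¹ * z * (x • y)) * y⁻¹ := by rw [h]
    _ = z * ((x • y) * y⁻¹) := by group

end Cfsg.Agent.S3165
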