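import Cfsg.Statements.S3166
import Mathlib.Algebra.Ring.GeomSum
import Mathlib.Algebra.BigOperators.Ring.Nat
import Mathlib.RingTheory.Coprime.Lemmas
import Mathlib.Tactic


set_option autoImplicit false
open Cfsg

namespace Cfsg.Agent.S3166

/-- Let q = 2^n with n ≥ 1. If q⁴ − q³ + q² − q + 1 is a power p^m of a prime p, then m = 1: the value is never a prime power with exponent greater than 1. -/
theorem result (n p m : ℕ) (hn : 1 ≤ n) (hp : p.Prime) (h : (2 ^ n) ^ 4 - (2 ^ n) ^ 3 + (2 ^ n) ^ 2 - 2 ^ n + 1 = p ^ m) : m = 1 := by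
  set q := 2 ^ n with hq
  have hq2 : 2 ≤ q := by
    rw [hq]; calc 2 = 2 ^ 1 := rfl
      _ ≤ 2 ^ n := Nat.pow_le_pow_right (by norm_num) hn
  have hle : q ^ 3 ≤ q ^ 4 := Nat.pow_le_pow_right (by omega) (by norm_num)
  have hle2 : q ≤ q ^ 2 := by nlinarith
  have hz : (q : ℤ) ^ 4 - (q : ℤ) ^ 3 + (q : ℤ) ^ 2 - q + 1 = (p : ℤ) ^ m := by
    have hc := congrArg (fun x : ℕ => (x : ℤ)) h
    rw [Nat.cast_add, Nat.cast_sub (by omega), Nat.cast_add, Nat.cast_sub hle] at hc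
    push_cast at hc
    linarith
  have hqz : (2 : ℤ) ≤ q := by exact_mod_cast hq2
  have hp2 : (2 : ℤ) ≤ p := by exact_mod_cast hp.two_le
  have hf0 : 2 ≤ (q : ℤ) ^ 4 - (q : ℤ) ^ 3 + (q : ℤ) ^ 2 - q + 1 := by
    nlinarith [sq_nonneg ((q : ℤ) ^ 2), sq_nonneg ((q : ℤ) - 1)]
  rcases Nat.even_or_odd m with ⟨l, hl⟩ | ⟨l, hl⟩
  · exfalso
    set r := (p : ℤ) ^ l with hr
    have hr0 : 0 ≤ r := by positivity
    have hrr : (p : ℤ) ^ m = r * r := by rw [hl, pow_add]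
    rw [hrr] at hz
    have h1 : 2 * (q : ℤ) ^ 2 - q < 2 * r := by nlinarith
    have h2 : 2 * r < 2 * (q : ℤ) ^ 2 - q + 1 := by nlinarith
    omega
  by_contra hm
  have hm3 : 3 ≤ m := by omega
  have hfac : (q : ℤ) * ((q : ℤ) ^ 3 - (q : ℤ) ^ 2 + q - 1) =
      ((p : ℤ) - 1) * ∑ i ∈ Finset.range m, (p : ℤ) ^ i := by
    rw [mul_geom_sum, ← hz]; ring
  have hpodd : Odd (p : ℤ) := by
    have hodd : Odd ((p : ℤ) ^ m) := by
      rw [← hz, hq]
      obtain ⟨n', rfl⟩ := Nat.exists_eq_succ_of_ne_zero (by omega : n ≠ 0)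
      push_cast
      simp only [pow_succ]
      simp [parity_simps]
    exact (Int.odd_pow.1 hodd).resolve_right (by omega)
  have hS : Odd (∑ i ∈ Finset.range m, (p : ℤ) ^ i) := by
    have hind : ∀ k : ℕ, (Odd (∑ i ∈ Finset.range k, (p : ℤ) ^ i) ↔ Odd k) := by
      intro k; induction k with
      | zero => simp
      | succ k ih =>
        rw [Finset.sum_range_succ, Int.odd_add, ih, Nat.odd_add_one]
        have : ¬ Even ((p : ℤ) ^ k) := Int.not_even_iff_odd.2 hpodd.pow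
        tauto
    exact (hind m).2 ⟨l, hl⟩
  have hdvd : (q : ℤ) ∣ (p : ℤ) - 1 := by
    have hco : IsCoprime (q : ℤ) (∑ i ∈ Finset.range m, (p : ℤ) ^ i) := by
      rw [hq]; push_cast
      apply IsCoprime.pow_left
      obtain ⟨c, hc⟩ := hS
      exact ⟨-c, 1, by rw [hc]; ring⟩
    exact hco.dvd_of_dvd_mul_right ⟨_, hfac.symm⟩
  obtain ⟨k, hk⟩ := hdvd
  have hk1 : 1 ≤ k := by nlinarith
  have hlt : (p : ℤ) ^ m < (q : ℤ) ^ 4 := by rw [← hz]; nlinarith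
  have hm4 : m ≤ 3 := by
    by_contra hh
    have h4 : (p : ℤ) ^ 4 ≤ (p : ℤ) ^ m := pow_le_pow_right₀ (by linarith) (by omega)
    have h5 : (q : ℤ) ≤ p := by nlinarith
    have h6 : (q : ℤ) ^ 4 ≤ (p : ℤ) ^ 4 := pow_le_pow_left₀ (by linarith) h5 4
    linarith
  have hm' : m = 3 := by omega
  have hpk : (p : ℤ) = 1 + (q : ℤ) * k := by linarith
  rw [hm', hpk] at hz hlt
  have heq : (q : ℤ) ^ 3 - (q : ℤ) ^ 2 + q - 1 = 3 * k + 3 * k ^ 2 * q + k ^ 3 * (q : ℤ) ^ 2 := by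
    apply mul_left_cancel₀ (show (q : ℤ) ≠ 0 by linarith)
    linarith [hz]
  have hdiv : (q : ℤ) ∣ 3 * k + 1 :=
    ⟨(q : ℤ) ^ 2 - q + 1 - 3 * k ^ 2 - k ^ 3 * q, by linarith [heq]⟩
  have hk3 : k ^ 3 < q := by
    have : (q : ℤ) ^ 3 * k ^ 3 < (q : ℤ) ^ 3 * q := by
      have h0 : 0 ≤ (q : ℤ) * k := mul_nonneg (by linarith) (by linarith)
      have hle' := pow_le_pow_left₀ h0 (by linarith : (q : ℤ) * k ≤ 1 + (q : ℤ) * k) 3
      rw [mul_pow] at hle'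
      linarith [show (q : ℤ) ^ 3 * q = (q : ℤ) ^ 4 by ring]
    exact lt_of_mul_lt_mul_left this (by positivity)
  have hle3 : (q : ℤ) ≤ 3 * k + 1 := Int.le_of_dvd (by linarith) hdiv
  have hk2 : k = 1 := by
    by_contra hne
    have : 2 ≤ k := by omega
    nlinarith [mul_le_mul this this (by norm_num) (by linarith)]
  subst hk2
  have : (q : ℤ) ≤ 4 := by linarith
  interval_cases (q : ℤ) <;> norm_num at heq

end Cfsg.Agent.S3166
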