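import Cfsg.Statements.S3174
import Cfsg.Agent.Inv53.RudvalisStructure

set_option autoImplicit false
open Cfsg

namespace Cfsg.Agent.S3174

/-- Let T be a finite 2-group of order at least 2^14 in which the fourth term of the upper central series has order 16. Let W be the centralizer in T of the third term Z₃(T), and suppose the Frattini subgroup of W has order at most 8 and lies in every subgroup of W of index at most 16. Then T has order exactly 2^14; the derived subgroup of W and the Frattini subgroup of W both equal Z₃(T), which is elementary abelian of order 8; the centre of W has order 8; W is normal in T with quotient dihedral of order 8; and W modulo its derived subgroup is elementary abelian of order 2^8. -/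
theorem result {T : Type*} [Group T] [Finite T]
    (hT : IsPGroup 2 T) (ha : 2 ^ 14 ≤ Nat.card T) (hb : Nat.card ↥(Subgroup.upperCentralSeries T 4) = 16)
    (W : Subgroup T) (hW : W = Subgroup.centralizer ((Subgroup.upperCentralSeries T 3 : Subgroup T) : Set T))
    (hc : Nat.card ↥(frattini ↥W) ≤ 8) (hd : ∀ U : Subgroup ↥W, U.index ≤ 16 → frattini ↥W ≤ U) :
    Nat.card T = 2 ^ 14 ∧
      (commutator ↥W).map W.subtype = Subgroup.upperCentralSeries T 3 ∧
      (frattini ↥W).map W.subtype = Subgroup.upperCentralSeries T 3 ∧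
      Nat.card ↥(Subgroup.center ↥W) = 8 ∧
      Nat.card ↥(Subgroup.upperCentralSeries T 3) = 8 ∧ (∀ z ∈ Subgroup.upperCentralSeries T 3, z ^ 2 = 1) ∧
      (∃ (_ : W.Normal), Nonempty (T ⧸ W ≃* DihedralGroup 4)) ∧
      Nat.card (↥W ⧸ commutator ↥W) = 2 ^ 8 ∧ (∀ x : ↥W ⧸ commutator ↥W, x ^ 2 = 1) := by
  have H : CfsgLib.Inv53.Rudvalis.Hyp T W := ⟨hT, ha, hb, hW, hc, hd⟩
  haveI : Fact (Nat.Prime 2) := ⟨Nat.prime_two⟩
  haveI hn := H.normal_W
  obtain ⟨hidx, hcard, hΦ, -⟩ := H.main
  obtain ⟨hC3, hC, hexp⟩ := H.commutator_eq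
  have h3 : Nat.card ↥(Subgroup.upperCentralSeries T 3) = 8 := (H.card_upper 3 (by omega)).trans (by norm_num)
  refine ⟨hcard, hC3, hΦ, ?_, h3, hexp, ⟨hn, H.quotient_dihedral⟩, ?_, ?_⟩
  · rw [← Subgroup.card_map_of_injective W.subtype_injective, H.center_eq, h3]
  · have h1 := Subgroup.card_mul_index W
    have h2 := Subgroup.card_mul_index (commutator W)
    rw [← Subgroup.card_map_of_injective W.subtype_injective, hC3, h3] at h2
    rw [hidx, hcard, ← h2] at h1
    rw [← Subgroup.index_eq_card]
    norm_num at h1 ⊢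
    omega
  · intro x
    obtain ⟨a, rfl⟩ := QuotientGroup.mk_surjective x
    rw [← QuotientGroup.mk_pow, QuotientGroup.eq_one_iff, hC]
    exact CfsgLib.Solvable.pow_mem_frattini (hT.to_subgroup W) a

end Cfsg.Agent.S3174
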