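import Cfsg.Statements.S3175
import Cfsg.Agent.Inv53.RudvalisAutomorphisms

set_option autoImplicit false
open Cfsg

namespace Cfsg.Agent.S3175

/-- Let G be a finite group whose Sylow 2-subgroup T has order at least 2^14 and whose upper central series has fourth term of order 16; let W be the centralizer in T of the third term, and suppose the Frattini subgroup of W has order at most 8 and lies in every subgroup of W of index at most 16. Then the normalizer of T in G has a normal 2-complement, and W is weakly closed in T with respect to G. -/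
theorem result {G : Type*} [Group G] [Finite G]
    (T : Sylow 2 G) (ha : 2 ^ 14 ≤ Nat.card ↥(T : Subgroup G))
    (hb : Nat.card ↥(Subgroup.upperCentralSeries ↥(T : Subgroup G) 4) = 16)
    (W : Subgroup ↥(T : Subgroup G))
    (hW : W = Subgroup.centralizer ((Subgroup.upperCentralSeries ↥(T : Subgroup G) 3 : Subgroup ↥(T : Subgroup G)) : Set ↥(T : Subgroup G)))
    (hc : Nat.card ↥(frattini ↥W) ≤ 8)
    (hd : ∀ U : Subgroup ↥W, U.index ≤ 16 → frattini ↥W ≤ U) :
    Cfsg.HasNormalPComplement 2 ↥(Subgroup.normalizer ((T : Subgroup G) : Set G)) ∧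
      Cfsg.IsWeaklyClosed (W.map (T : Subgroup G).subtype) (T : Subgroup G) := by
  haveI : Fact (Nat.Prime 2) := ⟨Nat.prime_two⟩
  have H : CfsgLib.Inv53.Rudvalis.Hyp ↥(T : Subgroup G) W := ⟨T.isPGroup', ha, hb, hW, hc, hd⟩
  refine ⟨?_, Subgroup.map_subtype_le W, fun g hg => ?_⟩
  · set N := Subgroup.normalizer ((T : Subgroup G) : Set G) with hN
    let P : Sylow 2 N := T.subtype Subgroup.le_normalizer
    haveI hPn : (P : Subgroup N).Normal := Subgroup.normal_in_normalizer
    have hcop : (Nat.card (P : Subgroup N)).Coprime (P : Subgroup N).index := P.card_coprime_index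
    obtain ⟨O, hO⟩ := Subgroup.exists_right_complement'_of_coprime hcop
    have hOodd : Odd (Nat.card O) := by
      rw [← hO.symm.index_eq_card, Nat.odd_iff]
      have := P.not_dvd_index
      omega
    have hcen : ∀ o ∈ O, ∀ p ∈ (P : Subgroup N), o * p = p * o := by
      intro o ho p hp
      have hoo : Odd (orderOf o) :=
        Odd.of_dvd_nat hOodd (Subgroup.orderOf_mk o ho ▸ orderOf_dvd_natCard (⟨o, ho⟩ : O))
      have hfix := H.fix_of_odd ((T : Subgroup G).normalizerMonoidHom o)
        (Odd.of_dvd_nat hoo (orderOf_map_dvd _ o)) ⟨p, hp⟩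
      have h : (o : G) * p * (o : G)⁻¹ = p := congrArg Subtype.val hfix
      exact Subtype.ext (mul_inv_eq_iff_eq_mul.1 h)
    refine ⟨P, O, ⟨fun o ho g => ?_⟩, hO.symm⟩
    obtain ⟨⟨⟨p, hp⟩, ⟨q, hq⟩⟩, hpq, -⟩ := hO.existsUnique g
    simp only at hpq
    have h1 : g * o * g⁻¹ = p * (q * o * q⁻¹) * p⁻¹ := by rw [← hpq]; group
    have h2 : q * o * q⁻¹ ∈ O := mul_mem (mul_mem hq ho) (inv_mem hq)
    rw [h1, ← hcen _ h2 p hp, mul_inv_cancel_right]
    exact h2
  · have hinj : Function.Injective (MulAut.conj g).toMonoidHom := (MulAut.conj g).injective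
    let e : W ≃* ((W.map (T : Subgroup G).subtype).map (MulAut.conj g).toMonoidHom).subgroupOf (T : Subgroup G) :=
      ((W.equivMapOfInjective _ (T : Subgroup G).subtype_injective).trans
        ((W.map (T : Subgroup G).subtype).equivMapOfInjective _ hinj)).trans (Subgroup.subgroupOfEquivOfLe hg).symm
    have := congrArg (Subgroup.map (T : Subgroup G).subtype) (H.eq_of_equiv e)
    rwa [Subgroup.map_subgroupOf_eq_of_le hg] at this

end Cfsg.Agent.S3175
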