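import Cfsg.Statements.S3178
import Cfsg.Agent.Inv53.TransferTwo
import Cfsg.Agent.Inv53.Basic

set_option autoImplicit false
open Cfsg

namespace Cfsg.Agent.S3178

/-- Groups with a modular Sylow 2-subgroup have a normal 2-complement. Let S, of order 2^(n+1) with n ≥ 3, be a Sylow 2-subgroup of a finite group G, and suppose S contains an element a of order 2^n and an involution b with b a b⁻¹ = a^(2^(n-1) + 1); so S is the non-abelian 2-group with a cyclic subgroup of index 2 that is neither dihedral, semidihedral nor generalized quaternion. Then G has a normal 2-complement. -/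
theorem result {G : Type*} [Group G] [Finite G]
    (S : Sylow 2 G) (n : ℕ) (hn : 3 ≤ n) (hS : Nat.card ↥(S : Subgroup G) = 2 ^ (n + 1))
    (a b : G) (ha : a ∈ (S : Subgroup G)) (hb : b ∈ (S : Subgroup G))
    (hao : orderOf a = 2 ^ n) (hbo : orderOf b = 2) (hrel : b * a * b⁻¹ = a ^ (2 ^ (n - 1) + 1)) :
    Cfsg.HasNormalPComplement 2 G := by
  haveI : Fact (Nat.Prime 2) := ⟨Nat.prime_two⟩
  have hS' : Subgroup.zpowers a ≤ (S : Subgroup G) := Subgroup.zpowers_le.2 ha
  have hM : (Subgroup.zpowers a).relIndex (S : Subgroup G) = 2 := by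
    have e := ((Subgroup.zpowers a).subgroupOf (S : Subgroup G)).index_mul_card
    rw [Nat.card_congr (Subgroup.subgroupOfEquivOfLe hS').toEquiv, Nat.card_zpowers, hao, hS,
      pow_succ'] at e
    exact Nat.eq_of_mul_eq_mul_right (by positivity) e
  obtain ⟨m, rfl⟩ : ∃ m, n = m + 2 := ⟨n - 2, by omega⟩
  rw [show m + 2 - 1 = m + 1 by omega] at hrel
  set z := a ^ 2 ^ (m + 1) with hzdef
  have hzne : z ≠ 1 := by
    intro h
    have h1 := orderOf_dvd_of_pow_eq_one h
    rw [hao, Nat.pow_dvd_pow_iff_le_right (by norm_num)] at h1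
    omega
  have hz2 : z * z = 1 := by
    rw [hzdef, ← pow_add, ← two_mul, ← pow_succ', ← hao]
    exact pow_orderOf_eq_one a
  -- involutions of `⟨a⟩`
  have hinv : ∀ w ∈ Subgroup.zpowers a, w * w = 1 → w ≠ 1 → w = z := by
    intro w hw hw2 hw1
    obtain ⟨k, rfl⟩ := (mem_powers_iff_mem_zpowers.2 hw : w ∈ Submonoid.powers a)
    simp only at *
    rw [← pow_add] at hw2
    have h1 := orderOf_dvd_of_pow_eq_one hw2
    rw [hao] at h1
    obtain ⟨j, hj⟩ : 2 ^ (m + 1) ∣ k := by
      rw [← two_mul, pow_succ'] at h1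
      exact Nat.dvd_of_mul_dvd_mul_left two_pos h1
    subst hj
    rw [pow_mul] at hw1 ⊢
    rcases Nat.even_or_odd' j with ⟨i, rfl | rfl⟩
    · exfalso; apply hw1; rw [pow_mul, sq, hz2, one_pow]
    · rw [pow_add, pow_mul, sq, hz2, one_pow, one_mul, pow_one]
  have hb2 : b * b = 1 := by rw [← sq, ← hbo, pow_orderOf_eq_one]
  have hbne : b ≠ 1 := fun h => by simp [h] at hbo
  have hbinv : b⁻¹ = b := inv_eq_of_mul_eq_one_right hb2
  have hbz : b ≠ z := by
    intro h
    have hcomm : b * a * b⁻¹ = a := by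
      rw [h, hzdef]
      exact mul_inv_eq_iff_eq_mul.2 ((Commute.refl a).pow_left _).eq
    rw [hcomm, ← pow_one a, ← pow_mul, one_mul, pow_inj_mod, hao] at hrel
    have h1 : (1 : ℕ) % 2 ^ (m + 2) = 1 := Nat.one_mod_eq_one.2 (by
      have : 2 ≤ 2 ^ (m + 2) := le_self_pow (by norm_num) (by omega)
      omega)
    have h2 : (2 ^ (m + 1) + 1) < 2 ^ (m + 2) := by
      have h3 : 2 ≤ 2 ^ (m + 1) := le_self_pow (by norm_num) (by omega)
      rw [pow_succ 2 (m + 1)]
      omega
    rw [h1, Nat.mod_eq_of_lt h2] at hrel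
    have : 0 < 2 ^ (m + 1) := by positivity
    omega
  have hbM : b ∉ Subgroup.zpowers a := fun h => hbz (hinv b h hb2 hbne)
  have hconj : ∀ i : ℕ, b * a ^ i * b⁻¹ = a ^ (i * (2 ^ (m + 1) + 1)) := by
    intro i
    rw [← conj_pow, hrel, ← pow_mul, mul_comm]
  have hba2 : b * a ^ 2 = a ^ 2 * b := by
    have h : a ^ (2 * (2 ^ (m + 1) + 1)) = a ^ 2 := by
      rw [mul_add, pow_add, mul_one, ← pow_succ', ← hao, pow_orderOf_eq_one, one_mul]
    calc b * a ^ 2 = (b * a ^ 2 * b⁻¹) * b := by group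
      _ = a ^ 2 * b := by rw [hconj, h]
  have hzS : ∀ s ∈ (S : Subgroup G), s * z = z * s := by
    have hd : ∀ s ∈ (S : Subgroup G), s ∈ Subgroup.zpowers a ∨ s * b ∈ Subgroup.zpowers a := by
      intro s hs
      by_contra h
      push Not at h
      have hb' : (⟨b, hb⟩ : (S : Subgroup G)) ∉ (Subgroup.zpowers a).subgroupOf (S : Subgroup G) :=
        hbM
      have := (Subgroup.mul_mem_iff_of_index_two (a := (⟨s, hs⟩ : (S : Subgroup G)))
        (b := ⟨b, hb⟩) hM)
      exact h.2 (this.2 (iff_of_false h.1 hb'))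
    have hbz' : b * z = z * b := by
      have : Commute b ((a ^ 2) ^ 2 ^ m) := Commute.pow_right hba2 _
      rw [← pow_mul, ← pow_succ'] at this
      exact this
    intro s hs
    rcases hd s hs with h | h
    · obtain ⟨k, rfl⟩ := h
      exact ((Commute.refl a).zpow_left k).pow_right _ |>.eq
    · obtain ⟨k, hk⟩ := h
      simp only at hk
      have hs : s = a ^ k * b⁻¹ := by rw [hk, mul_inv_cancel_right]
      rw [hs, hbinv, mul_assoc, hbz', ← mul_assoc, (((Commute.refl a).zpow_left k).pow_right _).eq,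
        mul_assoc]
  have hsq : ∀ s ∈ (S : Subgroup G), s * s ∈ Subgroup.zpowers a := by
    intro s hs
    exact (Subgroup.mul_self_mem_of_index_two hM (⟨s, hs⟩ : (S : Subgroup G)))
  -- `b` is not conjugate into `⟨a⟩`
  have hno : ∀ g : G, g * b * g⁻¹ ∉ Subgroup.zpowers a := by
    intro g hg
    have hgz : g * b * g⁻¹ = z := hinv _ hg
      (by rw [show g * b * g⁻¹ * (g * b * g⁻¹) = g * (b * b) * g⁻¹ by group, hb2]; group)
      (fun h => hbne (by simpa [mul_assoc] using congrArg (fun w => g⁻¹ * w * g) h))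
    set C := Subgroup.centralizer ({b} : Set G) with hC
    have hSC : ((S : Subgroup G).map (MulAut.conj g⁻¹).toMonoidHom) ≤ C := by
      rintro _ ⟨s, hs, rfl⟩
      rw [Subgroup.mem_centralizer_iff]
      intro y hy
      rw [Set.mem_singleton_iff] at hy
      rw [hy]
      show b * (g⁻¹ * s * g⁻¹⁻¹) = g⁻¹ * s * g⁻¹⁻¹ * b
      have h1 := hzS s hs
      rw [← hgz] at h1
      calc b * (g⁻¹ * s * g⁻¹⁻¹) = g⁻¹ * ((g * b * g⁻¹) * s) * g := by group
        _ = g⁻¹ * (s * (g * b * g⁻¹)) * g := by rw [h1]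
        _ = g⁻¹ * s * g⁻¹⁻¹ * b := by group
    obtain ⟨T, hT⟩ := CfsgLib.Inv53.map_conj_sylow S g⁻¹
    have hmax : ¬ 2 ∣ ((S : Subgroup G).map (MulAut.conj g⁻¹).toMonoidHom).relIndex C := fun h =>
      T.not_dvd_index (hT ▸ h.trans (Subgroup.relIndex_dvd_index_of_le hSC))
    obtain ⟨k, hk, hle⟩ := CfsgLib.Inv53.exists_conj_le_of_pGroup
      (S.isPGroup'.map (MulAut.conj g⁻¹).toMonoidHom) hSC hmax
      (S.isPGroup'.to_le (Subgroup.zpowers_le.2 (pow_mem ha 2)) : IsPGroup 2 (Subgroup.zpowers (a ^ 2)))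
      (Subgroup.zpowers_le.2 (Subgroup.mem_centralizer_iff.2 fun y hy => by
        rw [Set.mem_singleton_iff.1 hy]; exact hba2))
    set h := g * k with hh
    have hc : h * a ^ 2 * h⁻¹ ∈ (S : Subgroup G) := by
      have := CfsgLib.Inv53.mem_map_conj_iff.1 (hle ⟨a ^ 2, Subgroup.mem_zpowers _, rfl⟩)
      simpa [hh, mul_assoc] using this
    have hkb : k * b * k⁻¹ = b :=
      mul_inv_eq_iff_eq_mul.2 (Subgroup.mem_centralizer_iff.1 hk b rfl).symm
    have hb' : h * b * h⁻¹ = z := by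
      rw [hh, show g * k * b * (g * k)⁻¹ = g * (k * b * k⁻¹) * g⁻¹ by group, hkb, hgz]
    have hhz : h * z * h⁻¹ = z := by
      apply hinv
      · rw [hzdef, show 2 ^ (m + 1) = 2 * 2 ^ m by rw [pow_succ'], pow_mul, ← conj_pow]
        rcases m with _ | m
        · omega
        · rw [show 2 ^ (m + 1) = 2 * 2 ^ m by rw [pow_succ'], pow_mul _ 2, sq (h * _ * _)]
          exact pow_mem (hsq _ hc) _
      · rw [show h * z * h⁻¹ * (h * z * h⁻¹) = h * (z * z) * h⁻¹ by group, hz2]; group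
      · intro h'
        exact hzne (by simpa [mul_assoc] using congrArg (fun w => h⁻¹ * w * h) h')
    exact hbz (mul_left_cancel (mul_right_cancel (hb'.trans hhz.symm)))
  obtain ⟨H, hHn, hH2, hbH⟩ := CfsgLib.Inv53.exists_index_two_notMem S (Subgroup.zpowers a) hS' hM
    (n := 1) le_rfl (fun y _ hyM => by
      rw [Nat.sub_self, pow_zero]
      have h1 : orderOf y ≠ 1 := fun h => hyM (by rw [orderOf_eq_one_iff.1 h]; exact one_mem _)
      have := (isOfFinOrder_of_finite y).orderOf_pos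
      omega)
    (x := b) (by simpa using hbo) hno
  -- a cyclic Sylow 2-subgroup of `H`
  obtain ⟨c, hcS, hcH, hco⟩ : ∃ c, c ∈ (S : Subgroup G) ∧ c ∈ H ∧ orderOf c = 2 ^ (m + 2) := by
    by_cases haH : a ∈ H
    · exact ⟨a, ha, haH, hao⟩
    · refine ⟨a * b, mul_mem ha hb, (Subgroup.mul_mem_iff_of_index_two hH2).2 (iff_of_false haH hbH),
        ?_⟩
      have hsq' : (a * b) ^ 2 = a ^ (2 ^ (m + 1) + 2) := by
        rw [sq, show a * b * (a * b) = a * (b * a * b⁻¹) * (b * b) by group, hb2, hrel, mul_one,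
          ← pow_succ']
      have e : 2 ^ (m + 1) + 2 = 2 * (2 ^ m + 1) := by rw [pow_succ']; ring
      apply orderOf_eq_prime_pow
      · intro h
        rw [pow_succ', pow_mul, hsq', ← pow_mul, e] at h
        have h1 := orderOf_dvd_of_pow_eq_one h
        rw [hao, show 2 * (2 ^ m + 1) * 2 ^ m = 2 ^ (m + 1) * (2 ^ m + 1) by rw [pow_succ']; ring,
          pow_succ 2 (m + 1)] at h1
        have h2 := Nat.dvd_of_mul_dvd_mul_left (by positivity) h1
        rcases m with _ | m
        · omega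
        · rw [pow_succ'] at h2; omega
      · rw [pow_succ', pow_mul, hsq', ← pow_mul, e,
          show 2 * (2 ^ m + 1) * 2 ^ (m + 1) = 2 ^ (m + 2) * (2 ^ m + 1) by
            rw [pow_succ 2 (m + 1)]; ring, pow_mul, ← hao, pow_orderOf_eq_one, one_pow]
  have hle : Subgroup.zpowers c ≤ H := Subgroup.zpowers_le.2 hcH
  have hcardH : Nat.card G = 2 * Nat.card H := by rw [← hH2, Subgroup.index_mul_card]
  let c' : H := ⟨c, hcH⟩
  have hc' : Nat.card (Subgroup.zpowers c') = 2 ^ (m + 2) := by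
    rw [Nat.card_zpowers, Subgroup.orderOf_mk, hco]
  have hfac : (Nat.card H).factorization 2 = m + 2 := by
    have hSc := S.card_eq_multiplicity
    rw [hS, hcardH, Nat.factorization_mul (by norm_num) Nat.card_pos.ne'] at hSc
    have h2 := Nat.pow_right_injective le_rfl hSc
    rw [Finsupp.add_apply, Nat.Prime.factorization_self Nat.prime_two] at h2
    omega
  let P : Sylow 2 H := Sylow.ofCard (Subgroup.zpowers c') (by rw [hc', hfac])
  have hPcyc : IsCyclic (P : Subgroup H) := by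
    rw [Sylow.coe_ofCard]; infer_instance
  have hmin : (Nat.card H).minFac = 2 := by
    rw [Nat.minFac_eq_two_iff]
    exact (dvd_pow_self 2 (by omega)).trans (hc' ▸ Subgroup.card_subgroup_dvd_card _)
  have hcomp := IsCyclic.isComplement' hmin hPcyc
  set N := (MonoidHom.transferSylow P (hPcyc.normalizer_le_centralizer hmin)).ker with hN
  have hNidx : N.index = 2 ^ (m + 2) := by
    rw [hcomp.symm.index_eq_card]
    show Nat.card (Subgroup.zpowers c') = _
    rw [hc']
  have hNodd : ¬ 2 ∣ Nat.card N := MonoidHom.not_dvd_card_ker_transferSylow P _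
  have hmemN : ∀ h : H, h ∈ N ↔ ¬ 2 ∣ orderOf h := by
    intro h
    constructor
    · intro hh h2
      exact hNodd (h2.trans (Subgroup.orderOf_dvd_natCard N hh))
    · intro h2
      have h1 : h ^ (2 ^ (m + 2)) ∈ N := hNidx ▸ N.pow_index_mem h
      have hco' : (orderOf h).Coprime (2 ^ (m + 2)) :=
        Nat.Coprime.pow_right _ ((Nat.prime_two.coprime_iff_not_dvd.2 h2).symm)
      obtain ⟨r, hr⟩ := exists_pow_eq_self_of_coprime hco'.symm
      exact hr ▸ pow_mem h1 r
  refine ⟨S, N.map H.subtype, ⟨?_⟩, ?_⟩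
  · rintro _ ⟨h, hh, rfl⟩ g
    refine ⟨⟨g * h * g⁻¹, hHn.conj_mem _ h.2 g⟩, ?_, rfl⟩
    rw [SetLike.mem_coe, hmemN] at hh ⊢
    rw [Subgroup.orderOf_mk, show g * (h : G) * g⁻¹ = MulAut.conj g h from rfl, MulEquiv.orderOf_eq,
      Subgroup.orderOf_coe]
    exact hh
  · have hcardN : Nat.card (N.map H.subtype) = Nat.card N :=
      (Nat.card_congr (N.equivMapOfInjective _ H.subtype_injective).toEquiv).symm
    apply Subgroup.isComplement'_of_coprime
    · rw [hcardN, hS, hcardH, ← N.index_mul_card, hNidx]; ring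
    · rw [hcardN, hS]
      exact Nat.Coprime.pow_right _ ((Nat.prime_two.coprime_iff_not_dvd.2 hNodd).symm)

end Cfsg.Agent.S3178
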