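import Cfsg.Statements.S3179
import Cfsg.Agent.Inv53.SmallLinearSections
import Cfsg.Agent.Suzuki.LieModel

set_option autoImplicit false
open Cfsg

namespace Cfsg.Agent.S3179

/-- Let X be a section of the general linear group GL(5, 2), that is, a quotient of a subgroup of it. If X is isomorphic to PSL(2, 2^n) for some n ≥ 2, to a Suzuki group over the field with 2^(2m+1) elements for some m ≥ 1, or to PSU(3, 2^n) for some n ≥ 2, then X is isomorphic to PSL(2, 4). -/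
theorem result {H : Subgroup (GL (Fin 5) (ZMod 2))}
    {K : Subgroup ↥H} [K.Normal]
    (hX : (∃ (n : ℕ) (F : Type) (_ : Field F) (_ : Fintype F), 2 ≤ n ∧ Fintype.card F = 2 ^ n ∧
        Nonempty (↥H ⧸ K ≃* Matrix.ProjectiveSpecialLinearGroup (Fin 2) F)) ∨
      (∃ (m : ℕ) (F : Type) (_ : Field F) (_ : Fintype F), 1 ≤ m ∧ Fintype.card F = 2 ^ (2 * m + 1) ∧
        Nonempty (↥H ⧸ K ≃* ↥(Cfsg.Lie.Sz F (2 ^ (m + 1))))) ∨
      (∃ (n : ℕ) (F : Type) (_ : Field F) (_ : Fintype F), 2 ≤ n ∧ Fintype.card F = 4 ^ n ∧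
        Nonempty (↥H ⧸ K ≃* Cfsg.PSU 3 F (2 ^ n)))) :
    ∃ (F : Type) (_ : Field F) (_ : Fintype F), Fintype.card F = 4 ∧
      Nonempty (↥H ⧸ K ≃* Matrix.ProjectiveSpecialLinearGroup (Fin 2) F) := by
  have hdvd : Nat.card (↥H ⧸ K) ∣ 9999360 := by
    rw [← CfsgLib.Inv53.card_GL_five_two]
    exact (Subgroup.card_quotient_dvd_card K).trans (Subgroup.card_subgroup_dvd_card H)
  rcases hX with ⟨n, F, i1, i2, hn, hF, ⟨e⟩⟩ | ⟨m, F, i1, i2, hm, hF, ⟨e⟩⟩ | ⟨n, F, i1, i2, hn, hF, ⟨e⟩⟩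
  · have heven : Even (Fintype.card F) := by
      rw [hF, Nat.even_pow]; exact ⟨even_two, by omega⟩
    rw [Nat.card_congr e.toEquiv, CfsgLib.Linear.card_PSL_two_even heven, hF] at hdvd
    have hle := Nat.le_of_dvd (by norm_num) hdvd
    have hn7 : n ≤ 7 := by
      by_contra h
      have h1 : 2 ^ 8 ≤ 2 ^ n := Nat.pow_le_pow_right two_pos (by omega)
      have h2 : 2 ^ 8 * ((2 ^ 8) ^ 2 - 1) ≤ 2 ^ n * ((2 ^ n) ^ 2 - 1) :=
        Nat.mul_le_mul h1 (Nat.sub_le_sub_right (Nat.pow_le_pow_left h1 2) 1)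
      omega
    interval_cases n
    · exact ⟨F, i1, i2, hF.trans (by norm_num), ⟨e⟩⟩
    · exfalso
      obtain ⟨x, hx⟩ := CfsgLib.Inv53.psl_two_eight_exists_orderOf_nine (F := F) (hF.trans (by norm_num))
      obtain ⟨h, hh⟩ := QuotientGroup.mk'_surjective K (e.symm x)
      have h9 : 9 ∣ orderOf (h : GL (Fin 5) (ZMod 2)) := by
        have := orderOf_map_dvd (QuotientGroup.mk' K) h
        rw [hh, MulEquiv.orderOf_eq, hx] at this
        rwa [Subgroup.orderOf_coe]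
      apply CfsgLib.Inv53.gl_five_two_orderOf_ne_nine ((h : GL (Fin 5) (ZMod 2)) ^ (orderOf (h : GL (Fin 5) (ZMod 2)) / 9))
      have hpos := orderOf_pos (h : GL (Fin 5) (ZMod 2))
      rw [orderOf_pow_of_dvd (Nat.div_pos (Nat.le_of_dvd hpos h9) (by norm_num)).ne' (Nat.div_dvd_of_dvd h9),
        Nat.div_div_self h9 hpos.ne']
    all_goals norm_num at hdvd
  · exfalso
    have hS : CfsgLib.Suzuki.SzField F m := ⟨hm, hF⟩
    rw [Nat.card_congr e.toEquiv, ← Nat.card_congr (CfsgLib.Suzuki.lieSzEquiv hS).toEquiv,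
      CfsgLib.Suzuki.card_sz hS, hF] at hdvd
    rcases Nat.lt_or_ge m 2 with h | h
    · obtain rfl : m = 1 := by omega
      norm_num at hdvd
    · have h1 : 2 ^ 5 ≤ 2 ^ (2 * m + 1) := Nat.pow_le_pow_right two_pos (by omega)
      have h2 := Nat.le_of_dvd (by norm_num) hdvd
      have h3 : (2 ^ 5) ^ 2 * ((2 ^ 5) ^ 2 + 1) * (2 ^ 5 - 1) ≤
          (2 ^ (2 * m + 1)) ^ 2 * ((2 ^ (2 * m + 1)) ^ 2 + 1) * (2 ^ (2 * m + 1) - 1) :=
        Nat.mul_le_mul (Nat.mul_le_mul (Nat.pow_le_pow_left h1 2)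
          (Nat.add_le_add_right (Nat.pow_le_pow_left h1 2) 1)) (Nat.sub_le_sub_right h1 1)
      omega
  · exfalso
    have hd := CfsgLib.Inv53.psu_three_sq_dvd (F := F) (q := 2 ^ n)
      (by rw [hF, show (4 : ℕ) = 2 ^ 2 by norm_num, ← pow_mul, ← pow_mul, mul_comm])
      (by rw [Nat.even_pow]; exact ⟨even_two, by omega⟩)
    rw [← Nat.card_congr e.toEquiv] at hd
    have hd' : (2 ^ n + 1) ^ 2 ∣ 3 * 9999360 := hd.trans (Nat.mul_dvd_mul_left 3 hdvd)
    have hle := Nat.le_of_dvd (by norm_num) hd'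
    have hn12 : n ≤ 12 := by
      by_contra h
      have h1 : 2 ^ 13 ≤ 2 ^ n := Nat.pow_le_pow_right two_pos (by omega)
      have h2 : (2 ^ 13) ^ 2 ≤ (2 ^ n + 1) ^ 2 := Nat.pow_le_pow_left (by omega) 2
      omega
    interval_cases n <;> norm_num at hd'

end Cfsg.Agent.S3179
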