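import Cfsg.Statements.S3180
import Cfsg.Agent.Inv53.Basic

set_option autoImplicit false
open Cfsg

namespace Cfsg.Agent.S3180

/-- Let P be a Sylow p-subgroup of a finite group J and P₁ a subgroup of P that is weakly closed in P with respect to J. If J acts on a set and two points, each fixed by every element of P₁, lie in one J-orbit, then they lie in one orbit of the normalizer of P₁ in J. -/
theorem result {J : Type*} [Group J] [Finite J]
    {p : ℕ} [Fact p.Prime] (P : Sylow p J) (P₁ : Subgroup J) (hW : Cfsg.IsWeaklyClosed P₁ (P : Subgroup J))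
    {Ω : Type*} [MulAction J Ω] (x y : Ω) (hx : ∀ g ∈ P₁, g • x = x) (hy : ∀ g ∈ P₁, g • y = y)
    (hc : ∃ g : J, g • x = y) :
    ∃ g ∈ Subgroup.normalizer (P₁ : Set J), g • x = y := by
  obtain ⟨g, hg⟩ := hc
  set H := MulAction.stabilizer J y with hH
  have h1 : P₁ ≤ H := fun a ha => hy a ha
  have h2 : P₁.map (MulAut.conj g).toMonoidHom ≤ H := by
    rintro _ ⟨a, ha, rfl⟩
    show (g * a * g⁻¹) • y = y
    rw [← hg, mul_smul, mul_smul, inv_smul_smul, hx a ha]
  have hP₁ : IsPGroup p P₁ := P.isPGroup'.to_le hW.1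
  obtain ⟨Q0, hQ0⟩ := (hP₁.comap_subtype (K := H)).exists_le_sylow
  set Q : Subgroup J := (Q0 : Subgroup H).map H.subtype with hQ
  have hP₁Q : P₁ ≤ Q := fun a ha =>
    ⟨⟨a, h1 ha⟩, hQ0 (by simpa [Subgroup.mem_subgroupOf] using ha), rfl⟩
  have hQp : IsPGroup p Q := Q0.isPGroup'.map _
  have hQH : Q ≤ H := Subgroup.map_subtype_le _
  have hQmax : ¬ p ∣ Q.relIndex H := by
    rw [Subgroup.relIndex, Subgroup.subgroupOf,
      Subgroup.comap_map_eq_self_of_injective H.subtype_injective]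
    exact Q0.not_dvd_index
  obtain ⟨h, hh, hle⟩ := CfsgLib.Inv53.exists_conj_le_of_pGroup hQp hQH hQmax
    (hP₁.map (MulAut.conj g).toMonoidHom) h2
  rw [CfsgLib.Inv53.map_conj_map_conj] at hle
  obtain ⟨T, hT⟩ := hQp.exists_le_sylow
  obtain ⟨k, hk⟩ := MulAction.exists_smul_eq J T P
  have hkle : ∀ X : Subgroup J, X ≤ Q → X.map (MulAut.conj k).toMonoidHom ≤ P := by
    intro X hX
    rintro _ ⟨a, ha, rfl⟩
    rw [← hk, Sylow.coe_subgroup_smul]
    exact ⟨a, hT (hX ha), rfl⟩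
  have e1 := hW.2 k (hkle _ hP₁Q)
  have e2 : (P₁.map (MulAut.conj (h * g)).toMonoidHom).map (MulAut.conj k).toMonoidHom =
      P₁.map (MulAut.conj k).toMonoidHom := by
    rw [e1, CfsgLib.Inv53.map_conj_map_conj]
    exact hW.2 _ (by rw [← CfsgLib.Inv53.map_conj_map_conj]; exact hkle _ hle)
  refine ⟨h * g, CfsgLib.Inv53.mem_normalizer_iff_map_conj.2
    (Subgroup.map_injective (MulAut.conj k).injective e2), ?_⟩
  rw [mul_smul, hg]
  exact hh

end Cfsg.Agent.S3180
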