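import Cfsg.Statements.S3183
import Cfsg.Agent.Inv53.Basic
import Cfsg.Agent.Small.BaerSuzuki

set_option autoImplicit false
open Cfsg

namespace Cfsg.Agent.S3183

/-- Let G be a finite group in which the intersection of any two distinct Sylow 2-subgroups is contained in the centre of some Sylow 2-subgroup, and let S be a Sylow 2-subgroup. Then for every x in S the centralizer of x in S is a Sylow 2-subgroup of the centralizer of x in G (no 2-subgroup centralizing x is larger), and for every other Sylow 2-subgroup T the intersection S ∩ T lies in both the centre of S and the centre of T. -/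
theorem result {G : Type*} [Group G] [Finite G]
    (hCI : ∀ S T : Sylow 2 G, S ≠ T → ∃ U : Sylow 2 G,
      (S : Subgroup G) ⊓ (T : Subgroup G) ≤ (Subgroup.center ↥(U : Subgroup G)).map (U : Subgroup G).subtype)
    (S : Sylow 2 G) :
    (∀ x ∈ (S : Subgroup G), ∀ P : Subgroup G, IsPGroup 2 ↥P → P ≤ Subgroup.centralizer ({x} : Set G) →
        Nat.card ↥P ≤ Nat.card ↥((S : Subgroup G) ⊓ Subgroup.centralizer ({x} : Set G))) ∧
    (∀ T : Sylow 2 G, T ≠ S →
        (S : Subgroup G) ⊓ (T : Subgroup G) ≤
          (Subgroup.center ↥(S : Subgroup G)).map (S : Subgroup G).subtype ⊓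
            (Subgroup.center ↥(T : Subgroup G)).map (T : Subgroup G).subtype) := by
  haveI : Fact (Nat.Prime 2) := ⟨Nat.prime_two⟩
  have key : ∀ n : ℕ, ∀ S T : Sylow 2 G, T ≠ S →
      Nat.card G - Nat.card ↥((S : Subgroup G) ⊓ (T : Subgroup G)) = n →
      (S : Subgroup G) ⊓ (T : Subgroup G) ≤ (Subgroup.center ↥(S : Subgroup G)).map (S : Subgroup G).subtype := by
    intro n
    induction n using Nat.strong_induction_on with
    | _ n ih =>
      intro S T hTS hn
      set D := (S : Subgroup G) ⊓ (T : Subgroup G) with hD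
      obtain ⟨U, hU⟩ := hCI S T (Ne.symm hTS)
      have hDU : ∀ d ∈ D, d ∈ (U : Subgroup G) ∧ ∀ u ∈ (U : Subgroup G), u * d = d * u :=
        fun d hd => CfsgLib.Inv53.mem_center_map_iff.1 (hU hd)
      have hDlt : D < (S : Subgroup G) := by
        refine lt_of_le_of_ne inf_le_left fun he => hTS (Sylow.ext ?_)
        have hST : (S : Subgroup G) ≤ (T : Subgroup G) := fun s hs => (he.symm ▸ hs : s ∈ D).2
        exact S.is_maximal' T.isPGroup' hST
      have hlt := CfsgLib.Small.lt_inf_normalizer_of_pGroup S.isPGroup' hDlt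
      set NS := (S : Subgroup G) ⊓ Subgroup.normalizer (D : Set G) with hNS
      have hUN : (U : Subgroup G) ≤ Subgroup.normalizer (D : Set G) := by
        intro u hu
        rw [CfsgLib.Inv53.mem_normalizer_iff_map_conj]
        ext d
        rw [CfsgLib.Inv53.mem_map_conj_iff]
        constructor
        · intro hd
          have := (hDU _ hd).2 u hu
          have hd' : d = u⁻¹ * d * u := by
            rw [show u * (u⁻¹ * d * u) = d * u by group] at this
            exact mul_right_cancel this
          rw [hd']; exact hd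
        · intro hd
          rw [mul_assoc, ← (hDU d hd).2 u hu, inv_mul_cancel_left]
          exact hd
      have hUmax : ∀ K : Subgroup G, (U : Subgroup G) ≤ K → ¬ 2 ∣ (U : Subgroup G).relIndex K :=
        fun K _ h => U.not_dvd_index
          (h.trans (Subgroup.relIndex_dvd_index_of_le ‹_›))
      have hNSp : IsPGroup 2 NS := S.isPGroup'.to_le inf_le_left
      obtain ⟨c₁, hc₁, hle₁⟩ := CfsgLib.Inv53.exists_conj_le_of_pGroup U.isPGroup' hUN
        (hUmax _ hUN) hNSp inf_le_right
      have hNSC : ∀ a ∈ NS, ∀ d ∈ D, a * d = d * a := by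
        intro a ha d hd
        have hd₁ : c₁ * d * c₁⁻¹ ∈ D := (Subgroup.mem_normalizer_iff.1 hc₁ d).1 hd
        have h := (hDU _ hd₁).2 _ (hle₁ ⟨a, ha, rfl⟩)
        change (c₁ * a * c₁⁻¹) * (c₁ * d * c₁⁻¹) = (c₁ * d * c₁⁻¹) * (c₁ * a * c₁⁻¹) at h
        apply mul_left_cancel (a := c₁)
        apply mul_right_cancel (b := c₁⁻¹)
        simpa [mul_assoc] using h
      have hUC : (U : Subgroup G) ≤ Subgroup.centralizer (D : Set G) := fun u hu =>
        Subgroup.mem_centralizer_iff.2 fun d hd => ((hDU d hd).2 u hu).symm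
      obtain ⟨c, hc, hle⟩ := CfsgLib.Inv53.exists_conj_le_of_pGroup U.isPGroup' hUC
        (hUmax _ hUC) hNSp (fun a ha => Subgroup.mem_centralizer_iff.2 fun d hd => (hNSC a ha d hd).symm)
      obtain ⟨V, hV⟩ := CfsgLib.Inv53.map_conj_sylow U c⁻¹
      have hNSV : NS ≤ (V : Subgroup G) := by
        intro a ha
        rw [hV, CfsgLib.Inv53.mem_map_conj_iff, inv_inv]
        exact hle ⟨a, ha, rfl⟩
      intro d hd
      by_cases hVS : V = S
      · subst hVS
        refine CfsgLib.Inv53.mem_center_map_iff.2 ⟨hd.1, fun s hs => ?_⟩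
        rw [hV, CfsgLib.Inv53.mem_map_conj_iff, inv_inv] at hs
        have h := (hDU d hd).2 _ hs
        have hcd : d * c = c * d := Subgroup.mem_centralizer_iff.1 hc d hd
        have hcd' : c⁻¹ * d = d * c⁻¹ := by
          rw [inv_mul_eq_iff_eq_mul, ← mul_assoc, ← hcd, mul_inv_cancel_right]
        apply mul_left_cancel (a := c)
        apply mul_right_cancel (b := c⁻¹)
        calc c * (s * d) * c⁻¹ = (c * s * c⁻¹) * d := by
              simp only [mul_assoc, hcd']
          _ = d * (c * s * c⁻¹) := h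
          _ = c * (d * s) * c⁻¹ := by rw [← mul_assoc, ← mul_assoc, hcd]; group
      · have hbig : NS ≤ (S : Subgroup G) ⊓ (V : Subgroup G) := le_inf inf_le_left hNSV
        have hlt' : D < (S : Subgroup G) ⊓ (V : Subgroup G) := hlt.trans_le hbig
        have hcard : Nat.card D < Nat.card ↥((S : Subgroup G) ⊓ (V : Subgroup G)) := by
          refine lt_of_le_of_ne (Subgroup.card_le_of_le hlt'.le) fun he => hlt'.ne ?_
          exact Subgroup.eq_of_le_of_card_ge hlt'.le he.ge
        have hle' : Nat.card ↥((S : Subgroup G) ⊓ (V : Subgroup G)) ≤ Nat.card G :=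
          Subgroup.card_le_card_group _
        exact ih _ (by omega) S V hVS rfl (hlt'.le hd)
  refine ⟨fun x hx P hP hPC => ?_, fun T hT => le_inf (key _ S T hT rfl) ?_⟩
  · have hcomm : ∀ a ∈ P, a * x = x * a := fun a ha =>
      (Subgroup.mem_centralizer_iff.1 (hPC ha) x rfl).symm
    obtain ⟨T, hT⟩ := (CfsgLib.Inv53.isPGroup_sup_zpowers hP
      (S.isPGroup'.to_le (Subgroup.zpowers_le.2 hx)) hcomm).exists_le_sylow
    by_cases hTS : T = S
    · subst hTS
      exact Subgroup.card_le_of_le (le_inf (le_sup_left.trans hT) hPC)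
    · have hxT : x ∈ (T : Subgroup G) := hT (le_sup_right (a := P) (Subgroup.mem_zpowers x))
      have hxZ := CfsgLib.Inv53.mem_center_map_iff.1 (key _ S T hTS rfl ⟨hx, hxT⟩)
      have hSC : (S : Subgroup G) ≤ Subgroup.centralizer ({x} : Set G) := fun s hs =>
        Subgroup.mem_centralizer_iff.2 fun _ hy => (Set.mem_singleton_iff.1 hy) ▸ (hxZ.2 s hs).symm
      rw [inf_eq_left.2 hSC, Nat.card_congr (Sylow.equiv S T).toEquiv]
      exact Subgroup.card_le_of_le (le_sup_left.trans hT)
  · rw [inf_comm]; exact key _ T S hT.symm rfl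

end Cfsg.Agent.S3183
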