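import Cfsg.Statements.S3189
import Cfsg.Agent.Inv53.AbelianEightSection

set_option autoImplicit false
set_option linter.style.haveILetI false
open Cfsg

namespace Cfsg.Agent.S3189

/-- Let G be a non-abelian finite simple group whose Sylow 2-subgroup S is elementary abelian of order 8, and suppose the centralizer of every involution of G is solvable. Then the normalizer of S modulo the centralizer of S has order 7. -/
theorem result {G : Type*} [Group G] [Finite G]
    [IsSimpleGroup G] (hG : ¬ IsMulCommutative G) (S : Sylow 2 G)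
    (hS : Cfsg.IsElementaryAbelian 2 (S : Subgroup G)) (hS8 : Nat.card ↥(S : Subgroup G) = 8)
    (hC : ∀ t : G, orderOf t = 2 → Group.IsSolvable ↥(Subgroup.centralizer ({t} : Set G))) :
    (Subgroup.centralizer ((S : Subgroup G) : Set G)).relIndex (Subgroup.normalizer ((S : Subgroup G) : Set G)) = 7 := by
  classical
  haveI : Fact (Nat.Prime 2) := ⟨Nat.prime_two⟩
  haveI : IsMulCommutative (S : Subgroup G) := hS.1
  have hsq : ∀ s ∈ S, s * s = 1 := fun s hs => by rw [← sq]; exact hS.2 s hs
  set N : Subgroup G := Subgroup.normalizer ((S : Subgroup G) : Set G) with hN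
  set K : Subgroup G := Subgroup.centralizer ((S : Subgroup G) : Set G) with hK
  let X : Set G := ((S : Subgroup G) : Set G) \ {1}
  have h7 : X.ncard = 7 := by
    change (((S : Subgroup G) : Set G) \ {1}).ncard = 7
    rw [Set.ncard_sdiff_singleton_of_mem (one_mem (S : Subgroup G)), ← Nat.card_coe_set_eq,
      show Nat.card ↥((S : Subgroup G) : Set G) = 8 from hS8]
  have hd : K.relIndex N ∣ 7 := by
    rw [← h7]
    refine CfsgLib.Inv53.relIndex_dvd_ncard N K X (fun g hg s hs => ?_) (fun s hs g hg => ?_)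
    · exact ⟨(Subgroup.mem_normalizer_iff.1 hg s).1 hs.1, fun h => hs.2 (conj_eq_one_iff.1 h)⟩
    · rw [mul_inv_eq_iff_eq_mul, hK, Subgroup.mem_centralizer_iff]
      exact ⟨fun h t ht => (CfsgLib.Inv53.commute_of_fixes hG S hS8 hsq hC hg hs.1 hs.2 h t ht).eq.symm,
        fun h => (h s hs.1).symm⟩
  refine ((Nat.dvd_prime (by norm_num)).1 hd).resolve_left fun h1 => ?_
  obtain ⟨s, hs, hs1⟩ : ∃ s ∈ S, s ≠ 1 := by
    by_contra h
    push Not at h
    have : X = ∅ := Set.eq_empty_iff_forall_notMem.2 fun s hs => hs.2 (h s hs.1)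
    rw [this, Set.ncard_empty] at h7
    omega
  obtain ⟨n, hn, hne⟩ := CfsgLib.Inv53.exists_moves hG S hs hs1
  exact hne (mul_inv_eq_iff_eq_mul.2
    (Subgroup.mem_centralizer_iff.1 (Subgroup.relIndex_eq_one.1 h1 hn) s hs).symm)

end Cfsg.Agent.S3189
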