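import Cfsg.Statements.S3190
import Cfsg.Agent.Inv53.Basic

set_option autoImplicit false
open Cfsg

namespace Cfsg.Agent.S3190

/-- Let p be an odd prime and, inside a finite group, let P be a p-subgroup normalized by a Klein four-group T. Let R be a subgroup of P, normal in P and normalized by T, such that P is the product of R with the centralizer of T in P. If T centralizes the centre of P, then T centralizes the centre of R. -/
theorem result {X : Type*} [Group X] [Finite X]
    {p : ℕ} (hp : p.Prime) (hodd : Odd p) (P T R : Subgroup X) (hP : IsPGroup p ↥P) (hT : IsKleinFour ↥T)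
    (hTP : T ≤ Subgroup.normalizer (P : Set X)) (hRP : R ≤ P) (hRn : (R.subgroupOf P).Normal)
    (hTR : T ≤ Subgroup.normalizer (R : Set X)) (hfac : R ⊔ (P ⊓ Subgroup.centralizer (T : Set X)) = P)
    (hZ : T ≤ Subgroup.centralizer (((Subgroup.center ↥P).map P.subtype : Subgroup X) : Set X)) :
    T ≤ Subgroup.centralizer (((Subgroup.center ↥R).map R.subtype : Subgroup X) : Set X) := by
  haveI : Fact p.Prime := ⟨hp⟩
  intro t ht
  rw [Subgroup.mem_centralizer_iff]
  intro z hz
  have hz' := CfsgLib.Inv53.mem_center_map_iff.1 hz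
  by_contra hne
  have htinv : t⁻¹ = t := by
    haveI := hT
    have := IsKleinFour.mul_self (⟨t, ht⟩ : T)
    exact inv_eq_of_mul_eq_one_right (congrArg Subtype.val this)
  let ZR : Subgroup X := (Subgroup.center ↥R).map R.subtype
  have hZcomm : ∀ a ∈ ZR, ∀ b ∈ ZR, a * b = b * a := fun a ha b hb =>
    (CfsgLib.Inv53.mem_center_map_iff.1 hb).2 a (CfsgLib.Inv53.mem_center_map_iff.1 ha).1
  have hZinv : ∀ g : X, g ∈ Subgroup.normalizer (R : Set X) → ∀ a ∈ ZR, g * a * g⁻¹ ∈ ZR := by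
    intro g hg a ha
    obtain ⟨haR, hac⟩ := CfsgLib.Inv53.mem_center_map_iff.1 ha
    refine CfsgLib.Inv53.mem_center_map_iff.2 ⟨(Subgroup.mem_normalizer_iff.1 hg a).1 haR, fun s hs => ?_⟩
    have hs' : g⁻¹ * s * g ∈ R := (Subgroup.mem_normalizer_iff''.1 hg s).1 hs
    have := hac _ hs'
    calc s * (g * a * g⁻¹) = g * ((g⁻¹ * s * g) * a) * g⁻¹ := by group
      _ = g * (a * (g⁻¹ * s * g)) * g⁻¹ := by rw [this]
      _ = g * a * g⁻¹ * s := by group
  let M : Subgroup X :=
    { carrier := {a | a ∈ ZR ∧ t * a * t⁻¹ = a⁻¹}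
      one_mem' := ⟨one_mem _, by simp⟩
      mul_mem' := by
        rintro a b ⟨ha, hat⟩ ⟨hb, hbt⟩
        refine ⟨mul_mem ha hb, ?_⟩
        rw [show t * (a * b) * t⁻¹ = (t * a * t⁻¹) * (t * b * t⁻¹) by group, hat, hbt,
          hZcomm _ (inv_mem ha) _ (inv_mem hb), ← mul_inv_rev]
      inv_mem' := by
        rintro a ⟨ha, hat⟩
        refine ⟨inv_mem ha, ?_⟩
        rw [show t * a⁻¹ * t⁻¹ = (t * a * t⁻¹)⁻¹ by group, hat] }
  have hMZ : M ≤ ZR := fun a ha => ha.1
  have hMP : M ≤ P := fun a ha => hRP (CfsgLib.Inv53.mem_center_map_iff.1 ha.1).1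
  have hPN : P ≤ Subgroup.normalizer (M : Set X) := by
    rw [← hfac, sup_le_iff]
    constructor
    · intro r hr
      rw [Subgroup.mem_normalizer_iff]
      intro a
      constructor
      · intro ha
        rw [(CfsgLib.Inv53.mem_center_map_iff.1 ha.1).2 r hr, mul_inv_cancel_right]
        exact ha
      · intro ha
        have := (CfsgLib.Inv53.mem_center_map_iff.1 ha.1).2 r⁻¹ (inv_mem hr)
        rw [show r⁻¹ * (r * a * r⁻¹) = a * r⁻¹ by group] at this
        rw [mul_right_cancel this]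
        exact ha
    · intro c hc
      have hct : t * c = c * t := Subgroup.mem_centralizer_iff.1 hc.2 t ht
      have hcN : c ∈ Subgroup.normalizer (R : Set X) :=
        ((Subgroup.normal_subgroupOf_iff_le_normalizer hRP).1 hRn) hc.1
      have step : ∀ c : X, t * c = c * t → c ∈ Subgroup.normalizer (R : Set X) →
          ∀ a ∈ M, c * a * c⁻¹ ∈ M := by
        intro c hct hcN a ha
        refine ⟨hZinv c hcN a ha.1, ?_⟩
        have h2 : c⁻¹ * t⁻¹ = t⁻¹ * c⁻¹ := by rw [← mul_inv_rev, ← mul_inv_rev, hct]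
        calc t * (c * a * c⁻¹) * t⁻¹ = (t * c) * a * (c⁻¹ * t⁻¹) := by group
          _ = (c * t) * a * (t⁻¹ * c⁻¹) := by rw [hct, h2]
          _ = c * (t * a * t⁻¹) * c⁻¹ := by group
          _ = (c * a * c⁻¹)⁻¹ := by rw [ha.2]; group
      rw [Subgroup.mem_normalizer_iff]
      intro a
      refine ⟨step c hct hcN a, fun ha => ?_⟩
      have hct' : t * c⁻¹ = c⁻¹ * t := by
        rw [eq_inv_mul_iff_mul_eq, ← mul_assoc, ← hct, mul_inv_cancel_right]
      have := step c⁻¹ hct' (inv_mem hcN) _ ha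
      simpa [mul_assoc] using this
  have hMne : z * (t * z * t⁻¹)⁻¹ ∈ M := by
    have hzt := hZinv t (hTR ht) z hz
    refine ⟨mul_mem hz (inv_mem hzt), ?_⟩
    have h : t * (t * z * t⁻¹) * t⁻¹ = z := by
      nth_rewrite 1 [← htinv]
      nth_rewrite 3 [← htinv]
      group
    rw [show t * (z * (t * z * t⁻¹)⁻¹) * t⁻¹ = (t * z * t⁻¹) * (t * (t * z * t⁻¹) * t⁻¹)⁻¹ by group,
      h, mul_inv_rev, inv_inv]
  have hne1 : z * (t * z * t⁻¹)⁻¹ ≠ 1 := by
    intro h
    apply hne
    have h' := mul_inv_eq_one.1 h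
    calc z * t = (t * z * t⁻¹) * t := by rw [← h']
      _ = t * z := by group
  -- a nontrivial normal subgroup of `P` contains a nontrivial central element of `P`
  have hMn : (M.subgroupOf P).Normal := (Subgroup.normal_subgroupOf_iff_le_normalizer hMP).2 hPN
  obtain ⟨v, hvM, hvZ, hv1⟩ : ∃ v : P, v ∈ M.subgroupOf P ∧ v ∈ Subgroup.center P ∧ v ≠ 1 :=
    CfsgLib.Inv53.exists_central_of_normal hP (M.subgroupOf P) ⟨_, hMP hMne⟩
      (Subgroup.mem_subgroupOf.2 hMne) (fun h => hne1 (congrArg Subtype.val h))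
  obtain ⟨hvR, hvt⟩ := Subgroup.mem_subgroupOf.1 hvM
  have hfix : t * (v : X) = (v : X) * t :=
    (Subgroup.mem_centralizer_iff.1 (hZ ht) _ ⟨v, hvZ, rfl⟩).symm
  rw [hfix, mul_inv_cancel_right] at hvt
  have h2 : v ^ 2 = 1 := Subtype.ext (by
    rw [sq, Subgroup.coe_mul, Subgroup.coe_one]
    nth_rewrite 2 [hvt]
    exact mul_inv_cancel _)
  have hcop : Nat.Coprime (Nat.card P) 2 := by
    obtain ⟨n, hn⟩ := IsPGroup.iff_card.1 hP
    rw [hn]
    exact (Nat.coprime_two_right.2 (hodd.pow))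
  exact hv1 ((powCoprime hcop).injective (by simpa [powCoprime] using h2))

end Cfsg.Agent.S3190
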