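import Cfsg.Statements.S3192
import Cfsg.Agent.Inv53.RankThreeMain
import Cfsg.Agent.Inv53.RankThreePSL
import Cfsg.Agent.Linear.Perfect
-- import your own Cfsg.Agent.* helpers here

set_option autoImplicit false
open Cfsg

namespace Cfsg.Agent.S3192

/-- Simple groups of conjugate type rank three. For a finite group G consider the set of indices of the centralizers of the non-central elements of G. Then G is a non-abelian simple group for which this set has exactly three members if and only if G is isomorphic to PSL(2, 2^m) for some m ≥ 2. -/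
theorem result (G : Type*) [Group G] [Finite G] :
    (IsSimpleGroup G ∧ ¬ IsMulCommutative G ∧
        Set.ncard {m : ℕ | ∃ x : G, x ∉ Subgroup.center G ∧ m = (Subgroup.centralizer ({x} : Set G)).index} = 3) ↔
      ∃ (m : ℕ) (F : Type) (_ : Field F) (_ : Fintype F), 2 ≤ m ∧ Fintype.card F = 2 ^ m ∧
        Nonempty (G ≃* Matrix.ProjectiveSpecialLinearGroup (Fin 2) F) := by
  classical
  constructor
  · rintro ⟨hsimp, hG, h3⟩
    have hmem : ∀ x : G, x ∉ Subgroup.center G ↔ x ≠ 1 := fun x => by
      rw [CfsgLib.Inv53.RankThree.center_eq_bot hG, Subgroup.mem_bot]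
    obtain ⟨n₁, n₂, n₃, h12, h13, h23, hset⟩ := Set.ncard_eq_three.1 h3
    have hidx : ∀ x : G, x ≠ 1 → (Subgroup.centralizer ({x} : Set G)).index = n₁ ∨
        (Subgroup.centralizer ({x} : Set G)).index = n₂ ∨ (Subgroup.centralizer ({x} : Set G)).index = n₃ := by
      intro x hx
      have h : (Subgroup.centralizer ({x} : Set G)).index ∈ ({n₁, n₂, n₃} : Set ℕ) := hset ▸ ⟨x, (hmem x).2 hx, rfl⟩
      simpa using h
    have hwit : ∀ n ∈ ({n₁, n₂, n₃} : Set ℕ), ∃ x : G, x ≠ 1 ∧ (Subgroup.centralizer ({x} : Set G)).index = n := by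
      intro n hn
      rw [← hset] at hn
      obtain ⟨x, hx, hn⟩ := hn
      exact ⟨x, (hmem x).1 hx, hn.symm⟩
    obtain ⟨x₁, hx₁, e₁⟩ := hwit n₁ (by simp)
    obtain ⟨x₂, hx₂, e₂⟩ := hwit n₂ (by simp)
    obtain ⟨x₃, hx₃, e₃⟩ := hwit n₃ (by simp)
    have hinj : ∀ x y : G, Nat.card (Subgroup.centralizer ({x} : Set G)) = Nat.card (Subgroup.centralizer ({y} : Set G)) ↔
        (Subgroup.centralizer ({x} : Set G)).index = (Subgroup.centralizer ({y} : Set G)).index := by
      intro x y
      have hx := (Subgroup.centralizer ({x} : Set G)).card_mul_index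
      have hy := (Subgroup.centralizer ({y} : Set G)).card_mul_index
      constructor <;> intro h
      · rw [h, ← hy] at hx
        exact Nat.eq_of_mul_eq_mul_left Nat.card_pos hx
      · rw [h, ← hy] at hx
        exact Nat.eq_of_mul_eq_mul_right (Nat.pos_of_ne_zero Subgroup.index_ne_zero_of_finite) hx
    obtain ⟨F, iF, iFt, f, hf, hcard, he⟩ := CfsgLib.Inv53.RankThree.psl2_of_three hG
      (Nat.card (Subgroup.centralizer ({x₁} : Set G))) (Nat.card (Subgroup.centralizer ({x₂} : Set G)))
      (Nat.card (Subgroup.centralizer ({x₃} : Set G)))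
      (fun h => h12 (by rw [← e₁, ← e₂, (hinj _ _).1 h]))
      (fun h => h13 (by rw [← e₁, ← e₃, (hinj _ _).1 h]))
      (fun h => h23 (by rw [← e₂, ← e₃, (hinj _ _).1 h]))
      (fun w hw => by
        simp only [hinj, e₁, e₂, e₃]
        exact hidx w hw)
      (fun c hc => by
        rcases hc with rfl | rfl | rfl
        exacts [⟨x₁, hx₁, rfl⟩, ⟨x₂, hx₂, rfl⟩, ⟨x₃, hx₃, rfl⟩])
    exact ⟨f, F, iF, iFt, hf, hcard, he⟩
  · rintro ⟨m, F, iF, iFt, hm, hcard, ⟨e⟩⟩
    haveI : CharP F 2 := charP_of_card_eq_prime_pow hcard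
    have hq : 4 ≤ Fintype.card F := by
      rw [hcard]
      exact le_trans (by norm_num) (Nat.pow_le_pow_right (by norm_num : 0 < 2) hm)
    haveI : IsSimpleGroup (Matrix.ProjectiveSpecialLinearGroup (Fin 2) F) :=
      CfsgLib.Linear.isSimpleGroup_PSL_of 2 le_rfl (fun _ => hq)
    haveI hsimp : IsSimpleGroup G := e.isSimpleGroup
    let e' : G ≃* Matrix.SpecialLinearGroup (Fin 2) F := e.trans CfsgLib.CAGroups.sl2EquivPSL2.symm
    have hcent : ∀ x : G, Nat.card (Subgroup.centralizer ({x} : Set G)) =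
        Nat.card (Subgroup.centralizer ({e' x} : Set (Matrix.SpecialLinearGroup (Fin 2) F))) := by
      intro x
      refine Nat.card_congr (e'.toEquiv.subtypeEquiv fun g => ?_)
      show g ∈ Subgroup.centralizer ({x} : Set G) ↔ e' g ∈ Subgroup.centralizer ({e' x} : Set _)
      rw [Subgroup.mem_centralizer_singleton_iff, Subgroup.mem_centralizer_singleton_iff, ← map_mul, ← map_mul,
        e'.injective.eq_iff]
    have hex : ∀ c, (c = Fintype.card F ∨ c = Fintype.card F - 1 ∨ c = Fintype.card F + 1) →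
        ∃ x : G, x ≠ 1 ∧ Nat.card (Subgroup.centralizer ({x} : Set G)) = c := by
      intro c hc
      obtain ⟨M, hM, hMc⟩ := CfsgLib.Inv53.SL2Cent.cent_exists (F := F) (by omega) c hc
      exact ⟨e'.symm M, fun h => hM (by simpa using congrArg e' h), by rw [hcent, e'.apply_symm_apply]; exact hMc⟩
    have hnc : ¬ IsMulCommutative G := by
      intro hG
      obtain ⟨a, ha, hac⟩ := hex _ (Or.inl rfl)
      obtain ⟨b, hb, hbc⟩ := hex _ (Or.inr (Or.inr rfl))
      have htop : ∀ x : G, Subgroup.centralizer ({x} : Set G) = ⊤ := fun x => top_le_iff.1 fun g _ =>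
        Subgroup.mem_centralizer_singleton_iff.2 (hG.1.comm g x)
      rw [htop] at hac hbc
      omega
    refine ⟨hsimp, hnc, ?_⟩
    have hmem : ∀ x : G, x ∉ Subgroup.center G ↔ x ≠ 1 := fun x => by
      rw [CfsgLib.Inv53.RankThree.center_eq_bot hnc, Subgroup.mem_bot]
    have hidx : ∀ x : G, (Subgroup.centralizer ({x} : Set G)).index =
        Nat.card G / Nat.card (Subgroup.centralizer ({x} : Set G)) := fun x => by
      rw [← (Subgroup.centralizer ({x} : Set G)).card_mul_index, Nat.mul_div_cancel_left _ Nat.card_pos]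
    have hdvd : ∀ c, (c = Fintype.card F ∨ c = Fintype.card F - 1 ∨ c = Fintype.card F + 1) → c ∣ Nat.card G := by
      intro c hc
      obtain ⟨x, -, rfl⟩ := hex c hc
      exact Subgroup.card_subgroup_dvd_card _
    rw [Set.ncard_eq_three]
    refine ⟨Nat.card G / Fintype.card F, Nat.card G / (Fintype.card F - 1), Nat.card G / (Fintype.card F + 1), ?_, ?_, ?_, ?_⟩
    · intro h
      have := (Nat.div_eq_iff_eq_mul_left (by omega) (hdvd _ (Or.inl rfl))).1 h
      have h2 := Nat.div_mul_cancel (hdvd _ (Or.inr (Or.inl rfl)))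
      have h3 : Nat.card G / (Fintype.card F - 1) ≠ 0 := fun h0 => by
        rw [h0, zero_mul] at this; exact Nat.card_pos.ne' this
      have := Nat.eq_of_mul_eq_mul_left (Nat.pos_of_ne_zero h3) (this.symm.trans h2.symm)
      omega
    · intro h
      have := (Nat.div_eq_iff_eq_mul_left (by omega) (hdvd _ (Or.inl rfl))).1 h
      have h2 := Nat.div_mul_cancel (hdvd _ (Or.inr (Or.inr rfl)))
      have h3 : Nat.card G / (Fintype.card F + 1) ≠ 0 := fun h0 => by
        rw [h0, zero_mul] at this; exact Nat.card_pos.ne' this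
      have := Nat.eq_of_mul_eq_mul_left (Nat.pos_of_ne_zero h3) (this.symm.trans h2.symm)
      omega
    · intro h
      have := (Nat.div_eq_iff_eq_mul_left (by omega) (hdvd _ (Or.inr (Or.inl rfl)))).1 h
      have h2 := Nat.div_mul_cancel (hdvd _ (Or.inr (Or.inr rfl)))
      have h3 : Nat.card G / (Fintype.card F + 1) ≠ 0 := fun h0 => by
        rw [h0, zero_mul] at this; exact Nat.card_pos.ne' this
      have := Nat.eq_of_mul_eq_mul_left (Nat.pos_of_ne_zero h3) (this.symm.trans h2.symm)
      omega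
    ext n
    simp only [Set.mem_setOf_eq, Set.mem_insert_iff, Set.mem_singleton_iff]
    constructor
    · rintro ⟨x, hx, rfl⟩
      have hx1 := (hmem x).1 hx
      rw [hidx, hcent]
      rcases CfsgLib.Inv53.SL2Cent.cent_values (M := e' x) (fun h => hx1 (e'.injective (h.trans (map_one e').symm))) with h | h | h <;>
        rw [h] <;> tauto
    · rintro (rfl | rfl | rfl)
      · obtain ⟨x, hx, h⟩ := hex _ (Or.inl rfl)
        exact ⟨x, (hmem x).2 hx, by rw [hidx, h]⟩
      · obtain ⟨x, hx, h⟩ := hex _ (Or.inr (Or.inl rfl))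
        exact ⟨x, (hmem x).2 hx, by rw [hidx, h]⟩
      · obtain ⟨x, hx, h⟩ := hex _ (Or.inr (Or.inr rfl))
        exact ⟨x, (hmem x).2 hx, by rw [hidx, h]⟩

end Cfsg.Agent.S3192
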