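import Cfsg.Statements.S3195
import Cfsg.Agent.Inv53.Basic
import Cfsg.Agent.Small.BaerSuzuki

set_option autoImplicit false
open Cfsg

namespace Cfsg.Agent.S3195

/-- Let A be a Klein four-subgroup of a finite group G. If every G-conjugate of every involution of A commutes with some involution of A (its centralizer meets A nontrivially), then A meets the largest normal 2-subgroup O₂(G) nontrivially. -/
theorem result {G : Type*} [Group G] [Finite G]
    (A : Subgroup G) (hA : IsKleinFour ↥A)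
    (h : ∀ a ∈ A, a ≠ 1 → ∀ g : G, A ⊓ Subgroup.centralizer ({g * a * g⁻¹} : Set G) ≠ ⊥) :
    A ⊓ Cfsg.pCore 2 G ≠ ⊥ := by
  haveI : Fact (Nat.Prime 2) := ⟨Nat.prime_two⟩
  haveI := hA
  by_contra hbot
  have hsq : ∀ x ∈ A, x * x = 1 := fun x hx => congrArg Subtype.val (IsKleinFour.mul_self (⟨x, hx⟩ : A))
  have hcomm : ∀ x ∈ A, ∀ y ∈ A, x * y = y * x := fun x hx y hy => by
    have := hsq _ (mul_mem hx hy)
    have h1 : (x * y)⁻¹ = x * y := inv_eq_of_mul_eq_one_right this
    rw [← h1, mul_inv_rev, inv_eq_of_mul_eq_one_right (hsq x hx), inv_eq_of_mul_eq_one_right (hsq y hy)]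
  have hthree : ∀ x ∈ A, ∀ y ∈ A, x ≠ 1 → y ≠ 1 → x ≠ y → ∀ e ∈ A, e ≠ 1 →
      e = x ∨ e = y ∨ e = x * y := by
    intro x hx y hy hx1 hy1 hxy e he he1
    by_contra hne
    push Not at hne
    classical
    have h4 : Nat.card A = 4 := IsKleinFour.card_four
    haveI := Fintype.ofFinite A
    rw [Nat.card_eq_fintype_card] at h4
    have hxy1 : x * y ≠ 1 := fun h => hxy (by
      rw [← inv_eq_of_mul_eq_one_right h, inv_eq_of_mul_eq_one_right (hsq x hx)])
    let S5 : Finset G := {1, x, y, x * y, e}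
    have hS5 : S5.card = 5 := by
      simp [S5, Ne.symm hx1, Ne.symm hy1, hxy, Ne.symm hxy1, Ne.symm he1, Ne.symm hne.1,
        Ne.symm hne.2.1, Ne.symm hne.2.2, hx1, hy1]
    have hsub : S5 ⊆ (Finset.univ : Finset A).image Subtype.val := by
      intro z hz
      simp only [S5, Finset.mem_insert, Finset.mem_singleton] at hz
      simp only [Finset.mem_image, Finset.mem_univ, true_and, Subtype.exists, exists_prop,
        exists_eq_right]
      rcases hz with rfl | rfl | rfl | rfl | rfl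
      exacts [one_mem _, hx, hy, mul_mem hx hy, he]
    have := (Finset.card_le_card hsub).trans Finset.card_image_le
    rw [hS5, Finset.card_univ, h4] at this
    omega
  -- for each involution `a` of `A`, an element of odd order inverted by `a`
  have key : ∀ a ∈ A, a ≠ 1 → ∃ u : G, u ≠ 1 ∧ Odd (orderOf u) ∧ a * u * a⁻¹ = u⁻¹ ∧
      ∃ b ∈ A, b ≠ 1 ∧ b ≠ a ∧ Commute b u := by
    intro a ha ha1
    have hao : orderOf a = 2 := CfsgLib.Small.orderOf_eq_two_iff_sq.2 ⟨ha1, hsq a ha⟩
    obtain ⟨g, hg⟩ : ∃ g : G, ¬ IsPGroup 2 ↥(Subgroup.closure ({a, g * a * g⁻¹} : Set G)) := by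
      by_contra hall
      push Not at hall
      obtain ⟨N, hN, hNp, haN⟩ := CfsgLib.Small.baerSuzuki_elem a hall
      have hmem : a ∈ A ⊓ Cfsg.pCore 2 G := ⟨ha, (le_sSup (show N ∈ {N : Subgroup G | N.Normal ∧ IsPGroup 2 N} from ⟨hN, hNp⟩) : _ ≤ Cfsg.pCore 2 G) haN⟩
      rw [hbot] at hmem
      exact ha1 (Subgroup.mem_bot.1 hmem)
    set x := g * a * g⁻¹ with hx
    have hxo : orderOf x = 2 := by rw [hx, CfsgLib.Small.orderOf_conj_eq, hao]
    have hne : a ≠ x := by
      intro h'
      apply hg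
      rw [← h', Set.pair_eq_singleton, ← Subgroup.zpowers_eq_closure]
      exact IsPGroup.of_card (n := 1) (by rw [Nat.card_zpowers, hao, pow_one])
    have hcard := CfsgLib.Small.card_closure_pair_invol hao hxo hne
    set n := orderOf (a * x) with hn
    have hn0 : n ≠ 0 := (isOfFinOrder_of_finite (a * x)).orderOf_pos.ne'
    obtain ⟨k, m, hm, hnm⟩ := Nat.exists_eq_two_pow_mul_odd hn0
    have hm1 : m ≠ 1 := by
      intro h'
      apply hg
      exact IsPGroup.of_card (n := k + 1) (by rw [hcard, hnm, h', mul_one, pow_succ'])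
    set u := (a * x) ^ (2 ^ k) with hu
    have huo : orderOf u = m := by
      rw [hu, orderOf_pow' _ (by positivity), ← hn, hnm, Nat.gcd_mul_right_left, Nat.mul_div_cancel_left _ (by positivity)]
    have hu1 : u ≠ 1 := fun h' => hm1 (by rw [← huo, h', orderOf_one])
    have hinv : a * u * a⁻¹ = u⁻¹ :=
      CfsgLib.Small.invol_conj_pow (CfsgLib.Small.invol_conj_mul hao hxo) _
    refine ⟨u, hu1, huo ▸ hm, hinv, ?_⟩
    obtain ⟨b, hb, hb1⟩ := (Subgroup.bot_or_exists_ne_one _).resolve_left (h a ha ha1 u)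
    obtain ⟨hbA, hbC⟩ := hb
    have hbc : (u * a * u⁻¹) * b = b * (u * a * u⁻¹) := Subgroup.mem_centralizer_iff.1 hbC _ rfl
    have huu : u * a * u⁻¹ = u ^ 2 * a := by
      calc u * a * u⁻¹ = u * a * (a * u * a⁻¹) := by rw [hinv]
        _ = u * (a * a) * u * a⁻¹ := by group
        _ = u ^ 2 * a := by rw [hsq a ha, inv_eq_of_mul_eq_one_right (hsq a ha), mul_one, sq]
    rw [huu] at hbc
    have hb2 : Commute b (u ^ 2) := by
      have h1 : Commute b (u ^ 2 * a) := hbc.symm
      have h2 := h1.mul_right (hcomm b hbA a ha : Commute b a)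
      rwa [mul_assoc, hsq a ha, mul_one] at h2
    have hbu : Commute b u := by
      obtain ⟨r, hr⟩ := exists_pow_eq_self_of_coprime (x := u) (n := 2)
        (Nat.coprime_two_left.2 (huo ▸ hm))
      rw [← hr]
      exact hb2.pow_right r
    refine ⟨b, hbA, hb1, ?_, hbu⟩
    rintro rfl
    rw [hbu.eq, mul_inv_cancel_right] at hinv
    have h2 : u ^ 2 = 1 := by
      rw [sq]
      calc u * u = u * u⁻¹ := by rw [← hinv]
        _ = 1 := mul_inv_cancel u
    have h3 := orderOf_dvd_of_pow_eq_one h2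
    rw [huo] at h3
    rcases (Nat.dvd_prime Nat.prime_two).1 h3 with h4 | h4
    · exact hm1 h4
    · rw [h4] at hm; exact absurd hm (by decide)
  have sqinj : ∀ w : G, Odd (orderOf w) → w ^ 2 = 1 → w = 1 := by
    intro w hw h2
    have h3 := orderOf_dvd_of_pow_eq_one h2
    rcases (Nat.dvd_prime Nat.prime_two).1 h3 with h4 | h4
    · exact orderOf_eq_one_iff.1 h4
    · rw [h4] at hw; exact absurd hw (by decide)
  have root : ∀ w v : G, Odd (orderOf w) → Commute v (w ^ 2) → Commute v w := by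
    intro w v hw hv
    obtain ⟨r, hr⟩ := exists_pow_eq_self_of_coprime (x := w) (n := 2) (Nat.coprime_two_left.2 hw)
    rw [← hr]; exact hv.pow_right r
  -- conjugation by an inverted element
  have conjinv : ∀ e w : G, e * e = 1 → e * w * e⁻¹ = w⁻¹ → w * e * w⁻¹ = w ^ 2 * e := by
    intro e w he hw
    calc w * e * w⁻¹ = w * e * (e * w * e⁻¹) := by rw [hw]
      _ = w * (e * e) * w * e⁻¹ := by group
      _ = w ^ 2 * e := by rw [he, inv_eq_of_mul_eq_one_right he, mul_one, sq]
  obtain ⟨a, haA, ha1⟩ := (Subgroup.bot_or_exists_ne_one A).resolve_left (fun h' => by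
    have h4 : Nat.card A = 4 := IsKleinFour.card_four
    rw [h', Subgroup.card_bot] at h4
    omega)
  obtain ⟨p, hp1, hpo, hpa, b, hbA, hb1, hba, hbp⟩ := key a haA ha1
  obtain ⟨q, hq1, hqo, hqb, d, hdA, hd1, hdb, hdq⟩ := key b hbA hb1
  -- the third involution inverts as a product
  have inverts_mul : ∀ x y w : G, x * w * x⁻¹ = w⁻¹ → Commute y w → (x * y) * w * (x * y)⁻¹ = w⁻¹ := by
    intro x y w hx hy
    calc (x * y) * w * (x * y)⁻¹ = x * (y * w * y⁻¹) * x⁻¹ := by group
      _ = x * w * x⁻¹ := by rw [hy.eq, mul_inv_cancel_right]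
      _ = w⁻¹ := hx
  have hd_p : d * p * d⁻¹ = p⁻¹ := by
    rcases hthree a haA b hbA ha1 hb1 (Ne.symm hba) d hdA hd1 with h' | h' | h'
    · rw [h']; exact hpa
    · exact absurd h' hdb
    · rw [h']; exact inverts_mul a b p hpa hbp
  have hdb_q : (b * d) * q * (b * d)⁻¹ = q⁻¹ := inverts_mul b d q hqb hdq
  -- `a` twisted by powers of `p` centralises `q`
  have hstep : ∀ i : ℕ, p ^ i ≠ 1 → Commute (p ^ i * a * (p ^ i)⁻¹) q := by
    intro i hi
    set w := p ^ i with hw
    have hwo : Odd (orderOf w) := hpo.of_dvd_nat (orderOf_pow_dvd i)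
    have hinvpow : ∀ e : G, e * p * e⁻¹ = p⁻¹ → e * w * e⁻¹ = w⁻¹ := fun e he => by
      rw [hw, ← conj_pow, he, inv_pow]
    set s := w * a * w⁻¹ with hs
    have hsd : ¬ Commute s d := by
      intro hsd
      have h1 : s = w ^ 2 * a := conjinv a w (hsq a haA) (hinvpow a hpa)
      rw [h1] at hsd
      have h2 := hsd.mul_left (hcomm a haA d hdA : Commute a d)
      rw [mul_assoc, hsq a haA, mul_one] at h2
      have h3 := root w d hwo h2.symm
      have h4 := hinvpow d hd_p
      rw [h3.eq, mul_inv_cancel_right] at h4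
      exact hi (sqinj w hwo (by
        rw [sq]; calc w * w = w * w⁻¹ := by rw [← h4]
          _ = 1 := mul_inv_cancel w))
    have step : ∀ j : ℕ, ∃ e, (e = b ∨ e = b * d) ∧ Commute s ((q ^ j) ^ 2 * e) := by
      intro j
      set v := q ^ j with hv
      obtain ⟨e, he, he1⟩ := (Subgroup.bot_or_exists_ne_one _).resolve_left
        (h a haA ha1 (v⁻¹ * w))
      obtain ⟨heA, heC⟩ := he
      have hec : Commute (v⁻¹ * w * a * (v⁻¹ * w)⁻¹) e := Subgroup.mem_centralizer_iff.1 heC _ rfl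
      have hse : Commute s (v * e * v⁻¹) := by
        have h1 := (Commute.conj_iff v).2 hec
        rwa [show v * (v⁻¹ * w * a * (v⁻¹ * w)⁻¹) * v⁻¹ = s by rw [hs]; group] at h1
      have hvd : Commute d v := hdq.pow_right j
      have hqe : ∀ e : G, e * e = 1 → e * q * e⁻¹ = q⁻¹ → v * e * v⁻¹ = v ^ 2 * e := fun e he2 he => by
        apply conjinv e v he2
        rw [hv, ← conj_pow, he, inv_pow]
      rcases hthree b hbA d hdA hb1 hd1 (Ne.symm hdb) e heA he1 with rfl | rfl | rfl
      · exact ⟨_, Or.inl rfl, by rwa [hqe _ (hsq _ heA) hqb] at hse⟩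
      · exact absurd (by rwa [← hvd.eq, mul_inv_cancel_right] at hse) hsd
      · exact ⟨_, Or.inr rfl, by rwa [hqe _ (hsq _ heA) hdb_q] at hse⟩
    obtain ⟨e1, he1, hc1⟩ := step 1
    obtain ⟨e2, he2, hc2⟩ := step 2
    rw [pow_one] at hc1
    by_cases heq : e1 = e2
    · subst heq
      have he : e1 * e1 = 1 := by
        rcases he1 with rfl | rfl
        · exact hsq _ hbA
        · exact hsq _ (mul_mem hbA hdA)
      have h1 := hc2.mul_right hc1.inv_right
      have h2 : (q ^ 2) ^ 2 * e1 * (q ^ 2 * e1)⁻¹ = q ^ 2 := by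
        rw [mul_inv_rev, mul_assoc, mul_inv_cancel_left]
        group
      rw [h2] at h1
      exact root q s hqo h1
    · exfalso
      apply hsd
      have hprod : ∃ t : G, Commute d t ∧ Odd (orderOf t) ∧ Commute s (t * d) := by
        have hbd : b * d = d * b := hcomm b hbA d hdA
        have key2 : ∀ v₁ v₂ : G, Commute d v₁ → b * v₂ * b⁻¹ = v₂⁻¹ → Commute d v₂ →
            (v₁ * b) * (v₂ * (b * d)) = (v₁ * v₂⁻¹) * d := by
          intro v₁ v₂ _ hv₂ _
          rw [← hv₂, inv_eq_of_mul_eq_one_right (hsq b hbA)]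
          group
        have hb4 : b * (q ^ 2) ^ 2 * b⁻¹ = ((q ^ 2) ^ 2)⁻¹ := by
          rw [← pow_mul, ← conj_pow, hqb, inv_pow]
        have hb2' : b * q ^ 2 * b⁻¹ = (q ^ 2)⁻¹ := by rw [← conj_pow, hqb, inv_pow]
        rcases he1 with rfl | rfl <;> rcases he2 with rfl | rfl
        · exact absurd rfl heq
        · refine ⟨q ^ 2 * ((q ^ 2) ^ 2)⁻¹,
            (hdq.pow_right 2).mul_right ((hdq.pow_right 2).pow_right 2).inv_right, ?_, ?_⟩
          · apply hqo.of_dvd_nat
            apply orderOf_dvd_of_pow_eq_one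
            rw [← pow_mul, ← inv_pow, Commute.mul_pow ((Commute.refl q).pow_left 2 |>.inv_right.pow_right _)]
            rw [← pow_mul, mul_comm 2, pow_mul, pow_orderOf_eq_one, one_pow, one_mul, ← pow_mul,
              mul_comm (2 * 2), pow_mul, inv_pow, pow_orderOf_eq_one, inv_one, one_pow]
          · rw [← key2 _ _ (hdq.pow_right 2) hb4 ((hdq.pow_right 2).pow_right 2)]
            exact hc1.mul_right hc2
        · refine ⟨(q ^ 2) ^ 2 * (q ^ 2)⁻¹,
            ((hdq.pow_right 2).pow_right 2).mul_right (hdq.pow_right 2).inv_right, ?_, ?_⟩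
          · have h2 : (q ^ 2) ^ 2 * (q ^ 2)⁻¹ = q ^ 2 := by group
            rw [h2]
            exact hqo.of_dvd_nat (orderOf_pow_dvd 2)
          · rw [← key2 _ _ ((hdq.pow_right 2).pow_right 2) hb2' (hdq.pow_right 2)]
            exact hc2.mul_right hc1
        · exact absurd rfl heq
      obtain ⟨t, hdt, hto, hst⟩ := hprod
      have h1 := hst.pow_right (orderOf t)
      rw [hdt.symm.mul_pow, pow_orderOf_eq_one, one_mul] at h1
      obtain ⟨r, hr⟩ := hto
      rwa [hr, pow_succ, pow_mul, sq, hsq d hdA, one_pow, one_mul] at h1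
  have hp2 : p ^ 2 ≠ 1 := fun h' => hp1 (sqinj p hpo h')
  have hs1 := hstep 1 (by rwa [pow_one])
  have hs2 := hstep 2 hp2
  have hpinv2 : a * p ^ 2 * a⁻¹ = (p ^ 2)⁻¹ := by rw [← conj_pow, hpa, inv_pow]
  rw [pow_one, conjinv a p (hsq a haA) hpa] at hs1
  rw [conjinv a (p ^ 2) (hsq a haA) hpinv2] at hs2
  have hpq : Commute p q := by
    have h1 := hs2.mul_left hs1.inv_left
    have h2 : (p ^ 2) ^ 2 * a * (p ^ 2 * a)⁻¹ = p ^ 2 := by
      rw [mul_inv_rev, mul_assoc, mul_inv_cancel_left]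
      group
    rw [h2] at h1
    exact (root p q hpo h1.symm).symm
  have haq : Commute a q := by
    have h1 := (hpq.pow_left 2).inv_left.mul_left hs1
    rwa [inv_mul_cancel_left] at h1
  -- now `d = a`; a conjugate of `a * b` commutes with no involution of `A`
  set c := a * b with hc
  have hcA : c ∈ A := mul_mem haA hbA
  have hc1 : c ≠ 1 := by
    intro h'
    exact hba (by rw [← inv_eq_of_mul_eq_one_right h', inv_eq_of_mul_eq_one_right (hsq a haA)])
  set g := p * q with hg
  have hgo : Odd (orderOf g) := (hpo.mul hqo).of_dvd_nat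
    (hpq.orderOf_mul_dvd_mul_orderOf)
  have hcq : c * q * c⁻¹ = q⁻¹ := by
    rw [hc, hcomm a haA b hbA]; exact inverts_mul b a q hqb haq
  have hcp : c * p * c⁻¹ = p⁻¹ := inverts_mul a b p hpa hbp
  have hcg : c * g * c⁻¹ = g⁻¹ := by
    rw [hg, conj_mul.symm, hcp, hcq, hpq.eq, mul_inv_rev]
  obtain ⟨e, he, he1⟩ := (Subgroup.bot_or_exists_ne_one _).resolve_left (h c hcA hc1 g)
  obtain ⟨heA, heC⟩ := he
  have hec : Commute (g * c * g⁻¹) e := Subgroup.mem_centralizer_iff.1 heC _ rfl
  rw [conjinv c g (hsq c hcA) hcg] at hec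
  have h2 := hec.mul_left (hcomm c hcA e heA : Commute c e)
  rw [mul_assoc, hsq c hcA, mul_one] at h2
  have heg : Commute e g := root g e hgo h2.symm
  have inv_comm : ∀ e w : G, Odd (orderOf w) → e * w * e⁻¹ = w⁻¹ → Commute e w → w = 1 := by
    intro e w hwo hw hcw
    rw [hcw.eq, mul_inv_cancel_right] at hw
    exact sqinj w hwo (by
      rw [sq]; calc w * w = w * w⁻¹ := by rw [← hw]
        _ = 1 := mul_inv_cancel w)
  rcases hthree a haA b hbA ha1 hb1 (Ne.symm hba) e heA he1 with rfl | rfl | rfl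
  · have h3 := heg.mul_right haq.inv_right
    rw [hg, mul_inv_cancel_right] at h3
    exact hp1 (inv_comm _ _ hpo hpa h3)
  · have h3 := hbp.inv_right.mul_right heg
    rw [hg, inv_mul_cancel_left] at h3
    exact hq1 (inv_comm _ _ hqo hqb h3)
  · have h3 := inv_comm _ _ hgo hcg heg
    rw [hg, mul_eq_one_iff_eq_inv] at h3
    refine hp1 (inv_comm _ _ hpo hpa ?_)
    rw [h3]
    exact haq.inv_right

end Cfsg.Agent.S3195
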