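import Cfsg.Statements.S3196
import Cfsg.Agent.Inv53.Basic
import Cfsg.Agent.Small.BaerSuzuki

set_option autoImplicit false
open Cfsg

namespace Cfsg.Agent.S3196

/-- Let p be a prime and K a set of subgroups of order p of a finite group G, closed under conjugation, such that at least two distinct members of K commute elementwise, and whenever two distinct members X, Y of K commute: every subgroup of order p of the group XY they generate belongs to K, and every member W of K has centralizer meeting XY nontrivially. Then some member V of K commutes elementwise with every member of K and lies in O_p(G); in particular G is not simple. -/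
theorem result {G : Type*} [Group G] [Finite G]
    {p : ℕ} (hp : p.Prime) (K : Set (Subgroup G)) (hK : ∀ X ∈ K, Nat.card ↥X = p)
    (hKc : ∀ X ∈ K, ∀ g : G, X.map (MulAut.conj g).toMonoidHom ∈ K)
    (hex : ∃ X ∈ K, ∃ Y ∈ K, X ≠ Y ∧ ∀ x ∈ X, ∀ y ∈ Y, x * y = y * x)
    (ha : ∀ X ∈ K, ∀ Y ∈ K, X ≠ Y → (∀ x ∈ X, ∀ y ∈ Y, x * y = y * x) →
      ∀ Z : Subgroup G, Z ≤ X ⊔ Y → Nat.card ↥Z = p → Z ∈ K)
    (hb : ∀ X ∈ K, ∀ Y ∈ K, X ≠ Y → (∀ x ∈ X, ∀ y ∈ Y, x * y = y * x) →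
      ∀ W ∈ K, (X ⊔ Y) ⊓ Subgroup.centralizer (W : Set G) ≠ ⊥) :
    (∃ V ∈ K, (∀ W ∈ K, ∀ v ∈ V, ∀ w ∈ W, v * w = w * v) ∧ V ≤ Cfsg.pCore p G) ∧ ¬ IsSimpleGroup G := by
  haveI : Fact p.Prime := ⟨hp⟩
  -- `Adj` is elementwise commutation
  let Adj : Subgroup G → Subgroup G → Prop := fun X Y => ∀ x ∈ X, ∀ y ∈ Y, x * y = y * x
  have adj_symm : ∀ X Y, Adj X Y → Adj Y X := fun X Y h y hy x hx => (h x hx y hy).symm
  have adj_iff : ∀ W X : Subgroup G, Adj W X ↔ X ≤ Subgroup.centralizer (W : Set G) := fun W X =>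
    ⟨fun h x hx => Subgroup.mem_centralizer_iff.2 fun w hw => h w hw x hx,
      fun h w hw x hx => Subgroup.mem_centralizer_iff.1 (h hx) w hw⟩
  have adj_sup : ∀ W X Y Z : Subgroup G, Adj W X → Adj W Y → Z ≤ X ⊔ Y → Adj W Z := by
    intro W X Y Z h1 h2 hZ
    rw [adj_iff] at *
    exact hZ.trans (sup_le h1 h2)
  have adj_refl : ∀ X ∈ K, Adj X X := by
    intro X hX x hx y hy
    haveI : IsCyclic X := isCyclic_of_prime_card (hK X hX)
    exact congrArg Subtype.val (IsMulCommutative.is_comm.comm (⟨x, hx⟩ : X) ⟨y, hy⟩)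
  have gen : ∀ X ∈ K, ∀ x ∈ X, x ≠ 1 → Subgroup.zpowers x = X := by
    intro X hX x hx hx1
    refine Subgroup.eq_of_le_of_card_ge (Subgroup.zpowers_le.2 hx) ?_
    have h1 : orderOf x ∣ p := hK X hX ▸ X.orderOf_dvd_natCard hx
    rw [Nat.card_zpowers, hK X hX]
    rcases (Nat.dvd_prime hp).1 h1 with h | h
    · exact absurd (orderOf_eq_one_iff.1 h) hx1
    · exact h.ge
  have nontriv : ∀ X ∈ K, ∃ x ∈ X, x ≠ (1 : G) := fun X hX =>
    (Subgroup.bot_or_exists_ne_one X).resolve_left fun h => by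
      have := hK X hX
      rw [h, Subgroup.card_bot] at this
      exact hp.one_lt.ne this
  -- facts about a line
  have sup_mem : ∀ X Y : Subgroup G, Adj X Y → ∀ z ∈ X ⊔ Y, ∃ x ∈ X, ∃ y ∈ Y, x * y = z := by
    intro X Y hXY z hz
    have : (X ⊔ Y : Subgroup G) = X ⊔ Y := rfl
    rw [← SetLike.mem_coe, Subgroup.coe_mul_of_left_le_normalizer_right] at hz
    · exact hz
    · exact ((adj_iff Y X).1 (adj_symm _ _ hXY)).trans (Subgroup.centralizer_le_normalizer _)
  have line_pow : ∀ X ∈ K, ∀ Y ∈ K, Adj X Y → ∀ z ∈ X ⊔ Y, z ^ p = 1 := by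
    intro X hX Y hY hXY z hz
    obtain ⟨x, hx, y, hy, rfl⟩ := sup_mem X Y hXY z hz
    rw [show (x * y) ^ p = x ^ p * y ^ p from Commute.mul_pow (hXY x hx y hy) p]
    have e : ∀ X ∈ K, ∀ x ∈ X, x ^ p = 1 := fun X hX x hx =>
      orderOf_dvd_iff_pow_eq_one.1 (hK X hX ▸ X.orderOf_dvd_natCard hx)
    rw [e X hX x hx, e Y hY y hy, one_mul]
  have line_pg : ∀ X ∈ K, ∀ Y ∈ K, Adj X Y → IsPGroup p ↥(X ⊔ Y) := fun X hX Y hY h z =>
    ⟨1, Subtype.ext (by simpa using line_pow X hX Y hY h z z.2)⟩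
  have line_eq : ∀ X ∈ K, ∀ Y ∈ K, Adj X Y → ∀ Z W : Subgroup G, Z ∈ K → W ∈ K → Z ≠ W →
      Z ≤ X ⊔ Y → W ≤ X ⊔ Y → Z ⊔ W = X ⊔ Y := by
    intro X hX Y hY hXY Z W hZ hW hne hZle hWle
    refine Subgroup.eq_of_le_of_card_ge (sup_le hZle hWle) ?_
    have hle : Nat.card ↥(X ⊔ Y) ≤ p ^ 2 := by
      rw [sq]
      calc Nat.card ↥(X ⊔ Y) ≤ Nat.card (X × Y) := by
            refine Nat.card_le_card_of_surjective
              (fun q => (⟨q.1 * q.2, mul_mem (le_sup_left (b := Y) q.1.2) (le_sup_right (a := X) q.2.2)⟩ : ↥(X ⊔ Y))) ?_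
            rintro ⟨z, hz⟩
            obtain ⟨x, hx, y, hy, rfl⟩ := sup_mem X Y hXY z hz
            exact ⟨(⟨x, hx⟩, ⟨y, hy⟩), rfl⟩
        _ = p * p := by rw [Nat.card_prod, hK X hX, hK Y hY]
    obtain ⟨k, hk⟩ := IsPGroup.iff_card.1 ((line_pg X hX Y hY hXY).to_le (sup_le hZle hWle))
    rw [hk]
    refine hle.trans (Nat.pow_le_pow_right hp.pos ?_)
    by_contra hk2
    have h1 : Nat.card ↥(Z ⊔ W) ≤ p := by
      rw [hk]
      calc p ^ k ≤ p ^ 1 := Nat.pow_le_pow_right hp.pos (by omega)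
        _ = p := pow_one p
    have h2 : Z = Z ⊔ W := Subgroup.eq_of_le_of_card_ge le_sup_left (by rw [hK Z hZ]; exact h1)
    have h3 : W ≤ Z := h2 ▸ le_sup_right
    exact hne (Subgroup.eq_of_le_of_card_ge h3 (by rw [hK Z hZ, hK W hW])).symm
  have meet : ∀ X ∈ K, ∀ Y ∈ K, X ≠ Y → Adj X Y → ∀ W ∈ K,
      ∃ Z ∈ K, Z ≤ X ⊔ Y ∧ Adj W Z := by
    intro X hX Y hY hne hXY W hW
    obtain ⟨e, he, he1⟩ := (Subgroup.bot_or_exists_ne_one _).resolve_left (hb X hX Y hY hne hXY W hW)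
    obtain ⟨heL, heC⟩ := he
    have hle : Subgroup.zpowers e ≤ X ⊔ Y := Subgroup.zpowers_le.2 heL
    refine ⟨_, ha X hX Y hY hne hXY _ hle ?_, hle, (adj_iff _ _).2 (Subgroup.zpowers_le.2 heC)⟩
    rw [Nat.card_zpowers]
    exact orderOf_eq_prime (line_pow X hX Y hY hXY e heL) he1
  have conj_adj : ∀ (W A X : Subgroup G) (g : G), g ∈ W → Adj W A → Adj A X →
      Adj A (X.map (MulAut.conj g).toMonoidHom) := by
    rintro W A X g hg hWA hAX a ha' _ ⟨x, hx, rfl⟩
    show a * (g * x * g⁻¹) = g * x * g⁻¹ * a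
    have h1 : Commute a g := (hWA g hg a ha').symm
    exact (h1.mul_right (hAX a ha' x hx)).mul_right h1.inv_right
  -- main claim
  obtain ⟨V, hV, hrad⟩ : ∃ V ∈ K, ∀ W ∈ K, Adj V W := by
    by_contra hno
    push Not at hno
    have L1 : ∀ X ∈ K, ∀ C ∈ K, X ≠ C → (∀ T ∈ K, Adj T X → Adj T C) → False := by
      intro X hX C hC hne hsub
      have hXC : Adj X C := hsub X hX (adj_refl X hX)
      obtain ⟨U, hU, hUC⟩ := hno C hC
      have hUC' : ¬ Adj U C := fun h => hUC (adj_symm _ _ h)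
      have hUX : ¬ Adj U X := fun h => hUC' (hsub U hU h)
      obtain ⟨V₁, hV₁, hV₁le, hUV₁⟩ := meet X hX C hC hne hXC U hU
      have sub1 : ∀ T ∈ K, Adj T X → Adj T V₁ := fun T hT h =>
        adj_sup T X C V₁ h (hsub T hT h) hV₁le
      have claimA : ∀ U ∈ K, Adj U V₁ → ¬ Adj U X → ∀ T ∈ K, Adj T U → Adj T V₁ := by
        intro U hU hUV hUX T hT hTU
        by_cases hTe : U = T
        · exact hTe ▸ hUV
        obtain ⟨Z, hZ, hZle, hXZ⟩ := meet U hU T hT hTe (adj_symm _ _ hTU) X hX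
        have hZU : Z ≠ U := by rintro rfl; exact hUX (adj_symm _ _ hXZ)
        have hline := line_eq U hU T hT (adj_symm _ _ hTU) Z U hZ hU hZU hZle le_sup_left
        have hTle : T ≤ Z ⊔ U := hline ▸ le_sup_right
        exact adj_symm _ _ (adj_sup V₁ Z U T (adj_symm _ _ (sub1 Z hZ (adj_symm _ _ hXZ)))
          (adj_symm _ _ hUV) hTle)
      obtain ⟨P, hP, hPV⟩ := hno V₁ hV₁
      apply hPV
      have hXV : Adj X V₁ := sub1 X hX (adj_refl X hX)
      have hUne : U ≠ V₁ := by rintro rfl; exact hUX (adj_symm _ _ hXV)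
      obtain ⟨Z, hZ, hZle, hPZ⟩ := meet U hU V₁ hV₁ hUne hUV₁ P hP
      suffices h : Adj P V₁ from adj_symm _ _ h
      by_cases hZX : Adj Z X
      · by_cases hZV : Z = V₁
        · exact hZV ▸ hPZ
        · exfalso
          apply hUX
          have hline := line_eq U hU V₁ hV₁ hUV₁ Z V₁ hZ hV₁ hZV hZle le_sup_right
          have hUle : U ≤ Z ⊔ V₁ := hline ▸ le_sup_left
          exact adj_symm _ _ (adj_sup X Z V₁ U (adj_symm _ _ hZX) hXV hUle)
      · exact claimA Z hZ (adj_symm _ _ (adj_sup V₁ U V₁ Z (adj_symm _ _ hUV₁) (adj_refl _ hV₁) hZle))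
          hZX P hP hPZ
    obtain ⟨W, hW, Y, hY, hWY, hcomm⟩ := hex
    obtain ⟨w, hw, hw1⟩ := nontriv W hW
    obtain ⟨y, hy, hy1⟩ := nontriv Y hY
    have hwy : Commute w y := hcomm w hw y hy
    have hzL : w * y ∈ W ⊔ Y := mul_mem (le_sup_left (b := Y) hw) (le_sup_right (a := W) hy)
    have hz1 : w * y ≠ 1 := fun h => hWY (by
      rw [← gen W hW w hw hw1, ← gen Y hY y hy hy1, eq_inv_of_mul_eq_one_left h, Subgroup.zpowers_inv])
    set Z := Subgroup.zpowers (w * y) with hZdef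
    have hZK : Z ∈ K := ha W hW Y hY hWY hcomm Z (Subgroup.zpowers_le.2 hzL) (by
      rw [hZdef, Nat.card_zpowers]
      exact orderOf_eq_prime (line_pow W hW Y hY hcomm _ hzL) hz1)
    have hZW : Adj W Z := adj_sup W W Y Z (adj_refl W hW) hcomm (Subgroup.zpowers_le.2 hzL)
    have hZW' : Z ≠ W := by
      intro h
      have : w * y ∈ W := h ▸ Subgroup.mem_zpowers (w * y)
      have hyW : y ∈ W := by simpa using mul_mem (inv_mem hw) this
      exact hWY ((gen W hW y hyW hy1).symm.trans (gen Y hY y hy hy1))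
    by_cases hX : ∀ X ∈ K, Adj X Z → Adj X W
    · exact L1 Z hZK W hW hZW' hX
    push Not at hX
    obtain ⟨X, hXK, hXZ, hXW⟩ := hX
    replace hXW : ¬ Adj W X := fun h => hXW (adj_symm _ _ h)
    have hXneZ : X ≠ Z := by rintro rfl; exact hXW hZW
    have hXY : ¬ Adj Y X := by
      intro h
      apply hXW
      have hYZ : Y ≠ Z := by
        intro h'
        have : w * y ∈ Y := h' ▸ Subgroup.mem_zpowers (w * y)
        have hwY : w ∈ Y := by simpa using mul_mem this (inv_mem hy)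
        exact hWY ((gen W hW w hw hw1).symm.trans (gen Y hY w hwY hw1))
      have hline := line_eq W hW Y hY hcomm Y Z hY hZK hYZ le_sup_right (Subgroup.zpowers_le.2 hzL)
      exact adj_symm _ _ (adj_sup X Y Z W (adj_symm _ _ h) hXZ (hline ▸ le_sup_left))
    refine L1 X hXK Z hZK hXneZ fun T hT hTX => ?_
    by_cases hTe : X = T
    · exact hTe ▸ hXZ
    obtain ⟨A, hA, hAle, hWA⟩ := meet X hXK T hT hTe (adj_symm _ _ hTX) W hW
    obtain ⟨B, hB, hBle, hYB⟩ := meet X hXK T hT hTe (adj_symm _ _ hTX) Y hY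
    have hAX : A ≠ X := by rintro rfl; exact hXW hWA
    have hlineA := line_eq X hXK T hT (adj_symm _ _ hTX) A X hA hXK hAX hAle le_sup_left
    by_cases hAB : A = B
    · have hAZ : Adj A Z := adj_sup A W Y Z (adj_symm _ _ hWA) (adj_symm _ _ (hAB ▸ hYB))
        (Subgroup.zpowers_le.2 hzL)
      exact adj_symm _ _ (adj_sup Z A X T (adj_symm _ _ hAZ) (adj_symm _ _ hXZ) (hlineA ▸ le_sup_right))
    exfalso
    -- the image of `X` under `w⁻¹`, equal to the image under `y`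
    set X' := X.map (MulAut.conj w⁻¹).toMonoidHom with hX'
    have hX'y : X' = X.map (MulAut.conj y).toMonoidHom := by
      ext t
      rw [hX', CfsgLib.Inv53.mem_map_conj_iff, CfsgLib.Inv53.mem_map_conj_iff, inv_inv]
      constructor <;> intro ht
      · have h1 : w * y * (w * t * w⁻¹) = (w * t * w⁻¹) * (w * y) :=
          (hXZ _ ht _ (Subgroup.mem_zpowers _)).symm
        have h2 : y⁻¹ * t * y = w * t * w⁻¹ := by
          calc y⁻¹ * t * y = (w * y)⁻¹ * (w * t * w⁻¹) * (w * y) := by group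
            _ = w * t * w⁻¹ := by rw [mul_assoc, ← h1, inv_mul_cancel_left]
        rwa [h2]
      · have h1 : w * y * (y⁻¹ * t * y) = (y⁻¹ * t * y) * (w * y) :=
          (hXZ _ ht _ (Subgroup.mem_zpowers _)).symm
        have h2 : w * t * w⁻¹ = y⁻¹ * t * y := by
          calc w * t * w⁻¹ = (w * y) * (y⁻¹ * t * y) * (w * y)⁻¹ := by group
            _ = y⁻¹ * t * y := by rw [h1, mul_inv_cancel_right]
        rwa [h2]
    have hX'K : X' ∈ K := hKc X hXK _
    have hlineXT : ∀ R, R ≤ X ⊔ T → R ∈ K → Adj R X := fun R hR _ =>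
      adj_symm _ _ (adj_sup X X T R (adj_refl X hXK) (adj_symm _ _ hTX) hR)
    have hX'A : Adj A X' := conj_adj W A X w⁻¹ (inv_mem hw) hWA (hlineXT A hAle hA)
    have hX'B : Adj B X' := hX'y ▸ conj_adj Y B X y hy hYB (hlineXT B hBle hB)
    have hlineAB := line_eq X hXK T hT (adj_symm _ _ hTX) A B hA hB hAB hAle hBle
    have hX'X : Adj X' X :=
      adj_sup X' A B X (adj_symm _ _ hX'A) (adj_symm _ _ hX'B) (hlineAB ▸ le_sup_left)
    have hne' : X' ≠ X := by
      intro h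
      apply hXW
      obtain ⟨x, hx, hx1⟩ := nontriv X hXK
      have hxc : w⁻¹ * x * w⁻¹⁻¹ ∈ Subgroup.zpowers x := by
        rw [gen X hXK x hx hx1, ← h]
        exact CfsgLib.Inv53.conj_mem_map_conj hx
      obtain ⟨k, hk⟩ := (mem_powers_iff_mem_zpowers.2 hxc : _ ∈ Submonoid.powers x)
      simp only at hk
      have hwp : w ^ p = 1 := orderOf_dvd_iff_pow_eq_one.1 (hK W hW ▸ W.orderOf_dvd_natCard hw)
      have hiter : ∀ i : ℕ, (w⁻¹) ^ i * x * ((w⁻¹) ^ i)⁻¹ = x ^ (k ^ i) := by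
        intro i
        induction i with
        | zero => simp
        | succ i ih =>
          calc (w⁻¹) ^ (i + 1) * x * ((w⁻¹) ^ (i + 1))⁻¹
              = w⁻¹ * ((w⁻¹) ^ i * x * ((w⁻¹) ^ i)⁻¹) * w⁻¹⁻¹ := by rw [pow_succ']; group
            _ = (w⁻¹ * x * w⁻¹⁻¹) ^ (k ^ i) := by rw [ih, conj_pow]
            _ = x ^ (k ^ (i + 1)) := by rw [← hk, ← pow_mul, pow_succ']
      have hxo : orderOf x = p := by rw [← Nat.card_zpowers, gen X hXK x hx hx1, hK X hXK]
      have h1 := hiter p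
      rw [inv_pow, hwp, inv_one, one_mul, inv_one, mul_one] at h1
      have h2 : (1 : ℕ) ≡ k ^ p [MOD p] := by
        rw [← hxo, ← pow_eq_pow_iff_modEq, pow_one, hxo]
        exact h1
      have hk1 : (k : ZMod p) = 1 := by
        have := (ZMod.natCast_eq_natCast_iff 1 (k ^ p) p).2 h2
        rw [Nat.cast_pow, ZMod.pow_card, Nat.cast_one] at this
        exact this.symm
      have h3 : w⁻¹ * x * w⁻¹⁻¹ = x := by
        rw [← hk]
        conv_rhs => rw [← pow_one x]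
        rw [pow_eq_pow_iff_modEq, hxo]
        exact (ZMod.natCast_eq_natCast_iff k 1 p).1 (by rw [hk1, Nat.cast_one])
      have h4 : Commute w x := by
        have h5 : w⁻¹ * x = x * w⁻¹ := mul_inv_eq_iff_eq_mul.1 h3
        exact (Commute.inv_left_iff).1 h5
      intro a ha' b hb'
      rw [← gen W hW w hw hw1] at ha'
      rw [← gen X hXK x hx hx1] at hb'
      obtain ⟨i, rfl⟩ := ha'
      obtain ⟨j, rfl⟩ := hb'
      exact (h4.zpow_zpow i j).eq
    obtain ⟨C, hC, hCle, hWC⟩ := meet X hXK X' hX'K hne'.symm (adj_symm _ _ hX'X) W hW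
    have hCX : X ≠ C := by rintro rfl; exact hXW hWC
    refine L1 X hXK C hC hCX fun T' hT' hT'X => ?_
    have hCadjX : Adj X C := adj_sup X X X' C (adj_refl X hXK) (adj_symm _ _ hX'X) hCle
    by_cases hTe' : X = T'
    · exact hTe' ▸ hCadjX
    obtain ⟨A', hA', hA'le, hWA'⟩ := meet X hXK T' hT' hTe' (adj_symm _ _ hT'X) W hW
    have hA'X : A' ≠ X := by rintro rfl; exact hXW hWA'
    have hA'adjX : Adj A' X :=
      adj_symm _ _ (adj_sup X X T' A' (adj_refl X hXK) (adj_symm _ _ hT'X) hA'le)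
    have hA'X' : Adj A' X' := conj_adj W A' X w⁻¹ (inv_mem hw) hWA' hA'adjX
    have hA'C : Adj A' C := adj_sup A' X X' C hA'adjX hA'X' hCle
    have hline := line_eq X hXK T' hT' (adj_symm _ _ hT'X) A' X hA' hXK hA'X hA'le le_sup_left
    exact adj_symm _ _ (adj_sup C A' X T' (adj_symm _ _ hA'C) (adj_symm _ _ hCadjX) (hline ▸ le_sup_right))
  obtain ⟨N, hN, hNp, hVN⟩ := CfsgLib.Small.baerSuzuki_subgroup (p := p) V (fun g =>
    line_pg V hV _ (hKc V hV g) (hrad _ (hKc V hV g)))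
  refine ⟨⟨V, hV, hrad, hVN.trans (le_sSup (show N ∈ {N : Subgroup G | N.Normal ∧ IsPGroup p N} from ⟨hN, hNp⟩))⟩,
    fun hsimple => ?_⟩
  obtain ⟨v, hv, hv1⟩ := nontriv V hV
  have hNtop : N = ⊤ := (hN.eq_bot_or_eq_top).resolve_left fun h =>
    hv1 (Subgroup.mem_bot.1 (h ▸ hVN hv))
  have hGp : IsPGroup p G := (hNtop ▸ hNp).of_equiv Subgroup.topEquiv
  haveI : Nontrivial G := ⟨⟨v, 1, hv1⟩⟩
  have hcenter : Subgroup.center G = ⊤ :=
    ((inferInstance : (Subgroup.center G).Normal).eq_bot_or_eq_top).resolve_left hGp.bot_lt_center.ne'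
  obtain ⟨X, hX, Y, hY, hne, -⟩ := hex
  have htop : ∀ X ∈ K, X = ⊤ := by
    intro X hX
    have hn : X.Normal := ⟨fun a ha' g => by
      have : a ∈ Subgroup.center G := hcenter ▸ Subgroup.mem_top a
      rw [Subgroup.mem_center_iff.1 this g, mul_inv_cancel_right]
      exact ha'⟩
    obtain ⟨x, hx, hx1⟩ := nontriv X hX
    exact hn.eq_bot_or_eq_top.resolve_left fun h => hx1 (Subgroup.mem_bot.1 (h ▸ hx))
  exact hne ((htop X hX).trans (htop Y hY).symm)

end Cfsg.Agent.S3196
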