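import Cfsg.Statements.S3200
import Cfsg.Agent.Characters.Burnside
import Cfsg.Agent.Solvable.Hall
import Mathlib

set_option autoImplicit false
open Cfsg

namespace Cfsg.Agent.S3200

open Subgroup
open scoped Pointwise

universe u

theorem relIndex_dvd_index {G : Type*} [Group G] [Finite G] (C N : Subgroup G) [N.Normal] :
    C.relIndex N ∣ C.index := by
  have e1 := Subgroup.relIndex_mul_relIndex ⊥ (C ⊓ N) N bot_le inf_le_right
  have e2 := Subgroup.relIndex_mul_relIndex ⊥ (N ⊓ C) C bot_le inf_le_right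
  have e3 := Subgroup.relIndex_mul_relIndex ⊥ N (C ⊔ N) bot_le le_sup_right
  have e4 := Subgroup.relIndex_mul_relIndex ⊥ C (C ⊔ N) bot_le le_sup_left
  rw [Subgroup.relIndex_bot_left, Subgroup.relIndex_bot_left, Subgroup.inf_relIndex_right] at e1 e2
  rw [Subgroup.relIndex_bot_left, Subgroup.relIndex_bot_left, Subgroup.relIndex_sup_right] at e3
  rw [Subgroup.relIndex_bot_left, Subgroup.relIndex_bot_left] at e4
  have h : Nat.card C * C.relIndex N = Nat.card C * C.relIndex (C ⊔ N) := by
    rw [e4, ← e3, ← e1, ← e2, inf_comm N C]; ring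
  rw [Nat.eq_of_mul_eq_mul_left Nat.card_pos h]
  exact Subgroup.relIndex_dvd_index_of_le le_sup_left

theorem solvable_aux : ∀ (n : ℕ) (G : Type u) [Group G] [Finite G] (C : Subgroup G),
    Nat.card G ≤ n → IsMulCommutative C → (∃ k, C.index ∣ 2 ^ k) → Group.IsSolvable G := by
  intro n
  induction n with
  | zero => intro G _ _ _ h; exact absurd h (by have := Nat.card_pos (α := G); omega)
  | succ n ih =>
    intro G _ _ C hn hC ⟨k, hk⟩
    classical
    haveI : Fact (Nat.Prime 2) := ⟨Nat.prime_two⟩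
    rcases subsingleton_or_nontrivial G with hs | hnt
    · infer_instance
    by_cases hsimp : IsSimpleGroup G
    · haveI := hsimp
      by_cases hbot : C = ⊥
      · subst hbot
        rw [Subgroup.index_bot] at hk
        obtain ⟨j, -, hj⟩ := (Nat.dvd_prime_pow Nat.prime_two).1 hk
        haveI : Group.IsNilpotent G := (IsPGroup.of_card hj).isNilpotent
        infer_instance
      obtain ⟨c, hc, hc1⟩ := (C.bot_or_exists_ne_one).resolve_left hbot
      have hle : C ≤ centralizer ({c} : Set G) := fun x hx =>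
        mem_centralizer_singleton_iff.2 (congrArg Subtype.val (hC.is_comm.comm ⟨x, hx⟩ ⟨c, hc⟩))
      obtain ⟨j, -, hj⟩ := (Nat.dvd_prime_pow Nat.prime_two).1 ((Subgroup.index_dvd_of_le hle).trans hk)
      have hp := CfsgLib.Characters.prime_card_of_primePow_class 2 j Nat.prime_two c hc1 hj
      haveI := Fact.mk hp
      haveI : IsCyclic G := isCyclic_of_prime_card rfl
      exact Group.isSolvable_of_comm fun a b => by
        obtain ⟨g, hg⟩ := IsCyclic.exists_generator (α := G)
        obtain ⟨i, rfl⟩ := hg a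
        obtain ⟨l, rfl⟩ := hg b
        exact (Commute.zpow_zpow_self g i l).eq
    · obtain ⟨N, hN, hbot, htop⟩ : ∃ N : Subgroup G, N.Normal ∧ N ≠ ⊥ ∧ N ≠ ⊤ := by
        by_contra h
        push Not at h
        exact hsimp ⟨fun N hN => or_iff_not_imp_left.2 (h N hN)⟩
      haveI := hN
      have hmul := Subgroup.card_mul_index N
      have h1 : 1 < Nat.card N := (Subgroup.one_lt_card_iff_ne_bot N).2 hbot
      have h2 : 1 < N.index := by
        have := Subgroup.index_ne_zero_of_finite (H := N)
        have : N.index ≠ 1 := fun e => htop (Subgroup.index_eq_one.1 e)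
        omega
      have hlt1 : Nat.card N < Nat.card G := by
        calc Nat.card N < Nat.card N * N.index := lt_mul_right Nat.card_pos h2
          _ = Nat.card G := hmul
      have hlt2 : Nat.card (G ⧸ N) < Nat.card G := by
        rw [← Subgroup.index_eq_card]
        calc N.index < Nat.card N * N.index := lt_mul_left (by omega) h1
          _ = Nat.card G := hmul
      haveI : Group.IsSolvable N := ih N (C.subgroupOf N) (by omega)
        ⟨⟨fun a b => Subtype.ext (Subtype.ext (congrArg Subtype.val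
          (hC.is_comm.comm ⟨_, a.2⟩ ⟨_, b.2⟩) :))⟩⟩ ⟨k, (relIndex_dvd_index C N).trans hk⟩
      haveI : Group.IsSolvable (G ⧸ N) := ih (G ⧸ N) (C.map (QuotientGroup.mk' N)) (by omega)
        (Subgroup.map_isMulCommutative C _)
        ⟨k, (Subgroup.index_map_dvd C (QuotientGroup.mk'_surjective N)).trans hk⟩
      exact Group.isSolvable_of_ker_le_range N.subtype (QuotientGroup.mk' N) (by simp)

/-- A subgroup of odd order and 2-power index complements every Sylow 2-subgroup. -/
theorem isComplement_of_odd {G : Type*} [Group G] [Finite G] (P : Sylow 2 G) {D : Subgroup G}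
    (hD : Odd (Nat.card D)) {k : ℕ} (hk : D.index ∣ 2 ^ k) :
    Subgroup.IsComplement' (P : Subgroup G) D := by
  haveI : Fact (Nat.Prime 2) := ⟨Nat.prime_two⟩
  obtain ⟨j, -, hj⟩ := (Nat.dvd_prime_pow Nat.prime_two).1 hk
  obtain ⟨i, hi⟩ := IsPGroup.iff_card.1 P.isPGroup'
  have hcop : (Nat.card (P : Subgroup G)).Coprime (Nat.card D) := by
    rw [hi]; exact Nat.Coprime.pow_left i (Nat.coprime_two_left.2 hD)
  refine Subgroup.isComplement'_of_coprime ?_ hcop
  have hG : Nat.card D * 2 ^ j = Nat.card G := hj ▸ Subgroup.card_mul_index D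
  apply Nat.dvd_antisymm
  · exact hcop.mul_dvd_of_dvd_of_dvd (card_subgroup_dvd_card _) (card_subgroup_dvd_card _)
  · rw [← hG, mul_comm (Nat.card D)]
    exact Nat.mul_dvd_mul_right (P.pow_dvd_card_of_pow_dvd_card (hG ▸ dvd_mul_left _ _)) _

/-- A number all of whose prime divisors equal 2 divides a power of 2. -/
theorem dvd_two_pow {n : ℕ} (hn : n ≠ 0) (h : ∀ p : ℕ, p.Prime → p ∣ n → p = 2) : ∃ k, n ∣ 2 ^ k :=
  ⟨_, (Nat.eq_prime_pow_of_unique_prime_dvd hn (fun {_} hp hd => h _ hp hd)).dvd⟩

/-- Let H be a finite group in which a Sylow 2-subgroup has an abelian complement (an abelian subgroup meeting it trivially whose product with it is all of H). Then H is solvable, and every subgroup and every quotient group of H again has a Sylow 2-subgroup with an abelian complement. -/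
theorem result {H : Type*} [Group H] [Finite H]
    (S : Sylow 2 H) (C : Subgroup H) (hC : IsMulCommutative ↥C) (hSC : Subgroup.IsComplement' (S : Subgroup H) C) :
    Group.IsSolvable H ∧
    (∀ L : Subgroup H, ∃ (P : Sylow 2 ↥L) (D : Subgroup ↥L), IsMulCommutative ↥D ∧ Subgroup.IsComplement' (P : Subgroup ↥L) D) ∧
    (∀ (N : Subgroup H) [N.Normal], ∃ (P : Sylow 2 (H ⧸ N)) (D : Subgroup (H ⧸ N)),
      IsMulCommutative ↥D ∧ Subgroup.IsComplement' (P : Subgroup (H ⧸ N)) D) := by
  haveI : Fact (Nat.Prime 2) := ⟨Nat.prime_two⟩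
  haveI := hC
  obtain ⟨k, hk⟩ := IsPGroup.iff_card.1 S.isPGroup'
  have hidx : C.index ∣ 2 ^ k := by rw [hSC.index_eq_card, hk]
  have hCodd : Odd (Nat.card C) := by
    rw [Nat.odd_iff]
    by_contra h
    exact S.not_dvd_index (by rw [hSC.symm.index_eq_card]; omega)
  have hsol : Group.IsSolvable H := solvable_aux _ H C le_rfl hC ⟨k, hidx⟩
  haveI := hsol
  refine ⟨hsol, fun L => ?_, fun N hN => ?_⟩
  · obtain ⟨D, hD⟩ := CfsgLib.Solvable.exists_isPiHall ({p | p ≠ 2} : Set ℕ) L
    obtain ⟨P⟩ := (inferInstance : Nonempty (Sylow 2 L))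
    have hDodd : Odd (Nat.card D) := by
      rw [Nat.odd_iff]
      by_contra h
      exact hD.1 2 Nat.prime_two (by omega) rfl
    have hCH : Cfsg.IsPiHall ({p | p ≠ 2} : Set ℕ) C := by
      refine ⟨fun p _ hd (h : p = 2) => ?_, fun p hp (hne : p ≠ 2) hd => ?_⟩
      · subst h; rw [Nat.odd_iff] at hCodd; omega
      · exact hne ((Nat.prime_dvd_prime_iff_eq hp Nat.prime_two).1 (hp.dvd_of_dvd_pow (hd.trans hidx)))
    obtain ⟨g, hg⟩ := CfsgLib.Solvable.exists_conj_le_isPiHall hCH (U := D.map L.subtype)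
      (fun p hp hd => hD.1 p hp (by rwa [Subgroup.card_map_of_injective L.subtype_injective] at hd))
    refine ⟨P, D, ⟨⟨fun a b => ?_⟩⟩, ?_⟩
    · have hm : ∀ x : D, g * ((x : L) : H) * g⁻¹ ∈ C := fun x =>
        hg (Subgroup.smul_mem_pointwise_smul _ (MulAut.conj g) _ ⟨x, x.2, rfl⟩)
      have h := congrArg Subtype.val (hC.is_comm.comm ⟨_, hm a⟩ ⟨_, hm b⟩)
      apply Subtype.ext; apply Subtype.ext
      show ((a : L) : H) * (b : L) = ((b : L) : H) * (a : L)
      apply mul_left_cancel (a := g); apply mul_right_cancel (b := g⁻¹)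
      calc g * (((a : L) : H) * (b : L)) * g⁻¹ = (g * ((a : L) : H) * g⁻¹) * (g * ((b : L) : H) * g⁻¹) := by group
        _ = (g * ((b : L) : H) * g⁻¹) * (g * ((a : L) : H) * g⁻¹) := h
        _ = _ := by group
    · obtain ⟨j, hj⟩ := dvd_two_pow Subgroup.index_ne_zero_of_finite
        (fun p hp hd => by_contra fun hne => hD.2 p hp hne hd)
      exact isComplement_of_odd P hDodd hj
  · refine ⟨S.mapSurjective (QuotientGroup.mk'_surjective N), C.map (QuotientGroup.mk' N),
      Subgroup.map_isMulCommutative C _, ?_⟩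
    exact isComplement_of_odd _ (Odd.of_dvd_nat hCodd (Subgroup.card_map_dvd C _))
      ((Subgroup.index_map_dvd C (QuotientGroup.mk'_surjective N)).trans hidx)

end Cfsg.Agent.S3200
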