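import Cfsg.Statements.S3201
import Cfsg.Agent.Inv53.CentralQuaternion
import Cfsg.Prelude.Def_TwoFusion

set_option autoImplicit false
open Cfsg

namespace Cfsg.Agent.S3201

/-- Let S be a finite 2-group whose centre Z(S) has n ≥ 2 distinct maximal subgroups C₁, …, Cₙ with trivial intersection such that each quotient S/Cᵢ is a non-abelian group with exactly one involution (a generalized quaternion group). Then S is the internal direct product of an elementary abelian subgroup and a non-abelian subgroup with exactly one involution. -/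
theorem result {S : Type*} [Group S] [Finite S]
    (hS : IsPGroup 2 S) (n : ℕ) (hn : 2 ≤ n) (C : Fin n → Subgroup ↥(Subgroup.center S))
    (hCmax : ∀ i, IsCoatom (C i)) (hCinj : Function.Injective C) (hCint : ⨅ i, C i = ⊥)
    (hCq : ∀ i, ∃ (_ : ((C i).map (Subgroup.center S).subtype).Normal),
      ¬ IsMulCommutative (S ⧸ (C i).map (Subgroup.center S).subtype) ∧
      ∃! x : S ⧸ (C i).map (Subgroup.center S).subtype, orderOf x = 2) :
    ∃ E Q : Subgroup S, Cfsg.IsInternalDirectProduct E Q ⊤ ∧ Cfsg.IsElementaryAbelian 2 E ∧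
      ¬ IsMulCommutative ↥Q ∧ ∃! x : ↥Q, orderOf x = 2 := by
  let D : Fin n → Subgroup S := fun i => (C i).map (Subgroup.center S).subtype
  have hDZ : ∀ i, D i ≤ Subgroup.center S := fun i => Subgroup.map_subtype_le _
  have hDint : ∀ s, (∀ i, s ∈ D i) → s = 1 := by
    intro s hs
    have hz : s ∈ Subgroup.center S := hDZ ⟨0, by omega⟩ (hs _)
    have h1 : (⟨s, hz⟩ : Subgroup.center S) ∈ ⨅ i, C i := by
      rw [Subgroup.mem_iInf]
      intro i
      obtain ⟨c, hc, hcs⟩ := hs i
      have : c = ⟨s, hz⟩ := Subtype.ext hcs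
      exact this ▸ hc
    rw [hCint, Subgroup.mem_bot] at h1
    exact congrArg Subtype.val h1
  let i0 : Fin n := ⟨0, by omega⟩
  -- facts in each quotient
  have hloc : ∀ i : Fin n, (∀ c ∈ Subgroup.center S, c * c ∈ D i) ∧
      (∀ c ∈ Subgroup.center S, ∀ c' ∈ Subgroup.center S, c ∉ D i → c' ∉ D i → c * c'⁻¹ ∈ D i) ∧
      (∀ u : S, u ∉ Subgroup.center S → u * u ∉ D i) := by
    intro i
    obtain ⟨hn', hna, hu⟩ := hCq i
    obtain ⟨x, y, m, hx4, hx2, -, -, -, hcen⟩ := CfsgLib.Inv53.exists_lift_data hS (D i) (hDZ i) hna hu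
    set w := x ^ 2 ^ (m + 1) with hw
    set π := QuotientGroup.mk' (D i)
    have key : ∀ g : S, g ∈ D i ↔ π g = 1 := fun g => (QuotientGroup.eq_one_iff g).symm
    have hw2 : π w * π w = 1 := by
      rw [← map_mul, ← key, hw, ← pow_add, ← two_mul, ← pow_succ']
      exact hx4
    have hcen' : ∀ c ∈ Subgroup.center S, π c = 1 ∨ π c = π w := by
      intro c hc
      rcases hcen c hc with h | h
      · exact Or.inl ((key c).1 h)
      · exact Or.inr (by rw [← mul_inv_eq_one, ← map_inv, ← map_mul, ← key]; exact h)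
    refine ⟨fun c hc => ?_, fun c hc c' hc' h1 h2 => ?_, fun u hu' h => ?_⟩
    · rw [key, map_mul]
      rcases hcen' c hc with e | e <;> rw [e]
      · exact one_mul 1
      · exact hw2
    · have e1 := (hcen' c hc).resolve_left (fun e => h1 ((key c).2 e))
      have e2 := (hcen' c' hc').resolve_left (fun e => h2 ((key c').2 e))
      rw [key, map_mul, map_inv, e1, e2, mul_inv_cancel]
    · obtain ⟨t, -, huniq⟩ := hu
      haveI : Fact (Nat.Prime 2) := ⟨Nat.prime_two⟩
      have hπu : π u ≠ 1 := fun e => hu' (hDZ i ((key u).2 e))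
      have hou : orderOf (π u) = 2 := orderOf_eq_prime (by rw [sq, ← map_mul, ← key]; exact h) hπu
      obtain ⟨c, hc, hcD⟩ : ∃ c ∈ Subgroup.center S, c ∉ D i := by
        by_contra hall
        push Not at hall
        apply (hCmax i).1
        rw [Subgroup.eq_top_iff']
        intro c
        obtain ⟨c', hc', e⟩ := hall c c.2
        exact (Subtype.ext e : c' = c) ▸ hc'
      have hoc : orderOf (π c) = 2 := by
        have e := (hcen' c hc).resolve_left (fun e => hcD ((key c).2 e))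
        exact orderOf_eq_prime (by rw [sq, e, hw2]) (fun e' => hcD ((key c).2 e'))
      have huc : π u = π c := (huniq _ hou).trans (huniq _ hoc).symm
      apply hu'
      have hmem : u * c⁻¹ ∈ D i := by rw [key, map_mul, map_inv, huc, mul_inv_cancel]
      have := (Subgroup.center S).mul_mem (hDZ i hmem) hc
      rwa [inv_mul_cancel_right] at this
  have hZ2 : ∀ c ∈ Subgroup.center S, c * c = 1 := fun c hc => hDint _ fun i => (hloc i).1 c hc
  have hsq : ∀ u v : S, u ∉ Subgroup.center S → v ∉ Subgroup.center S → u * u ∈ Subgroup.center S →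
      v * v ∈ Subgroup.center S → u * u = v * v := by
    intro u v hu hv hu2 hv2
    rw [← mul_inv_eq_one]
    exact hDint _ fun i => (hloc i).2.1 _ hu2 _ hv2 ((hloc i).2.2 u hu) ((hloc i).2.2 v hv)
  obtain ⟨hn0, hna, hu⟩ := hCq i0
  obtain ⟨x, y, m, hx4, hx2, hyx, hy2, hcov, hcen⟩ :=
    CfsgLib.Inv53.exists_lift_data hS (D i0) (hDZ i0) hna hu
  have hcenD : ∀ d ∈ D i0, ∀ g : S, Commute g d := fun d hd g =>
    Subgroup.mem_center_iff.1 (hDZ i0 hd) g
  set π := QuotientGroup.mk' (D i0) with hπ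
  have key : ∀ g : S, g ∈ D i0 ↔ π g = 1 := fun g => (QuotientGroup.eq_one_iff g).symm
  set w := x ^ 2 ^ (m + 1) with hw
  have hyx' : π y * π x * (π y)⁻¹ = (π x)⁻¹ := by
    rw [eq_inv_iff_mul_eq_one, ← map_inv, ← map_mul, ← map_mul, ← map_mul, ← key]; exact hyx
  have hπw : π w ≠ 1 := fun e => hx2 ((key w).2 e)
  have hwZ : w ∈ Subgroup.center S := by
    obtain ⟨c, hc, hcD⟩ : ∃ c ∈ Subgroup.center S, c ∉ D i0 := by
      by_contra hall
      push Not at hall
      apply (hCmax i0).1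
      rw [Subgroup.eq_top_iff']
      intro c
      obtain ⟨c', hc', e⟩ := hall c c.2
      exact (Subtype.ext e : c' = c) ▸ hc'
    have h := (hcen c hc).resolve_left hcD
    have h2 := (Subgroup.center S).mul_mem ((Subgroup.center S).inv_mem (hDZ i0 h)) hc
    rwa [mul_inv_rev, inv_inv, inv_mul_cancel_right] at h2
  have hnotcomm : ∀ k : ℕ, k ≤ m → x ^ 2 ^ k ∉ Subgroup.center S := by
    intro k hk hxZ
    have h1 : π y * π (x ^ 2 ^ k) * (π y)⁻¹ = π (x ^ 2 ^ k) := by
      rw [← map_inv, ← map_mul, ← map_mul, Subgroup.mem_center_iff.1 hxZ y, mul_inv_cancel_right]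
    rw [map_pow, ← conj_pow, hyx', inv_pow, inv_eq_iff_mul_eq_one, ← pow_add, ← two_mul,
      ← pow_succ', ← map_pow, ← key] at h1
    apply hx2
    obtain ⟨r, hr⟩ := Nat.pow_dvd_pow 2 (show k + 1 ≤ m + 1 by omega)
    rw [hw, hr, pow_mul]
    exact (D i0).pow_mem h1 r
  have hxZ : x ∉ Subgroup.center S := by
    have := hnotcomm 0 (Nat.zero_le m)
    simpa using this
  have hyZ : y ∉ Subgroup.center S := by
    intro hy
    have h1 : π y * π x * (π y)⁻¹ = π x := by
      rw [← map_inv, ← map_mul, ← map_mul, ← Subgroup.mem_center_iff.1 hy x, mul_inv_cancel_right]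
    rw [hyx', inv_eq_iff_mul_eq_one, ← map_mul, ← key, ← sq] at h1
    apply hx2
    rw [hw, show 2 ^ (m + 1) = 2 * 2 ^ m by rw [pow_succ'], pow_mul]
    exact (D i0).pow_mem h1 _
  have hy2Z : y * y ∈ Subgroup.center S := by
    rw [← sq]
    have := (Subgroup.center S).mul_mem ((Subgroup.center S).inv_mem (hDZ i0 hy2)) hwZ
    simpa using this
  have huZ : y * x ∉ Subgroup.center S := by
    intro h
    have h1 := Subgroup.mem_center_iff.1 h x
    have h2 : π y * π x * (π y)⁻¹ = π x := by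
      rw [mul_inv_eq_iff_eq_mul, ← map_mul, ← map_mul]
      congr 1
      rw [← mul_assoc] at h1
      exact (mul_right_cancel h1).symm
    rw [hyx', inv_eq_iff_mul_eq_one, ← map_mul, ← key, ← sq] at h2
    apply hx2
    rw [hw, show 2 ^ (m + 1) = 2 * 2 ^ m by rw [pow_succ'], pow_mul]
    exact (D i0).pow_mem h2 _
  have hyxy : (y * x) * (y * x) * (y * y)⁻¹ ∈ D i0 := by
    rw [key, map_mul, map_mul, map_mul, map_inv, map_mul]
    have h1 : π y * π x = (π x)⁻¹ * π y := mul_inv_eq_iff_eq_mul.1 hyx'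
    calc π y * π x * (π y * π x) * (π y * π y)⁻¹
        = (π x)⁻¹ * π y * (π y * π x) * (π y * π y)⁻¹ := by rw [← h1]
      _ = (π x)⁻¹ * (π (y * y) * π x) * (π y * π y)⁻¹ := by rw [map_mul]; group
      _ = (π x)⁻¹ * (π x * π (y * y)) * (π y * π y)⁻¹ := by
          rw [← map_mul π (y * y), ← Subgroup.mem_center_iff.1 hy2Z x, map_mul]
      _ = 1 := by rw [map_mul]; group
  have hyxZ : (y * x) * (y * x) ∈ Subgroup.center S := by
    have := (Subgroup.center S).mul_mem (hDZ i0 hyxy) hy2Z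
    rwa [inv_mul_cancel_right] at this
  have hrel : y * x * y⁻¹ = x⁻¹ := by
    have h1 : y * x * (y * x) = y * y := hsq _ _ huZ hyZ hyxZ hy2Z
    rw [eq_inv_iff_mul_eq_one]
    have h2 : x * (y * x) = y := mul_left_cancel (a := y) (by rw [← mul_assoc]; exact h1)
    calc y * x * y⁻¹ * x = y * (x * (y * x)) * (y * y)⁻¹ * ((y * y) * (x⁻¹ * y⁻¹) * y⁻¹ * x) := by group
      _ = (y * y) * (y * y)⁻¹ * ((x⁻¹ * (y * y) * y⁻¹) * y⁻¹ * x) := by
          rw [h2]
          congr 1
          rw [← mul_assoc (y * y), ← Subgroup.mem_center_iff.1 hy2Z x⁻¹]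
      _ = 1 := by group
  have hwy : w = y * y := by
    have h1 : x ^ 2 ^ m * x ^ 2 ^ m = w := by rw [hw, ← pow_add, pow_succ]; ring_nf
    rw [← h1]
    exact hsq _ _ (hnotcomm m le_rfl) hyZ (h1 ▸ hwZ) hy2Z
  let Q : Subgroup S :=
    { carrier := {g | g ∈ Subgroup.zpowers x ∨ g * y⁻¹ ∈ Subgroup.zpowers x}
      one_mem' := Or.inl (one_mem _)
      mul_mem' := by
        have hy2x : y * y ∈ Subgroup.zpowers x := hwy ▸ pow_mem (Subgroup.mem_zpowers x) _
        have hconj : ∀ i : ℤ, y * x ^ i * y⁻¹ = x ^ (-i) := fun i => by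
          rw [← conj_zpow, hrel, inv_zpow']
        rintro a b (ha | ha) (hb | hb)
        · exact Or.inl (mul_mem ha hb)
        · exact Or.inr (by rw [mul_assoc]; exact mul_mem ha hb)
        · right
          obtain ⟨j, rfl⟩ := hb
          have : a * x ^ j * y⁻¹ = a * y⁻¹ * (y * x ^ j * y⁻¹) := by group
          rw [this, hconj]
          exact mul_mem ha (zpow_mem (Subgroup.mem_zpowers x) _)
        · left
          obtain ⟨j, hj⟩ := hb
          simp only at hj
          have : a * b = a * y⁻¹ * (y * (b * y⁻¹) * y⁻¹) * (y * y) := by group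
          rw [this, ← hj, hconj]
          exact mul_mem (mul_mem ha (zpow_mem (Subgroup.mem_zpowers x) _)) hy2x
      inv_mem' := by
        have hy2x : y * y ∈ Subgroup.zpowers x := hwy ▸ pow_mem (Subgroup.mem_zpowers x) _
        have hconj : ∀ i : ℤ, y⁻¹ * x ^ i * y = x ^ (-i) := fun i => by
          have h1 : y * x ^ (-i) * y⁻¹ = x ^ i := by rw [← conj_zpow, hrel, inv_zpow', neg_neg]
          rw [← h1]; group
        rintro a (ha | ha)
        · exact Or.inl (inv_mem ha)
        · right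
          obtain ⟨j, hj⟩ := ha
          simp only at hj
          have : a⁻¹ * y⁻¹ = y⁻¹ * (a * y⁻¹)⁻¹ * y * (y * y)⁻¹ := by group
          rw [this, ← hj, ← zpow_neg, hconj]
          exact mul_mem (zpow_mem (Subgroup.mem_zpowers x) _) (inv_mem hy2x) }
  have hconj : ∀ i : ℤ, y * x ^ i * y⁻¹ = x ^ (-i) := fun i => by
    rw [← conj_zpow, hrel, inv_zpow']
  have hxpow : ∀ i : ℤ, x ^ i * x ^ i = 1 → x ^ i = 1 ∨ x ^ i = w := by
    intro i hi
    have hord : orderOf x = 2 ^ (m + 2) := by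
      haveI : Fact (Nat.Prime 2) := ⟨Nat.prime_two⟩
      apply orderOf_eq_prime_pow
      · exact fun e => hπw (by rw [hw, e, map_one])
      · rw [pow_succ, pow_mul, ← hw, sq, hZ2 w hwZ]
    rw [← zpow_add, ← orderOf_dvd_iff_zpow_eq_one, hord, pow_succ', ← two_mul] at hi
    push_cast at hi
    obtain ⟨r, hr⟩ := (mul_dvd_mul_iff_left (show (2 : ℤ) ≠ 0 by norm_num)).1 hi
    have hr' : x ^ i = w ^ r := by
      rw [hr, zpow_mul, hw]
      norm_cast
    rw [hr']
    rcases Int.even_or_odd' r with ⟨q, rfl | rfl⟩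
    · left; rw [zpow_mul, zpow_two, hZ2 w hwZ, one_zpow]
    · right; rw [zpow_add, zpow_mul, zpow_two, hZ2 w hwZ, one_zpow, one_mul, zpow_one]
  have hQx : x ∈ Q := Or.inl (Subgroup.mem_zpowers x)
  have hQy : y ∈ Q := Or.inr (by rw [mul_inv_cancel]; exact one_mem _)
  have hsqy : ∀ a : S, a * y⁻¹ ∈ Subgroup.zpowers x → a * a = w := by
    rintro a ⟨j, hj⟩
    simp only at hj
    calc a * a = (a * y⁻¹) * (y * (a * y⁻¹) * y⁻¹) * (y * y) := by group
      _ = w := by rw [← hj, hconj, ← zpow_add, add_neg_cancel, zpow_zero, one_mul, hwy]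
  refine ⟨D i0, Q, ⟨le_top, le_top, fun a ha b _ => (hcenD a ha b).eq.symm, ?_, ?_⟩, ⟨⟨⟨?_⟩⟩, ?_⟩, ?_, ?_⟩
  · rw [eq_bot_iff]
    rintro a ⟨haD, haQ⟩
    have ha2 := hZ2 a (hDZ i0 haD)
    rw [Subgroup.mem_bot]
    rcases haQ with ha | ha
    · obtain ⟨i, rfl⟩ := ha
      rcases hxpow i ha2 with e | e
      · exact e
      · exact absurd (e ▸ haD) hx2
    · rw [hsqy a ha] at ha2
      exact absurd (by rw [ha2]; exact one_mem _) hx2
  · rw [Subgroup.eq_top_iff']
    intro g
    have hle1 : D i0 ≤ D i0 ⊔ Q := le_sup_left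
    have hle2 : Q ≤ D i0 ⊔ Q := le_sup_right
    obtain ⟨i, h | h⟩ := hcov g
    · have := mul_mem (hle1 h) (hle2 (zpow_mem hQx i))
      rwa [inv_mul_cancel_right] at this
    · have := mul_mem (mul_mem (hle1 h) (hle2 (zpow_mem hQx i))) (hle2 (inv_mem hQy))
      rwa [inv_mul_cancel_right, mul_inv_cancel_right] at this
  · exact fun a b => Subtype.ext (hcenD _ b.2 _).eq
  · intro a ha
    rw [sq]; exact hZ2 a (hDZ i0 ha)
  · intro h
    have h1 : x * y = y * x := congrArg Subtype.val (h.is_comm.comm (⟨x, hQx⟩ : Q) ⟨y, hQy⟩)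
    apply huZ
    exfalso
    rw [← h1, mul_inv_cancel_right] at hrel
    apply hnotcomm 0 (Nat.zero_le m)
    rw [pow_zero, pow_one]
    have h2 : x * x = 1 := by nth_rewrite 2 [hrel]; exact mul_inv_cancel x
    exact absurd (hw ▸ (show x ^ 2 ^ (m + 1) = 1 by
      rw [show 2 ^ (m + 1) = 2 * 2 ^ m by rw [pow_succ'], pow_mul, sq, h2, one_pow]))
      (fun e => hπw (by rw [e, map_one]))
  · haveI : Fact (Nat.Prime 2) := ⟨Nat.prime_two⟩
    have hw1 : w ≠ 1 := fun e => hπw (by rw [e, map_one])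
    refine ⟨⟨w, pow_mem hQx _⟩, ?_, ?_⟩
    · show orderOf _ = 2
      rw [Subgroup.orderOf_mk]
      exact orderOf_eq_prime (by rw [sq]; exact hZ2 w hwZ) hw1
    rintro ⟨a, ha⟩ hoa
    rw [Subgroup.orderOf_mk] at hoa
    apply Subtype.ext
    show a = w
    have ha2 : a * a = 1 := by rw [← sq, ← hoa, pow_orderOf_eq_one]
    rcases ha with ha | ha
    · obtain ⟨i, rfl⟩ := ha
      exact (hxpow i ha2).resolve_left (fun e => by simp only at hoa; rw [e, orderOf_one] at hoa; omega)
    · exact absurd ((hsqy a ha).symm.trans ha2) hw1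

end Cfsg.Agent.S3201
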