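import Cfsg.Statements.S3202
import Cfsg.Agent.Inv53.CentralQuaternion

set_option autoImplicit false
open Cfsg

namespace Cfsg.Agent.S3202

/-- Let S be a finite 2-group of 2-rank exactly 2 and D a maximal subgroup of the centre of S such that S/D is a non-abelian group with exactly one involution (a generalized quaternion group). Then S has a nontrivial cyclic characteristic subgroup. -/
theorem result {S : Type*} [Group S]
    [Finite S] (hS : IsPGroup 2 S) (hr2 : Cfsg.PRankLE 2 2 S) (hr1 : ¬ Cfsg.PRankLE 2 1 S)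
    (D : Subgroup ↥(Subgroup.center S)) (hD : IsCoatom D)
    (hq : ∃ (_ : (D.map (Subgroup.center S).subtype).Normal),
      ¬ IsMulCommutative (S ⧸ D.map (Subgroup.center S).subtype) ∧
      ∃! x : S ⧸ D.map (Subgroup.center S).subtype, orderOf x = 2) :
    ∃ C : Subgroup S, C ≠ ⊥ ∧ IsCyclic ↥C ∧ C.Characteristic := by
  obtain ⟨hn, hna, hu⟩ := hq
  set D' := D.map (Subgroup.center S).subtype with hD'
  have hD'Z : D' ≤ Subgroup.center S := Subgroup.map_subtype_le _
  obtain ⟨x, y, m, hx4, hx2, hyx, -, hcov, -⟩ :=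
    CfsgLib.Inv53.exists_lift_data hS D' hD'Z hna hu
  have hcenD : ∀ d ∈ D', ∀ g : S, Commute g d := fun d hd g => Subgroup.mem_center_iff.1 (hD'Z hd) g
  obtain ⟨d, hd, hyxd⟩ : ∃ d ∈ D', y * x * y⁻¹ = d * x⁻¹ :=
    ⟨_, hyx, (mul_inv_cancel_right _ _).symm⟩
  set k := y * x * y⁻¹ * x⁻¹ with hk
  have hkd : k = d * (x⁻¹ * x⁻¹) := by rw [hk, hyxd, mul_assoc]
  have hxk : Commute x k := by
    rw [hkd]
    exact (hcenD d hd x).mul_right ((Commute.refl x).inv_right.mul_right (Commute.refl x).inv_right)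
  have hyk : y * k * y⁻¹ = k⁻¹ := by
    have h1 : y * d * y⁻¹ = d := mul_inv_eq_iff_eq_mul.2 (hcenD d hd y).eq
    have h2 : y * x⁻¹ * y⁻¹ = x * d⁻¹ := by rw [← conj_inv, hyxd, mul_inv_rev, inv_inv]
    have h3 : Commute x d⁻¹ := (hcenD d hd x).inv_right
    calc y * k * y⁻¹ = (y * d * y⁻¹) * ((y * x⁻¹ * y⁻¹) * (y * x⁻¹ * y⁻¹)) := by rw [hkd]; group
      _ = d * ((x * d⁻¹) * (x * d⁻¹)) := by rw [h1, h2]
      _ = ((x * d⁻¹) * (x * d⁻¹)) * d := (hcenD d hd _).eq.symm
      _ = x * (d⁻¹ * x) := by group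
      _ = x * (x * d⁻¹) := by rw [h3.eq]
      _ = k⁻¹ := by rw [hkd, mul_inv_rev, mul_inv_rev, inv_inv, mul_assoc]
  set C := Subgroup.zpowers k with hC
  have hCy : y ∈ Subgroup.normalizer (C : Set S) := by
    rw [Subgroup.mem_normalizer_iff]
    intro z
    constructor
    · rintro ⟨i, rfl⟩
      refine ⟨-i, ?_⟩
      show k ^ (-i) = y * k ^ i * y⁻¹
      rw [← conj_zpow, hyk, inv_zpow']
    · rintro ⟨i, hi⟩
      refine ⟨-i, ?_⟩
      simp only at hi ⊢
      have h1 : y * k ^ (-i) * y⁻¹ = y * z * y⁻¹ := by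
        rw [← conj_zpow, hyk, inv_zpow', neg_neg, hi]
      exact mul_left_cancel (mul_right_cancel h1)
  have hgen : ∀ H : Subgroup S, D' ≤ H → x ∈ H → y ∈ H → ∀ g, g ∈ H := by
    intro H hDH hxH hyH g
    obtain ⟨i, h | h⟩ := hcov g
    · have := H.mul_mem (hDH h) (H.zpow_mem hxH i)
      rwa [inv_mul_cancel_right] at this
    · have := H.mul_mem (H.mul_mem (hDH h) (H.zpow_mem hxH i)) (H.inv_mem hyH)
      rwa [inv_mul_cancel_right, mul_inv_cancel_right] at this
  haveI hCn : C.Normal := by
    rw [← Subgroup.normalizer_eq_top_iff, Subgroup.eq_top_iff']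
    refine hgen _ ?_ ?_ hCy
    · intro e he
      apply Subgroup.centralizer_le_normalizer
      exact Subgroup.mem_centralizer_iff.2 fun c _ => hcenD e he c
    · apply Subgroup.centralizer_le_normalizer
      refine Subgroup.mem_centralizer_iff.2 fun c hc => ?_
      obtain ⟨i, rfl⟩ := hc
      exact ((hxk.zpow_right i).eq).symm
  have hxy : (QuotientGroup.mk' C x) * (QuotientGroup.mk' C y) =
      QuotientGroup.mk' C y * QuotientGroup.mk' C x := by
    symm
    rw [← map_mul, ← map_mul]
    have h1 : k * (x * y) = y * x := by rw [hk]; group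
    rw [← h1, map_mul]
    have h2 : QuotientGroup.mk' C k = 1 := (QuotientGroup.eq_one_iff k).2 (Subgroup.mem_zpowers k)
    rw [h2, one_mul]
  have hcomm : ∀ g h : S, Commute (QuotientGroup.mk' C g) (QuotientGroup.mk' C h) := by
    have hx' : ∀ g, g ∈ (Subgroup.centralizer ({QuotientGroup.mk' C x} : Set (S ⧸ C))).comap
        (QuotientGroup.mk' C) := by
      refine hgen _ (fun e he => ?_) ?_ ?_
      · rw [Subgroup.mem_comap, Subgroup.mem_centralizer_singleton_iff, ← map_mul, ← map_mul,
          (hcenD e he x).eq]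
      · rw [Subgroup.mem_comap, Subgroup.mem_centralizer_singleton_iff]
      · rw [Subgroup.mem_comap, Subgroup.mem_centralizer_singleton_iff]; exact hxy.symm
    have hy' : ∀ g, g ∈ (Subgroup.centralizer ({QuotientGroup.mk' C y} : Set (S ⧸ C))).comap
        (QuotientGroup.mk' C) := by
      refine hgen _ (fun e he => ?_) ?_ ?_
      · rw [Subgroup.mem_comap, Subgroup.mem_centralizer_singleton_iff, ← map_mul, ← map_mul,
          (hcenD e he y).eq]
      · rw [Subgroup.mem_comap, Subgroup.mem_centralizer_singleton_iff]; exact hxy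
      · rw [Subgroup.mem_comap, Subgroup.mem_centralizer_singleton_iff]
    intro g
    have hg : ∀ h, h ∈ (Subgroup.centralizer ({QuotientGroup.mk' C g} : Set (S ⧸ C))).comap
        (QuotientGroup.mk' C) := by
      refine hgen _ (fun e he => ?_) ?_ ?_
      · rw [Subgroup.mem_comap, Subgroup.mem_centralizer_singleton_iff, ← map_mul, ← map_mul,
          (hcenD e he g).eq]
      · rw [Subgroup.mem_comap, Subgroup.mem_centralizer_singleton_iff]
        exact (Subgroup.mem_centralizer_singleton_iff.1 (hx' g)).symm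
      · rw [Subgroup.mem_comap, Subgroup.mem_centralizer_singleton_iff]
        exact (Subgroup.mem_centralizer_singleton_iff.1 (hy' g)).symm
    exact fun h => (Subgroup.mem_centralizer_singleton_iff.1 (hg h)).symm
  have hCc : C = commutator S := by
    refine le_antisymm (Subgroup.zpowers_le.2 ?_) ?_
    · exact Subgroup.commutator_mem_commutator (Subgroup.mem_top y) (Subgroup.mem_top x)
    · rw [commutator_def, Subgroup.commutator_le]
      intro g _ h _
      refine (QuotientGroup.eq_one_iff _).1 ?_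
      show QuotientGroup.mk' C _ = 1
      rw [map_commutatorElement]
      exact commutatorElement_eq_one_iff_commute.2 (hcomm g h)
  refine ⟨C, ?_, inferInstance, ?_⟩
  · rw [Ne, hC, Subgroup.zpowers_eq_bot]
    intro hk1
    apply hx2
    rw [hkd] at hk1
    have h2 : x ^ 2 ∈ D' := by
      have : x ^ 2 = d := by
        rw [eq_comm, ← mul_inv_eq_one, sq, mul_inv_rev]
        exact hk1
      rw [this]; exact hd
    rw [show 2 ^ (m + 1) = 2 * 2 ^ m by rw [pow_succ'], pow_mul]
    exact D'.pow_mem h2 _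
  · rw [hCc]; infer_instance

end Cfsg.Agent.S3202
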