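import Cfsg.Statements.S3203
import Cfsg.Agent.Inv53.Basic

set_option autoImplicit false
open Cfsg

namespace Cfsg.Agent.S3203

open CfsgLib.Inv53 in
theorem prod_swap {S : Type*} [Group S] (A B : Subgroup S)
    (h : ∀ s : S, ∃ a ∈ A, ∃ b ∈ B, a * b = s) : ∀ s : S, ∃ b ∈ B, ∃ a ∈ A, b * a = s := by
  intro s
  obtain ⟨a, ha, b, hb, hab⟩ := h s⁻¹
  exact ⟨b⁻¹, inv_mem hb, a⁻¹, inv_mem ha, by rw [← mul_inv_rev, hab, inv_inv]⟩

open CfsgLib.Inv53 in
theorem main {G : Type*} [Group G] [Finite G] [Fact (Nat.Prime 2)] (S : Sylow 2 G)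
    (A B : Subgroup ↥(S : Subgroup G)) (hAB : A ≠ B)
    (hA : Cfsg.IsElementaryAbelian 2 A ∧ ∀ C : Subgroup ↥(S : Subgroup G), Cfsg.IsElementaryAbelian 2 C → A ≤ C → C = A)
    (hB : Cfsg.IsElementaryAbelian 2 B ∧ ∀ C : Subgroup ↥(S : Subgroup G), Cfsg.IsElementaryAbelian 2 C → B ≤ C → C = B)
    (honly : ∀ C : Subgroup ↥(S : Subgroup G), Cfsg.IsElementaryAbelian 2 C →
      (∀ D : Subgroup ↥(S : Subgroup G), Cfsg.IsElementaryAbelian 2 D → C ≤ D → D = C) → C = A ∨ C = B)
    (hprod : ∀ s : ↥(S : Subgroup G), ∃ a ∈ A, ∃ b ∈ B, a * b = s)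
    (A' : Subgroup G) (hA' : A' = A.map (S : Subgroup G).subtype) :
    Cfsg.IsWeaklyClosed A' (S : Subgroup G) ∧
      Subgroup.normalizer ((S : Subgroup G) : Set G) ≤ Subgroup.normalizer (A' : Set G) := by
  subst hA'
  set A' : Subgroup G := A.map (S : Subgroup G).subtype with hA'
  -- elementary abelian subgroups of `G`, as predicates
  let EA : Subgroup G → Prop := fun C => (∀ a ∈ C, ∀ b ∈ C, a * b = b * a) ∧ ∀ a ∈ C, a ^ 2 = 1
  have toEA : ∀ C : Subgroup ↥(S : Subgroup G), Cfsg.IsElementaryAbelian 2 C →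
      EA (C.map (S : Subgroup G).subtype) := by
    rintro C ⟨hc, hsq⟩
    refine ⟨?_, ?_⟩
    · rintro _ ⟨a, ha, rfl⟩ _ ⟨b, hb, rfl⟩
      exact congrArg (fun z : C => ((z : ↥(S : Subgroup G)) : G)) (hc.is_comm.comm ⟨a, ha⟩ ⟨b, hb⟩)
    · rintro _ ⟨a, ha, rfl⟩
      rw [← map_pow, hsq a ha, map_one]
  have ofEA : ∀ C : Subgroup G, EA C →
      Cfsg.IsElementaryAbelian 2 (C.subgroupOf (S : Subgroup G)) := by
    rintro C ⟨hc, hsq⟩
    exact ⟨⟨⟨fun a b => Subtype.ext (Subtype.ext (hc _ a.2 _ b.2))⟩⟩,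
      fun a ha => Subtype.ext (hsq _ ha)⟩
  have eaConj : ∀ (C : Subgroup G) (g : G), EA C → EA (C.map (MulAut.conj g).toMonoidHom) := by
    rintro C g ⟨hc, hsq⟩
    refine ⟨?_, ?_⟩
    · rintro _ ⟨a, ha, rfl⟩ _ ⟨b, hb, rfl⟩
      rw [← map_mul, ← map_mul, hc a ha b hb]
    · rintro _ ⟨a, ha, rfl⟩
      rw [← map_pow, hsq a ha, map_one]
  set B' : Subgroup G := B.map (S : Subgroup G).subtype with hB'
  have hA'S : A' ≤ (S : Subgroup G) := Subgroup.map_subtype_le _
  have hB'S : B' ≤ (S : Subgroup G) := Subgroup.map_subtype_le _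
  have hAB' : A' ≠ B' := fun h => hAB (Subgroup.map_injective (S : Subgroup G).subtype_injective h)
  have maxA : ∀ C : Subgroup G, EA C → C ≤ (S : Subgroup G) → A' ≤ C → C = A' := by
    intro C hC hCS hle
    have := hA.2 _ (ofEA C hC) (fun a ha => hle ⟨a, ha, rfl⟩)
    rw [hA', ← this, Subgroup.map_subgroupOf_eq_of_le hCS]
  have maxB : ∀ C : Subgroup G, EA C → C ≤ (S : Subgroup G) → B' ≤ C → C = B' := by
    intro C hC hCS hle
    have := hB.2 _ (ofEA C hC) (fun a ha => hle ⟨a, ha, rfl⟩)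
    rw [hB', ← this, Subgroup.map_subgroupOf_eq_of_le hCS]
  have only' : ∀ C : Subgroup G, EA C → C ≤ (S : Subgroup G) → C ≤ A' ∨ C ≤ B' := by
    intro C hC hCS
    obtain ⟨M, hCM, hM⟩ := (Set.toFinite {D : Subgroup ↥(S : Subgroup G) |
      Cfsg.IsElementaryAbelian 2 D ∧ C.subgroupOf (S : Subgroup G) ≤ D}).exists_le_maximal
      (a := C.subgroupOf (S : Subgroup G)) ⟨ofEA C hC, le_rfl⟩
    have hsub : C ≤ M.map (S : Subgroup G).subtype := fun c hc => ⟨⟨c, hCS hc⟩, hCM hc, rfl⟩
    rcases honly M hM.1.1 (fun D hD hle => le_antisymm (hM.2 ⟨hD, hM.1.2.trans hle⟩ hle) hle) with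
      h | h
    · subst h; exact Or.inl hsub
    · subst h; exact Or.inr hsub
  -- conjugates by elements of `N(S)` permute `A'` and `B'`
  have perm : ∀ n ∈ Subgroup.normalizer ((S : Subgroup G) : Set G), ∀ C, (C = A' ∨ C = B') →
      C.map (MulAut.conj n).toMonoidHom = A' ∨ C.map (MulAut.conj n).toMonoidHom = B' := by
    intro n hn C hC
    have hCS : C ≤ (S : Subgroup G) := by rcases hC with rfl | rfl <;> assumption
    have hEA : EA C := by rcases hC with rfl | rfl <;> [exact toEA A hA.1; exact toEA B hB.1]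
    have hmax : ∀ D : Subgroup G, EA D → D ≤ (S : Subgroup G) → C ≤ D → D = C := by
      rcases hC with rfl | rfl <;> assumption
    have hS' : ∀ (m : G), m ∈ Subgroup.normalizer ((S : Subgroup G) : Set G) →
        ∀ D : Subgroup G, D ≤ (S : Subgroup G) → D.map (MulAut.conj m).toMonoidHom ≤ (S : Subgroup G) :=
      fun m hm D hD => (map_conj_mono hD m).trans (mem_normalizer_iff_map_conj.1 hm).le
    set C' := C.map (MulAut.conj n).toMonoidHom with hC'
    have hback : C'.map (MulAut.conj n⁻¹).toMonoidHom = C := by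
      rw [map_conj_map_conj, inv_mul_cancel, map_conj_one]
    have fwd : ∀ X : Subgroup G, EA X → X ≤ (S : Subgroup G) → C' ≤ X → C' = X := by
      intro X hX hXS hle
      have h1 := map_conj_mono hle n⁻¹
      rw [hback] at h1
      have h2 := hmax _ (eaConj X n⁻¹ hX) (hS' _ (inv_mem hn) X hXS) h1
      rw [hC', ← h2, map_conj_map_conj, mul_inv_cancel, map_conj_one]
    rcases only' C' (eaConj C n hEA) (hS' n hn C hCS) with h | h
    · exact Or.inl (fwd A' (toEA A hA.1) hA'S h)
    · exact Or.inr (fwd B' (toEA B hB.1) hB'S h)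
  have fixA : ∀ a ∈ A', A'.map (MulAut.conj a).toMonoidHom = A' := fun a ha =>
    mem_normalizer_iff_map_conj.1 (Subgroup.le_normalizer ha)
  have fixB : ∀ b ∈ B', B'.map (MulAut.conj b).toMonoidHom = B' := fun b hb =>
    mem_normalizer_iff_map_conj.1 (Subgroup.le_normalizer hb)
  -- `S` fixes `A'`
  have hSA : ∀ s ∈ (S : Subgroup G), A'.map (MulAut.conj s).toMonoidHom = A' := by
    intro s hs
    obtain ⟨a, ha, b, hb, hab⟩ := hprod ⟨s, hs⟩
    have hbn : (b : G) ∈ Subgroup.normalizer ((S : Subgroup G) : Set G) := Subgroup.le_normalizer b.2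
    have hb' : A'.map (MulAut.conj (b : G)).toMonoidHom = A' := by
      rcases perm _ hbn A' (Or.inl rfl) with h | h
      · exact h
      · exfalso
        apply hAB'
        have h1 := fixB _ ⟨b, hb, rfl⟩
        exact Subgroup.map_injective (MulAut.conj (b : G)).injective (h.trans h1.symm)
    have hs' : s = (a : G) * (b : G) := (congrArg Subtype.val hab).symm
    rw [hs', ← map_conj_map_conj, hb']
    exact fixA _ ⟨a, ha, rfl⟩
  have hNA : ∀ n ∈ Subgroup.normalizer ((S : Subgroup G) : Set G),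
      A'.map (MulAut.conj n).toMonoidHom = A' := by
    intro n hn
    by_contra hne
    have hnA : A'.map (MulAut.conj n).toMonoidHom = B' := (perm n hn A' (Or.inl rfl)).resolve_left hne
    have hnB : B'.map (MulAut.conj n).toMonoidHom = A' := by
      rcases perm n hn B' (Or.inr rfl) with h | h
      · exact h
      · exact absurd (Subgroup.map_injective (MulAut.conj n).injective (hnA.trans h.symm)) hAB'
    have hpow : ∀ k : ℕ, A'.map (MulAut.conj (n ^ (2 * k + 1))).toMonoidHom = B' := by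
      intro k
      induction k with
      | zero => simpa using hnA
      | succ k ih =>
        rw [show 2 * (k + 1) + 1 = 1 + (1 + (2 * k + 1)) by ring, pow_add, pow_add, pow_one,
          ← map_conj_map_conj, ← map_conj_map_conj, ih, hnB, hnA]
    haveI : ((S : Subgroup G).subgroupOf (Subgroup.normalizer ((S : Subgroup G) : Set G))).Normal :=
      Subgroup.normal_subgroupOf_iff_le_normalizer Subgroup.le_normalizer |>.2 le_rfl
    set d := ((S : Subgroup G).subgroupOf (Subgroup.normalizer ((S : Subgroup G) : Set G))).index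
      with hd
    have hd2 : ¬ 2 ∣ d := fun h => S.not_dvd_index
      (h.trans (Subgroup.relIndex_dvd_index_of_le Subgroup.le_normalizer))
    obtain ⟨k, hk⟩ : ∃ k, d = 2 * k + 1 :=
      ⟨d / 2, by omega⟩
    have hmem : n ^ d ∈ (S : Subgroup G) := by
      have := ((S : Subgroup G).subgroupOf (Subgroup.normalizer ((S : Subgroup G) : Set G))).pow_index_mem
        ⟨n, hn⟩
      exact this
    have h1 := hSA _ hmem
    rw [hk, hpow k] at h1
    exact hAB' h1.symm
  refine ⟨⟨hA'S, fun g hg => ?_⟩, fun n hn => mem_normalizer_iff_map_conj.2 (hNA n hn)⟩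
  have hSN : (S : Subgroup G) ≤ Subgroup.normalizer (A' : Set G) := fun s hs =>
    mem_normalizer_iff_map_conj.2 (hSA s hs)
  rcases only' _ (eaConj A' g (toEA A hA.1)) hg with h | h
  · exact Subgroup.eq_of_le_of_card_ge h (card_map_conj g A').ge
  rcases eq_or_lt_of_le h with he | hlt
  · exfalso
    -- `B'` is conjugate to `A'`; both are normal in `S`, so conjugate in `N(S)`
    have hBn : (S : Subgroup G) ≤ Subgroup.normalizer (B' : Set G) := by
      intro s hs
      rw [mem_normalizer_iff_map_conj]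
      rcases perm s (Subgroup.le_normalizer hs) B' (Or.inr rfl) with h' | h'
      · exact absurd (Subgroup.map_injective (MulAut.conj s).injective ((hSA s hs).trans h'.symm)) hAB'
      · exact h'
    have hgS : (S : Subgroup G).map (MulAut.conj g).toMonoidHom ≤ Subgroup.normalizer (B' : Set G) := by
      rintro _ ⟨s, hs, rfl⟩
      rw [mem_normalizer_iff_map_conj, ← he, map_conj_map_conj]
      show A'.map (MulAut.conj (g * s * g⁻¹ * g)).toMonoidHom = _
      rw [inv_mul_cancel_right, ← map_conj_map_conj, hSA s hs]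
    obtain ⟨k, hk, hle⟩ := exists_conj_le_of_pGroup S.isPGroup' hBn
      (fun h => S.not_dvd_index (h.trans (Subgroup.relIndex_dvd_index_of_le hBn)))
      (S.isPGroup'.map (MulAut.conj g).toMonoidHom) hgS
    rw [map_conj_map_conj] at hle
    have hkg : k * g ∈ Subgroup.normalizer ((S : Subgroup G) : Set G) :=
      mem_normalizer_iff_map_conj.2 (Subgroup.eq_of_le_of_card_ge hle (card_map_conj _ _).ge)
    have h1 := hNA _ hkg
    rw [← map_conj_map_conj, he, mem_normalizer_iff_map_conj.1 hk] at h1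
    exact hAB' h1.symm
  · exfalso
    -- `B'` centralises the conjugate, so a conjugate of `B'` lies in `S` above `A'`
    set C := B'.map (MulAut.conj g⁻¹).toMonoidHom with hC
    have hCEA : EA C := eaConj B' g⁻¹ (toEA B hB.1)
    have hAC : A' < C := by
      have h1 := map_conj_mono hlt.le g⁻¹
      rw [map_conj_map_conj, inv_mul_cancel, map_conj_one] at h1
      refine lt_of_le_of_ne h1 fun heq => hlt.ne ?_
      rw [heq, hC, map_conj_map_conj, mul_inv_cancel, map_conj_one]
    set K := Subgroup.centralizer (A' : Set G) with hK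
    have hCK : C ≤ K := fun c hc =>
      Subgroup.mem_centralizer_iff.2 fun a ha => hCEA.1 a (hAC.le ha) c hc
    have hKle : K ≤ Subgroup.normalizer (A' : Set G) := Subgroup.centralizer_le_normalizer _
    have hmaxK : ¬ 2 ∣ ((S : Subgroup G) ⊓ K).relIndex K :=
      not_dvd_relIndex_inf S hSN hKle
        ((Subgroup.normal_subgroupOf_iff_le_normalizer hKle).1
          (Subgroup.normal_subgroupOf_centralizer_normalizer (A' : Set G)))
    obtain ⟨k, hk, hle⟩ := exists_conj_le_of_pGroup (S.isPGroup'.to_le inf_le_left) inf_le_right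
      hmaxK (fun c => ⟨1, Subtype.ext (by simpa using hCEA.2 c c.2)⟩) hCK
    have hAfix : A'.map (MulAut.conj k).toMonoidHom = A' := mem_normalizer_iff_map_conj.1 (hKle hk)
    have h1 := map_conj_mono hAC.le k
    rw [hAfix] at h1
    have h2 := maxA _ (eaConj C k hCEA) (hle.trans inf_le_left) h1
    rw [← hAfix] at h2
    exact hAC.ne (Subgroup.map_injective (MulAut.conj k).injective h2).symm


/-- Let S be a Sylow 2-subgroup of a finite group G having exactly two subgroups A ≠ B that are maximal among its elementary abelian subgroups, with S = AB. Then A and B are each weakly closed in S with respect to G, and the normalizer of S normalizes both A and B. -/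
theorem result {G : Type*} [Group G] [Finite G] (S : Sylow 2 G)
    (A B : Subgroup ↥(S : Subgroup G)) (hAB : A ≠ B)
    (hA : Cfsg.IsElementaryAbelian 2 A ∧ ∀ C : Subgroup ↥(S : Subgroup G), Cfsg.IsElementaryAbelian 2 C → A ≤ C → C = A)
    (hB : Cfsg.IsElementaryAbelian 2 B ∧ ∀ C : Subgroup ↥(S : Subgroup G), Cfsg.IsElementaryAbelian 2 C → B ≤ C → C = B)
    (honly : ∀ C : Subgroup ↥(S : Subgroup G), Cfsg.IsElementaryAbelian 2 C →
      (∀ D : Subgroup ↥(S : Subgroup G), Cfsg.IsElementaryAbelian 2 D → C ≤ D → D = C) → C = A ∨ C = B)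
    (hprod : ∀ s : ↥(S : Subgroup G), ∃ a ∈ A, ∃ b ∈ B, a * b = s)
    (A' B' : Subgroup G) (hA' : A' = A.map (S : Subgroup G).subtype) (hB' : B' = B.map (S : Subgroup G).subtype) :
    Cfsg.IsWeaklyClosed A' (S : Subgroup G) ∧ Cfsg.IsWeaklyClosed B' (S : Subgroup G) ∧
      Subgroup.normalizer ((S : Subgroup G) : Set G) ≤ Subgroup.normalizer (A' : Set G) ⊓ Subgroup.normalizer (B' : Set G) := by
  haveI : Fact (Nat.Prime 2) := ⟨Nat.prime_two⟩
  exact ⟨(main S A B hAB hA hB honly hprod A' hA').1,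
    (main S B A hAB.symm hB hA (fun C h1 h2 => (honly C h1 h2).symm) (prod_swap A B hprod) B' hB').1,
    le_inf (main S A B hAB hA hB honly hprod A' hA').2
      (main S B A hAB.symm hB hA (fun C h1 h2 => (honly C h1 h2).symm) (prod_swap A B hprod) B' hB').2⟩

end Cfsg.Agent.S3203
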