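import Cfsg.Statements.S3206
import Cfsg.Agent.Inv53.PSLTwoAbelian
import Cfsg.Agent.Inv53.AbelianEight
-- import your own Cfsg.Agent.* helpers here

set_option autoImplicit false
set_option linter.style.haveILetI false
open Cfsg

namespace Cfsg.Agent.S3206

open Subgroup
open scoped commutatorElement

/-- `PSL₂` transported: properties of a group isomorphic to `PSL₂(q)`. -/
theorem aux_transport {M : Type*} [Group M] [Finite M] {F : Type*} [Field F] [Fintype F]
    (hF : Odd (Fintype.card F)) (hF3 : 3 < Fintype.card F)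
    (e : M ≃* Matrix.ProjectiveSpecialLinearGroup (Fin 2) F)
    (hab : ∀ V : Sylow 2 M, IsMulCommutative (V : Subgroup M)) (V : Sylow 2 M) :
    IsSimpleGroup M ∧ ¬ IsMulCommutative M ∧ Nat.card (V : Subgroup M) = 4 ∧
      (∀ v ∈ V, v * v = 1) ∧
      ∀ (α : MulAut M) (k : ℕ), α ^ 2 ^ k = 1 → (∀ v ∈ V, α v = v) →
        ∃ x ∈ V, α = MulAut.conj x := by
  haveI : Fact (Nat.Prime 2) := ⟨Nat.prime_two⟩
  haveI hPsimple : IsSimpleGroup (Matrix.ProjectiveSpecialLinearGroup (Fin 2) F) :=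
    CfsgLib.Linear.isSimpleGroup_PSL_of 2 le_rfl (fun _ => by omega)
  have habP : ∀ S : Sylow 2 (Matrix.ProjectiveSpecialLinearGroup (Fin 2) F),
      IsMulCommutative (S : Subgroup (Matrix.ProjectiveSpecialLinearGroup (Fin 2) F)) := by
    intro S
    refine ⟨⟨fun a b => Subtype.ext ?_⟩⟩
    let S' : Sylow 2 M := S.mapSurjective (f := e.symm.toMonoidHom) e.symm.surjective
    have hmem : ∀ c ∈ S, e.symm c ∈ S' := fun c hc => by
      change e.symm c ∈ (S' : Subgroup M)
      exact ⟨c, hc, rfl⟩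
    apply e.symm.injective
    change e.symm ((a : Matrix.ProjectiveSpecialLinearGroup (Fin 2) F) * b) = e.symm (b * a)
    rw [map_mul, map_mul]
    exact congrArg Subtype.val ((hab S').is_comm.comm ⟨_, hmem a a.2⟩ ⟨_, hmem b b.2⟩)
  let W : Sylow 2 (Matrix.ProjectiveSpecialLinearGroup (Fin 2) F) :=
    V.mapSurjective (f := e.toMonoidHom) e.surjective
  have hW : ∀ c : M, e c ∈ W ↔ c ∈ V := fun c => by
    change e c ∈ (W : Subgroup (Matrix.ProjectiveSpecialLinearGroup (Fin 2) F)) ↔ _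
    exact ⟨fun ⟨d, hd, hde⟩ => e.injective hde ▸ hd, fun h => ⟨c, h, rfl⟩⟩
  obtain ⟨h4, u, w, hu, hw, hu1, hw1, huw, hc, hmem⟩ := CfsgLib.Inv53.psl2_sylow_four hF habP W
  have h4' : Nat.card (V : Subgroup M) = 4 := by
    rw [← h4]
    exact Nat.card_congr ⟨fun v => ⟨e v.1, (hW v.1).2 v.2⟩, fun v => ⟨e.symm v.1, (hW _).1 (by
      rw [e.apply_symm_apply]; exact v.2)⟩, fun v => Subtype.ext (e.symm_apply_apply _),
      fun v => Subtype.ext (e.apply_symm_apply _)⟩
  haveI : Nontrivial M := e.toEquiv.nontrivial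
  refine ⟨IsSimpleGroup.isSimpleGroup_of_surjective e.symm.toMonoidHom e.symm.surjective, fun hcom => ?_, h4', ?_, ?_⟩
  · -- an abelian simple group has prime order
    haveI := hcom
    haveI : IsSimpleGroup M :=
      IsSimpleGroup.isSimpleGroup_of_surjective e.symm.toMonoidHom e.symm.surjective
    have hcl : (Subgroup.zpowers (e.symm u)).Normal := Subgroup.normal_of_isMulCommutative _
    rcases hcl.eq_bot_or_eq_top with h | h
    · rw [Subgroup.zpowers_eq_bot] at h
      exact hu1 (by rw [← e.apply_symm_apply u, h, map_one])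
    · have h2 : Nat.card (Subgroup.zpowers (e.symm u)) ∣ 2 := by
        rw [Nat.card_zpowers]
        exact orderOf_dvd_of_pow_eq_one (by rw [← map_pow, pow_two, hu, map_one])
      rw [h, Subgroup.card_top] at h2
      have := Nat.le_of_dvd two_pos h2
      have := h4' ▸ Subgroup.card_le_card_group (V : Subgroup M)
      omega
  · intro v hv
    apply e.injective
    rw [map_mul, map_one]
    rcases (hmem _).1 ((hW v).2 hv) with h | h | h | h <;> rw [h]
    · exact one_mul 1
    · exact hu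
    · exact hw
    · rw [← mul_assoc, mul_assoc u w u, ← hc, ← mul_assoc, hu, one_mul, hw]
  · intro α k hk hfix
    let β : MulAut (Matrix.ProjectiveSpecialLinearGroup (Fin 2) F) := MulAut.congr e α
    have hβ : ∀ c, β c = e (α (e.symm c)) := fun c => rfl
    have hβk : β ^ 2 ^ k = 1 := by
      change (MulAut.congr e α) ^ 2 ^ k = 1
      rw [← map_pow, hk, map_one]
    obtain ⟨x, hx, hxe⟩ := CfsgLib.Inv53.psl2_two_auto_inner hF habP W β hβk (fun c hc => by
      rw [hβ, hfix _ ((hW _).1 (by rw [e.apply_symm_apply]; exact hc)), e.apply_symm_apply])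
    refine ⟨e.symm x, (hW _).1 (by rw [e.apply_symm_apply]; exact hx), ?_⟩
    ext c
    apply e.injective
    have := hβ (e c)
    rw [hxe, e.symm_apply_apply] at this
    rw [← this]
    simp [MulAut.conj_apply]

variable {G : Type*} [Group G] [Finite G] [IsSimpleGroup G]

/-- The common set-up: the Sylow 2-subgroup `⟨t⟩ × V` and the facts used by both parts. -/
structure Setting (t : G) (C M : Subgroup G) (S : Sylow 2 G) : Prop where
  C_eq : C = Subgroup.centralizer ({t} : Set G)
  t_mem : t ∈ S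
  S_le : (S : Subgroup G) ≤ C
  card_eq : Nat.card (S : Subgroup G) = 8
  sq_one : ∀ s ∈ S, s * s = 1
  M_le : M ≤ C
  M_norm : ∀ c ∈ C, ∀ n ∈ M, c * n * c⁻¹ ∈ M
  M_cent : ∀ c ∈ C, (∀ n ∈ M, c * n = n * c) → c = 1 ∨ c = t
  M_simple : IsSimpleGroup M
  M_auto : ∀ (α : MulAut M) (k : ℕ), α ^ 2 ^ k = 1 →
    (∀ v : M, (v : G) ∈ S → α v = v) → ∃ x : M, (x : G) ∈ S ∧ α = MulAut.conj x
  M_inv : ∃ v : M, (v : G) ∈ S ∧ v ≠ 1
  exists_r : ∃ r ∈ Subgroup.normalizer ((S : Subgroup G) : Set G), r ∈ C ∧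
    ∀ s ∈ S, Commute r s → s = 1 ∨ s = t

theorem setting {G : Type*} [Group G] [Finite G]
    (hab : ∀ S : Sylow 2 G, IsMulCommutative ↥(S : Subgroup G))
    (t : G) (ht : orderOf t = 2)
    (E : Subgroup G) (hE : Cfsg.IsInternalDirectProduct (Subgroup.zpowers t) E (Subgroup.centralizer ({t} : Set G)))
    {F : Type*} [Field F] [Fintype F] (hFo : Odd (Fintype.card F)) (hF3 : 3 < Fintype.card F)
    (N : Subgroup ↥E) [N.Normal] (hN : Nonempty (↥N ≃* Matrix.ProjectiveSpecialLinearGroup (Fin 2) F))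
    (hNc : Subgroup.centralizer (N : Set ↥E) = ⊥) :
    ∃ (S : Sylow 2 G), Setting t (Subgroup.centralizer ({t} : Set G)) (N.map E.subtype) S := by
  haveI : Fact (Nat.Prime 2) := ⟨Nat.prime_two⟩
  obtain ⟨hzC, hEC, hcomm, -, hsup⟩ := hE
  let C := Subgroup.centralizer ({t} : Set G)
  let M : Subgroup G := N.map E.subtype
  obtain ⟨e₀⟩ := hN
  let ι : ↥N ≃* ↥M := Subgroup.equivMapOfInjective N E.subtype E.subtype_injective
  let e : ↥M ≃* Matrix.ProjectiveSpecialLinearGroup (Fin 2) F := ι.symm.trans e₀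
  have hMmem : ∀ n : G, n ∈ M ↔ ∃ h : n ∈ E, (⟨n, h⟩ : E) ∈ N := by
    intro n
    constructor
    · rintro ⟨m, hm, rfl⟩
      exact ⟨m.2, hm⟩
    · rintro ⟨h, hm⟩
      exact ⟨⟨n, h⟩, hm, rfl⟩
  have hME : M ≤ E := fun n hn => ((hMmem n).1 hn).1
  have hMC : M ≤ C := hME.trans hEC
  have hCt : ∀ c ∈ C, c * t = t * c := fun c hc =>
    (Subgroup.mem_centralizer_iff.1 hc t rfl).symm
  have ht2 : t * t = 1 := by rw [← pow_two, ← ht, pow_orderOf_eq_one]
  have ht1 : t ≠ 1 := fun h => by rw [h, orderOf_one] at ht; omega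
  have hzp : ∀ z ∈ Subgroup.zpowers t, z = 1 ∨ z = t := by
    intro z hz
    obtain ⟨i, rfl⟩ := Subgroup.mem_zpowers_iff.1 hz
    rcases Int.even_or_odd' i with ⟨j, rfl | rfl⟩
    · left; rw [zpow_mul, zpow_two, ht2, _root_.one_zpow]
    · right; rw [zpow_add, zpow_mul, zpow_two, ht2, _root_.one_zpow, zpow_one, one_mul]
  have hCdec : ∀ c ∈ C, ∃ a, (a = 1 ∨ a = t) ∧ ∃ b ∈ E, c = a * b := by
    intro c hc
    have hnorm : E ≤ Subgroup.normalizer (Subgroup.zpowers t : Set G) := by
      intro b hb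
      rw [Subgroup.mem_normalizer_iff]
      intro a
      constructor
      · intro ha
        rw [← hcomm a ha b hb, mul_inv_cancel_right]
        exact ha
      · intro ha
        have h := hcomm _ ha b hb
        rw [inv_mul_cancel_right] at h
        rw [mul_left_cancel h]
        exact ha
    have hc' : c ∈ (↑(Subgroup.zpowers t ⊔ E) : Set G) := by rw [hsup]; exact hc
    rw [Subgroup.coe_mul_of_right_le_normalizer_left _ _ hnorm] at hc'
    obtain ⟨a, ha, b, hb, rfl⟩ := Set.mem_mul.1 hc'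
    exact ⟨a, hzp a ha, b, hb, rfl⟩
  have hMnorm : ∀ c ∈ C, ∀ n ∈ M, c * n * c⁻¹ ∈ M := by
    intro c hc n hn
    obtain ⟨a, ha, b, hb, rfl⟩ := hCdec c hc
    obtain ⟨h, hn'⟩ := (hMmem n).1 hn
    have hb' : b * n * b⁻¹ ∈ M :=
      (hMmem _).2 ⟨mul_mem (mul_mem hb h) (inv_mem hb),
        (inferInstance : N.Normal).conj_mem ⟨n, h⟩ hn' ⟨b, hb⟩⟩
    rw [mul_inv_rev, ← mul_assoc, mul_assoc a b n, mul_assoc a (b * n) b⁻¹]
    rcases ha with rfl | rfl
    · simpa using hb'
    · rw [← hCt _ (hMC hb'), mul_inv_cancel_right]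
      exact hb'
  have hMcent : ∀ c ∈ C, (∀ n ∈ M, c * n = n * c) → c = 1 ∨ c = t := by
    intro c hc hcn
    obtain ⟨a, ha, b, hb, rfl⟩ := hCdec c hc
    have hb1 : b = 1 := by
      have : (⟨b, hb⟩ : E) ∈ Subgroup.centralizer (N : Set ↥E) := by
        rw [Subgroup.mem_centralizer_iff]
        intro n hn
        apply Subtype.ext
        change (n : G) * b = b * n
        have hnM : (n : G) ∈ M := (hMmem _).2 ⟨n.2, hn⟩
        have h1 := hcn _ hnM
        have h2 : a * (n : G) = n * a := by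
          rcases ha with rfl | rfl
          · rw [one_mul, mul_one]
          · exact (hCt _ (hMC hnM)).symm
        apply mul_left_cancel (a := a)
        rw [← mul_assoc, h2, ← mul_assoc, h1, mul_assoc]
      rw [hNc, Subgroup.mem_bot] at this
      exact congrArg Subtype.val this
    rw [hb1, mul_one]
    exact ha
  have habM : ∀ V : Sylow 2 M, IsMulCommutative (V : Subgroup M) := by
    intro V
    obtain ⟨S, hS⟩ := (V.isPGroup'.map M.subtype).exists_le_sylow
    refine ⟨⟨fun a b => Subtype.ext (Subtype.ext ?_)⟩⟩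
    have h := congrArg Subtype.val ((hab S).is_comm.comm ⟨_, hS ⟨_, a.2, rfl⟩⟩ ⟨_, hS ⟨_, b.2, rfl⟩⟩)
    exact h
  obtain ⟨V⟩ : Nonempty (Sylow 2 M) := inferInstance
  obtain ⟨hsimple, hnc, h4, hVsq, hauto⟩ := aux_transport hFo hF3 e habM V
  -- a Sylow 2-subgroup containing `t` and `V`
  let H : Subgroup G := Subgroup.zpowers t ⊔ (V : Subgroup M).map M.subtype
  have hVt : ∀ v ∈ (V : Subgroup M).map M.subtype, v * t = t * v := by
    rintro _ ⟨v, -, rfl⟩
    exact hCt _ (hMC v.2)
  have hH : IsPGroup 2 H := by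
    intro ⟨z, hz⟩
    have hnorm : (V : Subgroup M).map M.subtype ≤ Subgroup.normalizer (Subgroup.zpowers t : Set G) := by
      intro b hb
      rw [Subgroup.mem_normalizer_iff]
      intro a
      constructor
      · intro ha
        rw [← hcomm a ha b (hME (Subgroup.map_subtype_le _ hb)), mul_inv_cancel_right]
        exact ha
      · intro ha
        have h := hcomm _ ha b (hME (Subgroup.map_subtype_le _ hb))
        rw [inv_mul_cancel_right] at h
        rw [mul_left_cancel h]
        exact ha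
    have hz' : z ∈ (↑(Subgroup.zpowers t ⊔ (V : Subgroup M).map M.subtype) : Set G) := hz
    rw [Subgroup.coe_mul_of_right_le_normalizer_left _ _ hnorm] at hz'
    obtain ⟨a, ha, b, hb, rfl⟩ := Set.mem_mul.1 hz'
    refine ⟨1, Subtype.ext ?_⟩
    change (a * b) ^ 2 ^ 1 = 1
    have hb2 : b * b = 1 := by
      obtain ⟨v, hv, rfl⟩ := hb
      exact congrArg Subtype.val (hVsq v hv)
    have hab' : a * b = b * a := hcomm a ha b (hME (Subgroup.map_subtype_le _ hb))
    rw [pow_one, Commute.mul_pow hab', pow_two, pow_two, hb2, mul_one]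
    rcases hzp a ha with rfl | rfl
    · exact one_mul 1
    · exact ht2
  obtain ⟨S, hS⟩ := hH.exists_le_sylow
  have htS : t ∈ S := hS (Subgroup.mem_sup_left (Subgroup.mem_zpowers t))
  have hVS : ∀ v : M, v ∈ V → (v : G) ∈ S := fun v hv =>
    hS (Subgroup.mem_sup_right ⟨v, hv, rfl⟩)
  have hSC : (S : Subgroup G) ≤ C := fun s hs => Subgroup.mem_centralizer_iff.2 (by
    rintro _ rfl
    exact congrArg Subtype.val ((hab S).is_comm.comm (⟨_, htS⟩ : (S : Subgroup G)) ⟨s, hs⟩))
  have hSV : ∀ v : M, (v : G) ∈ S → v ∈ V := by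
    intro v hv
    have hp : IsPGroup 2 ((S : Subgroup G).subgroupOf M) :=
      S.isPGroup'.comap_of_injective M.subtype M.subtype_injective
    have hle : (V : Subgroup M) ≤ (S : Subgroup G).subgroupOf M := fun w hw =>
      Subgroup.mem_subgroupOf.2 (hVS w hw)
    exact (V.is_maximal' hp hle).le (Subgroup.mem_subgroupOf.2 hv)
  have hSdec : ∀ s ∈ S, ∃ a, (a = 1 ∨ a = t) ∧ ∃ v ∈ V, s = a * ((v : M) : G) := by
    intro s hs
    have hfix : ∀ n : M, s * (n : G) * s⁻¹ ∈ M := fun n => hMnorm s (hSC hs) n n.2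
    have hfix' : ∀ n : M, s⁻¹ * (n : G) * s ∈ M := fun n => by
      have := hMnorm s⁻¹ (inv_mem (hSC hs)) n n.2
      rwa [inv_inv] at this
    let α : MulAut M :=
      { toFun := fun n => ⟨_, hfix n⟩
        invFun := fun n => ⟨_, hfix' n⟩
        left_inv := fun n => Subtype.ext (by change s⁻¹ * (s * (n : G) * s⁻¹) * s = n; group)
        right_inv := fun n => Subtype.ext (by change s * (s⁻¹ * (n : G) * s) * s⁻¹ = n; group)
        map_mul' := fun a b => Subtype.ext (by
          change s * ((a : G) * b) * s⁻¹ = s * (a : G) * s⁻¹ * (s * (b : G) * s⁻¹); group) }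
    have hαpow : ∀ (j : ℕ) (n : M), (((α ^ j) n : M) : G) = s ^ j * n * (s ^ j)⁻¹ := by
      intro j
      induction j with
      | zero => intro n; simp
      | succ j ih =>
        intro n
        rw [pow_succ', MulAut.mul_apply]
        change s * (((α ^ j) n : M) : G) * s⁻¹ = _
        rw [ih, pow_succ']
        group
    obtain ⟨k, hk⟩ := S.isPGroup' ⟨s, hs⟩
    have hαk : α ^ 2 ^ k = 1 := by
      ext n
      rw [hαpow, show s ^ 2 ^ k = 1 from congrArg Subtype.val hk]
      simp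
    obtain ⟨x, hxV, hxe⟩ := hauto α k hαk (fun v hv => Subtype.ext (by
      change s * (v : G) * s⁻¹ = v
      rw [congrArg Subtype.val ((hab S).is_comm.comm (⟨s, hs⟩ : (S : Subgroup G)) ⟨_, hVS v hv⟩) |>
        (show s * (v : G) = v * s from ·), mul_inv_cancel_right]))
    have hxC : (x : G)⁻¹ * s ∈ C := mul_mem (inv_mem (hMC x.2)) (hSC hs)
    have hxn : ∀ n ∈ M, (x : G)⁻¹ * s * n = n * ((x : G)⁻¹ * s) := by
      intro n hn
      have h : s * n * s⁻¹ = (x : G) * n * (x : G)⁻¹ :=
        congrArg Subtype.val (DFunLike.congr_fun hxe ⟨n, hn⟩)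
      calc (x : G)⁻¹ * s * n = (x : G)⁻¹ * (s * n * s⁻¹) * s := by group
        _ = n * ((x : G)⁻¹ * s) := by rw [h]; group
    refine ⟨_, hMcent _ hxC hxn, x, hxV, ?_⟩
    calc s = (x : G) * ((x : G)⁻¹ * s) := by group
      _ = (x : G)⁻¹ * s * x := (hxn _ x.2).symm
  have hsq : ∀ s ∈ S, s * s = 1 := by
    intro s hs
    obtain ⟨a, ha, v, hv, rfl⟩ := hSdec s hs
    have hv2 : (v : G) * v = 1 := congrArg Subtype.val (hVsq v hv)
    rcases ha with rfl | rfl
    · simpa using hv2
    · rw [mul_assoc, ← mul_assoc (v : G), hCt _ (hMC v.2), mul_assoc, hv2, mul_one, ht2]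
  have htM : ∀ v : M, (v : G) ≠ t := by
    intro v hv
    have hce : v ∈ Subgroup.center M := Subgroup.mem_center_iff.2 fun n => Subtype.ext (by
      change (n : G) * v = v * n
      rw [hv]; exact hCt _ (hMC n.2))
    rcases (inferInstance : (Subgroup.center M).Normal).eq_bot_or_eq_top with h | h
    · rw [h, Subgroup.mem_bot] at hce
      exact ht1 (hv ▸ congrArg Subtype.val hce)
    · exact hnc ⟨⟨fun a b => Subgroup.mem_center_iff.1 (h ▸ Subgroup.mem_top b) a⟩⟩
  have hcard : Nat.card (S : Subgroup G) = 8 := by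
    let f : Bool × (V : Subgroup M) → (S : Subgroup G) := fun p =>
      ⟨(bif p.1 then t else 1) * ((p.2 : M) : G),
        mul_mem (show (bif p.1 then t else 1) ∈ (S : Subgroup G) by cases p.1; exacts [one_mem _, htS]) (hVS _ p.2.2)⟩
    have hf : Function.Bijective f := by
      constructor
      · rintro ⟨b, v⟩ ⟨b', v'⟩ h
        have h' := congrArg Subtype.val h
        change (bif b then t else 1) * ((v : M) : G) = (bif b' then t else 1) * ((v' : M) : G) at h'
        cases b <;> cases b' <;> simp only [cond_true, cond_false, one_mul] at h'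
        · exact Prod.ext rfl (Subtype.ext (Subtype.ext h'))
        · exact absurd (by simp [h'] : (((v : M) * (v' : M)⁻¹ : M) : G) = t) (htM _)
        · exact absurd (by simp [← h'] : (((v' : M) * (v : M)⁻¹ : M) : G) = t) (htM _)
        · exact Prod.ext rfl (Subtype.ext (Subtype.ext (mul_left_cancel h')))
      · rintro ⟨s, hs⟩
        obtain ⟨a, ha, v, hv, rfl⟩ := hSdec s hs
        rcases ha with rfl | rfl
        · exact ⟨(false, ⟨v, hv⟩), rfl⟩
        · exact ⟨(true, ⟨v, hv⟩), rfl⟩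
    rw [← Nat.card_congr (Equiv.ofBijective f hf), Nat.card_prod, h4, Nat.card_eq_fintype_card,
      Fintype.card_bool]
  -- the element of order three
  classical
  haveI := hsimple
  haveI := habM V
  have hV1 : ∃ v ∈ V, v ≠ 1 := by
    by_contra h
    push Not at h
    have : (V : Subgroup M) = ⊥ := by rw [eq_bot_iff]; exact fun v hv => Subgroup.mem_bot.2 (h v hv)
    rw [this, Subgroup.card_bot] at h4
    omega
  obtain ⟨v0, hv0, hv01⟩ := hV1
  obtain ⟨r, hrN, hr0⟩ := CfsgLib.Inv53.exists_moves hnc V hv0 hv01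
  have hrfix : ∀ v ∈ V, r * v = v * r → v = 1 := by
    intro v hv hrv
    by_contra hv1
    -- `r` fixes `v` and permutes the other two involutions
    let P : Finset M := (Set.toFinite ((V : Subgroup M) : Set M)).toFinset
    have hP : ∀ z, z ∈ P ↔ z ∈ V := fun z => Set.Finite.mem_toFinset _
    have hPc : P.card = 4 := by
      rw [← Set.ncard_eq_toFinset_card _ _, ← Nat.card_coe_set_eq]; exact h4
    have hmap : ∀ z ∈ V, r * z * r⁻¹ ∈ V := fun z hz => (Subgroup.mem_normalizer_iff.1 hrN z).1 hz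
    have hv01' : r * v0 * r⁻¹ ≠ 1 := fun h => hv01 (conj_eq_one_iff.1 h)
    have hv0v : v0 ≠ v := fun h => hr0 (by rw [h, hrv, mul_inv_cancel_right])
    have hr0v : r * v0 * r⁻¹ ≠ v := fun h => hv0v (by
      have : v0 = r⁻¹ * v * r := by rw [← h]; group
      rw [this, mul_assoc, ← hrv, inv_mul_cancel_left])
    have hsub : ({1, v, v0, r * v0 * r⁻¹} : Finset M) = P := by
      refine Finset.eq_of_subset_of_card_le ?_ ?_
      · intro z hz
        simp only [Finset.mem_insert, Finset.mem_singleton] at hz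
        rw [hP]
        rcases hz with rfl | rfl | rfl | rfl
        exacts [one_mem _, hv, hv0, hmap _ hv0]
      · rw [hPc, Finset.card_insert_of_notMem (by simp [Ne.symm hv1, Ne.symm hv01, hv01'.symm]),
          Finset.card_insert_of_notMem (by simp [Ne.symm hv0v, hr0v.symm]),
          Finset.card_pair hr0.symm]
    have h2 : r * (r * v0 * r⁻¹) * r⁻¹ = v0 := by
      have h := (hP _).2 (hmap _ (hmap _ hv0))
      rw [← hsub] at h
      simp only [Finset.mem_insert, Finset.mem_singleton] at h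
      rcases h with h | h | h | h
      · exact absurd (conj_eq_one_iff.1 h) hv01'
      · refine absurd ?_ hr0v
        have : r * v0 * r⁻¹ = r⁻¹ * v * r := by rw [← h]; group
        rw [this, mul_assoc, ← hrv, inv_mul_cancel_left]
      · exact h
      · exact absurd (mul_left_cancel (mul_right_cancel h)) hr0
    have hc2 : Commute (r * r) v0 := mul_inv_eq_iff_eq_mul.1 (by
      rw [mul_inv_rev]
      simpa only [mul_assoc] using h2)
    exact hr0 (mul_inv_eq_iff_eq_mul.2 (CfsgLib.Inv53.fix_of_sq_fix V hrN hv0 hc2))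
  refine ⟨S, ⟨rfl, htS, hSC, hcard, hsq, hMC, hMnorm, hMcent, hsimple, ?_, ⟨v0, hVS _ hv0, hv01⟩,
    (r : G), ?_, hMC r.2, ?_⟩⟩
  · intro α k hk hfix
    obtain ⟨x, hx, he⟩ := hauto α k hk (fun v hv => hfix v (hVS v hv))
    exact ⟨x, hVS x hx, he⟩
  · rw [Subgroup.mem_normalizer_iff]
    have hfwd : ∀ g : M, g ∈ Subgroup.normalizer ((V : Subgroup M) : Set M) → ∀ s ∈ S,
        (g : G) * s * (g : G)⁻¹ ∈ S := by
      intro g hg s hs
      obtain ⟨a, ha, v, hv, rfl⟩ := hSdec s hs
      have haS : a ∈ S := by rcases ha with rfl | rfl; exacts [one_mem _, htS]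
      have hga : (g : G) * a = a * g := by
        rcases ha with rfl | rfl
        · rw [mul_one, one_mul]
        · exact hCt _ (hMC g.2)
      rw [← mul_assoc, hga, mul_assoc a, mul_assoc a]
      exact mul_mem haS (hVS _ ((Subgroup.mem_normalizer_iff.1 hg v).1 hv))
    intro s
    refine ⟨hfwd r hrN s, fun h => ?_⟩
    have := hfwd r⁻¹ (inv_mem hrN) _ h
    rw [show ((r⁻¹ : M) : G) * ((r : G) * s * (r : G)⁻¹) * ((r⁻¹ : M) : G)⁻¹ = s by
      rw [Subgroup.coe_inv]; group] at this
    exact this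
  · intro s hs hrs
    obtain ⟨a, ha, v, hv, rfl⟩ := hSdec s hs
    have hra : (r : G) * a = a * r := by
      rcases ha with rfl | rfl
      · rw [mul_one, one_mul]
      · exact hCt _ (hMC r.2)
    have : r * v = v * r := Subtype.ext (by
      change (r : G) * v = v * r
      apply mul_left_cancel (a := a)
      rw [← mul_assoc, ← hra, mul_assoc, hrs.eq, mul_assoc])
    rw [hrfix v hv this, Subgroup.coe_one, mul_one]
    exact ha

/-- The automorphism part. -/
theorem auto_inner (hG : ¬ IsMulCommutative G) (hab : ∀ S : Sylow 2 G, IsMulCommutative ↥(S : Subgroup G))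
    {t : G} {C M : Subgroup G} {S : Sylow 2 G} (hs : Setting t C M S) (hmax : IsCoatom C)
    (ht1 : t ≠ 1) (φ : MulAut G) (k : ℕ) (hk : φ ^ 2 ^ k = 1) (hfix : ∀ s ∈ S, φ s = s) :
    ∃ g : G, φ = MulAut.conj g := by
  haveI : Fact (Nat.Prime 2) := ⟨Nat.prime_two⟩
  haveI := hab S
  have hCt : ∀ c ∈ C, c * t = t * c := fun c hc => by
    rw [hs.C_eq] at hc
    exact (Subgroup.mem_centralizer_iff.1 hc t rfl).symm
  have hmemC : ∀ c, c * t = t * c → c ∈ C := fun c hc => by
    rw [hs.C_eq]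
    exact Subgroup.mem_centralizer_iff.2 (by rintro _ rfl; exact hc.symm)
  have hφC : ∀ c ∈ C, φ c ∈ C := fun c hc => hmemC _ (by
    rw [← hfix t hs.t_mem, ← map_mul, hCt c hc, map_mul])
  -- `φ` stabilizes `M`
  haveI := hs.M_simple
  have hφM : ∀ n ∈ M, φ n ∈ M := by
    have hnorm : ((M.comap (φ.toMonoidHom)).subgroupOf M).Normal := by
      refine ⟨fun n hn g => ?_⟩
      rw [Subgroup.mem_subgroupOf, Subgroup.mem_comap] at hn ⊢
      change φ ((g : G) * n * (g : G)⁻¹) ∈ M
      rw [map_mul, map_mul, map_inv]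
      exact hs.M_norm _ (hφC _ (hs.M_le g.2)) _ hn
    rcases hnorm.eq_bot_or_eq_top with h | h
    · exfalso
      obtain ⟨v, hv, hv1⟩ := hs.M_inv
      have : v ∈ (M.comap (φ.toMonoidHom)).subgroupOf M := by
        rw [Subgroup.mem_subgroupOf, Subgroup.mem_comap]
        change φ (v : G) ∈ M
        rw [hfix _ hv]; exact v.2
      rw [h, Subgroup.mem_bot] at this
      exact hv1 this
    · intro n hn
      have : (⟨n, hn⟩ : M) ∈ (M.comap (φ.toMonoidHom)).subgroupOf M := by rw [h]; exact Subgroup.mem_top _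
      exact this
  have hpowM : ∀ (j : ℕ), ∀ n ∈ M, (φ ^ j) n ∈ M := by
    intro j
    induction j with
    | zero => intro n hn; exact hn
    | succ j ih => intro n hn; rw [pow_succ', MulAut.mul_apply]; exact hφM _ (ih n hn)
  let α : MulAut M :=
    { toFun := fun n => ⟨φ n, hφM n n.2⟩
      invFun := fun n => ⟨(φ ^ (2 ^ k - 1)) n, hpowM _ n n.2⟩
      left_inv := fun n => Subtype.ext (by
        change (φ ^ (2 ^ k - 1)) (φ n) = n
        rw [← MulAut.mul_apply, ← pow_succ, Nat.sub_add_cancel Nat.one_le_two_pow, hk]; rfl)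
      right_inv := fun n => Subtype.ext (by
        change φ ((φ ^ (2 ^ k - 1)) n) = n
        rw [← MulAut.mul_apply, ← pow_succ', Nat.sub_add_cancel Nat.one_le_two_pow, hk]; rfl)
      map_mul' := fun a b => Subtype.ext (map_mul φ _ _) }
  have hαpow : ∀ (j : ℕ) (n : M), (((α ^ j) n : M) : G) = (φ ^ j) n := by
    intro j
    induction j with
    | zero => intro n; rfl
    | succ j ih =>
      intro n
      rw [pow_succ', pow_succ', MulAut.mul_apply, MulAut.mul_apply, ← ih]
      rfl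
  obtain ⟨x, hxS, hxe⟩ := hs.M_auto α k (by
    ext n
    rw [hαpow, hk]; rfl) (fun v hv => Subtype.ext (hfix _ hv))
  let ψ : MulAut G := (MulAut.conj (x : G))⁻¹ * φ
  have hψfix : ∀ s ∈ S, ψ s = s := by
    intro s hs'
    change (MulAut.conj (x : G))⁻¹ (φ s) = s
    rw [hfix s hs', MulAut.conj_inv_apply,
      show (x : G)⁻¹ * s = s * (x : G)⁻¹ from congrArg Subtype.val (IsMulCommutative.is_comm.comm
        (⟨_, inv_mem hxS⟩ : (S : Subgroup G)) ⟨s, hs'⟩), inv_mul_cancel_right]
  have hψM : ∀ n ∈ M, ψ n = n := by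
    intro n hn
    change (MulAut.conj (x : G))⁻¹ (φ n) = n
    have h : φ n = (x : G) * n * (x : G)⁻¹ :=
      congrArg Subtype.val (DFunLike.congr_fun hxe ⟨n, hn⟩)
    rw [h, MulAut.conj_inv_apply]
    group
  have hψk : ψ ^ 2 ^ (k + 1) = 1 := by
    have hc : Commute (MulAut.conj (x : G))⁻¹ φ := by
      refine Commute.inv_left ?_
      ext g
      change (x : G) * φ g * (x : G)⁻¹ = φ ((x : G) * g * (x : G)⁻¹)
      rw [map_mul, map_mul, map_inv, hfix _ hxS]
    rw [show ψ ^ 2 ^ (k + 1) = ((MulAut.conj (x : G))⁻¹ * φ) ^ 2 ^ (k + 1) from rfl, hc.mul_pow,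
      pow_succ (2 : ℕ) k, pow_mul φ, hk, one_pow, mul_one, mul_comm (2 ^ k) 2, pow_mul, inv_pow,
      ← map_pow, pow_two (x : G), hs.sq_one _ hxS, map_one, inv_one, one_pow]
  have hψt : ψ t = t := hψfix t hs.t_mem
  -- `ψ` centralizes `C`
  have hψC : ∀ c ∈ C, ψ c = c := by
    intro c hc
    have hmem : ∀ d ∈ C, d⁻¹ * ψ d = 1 ∨ d⁻¹ * ψ d = t := by
      intro d hd
      have hψdC : ψ d ∈ C := hmemC _ (by rw [← hψt, ← map_mul, hCt d hd, map_mul])
      refine hs.M_cent _ (mul_mem (inv_mem hd) hψdC) fun n hn => ?_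
      have h1 : ψ (d * n * d⁻¹) = d * n * d⁻¹ := hψM _ (hs.M_norm d hd n hn)
      rw [map_mul, map_mul, map_inv, hψM n hn] at h1
      calc d⁻¹ * ψ d * n = d⁻¹ * (ψ d * n * (ψ d)⁻¹) * ψ d := by group
        _ = n * (d⁻¹ * ψ d) := by rw [h1]; group
    let δ : C →* G :=
      { toFun := fun d => (d : G)⁻¹ * ψ d
        map_one' := by simp
        map_mul' := fun a b => by
          simp only [Subgroup.coe_mul, map_mul]
          have hcen : (b : G) * ((a : G)⁻¹ * ψ a) = (a : G)⁻¹ * ψ a * b := by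
            rcases hmem a a.2 with h | h <;> rw [h]
            · rw [mul_one, one_mul]
            · exact hCt b b.2
          calc ((a : G) * b)⁻¹ * (ψ a * ψ b) = (b : G)⁻¹ * ((a : G)⁻¹ * ψ a * b) * ((b : G)⁻¹ * ψ b) := by group
            _ = (a : G)⁻¹ * ψ a * ((b : G)⁻¹ * ψ b) := by rw [← hcen, inv_mul_cancel_left] }
    have hle : (S : Subgroup G).subgroupOf C ≤ δ.ker := fun d hd => by
      change (d : G)⁻¹ * ψ d = 1
      rw [hψfix (d : G) (Subgroup.mem_subgroupOf.1 hd), inv_mul_cancel]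
    have hodd : Odd δ.ker.index := by
      rw [Nat.odd_iff, ← Nat.two_dvd_ne_zero]
      intro h
      exact S.not_dvd_index (h.trans ((Subgroup.index_dvd_of_le hle).trans
        (Subgroup.relIndex_dvd_index_of_le hs.S_le)))
    have hp : δ (⟨c, hc⟩ ^ δ.ker.index) = 1 := MonoidHom.mem_ker.1 (Subgroup.pow_index_mem _ _)
    obtain ⟨j, hj⟩ := hodd
    rw [map_pow, hj, pow_succ, pow_mul] at hp
    have h2 : δ ⟨c, hc⟩ ^ 2 = 1 := by
      change (c⁻¹ * ψ c) ^ 2 = 1
      rcases hmem c hc with h | h <;> rw [h]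
      · exact one_pow 2
      · rw [pow_two]; exact hs.sq_one t hs.t_mem
    rw [h2, one_pow, one_mul] at hp
    exact (inv_mul_eq_one.1 hp).symm
  -- `ψ` on the normalizer
  let Nn : Subgroup G := Subgroup.normalizer ((S : Subgroup G) : Set G)
  have hcS : ∀ n ∈ Nn, n⁻¹ * ψ n ∈ S := by
    intro n hn
    set c := n⁻¹ * ψ n with hcdef
    have hcc : ∀ s ∈ S, c * s = s * c := by
      intro s hs'
      have h1 : n * s * n⁻¹ ∈ S := (Subgroup.mem_normalizer_iff.1 hn s).1 hs'
      have h2 := hψfix _ h1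
      rw [map_mul, map_mul, map_inv, hψfix s hs'] at h2
      calc c * s = n⁻¹ * (ψ n * s * (ψ n)⁻¹) * ψ n := by rw [hcdef]; group
        _ = s * c := by rw [h2, hcdef]; group
    have hcC : c ∈ C := hmemC _ (hcc t hs.t_mem)
    have hψc : ψ c = c := hψC c hcC
    have hiter : ∀ j : ℕ, (ψ ^ j) n = n * c ^ j := by
      intro j
      induction j with
      | zero => simp
      | succ j ih =>
        rw [pow_succ', MulAut.mul_apply, ih, map_mul, map_pow, hψc, pow_succ',
          show ψ n = n * c by rw [hcdef, mul_inv_cancel_left], mul_assoc]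
    have hc2 : c ^ 2 ^ (k + 1) = 1 := by
      have := hiter (2 ^ (k + 1))
      rw [hψk, MulAut.one_apply] at this
      exact mul_eq_left.1 this.symm
    have hcN : c ∈ Nn := by
      rw [Subgroup.mem_normalizer_iff]
      intro s
      constructor
      · intro h; rw [hcc s h, mul_inv_cancel_right]; exact h
      · intro h
        have := hcc _ h
        rw [inv_mul_cancel_right] at this
        rw [mul_left_cancel this] at h
        exact h
    obtain ⟨m, hm, hmem⟩ := CfsgLib.Inv53.exists_odd_pow_mem S hcN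
    obtain ⟨a, ha⟩ : ∃ a : ℕ, (c ^ m) ^ a = c := by
      refine exists_pow_eq_self_of_coprime (Nat.Coprime.coprime_dvd_right (orderOf_dvd_of_pow_eq_one hc2) ?_)
      exact Nat.Coprime.pow_right _ (Nat.coprime_two_right.2 hm)
    rw [← ha]
    exact pow_mem hmem a
  -- averaging
  classical
  let K : Subgroup Nn := (S : Subgroup G).subgroupOf Nn
  haveI : K.Normal := Subgroup.normal_in_normalizer
  haveI : Fintype (Nn ⧸ K) := Fintype.ofFinite _
  letI : CommGroup (S : Subgroup G) :=
    { (inferInstance : Group (S : Subgroup G)) with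
      mul_comm := fun a b => IsMulCommutative.is_comm.comm a b }
  let δ : Nn → (S : Subgroup G) := fun n => ⟨(n : G)⁻¹ * ψ n, hcS n n.2⟩
  have hψn : ∀ n : Nn, ψ n = (n : G) * δ n := fun n => (mul_inv_cancel_left _ _).symm
  let cj : Nn → ((S : Subgroup G) →* (S : Subgroup G)) := fun n =>
    { toFun := fun s => ⟨(n : G)⁻¹ * s * n, by
        have := (Subgroup.mem_normalizer_iff.1 (inv_mem n.2) (s : G)).1 s.2
        rwa [inv_inv] at this⟩
      map_one' := Subtype.ext (by simp)
      map_mul' := fun a b => Subtype.ext (by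
        change (n : G)⁻¹ * ((a : G) * b) * n = (n : G)⁻¹ * a * n * ((n : G)⁻¹ * b * n); group) }
  have hmulδ : ∀ m n : Nn, δ (m * n) = cj n (δ m) * δ n := by
    intro m n
    apply Subtype.ext
    change ((m : G) * n)⁻¹ * ψ ((m : G) * n) =
      (n : G)⁻¹ * ((m : G)⁻¹ * ψ m) * n * ((n : G)⁻¹ * ψ n)
    rw [map_mul]; group
  have hsqS : ∀ s : (S : Subgroup G), s * s = 1 := fun s => Subtype.ext (hs.sq_one _ s.2)
  have hδK : ∀ m n : Nn, n ∈ K → δ (m * n) = δ m := by
    intro m n hn
    rw [hmulδ]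
    have h1 : δ n = 1 := Subtype.ext (by
      change (n : G)⁻¹ * ψ n = 1
      rw [hψfix (n : G) (Subgroup.mem_subgroupOf.1 hn), inv_mul_cancel])
    rw [h1, mul_one]
    apply Subtype.ext
    change (n : G)⁻¹ * (δ m : G) * n = δ m
    rw [mul_assoc, congrArg Subtype.val (IsMulCommutative.is_comm.comm (δ m)
      (⟨_, hn⟩ : (S : Subgroup G))) |> (show (δ m : G) * n = n * δ m from ·), inv_mul_cancel_left]
  let δ' : Nn ⧸ K → (S : Subgroup G) := fun q => δ q.out
  have hδ' : ∀ n : Nn, δ' (QuotientGroup.mk n) = δ n := by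
    intro n
    obtain ⟨⟨z, hz⟩, he⟩ := QuotientGroup.mk_out_eq_mul K n
    change δ _ = _
    rw [he, hδK n z hz]
  let P : (S : Subgroup G) := ∏ q : Nn ⧸ K, δ' q
  have hoddK : Odd (Fintype.card (Nn ⧸ K)) := by
    rw [← Nat.card_eq_fintype_card, Nat.odd_iff, ← Nat.two_dvd_ne_zero]
    intro h
    exact S.not_dvd_index (h.trans (Subgroup.relIndex_dvd_index_of_le Subgroup.le_normalizer))
  have hψN : ∀ n : Nn, ψ n = (P : G) * n * (P : G)⁻¹ := by
    intro n
    have h1 : P = cj n P * δ n := by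
      calc P = ∏ q : Nn ⧸ K, δ' (q * QuotientGroup.mk n) :=
            (Equiv.prod_comp (Equiv.mulRight (QuotientGroup.mk n : Nn ⧸ K)) δ').symm
        _ = ∏ q : Nn ⧸ K, cj n (δ' q) * δ n := by
            refine Finset.prod_congr rfl fun q _ => ?_
            obtain ⟨m, rfl⟩ := QuotientGroup.mk_surjective q
            rw [← QuotientGroup.mk_mul, hδ', hδ', hmulδ]
        _ = cj n P * δ n ^ Fintype.card (Nn ⧸ K) := by
            rw [Finset.prod_mul_distrib, Finset.prod_const, Finset.card_univ, map_prod]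
        _ = cj n P * δ n := by
            obtain ⟨j, hj⟩ := hoddK
            rw [hj, pow_succ, pow_mul, pow_two, hsqS, one_pow, one_mul]
    have h2 : δ n = cj n P * P := by
      rw [show cj n P * P = cj n P * (cj n P * δ n) by rw [← h1], ← mul_assoc, hsqS, one_mul]
    rw [hψn, h2]
    change (n : G) * ((n : G)⁻¹ * P * n * P) = _
    rw [show (P : G)⁻¹ = P from inv_eq_of_mul_eq_one_right (hs.sq_one _ P.2)]
    group
  obtain ⟨r, hrN, hrC, hrfix⟩ := hs.exists_r
  have hP : (P : G) = 1 ∨ (P : G) = t := by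
    refine hrfix _ P.2 ?_
    have h := hψN ⟨r, hrN⟩
    rw [hψC r hrC] at h
    exact (mul_inv_eq_iff_eq_mul.1 h.symm).symm
  obtain ⟨m, hm, hmt⟩ := CfsgLib.Inv53.exists_moves hG S hs.t_mem ht1
  let K0 : Subgroup G := MonoidHom.eqLocus ψ.toMonoidHom (MulAut.conj (P : G)).toMonoidHom
  have hCK : C ≤ K0 := fun c hc => by
    change ψ c = (P : G) * c * (P : G)⁻¹
    rw [hψC c hc]
    rcases hP with h | h <;> rw [h]
    · simp
    · rw [← hCt c hc, mul_inv_cancel_right]
  have hlt : C < K0 := lt_of_le_of_ne hCK fun h => hmt (by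
    have : m ∈ C := h ▸ (hψN ⟨m, hm⟩ : m ∈ K0)
    rw [hCt m this, mul_inv_cancel_right])
  refine ⟨(x : G) * P, ?_⟩
  ext g
  have hg : g ∈ K0 := hmax.lt_iff.1 hlt ▸ Subgroup.mem_top g
  have hg' : ψ g = MulAut.conj (P : G) g := hg
  rw [map_mul, MulAut.mul_apply, ← hg']
  exact ((MulAut.conj (x : G)).apply_symm_apply (φ g)).symm

/-- Transport to an arbitrary Sylow 2-subgroup. -/
theorem auto_inner' (hG : ¬ IsMulCommutative G) (hab : ∀ S : Sylow 2 G, IsMulCommutative ↥(S : Subgroup G))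
    {t : G} {C M : Subgroup G} {S : Sylow 2 G} (hs : Setting t C M S) (hmax : IsCoatom C)
    (ht1 : t ≠ 1) (φ : MulAut G) (k : ℕ) (hk : φ ^ 2 ^ k = 1)
    (hfix : ∃ S₁ : Sylow 2 G, ∀ s ∈ (S₁ : Subgroup G), φ s = s) :
    ∃ g : G, ∀ y : G, φ y = g * y * g⁻¹ := by
  haveI : Fact (Nat.Prime 2) := ⟨Nat.prime_two⟩
  obtain ⟨S₁, hS₁⟩ := hfix
  obtain ⟨g, rfl⟩ := MulAction.exists_smul_eq G S₁ S
  let c : MulAut G := MulAut.conj g
  have hk' : (c * φ * c⁻¹) ^ 2 ^ k = 1 := by
    rw [conj_pow, hk, mul_one, mul_inv_cancel]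
  obtain ⟨h, hh⟩ := auto_inner hG hab hs hmax ht1 (c * φ * c⁻¹) k hk' (by
    intro s hs'
    have hs'' : s ∈ (S₁ : Subgroup G).map (MulAut.conj g).toMonoidHom := hs'
    obtain ⟨s₁, hs₁, rfl⟩ := hs''
    change (c * φ * c⁻¹) (c s₁) = c s₁
    rw [MulAut.mul_apply, MulAut.mul_apply]
    congr 1
    rw [show c⁻¹ (c s₁) = s₁ from c.symm_apply_apply s₁, hS₁ s₁ hs₁])
  refine ⟨g⁻¹ * h * g, fun y => ?_⟩
  have he : φ = c⁻¹ * MulAut.conj h * c := by rw [← hh]; group
  rw [he]
  simp only [c, ← map_inv, ← map_mul, MulAut.conj_apply]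

/-- Let G be a non-abelian finite simple group with abelian Sylow 2-subgroups, and let t be an involution of G whose centralizer is a maximal subgroup of G and is the direct product of the subgroup generated by t with a subgroup E having a normal subgroup isomorphic to PSL(2, q), q odd and greater than 3, with trivial centralizer in E. Then every finite perfect group having a central 2-subgroup with quotient isomorphic to G has that central subgroup trivial (G has no nontrivial perfect central extension by a 2-group), and every automorphism of G of 2-power order that fixes every element of some Sylow 2-subgroup of G is inner. -/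
theorem result {G : Type*} [Group G] [Finite G] [IsSimpleGroup G]
    (hG : ¬ IsMulCommutative G) (hab : ∀ S : Sylow 2 G, IsMulCommutative ↥(S : Subgroup G))
    (t : G) (ht : orderOf t = 2) (hmax : IsCoatom (Subgroup.centralizer ({t} : Set G)))
    (E : Subgroup G) (hE : Cfsg.IsInternalDirectProduct (Subgroup.zpowers t) E (Subgroup.centralizer ({t} : Set G)))
    {F : Type*} [Field F] [Fintype F] (hFo : Odd (Fintype.card F)) (hF3 : 3 < Fintype.card F)
    (N : Subgroup ↥E) [N.Normal] (hN : Nonempty (↥N ≃* Matrix.ProjectiveSpecialLinearGroup (Fin 2) F))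
    (hNc : Subgroup.centralizer (N : Set ↥E) = ⊥) :
    (∀ (L : Type) (_ : Group L) (_ : Finite L) (Z : Subgroup L) (_ : Z.Normal), commutator L = ⊤ → Z ≤ Subgroup.center L →
        IsPGroup 2 ↥Z → Nonempty (L ⧸ Z ≃* G) → Z = ⊥) ∧
    (∀ (φ : G ≃* G) (k : ℕ), φ ^ (2 ^ k) = 1 → (∃ S : Sylow 2 G, ∀ s ∈ (S : Subgroup G), φ s = s) →
        ∃ g : G, ∀ x : G, φ x = g * x * g⁻¹) := by
  haveI : Fact (Nat.Prime 2) := ⟨Nat.prime_two⟩
  obtain ⟨S, hs⟩ := setting hab t ht E hE hFo hF3 N hN hNc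
  have ht1 : t ≠ 1 := fun h => by rw [h, orderOf_one] at ht; omega
  refine ⟨?_, fun φ k hk hfix => auto_inner' hG hab hs hmax ht1 φ k hk hfix⟩
  intro L _ _ Z _ hperf hZ hZp ⟨eL⟩
  haveI := hab S
  obtain ⟨r, hrN, hrC, hrfix⟩ := hs.exists_r
  obtain ⟨m, hm, hmt⟩ := CfsgLib.Inv53.exists_moves hG S hs.t_mem ht1
  have hrt : Commute r t := (Subgroup.mem_centralizer_iff.1 hrC t rfl).symm
  obtain ⟨x, hx, hxt, hx7, hcov⟩ :=
    CfsgLib.Inv53.exists_seven S hs.card_eq hs.t_mem ht1 hrN hrt hrfix hm hmt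
  let π : L →* G := eL.toMonoidHom.comp (QuotientGroup.mk' Z)
  have hker : π.ker = Z := by
    ext y
    simp [π]
  have hsurj : Function.Surjective π := eL.surjective.comp (QuotientGroup.mk'_surjective Z)
  rw [← hker]
  exact CfsgLib.Inv53.central_two_subgroup_trivial π hsurj hperf (hker ▸ hZ) (by rw [hker]; exact hZp)
    S hs.t_mem ht1 hs.sq_one hx hxt hx7 hcov

end Cfsg.Agent.S3206
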