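import Cfsg.Statements.S3208
import Cfsg.Agent.Inv53.Basic
import Cfsg.Agent.Small.BaerSuzuki

set_option autoImplicit false
open Cfsg

namespace Cfsg.Agent.S3208

/-- Let j be an involution of a finite group G, H a subgroup of G, and T a Sylow 2-subgroup of H ∩ C_G(j) containing j such that ⟨j⟩ is a characteristic subgroup of T. Then T is a Sylow 2-subgroup of H. -/
theorem result {G : Type*} [Group G] [Finite G]
    (j : G) (hj : orderOf j = 2) (H T : Subgroup G) (hT : T ≤ H ⊓ Subgroup.centralizer ({j} : Set G)) (h2 : IsPGroup 2 ↥T)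
    (hSyl : ¬ 2 ∣ T.relIndex (H ⊓ Subgroup.centralizer ({j} : Set G))) (hjT : j ∈ T)
    (hchar : ((Subgroup.zpowers j).subgroupOf T).Characteristic) :
    ¬ 2 ∣ T.relIndex H := by
  haveI : Fact (Nat.Prime 2) := ⟨Nat.prime_two⟩
  set K := H ⊓ Subgroup.centralizer ({j} : Set G) with hK
  have hTH : T ≤ H := hT.trans inf_le_left
  obtain ⟨Q0, hQ0⟩ := (h2.comap_subtype (K := H)).exists_le_sylow
  set Q : Subgroup G := (Q0 : Subgroup H).map H.subtype with hQdef
  have hTQ : T ≤ Q := fun a ha => ⟨⟨a, hTH ha⟩, hQ0 (by simpa [Subgroup.mem_subgroupOf] using ha), rfl⟩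
  have hQp : IsPGroup 2 Q := Q0.isPGroup'.map _
  have hQrel : ¬ 2 ∣ Q.relIndex H := by
    rw [Subgroup.relIndex, Subgroup.subgroupOf,
      Subgroup.comap_map_eq_self_of_injective H.subtype_injective]
    exact Q0.not_dvd_index
  rcases eq_or_lt_of_le hTQ with heq | hlt
  · rw [heq]; exact hQrel
  exfalso
  have hlt' := CfsgLib.Small.lt_inf_normalizer_of_pGroup hQp hlt
  set N := Q ⊓ Subgroup.normalizer (T : Set G) with hN
  have hNj : ∀ n ∈ N, n * j = j * n := by
    intro n hn
    let f : T ≃* T := Subgroup.normalizerMonoidHom T ⟨n, hn.2⟩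
    have hfj : f ⟨j, hjT⟩ ∈ (Subgroup.zpowers j).subgroupOf T := by
      have := Subgroup.characteristic_iff_comap_eq.1 hchar f
      have hm : (⟨j, hjT⟩ : T) ∈ (Subgroup.zpowers j).subgroupOf T := by
        simp [Subgroup.mem_subgroupOf]
      rw [← this] at hm
      exact hm
    rw [Subgroup.mem_subgroupOf] at hfj
    have hval : n * j * n⁻¹ ∈ Subgroup.zpowers j := hfj
    obtain ⟨k, hk⟩ := hval
    simp only at hk
    have h2' : j ^ 2 = 1 := hj ▸ pow_orderOf_eq_one j
    rcases Int.even_or_odd k with ⟨r, hr⟩ | ⟨r, hr⟩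
    · exfalso
      rw [hr, show r + r = ((2 : ℕ) : ℤ) * r by push_cast; ring, zpow_mul, zpow_natCast, h2',
        one_zpow] at hk
      have : j = 1 := by
        have := congrArg (fun z => n⁻¹ * z * n) hk.symm
        simpa [mul_assoc] using this
      rw [this, orderOf_one] at hj
      omega
    · rw [hr, zpow_add, show (2 : ℤ) * r = ((2 : ℕ) : ℤ) * r by norm_num, zpow_mul, zpow_natCast,
        h2', one_zpow, one_mul, zpow_one] at hk
      calc n * j = (n * j * n⁻¹) * n := by group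
        _ = j * n := by rw [← hk]
  have hNK : N ≤ K := fun n hn => ⟨Subgroup.map_subtype_le _ hn.1,
    Subgroup.mem_centralizer_iff.2 fun _ hy => (Set.mem_singleton_iff.1 hy) ▸ (hNj n hn).symm⟩
  have hNp : IsPGroup 2 N := hQp.to_le inf_le_left
  obtain ⟨k, -, hk⟩ := CfsgLib.Inv53.exists_conj_le_of_pGroup h2 hT hSyl hNp hNK
  have hc := Subgroup.card_le_of_le hk
  rw [CfsgLib.Inv53.card_map_conj] at hc
  exact hlt'.ne (Subgroup.eq_of_le_of_card_ge hlt'.le hc)

end Cfsg.Agent.S3208
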