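import Cfsg.Statements.S3209
import Cfsg.Agent.Inv53.SL2Involutions
import Cfsg.Agent.Inv53.CentralPair

set_option autoImplicit false
open Cfsg

namespace Cfsg.Agent.S3209

/-- Let L₁ ≅ SL₂(q₁) and L₂ ≅ SL₂(q₂), q₁ and q₂ odd, be elementwise-commuting subgroups of a finite group meeting in ⟨j⟩ for an involution j. Then L₁L₂ has exactly two conjugacy classes of involutions: the central involution j, and one further class (there is an involution x ≠ j in L₁L₂, and every involution of L₁L₂ other than j is conjugate to x by an element of L₁L₂). -/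
theorem result {G : Type*} [Group G] [Finite G]
    {F₁ : Type*} [Field F₁] [Fintype F₁] {F₂ : Type*} [Field F₂] [Fintype F₂]
    (hF₁ : Odd (Fintype.card F₁)) (hF₂ : Odd (Fintype.card F₂)) (L₁ L₂ : Subgroup G)
    (e₁ : ↥L₁ ≃* Matrix.SpecialLinearGroup (Fin 2) F₁) (e₂ : ↥L₂ ≃* Matrix.SpecialLinearGroup (Fin 2) F₂)
    (hc : ∀ x ∈ L₁, ∀ y ∈ L₂, x * y = y * x) (j : G) (hj : orderOf j = 2) (hm : L₁ ⊓ L₂ = Subgroup.zpowers j) :
    ∃ x ∈ L₁ ⊔ L₂, orderOf x = 2 ∧ x ≠ j ∧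
      ∀ y ∈ L₁ ⊔ L₂, orderOf y = 2 → y = j ∨ ∃ g ∈ L₁ ⊔ L₂, g * x * g⁻¹ = y := by
  have hj1 : j ≠ 1 := fun h => by rw [h, orderOf_one] at hj; omega
  have hjj : j * j = 1 := by rw [← sq, ← hj, pow_orderOf_eq_one]
  have hjm : j ∈ L₁ ⊓ L₂ := hm ▸ Subgroup.mem_zpowers j
  obtain ⟨p1, p2, p3, p4, p5⟩ := CfsgLib.Inv53.sl2_subgroup_facts e₁ hF₁ hj hjm.1
  obtain ⟨q1, q2, q3, q4, q5⟩ := CfsgLib.Inv53.sl2_subgroup_facts e₂ hF₂ hj hjm.2
  have D₁ : CfsgLib.Inv53.InvolutionData L₁ j := ⟨hjm.1, p1, p2, p3, p4, p5⟩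
  have D₂ : CfsgLib.Inv53.InvolutionData L₂ j := ⟨hjm.2, q1, q2, q3, q4, q5⟩
  obtain ⟨a, ha, haa⟩ := p2
  obtain ⟨b, hb, hbb⟩ := q2
  have habab : (a * b) * (a * b) = 1 := by
    rw [CfsgLib.Inv53.mul_mem_pair hc hb ha, haa, hbb, hjj]
  have hne : ∀ d ∈ L₂, d * d = 1 → a * b ≠ d := by
    intro d hd hdd e
    rcases CfsgLib.Inv53.pair_unique hm.le hjj (fun x hx => (hc x hx j hjm.2).symm) ha (one_mem _) hb hd
      (e.trans (one_mul d).symm) with h | h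
    · exact hj1 (by rw [← haa, h.1, one_mul])
    · exact hj1 (by rw [← haa, h.1, one_mul, hjj])
  refine ⟨a * b, mul_mem (Subgroup.mem_sup_left ha) (Subgroup.mem_sup_right hb), ?_, ?_, ?_⟩
  · haveI : Fact (Nat.Prime 2) := ⟨Nat.prime_two⟩
    exact orderOf_eq_prime (by rw [sq]; exact habab) (hne 1 (one_mem _) (one_mul 1))
  · exact hne j hjm.2 hjj
  intro y hy hyo
  by_cases hyj : y = j
  · exact Or.inl hyj
  right
  have hy1 : y ≠ 1 := fun e => by rw [e, orderOf_one] at hyo; omega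
  obtain ⟨a', ha', b', hb', haa', hbb', rfl⟩ :=
    CfsgLib.Inv53.involution_pair D₁ D₂ hm.le hjj hc hy (by rw [← sq, ← hyo, pow_orderOf_eq_one]) hy1 hyj
  exact CfsgLib.Inv53.involutions_conj D₁ D₂ hc ha ha' hb hb' haa haa' hbb hbb'

end Cfsg.Agent.S3209
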