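import Cfsg.Statements.S3210
import Cfsg.Agent.Inv53.SL2Involutions
import Cfsg.Agent.Inv53.CentralPair
import Cfsg.Agent.Linear.Basic

set_option autoImplicit false
open Cfsg

namespace Cfsg.Agent.S3210

theorem card_field_eq {q r : ℕ} (h : q * (q ^ 2 - 1) = r * (r ^ 2 - 1)) (hq : 1 < q) (hr : 1 < r) :
    q = r := by
  rcases lt_trichotomy q r with hlt | he | hgt
  · have h1 : q ^ 2 ≤ r ^ 2 := Nat.pow_le_pow_left hlt.le 2
    have h2 : 0 < r ^ 2 - 1 := by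
      have : 2 ^ 2 ≤ r ^ 2 := Nat.pow_le_pow_left hr 2
      omega
    have h3 : q * (q ^ 2 - 1) ≤ q * (r ^ 2 - 1) := Nat.mul_le_mul_left q (by omega)
    have h4 : q * (r ^ 2 - 1) < r * (r ^ 2 - 1) := Nat.mul_lt_mul_of_pos_right hlt h2
    omega
  · exact he
  · have h1 : r ^ 2 ≤ q ^ 2 := Nat.pow_le_pow_left hgt.le 2
    have h2 : 0 < q ^ 2 - 1 := by
      have : 2 ^ 2 ≤ q ^ 2 := Nat.pow_le_pow_left hq 2
      omega
    have h3 : r * (r ^ 2 - 1) ≤ r * (q ^ 2 - 1) := Nat.mul_le_mul_left r (by omega)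
    have h4 : r * (q ^ 2 - 1) < q * (q ^ 2 - 1) := Nat.mul_lt_mul_of_pos_right hgt h2
    omega

section
open CfsgLib.Inv53 Subgroup

variable {G : Type*} [Group G] {L₁ L₂ : Subgroup G} {j : G}

/-- `L₁` is the centraliser in `L₁L₂` of the elements of `L₂` squaring to `j`. -/
theorem mem_of_commute (hc : ∀ x ∈ L₁, ∀ y ∈ L₂, x * y = y * x) (hj₁ : j ∈ L₁)
    (hz : ∀ d ∈ L₂, (∀ x ∈ L₂, x * x = j → x * d = d * x) → d = 1 ∨ d = j) {g : G}
    (hg : g ∈ L₁ ⊔ L₂) (h : ∀ x ∈ L₂, x * x = j → x * g = g * x) : g ∈ L₁ := by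
  obtain ⟨c, hcm, d, hd, rfl⟩ := (mem_sup_iff_exists_mul hc).1 hg
  rcases hz d hd (fun x hx hxx => by
    have h1 := h x hx hxx
    rw [← mul_assoc, ← hc c hcm x hx, mul_assoc, mul_assoc] at h1
    exact mul_left_cancel h1) with rfl | rfl
  · rw [mul_one]; exact hcm
  · exact mul_mem hcm hj₁

/-- The elements squaring to `j` lie in one of the factors. -/
theorem mem_factor (D₁ : InvolutionData L₁ j) (D₂ : InvolutionData L₂ j) (hm : L₁ ⊓ L₂ ≤ zpowers j)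
    (hjj : j * j = 1) (hc : ∀ x ∈ L₁, ∀ y ∈ L₂, x * y = y * x) {x : G} (hx : x ∈ L₁ ⊔ L₂)
    (hxx : x * x = j) : x ∈ L₁ ∨ x ∈ L₂ := by
  obtain ⟨c, hcm, d, hd, rfl⟩ := (mem_sup_iff_exists_mul hc).1 hx
  have h1 : (c * c) * (d * d) = j * 1 := by rw [← mul_mem_pair hc hd hcm, hxx, mul_one]
  rcases pair_unique hm hjj (fun x hx => (hc x hx j D₂.jmem).symm) (mul_mem hcm hcm) D₁.jmem
    (mul_mem hd hd) (one_mem _) h1 with ⟨-, h2⟩ | ⟨h2, -⟩
  · rcases D₂.sq_one d hd h2 with rfl | rfl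
    · exact Or.inl (by rwa [mul_one])
    · exact Or.inl (mul_mem hcm D₁.jmem)
  · rcases D₁.sq_one c hcm (h2.trans hjj) with rfl | rfl
    · exact Or.inr (by rwa [one_mul])
    · exact Or.inr (mul_mem D₂.jmem hd)

/-- Two elements squaring to `j` in the same factor have a third one not commuting with both,
unless there is none; commuting ones differ by a power of `j`. -/
theorem exists_noncommuting (D : InvolutionData L₁ j) (hj1 : j ≠ 1) (hjj : j * j = 1) {x y : G}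
    (hx : x ∈ L₁) (hy : y ∈ L₁) (hxx : x * x = j) (hyy : y * y = j) :
    ∃ z ∈ L₁, z * z = j ∧ x * z ≠ z * x ∧ y * z ≠ z * y := by
  have hxj : j * x = x * j := by rw [← hxx, mul_assoc]
  have key : ∀ u ∈ L₁, u * u = j → u * x * u⁻¹ = x⁻¹ → x * u ≠ u * x := by
    intro u _ _ h e
    apply hj1
    rw [← e, mul_inv_cancel_right] at h
    rw [← hxx]; exact eq_inv_iff_mul_eq_one.1 h
  obtain ⟨u, hu, huu, hux⟩ := D.invert x hx hxx
  by_cases hxy : x * y = y * x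
  · refine ⟨u, hu, huu, key u hu huu hux, ?_⟩
    rcases D.comm_eq x hx y hy hxx hyy hxy with rfl | rfl
    · exact key u hu huu hux
    · intro e
      apply key u hu huu hux
      have huj : j * u = u * j := by rw [← huu, mul_assoc]
      rw [mul_assoc, huj, ← mul_assoc, ← mul_assoc] at e
      exact mul_right_cancel e
  · by_cases hyu : y * u = u * y
    · -- y = ± u, so x y is a third element
      have hyx : y * x * y⁻¹ = x⁻¹ := by
        rcases D.comm_eq y hy u hu hyy huu hyu with rfl | rfl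
        · exact hux
        · rw [show y * j * x * (y * j)⁻¹ = y * (j * x * j⁻¹) * y⁻¹ by group, hxj,
            mul_inv_cancel_right] at hux
          exact hux
      have h1 : y * x = x⁻¹ * y := mul_inv_eq_iff_eq_mul.1 hyx
      have hw : (x * y) * (x * y) = j := by
        rw [mul_assoc, ← mul_assoc y x y, h1, ← mul_assoc, ← mul_assoc, mul_inv_cancel, one_mul, hyy]
      refine ⟨x * y, mul_mem hx hy, hw, fun e => hxy ?_, fun e => hxy ?_⟩
      · rw [mul_assoc x y x] at e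
        exact mul_left_cancel e
      · rw [← mul_assoc] at e
        exact (mul_right_cancel e).symm
    · exact ⟨u, hu, huu, key u hu huu hux, hyu⟩

end

/-- Let G be a finite group with subgroups L₁ ≅ SL₂(q₁) and L₂ ≅ SL₂(q₂), q₁ and q₂ odd prime powers, which commute elementwise and meet in ⟨j⟩ for an involution j, and suppose L₁L₂ has index 2 in C_G(j). Then every element n of C_G(j) outside L₁L₂ either normalizes both L₁ and L₂, or conjugates L₁ onto L₂; in the second case q₁ = q₂ and there is an element n′ of C_G(j) outside L₁L₂ conjugating L₁ onto L₂ with n′² ∈ ⟨j⟩. -/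
theorem result {G : Type*} [Group G] [Finite G]
    {F₁ : Type*} [Field F₁] [Fintype F₁] {F₂ : Type*} [Field F₂] [Fintype F₂]
    (hF₁ : Odd (Fintype.card F₁)) (hF₂ : Odd (Fintype.card F₂)) (L₁ L₂ : Subgroup G)
    (e₁ : ↥L₁ ≃* Matrix.SpecialLinearGroup (Fin 2) F₁) (e₂ : ↥L₂ ≃* Matrix.SpecialLinearGroup (Fin 2) F₂)
    (hc : ∀ x ∈ L₁, ∀ y ∈ L₂, x * y = y * x) (j : G) (hj : orderOf j = 2) (hm : L₁ ⊓ L₂ = Subgroup.zpowers j)
    (hle : L₁ ⊔ L₂ ≤ Subgroup.centralizer ({j} : Set G)) (hi : (L₁ ⊔ L₂).relIndex (Subgroup.centralizer ({j} : Set G)) = 2) (n : G) (hn : n ∈ Subgroup.centralizer ({j} : Set G)) (hn' : n ∉ L₁ ⊔ L₂) :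
    (L₁.map (MulAut.conj n).toMonoidHom = L₁ ∧ L₂.map (MulAut.conj n).toMonoidHom = L₂) ∨
      (L₁.map (MulAut.conj n).toMonoidHom = L₂ ∧ Fintype.card F₁ = Fintype.card F₂ ∧
        ∃ n' ∈ Subgroup.centralizer ({j} : Set G), n' ∉ L₁ ⊔ L₂ ∧ L₁.map (MulAut.conj n').toMonoidHom = L₂ ∧ n' ^ 2 ∈ Subgroup.zpowers j) := by
  have hj1 : j ≠ 1 := fun h => by rw [h, orderOf_one] at hj; omega
  have hjj : j * j = 1 := by rw [← sq, ← hj, pow_orderOf_eq_one]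
  have hjm : j ∈ L₁ ⊓ L₂ := hm ▸ Subgroup.mem_zpowers j
  obtain ⟨p1, p2, p3, p4, p5⟩ := CfsgLib.Inv53.sl2_subgroup_facts e₁ hF₁ hj hjm.1
  obtain ⟨q1, q2, q3, q4, q5⟩ := CfsgLib.Inv53.sl2_subgroup_facts e₂ hF₂ hj hjm.2
  have D₁ : CfsgLib.Inv53.InvolutionData L₁ j := ⟨hjm.1, p1, p2, p3, p4, p5⟩
  have D₂ : CfsgLib.Inv53.InvolutionData L₂ j := ⟨hjm.2, q1, q2, q3, q4, q5⟩
  have hc' : ∀ x ∈ L₂, ∀ y ∈ L₁, x * y = y * x := fun x hx y hy => (hc y hy x hx).symm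
  have hcenj : ∀ g ∈ L₁ ⊔ L₂, j * g = g * j := fun g hg =>
    (Subgroup.mem_centralizer_singleton_iff.1 (hle hg)).symm
  set C := Subgroup.centralizer ({j} : Set G) with hC
  have hnorm : ∀ g ∈ C, ∀ x ∈ L₁ ⊔ L₂, g * x * g⁻¹ ∈ L₁ ⊔ L₂ := by
    intro g hg x hx
    haveI := Subgroup.normal_of_index_eq_two (H := (L₁ ⊔ L₂).subgroupOf C) hi
    exact (this.conj_mem ⟨x, hle hx⟩ hx ⟨g, hg⟩ :)
  have hconjsq : ∀ g ∈ C, ∀ x, x * x = j → (g * x * g⁻¹) * (g * x * g⁻¹) = j := by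
    intro g hg x hxx
    rw [show g * x * g⁻¹ * (g * x * g⁻¹) = g * (x * x) * g⁻¹ by group, hxx,
      Subgroup.mem_centralizer_singleton_iff.1 hg, mul_inv_cancel_right]
  have hfac := fun x => mem_factor (G := G) (x := x) D₁ D₂ hm.le hjj hc
  -- each factor goes into a factor
  have hmove : ∀ (A : Subgroup G), CfsgLib.Inv53.InvolutionData A j → A ≤ L₁ ⊔ L₂ → ∀ g ∈ C,
      (∀ x ∈ A, x * x = j → g * x * g⁻¹ ∈ L₁) ∨ (∀ x ∈ A, x * x = j → g * x * g⁻¹ ∈ L₂) := by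
    intro A DA hA g hg
    by_contra hcon
    push Not at hcon
    obtain ⟨⟨x, hx, hxx, hx1⟩, y, hy, hyy, hy2⟩ := hcon
    obtain ⟨z, hz, hzz, hxz, hyz⟩ := exists_noncommuting DA hj1 hjj hx hy hxx hyy
    have key : ∀ a b : G, a * b ≠ b * a → ¬ (g * a * g⁻¹ * (g * b * g⁻¹) = g * b * g⁻¹ * (g * a * g⁻¹)) := by
      intro a b hab e
      apply hab
      rw [show g * a * g⁻¹ * (g * b * g⁻¹) = g * (a * b) * g⁻¹ by group,
        show g * b * g⁻¹ * (g * a * g⁻¹) = g * (b * a) * g⁻¹ by group] at e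
      exact mul_left_cancel (mul_right_cancel e)
    have hxL := (hfac _ (hnorm g hg x (hA hx)) (hconjsq g hg x hxx)).resolve_left hx1
    have hyL := (hfac _ (hnorm g hg y (hA hy)) (hconjsq g hg y hyy)).resolve_right hy2
    rcases hfac _ (hnorm g hg z (hA hz)) (hconjsq g hg z hzz) with hzL | hzL
    · exact key x z hxz (hc' _ hxL _ hzL)
    · exact key y z hyz (hc _ hyL _ hzL)
  -- a factor is determined by the elements of the other one squaring to j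
  have hchar₁ : ∀ g ∈ L₁ ⊔ L₂, (∀ x ∈ L₂, x * x = j → x * g = g * x) → g ∈ L₁ := fun g hg h =>
    mem_of_commute hc D₁.jmem (fun d hd h => CfsgLib.Inv53.sl2_subgroup_centralizer e₂ hF₂ hj hjm.2 hd h) hg h
  have hchar₂ : ∀ g ∈ L₁ ⊔ L₂, (∀ x ∈ L₁, x * x = j → x * g = g * x) → g ∈ L₂ := fun g hg h =>
    mem_of_commute hc' D₂.jmem (fun d hd h => CfsgLib.Inv53.sl2_subgroup_centralizer e₁ hF₁ hj hjm.1 hd h)
      (sup_comm L₁ L₂ ▸ hg) h
  have hginv : ∀ g ∈ C, ∀ (A B : Subgroup G) (u : G), u ∈ A → (∀ x ∈ A, x * x = j → g * x * g⁻¹ ∈ B) →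
      u * u = j → g * u * g⁻¹ ∈ B := fun g _ A B u hu h huu => h u hu huu
  -- subgroup inclusions
  have himg : ∀ g ∈ C,
      ((∀ x ∈ L₁, g * x * g⁻¹ ∈ L₁) ∧ (∀ x ∈ L₂, g * x * g⁻¹ ∈ L₂)) ∨
      ((∀ x ∈ L₁, g * x * g⁻¹ ∈ L₂) ∧ (∀ x ∈ L₂, g * x * g⁻¹ ∈ L₁)) := by
    intro g hg
    have hgi := inv_mem hg
    have conjback : ∀ x y : G, y * (g⁻¹ * x * g⁻¹⁻¹) = (g⁻¹ * x * g⁻¹⁻¹) * y →
        x * (g * y * g⁻¹) = g * y * g⁻¹ * x := by
      intro x y h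
      calc x * (g * y * g⁻¹) = g * ((g⁻¹ * x * g⁻¹⁻¹) * y) * g⁻¹ := by group
        _ = g * (y * (g⁻¹ * x * g⁻¹⁻¹)) * g⁻¹ := by rw [h]
        _ = g * y * g⁻¹ * x := by group
    have hconf : ∀ (A : Subgroup G), A = L₁ ∨ A = L₂ → ¬((∀ x ∈ L₁, x * x = j → g⁻¹ * x * g⁻¹⁻¹ ∈ A) ∧
        (∀ x ∈ L₂, x * x = j → g⁻¹ * x * g⁻¹⁻¹ ∈ A)) := by
      rintro A hA ⟨h₁, h₂⟩
      obtain ⟨a, ha, haa⟩ := D₁.exists_sq
      obtain ⟨u, hu, huu, hua⟩ := D₁.invert a ha haa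
      obtain ⟨b, hb, hbb⟩ := D₂.exists_sq
      have cl : ∀ p ∈ L₁, p * p = j → g⁻¹ * p * g⁻¹⁻¹ = g⁻¹ * b * g⁻¹⁻¹ ∨
          g⁻¹ * p * g⁻¹⁻¹ = (g⁻¹ * b * g⁻¹⁻¹) * j := by
        intro p hp hpp
        have hcomm : (g⁻¹ * b * g⁻¹⁻¹) * (g⁻¹ * p * g⁻¹⁻¹) = (g⁻¹ * p * g⁻¹⁻¹) * (g⁻¹ * b * g⁻¹⁻¹) := by
          rw [show g⁻¹ * b * g⁻¹⁻¹ * (g⁻¹ * p * g⁻¹⁻¹) = g⁻¹ * (b * p) * g⁻¹⁻¹ by group, hc' b hb p hp]
          group
        rcases hA with rfl | rfl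
        · exact D₁.comm_eq _ (h₂ b hb hbb) _ (h₁ p hp hpp) (hconjsq _ hgi b hbb) (hconjsq _ hgi p hpp) hcomm
        · exact D₂.comm_eq _ (h₂ b hb hbb) _ (h₁ p hp hpp) (hconjsq _ hgi b hbb) (hconjsq _ hgi p hpp) hcomm
      have hgj : g⁻¹ * j * g⁻¹⁻¹ = j := by
        rw [Subgroup.mem_centralizer_singleton_iff.1 hgi, mul_inv_cancel_right]
      have back : ∀ p, g⁻¹ * p * g⁻¹⁻¹ = g⁻¹ * b * g⁻¹⁻¹ ∨
          g⁻¹ * p * g⁻¹⁻¹ = (g⁻¹ * b * g⁻¹⁻¹) * j → p = b ∨ p = b * j := by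
        rintro p (h | h)
        · exact Or.inl (mul_left_cancel (mul_right_cancel h))
        · refine Or.inr (mul_left_cancel (a := g⁻¹) (mul_right_cancel (b := g⁻¹⁻¹) ?_))
          rw [h]
          calc g⁻¹ * b * g⁻¹⁻¹ * j = g⁻¹ * b * g⁻¹⁻¹ * (g⁻¹ * j * g⁻¹⁻¹) := by rw [hgj]
            _ = _ := by group
      have hbj : b * j = j * b := hc' b hb j D₁.jmem
      have hau : a * u = u * a := by
        have hcb : Commute b (b * j) := (Commute.refl b).mul_right hbj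
        rcases back a (cl a ha haa) with h | h <;> rcases back u (cl u hu huu) with e | e <;> rw [h, e]
        · exact hcb.eq
        · exact hcb.eq.symm
      apply hj1
      rw [← hau, mul_inv_cancel_right] at hua
      rw [← haa]; exact eq_inv_iff_mul_eq_one.1 hua
    rcases hmove L₁ D₁ le_sup_left _ hgi with h₁ | h₁ <;>
      rcases hmove L₂ D₂ le_sup_right _ hgi with h₂ | h₂
    · exact absurd ⟨h₁, h₂⟩ (hconf L₁ (Or.inl rfl))
    · refine Or.inl ⟨fun y hy => hchar₁ _ (hnorm g hg y (Subgroup.mem_sup_left hy)) fun x hx hxx => ?_,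
        fun y hy => hchar₂ _ (hnorm g hg y (Subgroup.mem_sup_right hy)) fun x hx hxx => ?_⟩
      · exact conjback x y (hc y hy _ (h₂ x hx hxx))
      · exact conjback x y (hc' y hy _ (h₁ x hx hxx))
    · refine Or.inr ⟨fun y hy => hchar₂ _ (hnorm g hg y (Subgroup.mem_sup_left hy)) fun x hx hxx => ?_,
        fun y hy => hchar₁ _ (hnorm g hg y (Subgroup.mem_sup_right hy)) fun x hx hxx => ?_⟩
      · exact conjback x y (hc y hy _ (h₁ x hx hxx))
      · exact conjback x y (hc' y hy _ (h₂ x hx hxx))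
    · exact absurd ⟨h₁, h₂⟩ (hconf L₂ (Or.inr rfl))
  have hmapeq : ∀ (g : G) (A B : Subgroup G), (∀ x ∈ A, g * x * g⁻¹ ∈ B) →
      (∀ x ∈ B, g⁻¹ * x * g⁻¹⁻¹ ∈ A) → A.map (MulAut.conj g).toMonoidHom = B := by
    intro g A B h1 h2
    ext y
    constructor
    · rintro ⟨x, hx, rfl⟩; exact h1 x hx
    · intro hy
      exact ⟨_, h2 y hy, by show g * (g⁻¹ * y * g⁻¹⁻¹) * g⁻¹ = y; group⟩
  have hnd : ∀ g ∈ C, ((∀ x ∈ L₁, g * x * g⁻¹ ∈ L₁) ∧ (∀ x ∈ L₁, g * x * g⁻¹ ∈ L₂)) → False := by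
    rintro g hg ⟨h1, h2⟩
    obtain ⟨a, ha, haa⟩ := D₁.exists_sq
    have h : g * a * g⁻¹ ∈ L₁ ⊓ L₂ := ⟨h1 a ha, h2 a ha⟩
    rw [hm] at h
    obtain ⟨i, hi'⟩ := h
    simp only at hi'
    apply hj1
    calc j = (g * a * g⁻¹) * (g * a * g⁻¹) := (hconjsq g hg a haa).symm
      _ = 1 := by rw [← hi', ← zpow_add, ← two_mul, zpow_mul, zpow_two, hjj, one_zpow]
  have hback : ∀ (g : G) (x : G), g⁻¹ * (g * x * g⁻¹) * g⁻¹⁻¹ = x := fun g x => by group
  rcases himg n hn with ⟨hA, hB⟩ | ⟨hA, hB⟩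
  · left
    rcases himg n⁻¹ (inv_mem hn) with ⟨hA', hB'⟩ | ⟨hA', -⟩
    · exact ⟨hmapeq n _ _ hA hA', hmapeq n _ _ hB hB'⟩
    · exfalso
      refine hnd 1 (one_mem _) ⟨fun x hx => by simpa using hx, fun x hx => ?_⟩
      have := hA' _ (hA x hx)
      rw [hback] at this
      simpa using this
  · right
    have hB' : ∀ x ∈ L₂, n⁻¹ * x * n⁻¹⁻¹ ∈ L₁ := by
      rcases himg n⁻¹ (inv_mem hn) with ⟨hA', -⟩ | ⟨-, hB'⟩
      · exfalso
        refine hnd n hn ⟨fun x hx => ?_, hA⟩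
        have h := hA' _ (hB _ (hA x hx))
        rwa [hback] at h
      · exact hB'
    have hmap := hmapeq n _ _ hA hB'
    refine ⟨hmap, ?_, ?_⟩
    · have hcard : Nat.card L₁ = Nat.card L₂ := by
        rw [← hmap]
        exact Nat.card_congr (Subgroup.equivMapOfInjective L₁ _ (MulAut.conj n).injective).toEquiv
      rw [Nat.card_congr e₁.toEquiv, Nat.card_congr e₂.toEquiv, CfsgLib.Linear.card_SL_two,
        CfsgLib.Linear.card_SL_two] at hcard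
      exact card_field_eq hcard Fintype.one_lt_card Fintype.one_lt_card
    · have hn2 : n * n ∈ L₁ ⊔ L₂ :=
        (Subgroup.mul_mem_iff_of_index_two (H := (L₁ ⊔ L₂).subgroupOf C) hi
          (a := (⟨n, hn⟩ : C)) (b := ⟨n, hn⟩)).2 Iff.rfl
      obtain ⟨c, hcm, d, hd, hcd⟩ := (CfsgLib.Inv53.mem_sup_iff_exists_mul hc).1 hn2
      have h1 : (n * d * n⁻¹) * (n * c * n⁻¹) = c * d := by
        rw [hc _ (hB d hd) _ (hA c hcm),
          show n * c * n⁻¹ * (n * d * n⁻¹) = n * (c * d) * n⁻¹ by group, hcd]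
        group
      have hcmem : c⁻¹ ∈ L₁ ⊔ L₂ := inv_mem (Subgroup.mem_sup_left hcm)
      refine ⟨c⁻¹ * n, mul_mem (hle hcmem) hn, fun h => hn' ?_, ?_, ?_⟩
      · have := mul_mem (Subgroup.mem_sup_left (T := L₂) hcm) h
        rwa [mul_inv_cancel_left] at this
      · refine hmapeq _ _ _ (fun x hx => ?_) (fun x hx => ?_)
        · rw [show c⁻¹ * n * x * (c⁻¹ * n)⁻¹ = c⁻¹ * (n * x * n⁻¹) * c by group,
            hc _ (inv_mem hcm) _ (hA x hx), mul_assoc, inv_mul_cancel, mul_one]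
          exact hA x hx
        · rw [show (c⁻¹ * n)⁻¹ * x * (c⁻¹ * n)⁻¹⁻¹ = n⁻¹ * (c * x * c⁻¹) * n⁻¹⁻¹ by group,
            hc c hcm x hx, mul_inv_cancel_right]
          exact hB' x hx
      · have h2 : (c⁻¹ * n) ^ 2 = (n * c * n⁻¹)⁻¹ * d := by
          calc (c⁻¹ * n) ^ 2 = c⁻¹ * (n * c * n⁻¹)⁻¹ * (n * n) := by rw [sq]; group
            _ = c⁻¹ * ((n * c * n⁻¹)⁻¹ * c) * d := by rw [← hcd]; group
            _ = c⁻¹ * (c * (n * c * n⁻¹)⁻¹) * d := by rw [hc _ hcm _ (inv_mem (hA c hcm))]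
            _ = _ := by group
        rw [h2]
        rcases CfsgLib.Inv53.pair_unique hm.le hjj (fun x hx => hcenj x (Subgroup.mem_sup_left hx))
          (hB d hd) hcm (hA c hcm) hd h1 with h | h
        · rw [h.2, inv_mul_cancel]; exact one_mem _
        · rw [h.2, mul_inv_rev, mul_assoc]
          have : j⁻¹ * d = d * j⁻¹ := by
            rw [inv_eq_of_mul_eq_one_right hjj]; exact hcenj d (Subgroup.mem_sup_right hd)
          rw [this, inv_mul_cancel_left]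
          exact inv_mem (Subgroup.mem_zpowers j)

end Cfsg.Agent.S3210
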