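import Cfsg.Statements.S3213
import Cfsg.Agent.SL2Trace.Basic
import Cfsg.Agent.LinearElements.TwoByTwo
import Mathlib

set_option autoImplicit false
open Cfsg

namespace Cfsg.Agent.S3213

open Matrix LinearMap Module
open scoped MatrixGroups

section field

variable {F : Type*} [Field F] [Fintype F]

/-- An endomorphism of period five of a space of dimension at most two over `GF(3)` is trivial. -/
theorem eq_one_of_pow_five (hF : Fintype.card F = 3) {U : Type*} [AddCommGroup U] [Module F U]
    [FiniteDimensional F U] (hU : finrank F U ≤ 2) {e : Module.End F U} (he : e ^ 5 = 1) : e = 1 := by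
  set n := finrank F U
  let φ := (algEquivMatrix (Module.finBasis F U)).toMulEquiv
  let u : GL (Fin n) F :=
    { val := φ e
      inv := φ (e ^ 4)
      val_inv := by rw [← map_mul, ← pow_succ', he, map_one]
      inv_val := by rw [← map_mul, ← pow_succ, he, map_one] }
  have hu5 : u ^ 5 = 1 := by
    apply Units.ext
    show φ e ^ 5 = 1
    rw [← map_pow, he, map_one]
  have hd : orderOf u ∣ 48 := by
    refine orderOf_dvd_natCard u |>.trans ?_
    rw [Matrix.card_GL_field, hF]
    rcases (show n = 0 ∨ n = 1 ∨ n = 2 by omega) with h | h | h <;> rw [h] <;>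
      simp [Fin.prod_univ_succ] <;> norm_num
  have h1 : orderOf u ∣ Nat.gcd 5 48 := Nat.dvd_gcd (orderOf_dvd_of_pow_eq_one hu5) hd
  have h2 : u = 1 := by
    rw [← orderOf_eq_one_iff]
    exact Nat.dvd_one.1 h1
  have h3 : φ e = φ 1 := by rw [map_one]; exact congrArg Units.val h2
  exact φ.injective h3

/-- An element of period five of `GL(V)` over `GF(3)` moving at most two dimensions is trivial. -/
theorem eq_one_of_small_range (hF : Fintype.card F = 3) {V : Type*} [AddCommGroup V] [Module F V]
    [FiniteDimensional F V] {g : Module.End F V} (hg : g ^ 5 = 1)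
    (hsmall : finrank F (LinearMap.range (g - 1)) ≤ 2) : g = 1 := by
  set A := g - 1 with hA
  have hgA : g = 1 + A := by rw [hA]; abel
  have hinv : ∀ w ∈ LinearMap.range A, g w ∈ LinearMap.range A := by
    rintro w ⟨v, rfl⟩
    refine ⟨g v, ?_⟩
    rw [hA]; simp
  let e : Module.End F (LinearMap.range A) := g.restrict hinv
  have he : e ^ 5 = 1 := by
    rw [Module.End.pow_restrict]
    ext w
    simp [hg]
  have h1 := eq_one_of_pow_five hF hsmall he
  have hAA : A * A = 0 := by
    ext v
    have h2 : g (A v) = A v := congrArg Subtype.val (LinearMap.congr_fun h1 ⟨A v, v, rfl⟩)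
    show g (A v) - A v = 0
    rw [h2, sub_self]
  have h5 : g ^ 5 = 1 + (5 : ℕ) • A := by
    rw [hgA]
    simp only [pow_succ, pow_zero, mul_add, add_mul, one_mul, mul_one, hAA, zero_mul, add_zero,
      succ_nsmul, zero_smul]
    abel
  have h3 : (3 : ℕ) • A = 0 := by
    have hc : ((3 : ℕ) : F) = 0 := hF ▸ Nat.cast_card_eq_zero F
    rw [← Nat.cast_smul_eq_nsmul F, hc, zero_smul]
  rw [hg, show (5 : ℕ) • A = (3 : ℕ) • A + (2 : ℕ) • A by rw [← add_nsmul], h3, zero_add,
    left_eq_add] at h5
  have h6 : A = 0 := by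
    calc A = (3 : ℕ) • A - (2 : ℕ) • A := by rw [show (3 : ℕ) = 1 + 2 from rfl, add_nsmul, one_nsmul]; abel
      _ = 0 := by rw [h3, h5, sub_zero]
  rw [hgA, h6, add_zero]

end field

/-- In `SL₂(5)` an element of order three has a conjugate with which it generates an element of order five. -/
theorem exists_conj_pair {K : Type*} [Field K] [Fintype K] (hK : Fintype.card K = 5) {x : SL(2, K)}
    (hx : orderOf x = 3) :
    ∃ h : SL(2, K), ((x * (h * x * h⁻¹)) ^ 2) ^ 5 = 1 ∧ (x * (h * x * h⁻¹)) ^ 2 ≠ 1 := by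
  have h5 : ((5 : ℕ) : K) = 0 := hK ▸ Nat.cast_card_eq_zero K
  push_cast at h5
  haveI : Fact (Nat.Prime 5) := ⟨by norm_num⟩
  haveI : CharP K 5 := charP_of_card_eq_prime hK
  have h3 : (3 : K) ≠ 0 := by
    intro e
    have e' : ((3 : ℕ) : K) = 0 := by exact_mod_cast e
    rw [CharP.cast_eq_zero_iff K 5] at e'
    norm_num at e'
  have h4 : (4 : K) ≠ 0 := by
    intro e
    have e' : ((4 : ℕ) : K) = 0 := by exact_mod_cast e
    rw [CharP.cast_eq_zero_iff K 5] at e'
    norm_num at e'
  have hx3 : x ^ 3 = 1 := hx ▸ pow_orderOf_eq_one x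
  set X := (x : Matrix (Fin 2) (Fin 2) K) with hX
  have hXXX : X * X * X = 1 := by
    rw [pow_succ, sq] at hx3
    exact congrArg Subtype.val hx3
  have hns : CfsgLib.LinearElements.NonScalar X := by
    intro c hc
    have hd : X.det = 1 := x.2
    rw [hc] at hd hXXX
    have e2 : c ^ 2 = 1 := by simpa using hd
    have e3 := congrFun (congrFun hXXX 0) 0
    simp at e3
    have e1 : c = 1 := by linear_combination e3 - c * e2
    have : x = 1 := Subtype.ext (hc.trans (by rw [e1, one_smul]; rfl))
    rw [this, orderOf_one] at hx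
    omega
  have ht : X.trace = -1 := by
    have h2 := CfsgLib.LinearElements.two_sq_eq X
    rw [show X.det = 1 from x.2, one_smul] at h2
    rw [h2, sub_mul, one_mul, Matrix.smul_mul, h2, smul_sub, smul_smul] at hXXX
    have hz := CfsgLib.LinearElements.coeff_zero_of_nonScalar hns (a := -X.trace - 1)
      (b := X.trace * X.trace - 1) (by
        rw [← sub_eq_zero] at hXXX
        rw [← hXXX]
        simp only [sub_smul, neg_smul, one_smul]
        abel)
    linear_combination -hz.1
  set C := CfsgLib.SL2Trace.mkSL (F := K) !![0, -1; 1, -1] (by simp [Matrix.det_fin_two]) with hC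
  set D := CfsgLib.SL2Trace.mkSL (F := K) !![1, 1; 0, 1] (by simp [Matrix.det_fin_two]) with hD
  obtain ⟨g, hg⟩ := isConj_iff.1 (CfsgLib.SL2Trace.isConj_of_trace_eq C x (by
    rw [← hX, ht]; simp [hC, CfsgLib.SL2Trace.coe_mkSL, Matrix.trace_fin_two]) (by
    simp [hC, CfsgLib.SL2Trace.coe_mkSL, Matrix.trace_fin_two]
    intro e; exact h3 (by linear_combination -e)))
  set Y := CfsgLib.SL2Trace.mkSL (F := K) !![1, -3; 1, -2] (by simp [Matrix.det_fin_two]; ring) with hY
  set E := CfsgLib.SL2Trace.mkSL (F := K) !![1, -4; 0, 1] (by simp [Matrix.det_fin_two]) with hE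
  have hDC : D * C * D⁻¹ = Y := by
    rw [mul_inv_eq_iff_eq_mul]
    apply Subtype.ext
    show (D : Matrix (Fin 2) (Fin 2) K) * C = (Y : Matrix (Fin 2) (Fin 2) K) * D
    simp only [hD, hC, hY, CfsgLib.SL2Trace.coe_mkSL, Matrix.mul_fin_two]
    ext i j; fin_cases i <;> fin_cases j <;> simp <;> norm_num
  have hCY : (C * Y) ^ 2 = E := by
    rw [sq]
    apply Subtype.ext
    show ((C : Matrix (Fin 2) (Fin 2) K) * Y) * ((C : Matrix (Fin 2) (Fin 2) K) * Y) = E
    simp only [hC, hY, hE, CfsgLib.SL2Trace.coe_mkSL, Matrix.mul_fin_two]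
    ext i j; fin_cases i <;> fin_cases j <;> simp <;> norm_num
  have hE5 : E ^ 5 = 1 := by
    simp only [pow_succ, pow_zero, one_mul]
    apply Subtype.ext
    show (E : Matrix (Fin 2) (Fin 2) K) * E * E * E * E = 1
    simp only [hE, CfsgLib.SL2Trace.coe_mkSL, Matrix.mul_fin_two, Matrix.one_fin_two]
    ext i j; fin_cases i <;> fin_cases j <;> simp
    linear_combination (-4 : K) * h5
  have hE1 : E ≠ 1 := by
    intro e
    have := congrFun (congrFun (congrArg Subtype.val e) 0) 1
    simp [hE, CfsgLib.SL2Trace.mkSL] at this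
    exact h4 this
  have hprod : x * ((g * D * g⁻¹) * x * (g * D * g⁻¹)⁻¹) = g * (C * Y) * g⁻¹ := by
    rw [← hg, ← hDC]; group
  refine ⟨g * D * g⁻¹, ?_, ?_⟩
  · rw [hprod, conj_pow, conj_pow, hCY, hE5]; group
  · rw [hprod, conj_pow, hCY]
    intro e
    apply hE1
    calc E = g⁻¹ * (g * E * g⁻¹) * g := by group
      _ = 1 := by rw [e]; group


/-- Let F be the field with 3 elements and K the field with 5 elements. For every injective homomorphism φ from SL₂(K) into the symplectic group Sp₄(F) (4 × 4 matrices g with g J gᵀ = J for the standard alternating matrix J) and every element x of order 3 of SL₂(K), the vectors of F⁴ fixed by φ(x) form a 2-dimensional subspace that is totally isotropic for the alternating form defined by J. -/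
theorem result {F : Type*} [Field F] [Fintype F] (hF : Fintype.card F = 3)
    {K : Type*} [Field K] [Fintype K] (hK : Fintype.card K = 5)
    (φ : Matrix.SpecialLinearGroup (Fin 2) K →* ↥(Matrix.symplecticGroup (Fin 2) F)) (hφ : Function.Injective φ)
    (x : Matrix.SpecialLinearGroup (Fin 2) K) (hx : orderOf x = 3) :
    Module.finrank F ↥(LinearMap.ker (Matrix.toLin' ((φ x : Matrix (Fin 2 ⊕ Fin 2) (Fin 2 ⊕ Fin 2) F)) - LinearMap.id)) = 2 ∧
      ∀ v w : Fin 2 ⊕ Fin 2 → F, (φ x : Matrix (Fin 2 ⊕ Fin 2) (Fin 2 ⊕ Fin 2) F).mulVec v = v →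
        (φ x : Matrix (Fin 2 ⊕ Fin 2) (Fin 2 ⊕ Fin 2) F).mulVec w = w →
          dotProduct v ((Matrix.J (Fin 2) F).mulVec w) = 0 := by
  classical
  set ι := Fin 2 ⊕ Fin 2
  let ρ : Matrix.SpecialLinearGroup (Fin 2) K →* Module.End F (ι → F) :=
    (Matrix.toLinAlgEquiv' : Matrix ι ι F ≃ₐ[F] Module.End F (ι → F)).toMonoidHom.comp
      ((Matrix.symplecticGroup (Fin 2) F).subtype.comp φ)
  have hρapply : ∀ y v, ρ y v = (φ y : Matrix ι ι F).mulVec v := fun y v => rfl
  have hρinj : Function.Injective ρ := by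
    intro a b h
    exact hφ (Subtype.ext ((Matrix.toLinAlgEquiv' : Matrix ι ι F ≃ₐ[F] Module.End F (ι → F)).injective h))
  let B : (ι → F) → (ι → F) → F := fun v w => dotProduct v ((Matrix.J (Fin 2) F).mulVec w)
  have hBM : ∀ u w, B (ρ x u) (ρ x w) = B u w := by
    intro u w
    have hmem := SymplecticGroup.mem_iff'.1 (φ x).2
    simp only [B, hρapply]
    conv_rhs => rw [← hmem, ← Matrix.mulVec_mulVec, ← Matrix.mulVec_mulVec, Matrix.dotProduct_mulVec u,
      Matrix.vecMul_transpose]
  have hBanti : ∀ u w, B u w = - B w u := by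
    intro u w
    simp only [B]
    rw [Matrix.dotProduct_mulVec, ← Matrix.mulVec_transpose, Matrix.J_transpose, Matrix.neg_mulVec,
      neg_dotProduct, dotProduct_comm]
  have hBadd : ∀ a b c, B a (b + c) = B a b + B a c := fun a b c => by
    simp only [B, Matrix.mulVec_add, dotProduct_add]
  have hBadd' : ∀ a b c, B (a + b) c = B a c + B b c := fun a b c => add_dotProduct _ _ _
  have hBsub : ∀ a b c, B a (b - c) = B a b - B a c := fun a b c => by
    simp only [B, Matrix.mulVec_sub, dotProduct_sub]
  have hBsmul : ∀ (r : F) a b, B a (r • b) = r * B a b := fun r a b => by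
    simp only [B, Matrix.mulVec_smul, dotProduct_smul, smul_eq_mul]
  have hBnd : ∀ f, (∀ w, B f w = 0) → f = 0 := by
    intro f hf
    have h1 : Matrix.vecMul f (Matrix.J (Fin 2) F) = 0 :=
      dotProduct_eq_zero _ fun w => by rw [← Matrix.dotProduct_mulVec]; exact hf w
    have h2 := congrArg (fun z => Matrix.vecMul z (Matrix.J (Fin 2) F)) h1
    rw [Matrix.vecMul_vecMul, Matrix.J_squared] at h2
    simpa [Matrix.vecMul_neg] using h2
  have hdim : finrank F (ι → F) = 4 := by simp [ι]
  set N : Module.End F (ι → F) := ρ x - 1 with hN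
  have hMN : ∀ v, ρ x v = v + N v := fun v => by simp [hN]
  have hN3 : ∀ v, N (N (N v)) = 0 := by
    intro v
    have hx3 : ρ x (ρ x (ρ x v)) = v := by
      show (ρ x * ρ x * ρ x) v = v
      rw [← map_mul, ← map_mul, show x * x * x = 1 by
        rw [← sq, ← pow_succ]; have h := pow_orderOf_eq_one x; rwa [hx] at h, map_one]
      rfl
    simp only [hMN, map_add] at hx3
    have hc : ((3 : ℕ) : F) = 0 := hF ▸ Nat.cast_card_eq_zero F
    have h3 : ∀ w : ι → F, w + w + w = 0 := fun w => by
      rw [show w + w + w = (3 : ℕ) • w by rw [succ_nsmul, two_nsmul], ← Nat.cast_smul_eq_nsmul F, hc, zero_smul]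
    calc N (N (N v)) = (v + N v + (N v + N (N v)) + (N v + N (N v) + (N (N v) + N (N (N v))))) - v
          - (N v + N v + N v) - (N (N v) + N (N v) + N (N v)) := by abel
      _ = 0 := by rw [hx3, h3, h3]; abel
  have hfix : ∀ f w, ρ x f = f → B f (N w) = 0 := by
    intro f w hf
    rw [hN, LinearMap.sub_apply, Module.End.one_apply, hBsub]
    nth_rewrite 1 [← hf]
    rw [hBM, sub_self]
  have hrel : ∀ u w, B (N u) w + B u (N w) + B (N u) (N w) = 0 := by
    intro u w
    have h := hBM u w
    rw [hMN, hMN, hBadd', hBadd, hBadd] at h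
    linear_combination h
  -- N squares to zero
  have hanti2 : ∀ u w, B (N (N u)) w = B u (N (N w)) := by
    intro u w
    have f1 : ∀ v, ρ x (N (N v)) = N (N v) := fun v => by rw [hMN, hN3, add_zero]
    have e1 := hrel (N u) w
    rw [hfix _ _ (f1 u)] at e1
    have e2 := hrel u (N w)
    have e3 : B (N u) (N (N w)) = 0 := by
      rw [hBanti, hfix _ _ (f1 w), neg_zero]
    rw [e3] at e2
    linear_combination e1 - e2
  have h2F : (2 : F) ≠ 0 := Ring.two_ne_zero fun hc => by
    have h1 := FiniteField.even_card_of_char_two hc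
    omega
  set R := LinearMap.range N
  have hker : R.map N ≤ LinearMap.ker N := by
    rintro _ ⟨_, ⟨v, rfl⟩, rfl⟩
    exact hN3 v
  have hR2 : finrank F (R.map N) ≤ 1 := by
    have h1 : finrank F (R.map N) + finrank F (LinearMap.ker (N.domRestrict R)) = finrank F R := by
      rw [← LinearMap.range_domRestrict, LinearMap.finrank_range_add_finrank_ker]
    have h2 : finrank F (R.map N) ≤ finrank F (LinearMap.ker (N.domRestrict R)) := by
      let f : (R.map N) →ₗ[F] LinearMap.ker (N.domRestrict R) :=
        { toFun := fun w => ⟨⟨w, by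
            obtain ⟨_, ⟨v, rfl⟩, hv⟩ := w.2
            exact hv ▸ LinearMap.mem_range_self N _⟩, hker w.2⟩
          map_add' := fun _ _ => rfl
          map_smul' := fun _ _ => rfl }
      exact LinearMap.finrank_le_finrank_of_injective (f := f) fun a b h =>
        Subtype.ext (congrArg (fun z : LinearMap.ker (N.domRestrict R) => ((z : R) : ι → F)) h)
    have h3 := LinearMap.finrank_range_add_finrank_ker N
    rw [hdim] at h3
    have h4 : 0 < finrank F (LinearMap.ker N) := by
      rw [Module.finrank_pos_iff, Submodule.nontrivial_iff_ne_bot]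
      intro hb
      have hinj : Function.Injective N := LinearMap.ker_eq_bot.1 hb
      have hz : ∀ v : ι → F, v = 0 := fun v => by
        apply hinj; rw [map_zero]; apply hinj; rw [map_zero]; apply hinj; rw [map_zero]; exact hN3 v
      exact one_ne_zero (congrFun (hz (fun _ => (1 : F))) (Sum.inl 0))
    have h5 : finrank F R = finrank F (LinearMap.range N) := rfl
    omega
  have hN2 : ∀ u, N (N u) = 0 := by
    by_contra hall
    push Not at hall
    obtain ⟨u, hu⟩ := hall
    set f := N (N u) with hf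
    have hfu : B f u = 0 := by
      have e := hanti2 u u
      rw [hBanti u (N (N u)), ← hf] at e
      have h2 : (2 : F) * B f u = 0 := by linear_combination e
      exact (mul_eq_zero.1 h2).resolve_left h2F
    have hmem : ∀ w, N (N w) ∈ R.map N := fun w => ⟨N w, LinearMap.mem_range_self N w, rfl⟩
    have hspan : ∀ w, ∃ r : F, r • f = N (N w) := by
      intro w
      obtain ⟨v, hv⟩ := finrank_le_one_iff.1 hR2
      obtain ⟨a, ha⟩ := hv ⟨f, hmem u⟩
      obtain ⟨b, hb⟩ := hv ⟨N (N w), hmem w⟩
      have ha' : a • (v : ι → F) = f := congrArg Subtype.val ha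
      have hb' : b • (v : ι → F) = N (N w) := congrArg Subtype.val hb
      have ha0 : a ≠ 0 := fun e => hu (by rw [← ha', e, zero_smul])
      exact ⟨b / a, by rw [← ha', smul_smul, div_mul_cancel₀ _ ha0, hb']⟩
    apply hu
    apply hBnd
    intro w
    obtain ⟨r, hr⟩ := hspan w
    rw [hanti2, ← hr, hBsmul, hBanti u f, hfu, neg_zero, mul_zero]
  have hRk : R ≤ LinearMap.ker N := by
    rintro _ ⟨v, rfl⟩
    exact hN2 v
  have hrn := LinearMap.finrank_range_add_finrank_ker N
  rw [hdim] at hrn
  have hr1 : finrank F R ≤ finrank F (LinearMap.ker N) := Submodule.finrank_mono hRk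
  have hr2 : ¬ finrank F R ≤ 1 := by
    intro hle
    obtain ⟨h, hg5, hg1⟩ := exists_conj_pair hK hx
    set g := (x * (h * x * h⁻¹)) ^ 2 with hgdef
    apply hg1
    apply hρinj
    rw [map_one]
    refine eq_one_of_small_range hF (by rw [← map_pow, hg5, map_one]) ?_
    let W := LinearMap.ker N ⊓ (LinearMap.ker N).map (ρ h)
    have hW : ∀ w ∈ W, ρ g w = w := by
      rintro w ⟨h1, v, hv, rfl⟩
      have e1 : ρ x (ρ h v) = ρ h v := by rw [hMN, show N (ρ h v) = 0 from h1, add_zero]
      have e2 : ρ (h * x * h⁻¹) (ρ h v) = ρ h v := by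
        show (ρ (h * x * h⁻¹) * ρ h) v = ρ h v
        rw [← map_mul, inv_mul_cancel_right, map_mul]
        show ρ h (ρ x v) = ρ h v
        rw [hMN, show N v = 0 from hv, add_zero]
      have e3 : ρ (x * (h * x * h⁻¹)) (ρ h v) = ρ h v := by
        rw [map_mul]; show ρ x (ρ (h * x * h⁻¹) (ρ h v)) = ρ h v; rw [e2, e1]
      rw [hgdef, sq, map_mul]
      show ρ (x * (h * x * h⁻¹)) (ρ (x * (h * x * h⁻¹)) (ρ h v)) = ρ h v
      rw [e3, e3]
    have hWk : W ≤ LinearMap.ker (ρ g - 1) := fun w hw => by
      simp [LinearMap.mem_ker, hW w hw]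
    have hinjh : Function.Injective (ρ h) := by
      intro a b e
      have e' := congrArg (ρ h⁻¹) e
      have hh : ∀ c, ρ h⁻¹ (ρ h c) = c := fun c => by
        show (ρ h⁻¹ * ρ h) c = c
        rw [← map_mul, inv_mul_cancel, map_one]; rfl
      rwa [hh, hh] at e'
    have hmapc : finrank F ((LinearMap.ker N).map (ρ h)) = finrank F (LinearMap.ker N) :=
      (Submodule.equivMapOfInjective _ hinjh _).finrank_eq.symm
    have hsum := Submodule.finrank_sup_add_finrank_inf_eq (LinearMap.ker N) ((LinearMap.ker N).map (ρ h))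
    have hsupLe := Submodule.finrank_le (LinearMap.ker N ⊔ (LinearMap.ker N).map (ρ h))
    rw [hdim] at hsupLe
    have hWle := Submodule.finrank_mono hWk
    have hrn' := LinearMap.finrank_range_add_finrank_ker (ρ g - 1)
    rw [hdim] at hrn'
    have hR0 : finrank F R = finrank F (LinearMap.range N) := rfl
    have hW0 : finrank F W = finrank F ↥(LinearMap.ker N ⊓ (LinearMap.ker N).map (ρ h)) := rfl
    omega
  have hR0 : finrank F R = finrank F (LinearMap.range N) := rfl
  have hk2 : finrank F (LinearMap.ker N) = 2 := by omega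
  refine ⟨hk2, fun v w hv hw => ?_⟩
  have hvk : ρ x v = v := hv
  have hwk : w ∈ LinearMap.ker N := by
    rw [LinearMap.mem_ker, hN, LinearMap.sub_apply, Module.End.one_apply, hρapply, hw, sub_self]
  rw [← Submodule.eq_of_le_of_finrank_eq hRk (by omega)] at hwk
  obtain ⟨z, rfl⟩ := hwk
  exact hfix v z hvk

end Cfsg.Agent.S3213
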