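import Cfsg.Statements.S3215
import Cfsg.Agent.Inv53.TwoConstrained
import Cfsg.Agent.PLocal.PSolvable
import Cfsg.Agent.PLocal.Cores
import Cfsg.Agent.Solvable.Fitting
import Cfsg.Agent.Solvable.FixedPointFree
import Cfsg.Agent.Coprime.PTimesQ
import Mathlib

set_option autoImplicit false
open Cfsg

namespace Cfsg.Agent.S3215

open Subgroup

section
variable {H : Type*} [Group H] [Finite H]

/-- A subgroup of 2-power order and one of odd order meet trivially. -/
theorem eq_one_of_two_odd {Y K : Subgroup H} (hY : IsPGroup 2 Y) (hK : Odd (Nat.card K)) {g : H}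
    (hgY : g ∈ Y) (hgK : g ∈ K) : g = 1 := by
  have h : g ∈ Y ⊓ K := ⟨hgY, hgK⟩
  obtain ⟨k, hk⟩ := IsPGroup.iff_card.1 hY
  have hc : (Nat.card Y).Coprime (Nat.card K) := by
    rw [hk]; exact Nat.Coprime.pow_left _ (Nat.coprime_two_left.2 hK)
  rw [inf_eq_bot_of_coprime hc] at h
  exact mem_bot.1 h

/-- In the centralizer of an involution with normal 2-complement, an element of odd order commutes
with every element of a normal 2-subgroup that centralises the involution. -/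
theorem commute_in_centralizer {t : H} (hI : Cfsg.HasNormalPComplement 2 ↥(centralizer ({t} : Set H)))
    {Y : Subgroup H} [Y.Normal] (hY : IsPGroup 2 Y) {x y : H} (hx : Odd (orderOf x))
    (hxt : x ∈ centralizer ({t} : Set H)) (hyt : y ∈ centralizer ({t} : Set H)) (hy : y ∈ Y) :
    x * y = y * x := by
  haveI : Fact (Nat.Prime 2) := ⟨Nat.prime_two⟩
  obtain ⟨P, K, hKn, hKP⟩ := hI
  haveI := hKn
  obtain ⟨k, hk⟩ := IsPGroup.iff_card.1 P.isPGroup'
  have hKidx : K.index = 2 ^ k := by rw [hKP.symm.index_eq_card, hk]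
  have hKodd : Odd (Nat.card K) := by
    rw [Nat.odd_iff]
    by_contra h
    have hd : 2 ∣ (P : Subgroup (centralizer ({t} : Set H))).index := by
      rw [hKP.index_eq_card]; omega
    exact P.not_dvd_index hd
  set xc : centralizer ({t} : Set H) := ⟨x, hxt⟩
  have hxK : xc ∈ K := by
    have h1 : orderOf (QuotientGroup.mk' K xc) ∣ 2 ^ k := by
      rw [← hKidx, index_eq_card]; exact orderOf_dvd_natCard _
    have h2 : orderOf (QuotientGroup.mk' K xc) ∣ orderOf x := by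
      rw [← Subgroup.orderOf_mk x hxt]; exact orderOf_map_dvd _ _
    have h3 : orderOf (QuotientGroup.mk' K xc) = 1 :=
      Nat.eq_one_of_dvd_coprimes (Nat.Coprime.pow_left k (Nat.coprime_two_left.2 hx)) h1 h2
    rwa [orderOf_eq_one_iff, QuotientGroup.mk'_apply, QuotientGroup.eq_one_iff] at h3
  set yc : centralizer ({t} : Set H) := ⟨y, hyt⟩
  have h1 : xc * yc * xc⁻¹ * yc⁻¹ ∈ K := by
    have := mul_mem hxK (hKn.conj_mem _ (inv_mem hxK) yc)
    rwa [show xc * (yc * xc⁻¹ * yc⁻¹) = xc * yc * xc⁻¹ * yc⁻¹ by group] at this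
  have h2 : x * y * x⁻¹ * y⁻¹ ∈ Y :=
    mul_mem (‹Y.Normal›.conj_mem y hy x) (inv_mem hy)
  have h3 := eq_one_of_two_odd hY (K := K.map (centralizer ({t} : Set H)).subtype)
    (by rw [card_map_of_injective (subtype_injective _)]; exact hKodd) h2 ⟨_, h1, rfl⟩
  rwa [mul_inv_eq_one, mul_inv_eq_iff_eq_mul] at h3

/-- In a core-free solvable group with 2-nilpotent involution centralisers, non-trivial elements of
odd order act on `O₂` without fixed points. -/
theorem fpf (hsol : Group.IsSolvable H) (hO : Cfsg.oddCore H = ⊥)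
    (hI : ∀ t : H, orderOf t = 2 → Cfsg.HasNormalPComplement 2 ↥(centralizer ({t} : Set H)))
    {x : H} (hx : Odd (orderOf x)) (hx1 : x ≠ 1) {y : H} (hy : y ∈ Cfsg.pCore 2 H)
    (hxy : x * y = y * x) : y = 1 := by
  haveI := hsol
  haveI : Fact (Nat.Prime 2) := ⟨Nat.prime_two⟩
  by_contra hy1
  haveI : (Cfsg.pCore 2 H).Normal := CfsgLib.Solvable.pCore_normal 2
  have hY : IsPGroup 2 (Cfsg.pCore 2 H) := CfsgLib.Solvable.isPGroup_pCore 2
  set Y := Cfsg.pCore 2 H
  -- an involution of Y centralised by x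
  obtain ⟨t, htY, hto, hxt⟩ : ∃ t ∈ Y, orderOf t = 2 ∧ x * t = t * x := by
    obtain ⟨j, hj⟩ := IsPGroup.iff_orderOf.1 hY ⟨y, hy⟩
    rw [← Subgroup.orderOf_coe] at hj
    simp only at hj
    cases j with
    | zero => exact absurd (orderOf_eq_one_iff.1 (hj.trans (pow_zero 2))) hy1
    | succ j =>
      refine ⟨y ^ 2 ^ j, pow_mem hy _, ?_, ((show Commute x y from hxy).pow_right _).eq⟩
      rw [orderOf_pow_of_dvd (pow_ne_zero _ two_ne_zero) (hj ▸ Nat.pow_dvd_pow 2 j.le_succ), hj,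
        Nat.pow_div j.le_succ two_pos, Nat.succ_sub (le_refl j), Nat.sub_self, pow_one]
  have hC : Y ⊓ centralizer (zpowers t : Set H) ≤ centralizer (zpowers x : Set H) := by
    rintro u ⟨hu, hut⟩
    rw [zpowers_eq_closure, centralizer_closure] at hut ⊢
    rw [mem_centralizer_singleton_iff]
    exact (commute_in_centralizer (hI t hto) hY hx (mem_centralizer_singleton_iff.2 hxt) hut hu).symm
  have hxcent : zpowers x ≤ centralizer (Y : Set H) :=
    CfsgLib.Coprime.le_centralizer_of_inf_centralizer_le (p := 2) (hY.to_le (zpowers_le.2 htY))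
      (by rw [Nat.card_zpowers]; exact Nat.coprime_two_right.2 hx) hY
      (zpowers_le.2 (by
        rw [zpowers_eq_closure, centralizer_closure, mem_centralizer_singleton_iff]; exact hxt.symm))
      Subgroup.le_normalizer_of_normal Subgroup.le_normalizer_of_normal hC
  have hxY : x ∈ Y := CfsgLib.PLocal.centralizer_pCore_le
    (CfsgLib.PLocal.isPSolvable_of_isSolvable) hO (hxcent (mem_zpowers x))
  obtain ⟨j, hj⟩ := IsPGroup.iff_orderOf.1 hY ⟨x, hxY⟩
  rw [← Subgroup.orderOf_coe] at hj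
  simp only at hj
  apply hx1
  rw [← orderOf_eq_one_iff]
  exact Nat.eq_one_of_dvd_coprimes (Nat.Coprime.pow_left j (Nat.coprime_two_left.2 hx)) (hj ▸ dvd_rfl) dvd_rfl

/-- Modulo `O₂`, an involution centralises no non-trivial element of odd prime order. -/
theorem quotient_fpf (hsol : Group.IsSolvable H) (hO : Cfsg.oddCore H = ⊥)
    (hI : ∀ t : H, orderOf t = 2 → Cfsg.HasNormalPComplement 2 ↥(centralizer ({t} : Set H)))
    [(Cfsg.pCore 2 H).Normal] {e f : H ⧸ Cfsg.pCore 2 H} (he : orderOf e = 2)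
    {p : ℕ} (hp : p.Prime) (hp2 : p ≠ 2) (hf : orderOf f = p) : e * f ≠ f * e := by
  intro hef
  haveI : Fact (Nat.Prime 2) := ⟨Nat.prime_two⟩
  haveI : Fact p.Prime := ⟨hp⟩
  obtain ⟨x₀, rfl⟩ := QuotientGroup.mk'_surjective (Cfsg.pCore 2 H) f
  obtain ⟨g, rfl⟩ := QuotientGroup.mk'_surjective (Cfsg.pCore 2 H) e
  set Y := Cfsg.pCore 2 H with hYdef
  have hY : IsPGroup 2 Y := CfsgLib.Solvable.isPGroup_pCore 2
  set π := QuotientGroup.mk' Y
  have key : ∀ g : H, g ∈ Y ↔ π g = 1 := fun g => (QuotientGroup.eq_one_iff g).symm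
  -- a lift of odd order
  have hxp : x₀ ^ p ∈ Y := by rw [key, map_pow, ← hf, pow_orderOf_eq_one]
  obtain ⟨j, hj⟩ := IsPGroup.iff_orderOf.1 hY ⟨x₀ ^ p, hxp⟩
  rw [← Subgroup.orderOf_coe] at hj
  simp only at hj
  set x := x₀ ^ 2 ^ j with hxdef
  have hodd : Odd p := hp.odd_of_ne_two hp2
  have hxo : Odd (orderOf x) := by
    refine Odd.of_dvd_nat hodd (orderOf_dvd_of_pow_eq_one ?_)
    rw [hxdef, ← pow_mul, mul_comm, pow_mul, ← hj, pow_orderOf_eq_one]
  have hπx : π x ≠ 1 := by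
    rw [hxdef, map_pow]
    intro h
    have h1 := orderOf_dvd_of_pow_eq_one h
    rw [hf] at h1
    exact hp2 ((Nat.prime_dvd_prime_iff_eq hp Nat.prime_two).1 (hp.dvd_of_dvd_pow h1))
  have hx1 : x ≠ 1 := fun h => hπx (by rw [h, map_one])
  have hgx : π g * π x = π x * π g := by
    rw [hxdef, map_pow]; exact ((show Commute (π g) (π x₀) from hef).pow_right _).eq
  -- all lifts in the coset are conjugate under Y
  let c : Y → Y := fun y => ⟨(y : H) * x * (y : H)⁻¹ * x⁻¹, by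
    rw [show (y : H) * x * (y : H)⁻¹ * x⁻¹ = y * (x * (y : H)⁻¹ * x⁻¹) by group]
    exact mul_mem y.2 (‹Y.Normal›.conj_mem _ (inv_mem y.2) x)⟩
  have hinj : Function.Injective c := by
    intro a b hab
    have h : (a : H) * x * (a : H)⁻¹ = (b : H) * x * (b : H)⁻¹ := mul_right_cancel (congrArg Subtype.val hab)
    have h1 : x * ((b : H)⁻¹ * a) = ((b : H)⁻¹ * a) * x := by
      calc x * ((b : H)⁻¹ * a) = (b : H)⁻¹ * ((b : H) * x * (b : H)⁻¹) * a := by group
        _ = (b : H)⁻¹ * ((a : H) * x * (a : H)⁻¹) * a := by rw [h]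
        _ = _ := by group
    exact Subtype.ext (inv_mul_eq_one.1 (fpf hsol hO hI hxo hx1 (mul_mem (inv_mem b.2) a.2) h1)).symm
  have hmem : g * x * g⁻¹ * x⁻¹ ∈ Y := by
    rw [key, map_mul, map_mul, map_mul, map_inv, map_inv, hgx]
    group
  obtain ⟨y, hy⟩ := Finite.surjective_of_injective hinj ⟨_, hmem⟩
  have hy' : (y : H) * x * (y : H)⁻¹ = g * x * g⁻¹ := mul_right_cancel (congrArg Subtype.val hy)
  set s := (y : H)⁻¹ * g with hs
  have hsx : x * s = s * x := by
    calc x * s = (y : H)⁻¹ * ((y : H) * x * (y : H)⁻¹) * g := by rw [hs]; group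
      _ = (y : H)⁻¹ * (g * x * g⁻¹) * g := by rw [hy']
      _ = s * x := by rw [hs]; group
  have hπs : π s = π g := by rw [hs, map_mul, (key _).1 (inv_mem y.2), one_mul]
  have hs2 : s * s = 1 :=
    fpf hsol hO hI hxo hx1 (by rw [key, map_mul, hπs, ← sq, ← he, pow_orderOf_eq_one])
      ((show Commute x s from hsx).mul_right hsx).eq
  have hs1 : s ≠ 1 := fun h => by
    rw [← hπs, h, map_one, orderOf_one] at he; omega
  have hso : orderOf s = 2 := orderOf_eq_prime (by rw [sq]; exact hs2) hs1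
  -- a fixed point of s on Y
  have hYne : Y ≠ ⊥ := by
    intro hbot
    have h := CfsgLib.PLocal.centralizer_pCore_le (G := H) (p := 2)
      (haveI := hsol; CfsgLib.PLocal.isPSolvable_of_isSolvable) hO (x := x)
      (mem_centralizer_iff.2 fun z hz => by
        rw [show z ∈ (Cfsg.pCore 2 H : Set H) ↔ z ∈ Y from Iff.rfl, hbot, mem_bot] at hz
        simp [hz])
    rw [← hYdef, hbot, mem_bot] at h
    exact hx1 h
  letI : MulAction (zpowers s) Y := MulAction.compHom _ ((MulAut.conjNormal (H := Y)).comp (zpowers s).subtype)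
  have hZ : IsPGroup 2 (zpowers s) := IsPGroup.of_card (n := 1) (by rw [Nat.card_zpowers, hso, pow_one])
  obtain ⟨k, hk⟩ := IsPGroup.iff_card.1 hY
  have hd : 2 ∣ Nat.card Y := by
    rw [hk]; refine dvd_pow_self 2 fun h0 => hYne ?_
    rw [h0, pow_zero, card_eq_one] at hk; exact hk
  obtain ⟨u, hu, hu1⟩ := hZ.exists_fixed_point_of_prime_dvd_card_of_fixed_point Y hd
    (a := (1 : Y)) (fun m => map_one (MulAut.conjNormal (H := Y) (m : H)))
  have hu' : s * (u : H) * s⁻¹ = u := congrArg Subtype.val (hu ⟨s, mem_zpowers s⟩)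
  have hus : (u : H) ∈ centralizer ({s} : Set H) :=
    mem_centralizer_singleton_iff.2 (mul_inv_eq_iff_eq_mul.1 hu').symm
  have := fpf hsol hO hI hxo hx1 u.2
    (commute_in_centralizer (hI s hso) hY hxo (mem_centralizer_singleton_iff.2 hsx) hus u.2)
  exact hu1 (Subtype.ext this.symm)

end

/-- Let H be a finite solvable group with no nontrivial normal subgroup of odd order in which the centralizer of every involution has a normal 2-complement. Let X be a Hall 2'-subgroup of H (odd order, index a power of 2) and Y = O₂(H). Then no non-identity element of X commutes with a non-identity element of Y (so for X ≠ 1 the group XY is a Frobenius group with kernel Y), every Sylow subgroup of X is cyclic, XY is normal in H, and H/XY is a cyclic 2-group. -/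
theorem result {H : Type*} [Group H] [Finite H] (hsol : Group.IsSolvable H)
    (hO : Cfsg.oddCore H = ⊥)
    (hI : ∀ t : H, orderOf t = 2 → Cfsg.HasNormalPComplement 2 ↥(Subgroup.centralizer ({t} : Set H)))
    (X : Subgroup H) (hXodd : Odd (Nat.card X)) (hXidx : ∃ k : ℕ, X.index = 2 ^ k) :
    (∀ x ∈ X, x ≠ 1 → ∀ y ∈ Cfsg.pCore 2 H, y ≠ 1 → x * y ≠ y * x) ∧
      (∀ (p : ℕ) [Fact p.Prime] (P : Sylow p ↥X), IsCyclic ↥(P : Subgroup ↥X)) ∧
      (X ⊔ Cfsg.pCore 2 H).Normal ∧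
      ∀ hN : (X ⊔ Cfsg.pCore 2 H).Normal, IsCyclic (H ⧸ (X ⊔ Cfsg.pCore 2 H)) ∧ IsPGroup 2 (H ⧸ (X ⊔ Cfsg.pCore 2 H)) := by
  haveI := hsol
  haveI : Fact (Nat.Prime 2) := ⟨Nat.prime_two⟩
  haveI hYn : (Cfsg.pCore 2 H).Normal := CfsgLib.Solvable.pCore_normal 2
  have hY : IsPGroup 2 (Cfsg.pCore 2 H) := CfsgLib.Solvable.isPGroup_pCore 2
  set Y := Cfsg.pCore 2 H with hYdef
  have hXo : ∀ x ∈ X, Odd (orderOf x) := fun x hx =>
    Odd.of_dvd_nat hXodd (Subgroup.orderOf_mk x hx ▸ orderOf_dvd_natCard (⟨x, hx⟩ : X))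
  have part1 : ∀ x ∈ X, x ≠ 1 → ∀ y ∈ Y, y ≠ 1 → x * y ≠ y * x := fun x hx hx1 y hy hy1 h =>
    hy1 (fpf hsol hO hI (hXo x hx) hx1 hy h)
  have hXY : ∀ x ∈ X, x ∈ Y → x = 1 := fun x hx hxY => eq_one_of_two_odd hY hXodd hxY hx
  have hYbot : Y = ⊥ → ∀ h : H, h = 1 := by
    intro hbot h
    have := CfsgLib.PLocal.centralizer_pCore_le (G := H) (p := 2)
      CfsgLib.PLocal.isPSolvable_of_isSolvable hO (x := h) (Subgroup.mem_centralizer_iff.2 fun z hz => by
        rw [show z ∈ (Cfsg.pCore 2 H : Set H) ↔ z ∈ Y from Iff.rfl, hbot, Subgroup.mem_bot] at hz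
        simp [hz])
    rwa [← hYdef, hbot, Subgroup.mem_bot] at this
  have part2 : ∀ (p : ℕ) [Fact p.Prime] (P : Sylow p ↥X), IsCyclic ↥(P : Subgroup ↥X) := by
    intro p _ P
    by_cases hbot : Y = ⊥
    · haveI : Subsingleton (P : Subgroup X) :=
        ⟨fun a b => Subtype.ext (Subtype.ext ((hYbot hbot _).trans (hYbot hbot _).symm))⟩
      infer_instance
    have hu := CfsgLib.Solvable.hasUniqueOrderP_of_fpf (K := Y) (H := X) hbot
      (fun x hx hx1 => by
        rw [eq_bot_iff]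
        rintro y ⟨hy, hyx⟩
        rw [Subgroup.mem_bot]
        exact fpf hsol hO hI (hXo x hx) hx1 hy (Subgroup.mem_centralizer_singleton_iff.1 hyx).symm)
      P.isPGroup'
    rcases CfsgLib.TwoGroupsQ.isCyclic_or_quaternion P.isPGroup' hu with h | ⟨rfl, m, -, ⟨e⟩⟩
    · exact h
    · exfalso
      haveI : NeZero (2 ^ m) := ⟨by positivity⟩
      have h1 := Odd.of_dvd_nat hXodd (Subgroup.card_subgroup_dvd_card (P : Subgroup X))
      rw [Nat.card_congr e.toEquiv, Nat.card_eq_fintype_card, QuaternionGroup.card, Nat.odd_iff] at h1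
      omega
  set Q := H ⧸ Y
  set π := QuotientGroup.mk' Y with hπ
  have hπs : Function.Surjective π := QuotientGroup.mk'_surjective Y
  set Xb := X.map π with hXb
  obtain ⟨k, hk⟩ := hXidx
  have hXbidx : Xb.index ∣ 2 ^ k := hk ▸ Subgroup.index_map_dvd X hπs
  have hXbodd : Odd (Nat.card Xb) := Odd.of_dvd_nat hXodd (Subgroup.card_map_dvd X π)
  haveI hFn : (Cfsg.fittingSubgroup Q).Normal := CfsgLib.Solvable.fittingSubgroup_normal
  haveI hFnil : Group.IsNilpotent (Cfsg.fittingSubgroup Q) := CfsgLib.Solvable.fittingSubgroup_isNilpotent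
  set F := Cfsg.fittingSubgroup Q
  have hFodd : Odd (Nat.card F) := by
    rw [Nat.odd_iff]
    by_contra h
    obtain ⟨P⟩ := (inferInstance : Nonempty (Sylow 2 F))
    haveI : (P : Subgroup F).Normal := inferInstance
    haveI : (P : Subgroup F).Characteristic := Sylow.characteristic_of_normal P inferInstance
    have hle : (P : Subgroup F).map F.subtype ≤ Cfsg.pCore 2 Q :=
      CfsgLib.Solvable.le_pCore (P.isPGroup'.map _)
    rw [CfsgLib.PLocal.pCore_quotient_pCore_eq_bot 2 H, le_bot_iff,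
      Subgroup.map_eq_bot_iff_of_injective _ F.subtype_injective] at hle
    exact P.not_dvd_index (by rw [hle, Subgroup.index_bot]; omega)
  have hFX : F ≤ Xb := by
    have h1 : Odd (Nat.card ↥(Xb ⊔ F)) := by
      have e1 := Subgroup.relIndex_mul_relIndex ⊥ F (Xb ⊔ F) bot_le le_sup_right
      rw [Subgroup.relIndex_bot_left, Subgroup.relIndex_bot_left, Subgroup.relIndex_sup_right] at e1
      rw [← e1]
      exact hFodd.mul (Odd.of_dvd_nat hXbodd ((F.subgroupOf Xb).index_dvd_card))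
    have h2 : Xb.relIndex (Xb ⊔ F) = 1 :=
      Nat.eq_one_of_dvd_coprimes (Nat.Coprime.pow_left k (Nat.coprime_two_left.2 h1))
        ((Subgroup.relIndex_dvd_index_of_le le_sup_left).trans hXbidx)
        ((Xb.subgroupOf (Xb ⊔ F)).index_dvd_card)
    exact le_sup_right.trans (Subgroup.relIndex_eq_one.1 h2)
  haveI hZX : IsZGroup X := ⟨fun p hp P => haveI := Fact.mk hp; part2 p P⟩
  haveI hZXb : IsZGroup Xb := IsZGroup.of_surjective (f := π.subgroupMap X) (π.subgroupMap_surjective X)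
  haveI hZF : IsZGroup F := IsZGroup.of_injective (f := Subgroup.inclusion hFX) (Subgroup.inclusion_injective hFX)
  have hFcyc : IsCyclic F := inferInstance
  have hCF := CfsgLib.Solvable.centralizer_fittingSubgroup_le (G := Q)
  have hcomm : ∀ a b : Q, a * b * a⁻¹ * b⁻¹ ∈ F := by
    intro a b
    obtain ⟨m, hm⟩ := MonoidHom.map_cyclic (MulAut.conjNormal (H := F) a).toMonoidHom
    obtain ⟨n, hn⟩ := MonoidHom.map_cyclic (MulAut.conjNormal (H := F) b).toMonoidHom
    refine hCF (Subgroup.mem_centralizer_iff.2 fun f hf => ?_)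
    have h1 : ∀ f : F, MulAut.conjNormal a (MulAut.conjNormal b f) = MulAut.conjNormal b (MulAut.conjNormal a f) := by
      intro f
      have ha : ∀ g : F, MulAut.conjNormal a g = g ^ m := hm
      have hb : ∀ g : F, MulAut.conjNormal b g = g ^ n := hn
      simp only [ha, hb]
      rw [← zpow_mul, ← zpow_mul, mul_comm]
    have h2 := congrArg Subtype.val (h1 (MulAut.conjNormal (a⁻¹ * b⁻¹) ⟨f, hf⟩))
    simp only [MulAut.conjNormal_apply] at h2
    have h3 : f = (b * a * a⁻¹ * b⁻¹) * f * (b * a * a⁻¹ * b⁻¹)⁻¹ := by group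
    have h4 : (a * b * a⁻¹ * b⁻¹) * f * (a * b * a⁻¹ * b⁻¹)⁻¹ = f := by
      calc (a * b * a⁻¹ * b⁻¹) * f * (a * b * a⁻¹ * b⁻¹)⁻¹
          = a * (b * (a⁻¹ * b⁻¹ * f * (a⁻¹ * b⁻¹)⁻¹) * b⁻¹) * a⁻¹ := by group
        _ = b * (a * (a⁻¹ * b⁻¹ * f * (a⁻¹ * b⁻¹)⁻¹) * a⁻¹) * b⁻¹ := h2
        _ = f := by group
    exact (mul_inv_eq_iff_eq_mul.1 h4).symm
  have hXbn : Xb.Normal := ⟨fun x hx g => by
    have := Xb.mul_mem (hFX (hcomm g x)) hx
    rwa [inv_mul_cancel_right] at this⟩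
  have hsup : Xb.comap π = X ⊔ Y := by rw [Subgroup.comap_map_eq, hπ, QuotientGroup.ker_mk']
  have part3 : (X ⊔ Y).Normal := hsup ▸ hXbn.comap π
  refine ⟨part1, part2, part3, fun hN => ?_⟩
  have hcardQ : Nat.card (H ⧸ (X ⊔ Y)) ∣ 2 ^ k := by
    rw [← Subgroup.index_eq_card, ← hk]
    exact Subgroup.index_dvd_of_le le_sup_left
  have hp2 : IsPGroup 2 (H ⧸ (X ⊔ Y)) := by
    obtain ⟨j, -, hj⟩ := (Nat.dvd_prime_pow Nat.prime_two).1 hcardQ
    exact IsPGroup.of_card hj
  refine ⟨?_, hp2⟩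
  have hab : ∀ a b : H ⧸ (X ⊔ Y), a * b = b * a := by
    intro a b
    obtain ⟨a, rfl⟩ := QuotientGroup.mk'_surjective _ a
    obtain ⟨b, rfl⟩ := QuotientGroup.mk'_surjective _ b
    rw [← mul_inv_eq_iff_eq_mul, ← mul_inv_eq_one, ← map_inv, ← map_inv, ← map_mul, ← map_mul, ← map_mul]
    refine (QuotientGroup.eq_one_iff _).2 (hsup ▸ ?_)
    show π (a * b * a⁻¹ * b⁻¹) ∈ Xb
    simp only [map_mul, map_inv]
    exact hFX (hcomm (π a) (π b))
  -- involutions of the quotient lift to involutions of Q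
  have hlift : ∀ q : H ⧸ (X ⊔ Y), q ^ 2 = 1 → q ≠ 1 →
      ∃ e : Q, orderOf e = 2 ∧ ∃ h : H, π h = e ∧ (h : H ⧸ (X ⊔ Y)) = q := by
    intro q hq hq1
    obtain ⟨h, rfl⟩ := QuotientGroup.mk'_surjective _ q
    have hh : π (h ^ 2) ∈ Xb := by
      have : h ^ 2 ∈ Xb.comap π := hsup ▸ (QuotientGroup.eq_one_iff _).1 (by rw [← hq]; rfl)
      exact this
    set o := orderOf (π (h ^ 2)) with ho
    have hoodd : Odd o := Odd.of_dvd_nat hXbodd (by
      rw [ho, ← Subgroup.orderOf_mk _ hh]; exact orderOf_dvd_natCard _)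
    have hq' : (QuotientGroup.mk' (X ⊔ Y)) (h ^ o) = QuotientGroup.mk' (X ⊔ Y) h := by
      obtain ⟨r, hr⟩ := hoodd
      rw [map_pow, hr, pow_succ, pow_mul, hq, one_pow, one_mul]
    refine ⟨π (h ^ o), orderOf_eq_prime ?_ ?_, h ^ o, rfl, hq'⟩
    · rw [← map_pow, ← pow_mul, mul_comm, pow_mul, map_pow, ho, pow_orderOf_eq_one]
    · intro he
      apply hq1
      have : h ^ o ∈ X ⊔ Y := Subgroup.mem_sup_right ((QuotientGroup.eq_one_iff _).1 he)
      rw [← hq']
      exact (QuotientGroup.eq_one_iff _).2 this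
  have hinv : ∀ e : Q, orderOf e = 2 → ∀ f ∈ F, e * f * e⁻¹ = f⁻¹ := by
    intro e he
    refine (CfsgLib.Inv53.inverts_of_fixedPointFree (by rw [← sq, ← he, pow_orderOf_eq_one])
      (fun f hf => hFn.conj_mem f hf e) fun f hf hcf => ?_).1
    by_contra hf1
    obtain ⟨p, hp, hpd⟩ := Nat.exists_prime_and_dvd (show orderOf f ≠ 1 by rwa [Ne, orderOf_eq_one_iff])
    have hfo : Odd (orderOf f) := Odd.of_dvd_nat hFodd (Subgroup.orderOf_mk f hf ▸ orderOf_dvd_natCard (⟨f, hf⟩ : F))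
    have hp2' : p ≠ 2 := fun h => by
      subst h; rw [Nat.odd_iff] at hfo; omega
    refine quotient_fpf hsol hO hI he hp hp2' (f := f ^ (orderOf f / p)) ?_ (hcf.pow_right _).eq
    rw [orderOf_pow_of_dvd (Nat.div_ne_zero_iff_of_dvd hpd |>.2 ⟨(orderOf_pos f).ne', hp.ne_zero⟩)
      (Nat.div_dvd_of_dvd hpd), Nat.div_div_self hpd (orderOf_pos f).ne']
  have hu : CfsgLib.TwoGroupsQ.HasUniqueOrderP (H ⧸ (X ⊔ Y)) 2 :=
    CfsgLib.TwoGroupsQ.hasUniqueOrderP_two fun q r hq hq1 hr hr1 => by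
      obtain ⟨e, he, h, hhe, hhq⟩ := hlift q hq hq1
      obtain ⟨e', he', h', hhe', hhr⟩ := hlift r hr hr1
      rw [← hhq, ← hhr, QuotientGroup.eq]
      rw [← hsup, Subgroup.mem_comap, map_mul, map_inv, hhe, hhe']
      apply hFX
      refine hCF (Subgroup.mem_centralizer_iff.2 fun f hf => ?_)
      have h2 := hinv e he _ (inv_mem hf)
      have h3 := hinv e' he' f hf
      have h4 : (e⁻¹ * e') * f * (e⁻¹ * e')⁻¹ = f := by
        calc (e⁻¹ * e') * f * (e⁻¹ * e')⁻¹ = e⁻¹ * (e' * f * e'⁻¹) * e := by group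
          _ = e⁻¹ * f⁻¹ * e := by rw [h3]
          _ = f := by
            rw [inv_eq_of_mul_eq_one_right (show e * e = 1 by rw [← sq, ← he, pow_orderOf_eq_one])] at h2 ⊢
            rwa [inv_inv] at h2
      exact (mul_inv_eq_iff_eq_mul.1 h4).symm
  rcases CfsgLib.TwoGroupsQ.isCyclic_or_quaternion hp2 hu with h | ⟨-, m, hm, ⟨e⟩⟩
  · exact h
  · exfalso
    haveI : NeZero (2 ^ m) := ⟨by positivity⟩
    haveI : Fact (1 < 2 * 2 ^ m) := ⟨by have := Nat.one_le_two_pow (n := m); omega⟩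
    have h1 : (QuaternionGroup.a 1 : QuaternionGroup (2 ^ m)) * QuaternionGroup.xa 0 =
        QuaternionGroup.xa 0 * QuaternionGroup.a 1 := by
      apply e.symm.injective
      rw [map_mul, map_mul]; exact hab _ _
    simp only [QuaternionGroup.a_mul_xa, QuaternionGroup.xa_mul_a, QuaternionGroup.xa.injEq] at h1
    have h2 : ((2 : ℕ) : ZMod (2 * 2 ^ m)) = 0 := by
      push_cast
      linear_combination -h1
    rw [ZMod.natCast_eq_zero_iff] at h2
    have := Nat.le_of_dvd two_pos h2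
    have : 2 ≤ 2 ^ m := Nat.le_self_pow (by omega) 2
    omega

end Cfsg.Agent.S3215
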