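import Cfsg.Statements.S3219
import Cfsg.Agent.TwoPointAltFour.EvenSix
import Cfsg.Agent.TwoPointAltFour.TwentyEight
import Cfsg.Agent.TwoPointAltFour.SixteenAffine
import Cfsg.Agent.TwoPointAltFour.OddSixFinish
import Cfsg.Agent.TwoPointAltFour.OddCentral
import Cfsg.Agent.TwoPointAltFour.OddFourKlein

set_option autoImplicit false
open Cfsg

namespace Cfsg.Agent.S3219

/-- Let G be a finite doubly transitive permutation group on a set Ω in which the stabilizer of two points is isomorphic to the alternating group A₄. Then Ω has 6 points and G ≅ A₆, or Ω has 15 points and G ≅ A₇, or Ω has 16 points and G is isomorphic to the group of all affine transformations of the affine plane over the field with 4 elements, or G = C_G(J)O(G) for some involution J of G, where O(G) is the largest normal subgroup of G of odd order. -/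
theorem result {G : Type*} [Group G] [Finite G] {Ω : Type*} [Fintype Ω] [MulAction G Ω] [FaithfulSMul G Ω]
    (h2 : MulAction.IsMultiplyPretransitive G Ω 2) (a b : Ω) (hab : a ≠ b)
    (e : ↥(MulAction.stabilizer G a ⊓ MulAction.stabilizer G b) ≃* ↥(alternatingGroup (Fin 4))) :
    (Fintype.card Ω = 6 ∧ Nonempty (G ≃* ↥(alternatingGroup (Fin 6)))) ∨ (Fintype.card Ω = 15 ∧ Nonempty (G ≃* ↥(alternatingGroup (Fin 7)))) ∨
      (Fintype.card Ω = 16 ∧ ∃ (F : Type) (_ : Field F) (_ : Fintype F), Fintype.card F = 4 ∧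
        Nonempty (G ≃* ((Fin 2 → F) ≃ᵃ[F] (Fin 2 → F)))) ∨
      (∃ J : G, orderOf J = 2 ∧ Subgroup.centralizer ({J} : Set G) ⊔ Cfsg.oddCore G = ⊤) := by
  have h := CfsgLib.TwoPointAltFour.hyp_of_pair h2 hab e
  rw [← Nat.card_eq_fintype_card]
  rcases Nat.even_or_odd (Nat.card Ω) with hn | hn
  · rcases h.even_survivors hab hn with e6 | ⟨e28, -⟩ | ⟨e16, -⟩
    · exact Or.inl ⟨e6, h.equiv_alt_six hab e6⟩
    · exact (h.not_twentyEight hab e28).elim
    · exact Or.inr (Or.inr (Or.inl ⟨e16, (h.sixteen e16).equiv_affine⟩))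
  rcases h.caseA_or_caseS hab with ⟨z, hz, hzc, hset⟩ | hS
  swap
  · exact Or.inr (Or.inl (h.oddSix_conclusion hn hab hS))
  obtain ⟨t, ht, ht1⟩ := h.exists_ne_one hab
  have htT := h.isT_of_mem hab ht ht1
  have hlt := h.ncard_fx_lt htT
  obtain ⟨c, hc⟩ := (Nat.even_mul_pred_self (CfsgLib.TwoPointAltFour.fx t : Set Ω).ncard)
  obtain ⟨m, hm⟩ := id hn
  rcases h.numbers_caseA hab ht ht1 hzc hset with ⟨-, -, h1, hk3⟩ | ⟨hzT, hzv, h1, hk⟩ | ⟨hzT, hzv, -, -⟩
  · exfalso
    have hi : Odd (CfsgLib.TwoPointAltFour.fx t : Set Ω).ncard := Nat.odd_iff.2 (by omega)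
    have hk : Odd (CfsgLib.TwoPointAltFour.fxFour G a b).ncard := by
      rcases hk3 with e' | e' | e'
      · rw [e']; exact hi
      · rw [e'] at hi; exact (Nat.odd_mul.1 hi).1
      · rw [e'] at hi; exact (Nat.odd_mul.1 hi).1
    obtain ⟨hik, hD⟩ := h.central_four hn hab hz hzc hset
      (fun g hg hg1 => h.all_isT hn hab ⟨z, hz, hzc, hset⟩ ht ht1 h1 hg hg1) ht ht1 hi hk hk3
    exact h.not_large hn hab hz hzc hset ht ht1 hk hik hD
  · exfalso
    exact h.central_one hn hab hzc hz hset hzT hzv ht ht1 (h.fxFour_eq_fx hab ht ht1 hk)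
      (Nat.odd_iff.2 (by omega))
  · exact Or.inr (Or.inr (Or.inr (h.central_three hn hab hz hset hzT hzv)))

end Cfsg.Agent.S3219
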