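import Cfsg.Statements.S3221
import Cfsg.Agent.SpFourThree70.Recognition
import Cfsg.Agent.Forms.PSpTransport
-- import your own Cfsg.Agent.* helpers here

set_option autoImplicit false
open Cfsg

namespace Cfsg.Agent.S3221

/-- Let F be the field with 3 elements and t₀ an involution of PSp₄(3) = PSp₄(F) lying in the centre of a Sylow 2-subgroup. If G is a finite group of even order that has no subgroup of index 2 and contains an involution t whose centralizer C_G(t) is isomorphic to C_{PSp₄(3)}(t₀), then G ≅ PSp₄(3). -/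
theorem result {G : Type*} [Group G] [Finite G] (hev : Even (Nat.card G))
    (hG : ∀ H : Subgroup G, H.index ≠ 2) {F : Type*} [Field F] [Fintype F] (hF : Fintype.card F = 3)
    (U : Sylow 2 (Cfsg.PSp 2 F)) (t₀ : Cfsg.PSp 2 F) (ht₀ : orderOf t₀ = 2) (ht₀U : t₀ ∈ (U : Subgroup (Cfsg.PSp 2 F)))
    (ht₀c : ∀ u ∈ (U : Subgroup (Cfsg.PSp 2 F)), u * t₀ = t₀ * u) (t : G) (ht : orderOf t = 2)
    (e : ↥(Subgroup.centralizer ({t} : Set G)) ≃* ↥(Subgroup.centralizer ({t₀} : Set (Cfsg.PSp 2 F)))) :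
    Nonempty (G ≃* Cfsg.PSp 2 F) := by
  classical
  have : CharP F 3 := by
    obtain ⟨p, hp⟩ := CharP.exists F
    obtain ⟨n, hp', hn⟩ := FiniteField.card F p
    rw [hF] at hn
    have h3 : p = 3 := by
      have hdvd : p ∣ 3 := hn ▸ dvd_pow_self p n.pos.ne'
      exact ((Nat.dvd_prime Nat.prime_three).1 hdvd).resolve_left hp'.one_lt.ne'
    exact h3 ▸ hp
  obtain ⟨φ⟩ := CfsgLib.Forms.nonempty_psp_equiv (ZMod.ringEquiv F hF).symm 2
  let ε := (Shrink.mulEquiv.{0} (α := G))
  let t' : Shrink.{0} G := ε.symm t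
  have hC : (Subgroup.centralizer ({t'} : Set (Shrink.{0} G))).map ε.toMonoidHom =
      Subgroup.centralizer ({t} : Set G) := by
    ext y
    simp only [Subgroup.mem_map, Subgroup.mem_centralizer_singleton_iff]
    constructor
    · rintro ⟨x, hx, rfl⟩
      have := congrArg ε hx
      simpa [t', map_mul] using this
    · intro hy
      exact ⟨ε.symm y, by rw [← map_mul, ← map_mul, hy], ε.apply_symm_apply y⟩
  have hG' : ∀ H : Subgroup (Shrink.{0} G), H.index ≠ 2 := fun H h => hG (H.map ε.toMonoidHom) (by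
    rw [← h]; exact Subgroup.index_map_equiv H ε)
  obtain ⟨f⟩ := CfsgLib.SpFourThree70.nonempty_iso_of_centralizer φ hG' U t₀ ht₀ ht₀U ht₀c t'
    (by rw [MulEquiv.orderOf_eq]; exact ht)
    (((ε.subgroupMap _).trans (MulEquiv.subgroupCongr hC)).trans e)
  exact ⟨ε.symm.trans f⟩

end Cfsg.Agent.S3221
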