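import Cfsg.Statements.S3222
import Cfsg.Agent.Inv53.SymSixMain
-- import your own Cfsg.Agent.* helpers here

set_option autoImplicit false
open Cfsg

namespace Cfsg.Agent.S3222

open CfsgLib.Inv53 CfsgLib.Inv53.ZTwoSFour

set_option linter.style.haveILetI false

/-- The set-up. -/
theorem exists_data {G : Type*} [Group G] [Finite G] (t : G) (ht : orderOf t = 2) (T : Sylow 2 G)
    (htc : ∀ s ∈ (T : Subgroup G), s * t = t * s)
    (e : ↥(Subgroup.centralizer ({t} : Set G)) ≃* (Multiplicative (ZMod 2) × Equiv.Perm (Fin 4)))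
    (h2 : ∀ S : Sylow 2 G, Subgroup.centralizer ((⁅(S : Subgroup G), (S : Subgroup G)⁆ : Subgroup G) : Set G) = (S : Subgroup G)) :
    ∃ (μ : M2 →* G) (T' : Sylow 2 G), SixData μ T' ∧ μ tau = t := by
  classical
  let C := Subgroup.centralizer ({t} : Set G)
  let μ : M2 →* G := C.subtype.comp e.symm.toMonoidHom
  have hinj : Function.Injective μ := C.subtype_injective.comp e.symm.injective
  have hC : ∀ g, g ∈ C ↔ g * t = t * g := fun g => by
    change g ∈ Subgroup.centralizer ({t} : Set G) ↔ _
    rw [Subgroup.mem_centralizer_iff]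
    exact ⟨fun h => (h _ rfl).symm, fun h => by rintro _ rfl; exact h.symm⟩
  have hrange : ∀ g, g * t = t * g → ∃ m, μ m = g := fun g hg =>
    ⟨e ⟨g, (hC g).2 hg⟩, by
      change ((e.symm (e ⟨g, (hC g).2 hg⟩) : C) : G) = g
      rw [e.symm_apply_apply]⟩
  have hμC : ∀ m, μ m * t = t * μ m := fun m => (hC _).1 (e.symm m).2
  have htau : μ tau = t := by
    obtain ⟨m, hm⟩ := hrange t rfl
    have hc : ∀ n : M2, m * n = n * m := fun n => hinj (by
      rw [map_mul, map_mul, hm]; exact (hμC n).symm)
    rcases central_sq m hc with rfl | rfl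
    · rw [map_one] at hm
      rw [← hm, orderOf_one] at ht
      omega
    · exact hm
  let S0 : Subgroup G := (Subgroup.centralizer ({zeta} : Set M2)).map μ
  have hmemS0 : ∀ g, g ∈ S0 ↔ ∃ m : M2, m * zeta = zeta * m ∧ μ m = g := by
    intro g
    rw [Subgroup.mem_map]
    simp only [Subgroup.mem_centralizer_iff, Set.mem_singleton_iff, forall_eq]
    exact ⟨fun ⟨m, hm, he⟩ => ⟨m, hm.symm, he⟩, fun ⟨m, hm, he⟩ => ⟨m, hm.symm, he⟩⟩
  have hS0 : Nat.card S0 = 16 := by
    rw [← card_Tset, Subgroup.card_map_of_injective hinj, ← Nat.card_eq_finsetCard]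
    refine Nat.card_congr (Equiv.subtypeEquivRight fun m => ?_)
    simp [Subgroup.mem_centralizer_iff, eq_comm]
  have hp : IsPGroup 2 S0 := IsPGroup.of_card (n := 4) hS0
  haveI : Fact (Nat.Prime 2) := ⟨Nat.prime_two⟩
  have hT16 : Nat.card (T : Subgroup G) = 2 ^ 4 := by
    have hle1 : 16 ≤ Nat.card (T : Subgroup G) := by
      obtain ⟨S, hS⟩ := hp.exists_le_sylow
      have := Subgroup.card_le_of_le hS
      rw [hS0, Nat.card_congr (S.equiv T).toEquiv] at this
      exact this
    have hdvd : Nat.card (T : Subgroup G) ∣ 48 := by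
      rw [← card_M2, ← Nat.card_congr e.toEquiv]
      exact Subgroup.card_dvd_of_le fun s hs => (hC s).2 (htc s hs)
    obtain ⟨j, hj⟩ := T.isPGroup'.exists_card_eq
    rw [hj] at hle1 hdvd ⊢
    have h5 : j < 5 := by
      by_contra h
      have : 2 ^ 5 ∣ 2 ^ j := pow_dvd_pow 2 (by omega)
      exact absurd (this.trans hdvd) (by norm_num)
    have h4 : 3 < j := by
      by_contra h
      have := Nat.pow_le_pow_right (show 0 < 2 by norm_num) (show j ≤ 3 by omega)
      omega
    rw [show j = 4 by omega]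
  let T' : Sylow 2 G := Sylow.ofCard S0 (by
    rw [hS0, ← T.card_eq_multiplicity, hT16]; norm_num)
  refine ⟨μ, T', ⟨hinj, fun g hg => hrange g (by rwa [htau] at hg), hmemS0, ?_⟩, htau⟩
  intro g hg
  have hle : ⁅(T' : Subgroup G), (T' : Subgroup G)⁆ ≤ Subgroup.zpowers (μ zeta) := by
    rw [Subgroup.commutator_le]
    intro x hx y hy
    obtain ⟨a, ha, rfl⟩ := (hmemS0 x).1 hx
    obtain ⟨b, hb, rfl⟩ := (hmemS0 y).1 hy
    rw [commutatorElement_def, ← map_inv, ← map_inv, ← map_mul, ← map_mul, ← map_mul]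
    rcases comm_T a ha b hb with h | h <;> rw [h]
    · rw [map_one]; exact Subgroup.one_mem _
    · exact Subgroup.mem_zpowers _
  show g ∈ (T' : Subgroup G)
  rw [← h2 T', Subgroup.mem_centralizer_iff]
  intro c hc
  obtain ⟨i, rfl⟩ := Subgroup.mem_zpowers_iff.1 (hle hc)
  exact (Commute.zpow_right (show Commute g (μ zeta) from hg) i).eq.symm

/-- Let G be a finite group of even order such that (1) some involution t lying in the centre of a Sylow 2-subgroup of G has C_G(t) ≅ Z₂ × S₄, and (2) every Sylow 2-subgroup S of G satisfies C_G(S′) = S, where S′ is the derived subgroup of S. Then G = C_G(t) if G is solvable, and G ≅ S₆ otherwise. -/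
theorem result {G : Type*} [Group G] [Finite G] (hev : Even (Nat.card G))
    (t : G) (ht : orderOf t = 2) (T : Sylow 2 G) (htT : t ∈ (T : Subgroup G)) (htc : ∀ s ∈ (T : Subgroup G), s * t = t * s)
    (e : ↥(Subgroup.centralizer ({t} : Set G)) ≃* (Multiplicative (ZMod 2) × Equiv.Perm (Fin 4)))
    (h2 : ∀ S : Sylow 2 G, Subgroup.centralizer ((⁅(S : Subgroup G), (S : Subgroup G)⁆ : Subgroup G) : Set G) = (S : Subgroup G)) :
    (Group.IsSolvable G → Subgroup.centralizer ({t} : Set G) = ⊤) ∧
      (¬ Group.IsSolvable G → Nonempty (G ≃* Equiv.Perm (Fin 6))) := by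
  obtain ⟨μ, T', d, htau⟩ := exists_data t ht T htc e h2
  have hsplit : Subgroup.centralizer ({t} : Set G) = ⊤ ∨ Nonempty (G ≃* Equiv.Perm (Fin 6)) := by
    by_cases h1 : IsConj (μ tau) (μ aa)
    · exact Or.inr (d.iso_six h1)
    by_cases h1' : IsConj (μ tau) (μ (tau * aa))
    · refine Or.inr (d.twisted.iso_six ?_)
      change IsConj (μ (twist tau)) (μ (twist aa))
      have htw : twist (twist aa) = aa := twist.left_inv aa
      have h : twist aa = tau * aa := by
        apply twist.injective
        rw [htw, twist_values.2.2]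
      rwa [twist_values.1, h]
    · left
      rw [Subgroup.eq_top_iff']
      intro g
      have := d.central_of_isolated h1 h1' g
      rw [htau] at this
      exact Subgroup.mem_centralizer_iff.2 (by rintro _ rfl; exact this.symm)
  refine ⟨fun hsol => hsplit.resolve_right ?_, fun hns => hsplit.resolve_left ?_⟩
  · rintro ⟨f⟩
    haveI := hsol
    refine Equiv.Perm.not_isSolvable (Fin 6) (by rw [Cardinal.mk_fintype, Fintype.card_fin]; norm_num) ?_
    exact Group.isSolvable_of_surjective (f := f.toMonoidHom) f.surjective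
  · intro htop
    apply hns
    haveI : Group.IsSolvable (Equiv.Perm (Fin 4)) := CfsgLib.Inv54.isSolvable_perm_fin_four
    haveI : Group.IsSolvable (Multiplicative (ZMod 2)) := inferInstance
    haveI : Group.IsSolvable (Multiplicative (ZMod 2) × Equiv.Perm (Fin 4)) := inferInstance
    haveI : Group.IsSolvable ↥(Subgroup.centralizer ({t} : Set G)) :=
      Group.isSolvable_of_isSolvable_injective (f := e.toMonoidHom) e.injective
    refine Group.isSolvable_of_surjective (f := (Subgroup.centralizer ({t} : Set G)).subtype) fun g => ?_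
    exact ⟨⟨g, htop ▸ Subgroup.mem_top g⟩, rfl⟩

end Cfsg.Agent.S3222
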