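import Cfsg.Statements.S3237
import Cfsg.Agent.AutLThreeFour70.Final
import Cfsg.Agent.AutLThreeFour70.Normal
import Cfsg.Agent.Characters.Burnside

set_option autoImplicit false
open Cfsg

namespace Cfsg.Agent.S3237

/-- Let G be a finite group of even order with an involution z, H = C_G(z), such that H has a normal subgroup E of order 32 that is extraspecial and contains no elementary abelian subgroup of order 8 (the central product of a dihedral group of order 8 with a quaternion group), C_H(E) ≤ E, and H/E ≅ S₄. Then O(G) is abelian, and if G is not solvable then G is isomorphic to the automorphism group of PGL₃(4). -/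
theorem result {G : Type*} [Group G] [Finite G]
    (hev : Even (Nat.card G)) (z : G) (hz : orderOf z = 2)
    (E : Subgroup ↥(Subgroup.centralizer ({z} : Set G))) [hEn : E.Normal] (hE : Cfsg.IsExtraspecial 2 ↥E) (hE32 : Nat.card ↥E = 32)
    (hEminus : ∀ A : Subgroup ↥E, Cfsg.IsElementaryAbelian 2 A → Nat.card ↥A ≠ 8)
    (hCE : Subgroup.centralizer (E : Set ↥(Subgroup.centralizer ({z} : Set G))) ≤ E)
    (e : (↥(Subgroup.centralizer ({z} : Set G)) ⧸ E) ≃* Equiv.Perm (Fin 4)) {F : Type*} [Field F] [Fintype F] (hF : Fintype.card F = 4) :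
    IsMulCommutative ↥(Cfsg.oddCore G) ∧
      (¬ Group.IsSolvable G → Nonempty (G ≃* MulAut (GL (Fin 3) F ⧸ Subgroup.center (GL (Fin 3) F)))) := by
  have hSn := hEn
  haveI : Fact (Nat.Prime 2) := ⟨Nat.prime_two⟩
  have hzz : z * z = 1 := by rw [← pow_two, ← hz, pow_orderOf_eq_one]
  set O := Cfsg.oddCore G with hO
  haveI hON : O.Normal := CfsgLib.LocalEven50.pPrimeCore_normal 2
  have hodd : Odd (Nat.card O) := CfsgLib.AutLThreeFour70.odd_oddCore
  -- the odd core meets the centraliser of `z` trivially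
  have hfix : ∀ x ∈ O, z * x = x * z → x = 1 := by
    intro x hx hc
    set X : Subgroup (Subgroup.centralizer ({z} : Set G)) := O.subgroupOf (Subgroup.centralizer ({z} : Set G)) with hX
    haveI : X.Normal := Subgroup.normal_subgroupOf
    have hXodd : Odd (Nat.card X) := by
      refine hodd.of_dvd_nat ?_
      have e : Nat.card (X.map (Subgroup.centralizer ({z} : Set G)).subtype) = Nat.card X :=
        Subgroup.card_map_of_injective (Subgroup.centralizer ({z} : Set G)).subtype_injective
      rw [← e]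
      exact Subgroup.card_dvd_of_le (Subgroup.map_le_iff_le_comap.2 le_rfl)
    have hdis : Disjoint X E := by
      rw [disjoint_iff]
      refine Subgroup.inf_eq_bot_of_coprime ?_
      rw [hE32, show (32 : ℕ) = 2 ^ 5 from rfl]
      exact (Nat.coprime_two_right.2 hXodd).pow_right 5
    have hxH : x ∈ (Subgroup.centralizer ({z} : Set G)) := Subgroup.mem_centralizer_singleton_iff.2 hc.symm
    have hxX : (⟨x, hxH⟩ : (Subgroup.centralizer ({z} : Set G))) ∈ X := hx
    have hxE : (⟨x, hxH⟩ : (Subgroup.centralizer ({z} : Set G))) ∈ E := hCE (Subgroup.mem_centralizer_iff.2 fun y hy =>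
      (Subgroup.commute_of_normal_of_disjoint X E inferInstance hEn hdis _ _ hxX hy).eq.symm)
    have h1 : (⟨x, hxH⟩ : (Subgroup.centralizer ({z} : Set G))) ∈ X ⊓ E := ⟨hxX, hxE⟩
    rw [disjoint_iff.1 hdis, Subgroup.mem_bot] at h1
    exact congrArg Subtype.val h1
  have hinv : ∀ x ∈ O, z * x * z⁻¹ = x⁻¹ := fun x hx =>
    CfsgLib.AutLThreeFour70.inverted_of_fpf hzz (fun y hy => hON.conj_mem y hy z) hfix hx
  have hab : IsMulCommutative ↥O := by
    refine ⟨⟨fun x y => Subtype.ext ?_⟩⟩
    have h1 : (x * y : G)⁻¹ = (x : G)⁻¹ * (y : G)⁻¹ := by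
      rw [← hinv _ (mul_mem x.2 y.2), ← hinv _ x.2, ← hinv _ y.2]
      group
    calc ((x * y : O) : G) = ((x * y : G)⁻¹)⁻¹ := (inv_inv _).symm
      _ = ((y * x : O) : G) := by rw [h1, mul_inv_rev, inv_inv, inv_inv]; rfl
  refine ⟨hab, fun hns => ?_⟩
  obtain ⟨k, ⟨M⟩⟩ := CfsgLib.AutLThreeFour70.exists_model hz E hE hE32 hEminus hCE e
  have hni : ∃ g : G, g * z * g⁻¹ ≠ z ∧ g * z * g⁻¹ * z = z * (g * z * g⁻¹) := by
    by_contra hno
    refine hns ?_
    simp only [not_exists, not_and] at hno
    have hiso : ∀ g : G, g * z * g⁻¹ ∈ M.sylow → g * z * g⁻¹ = z := fun g hg => by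
      by_contra hne
      have hle : M.S ≤ Subgroup.centralizer ({z} : Set G) := M.sub_le
      exact hno g hne (CfsgLib.AutLThreeFour70.Model.mem_cent.1 (hle hg))
    obtain ⟨N, hN, hNodd, hcomm⟩ :=
      CfsgLib.ZStar.exists_oddNormal_of_sylow M.sylow hz M.z_mem_S hiso
    have hNO : N ≤ O :=
      CfsgLib.LocalEven50.le_pPrimeCore hN (Nat.coprime_two_right.2 hNodd)
    haveI : Group.IsSolvable N := Group.isSolvable_of_comm fun a b => Subtype.ext (by
      have := congrArg Subtype.val (hab.is_comm.comm ⟨a, hNO a.2⟩ ⟨b, hNO b.2⟩)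
      exact this)
    haveI : Group.IsSolvable (Subgroup.centralizer ({z} : Set G)) := CfsgLib.Characters.isSolvable_of_card_eq_primePow_mul 2 3 8 1
      Nat.prime_two Nat.prime_three (by rw [M.card_centralizer]; norm_num)
    haveI := hN
    haveI : Group.IsSolvable (G ⧸ N) := Group.isSolvable_of_surjective
      (f := (QuotientGroup.mk' N).comp (Subgroup.centralizer ({z} : Set G)).subtype) fun q => by
        induction q using QuotientGroup.induction_on with
        | H g =>
          obtain ⟨v, hv, hvz⟩ := CfsgLib.AutLThreeFour70.exists_mul_centralizer (U := (⊤ : Subgroup G))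
            hzz hNodd (fun g _ => hcomm g) (Subgroup.mem_top g)
          refine ⟨⟨v⁻¹ * g, Subgroup.mem_centralizer_singleton_iff.2 hvz.symm⟩, ?_⟩
          show QuotientGroup.mk (v⁻¹ * g) = QuotientGroup.mk g
          rw [QuotientGroup.eq, show (v⁻¹ * g)⁻¹ * g = g⁻¹ * v * g by group]
          simpa using hN.conj_mem v hv g⁻¹
    exact (Group.isSolvable_iff_subgroup_quotient N).2 ⟨inferInstance, inferInstance⟩
  have ha := M.isConj_a hni
  obtain rfl := M.k_eq_zero ha
  exact CfsgLib.AutLThreeFour70.Ctx.identify ⟨M, ha, hns⟩ hF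

end Cfsg.Agent.S3237
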