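import Cfsg.Statements.S3244
import Cfsg.Agent.Inv53.CharTwoEarly

set_option autoImplicit false
open Cfsg

namespace Cfsg.Agent.S3244

/-- Say that a finite group G is of characteristic 2 type in the early sense when a Sylow 2-subgroup S of G has a self-centralizing normal subgroup of rank at least 3, S normalizes no nontrivial subgroup of odd order, and every 2-local subgroup of G is 2-constrained. If G is a non-abelian simple group of characteristic 2 type in this sense, then for some maximal 2-local subgroup M of G the centre of O₂(M) is not cyclic. -/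
theorem result {G : Type*} [Group G] [Finite G] [IsSimpleGroup G]
    (hG : ¬ IsMulCommutative G) (S : Sylow 2 G) (A : Subgroup G) (hA : Cfsg.IsSCN (S : Subgroup G) A) (hA3 : ¬ Cfsg.PRankLE 2 2 ↥A)
    (hinv : ∀ X : Subgroup G, Odd (Nat.card ↥X) → (S : Subgroup G) ≤ Subgroup.normalizer (X : Set G) → X = ⊥)
    (hcon : ∀ T : Subgroup G, IsPGroup 2 ↥T → T ≠ ⊥ → Cfsg.IsPConstrained 2 ↥(Subgroup.normalizer (T : Set G))) :
    ∃ M : Subgroup G, Cfsg.IsMaximalTwoLocal M ∧ ¬ IsCyclic ↥(Subgroup.center ↥(Cfsg.pCore 2 ↥M)) := by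
  haveI : Fact (Nat.Prime 2) := ⟨Nat.prime_two⟩
  by_contra hno
  push Not at hno
  obtain ⟨E, hES, hSE, -, hE2, hE8⟩ := CfsgLib.Inv53.exists_elementary_of_scn hA hA3
  have hset : CfsgLib.Inv53.EarlyCyclicSetting G := by
    refine ⟨hcon, hno, fun T => ?_⟩
    obtain ⟨g, hg⟩ := MulAction.exists_smul_eq G S T
    have hT : (T : Subgroup G) = (S : Subgroup G).map (MulAut.conj g).toMonoidHom := by
      rw [← hg, Sylow.coe_subgroup_smul]
      rfl
    refine ⟨⟨E.map (MulAut.conj g).toMonoidHom, hT ▸ CfsgLib.Inv53.map_conj_mono hES g, ?_, ?_, ?_⟩,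
      fun X hX hTX => ?_⟩
    · rw [hT]
      exact (Subgroup.map_mono hSE).trans (Subgroup.le_normalizer_map _)
    · rintro _ ⟨a, ha, rfl⟩
      rw [← map_mul, hE2 a ha, map_one]
    · rwa [CfsgLib.Inv53.card_map_conj]
    · have h1 := hinv (X.map (MulAut.conj g⁻¹).toMonoidHom)
        (by rwa [CfsgLib.Inv53.card_map_conj]) ?_
      · rwa [Subgroup.map_eq_bot_iff_of_injective] at h1
        exact (MulAut.conj g⁻¹).injective
      · intro s hs
        have h2 := CfsgLib.Inv53.mem_normalizer_iff_map_conj.1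
          (hTX (hT ▸ CfsgLib.Inv53.conj_mem_map_conj hs : g * s * g⁻¹ ∈ (T : Subgroup G)))
        rw [CfsgLib.Inv53.mem_normalizer_iff_map_conj, CfsgLib.Inv53.map_conj_map_conj]
        conv_rhs => rw [← h2, CfsgLib.Inv53.map_conj_map_conj]
        congr 3
        group
  obtain ⟨z, hz, hzc⟩ := hset.exists_central_involution
  have hzZ : z ∈ Subgroup.center G := Subgroup.mem_center_iff.2 hzc
  rcases (inferInstance : (Subgroup.center G).Normal).eq_bot_or_eq_top with h | h
  · rw [h, Subgroup.mem_bot] at hzZ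
    rw [hzZ, orderOf_one] at hz
    omega
  · exact hG ⟨⟨fun a b => (Subgroup.mem_center_iff.1 (h ▸ Subgroup.mem_top b) a)⟩⟩

end Cfsg.Agent.S3244
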