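import Cfsg.Statements.S3246
import Cfsg.Agent.Inv53.TwoConstrained

set_option autoImplicit false
open Cfsg

namespace Cfsg.Agent.S3246

/-- Let G be a finite group whose Sylow 2-subgroup S has a self-centralizing normal subgroup of rank at least 3. Suppose that either every maximal 2-local subgroup of G is 2-constrained with no nontrivial normal subgroup of odd order, or the centralizer of every involution of G is 2-constrained with no nontrivial normal subgroup of odd order. Then S normalizes no nontrivial subgroup of G of odd order and every 2-local subgroup of G is 2-constrained. -/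
theorem result {G : Type*} [Group G] [Finite G]
    (S : Sylow 2 G) (A : Subgroup G) (hA : Cfsg.IsSCN (S : Subgroup G) A) (hA3 : ¬ Cfsg.PRankLE 2 2 ↥A)
    (h : (∀ M : Subgroup G, Cfsg.IsMaximalTwoLocal M → Cfsg.IsPConstrained 2 ↥M ∧ Cfsg.oddCore ↥M = ⊥) ∨
      (∀ t : G, orderOf t = 2 → Cfsg.IsPConstrained 2 ↥(Subgroup.centralizer ({t} : Set G)) ∧
        Cfsg.oddCore ↥(Subgroup.centralizer ({t} : Set G)) = ⊥)) :
    (∀ X : Subgroup G, Odd (Nat.card ↥X) → (S : Subgroup G) ≤ Subgroup.normalizer (X : Set G) → X = ⊥) ∧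
      (∀ T : Subgroup G, IsPGroup 2 ↥T → T ≠ ⊥ → Cfsg.IsPConstrained 2 ↥(Subgroup.normalizer (T : Set G))) := by
  haveI : Fact (Nat.Prime 2) := ⟨Nat.prime_two⟩
  obtain ⟨E, hES, hSE, -, hE2, hEc⟩ := CfsgLib.Inv53.exists_elementary_of_scn hA hA3
  have hmax : ∀ T : Subgroup G, IsPGroup 2 ↥T → T ≠ ⊥ → ∃ M : Subgroup G,
      Cfsg.IsMaximalTwoLocal M ∧ Subgroup.normalizer (T : Set G) ≤ M := by
    intro T hT hT1
    obtain ⟨M, hTM, hM⟩ := (Set.toFinite {M : Subgroup G | Cfsg.IsTwoLocal M}).exists_le_maximal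
      (a := Subgroup.normalizer (T : Set G)) ⟨T, hT, hT1, rfl⟩
    exact ⟨M, ⟨hM.1, fun N hN hle => le_antisymm (hM.2 hN hle) hle⟩, hTM⟩
  have hzp : ∀ t : G, orderOf t = 2 → IsPGroup 2 ↥(Subgroup.zpowers t) ∧ Subgroup.zpowers t ≠ ⊥ ∧
      Subgroup.centralizer ({t} : Set G) ≤ Subgroup.normalizer (Subgroup.zpowers t : Set G) := by
    intro t ht
    refine ⟨IsPGroup.of_card (n := 1) (by rw [Nat.card_zpowers, ht, pow_one]), ?_, ?_⟩
    · rw [Ne, Subgroup.zpowers_eq_bot]
      rintro rfl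
      simp at ht
    · intro c hc
      apply Subgroup.centralizer_le_normalizer
      rw [Subgroup.mem_centralizer_iff]
      rintro _ ⟨k, rfl⟩
      exact (Commute.zpow_left (show Commute t c from Subgroup.mem_centralizer_iff.1 hc t rfl) k).eq
  have hH : ∀ t : G, orderOf t = 2 → ∃ H : Subgroup G, Subgroup.centralizer ({t} : Set G) ≤ H ∧
      Cfsg.IsPConstrained 2 H ∧ Cfsg.pPrimeCore 2 H = ⊥ := by
    intro t ht
    rcases h with h | h
    · obtain ⟨M, hM, hle⟩ := hmax _ (hzp t ht).1 (hzp t ht).2.1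
      exact ⟨M, (hzp t ht).2.2.trans hle, h M hM⟩
    · exact ⟨_, le_rfl, h t ht⟩
  refine ⟨fun X hX hSX => CfsgLib.Inv53.eq_bot_of_normalized_by_sylow S hES hSE hE2
    (le_trans (by norm_num) hEc) hH hX hSX, fun T hT hT1 => ?_⟩
  apply CfsgLib.Inv53.isPConstrained_normalizer hT
  rcases h with h | h
  · obtain ⟨M, hM, hle⟩ := hmax T hT hT1
    exact CfsgLib.Inv53.isPConstrained_centralizer_of_le hT (Subgroup.le_normalizer.trans hle)
      ((Subgroup.centralizer_le_normalizer _).trans hle) (h M hM).1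
  · obtain ⟨x, hxT, hxo, hxc⟩ := CfsgLib.Inv53.exists_orderOf_eq_central hT hT1
    refine CfsgLib.Inv53.isPConstrained_centralizer_of_le hT (fun t ht => ?_)
      (Subgroup.centralizer_le (by simpa using hxT)) (h x hxo).1
    rw [Subgroup.mem_centralizer_iff]
    intro y hy
    rw [Set.mem_singleton_iff.1 hy]
    exact (hxc t ht).symm

end Cfsg.Agent.S3246
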