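import Cfsg.Statements.S3250
import Cfsg.Agent.MaxSylowTwo.Length
import Cfsg.Agent.MaxSylowTwo.Main
import Cfsg.Agent.MaxSylowTwo.CaseWideCentre

set_option autoImplicit false
open Cfsg

namespace Cfsg.Agent.S3250

/-- With the length of a finite group defined as the maximum n for which there is a chain G = G₀ > G₁ > ⋯ > G_n = 1 of subgroups: a finite non-abelian simple group of length exactly 8 whose Sylow 2-subgroups have order 2⁷ is isomorphic to PSL₂(127). -/
theorem result {G : Type*} [Group G] [Finite G] [IsSimpleGroup G]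
    (hG : ¬ IsMulCommutative G) (h8 : ∃ c : Fin 9 → Subgroup G, StrictAnti c) (h9 : ∀ c : Fin 10 → Subgroup G, ¬ StrictAnti c)
    (S : Sylow 2 G) (hS : Nat.card ↥(S : Subgroup G) = 2 ^ 7) :
    ∃ (F : Type) (_ : Field F) (_ : Fintype F), Fintype.card F = 127 ∧ Nonempty (G ≃* Matrix.ProjectiveSpecialLinearGroup (Fin 2) F) := by
  have hs := CfsgLib.MaxSylowTwo.setup_of_length hG h9 S hS
  exact hs.classify fun f g hf hg hf2 hg2 hf1 hg1 hfg =>
    hs.false_of_wide_centre hf hg hf2 hg2 hf1 hg1 hfg

end Cfsg.Agent.S3250
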