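import Cfsg.Statements.S3260
import Cfsg.Agent.Flavell73.ConstrainedPair

set_option autoImplicit false
open Cfsg

namespace Cfsg.Agent.S3260

theorem involves_change_field {p : ℕ} [hp : Fact p.Prime] {F : Type*} [Field F] [Fintype F]
    (hF : Fintype.card F = p) {X : Type*} [Group X]
    (h : Cfsg.Involves (Matrix.ProjectiveSpecialLinearGroup (Fin 2) (ZMod p)) X) :
    Cfsg.Involves (Matrix.ProjectiveSpecialLinearGroup (Fin 2) F) X := by
  obtain ⟨e⟩ : Nonempty (ZMod p ≃+* F) :=
    ⟨FiniteField.ringEquivOfCardEq (by rw [ZMod.card, hF])⟩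
  let f : Matrix.SpecialLinearGroup (Fin 2) (ZMod p) →* Matrix.SpecialLinearGroup (Fin 2) F :=
    Matrix.SpecialLinearGroup.map e.toRingHom
  have hf : Function.Surjective f := by
    intro g
    refine ⟨Matrix.SpecialLinearGroup.map e.symm.toRingHom g, Matrix.SpecialLinearGroup.ext _ _ fun i j => ?_⟩
    exact e.apply_symm_apply _
  have hle : Subgroup.center _ ≤ (Subgroup.center _).comap f := fun x hx => by
    rw [Subgroup.mem_comap, Subgroup.mem_center_iff]
    intro y
    obtain ⟨y, rfl⟩ := hf y
    rw [← map_mul, ← map_mul, Subgroup.mem_center_iff.1 hx y]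
  refine CfsgLib.ConjFunctor.involves_trans h
    (CfsgLib.ConjFunctor.involves_of_surjective (QuotientGroup.map _ _ f hle) ?_)
  intro y
  obtain ⟨y, rfl⟩ := QuotientGroup.mk'_surjective _ y
  obtain ⟨x, rfl⟩ := hf y
  exact ⟨QuotientGroup.mk x, rfl⟩

/-- Let p ≥ 5 be a prime, G a finite p-constrained group with Sylow p-subgroup S, and A a group of automorphisms of G of order coprime to |G| whose fixed-point subgroup has no section isomorphic to PSL₂(p). Then G = O_{p'}(G) · N_G(Z(J(S))), where J(S) is the subgroup generated by the abelian subgroups of S of largest order. -/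
theorem result {G : Type*} [Group G] [Finite G] (p : ℕ) [hp : Fact p.Prime] (hp5 : 5 ≤ p)
    (hG : Cfsg.IsPConstrained p G) (S : Sylow p G) (A : Subgroup (MulAut G)) (hA : (Nat.card ↥A).Coprime (Nat.card G))
    (C : Subgroup G) (hC : ∀ g : G, g ∈ C ↔ ∀ a ∈ A, a g = g)
    {F : Type*} [Field F] [Fintype F] (hF : Fintype.card F = p)
    (hfix : ¬ Cfsg.Involves (Matrix.ProjectiveSpecialLinearGroup (Fin 2) F) ↥C) :
    Cfsg.pPrimeCore p G ⊔ Subgroup.normalizer (Cfsg.centerThompsonAOf (S : Subgroup G) : Set G) = ⊤ := by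
  classical
  set O := pPrimeCore p G with hO
  have hOn : O.Normal := inferInstance
  have hmapO : ∀ a : MulAut G, O.map a.toMonoidHom = O := fun a =>
    CfsgLib.PLocal.map_pPrimeCore_equiv a
  let θ : A →* MulAut (G ⧸ O) :=
    { toFun := fun a => QuotientGroup.congr O O (a : MulAut G) (hmapO a)
      map_one' := MulEquiv.ext fun x => by
        obtain ⟨g, rfl⟩ := QuotientGroup.mk'_surjective O x
        rfl
      map_mul' := fun a b => MulEquiv.ext fun x => by
        obtain ⟨g, rfl⟩ := QuotientGroup.mk'_surjective O x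
        rfl }
  have hθ : ∀ (a : A) (g : G), θ a (QuotientGroup.mk g) = QuotientGroup.mk ((a : MulAut G) g) :=
    fun a g => rfl
  have hcard : (Nat.card θ.range).Coprime (Nat.card (G ⧸ O)) :=
    (hA.coprime_dvd_left (Subgroup.card_range_dvd θ)).coprime_dvd_right
      (Subgroup.card_quotient_dvd_card O)
  have hfix' : ¬ Involves (Matrix.ProjectiveSpecialLinearGroup (Fin 2) (ZMod p))
      ↥(CfsgLib.Flavell73.fixedBy θ.range) := by
    intro hinv
    have hmem : ∀ c : C, QuotientGroup.mk' O (c : G) ∈ CfsgLib.Flavell73.fixedBy θ.range := by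
      intro c
      rw [CfsgLib.Flavell73.mem_fixedBy]
      rintro _ ⟨a, rfl⟩
      rw [QuotientGroup.mk'_apply, hθ, (hC _).1 c.2 _ a.2]
    refine hfix (involves_change_field hF (CfsgLib.ConjFunctor.involves_trans
      (CfsgLib.ConjFunctor.involves_of_surjective
        (((QuotientGroup.mk' O).comp C.subtype).codRestrict _ hmem) ?_) hinv))
    rintro ⟨y, hy⟩
    obtain ⟨g, rfl⟩ := QuotientGroup.mk'_surjective O y
    -- a fixed coset contains a fixed element
    let φ : A →* MulAut G := A.subtype
    let N : Subgroup (G ⋊[φ] A) := O.map SemidirectProduct.inl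
    have : Finite (G ⋊[φ] A) := Finite.of_equiv _ SemidirectProduct.equivProd.symm
    have hconj : ∀ (a : A) (x : G), SemidirectProduct.inr a * SemidirectProduct.inl x *
        (SemidirectProduct.inr a)⁻¹ = (SemidirectProduct.inl ((a : MulAut G) x) : G ⋊[φ] A) := fun a x => by
      rw [← map_inv]; exact (SemidirectProduct.inl_aut (φ := φ) a x).symm
    have hAN : (SemidirectProduct.inr : A →* G ⋊[φ] A).range ≤
        Subgroup.normalizer (N : Set (G ⋊[φ] A)) := by
      refine CfsgLib.Flavell73.le_normalizer_of_forall ?_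
      rintro _ ⟨a, rfl⟩ _ ⟨x, hx, rfl⟩
      refine ⟨(a : MulAut G) x, ?_, (hconj a x).symm⟩
      rw [← hmapO (a : MulAut G)]
      exact Subgroup.mem_map_of_mem _ hx
    have hcop : (Nat.card ↥(SemidirectProduct.inr : A →* G ⋊[φ] A).range).Coprime (Nat.card N) :=
      (hA.coprime_dvd_left (Subgroup.card_range_dvd _)).coprime_dvd_right
        ((Subgroup.card_map_dvd _ _).trans (Subgroup.card_subgroup_dvd_card O))
    obtain ⟨c, hc, hcN⟩ := CfsgLib.Coprime.exists_fixed_mem_coset hAN hcop
      (CfsgLib.Flavell73.solvable_or_of_coprime hcop) (k := SemidirectProduct.inl g) (by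
        rintro _ ⟨a, rfl⟩
        refine ⟨g⁻¹ * (a : MulAut G) g, ?_, ?_⟩
        · have := CfsgLib.Flavell73.mem_fixedBy.1 hy _ ⟨a, rfl⟩
          rw [QuotientGroup.mk'_apply, hθ] at this
          exact QuotientGroup.eq.1 this.symm
        · rw [hconj, map_mul, map_inv])
    obtain ⟨n, hn, e⟩ := hcN
    have hce : c = SemidirectProduct.inl (g * n) := by rw [map_mul, e, mul_inv_cancel_left]
    refine ⟨⟨g * n, (hC _).2 fun a ha => ?_⟩, Subtype.ext ?_⟩
    · refine SemidirectProduct.inl_injective (φ := φ) ?_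
      have h1 := Subgroup.mem_centralizer_iff.1 hc _ ⟨⟨a, ha⟩, rfl⟩
      rw [hce] at h1
      rw [← hconj ⟨a, ha⟩, h1, mul_inv_cancel_right]
    · show QuotientGroup.mk' O (g * n) = QuotientGroup.mk' O g
      rw [map_mul, (QuotientGroup.eq_one_iff n).2 hn |> (fun h => show QuotientGroup.mk' O n = 1 from h),
        mul_one]
  have hcS := CfsgLib.PLocal.isPConstrained_iff.1 hG
  let S' : Sylow p (G ⧸ O) := S.mapSurjective (QuotientGroup.mk'_surjective O)
  have hn := CfsgLib.Flavell73.centerThompsonAOf_normal (by omega) hcS S' θ.range hcard hfix'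
  -- pull back
  have hOp : (Nat.card O).Coprime p := CfsgLib.PLocal.coprime_card_pPrimeCore p G
  have hinj : Function.Injective ((QuotientGroup.mk' O).comp (S : Subgroup G).subtype) := by
    rw [injective_iff_map_eq_one]
    intro x hx
    have : (x : G) ∈ (S : Subgroup G) ⊓ O := ⟨x.2, (QuotientGroup.eq_one_iff _).1 hx⟩
    rw [CfsgLib.PLocal.disjoint_of_isPGroup_of_coprime S.isPGroup' hOp, Subgroup.mem_bot] at this
    exact Subtype.ext this
  have himg : (centerThompsonAOf (S : Subgroup G)).map (QuotientGroup.mk' O) =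
      centerThompsonAOf ((S : Subgroup G).map (QuotientGroup.mk' O)) := by
    have hS : (S : Subgroup G) = (⊤ : Subgroup (S : Subgroup G)).map (S : Subgroup G).subtype := by
      rw [← MonoidHom.range_eq_map, Subgroup.range_subtype]
    conv_lhs => rw [hS, ← CfsgLib.PLocal.map_centerThompsonAOf (Subgroup.subtype_injective _),
      Subgroup.map_map, CfsgLib.PLocal.map_centerThompsonAOf hinj, ← Subgroup.map_map, ← hS]
  have hS' : ((S' : Sylow p (G ⧸ O)) : Subgroup (G ⧸ O)) = (S : Subgroup G).map (QuotientGroup.mk' O) := rfl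
  rw [hS', ← himg] at hn
  have hZp : IsPGroup p (centerThompsonAOf (S : Subgroup G)) :=
    S.isPGroup'.to_le (CfsgLib.PLocal.centerThompsonAOf_le _)
  have h2 : (Subgroup.normalizer (centerThompsonAOf (S : Subgroup G) : Set G)).map
      (QuotientGroup.mk' O) = ⊤ := by
    rw [← CfsgLib.PLocal.normalizer_map_mk'_eq O hOp hZp, Subgroup.normalizer_eq_top]
  have h3 := congrArg (Subgroup.comap (QuotientGroup.mk' O)) h2
  rw [Subgroup.comap_map_eq, QuotientGroup.ker_mk', Subgroup.comap_top] at h3
  rw [sup_comm]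
  exact h3

end Cfsg.Agent.S3260
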