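import Cfsg.Statements.S3261
import Cfsg.Agent.BSW.DihedralEight

set_option autoImplicit false
set_option linter.style.haveILetI false
open Cfsg

namespace Cfsg.Agent.S3261

open Equiv in
/-- The reference involution. -/
def c₀ : Perm (Fin 6) := swap 0 1 * swap 2 3

open Equiv in
/-- An element of order four squaring to `c₀`. -/
def k₀ : Perm (Fin 6) := ⟨![2, 3, 1, 0, 5, 4], ![3, 2, 0, 1, 5, 4], by decide, by decide⟩

open Equiv in
/-- An involution inverting `k₀`. -/
def s₀ : Perm (Fin 6) := swap 0 1 * swap 4 5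

set_option maxRecDepth 100000 in
theorem card_cent_c₀ :
    Fintype.card {σ : Equiv.Perm (Fin 6) // Equiv.Perm.sign σ = 1 ∧ σ * c₀ = c₀ * σ} = 8 := by
  decide +kernel

set_option maxRecDepth 100000 in
theorem center_cent_c₀ : ∀ σ : Equiv.Perm (Fin 6), Equiv.Perm.sign σ = 1 → σ * c₀ = c₀ * σ →
    σ * k₀ = k₀ * σ → σ * s₀ = s₀ * σ → σ = 1 ∨ σ = c₀ := by
  decide +kernel

open Equiv in
/-- The structure of the involution centraliser. -/
theorem exists_dihedral {G : Type*} [Group G] (αt : ↥(alternatingGroup (Fin 6)))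
    (hαt : orderOf αt = 2) (hsupp : (αt : Perm (Fin 6)).support.card = 4) (α : G) (hα : orderOf α = 2)
    (e : ↥(Subgroup.centralizer ({α} : Set G)) ≃*
      ↥(Subgroup.centralizer ({αt} : Set ↥(alternatingGroup (Fin 6))))) :
    ∃ k s : G, Nat.card (Subgroup.centralizer ({α} : Set G)) = 8 ∧
      k ∈ Subgroup.centralizer ({α} : Set G) ∧ s ∈ Subgroup.centralizer ({α} : Set G) ∧
      k * k = α ∧ orderOf k = 4 ∧ orderOf s = 2 ∧ s * k * s⁻¹ = k⁻¹ := by
  obtain ⟨n, hn⟩ := Perm.cycleType_prime_order (σ := (αt : Perm (Fin 6)))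
    (by rw [Subgroup.orderOf_coe, hαt]; exact Nat.prime_two)
  rw [Subgroup.orderOf_coe, hαt] at hn
  have hn1 : n = 1 := by
    rw [← Perm.sum_cycleType, hn, Multiset.sum_replicate, smul_eq_mul] at hsupp
    omega
  subst hn1
  obtain ⟨g, hg⟩ := isConj_iff.1 (Perm.isConj_iff_cycleType_eq.2
    (show (αt : Perm (Fin 6)).cycleType = c₀.cycleType by rw [hn]; decide +kernel))
  have hmem : ∀ σ : Perm (Fin 6), (σ ∈ alternatingGroup (Fin 6) ∧ σ * αt = αt * σ) ↔
      (Perm.sign (g * σ * g⁻¹) = 1 ∧ g * σ * g⁻¹ * c₀ = c₀ * (g * σ * g⁻¹)) := by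
    intro σ
    have hs : Perm.sign (g * σ * g⁻¹) = Perm.sign σ := by
      rw [map_mul, map_mul, map_inv, mul_comm, inv_mul_cancel_left]
    rw [Perm.mem_alternatingGroup, hs, ← hg, ← MulAut.conj_apply, ← MulAut.conj_apply, ← map_mul,
      ← map_mul, (MulAut.conj g).injective.eq_iff]
  let φ : ↥(Subgroup.centralizer ({αt} : Set ↥(alternatingGroup (Fin 6)))) ≃
      {σ : Perm (Fin 6) // Perm.sign σ = 1 ∧ σ * c₀ = c₀ * σ} :=
    { toFun := fun x => ⟨g * (x.1 : Perm (Fin 6)) * g⁻¹, (hmem _).1 ⟨x.1.2,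
        congrArg Subtype.val (Subgroup.mem_centralizer_singleton_iff.1 x.2)⟩⟩
      invFun := fun σ => ⟨⟨g⁻¹ * σ.1 * g, ((hmem _).2 (by
          rw [show g * (g⁻¹ * σ.1 * g) * g⁻¹ = σ.1 by group]; exact σ.2)).1⟩,
        Subgroup.mem_centralizer_singleton_iff.2 (Subtype.ext ((hmem _).2 (by
          rw [show g * (g⁻¹ * σ.1 * g) * g⁻¹ = σ.1 by group]; exact σ.2)).2)⟩
      left_inv := fun x => Subtype.ext (Subtype.ext (by
        show g⁻¹ * (g * (x.1 : Perm (Fin 6)) * g⁻¹) * g = (x.1 : Perm (Fin 6))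
        group))
      right_inv := fun σ => Subtype.ext (by
        show g * (g⁻¹ * σ.1 * g) * g⁻¹ = σ.1
        group) }
  let ψ : ↥(Subgroup.centralizer ({α} : Set G)) ≃
      {σ : Perm (Fin 6) // Perm.sign σ = 1 ∧ σ * c₀ = c₀ * σ} := e.toEquiv.trans φ
  have hψmul : ∀ a b, (ψ (a * b)).1 = (ψ a).1 * (ψ b).1 := fun a b => by
    show g * ((e (a * b)).1 : Perm (Fin 6)) * g⁻¹ =
      (g * ((e a).1 : Perm (Fin 6)) * g⁻¹) * (g * ((e b).1 : Perm (Fin 6)) * g⁻¹)
    rw [map_mul, Subgroup.coe_mul, Subgroup.coe_mul]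
    group
  let Ψ : ↥(Subgroup.centralizer ({α} : Set G)) →* Perm (Fin 6) :=
    MonoidHom.mk' (fun a => (ψ a).1) hψmul
  have hΨ : Function.Injective Ψ := fun a b h => ψ.injective (Subtype.ext h)
  obtain ⟨k, hk⟩ := ψ.surjective ⟨k₀, by decide +kernel⟩
  obtain ⟨s, hs⟩ := ψ.surjective ⟨s₀, by decide +kernel⟩
  have hk' : Ψ k = k₀ := congrArg Subtype.val hk
  have hs' : Ψ s = s₀ := congrArg Subtype.val hs
  set a : ↥(Subgroup.centralizer ({α} : Set G)) :=
    ⟨α, Subgroup.mem_centralizer_singleton_iff.2 rfl⟩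
  have hcomm : ∀ b, Ψ a * Ψ b = Ψ b * Ψ a := fun b => by
    rw [← map_mul, ← map_mul]
    exact congrArg Ψ (Subtype.ext (Subgroup.mem_centralizer_singleton_iff.1 b.2).symm)
  have ha : Ψ a = c₀ := by
    refine (center_cent_c₀ _ (ψ a).2.1 (ψ a).2.2 (hk' ▸ hcomm k) (hs' ▸ hcomm s)).resolve_left ?_
    intro h1
    have : a = 1 := hΨ (h1.trans (map_one Ψ).symm)
    have : α = 1 := congrArg Subtype.val this
    rw [this, orderOf_one] at hα
    omega
  refine ⟨k, s, ?_, k.2, s.2, ?_, ?_, ?_, ?_⟩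
  · rw [Nat.card_congr ψ, Nat.card_eq_fintype_card, card_cent_c₀]
  · exact congrArg Subtype.val (show k * k = a from hΨ (by rw [map_mul, hk', ha]; decide +kernel))
  · rw [Subgroup.orderOf_coe, ← orderOf_injective Ψ hΨ, hk']
    exact orderOf_eq_prime_pow (p := 2) (n := 1) (by decide +kernel) (by decide +kernel)
  · rw [Subgroup.orderOf_coe, ← orderOf_injective Ψ hΨ, hs']
    exact orderOf_eq_prime (by decide +kernel) (by decide +kernel)
  · exact congrArg Subtype.val (show s * k * s⁻¹ = k⁻¹ from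
      hΨ (by rw [map_mul, map_mul, map_inv, map_inv, hk', hs']; decide +kernel))

/-- Let α̃ be an involution of the alternating group A₆ that is a product of two disjoint transpositions (it lies in the centre of a Sylow 2-subgroup of A₆; its centralizer is dihedral of order 8). Let G be a finite group that has no subgroup of index 2 and contains an involution α, central in some Sylow 2-subgroup of G, with C_G(α) ≅ C_{A₆}(α̃). Then G is isomorphic to A₆ or to PSL₂(7). -/
theorem result {G : Type*} [Group G] [Finite G]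
    (hG : ∀ H : Subgroup G, H.index ≠ 2)
    (αt : ↥(alternatingGroup (Fin 6))) (hαt : orderOf αt = 2) (hsupp : (αt : Equiv.Perm (Fin 6)).support.card = 4)
    (α : G) (hα : orderOf α = 2) (S : Sylow 2 G) (hαS : α ∈ (S : Subgroup G)) (hαc : ∀ s ∈ (S : Subgroup G), s * α = α * s)
    (e : ↥(Subgroup.centralizer ({α} : Set G)) ≃* ↥(Subgroup.centralizer ({αt} : Set ↥(alternatingGroup (Fin 6))))) :
    Nonempty (G ≃* ↥(alternatingGroup (Fin 6))) ∨
      (∃ (F : Type) (_ : Field F) (_ : Fintype F), Fintype.card F = 7 ∧ Nonempty (G ≃* Matrix.ProjectiveSpecialLinearGroup (Fin 2) F)) := by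
  obtain ⟨k, s, hcard, hkC, hsC, hk2, hk4, hs, hsk⟩ := exists_dihedral αt hαt hsupp α hα e
  exact (CfsgLib.BSW.dihedral_eight hG hα hcard hkC hsC hk2 hk4 hs hsk).2.2

end Cfsg.Agent.S3261
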