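import Cfsg.Statements.S3262
import Cfsg.Agent.TwoTransAFive.CaseSymm

set_option autoImplicit false
open Cfsg

namespace Cfsg.Agent.S3262

/-- Let G be a finite doubly transitive permutation group on a set Ω with no regular normal subgroup, in which the stabilizer of two points is isomorphic to the alternating group A₅. Then either Ω has 7 points and G ≅ A₇, or Ω has 12 points and G is isomorphic to the Mathieu group M₁₁. -/
theorem result {G : Type*} [Group G] [Finite G] {Ω : Type*} [Fintype Ω] [MulAction G Ω] [FaithfulSMul G Ω]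
    (h2 : MulAction.IsMultiplyPretransitive G Ω 2) (a b : Ω) (hab : a ≠ b)
    (hnr : ∀ N : Subgroup G, N.Normal → MulAction.IsPretransitive ↥N Ω → (∀ x : Ω, MulAction.stabilizer ↥N x = ⊥) → False)
    (e : ↥(MulAction.stabilizer G a ⊓ MulAction.stabilizer G b) ≃* ↥(alternatingGroup (Fin 5))) :
    (Fintype.card Ω = 7 ∧ Nonempty (G ≃* ↥(alternatingGroup (Fin 7)))) ∨ (Fintype.card Ω = 12 ∧ Cfsg.Spor.IsoM11 G) := by
  have S : CfsgLib.TwoTransAFive.Hyp (G := G) (a := a) (b := b) :=
    ⟨fun c hc => FaithfulSMul.eq_of_smul_eq_smul fun x : Ω => by rw [hc, one_smul], h2, hab, hnr⟩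
  rw [← Nat.card_eq_fintype_card]
  rcases S.conclusion e with ⟨hn, he⟩ | ⟨hn, hs, hG⟩
  · exact Or.inl ⟨hn, he⟩
  · exact Or.inr ⟨hn, CfsgLib.MElevenUnique.nonempty_mulEquiv_SporM11 hs hG⟩

end Cfsg.Agent.S3262
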