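import Cfsg.Statements.S3266
import Cfsg.Agent.DicksonPSL2.InvolutionGraph

set_option autoImplicit false
open Cfsg

namespace Cfsg.Agent.S3266

/-- Let F be a finite field with at least 4 elements and let X be a conjugacy class of involutions of PSL(2, F). The graph on X joining two distinct involutions whose product has odd order is connected and has diameter exactly 2. -/
theorem result {F : Type*} [Field F] [Fintype F] (hF : 4 ≤ Fintype.card F)
    (t : Matrix.ProjectiveSpecialLinearGroup (Fin 2) F) (ht : orderOf t = 2) :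
    (SimpleGraph.fromRel fun x y : {x : Matrix.ProjectiveSpecialLinearGroup (Fin 2) F // IsConj t x} =>
        Odd (orderOf (x.1 * y.1))).Connected ∧
      (SimpleGraph.fromRel fun x y : {x : Matrix.ProjectiveSpecialLinearGroup (Fin 2) F // IsConj t x} =>
        Odd (orderOf (x.1 * y.1))).diam = 2 := by
  open CfsgLib.DicksonPSL2.InvolutionGraph in
  set Γ := SimpleGraph.fromRel fun x y : {x : Matrix.ProjectiveSpecialLinearGroup (Fin 2) F // IsConj t x} =>
      Odd (orderOf (x.1 * y.1)) with hΓ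
  have hord : ∀ x : {x : Matrix.ProjectiveSpecialLinearGroup (Fin 2) F // IsConj t x}, orderOf x.1 = 2 := by
    intro x
    obtain ⟨c, hc⟩ := isConj_iff.1 x.2
    rw [← hc, ← MulAut.conj_apply, MulEquiv.orderOf_eq, ht]
  have hsymm : ∀ a b : Matrix.ProjectiveSpecialLinearGroup (Fin 2) F,
      Odd (orderOf (a * b)) ↔ Odd (orderOf (b * a)) := by
    intro a b
    rw [show b * a = MulAut.conj b (a * b) by simp [mul_assoc], MulEquiv.orderOf_eq]
  have hadj : ∀ x y, Γ.Adj x y ↔ x ≠ y ∧ Odd (orderOf (x.1 * y.1)) := by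
    intro x y
    rw [hΓ, SimpleGraph.fromRel_adj]
    simp [hsymm y.1 x.1]
  have key : ∀ x y, Γ.edist x y ≤ 2 := by
    intro x y
    by_cases hxy : x = y
    · simp [hxy]
    by_cases ha : Γ.Adj x y
    · exact le_trans (SimpleGraph.edist_le ha.toWalk) (by simp)
    obtain ⟨z, hz, h1, h2⟩ := CfsgLib.DicksonPSL2.InvolutionGraph.exists_common hF (hord x) (hord y)
      (fun e => hxy (Subtype.ext e))
    set z' : {x : Matrix.ProjectiveSpecialLinearGroup (Fin 2) F // IsConj t x} :=
      ⟨z, CfsgLib.DicksonPSL2.InvolutionGraph.isConj_of_orderOf_two ht hz⟩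
    have hnot : ¬ Odd (orderOf (x.1 * y.1)) := fun h => ha ((hadj x y).2 ⟨hxy, h⟩)
    have e1 : Γ.Adj x z' := (hadj x z').2 ⟨fun e => hnot (by
      rw [show x.1 = z from congrArg Subtype.val e]; exact h2), h1⟩
    have e2 : Γ.Adj z' y := (hadj z' y).2 ⟨fun e => hnot (by
      rw [show y.1 = z from (congrArg Subtype.val e).symm]; exact h1), h2⟩
    exact le_trans (SimpleGraph.edist_le (e1.toWalk.append e2.toWalk)) (by simp)
  obtain ⟨x, y, hx, hy, hxy⟩ := CfsgLib.DicksonPSL2.InvolutionGraph.exists_commuting (F := F) hF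
  set x' : {x : Matrix.ProjectiveSpecialLinearGroup (Fin 2) F // IsConj t x} :=
    ⟨x, CfsgLib.DicksonPSL2.InvolutionGraph.isConj_of_orderOf_two ht hx⟩
  set y' : {x : Matrix.ProjectiveSpecialLinearGroup (Fin 2) F // IsConj t x} :=
    ⟨y, CfsgLib.DicksonPSL2.InvolutionGraph.isConj_of_orderOf_two ht hy⟩
  haveI : Nonempty {x : Matrix.ProjectiveSpecialLinearGroup (Fin 2) F // IsConj t x} := ⟨x'⟩
  have hconn : Γ.Connected := by
    refine ⟨fun a b => ?_⟩
    exact SimpleGraph.reachable_of_edist_ne_top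
      (ne_top_of_le_ne_top (by simp) (key a b))
  refine ⟨hconn, ?_⟩
  have hne : x' ≠ y' := by
    intro e
    have e' : x = y := congrArg Subtype.val e
    rw [e', ← pow_two, orderOf_dvd_iff_pow_eq_one.1 (dvd_of_eq hy), orderOf_one] at hxy
    omega
  have hnadj : ¬ Γ.Adj x' y' := by
    rw [hadj]
    rintro ⟨-, h⟩
    change Odd (orderOf (x * y)) at h
    rw [hxy] at h
    exact absurd h (by decide)
  have hle : Γ.ediam ≤ 2 := SimpleGraph.ediam_le_of_edist_le key
  have hge : (2 : ℕ∞) ≤ Γ.edist x' y' := by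
    by_contra h
    have h' : Γ.edist x' y' ≤ 1 := by simpa using lt_of_not_ge h
    rcases SimpleGraph.edist_le_one_iff_adj_or_eq.1 h' with e | e
    · exact hnadj e
    · exact hne e
  have : Γ.ediam = 2 := le_antisymm hle (hge.trans SimpleGraph.edist_le_ediam)
  rw [SimpleGraph.diam, this]
  rfl

end Cfsg.Agent.S3266
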