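import Cfsg.Statements.S3269
import Cfsg.Agent.ZStar.Theorem
import Cfsg.Prelude.Def_TwoFusion
-- import your own Cfsg.Agent.* helpers here

set_option autoImplicit false
open Cfsg

namespace Cfsg.Agent.S3269

namespace Aux

open QuaternionGroup

theorem quat_sq_eq_one {m : ℕ} [NeZero m] (q : QuaternionGroup m) (h : q * q = 1) :
    q = 1 ∨ q = a (m : ZMod (2 * m)) := by
  rcases q with i | i
  · rw [a_mul_a, one_def] at h
    have h1 : i + i = 0 := (QuaternionGroup.a.injEq _ _).mp h
    obtain ⟨k, hk, rfl⟩ : ∃ k < 2 * m, (k : ZMod (2 * m)) = i :=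
      ⟨i.val, ZMod.val_lt i, ZMod.natCast_zmod_val i⟩
    rw [← Nat.cast_add, ZMod.natCast_eq_zero_iff] at h1
    obtain ⟨c, hc⟩ := h1
    rcases c with _ | _ | c
    · left
      obtain rfl : k = 0 := by omega
      rw [one_def, Nat.cast_zero]
    · right
      obtain rfl : k = m := by omega
      rfl
    · exfalso
      have : 2 * m * 2 ≤ 2 * m * (c + 1 + 1) := Nat.mul_le_mul_left _ (by omega)
      omega
  · exfalso
    rw [xa_mul_xa, add_sub_cancel_right, one_def] at h
    have h1 : (m : ZMod (2 * m)) = 0 := (QuaternionGroup.a.injEq _ _).mp h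
    rw [ZMod.natCast_eq_zero_iff] at h1
    have := Nat.le_of_dvd (NeZero.pos m) h1
    have := NeZero.pos m
    omega

theorem a_mem_commutator {m : ℕ} [NeZero m] (hm : 2 ∣ m) :
    (a (m : ZMod (2 * m)) : QuaternionGroup m) ∈ commutator (QuaternionGroup m) := by
  obtain ⟨c, rfl⟩ := hm
  have hc : (xa 0 : QuaternionGroup (2 * c))⁻¹ * (a (-1)) * xa 0 * (a (-1))⁻¹
      = a ((2 : ℕ) : ZMod (2 * (2 * c))) := by
    have e1 : (a (-1) : QuaternionGroup (2 * c)) * xa 0 = xa 0 * a 1 := by
      rw [a_mul_xa, xa_mul_a]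
      congr 1
      ring
    have e2 : (a (-1) : QuaternionGroup (2 * c))⁻¹ = a 1 := inv_eq_of_mul_eq_one_right (by
      rw [a_mul_a, neg_add_cancel, one_def])
    rw [mul_assoc _ (a (-1)) (xa 0), e1, inv_mul_cancel_left, e2, a_mul_a]
    congr 1
    norm_num
  have h2 : (a ((2 : ℕ) : ZMod (2 * (2 * c))) : QuaternionGroup (2 * c)) ∈ commutator _ := by
    rw [← hc, commutator_def]
    have := Subgroup.commutator_mem_commutator (Subgroup.mem_top (xa 0 : QuaternionGroup (2 * c))⁻¹)
      (Subgroup.mem_top (a (-1) : QuaternionGroup (2 * c)))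
    simpa [commutatorElement_def] using this
  have key : ∀ k : ℕ, (a ((2 : ℕ) : ZMod (2 * (2 * c))) : QuaternionGroup (2 * c)) ^ k
      = a ((2 * k : ℕ) : ZMod (2 * (2 * c))) := by
    intro k
    induction k with
    | zero => simp
    | succ k ih => rw [pow_succ, ih, a_mul_a, ← Nat.cast_add, mul_add, mul_one]
  rw [← key]
  exact pow_mem h2 c

end Aux

/-- Let G be a finite group whose Sylow 2-subgroup S is an internal direct product Q × R with Q generalized quaternion (of order at least 8) and R a subgroup all of whose involutions are central in R. Then G is not simple. In particular no finite simple group has a Sylow 2-subgroup that is a direct product of one or more generalized quaternion groups. -/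
theorem result {G : Type*} [Group G] [Finite G]
    (S : Sylow 2 G) (Q R : Subgroup G) (hQR : Cfsg.IsInternalDirectProduct Q R (S : Subgroup G))
    (n : ℕ) (hn : 1 ≤ n) (eQ : ↥Q ≃* QuaternionGroup (2 ^ n))
    (hR : ∀ r ∈ R, orderOf r = 2 → ∀ s ∈ R, r * s = s * r) :
    ¬ IsSimpleGroup G := by
  classical
  intro hsimp
  have := Fact.mk Nat.prime_two
  obtain ⟨hQS, hRS, hcomm, hdisj, hsup⟩ := hQR
  set m := 2 ^ n with hm
  have hm0 : NeZero m := ⟨(Nat.two_pow_pos n).ne'⟩
  -- the projection onto `Q`
  let μ : Q × R →* (S : Subgroup G) :=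
    MonoidHom.noncommCoprod (Subgroup.inclusion hQS) (Subgroup.inclusion hRS)
      fun q r => Subtype.ext (hcomm q q.2 r r.2)
  have hμinj : Function.Injective μ := by
    rw [injective_iff_map_eq_one]
    rintro ⟨q, r⟩ h
    have h1 : (q : G) * r = 1 := congrArg Subtype.val h
    have h2 : (q : G) ∈ Q ⊓ R := ⟨q.2, by rw [eq_inv_of_mul_eq_one_left h1]; exact R.inv_mem r.2⟩
    rw [hdisj, Subgroup.mem_bot] at h2
    rw [h2, one_mul] at h1
    exact Prod.ext (Subtype.ext h2) (Subtype.ext h1)
  have hμsurj : Function.Surjective μ := by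
    have h1 : (S : Subgroup G) ≤ μ.range.map (S : Subgroup G).subtype :=
      hsup.ge.trans (sup_le (fun q hq => ⟨⟨q, hQS hq⟩, ⟨(⟨q, hq⟩, 1), Subtype.ext (mul_one q)⟩, rfl⟩)
        (fun r hr => ⟨⟨r, hRS hr⟩, ⟨(1, ⟨r, hr⟩), Subtype.ext (one_mul r)⟩, rfl⟩))
    intro s
    obtain ⟨s', ⟨x, hx⟩, hs⟩ := h1 s.2
    exact ⟨x, hx.trans (Subtype.ext hs)⟩
  let μe := MulEquiv.ofBijective μ ⟨hμinj, hμsurj⟩
  let pr : (S : Subgroup G) →* Q := (MonoidHom.fst Q R).comp μe.symm.toMonoidHom
  have hprμ : ∀ x : Q × R, pr (μ x) = x.1 := fun x => congrArg Prod.fst (μe.symm_apply_apply x)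
  -- the involution of `Q`
  set z : Q := eQ.symm (QuaternionGroup.a (m : ZMod (2 * m))) with hz
  have hzsq : ∀ q : Q, q * q = 1 → q = 1 ∨ q = z := by
    intro q hq
    rcases Aux.quat_sq_eq_one (eQ q) (by rw [← map_mul, hq, map_one]) with h | h
    · exact Or.inl (eQ.map_eq_one_iff.mp h)
    · exact Or.inr (by rw [hz, ← h, eQ.symm_apply_apply])
  have hz1 : z ≠ 1 := by
    intro h
    have h1 : (QuaternionGroup.a (m : ZMod (2 * m)) : QuaternionGroup m) = 1 := by
      rw [← eQ.apply_symm_apply (QuaternionGroup.a _), ← hz, h, map_one]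
    rw [QuaternionGroup.one_def] at h1
    have h2 : (m : ZMod (2 * m)) = 0 := (QuaternionGroup.a.injEq _ _).mp h1
    rw [ZMod.natCast_eq_zero_iff] at h2
    have := Nat.le_of_dvd hm0.pos h2
    have := hm0.pos
    omega
  have hzz : z * z = 1 := by
    apply eQ.injective
    rw [map_mul, hz, eQ.apply_symm_apply, map_one, QuaternionGroup.a_mul_a, QuaternionGroup.one_def,
      ← Nat.cast_add, ← two_mul, ZMod.natCast_self]
  have hzcom : z ∈ commutator Q := by
    have h1 := Subgroup.mem_map_of_mem eQ.symm.toMonoidHom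
      (Aux.a_mem_commutator (m := m) (hm ▸ dvd_pow_self 2 (by omega)))
    have h2 : (commutator (QuaternionGroup m)).map eQ.symm.toMonoidHom ≤ commutator Q := by
      rw [commutator_def, Subgroup.map_commutator, commutator_def]
      exact Subgroup.commutator_mono le_top le_top
    exact h2 h1
  -- every involution of `S` is central
  have hinvc : ∀ s : (S : Subgroup G), s * s = 1 → s ∈ Subgroup.center (S : Subgroup G) := by
    intro s hs
    obtain ⟨⟨q, r⟩, rfl⟩ := hμsurj s
    rw [← map_mul, ← map_one μ] at hs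
    have h1 : q * q = 1 := congrArg Prod.fst (hμinj hs)
    have h2 : r * r = 1 := congrArg Prod.snd (hμinj hs)
    have hq : ∀ q' : Q, q * q' = q' * q := by
      intro q'
      rcases hzsq q h1 with rfl | rfl
      · simp
      · have hzn : ∀ w : Q, w * z * w⁻¹ = z := fun w => by
          refine (hzsq _ ?_).resolve_left fun h => hz1 (conj_eq_one_iff.mp h)
          rw [show w * z * w⁻¹ * (w * z * w⁻¹) = w * (z * z) * w⁻¹ by group, hzz]; group
        exact ((mul_inv_eq_iff_eq_mul).mp (hzn q')).symm
    have hr : ∀ r' : R, r * r' = r' * r := by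
      intro r'
      rcases eq_or_ne r 1 with rfl | hr1
      · simp
      · refine Subtype.ext (hR r r.2 ?_ r' r'.2)
        rw [Subgroup.orderOf_coe]
        exact orderOf_eq_prime (by rw [sq, h2]) hr1
    refine Subgroup.mem_center_iff.mpr fun s' => ?_
    obtain ⟨⟨q', r'⟩, rfl⟩ := hμsurj s'
    rw [← map_mul, ← map_mul]
    exact congrArg μ (Prod.ext (hq q').symm (hr r').symm)
  set z' : (S : Subgroup G) := μ (z, 1) with hz'
  have hz'c : z' ∈ Subgroup.center (S : Subgroup G) := hinvc z' (by
    rw [hz', ← map_mul, ← map_one μ]; exact congrArg μ (Prod.ext hzz (mul_one 1)))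
  set N := Subgroup.normalizer ((S : Subgroup G) : Set G) with hN
  -- a conjugate of `z` projecting to `z` equals `z`
  have key : ∀ g ∈ N, ∀ u : (S : Subgroup G), (u : G) = g * z' * g⁻¹ → pr u = z → u = z' := by
    intro g hg u hu hpu
    let α : (S : Subgroup G) →* (S : Subgroup G) :=
      { toFun := fun s => ⟨g * s * g⁻¹, (Subgroup.mem_normalizer_iff.mp hg s).mp s.2⟩
        map_one' := Subtype.ext (by simp)
        map_mul' := fun a b => Subtype.ext (by simp [mul_assoc]) }
    have hαinj : Function.Injective α := fun a b h =>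
      Subtype.ext (mul_left_cancel (mul_right_cancel (congrArg Subtype.val h)))
    have hαsurj : Function.Surjective α := Finite.surjective_of_injective hαinj
    have huα : u = α z' := Subtype.ext hu
    let ι : Q →* (S : Subgroup G) := μ.comp (MonoidHom.inl Q R)
    let e : Q →* Q := pr.comp (α.comp ι)
    have hez : e z = z := by
      show pr (α z') = z
      rw [← huα, hpu]
    have heinj : ∀ q : Q, e q = 1 → q = 1 := by
      intro q hq
      by_contra hq1
      have hQ2 : IsPGroup 2 Q := S.isPGroup'.to_le hQS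
      obtain ⟨k, hk⟩ := (hQ2 q)
      obtain ⟨w, hw, hwq⟩ : ∃ w : Q, orderOf w = 2 ∧ w ∈ Subgroup.zpowers q := by
        obtain ⟨w, hw⟩ := exists_prime_orderOf_dvd_card' (G := Subgroup.zpowers q) 2 (by
          rw [Nat.card_zpowers]
          obtain ⟨j, -, hj⟩ := (Nat.dvd_prime_pow Nat.prime_two).mp (orderOf_dvd_of_pow_eq_one hk)
          rw [hj]
          refine dvd_pow_self 2 ?_
          rintro rfl
          exact hq1 (orderOf_eq_one_iff.mp (by rw [hj, pow_zero])))
        exact ⟨w, by rw [Subgroup.orderOf_coe, hw], w.2⟩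
      have hwz : w = z := by
        refine (hzsq w ?_).resolve_left fun h => by rw [h, orderOf_one] at hw; omega
        rw [← sq, ← hw, pow_orderOf_eq_one]
      obtain ⟨i, hi⟩ := Subgroup.mem_zpowers_iff.mp hwq
      apply hz1
      rw [← hez, ← hwz, ← hi, map_zpow, hq, one_zpow]
    -- the image of `Q` centralizes `R`
    have hαQ : ∀ q : Q, ∀ r : R, μ (1, r) * α (ι q) = α (ι q) * μ (1, r) := by
      intro q r
      set c := (μ (1, r))⁻¹ * α (ι q) * μ (1, r) * (α (ι q))⁻¹ with hc
      obtain ⟨s, hs⟩ := hαsurj (μ (1, r))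
      obtain ⟨⟨q₀, r₀⟩, rfl⟩ := hμsurj s
      have h1 : c = α (ι (q₀⁻¹ * q * q₀ * q⁻¹)) := by
        rw [hc, ← hs, ← map_inv, ← map_mul, ← map_mul, ← map_inv α, ← map_mul]
        congr 1
        show (μ (q₀, r₀))⁻¹ * μ (q, 1) * μ (q₀, r₀) * (μ (q, 1))⁻¹ = μ (q₀⁻¹ * q * q₀ * q⁻¹, 1)
        rw [← map_inv, ← map_inv, ← map_mul, ← map_mul, ← map_mul]
        congr 1
        exact Prod.ext rfl (by simp)
      have h2 : pr c = 1 := by
        rw [hc, map_mul, map_mul, map_mul, map_inv, map_inv, hprμ]
        simp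
      rw [h1] at h2
      have h3 := heinj _ h2
      rw [h3, map_one, map_one] at h1
      rw [hc, mul_inv_eq_one, mul_assoc, inv_mul_eq_iff_eq_mul] at h1
      exact h1.symm
    -- so commutators of the image lie in `Q`
    let K : Subgroup Q := ((MonoidHom.snd Q R).comp (μe.symm.toMonoidHom.comp (α.comp ι))).ker
    have hcK : commutator Q ≤ K := by
      rw [commutator_def, Subgroup.commutator_le]
      intro a _ b _
      rw [MonoidHom.mem_ker, map_commutatorElement, commutatorElement_eq_one_iff_commute]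
      set x := μe.symm (α (ι a)) with hx
      have h4 : ∀ r : R, r * x.2 = x.2 * r := fun r => by
        have h5 := congrArg μe.symm (hαQ a r)
        rw [map_mul, map_mul, show μe.symm (μ (1, r)) = (1, r) from μe.symm_apply_apply _] at h5
        exact congrArg Prod.snd h5
      exact (h4 _).symm
    have h6 : (μe.symm u).2 = 1 := by
      rw [huα]
      exact MonoidHom.mem_ker.mp (hcK hzcom)
    rw [hz', ← μe.apply_symm_apply u]
    show μ (μe.symm u) = μ (z, 1)
    congr 1
    exact Prod.ext hpu h6
  -- the product of the orbit of `z` under the normalizer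
  have := Fintype.ofFinite (Subgroup.center (S : Subgroup G))
  let O : Finset (Subgroup.center (S : Subgroup G)) :=
    Finset.univ.filter fun u => ∃ g ∈ N, (((u : (S : Subgroup G)) : G)) = g * z' * g⁻¹
  open scoped IsMulCommutative in
  let v : Subgroup.center (S : Subgroup G) := ∏ u ∈ O, u
  have hzO : (⟨z', hz'c⟩ : Subgroup.center (S : Subgroup G)) ∈ O :=
    Finset.mem_filter.mpr ⟨Finset.mem_univ _, 1, one_mem _, by simp⟩
  let prc : Subgroup.center (S : Subgroup G) →* Q :=
    pr.comp (Subgroup.center (S : Subgroup G)).subtype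
  have hprz : pr z' = z := hprμ (z, 1)
  have hOval : ∀ u ∈ O, u ≠ ⟨z', hz'c⟩ → prc u = 1 := by
    intro u hu hne
    obtain ⟨g, hg, hgu⟩ := (Finset.mem_filter.mp hu).2
    have husq : (u : (S : Subgroup G)) * (u : (S : Subgroup G)) = 1 := Subtype.ext (by
      show ((u : (S : Subgroup G)) : G) * ((u : (S : Subgroup G)) : G) = 1
      have hz2 : (z' : G) * z' = 1 := congrArg Subtype.val (show z' * z' = 1 by
        rw [hz', ← map_mul, ← map_one μ]; exact congrArg μ (Prod.ext hzz (mul_one 1)))
      rw [hgu, show g * (z' : G) * g⁻¹ * (g * z' * g⁻¹) = g * ((z' : G) * z') * g⁻¹ by group, hz2]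
      group)
    refine (hzsq (prc u) ?_).resolve_right fun h => hne (Subtype.ext (key g hg _ hgu h))
    show pr (u : (S : Subgroup G)) * pr (u : (S : Subgroup G)) = 1
    rw [← map_mul, husq, map_one]
  open scoped IsMulCommutative in
  have hprod : ∀ T : Finset (Subgroup.center (S : Subgroup G)), T ⊆ O →
      prc (∏ u ∈ T, u) = if (⟨z', hz'c⟩ : Subgroup.center (S : Subgroup G)) ∈ T then z else 1 := by
    intro T
    induction T using Finset.induction_on with
    | empty => intro _; simp
    | insert u T hu ih =>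
      intro hT
      rw [Finset.prod_insert hu, map_mul, ih (fun x hx => hT (Finset.mem_insert_of_mem hx))]
      by_cases huz : u = ⟨z', hz'c⟩
      · subst huz
        rw [if_neg hu, if_pos (Finset.mem_insert_self _ _), mul_one]
        exact hprz
      · rw [hOval u (hT (Finset.mem_insert_self _ _)) huz, one_mul]
        by_cases hzT : (⟨z', hz'c⟩ : Subgroup.center (S : Subgroup G)) ∈ T
        · rw [if_pos hzT, if_pos (Finset.mem_insert_of_mem hzT)]
        · rw [if_neg hzT, if_neg (fun h => (Finset.mem_insert.mp h).elim (fun h' => huz h'.symm) hzT)]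
  set w : (S : Subgroup G) := ((v : Subgroup.center (S : Subgroup G)) : (S : Subgroup G)) with hw
  have hprv : pr w = z := (hprod O subset_rfl).trans (if_pos hzO)
  have hz'sq : z' * z' = 1 := by
    rw [hz', ← map_mul, ← map_one μ]; exact congrArg μ (Prod.ext hzz (mul_one 1))
  have hvsq : w * w = 1 := by
    open scoped IsMulCommutative in
    have h : v * v = 1 := by
      show (∏ u ∈ O, u) * (∏ u ∈ O, u) = 1
      rw [← Finset.prod_mul_distrib]
      refine Finset.prod_eq_one fun u hu => Subtype.ext (Subtype.ext ?_)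
      obtain ⟨g, hg, hgu⟩ := (Finset.mem_filter.mp hu).2
      show ((u : (S : Subgroup G)) : G) * ((u : (S : Subgroup G)) : G) = 1
      rw [hgu, show g * (z' : G) * g⁻¹ * (g * z' * g⁻¹) = g * ((z' : G) * z') * g⁻¹ by group,
        show (z' : G) * z' = 1 from congrArg Subtype.val hz'sq]
      group
    exact congrArg Subtype.val h
  have hw1 : w ≠ 1 := fun h => hz1 (by rw [← hprv, h, map_one])
  have hwc : w ∈ Subgroup.center (S : Subgroup G) := v.2
  -- `w` is fixed by the normalizer
  have hfix : ∀ g ∈ N, g * (w : G) * g⁻¹ = w := by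
    intro g hg
    let α : (S : Subgroup G) →* (S : Subgroup G) :=
      { toFun := fun s => ⟨g * s * g⁻¹, (Subgroup.mem_normalizer_iff.mp hg s).mp s.2⟩
        map_one' := Subtype.ext (by simp)
        map_mul' := fun a b => Subtype.ext (by simp [mul_assoc]) }
    have hαinj : Function.Injective α := fun a b h =>
      Subtype.ext (mul_left_cancel (mul_right_cancel (congrArg Subtype.val h)))
    have hαc : ∀ u ∈ Subgroup.center (S : Subgroup G), α u ∈ Subgroup.center (S : Subgroup G) := by
      intro u hu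
      refine Subgroup.mem_center_iff.mpr fun s => ?_
      obtain ⟨s', rfl⟩ := Finite.surjective_of_injective hαinj s
      rw [← map_mul, ← map_mul, Subgroup.mem_center_iff.mp hu s']
    let γ : Subgroup.center (S : Subgroup G) →* Subgroup.center (S : Subgroup G) :=
      { toFun := fun u => ⟨α u, hαc u u.2⟩
        map_one' := Subtype.ext (map_one α)
        map_mul' := fun a b => Subtype.ext (map_mul α (a : (S : Subgroup G)) b) }
    have hγinj : Function.Injective γ := fun a b h => Subtype.ext (hαinj (congrArg Subtype.val h))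
    have hγO : O.image γ = O := by
      refine Finset.eq_of_subset_of_card_le ?_ (le_of_eq (Finset.card_image_of_injective _ hγinj).symm)
      intro u hu
      obtain ⟨u', hu', rfl⟩ := Finset.mem_image.mp hu
      obtain ⟨g', hg', hgu⟩ := (Finset.mem_filter.mp hu').2
      refine Finset.mem_filter.mpr ⟨Finset.mem_univ _, g * g', N.mul_mem hg hg', ?_⟩
      show g * ((u' : (S : Subgroup G)) : G) * g⁻¹ = _
      rw [hgu]
      group
    open scoped IsMulCommutative in
    have h : γ v = v := by
      show γ (∏ u ∈ O, u) = ∏ u ∈ O, u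
      rw [map_prod]
      conv_rhs => rw [← hγO, Finset.prod_image hγinj.injOn]
    exact congrArg (fun u : Subgroup.center (S : Subgroup G) => ((u : (S : Subgroup G)) : G)) h
  have hword : orderOf (w : G) = 2 := by
    rw [Subgroup.orderOf_coe]
    exact orderOf_eq_prime (by rw [sq, hvsq]) hw1
  have hcen : ∀ s : (S : Subgroup G), s ∈ Subgroup.center (S : Subgroup G) →
      (s : G) ∈ Subgroup.centralizer ((S : Subgroup G) : Set G) := fun s hs =>
    Subgroup.mem_centralizer_iff.mpr fun x hx =>
      congrArg Subtype.val (Subgroup.mem_center_iff.mp hs ⟨x, hx⟩)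
  have hiso : ∀ g : G, g * (w : G) * g⁻¹ ∈ S → g * (w : G) * g⁻¹ = w := by
    intro g hg
    have hu : (⟨_, hg⟩ : (S : Subgroup G)) ∈ Subgroup.center (S : Subgroup G) := hinvc _ (Subtype.ext (by
      show g * (w : G) * g⁻¹ * (g * w * g⁻¹) = 1
      rw [show g * (w : G) * g⁻¹ * (g * w * g⁻¹) = g * ((w : G) * w) * g⁻¹ by group,
        show (w : G) * w = 1 from congrArg Subtype.val hvsq]
      group))
    obtain ⟨k, hk, hconj⟩ := S.conj_eq_normalizer_conj_of_mem_centralizer (w : G) g⁻¹ (hcen w hwc)
      (by simpa using hcen _ hu)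
    have h1 : g * (w : G) * g⁻¹ = k⁻¹ * w * k := by simpa using hconj
    rw [h1]
    simpa using hfix k⁻¹ (inv_mem hk)
  obtain ⟨M, hM, hodd, hMc⟩ := CfsgLib.ZStar.exists_oddNormal_of_sylow S hword w.2 hiso
  rcases hsimp.eq_bot_or_eq_top_of_normal M hM with rfl | rfl
  · have hwG : (w : G) ∈ Subgroup.center G := Subgroup.mem_center_iff.mpr fun g => by
      have h := Subgroup.mem_bot.mp (hMc g)
      rw [mul_inv_eq_one, mul_inv_eq_iff_eq_mul] at h
      exact h.symm
    rcases hsimp.eq_bot_or_eq_top_of_normal (Subgroup.center G) inferInstance with h | h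
    · rw [h, Subgroup.mem_bot] at hwG
      rw [hwG, orderOf_one] at hword
      omega
    · apply hz1
      have h1 : commutator Q = ⊥ := by
        rw [commutator_def, Subgroup.commutator_eq_bot_iff_le_centralizer]
        intro a _
        refine Subgroup.mem_centralizer_iff.mpr fun b _ => Subtype.ext ?_
        exact Subgroup.mem_center_iff.mp (h ▸ Subgroup.mem_top (a : G) : (a : G) ∈ Subgroup.center G) b
      rw [h1, Subgroup.mem_bot] at hzcom
      exact hzcom
  · have h2 := hword ▸ orderOf_dvd_natCard (w : G)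
    rw [Subgroup.card_top] at hodd
    exact (Nat.not_even_iff_odd.mpr hodd) (even_iff_two_dvd.mpr h2)

end Cfsg.Agent.S3269
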