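import Cfsg.Statements.S3276
import Cfsg.Agent.Small.Dihedral

set_option autoImplicit false
open Cfsg

namespace Cfsg.Agent.S3276

/-- Let x and y be commuting, non-conjugate involutions of a finite group G, and suppose that for every involution u commuting with x, each conjugate of y that commutes with u also commutes with y. Then the normal closure of y is a proper, normal, elementary abelian 2-subgroup of G; and if y is the only involution of that normal closure commuting with x, it has order at most 4. -/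
theorem result {G : Type*} [Group G] [Finite G] (x y : G) (hx : orderOf x = 2) (hy : orderOf y = 2)
    (hxy : Commute x y) (hnc : ¬ IsConj x y)
    (hstar : ∀ u : G, orderOf u = 2 → Commute u x → ∀ g : G, Commute (g * y * g⁻¹) u → Commute (g * y * g⁻¹) y) :
    Subgroup.normalClosure ({y} : Set G) ≠ ⊤ ∧ Cfsg.IsElementaryAbelian 2 (Subgroup.normalClosure ({y} : Set G)) ∧
      ((∀ u ∈ Subgroup.normalClosure ({y} : Set G), orderOf u = 2 → Commute u x → u = y) →
        Nat.card ↥(Subgroup.normalClosure ({y} : Set G)) ≤ 4) := by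
  classical
  open CfsgLib.Small in
  -- every conjugate of `y` commutes with `y`
  have key : ∀ g : G, Commute (g * y * g⁻¹) y := by
    intro g
    have hy' : orderOf (g * y * g⁻¹) = 2 := (orderOf_conj_eq g y).trans hy
    rcases Nat.even_or_odd (orderOf (x * (g * y * g⁻¹))) with he | ho
    · obtain ⟨hu, hux, huy⟩ := half_pow_spec hx hy' he
      exact hstar _ hu hux g huy.symm
    · exfalso
      obtain ⟨k, hk⟩ := conj_pow_eq_of_odd hx hy' ho
      refine hnc (isConj_iff.mpr ⟨g⁻¹ * (x * (g * y * g⁻¹)) ^ k, ?_⟩)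
      calc g⁻¹ * (x * (g * y * g⁻¹)) ^ k * x * (g⁻¹ * (x * (g * y * g⁻¹)) ^ k)⁻¹
          = g⁻¹ * ((x * (g * y * g⁻¹)) ^ k * x * ((x * (g * y * g⁻¹)) ^ k)⁻¹) * g := by group
        _ = y := by rw [hk]; group
  set N := Subgroup.normalClosure ({y} : Set G) with hN
  have hgen : ∀ a ∈ Group.conjugatesOfSet ({y} : Set G), ∀ b ∈ Group.conjugatesOfSet ({y} : Set G),
      a * b = b * a := by
    intro a ha b hb
    simp only [Group.mem_conjugatesOfSet_iff, Set.mem_singleton_iff, exists_eq_left] at ha hb
    obtain ⟨g, rfl⟩ := isConj_iff.mp ha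
    obtain ⟨h, rfl⟩ := isConj_iff.mp hb
    have h1 : Commute (h * ((h⁻¹ * g) * y * (h⁻¹ * g)⁻¹) * h⁻¹) (h * y * h⁻¹) :=
      Commute.map (key (h⁻¹ * g)) (MulAut.conj h).toMonoidHom
    have e : h * ((h⁻¹ * g) * y * (h⁻¹ * g)⁻¹) * h⁻¹ = g * y * g⁻¹ := by group
    rw [e] at h1
    exact h1.eq
  have hab : IsMulCommutative ↥N := by
    rw [hN, Subgroup.normalClosure]
    exact Subgroup.isMulCommutative_closure hgen
  have hsq : ∀ a ∈ N, a ^ 2 = 1 := by
    intro a ha
    rw [hN, Subgroup.normalClosure] at ha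
    induction ha using Subgroup.closure_induction with
    | mem z hz =>
      simp only [Group.mem_conjugatesOfSet_iff, Set.mem_singleton_iff, exists_eq_left] at hz
      obtain ⟨g, rfl⟩ := isConj_iff.mp hz
      rw [conj_pow, ← hy, pow_orderOf_eq_one]
      group
    | one => exact one_pow 2
    | mul a b ha' hb' iha ihb =>
      have haN : a ∈ N := by rw [hN, Subgroup.normalClosure]; exact ha'
      have hbN : b ∈ N := by rw [hN, Subgroup.normalClosure]; exact hb'
      have hc : Commute a b := congrArg Subtype.val (hab.is_comm.comm ⟨a, haN⟩ ⟨b, hbN⟩)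
      rw [hc.mul_pow, iha, ihb, one_mul]
    | inv a _ iha => rw [inv_pow, iha, inv_one]
  have hyN : y ∈ N := Subgroup.subset_normalClosure rfl
  have hmap : ∀ v ∈ N, v * (x * v * x⁻¹) ∈ N ∧ Commute (v * (x * v * x⁻¹)) x := by
    intro v hv
    have hv' : x * v * x⁻¹ ∈ N := Subgroup.normalClosure_normal.conj_mem v hv x
    refine ⟨mul_mem hv hv', ?_⟩
    have hc : Commute v (x * v * x⁻¹) := congrArg Subtype.val (hab.is_comm.comm ⟨v, hv⟩ ⟨_, hv'⟩)
    have hx2 : x * x = 1 := CfsgLib.Small.mul_self_of_orderOf_two hx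
    have hxi : x⁻¹ = x := CfsgLib.Small.inv_eq_self_of_orderOf_two hx
    symm
    have h1 : x * (v * (x * v * x⁻¹)) * x⁻¹ = v * (x * v * x⁻¹) := by
      calc x * (v * (x * v * x⁻¹)) * x⁻¹
          = (x * v * x⁻¹) * ((x * x) * v * (x * x)⁻¹) := by group
        _ = v * (x * v * x⁻¹) := by rw [hx2, inv_one, one_mul, mul_one, hc.eq]
    exact mul_inv_eq_iff_eq_mul.mp h1
  refine ⟨?_, ⟨hab, hsq⟩, ?_⟩
  · intro htop
    have hcomm : ∀ a b : G, a * b = b * a := fun a b =>
      congrArg Subtype.val (hab.is_comm.comm ⟨a, htop ▸ Subgroup.mem_top a⟩ ⟨b, htop ▸ Subgroup.mem_top b⟩)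
    have hle : N ≤ Subgroup.zpowers y := by
      rw [hN, Subgroup.normalClosure, Subgroup.closure_le]
      intro z hz
      simp only [Group.mem_conjugatesOfSet_iff, Set.mem_singleton_iff, exists_eq_left] at hz
      obtain ⟨g, rfl⟩ := isConj_iff.mp hz
      rw [hcomm g y, mul_inv_cancel_right]
      exact Subgroup.mem_zpowers y
    obtain ⟨k, hk : y ^ k = x⟩ := hle (htop ▸ Subgroup.mem_top x)
    rcases Int.even_or_odd k with ⟨j, rfl⟩ | ⟨j, rfl⟩
    · rw [← two_mul, zpow_mul, zpow_two, CfsgLib.Small.mul_self_of_orderOf_two hy, one_zpow] at hk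
      exact CfsgLib.Small.ne_one_of_orderOf_two hx hk.symm
    · rw [zpow_add, zpow_mul, zpow_two, CfsgLib.Small.mul_self_of_orderOf_two hy, one_zpow, one_mul,
        zpow_one] at hk
      exact hnc (hk ▸ IsConj.refl y)
  · intro honly
    -- `v ↦ v · xvx⁻¹` maps `N` into `C_N(x) = {1, y}` with kernel `C_N(x)`
    let K : Subgroup G := N ⊓ Subgroup.centralizer ({x} : Set G)
    have hK : Nat.card K ≤ 2 := by
      have : ∀ v : K, (v : G) = 1 ∨ (v : G) = y := by
        intro v
        by_cases h1 : (v : G) = 1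
        · exact Or.inl h1
        · exact Or.inr (honly v v.2.1 (orderOf_eq_prime (hsq v v.2.1) h1)
            (Subgroup.mem_centralizer_singleton_iff.mp v.2.2))
      rw [show 2 = Nat.card Bool by simp]
      refine Nat.card_le_card_of_injective (fun v : K => decide ((v : G) = y)) ?_
      intro a b hab'
      simp only [decide_eq_decide] at hab'
      rcases this a with ha | ha <;> rcases this b with hb | hb
      · exact Subtype.ext (ha.trans hb.symm)
      · exfalso
        have := hab'.mpr hb
        exact CfsgLib.Small.ne_one_of_orderOf_two hy (this ▸ ha)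
      · exfalso
        have := hab'.mp ha
        exact CfsgLib.Small.ne_one_of_orderOf_two hy (this ▸ hb)
      · exact Subtype.ext (ha.trans hb.symm)
    have hNn := Subgroup.normalClosure_normal (s := ({y} : Set G))
    let f : N →* K := MonoidHom.mk' (fun v => ⟨v * (x * v * x⁻¹), (hmap v v.2).1,
        Subgroup.mem_centralizer_singleton_iff.mpr (hmap v v.2).2⟩) (by
      intro a b
      apply Subtype.ext
      have hc : Commute (x * (a : G) * x⁻¹) (b : G) :=
        congrArg Subtype.val (hab.is_comm.comm ⟨_, hNn.conj_mem a a.2 x⟩ b)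
      show (a : G) * b * (x * (a * b) * x⁻¹) = a * (x * a * x⁻¹) * (b * (x * b * x⁻¹))
      rw [show x * ((a : G) * b) * x⁻¹ = (x * a * x⁻¹) * (x * b * x⁻¹) by group, mul_assoc (a : G),
        mul_assoc (a : G), ← mul_assoc (b : G), ← hc.eq, mul_assoc])
    have hker : Nat.card f.ker ≤ Nat.card K := by
      refine Nat.card_le_card_of_injective (fun v => (⟨((v : N) : G), (v : N).2,
        Subgroup.mem_centralizer_singleton_iff.mpr ?_⟩ : K)) ?_
      · have h1 : ((v : N) : G) * (x * (v : N) * x⁻¹) = 1 := congrArg Subtype.val v.2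
        have h2 : ((v : N) : G) * (v : N) = 1 := by rw [← sq]; exact hsq _ (v : N).2
        exact (mul_inv_eq_iff_eq_mul.mp (mul_left_cancel (h1.trans h2.symm))).symm
      · intro a b h
        exact Subtype.ext (Subtype.ext (congrArg (fun t : K => (t : G)) h))
    calc Nat.card N = f.ker.index * Nat.card f.ker := (Subgroup.index_mul_card _).symm
      _ = Nat.card f.range * Nat.card f.ker := by rw [Subgroup.index_ker]
      _ ≤ Nat.card K * Nat.card K := Nat.mul_le_mul (Subgroup.card_le_card_group _) hker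
      _ ≤ 4 := Nat.mul_le_mul hK hK

end Cfsg.Agent.S3276
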