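import Cfsg.Statements.S3277
import Cfsg.Agent.Inv54.Core
import Cfsg.Agent.Solvable.Basic
import Cfsg.Agent.Inv54.CentralizerFour
import Cfsg.Agent.PLocal.Constraint
import Cfsg.Agent.Small.Dihedral
import Cfsg.Agent.Small.StronglyEmbedded
import Mathlib.GroupTheory.FixedPointFree

set_option autoImplicit false
open Cfsg

namespace Cfsg.Agent.S3277

open scoped commutatorElement

variable {G : Type*} [Group G] [Finite G]

omit [Finite G] in
/-- In a finite 2-group which is not cyclic the derived subgroup has index at least four and the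
quotient by it is not cyclic. -/
theorem commutator_quotient_not_cyclic {S : Type*} [Group S] [Finite S] (hS : IsPGroup 2 S)
    (hnc : ¬ IsCyclic S) : ¬ IsCyclic (S ⧸ commutator S) := by
  intro hq
  apply hnc
  have : Fact (Nat.Prime 2) := ⟨Nat.prime_two⟩
  obtain ⟨q, hq'⟩ := hq.exists_generator
  obtain ⟨g, rfl⟩ := QuotientGroup.mk'_surjective (commutator S) q
  refine ⟨⟨g, fun y => ?_⟩⟩
  by_contra hy
  obtain ⟨M, hM, hgM⟩ := (eq_top_or_exists_le_coatom (Subgroup.zpowers g)).resolve_left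
    (fun h => hy (show y ∈ Subgroup.zpowers g by rw [h]; exact Subgroup.mem_top y))
  have hn : Group.IsNilpotent S := hS.isNilpotent
  have hMn : M.Normal := Subgroup.NormalizerCondition.normal_of_coatom M
    (normalizerCondition_of_isNilpotent) hM
  have hidx : IsSimpleGroup (S ⧸ M) := by
    have : Nontrivial (S ⧸ M) := QuotientGroup.nontrivial_iff.mpr hM.1
    refine ⟨fun N hN => ?_⟩
    rcases hM.le_iff.mp (QuotientGroup.le_comap_mk' M N) with h | h
    · right
      rw [← Subgroup.map_comap_eq_self_of_surjective (QuotientGroup.mk'_surjective M) N, h,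
        Subgroup.map_top_of_surjective _ (QuotientGroup.mk'_surjective M)]
    · left
      rw [← Subgroup.map_comap_eq_self_of_surjective (QuotientGroup.mk'_surjective M) N, h]
      exact QuotientGroup.map_mk'_self M
  have hcomm : commutator S ≤ M := by
    have hs : Group.IsSolvable S := inferInstance
    have hc := (IsSimpleGroup.comm_iff_isSolvable (G := S ⧸ M)).mpr inferInstance
    rw [commutator_def, Subgroup.commutator_le]
    intro a _ b _
    rw [← QuotientGroup.eq_one_iff]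
    have h0 : (QuotientGroup.mk' M) ⁅a, b⁆ = ⁅(QuotientGroup.mk' M) a, (QuotientGroup.mk' M) b⁆ :=
      map_commutatorElement _ a b
    refine h0.trans ?_
    rw [commutatorElement_eq_one_iff_mul_comm]
    exact hc _ _
  apply hM.1
  rw [eq_top_iff]
  intro z _
  obtain ⟨j, hj⟩ := Subgroup.mem_zpowers_iff.mp (hq' (z : S ⧸ commutator S))
  have h1 : (z : S)⁻¹ * g ^ j ∈ commutator S := by
    apply QuotientGroup.eq.mp
    exact hj.symm
  have h2 := M.mul_mem (M.zpow_mem (hgM (Subgroup.mem_zpowers g)) j) (M.inv_mem (hcomm h1))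
  simpa using h2

/-- Every conjugate of `x` has a centraliser of the same order, of exponent two. -/
theorem centralizer_conj {x y : G} (h : IsConj x y)
    (hCe : ∀ c ∈ Subgroup.centralizer ({x} : Set G), c ^ 2 = 1) :
    Nat.card (Subgroup.centralizer ({y} : Set G)) = Nat.card (Subgroup.centralizer ({x} : Set G)) ∧
      ∀ c ∈ Subgroup.centralizer ({y} : Set G), c ^ 2 = 1 := by
  obtain ⟨g, rfl⟩ := isConj_iff.mp h
  have h1 := CfsgLib.Small.card_conjugates_mul_card_centralizer x
  have h2 := CfsgLib.Small.card_conjugates_mul_card_centralizer (g * x * g⁻¹)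
  have h3 : Nat.card {a : G // IsConj (g * x * g⁻¹) a} = Nat.card {a : G // IsConj x a} :=
    Nat.card_congr (Equiv.subtypeEquivRight fun a =>
      ⟨fun ha => h.trans ha, fun ha => h.symm.trans ha⟩)
  refine ⟨?_, fun c hc => ?_⟩
  · rw [h3, ← h1] at h2
    refine Nat.eq_of_mul_eq_mul_left (Nat.pos_of_ne_zero fun h0 => ?_) h2
    rw [h0, zero_mul] at h1
    exact Nat.card_pos.ne' h1.symm
  · have hm : g⁻¹ * c * g ∈ Subgroup.centralizer ({x} : Set G) := by
      rw [Subgroup.mem_centralizer_singleton_iff] at hc ⊢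
      calc g⁻¹ * c * g * x = g⁻¹ * (c * (g * x * g⁻¹)) * g := by group
        _ = g⁻¹ * ((g * x * g⁻¹) * c) * g := by rw [hc]
        _ = x * (g⁻¹ * c * g) := by group
    have h4 := hCe _ hm
    calc c ^ 2 = g * (g⁻¹ * c * g) ^ 2 * g⁻¹ := by rw [sq, sq]; group
      _ = 1 := by rw [h4]; group

/-- The solvable case is excluded. -/
theorem not_isSolvable {x : G} (hx : orderOf x = 2)
    (hC4 : Nat.card ↥(Subgroup.centralizer ({x} : Set G)) = 4)
    (hnc : ¬ Cfsg.HasNormalPComplement 2 G)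
    (hne : ∀ E : Subgroup G, E.Normal → Cfsg.IsElementaryAbelian 2 E → Nat.card ↥E ≠ 2 ∧ Nat.card ↥E ≠ 4) :
    ¬ Group.IsSolvable G := by
  intro hs
  have : Fact (Nat.Prime 2) := ⟨Nat.prime_two⟩
  set C := Subgroup.centralizer ({x} : Set G) with hC
  have hx2 : x * x = 1 := CfsgLib.Small.mul_self_of_orderOf_two hx
  have hxi : x⁻¹ = x := CfsgLib.Small.inv_eq_self_of_orderOf_two hx
  -- no normal 2-subgroup
  have hR : Cfsg.pCore 2 G = ⊥ := by
    by_contra hne1
    obtain ⟨E, hEn, hE1, hEle, hEmin⟩ :=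
      CfsgLib.Solvable.exists_minimal_normal_le (G := G) (N := Cfsg.pCore 2 G) inferInstance hne1
    have hE2 : IsPGroup 2 E := (CfsgLib.PLocal.isPGroup_pCore 2 G).to_le hEle
    have hcomm := CfsgLib.Solvable.mul_comm_of_minimal_normal hE1 hEmin
    obtain ⟨p, hp, hpow⟩ := CfsgLib.Solvable.exists_prime_pow_eq_one_of_minimal_normal hE1 hEmin
    obtain rfl : p = 2 := by
      have : Nontrivial E := E.bot_or_nontrivial.resolve_left hE1
      obtain ⟨e, he⟩ := exists_ne (1 : E)
      have he' : (e : G) ≠ 1 := fun h => he (Subtype.ext h)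
      have := Fact.mk hp
      have h1 : orderOf (e : G) = p := orderOf_eq_prime (hpow e e.2) he'
      obtain ⟨k, hk⟩ := IsPGroup.iff_orderOf.mp hE2 e
      rw [← Subgroup.orderOf_coe, h1] at hk
      have h2 : p ∣ 2 ^ k := dvd_of_eq hk
      exact (Nat.prime_dvd_prime_iff_eq hp Nat.prime_two).mp (hp.dvd_of_dvd_pow h2)
    have hEel : Cfsg.IsElementaryAbelian 2 E :=
      ⟨⟨⟨fun a b => Subtype.ext (hcomm a a.2 b b.2)⟩⟩, hpow⟩
    have hcard : Nat.card E ≤ 4 := by
      by_cases hxE : x ∈ E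
      · rw [← hC4]
        exact Subgroup.card_le_of_le fun e he =>
          Subgroup.mem_centralizer_singleton_iff.mpr (hcomm e he x hxE)
      · let K : Subgroup G := E ⊓ C
        have hK : Nat.card K ≤ 2 := by
          have h1 : Nat.card K ∣ 4 := hC4 ▸ Subgroup.card_dvd_of_le inf_le_right
          have h2 : Nat.card K ≠ 4 := fun h => by
            have h3 : K = C := Subgroup.eq_of_le_of_card_ge inf_le_right (by rw [hC4, h])
            exact hxE ((h3 ▸ Subgroup.mem_centralizer_singleton_iff.mpr rfl : x ∈ K)).1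
          have h3 := Nat.le_of_dvd (by norm_num) h1
          interval_cases h : Nat.card K <;> omega
        have hmem : ∀ v ∈ E, v * (x * v * x⁻¹) ∈ K := by
          intro v hv
          have hv' : x * v * x⁻¹ ∈ E := hEn.conj_mem v hv x
          refine ⟨mul_mem hv hv', Subgroup.mem_centralizer_singleton_iff.mpr ?_⟩
          symm
          refine mul_inv_eq_iff_eq_mul.mp ?_
          calc x * (v * (x * v * x⁻¹)) * x⁻¹
              = (x * v * x⁻¹) * ((x * x) * v * (x * x)⁻¹) := by group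
            _ = v * (x * v * x⁻¹) := by
                rw [hx2, inv_one, one_mul, mul_one, hcomm _ hv' _ hv]
        let f : E →* K := MonoidHom.mk' (fun v => ⟨v * (x * v * x⁻¹), hmem v v.2⟩) (by
          intro a b
          apply Subtype.ext
          have hc := hcomm (x * (a : G) * x⁻¹) (hEn.conj_mem a a.2 x) b b.2
          show (a : G) * b * (x * (a * b) * x⁻¹) = a * (x * a * x⁻¹) * (b * (x * b * x⁻¹))
          rw [show x * ((a : G) * b) * x⁻¹ = (x * a * x⁻¹) * (x * b * x⁻¹) by group,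
            mul_assoc (a : G), mul_assoc (a : G), ← mul_assoc (b : G), ← hc, mul_assoc])
        have hker : Nat.card f.ker ≤ Nat.card K := by
          refine Nat.card_le_card_of_injective (fun v => (⟨((v : E) : G), (v : E).2,
            Subgroup.mem_centralizer_singleton_iff.mpr ?_⟩ : K)) ?_
          · have h1 : ((v : E) : G) * (x * (v : E) * x⁻¹) = 1 := congrArg Subtype.val v.2
            have h2 : ((v : E) : G) * (v : E) = 1 := by rw [← sq]; exact hpow _ (v : E).2
            exact (mul_inv_eq_iff_eq_mul.mp (mul_left_cancel (h1.trans h2.symm))).symm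
          · intro a b h
            exact Subtype.ext (Subtype.ext (congrArg (fun t : K => (t : G)) h))
        calc Nat.card E = f.ker.index * Nat.card f.ker := (Subgroup.index_mul_card _).symm
          _ = Nat.card f.range * Nat.card f.ker := by rw [Subgroup.index_ker]
          _ ≤ Nat.card K * Nat.card K := Nat.mul_le_mul (Subgroup.card_le_card_group _) hker
          _ ≤ 4 := Nat.mul_le_mul hK hK
    have h1 := hne E hEn hEel
    obtain ⟨k, hk⟩ := IsPGroup.iff_card.mp hE2
    have h2 := E.one_lt_card_iff_ne_bot.mpr hE1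
    rw [hk] at h1 h2 hcard
    have : k ≤ 2 := (Nat.pow_le_pow_iff_right (by norm_num)).mp (hcard.trans_eq (by norm_num : 4 = 2 ^ 2))
    interval_cases k <;> omega
  -- `x` inverts `O`
  set O := Cfsg.oddCore G with hOdef
  have hOodd : Odd (Nat.card O) := CfsgLib.Inv54.odd_card_oddCore
  let φ : O →* O := (MulAut.conjNormal x).toMonoidHom
  have hφ : MonoidHom.FixedPointFree φ := by
    intro o ho
    have h1 : x * (o : G) * x⁻¹ = o := congrArg Subtype.val ho
    have h2 : (o : G) ∈ C := Subgroup.mem_centralizer_singleton_iff.mpr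
      (mul_inv_eq_iff_eq_mul.mp h1).symm
    refine orderOf_eq_one_iff.mp ?_
    rw [← Subgroup.orderOf_coe]
    exact Nat.eq_one_of_dvd_coprimes (show Nat.Coprime (Nat.card O) 4 from
      (Nat.coprime_two_right.mpr hOodd).pow_right 2)
      (O.orderOf_dvd_natCard o.2) (hC4 ▸ C.orderOf_dvd_natCard h2)
  have hinv : ∀ o ∈ O, x * o * x⁻¹ = o⁻¹ := by
    intro o ho
    have hinvol : Function.Involutive φ := by
      intro a
      apply Subtype.ext
      show x * (x * (a : G) * x⁻¹) * x⁻¹ = a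
      rw [hxi]; simp [mul_assoc, hx2, ← mul_assoc x x]
    exact congrArg Subtype.val (congrFun (hφ.coe_eq_inv_of_involutive hinvol) ⟨o, ho⟩)
  have hOcomm : ∀ a ∈ O, ∀ b ∈ O, a * b = b * a := by
    intro a ha b hb
    have hab := hinv (a * b) (mul_mem ha hb)
    rw [show x * (a * b) * x⁻¹ = (x * a * x⁻¹) * (x * b * x⁻¹) by group, hinv a ha, hinv b hb,
      ← mul_inv_rev, inv_inj] at hab
    exact hab.symm
  -- the centraliser of `O` in `O_{2',2}(G)` is `O`
  set T := Cfsg.pPrimePCore 2 G with hT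
  let W : Subgroup G := T ⊓ Subgroup.centralizer (O : Set G)
  have hWO : W ≤ O := by
    have hWn : W.Normal := Subgroup.normal_inf_normal _ _
    obtain ⟨P⟩ : Nonempty (Sylow 2 W) := Sylow.nonempty
    let f : W →* G ⧸ O := (QuotientGroup.mk' O).comp W.subtype
    have hrange : IsPGroup 2 f.range := by
      refine (CfsgLib.PLocal.isPGroup_pCore 2 (G ⧸ O)).to_le ?_
      rintro _ ⟨w, rfl⟩
      exact Subgroup.mem_comap.mp w.2.1
    have hdec : ∀ w : W, ∃ z ∈ (P : Subgroup W), z⁻¹ * w ∈ f.ker := by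
      intro w
      let P' := P.mapSurjective f.rangeRestrict_surjective
      have hP' : (P' : Subgroup f.range) = ⊤ :=
        (P'.is_maximal' (hrange.to_subgroup _) le_top).symm
      have h1 : f.rangeRestrict w ∈ (P' : Subgroup f.range) := by rw [hP']; trivial
      rw [Sylow.coe_mapSurjective] at h1
      obtain ⟨z, hz, hzw⟩ := h1
      refine ⟨z, hz, ?_⟩
      have h2 : f z = f w := congrArg Subtype.val hzw
      rw [MonoidHom.mem_ker, map_mul, map_inv, h2, inv_mul_cancel]
    have hcentral : ∀ k : W, k ∈ f.ker → ∀ p : W, k * p = p * k := by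
      intro k hk p
      have hkO : (k : G) ∈ O := (QuotientGroup.eq_one_iff (k : G)).mp hk
      exact Subtype.ext (Subgroup.mem_centralizer_iff.mp p.2.2 k hkO)
    have hPn : (P : Subgroup W).Normal := by
      refine ⟨fun p hp w => ?_⟩
      obtain ⟨z, hz, hzk⟩ := hdec w
      have h1 : w * p * w⁻¹ = z * p * z⁻¹ := by
        calc w * p * w⁻¹ = z * ((z⁻¹ * w) * p) * (z⁻¹ * w)⁻¹ * z⁻¹ := by group
          _ = z * (p * (z⁻¹ * w)) * (z⁻¹ * w)⁻¹ * z⁻¹ := by rw [hcentral _ hzk]
          _ = z * p * z⁻¹ := by group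
      rw [h1]
      exact mul_mem (mul_mem hz hp) (inv_mem hz)
    have : (P : Subgroup W).Characteristic := P.characteristic_of_normal hPn
    have hPG : ((P : Subgroup W).map W.subtype).Normal :=
      ConjAct.normal_of_characteristic_of_normal
    have hP1 : (P : Subgroup W).map W.subtype = ⊥ := by
      rw [← le_bot_iff, ← hR]
      exact CfsgLib.PLocal.le_pCore (P.isPGroup'.map W.subtype)
    intro w hw
    obtain ⟨z, hz, hzk⟩ := hdec ⟨w, hw⟩
    have hz1 : z = 1 := by
      have : (z : G) ∈ (P : Subgroup W).map W.subtype := ⟨z, hz, rfl⟩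
      rw [hP1] at this
      exact Subtype.ext this
    subst hz1
    rw [inv_one, one_mul] at hzk
    exact (QuotientGroup.eq_one_iff w).mp hzk
  have hcomm : ∀ r : G, r * x * r⁻¹ * x⁻¹ ∈ Subgroup.centralizer (O : Set G) := by
    intro r
    refine Subgroup.mem_centralizer_iff.mpr fun o ho => (?_ : r * x * r⁻¹ * x⁻¹ * o = o * (r * x * r⁻¹ * x⁻¹)).symm
    refine mul_inv_eq_iff_eq_mul.mp ?_
    have h1 : x⁻¹ * o * x = o⁻¹ := by
      have := hinv o ho; rwa [hxi] at this ⊢
    have h2 : r⁻¹ * o⁻¹ * r ∈ O := by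
      have := (inferInstance : O.Normal).conj_mem _ (inv_mem ho) r⁻¹
      rwa [inv_inv] at this
    calc r * x * r⁻¹ * x⁻¹ * o * (r * x * r⁻¹ * x⁻¹)⁻¹
        = r * (x * (r⁻¹ * (x⁻¹ * o * x) * r) * x⁻¹) * r⁻¹ := by group
      _ = r * (r⁻¹ * o⁻¹ * r)⁻¹ * r⁻¹ := by rw [h1, hinv _ h2]
      _ = o := by group
  -- `x` lies in `O_{2',2}(G)` and is central modulo `O`
  have hTn : T.Normal := inferInstance
  have hxT : x ∈ T := by
    have hcent : (x : G ⧸ O) ∈ Subgroup.centralizer (Cfsg.pCore 2 (G ⧸ O) : Set (G ⧸ O)) := by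
      refine Subgroup.mem_centralizer_iff.mpr fun q hq => ?_
      obtain ⟨r, rfl⟩ := QuotientGroup.mk'_surjective O q
      have hrT : r ∈ T := hq
      have h1 : r * x * r⁻¹ * x⁻¹ ∈ W := by
        refine ⟨?_, hcomm r⟩
        rw [show r * x * r⁻¹ * x⁻¹ = r * (x * r⁻¹ * x⁻¹) by group]
        exact mul_mem hrT (hTn.conj_mem _ (inv_mem hrT) x)
      have h2 : ((r * x * r⁻¹ * x⁻¹ : G) : G ⧸ O) = 1 := (QuotientGroup.eq_one_iff _).mpr (hWO h1)
      simp only [QuotientGroup.mk_mul, QuotientGroup.mk_inv, mul_inv_eq_one] at h2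
      exact mul_inv_eq_iff_eq_mul.mp h2
    exact (CfsgLib.Inv54.centralizer_pCore_two_quotient_le hs) hcent
  have hcen : Subgroup.centralizer ({(x : G ⧸ O)} : Set (G ⧸ O)) = ⊤ := by
    refine eq_top_iff.mpr fun q _ => ?_
    obtain ⟨g, rfl⟩ := QuotientGroup.mk'_surjective O q
    have h1 : g * x * g⁻¹ * x⁻¹ ∈ W :=
      ⟨T.mul_mem (hTn.conj_mem _ hxT g) (T.inv_mem hxT), hcomm g⟩
    have h2 : ((g * x * g⁻¹ * x⁻¹ : G) : G ⧸ O) = 1 := (QuotientGroup.eq_one_iff _).mpr (hWO h1)
    simp only [QuotientGroup.mk_mul, QuotientGroup.mk_inv, mul_inv_eq_one] at h2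
    exact Subgroup.mem_centralizer_singleton_iff.mpr (mul_inv_eq_iff_eq_mul.mp h2)
  apply hnc
  apply CfsgLib.Inv54.hasNormalPComplement_of_isPGroup_quotient
  have hle : Nat.card (G ⧸ O) ≤ 4 := by
    have := CfsgLib.Inv54.card_centralizer_quotient_le O x
    rwa [hcen, Subgroup.card_top, hC4] at this
  have hxne : (x : G ⧸ O) ≠ 1 := by
    intro h
    have hxO : x ∈ O := (QuotientGroup.eq_one_iff x).mp h
    have h2 : 2 ∣ Nat.card O := hx ▸ O.orderOf_dvd_natCard hxO
    exact hOodd.not_two_dvd_nat h2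
  have hord : orderOf (x : G ⧸ O) = 2 :=
    orderOf_eq_prime (by rw [← QuotientGroup.mk_pow, sq, hx2]; rfl) hxne
  have heven : 2 ∣ Nat.card (G ⧸ O) := hord ▸ orderOf_dvd_natCard _
  have hpos : 0 < Nat.card (G ⧸ O) := Nat.card_pos
  show IsPGroup 2 (G ⧸ O)
  rcases (show Nat.card (G ⧸ O) = 2 ∨ Nat.card (G ⧸ O) = 4 by omega) with h | h
  · exact IsPGroup.of_card (n := 1) (by rw [h, pow_one])
  · exact IsPGroup.of_card (n := 2) (by rw [h]; rfl)

/-- All involutions are conjugate to `x` and Sylow 2-subgroups have order 4. -/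
theorem conj_of_involution {x : G} (hx : orderOf x = 2)
    (hC4 : Nat.card ↥(Subgroup.centralizer ({x} : Set G)) = 4)
    (hCe : ∀ c ∈ Subgroup.centralizer ({x} : Set G), c ^ 2 = 1)
    (hno : ¬ ∃ K : Subgroup G, K.index = 2 ∧ x ∉ K) :
    ∀ v : G, orderOf v = 2 → IsConj x v := by
  classical
  have : Fact (Nat.Prime 2) := ⟨Nat.prime_two⟩
  set C := Subgroup.centralizer ({x} : Set G) with hCdef
  have hCp : IsPGroup 2 C := IsPGroup.of_card (n := 2) (by rw [hC4]; rfl)
  obtain ⟨S, hCS⟩ := hCp.exists_le_sylow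
  have hxC : x ∈ C := Subgroup.mem_centralizer_singleton_iff.mpr rfl
  have hoddS : Odd (S : Subgroup G).index := by
    rw [← Nat.not_even_iff_odd, even_iff_two_dvd]; exact S.not_dvd_index
  by_cases hS4 : Nat.card (S : Subgroup G) = 4
  · intro v hv
    by_contra hvx
    apply hno
    have hidx : (Subgroup.zpowers v).index = 2 * (S : Subgroup G).index := by
      have h1 := Subgroup.index_mul_card (Subgroup.zpowers v)
      have h2 := Subgroup.index_mul_card (S : Subgroup G)
      rw [Nat.card_zpowers, hv] at h1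
      rw [hS4] at h2
      omega
    refine CfsgLib.Inv54.exists_index_two_not_mem (Subgroup.zpowers v) hx hoddS hidx fun g hg => ?_
    obtain ⟨j, hj⟩ := Subgroup.mem_zpowers_iff.mp hg
    rcases Int.even_or_odd j with ⟨i, rfl⟩ | ⟨i, rfl⟩
    · rw [← two_mul, zpow_mul, zpow_two, CfsgLib.Small.mul_self_of_orderOf_two hv, one_zpow] at hj
      refine CfsgLib.Small.ne_one_of_orderOf_two hx ?_
      calc x = g * (g⁻¹ * x * g) * g⁻¹ := by group
        _ = 1 := by rw [← hj]; group
    · rw [zpow_add, zpow_mul, zpow_two, CfsgLib.Small.mul_self_of_orderOf_two hv, one_zpow, one_mul,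
        zpow_one] at hj
      exact hvx (isConj_iff.mpr ⟨g⁻¹, by rw [inv_inv]; exact hj.symm⟩)
  exfalso
  apply hno
  set D : Subgroup ↥(S : Subgroup G) := commutator ↥(S : Subgroup G) with hD
  have hncT : ¬ IsCyclic ↥(S : Subgroup G) := by
    intro hc
    have : IsCyclic C := isCyclic_of_injective (Subgroup.inclusion hCS) (Subgroup.inclusion_injective _)
    obtain ⟨c, hc⟩ := this.exists_generator
    have h1 : orderOf c = 4 := by rw [orderOf_eq_card_of_forall_mem_zpowers hc, hC4]
    have h2 : c ^ 2 = 1 := Subtype.ext (hCe c c.2)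
    have h3 := Nat.le_of_dvd two_pos (orderOf_dvd_of_pow_eq_one h2)
    omega
  have hq := commutator_quotient_not_cyclic S.isPGroup' hncT
  -- classes of conjugates of `x` in `↥(S : Subgroup G)` are cosets of `D`
  have hclass : ∀ y : ↥(S : Subgroup G), IsConj x (y : G) →
      Nat.card D * 4 ≤ Nat.card ↥(S : Subgroup G) ∧
      Nat.card ↥(S : Subgroup G) ≤ Nat.card D * 4 ∧ y ∉ D ∧ ∀ d ∈ D, IsConj y (y * d) := by
    intro y hy
    obtain ⟨hcard, -⟩ := centralizer_conj hy hCe
    have hcT : Nat.card (Subgroup.centralizer ({y} : Set ↥(S : Subgroup G))) ≤ 4 := by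
      rw [← hC4, ← hcard]
      refine Nat.card_le_card_of_injective (fun c => (⟨((c : ↥(S : Subgroup G)) : G),
        Subgroup.mem_centralizer_singleton_iff.mpr (congrArg Subtype.val
          (Subgroup.mem_centralizer_singleton_iff.mp c.2))⟩ :
          Subgroup.centralizer ({(y : G)} : Set G))) ?_
      intro a b h
      exact Subtype.ext (Subtype.ext
        (congrArg (fun t : Subgroup.centralizer ({(y : G)} : Set G) => (t : G)) h))
    have hmul := CfsgLib.Small.card_conjugates_mul_card_centralizer y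
    have hmem : ∀ z : ↥(S : Subgroup G), IsConj y z → y⁻¹ * z ∈ D := by
      intro z hz
      obtain ⟨g, rfl⟩ := isConj_iff.mp hz
      rw [show y⁻¹ * (g * y * g⁻¹) = ⁅y⁻¹, g⁆ by simp [commutatorElement_def, mul_assoc]]
      exact Subgroup.commutator_mem_commutator (Subgroup.mem_top _) (Subgroup.mem_top _)
    let f : {z : ↥(S : Subgroup G) // IsConj y z} → D := fun z => ⟨y⁻¹ * z.1, hmem z.1 z.2⟩
    have hf : Function.Injective f := fun a b hab =>
      Subtype.ext (mul_left_cancel (congrArg Subtype.val hab))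
    have h4 : 4 ≤ Nat.card (↥(S : Subgroup G) ⧸ D) := by
      by_contra! h4
      apply hq
      have hp : IsPGroup 2 (↥(S : Subgroup G) ⧸ D) := S.isPGroup'.to_quotient D
      obtain ⟨k, hk⟩ := IsPGroup.iff_card.mp hp
      rcases k with _ | _ | k
      · have : Subsingleton (↥(S : Subgroup G) ⧸ D) := (Nat.card_eq_one_iff_unique.mp (by rw [hk, pow_zero])).1
        exact isCyclic_of_subsingleton
      · exact isCyclic_of_prime_card (p := 2) (by rw [hk, pow_one])
      · have : 0 < 2 ^ k := Nat.two_pow_pos k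
        rw [pow_succ, pow_succ] at hk
        omega
    have h5 := Nat.card_le_card_of_injective f hf
    have h6 := Subgroup.card_eq_card_quotient_mul_card_subgroup D
    have h7 : Nat.card D * 4 ≤ Nat.card ↥(S : Subgroup G) := by
      rw [h6, mul_comm (Nat.card (↥(S : Subgroup G) ⧸ D))]; exact Nat.mul_le_mul_left _ h4
    have h8 : Nat.card ↥(S : Subgroup G) ≤ Nat.card D * 4 := by
      rw [← hmul]; exact Nat.mul_le_mul h5 hcT
    have hsurj : Function.Surjective f := by
      refine ((Nat.bijective_iff_injective_and_card f).mpr ⟨hf, ?_⟩).2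
      refine le_antisymm h5 (Nat.le_of_mul_le_mul_right ?_ (by norm_num : 0 < 4))
      calc Nat.card D * 4 ≤ Nat.card ↥(S : Subgroup G) := h7
        _ ≤ Nat.card {z : ↥(S : Subgroup G) // IsConj y z} * 4 := by rw [← hmul]; exact Nat.mul_le_mul_left _ hcT
    have hall : ∀ d ∈ D, IsConj y (y * d) := by
      intro d hd
      obtain ⟨z, hz⟩ := hsurj ⟨d, hd⟩
      have : y⁻¹ * z.1 = d := congrArg Subtype.val hz
      rw [← this, mul_inv_cancel_left]
      exact z.2
    refine ⟨h7, h8, fun hyD => ?_, hall⟩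
    obtain ⟨g, hg⟩ := isConj_iff.mp (hall _ (inv_mem hyD))
    rw [mul_inv_cancel] at hg
    have hy1 : y = 1 := conj_eq_one_iff.mp hg
    have : orderOf (y : G) = 2 := by
      obtain ⟨g, hg⟩ := isConj_iff.mp hy
      rw [← hg, CfsgLib.Small.orderOf_conj_eq, hx]
    rw [hy1] at this
    simp at this
  obtain ⟨h7, h8, hxD, hxall⟩ := hclass ⟨x, hCS hxC⟩ (IsConj.refl x)
  have hq4 : Nat.card (↥(S : Subgroup G) ⧸ D) = 4 := by
    have h6 := Subgroup.card_eq_card_quotient_mul_card_subgroup D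
    have : 0 < Nat.card D := Nat.card_pos
    nlinarith
  have hsq : ∀ t : ↥(S : Subgroup G), t * t ∈ D := by
    intro t
    rw [← QuotientGroup.eq_one_iff]
    show ((t : ↥(S : Subgroup G) ⧸ D)) * (t : ↥(S : Subgroup G) ⧸ D) = 1
    by_contra hne
    apply hq
    refine isCyclic_of_orderOf_eq_card (t : ↥(S : Subgroup G) ⧸ D) ?_
    rw [hq4]
    exact orderOf_eq_prime_pow (p := 2) (n := 1) (by rwa [pow_one, sq])
      (by simpa [hq4] using (pow_card_eq_one' (x := (t : ↥(S : Subgroup G) ⧸ D))))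
  have hconjmem : ∀ y : ↥(S : Subgroup G), IsConj x (y : G) → ∀ d ∈ D, IsConj x ((y * d : ↥(S : Subgroup G)) : G) :=
    fun y hy d hd => hy.trans ((S : Subgroup G).subtype.map_isConj ((hclass y hy).2.2.2 d hd))
  -- some non-trivial coset contains no conjugate of `x`
  obtain ⟨c, hcD, hcY⟩ : ∃ c : ↥(S : Subgroup G), c ∉ D ∧ ∀ d ∈ D, ¬ IsConj x ((c * d : ↥(S : Subgroup G)) : G) := by
    by_contra! hall
    have hY : ∀ t : ↥(S : Subgroup G), t ∉ D → IsConj x (t : G) := by
      intro t ht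
      obtain ⟨d, hd, hc⟩ := hall t ht
      have h1 := hconjmem _ hc d⁻¹ (inv_mem hd)
      rwa [mul_inv_cancel_right] at h1
    have hinv : ∀ t : ↥(S : Subgroup G), t ∉ D → t * t = 1 := by
      intro t ht
      obtain ⟨g, hg⟩ := isConj_iff.mp (hY t ht)
      apply Subtype.ext
      show (t : G) * t = 1
      rw [← hg, show g * x * g⁻¹ * (g * x * g⁻¹) = g * (x * x) * g⁻¹ by group,
        CfsgLib.Small.mul_self_of_orderOf_two hx]
      group
    set x' : ↥(S : Subgroup G) := ⟨x, hCS hxC⟩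
    have hcomm : ∀ t : ↥(S : Subgroup G), t ∉ D → x'⁻¹ * t ∉ D → t * x' = x' * t := by
      intro t ht ht'
      have h1 : x' * t ∉ D := by
        rwa [inv_eq_of_mul_eq_one_right (hinv x' hxD)] at ht'
      have h2 := hinv _ h1
      calc t * x' = (x' * x') * t * x' := by rw [hinv x' hxD, one_mul]
        _ = x' * (x' * t * x') * 1 := by group
        _ = x' * (x' * t * x') * (t * t) := by rw [hinv t ht]
        _ = x' * ((x' * t) * (x' * t)) * t := by group
        _ = x' * t := by rw [h2, mul_one]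
    -- too many elements commute with `x`
    let Z : Set ↥(S : Subgroup G) := ((D : Set ↥(S : Subgroup G)) ∪ (fun d => x' * d) '' (D : Set ↥(S : Subgroup G)))ᶜ
    have hDcard : 2 ≤ Nat.card D := by
      have hST : 4 < Nat.card ↥(S : Subgroup G) := by
        rcases lt_or_eq_of_le (hC4 ▸ Subgroup.card_le_of_le hCS) with h | h
        · exact h
        · exact absurd h.symm hS4
      omega
    have hZ : Nat.card ↥(S : Subgroup G) ≤ Z.ncard + 2 * Nat.card D := by
      rw [← Set.ncard_univ]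
      have h1 : (Set.univ : Set ↥(S : Subgroup G)) = Z ∪ ((D : Set ↥(S : Subgroup G)) ∪ (fun d => x' * d) '' (D : Set ↥(S : Subgroup G))) := by
        rw [Set.union_comm, Set.union_compl_self]
      rw [h1]
      refine (Set.ncard_union_le _ _).trans (Nat.add_le_add_left
        ((Set.ncard_union_le _ _).trans ?_) _)
      rw [two_mul]
      refine Nat.add_le_add le_rfl ((Set.ncard_image_le (Set.toFinite _)).trans le_rfl)
    have hZsub : Z ∪ {(1 : ↥(S : Subgroup G)), x'} ⊆ {t : ↥(S : Subgroup G) | t * x' = x' * t} := by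
      rintro t (ht | rfl | rfl)
      · simp only [Z, Set.mem_compl_iff, Set.mem_union, not_or] at ht
        exact hcomm t ht.1 fun h => ht.2 ⟨_, h, mul_inv_cancel_left x' t⟩
      · simp
      · rfl
    have hdisj : Disjoint Z ({(1 : ↥(S : Subgroup G)), x'} : Set ↥(S : Subgroup G)) := by
      rw [Set.disjoint_right]
      rintro t (rfl | rfl) ht <;> apply ht
      · exact Or.inl (one_mem D)
      · exact Or.inr ⟨1, one_mem D, mul_one _⟩
    have hx'1 : (1 : ↥(S : Subgroup G)) ≠ x' := fun h =>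
      CfsgLib.Small.ne_one_of_orderOf_two hx (congrArg Subtype.val h).symm
    have h9 := Set.ncard_le_ncard hZsub (Set.toFinite _)
    rw [Set.ncard_union_eq hdisj, Set.ncard_pair hx'1] at h9
    have h10 : ({t : ↥(S : Subgroup G) | t * x' = x' * t}).ncard ≤ 4 := by
      rw [← hC4, ← Nat.card_coe_set_eq]
      refine Nat.card_le_card_of_injective (fun t => (⟨((t.1 : ↥(S : Subgroup G)) : G),
        Subgroup.mem_centralizer_singleton_iff.mpr (congrArg Subtype.val t.2)⟩ : C)) ?_
      intro a b h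
      exact Subtype.ext (Subtype.ext (congrArg (fun u : C => (u : G)) h))
    omega
  let M : Subgroup ↥(S : Subgroup G) := D ⊔ Subgroup.zpowers c
  have hMmem : ∀ t ∈ M, t ∈ D ∨ ∃ d ∈ D, t = c * d := by
    intro t ht
    obtain ⟨d, hd, y, hy, rfl⟩ := Subgroup.mem_sup_of_normal_left.mp ht
    obtain ⟨j, rfl⟩ := Subgroup.mem_zpowers_iff.mp hy
    rcases Int.even_or_odd j with ⟨i, rfl⟩ | ⟨i, rfl⟩
    · left
      rw [← two_mul, zpow_mul, zpow_two]
      exact mul_mem hd (zpow_mem (hsq c) i)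
    · right
      refine ⟨c⁻¹ * d * c * (c * c) ^ i,
        mul_mem ?_ (zpow_mem (hsq c) i), ?_⟩
      · have h1 := (inferInstance : D.Normal).conj_mem d hd c⁻¹
        rwa [inv_inv] at h1
      · rw [← zpow_two, ← zpow_mul, zpow_add, zpow_one, mul_comm 2 i]; simp only [← mul_assoc, mul_inv_cancel, one_mul]; rw [mul_assoc d, mul_assoc d]; congr 1; rw [← zpow_one_add, ← zpow_add_one, add_comm]
  have hMidx : M.index = 2 := by
    have h1 : D.relIndex M * M.index = D.index := Subgroup.relIndex_mul_index le_sup_left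
    rw [show D.index = 4 from hq4] at h1
    have h2 : D.relIndex M ≠ 1 := fun h =>
      hcD (Subgroup.relIndex_eq_one.mp h ((le_sup_right : _ ≤ M) (Subgroup.mem_zpowers c)))
    have h3 : M.index ≠ 1 := by
      intro h
      rw [Subgroup.index_eq_one] at h
      rcases hMmem ⟨x, hCS hxC⟩ (h ▸ Subgroup.mem_top _) with hd | ⟨d, hd, he⟩
      · exact hxD hd
      · exact hcY d hd (by rw [← he])
    have hdvd : M.index ∣ 4 := ⟨_, by rw [mul_comm]; exact h1.symm⟩
    have hle := Nat.le_of_dvd (by norm_num) hdvd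
    interval_cases h : M.index
    all_goals omega
  refine CfsgLib.Inv54.exists_index_two_not_mem (M.map (S : Subgroup G).subtype) hx hoddS
    (by rw [Subgroup.index_map_subtype, hMidx]) fun g hg => ?_
  obtain ⟨t, ht, hte⟩ := hg
  have hconj : IsConj x (t : G) := isConj_iff.mpr ⟨g⁻¹, by rw [inv_inv]; exact hte.symm⟩
  rcases hMmem t ht with hd | ⟨d, hd, rfl⟩
  · exact (hclass t hconj).2.2.1 hd
  · exact hcY d hd hconj


theorem centralizer_conj_card (a w : G) :
    Nat.card (Subgroup.centralizer ({w * a * w⁻¹} : Set G)) =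
      Nat.card (Subgroup.centralizer ({a} : Set G)) := by
  refine Nat.card_congr ((MulAut.conj w).toEquiv.subtypeEquiv fun g => ?_).symm
  rw [Subgroup.mem_centralizer_singleton_iff, Subgroup.mem_centralizer_singleton_iff]
  show g * a = a * g ↔ w * g * w⁻¹ * (w * a * w⁻¹) = w * a * w⁻¹ * (w * g * w⁻¹)
  simp only [show w * g * w⁻¹ * (w * a * w⁻¹) = w * (g * a) * w⁻¹ by group,
    show w * a * w⁻¹ * (w * g * w⁻¹) = w * (a * g) * w⁻¹ by group, mul_left_inj, mul_right_inj]


/-- Let G be a finite group containing an involution whose centralizer is elementary abelian of order 4. If G has no normal 2-complement and no normal elementary abelian 2-subgroup of order 2 or 4, then G is isomorphic to the alternating group of degree 5 (that is, to PSL(2, 5)). -/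
theorem result {G : Type*} [Group G] [Finite G] (x : G) (hx : orderOf x = 2)
    (hC4 : Nat.card ↥(Subgroup.centralizer ({x} : Set G)) = 4) (hCe : ∀ c ∈ Subgroup.centralizer ({x} : Set G), c ^ 2 = 1)
    (hnc : ¬ Cfsg.HasNormalPComplement 2 G)
    (hne : ∀ E : Subgroup G, E.Normal → Cfsg.IsElementaryAbelian 2 E → Nat.card ↥E ≠ 2 ∧ Nat.card ↥E ≠ 4) :
    Nonempty (G ≃* ↥(alternatingGroup (Fin 5))) := by
  classical
  have : Fact (Nat.Prime 2) := ⟨Nat.prime_two⟩
  have : Fact (Nat.Prime 3) := ⟨Nat.prime_three⟩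
  have hns := not_isSolvable hx hC4 hnc hne
  have hno : ¬ ∃ K : Subgroup G, K.index = 2 ∧ x ∉ K := by
    rintro ⟨K, hK, hxK⟩
    exact hns (CfsgLib.Inv54.isSolvable_of_index_two_centralizer_le_four _ le_rfl K hK x hx hxK hC4.le)
  have hall := conj_of_involution hx hC4 hCe hno
  have hcent : ∀ v : G, orderOf v = 2 →
      Nat.card (Subgroup.centralizer ({v} : Set G)) = 4 ∧
      ∀ c ∈ Subgroup.centralizer ({v} : Set G), c ^ 2 = 1 := fun v hv => by
    have := centralizer_conj (hall v hv) hCe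
    rwa [hC4] at this
  set C := Subgroup.centralizer ({x} : Set G) with hCdef
  have hxC : x ∈ C := Subgroup.mem_centralizer_singleton_iff.mpr rfl
  have hCcomm : ∀ a ∈ C, ∀ b ∈ C, a * b = b * a := fun a ha b hb => by
    have hsq : ∀ t : C, t * t = 1 := fun t => Subtype.ext (by
      have := hCe t t.2
      rwa [sq] at this)
    have h1 : (⟨a, ha⟩ * ⟨b, hb⟩ : C) = ⟨b, hb⟩ * ⟨a, ha⟩ := by
      have ha' := inv_eq_of_mul_eq_one_right (hsq ⟨a, ha⟩)
      have hb' := inv_eq_of_mul_eq_one_right (hsq ⟨b, hb⟩)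
      have hab' := inv_eq_of_mul_eq_one_right (hsq (⟨a, ha⟩ * ⟨b, hb⟩))
      rw [mul_inv_rev, ha', hb'] at hab'
      exact hab'.symm
    exact congrArg Subtype.val h1
  have hinvol : ∀ w ∈ C, w ≠ 1 → orderOf w = 2 := fun w hw h => orderOf_eq_prime (hCe w hw) h
  have hCw : ∀ w ∈ C, w ≠ 1 → Subgroup.centralizer ({w} : Set G) = C := by
    intro w hw h1
    refine (Subgroup.eq_of_le_of_card_ge (fun c hc =>
      Subgroup.mem_centralizer_singleton_iff.mpr (hCcomm c hc w hw)) ?_).symm
    rw [(hcent w (hinvol w hw h1)).1, hC4]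
  set H := Subgroup.normalizer (C : Set G) with hHdef
  have hCH : C ≤ H := Subgroup.le_normalizer
  have hkey : ∀ w ∈ C, w ≠ 1 → ∀ g : G, g * w * g⁻¹ ∈ C → g ∈ H := by
    intro w hw h1 g hg
    refine Subgroup.mem_normalizer_fintype fun n hn => ?_
    have hne1 : g * w * g⁻¹ ≠ 1 := fun h => h1 (conj_eq_one_iff.mp h)
    show g * n * g⁻¹ ∈ C
    rw [← hCw _ hg hne1, Subgroup.mem_centralizer_singleton_iff]
    calc g * n * g⁻¹ * (g * w * g⁻¹) = g * (n * w) * g⁻¹ := by group
      _ = g * (w * n) * g⁻¹ := by rw [hCcomm n hn w hw]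
      _ = g * w * g⁻¹ * (g * n * g⁻¹) := by group
  have hHC : ∀ h ∈ H, ∀ c ∈ C, h * c * h⁻¹ ∈ C := fun h hh c hc =>
    (Subgroup.mem_normalizer_iff.mp hh c).mp hc
  -- the orbit of `x` under `H` gives `|H| = 12`
  let X := {v : C // v ≠ 1}
  have hX : Nat.card X = 3 := by
    have h1 := Nat.card_congr (Equiv.sumCompl (fun v : C => v ≠ 1))
    rw [Nat.card_sum, hC4] at h1
    have h2 : Nat.card {v : C // ¬ v ≠ 1} = 1 := by
      rw [Nat.card_eq_one_iff_unique]
      exact ⟨⟨fun a b => Subtype.ext ((not_not.mp a.2).trans (not_not.mp b.2).symm)⟩,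
        ⟨⟨1, not_not.mpr rfl⟩⟩⟩
    show Nat.card {v : C // v ≠ 1} = 3
    omega
  have hH12 : Nat.card H = 12 := by
    have hx1 := CfsgLib.Small.ne_one_of_orderOf_two hx
    let f : H ⧸ C.subgroupOf H → X := Quotient.lift
      (fun h : H => (⟨⟨(h : G) * x * (h : G)⁻¹, hHC h h.2 x hxC⟩,
        fun e => hx1 (conj_eq_one_iff.mp (congrArg Subtype.val e))⟩ : X))
      (by
        intro a b hab
        have h1 : (a : G)⁻¹ * b ∈ C := Subgroup.mem_subgroupOf.mp (QuotientGroup.leftRel_apply.mp hab)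
        refine Subtype.ext (Subtype.ext ?_)
        show (a : G) * x * (a : G)⁻¹ = b * x * (b : G)⁻¹
        calc (a : G) * x * (a : G)⁻¹ = a * (x * ((a : G)⁻¹ * b)) * (b : G)⁻¹ := by group
          _ = a * (((a : G)⁻¹ * b) * x) * (b : G)⁻¹ := by
              rw [Subgroup.mem_centralizer_singleton_iff.mp h1]
          _ = b * x * (b : G)⁻¹ := by group)
    have hf : Function.Bijective f := by
      refine ⟨?_, ?_⟩
      · intro p q h
        obtain ⟨a, rfl⟩ := Quotient.exists_rep p
        obtain ⟨b, rfl⟩ := Quotient.exists_rep q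
        refine QuotientGroup.eq.mpr (Subgroup.mem_subgroupOf.mpr
          (Subgroup.mem_centralizer_singleton_iff.mpr ?_))
        have h1 : (a : G) * x * (a : G)⁻¹ = b * x * (b : G)⁻¹ :=
          congrArg (fun v : X => ((v.1 : C) : G)) h
        show (a : G)⁻¹ * b * x = x * ((a : G)⁻¹ * b)
        calc (a : G)⁻¹ * b * x = (a : G)⁻¹ * (b * x * (b : G)⁻¹) * b := by group
          _ = (a : G)⁻¹ * (a * x * (a : G)⁻¹) * b := by rw [h1]
          _ = x * ((a : G)⁻¹ * b) := by group
      · rintro ⟨⟨v, hv⟩, hv1⟩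
        obtain ⟨g, hg⟩ := isConj_iff.mp (hall v (hinvol v hv fun e => hv1 (Subtype.ext e)))
        exact ⟨QuotientGroup.mk (⟨g, hkey x hxC hx1 g (by rw [hg]; exact hv)⟩ : H),
          Subtype.ext (Subtype.ext hg)⟩
    have h1 := Subgroup.card_eq_card_quotient_mul_card_subgroup (C.subgroupOf H)
    rw [Nat.card_congr (Equiv.ofBijective f hf), hX,
      Nat.card_congr (Subgroup.subgroupOfEquivOfLe hCH).toEquiv, hC4] at h1
    omega
  have hCn : (C.subgroupOf H).Normal := ⟨fun c hc h => hHC h h.2 c hc⟩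
  have hCidx : (C.subgroupOf H).index = 3 := by
    have h1 := Subgroup.index_mul_card (C.subgroupOf H)
    rw [Nat.card_congr (Subgroup.subgroupOfEquivOfLe hCH).toEquiv, hC4, hH12] at h1
    omega
  have hcube : ∀ a ∈ H, a ^ 3 ∈ C := fun a ha => by
    have h1 := (C.subgroupOf H).pow_index_mem (⟨a, ha⟩ : H)
    rw [hCidx] at h1
    exact h1
  have hord3 : ∀ a ∈ H, a ∉ C → orderOf a = 3 := by
    intro a ha haC
    refine orderOf_eq_prime ?_ fun h => haC (h ▸ one_mem C)
    by_contra h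
    apply haC
    rw [← hCw _ (hcube a ha) h, Subgroup.mem_centralizer_singleton_iff]
    exact ((Commute.refl a).pow_right 3).eq
  have hinvH : ∀ w ∈ H, orderOf w = 2 → w ∈ C := fun w hw h2 => by
    by_contra hwC
    have := hord3 w hw hwC
    omega
  have hquot : ∀ a ∈ H, ∀ b ∈ H, a ∉ C → b ∉ C → a⁻¹ * b ∈ C ∨ a * b ∈ C := by
    intro a ha b hb haC hbC
    by_contra! hcon
    have h4 : 4 ≤ (C.subgroupOf H).index := by
      let A : H := ⟨a, ha⟩
      let B : H := ⟨b, hb⟩
      let q : H → H ⧸ C.subgroupOf H := QuotientGroup.mk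
      have hne : ∀ u v : H, (u : G)⁻¹ * v ∉ C → q u ≠ q v := fun u v h e =>
        h (Subgroup.mem_subgroupOf.mp (QuotientGroup.eq.mp e))
      have h01 : q 1 ≠ q A := hne 1 A (by simpa [A] using haC)
      have h02 : q 1 ≠ q B := hne 1 B (by simpa [B] using hbC)
      have h03 : q 1 ≠ q A⁻¹ := hne 1 A⁻¹ (by simpa [A] using haC)
      have h12 : q A ≠ q B := hne A B (by simpa [A, B] using hcon.1)
      have h13 : q A ≠ q A⁻¹ := hne A A⁻¹ (by
        intro h
        apply haC
        have h1 : a ^ 2 ∈ C := by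
          have := C.inv_mem h
          simpa [A, sq] using this
        have h2 := C.mul_mem (hcube a ha) (C.inv_mem h1)
        rwa [show a ^ 3 * (a ^ 2)⁻¹ = a by group] at h2)
      have h23 : q B ≠ q A⁻¹ := hne B A⁻¹ (by
        intro h
        apply hcon.2
        have := C.inv_mem h
        simpa [A, B] using this)
      let F : Finset (H ⧸ C.subgroupOf H) := {q 1, q A, q B, q A⁻¹}
      have hF : F.card = 4 := by simp [F, h01, h02, h03, h12, h13, h23]
      have : Fintype (H ⧸ C.subgroupOf H) := Fintype.ofFinite _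
      calc 4 = F.card := hF.symm
        _ ≤ Fintype.card (H ⧸ C.subgroupOf H) := Finset.card_le_univ _
        _ = (C.subgroupOf H).index := (Nat.card_eq_fintype_card).symm
    omega
  have houtside : ∀ u : G, orderOf u = 2 → u ∉ H → ∀ w ∈ H, w ≠ 1 → u * w * u⁻¹ = w⁻¹ → w ∉ C := by
    intro u hu huH w _ hw1 huw hwC
    exact huH (hkey w hwC hw1 u (huw ▸ C.inv_mem hwC))
  have htwo : ∀ u : G, u ∉ H → ∀ a ∈ H, a ∉ C → ∀ b ∈ H, b ∉ C →
      u * a * u⁻¹ = a⁻¹ → u * b * u⁻¹ = b⁻¹ → b = a ∨ b = a⁻¹ := by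
    intro u huH a ha haC b hb hbC hua hub
    by_contra! hne'
    have hw : ∃ w ∈ C, w ≠ 1 ∧ u * w * u⁻¹ ∈ H := by
      rcases hquot a ha b hb haC hbC with h | h
      · refine ⟨_, h, fun e => hne'.1 (inv_mul_eq_one.mp e).symm, ?_⟩
        rw [show u * (a⁻¹ * b) * u⁻¹ = (u * a * u⁻¹)⁻¹ * (u * b * u⁻¹) by group, hua, hub]
        exact mul_mem (inv_mem (inv_mem ha)) (inv_mem hb)
      · refine ⟨_, h, fun e => hne'.2 (eq_inv_of_mul_eq_one_right e), ?_⟩
        rw [show u * (a * b) * u⁻¹ = (u * a * u⁻¹) * (u * b * u⁻¹) by group, hua, hub]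
        exact mul_mem (inv_mem ha) (inv_mem hb)
    obtain ⟨w, hw, hw1, hwH⟩ := hw
    exact huH (hkey w hw hw1 u (hinvH _ hwH (by
      rw [CfsgLib.Small.orderOf_conj_eq, hinvol w hw hw1])))
  -- counting
  let U := {u : G // orderOf u = 2 ∧ u ∉ H}
  let A := {a : G // a ∈ H ∧ a ∉ C}
  have : Fintype G := Fintype.ofFinite G
  set n := H.index with hn
  have hG : Nat.card G = 12 * n := by rw [← Subgroup.index_mul_card H, hH12, mul_comm]
  have hU : Nat.card U + 3 = 3 * n := by
    have hJ := CfsgLib.Small.card_conjugates_mul_card_centralizer x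
    rw [hC4] at hJ
    let J := {v : G // IsConj x v}
    have hJ3 : Nat.card J = 3 * n := by rw [hG] at hJ; show Nat.card {v : G // IsConj x v} = _; omega
    rw [← hJ3, ← Nat.card_congr (Equiv.sumCompl (fun v : J => v.1 ∈ H)), Nat.card_sum, add_comm]
    have ho : ∀ v : J, orderOf v.1 = 2 := fun v => by
      obtain ⟨g, hg⟩ := isConj_iff.mp v.2
      rw [← hg, CfsgLib.Small.orderOf_conj_eq, hx]
    congr 1
    · rw [← hX]
      refine Nat.card_congr ⟨fun v => ⟨⟨v.1.1, hall _ (hinvol _ v.1.2 fun e => v.2 (Subtype.ext e))⟩,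
        hCH v.1.2⟩, fun v => ⟨⟨v.1.1, hinvH _ v.2 (ho v.1)⟩,
        fun e => CfsgLib.Small.ne_one_of_orderOf_two (ho v.1) (congrArg Subtype.val e)⟩,
        fun v => rfl, fun v => rfl⟩
    · exact Nat.card_congr ⟨fun u => ⟨⟨u.1, hall _ u.2.1⟩, u.2.2⟩,
        fun v => ⟨v.1.1, ho v.1, v.2⟩, fun v => rfl, fun v => rfl⟩
  have : Fintype U := Fintype.ofFinite _
  have : Fintype A := Fintype.ofFinite _
  have : Fintype (G ⧸ H) := Fintype.ofFinite _
  let q : U → G ⧸ H := fun u => (u.1 : G ⧸ H)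
  let R : U → A → Prop := fun u a => u.1 * a.1 * u.1⁻¹ = a.1⁻¹
  let inv : U → Finset A := fun u => Finset.univ.filter (R u)
  have hinvle : ∀ u : U, (inv u).card ≤ 2 := by
    intro u
    rcases (inv u).eq_empty_or_nonempty with h | ⟨a, ha⟩
    · rw [h]; simp
    · have haR : R u a := (Finset.mem_filter.mp ha).2
      have hsub : inv u ⊆ {a, ⟨a.1⁻¹, inv_mem a.2.1, fun h => a.2.2 (by simpa using C.inv_mem h)⟩} := by
        intro b hb
        rcases htwo u.1 u.2.2 a.1 a.2.1 a.2.2 b.1 b.2.1 b.2.2 haR (Finset.mem_filter.mp hb).2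
          with h | h
        · rw [Finset.mem_insert]; exact Or.inl (Subtype.ext h)
        · rw [Finset.mem_insert, Finset.mem_singleton]; exact Or.inr (Subtype.ext h)
      exact (Finset.card_le_card hsub).trans Finset.card_le_two
  have hfib : ∀ u : U, (Finset.univ.filter fun v => q v = q u).card ≤ (inv u).card + 1 := by
    intro u
    let g : U → Option A := fun v =>
      if h : u.1⁻¹ * v.1 ∈ H ∧ u.1⁻¹ * v.1 ∉ C then some ⟨u.1⁻¹ * v.1, h⟩ else none
    have hgood : ∀ v : U, q v = q u → v ≠ u →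
        ∃ h : u.1⁻¹ * v.1 ∈ H ∧ u.1⁻¹ * v.1 ∉ C, g v = some ⟨_, h⟩ ∧ R u ⟨_, h⟩ := by
      intro v hv hvu
      have h1 : u.1⁻¹ * v.1 ∈ H := QuotientGroup.eq.mp hv.symm
      have h2 : u.1 * (u.1⁻¹ * v.1) * u.1⁻¹ = (u.1⁻¹ * v.1)⁻¹ := by
        rw [CfsgLib.Small.inv_eq_self_of_orderOf_two u.2.1]
        have := CfsgLib.Small.invol_conj_mul u.2.1 v.2.1
        rwa [CfsgLib.Small.inv_eq_self_of_orderOf_two u.2.1] at this
      have h3 : u.1⁻¹ * v.1 ∉ C := houtside u.1 u.2.1 u.2.2 _ h1
        (fun e => hvu (Subtype.ext (inv_mul_eq_one.mp e).symm)) h2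
      exact ⟨⟨h1, h3⟩, dif_pos ⟨h1, h3⟩, h2⟩
    refine le_trans ?_ ((Finset.card_image_le (f := some) (s := inv u)).trans_eq' rfl |>.trans le_rfl
      |> fun h => Nat.add_le_add_right h 1)
    refine le_trans ?_ (Finset.card_insert_le none ((inv u).image some))
    refine Finset.card_le_card_of_injOn g ?_ ?_
    · intro v hv
      rw [Finset.coe_insert, Set.mem_insert_iff]
      by_cases hvu : v = u
      · subst hvu
        left
        exact dif_neg fun h => h.2 (by rw [inv_mul_cancel]; exact one_mem C)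
      · obtain ⟨h, hg, hR⟩ := hgood v (Finset.mem_filter.mp hv).2 hvu
        right
        rw [hg]
        exact Finset.mem_coe.mpr (Finset.mem_image_of_mem _ (Finset.mem_filter.mpr ⟨Finset.mem_univ _, hR⟩))
    · intro v hv w hw hvw
      by_cases hvu : v = u <;> by_cases hwu : w = u
      · rw [hvu, hwu]
      · exfalso
        obtain ⟨h, hg, -⟩ := hgood w (Finset.mem_filter.mp hw).2 hwu
        rw [hvu, hg] at hvw
        have : g u = none := dif_neg fun h => h.2 (by rw [inv_mul_cancel]; exact one_mem C)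
        rw [this] at hvw
        exact Option.some_ne_none _ hvw.symm
      · exfalso
        obtain ⟨h, hg, -⟩ := hgood v (Finset.mem_filter.mp hv).2 hvu
        rw [hwu, hg] at hvw
        have : g u = none := dif_neg fun h => h.2 (by rw [inv_mul_cancel]; exact one_mem C)
        rw [this] at hvw
        exact Option.some_ne_none _ hvw
      · obtain ⟨h, hg, -⟩ := hgood v (Finset.mem_filter.mp hv).2 hvu
        obtain ⟨h', hg', -⟩ := hgood w (Finset.mem_filter.mp hw).2 hwu
        rw [hg, hg'] at hvw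
        exact Subtype.ext (mul_left_cancel (congrArg Subtype.val (Option.some.inj hvw)))
  have hexact : ∀ u : U, (inv u).card = 2 := by
    let Q : Finset (G ⧸ H) := Finset.univ.erase ((1 : G) : G ⧸ H)
    have hQ : ∀ u : U, q u ∈ Q := fun u => Finset.mem_erase.mpr
      ⟨fun e => u.2.2 (by simpa using H.inv_mem (QuotientGroup.eq.mp e)), Finset.mem_univ _⟩
    have hQc : Q.card + 1 = n := by
      rw [Finset.card_erase_add_one (Finset.mem_univ _), Finset.card_univ, ← Nat.card_eq_fintype_card]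
      rfl
    have hle : ∀ c ∈ Q, (Finset.univ.filter fun v => q v = c).card ≤ 3 := by
      intro c _
      rcases (Finset.univ.filter fun v => q v = c).eq_empty_or_nonempty with h | ⟨u, hu⟩
      · rw [h]; simp
      · rw [← (Finset.mem_filter.mp hu).2]
        exact (hfib u).trans (Nat.add_le_add_right (hinvle u) 1)
    have hsum : Fintype.card U = ∑ c ∈ Q, (Finset.univ.filter fun v => q v = c).card :=
      (Finset.card_eq_sum_card_fiberwise (fun v _ => hQ v))
    intro u
    refine le_antisymm (hinvle u) ?_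
    by_contra hlt
    push Not at hlt
    have h1 : (Finset.univ.filter fun v => q v = q u).card < 3 := by
      have := hfib u; omega
    have h2 : ∑ c ∈ Q, (Finset.univ.filter fun v => q v = c).card < ∑ _c ∈ Q, 3 :=
      Finset.sum_lt_sum hle ⟨q u, hQ u, h1⟩
    rw [← hsum, Finset.sum_const, smul_eq_mul, ← Nat.card_eq_fintype_card] at h2
    omega
  -- inverters of an element of order three
  have hCa : ∀ a : A, Odd (Nat.card (Subgroup.centralizer ({a.1} : Set G))) := by
    intro a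
    rw [← Nat.not_even_iff_odd]
    intro he
    obtain ⟨w, hw, hw2⟩ := CfsgLib.Small.exists_invol_mem he
    have h1 := (hcent w hw2).2 a.1 (Subgroup.mem_centralizer_singleton_iff.mpr
      (Subgroup.mem_centralizer_singleton_iff.mp hw).symm)
    have h2 := Nat.le_of_dvd two_pos (orderOf_dvd_of_pow_eq_one h1)
    rw [hord3 a.1 a.2.1 a.2.2] at h2
    omega
  have hAinv : ∀ (a : A) (u₀ : U), R u₀ a →
      (Finset.univ.filter fun u => R u a).card = Nat.card (Subgroup.centralizer ({a.1} : Set G)) := by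
    intro a u₀ h0
    rw [← CfsgLib.Small.card_inverting_eq h0, ← Fintype.card_coe, ← Nat.card_eq_fintype_card]
    have hinverts : ∀ g : G, g * a.1 * g⁻¹ = a.1⁻¹ → orderOf g = 2 ∧ g ∉ H := by
      intro g hg
      let D := Subgroup.centralizer ({a.1} : Set G)
      have hu : orderOf u₀.1 = 2 := u₀.2.1
      have hu2 := CfsgLib.Small.mul_self_of_orderOf_two hu
      have hui := CfsgLib.Small.inv_eq_self_of_orderOf_two hu
      have hconj : ∀ k ∈ D, u₀.1 * k * u₀.1⁻¹ ∈ D := by
        intro k hk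
        rw [Subgroup.mem_centralizer_singleton_iff] at hk ⊢
        have h0' : u₀.1⁻¹ * a.1 * u₀.1 = a.1⁻¹ := by
          have := h0
          simp only [R, hui] at this
          rwa [hui]
        calc u₀.1 * k * u₀.1⁻¹ * a.1 = u₀.1 * (k * (u₀.1⁻¹ * a.1 * u₀.1)) * u₀.1⁻¹ := by group
          _ = u₀.1 * ((u₀.1⁻¹ * a.1 * u₀.1) * k) * u₀.1⁻¹ := by
              rw [h0']; exact congrArg (fun t => u₀.1 * t * u₀.1⁻¹) (Commute.inv_right (hk : Commute k a.1)).eq
          _ = a.1 * (u₀.1 * k * u₀.1⁻¹) := by group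
      let φ : D →* D := MonoidHom.mk' (fun k => ⟨u₀.1 * k * u₀.1⁻¹, hconj k k.2⟩)
        (fun k l => Subtype.ext (by simp [mul_assoc]))
      have hφ : MonoidHom.FixedPointFree φ := by
        intro k hk
        have h1 : u₀.1 * (k : G) * u₀.1⁻¹ = k := congrArg Subtype.val hk
        have h2 := (hcent _ hu).2 k (Subgroup.mem_centralizer_singleton_iff.mpr
          (mul_inv_eq_iff_eq_mul.mp h1).symm)
        refine orderOf_eq_one_iff.mp ?_
        rw [← Subgroup.orderOf_coe]
        exact Nat.eq_one_of_dvd_coprimes (Nat.coprime_two_right.mpr (hCa a))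
          (D.orderOf_dvd_natCard k.2) (orderOf_dvd_of_pow_eq_one h2)
      have hk : u₀.1⁻¹ * g ∈ D := by
        rw [Subgroup.mem_centralizer_singleton_iff]
        calc u₀.1⁻¹ * g * a.1 = u₀.1⁻¹ * (g * a.1 * g⁻¹) * g := by group
          _ = u₀.1⁻¹ * (u₀.1 * a.1 * u₀.1⁻¹) * g := by rw [hg]; exact congrArg (fun t => u₀.1⁻¹ * t * g) h0.symm
          _ = a.1 * (u₀.1⁻¹ * g) := by group
      have h3 : u₀.1 * (u₀.1⁻¹ * g) * u₀.1⁻¹ = (u₀.1⁻¹ * g)⁻¹ :=
        congrArg Subtype.val (congrFun (hφ.coe_eq_inv_of_involutive (fun k => Subtype.ext (by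
          show u₀.1 * (u₀.1 * (k : G) * u₀.1⁻¹) * u₀.1⁻¹ = k
          rw [hui]; simp [mul_assoc, hu2, ← mul_assoc u₀.1 u₀.1]))) ⟨_, hk⟩)
      have hg2 : g * g = 1 := by
        calc g * g = (u₀.1 * (u₀.1⁻¹ * g) * u₀.1⁻¹) * (u₀.1 * u₀.1) * (u₀.1⁻¹ * g) := by group
          _ = 1 := by rw [h3, hu2]; group
      have hg1 : g ≠ 1 := by
        rintro rfl
        simp only [one_mul, inv_one, mul_one] at hg
        have h4 : a.1 ^ 2 = 1 := by rw [sq]; exact mul_eq_one_iff_eq_inv.mpr hg
        have h5 := Nat.le_of_dvd two_pos (orderOf_dvd_of_pow_eq_one h4)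
        rw [hord3 a.1 a.2.1 a.2.2] at h5
        omega
      have hord := orderOf_eq_prime (p := 2) (by rw [sq]; exact hg2) hg1
      refine ⟨hord, fun hgH => ?_⟩
      have hgC := hinvH g hgH hord
      have h6 : (g * a.1 * g⁻¹) * a.1⁻¹ ∈ C := by
        rw [show g * a.1 * g⁻¹ * a.1⁻¹ = g * (a.1 * g⁻¹ * a.1⁻¹) by group]
        exact mul_mem hgC (hHC _ a.2.1 _ (inv_mem hgC))
      rw [hg, ← mul_inv_rev, ← sq, inv_mem_iff] at h6
      apply a.2.2
      have h7 := C.mul_mem (hcube _ a.2.1) (C.inv_mem h6)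
      rwa [show a.1 ^ 3 * (a.1 ^ 2)⁻¹ = a.1 by group] at h7
    exact Nat.card_congr ⟨fun u => ⟨u.1.1, (Finset.mem_filter.mp u.2).2⟩,
      fun g => ⟨⟨g.1, hinverts g.1 g.2⟩, Finset.mem_filter.mpr ⟨Finset.mem_univ _, g.2⟩⟩,
      fun u => rfl, fun g => rfl⟩
  have htrans : ∀ a b : A, ∃ w : G, (b.1 = w * a.1 * w⁻¹ ∨ b.1 = w * a.1⁻¹ * w⁻¹) ∧ w ∈ C := by
    intro a b
    have hrow : ∀ a' : A, a'.1⁻¹ * b.1 ∈ C → ∃ w ∈ C, b.1 = w * a'.1 * w⁻¹ := by
      intro a' hab
      let f : C → C := fun w => ⟨a'.1⁻¹ * w * a'.1 * (w : G)⁻¹, by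
        refine mul_mem ?_ (inv_mem w.2)
        simpa using hHC _ (inv_mem a'.2.1) _ w.2⟩
      have hf : Function.Injective f := by
        intro v w h
        have h1 : a'.1⁻¹ * v * a'.1 * (v : G)⁻¹ = a'.1⁻¹ * w * a'.1 * (w : G)⁻¹ := congrArg Subtype.val h
        by_contra hne1
        have h2 : (w : G)⁻¹ * v ≠ 1 := fun e => hne1 (Subtype.ext (inv_mul_eq_one.mp e).symm)
        apply a'.2.2
        refine (hCw _ (mul_mem (inv_mem w.2) v.2) h2).le (Subgroup.mem_centralizer_singleton_iff.mpr ?_)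
        have h3 : (v : G) * a'.1 * (v : G)⁻¹ = w * a'.1 * (w : G)⁻¹ := by
          simpa [mul_assoc] using h1
        calc a'.1 * ((w : G)⁻¹ * v) = (w : G)⁻¹ * (w * a'.1 * (w : G)⁻¹) * v := by group
          _ = (w : G)⁻¹ * (v * a'.1 * (v : G)⁻¹) * v := by rw [h3]
          _ = (w : G)⁻¹ * v * a'.1 := by group
      obtain ⟨w, hw⟩ := (Finite.injective_iff_surjective.mp hf) ⟨_, hab⟩
      refine ⟨w, w.2, ?_⟩
      have h1 : a'.1⁻¹ * w * a'.1 * (w : G)⁻¹ = a'.1⁻¹ * b.1 := congrArg Subtype.val hw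
      rw [mul_assoc, mul_assoc, mul_left_cancel_iff, ← mul_assoc] at h1
      exact h1.symm
    rcases hquot a.1 a.2.1 b.1 b.2.1 a.2.2 b.2.2 with h | h
    · obtain ⟨w, hw, he⟩ := hrow a h
      exact ⟨w, Or.inl he, hw⟩
    · obtain ⟨w, hw, he⟩ := hrow ⟨a.1⁻¹, inv_mem a.2.1, fun h' => a.2.2 (by simpa using C.inv_mem h')⟩
        (by simpa using h)
      exact ⟨w, Or.inr he, hw⟩
  -- every element of order three in `H` is inverted
  have hUne : Nonempty U := by
    by_contra hemp
    rw [not_nonempty_iff] at hemp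
    have h1 : Nat.card U = 0 := Nat.card_of_isEmpty
    have hn1 : n = 1 := by omega
    have hCnormal : C.Normal :=
      Subgroup.normalizer_eq_top_iff.mp (Subgroup.index_eq_one.mp hn1)
    exact (hne C hCnormal ⟨⟨⟨fun a b => Subtype.ext (hCcomm a a.2 b b.2)⟩⟩, hCe⟩).2 hC4
  obtain ⟨u₁⟩ := hUne
  obtain ⟨a₁, ha₁⟩ := Finset.card_pos.mp (by rw [hexact u₁]; norm_num : 0 < (inv u₁).card)
  set c := Nat.card (Subgroup.centralizer ({a₁.1} : Set G)) with hc
  have hcnt : ∀ a : A, (Finset.univ.filter fun u => R u a).card = c := by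
    intro a
    obtain ⟨w, hw', hwC⟩ := htrans a₁ a
    have h1 : u₁.1 * a₁.1 * u₁.1⁻¹ = a₁.1⁻¹ := (Finset.mem_filter.mp ha₁).2
    have h1' : u₁.1 * a₁.1⁻¹ * u₁.1⁻¹ = a₁.1 := by
      rw [← inv_inj]
      calc (u₁.1 * a₁.1⁻¹ * u₁.1⁻¹)⁻¹ = u₁.1 * a₁.1 * u₁.1⁻¹ := by group
        _ = a₁.1⁻¹ := h1
    have hR : R ⟨w * u₁.1 * w⁻¹, (CfsgLib.Small.orderOf_conj_eq w u₁.1).trans u₁.2.1, fun h =>
        u₁.2.2 (by
          have h2 := mul_mem (mul_mem (H.inv_mem (hCH hwC)) h) (hCH hwC)
          rwa [show w⁻¹ * (w * u₁.1 * w⁻¹) * w = u₁.1 by group] at h2)⟩ a := by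
      show w * u₁.1 * w⁻¹ * a.1 * (w * u₁.1 * w⁻¹)⁻¹ = a.1⁻¹
      rcases hw' with e | e <;> rw [e]
      · calc _ = w * (u₁.1 * a₁.1 * u₁.1⁻¹) * w⁻¹ := by group
          _ = _ := by rw [h1]; group
      · calc _ = w * (u₁.1 * a₁.1⁻¹ * u₁.1⁻¹) * w⁻¹ := by group
          _ = _ := by rw [h1']; group
    rw [hAinv a _ hR, hc]
    rcases hw' with e | e
    · exact (congrArg (fun t => Nat.card (Subgroup.centralizer ({t} : Set G))) e).trans
        (centralizer_conj_card a₁.1 w)
    · refine (congrArg (fun t => Nat.card (Subgroup.centralizer ({t} : Set G))) e).trans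
        ((centralizer_conj_card _ w).trans ?_)
      refine Nat.card_congr (Equiv.subtypeEquivRight fun g => ?_)
      rw [Subgroup.mem_centralizer_singleton_iff, Subgroup.mem_centralizer_singleton_iff]
      exact Commute.inv_right_iff
  have hA8 : Nat.card A = 8 := by
    have h1 := Nat.card_congr (Equiv.sumCompl (fun h : H => (h : G) ∈ C))
    rw [Nat.card_sum, hH12] at h1
    have h2 : Nat.card {h : H // (h : G) ∈ C} = 4 := by
      rw [← hC4]
      exact Nat.card_congr ⟨fun h => ⟨h.1.1, h.2⟩, fun c => ⟨⟨c.1, hCH c.2⟩, c.2⟩, fun h => rfl, fun c => rfl⟩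
    have h3 : Nat.card {h : H // ¬ (h : G) ∈ C} = Nat.card A :=
      Nat.card_congr ⟨fun h => ⟨h.1.1, h.1.2, h.2⟩, fun a => ⟨⟨a.1, a.2.1⟩, a.2.2⟩, fun h => rfl, fun a => rfl⟩
    omega
  have hdouble : 2 * Nat.card U = 8 * c := by
    have := Finset.sum_card_bipartiteAbove_eq_sum_card_bipartiteBelow R
      (s := (Finset.univ : Finset U)) (t := (Finset.univ : Finset A))
    simp only [Finset.bipartiteAbove, Finset.bipartiteBelow] at this
    rw [Finset.sum_congr rfl (fun u _ => hexact u), Finset.sum_congr rfl (fun a _ => hcnt a),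
      Finset.sum_const, Finset.sum_const, Finset.card_univ, Finset.card_univ,
      ← Nat.card_eq_fintype_card, ← Nat.card_eq_fintype_card, hA8, smul_eq_mul, smul_eq_mul] at this
    omega
  have hcdvd : c ∣ 12 := by
    have h1 : c ∣ Nat.card G := Subgroup.card_subgroup_dvd_card _
    rw [hG, show 12 * n = 12 + c * 16 by omega] at h1
    exact (Nat.dvd_add_left (dvd_mul_right c 16)).mp h1
  have hcodd : Odd c := hCa a₁
  have hc3 : 3 ∣ c := by
    rw [← hord3 a₁.1 a₁.2.1 a₁.2.2]
    exact Subgroup.orderOf_dvd_natCard _ (Subgroup.mem_centralizer_singleton_iff.mpr rfl)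
  have hn5 : n = 5 := by
    have := Nat.le_of_dvd (by norm_num) hcdvd
    obtain ⟨k, hk⟩ := hcodd
    interval_cases c <;> omega
  -- the action on the five cosets of `H`
  let φ := MulAction.toPermHom G (G ⧸ H)
  have hinj : Function.Injective φ := by
    rw [← MonoidHom.ker_eq_bot_iff, ← Subgroup.normalCore_eq_ker]
    by_contra hne1
    set N := H.normalCore
    have hNH : N ≤ H := Subgroup.normalCore_le H
    have : Nontrivial N := N.bot_or_nontrivial.resolve_left hne1
    obtain ⟨m, hm⟩ := exists_ne (1 : N)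
    have hm1 : (m : G) ≠ 1 := fun h => hm (Subtype.ext h)
    obtain ⟨v, hvN, hvC, hv1⟩ : ∃ v : G, v ∈ N ∧ v ∈ C ∧ v ≠ 1 := by
      by_cases hmC : (m : G) ∈ C
      · exact ⟨m, m.2, hmC, hm1⟩
      · have hx1 := CfsgLib.Small.ne_one_of_orderOf_two hx
        refine ⟨m * x * (m : G)⁻¹ * x⁻¹, ?_, mul_mem (hHC _ (hNH m.2) x hxC) (inv_mem hxC), ?_⟩
        · rw [show (m : G) * x * (m : G)⁻¹ * x⁻¹ = m * (x * (m : G)⁻¹ * x⁻¹) by group]
          exact mul_mem m.2 (H.normalCore_normal.conj_mem _ (inv_mem m.2) x)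
        · intro he
          rw [mul_inv_eq_one, mul_inv_eq_iff_eq_mul] at he
          exact hmC (Subgroup.mem_centralizer_singleton_iff.mpr he)
    apply u₁.2.2
    obtain ⟨g, hg⟩ := isConj_iff.mp ((hall v (hinvol v hvC hv1)).symm.trans (hall u₁.1 u₁.2.1))
    rw [← hg]
    exact hNH (H.normalCore_normal.conj_mem v hvN g)
  have hrange : φ.range.index = 2 := by
    have h1 := Subgroup.index_mul_card φ.range
    rw [← Nat.card_congr (MonoidHom.ofInjective hinj).toEquiv, hG, hn5, Nat.card_perm,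
      show Nat.card (G ⧸ H) = 5 from hn5] at h1
    norm_num [Nat.factorial] at h1
    omega
  let e : G ⧸ H ≃ Fin 5 := Finite.equivFinOfCardEq hn5
  exact ⟨(MonoidHom.ofInjective hinj).trans <| (MulEquiv.subgroupCongr
    (Equiv.Perm.eq_alternatingGroup_of_index_eq_two hrange)).trans e.altCongrHom⟩

end Cfsg.Agent.S3277
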