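import Cfsg.Statements.S3283
import Cfsg.Agent.ExtraNine.Main

set_option autoImplicit false
open Cfsg

namespace Cfsg.Agent.S3283

/-- Let G be a finite group with an involution z whose centralizer M has Q = O₂(M) extraspecial of order 2⁹ with C_M(Q) ≤ Q, and M/Q isomorphic to S₃ × A₆ or to S₃ × S₆. Then G is not simple. -/
theorem result {G : Type*} [Group G] [Finite G] (z : G) (hz : orderOf z = 2)
    (hQ : Cfsg.IsExtraspecial 2 ↥(Cfsg.pCore 2 ↥(Subgroup.centralizer ({z} : Set G)))) (hQ9 : Nat.card ↥(Cfsg.pCore 2 ↥(Subgroup.centralizer ({z} : Set G))) = 2 ^ 9)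
    (hCQ : Subgroup.centralizer ((Cfsg.pCore 2 ↥(Subgroup.centralizer ({z} : Set G))) : Set ↥(Subgroup.centralizer ({z} : Set G))) ≤ Cfsg.pCore 2 ↥(Subgroup.centralizer ({z} : Set G)))
    (hMQ : Nonempty (↥(Subgroup.centralizer ({z} : Set G)) ⧸ Cfsg.pCore 2 ↥(Subgroup.centralizer ({z} : Set G)) ≃* (Equiv.Perm (Fin 3) × ↥(alternatingGroup (Fin 6)))) ∨
      Nonempty (↥(Subgroup.centralizer ({z} : Set G)) ⧸ Cfsg.pCore 2 ↥(Subgroup.centralizer ({z} : Set G)) ≃* (Equiv.Perm (Fin 3) × Equiv.Perm (Fin 6)))) :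
    ¬ IsSimpleGroup G := by
  intro hsimple
  have hG : ¬ IsMulCommutative G := by
    intro hab
    have hzn : (Subgroup.zpowers z).Normal :=
      ⟨fun x hx g => by rwa [hab.is_comm.comm g x, mul_inv_cancel_right]⟩
    rcases hzn.eq_bot_or_eq_top with h | h
    · rw [Subgroup.zpowers_eq_bot] at h
      rw [h, orderOf_one] at hz
      omega
    · have h1 : Nat.card G = 2 := by
        rw [← hz, ← Nat.card_zpowers, h, Subgroup.card_top]
      have h2 := Subgroup.card_le_card_group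
        ((Cfsg.pCore 2 ↥(Subgroup.centralizer ({z} : Set G))).map
          (Subgroup.centralizer ({z} : Set G)).subtype)
      rw [Subgroup.card_map_of_injective (Subgroup.subtype_injective _), hQ9, h1] at h2
      norm_num at h2
  have hres := CfsgLib.ExtraNine.pResidual_top_of_simple hG
  rcases hMQ with ⟨⟨φ⟩⟩ | ⟨⟨φ⟩⟩
  · obtain ⟨π, hπ, hker⟩ := CfsgLib.ExtraNine.exists_hom_of_equiv φ
    exact CfsgLib.ExtraNine.false_of_embedding hres hz hQ hQ9 hCQ π hπ hker
      (MonoidHom.prodMap (MonoidHom.id _) (alternatingGroup (Fin 6)).subtype)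
      (Prod.map_injective.mpr ⟨Function.injective_id, Subgroup.subtype_injective _⟩)
      ⟨(CfsgLib.ExtraNine.cyc, 1), rfl⟩ (fun a => ⟨(1, a), rfl⟩)
      ⟨(Equiv.swap 0 1, 1), Equiv.Perm.sign_swap (by decide)⟩
  · obtain ⟨π, hπ, hker⟩ := CfsgLib.ExtraNine.exists_hom_of_equiv φ
    exact CfsgLib.ExtraNine.false_of_embedding hres hz hQ hQ9 hCQ π hπ hker
      (MonoidHom.id _) Function.injective_id
      ⟨(CfsgLib.ExtraNine.cyc, 1), rfl⟩ (fun a => ⟨(1, a), rfl⟩)
      ⟨(Equiv.swap 0 1, 1), Equiv.Perm.sign_swap (by decide)⟩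

end Cfsg.Agent.S3283
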