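import Cfsg.Statements.S3284
import Cfsg.Agent.ExtraNine.Main

set_option autoImplicit false
open Cfsg

namespace Cfsg.Agent.S3284

/-- There is no non-abelian finite simple group with an involution z whose centralizer M has generalized Fitting subgroup Q = F*(M) extraspecial of order 2⁹ and M/Q isomorphic to the subgroup of S₃ × S₆ consisting of the pairs of permutations with equal sign (a group (3 × A₆)·2 in which an involution outside 3 × A₆ induces S₃ on the first factor and S₆ on the second). -/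
theorem result {G : Type*} [Group G] [Finite G] [IsSimpleGroup G] (hG : ¬ IsMulCommutative G) (z : G) (hz : orderOf z = 2)
    [hn : (Cfsg.generalizedFittingSubgroup ↥(Subgroup.centralizer ({z} : Set G))).Normal]
    (hQ : Cfsg.IsExtraspecial 2 ↥(Cfsg.generalizedFittingSubgroup ↥(Subgroup.centralizer ({z} : Set G)))) (hQ9 : Nat.card ↥(Cfsg.generalizedFittingSubgroup ↥(Subgroup.centralizer ({z} : Set G))) = 2 ^ 9)
    (e : (↥(Subgroup.centralizer ({z} : Set G)) ⧸ Cfsg.generalizedFittingSubgroup ↥(Subgroup.centralizer ({z} : Set G))) ≃*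
      ↥(MonoidHom.ker (Equiv.Perm.sign.comp (MonoidHom.fst (Equiv.Perm (Fin 3)) (Equiv.Perm (Fin 6))) *
          Equiv.Perm.sign.comp (MonoidHom.snd (Equiv.Perm (Fin 3)) (Equiv.Perm (Fin 6)))))) :
    False := by
  have := Fact.mk Nat.prime_two
  have heq : Cfsg.generalizedFittingSubgroup ↥(Subgroup.centralizer ({z} : Set G)) =
      Cfsg.pCore 2 ↥(Subgroup.centralizer ({z} : Set G)) :=
    le_antisymm (CfsgLib.Components.le_pCore hQ.1.1)
      ((CfsgLib.Components.pCore_le_fittingSubgroup 2).trans le_sup_right)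
  obtain ⟨π, hπ, hker⟩ := CfsgLib.ExtraNine.exists_hom_of_equiv e
  refine CfsgLib.ExtraNine.false_of_embedding (CfsgLib.ExtraNine.pResidual_top_of_simple hG) hz
    (CfsgLib.LargeExtraspecial.isExtraspecial_of_mulEquiv (MulEquiv.subgroupCongr heq) hQ)
    (by rw [← heq]; exact hQ9) ?_ π hπ (hker.trans heq) (Subgroup.subtype _)
    (Subgroup.subtype_injective _) ⟨⟨(CfsgLib.ExtraNine.cyc, 1), ?_⟩, rfl⟩
    (fun a => ⟨⟨(1, (a : Equiv.Perm (Fin 6))), ?_⟩, rfl⟩)
    ⟨⟨(Equiv.swap 0 1, Equiv.swap 0 1), ?_⟩, Equiv.Perm.sign_swap (by decide)⟩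
  · rw [← heq]
    exact CfsgLib.Components.centralizer_generalizedFitting_le_self
  · simp [MonoidHom.mem_ker, CfsgLib.ExtraNine.cyc]
  · simp [MonoidHom.mem_ker, Equiv.Perm.mem_alternatingGroup.mp a.2]
  · simp [MonoidHom.mem_ker]

end Cfsg.Agent.S3284
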