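import Cfsg.Statements.S3287
import Cfsg.Agent.GW.Classification
import Cfsg.Agent.GW.PSLOvergroup
import Cfsg.Agent.Components.FStar
import Cfsg.Agent.S0255
import Cfsg.Agent.S0494

set_option autoImplicit false
open Cfsg

namespace Cfsg.Agent.S3287

/-- Let G be a finite simple group whose Sylow 2-subgroups are dihedral, and suppose the centralizer of some involution of G is properly contained in a subgroup whose generalized Fitting subgroup equals its Fitting subgroup (a subgroup without components). Then G is isomorphic to the alternating group of degree 5 or 7, to PSL(3, 2), or to PSL(2, 9). -/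
theorem result {G : Type*} [Group G] [Finite G] [IsSimpleGroup G] (S : Sylow 2 G) (m : ℕ) (eS : ↥(S : Subgroup G) ≃* DihedralGroup m)
    (t : G) (ht : orderOf t = 2) (K : Subgroup G) (hlt : Subgroup.centralizer ({t} : Set G) < K)
    (hK : Cfsg.generalizedFittingSubgroup ↥K = Cfsg.fittingSubgroup ↥K) :
    Nonempty (G ≃* ↥(alternatingGroup (Fin 5))) ∨ Nonempty (G ≃* ↥(alternatingGroup (Fin 7))) ∨
      (∃ (F : Type) (_ : Field F) (_ : Fintype F), Fintype.card F = 2 ∧ Nonempty (G ≃* Matrix.ProjectiveSpecialLinearGroup (Fin 3) F)) ∨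
      (∃ (F : Type) (_ : Field F) (_ : Fintype F), Fintype.card F = 9 ∧ Nonempty (G ≃* Matrix.ProjectiveSpecialLinearGroup (Fin 2) F)) := by
  haveI : Fact (Nat.Prime 2) := ⟨Nat.prime_two⟩
  -- `G` is not commutative
  have hC : Subgroup.centralizer ({t} : Set G) ≠ ⊤ := fun h => (h ▸ hlt).not_ge le_top
  have hnab : ∀ a : G, (∀ x : G, x * a = a * x) → a = 1 := by
    intro a ha
    rcases IsSimpleGroup.eq_bot_or_eq_top_of_normal (Subgroup.center G) inferInstance with h | h
    · exact Subgroup.mem_bot.1 (h ▸ Subgroup.mem_center_iff.2 ha)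
    · refine absurd (eq_top_iff.2 fun x _ => Subgroup.mem_centralizer_singleton_iff.2 ?_) hC
      exact Subgroup.mem_center_iff.1 (h ▸ Subgroup.mem_top t) x
  have hKtop : K ≠ ⊤ := by
    rintro rfl
    have hF : Cfsg.fittingSubgroup ↥(⊤ : Subgroup G) = ⊥ := by
      let e : ↥(⊤ : Subgroup G) ≃* G := Subgroup.topEquiv
      haveI : IsSimpleGroup ↥(⊤ : Subgroup G) :=
        haveI : Nontrivial ↥(⊤ : Subgroup G) := e.toEquiv.nontrivial
        IsSimpleGroup.isSimpleGroup_of_surjective e.symm.toMonoidHom e.symm.surjective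
      rcases IsSimpleGroup.eq_bot_or_eq_top_of_normal (Cfsg.fittingSubgroup ↥(⊤ : Subgroup G))
        inferInstance with h | h
      · exact h
      exfalso
      haveI : Group.IsNilpotent ↥(⊤ : Subgroup G) := by
        have hn := CfsgLib.Solvable.fittingSubgroup_isNilpotent (G := ↥(⊤ : Subgroup G))
        rw [h] at hn
        exact Group.isNilpotent_congr Subgroup.topEquiv |>.1 hn
      haveI : Nontrivial ↥(⊤ : Subgroup G) := e.toEquiv.nontrivial
      obtain ⟨a, ha, ha1⟩ := ((Subgroup.center ↥(⊤ : Subgroup G)).bot_or_exists_ne_one).resolve_left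
        (Group.IsNilpotent.center_ne_bot _)
      exact ha1 (Subtype.ext (hnab a.1 fun x => congrArg Subtype.val
        (Subgroup.mem_center_iff.1 ha ⟨x, trivial⟩)))
    have h := CfsgLib.Components.centralizer_generalizedFitting_le_self (G := ↥(⊤ : Subgroup G))
    rw [hK, hF] at h
    have ht1 := h (show (⟨t, trivial⟩ : ↥(⊤ : Subgroup G)) ∈ Subgroup.centralizer
      ((⊥ : Subgroup ↥(⊤ : Subgroup G)) : Set ↥(⊤ : Subgroup G)) from
        Subgroup.mem_centralizer_iff.2 fun x hx => by rw [Subgroup.mem_bot.1 hx]; simp)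
    rw [Subgroup.mem_bot] at ht1
    exact CfsgLib.Small.ne_one_of_orderOf_two ht (congrArg Subtype.val ht1)
  have hm : 2 ≤ m := by
    rcases m with _ | _ | m
    · exfalso
      haveI : Finite (DihedralGroup 0) := Finite.of_equiv _ eS.toEquiv
      haveI : Finite (ZMod 0) := Finite.of_injective (DihedralGroup.r (n := 0)) fun a b h =>
        DihedralGroup.r.inj h
      exact (Infinite.not_finite (α := ℤ)) (inferInstanceAs (Finite (ZMod 0)))
    · exfalso
      have hcyc : IsCyclic (S : Subgroup G) := isCyclic_of_prime_card (p := 2) (by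
        rw [Nat.card_congr eS.toEquiv, DihedralGroup.nat_card])
      have hO : Cfsg.oddCore G = ⊥ := by
        rcases IsSimpleGroup.eq_bot_or_eq_top_of_normal (Cfsg.oddCore G) inferInstance with h | h
        · exact h
        · exfalso
          have h2 := CfsgLib.ExtremelyClosed.odd_card_oddCore' G
          rw [h, Subgroup.card_top] at h2
          have h3 : orderOf t ∣ Nat.card G := orderOf_dvd_natCard t
          rw [ht] at h3
          exact Nat.not_even_iff_odd.2 h2 (even_iff_two_dvd.2 h3)
      haveI := (CfsgLib.GW.isPGroup_of_cyclic_sylow S hcyc hO).isNilpotent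
      obtain ⟨a, ha, ha1⟩ := ((Subgroup.center G).bot_or_exists_ne_one).resolve_left
        (Group.IsNilpotent.center_ne_bot _)
      exact ha1 (hnab a (Subgroup.mem_center_iff.1 ha))
    · omega
  rcases CfsgLib.GW.simple_dihedral S m hm ⟨eS⟩ with ⟨F, iF, fF, hodd, hlarge, ⟨e⟩⟩ | h7
  swap
  · exact Or.inr (Or.inl h7)
  have hte : orderOf (e t) = 2 := by rw [MulEquiv.orderOf_eq, ht]
  have hlt' : Subgroup.centralizer ({e t} : Set _) < K.map e.toMonoidHom := by
    refine lt_of_le_of_ne (fun x hx => ⟨e.symm x, hlt.le ?_, e.apply_symm_apply x⟩) fun h => ?_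
    · refine Subgroup.mem_centralizer_singleton_iff.2 (e.injective ?_)
      rw [map_mul, map_mul, e.apply_symm_apply]
      exact Subgroup.mem_centralizer_singleton_iff.1 hx
    · obtain ⟨k, hk, hkC⟩ := SetLike.exists_of_lt hlt
      refine hkC (Subgroup.mem_centralizer_singleton_iff.2 (e.injective ?_))
      rw [map_mul, map_mul]
      exact Subgroup.mem_centralizer_singleton_iff.1 (h ▸ Subgroup.mem_map_of_mem _ hk :
        e k ∈ Subgroup.centralizer ({e t} : Set _))
  have hK' : K.map e.toMonoidHom ≠ ⊤ := fun h => hKtop (by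
    apply Subgroup.map_injective (f := e.toMonoidHom) e.injective
    rw [h, Subgroup.map_top_of_surjective _ e.surjective])
  rcases CfsgLib.GW.psl_card_of_overgroup hodd hlarge hte hlt' hK' with h5 | h7 | h9
  · left
    refine Cfsg.Agent.S0494.result ?_
    have h := CfsgLib.Linear.card_PSL_two_odd (F := F) hodd
    rw [h5] at h
    rw [Nat.card_congr e.toEquiv]
    omega
  · right; right; left
    obtain ⟨e'⟩ := Cfsg.Agent.S0255.result (K := ZMod 2) h7 (by simp)
    exact ⟨ZMod 2, inferInstance, inferInstance, by simp, ⟨e.trans e'⟩⟩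
  · exact Or.inr (Or.inr (Or.inr ⟨F, iF, fF, h9, ⟨e⟩⟩))

end Cfsg.Agent.S3287
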