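import Cfsg.Statements.S3294
import Cfsg.Agent.Inv54.Core
import Mathlib.GroupTheory.SpecificGroups.Quaternion

set_option autoImplicit false
open Cfsg

namespace Cfsg.Agent.S3294

open QuaternionGroup in
/-- A normal subgroup of a quaternion group of order at least 32 is inside the cyclic subgroup or
contains `a 2`. -/
theorem normal_subgroup_cases {m : ℕ} (R : Subgroup (QuaternionGroup m)) [R.Normal] :
    R ≤ Subgroup.zpowers (a 1) ∨ a 2 ∈ R := by
  by_cases h : ∃ i, xa i ∈ R
  · right
    obtain ⟨i, hi⟩ := h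
    have h1 : a 1 * xa i * (a 1)⁻¹ ∈ R := (inferInstance : R.Normal).conj_mem _ hi _
    have h2 := R.mul_mem (R.inv_mem h1) hi
    have h3 : (a 1 * xa i * (a 1)⁻¹)⁻¹ * xa i = (a 2 : QuaternionGroup m) := by
      have hinv : (a 1 : QuaternionGroup m)⁻¹ = a (-1) := rfl
      rw [hinv, a_mul_xa, xa_mul_a, inv_mul_eq_iff_eq_mul, xa_mul_a]
      congr 1
      ring
    rwa [h3] at h2
  · left
    intro x hx
    rcases x with i | i
    · obtain ⟨k, rfl⟩ := ZMod.intCast_surjective i
      refine ⟨k, ?_⟩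
      rcases k with k | k
      · simp
      · show a 1 ^ (Int.negSucc k) = _
        rw [zpow_negSucc, a_one_pow]
        show a (-((k + 1 : ℕ) : ZMod (2 * m))) = _
        simp
    · exact absurd ⟨i, hx⟩ h


/-- A finite solvable group whose Sylow 2-subgroups are generalized quaternion of order at least 32 has a normal 2-complement. -/
theorem result {G : Type*} [Group G] [Finite G] (hsol : Group.IsSolvable G) (T : Sylow 2 G) (n : ℕ) (hn : 3 ≤ n) (hT : Nonempty ((T : Subgroup G) ≃* QuaternionGroup (2 ^ n))) : Cfsg.HasNormalPComplement 2 G := by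
  have := CfsgLib.Inv54.fact_two
  refine CfsgLib.Inv54.hasNormalPComplement_of_isPGroup_quotient ?_
  set Q := G ⧸ Cfsg.oddCore G
  set π := QuotientGroup.mk' (Cfsg.oddCore G)
  let P : Sylow 2 Q := T.mapSurjective (QuotientGroup.mk'_surjective _)
  obtain ⟨e⟩ := hT
  have hinj : Function.Injective (π.subgroupMap (T : Subgroup G)) := by
    rw [← MonoidHom.ker_eq_bot_iff, eq_bot_iff]
    intro x hx
    have hx' : (x : G) ∈ Cfsg.oddCore G :=
      (QuotientGroup.eq_one_iff (x : G)).mp (congrArg Subtype.val hx)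
    have h1 : (x : G) ∈ (T : Subgroup G) ⊓ Cfsg.oddCore G := ⟨x.2, hx'⟩
    rw [CfsgLib.PLocal.disjoint_of_isPGroup_of_coprime T.isPGroup'
      (CfsgLib.PLocal.coprime_card_pPrimeCore 2 G)] at h1
    exact Subtype.ext (Subgroup.mem_bot.mp h1)
  let eP : ↥(P : Subgroup Q) ≃* QuaternionGroup (2 ^ n) :=
    ((MulEquiv.subgroupCongr (Sylow.coe_mapSurjective _ _)).trans
      (MulEquiv.ofBijective _ ⟨hinj, π.subgroupMap_surjective _⟩).symm).trans e
  set R := Cfsg.pCore 2 Q
  have hR : IsPGroup 2 R := CfsgLib.PLocal.isPGroup_pCore 2 Q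
  have hRP : R ≤ (P : Subgroup Q) := CfsgLib.PLocal.pCore_le_sylow P
  have hC := CfsgLib.Inv54.centralizer_pCore_two_quotient_le hsol
  let R' : Subgroup (QuaternionGroup (2 ^ n)) :=
    (R.subgroupOf (P : Subgroup Q)).map eP.toMonoidHom
  have hR'n : R'.Normal := Subgroup.Normal.map inferInstance _ eP.surjective
  have hmem : ∀ x (hx : x ∈ R), eP ⟨x, hRP hx⟩ ∈ R' := fun x hx => ⟨⟨x, hRP hx⟩, hx, rfl⟩
  rcases normal_subgroup_cases R' with h | h
  · have : IsCyclic R := by
      let f : R →* Subgroup.zpowers (QuaternionGroup.a 1 : QuaternionGroup (2 ^ n)) :=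
        (eP.toMonoidHom.comp (Subgroup.inclusion hRP)).codRestrict _
          (fun x => h (hmem x x.2))
      refine isCyclic_of_injective f fun x y hxy => ?_
      exact Subgroup.inclusion_injective hRP (eP.injective (congrArg Subtype.val hxy))
    exact CfsgLib.Inv54.isPGroup_of_cyclic_normal_self_centralizing hR hC
  · -- `R` contains the cyclic subgroup generated by the element `v` corresponding to `a 2`
    obtain ⟨v, hv, hve⟩ := h
    have hvR : (v : Q) ∈ R := hv
    change eP v = QuaternionGroup.a 2 at hve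
    refine CfsgLib.Inv54.isPGroup_two_of_forall_odd fun g hg => ?_
    let A : Subgroup Q := Subgroup.zpowers (v : Q)
    have hAR : A ≤ R := Subgroup.zpowers_le.mpr hvR
    have hA : IsPGroup 2 A := hR.to_le hAR
    have hv4 : (v : Q) ^ 4 ≠ 1 := by
      intro h4
      have h5 : eP (v ^ 4) = 1 := by
        rw [show v ^ 4 = 1 from Subtype.ext (by simpa using h4), map_one]
      rw [map_pow, hve, show (QuaternionGroup.a 2 : QuaternionGroup (2 ^ n)) = QuaternionGroup.a 1 ^ 2
        by rw [QuaternionGroup.a_one_pow]; norm_num, ← pow_mul] at h5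
      have h6 := orderOf_dvd_of_pow_eq_one h5
      rw [QuaternionGroup.orderOf_a_one] at h6
      have h7 := Nat.le_of_dvd (by norm_num) h6
      have h8 : 2 ^ 3 ≤ 2 ^ n := Nat.pow_le_pow_right (by norm_num) hn
      omega
    -- elements of `R` with nontrivial fourth power correspond to powers of `a 1`
    have hcyc : ∀ x (hx : x ∈ R), x ^ 4 ≠ 1 →
        ∃ i, eP ⟨x, hRP hx⟩ = QuaternionGroup.a i := by
      intro x hx h4
      cases hxx : eP ⟨x, hRP hx⟩ with
      | a i => exact ⟨i, rfl⟩
      | xa i =>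
        exfalso
        apply h4
        have : eP (⟨x, hRP hx⟩ ^ 4) = eP 1 := by
          rw [map_pow, hxx, QuaternionGroup.xa_pow_four, map_one]
        simpa using congrArg Subtype.val (eP.injective this)
    let A' : Subgroup Q := R ⊓
      ((Subgroup.zpowers (QuaternionGroup.a 1)).comap eP.toMonoidHom).map (P : Subgroup Q).subtype
    have hA'cyc : IsCyclic A' := by
      let f : A' →* Subgroup.zpowers (QuaternionGroup.a 1 : QuaternionGroup (2 ^ n)) :=
        (eP.toMonoidHom.comp (Subgroup.inclusion (inf_le_left.trans hRP))).codRestrict _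
          (fun x => by
            obtain ⟨y, hy, hyx⟩ := x.2.2
            have : y = Subgroup.inclusion (inf_le_left.trans hRP) x := Subtype.ext hyx
            rw [this] at hy
            exact hy)
      exact isCyclic_of_injective f fun x y hxy =>
        Subgroup.inclusion_injective _ (eP.injective (congrArg Subtype.val hxy))
    have hmemA' : ∀ x (hx : x ∈ R), (∃ i, eP ⟨x, hRP hx⟩ = QuaternionGroup.a i) → x ∈ A' := by
      rintro x hx ⟨i, hi⟩
      refine ⟨hx, ⟨⟨x, hRP hx⟩, ?_, rfl⟩⟩
      obtain ⟨k, rfl⟩ := ZMod.natCast_zmod_surjective (n := 2 * 2 ^ n) i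
      show eP.toMonoidHom ⟨x, hRP hx⟩ ∈ Subgroup.zpowers (QuaternionGroup.a 1)
      rw [MulEquiv.coe_toMonoidHom, hi, ← QuaternionGroup.a_one_pow]
      exact Subgroup.npow_mem_zpowers _ _
    have hgn : g ∈ Subgroup.normalizer (A' : Set Q) := by
      obtain ⟨w, hw⟩ := hA'cyc.exists_generator
      have hvA' : (v : Q) ∈ A' := hmemA' v hvR ⟨2, hve⟩
      have hw4 : (g * (w : Q) * g⁻¹) ^ 4 ≠ 1 := by
        rw [conj_pow]
        intro h4
        apply hv4
        have hw1 : (w : Q) ^ 4 = 1 := conj_eq_one_iff.mp h4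
        obtain ⟨k, hk⟩ := hw ⟨v, hvA'⟩
        have hk' : (w : Q) ^ k = (v : Q) := congrArg Subtype.val hk
        rw [← hk', ← zpow_natCast, ← zpow_mul, mul_comm, zpow_mul, zpow_natCast, hw1, one_zpow]
      have hwR : g * (w : Q) * g⁻¹ ∈ R :=
        (inferInstance : R.Normal).conj_mem _ w.2.1 g
      have hwA : g * (w : Q) * g⁻¹ ∈ A' := hmemA' _ hwR (hcyc _ hwR hw4)
      refine Subgroup.mem_normalizer_fintype fun y hy => ?_
      obtain ⟨k, hk⟩ := hw ⟨y, hy⟩
      have hk' : (w : Q) ^ k = y := congrArg Subtype.val hk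
      rw [← hk', ← conj_zpow]
      exact A'.zpow_mem hwA k
    have hA'2 : IsPGroup 2 A' := hR.to_le inf_le_left
    have hcent : ∀ y ∈ A', g * y = y * g := fun y hy =>
      CfsgLib.Inv54.commute_of_odd_of_cyclic hA'2 hg hgn hy
    have hgR : g ∈ R := by
      refine hC (Subgroup.mem_centralizer_iff.mpr fun x hx => (?_ : g * x = x * g).symm)
      by_cases hxA : x ∈ A'
      · exact hcent x hxA
      refine CfsgLib.Inv54.commute_of_stabilizes_chain hA'2 hg hcent ?_
      have hx' : g * x * g⁻¹ ∈ R := (inferInstance : R.Normal).conj_mem _ hx g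
      have hxA2 : g * x * g⁻¹ ∉ A' := fun h =>
        hxA ((Subgroup.mem_normalizer_iff.mp hgn x).mpr h)
      have hprod : x⁻¹ * (g * x * g⁻¹) ∈ R := R.mul_mem (R.inv_mem hx) hx'
      cases hxx : eP ⟨x, hRP hx⟩ with
      | a i => exact absurd (hmemA' x hx ⟨i, hxx⟩) hxA
      | xa i =>
        cases hxy : eP ⟨g * x * g⁻¹, hRP hx'⟩ with
        | a j => exact absurd (hmemA' _ hx' ⟨j, hxy⟩) hxA2
        | xa j =>
          refine hmemA' _ hprod ⟨j - i, ?_⟩
          have : eP (⟨x, hRP hx⟩⁻¹ * ⟨g * x * g⁻¹, hRP hx'⟩) = QuaternionGroup.a (j - i) := by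
            rw [map_mul, map_inv, hxx, hxy, inv_mul_eq_iff_eq_mul, QuaternionGroup.xa_mul_a,
              add_sub_cancel]
          exact this
    obtain ⟨k, hk⟩ := hR ⟨g, hgR⟩
    exact orderOf_eq_one_iff.mp (Nat.eq_one_of_dvd_coprimes
      ((Nat.coprime_two_left.mpr hg).pow_left k)
      (orderOf_dvd_of_pow_eq_one (congrArg Subtype.val hk)) dvd_rfl)


end Cfsg.Agent.S3294
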