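import Cfsg.Statements.S3299
import Cfsg.Agent.Inv54.ExtraspecialTransfer
-- import your own Cfsg.Agent.* helpers here

set_option autoImplicit false
open Cfsg

namespace Cfsg.Agent.S3299

open CfsgLib.Inv54

theorem exists_hom {G : Type*} [Group G] {H K : Subgroup G}
    (hKn : ∀ h ∈ H, K.map (MulAut.conj h).toMonoidHom = K) (hKi : K.relIndex H = 2) :
    ∃ φ : H →* Multiplicative (ZMod 2), ∀ h : H, φ h = 1 ↔ (h : G) ∈ K := by
  classical
  have hidx : (K.subgroupOf H).index = 2 := hKi
  refine ⟨MonoidHom.mk' (fun h => if (h : G) ∈ K then 1 else Multiplicative.ofAdd 1) ?_,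
    fun h => ?_⟩
  · intro a b
    have h1 := Subgroup.mul_mem_iff_of_index_two (a := a) (b := b) hidx
    simp only [Subgroup.mem_subgroupOf] at h1
    rw [Subgroup.coe_mul] at h1
    by_cases ha : (a : G) ∈ K <;> by_cases hb : (b : G) ∈ K <;>
      simp only [Subgroup.coe_mul, h1, ha, hb, iff_self, iff_false, iff_true, not_true,
        not_false_eq_true, if_true, if_false, one_mul, mul_one] <;> decide
  · show (if (h : G) ∈ K then 1 else Multiplicative.ofAdd (1 : ZMod 2)) = 1 ↔ (h : G) ∈ K
    by_cases hh : (h : G) ∈ K <;> simp [hh]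

theorem exp_two (a : Multiplicative (ZMod 2)) : a * a = 1 := by revert a; decide

/-- Let G be a finite group with no nontrivial 2-group quotient (O^2(G) = G), z an involution of G with H = C_G(z), and suppose E = O_2(H) is extraspecial with C_G(E) ≤ E and of order 2^(2n+1) with n ≥ 2. Then E is contained in every normal subgroup of H of index 2. -/
theorem result {G : Type*} [Group G] [Finite G] (hres : Cfsg.pResidual 2 G = ⊤) (z : G) (hz : orderOf z = 2)
    (E : Subgroup G) (hE : E = (Cfsg.pCore 2 ↥(Subgroup.centralizer ({z} : Set G))).map (Subgroup.centralizer ({z} : Set G)).subtype)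
    (hext : Cfsg.IsExtraspecial 2 ↥E) (hcent : Subgroup.centralizer (E : Set G) ≤ E) (n : ℕ) (hn : 2 ≤ n) (hcard : Nat.card ↥E = 2 ^ (2 * n + 1))
    (K : Subgroup G) (hKH : K ≤ Subgroup.centralizer ({z} : Set G))
    (hKn : ∀ h ∈ Subgroup.centralizer ({z} : Set G), K.map (MulAut.conj h).toMonoidHom = K)
    (hKi : K.relIndex (Subgroup.centralizer ({z} : Set G)) = 2) : E ≤ K := by
  classical
  haveI := Fintype.ofFinite (G ⧸ Subgroup.centralizer ({z} : Set G))
  have hs := LargeSetup.of_pCore hz hE hext hcent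
  obtain ⟨φ, hφ⟩ := exists_hom hKn hKi
  intro e he
  refine (hφ ⟨e, hs.le he⟩).mp (hs.apply_eq_one_of_mem hres φ exp_two _ he fun q _ hc => ?_)
  by_contra! hlt
  have h32 : 32 ≤ Nat.card E := by
    rw [hcard]; exact le_trans (by norm_num) (Nat.pow_le_pow_right (by norm_num) (by omega : 5 ≤ 2 * n + 1))
  obtain ⟨a, ha, b, hb, haq, hbq, hab⟩ := hs.exists_not_commute (q := q) (by
    have : (orb E q).card * (orb E q).card ≤ 3 * 3 := Nat.mul_le_mul (by omega) (by omega)
    omega)
  exact hc ((hs.smul_and_cocycle ha hb haq hbq hab).2 _ (isCocycle_transferCocycle φ))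

end Cfsg.Agent.S3299
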