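import Cfsg.Statements.S3301
import Cfsg.Agent.Inv54.ExtraspecialTransfer
-- import your own Cfsg.Agent.* helpers here

set_option autoImplicit false
open Cfsg

namespace Cfsg.Agent.S3301

open CfsgLib.Inv54

theorem no_fix {Y : Type*} [Finite Y] (hY : Nat.card Y = 3) (σ : Equiv.Perm Y)
    (hσ : orderOf σ = 3) (y : Y) : σ y ≠ y := by
  have e := Finite.equivFinOfCardEq hY
  have key : ∀ π : Equiv.Perm (Fin 3), π ^ 3 = 1 → π ≠ 1 → ∀ k, π k ≠ k := by decide
  intro h
  refine key (e.permCongrHom σ) ?_ ?_ (e y) ?_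
  · rw [← map_pow, orderOf_dvd_iff_pow_eq_one.mp hσ.dvd, map_one]
  · intro h1
    rw [← map_one e.permCongrHom] at h1
    rw [e.permCongrHom.injective h1, orderOf_one] at hσ
    omega
  · show e (σ (e.symm (e y))) = e y
    rw [e.symm_apply_apply, h]

theorem exists_sq_notMem_range {B : Type*} [CommGroup B] [Finite B] (q : B) {k : ℕ}
    (hq : orderOf q = 2 ^ k) (hq2 : q ^ 2 ≠ 1) :
    ∃ x : B, (∃ j, orderOf x = 2 ^ j) ∧ x ^ 2 ∉ (powMonoidHom 4 : B →* B).range := by
  classical
  by_contra hno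
  replace hno : ∀ x : B, (∃ j, orderOf x = 2 ^ j) → ∃ c : B, c ^ 4 = x ^ 2 := fun x hx => by
    by_contra hc
    exact hno ⟨x, hx, fun h => by
      obtain ⟨c, hc'⟩ := h
      exact hc ⟨c, hc'⟩⟩
  have hex : ∃ e, ∀ x : B, ∀ j, orderOf x = 2 ^ j → j ≤ e :=
    ⟨Nat.card B, fun x j hj => by
      have := Nat.le_of_dvd Nat.card_pos (orderOf_dvd_natCard x)
      rw [hj] at this
      exact (Nat.lt_two_pow_self).le.trans this⟩
  set e := Nat.find hex with he
  have hspec := Nat.find_spec hex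
  have he2 : 2 ≤ e := by
    by_contra! hlt
    refine hq2 (orderOf_dvd_iff_pow_eq_one.mp ?_)
    rw [hq]
    calc 2 ^ k ∣ 2 ^ 1 := pow_dvd_pow 2 ((hspec q k hq).trans (by omega))
      _ = 2 := pow_one 2
  have := Nat.find_min hex (show e - 1 < Nat.find hex by omega)
  apply this
  intro x j hj
  by_contra! hlt
  obtain rfl : j = e := by have := hspec x j hj; omega
  obtain ⟨c, hc⟩ := hno x ⟨_, hj⟩
  obtain ⟨a, m, hm, hcm⟩ := Nat.exists_eq_two_pow_mul_odd (orderOf_pos c).ne'
  have hc' : orderOf (c ^ m) = 2 ^ a := by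
    rw [orderOf_pow_of_dvd (fun h => by simp [h] at hm) ⟨2 ^ a, by rw [hcm, mul_comm]⟩, hcm,
      Nat.mul_div_cancel _ hm.pos]
  have h1 : (c ^ m) ^ 2 ^ e = 1 :=
    orderOf_dvd_iff_pow_eq_one.mp (hc' ▸ pow_dvd_pow 2 (hspec _ a hc'))
  have h2 : x ^ (2 ^ (e - 1) * m) = 1 := by
    rw [show 2 ^ e = 4 * 2 ^ (e - 2) by rw [show (4 : ℕ) = 2 ^ 2 by rfl, ← pow_add]; congr 1; omega,
      ← pow_mul, show m * (4 * 2 ^ (e - 2)) = 4 * (2 ^ (e - 2) * m) by ring, pow_mul, hc,
      ← pow_mul, ← mul_assoc] at h1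
    rwa [show 2 ^ (e - 1) = 2 * 2 ^ (e - 2) by rw [← pow_succ']; congr 1; omega]
  have h3 : 2 ^ e ∣ 2 ^ (e - 1) := by
    refine Nat.Coprime.dvd_of_dvd_mul_right ((Nat.coprime_two_left.mpr hm).pow_left e) ?_
    rw [← hj]
    exact orderOf_dvd_of_pow_eq_one h2
  have h4 := Nat.le_of_dvd (by positivity) h3
  have h5 := (Nat.pow_lt_pow_iff_right (show 1 < 2 by norm_num)).mpr (show e - 1 < e by omega)
  omega

/-- The case of an extraspecial group of order 8. -/
theorem small_case {G : Type*} [Group G] [Finite G] {z : G} {E : Subgroup G}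
    (hs : LargeSetup z E) (h8 : Nat.card E = 8)
    : ∀ (h : Subgroup.centralizer ({z} : Set G)) {k : ℕ}, orderOf h = 2 ^ k →
    Abelianization.of h * Abelianization.of h = 1 := by
  classical
  have := Fact.mk Nat.prime_two
  have := Fact.mk Nat.prime_three
  set H := Subgroup.centralizer ({z} : Set G) with hH
  set ι : H →* Abelianization H := Abelianization.of with hι
  intro h k hk
  let V := ↥E ⧸ Subgroup.center E
  have hV : Nat.card V = 4 := by
    have := Subgroup.card_eq_card_quotient_mul_card_subgroup (Subgroup.center E)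
    rw [h8, hs.extra.2] at this
    show Nat.card (↥E ⧸ Subgroup.center E) = 4
    omega
  let cj : H → (E →* E) := fun g =>
    { toFun := fun e => ⟨g * e * (g : G)⁻¹,
        (Subgroup.mem_normalizer_iff.mp (hs.normal g g.2) e).mp e.2⟩
      map_one' := Subtype.ext (by simp)
      map_mul' := fun a b => Subtype.ext (by simp [mul_assoc]) }
  have cj_mul : ∀ g g' e, cj (g * g') e = cj g (cj g' e) := fun g g' e =>
    Subtype.ext (by simp [cj, mul_assoc])
  have cj_one : ∀ e, cj 1 e = e := fun e => Subtype.ext (by simp [cj])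
  have hcj : ∀ g, Subgroup.center E ≤ (Subgroup.center E).comap (cj g) := by
    intro g c hc
    rw [Subgroup.mem_comap, Subgroup.mem_center_iff]
    intro e
    have hsur : cj g (cj g⁻¹ e) = e := by rw [← cj_mul, mul_inv_cancel, cj_one]
    rw [← hsur, ← map_mul, ← map_mul, Subgroup.mem_center_iff.mp hc]
  let act : H → (V →* V) := fun g => QuotientGroup.map _ _ (cj g) (hcj g)
  have act_mul : ∀ g g' v, act (g * g') v = act g (act g' v) := fun g g' v => by
    obtain ⟨e, rfl⟩ := QuotientGroup.mk'_surjective _ v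
    show ((cj (g * g') e : E) : V) = ((cj g (cj g' e) : E) : V)
    rw [cj_mul]
  have act_one : ∀ v, act 1 v = v := fun v => by
    obtain ⟨e, rfl⟩ := QuotientGroup.mk'_surjective _ v
    show ((cj 1 e : E) : V) = _
    rw [cj_one]; rfl
  have act_inv : ∀ g v, act g⁻¹ (act g v) = v := fun g v => by
    rw [← act_mul, inv_mul_cancel, act_one]
  have act_inv' : ∀ g v, act g (act g⁻¹ v) = v := fun g v => by
    rw [← act_mul, mul_inv_cancel, act_one]
  let Y := {v : V // v ≠ 1}
  have hY : Nat.card Y = 3 := by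
    have h1 := Nat.card_congr (Equiv.sumCompl (fun v : V => v = 1)).symm
    rw [Nat.card_sum, hV, Nat.card_unique] at h1
    change 4 = 1 + Nat.card Y at h1
    omega
  let π : H →* Equiv.Perm Y :=
    { toFun := fun g =>
        { toFun := fun v => ⟨act g v, fun h1 => v.2 (by rw [← act_inv g v.1, h1, map_one])⟩
          invFun := fun v => ⟨act g⁻¹ v, fun h1 => v.2 (by rw [← act_inv' g v.1, h1, map_one])⟩
          left_inv := fun v => Subtype.ext (act_inv g v)
          right_inv := fun v => Subtype.ext (act_inv' g v) }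
      map_one' := Equiv.ext fun v => Subtype.ext (act_one v)
      map_mul' := fun g g' => Equiv.ext fun v => Subtype.ext (act_mul g g' v) }
  have hker : ∀ g : H, π g = 1 → (g : G) ∈ E := by
    intro g hg
    refine hs.mem_of_centralizes_quotient g.2 fun e he => ?_
    have h1 : act g ((⟨e, he⟩ : E) : V) = ((⟨e, he⟩ : E) : V) := by
      by_cases h2 : ((⟨e, he⟩ : E) : V) = 1
      · rw [h2, map_one]
      · exact congrArg Subtype.val (congrArg (fun σ : Equiv.Perm Y => σ ⟨_, h2⟩) hg)
    exact hs.eq_of_mem_center (QuotientGroup.eq.mp h1.symm)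
  have hπ6 : ∀ g : H, orderOf (π g) ∣ 6 := fun g => by
    have := orderOf_dvd_natCard (π g)
    rwa [Nat.card_perm, hY] at this
  have hsq : ∀ g : H, ∀ j, orderOf (π g) = 2 ^ j → ((g * g : H) : G) ∈ E := by
    intro g j hj
    refine hker _ ?_
    rw [map_mul, ← sq]
    refine orderOf_dvd_iff_pow_eq_one.mp (Nat.Coprime.dvd_of_dvd_mul_right (k := orderOf (π g))
      (m := 2) (n := 3) ?_ (hπ6 g))
    rw [hj]
    exact Nat.Coprime.pow_left j (by norm_num)
  -- the commutator `z` dies in the abelianization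
  have hιz : ∀ hzH : z ∈ H, ι ⟨z, hzH⟩ = 1 := by
    intro hzH
    have hne : ∃ a ∈ E, ∃ b ∈ E, a * b ≠ b * a := by
      by_contra! hno
      have := hs.card_sq_le (D := E) le_rfl hno
      rw [h8] at this
      omega
    obtain ⟨a, ha, b, hb, hab⟩ := hne
    rcases hs.commutator a ha b hb with h1 | h1
    · exact absurd (by rw [mul_inv_eq_one, mul_inv_eq_iff_eq_mul] at h1; exact h1) hab
    · rw [show (⟨z, hzH⟩ : H) = ⟨a, hs.le ha⟩ * ⟨b, hs.le hb⟩ * ⟨a, hs.le ha⟩⁻¹ * ⟨b, hs.le hb⟩⁻¹
        from Subtype.ext h1.symm, map_mul, map_mul, map_mul, map_inv, map_inv,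
        mul_comm (ι ⟨a, hs.le ha⟩), mul_inv_cancel_right, mul_inv_cancel]
  have hιsq : ∀ e : E, ι ⟨e, hs.le e.2⟩ * ι ⟨e, hs.le e.2⟩ = 1 := by
    intro e
    rw [← map_mul]
    rcases hs.sq e e.2 with h1 | h1
    · rw [show (⟨e, hs.le e.2⟩ * ⟨e, hs.le e.2⟩ : H) = 1 from Subtype.ext h1, map_one]
    · rw [show (⟨e, hs.le e.2⟩ * ⟨e, hs.le e.2⟩ : H) = ⟨z, hs.le hs.memE⟩ from Subtype.ext h1, hιz]
  by_cases hhE : (h : G) ∈ E
  · exact hιsq ⟨h, hhE⟩
  have hhk : ∃ j, orderOf (π h) = 2 ^ j := by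
    obtain ⟨j, -, hj⟩ := (Nat.dvd_prime_pow Nat.prime_two).mp (hk ▸ orderOf_map_dvd π h)
    exact ⟨j, hj⟩
  obtain ⟨j, hj⟩ := hhk
  have hh2 := hsq h j hj
  -- an element acting as a 3-cycle
  obtain ⟨g, hg⟩ : ∃ g : H, orderOf (π g) = 3 := by
    by_contra! hno
    have htop : IsPGroup 2 (⊤ : Subgroup H) := by
      intro g
      obtain ⟨g, -⟩ := g
      have hg2 : orderOf (π g) ∣ 2 := by
        have h1 := hπ6 g
        have h2 : ¬ 3 ∣ orderOf (π g) := fun h3 => by
          refine hno (g ^ (orderOf (π g) / 3)) ?_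
          rw [map_pow, orderOf_pow_of_dvd (fun h0 => by
            have := Nat.div_mul_cancel h3
            have := orderOf_pos (π g)
            rw [h0] at *
            omega) ⟨3, (Nat.div_mul_cancel h3).symm⟩, Nat.div_div_self h3 (orderOf_pos _).ne']
        exact Nat.Coprime.dvd_of_dvd_mul_right (k := orderOf (π g)) (m := 2) (n := 3)
          ((Nat.prime_three.coprime_iff_not_dvd.mpr h2).symm) h1
      have h3 : ((g * g : H) : G) ∈ E := hker _ (by
        rw [map_mul, ← sq]; exact orderOf_dvd_iff_pow_eq_one.mp hg2)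
      obtain ⟨i, hi⟩ := hs.pgroup ⟨_, h3⟩
      refine ⟨i + 1, Subtype.ext (Subtype.ext ?_)⟩
      show ((g : G)) ^ 2 ^ (i + 1) = 1
      have := congrArg Subtype.val hi
      simpa [pow_succ', pow_mul, sq] using this
    exact hhE (hs.max ⊤ inferInstance htop ⟨h, Subgroup.mem_top _, rfl⟩)
  let ιV : V →* Abelianization H := QuotientGroup.lift (Subgroup.center E)
    (MonoidHom.mk' (fun e : E => ι ⟨e, hs.le e.2⟩) fun a b => by rw [← map_mul]; rfl) (by
      intro c hc
      rw [MonoidHom.mem_ker]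
      show ι ⟨c, hs.le c.2⟩ = 1
      rcases hs.eq_of_mem_center hc with h1 | h1
      · rw [show (⟨c, hs.le c.2⟩ : H) = 1 from Subtype.ext h1, map_one]
      · rw [show (⟨c, hs.le c.2⟩ : H) = ⟨z, hs.le hs.memE⟩ from Subtype.ext h1, hιz])
  have hinv : ∀ g v, ιV (act g v) = ιV v := fun g v => by
    obtain ⟨e, rfl⟩ := QuotientGroup.mk'_surjective _ v
    show ι ⟨g * e * (g : G)⁻¹, _⟩ = ι ⟨e, _⟩
    rw [show (⟨g * e * (g : G)⁻¹, hs.le ((cj g e).2)⟩ : H) = g * ⟨e, hs.le e.2⟩ * g⁻¹ from rfl,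
      map_mul, map_mul, map_inv, mul_comm (ι g), mul_inv_cancel_right]
  have hvv : ∀ v : V, v * v = 1 := fun v => by
    obtain ⟨e, rfl⟩ := QuotientGroup.mk'_surjective _ v
    rw [← map_mul, QuotientGroup.mk'_apply, QuotientGroup.eq_one_iff, ← sq]
    exact CfsgLib.ExtraspecialBasic.pow_mem_center hs.extra e
  have htriv : ∀ v : V, ιV v = 1 := by
    intro v
    by_cases hv : v = 1
    · rw [hv, map_one]
    have n1 := no_fix hY (π g) hg ⟨v, hv⟩
    have n2 := no_fix hY (π g) hg (π g ⟨v, hv⟩)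
    have hg3 : π g * π g * π g = 1 := by rw [← pow_three', ← hg, pow_orderOf_eq_one]
    have n3 : π g (π g ⟨v, hv⟩) ≠ ⟨v, hv⟩ := fun h3 => n1 (by
      have := congrArg (fun σ : Equiv.Perm Y => σ ⟨v, hv⟩) hg3
      simp only [Equiv.Perm.mul_apply, Equiv.Perm.one_apply] at this
      rwa [h3] at this)
    set a := (π g ⟨v, hv⟩).1 with ha
    set b := (π g (π g ⟨v, hv⟩)).1 with hb
    have ha1 : a ≠ 1 := (π g ⟨v, hv⟩).2
    have hb1 : b ≠ 1 := (π g (π g ⟨v, hv⟩)).2
    have hav : a ≠ v := fun h' => n1 (Subtype.ext h')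
    have hbv : b ≠ v := fun h' => n3 (Subtype.ext h')
    have hba : b ≠ a := fun h' => n2 (Subtype.ext h')
    have hb' : b = v * a := by
      have := Fintype.ofFinite V
      by_contra hne
      have hva1 : v * a ≠ 1 := fun h' => hav (by
        rw [← hvv v] at h'; exact mul_left_cancel h')
      have hvav : v * a ≠ v := fun h' => ha1 (mul_eq_left.mp h')
      have hvaa : v * a ≠ a := fun h' => hv (mul_eq_right.mp h')
      have h5 : ({1, v, a, v * a, b} : Finset V).card = 5 := by
        rw [Finset.card_insert_of_notMem, Finset.card_insert_of_notMem,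
          Finset.card_insert_of_notMem, Finset.card_pair (Ne.symm hne)]
        · simp [hvaa.symm, hba.symm]
        · simp [hav.symm, hvav.symm, hbv.symm]
        · simp [Ne.symm hv, ha1.symm, hva1.symm, hb1.symm]
      have := Finset.card_le_univ ({1, v, a, v * a, b} : Finset V)
      rw [h5, ← Nat.card_eq_fintype_card, hV] at this
      omega
    have e1 : ιV a = ιV v := hinv g v
    have e2 : ιV b = ιV a := hinv g a
    rw [hb', map_mul, e1] at e2
    exact mul_eq_left.mp e2
  rw [← map_mul]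
  exact htriv (((⟨_, hh2⟩ : E)) : V)

/-- Let G be a finite group with no nontrivial 2-group quotient (O^2(G) = G), z an involution of G with H = C_G(z), and suppose E = O_2(H) is extraspecial with C_G(E) ≤ E. Then the Sylow 2-subgroups of H/[H, H] are elementary abelian: every element of 2-power order of the abelianization of H has order at most 2. -/
theorem result {G : Type*} [Group G] [Finite G] (hres : Cfsg.pResidual 2 G = ⊤) (z : G) (hz : orderOf z = 2)
    (E : Subgroup G) (hE : E = (Cfsg.pCore 2 ↥(Subgroup.centralizer ({z} : Set G))).map (Subgroup.centralizer ({z} : Set G)).subtype)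
    (hext : Cfsg.IsExtraspecial 2 ↥E) (hcent : Subgroup.centralizer (E : Set G) ≤ E) :
    ∀ q : Abelianization ↥(Subgroup.centralizer ({z} : Set G)), (∃ k : ℕ, orderOf q = 2 ^ k) → q ^ 2 = 1 := by
  classical
  haveI := Fintype.ofFinite (G ⧸ Subgroup.centralizer ({z} : Set G))
  have := Fact.mk Nat.prime_two
  have hs := LargeSetup.of_pCore hz hE hext hcent
  intro q ⟨k, hk⟩
  by_contra hq2
  obtain ⟨x, ⟨j, hj⟩, hx⟩ := exists_sq_notMem_range q hk hq2
  set ι : Subgroup.centralizer ({z} : Set G) →* Abelianization ↥(Subgroup.centralizer ({z} : Set G)) :=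
    Abelianization.of with hι
  obtain ⟨h₀, rfl⟩ : ∃ h₀, ι h₀ = x := QuotientGroup.mk'_surjective _ x
  obtain ⟨a, m, hm, ham⟩ := Nat.exists_eq_two_pow_mul_odd (orderOf_pos h₀).ne'
  set h := h₀ ^ m with hh
  have hord : orderOf h = 2 ^ a := by
    rw [hh, orderOf_pow_of_dvd (fun h => by simp [h] at hm) ⟨2 ^ a, by rw [ham, mul_comm]⟩, ham,
      Nat.mul_div_cancel _ hm.pos]
  set R := (powMonoidHom 4 : Abelianization ↥(Subgroup.centralizer ({z} : Set G)) →* _).range with hR
  let κ := (QuotientGroup.mk' R).comp (powMonoidHom 2)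
  have hκ : ∀ w, w * w = 1 → κ w = 1 := fun w hw => by
    show QuotientGroup.mk' R (w ^ 2) = 1
    rw [sq, hw, map_one]
  have hexp : ∀ y : Abelianization ↥(Subgroup.centralizer ({z} : Set G)), κ y * κ y = 1 := fun y => by
    rw [← map_mul]
    show QuotientGroup.mk' R ((y * y) ^ 2) = 1
    exact (QuotientGroup.eq_one_iff _).mpr ⟨y, by rw [powMonoidHom_apply, ← sq, ← pow_mul]⟩
  let φ := κ.comp ι
  have hφh : φ h ≠ 1 := by
    obtain ⟨i, rfl⟩ := hm
    intro h1
    rw [hh, map_pow, pow_succ, pow_mul, sq, show φ h₀ * φ h₀ = 1 from hexp _, one_pow, one_mul] at h1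
    exact hx ((QuotientGroup.eq_one_iff _).mp h1)
  apply hφh
  obtain ⟨n, hn1, hn⟩ := CfsgLib.ExtraspecialBasic.exists_card_eq hext
  rcases (show n = 1 ∨ 2 ≤ n by omega) with rfl | hn2
  · exact hκ _ (small_case hs (by rw [hn]; norm_num) h hord)
  let φ' : Subgroup.centralizer ({z} : Set G) →* κ.range := κ.rangeRestrict.comp ι
  have hA : ∀ y : κ.range, y * y = 1 := by
    rintro ⟨_, y, rfl⟩
    exact Subtype.ext (hexp y)
  have h32 : 32 ≤ Nat.card E := by
    rw [hn]; exact le_trans (by norm_num) (Nat.pow_le_pow_right (by norm_num) (by omega : 5 ≤ 2 * n + 1))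
  have hcz : ∀ r, z • r = r → transferCocycle φ' z r = 1 := by
    intro r hr
    rw [transferCocycle_of_fix φ' hr (out_conj_mem_of_fix hr)]
    refine Subtype.ext (hκ _ ?_)
    rw [← map_mul]
    refine (congrArg ι (Subtype.ext ?_)).trans (map_one ι)
    show r.out⁻¹ * z * r.out * (r.out⁻¹ * z * r.out) = 1
    rw [show r.out⁻¹ * z * r.out * (r.out⁻¹ * z * r.out) = r.out⁻¹ * (z * z) * r.out by group,
      hs.mul_self]
    group
  have hfin : φ' h = 1 := by
    refine hs.apply_eq_one hres φ' hA h ?_ (fun r hr hc => absurd (hcz r hr) hc) ?_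
    · refine IsPGroup.of_card (n := a) ?_
      rw [Nat.card_zpowers, Subgroup.orderOf_coe, hord]
    intro r _ h2 e he her
    obtain ⟨a', ha', b', hb', haq, hbq, hab⟩ := hs.exists_not_commute (q := r) (by rw [h2]; omega)
    have hz1 := hs.smul_and_cocycle (A := Abelianization ↥(Subgroup.centralizer ({z} : Set G)))
      ha' hb' haq hbq hab
    refine Subtype.ext (hκ (transferCocycle ι e r) ?_)
    have h1 : transferCocycle ι (e * e) r = transferCocycle ι e r * transferCocycle ι e r := by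
      rw [isCocycle_transferCocycle ι, her]
    rw [← h1]
    rcases hs.sq e he with h3 | h3 <;> rw [h3]
    · exact (isCocycle_transferCocycle ι).one r
    · exact hz1.2 _ (isCocycle_transferCocycle ι)
  exact congrArg Subtype.val hfin

end Cfsg.Agent.S3301
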