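import Cfsg.Statements.S3305
import Cfsg.Agent.Inv54.SylowLift
import Mathlib.GroupTheory.SpecificGroups.Cyclic

set_option autoImplicit false
open Cfsg

namespace Cfsg.Agent.S3305

/-- If any two distinct Sylow 2-subgroups of the finite group G intersect in a cyclic group, then the same holds in every quotient group G/H, H a normal subgroup of G. -/
theorem result {G : Type*} [Group G] [Finite G]
    (hC : ∀ S T : Sylow 2 G, S ≠ T → IsCyclic ↥((S : Subgroup G) ⊓ (T : Subgroup G))) (H : Subgroup G) [H.Normal] :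
    ∀ S T : Sylow 2 (G ⧸ H), S ≠ T → IsCyclic ↥((S : Subgroup (G ⧸ H)) ⊓ (T : Subgroup (G ⧸ H))) := by
  intro S T hST
  have hf := QuotientGroup.mk'_surjective H
  have hU : IsPGroup 2 ↥((S : Subgroup (G ⧸ H)) ⊓ (T : Subgroup (G ⧸ H))) :=
    S.isPGroup'.to_le inf_le_left
  obtain ⟨P, hP, hPU⟩ := CfsgLib.Inv54.exists_pGroup_map_eq hf hU
  obtain ⟨S₁, hS₁, hS₁S⟩ := CfsgLib.Inv54.exists_sylow_ge_map_eq hf S hP (hPU.trans_le inf_le_left)
  obtain ⟨T₁, hT₁, hT₁T⟩ := CfsgLib.Inv54.exists_sylow_ge_map_eq hf T hP (hPU.trans_le inf_le_right)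
  have hne : S₁ ≠ T₁ := by
    intro h
    apply hST
    apply Sylow.ext
    rw [← hS₁S, ← hT₁T, h]
  have hc := hC S₁ T₁ hne
  have hcP : IsCyclic ↥P :=
    isCyclic_of_injective (Subgroup.inclusion (le_inf hS₁ hT₁))
      (Subgroup.inclusion_injective _)
  rw [← hPU]
  exact isCyclic_of_surjective ((QuotientGroup.mk' H).subgroupMap P)
    ((QuotientGroup.mk' H).subgroupMap_surjective P)

end Cfsg.Agent.S3305
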