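import Cfsg.Statements.S3303
import Cfsg.Agent.Inv54.Core
import Cfsg.Agent.S3305

set_option autoImplicit false
open Cfsg

namespace Cfsg.Agent.S3303

/-- Let G be a finite solvable group in which the intersection of any two distinct Sylow 2-subgroups is cyclic. Then G/O(G) has a normal Sylow 2-subgroup, where O(G) is the largest normal subgroup of odd order. -/
theorem result {G : Type*} [Group G] [Finite G] (hs : Group.IsSolvable G)
    (hC : ∀ S T : Sylow 2 G, S ≠ T → IsCyclic ↥((S : Subgroup G) ⊓ (T : Subgroup G))) :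
    ∃ P : Sylow 2 (G ⧸ Cfsg.oddCore G), (P : Subgroup (G ⧸ Cfsg.oddCore G)).Normal := by
  set Q := G ⧸ Cfsg.oddCore G
  have := CfsgLib.Inv54.fact_two
  obtain ⟨P⟩ : Nonempty (Sylow 2 Q) := Sylow.nonempty
  refine ⟨P, ?_⟩
  by_contra hPn
  obtain ⟨g, hg⟩ : ∃ g : Q, g • P ≠ P := by
    by_contra! h
    apply hPn
    exact Subgroup.normalizer_eq_top_iff.mp
      (eq_top_iff.mpr fun g _ => Sylow.smul_eq_iff_mem_normalizer.mp (h g))
  have hQc := Cfsg.Agent.S3305.result hC (Cfsg.oddCore G) (g • P) P hg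
  set R := Cfsg.pCore 2 Q
  have hR : IsPGroup 2 R := CfsgLib.PLocal.isPGroup_pCore 2 Q
  have hle : R ≤ ((g • P : Sylow 2 Q) : Subgroup Q) ⊓ (P : Subgroup Q) :=
    le_inf (CfsgLib.PLocal.pCore_le_sylow _) (CfsgLib.PLocal.pCore_le_sylow _)
  have : IsCyclic R := isCyclic_of_injective (Subgroup.inclusion hle) (Subgroup.inclusion_injective _)
  have hQ : IsPGroup 2 Q :=
    CfsgLib.Inv54.isPGroup_of_cyclic_normal_self_centralizing hR
      (CfsgLib.Inv54.centralizer_pCore_two_quotient_le hs)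
  have hP : (P : Subgroup Q) = ⊤ := (P.is_maximal' (hQ.to_subgroup ⊤) le_top).symm
  exact hPn (hP ▸ inferInstance)


end Cfsg.Agent.S3303
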