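import Cfsg.Statements.S3304
import Cfsg.Agent.Inv54.Core
import Cfsg.Agent.Inv54.SylowLift
import Cfsg.Agent.Inv54.QuaternionAut
import Cfsg.Agent.TwoGroupsQ.UniqueInvolution
import Cfsg.Agent.Small.Dihedral

set_option autoImplicit false
open Cfsg

namespace Cfsg.Agent.S3304

open QuaternionGroup CfsgLib.Inv54

/-- The index of the cyclic subgroup of order 4 containing an element. -/
def cls : QuaternionGroup 2 → Fin 3
  | .a _ => 0
  | .xa i => if i.val % 2 = 0 then 1 else 2

/-- Representatives of the three cyclic subgroups of order 4. -/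
def rep : Fin 3 → QuaternionGroup 2 := ![a 1, xa 0, xa 1]

theorem cls_rep : ∀ k, cls (rep k) = k ∧ rep k * rep k ≠ 1 := by decide

theorem cls_natural : ∀ x y : QuaternionGroup 2, IsBasis x y → ∀ p, p * p ≠ 1 →
    cls (mkFun x y p) = cls (mkFun x y (rep (cls p))) := by decide +kernel

theorem inner_of_fix : ∀ x y : QuaternionGroup 2, IsBasis x y →
    (∀ k, cls (mkFun x y (rep k)) = k) → ∃ c, ∀ p, mkFun x y p = c * p * c⁻¹ := by decide +kernel

theorem inner_fix : ∀ (c : QuaternionGroup 2) (k : Fin 3), cls (c * rep k * c⁻¹) = k := by decide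

theorem perm3_no_fix : ∀ π : Equiv.Perm (Fin 3), π ^ 3 = 1 → π ≠ 1 → ∀ k, π k ≠ k := by decide

theorem perm3_comm : ∀ π : Equiv.Perm (Fin 3), π ^ 3 = 1 → π ≠ 1 → ∀ τ : Equiv.Perm (Fin 3),
    τ * τ = 1 → τ * π = π * τ → τ = 1 := by decide

theorem perm4_fpf : ∀ π : Equiv.Perm (Fin 4), π * π = 1 → (∀ k, π k ≠ k) →
    π = Equiv.swap 0 1 * Equiv.swap 2 3 ∨ π = Equiv.swap 0 2 * Equiv.swap 1 3 ∨
      π = Equiv.swap 0 3 * Equiv.swap 1 2 := by decide

theorem q8_small : ∀ p : QuaternionGroup 2, p * p = 1 → p = 1 ∨ p = a 2 := by decide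

theorem q8_center : ∀ p : QuaternionGroup 2, (∀ q, p * q = q * p) → p = 1 ∨ p = a 2 := by decide

theorem q8_a2 : (a 2 : QuaternionGroup 2) * a 2 = 1 ∧ (a 2 : QuaternionGroup 2) ≠ 1 := by decide

theorem q8_sq : ∀ p : QuaternionGroup 2, p * p = 1 ∨ p * p = a 2 := by decide

theorem q8_reps : ∀ k l : Fin 3, k ≠ l →
    (rep k)⁻¹ * rep l ≠ 1 ∧ (rep k)⁻¹ * rep l ≠ a 2 := by decide

variable {Q : Type*} [Group Q] [Finite Q]

/-- The conjugation action on the three cyclic subgroups of order 4 of a normal `Q₈`. -/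
def actFun {R : Subgroup Q} [R.Normal] (e : R ≃* QuaternionGroup 2) (q : Q) : MulAut (QuaternionGroup 2) :=
  (e.symm.trans (MulAut.conjNormal q)).trans e

omit [Finite Q] in
theorem actFun_apply {R : Subgroup Q} [R.Normal] (e : R ≃* QuaternionGroup 2) (q : Q) (p : QuaternionGroup 2) :
    actFun e q p = e (MulAut.conjNormal q (e.symm p)) := rfl

omit [Finite Q] in
theorem actFun_mul {R : Subgroup Q} [R.Normal] (e : R ≃* QuaternionGroup 2) (q q' : Q) :
    actFun e (q * q') = actFun e q * actFun e q' := by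
  ext p
  simp [actFun_apply, map_mul]

/-- The main structural case: `O₂(Q)` is a self-centralising quaternion group of order 8 and `Q` is
not 2-closed. -/
theorem structure_q8 (R : Subgroup Q) [R.Normal] (hRcore : ∀ N : Subgroup Q, N.Normal → IsPGroup 2 N → N ≤ R)
    (hC : Subgroup.centralizer (R : Set Q) ≤ R) (e : R ≃* QuaternionGroup 2)
    (hncl : ¬ ∃ P : Sylow 2 Q, (P : Subgroup Q).Normal) :
    Nonempty (Q ≃* GL (Fin 2) (ZMod 3)) ∨
    (Nat.card Q = 48 ∧ Nat.card ↥(Subgroup.center Q) = 2 ∧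
      Nonempty (Q ⧸ Subgroup.center Q ≃* Equiv.Perm (Fin 4)) ∧
      ∀ P : Sylow 2 Q, Nonempty (↥(P : Subgroup Q) ≃* QuaternionGroup 4)) := by
  classical
  have : Fact (Nat.Prime 2) := ⟨Nat.prime_two⟩
  have : Fact (Nat.Prime 3) := ⟨Nat.prime_three⟩
  have hR8 : Nat.card R = 8 := by
    rw [Nat.card_congr e.toEquiv, Nat.card_eq_fintype_card, QuaternionGroup.card]
  have hRp : IsPGroup 2 R := IsPGroup.of_card (n := 3) (by rw [hR8]; rfl)
  -- the homomorphism to `Perm (Fin 3)`
  let π₀ : Q → Fin 3 → Fin 3 := fun q k => cls (actFun e q (rep k))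
  have hπmul : ∀ q q' k, π₀ (q * q') k = π₀ q (π₀ q' k) := by
    intro q q' k
    simp only [π₀, actFun_mul, MulAut.mul_apply]
    rw [aut_eq_mkFun (actFun e q), cls_natural _ _ (isBasis_aut _), ← aut_eq_mkFun]
    rw [← map_mul, ne_eq, EmbeddingLike.map_eq_one_iff]
    exact (cls_rep k).2
  have hπone : ∀ k, π₀ 1 k = k := by
    intro k
    have : actFun e (1 : Q) = 1 := by ext p; simp [actFun_apply]
    simp only [π₀, this]
    exact (cls_rep k).1
  let π : Q →* Equiv.Perm (Fin 3) :=
    { toFun := fun q => ⟨π₀ q, π₀ q⁻¹,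
        fun k => by rw [← hπmul, inv_mul_cancel, hπone],
        fun k => by rw [← hπmul, mul_inv_cancel, hπone]⟩
      map_one' := Equiv.ext hπone
      map_mul' := fun q q' => Equiv.ext fun k => hπmul q q' k }
  have hker : π.ker = R := by
    apply le_antisymm
    · intro q hq
      have hfix : ∀ k, cls (mkFun (actFun e q (a 1)) (actFun e q (xa 0)) (rep k)) = k := fun k => by
        rw [← aut_eq_mkFun]
        exact congrArg (fun σ : Equiv.Perm (Fin 3) => σ k) (MonoidHom.mem_ker.mp hq)
      obtain ⟨c, hc⟩ := inner_of_fix _ _ (isBasis_aut _) hfix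
      have h1 : ((e.symm c : R) : Q)⁻¹ * q ∈ R := by
        refine hC (Subgroup.mem_centralizer_iff.mpr fun x hx => ?_)
        have h2 := (aut_eq_mkFun (actFun e q) (e ⟨x, hx⟩)).trans (hc _)
        rw [actFun_apply, e.symm_apply_apply] at h2
        have h3 : MulAut.conjNormal q (⟨x, hx⟩ : R) = e.symm c * ⟨x, hx⟩ * (e.symm c)⁻¹ := by
          apply e.injective
          rw [h2]; simp
        have h4 : q * x * q⁻¹ = (e.symm c : Q) * x * (e.symm c : Q)⁻¹ := congrArg Subtype.val h3
        symm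
        calc ((e.symm c : R) : Q)⁻¹ * q * x = ((e.symm c : R) : Q)⁻¹ * (q * x * q⁻¹) * q := by group
          _ = x * (((e.symm c : R) : Q)⁻¹ * q) := by rw [h4]; group
      simpa using R.mul_mem (e.symm c).2 h1
    · intro q hq
      refine MonoidHom.mem_ker.mpr (Equiv.ext fun k => ?_)
      show cls (actFun e q (rep k)) = k
      rw [actFun_apply, show MulAut.conjNormal q (e.symm (rep k)) = ⟨q, hq⟩ * e.symm (rep k) * (⟨q, hq⟩ : R)⁻¹
        from Subtype.ext rfl, map_mul, map_mul, map_inv, e.apply_symm_apply]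
      exact inner_fix _ k
  have hrange : Nat.card π.range ∣ 6 := by
    have := Subgroup.card_subgroup_dvd_card π.range
    rwa [Nat.card_perm, Nat.card_fin] at this
  have hcardQ : Nat.card Q = Nat.card π.range * 8 := by
    rw [← Subgroup.index_mul_card R, hR8, ← hker, Subgroup.index_ker]
  have h6 : Nat.card π.range = 6 := by
    have hle := Nat.le_of_dvd (by norm_num) hrange
    have hbad : ∀ k, Nat.card π.range * 8 = 2 ^ k → False := fun k hk => by
      obtain ⟨P⟩ : Nonempty (Sylow 2 Q) := Sylow.nonempty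
      have hQ : IsPGroup 2 Q := IsPGroup.of_card (hcardQ.trans hk)
      exact hncl ⟨P, (P.is_maximal' (hQ.to_subgroup ⊤) le_top) ▸ inferInstance⟩
    interval_cases h : Nat.card π.range
    · simp at hrange
    · exact absurd rfl (fun _ : (1:ℕ) = 1 => hbad 3 (by norm_num))
    · exact absurd rfl (fun _ : (1:ℕ) = 1 => hbad 4 (by norm_num))
    · exfalso
      have hidx : ¬ 2 ∣ R.index := by
        rw [← hker, Subgroup.index_ker, h]; norm_num
      exact hncl ⟨hRp.toSylow hidx, by rw [IsPGroup.toSylow_coe]; infer_instance⟩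
    · norm_num at hrange
    · norm_num at hrange
    · rfl
  have h48 : Nat.card Q = 48 := by rw [hcardQ, h6]
  -- the central involution
  set z : Q := ((e.symm (a 2) : R) : Q) with hz
  have hzR : z ∈ R := (e.symm (a 2)).2
  have hzz : z * z = 1 := by
    rw [hz, ← Subgroup.coe_mul, ← map_mul, q8_a2.1, map_one, Subgroup.coe_one]
  have hz1 : z ≠ 1 := fun h => q8_a2.2 (by
    have h1 : e.symm (a 2) = 1 := Subtype.ext h
    simpa using congrArg e h1)
  have hsmall : ∀ r ∈ R, r * r = 1 → r = 1 ∨ r = z := by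
    intro r hr h1
    rcases q8_small (e ⟨r, hr⟩) (by rw [← map_mul]; exact e.map_eq_one_iff.mpr (Subtype.ext h1)) with h | h
    · exact Or.inl (congrArg Subtype.val (e.map_eq_one_iff.mp h))
    · exact Or.inr (by rw [hz, ← h, e.symm_apply_apply])
  have hZ : ∀ q : Q, q * z = z * q := by
    intro q
    have h1 := hsmall (q * z * q⁻¹) ((inferInstance : R.Normal).conj_mem z hzR q)
      (by rw [show q * z * q⁻¹ * (q * z * q⁻¹) = q * (z * z) * q⁻¹ by group, hzz]; group)
    rcases h1 with h | h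
    · exact absurd (conj_eq_one_iff.mp h) hz1
    · exact mul_inv_eq_iff_eq_mul.mp h
  have hcenter : (Subgroup.center Q) = Subgroup.zpowers z := by
    apply le_antisymm
    · intro c hc
      have hcR : c ∈ R := hC (Subgroup.mem_centralizer_iff.mpr fun x _ => Subgroup.mem_center_iff.mp hc x)
      have h1 : ∀ p, e ⟨c, hcR⟩ * p = p * e ⟨c, hcR⟩ := fun p => by
        obtain ⟨x, rfl⟩ := e.surjective p
        rw [← map_mul, ← map_mul]
        exact congrArg e (Subtype.ext (Subgroup.mem_center_iff.mp hc x).symm)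
      rcases q8_center _ h1 with h | h
      · rw [show c = 1 from congrArg Subtype.val (e.map_eq_one_iff.mp h)]; exact one_mem _
      · rw [show c = z by rw [hz, ← h, e.symm_apply_apply]]; exact Subgroup.mem_zpowers z
    · rw [Subgroup.zpowers_le, Subgroup.mem_center_iff]; exact hZ
  have hzord : orderOf z = 2 := orderOf_eq_prime (by rw [sq, hzz]) hz1
  have hcard2 : Nat.card (Subgroup.center Q) = 2 := by rw [hcenter, Nat.card_zpowers, hzord]
  have hsurj : Function.Surjective π := by
    rw [← MonoidHom.range_eq_top]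
    refine Subgroup.eq_top_of_card_eq _ ?_
    rw [h6, Nat.card_perm, Nat.card_fin]
    rfl
  -- elements of order three
  have hπ3 : ∀ g : Q, orderOf g = 3 → π g ^ 3 = 1 ∧ π g ≠ 1 := by
    intro g hg
    refine ⟨by rw [← map_pow, orderOf_dvd_iff_pow_eq_one.mp hg.dvd, map_one], fun h => ?_⟩
    have h1 : g ∈ R := hker ▸ MonoidHom.mem_ker.mpr h
    have h2 := R.orderOf_dvd_natCard h1
    rw [hg, hR8] at h2
    omega
  have hcommR : ∀ g : Q, orderOf g = 3 → ∀ r ∈ R, g * r = r * g → r ∈ Subgroup.center Q := by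
    intro g hg r hr hc
    rw [hcenter]
    rcases q8_sq (e ⟨r, hr⟩) with h | h
    · rcases hsmall r hr (congrArg Subtype.val (e.map_eq_one_iff.mp ((map_mul e _ _).trans h))) with h' | h'
      · rw [h']; exact one_mem _
      · rw [h']; exact Subgroup.mem_zpowers z
    · exfalso
      obtain ⟨h3, h1⟩ := hπ3 g hg
      refine perm3_no_fix _ h3 h1 (cls (e ⟨r, hr⟩)) ?_
      have hne : e ⟨r, hr⟩ * e ⟨r, hr⟩ ≠ 1 := by rw [h]; exact q8_a2.2
      show cls (actFun e g (rep (cls (e ⟨r, hr⟩)))) = _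
      rw [aut_eq_mkFun (actFun e g), ← cls_natural _ _ (isBasis_aut _) _ hne, ← aut_eq_mkFun,
        actFun_apply, e.symm_apply_apply]
      congr 2
      exact Subtype.ext (show g * r * g⁻¹ = r by rw [hc, mul_inv_cancel_right])
  have hsyl : ∀ P : Sylow 3 Q, Nat.card (P : Subgroup Q) = 3 := by
    intro P
    rw [P.card_eq_multiplicity, h48, show (48 : ℕ) = 2 ^ 4 * 3 by norm_num,
      Nat.factorization_mul (by norm_num) (by norm_num), Finsupp.add_apply,
      Nat.prime_two.factorization_pow, Nat.prime_three.factorization]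
    simp
  have hgen : ∀ P : Sylow 3 Q, ∃ g, orderOf g = 3 ∧ (P : Subgroup Q) = Subgroup.zpowers g := by
    intro P
    obtain ⟨g, hg⟩ := exists_prime_orderOf_dvd_card' (G := (P : Subgroup Q)) 3 (by rw [hsyl P])
    have hg' : orderOf (g : Q) = 3 := by rw [Subgroup.orderOf_coe, hg]
    exact ⟨g, hg', (Subgroup.eq_of_le_of_card_ge (Subgroup.zpowers_le.mpr g.2)
      (by rw [hsyl P, Nat.card_zpowers, hg'])).symm⟩
  have hNR : ∀ (P : Sylow 3 Q), Subgroup.normalizer ((P : Subgroup Q) : Set Q) ⊓ R = Subgroup.center Q := by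
    intro P
    obtain ⟨g, hg, hP⟩ := hgen P
    refine le_antisymm ?_ (le_inf ?_ ?_)
    · rintro r ⟨hrN, hr⟩
      refine hcommR g hg r hr ?_
      have h1 : g * r * g⁻¹ * r⁻¹ ∈ R := mul_mem ((inferInstance : R.Normal).conj_mem r hr g) (inv_mem hr)
      have hgP : g ∈ (P : Subgroup Q) := hP ▸ Subgroup.mem_zpowers g
      have h2 : g * r * g⁻¹ * r⁻¹ ∈ (P : Subgroup Q) := by
        rw [show g * r * g⁻¹ * r⁻¹ = g * (r * g⁻¹ * r⁻¹) by group]
        exact mul_mem hgP ((Subgroup.mem_normalizer_iff.mp hrN _).mp (inv_mem hgP))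
      have h3 : orderOf (g * r * g⁻¹ * r⁻¹) = 1 := Nat.eq_one_of_dvd_coprimes (by norm_num : Nat.Coprime 8 3)
        (hR8 ▸ R.orderOf_dvd_natCard h1) (hsyl P ▸ (P : Subgroup Q).orderOf_dvd_natCard h2)
      rw [orderOf_eq_one_iff, mul_inv_eq_one, mul_inv_eq_iff_eq_mul] at h3
      exact h3
    · intro c hc
      refine Subgroup.mem_normalizer_iff.mpr fun x => ?_
      rw [← Subgroup.mem_center_iff.mp hc x, mul_inv_cancel_right]
    · exact fun c hc => hC (Subgroup.mem_centralizer_iff.mpr fun x _ => Subgroup.mem_center_iff.mp hc x)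
  have hn4 : Nat.card (Sylow 3 Q) = 4 := by
    obtain ⟨P⟩ : Nonempty (Sylow 3 Q) := Sylow.nonempty
    set N := Subgroup.normalizer ((P : Subgroup Q) : Set Q) with hN
    have h1 : Nat.card (Sylow 3 Q) = N.index := P.card_eq_index_normalizer
    have h2 : Nat.card (Sylow 3 Q) * Nat.card N = 48 := by rw [h1, Subgroup.index_mul_card, h48]
    have h3 := card_sylow_modEq_one 3 Q
    have hPN : (P : Subgroup Q) ≤ N := Subgroup.le_normalizer
    have hd3 : 3 ∣ Nat.card N := hsyl P ▸ Subgroup.card_dvd_of_le hPN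
    have hd2 : 2 ∣ Nat.card N := by
      rw [← hcard2]; refine Subgroup.card_dvd_of_le ?_
      rw [← hNR P]; exact inf_le_left
    have hle : Nat.card N ≤ 12 := by
      have h4 := Subgroup.card_mul_index (R.subgroupOf N)
      have h5 : Nat.card (R.subgroupOf N) = 2 := by
        rw [← Subgroup.inf_subgroupOf_right, inf_comm, hNR P, ← hcard2]
        exact Nat.card_congr (Subgroup.subgroupOfEquivOfLe (by rw [← hNR P]; exact inf_le_left)).toEquiv
      have h7 : (R.subgroupOf N).index ∣ R.index := Subgroup.relIndex_dvd_index_of_normal R N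
      have h8 : R.index = 6 := by
        rw [← hker, Subgroup.index_ker, h6]
      rw [h8] at h7
      rw [h5] at h4
      have := Nat.le_of_dvd (by norm_num) h7
      omega
    have hd6 : 6 ∣ Nat.card N := Nat.Coprime.mul_dvd_of_dvd_of_dvd (by norm_num : Nat.Coprime 2 3) hd2 hd3
    obtain ⟨j, hj⟩ := hd6
    rw [Nat.ModEq] at h3
    have : j ≤ 2 := by omega
    rw [hj] at h2
    interval_cases j <;> omega
  let ψ : Q →* Equiv.Perm (Fin 4) :=
    ((Finite.equivFinOfCardEq hn4).permCongrHom.toMonoidHom).comp (MulAction.toPermHom Q (Sylow 3 Q))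
  have hψfix : ∀ (q : Q) (P : Sylow 3 Q), ψ q (Finite.equivFinOfCardEq hn4 P) = Finite.equivFinOfCardEq hn4 P ↔
      q ∈ Subgroup.normalizer ((P : Subgroup Q) : Set Q) := by
    intro q P
    refine Iff.trans ?_ Sylow.smul_eq_iff_mem_normalizer
    show (Finite.equivFinOfCardEq hn4) (q • (Finite.equivFinOfCardEq hn4).symm (Finite.equivFinOfCardEq hn4 P)) = _ ↔ _
    rw [Equiv.symm_apply_apply, EmbeddingLike.apply_eq_iff_eq]
  have hψker : ψ.ker = Subgroup.center Q := by
    apply le_antisymm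
    · have hall : ∀ q ∈ ψ.ker, ∀ P : Sylow 3 Q, q ∈ Subgroup.normalizer ((P : Subgroup Q) : Set Q) := by
        intro q hq P
        rw [← hψfix q P, MonoidHom.mem_ker.mp hq]
        rfl
      have hD2 : IsPGroup 2 ψ.ker := by
        refine CfsgLib.Inv54.isPGroup_two_of_forall_odd fun d hd => ?_
        by_contra hd1
        have hd48 : orderOf (d : Q) ∣ 48 := h48 ▸ orderOf_dvd_natCard _
        rw [← Subgroup.orderOf_coe] at hd
        have h3 : orderOf (d : Q) ∣ 3 := Nat.Coprime.dvd_of_dvd_mul_left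
          (((Nat.coprime_two_right.mpr hd).pow_right 4) : Nat.Coprime (orderOf (d : Q)) (2 ^ 4)) (hd48 : orderOf (d : Q) ∣ 2 ^ 4 * 3)
        have hd3 : orderOf (d : Q) = 3 := ((Nat.dvd_prime Nat.prime_three).mp h3).resolve_left
          fun h => hd1 (Subtype.ext (orderOf_eq_one_iff.mp h))
        -- `⟨d⟩` lies in, hence is, every Sylow 3-subgroup
        have hall' : ∀ P : Sylow 3 Q, (P : Subgroup Q) = Subgroup.zpowers (d : Q) := by
          intro P
          have hp : IsPGroup 3 (Subgroup.zpowers (d : Q)) :=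
            IsPGroup.of_card (n := 1) (by rw [Nat.card_zpowers, hd3, pow_one])
          have h1 := hp.inf_normalizer_sylow P
          have hle : Subgroup.zpowers (d : Q) ≤ Subgroup.normalizer (P : Set Q) :=
            Subgroup.zpowers_le.mpr (hall d d.2 P)
          rw [inf_eq_left.mpr hle] at h1
          refine (Subgroup.eq_of_le_of_card_ge (h1.le.trans inf_le_right) ?_).symm
          rw [hsyl P, Nat.card_zpowers, hd3]
        have : Subsingleton (Sylow 3 Q) := ⟨fun P P' => Sylow.ext ((hall' P).trans (hall' P').symm)⟩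
        have := Nat.card_of_subsingleton (Classical.arbitrary (Sylow 3 Q))
        omega
      obtain ⟨P⟩ : Nonempty (Sylow 3 Q) := Sylow.nonempty
      intro q hq
      rw [← hNR P]
      exact ⟨hall q hq P, hRcore ψ.ker inferInstance hD2 hq⟩
    · intro c hc
      refine MonoidHom.mem_ker.mpr (Equiv.ext fun k => ?_)
      obtain ⟨P, rfl⟩ := (Finite.equivFinOfCardEq hn4).surjective k
      rw [(hψfix c P).mpr ((le_of_eq (hNR P).symm).trans inf_le_left hc)]
      rfl
  have hψsurj : Function.Surjective ψ := by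
    rw [← MonoidHom.range_eq_top]
    refine Subgroup.eq_top_of_card_eq _ ?_
    have h1 := Subgroup.index_mul_card ψ.ker
    rw [Subgroup.index_ker, hψker, hcard2, h48] at h1
    rw [Nat.card_perm, Nat.card_fin]
    simp only [Nat.factorial]
    omega
  by_cases hinv : ∃ t : Q, orderOf t = 2 ∧ t ∉ R
  · left
    obtain ⟨t, ht, htR⟩ := hinv
    have htt := CfsgLib.Small.mul_self_of_orderOf_two ht
    have hti := CfsgLib.Small.inv_eq_self_of_orderOf_two ht
    obtain ⟨P, hP⟩ : ∃ P : Sylow 3 Q, t ∈ Subgroup.normalizer ((P : Subgroup Q) : Set Q) := by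
      by_contra! hno
      have hfpf : ∀ q : Q, (∀ P : Sylow 3 Q, q ∉ Subgroup.normalizer ((P : Subgroup Q) : Set Q)) →
          ∀ k, ψ q k ≠ k := by
        intro q hq k
        obtain ⟨P, rfl⟩ := (Finite.equivFinOfCardEq hn4).surjective k
        exact fun h => hq P ((hψfix q P).mp h)
      let w : Fin 3 → Q := fun k => ((e.symm (rep k) : R) : Q)
      have hcenR : ∀ (p : QuaternionGroup 2), ((e.symm p : R) : Q) ∈ Subgroup.center Q → p = 1 ∨ p = a 2 := by
        intro p hp
        refine q8_center p fun q => ?_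
        have h1 := Subgroup.mem_center_iff.mp hp ((e.symm q : R) : Q)
        have h2 : e.symm q * e.symm p = e.symm p * e.symm q := Subtype.ext h1
        rw [← map_mul, ← map_mul] at h2
        exact (e.symm.injective h2).symm
      have hwN : ∀ k (P : Sylow 3 Q), w k ∉ Subgroup.normalizer ((P : Subgroup Q) : Set Q) := by
        intro k P hk
        have h1 := (hNR P).le ⟨hk, (e.symm (rep k)).2⟩
        rcases hcenR _ h1 with h | h
        · exact (cls_rep k).2 (by rw [h, one_mul])
        · exact (cls_rep k).2 (by rw [h]; exact q8_a2.1)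
      have hwinv : ∀ k, ψ (w k) * ψ (w k) = 1 := by
        intro k
        rw [← map_mul]
        apply MonoidHom.mem_ker.mp
        rw [hψker, hcenter]
        rcases q8_sq (rep k) with h | h
        · exact absurd h (cls_rep k).2
        · rw [show w k * w k = z by
            show ((e.symm (rep k) * e.symm (rep k) : R) : Q) = _
            rw [← map_mul, h]]
          exact Subgroup.mem_zpowers z
      have hwne : ∀ k l, k ≠ l → ψ (w k) ≠ ψ (w l) := by
        intro k l hkl heq
        have h1 : (w k)⁻¹ * w l ∈ Subgroup.center Q := by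
          rw [← hψker, MonoidHom.mem_ker, map_mul, map_inv, heq, inv_mul_cancel]
        have h2 : (w k)⁻¹ * w l = ((e.symm ((rep k)⁻¹ * rep l) : R) : Q) := by
          simp [w, map_mul, map_inv]
        rw [h2] at h1
        rcases hcenR _ h1 with h | h
        · exact (q8_reps k l hkl).1 h
        · exact (q8_reps k l hkl).2 h
      have htmem : ψ t = ψ (w 0) ∨ ψ t = ψ (w 1) ∨ ψ t = ψ (w 2) := by
        have ht' := perm4_fpf (ψ t) (by rw [← map_mul, htt, map_one]) (hfpf t hno)
        have h0 := perm4_fpf _ (hwinv 0) (hfpf _ (hwN 0))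
        have h1 := perm4_fpf _ (hwinv 1) (hfpf _ (hwN 1))
        have h2 := perm4_fpf _ (hwinv 2) (hfpf _ (hwN 2))
        have n01 := hwne 0 1 (by decide)
        have n02 := hwne 0 2 (by decide)
        have n12 := hwne 1 2 (by decide)
        grind
      have hfinal : ∀ k, ψ t = ψ (w k) → False := by
        intro k hk
        apply htR
        have h1 : (w k)⁻¹ * t ∈ Subgroup.center Q := by
          rw [← hψker, MonoidHom.mem_ker, map_mul, map_inv, hk, inv_mul_cancel]
        have h2 : (w k)⁻¹ * t ∈ R := hC (Subgroup.mem_centralizer_iff.mpr fun x _ => Subgroup.mem_center_iff.mp h1 x)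
        have h3 := R.mul_mem (e.symm (rep k)).2 h2
        rwa [show ((e.symm (rep k) : R) : Q) = w k from rfl, mul_inv_cancel_left] at h3
      rcases htmem with h | h | h <;> exact hfinal _ h
    obtain ⟨g, hg, hPg⟩ := hgen P
    have hgmem : t * g * t⁻¹ ∈ Subgroup.zpowers g :=
      hPg ▸ (Subgroup.mem_normalizer_iff.mp hP g).mp (hPg ▸ Subgroup.mem_zpowers g)
    have htg : t * g * t⁻¹ = g⁻¹ := by
      have hcases : t * g * t⁻¹ = 1 ∨ t * g * t⁻¹ = g ∨ t * g * t⁻¹ = g⁻¹ := by
        obtain ⟨j, hj⟩ := Subgroup.mem_zpowers_iff.mp hgmem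
        have hg3 : g ^ (3 : ℤ) = 1 := by
          rw [show (3 : ℤ) = ((3 : ℕ) : ℤ) from rfl, zpow_natCast, ← hg, pow_orderOf_eq_one]
        rw [← hj, ← Int.emod_add_mul_ediv j 3, zpow_add, zpow_mul, hg3, one_zpow, mul_one]
        have h1 := Int.emod_nonneg j (by norm_num : (3:ℤ) ≠ 0)
        have h2 := Int.emod_lt_of_pos j (by norm_num : (0:ℤ) < 3)
        interval_cases (j % 3)
        · simp
        · simp
        · right; right
          rw [eq_inv_iff_mul_eq_one, ← zpow_add_one]
          exact hg3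
      rcases hcases with h | h | h
      · rw [conj_eq_one_iff] at h; rw [h, orderOf_one] at hg; omega
      · exfalso
        apply htR
        rw [← hker, MonoidHom.mem_ker]
        obtain ⟨h3, h1⟩ := hπ3 g hg
        refine perm3_comm _ h3 h1 _ (by rw [← map_mul, htt, map_one]) ?_
        rw [← map_mul, ← map_mul, mul_inv_eq_iff_eq_mul.mp h]
      · exact h
    have hggg : g * g * g = 1 := by rw [← pow_three', orderOf_dvd_iff_pow_eq_one.mp hg.dvd]
    have hγ : actFun e g * actFun e g * actFun e g = 1 := by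
      rw [← actFun_mul, ← actFun_mul, hggg]
      ext p; simp [actFun_apply]
    have hγ1 : actFun e g ≠ 1 := by
      intro h
      have h1 : π g = 1 := Equiv.ext fun k => by
        show cls (actFun e g (rep k)) = k
        rw [h]; exact (cls_rep k).1
      exact (hπ3 g hg).2 h1
    have hτ : actFun e t * actFun e t = 1 := by
      rw [← actFun_mul, htt]; ext p; simp [actFun_apply]
    have hrel : actFun e t * actFun e g * actFun e t = actFun e g * actFun e g := by
      rw [← actFun_mul, ← actFun_mul, ← actFun_mul]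
      congr 1
      rw [hti] at htg
      rw [htg, eq_comm, ← mul_eq_one_iff_eq_inv]
      exact hggg
    obtain ⟨σ, hσg, hσt⟩ := exists_conj_standard_aut _ _ hγ hγ1 hτ hrel
    obtain ⟨m₁⟩ := nonempty_equiv_model h48 R hC (e.trans σ) hg ht htg htR
      (fun r => by
        show σ (e (MulAut.conjNormal g r)) = gamma0 (σ (e r))
        rw [← hσg, actFun_apply, e.symm_apply_apply])
      (fun r => by
        show σ (e (MulAut.conjNormal t r)) = tau0 (σ (e r))
        rw [← hσt, actFun_apply, e.symm_apply_apply])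
    obtain ⟨m₂⟩ := nonempty_gl23_equiv_model
    exact ⟨m₁.trans m₂.symm⟩
  · right
    push Not at hinv
    refine ⟨h48, hcard2, ⟨(QuotientGroup.quotientMulEquivOfEq hψker.symm).trans
      (QuotientGroup.quotientKerEquivOfSurjective ψ hψsurj)⟩, fun P => ?_⟩
    have hP16 : Nat.card (P : Subgroup Q) = 16 := by
      rw [P.card_eq_multiplicity, h48, show (48 : ℕ) = 2 ^ 4 * 3 by norm_num,
        Nat.factorization_mul (by norm_num) (by norm_num), Finsupp.add_apply,
        Nat.prime_two.factorization_pow, Nat.prime_three.factorization]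
      simp
    have hu : CfsgLib.TwoGroupsQ.HasUniqueOrderP (P : Subgroup Q) 2 := by
      refine CfsgLib.TwoGroupsQ.hasUniqueOrderP_two fun x y hx hx1 hy hy1 => ?_
      have hex : ∀ w : (P : Subgroup Q), w ^ 2 = 1 → w ≠ 1 → (w : Q) = z := by
        intro w hw hw1
        have ho : orderOf (w : Q) = 2 := by rw [Subgroup.orderOf_coe]; exact orderOf_eq_prime hw hw1
        exact (hsmall _ (hinv _ ho) (CfsgLib.Small.mul_self_of_orderOf_two ho)).resolve_left
          (CfsgLib.Small.ne_one_of_orderOf_two ho)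
      exact Subtype.ext ((hex x hx hx1).trans (hex y hy hy1).symm)
    rcases CfsgLib.TwoGroupsQ.isCyclic_or_quaternion P.isPGroup' hu with hc | ⟨-, m, -, ⟨eP⟩⟩
    · exfalso
      have hle : R ≤ (P : Subgroup Q) := hRp.le_sylow_of_normal P
      have : IsCyclic R := isCyclic_of_injective (Subgroup.inclusion hle) (Subgroup.inclusion_injective _)
      have := e.isCyclic.mp this
      obtain ⟨w, hw⟩ := this.exists_generator
      have h8 : ∀ p : QuaternionGroup 2, p ^ 4 = 1 := by decide
      have := orderOf_eq_card_of_forall_mem_zpowers hw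
      rw [Nat.card_eq_fintype_card, QuaternionGroup.card] at this
      have h4 := Nat.le_of_dvd (by norm_num) (orderOf_dvd_of_pow_eq_one (h8 w))
      omega
    · have h1 := Nat.card_congr eP.toEquiv
      rw [hP16, Nat.card_eq_fintype_card, QuaternionGroup.card] at h1
      have hm : 2 ^ m = 4 := by omega
      rw [hm] at eP
      exact ⟨eP⟩


/-- Let G be a finite solvable group in which the intersection of any two distinct Sylow 2-subgroups has 2-rank at most 1 (contains no Klein four-group). Write Q = G/O(G), O(G) the largest normal subgroup of odd order. Then Q has a normal Sylow 2-subgroup; or Q is isomorphic to GL(2,3); or Q has order 48, centre of order 2 with central quotient isomorphic to the symmetric group of degree 4, and generalized quaternion Sylow 2-subgroups of order 16 (the binary octahedral group). The last two are the two representation groups of the symmetric group of degree 4. -/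
theorem result {G : Type*} [Group G] [Finite G] (hs : Group.IsSolvable G)
    (hI : ∀ S T : Sylow 2 G, S ≠ T → Cfsg.PRankLE 2 1 ↥((S : Subgroup G) ⊓ (T : Subgroup G))) :
    (∃ P : Sylow 2 (G ⧸ Cfsg.oddCore G), (P : Subgroup (G ⧸ Cfsg.oddCore G)).Normal) ∨
    Nonempty ((G ⧸ Cfsg.oddCore G) ≃* GL (Fin 2) (ZMod 3)) ∨
    (Nat.card (G ⧸ Cfsg.oddCore G) = 48 ∧ Nat.card ↥(Subgroup.center (G ⧸ Cfsg.oddCore G)) = 2 ∧
      Nonempty ((G ⧸ Cfsg.oddCore G) ⧸ Subgroup.center (G ⧸ Cfsg.oddCore G) ≃* Equiv.Perm (Fin 4)) ∧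
      ∀ P : Sylow 2 (G ⧸ Cfsg.oddCore G), Nonempty (↥(P : Subgroup (G ⧸ Cfsg.oddCore G)) ≃* QuaternionGroup 4)) := by
  have := CfsgLib.Inv54.fact_two
  by_cases hcl : ∃ P : Sylow 2 (G ⧸ Cfsg.oddCore G), (P : Subgroup (G ⧸ Cfsg.oddCore G)).Normal
  · exact Or.inl hcl
  refine Or.inr ?_
  set O := Cfsg.oddCore G with hO
  set R := Cfsg.pCore 2 (G ⧸ O) with hRdef
  have hRp : IsPGroup 2 R := CfsgLib.PLocal.isPGroup_pCore 2 (G ⧸ O)
  have hC := CfsgLib.Inv54.centralizer_pCore_two_quotient_le hs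
  obtain ⟨S₀⟩ : Nonempty (Sylow 2 (G ⧸ O)) := Sylow.nonempty
  obtain ⟨g, hg⟩ : ∃ g : G ⧸ O, g • S₀ ≠ S₀ := by
    by_contra! h
    exact hcl ⟨S₀, Subgroup.normalizer_eq_top_iff.mp
      (eq_top_iff.mpr fun g _ => Sylow.smul_eq_iff_mem_normalizer.mp (h g))⟩
  have hf := QuotientGroup.mk'_surjective O
  obtain ⟨P, hP, hPR⟩ := CfsgLib.Inv54.exists_pGroup_map_eq hf hRp
  obtain ⟨S₁, hS₁, hS₁S⟩ := CfsgLib.Inv54.exists_sylow_ge_map_eq hf (g • S₀) hP
    (hPR.trans_le (CfsgLib.PLocal.pCore_le_sylow _))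
  obtain ⟨T₁, hT₁, hT₁T⟩ := CfsgLib.Inv54.exists_sylow_ge_map_eq hf S₀ hP
    (hPR.trans_le (CfsgLib.PLocal.pCore_le_sylow _))
  have hrank := hI S₁ T₁ (fun h => hg (Sylow.ext (by rw [← hS₁S, ← hT₁T, h])))
  let f : P →* R := ((QuotientGroup.mk' O).comp P.subtype).codRestrict R
    (fun x => hPR.le ⟨x, x.2, rfl⟩)
  have hfinj : Function.Injective f := by
    rw [injective_iff_map_eq_one]
    intro x hx
    have hxO : (x : G) ∈ O := (QuotientGroup.eq_one_iff (x : G)).mp (congrArg Subtype.val hx)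
    have h1 : (x : G) ∈ P ⊓ O := ⟨x.2, hxO⟩
    rw [CfsgLib.PLocal.disjoint_of_isPGroup_of_coprime hP
      (CfsgLib.PLocal.coprime_card_pPrimeCore 2 G)] at h1
    exact Subtype.ext (Subgroup.mem_bot.mp h1)
  have hfsurj : Function.Surjective f := fun y => by
    obtain ⟨x, hx, hxy⟩ := hPR.ge y.2
    exact ⟨⟨x, hx⟩, Subtype.ext hxy⟩
  let eR : R ≃* P := (MulEquiv.ofBijective f ⟨hfinj, hfsurj⟩).symm
  -- `R` has at most one involution
  have hcomm : ∀ x y : R, x ^ 2 = 1 → x ≠ 1 → y ^ 2 = 1 → y ≠ 1 → x * y = y * x → x = y := by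
    intro x y hx hx1 hy hy1 hxy
    by_contra hne
    let ι : R →* ↥((S₁ : Subgroup G) ⊓ (T₁ : Subgroup G)) :=
      (Subgroup.inclusion (le_inf hS₁ hT₁)).comp eR.toMonoidHom
    have hι : Function.Injective ι :=
      (Subgroup.inclusion_injective (le_inf hS₁ hT₁)).comp eR.injective
    have hxx : x * x = 1 := by rw [← sq]; exact hx
    have hyy : y * y = 1 := by rw [← sq]; exact hy
    let A : Subgroup R :=
      { carrier := {1, x, y, x * y}
        one_mem' := by simp
        mul_mem' := by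
          have hA1 : x * (x * y) = y := by rw [← mul_assoc, hxx, one_mul]
          have hA2 : y * (x * y) = x := by rw [hxy, ← mul_assoc, hyy, one_mul]
          have hA3 : (x * y) * x = y := by rw [hxy, mul_assoc, hxx, mul_one]
          have hA4 : (x * y) * y = x := by rw [mul_assoc, hyy, mul_one]
          have hA5 : (x * y) * (x * y) = 1 := by rw [mul_assoc, hA2, hxx]
          rintro a b (rfl | rfl | rfl | rfl) (rfl | rfl | rfl | rfl) <;>
            simp [hxx, hyy, hA1, hA2, hA3, hA4, hA5, hxy.symm]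
        inv_mem' := by
          have hxi : x⁻¹ = x := inv_eq_of_mul_eq_one_right hxx
          have hyi : y⁻¹ = y := inv_eq_of_mul_eq_one_right hyy
          rintro a (rfl | rfl | rfl | rfl) <;> simp [hxi, hyi, hxy.symm] }
    have hAmem : ∀ a ∈ A, a * a = 1 := by
      rintro a (rfl | rfl | rfl | rfl)
      · simp
      · exact hxx
      · exact hyy
      · rw [mul_assoc, ← mul_assoc y, ← hxy, mul_assoc, hyy, mul_one, hxx]
    have hA2 : ∀ a ∈ A.map ι, a ^ 2 = 1 := by
      rintro _ ⟨a, ha, rfl⟩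
      rw [← map_pow, sq, hAmem a ha, map_one]
    have hAc : IsMulCommutative (A.map ι) := ⟨⟨fun a b => by
      have ha := hA2 a a.2
      have hb := hA2 b b.2
      have hab := hA2 (a * b : A.map ι) (a * b : A.map ι).2
      apply Subtype.ext
      show (a : ↥((S₁ : Subgroup G) ⊓ (T₁ : Subgroup G))) * b = b * a
      rw [Subgroup.coe_mul, sq] at hab
      rw [sq] at ha hb
      calc (a : ↥((S₁ : Subgroup G) ⊓ (T₁ : Subgroup G))) * b
          = ((a : ↥((S₁ : Subgroup G) ⊓ (T₁ : Subgroup G))) * b)⁻¹ := eq_inv_of_mul_eq_one_left hab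
        _ = b * a := by rw [mul_inv_rev, inv_eq_of_mul_eq_one_right ha, inv_eq_of_mul_eq_one_right hb]⟩⟩
    have hle := hrank (A.map ι) hAc hA2
    rw [Subgroup.card_map_of_injective hι] at hle
    have h3 : ({1, x, y} : Set R).ncard ≤ (A : Set R).ncard := by
      refine Set.ncard_le_ncard ?_ (Set.toFinite _)
      rintro a (rfl | rfl | rfl) <;> simp [A]
    rw [← Nat.card_coe_set_eq (A : Set R)] at h3
    have h4 : ({1, x, y} : Set R).ncard = 3 :=
      Set.ncard_eq_three.mpr ⟨1, x, y, Ne.symm hx1, Ne.symm hy1, hne, rfl⟩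
    have h5 : Nat.card (A : Set R) ≤ 2 ^ 1 := hle
    omega
  have hu : CfsgLib.TwoGroupsQ.HasUniqueOrderP R 2 := by
    refine CfsgLib.TwoGroupsQ.hasUniqueOrderP_two fun x y hx hx1 hy hy1 => ?_
    have : Nontrivial R := ⟨x, 1, hx1⟩
    have : Nontrivial (Subgroup.center R) := hRp.center_nontrivial
    obtain ⟨c, hc⟩ := exists_prime_orderOf_dvd_card' (G := Subgroup.center R) 2
      ((hRp.to_subgroup (Subgroup.center R)).card_eq_or_dvd.resolve_left Finite.one_lt_card.ne')
    have hco : orderOf (c : R) = 2 := by rw [Subgroup.orderOf_coe, hc]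
    have hc1 := CfsgLib.Small.ne_one_of_orderOf_two hco
    have hc2 : (c : R) ^ 2 = 1 := orderOf_dvd_iff_pow_eq_one.mp hco.dvd
    have hcc : ∀ w : R, w * c = c * w := Subgroup.mem_center_iff.mp c.2
    rw [hcomm x c hx hx1 hc2 hc1 (hcc x), hcomm y c hy hy1 hc2 hc1 (hcc y)]
  have hnot2 : ¬ IsPGroup 2 (G ⧸ O) := fun h =>
    hcl ⟨S₀, (S₀.is_maximal' (h.to_subgroup ⊤) le_top) ▸ inferInstance⟩
  rcases CfsgLib.TwoGroupsQ.isCyclic_or_quaternion hRp hu with hc | ⟨-, m, hm, ⟨e⟩⟩
  · exact absurd (CfsgLib.Inv54.isPGroup_of_cyclic_normal_self_centralizing hRp hC) hnot2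
  rcases (show m = 1 ∨ 2 ≤ m by omega) with rfl | hm2
  · exact structure_q8 R (fun N hN hN2 => le_sSup ⟨hN, hN2⟩) hC e hcl
  · exfalso
    refine hnot2 (CfsgLib.Inv54.isPGroup_two_of_forall_odd fun g hg => ?_)
    set v : G ⧸ O := ((e.symm (QuaternionGroup.a 1) : R) : G ⧸ O) with hv
    let A := Subgroup.zpowers v
    have hAR : A ≤ R := Subgroup.zpowers_le.mpr (e.symm _).2
    have hA : IsPGroup 2 A := hRp.to_le hAR
    have hvord : 8 ≤ orderOf v := by
      rw [hv, Subgroup.orderOf_coe, MulEquiv.orderOf_eq, QuaternionGroup.orderOf_a_one]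
      have : 2 ^ 2 ≤ 2 ^ m := Nat.pow_le_pow_right (by norm_num) hm2
      omega
    have hmemA : ∀ x (hx : x ∈ R), ∀ i, e ⟨x, hx⟩ = QuaternionGroup.a i → x ∈ A := by
      intro x hx i hi
      obtain ⟨k, rfl⟩ := ZMod.natCast_zmod_surjective (n := 2 * 2 ^ m) i
      refine ⟨(k : ℤ), ?_⟩
      show v ^ (k : ℤ) = x
      rw [zpow_natCast, hv, ← SubgroupClass.coe_pow, ← map_pow, QuaternionGroup.a_one_pow, ← hi,
        e.symm_apply_apply]
    have hgA : g ∈ Subgroup.normalizer (A : Set (G ⧸ O)) := by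
      have h1 : g * v * g⁻¹ ∈ R :=
        (inferInstance : R.Normal).conj_mem _ (e.symm _).2 g
      have h2 : g * v * g⁻¹ ∈ A := by
        cases hxx : e ⟨_, h1⟩ with
        | a i => exact hmemA _ h1 i hxx
        | xa i =>
          exfalso
          have h3 : orderOf (g * v * g⁻¹) = 4 := by
            rw [← Subgroup.orderOf_mk _ h1, ← MulEquiv.orderOf_eq e, hxx, QuaternionGroup.orderOf_xa]
          rw [CfsgLib.Small.orderOf_conj_eq] at h3
          omega
      refine Subgroup.mem_normalizer_fintype fun y hy => ?_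
      obtain ⟨k, rfl⟩ := Subgroup.mem_zpowers_iff.mp hy
      show g * v ^ k * g⁻¹ ∈ A
      rw [← conj_zpow]
      exact A.zpow_mem h2 k
    have hcent : ∀ y ∈ A, g * y = y * g := fun y hy =>
      CfsgLib.Inv54.commute_of_odd_of_cyclic hA hg hgA hy
    have hgR : g ∈ R := by
      refine hC (Subgroup.mem_centralizer_iff.mpr fun x hx => (?_ : g * x = x * g).symm)
      by_cases hxA : x ∈ A
      · exact hcent x hxA
      refine CfsgLib.Inv54.commute_of_stabilizes_chain hA hg hcent ?_
      have hx' : g * x * g⁻¹ ∈ R := (inferInstance : R.Normal).conj_mem _ hx g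
      have hxA2 : g * x * g⁻¹ ∉ A := fun h => hxA ((Subgroup.mem_normalizer_iff.mp hgA x).mpr h)
      cases hxx : e ⟨x, hx⟩ with
      | a i => exact absurd (hmemA x hx i hxx) hxA
      | xa i =>
        cases hxy : e ⟨g * x * g⁻¹, hx'⟩ with
        | a j => exact absurd (hmemA _ hx' j hxy) hxA2
        | xa j =>
          refine hmemA _ (R.mul_mem (R.inv_mem hx) hx') (j - i) ?_
          show e (⟨x, hx⟩⁻¹ * ⟨g * x * g⁻¹, hx'⟩) = _
          rw [map_mul, map_inv, hxx, hxy, inv_mul_eq_iff_eq_mul, QuaternionGroup.xa_mul_a, add_sub_cancel]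
    obtain ⟨k, hk⟩ := hRp ⟨g, hgR⟩
    exact orderOf_eq_one_iff.mp (Nat.eq_one_of_dvd_coprimes
      ((Nat.coprime_two_left.mpr hg).pow_left k)
      (orderOf_dvd_of_pow_eq_one (congrArg Subtype.val hk)) dvd_rfl)

end Cfsg.Agent.S3304
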