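import Cfsg.Statements.S3309
import Cfsg.Agent.Inv54.CentralizerFour

set_option autoImplicit false
open Cfsg

namespace Cfsg.Agent.S3309

open scoped Pointwise

/-- The model of a Sylow 2-subgroup. -/
abbrev P : Type := Multiplicative (ZMod 2) × DihedralGroup 4

/-- The central involution of the first factor. -/
def aP : P := (Multiplicative.ofAdd 1, 1)

/-- The central involution of the dihedral factor. -/
def zP : P := (1, DihedralGroup.r 2)

/-- The parity of an element of the dihedral group. -/
def par : DihedralGroup 4 → Bool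
  | .r i => i.val % 2 == 0
  | .sr i => i.val % 2 == 0

/-- Membership in the elementary abelian subgroup of order 8 with reflections of parity `q`. -/
def inE (q : Bool) (p : P) : Bool :=
  match p.2 with
  | .r i => i.val % 2 == 0
  | .sr i => (i.val % 2 == 0) == q

/-- A reflection of parity `q`. -/
def refl (q : Bool) : P := (1, DihedralGroup.sr (if q then 0 else 1))

/-- The subgroup `E_q`. -/
def E (q : Bool) : Subgroup P where
  carrier := {p | inE q p = true}
  one_mem' := by cases q <;> decide
  mul_mem' := by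
    intro x y hx hy
    have key : ∀ (q : Bool) (x y : P), inE q x = true → inE q y = true → inE q (x * y) = true := by
      decide
    exact key q x y hx hy
  inv_mem' := by
    intro x hx
    have key : ∀ (q : Bool) (x : P), inE q x = true → inE q x⁻¹ = true := by decide
    exact key q x hx

theorem mem_E {q : Bool} {p : P} : p ∈ E q ↔ inE q p = true := Iff.rfl

/-- The transfer homomorphism: it is `1` on the central involution `aP` and takes prescribed
values on the two reflection classes. -/
def phi (ε : Bool → Bool) (p : P) : Bool :=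
  xor (decide (p.1 = Multiplicative.ofAdd 1)) <|
    match p.2 with
    | .r i => if i.val % 2 == 0 then false else xor (ε true) (ε false)
    | .sr i => ε (i.val % 2 == 0)

theorem phi_facts : ∀ (u v : Bool) (x y : P),
    phi (fun q => cond q u v) (x * y) = xor (phi (fun q => cond q u v) x) (phi (fun q => cond q u v) y) := by
  decide

/-- The kernel of `phi`. -/
def Mker (u v : Bool) : Subgroup P where
  carrier := {p | phi (fun q => cond q u v) p = false}
  one_mem' := by cases u <;> cases v <;> decide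
  mul_mem' := by
    intro x y hx hy
    show phi _ (x * y) = false
    rw [phi_facts, show phi _ x = false from hx, show phi _ y = false from hy]; rfl
  inv_mem' := by
    intro x hx
    have key : ∀ (u v : Bool) (x : P), phi (fun q => cond q u v) x = false →
        phi (fun q => cond q u v) x⁻¹ = false := by decide
    exact key u v x hx

theorem mem_Mker {u v : Bool} {p : P} : p ∈ Mker u v ↔ phi (fun q => cond q u v) p = false := Iff.rfl

theorem index_Mker (u v : Bool) : (Mker u v).index = 2 := by
  rw [Subgroup.index_eq_two_iff]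
  refine ⟨aP, fun b => ?_⟩
  have key : ∀ (u v : Bool) (b : P), Xor' (phi (fun q => cond q u v) (b * aP) = false)
      (phi (fun q => cond q u v) b = false) := by unfold Xor'; decide
  exact key u v b

theorem aP_comm : ∀ q : P, aP * q = q * aP := by decide
theorem zP_comm : ∀ q : P, zP * q = q * zP := by decide
theorem aPzP_comm : ∀ q : P, aP * zP * q = q * (aP * zP) := by decide
theorem central_cases : ∀ x : P, x * x = 1 → (∀ q, x * q = q * x) →
    x = 1 ∨ x = aP ∨ x = zP ∨ x = aP * zP := by decide
theorem sq_cases : ∀ x : P, x * x = zP ∨ x * x = 1 := by decide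
theorem zP_eq : zP = ((1, DihedralGroup.r 1) * (1, DihedralGroup.r 1) : P) := by decide
theorem zP_ne_one : (zP : P) ≠ 1 := by decide
theorem r_sq_ne_one : ((1, DihedralGroup.r 1) * (1, DihedralGroup.r 1) : P) ≠ 1 := by decide
theorem aP_ne_one : (aP : P) ≠ 1 := by decide
theorem aP_sq : aP ^ 2 = (1 : P) := by decide
theorem zP_ne_aP : (zP : P) ≠ aP := by decide
theorem zP_sq : zP * zP = (1 : P) := by decide
theorem aPzP_ne_aP : aP * zP ≠ (aP : P) := by decide
theorem aPzP_sq : aP * zP * (aP * zP) = (1 : P) := by decide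
theorem aPzP_ne_one : aP * zP ≠ (1 : P) := by decide
theorem zP_ne_aPzP : zP ≠ (aP * zP : P) := by decide
theorem aPzPzP : aP * zP * zP = (aP : P) := by decide
theorem zPaPzP : zP * (aP * zP) = (aP : P) := by decide
theorem inE_conj : ∀ (q : Bool) (x p : P), inE q p = true → inE q (x * p * x⁻¹) = true := by decide
theorem inE_sq : ∀ (q : Bool) (p : P), inE q p = true → p * p = 1 := by decide
theorem inE_comm : ∀ (q : Bool) (x y : P), inE q x = true → inE q y = true → x * y = y * x := by decide
theorem inE_card : ∀ q : Bool, Fintype.card {p : P // inE q p = true} = 8 := by decide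
theorem inE_of_comm : ∀ x y : P, x * x = 1 → y * y = 1 → x * y = y * x → inE true x = false →
    inE false y = true := by decide +kernel
theorem refl_mem : ∀ q q' : Bool, inE q' (refl q) = true ↔ q = q' := by decide
theorem inE_of_comm_refl : ∀ (q : Bool) (x : P), refl q * x = x * refl q → inE q x = true := by decide
theorem inE_cases : ∀ (q : Bool) (p : P), inE q p = true → p ≠ 1 → p ≠ zP → p ≠ aP * zP →
    p = aP ∨ (∃ x, p = x * refl q * x⁻¹) ∨ (∃ x, p = x * (aP * refl q) * x⁻¹) := by decide
theorem zP_mem : ∀ q : Bool, inE q zP = true ∧ inE q (aP * zP) = true := by decide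
theorem refl_ne_aP : ∀ q : Bool, refl q ≠ aP := by decide
theorem Mker_cases : ∀ (u v : Bool) (p : P), phi (fun q => cond q u v) p = false → p * p = 1 →
    p ≠ 1 → p = zP ∨ (∃ x, p = x * (if u then aP * refl true else refl true) * x⁻¹) ∨
      (∃ x, p = x * (if v then aP * refl false else refl false) * x⁻¹) := by decide

variable {G : Type*} [Group G] [Finite G]

omit [Finite G] in
theorem map_conj_mul (K : Subgroup G) (a b : G) :
    (K.map (MulAut.conj b).toMonoidHom).map (MulAut.conj a).toMonoidHom =
      K.map (MulAut.conj (a * b)).toMonoidHom := by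
  rw [Subgroup.map_map]
  congr 1
  ext x
  simp [mul_assoc]

/-- An element of odd multiple acting trivially: `n` fixes `x` once `n²` and `n^m`, `m` odd, do. -/
theorem fix_of_sq_of_odd {α : Type*} [MulAction G α] (n : G) (x : α) {m : ℕ} (hm : Odd m)
    (h2 : n • n • x = x) (h : n ^ m • x = x) : n • x = x := by
  obtain ⟨j, rfl⟩ := hm
  have hj : ∀ i : ℕ, n ^ (2 * i) • x = x := by
    intro i
    induction i with
    | zero => simp
    | succ i ih => rw [Nat.mul_succ, pow_add, mul_smul, sq, mul_smul, h2, ih]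
  rw [pow_succ', mul_smul, hj] at h
  exact h


/-- A finite group whose Sylow 2-subgroups are isomorphic to the direct product of a group of order 2 and the dihedral group of order 8 is not a non-abelian simple group. -/
theorem result {G : Type*} [Group G] [Finite G] (S : Sylow 2 G) (hS : Nonempty (↥(S : Subgroup G) ≃* Multiplicative (ZMod 2) × DihedralGroup 4))
    [IsSimpleGroup G] (hG : ¬ IsMulCommutative G) : False := by
  classical
  have : Fact (Nat.Prime 2) := ⟨Nat.prime_two⟩
  obtain ⟨e⟩ := hS
  let f : P →* G := (S : Subgroup G).subtype.comp e.symm.toMonoidHom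
  have hf : Function.Injective f := (S : Subgroup G).subtype_injective.comp e.symm.injective
  have hfS : ∀ p, f p ∈ (S : Subgroup G) := fun p => (e.symm p).2
  have hsurj : ∀ g ∈ (S : Subgroup G), ∃ p, f p = g := fun g hg =>
    ⟨e ⟨g, hg⟩, congrArg Subtype.val (e.symm_apply_apply ⟨g, hg⟩)⟩
  -- elements of odd-multiple powers in the normaliser of `S`
  have hpow : ∀ n ∈ Subgroup.normalizer ((S : Subgroup G) : Set G),
      ∃ m, Odd m ∧ n ^ m ∈ (S : Subgroup G) := by
    intro n hn
    obtain ⟨k, m, hm, hk⟩ := Nat.exists_eq_pow_mul_and_not_dvd (orderOf_pos n).ne' 2 (by norm_num)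
    refine ⟨m, Nat.not_even_iff_odd.mp fun he => hm (even_iff_two_dvd.mp he), ?_⟩
    have hp : IsPGroup 2 (Subgroup.zpowers (n ^ m)) := by
      refine IsPGroup.of_card (n := k) ?_
      rw [Nat.card_zpowers, orderOf_pow_of_dvd (fun h => by simp [h] at hm) (by rw [hk]; exact dvd_mul_left m _), hk,
        Nat.mul_div_cancel _ (Nat.pos_of_ne_zero fun h => by simp [h] at hm)]
    have h1 := hp.inf_normalizer_sylow S
    have h2 : n ^ m ∈ Subgroup.zpowers (n ^ m) ⊓ Subgroup.normalizer ((S : Subgroup G) : Set G) :=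
      ⟨Subgroup.mem_zpowers _, pow_mem hn m⟩
    exact ((h1.le : _) h2).2
  -- conjugation by an element of the normaliser, read in `P`
  have hnorm : ∀ n ∈ Subgroup.normalizer ((S : Subgroup G) : Set G),
      ∃ σ : P ≃* P, ∀ p, f (σ p) = n * f p * n⁻¹ := by
    intro n hn
    refine ⟨(e.symm.trans ((S : Subgroup G).normalizerMonoidHom ⟨n, hn⟩)).trans e, fun p => ?_⟩
    show ((e.symm (e _) : S) : G) = _
    rw [e.symm_apply_apply]
    rfl
  have hcen : ∀ p : P, (∀ q, p * q = q * p) → f p ∈ Subgroup.centralizer ((S : Subgroup G) : Set G) := by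
    intro p hp
    refine Subgroup.mem_centralizer_iff.mpr fun g hg => ?_
    obtain ⟨q, rfl⟩ := hsurj g hg
    rw [← map_mul, ← map_mul, hp]
  have haP := aP_comm
  have hzP := zP_comm
  -- `a` is not conjugate to other central involutions
  have hcentral : ∀ p : P, p ≠ aP → p * p = 1 → (∀ q, p * q = q * p) → ¬ IsConj (f aP) (f p) := by
    intro p hpa hp2 hp hconj
    obtain ⟨g, hg⟩ := isConj_iff.mp hconj
    obtain ⟨n, hn, hne⟩ := Sylow.conj_eq_normalizer_conj_of_mem_centralizer S (f aP) g⁻¹
      (hcen _ haP) (by rw [inv_inv, hg]; exact hcen _ hp)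
    rw [inv_inv, hg] at hne
    obtain ⟨σ, hσ⟩ := hnorm _ (inv_mem hn)
    simp only [inv_inv] at hσ
    have hσa : σ aP = p := hf (by rw [hσ, ← hne])
    have key := central_cases
    have hz : σ zP = zP := by
      have := sq_cases
      have h1 := zP_eq
      rw [h1, map_mul]
      rcases this (σ (1, DihedralGroup.r 1)) with h | h
      · rw [h, h1]
      · exfalso
        rw [← map_mul, ← map_one σ] at h
        exact absurd (σ.injective h) r_sq_ne_one
    have h2 : σ (σ aP) = aP := by
      have hp1 : p ≠ 1 := by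
        intro h
        rw [h, ← map_one σ] at hσa
        exact absurd (σ.injective hσa) aP_ne_one
      rcases key p hp2 hp with h | h | h | h
      · exact absurd h hp1
      · exact absurd h hpa
      · rw [h, ← hz] at hσa
        exact absurd (σ.injective hσa) zP_ne_aP.symm
      · rw [hσa, h, map_mul, hσa, hz, h]
        exact aPzPzP
    obtain ⟨m, hm, hmS⟩ := hpow _ (inv_mem hn)
    have : Finite (ConjAct G) := Finite.of_equiv G ConjAct.toConjAct.toEquiv
    have hfix := fix_of_sq_of_odd (G := ConjAct G) (α := G) (ConjAct.toConjAct n⁻¹) (f aP) hm ?_ ?_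
    · rw [ConjAct.toConjAct_smul, inv_inv] at hfix
      exact hpa (hf (by rw [hne, hfix]))
    · simp only [ConjAct.toConjAct_smul, inv_inv]
      rw [← hσ, ← hσ, h2]
    · rw [← map_pow, ConjAct.toConjAct_smul]
      obtain ⟨q, hq⟩ := hsurj _ hmS
      rw [← hq, ← map_mul, ← map_inv, ← map_mul, ← haP q, mul_inv_cancel_right]
  -- fusion of `a` into `E q` is realised in the normaliser of `E q`
  let Eg : Bool → Subgroup G := fun q => (E q).map f
  have hEnormal : ∀ (q : Bool) (s : G), s ∈ (S : Subgroup G) → ∀ u ∈ Eg q, s * u * s⁻¹ ∈ Eg q := by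
    rintro q s hs _ ⟨p, hp, rfl⟩
    obtain ⟨x, rfl⟩ := hsurj s hs
    exact ⟨x * p * x⁻¹, inE_conj q x p hp, by simp⟩
  have hEexp : ∀ (q : Bool) (p : P), p ∈ E q → p * p = 1 := by
    exact inE_sq
  have hEcomm : ∀ (q : Bool) (x y : P), x ∈ E q → y ∈ E q → x * y = y * x := by
    exact inE_comm
  have hE8 : ∀ q, Nat.card (E q) = 8 := by
    intro q
    exact ((Nat.card_eq_fintype_card (α := {p : P // inE q p = true})).trans (inE_card q) : _)
  -- an injective image of `E q` inside `S` is `E q'`
  have himage : ∀ (q : Bool) (h : G), (∀ u ∈ Eg q, h * u * h⁻¹ ∈ (S : Subgroup G)) →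
      ∃ q', (Eg q).map (MulAut.conj h).toMonoidHom = Eg q' := by
    intro q h hh
    let X : Subgroup P := ((Eg q).map (MulAut.conj h).toMonoidHom).comap f
    have hXmap : X.map f = (Eg q).map (MulAut.conj h).toMonoidHom := by
      apply Subgroup.map_comap_eq_self
      rintro _ ⟨u, hu, rfl⟩
      exact hsurj _ (hh u hu)
    have hX8 : Nat.card X = 8 := by
      rw [← Subgroup.card_map_of_injective hf, hXmap,
        Subgroup.card_map_of_injective (MulAut.conj h).injective, Subgroup.card_map_of_injective hf, hE8]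
    have hXp : ∀ x ∈ X, ∃ p ∈ E q, f x = h * f p * h⁻¹ := by
      intro x hx
      obtain ⟨_, ⟨p, hp, rfl⟩, hpx⟩ := hx
      exact ⟨p, hp, hpx.symm⟩
    have hXsq : ∀ x ∈ X, x * x = 1 := by
      intro x hx
      obtain ⟨p, hp, hpx⟩ := hXp x hx
      apply hf
      rw [map_mul, map_one, hpx, show h * f p * h⁻¹ * (h * f p * h⁻¹) = h * (f p * f p) * h⁻¹ by group,
        ← map_mul, hEexp q p hp, map_one, mul_one, mul_inv_cancel]
    have hXcomm : ∀ x ∈ X, ∀ y ∈ X, x * y = y * x := by
      intro x hx y hy
      obtain ⟨p, hp, hpx⟩ := hXp x hx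
      obtain ⟨p', hp', hpy⟩ := hXp y hy
      apply hf
      rw [map_mul, map_mul, hpx, hpy,
        show h * f p * h⁻¹ * (h * f p' * h⁻¹) = h * (f p * f p') * h⁻¹ by group,
        show h * f p' * h⁻¹ * (h * f p * h⁻¹) = h * (f p' * f p) * h⁻¹ by group,
        ← map_mul, ← map_mul, hEcomm q p p' hp hp']
    have hsub : ∀ q' : Bool, (∀ x ∈ X, inE q' x = true) → X = E q' := fun q' hq' =>
      Subgroup.eq_of_le_of_card_ge hq' (by rw [hE8, hX8])
    refine (?_ : ∃ q', X = E q').imp fun q' hq' => ?_
    · by_cases h1 : ∀ x ∈ X, inE true x = true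
      · exact ⟨true, hsub true h1⟩
      · push Not at h1
        obtain ⟨x, hx, hx1⟩ := h1
        refine ⟨false, hsub false fun y hy => ?_⟩
        have key := inE_of_comm
        exact key x y (hXsq x hx) (hXsq y hy) (hXcomm x hx y hy) (Bool.eq_false_iff.mpr hx1)
    · rw [← hXmap, hq']
  have hnotswap : ∀ (q q' : Bool) (h : G), (Eg q).map (MulAut.conj h).toMonoidHom = Eg q' → q = q' := by
    intro q q' h hh
    by_contra hne
    have hinj : Eg q ≠ Eg q' := by
      intro hq
      have h1 : f (refl q) ∈ Eg q' := hq ▸ Subgroup.mem_map_of_mem f ((refl_mem q q).mpr rfl)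
      obtain ⟨p, hp, hpq⟩ := h1
      rw [hf hpq] at hp
      exact hne ((refl_mem q q').mp hp)
    set N := Subgroup.normalizer (Eg q : Set G)
    have hSN : ∀ (q : Bool), (S : Subgroup G) ≤ Subgroup.normalizer (Eg q : Set G) := fun q s hs =>
      Subgroup.mem_normalizer_fintype (hEnormal q s hs)
    have hS'N : ((h⁻¹ • S : Sylow 2 G) : Subgroup G) ≤ N := by
      intro g hg
      rw [Sylow.coe_subgroup_smul, Subgroup.mem_pointwise_smul_iff_inv_smul_mem] at hg
      have hg' : h * g * h⁻¹ ∈ (S : Subgroup G) := by simpa [MulAut.smul_def] using hg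
      refine Subgroup.mem_normalizer_fintype fun u hu => ?_
      show g * u * g⁻¹ ∈ Eg q
      have h1 : h * u * h⁻¹ ∈ Eg q' := hh ▸ Subgroup.mem_map_of_mem _ hu
      have h2 := hEnormal q' _ hg' _ h1
      rw [← hh] at h2
      obtain ⟨v, hv, hve⟩ := h2
      have : v = g * u * g⁻¹ := by
        simp only [MulEquiv.coe_toMonoidHom, MulAut.conj_apply] at hve
        calc v = h⁻¹ * (h * v * h⁻¹) * h := by group
          _ = g * u * g⁻¹ := by rw [hve]; group
      exact this ▸ hv
    obtain ⟨⟨d, hd⟩, hdS⟩ := MulAction.exists_smul_eq N (S.subtype (hSN q)) ((h⁻¹ • S).subtype hS'N)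
    rw [show (⟨d, hd⟩ : N) • S.subtype (hSN q) = ((⟨d, hd⟩ : N) • S).subtype (Sylow.smul_le (hSN q) _) from Sylow.smul_subtype _ _] at hdS
    have hdS' : d • S = h⁻¹ • S := Sylow.subtype_injective hdS
    let n := h * d
    have hn : n ∈ Subgroup.normalizer ((S : Subgroup G) : Set G) := by
      refine Sylow.smul_eq_iff_mem_normalizer.mp ?_
      rw [mul_smul, hdS', smul_inv_smul]
    have hnq : (Eg q).map (MulAut.conj n).toMonoidHom = Eg q' := by
      calc (Eg q).map (MulAut.conj n).toMonoidHom
          = ((Eg q).map (MulAut.conj d).toMonoidHom).map (MulAut.conj h).toMonoidHom := by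
            exact (map_conj_mul (Eg q) h d).symm
        _ = Eg q' := by
            have hdq : (Eg q).map (MulAut.conj d).toMonoidHom = Eg q :=
              Subgroup.mem_normalizer_iff_map_conj_eq.mp hd
            rw [hdq, hh]
    have himg' : (Eg q').map (MulAut.conj n).toMonoidHom = Eg q := by
      obtain ⟨q'', hq''⟩ := himage q' n (fun u hu => by
        obtain ⟨p, -, rfl⟩ := hu
        exact (Subgroup.mem_normalizer_iff.mp hn _).mp (hfS p))
      rcases Bool.eq_false_or_eq_true q'' with hb | hb <;>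
        rcases Bool.eq_false_or_eq_true q with hb' | hb' <;>
        rcases Bool.eq_false_or_eq_true q' with hb'' | hb'' <;>
        first
          | exact absurd (hb'.trans hb''.symm) hne
          | (subst hb hb' hb''; exact hq'')
          | (subst hb hb' hb''; exact absurd
              (Subgroup.map_injective (MulAut.conj n).injective (hnq.trans hq''.symm)) hinj)
    obtain ⟨m, hm, hmS⟩ := hpow n hn
    have hsmul : ∀ (g : G) (Y : Subgroup G), ConjAct.toConjAct g • Y = Y.map (MulAut.conj g).toMonoidHom :=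
      fun g Y => rfl
    have : Finite (ConjAct G) := Finite.of_equiv G ConjAct.toConjAct.toEquiv
    have hfix := fix_of_sq_of_odd (G := ConjAct G) (α := Subgroup G) (ConjAct.toConjAct n) (Eg q) hm
      (by simp only [hsmul]; rw [hnq, himg']) (by
        rw [← map_pow, hsmul]
        exact Subgroup.mem_normalizer_iff_map_conj_eq.mp (hSN q hmS))
    rw [hsmul, hnq] at hfix
    exact hinj hfix.symm
  have hfuse : ∀ (q : Bool) (w : P), w ∈ E q → (∀ x : P, w * x = x * w → x ∈ E q) →
      IsConj (f w) (f aP) → ∃ h : G, (Eg q).map (MulAut.conj h).toMonoidHom = Eg q ∧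
        h * f w * h⁻¹ = f aP := by
    intro q w hw _ hconj
    obtain ⟨g, hg⟩ := isConj_iff.mp hconj
    set C := Subgroup.centralizer ({f aP} : Set G)
    have hSC : (S : Subgroup G) ≤ C := by
      intro s hs
      obtain ⟨p, rfl⟩ := hsurj s hs
      rw [Subgroup.mem_centralizer_singleton_iff, ← map_mul, ← map_mul, haP p]
    let X : Subgroup G := (Eg q).map (MulAut.conj g).toMonoidHom
    have hXC : X ≤ C := by
      rintro _ ⟨_, ⟨p, hp, rfl⟩, rfl⟩
      rw [Subgroup.mem_centralizer_singleton_iff]
      show g * f p * g⁻¹ * f aP = f aP * (g * f p * g⁻¹)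
      rw [← hg, show g * f p * g⁻¹ * (g * f w * g⁻¹) = g * (f p * f w) * g⁻¹ by group,
        ← map_mul, hEcomm q p w hp hw, map_mul]
      group
    have hX2 : IsPGroup 2 X :=
      ((S.isPGroup'.to_le (by rintro _ ⟨p, -, rfl⟩; exact hfS p) : IsPGroup 2 (Eg q)).map _)
    obtain ⟨R, hR⟩ := (hX2.comap_subtype (K := C)).exists_le_sylow
    obtain ⟨c, hc⟩ := MulAction.exists_smul_eq C R (S.subtype hSC)
    obtain ⟨q', hq'⟩ := himage q ((c : G) * g) (fun u hu => by
      have h1 : (⟨g * u * g⁻¹, hXC ⟨u, hu, rfl⟩⟩ : C) ∈ (R : Subgroup C) := hR ⟨u, hu, rfl⟩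
      have h2 := Subgroup.smul_mem_pointwise_smul _ (MulAut.conj c) _ h1
      rw [← Sylow.coe_subgroup_smul] at h2
      change _ ∈ ((c • R : Sylow 2 C) : Subgroup C) at h2
      rw [hc] at h2
      have h3 : (c : G) * (g * u * g⁻¹) * (c : G)⁻¹ ∈ (S : Subgroup G) := h2
      rwa [show (c : G) * g * u * ((c : G) * g)⁻¹ = (c : G) * (g * u * g⁻¹) * (c : G)⁻¹ by group])
    have := hnotswap q q' _ hq'
    subst this
    refine ⟨_, hq', ?_⟩
    rw [show (c : G) * g * f w * ((c : G) * g)⁻¹ = (c : G) * (g * f w * g⁻¹) * (c : G)⁻¹ by group, hg,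
      Subgroup.mem_centralizer_singleton_iff.mp c.2, mul_inv_cancel_right]
  -- in each `E q` one of the two reflection classes avoids `a`
  have hone : ∀ q, ¬ IsConj (f (refl q)) (f aP) ∨ ¬ IsConj (f (aP * refl q)) (f aP) := by
    intro q
    by_contra! hboth
    obtain ⟨hw1, hw2⟩ := hboth
    obtain ⟨h, hh, hha⟩ := hfuse q (refl q) ((refl_mem q q).mpr rfl) (inE_of_comm_refl q) hw1
    have hcls : ∀ p ∈ E q, p ≠ 1 → p ≠ zP → p ≠ aP * zP → IsConj (f p) (f aP) := by
      have key := inE_cases
      intro p hp h1 h2 h3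
      rcases key q p hp h1 h2 h3 with rfl | ⟨x, rfl⟩ | ⟨x, rfl⟩
      · exact IsConj.refl _
      · refine IsConj.trans ?_ hw1
        exact f.map_isConj (isConj_iff.mpr ⟨x, rfl⟩).symm
      · refine IsConj.trans ?_ hw2
        exact f.map_isConj (isConj_iff.mpr ⟨x, rfl⟩).symm
    have hzmap : ∀ p, p = zP ∨ p = aP * zP →
        ∃ p', (p' = zP ∨ p' = aP * zP) ∧ h * f p * h⁻¹ = f p' := by
      intro p hp
      have hpE : p ∈ E q := by rcases hp with rfl | rfl; exacts [(zP_mem q).1, (zP_mem q).2]
      have h1 : h * f p * h⁻¹ ∈ (Eg q).map (MulAut.conj h).toMonoidHom :=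
        Subgroup.mem_map_of_mem _ (Subgroup.mem_map_of_mem f hpE)
      rw [hh] at h1
      obtain ⟨p', hp', hp'e⟩ := h1
      refine ⟨p', ?_, hp'e.symm⟩
      by_contra! hcon
      have hp1 : p' ≠ 1 := by
        intro h0
        rw [h0, map_one] at hp'e
        have h2 : f p = f 1 := by rw [map_one]; exact conj_eq_one_iff.mp hp'e.symm
        have h3 := hf h2
        rcases hp with rfl | rfl; exacts [zP_ne_one h3, aPzP_ne_one h3]
      have h2 : IsConj (f p) (f aP) :=
        (isConj_iff.mpr ⟨h, hp'e.symm⟩).trans (hcls p' hp' hp1 hcon.1 hcon.2)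
      rcases hp with rfl | rfl
      · exact hcentral zP zP_ne_aP zP_sq hzP h2.symm
      · exact hcentral (aP * zP) aPzP_ne_aP aPzP_sq aPzP_comm h2.symm
    obtain ⟨p₁, hp₁, he₁⟩ := hzmap zP (Or.inl rfl)
    obtain ⟨p₂, hp₂, he₂⟩ := hzmap (aP * zP) (Or.inr rfl)
    have hne12 : p₁ ≠ p₂ := by
      intro h12
      rw [h12, ← he₂] at he₁
      exact absurd (hf (mul_right_cancel (mul_left_cancel (by simpa [mul_assoc] using he₁ :
        h * (f zP * h⁻¹) = h * (f (aP * zP) * h⁻¹))))) zP_ne_aPzP
    have hfix : h * f aP * h⁻¹ = f aP := by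
      have h1 : h * f aP * h⁻¹ = f (p₂ * p₁) := by
        rw [map_mul, ← he₁, ← he₂, show h * f (aP * zP) * h⁻¹ * (h * f zP * h⁻¹) =
          h * (f (aP * zP) * f zP) * h⁻¹ by group, ← map_mul]
        rw [aPzPzP]
      rw [h1]
      congr 1
      rcases hp₁ with rfl | rfl <;> rcases hp₂ with rfl | rfl <;>
        first | exact absurd rfl hne12 | exact aPzPzP | exact zPaPzP
    have h5 : f (refl q) = f aP := mul_left_cancel (mul_right_cancel (hha.trans hfix.symm))
    exact refl_ne_aP q (hf h5)
  -- choose the maximal subgroup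
  have hval : ∀ q, ∃ b : Bool, ¬ IsConj (f (if b then aP * refl q else refl q)) (f aP) := fun q =>
    (hone q).elim (fun h => ⟨false, h⟩) (fun h => ⟨true, h⟩)
  obtain ⟨u, hu⟩ := hval true
  obtain ⟨v, hv⟩ := hval false
  let M : Subgroup G := (Mker u v).map f
  have hoddS : Odd (S : Subgroup G).index := by
    rw [← Nat.not_even_iff_odd, even_iff_two_dvd]; exact S.not_dvd_index
  have hidx : M.index = 2 * (S : Subgroup G).index := by
    rw [Subgroup.index_map, MonoidHom.ker_eq_bot_iff f |>.mpr hf, sup_bot_eq, index_Mker]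
    congr 1
    congr 1
    ext g
    exact ⟨fun ⟨p, hp⟩ => hp ▸ hfS p, fun hg => hsurj g hg⟩
  have hord : orderOf (f aP) = 2 := by
    rw [orderOf_injective f hf]; exact orderOf_eq_prime aP_sq aP_ne_one
  obtain ⟨K, hK, -⟩ := CfsgLib.Inv54.exists_index_two_not_mem M hord hoddS hidx (fun g hg => by
    obtain ⟨p, hp, hpe⟩ := hg
    have hc : IsConj (f p) (f aP) := isConj_iff.mpr ⟨g, by rw [hpe]; group⟩
    have key := Mker_cases
    have hpo : orderOf p = 2 := by
      obtain ⟨c, hc'⟩ := isConj_iff.mp hc
      rw [← orderOf_injective f hf, ← CfsgLib.Small.orderOf_conj_eq c, hc', hord]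
    have h2 : p * p = 1 ∧ p ≠ 1 :=
      ⟨CfsgLib.Small.mul_self_of_orderOf_two hpo, CfsgLib.Small.ne_one_of_orderOf_two hpo⟩
    rcases key u v p hp h2.1 h2.2 with rfl | ⟨x, rfl⟩ | ⟨x, rfl⟩
    · exact hcentral zP zP_ne_aP zP_sq hzP hc.symm
    · exact hu (IsConj.trans (f.map_isConj (isConj_iff.mpr ⟨x, rfl⟩)) hc)
    · exact hv (IsConj.trans (f.map_isConj (isConj_iff.mpr ⟨x, rfl⟩)) hc))
  have hKn : K.Normal := Subgroup.normal_of_index_eq_two hK
  apply hG
  rcases hKn.eq_bot_or_eq_top with h | h
  · rw [h, Subgroup.index_bot] at hK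
    have := isCyclic_of_prime_card hK
    infer_instance
  · rw [h, Subgroup.index_top] at hK
    omega


end Cfsg.Agent.S3309
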