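import Cfsg.Statements.S3311
import Cfsg.Agent.NormalRankTwoAut.Main

set_option autoImplicit false
open Cfsg

namespace Cfsg.Agent.S3311

/-- Let G be a non-abelian finite simple group with Sylow 2-subgroup T. Suppose every normal abelian subgroup of T is generated by two elements, some normal abelian subgroup of T is not cyclic (so the normal rank of T is exactly 2), and the normalizer N_G(T) is not contained in T·C_G(T). Then T has order 4, 64 or 128. -/
theorem result {G : Type*} [Group G] [Finite G]
    [IsSimpleGroup G] (hna : ¬ IsMulCommutative G) (T : Sylow 2 G)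
    (hd2 : ∀ A : Subgroup ↥T, A.Normal → IsMulCommutative ↥A → ∃ a b : ↥T, Subgroup.closure {a, b} = A)
    (hd2' : ∃ A : Subgroup ↥T, A.Normal ∧ IsMulCommutative ↥A ∧ ¬ IsCyclic ↥A)
    (hN : ¬ Subgroup.normalizer ((T : Subgroup G) : Set G) ≤ (T : Subgroup G) ⊔ Subgroup.centralizer ((T : Subgroup G) : Set G)) :
    Nat.card ↥T = 4 ∨ Nat.card ↥T = 64 ∨ Nat.card ↥T = 128 := by
  exact CfsgLib.NormalRankTwoAut.card_sylow hna T hd2 hd2' hN

end Cfsg.Agent.S3311
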