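import Cfsg.Statements.S3312
import Cfsg.Agent.WeakClosureCriterion.Main

set_option autoImplicit false
set_option linter.style.haveILetI false
open Cfsg

namespace Cfsg.Agent.S3312

open Subgroup CfsgLib.WeakClosureCriterion
open CfsgLib.ConjFunctor (mem_cj conj_mem_cj isSylowIn_top)

/-- Weak closure of a subgroup of the centre of a Sylow subgroup gives strong closure. -/
theorem strongly_closed {G : Type*} [Group G] [Finite G] (T : Sylow 2 G) {W : Subgroup G}
    (hcen : ∀ w ∈ W, ∀ s ∈ (T : Subgroup G), Commute s w)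
    (hwc : Cfsg.IsWeaklyClosed W (T : Subgroup G)) :
    ∀ w ∈ W, ∀ g : G, g * w * g⁻¹ ∈ (T : Subgroup G) → g * w * g⁻¹ ∈ W := by
  intro w hw g hg
  haveI : Fact (Nat.Prime 2) := ⟨Nat.prime_two⟩
  set v := g * w * g⁻¹ with hv
  set C := centralizer ({v} : Set G) with hC
  have hWC : W ≤ C := fun x hx =>
    mem_centralizer_singleton_iff.2 (hcen x hx v hg).eq.symm
  have hWg : W.map (MulAut.conj g).toMonoidHom ≤ C := by
    rintro _ ⟨x, hx, rfl⟩
    refine mem_centralizer_singleton_iff.2 ?_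
    show g * x * g⁻¹ * v = v * (g * x * g⁻¹)
    calc g * x * g⁻¹ * v = g * (x * w) * g⁻¹ := by rw [hv]; group
      _ = g * (w * x) * g⁻¹ := by rw [(hcen w hw x (hwc.1 hx)).eq]
      _ = v * (g * x * g⁻¹) := by rw [hv]; group
  have hWp : IsPGroup 2 W := T.2.to_le hwc.1
  obtain ⟨R, hWR, hR⟩ := CfsgLib.ConjFunctor.exists_isSylowIn_ge hWC hWp
  obtain ⟨h, hhC, hh⟩ := hR.exists_cj_le hWg (hWp.map _)
  obtain ⟨k, -, hk⟩ := (isSylowIn_top T).exists_cj_le le_top hR.2.1
  have e1 : k ∈ normalizer (W : Set G) := mem_normalizer_iff_map_conj_eq.2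
    (hwc.2 k ((CfsgLib.ConjFunctor.cj_mono k hWR).trans hk))
  have e2 : k * (h * g) ∈ normalizer (W : Set G) := mem_normalizer_iff_map_conj_eq.2
    (hwc.2 _ (by
      have := (CfsgLib.ConjFunctor.cj_mono k hh).trans hk
      rwa [CfsgLib.ConjFunctor.cj_cj, CfsgLib.ConjFunctor.cj_cj, mul_assoc] at this))
  have e3 : h * g ∈ normalizer (W : Set G) := by
    have := mul_mem (inv_mem e1) e2
    rwa [inv_mul_cancel_left] at this
  have := (mem_normalizer_iff.1 e3 w).1 hw
  rwa [show h * g * w * (h * g)⁻¹ = h * v * h⁻¹ by rw [hv]; group,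
    mem_centralizer_singleton_iff.1 hhC, mul_inv_cancel_right] at this

/-- The involutions of a central subgroup, with the identity. -/
def omegaOne {G : Type*} [Group G] (W : Subgroup G)
    (hc : ∀ a ∈ W, ∀ b ∈ W, a * b = b * a) : Subgroup G where
  carrier := {w | w ∈ W ∧ w * w = 1}
  one_mem' := ⟨W.one_mem, one_mul 1⟩
  mul_mem' := fun {a b} ha hb => ⟨W.mul_mem ha.1 hb.1, by
    calc a * b * (a * b) = a * (b * a) * b := by group
      _ = a * (a * b) * b := by rw [hc b hb.1 a ha.1]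
      _ = (a * a) * (b * b) := by group
      _ = 1 := by rw [ha.2, hb.2, one_mul]⟩
  inv_mem' := fun {a} ha => ⟨W.inv_mem ha.1, by rw [← mul_inv_rev, ha.2, inv_one]⟩

/-- A non-simplicity criterion by weak closure. Let T be a Sylow 2-subgroup of a finite group G, W a nontrivial subgroup of the centre of T that is weakly closed in T with respect to G, and t an involution of T outside W. Suppose that for every involution x in the coset Wt, W lies in O_{2',2}(C_G(x)), the preimage of O₂ of C_G(x)/O_{2'}(C_G(x)). Then G is not simple. -/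
theorem result {G : Type*} [Group G] [Finite G]
    (T : Sylow 2 G) (W : Subgroup G) (hW1 : W ≠ ⊥) (hWZ : W ≤ (T : Subgroup G) ⊓ Subgroup.centralizer ((T : Subgroup G) : Set G))
    (hwc : Cfsg.IsWeaklyClosed W (T : Subgroup G)) (t : G) (ht : orderOf t = 2) (htT : t ∈ (T : Subgroup G)) (htW : t ∉ W)
    (hcos : ∀ w ∈ W, orderOf (w * t) = 2 →
      W.subgroupOf (Subgroup.centralizer ({w * t} : Set G)) ≤ Cfsg.pPrimePCore 2 ↥(Subgroup.centralizer ({w * t} : Set G))) :
    ¬ IsSimpleGroup G := by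
  intro hs
  haveI : Fact (Nat.Prime 2) := ⟨Nat.prime_two⟩
  have hcen : ∀ w ∈ W, ∀ s ∈ (T : Subgroup G), Commute s w := fun w hw s hs =>
    mem_centralizer_iff.1 (hWZ hw).2 s hs
  have hc : ∀ a ∈ W, ∀ b ∈ W, a * b = b * a := fun a ha b hb => (hcen b hb a (hwc.1 ha)).eq
  have hclosed := strongly_closed T hcen hwc
  set W₁ := omegaOne W hc with hW₁
  have htt : t * t = 1 := by rw [← pow_two, ← ht]; exact pow_orderOf_eq_one t
  have hne : W₁ ≠ ⊥ := by
    obtain ⟨k, hk⟩ := (T.2.to_le hwc.1).exists_card_eq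
    have h2 : 2 ∣ Nat.card W := by
      rcases k with _ | k
      · exact absurd (Subgroup.card_eq_one.1 (by rw [hk, pow_zero])) hW1
      · rw [hk]; exact dvd_pow_self 2 k.succ_ne_zero
    obtain ⟨x, hx⟩ := exists_prime_orderOf_dvd_card' 2 h2
    intro e
    have : (x : G) ∈ W₁ := ⟨x.2, by
      rw [← pow_two, ← Subgroup.coe_pow, ← hx, pow_orderOf_eq_one, Subgroup.coe_one]⟩
    rw [e, mem_bot, OneMemClass.coe_eq_one] at this
    rw [this, orderOf_one] at hx
    exact absurd hx (by norm_num)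
  have hsetting : Setting (T : Subgroup G) W₁ t := by
    refine ⟨⟨T, rfl⟩, hne, fun x hx => hwc.1 hx.1, fun w hw => hcen w hw.1, fun w hw => hw.2,
      fun w hw g hg => ⟨hclosed w hw.1 g hg, ?_⟩, htT, htt, fun h => htW h.1, ?_⟩
    · rw [show g * w * g⁻¹ * (g * w * g⁻¹) = g * (w * w) * g⁻¹ by group, hw.2, mul_one,
        mul_inv_cancel]
    intro w hw c hcc
    have hord : orderOf (w * t) = 2 := by
      refine orderOf_eq_prime ?_ fun e => htW ?_
      · rw [pow_two]
        calc w * t * (w * t) = w * (t * w) * t := by group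
          _ = w * (w * t) * t := by rw [(hcen w hw.1 t htT).eq]
          _ = (w * w) * (t * t) := by group
          _ = 1 := by rw [hw.2, htt, one_mul]
      · rw [eq_inv_of_mul_eq_one_right e]; exact W.inv_mem hw.1
    have hxT : w * t ∈ (T : Subgroup G) := mul_mem (hwc.1 hw.1) htT
    set C := centralizer ({w * t} : Set G) with hC
    have hWC : W ≤ C := fun x hx =>
      mem_centralizer_singleton_iff.2 (hcen x hx _ hxT).eq.symm
    set P := pPrimePCore 2 ↥C with hP
    have hsub : W.subgroupOf C ≤ P := hcos w hw.1 hord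
    obtain ⟨R, hR⟩ := (show IsPGroup 2 ((W.subgroupOf C).subgroupOf P) from
      ((T.2.to_le hwc.1).comap_subtype (K := C)).comap_subtype (K := P)).exists_le_sylow
    set R' := (R : Subgroup P).map P.subtype with hR'
    have hWR : ∀ x ∈ W, ∀ hx : x ∈ C, (⟨x, hx⟩ : C) ∈ R' := fun x hx hxC =>
      ⟨⟨⟨x, hxC⟩, hsub hx⟩, hR (show x ∈ W from hx), rfl⟩
    have htop := CfsgLib.PLocal.normalizer_sylow_pPrimePCore_sup R
    rw [sup_comm] at htop
    obtain ⟨o, ho, n, hn, hon⟩ := CfsgLib.Coprime.exists_mul_of_mem_sup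
      (le_normalizer_of_normal (H := pPrimeCore 2 ↥C)) (htop ▸ mem_top (⟨c, hcc⟩ : C))
    set R'' := R'.map C.subtype with hR''
    obtain ⟨k, -, hk⟩ := (isSylowIn_top T).exists_cj_le le_top ((R.2.map P.subtype).map C.subtype)
    have hWR'' : W ≤ R'' := fun x hx => ⟨⟨x, hWC hx⟩, hWR x hx _, rfl⟩
    have e1 : k ∈ normalizer (W : Set G) := mem_normalizer_iff_map_conj_eq.2
      (hwc.2 k ((CfsgLib.ConjFunctor.cj_mono k hWR'').trans hk))
    have e2 : k * (n : G) ∈ normalizer (W : Set G) := by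
      refine mem_normalizer_iff_map_conj_eq.2 (hwc.2 _ ?_)
      rintro _ ⟨x, hx, rfl⟩
      have h1 : n * ⟨x, hWC hx⟩ * n⁻¹ ∈ R' :=
        (mem_normalizer_iff.1 hn _).1 (hWR x hx _)
      have h2 := hk (conj_mem_cj k (mem_map_of_mem C.subtype h1))
      show k * n * x * (k * n)⁻¹ ∈ (T : Subgroup G)
      rw [show k * (n : G) * x * (k * n)⁻¹ = k * ((n : G) * x * (n : G)⁻¹) * k⁻¹ by group]
      exact h2
    have e3 : (n : G) ∈ normalizer (W : Set G) := by
      have := mul_mem (inv_mem e1) e2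
      rwa [inv_mul_cancel_left] at this
    refine ⟨(o : G), mem_map_of_mem C.subtype ho, (n : G), ⟨n.2, ?_⟩,
      (congrArg Subtype.val hon).symm⟩
    refine CfsgLib.ConjFunctor.mem_normalizer_of_forall_conj_mem fun x hx =>
      ⟨(mem_normalizer_iff.1 e3 x).1 hx.1, ?_⟩
    rw [show (n : G) * x * (n : G)⁻¹ * ((n : G) * x * (n : G)⁻¹) = n * (x * x) * (n : G)⁻¹ by group,
      hx.2, mul_one, mul_inv_cancel]
  have hgood := hsetting.good
  have hcore : pPrimeCore 2 G = ⊥ := by
    refine (IsSimpleGroup.eq_bot_or_eq_top_of_normal (pPrimeCore 2 G) inferInstance).resolve_right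
      fun e => ?_
    have h2 : 2 ∣ Nat.card G := ht ▸ orderOf_dvd_natCard t
    have := CfsgLib.PLocal.coprime_card_pPrimeCore 2 G
    rw [e, Subgroup.card_top] at this
    exact (Nat.prime_two.coprime_iff_not_dvd.1 this.symm) h2
  have hn : W₁.Normal := by
    refine normalizer_eq_top_iff.1 (eq_top_iff.2 fun g _ => ?_)
    obtain ⟨o, ho, m, hm, rfl⟩ := hgood g
    rw [hcore, mem_bot] at ho
    rwa [ho, one_mul]
  rcases IsSimpleGroup.eq_bot_or_eq_top_of_normal W₁ hn with h | h
  · exact hne h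
  · exact htW (h ▸ mem_top t : t ∈ W₁).1

end Cfsg.Agent.S3312
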