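import Cfsg.Statements.S3313
import Cfsg.Agent.Inv54.ExtraspecialAlt
import Cfsg.Agent.Small.ThompsonOrder
import Cfsg.Agent.Components.FStar
import Cfsg.Agent.LargeExtraspecial.Simplicity
import Cfsg.Agent.Small.Dihedral
-- import your own Cfsg.Agent.* helpers here

set_option autoImplicit false
open Cfsg

namespace Cfsg.Agent.S3313

/-- The order of a simple group with the involution pattern of the Hall–Janko group. Let G be a non-abelian finite simple group with exactly two conjugacy classes of involutions, represented by z and t, such that: F*(C_G(z)) is an extraspecial 2-group; Q = O₂(C_G(z)) has order 32 and C_G(z) is the semidirect product of Q by a subgroup isomorphic to A₅; every involution of Q is conjugate to z and every other involution of C_G(z) is conjugate to t; C_G(t) is an internal direct product V × B with V a four-group containing t and B ≅ A₅; every involution of B is conjugate to z and every other involution of C_G(t) is conjugate to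 t. Then |G| = 604800. -/
theorem result {G : Type*} [Group G] [Finite G]
    [IsSimpleGroup G] (hna : ¬ IsMulCommutative G) (z t : G) (hz : orderOf z = 2) (ht : orderOf t = 2)
    (hzt : ¬ IsConj z t) (hcl : ∀ x : G, orderOf x = 2 → IsConj x z ∨ IsConj x t)
    (hex : Cfsg.IsExtraspecial 2 ↥(Cfsg.generalizedFittingSubgroup ↥(Subgroup.centralizer ({z} : Set G))))
    (hQ : Nat.card ↥(Cfsg.pCore 2 ↥(Subgroup.centralizer ({z} : Set G))) = 32)
    (K : Subgroup G) (hK : Nonempty (↥K ≃* alternatingGroup (Fin 5)))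
    (hKC : K ⊔ (Cfsg.pCore 2 ↥(Subgroup.centralizer ({z} : Set G))).map (Subgroup.centralizer ({z} : Set G)).subtype = Subgroup.centralizer ({z} : Set G))
    (hKQ : K ⊓ (Cfsg.pCore 2 ↥(Subgroup.centralizer ({z} : Set G))).map (Subgroup.centralizer ({z} : Set G)).subtype = ⊥)
    (hQz : ∀ x ∈ (Cfsg.pCore 2 ↥(Subgroup.centralizer ({z} : Set G))).map (Subgroup.centralizer ({z} : Set G)).subtype, orderOf x = 2 → IsConj x z)
    (hCz : ∀ x ∈ Subgroup.centralizer ({z} : Set G), orderOf x = 2 →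
      x ∉ (Cfsg.pCore 2 ↥(Subgroup.centralizer ({z} : Set G))).map (Subgroup.centralizer ({z} : Set G)).subtype → IsConj x t)
    (V B : Subgroup G) (hVB : Cfsg.IsInternalDirectProduct V B (Subgroup.centralizer ({t} : Set G)))
    (hV : Nat.card ↥V = 4) (hV2 : ∀ v ∈ V, v ^ 2 = 1) (htV : t ∈ V) (hB : Nonempty (↥B ≃* alternatingGroup (Fin 5)))
    (hBz : ∀ x ∈ B, orderOf x = 2 → IsConj x z)
    (hCt : ∀ x ∈ Subgroup.centralizer ({t} : Set G), orderOf x = 2 → x ∉ B → IsConj x t) :
    Nat.card G = 604800 := by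
  classical
  haveI := Fintype.ofFinite G
  have := Fact.mk Nat.prime_two
  set C := Subgroup.centralizer ({z} : Set G) with hCdef
  set Q := (Cfsg.pCore 2 ↥C).map C.subtype with hQdef
  have hCmem : ∀ {g : G}, g ∈ C ↔ g * z = z * g := Subgroup.mem_centralizer_singleton_iff
  have hzz : z * z = 1 := CfsgLib.Small.mul_self_of_orderOf_two hz
  -- `F*(C(z))` is the 2-core
  have hF : Cfsg.generalizedFittingSubgroup ↥C = Cfsg.pCore 2 ↥C := by
    haveI : (Cfsg.fittingSubgroup ↥C).Normal := Subgroup.sSup_normal _ fun _ h => h.1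
    haveI hn : (Cfsg.generalizedFittingSubgroup ↥C).Normal := Subgroup.sup_normal _ _
    exact le_antisymm (CfsgLib.Components.le_pCore hex.1.1)
      ((CfsgLib.Components.pCore_le_fittingSubgroup 2).trans le_sup_right)
  haveI hpn : (Cfsg.pCore 2 ↥C).Normal := Subgroup.sSup_normal _ fun _ h => h.1
  have hexP : Cfsg.IsExtraspecial 2 ↥(Cfsg.pCore 2 ↥C) := hF ▸ hex
  have hQC : Q ≤ C := Subgroup.map_subtype_le _
  have hzC : z ∈ C := hCmem.2 rfl
  have hzQ : z ∈ Q := by
    refine ⟨⟨z, hzC⟩, ?_, rfl⟩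
    haveI : (Subgroup.zpowers (⟨z, hzC⟩ : C)).Normal := ⟨fun a ha g => by
      obtain ⟨i, rfl⟩ := Subgroup.mem_zpowers_iff.mp ha
      have hc : Commute g (⟨z, hzC⟩ : C) := Subtype.ext (hCmem.mp g.2)
      rw [(hc.zpow_right i).eq, mul_inv_cancel_right]
      exact Subgroup.zpow_mem_zpowers _ _⟩
    exact CfsgLib.Components.le_pCore (IsPGroup.of_card (n := 1)
      (by rw [Nat.card_zpowers, Subgroup.orderOf_mk, hz, pow_one])) (Subgroup.mem_zpowers _)
  have hKle : K ≤ C := hKC ▸ le_sup_left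
  have hQconj : ∀ k ∈ C, ∀ q ∈ Q, k * q * k⁻¹ ∈ Q := by
    rintro k hk q ⟨q', hq', rfl⟩
    exact ⟨⟨k, hk⟩ * q' * ⟨k, hk⟩⁻¹, hpn.conj_mem _ hq' _, rfl⟩
  have hfaith : ∀ k ∈ K, orderOf k = 5 → ∃ q ∈ Q, k * q * k⁻¹ ≠ q := by
    intro k hk h5
    by_contra! h
    have hmem : (⟨k, hKle hk⟩ : C) ∈
        Subgroup.centralizer (Cfsg.generalizedFittingSubgroup ↥C : Set C) := by
      rw [hF, Subgroup.mem_centralizer_iff]
      intro q hq
      exact Subtype.ext (mul_inv_eq_iff_eq_mul.1 (h q.1 ⟨q, hq, rfl⟩)).symm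
    have hkP := CfsgLib.Components.centralizer_generalizedFitting_le_self hmem
    rw [hF] at hkP
    have : k ∈ K ⊓ Q := ⟨hk, ⟨_, hkP, rfl⟩⟩
    rw [hKQ, Subgroup.mem_bot] at this
    rw [this, orderOf_one] at h5
    omega
  let s : CfsgLib.Inv54.ExtraAlt.Setting G :=
    { Q := Q
      K := K
      z := z
      hQ := by
        let e := ((Cfsg.pCore 2 ↥C).equivMapOfInjective C.subtype C.subtype_injective)
        exact CfsgLib.LargeExtraspecial.isExtraspecial_of_mulEquiv e hexP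
      hcard := by rw [hQdef, Subgroup.card_map_of_injective C.subtype_injective, hQ]
      hzQ := hzQ
      hz1 := CfsgLib.Small.ne_one_of_orderOf_two hz
      hzc := fun q hq => hCmem.1 (hQC hq)
      hzK := fun k hk => hCmem.1 (hKle hk)
      hK := hK
      hnorm := fun k hk => hQconj k (hKle hk)
      hfaith := hfaith }
  -- factorisation of `C(z)`
  have hfac : ∀ c ∈ C, ∃ k ∈ K, ∃ q ∈ Q, c = k * q := by
    intro c hc
    rw [← hKC] at hc
    have hn : K ≤ Subgroup.normalizer (Q : Set G) := fun k hk => by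
      rw [Subgroup.mem_normalizer_iff]
      intro q
      refine ⟨hQconj k (hKle hk) q, fun h => ?_⟩
      have := hQconj k⁻¹ (C.inv_mem (hKle hk)) _ h
      rwa [show k⁻¹ * (k * q * k⁻¹) * k⁻¹⁻¹ = q by group] at this
    rw [← SetLike.mem_coe, Subgroup.coe_mul_of_left_le_normalizer_right K Q hn] at hc
    obtain ⟨k, hk, q, hq, rfl⟩ := hc
    exact ⟨k, hk, q, hq, rfl⟩
  have huniq : ∀ k ∈ K, ∀ k' ∈ K, ∀ q ∈ Q, ∀ q' ∈ Q, k * q = k' * q' → k = k' ∧ q = q' := by
    intro k hk k' hk' q hq q' hq' h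
    have h1 : k'⁻¹ * k = q' * q⁻¹ := by
      rw [inv_mul_eq_iff_eq_mul, eq_comm, ← mul_assoc, ← h, mul_inv_cancel_right]
    have h2 : k'⁻¹ * k ∈ K ⊓ Q :=
      ⟨K.mul_mem (K.inv_mem hk') hk, h1 ▸ Q.mul_mem hq' (Q.inv_mem hq)⟩
    rw [hKQ, Subgroup.mem_bot] at h2
    have h3 : k = k' := inv_mul_eq_one.1 h2 |>.symm
    subst h3
    exact ⟨rfl, mul_left_cancel h⟩
  have hinvK : Nat.card {k : K // k ≠ 1 ∧ k * k = 1} = 15 := by
    obtain ⟨e⟩ := hK
    rw [← CfsgLib.Inv54.ExtraAlt.involutions_alt, ← Nat.card_eq_fintype_card]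
    refine Nat.card_congr (e.toEquiv.subtypeEquiv fun k => ?_)
    show _ ↔ (e k ≠ 1 ∧ e k * e k = 1)
    rw [← map_mul, ne_eq, ne_eq, e.map_eq_one_iff, e.map_eq_one_iff]
  have hkord : ∀ k : {k : K // k ≠ 1 ∧ k * k = 1}, orderOf ((k.1 : K) : G) = 2 := fun k => by
    rw [Subgroup.orderOf_coe]
    exact orderOf_eq_prime (by rw [pow_two]; exact k.2.2) k.2.1
  -- involutions of the class of `t` in `C(z)`
  have hconj2 : ∀ {a b : G}, IsConj a b → orderOf a = 2 → orderOf b = 2 := by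
    intro a b h ha
    obtain ⟨g, rfl⟩ := isConj_iff.1 h
    rw [CfsgLib.Small.orderOf_conj_eq, ha]
  have hQclass : ∀ u : G, orderOf u = 2 → u ∈ C → (IsConj z u ↔ u ∈ Q) := fun u hu huC =>
    ⟨fun h => by_contra fun hn => hzt (h.trans (hCz u huC hu hn)), fun h => (hQz u h hu).symm⟩
  -- the pairs attached to `z`
  have hinvC : ∀ {u v : G}, orderOf u = 2 → orderOf v = 2 → ∀ {w : G},
      w ∈ Subgroup.zpowers (u * v) → orderOf w = 2 → u * w = w * u ∧ v * w = w * v := by
    intro u v hu hv w hw hw2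
    have hev : Even (orderOf (u * v)) := by
      obtain ⟨m, rfl⟩ := Subgroup.mem_zpowers_iff.1 hw
      rw [even_iff_two_dvd, ← hw2]
      exact orderOf_dvd_of_mem_zpowers (Subgroup.zpow_mem_zpowers _ _)
    obtain ⟨-, h1, h2⟩ := CfsgLib.Small.half_pow_spec hu hv hev
    rw [← CfsgLib.Small.invol_mem_zpowers_eq hw2 hw] at h1 h2
    exact ⟨h1.eq.symm, h2.eq.symm⟩
  have hnz : Nat.card {p : G × G // IsConj z p.1 ∧ IsConj t p.2 ∧
      z ∈ Subgroup.zpowers (p.1 * p.2)} = 960 := by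
    let V := Σ k : {k : K // k ≠ 1 ∧ k * k = 1},
      {q : G // q ∈ s.Q ∧ ((k.1 : K) : G) * q * ((k.1 : K) : G) = q⁻¹}
    let P := Σ v : V, {u : G // u ∈ s.A ∧ (((v.1.1 : K) : G) * v.2.1) * u ≠
      u * (((v.1.1 : K) : G) * v.2.1)}
    haveI : Fintype V := Fintype.ofFinite V
    have hP : Nat.card P = 960 := by
      have hV : Nat.card V = 120 := by
        rw [Nat.card_sigma, Finset.sum_congr rfl fun k _ => (s.count k.1.2 (hkord k)).1,
          Finset.sum_const, Finset.card_univ, ← Nat.card_eq_fintype_card, hinvK]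
        rfl
      rw [Nat.card_sigma, Finset.sum_congr rfl fun v _ =>
        ((s.count v.1.1.2 (hkord v.1)).2 _ v.2.2.1 v.2.2.2).1,
        Finset.sum_const, Finset.card_univ, ← Nat.card_eq_fintype_card, hV]
      rfl
    rw [← hP]
    have hspec : ∀ p : P, IsConj z p.2.1 ∧ IsConj t (((p.1.1.1 : K) : G) * p.1.2.1) ∧
        z ∈ Subgroup.zpowers (p.2.1 * (((p.1.1.1 : K) : G) * p.1.2.1)) := by
      rintro ⟨⟨k, q, hq, hqk⟩, u, hu, hne⟩
      dsimp only at hne ⊢
      set v := ((k.1 : K) : G) * q with hv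
      have hu2 : orderOf u = 2 := orderOf_eq_prime (by rw [pow_two]; exact hu.2.1) hu.2.2.1
      have hvv : v * v = 1 := by
        rw [hv, show ((k.1 : K) : G) * q * (((k.1 : K) : G) * q) =
          ((k.1 : K) : G) * q * ((k.1 : K) : G) * q by group, hqk, inv_mul_cancel]
      have hv1 : v ≠ 1 := fun h => by
        have := (huniq _ k.1.2 1 K.one_mem q hq 1 Q.one_mem (by rw [← hv, h, one_mul])).1
        exact k.2.1 (Subtype.ext this)
      have hv2 : orderOf v = 2 := orderOf_eq_prime (by rw [pow_two]; exact hvv) hv1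
      have hvC : v ∈ C := C.mul_mem (hKle k.1.2) (hQC hq)
      refine ⟨(hQz u hu.1 hu2).symm, (hCz v hvC hv2 fun h => ?_).symm, ?_⟩
      · have := (huniq _ k.1.2 1 K.one_mem q hq v h (by rw [← hv, one_mul])).1
        exact k.2.1 (Subtype.ext this)
      · refine Subgroup.mem_zpowers_iff.2 ⟨4, ?_⟩
        have h := ((s.count k.1.2 (hkord k)).2 q hq hqk).2 u hu hne
        rw [← hv] at h
        refine Eq.trans ?_ h
        rw [show ((4 : ℤ)) = ((4 : ℕ) : ℤ) by rfl, zpow_natCast]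
        simp only [pow_succ, pow_zero, one_mul, mul_assoc]
    symm
    refine Nat.card_congr (Equiv.ofBijective
      (fun p => ⟨(p.2.1, ((p.1.1.1 : K) : G) * p.1.2.1), hspec p⟩) ⟨?_, ?_⟩)
    · rintro ⟨⟨k, q⟩, u⟩ ⟨⟨k', q'⟩, u'⟩ h
      have h1 := congrArg (fun r : {p : G × G // IsConj z p.1 ∧ IsConj t p.2 ∧
        z ∈ Subgroup.zpowers (p.1 * p.2)} => r.1) h
      simp only [Prod.mk.injEq] at h1
      obtain ⟨hk, hq⟩ := huniq _ k.1.2 _ k'.1.2 _ q.2.1 _ q'.2.1 h1.2
      obtain rfl : k = k' := Subtype.ext (Subtype.ext hk)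
      obtain rfl : q = q' := Subtype.ext hq
      obtain rfl : u = u' := Subtype.ext h1.1
      rfl
    · rintro ⟨⟨u, v⟩, hu, hv, hw⟩
      dsimp only at hu hv hw
      have hu2 := hconj2 hu hz
      have hv2 := hconj2 hv ht
      obtain ⟨huz, hvz⟩ := hinvC hu2 hv2 hw hz
      have huC : u ∈ C := hCmem.2 huz
      have hvC : v ∈ C := hCmem.2 hvz
      have huQ : u ∈ Q := (hQclass u hu2 huC).1 hu
      have hvQ : v ∉ Q := fun h => hzt ((hQclass v hv2 hvC).2 h |>.trans hv.symm)
      obtain ⟨k, hk, q, hq, rfl⟩ := hfac v hvC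
      have hk1 : k ≠ 1 := fun h => hvQ (by rw [h, one_mul]; exact hq)
      have hvv : k * q * (k * q) = 1 := CfsgLib.Small.mul_self_of_orderOf_two hv2
      have hkk : k * k = 1 := by
        refine (huniq (k * k) (K.mul_mem hk hk) 1 K.one_mem (k⁻¹ * q * k * q)
          (Q.mul_mem ?_ hq) 1 Q.one_mem ?_).1
        · have := hQconj k⁻¹ (C.inv_mem (hKle hk)) q hq
          rwa [inv_inv] at this
        · rw [one_mul, show k * k * (k⁻¹ * q * k * q) = k * q * (k * q) by group, hvv]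
      have hqk : k * q * k = q⁻¹ := eq_inv_of_mul_eq_one_left (by rw [← hvv]; group)
      have huA : u ∈ s.A := by
        refine ⟨huQ, CfsgLib.Small.mul_self_of_orderOf_two hu2,
          CfsgLib.Small.ne_one_of_orderOf_two hu2, fun h => ?_⟩
        subst h
        rcases CfsgLib.Small.invol_mem_zpowers_eq hz hw with e
        have hc : Commute u (k * q) := hvz.symm
        have hord : orderOf (u * (k * q)) = 2 := orderOf_eq_prime
          (by rw [hc.mul_pow, pow_two, pow_two, hzz, hvv, one_mul])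
          (fun h => hvQ (by
            rw [eq_inv_of_mul_eq_one_right h, CfsgLib.Small.inv_eq_self_of_orderOf_two hu2]
            exact hzQ))
        rw [hord, show 2 / 2 = 1 from rfl, pow_one] at e
        exact CfsgLib.Small.ne_one_of_orderOf_two hv2 (mul_eq_left.1 e.symm)
      refine ⟨⟨⟨⟨⟨k, hk⟩, fun h => hk1 (congrArg Subtype.val h), Subtype.ext hkk⟩, q, hq, hqk⟩,
        u, huA, fun hc => ?_⟩, rfl⟩
      dsimp only at hc
      have hord : orderOf (u * (k * q)) = 2 := orderOf_eq_prime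
        (by rw [(show Commute u (k * q) from hc.symm).mul_pow, pow_two, pow_two,
          CfsgLib.Small.mul_self_of_orderOf_two hu2, hvv, one_mul])
        (fun h => hvQ (by
          rw [eq_inv_of_mul_eq_one_right h, CfsgLib.Small.inv_eq_self_of_orderOf_two hu2]
          exact huQ))
      have e := CfsgLib.Small.invol_mem_zpowers_eq hz hw
      rw [hord, show 2 / 2 = 1 from rfl, pow_one] at e
      exact hvQ (by
        rw [show k * q = u⁻¹ * z by rw [e]; group]
        exact Q.mul_mem (Q.inv_mem huQ) hzQ)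
  -- the pairs attached to `t`
  obtain ⟨hVle, hBle, hcomm, hVB, hVBsup⟩ := hVB
  set D := Subgroup.centralizer ({t} : Set G) with hDdef
  have hfacD : ∀ d ∈ D, ∃ a ∈ V, ∃ b ∈ B, d = a * b := by
    intro d hd
    rw [← hVBsup] at hd
    have hn : V ≤ Subgroup.normalizer (B : Set G) := fun a ha => by
      rw [Subgroup.mem_normalizer_iff]
      intro b
      refine ⟨fun hb => ?_, fun hb => ?_⟩
      · rwa [hcomm a ha b hb, mul_inv_cancel_right]
      · have h := hcomm a⁻¹ (V.inv_mem ha) _ hb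
        have e : b = a⁻¹ * (a * b * a⁻¹) * a := by group
        rwa [e, h, inv_mul_cancel_right]
    rw [← SetLike.mem_coe, Subgroup.coe_mul_of_left_le_normalizer_right V B hn] at hd
    obtain ⟨a, ha, b, hb, rfl⟩ := hd
    exact ⟨a, ha, b, hb, rfl⟩
  have huniqD : ∀ a ∈ V, ∀ a' ∈ V, ∀ b ∈ B, ∀ b' ∈ B, a * b = a' * b' → a = a' ∧ b = b' := by
    intro a ha a' ha' b hb b' hb' h
    have h1 : a'⁻¹ * a = b' * b⁻¹ := by
      rw [inv_mul_eq_iff_eq_mul, eq_comm, ← mul_assoc, ← h, mul_inv_cancel_right]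
    have h2 : a'⁻¹ * a ∈ V ⊓ B :=
      ⟨V.mul_mem (V.inv_mem ha') ha, h1 ▸ B.mul_mem hb' (B.inv_mem hb)⟩
    rw [hVB, Subgroup.mem_bot] at h2
    have h3 : a = a' := inv_mul_eq_one.1 h2 |>.symm
    subst h3
    exact ⟨rfl, mul_left_cancel h⟩
  have htt : t * t = 1 := CfsgLib.Small.mul_self_of_orderOf_two ht
  have ht1 := CfsgLib.Small.ne_one_of_orderOf_two ht
  have hnt : Nat.card {p : G × G // IsConj z p.1 ∧ IsConj t p.2 ∧
      t ∈ Subgroup.zpowers (p.1 * p.2)} = 195 := by
    let P := {p : B × B // (p.1 ≠ 1 ∧ p.1 * p.1 = 1) ∧ (p.2 * p.2 = 1 ∧ (p.1 * p.2) ^ 15 = 1)}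
    obtain ⟨e⟩ := hB
    have hP : Nat.card P = 195 := by
      rw [← CfsgLib.Inv54.ExtraAlt.pairs_alt, ← Nat.card_eq_fintype_card]
      refine Nat.card_congr ((Equiv.prodCongr e.toEquiv e.toEquiv).subtypeEquiv fun p => ?_)
      show _ ↔ ((e p.1 ≠ 1 ∧ e p.1 * e p.1 = 1) ∧ (e p.2 * e p.2 = 1 ∧ (e p.1 * e p.2) ^ 15 = 1))
      rw [← map_mul, ← map_mul, ← map_mul, ← map_pow, ne_eq, ne_eq, e.map_eq_one_iff,
        e.map_eq_one_iff, e.map_eq_one_iff, e.map_eq_one_iff]
    rw [← hP]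
    have hspec : ∀ p : P, IsConj z (p.1.1 : G) ∧ IsConj t (t * (p.1.2 : G)) ∧
        t ∈ Subgroup.zpowers ((p.1.1 : G) * (t * (p.1.2 : G))) := by
      rintro ⟨⟨u, b⟩, ⟨hu1, hu2⟩, hb2, hub⟩
      dsimp only at *
      have hct : ∀ w : B, Commute t (w : G) := fun w => hcomm t htV w w.2
      have hv : t * (b : G) * (t * b) = 1 := by
        rw [show t * (b : G) * (t * b) = t * ((b : G) * t) * b by group, ← (hct b).eq,
          show t * (t * (b : G)) * b = t * t * ((b : G) * b) by group, htt, one_mul,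
          ← Subgroup.coe_mul, hb2, Subgroup.coe_one]
      have hv1 : t * (b : G) ≠ 1 := fun h =>
        ht1 (huniqD t htV 1 V.one_mem b b.2 1 B.one_mem (by rw [h, one_mul])).1
      refine ⟨(hBz u u.2 ?_).symm, (hCt _ ?_ ?_ ?_).symm, ?_⟩
      · rw [Subgroup.orderOf_coe]; exact orderOf_eq_prime (by rw [pow_two]; exact hu2) hu1
      · exact hDdef ▸ D.mul_mem (hVle htV) (hBle b.2)
      · exact orderOf_eq_prime (by rw [pow_two]; exact hv) hv1
      · intro h
        exact ht1 (huniqD t htV 1 V.one_mem b b.2 _ h (one_mul _).symm).1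
      · refine Subgroup.mem_zpowers_iff.2 ⟨15, ?_⟩
        rw [show (15 : ℤ) = ((15 : ℕ) : ℤ) by rfl, zpow_natCast, ← mul_assoc, ← (hct u).eq,
          mul_assoc, (show Commute t ((u : G) * b) from (hct u).mul_right (hct b)).mul_pow,
          ← Subgroup.coe_mul, ← Subgroup.coe_pow, hub, Subgroup.coe_one, mul_one,
          show (15 : ℕ) = 2 * 7 + 1 from rfl, pow_succ, pow_mul, pow_two, htt, one_pow, one_mul]
    symm
    refine Nat.card_congr (Equiv.ofBijective
      (fun p => ⟨((p.1.1 : G), t * (p.1.2 : G)), hspec p⟩) ⟨?_, ?_⟩)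
    · rintro ⟨⟨u, b⟩, hp⟩ ⟨⟨u', b'⟩, hp'⟩ h
      have h1 := congrArg (fun r : {p : G × G // IsConj z p.1 ∧ IsConj t p.2 ∧
        t ∈ Subgroup.zpowers (p.1 * p.2)} => r.1) h
      simp only [Prod.mk.injEq] at h1
      obtain rfl : u = u' := Subtype.ext h1.1
      obtain rfl : b = b' := Subtype.ext (mul_left_cancel h1.2)
      rfl
    · rintro ⟨⟨u, v⟩, hu, hv, hw⟩
      dsimp only at hu hv hw
      have hu2 := hconj2 hu hz
      have hv2 := hconj2 hv ht
      obtain ⟨hut, hvt⟩ := hinvC hu2 hv2 hw ht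
      have huD : u ∈ D := Subgroup.mem_centralizer_singleton_iff.2 hut
      have hvD : v ∈ D := Subgroup.mem_centralizer_singleton_iff.2 hvt
      have huB : u ∈ B := by_contra fun h => hzt (hu.trans (hCt u huD hu2 h))
      obtain ⟨a, ha, b, hb, rfl⟩ := hfacD v hvD
      have haa : a * a = 1 := by rw [← pow_two]; exact hV2 a ha
      have hbb : b * b = 1 := by
        have h := CfsgLib.Small.mul_self_of_orderOf_two hv2
        rwa [show a * b * (a * b) = a * (b * a) * b by group, ← hcomm a ha b hb,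
          show a * (a * b) * b = a * a * (b * b) by group, haa, one_mul] at h
      obtain ⟨n, hn⟩ : ∃ n : ℕ, (u * (a * b)) ^ n = t :=
        ⟨_, (CfsgLib.Small.invol_mem_zpowers_eq ht hw).symm⟩
      rw [← mul_assoc, ← hcomm a ha u huB, mul_assoc,
        (show Commute a (u * b) from hcomm a ha _ (B.mul_mem huB hb)).mul_pow] at hn
      obtain ⟨han, hbn⟩ := huniqD _ (V.pow_mem ha n) t htV _ (B.pow_mem (B.mul_mem huB hb) n) 1
        B.one_mem (by rw [mul_one, hn])
      have hodd : Odd n := by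
        by_contra hev
        obtain ⟨m, rfl⟩ := Nat.not_odd_iff_even.1 hev
        rw [← two_mul, pow_mul, pow_two, haa, one_pow] at han
        exact ht1 han.symm
      obtain ⟨m, rfl⟩ := hodd
      have hat : a = t := by rwa [pow_succ, pow_mul, pow_two, haa, one_pow, one_mul] at han
      subst hat
      have h15 : (u * b) ^ 15 = 1 := by
        rcases CfsgLib.Inv54.ExtraAlt.odd_exp_alt (e ⟨u * b, B.mul_mem huB hb⟩) with h | h
        · rw [← map_pow, e.map_eq_one_iff] at h
          exact congrArg Subtype.val h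
        · rw [← map_mul, e.map_eq_one_iff] at h
          have h' : u * b * (u * b) = 1 := congrArg Subtype.val h
          rw [pow_succ, pow_mul, pow_two, h', one_pow, one_mul] at hbn
          rw [hbn, one_pow]
      exact ⟨⟨(⟨u, huB⟩, ⟨b, hb⟩), ⟨fun h => CfsgLib.Small.ne_one_of_orderOf_two hu2
        (congrArg Subtype.val h), Subtype.ext (CfsgLib.Small.mul_self_of_orderOf_two hu2)⟩,
        Subtype.ext hbb, Subtype.ext h15⟩, rfl⟩
  -- centralizer orders
  have hA5 : Nat.card (alternatingGroup (Fin 5)) = 60 := by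
    rw [nat_card_alternatingGroup, Nat.card_fin]; rfl
  have hCcard : Nat.card C = 1920 := by
    have h := Nat.card_congr (Equiv.ofBijective
      (fun p : K × Q => (⟨(p.1 : G) * p.2, C.mul_mem (hKle p.1.2) (hQC p.2.2)⟩ : C)) ⟨fun p p' h => by
        obtain ⟨h1, h2⟩ := huniq _ p.1.2 _ p'.1.2 _ p.2.2 _ p'.2.2 (congrArg Subtype.val h)
        exact Prod.ext (Subtype.ext h1) (Subtype.ext h2), fun c => by
        obtain ⟨k, hk, q, hq, h⟩ := hfac c c.2
        exact ⟨(⟨k, hk⟩, ⟨q, hq⟩), Subtype.ext h.symm⟩⟩)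
    obtain ⟨e⟩ := hK
    rw [Nat.card_prod, Nat.card_congr e.toEquiv, hA5,
      show Nat.card Q = 32 from s.hcard] at h
    exact h.symm
  have hDcard : Nat.card D = 240 := by
    have h := Nat.card_congr (Equiv.ofBijective
      (fun p : V × B => (⟨(p.1 : G) * p.2, D.mul_mem (hVle p.1.2) (hBle p.2.2)⟩ : D)) ⟨fun p p' h => by
        obtain ⟨h1, h2⟩ := huniqD _ p.1.2 _ p'.1.2 _ p.2.2 _ p'.2.2 (congrArg Subtype.val h)
        exact Prod.ext (Subtype.ext h1) (Subtype.ext h2), fun c => by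
        obtain ⟨k, hk, q, hq, h⟩ := hfacD c c.2
        exact ⟨(⟨k, hk⟩, ⟨q, hq⟩), Subtype.ext h.symm⟩⟩)
    obtain ⟨e⟩ := hB
    rw [Nat.card_prod, Nat.card_congr e.toEquiv, hA5, hV] at h
    exact h.symm
  rw [CfsgLib.Small.thompson_order z t hz ht hzt
    (fun x hx => (hcl x hx).imp (fun h => h.symm) (fun h => h.symm)), hnz, hnt, ← hDdef, ← hCdef,
    hCcard, hDcard]

end Cfsg.Agent.S3313
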