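import Cfsg.Statements.S3315
import Cfsg.Agent.UThreeSylow.Structure

set_option autoImplicit false
open Cfsg

namespace Cfsg.Agent.S3315

open CfsgLib.UThreeSylow

/-- Let S be a Sylow 2-subgroup of SU₃(2ⁿ), n ≥ 2 (realised over the field with 4ⁿ elements). If a finite 2-group R contains a subgroup S' of index 2 isomorphic to S, then the centre of S' is contained in the centre of R. -/
theorem result {R : Type*} [Group R] [Finite R]
    (hR : IsPGroup 2 R) (n : ℕ) (hn : 2 ≤ n) {F : Type*} [Field F] [Fintype F] (hF : Fintype.card F = 4 ^ n)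
    (P : Sylow 2 ↥(Cfsg.SU 3 F (2 ^ n))) (S' : Subgroup R) (hS : Nonempty (↥S' ≃* ↥(P : Subgroup ↥(Cfsg.SU 3 F (2 ^ n)))))
    (hidx : S'.index = 2) :
    (Subgroup.center ↥S').map S'.subtype ≤ Subgroup.center R := by
  obtain ⟨eS⟩ := hS
  have h : Good F n (2 ^ n) := ⟨rfl, by omega, by rw [hF, ← pow_mul, mul_comm, pow_mul]; norm_num⟩
  obtain ⟨eP⟩ := nonempty_equiv_sylow h P
  set e : uSub h ≃* S' := eP.trans eS.symm
  haveI : S'.Normal := Subgroup.normal_of_index_eq_two hidx
  rintro _ ⟨z, hz, rfl⟩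
  refine Subgroup.mem_center_iff.2 fun r => ?_
  have hzA : cA (e.symm z) = 0 := mem_center_iff.1 (Subgroup.mem_center_iff.2 fun g => e.injective
    (by rw [map_mul, map_mul, e.apply_symm_apply]; exact Subgroup.mem_center_iff.1 hz (e g)))
  let f : MulAut (uSub h) := (MulAut.congr e.symm) (MulAut.conjNormal r)
  have hr2 : r * r ∈ S' := Subgroup.mul_self_mem_of_index_two hidx r
  have hsq : ∀ a, actA (f * f) a = a := by
    intro a
    obtain ⟨g, rfl⟩ : ∃ g : uSub h, cA g = a := ⟨_, cA_gA a⟩
    rw [actA_cA]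
    have h1 : (f * f) g = e.symm ⟨r * r, hr2⟩ * g * (e.symm ⟨r * r, hr2⟩)⁻¹ := by
      apply e.injective
      show e (e.symm (MulAut.conjNormal r (e (e.symm (MulAut.conjNormal r (e g)))))) = _
      simp only [e.apply_symm_apply, map_mul, map_inv]
      refine Subtype.ext ?_
      simp only [MulAut.conjNormal_apply, Subgroup.coe_mul, Subgroup.coe_inv, mul_inv_rev, mul_assoc]
    have h2 := (coords_mul ((f * f) g) (e.symm ⟨r * r, hr2⟩)).1
    rw [show (f * f) g * e.symm ⟨r * r, hr2⟩ = e.symm ⟨r * r, hr2⟩ * g by rw [h1]; group,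
      (coords_mul _ _).1] at h2
    linear_combination -h2
  have hfz := fix_center_of_sq f hsq hzA
  have h3 : MulAut.conjNormal r z = z := by
    have h4 := congrArg e hfz
    rw [e.apply_symm_apply] at h4
    change e (e.symm (MulAut.conjNormal r (e (e.symm z)))) = z at h4
    rwa [e.apply_symm_apply, e.apply_symm_apply] at h4
  have h5 := congrArg Subtype.val h3
  rw [MulAut.conjNormal_apply] at h5
  exact mul_inv_eq_iff_eq_mul.1 h5

end Cfsg.Agent.S3315
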