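import Cfsg.Statements.S4420
-- import your own Cfsg.Agent.* helpers here

set_option autoImplicit false
open Cfsg

namespace Cfsg.Agent.S4420

/-- Structure of groups in which every element outside some proper subgroup has square 1. Let H be a finite group with a proper subgroup A such that every element outside A has square 1. Then H has an abelian normal subgroup B of index 2 such that every element outside B is an involution inverting every element of B; and if H is not an elementary abelian 2-group, B is the only abelian normal subgroup of index 2 with this property. -/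
theorem result {H : Type*} [Group H] [Finite H] (A : Subgroup H) (hA : A ≠ ⊤) (hD : ∀ x : H, x ∉ A → x ^ 2 = 1) :
    ∃ B : Subgroup H, B.Normal ∧ IsMulCommutative ↥B ∧ B.index = 2 ∧
      (∀ x : H, x ∉ B → x ^ 2 = 1 ∧ ∀ b ∈ B, x * b * x⁻¹ = b⁻¹) ∧
      (¬ (IsMulCommutative H ∧ ∀ x : H, x ^ 2 = 1) →
        ∀ B' : Subgroup H, B'.Normal → IsMulCommutative ↥B' → B'.index = 2 →
          (∀ x : H, x ∉ B' → x ^ 2 = 1 ∧ ∀ b ∈ B', x * b * x⁻¹ = b⁻¹) → B' = B) := by
  classical
  have hinv : ∀ x : H, x ∉ A → x⁻¹ = x := fun x hx =>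
    inv_eq_of_mul_eq_one_left (by rw [← sq]; exact hD x hx)
  have hconj : ∀ x : H, x ∉ A → ∀ a ∈ A, x * a * x⁻¹ = a⁻¹ := by
    intro x hx a ha
    have h1 : x * a ∉ A := fun h => hx (by simpa using mul_mem h (inv_mem ha))
    have h2 := hD _ h1
    rw [hinv x hx]
    refine (inv_eq_of_mul_eq_one_left ?_).symm
    rw [sq] at h2
    simpa [mul_assoc] using h2
  by_cases hel : ∀ x : H, x ^ 2 = 1
  · have hinv' : ∀ x : H, x⁻¹ = x := fun x =>
      inv_eq_of_mul_eq_one_left (by rw [← sq]; exact hel x)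
    have hcomm : ∀ a b : H, a * b = b * a := fun a b => by
      have h := hinv' (a * b)
      rw [mul_inv_rev, hinv', hinv'] at h
      exact h.symm
    have hne : (⊥ : Subgroup H) ≠ ⊤ := fun h => hA (top_le_iff.1 (h ▸ bot_le))
    obtain ⟨M, hM, -⟩ := (IsCoatomic.eq_top_or_exists_le_coatom (⊥ : Subgroup H)).resolve_left hne
    have hMn : M.Normal := ⟨fun m hm g => by rwa [hcomm g m, mul_inv_cancel_right]⟩
    obtain ⟨x, hx⟩ : ∃ x, x ∉ M := by
      by_contra hh
      push Not at hh
      exact hM.1 (eq_top_iff.2 fun y _ => hh y)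
    have hidx : M.index = 2 := by
      rw [Subgroup.index_eq_two_iff]
      refine ⟨x, fun b => ?_⟩
      rw [xor_iff_not_iff]
      intro hiff
      have hb : b ∈ M ⊔ Subgroup.zpowers x := by
        rw [hM.2 _ (lt_of_le_of_ne le_sup_left (fun h => hx (by
          rw [h]; exact Subgroup.mem_sup_right (Subgroup.mem_zpowers x))))]
        trivial
      obtain ⟨m, hm, z, hz, rfl⟩ := Subgroup.mem_sup_of_normal_left.1 hb
      obtain ⟨k, rfl⟩ := hz
      simp only at hiff
      have hx2 : x ^ (2 : ℤ) = 1 := by exact_mod_cast hel x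
      rcases Int.even_or_odd' k with ⟨l, rfl | rfl⟩
      · rw [zpow_mul, hx2, one_zpow, mul_one, Subgroup.mul_mem_cancel_left _ hm] at hiff
        exact hx (hiff.2 hm)
      · rw [zpow_add, zpow_mul, hx2, one_zpow, one_mul, zpow_one, mul_assoc, ← sq, hel, mul_one,
          Subgroup.mul_mem_cancel_left _ hm] at hiff
        exact hx (hiff.1 hm)
    refine ⟨M, hMn, ⟨⟨fun a b => Subtype.ext (hcomm _ _)⟩⟩, hidx, fun y _ => ⟨hel y, fun b _ => ?_⟩, ?_⟩
    · rw [hcomm y b, mul_inv_cancel_right, hinv']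
    · intro hnot
      exact absurd ⟨⟨⟨hcomm⟩⟩, hel⟩ hnot
  · push Not at hel
    obtain ⟨h, hh⟩ := hel
    obtain ⟨x₀, hx₀⟩ : ∃ x, x ∉ A := by
      by_contra hc
      push Not at hc
      exact hA (eq_top_iff.2 fun y _ => hc y)
    have key : ∀ (B : Subgroup H), (∀ x : H, x ∉ B → x ^ 2 = 1 ∧ ∀ b ∈ B, x * b * x⁻¹ = b⁻¹) →
        IsMulCommutative ↥B → ∀ x, x ∈ B ↔ x * h * x⁻¹ = h := by
      intro B hB hBc x
      have hhB : h ∈ B := by
        by_contra h'
        exact hh (hB h h').1
      constructor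
      · intro hx
        have : x * h = h * x :=
          congrArg Subtype.val (hBc.is_comm.comm (⟨x, hx⟩ : B) ⟨h, hhB⟩)
        rw [this, mul_inv_cancel_right]
      · intro he
        by_contra hx
        rw [(hB x hx).2 h hhB, inv_eq_iff_mul_eq_one, ← sq] at he
        exact hh he
    have hAc : IsMulCommutative ↥A := by
      refine ⟨⟨fun a b => Subtype.ext ?_⟩⟩
      have h1 := hconj x₀ hx₀ _ (mul_mem a.2 b.2)
      have h2 := hconj x₀ hx₀ _ a.2
      have h3 := hconj x₀ hx₀ _ b.2
      have h4 : ((a : H) * b)⁻¹ = (a : H)⁻¹ * (b : H)⁻¹ := by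
        rw [← h1, ← h2, ← h3]
        group
      rw [mul_inv_rev] at h4
      simpa using (congrArg (·⁻¹) h4)
    have hAp : ∀ x : H, x ∉ A → x ^ 2 = 1 ∧ ∀ b ∈ A, x * b * x⁻¹ = b⁻¹ :=
      fun x hx => ⟨hD x hx, hconj x hx⟩
    have hkA := key A hAp hAc
    have hhA : h ∈ A := by
      by_contra h'
      exact hh (hD h h')
    have hidx : A.index = 2 := by
      rw [Subgroup.index_eq_two_iff]
      refine ⟨x₀, fun b => ?_⟩
      rw [xor_iff_not_iff]
      intro hiff
      by_cases hb : b ∈ A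
      · exact hx₀ ((A.mul_mem_cancel_left hb).1 (hiff.2 hb))
      · refine hb (hiff.1 ((hkA _).2 ?_))
        calc b * x₀ * h * (b * x₀)⁻¹ = b * (x₀ * h * x₀⁻¹) * b⁻¹ := by group
          _ = (b * h * b⁻¹)⁻¹ := by rw [hconj x₀ hx₀ h hhA]; group
          _ = h := by rw [hconj b hb h hhA, inv_inv]
    refine ⟨A, Subgroup.normal_of_index_eq_two hidx, hAc, hidx, hAp, fun _ B' _ hBc _ hB' => ?_⟩
    ext x
    rw [hkA, key B' hB' hBc]

end Cfsg.Agent.S4420
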