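import Cfsg.Statements.S3322
import Cfsg.Agent.DGroupCent.Reduction
import Cfsg.Agent.S4420

set_option autoImplicit false
open Cfsg

namespace Cfsg.Agent.S3322

/-- Call a group a D-group when it has a proper subgroup outside of which every element x satisfies x² = 1 (for instance a dihedral group, or an elementary abelian 2-group). Let G be a finite group with a subgroup H that is a D-group (witnessed by a proper subgroup A of H) of order divisible by 4, such that H = C_G(j) for every involution j in the centre of H. If G is not solvable, then G has a normal subgroup N whose order is odd or twice an odd number with G/N isomorphic to PSL(2, q) or PGL(2, q) for some prime power q > 3 (q may be even). -/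
theorem result
    {G : Type*} [Group G] [Finite G] (H A : Subgroup G) (hAH : A < H) (hD : ∀ x ∈ H, x ∉ A → x ^ 2 = 1)
    (h4 : 4 ∣ Nat.card ↥H)
    (hC : ∀ j ∈ H, orderOf j = 2 → (∀ h ∈ H, h * j = j * h) → Subgroup.centralizer ({j} : Set G) = H)
    (hns : ¬ Group.IsSolvable G) :
    ∃ (N : Subgroup G) (_ : N.Normal), (Odd (Nat.card ↥N) ∨ ∃ m : ℕ, Odd m ∧ Nat.card ↥N = 2 * m) ∧
      ∃ (F : Type) (_ : Field F) (_ : Fintype F), 3 < Fintype.card F ∧
        (Nonempty (G ⧸ N ≃* Matrix.ProjectiveSpecialLinearGroup (Fin 2) F) ∨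
          Nonempty (G ⧸ N ≃* Matrix.ProjGenLinGroup (Fin 2) F)) := by
  by_cases hexp : ∀ h ∈ H, h * h = 1
  · exact CfsgLib.DGroupCent.concl_of_exp_two H h4 hexp hC hns
  obtain ⟨B₀, -, hBc, hBi, hout, -⟩ := Cfsg.Agent.S4420.result (H := H) (A.subgroupOf H)
    (fun e => hAH.not_ge (Subgroup.subgroupOf_eq_top.1 e))
    (fun x hx => Subtype.ext (hD x x.2 fun h => hx (Subgroup.mem_subgroupOf.2 h)))
  have hmem : ∀ {h : G} (hh : h ∈ H), h ∈ B₀.map H.subtype → (⟨h, hh⟩ : H) ∈ B₀ := by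
    rintro h hh ⟨w, hw, rfl⟩
    exact hw
  have hsq : ∀ h ∈ H, h ∉ B₀.map H.subtype → h * h = 1 := fun h hh hn => by
    have e := congrArg Subtype.val (hout ⟨h, hh⟩ fun hb => hn ⟨_, hb, rfl⟩).1
    simpa [sq] using e
  refine CfsgLib.DGroupCent.Hyp.concl (H := H) (B := B₀.map H.subtype)
    ⟨Subgroup.map_subtype_le _, ?_, hsq, ?_, ?_, ?_, hC, ?_⟩ hns h4
  · rintro _ ⟨a, ha, rfl⟩ _ ⟨b, hb, rfl⟩
    haveI := hBc
    exact congrArg (fun w : B₀ => ((w : H) : G)) (mul_comm' (⟨a, ha⟩ : B₀) ⟨b, hb⟩)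
  · rintro h hh hn _ ⟨b, hb, rfl⟩
    exact congrArg Subtype.val ((hout ⟨h, hh⟩ fun hb' => hn ⟨_, hb', rfl⟩).2 b hb)
  · intro h hh hn h' hh' hn'
    exact ⟨⟨h, hh⟩ * ⟨h', hh'⟩, (Subgroup.mul_mem_iff_of_index_two hBi).2
      (iff_of_false (fun hb => hn ⟨_, hb, rfl⟩) fun hb => hn' ⟨_, hb, rfl⟩), rfl⟩
  · obtain ⟨x, -, hx⟩ := SetLike.exists_of_lt (show B₀ < ⊤ from lt_top_iff_ne_top.2 fun e => by
      rw [e, Subgroup.index_top] at hBi
      exact absurd hBi (by decide))
    exact ⟨x, x.2, fun h => hx (hmem x.2 h)⟩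
  · by_contra hno
    push Not at hno
    exact hexp fun h hh => (em (h ∈ B₀.map H.subtype)).elim (hno h) (hsq h hh)

end Cfsg.Agent.S3322
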