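import Cfsg.Statements.S3335
import Cfsg.Agent.CoxeterSym.Basic
-- import your own Cfsg.Agent.* helpers here

set_option autoImplicit false
open Cfsg

namespace Cfsg.Agent.S3335

open CfsgLib.CoxeterSym

/-- The relations of the Carmichael presentation. -/
def altRels (k : ℕ) : Set (FreeGroup (Fin k)) :=
  {g : FreeGroup (Fin k) | ∃ i : Fin k, i.val = 0 ∧ g = FreeGroup.of i ^ 3} ∪
    {g | ∃ i : Fin k, 1 ≤ i.val ∧ g = FreeGroup.of i ^ 2} ∪
    {g | ∃ i j : Fin k, j.val = i.val + 1 ∧ g = (FreeGroup.of i * FreeGroup.of j) ^ 3} ∪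
    {g | ∃ i j : Fin k, i.val + 1 < j.val ∧ g = (FreeGroup.of i * FreeGroup.of j) ^ 2}

lemma inv_mul_pow {W : Type*} [Group W] {a b : W} (hb : b * b = 1) (m : ℕ)
    (h : (a * b) ^ m = 1) : (a⁻¹ * b) ^ m = 1 := by
  have hb' : b⁻¹ = b := inv_eq_of_mul_eq_one_right hb
  have e : a⁻¹ * b = b * (a * b)⁻¹ * b⁻¹ := by
    rw [mul_inv_rev, hb', ← mul_assoc b b, hb, one_mul]
  rw [e, conj_pow, inv_pow, h, inv_one, mul_one, mul_inv_cancel]

theorem presentation (k : ℕ) (hk : 0 < k) :
    Nonempty (PresentedGroup (altRels k) ≃* alternatingGroup (Fin (k + 2))) := by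
  classical
  let g : Fin k → PresentedGroup (altRels k) := PresentedGroup.of
  have h3 : g ⟨0, hk⟩ ^ 3 = 1 :=
    PresentedGroup.one_of_mem (rels := altRels k) (x := FreeGroup.of (⟨0, hk⟩ : Fin k) ^ 3)
      (Set.mem_union_left _ (Set.mem_union_left _ (Set.mem_union_left _ ⟨_, rfl, rfl⟩)))
  have h2 : ∀ i : Fin k, 1 ≤ i.val → g i * g i = 1 := by
    intro i hi
    rw [← pow_two]
    exact PresentedGroup.one_of_mem (rels := altRels k) (x := FreeGroup.of i ^ 2)
      (Set.mem_union_left _ (Set.mem_union_left _ (Set.mem_union_right _ ⟨_, hi, rfl⟩)))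
  have hb : ∀ i j : Fin k, j.val = i.val + 1 → (g i * g j) ^ 3 = 1 := fun i j h =>
    PresentedGroup.one_of_mem (rels := altRels k) (x := (FreeGroup.of i * FreeGroup.of j) ^ 3)
      (Set.mem_union_left _ (Set.mem_union_right _ ⟨_, _, h, rfl⟩))
  have hc : ∀ i j : Fin k, i.val + 1 < j.val → (g i * g j) ^ 2 = 1 := fun i j h =>
    PresentedGroup.one_of_mem (rels := altRels k) (x := (FreeGroup.of i * FreeGroup.of j) ^ 2)
      (Set.mem_union_right _ ⟨_, _, h, rfl⟩)
  -- the automorphism induced by an odd permutation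
  let f : Fin k → PresentedGroup (altRels k) := fun i => if i.val = 0 then (g i)⁻¹ else g i
  have hfne : ∀ i : Fin k, 1 ≤ i.val → f i = g i := fun i hi => if_neg (by omega)
  have hpair : ∀ i j : Fin k, i.val < j.val → ∀ m, (g i * g j) ^ m = 1 → (f i * g j) ^ m = 1 := by
    intro i j hij m h
    by_cases hi : i.val = 0
    · simp only [f, if_pos hi]
      exact inv_mul_pow (h2 j (by omega)) m h
    · simp only [f, if_neg hi]
      exact h
  have hf : ∀ r ∈ altRels k, FreeGroup.lift f r = 1 := by
    rintro r (((⟨i, hi, rfl⟩ | ⟨i, hi, rfl⟩) | ⟨i, j, hij, rfl⟩) | ⟨i, j, hij, rfl⟩)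
    · obtain rfl : i = ⟨0, hk⟩ := Fin.ext hi
      rw [map_pow, FreeGroup.lift_apply_of]
      simp only [f, if_true]
      rw [inv_pow, h3, inv_one]
    · rw [map_pow, FreeGroup.lift_apply_of, hfne i hi, pow_two, h2 i hi]
    · rw [map_pow, map_mul, FreeGroup.lift_apply_of, FreeGroup.lift_apply_of, hfne j (by omega)]
      exact hpair i j (by omega) 3 (hb i j hij)
    · rw [map_pow, map_mul, FreeGroup.lift_apply_of, FreeGroup.lift_apply_of, hfne j (by omega)]
      exact hpair i j (by omega) 2 (hc i j hij)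
  let σ₀ := PresentedGroup.toGroup hf
  have hσg : ∀ i, σ₀ (g i) = f i := fun i => PresentedGroup.toGroup.of hf
  have hσσ : σ₀.comp σ₀ = MonoidHom.id _ := by
    refine PresentedGroup.ext fun i => ?_
    rw [MonoidHom.comp_apply, MonoidHom.id_apply]
    change σ₀ (σ₀ (g i)) = g i
    rw [hσg]
    by_cases hi : i.val = 0
    · simp only [f, if_pos hi, map_inv, hσg, inv_inv]
    · simp only [f, if_neg hi, hσg]
  let σ : MulAut (PresentedGroup (altRels k)) :=
    { toFun := σ₀
      invFun := σ₀
      left_inv := fun x => DFunLike.congr_fun hσσ x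
      right_inv := fun x => DFunLike.congr_fun hσσ x
      map_mul' := map_mul σ₀ }
  have hσ2 : σ * σ = 1 := MulEquiv.ext fun x => DFunLike.congr_fun hσσ x
  -- the extension satisfies the relations of the symmetric group
  let C := Subgroup.zpowers σ
  let W := PresentedGroup (altRels k) ⋊[C.subtype] C
  let s : W := SemidirectProduct.inr ⟨σ, Subgroup.mem_zpowers σ⟩
  let ι : PresentedGroup (altRels k) →* W := SemidirectProduct.inl
  have hs : s * s = 1 := by
    rw [← map_mul]
    exact (congrArg SemidirectProduct.inr (Subtype.ext hσ2)).trans (map_one _)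
  have hconj : ∀ x, s * ι x = ι (σ₀ x) * s := fun x => by
    change (SemidirectProduct.inr (⟨σ, Subgroup.mem_zpowers σ⟩ : C) : W) * SemidirectProduct.inl x
      = SemidirectProduct.inl (C.subtype ⟨σ, Subgroup.mem_zpowers σ⟩ x) * SemidirectProduct.inr _
    rw [SemidirectProduct.inl_aut, map_inv, inv_mul_cancel_right]
  let τ : ℕ → W := fun m => if h : 0 < m ∧ m - 1 < k then s * ι (g ⟨m - 1, h.2⟩) else s
  have hτ : ∀ i : Fin k, τ (i.val + 1) = s * ι (g i) := fun i => by
    have h : 0 < i.val + 1 ∧ i.val + 1 - 1 < k := ⟨by omega, by omega⟩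
    simp only [τ, dif_pos h]
    rfl
  have hτ0 : τ 0 = s := by simp [τ]
  have hprod : ∀ i j : Fin k, τ (i.val + 1) * τ (j.val + 1) = ι (f i * g j) := by
    intro i j
    rw [hτ, hτ, hconj (g i), hσg, mul_assoc, ← mul_assoc s s, hs, one_mul, ← map_mul]
  have hprod0 : ∀ j : Fin k, τ 0 * τ (j.val + 1) = ι (g j) := by
    intro j
    rw [hτ0, hτ, ← mul_assoc, hs, one_mul]
  have hsq : ∀ m, m < k + 1 → τ m * τ m = 1 := by
    rintro (_ | m) hm
    · rw [hτ0, hs]
    · have := hprod ⟨m, by omega⟩ ⟨m, by omega⟩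
      rw [this]
      by_cases hm0 : m = 0
      · simp only [f, if_pos hm0, inv_mul_cancel, map_one]
      · simp only [f, if_neg hm0]
        rw [h2 _ (by simp; omega), map_one]
  have hgens : IsSymGens (k + 1) τ := by
    refine ⟨hsq, fun i hi => ?_, fun i j hij hj => ?_⟩
    · rw [braid_iff (hsq i (by omega)) (hsq (i + 1) hi)]
      rcases i with _ | i
      · have := hprod0 ⟨0, hk⟩
        rw [this, ← map_pow, h3, map_one]
      · have := hprod ⟨i, by omega⟩ ⟨i + 1, by omega⟩
        rw [this, ← map_pow, hpair _ _ (by simp) 3 (hb _ _ rfl), map_one]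
    · rw [comm_iff (hsq i (by omega)) (hsq j hj)]
      obtain ⟨j, rfl⟩ : ∃ j', j = j' + 1 := ⟨j - 1, by omega⟩
      rcases i with _ | i
      · have := hprod0 ⟨j, by omega⟩
        rw [this, ← map_pow, pow_two, h2 _ (by simp; omega), map_one]
      · have := hprod ⟨i, by omega⟩ ⟨j, by omega⟩
        rw [this, ← map_pow, hpair _ _ (by simp; omega) 2 (hc _ _ (by simp; omega)), map_one]
  have hgen : genSubgroup (k + 1) τ = ⊤ := by
    rw [eq_top_iff]
    have hs' : s ∈ genSubgroup (k + 1) τ := hτ0 ▸ mem_genSubgroup τ (by omega)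
    have hι : ∀ x, ι x ∈ genSubgroup (k + 1) τ := by
      intro x
      refine PresentedGroup.generated_by _ ((genSubgroup (k + 1) τ).comap ι) (fun i => ?_) x
      rw [Subgroup.mem_comap]
      change ι (g i) ∈ _
      rw [← hprod0 i]
      exact mul_mem (hτ0 ▸ hs') (mem_genSubgroup τ (by omega))
    intro w _
    rw [← SemidirectProduct.inl_left_mul_inr_right w]
    refine mul_mem (hι _) ?_
    obtain ⟨e, he⟩ := Subgroup.mem_zpowers_iff.mp w.right.2
    have : (SemidirectProduct.inr w.right : W) = s ^ e := by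
      rw [← map_zpow]
      exact congrArg SemidirectProduct.inr (Subtype.ext (by rw [Subgroup.coe_zpow, he]))
    rw [this]
    exact zpow_mem hs' e
  obtain ⟨hWfin, hWcard⟩ := finite_card_le_of_generated hgens hgen
  haveI := hWfin
  haveI : Finite (PresentedGroup (altRels k)) :=
    Finite.of_injective ι SemidirectProduct.inl_injective
  -- the map to the alternating group
  let π : ℕ → Equiv.Perm (Fin (k + 2)) := fun m =>
    if h : m < k + 1 then adjSwap (k + 1) ⟨m, h⟩ else 1
  have hπdef : ∀ i : Fin (k + 1), π i = adjSwap (k + 1) i := fun i => by simp only [π, dif_pos i.isLt]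
  have hπ : IsSymGens (k + 1) π := by
    have e : ∀ m, m < k + 1 → π m = presentedEquiv (k + 1) (presGen (k + 1) m) := fun m hm => by
      rw [show presGen (k + 1) m = PresentedGroup.of ⟨m, hm⟩ from presGen_eq ⟨m, hm⟩, presentedEquiv_of]
      exact hπdef ⟨m, hm⟩
    have H := presGen_isSymGens (k + 1)
    exact ⟨fun i hi => by rw [e i hi, ← map_mul, H.sq i hi, map_one],
      fun i hi => by rw [e i (by omega), e (i + 1) hi, ← map_mul, ← map_mul, H.braid i hi, map_mul, map_mul],
      fun i j hij hj => by rw [e i (by omega), e j hj, ← map_mul, H.comm i j hij hj, map_mul]⟩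
  let y : Fin k → Equiv.Perm (Fin (k + 2)) := fun i => π 0 * π (i.val + 1)
  have hyy : ∀ i j : Fin k, i.val < j.val →
      y i * y j = π 0 * (π (i.val + 1) * π (j.val + 1)) * (π 0)⁻¹ := by
    intro i j hij
    rw [inv_eq_of_mul_eq_one_right (hπ.sq 0 (by omega))]
    simp only [y, mul_assoc]
    rw [hπ.comm 0 (j.val + 1) (by omega) (by omega)]
  have hy : ∀ r ∈ altRels k, FreeGroup.lift y r = 1 := by
    rintro r (((⟨i, hi, rfl⟩ | ⟨i, hi, rfl⟩) | ⟨i, j, hij, rfl⟩) | ⟨i, j, hij, rfl⟩)
    · rw [map_pow, FreeGroup.lift_apply_of]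
      simp only [y, hi]
      exact (braid_iff (hπ.sq 0 (by omega)) (hπ.sq 1 (by omega))).mp (hπ.braid 0 (by omega))
    · rw [map_pow, FreeGroup.lift_apply_of]
      exact (comm_iff (hπ.sq 0 (by omega)) (hπ.sq _ (by omega))).mp (hπ.comm 0 (i.val + 1) (by omega) (by omega))
    · rw [map_pow, map_mul, FreeGroup.lift_apply_of, FreeGroup.lift_apply_of, hyy i j (by omega), conj_pow,
        show j.val + 1 = i.val + 1 + 1 by omega,
        (braid_iff (hπ.sq _ (by omega)) (hπ.sq _ (by omega))).mp (hπ.braid (i.val + 1) (by omega)),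
        mul_one, mul_inv_cancel]
    · rw [map_pow, map_mul, FreeGroup.lift_apply_of, FreeGroup.lift_apply_of, hyy i j (by omega), conj_pow,
        (comm_iff (hπ.sq _ (by omega)) (hπ.sq _ (by omega))).mp (hπ.comm (i.val + 1) (j.val + 1) (by omega) (by omega)),
        mul_one, mul_inv_cancel]
  let Φ := PresentedGroup.toGroup hy
  have hsign : ∀ m, m < k + 1 → Equiv.Perm.sign (π m) = -1 := fun m hm => by
    rw [show π m = adjSwap (k + 1) ⟨m, hm⟩ from hπdef ⟨m, hm⟩]
    exact Equiv.Perm.sign_swap (Fin.ne_of_lt (Fin.castSucc_lt_succ (i := ⟨m, hm⟩)))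
  have hΦ : ∀ x, Φ x ∈ alternatingGroup (Fin (k + 2)) := by
    intro x
    refine PresentedGroup.generated_by _ ((alternatingGroup (Fin (k + 2))).comap Φ) (fun i => ?_) x
    rw [Subgroup.mem_comap, PresentedGroup.toGroup.of, Equiv.Perm.mem_alternatingGroup]
    simp [y, hsign 0 (by omega), hsign (i.val + 1) (by omega)]
  have hσne : σ ≠ 1 := by
    intro h
    have h1 : f ⟨0, hk⟩ = g ⟨0, hk⟩ := by
      rw [← hσg]
      exact DFunLike.congr_fun h (g ⟨0, hk⟩)
    simp only [f, if_true] at h1
    have h4 : g ⟨0, hk⟩ = 1 := by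
      have : g ⟨0, hk⟩ * g ⟨0, hk⟩ = 1 := by nth_rw 1 [← h1]; exact inv_mul_cancel _
      have h3' := h3
      rw [pow_succ, pow_two, this, one_mul] at h3'
      exact h3'
    have h5 := congrArg Φ h4
    simp only [g, Φ, PresentedGroup.toGroup.of, map_one, y] at h5
    have h6 : π 1 = π 0 := by
      have := congrArg (π 0 * ·) h5
      simpa [← mul_assoc, hπ.sq 0 (by omega)] using this
    have h7 : π 1 0 = π 0 0 := by rw [h6]
    have e1 : π 1 = adjSwap (k + 1) ⟨1, by omega⟩ := hπdef ⟨1, by omega⟩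
    have e0 : π 0 = adjSwap (k + 1) ⟨0, by omega⟩ := hπdef ⟨0, by omega⟩
    rw [e1, e0, adjSwap, adjSwap] at h7
    rw [Equiv.swap_apply_of_ne_of_ne (by simp [Fin.ext_iff]) (by simp [Fin.ext_iff])] at h7
    rw [show (0 : Fin (k + 1 + 1)) = (⟨0, by omega⟩ : Fin (k + 1)).castSucc from rfl,
      Equiv.swap_apply_left] at h7
    simp [Fin.ext_iff] at h7
  have hCcard : Nat.card C = 2 := by
    rw [Nat.card_zpowers]
    exact orderOf_eq_prime (by rw [pow_two, hσ2]) hσne
  have hPcard : 2 * Nat.card (PresentedGroup (altRels k)) ≤ (k + 2).factorial := by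
    have hW : Nat.card W = Nat.card (PresentedGroup (altRels k)) * Nat.card C := SemidirectProduct.card
    rw [hW, hCcard] at hWcard
    rw [mul_comm]
    exact hWcard
  -- surjectivity
  have hrange : Φ.range = alternatingGroup (Fin (k + 2)) := by
    refine le_antisymm (by rintro _ ⟨x, rfl⟩; exact hΦ x) ?_
    have h0 : π 0 * π 0 = 1 := hπ.sq 0 (by omega)
    have hnorm : ∀ z ∈ Φ.range, π 0 * z * π 0 ∈ Φ.range := by
      rintro _ ⟨x, rfl⟩
      refine ⟨σ₀ x, ?_⟩
      have key : Φ.comp σ₀ = (MulAut.conj (π 0)).toMonoidHom.comp Φ := by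
        refine PresentedGroup.ext fun i => ?_
        change Φ (σ₀ (g i)) = MulAut.conj (π 0) (Φ (g i))
        rw [hσg, MulAut.conj_apply, inv_eq_of_mul_eq_one_right h0]
        simp only [g, Φ, PresentedGroup.toGroup.of, y]
        by_cases hi : i.val = 0
        · simp only [f, if_pos hi, map_inv, g, PresentedGroup.toGroup.of, y, hi]
          rw [mul_inv_rev, inv_eq_of_mul_eq_one_right h0,
            inv_eq_of_mul_eq_one_right (hπ.sq 1 (by omega)), ← mul_assoc, h0, one_mul]
        · simp only [f, if_neg hi, g, PresentedGroup.toGroup.of, y]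
          rw [← mul_assoc (π 0) (π 0), h0, one_mul,
            hπ.comm 0 (i.val + 1) (by omega) (by omega)]
      have := DFunLike.congr_fun key x
      rw [MonoidHom.comp_apply, MonoidHom.comp_apply] at this
      rw [this]
      change MulAut.conj (π 0) (Φ x) = _
      rw [MulAut.conj_apply, inv_eq_of_mul_eq_one_right h0]
    -- every permutation lies in the range or in its translate
    let T : Submonoid (Equiv.Perm (Fin (k + 2))) :=
      { carrier := {z | z ∈ Φ.range ∨ z * π 0 ∈ Φ.range}
        one_mem' := Or.inl (one_mem _)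
        mul_mem' := by
          rintro a b ha hb
          have hab : ∀ c ∈ Φ.range, π 0 * c * π 0 ∈ Φ.range := hnorm
          rcases ha with ha | ha <;> rcases hb with hb | hb
          · exact Or.inl (mul_mem ha hb)
          · exact Or.inr (by rw [mul_assoc]; exact mul_mem ha hb)
          · refine Or.inr ?_
            have : a * b * π 0 = a * π 0 * (π 0 * b * π 0) := by
              rw [show a * π 0 * (π 0 * b * π 0) = a * (π 0 * π 0) * b * π 0 by simp only [mul_assoc], h0, mul_one]
            rw [this]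
            exact mul_mem ha (hab _ hb)
          · refine Or.inl ?_
            have : a * b = a * π 0 * (π 0 * (b * π 0) * π 0) := by
              rw [show a * π 0 * (π 0 * (b * π 0) * π 0) = a * (π 0 * π 0) * b * (π 0 * π 0) by simp only [mul_assoc],
                h0, mul_one, mul_one]
            rw [this]
            exact mul_mem ha (hab _ hb) }
    intro z hz
    have hzT : z ∈ T := by
      have hz' : z ∈ Submonoid.closure
          (Set.range fun i : Fin (k + 1) => Equiv.swap i.castSucc i.succ) := by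
        rw [Equiv.Perm.mclosure_swap_castSucc_succ]; trivial
      refine Submonoid.closure_le (S := T).mpr ?_ hz'
      rintro _ ⟨i, rfl⟩
      change Equiv.swap i.castSucc i.succ ∈ Φ.range ∨ Equiv.swap i.castSucc i.succ * π 0 ∈ Φ.range
      right
      rw [show Equiv.swap i.castSucc i.succ = π i.val from (hπdef i).symm]
      rcases Nat.eq_zero_or_pos i.val with hi | hi
      · rw [hi, h0]; exact one_mem _
      · have := inv_mem (MonoidHom.mem_range.mpr ⟨g ⟨i.val - 1, by omega⟩, rfl⟩ : Φ (g ⟨i.val - 1, by omega⟩) ∈ Φ.range)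
        simp only [g, Φ, PresentedGroup.toGroup.of, y, mul_inv_rev,
          inv_eq_of_mul_eq_one_right h0] at this
        rwa [show i.val - 1 + 1 = i.val by omega,
          inv_eq_of_mul_eq_one_right (hπ.sq i.val i.isLt)] at this
    rcases hzT with h | h
    · exact h
    · exfalso
      obtain ⟨x, hx⟩ := h
      have h1 := Equiv.Perm.mem_alternatingGroup.mp (hΦ x)
      rw [hx, map_mul, Equiv.Perm.mem_alternatingGroup.mp hz, hsign 0 (by omega)] at h1
      simp at h1
  have hAlt : 2 * Nat.card (alternatingGroup (Fin (k + 2))) = (k + 2).factorial := by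
    rw [Nat.card_eq_fintype_card, two_mul_card_alternatingGroup, Fintype.card_perm, Fintype.card_fin]
  let Ψ := Φ.codRestrict (alternatingGroup (Fin (k + 2))) hΦ
  have hΨ : Function.Surjective Ψ := by
    rintro ⟨z, hz⟩
    obtain ⟨x, hx⟩ := hrange ▸ hz
    exact ⟨x, Subtype.ext hx⟩
  refine ⟨MulEquiv.ofBijective Ψ ((Nat.bijective_iff_surjective_and_card Ψ).mpr ⟨hΨ, le_antisymm ?_ ?_⟩)⟩
  · omega
  · exact Nat.card_le_card_of_surjective Ψ hΨ


/-- A presentation of the alternating group of degree n ≥ 3 on generators x_1, …, x_{n−2} (indexed here by 0, …, n−3): the first generator cubes to 1, every other generator squares to 1, the product of two consecutive generators has order dividing 3, and the product of two generators at distance at least 2 has order dividing 2. The group so presented is isomorphic to the alternating group of degree n. -/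
theorem result (n : ℕ) (hn : 3 ≤ n) :
    Nonempty (PresentedGroup
      ({g : FreeGroup (Fin (n - 2)) | ∃ i : Fin (n - 2), i.val = 0 ∧ g = FreeGroup.of i ^ 3} ∪
       {g | ∃ i : Fin (n - 2), 1 ≤ i.val ∧ g = FreeGroup.of i ^ 2} ∪
       {g | ∃ i j : Fin (n - 2), j.val = i.val + 1 ∧ g = (FreeGroup.of i * FreeGroup.of j) ^ 3} ∪
       {g | ∃ i j : Fin (n - 2), i.val + 1 < j.val ∧ g = (FreeGroup.of i * FreeGroup.of j) ^ 2})
      ≃* alternatingGroup (Fin n)) := by
  obtain ⟨k, rfl⟩ : ∃ k, n = k + 2 := ⟨n - 2, by omega⟩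
  exact presentation k (by omega)

end Cfsg.Agent.S3335
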