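import Cfsg.Statements.S3349
-- import your own Cfsg.Agent.* helpers here

set_option autoImplicit false
open Cfsg

namespace Cfsg.Agent.S3349

/-- Let Q be a finite extraspecial p-group and α an automorphism of Q fixing every element of some maximal abelian subgroup of Q. Then the order of α is a power of p. -/
theorem result {Q : Type*} [Group Q] [Finite Q]
    (p : ℕ) [Fact p.Prime] (hQ : Cfsg.IsExtraspecial p Q) (α : MulAut Q)
    (A : Subgroup Q) (hA : IsMulCommutative A) (hmax : ∀ B : Subgroup Q, A ≤ B → IsMulCommutative B → B = A)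
    (hfix : ∀ a ∈ A, α a = a) :
    ∃ k : ℕ, orderOf α = p ^ k := by
  obtain ⟨⟨hpQ, hfr, hcomm⟩, -⟩ := hQ
  have hAc : ∀ x ∈ A, ∀ y ∈ A, x * y = y * x := fun x hx y hy => by
    have := hA.is_comm.comm ⟨x, hx⟩ ⟨y, hy⟩
    exact congrArg Subtype.val this
  have hcent : ∀ c : Q, (∀ a ∈ A, c * a = a * c) → c ∈ A := by
    intro c hc
    have hB : IsMulCommutative (Subgroup.closure ((A : Set Q) ∪ {c})) := by
      refine Subgroup.isMulCommutative_closure ?_
      intro x hx y hy
      rcases hx with hx | hx <;> rcases hy with hy | hy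
      · exact hAc x hx y hy
      · rw [Set.mem_singleton_iff] at hy; subst hy; exact (hc x hx).symm
      · rw [Set.mem_singleton_iff] at hx; subst hx; exact hc y hy
      · rw [Set.mem_singleton_iff] at hx hy; subst hx; subst hy; rfl
    have := hmax _ (fun x hx => Subgroup.subset_closure (Or.inl hx)) hB
    rw [← this]
    exact Subgroup.subset_closure (Or.inr rfl)
  have hZ : Subgroup.center Q ≤ A := fun z hz =>
    hcent z fun a _ => (Subgroup.mem_center_iff.mp hz a).symm
  have hN : ∀ q : Q, ∀ a ∈ A, q * a * q⁻¹ ∈ A := by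
    intro q a ha
    have h1 : q * a * q⁻¹ * a⁻¹ ∈ A := by
      apply hZ
      rw [← hcomm, commutator_def]
      exact Subgroup.commutator_mem_commutator (Subgroup.mem_top q) (Subgroup.mem_top a)
    have : q * a * q⁻¹ = q * a * q⁻¹ * a⁻¹ * a := by group
    rw [this]; exact A.mul_mem h1 ha
  have hb : ∀ q : Q, q⁻¹ * α q ∈ A := by
    intro q
    refine hcent _ fun a ha => ?_
    have h2 : α (q * a * q⁻¹) = q * a * q⁻¹ := hfix _ (hN q a ha)
    rw [map_mul, map_mul, map_inv, hfix a ha] at h2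
    calc q⁻¹ * α q * a = q⁻¹ * (α q * a * (α q)⁻¹) * α q := by group
      _ = q⁻¹ * (q * a * q⁻¹) * α q := by rw [h2]
      _ = a * (q⁻¹ * α q) := by group
  have hk : ∀ (k : ℕ) (q : Q), (α ^ k) q = q * (q⁻¹ * α q) ^ k := by
    intro k q
    induction k with
    | zero => simp
    | succ k ih =>
      rw [pow_succ', MulAut.mul_apply, ih, map_mul, map_pow, hfix _ (hb q), pow_succ' (q⁻¹ * α q),
        ← mul_assoc, mul_inv_cancel_left]
  obtain ⟨n, hn⟩ := IsPGroup.iff_card.mp hpQ
  have h1 : α ^ (p ^ n) = 1 := by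
    ext q
    rw [hk, MulAut.one_apply, ← hn, pow_card_eq_one', mul_one]
  obtain ⟨j, -, hj⟩ := (Nat.dvd_prime_pow Fact.out).mp (orderOf_dvd_of_pow_eq_one h1)
  exact ⟨j, hj⟩

end Cfsg.Agent.S3349
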