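import Cfsg.Statements.S3357
import Cfsg.Agent.FrobComp.Complement
-- import your own Cfsg.Agent.* helpers here

set_option autoImplicit false
open Cfsg

namespace Cfsg.Agent.S3357

open Matrix

/-- A group acting freely on a rational vector space has a free irreducible representation over the
algebraic numbers. -/
theorem exists_free_irreducible {G : Type*} [Group G] [Finite G] {W : Type*} [AddCommGroup W] [Module ℚ W]
    [Nontrivial W] (σ : G →* (W →ₗ[ℚ] W)) (hfree : ∀ h : G, h ≠ 1 → ∀ x : W, σ h x = x → x = 0) :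
    ∃ (n : ℕ) (ρ : G →* GL (Fin n) (AlgebraicClosure ℚ)), 0 < n ∧ Function.Injective ρ ∧
      (∀ U : Submodule (AlgebraicClosure ℚ) (Fin n → AlgebraicClosure ℚ),
        (∀ g : G, ∀ w ∈ U, ((ρ g : GL (Fin n) (AlgebraicClosure ℚ)) : Matrix (Fin n) (Fin n) (AlgebraicClosure ℚ)).mulVec w ∈ U) → U = ⊥ ∨ U = ⊤) ∧
      ∀ g : G, g ≠ 1 → ∀ v : Fin n → AlgebraicClosure ℚ,
        ((ρ g : GL (Fin n) (AlgebraicClosure ℚ)) : Matrix (Fin n) (Fin n) (AlgebraicClosure ℚ)).mulVec v = v → v = 0 := by
  classical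
  let K := AlgebraicClosure ℚ
  -- a finite-dimensional invariant subspace
  obtain ⟨w₀, hw₀⟩ := exists_ne (0 : W)
  let W₀ : Submodule ℚ W := Submodule.span ℚ (Set.range fun g => σ g w₀)
  haveI : FiniteDimensional ℚ W₀ := FiniteDimensional.span_of_finite ℚ (Set.finite_range _)
  have hinv : ∀ g, ∀ x ∈ W₀, σ g x ∈ W₀ := by
    intro g x hx
    have hle : W₀ ≤ W₀.comap (σ g) := by
      refine Submodule.span_le.mpr ?_
      rintro _ ⟨h, rfl⟩
      refine Submodule.subset_span ⟨g * h, ?_⟩
      simp only [map_mul]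
      rfl
    exact hle hx
  let b := Module.finBasis ℚ W₀
  let A : G →* Matrix (Fin (Module.finrank ℚ W₀)) (Fin (Module.finrank ℚ W₀)) ℚ :=
    { toFun := fun g => LinearMap.toMatrixAlgEquiv b ((σ g).restrict (hinv g))
      map_one' := by
        rw [← map_one (LinearMap.toMatrixAlgEquiv b)]
        congr 1
        ext x
        simp [LinearMap.restrict_apply]
      map_mul' := fun g h => by
        rw [← map_mul (LinearMap.toMatrixAlgEquiv b)]
        congr 1
        ext x
        simp [LinearMap.restrict_apply] }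
  have hA : ∀ g : G, g ≠ 1 → (A g - 1).det ≠ 0 := by
    intro g hg hdet
    obtain ⟨v, hv, hv0⟩ := Matrix.exists_mulVec_eq_zero_iff.mpr hdet
    rw [Matrix.sub_mulVec, Matrix.one_mulVec, sub_eq_zero] at hv0
    apply hv
    set x := b.equivFun.symm v with hx
    have hbv : (b.repr x : Fin (Module.finrank ℚ W₀) → ℚ) = v := b.equivFun.apply_symm_apply v
    have h1 := LinearMap.toMatrix_mulVec_repr b b ((σ g).restrict (hinv g)) x
    rw [hbv] at h1
    have h2 : (σ g).restrict (hinv g) x = x := by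
      apply b.repr.injective
      apply DFunLike.coe_injective
      rw [hbv, ← h1]
      exact hv0
    have h3 : x = 0 := Subtype.ext (hfree g hg (x : W) (congrArg Subtype.val h2))
    rw [← hbv, h3, map_zero]
    rfl
  let M : G →* Matrix (Fin (Module.finrank ℚ W₀)) (Fin (Module.finrank ℚ W₀)) K :=
    ((algebraMap ℚ K).mapMatrix : _ →+* _).toMonoidHom.comp A
  have hM : ∀ g : G, g ≠ 1 → ∀ v, (M g) *ᵥ v = v → v = 0 := by
    intro g hg v hv
    refine Matrix.eq_zero_of_mulVec_eq_zero (M := M g - 1) ?_ (by rw [Matrix.sub_mulVec, Matrix.one_mulVec, hv, sub_self])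
    have e : M g - 1 = (algebraMap ℚ K).mapMatrix (A g - 1) := by rw [map_sub, map_one]; rfl
    rw [e, ← RingHom.map_det]
    exact (map_ne_zero _).mpr (hA g hg)
  -- a minimal invariant subspace
  have hn0 : 0 < Module.finrank ℚ W₀ := by
    rw [Module.finrank_pos_iff]
    exact ⟨⟨σ 1 w₀, Submodule.subset_span ⟨1, rfl⟩⟩, 0, fun h => hw₀ (by simpa using congrArg Subtype.val h)⟩
  obtain ⟨U, ⟨hU0, hUinv⟩, hmin⟩ := WellFounded.has_min wellFounded_lt
    {U : Submodule K (Fin (Module.finrank ℚ W₀) → K) | U ≠ ⊥ ∧ ∀ g, ∀ x ∈ U, (M g) *ᵥ x ∈ U}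
    ⟨⊤, by
      haveI : Nonempty (Fin (Module.finrank ℚ W₀)) := ⟨⟨0, hn0⟩⟩
      exact top_ne_bot, fun _ _ _ => Submodule.mem_top⟩
  let c := Module.finBasis K U
  let T : G → (U →ₗ[K] U) := fun g => (Matrix.toLin' (M g)).restrict (fun x hx => by
    rw [Matrix.toLin'_apply]; exact hUinv g x hx)
  have hT : ∀ g (x : U), ((T g x : U) : Fin (Module.finrank ℚ W₀) → K) = (M g) *ᵥ (x : Fin (Module.finrank ℚ W₀) → K) :=
    fun g x => Matrix.toLin'_apply (M g) (x : Fin (Module.finrank ℚ W₀) → K)
  let B : G →* Matrix (Fin (Module.finrank K U)) (Fin (Module.finrank K U)) K :=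
    { toFun := fun g => LinearMap.toMatrixAlgEquiv c (T g)
      map_one' := by
        rw [← map_one (LinearMap.toMatrixAlgEquiv c)]
        congr 1
        refine LinearMap.ext fun x => Subtype.ext ?_
        rw [hT, map_one, Matrix.one_mulVec]
        rfl
      map_mul' := fun g h => by
        rw [← map_mul (LinearMap.toMatrixAlgEquiv c)]
        congr 1
        refine LinearMap.ext fun x => Subtype.ext ?_
        rw [hT, map_mul, ← Matrix.mulVec_mulVec, Module.End.mul_apply, hT, hT] }
  have hB : ∀ g x, B g *ᵥ c.equivFun x = c.equivFun (T g x) := fun g x =>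
    LinearMap.toMatrix_mulVec_repr c c (T g) x
  let ρ : G →* GL (Fin (Module.finrank K U)) K := B.toHomUnits
  have hρ : ∀ g, ((ρ g : GL (Fin (Module.finrank K U)) K) : Matrix (Fin (Module.finrank K U)) (Fin (Module.finrank K U)) K) = B g :=
    fun g => rfl
  have hfree' : ∀ g : G, g ≠ 1 → ∀ v, B g *ᵥ v = v → v = 0 := by
    intro g hg v hv
    obtain ⟨x, rfl⟩ := c.equivFun.surjective v
    rw [hB] at hv
    have h1 := congrArg Subtype.val (c.equivFun.injective hv)
    rw [hT] at h1
    rw [show x = 0 from Subtype.ext (hM g hg _ h1), map_zero]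
  have hpos : 0 < Module.finrank K U := by
    rw [Module.finrank_pos_iff]
    exact Submodule.nontrivial_iff_ne_bot.mpr hU0
  refine ⟨Module.finrank K U, ρ, hpos, ?_, ?_, fun g hg v hv => hfree' g hg v (hρ g ▸ hv)⟩
  · rw [injective_iff_map_eq_one]
    intro g hg
    by_contra hg1
    have hv := hfree' g hg1 (fun _ => 1) (by rw [← hρ, hg, Units.val_one, Matrix.one_mulVec])
    exact one_ne_zero (congrFun hv ⟨0, hpos⟩)
  · intro S hS
    let S' : Submodule K (Fin (Module.finrank ℚ W₀) → K) := (S.comap (c.equivFun : U →ₗ[K] _)).map U.subtype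
    by_cases h0 : S' = ⊥
    · left
      rw [Submodule.eq_bot_iff]
      intro v hv
      obtain ⟨x, rfl⟩ := c.equivFun.surjective v
      have : ((x : U) : Fin (Module.finrank ℚ W₀) → K) ∈ S' := ⟨x, hv, rfl⟩
      rw [h0, Submodule.mem_bot] at this
      rw [show x = 0 from Subtype.ext this, map_zero]
    · right
      have hle : S' ≤ U := Submodule.map_subtype_le _ _
      have heq : S' = U := by
        refine hle.antisymm ?_
        by_contra hnle
        refine hmin S' ⟨h0, ?_⟩ (lt_of_le_of_ne hle fun e => hnle e.ge)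
        rintro g _ ⟨x, hx, rfl⟩
        refine ⟨T g x, ?_, hT g x⟩
        change c.equivFun (T g x) ∈ S
        rw [← hB]
        exact hρ g ▸ hS g _ hx
      rw [Submodule.eq_top_iff']
      intro v
      obtain ⟨x, rfl⟩ := c.equivFun.surjective v
      obtain ⟨y, hy, hxy⟩ := (heq.ge x.2 : ((x : U) : Fin (Module.finrank ℚ W₀) → K) ∈ S')
      rw [← show y = x from Subtype.ext hxy]
      exact hy


/-- Let G be a finite group that occurs as a Frobenius complement. Then G has a faithful irreducible representation over an algebraic closure of the rationals in which no non-identity element of G has 1 as an eigenvalue: there are n ≥ 1 and an injective homomorphism ρ from G to GL(n) over that field, with no invariant subspace other than 0 and the whole space, such that for g ≠ 1 the only vector fixed by ρ(g) is 0. -/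
theorem result {G : Type*} [Group G] [Finite G]
    (hFC : ∃ (L : Type) (_ : Group L) (_ : Finite L) (H : Subgroup L), Cfsg.IsFrobeniusComplement H ∧ Nonempty (G ≃* H)) :
    ∃ (n : ℕ) (ρ : G →* GL (Fin n) (AlgebraicClosure ℚ)), 0 < n ∧ Function.Injective ρ ∧
      (∀ W : Submodule (AlgebraicClosure ℚ) (Fin n → AlgebraicClosure ℚ),
        (∀ g : G, ∀ w ∈ W, ((ρ g : GL (Fin n) (AlgebraicClosure ℚ)) : Matrix (Fin n) (Fin n) (AlgebraicClosure ℚ)).mulVec w ∈ W) → W = ⊥ ∨ W = ⊤) ∧
      ∀ g : G, g ≠ 1 → ∀ v : Fin n → AlgebraicClosure ℚ,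
        ((ρ g : GL (Fin n) (AlgebraicClosure ℚ)) : Matrix (Fin n) (Fin n) (AlgebraicClosure ℚ)).mulVec v = v → v = 0 := by
  obtain ⟨L, iL, iF, H, hH, ⟨e⟩⟩ := hFC
  obtain ⟨W, iW, iM, iN, σ, hσ⟩ :=
    CfsgLib.FrobComp.exists_free_rat_module_of_isFrobeniusComplement (C := H) hH
  exact exists_free_irreducible (σ.comp e.toMonoidHom)
    fun g hg x hx => hσ (e g) (fun h => hg (e.injective (h.trans (map_one e).symm))) x hx

end Cfsg.Agent.S3357
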