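import Cfsg.Statements.S3362
import Cfsg.Agent.S3362.Cert

set_option autoImplicit false
open Cfsg

namespace Cfsg.Agent.S3362

open CfsgLib.M12Explicit

/-- An explicit construction of the Mathieu groups of degrees 11 and 12. On the points 0, …, 11 let s = (3 4 5)(6 7 8)(9 10 11), t = (3 6 9)(4 7 10)(5 8 11), u = (4 6 5 9)(7 8 11 10), v = (4 7 5 11)(6 10 9 8), w = (4 10 5 8)(6 11 9 7), x₁ = (0 3)(6 7)(8 10)(9 11), x₂ = (0 1)(6 9)(7 10)(8 11), x₃ = (1 2)(6 11)(7 9)(8 10) (each written as a product of transpositions). Then the group M₁₂ generated by all eight permutations is sharply 5-transitive on the 12 points and has order 95040, and the group M₁₁ generated by the first seven has order 7920 and is the stabilizer of the point 2 in M₁₂. -/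
theorem result
    (s t u v w x₁ x₂ x₃ : Equiv.Perm (Fin 12))
    (hs : s = Equiv.swap (3 : Fin 12) 5 * Equiv.swap (3 : Fin 12) 4 * Equiv.swap (6 : Fin 12) 8 * Equiv.swap (6 : Fin 12) 7 * Equiv.swap (9 : Fin 12) 11 * Equiv.swap (9 : Fin 12) 10) (ht : t = Equiv.swap (3 : Fin 12) 9 * Equiv.swap (3 : Fin 12) 6 * Equiv.swap (4 : Fin 12) 10 * Equiv.swap (4 : Fin 12) 7 * Equiv.swap (5 : Fin 12) 11 * Equiv.swap (5 : Fin 12) 8)
    (hu : u = Equiv.swap (4 : Fin 12) 9 * Equiv.swap (4 : Fin 12) 5 * Equiv.swap (4 : Fin 12) 6 * Equiv.swap (7 : Fin 12) 10 * Equiv.swap (7 : Fin 12) 11 * Equiv.swap (7 : Fin 12) 8) (hv : v = Equiv.swap (4 : Fin 12) 11 * Equiv.swap (4 : Fin 12) 5 * Equiv.swap (4 : Fin 12) 7 * Equiv.swap (6 : Fin 12) 8 * Equiv.swap (6 : Fin 12) 9 * Equiv.swap (6 : Fin 12) 10) (hw : w = Equiv.swap (4 : Fin 12) 8 * Equiv.swap (4 : Fin 12) 5 * Equiv.swap (4 : Fin 12) 10 * Equiv.swap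 (6 : Fin 12) 7 * Equiv.swap (6 : Fin 12) 9 * Equiv.swap (6 : Fin 12) 11)
    (hx₁ : x₁ = Equiv.swap (0 : Fin 12) 3 * Equiv.swap (6 : Fin 12) 7 * Equiv.swap (8 : Fin 12) 10 * Equiv.swap (9 : Fin 12) 11) (hx₂ : x₂ = Equiv.swap (0 : Fin 12) 1 * Equiv.swap (6 : Fin 12) 9 * Equiv.swap (7 : Fin 12) 10 * Equiv.swap (8 : Fin 12) 11)
    (hx₃ : x₃ = Equiv.swap (1 : Fin 12) 2 * Equiv.swap (6 : Fin 12) 11 * Equiv.swap (7 : Fin 12) 9 * Equiv.swap (8 : Fin 12) 10)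
    (M₁₂ M₁₁ : Subgroup (Equiv.Perm (Fin 12))) (hM₁₂ : M₁₂ = Subgroup.closure {s, t, u, v, w, x₁, x₂, x₃})
    (hM₁₁ : M₁₁ = Subgroup.closure {s, t, u, v, w, x₁, x₂}) :
    MulAction.IsMultiplyPretransitive M₁₂ (Fin 12) 5 ∧ (∀ y : Fin 5 ↪ Fin 12, MulAction.stabilizer M₁₂ y = ⊥) ∧
    Nat.card M₁₂ = 95040 ∧ Nat.card M₁₁ = 7920 ∧
    M₁₁ = M₁₂ ⊓ MulAction.stabilizer (Equiv.Perm (Fin 12)) (2 : Fin 12) := by
  let g : Fin 8 → Equiv.Perm (Fin 12) := ![s, t, u, v, w, x₁, x₂, x₃]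
  have hg : ∀ i x, g i x = look i x := by
    subst hs ht hu hv hw hx₁ hx₂ hx₃
    decide +kernel
  have h0 := level_spec hg (b := 2) (S := [0, 1, 2, 3, 4, 5, 6, 7]) (S' := [0, 1, 2, 3, 4, 5, 6])
    (L := lvl0) (by decide +kernel)
  have h1 := level_spec hg (b := 1) (S := [0, 1, 2, 3, 4, 5, 6]) (S' := [0, 1, 2, 3, 4, 5])
    (L := lvl1) (by decide +kernel)
  have h2 := level_spec hg (b := 0) (S := [0, 1, 2, 3, 4, 5]) (S' := [0, 1, 2, 3, 4])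
    (L := lvl2) (by decide +kernel)
  have h3 := level_spec hg (b := 3) (S := [0, 1, 2, 3, 4]) (S' := [2, 3, 4])
    (L := lvl3) (by decide +kernel)
  have h4 := level_spec hg (b := 4) (S := [2, 3, 4]) (S' := [])
    (L := lvl4) (by decide +kernel)
  have hbot : grp g [] = ⊥ := by simp [grp]
  have e0 : M₁₂ = grp g [0, 1, 2, 3, 4, 5, 6, 7] := by
    rw [hM₁₂, grp]; congr 1
    ext σ; simp [g, eq_comm (a := σ)]
  have e1 : M₁₁ = grp g [0, 1, 2, 3, 4, 5, 6] := by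
    rw [hM₁₁, grp]; congr 1
    ext σ; simp [g, eq_comm (a := σ)]
  have c4 := h4.2
  rw [hbot, Subgroup.card_bot] at c4
  have l : lvl0.length = 12 ∧ lvl1.length = 11 ∧ lvl2.length = 10 ∧ lvl3.length = 9 ∧
      lvl4.length = 8 := by decide +kernel
  obtain ⟨l0, l1, l2, l3, l4⟩ := l
  have c11 : Nat.card M₁₁ = 7920 := by
    rw [e1, h1.2, h2.2, h3.2, c4, l1, l2, l3, l4]
  have c12 : Nat.card M₁₂ = 95040 := by
    rw [e0, h0.2, ← e1, c11, l0]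
  let y₀ : Fin 5 ↪ Fin 12 := ⟨![2, 1, 0, 3, 4], by decide⟩
  have hy₀ : MulAction.stabilizer M₁₂ y₀ = ⊥ := by
    refine (Subgroup.eq_bot_iff_forall _).2 fun σ hσ => ?_
    have hfix : ∀ i, σ.1 (y₀ i) = y₀ i := fun i => by
      have := congrArg (fun e : Fin 5 ↪ Fin 12 => e i) (show σ • y₀ = y₀ from hσ)
      simpa [Subgroup.smul_def] using this
    have m0 : σ.1 ∈ grp g [0, 1, 2, 3, 4, 5, 6] := by
      rw [h0.1]; exact ⟨e0 ▸ σ.2, hfix 0⟩
    have m1 : σ.1 ∈ grp g [0, 1, 2, 3, 4, 5] := by rw [h1.1]; exact ⟨m0, hfix 1⟩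
    have m2 : σ.1 ∈ grp g [0, 1, 2, 3, 4] := by rw [h2.1]; exact ⟨m1, hfix 2⟩
    have m3 : σ.1 ∈ grp g [2, 3, 4] := by rw [h3.1]; exact ⟨m2, hfix 3⟩
    have m4 : σ.1 ∈ grp g [] := by rw [h4.1]; exact ⟨m3, hfix 4⟩
    rw [hbot, Subgroup.mem_bot] at m4
    exact Subtype.ext m4
  have hcard : Nat.card (Fin 5 ↪ Fin 12) = 95040 := by
    rw [Nat.card_eq_fintype_card, Fintype.card_embedding_eq]
    simp [Nat.descFactorial]
  have horb : MulAction.orbit M₁₂ y₀ = Set.univ := by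
    refine (Set.eq_univ_iff_ncard _).2 ?_
    have := MulAction.index_stabilizer (G := M₁₂) (x := y₀)
    rw [hy₀, Subgroup.index_bot, c12] at this
    exact this.symm.trans hcard.symm
  have hpre : MulAction.IsMultiplyPretransitive M₁₂ (Fin 12) 5 := by
    refine MulAction.IsPretransitive.of_orbit (x₀ := y₀) fun y => ?_
    exact (horb ▸ Set.mem_univ y : y ∈ MulAction.orbit M₁₂ y₀)
  refine ⟨hpre, fun y => ?_, c12, c11, ?_⟩
  · obtain ⟨σ, rfl⟩ := (horb ▸ Set.mem_univ y : y ∈ MulAction.orbit M₁₂ y₀)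
    refine (Subgroup.eq_bot_iff_forall _).2 fun τ hτ => ?_
    have hm : σ⁻¹ * τ * σ ∈ MulAction.stabilizer M₁₂ y₀ := by
      rw [MulAction.mem_stabilizer_iff] at hτ ⊢
      rw [mul_smul, mul_smul, inv_smul_eq_iff]
      exact hτ
    rw [hy₀, Subgroup.mem_bot] at hm
    have : τ = σ * (σ⁻¹ * τ * σ) * σ⁻¹ := by group
    rw [this, hm]; group
  · rw [e0, e1]
    exact h0.1

end Cfsg.Agent.S3362
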