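import Cfsg.Statements.S3371
import Cfsg.Agent.S3371.Basic
import Cfsg.Agent.FrobComp.SylowStructure

set_option autoImplicit false
open Cfsg

namespace Cfsg.Agent.S3371

open CfsgLib.HalfLin

theorem mersenne {q d k : ℕ} (hq : Odd q) (h3 : 3 ≤ q) (h : q ^ d + 1 = 2 ^ k) (hd : 0 < d) :
    d = 1 := by
  refine Cfsg.Agent.S3370.mersenne_not_power (n := k) ?_ hq h
  by_contra hk
  have : 3 ^ 1 ≤ q ^ d :=
    (Nat.pow_le_pow_left h3 1).trans (Nat.pow_le_pow_right (by omega) hd)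
  interval_cases k <;> omega

theorem dihedral_case {q : ℕ} [Fact q.Prime] {V : Type*} [AddCommGroup V] [Module (ZMod q) V] [Finite V]
    [Nontrivial V] {G : Type*} [Group G] [Finite G] {ρ : G →* (V ≃ₗ[ZMod q] V)}
    (hρ : Function.Injective ρ) (hH : Half ρ) (hq2 : q ≠ 2) (hG : IsPGroup 2 G) {n : ℕ} (hn : 8 ≤ n)
    (e : G ≃* DihedralGroup n) (hnf : ∃ g : G, g ≠ 1 ∧ ∃ v : V, v ≠ 0 ∧ ρ g v = v) :
    Nat.card V = q ^ 2 ∧ ∃ m : ℕ, q = 2 ^ m - 1 ∧ Nonempty (G ≃* DihedralGroup (2 ^ m)) := by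
  haveI : NeZero n := ⟨by omega⟩
  haveI : Fact (Nat.Prime 2) := ⟨Nat.prime_two⟩
  have hcard : Nat.card G = 2 * n := by rw [Nat.card_congr e.toEquiv, DihedralGroup.nat_card]
  obtain ⟨t, ht⟩ := hG.exists_card_eq
  obtain ⟨k, -, hk⟩ := (Nat.dvd_prime_pow Nat.prime_two).1
    (Dvd.intro_left 2 (hcard.symm.trans ht) : n ∣ 2 ^ t)
  subst hk
  obtain ⟨j, rfl⟩ : ∃ j, k = j + 2 := ⟨k - 2, by
    by_contra h
    have : k ≤ 1 := by omega
    interval_cases k <;> omega⟩
  set N := 2 ^ (j + 2) with hN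
  set a : G := e.symm (DihedralGroup.r 1) with ha
  set c : ZMod N := ((2 ^ (j + 1) : ℕ) : ZMod N) with hc
  have hc2 : c + c = 0 := by
    rw [hc, ← Nat.cast_add, ← two_mul, ← pow_succ', ← hN, ZMod.natCast_self]
  have hmemA : ∀ g : G, g ∈ Subgroup.zpowers a ↔ ∃ i, e g = DihedralGroup.r i := by
    intro g
    constructor
    · intro hg
      obtain ⟨i, rfl⟩ := Subgroup.mem_zpowers_iff.1 hg
      exact ⟨(i : ZMod N), by rw [map_zpow, ha, MulEquiv.apply_symm_apply, DihedralGroup.r_one_zpow]⟩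
    · rintro ⟨i, hi⟩
      refine Subgroup.mem_zpowers_iff.2 ⟨(i.val : ℤ), ?_⟩
      apply e.injective
      rw [map_zpow, ha, MulEquiv.apply_symm_apply, DihedralGroup.r_one_zpow, hi, Int.cast_natCast,
        ZMod.natCast_zmod_val]
  have hcc : ∀ x : DihedralGroup N, Commute (DihedralGroup.r c) x := by
    intro x
    cases x with
    | r i => show _ = _; rw [DihedralGroup.r_mul_r, DihedralGroup.r_mul_r, add_comm]
    | sr i =>
      show _ = _
      rw [DihedralGroup.r_mul_sr, DihedralGroup.sr_mul_r, sub_eq_add_neg, neg_eq_of_add_eq_zero_left hc2]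
  obtain ⟨d, hV, hd⟩ := count_of_index_two (ι := ZMod N) hρ hH hq2 (a := a)
    (z := e.symm (DihedralGroup.r c)) (by
      have h := Subgroup.card_mul_index (Subgroup.zpowers a)
      rw [Nat.card_zpowers, ha, MulEquiv.orderOf_eq, DihedralGroup.orderOf_r_one, hcard,
        mul_comm 2 N] at h
      exact Nat.eq_of_mul_eq_mul_left (by omega) h)
    ((hmemA _).2 ⟨c, e.apply_symm_apply _⟩)
    (e.injective (by rw [map_mul, map_one, MulEquiv.apply_symm_apply, DihedralGroup.r_mul_r, hc2]; rfl))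
    (fun h => by
      have h' := congrArg e h
      rw [MulEquiv.apply_symm_apply, map_one, DihedralGroup.one_def, DihedralGroup.r.injEq, hc,
        ZMod.natCast_eq_zero_iff] at h'
      have := Nat.le_of_dvd (by positivity) h'
      rw [hN] at this
      exact absurd this (by
        have : 2 ^ (j + 1) < 2 ^ (j + 2) := Nat.pow_lt_pow_right (by norm_num) (by omega)
        omega))
    (fun g => by
      have := (hcc (e g)).map e.symm.toMonoidHom
      simpa using this)
    hG hnf (fun i => e.symm (DihedralGroup.sr i))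
    (fun i i' h => by simpa using e.symm.injective h)
    (fun i => e.injective (by
      rw [map_mul, map_one, MulEquiv.apply_symm_apply, DihedralGroup.sr_mul_self]))
    (fun i h => by
      obtain ⟨i', hi'⟩ := (hmemA _).1 h
      rw [MulEquiv.apply_symm_apply] at hi'
      exact absurd hi' (by simp))
    (fun g hg _ => by
      rcases hx : e g with i | i
      · exact absurd ((hmemA g).2 ⟨i, hx⟩) hg
      · exact ⟨i, by rw [← hx, MulEquiv.symm_apply_apply]⟩)
    (fun i => ⟨e.symm (DihedralGroup.r ((2 ^ j : ℕ) : ZMod N)), e.injective (by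
      simp only [map_mul, map_inv, MulEquiv.apply_symm_apply, DihedralGroup.inv_r,
        DihedralGroup.r_mul_sr, DihedralGroup.sr_mul_r]
      congr 1
      have h4 : ((2 ^ j : ℕ) : ZMod N) + ((2 ^ j : ℕ) : ZMod N) = c := by
        rw [hc, ← Nat.cast_add, ← two_mul, ← pow_succ']
      linear_combination -h4 - hc2)⟩)
  rw [Nat.card_zmod] at hd
  have hodd : Odd q := (Fact.out : q.Prime).odd_of_ne_two hq2
  have hq3 : 3 ≤ q := by have := (Fact.out : q.Prime).two_le; omega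
  have hd0 : 0 < d := Nat.pos_of_ne_zero fun h => by
    rw [h, pow_zero] at hd
    omega
  obtain rfl := mersenne hodd hq3 (hd.trans hN) hd0
  exact ⟨by rw [hV, pow_one], j + 2, by rw [pow_one] at hd; omega, ⟨e⟩⟩

theorem semidihedral_case {q : ℕ} [Fact q.Prime] {V : Type*} [AddCommGroup V] [Module (ZMod q) V]
    [Finite V] [Nontrivial V] {G : Type*} [Group G] [Finite G] {ρ : G →* (V ≃ₗ[ZMod q] V)}
    (hρ : Function.Injective ρ) (hH : Half ρ) (hq2 : q ≠ 2) (hG : IsPGroup 2 G)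
    (hQD : Cfsg.IsQuasiDihedral G) (hnf : ∃ g : G, g ≠ 1 ∧ ∃ v : V, v ≠ 0 ∧ ρ g v = v) :
    Nat.card V = q ^ 2 ∧ ∃ m : ℕ, q = 2 ^ m - 1 ∧
      (Cfsg.IsQuasiDihedral G ∧ Nat.card G = 2 ^ (m + 2)) := by
  haveI : Fact (Nat.Prime 2) := ⟨Nat.prime_two⟩
  obtain ⟨n, hn, hcard, x, y, hx, hy, hconj⟩ := id hQD
  obtain ⟨j, rfl⟩ : ∃ j, n = j + 3 := ⟨n - 3, by omega⟩
  have hyy : y * y = 1 := by rw [← pow_two, ← hy, pow_orderOf_eq_one]
  have hyinv : y⁻¹ = y := inv_eq_of_mul_eq_one_right hyy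
  set s := 2 ^ (j + 3 - 1) - 1 with hs
  have hs1 : s + 1 = 2 ^ (j + 2) := by
    rw [hs, show j + 3 - 1 = j + 2 by omega]
    exact Nat.sub_add_cancel Nat.one_le_two_pow
  have hidx : (Subgroup.zpowers x).index = 2 := by
    have h := Subgroup.card_mul_index (Subgroup.zpowers x)
    rw [Nat.card_zpowers, hx, hcard, pow_succ 2 (j + 3)] at h
    exact Nat.eq_of_mul_eq_mul_left (by positivity) h
  have hyA : y ∉ Subgroup.zpowers x := by
    intro h
    obtain ⟨i, hi⟩ := Subgroup.mem_zpowers_iff.1 h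
    have hc : Commute y x := hi ▸ (Commute.refl x).zpow_left i
    rw [hc.eq, mul_inv_cancel_right] at hconj
    have h1 : x ^ 1 = x ^ s := by rw [pow_one]; exact hconj
    rw [pow_eq_pow_iff_modEq, hx] at h1
    have h4 : 4 ≤ 2 ^ (j + 2) := Nat.pow_le_pow_right (show 0 < 2 by norm_num) (show 2 ≤ j + 2 by omega)
    have h8 : 2 ^ (j + 3) = 2 * 2 ^ (j + 2) := by rw [← pow_succ']
    have := Nat.ModEq.eq_of_lt_of_lt h1 (by omega) (by omega)
    omega
  have hyx : ∀ k : ℕ, y * x ^ k = x ^ (s * k) * y := by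
    intro k
    rw [pow_mul, ← hconj, conj_pow, inv_mul_cancel_right]
  have hsq : ∀ k : ℕ, x ^ k * y * (x ^ k * y) = x ^ (k * 2 ^ (j + 2)) := by
    intro k
    rw [mul_assoc, ← mul_assoc y, hyx, mul_assoc, hyy, mul_one, ← pow_add, ← hs1]
    congr 1
    ring
  have hxz : x ^ 2 ^ (j + 3) = 1 := by rw [← hx, pow_orderOf_eq_one]
  set z := x ^ 2 ^ (j + 2) with hz
  have hzz : z * z = 1 := by rw [hz, ← pow_add, ← two_mul, ← pow_succ', hxz]
  have hz1 : z ≠ 1 := by
    intro h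
    have h1 := orderOf_dvd_of_pow_eq_one h
    rw [hx] at h1
    have := (Nat.pow_dvd_pow_iff_le_right (by norm_num)).1 h1
    omega
  have hzy : Commute z y := by
    refine Commute.symm ?_
    show y * z = z * y
    rw [hz, hyx]
    congr 1
    rw [pow_eq_pow_iff_modEq, hx]
    have he : s * 2 ^ (j + 2) + 2 ^ (j + 2) = 2 ^ (j + 3) * 2 ^ (j + 1) := by
      rw [← Nat.succ_mul, Nat.succ_eq_add_one, hs1, ← pow_add, ← pow_add]
      congr 1; omega
    refine Nat.ModEq.add_right_cancel' (2 ^ (j + 2)) ?_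
    rw [he, ← two_mul, ← pow_succ']
    exact ((Nat.modEq_zero_iff_dvd).2 (dvd_mul_right _ _)).trans
      ((Nat.modEq_zero_iff_dvd).2 dvd_rfl).symm
  have hcases : ∀ g : G, (∃ k : ℕ, g = x ^ k) ∨ ∃ k : ℕ, g = x ^ k * y := by
    intro g
    by_cases hg : g ∈ Subgroup.zpowers x
    · rw [← mem_powers_iff_mem_zpowers] at hg
      obtain ⟨k, rfl⟩ := hg
      exact Or.inl ⟨k, rfl⟩
    · have h : g * y ∈ Subgroup.zpowers x :=
        (Subgroup.mul_mem_iff_of_index_two hidx).2 (iff_of_false hg hyA)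
      rw [← mem_powers_iff_mem_zpowers] at h
      obtain ⟨k, hk⟩ := h
      exact Or.inr ⟨k, by rw [show x ^ k = g * y from hk, mul_assoc, hyy, mul_one]⟩
  have hzc : ∀ g : G, Commute z g := by
    intro g
    rcases hcases g with ⟨k, rfl⟩ | ⟨k, rfl⟩
    · exact (Commute.refl x).pow_pow _ _
    · exact ((Commute.refl x).pow_pow _ _).mul_right hzy
  obtain ⟨d, hV, hd⟩ := count_of_index_two (ι := Fin (2 ^ (j + 2))) hρ hH hq2 (a := x) (z := z) hidx
    (pow_mem (Subgroup.mem_zpowers x) _) hzz hz1 hzc hG hnf (fun i => x ^ (2 * i.val) * y)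
    (fun i i' h => by
      have h' : x ^ (2 * i.val) = x ^ (2 * i'.val) := mul_right_cancel h
      rw [pow_eq_pow_iff_modEq, hx] at h'
      have h8 : 2 ^ (j + 3) = 2 * 2 ^ (j + 2) := by rw [← pow_succ']
      have := Nat.ModEq.eq_of_lt_of_lt h' (by omega) (by omega)
      exact Fin.ext (by omega))
    (fun i => by
      rw [hsq, show 2 * i.val * 2 ^ (j + 2) = 2 ^ (j + 3) * i.val by rw [pow_succ 2 (j + 2)]; ring,
        pow_mul, hxz, one_pow])
    (fun i h => hyA (by
      have := mul_mem (inv_mem (pow_mem (Subgroup.mem_zpowers x) (2 * i.val))) h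
      rwa [inv_mul_cancel_left] at this))
    (fun g hg hgg => by
      rcases hcases g with ⟨k, rfl⟩ | ⟨k, rfl⟩
      · exact absurd (pow_mem (Subgroup.mem_zpowers x) k) hg
      · rw [hsq] at hgg
        have h1 := orderOf_dvd_of_pow_eq_one hgg
        rw [hx, show 2 ^ (j + 3) = 2 * 2 ^ (j + 2) by rw [← pow_succ']] at h1
        obtain ⟨i, rfl⟩ := Nat.dvd_of_mul_dvd_mul_right (Nat.two_pow_pos (j + 2)) h1
        refine ⟨⟨i % 2 ^ (j + 2), Nat.mod_lt _ (Nat.two_pow_pos _)⟩, ?_⟩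
        show x ^ (2 * (i % 2 ^ (j + 2))) * y = _
        rw [← Nat.mul_mod_mul_left, ← pow_succ', ← pow_eq_pow_mod _ hxz])
    (fun i => ⟨x ^ 2 ^ (j + 1), by
      rw [show x ^ 2 ^ (j + 1) * (x ^ (2 * i.val) * y) * (x ^ 2 ^ (j + 1))⁻¹ =
        x ^ (2 * i.val) * (x ^ 2 ^ (j + 1) * y * (x ^ 2 ^ (j + 1))⁻¹) by group,
        mul_assoc (x ^ (2 * i.val)) y z]
      congr 1
      rw [← hzy.eq, mul_inv_eq_iff_eq_mul, mul_assoc, hyx, ← mul_assoc, hz, ← pow_add]
      congr 1
      rw [pow_eq_pow_iff_modEq, hx]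
      have he : 2 ^ (j + 2) + s * 2 ^ (j + 1) = 2 ^ (j + 1) + 2 ^ (j + 3) * 2 ^ j := by
        have h1 : s * 2 ^ (j + 1) + 2 ^ (j + 1) = 2 ^ (j + 2) * 2 ^ (j + 1) := by
          rw [← hs1]; ring
        have h2 : 2 ^ (j + 2) = 2 * 2 ^ (j + 1) := by rw [← pow_succ']
        have h3 : 2 ^ (j + 2) * 2 ^ (j + 1) = 2 ^ (j + 3) * 2 ^ j := by
          rw [← pow_add, ← pow_add]; congr 1; omega
        omega
      rw [he]
      exact (Nat.modEq_iff_dvd' (Nat.le_add_right _ _)).2 (by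
        rw [Nat.add_sub_cancel_left]; exact dvd_mul_right _ _)⟩)
  rw [Nat.card_fin] at hd
  have hodd : Odd q := (Fact.out : q.Prime).odd_of_ne_two hq2
  have hq3 : 3 ≤ q := by have := (Fact.out : q.Prime).two_le; omega
  have hd0 : 0 < d := Nat.pos_of_ne_zero fun h => by
    rw [h, pow_zero] at hd
    have : 4 ≤ 2 ^ (j + 2) := Nat.pow_le_pow_right (show 0 < 2 by norm_num) (show 2 ≤ j + 2 by omega)
    omega
  obtain rfl := mersenne hodd hq3 hd hd0
  exact ⟨by rw [hV, pow_one], j + 2, by rw [pow_one] at hd; omega, hQD, hcard⟩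


/-- Let q be a prime, V a non-trivial finite vector space over the field with q elements, and G a finite p-group (p prime) acting faithfully and linearly on V such that all G-orbits on the non-zero vectors have the same size. Then one of the following holds: G is cyclic or generalized quaternion and acts semiregularly on the non-zero vectors; or V has q² elements with q = 2^m − 1 and G is dihedral of order 2^(m+1) or semidihedral of order 2^(m+2); or V has q² elements with q = 2^m + 1 and, in suitable coordinates V = F_q², G is exactly the group of maps (x, y) ↦ (a x, ± a⁻¹ y) and (x, y) ↦ (± a⁻¹ y, a x) with a ≠ 0; or V has 81 elements (q = 3) and G is a 2-group. -/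
theorem result (q : ℕ) [Fact q.Prime] {V : Type*} [AddCommGroup V] [Module (ZMod q) V] [Finite V] [Nontrivial V]
    {G : Type*} [Group G] [Finite G] (p : ℕ) [Fact p.Prime] (hG : IsPGroup p G)
    (ρ : G →* (V ≃ₗ[ZMod q] V)) (hρ : Function.Injective ρ)
    (hhalf : ∀ v w : V, v ≠ 0 → w ≠ 0 → Nat.card {u : V | ∃ g : G, ρ g v = u} = Nat.card {u : V | ∃ g : G, ρ g w = u}) :
    ((IsCyclic G ∨ ∃ n : ℕ, Nonempty (G ≃* QuaternionGroup n)) ∧ ∀ v : V, v ≠ 0 → ∀ g : G, ρ g v = v → g = 1) ∨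
    (Nat.card V = q ^ 2 ∧ ∃ m : ℕ, q = 2 ^ m - 1 ∧
      (Nonempty (G ≃* DihedralGroup (2 ^ m)) ∨ (Cfsg.IsQuasiDihedral G ∧ Nat.card G = 2 ^ (m + 2)))) ∨
    (Nat.card V = q ^ 2 ∧ (∃ m : ℕ, q = 2 ^ m + 1) ∧
      ∃ e : V ≃ₗ[ZMod q] (Fin 2 → ZMod q), ∀ f : (Fin 2 → ZMod q) ≃ₗ[ZMod q] (Fin 2 → ZMod q),
        (∃ g : G, f = e.symm.trans ((ρ g).trans e)) ↔
        ∃ a s : ZMod q, a ≠ 0 ∧ (s = 1 ∨ s = -1) ∧
          ((∀ v, f v = ![a * v 0, s * a⁻¹ * v 1]) ∨ (∀ v, f v = ![s * a⁻¹ * v 1, a * v 0]))) ∨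
    (Nat.card V = 81 ∧ q = 3 ∧ p = 2) := by
  have hH : Half ρ := half_of_orbits ρ hhalf
  have hquat : ∀ {n : ℕ} [NeZero n] (x : QuaternionGroup n), x * x = 1 → ∀ y, Commute x y := by
    intro n _ x hxx y
    cases x with
    | a i =>
      rw [QuaternionGroup.a_mul_a] at hxx
      have hi : i + i = 0 := QuaternionGroup.a.inj hxx
      cases y with
      | a k => show _ = _; rw [QuaternionGroup.a_mul_a, QuaternionGroup.a_mul_a, add_comm]
      | xa k =>
        show _ = _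
        rw [QuaternionGroup.a_mul_xa, QuaternionGroup.xa_mul_a]
        congr 1
        linear_combination -hi
    | xa i =>
      exfalso
      have h4 := QuaternionGroup.orderOf_xa (n := n) i
      have h2 := Nat.le_of_dvd (by norm_num)
        (orderOf_dvd_of_pow_eq_one (show QuaternionGroup.xa i ^ 2 = 1 by rw [pow_two, hxx]))
      omega
  by_cases hp2 : p = 2
  swap
  · left
    letI := act ρ
    haveI : FaithfulSMul G V := ⟨fun {g h} hgh => hρ (LinearEquiv.ext hgh)⟩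
    obtain ⟨hc, hf⟩ := CfsgLib.HalfTransitive.isCyclic_and_free (P := G) (E := V) hp2 hG
      (Fact.out : q.Prime) nsmul_eq_zero' hH
    exact ⟨Or.inl hc, fun v hv g hg => by_contra fun h => hv (hf g h v hg)⟩
  subst hp2
  by_cases hq2 : q = 2
  · subst hq2
    left
    have h1 := q_two_trivial hρ hH hG
    haveI : Subsingleton G := ⟨fun g h => (h1 g).trans (h1 h).symm⟩
    exact ⟨Or.inl isCyclic_of_subsingleton, fun _ _ g _ => h1 g⟩
  by_cases hfree : ∀ v : V, v ≠ 0 → ∀ g : G, ρ g v = v → g = 1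
  · left
    refine ⟨?_, hfree⟩
    let σ : G →* AddMonoid.End V :=
      { toFun := fun g => (ρ g).toLinearMap.toAddMonoidHom
        map_one' := by rw [map_one]; rfl
        map_mul' := fun g h => by rw [map_mul]; rfl }
    have hσ : CfsgLib.FrobComp.IsFree σ := fun g hg v hv => by_contra fun h => hg (hfree v h g hv)
    have hu : CfsgLib.TwoGroupsQ.HasUniqueOrderP G 2 := by
      intro x y hx hy hy1
      obtain ⟨j, hj⟩ := Subgroup.mem_zpowers_iff.1
        (CfsgLib.FrobComp.uniqueOrderP_of_free hσ (hG.to_subgroup ⊤) ⟨y, trivial⟩ ⟨x, trivial⟩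
          (Subtype.ext hy) (Subtype.ext hx) (fun h => hy1 (congrArg Subtype.val h)))
      exact Subgroup.mem_zpowers_iff.2 ⟨j, congrArg Subtype.val hj⟩
    rcases CfsgLib.TwoGroupsQ.isCyclic_or_quaternion hG hu with h | ⟨-, k, -, h⟩
    · exact Or.inl h
    · exact Or.inr ⟨_, h⟩
  push Not at hfree
  obtain ⟨v, hv, g, hgv, hg1⟩ := hfree
  have hnf : ∃ g : G, g ≠ 1 ∧ ∃ v : V, v ≠ 0 ∧ ρ g v = v := ⟨g, hg1, v, hv, hgv⟩
  -- a non-central involution
  obtain ⟨k, hk⟩ := IsPGroup.iff_orderOf.1 hG g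
  obtain ⟨k, rfl⟩ : ∃ j, k = j + 1 := ⟨k - 1, by
    rcases k with _ | k
    · exact absurd (orderOf_eq_one_iff.1 (by simpa using hk)) hg1
    · rfl⟩
  set r := g ^ 2 ^ k with hr
  have hrr : r * r = 1 := by
    rw [hr, ← pow_add, ← two_mul, ← pow_succ', ← hk, pow_orderOf_eq_one]
  have hr1 : r ≠ 1 := by
    intro h
    have h1 := orderOf_dvd_of_pow_eq_one h
    rw [hk] at h1
    have := (Nat.pow_dvd_pow_iff_le_right (by norm_num)).1 h1
    omega
  have hrnc : ¬ ∀ x, Commute r x := by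
    intro hc
    have h1 : ρ r v = v := (mem_stab ρ).1 (pow_mem ((mem_stab ρ).2 hgv) _)
    rw [central_eq_neg hρ hH hq2 hrr hr1 hc] at h1
    exact hv (eq_zero_of_eq_neg hq2 h1.symm)
  by_cases hall : CfsgLib.Classification.CyclicNormal.AllCyclic G
  · rcases CfsgLib.Classification.CyclicNormal.classify hG hall with
      hc | ⟨-, ⟨n, ⟨e⟩⟩ | ⟨n, hn, ⟨e⟩⟩ | hQD⟩
    · exact absurd (fun x => hc.isMulCommutative.is_comm.comm r x) hrnc
    · exfalso
      haveI : NeZero n := ⟨by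
        rintro rfl
        haveI : Finite (QuaternionGroup 0) := Finite.of_equiv G e.toEquiv
        haveI : Infinite (QuaternionGroup 0) := Infinite.of_injective
          (fun i : ℤ => (QuaternionGroup.a i : QuaternionGroup 0))
          (fun i i' h => QuaternionGroup.a.inj h)
        exact not_finite (QuaternionGroup 0)⟩
      refine hrnc fun x => ?_
      have h := hquat (e r) (by rw [← map_mul, hrr, map_one]) (e x)
      apply e.injective
      rw [map_mul, map_mul]
      exact h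
    · right; left
      obtain ⟨h1, m, hm, h2⟩ := dihedral_case hρ hH hq2 hG hn e hnf
      exact ⟨h1, m, hm, Or.inl h2⟩
    · right; left
      obtain ⟨h1, m, hm, h2⟩ := semidihedral_case hρ hH hq2 hG hQD hnf
      exact ⟨h1, m, hm, Or.inr h2⟩
  · obtain ⟨z, a, hz, hz1, hzc, ha, haz, hconj⟩ :=
      CfsgLib.PPSplit.exists_pair_of_not_allCyclic hG hall
    rw [pow_two] at hz ha
    have hconj' : ∀ g : G, g * a * g⁻¹ = a ∨ g * a * g⁻¹ = a * z := by
      intro g
      obtain ⟨k, hk⟩ := hconj g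
      rcases Nat.even_or_odd k with ⟨i, rfl⟩ | ⟨i, rfl⟩
      · left; rw [hk, ← two_mul, pow_mul, pow_two, hz, one_pow, mul_one]
      · right; rw [hk, pow_succ, pow_mul, pow_two, hz, one_pow, one_mul]
    rcases split_case hρ hH hq2 hG hz hz1 hzc ha haz hconj' with ⟨h81, h3⟩ | h
    · exact Or.inr (Or.inr (Or.inr ⟨h81, h3, rfl⟩))
    · exact Or.inr (Or.inr (Or.inl h))

end Cfsg.Agent.S3371
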