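import Cfsg.Statements.S3375
-- import your own Cfsg.Agent.* helpers here

set_option autoImplicit false
open Cfsg

namespace Cfsg.Agent.S3375

/-- Let γ be an automorphism of order 2 of a finite group H. (i) If γ fixes only the identity, then H is abelian and γ inverts every element. (ii) If γ has exactly two fixed points and H has a subgroup of index 2, then H has a γ-invariant abelian subgroup of index 2 on which γ acts by inversion. -/
theorem result {H : Type*} [Group H] [Finite H] (γ : MulAut H) (hγ : orderOf γ = 2) :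
    ((∀ h : H, γ h = h → h = 1) → (∀ a b : H, a * b = b * a) ∧ ∀ h : H, γ h = h⁻¹) ∧
    ((Nat.card {h : H // γ h = h} = 2 ∧ ∃ M : Subgroup H, M.index = 2) →
      ∃ A : Subgroup H, A.index = 2 ∧ IsMulCommutative A ∧ (∀ a ∈ A, γ a ∈ A) ∧ ∀ a ∈ A, γ a = a⁻¹) := by
  have hγγ : ∀ h, γ (γ h) = h := by
    intro h
    have : γ * γ = 1 := by rw [← pow_two, ← hγ]; exact pow_orderOf_eq_one γ
    change (γ * γ) h = h
    rw [this]
    rfl
  have hinvd : ∀ h : H, γ (h⁻¹ * γ h) = (h⁻¹ * γ h)⁻¹ := by
    intro h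
    rw [map_mul, map_inv, hγγ, mul_inv_rev, inv_inv]
  have hfib : ∀ a b : H, a⁻¹ * γ a = b⁻¹ * γ b → γ (b * a⁻¹) = b * a⁻¹ := by
    intro a b h
    have h1 : γ b = b * (a⁻¹ * γ a) := by rw [h, mul_inv_cancel_left]
    rw [map_mul, map_inv, h1]
    group
  have hab : ∀ a b : H, γ a = a⁻¹ → γ b = b⁻¹ → γ (a * b) = (a * b)⁻¹ → a * b = b * a := by
    intro a b ha hb hc
    rw [map_mul, ha, hb, ← mul_inv_rev] at hc
    exact (inv_inj.mp hc).symm
  refine ⟨fun h1 => ?_, fun ⟨h2, M₀, hM₀⟩ => ?_⟩
  · have hinj : Function.Injective (fun h => h⁻¹ * γ h) := fun a b h =>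
      (mul_inv_eq_one.mp (h1 _ (hfib a b h))).symm
    have hall : ∀ x : H, γ x = x⁻¹ := by
      intro x
      obtain ⟨h, rfl⟩ := Finite.injective_iff_surjective.mp hinj x
      exact hinvd h
    exact ⟨fun a b => hab a b (hall a) (hall b) (hall _), hall⟩
  · classical
    haveI := Fintype.ofFinite H
    -- an invariant subgroup of index two
    obtain ⟨M, hM, hMγ⟩ : ∃ M : Subgroup H, M.index = 2 ∧ ∀ a, γ a ∈ M ↔ a ∈ M := by
      by_cases hinv : ∀ a, γ a ∈ M₀ ↔ a ∈ M₀
      · exact ⟨M₀, hM₀, hinv⟩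
      have hmul : ∀ {a b : H}, a * b ∈ M₀ ↔ (a ∈ M₀ ↔ b ∈ M₀) := fun {a b} =>
        Subgroup.mul_mem_iff_of_index_two hM₀
      let N : Subgroup H :=
        { carrier := {a | γ a ∈ M₀ ↔ a ∈ M₀}
          one_mem' := by simp
          mul_mem' := fun {a b} ha hb => by
            simp only [Set.mem_ofPred_eq] at ha hb ⊢
            rw [map_mul, hmul, hmul, ha, hb]
          inv_mem' := fun {a} ha => by
            simp only [Set.mem_ofPred_eq] at ha ⊢
            rw [map_inv, inv_mem_iff, inv_mem_iff, ha] }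
      obtain ⟨a₀, ha₀⟩ := not_forall.mp hinv
      refine ⟨N, Subgroup.index_eq_two_iff.mpr ⟨a₀, fun b => ?_⟩, fun a => ?_⟩
      · change Xor (γ (b * a₀) ∈ M₀ ↔ b * a₀ ∈ M₀) (γ b ∈ M₀ ↔ b ∈ M₀)
        rw [map_mul, hmul, hmul]
        unfold Xor
        tauto
      · change (γ (γ a) ∈ M₀ ↔ γ a ∈ M₀) ↔ (γ a ∈ M₀ ↔ a ∈ M₀)
        rw [hγγ]
        exact Iff.comm
    have hmem : ∀ h : H, h⁻¹ * γ h ∈ M := by
      intro h
      rw [Subgroup.mul_mem_iff_of_index_two hM, inv_mem_iff, hMγ]
    -- the fibres of h ↦ h⁻¹ γ h have at most two elements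
    let f : H → M := fun h => ⟨h⁻¹ * γ h, hmem h⟩
    have hfibre : ∀ m : M, (Finset.univ.filter fun h => f h = m).card ≤ 2 := by
      intro m
      rcases (Finset.univ.filter fun h => f h = m).eq_empty_or_nonempty with h | ⟨b, hb⟩
      · simp [h]
      · have hb' := (Finset.mem_filter.mp hb).2
        rw [Nat.card_eq_fintype_card, Fintype.card_subtype] at h2
        rw [← h2]
        refine Finset.card_le_card_of_injOn (fun a => a * b⁻¹) ?_ (fun a _ c _ h => mul_right_cancel h)
        intro a ha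
        have ha' := (Finset.mem_filter.mp ha).2
        exact Finset.mem_filter.mpr ⟨Finset.mem_univ _,
          hfib b a (congrArg Subtype.val (hb'.trans ha'.symm))⟩
    have hcardM : Fintype.card H = 2 * Fintype.card M := by
      have := M.card_mul_index
      rw [hM, Nat.card_eq_fintype_card, Nat.card_eq_fintype_card] at this
      omega
    have hsurj : ∀ m : M, ∃ h, f h = m := by
      intro m
      by_contra hno
      push Not at hno
      have h1 := Finset.card_le_mul_card_image_of_maps_to (f := f) (s := Finset.univ)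
        (t := Finset.univ.erase m) (fun h _ => Finset.mem_erase.mpr ⟨hno h, Finset.mem_univ _⟩) 2
        (fun y _ => hfibre y)
      rw [Finset.card_erase_of_mem (Finset.mem_univ m), Finset.card_univ, Finset.card_univ, hcardM] at h1
      have : 0 < Fintype.card M := Fintype.card_pos
      omega
    have hall : ∀ x ∈ M, γ x = x⁻¹ := by
      intro x hx
      obtain ⟨h, hh⟩ := hsurj ⟨x, hx⟩
      have : h⁻¹ * γ h = x := congrArg Subtype.val hh
      rw [← this]
      exact hinvd h
    refine ⟨M, hM, ⟨⟨fun a b => Subtype.ext ?_⟩⟩, fun a ha => (hMγ a).mpr ha, hall⟩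
    exact hab a b (hall a a.2) (hall b b.2) (hall _ (M.mul_mem a.2 b.2))

end Cfsg.Agent.S3375
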