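import Cfsg.Statements.S3376
import Cfsg.Agent.S3376.Basic

set_option autoImplicit false
open Cfsg

namespace Cfsg.Agent.S3376

open CfsgLib.Wr162

theorem card_centralizer_nine :
    Nat.card (Subgroup.centralizer ({Equiv.swap (0 : Fin 9) 1 * Equiv.swap 1 2 * Equiv.swap 3 4 *
      Equiv.swap 4 5 * Equiv.swap 6 7 * Equiv.swap 7 8} : Set (Equiv.Perm (Fin 9)))) = 162 := by
  rw [Equiv.Perm.nat_card_centralizer]
  decide +kernel


/-- Let G be a group of order 162 = 3⁴·2 with Sylow 3-subgroup S and Sylow 2-subgroup T, having an elementary abelian normal subgroup J of order 27, such that Z = Z(S) has order 3, Z centralizes T, and C_S(T) ≠ S. Then G is isomorphic to the centralizer in Sym(9) of a product of three disjoint 3-cycles. -/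
theorem result {G : Type*} [Group G] [Finite G] (hG : Nat.card G = 162)
    (S : Sylow 3 G) (T : Sylow 2 G) (J : Subgroup G) [hJn : J.Normal] (hJcomm : IsMulCommutative J)
    (hJexp : ∀ a ∈ J, a ^ 3 = 1) (hJcard : Nat.card J = 27)
    (Z : Subgroup G) (hZ : Z = (S : Subgroup G) ⊓ Subgroup.centralizer ((S : Subgroup G) : Set G)) (hZcard : Nat.card Z = 3)
    (hZT : Z ≤ Subgroup.centralizer ((T : Subgroup G) : Set G))
    (hST : (S : Subgroup G) ⊓ Subgroup.centralizer ((T : Subgroup G) : Set G) ≠ S) :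
    Nonempty (G ≃* Subgroup.centralizer ({Equiv.swap (0 : Fin 9) 1 * Equiv.swap 1 2 * Equiv.swap 3 4 * Equiv.swap 4 5 * Equiv.swap 6 7 * Equiv.swap 7 8} : Set (Equiv.Perm (Fin 9)))) := by
  haveI : Fact (Nat.Prime 3) := ⟨by norm_num⟩
  haveI : Fact (Nat.Prime 2) := ⟨Nat.prime_two⟩
  have hT2 : Nat.card T = 2 := by
    obtain ⟨n, hn⟩ := T.2.exists_card_eq
    have h1 : Nat.card T ∣ 162 := hG ▸ Subgroup.card_subgroup_dvd_card _
    have h2 : ¬ 2 ∣ (T : Subgroup G).index := T.not_dvd_index
    have h3 := Subgroup.card_mul_index (T : Subgroup G)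
    rw [hG, hn] at h3
    rw [hn] at h1 ⊢
    have : n < 8 := (Nat.pow_lt_pow_iff_right (by norm_num : 1 < 2)).1
      (lt_of_le_of_lt (Nat.le_of_dvd (by norm_num) h1) (by norm_num))
    interval_cases n <;> omega
  have hS81 : Nat.card S = 81 := by
    obtain ⟨n, hn⟩ := S.2.exists_card_eq
    have h1 : Nat.card S ∣ 162 := hG ▸ Subgroup.card_subgroup_dvd_card _
    have h2 : ¬ 3 ∣ (S : Subgroup G).index := S.not_dvd_index
    have h3 := Subgroup.card_mul_index (S : Subgroup G)
    rw [hG, hn] at h3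
    rw [hn] at h1 ⊢
    have : n < 5 := (Nat.pow_lt_pow_iff_right (by norm_num : 1 < 3)).1
      (lt_of_le_of_lt (Nat.le_of_dvd (by norm_num) h1) (by norm_num))
    interval_cases n <;> omega
  have hSidx : (S : Subgroup G).index = 2 := by
    have h3 := Subgroup.card_mul_index (S : Subgroup G)
    rw [hG, hS81] at h3; omega
  haveI hSn : (S : Subgroup G).Normal := Subgroup.normal_of_index_eq_two hSidx
  have hJS : J ≤ (S : Subgroup G) := by
    obtain ⟨P, hP⟩ := (IsPGroup.of_card (n := 3) (by rw [hJcard]; norm_num) : IsPGroup 3 J).exists_le_sylow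
    haveI := Sylow.unique_of_normal S hSn
    rwa [Subsingleton.elim P S] at hP
  have hJc : ∀ a ∈ J, ∀ b ∈ J, a * b = b * a := fun a ha b hb => comm_of_mem hJcomm ha hb
  have gen : ∀ a ∈ (S : Subgroup G), a ∉ J → J ⊔ Subgroup.zpowers a = (S : Subgroup G) := by
    intro a ha haJ
    refine Subgroup.eq_of_le_of_card_ge (sup_le hJS (Subgroup.zpowers_le.2 ha)) ?_
    obtain ⟨k, hk⟩ := Subgroup.card_dvd_of_le (le_sup_left : J ≤ J ⊔ Subgroup.zpowers a)
    obtain ⟨l, hl⟩ := Subgroup.card_dvd_of_le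
      (sup_le hJS (Subgroup.zpowers_le.2 ha) : J ⊔ Subgroup.zpowers a ≤ (S : Subgroup G))
    rw [hS81] at hl ⊢
    rw [hJcard] at hk
    have hk1 : k ≠ 1 := by
      rintro rfl
      have := Subgroup.eq_of_le_of_card_ge (le_sup_left : J ≤ J ⊔ Subgroup.zpowers a)
        (by rw [hk, hJcard])
      exact haJ (this ▸ Subgroup.mem_sup_right (Subgroup.mem_zpowers a))
    rw [hk] at hl ⊢
    have : k * l = 3 := by
      rw [mul_assoc] at hl
      omega
    rcases (Nat.prime_three.eq_one_or_self_of_dvd k ⟨l, this.symm⟩) with h | h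
    · exact absurd h hk1
    · subst h; norm_num
  have hcentS : ∀ a ∈ (S : Subgroup G), a ∉ J → ∀ g : G, (∀ j ∈ J, Commute g j) → Commute g a →
      g ∈ Subgroup.centralizer ((S : Subgroup G) : Set G) := by
    intro a ha haJ g hgJ hga
    rw [← gen a ha haJ, Subgroup.mem_centralizer_iff]
    intro b hb
    have : J ⊔ Subgroup.zpowers a ≤ Subgroup.centralizer {g} := sup_le
      (fun j hj => Subgroup.mem_centralizer_singleton_iff.2 (hgJ j hj).symm.eq)
      (Subgroup.zpowers_le.2 (Subgroup.mem_centralizer_singleton_iff.2 hga.symm.eq))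
    exact Subgroup.mem_centralizer_singleton_iff.1 (this hb)
  have hC : ∀ g ∈ (S : Subgroup G), (∀ j ∈ J, Commute g j) → g ∈ J := by
    intro g hg hgJ
    by_contra hgJ'
    have hSZ : (S : Subgroup G) ≤ Z := by
      rw [hZ]
      refine le_inf le_rfl ?_
      rw [← gen g hg hgJ']
      refine sup_le (fun j hj => ?_) (Subgroup.zpowers_le.2 ?_)
      · rw [gen g hg hgJ']
        exact hcentS g hg hgJ' j (fun i hi => hJc j hj i hi) (hgJ j hj).symm
      · rw [gen g hg hgJ']
        exact hcentS g hg hgJ' g hgJ (Commute.refl g)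
    have := Subgroup.card_le_of_le hSZ
    rw [hZcard, hS81] at this; omega
  have hZS : ∀ c ∈ Z, c ∈ (S : Subgroup G) ∧ ∀ b ∈ (S : Subgroup G), Commute c b := fun c hc => by
    rw [hZ] at hc
    exact ⟨hc.1, fun b hb => ((Subgroup.mem_centralizer_iff.1 hc.2) b hb).symm⟩
  have hZJ : Z ≤ J := fun c hc => hC c (hZS c hc).1 fun j hj => (hZS c hc).2 j (hJS hj)
  have hfix : ∀ a ∈ (S : Subgroup G), a ∉ J → ∀ j ∈ J, D a j = 1 → j ∈ Z := by
    intro a ha haJ j hj h
    rw [hZ]
    exact ⟨hJS hj, hcentS a ha haJ j (fun i hi => hJc j hj i hi) (D_eq_one.1 h).symm⟩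
  have cube : ∀ a ∈ (S : Subgroup G), a ^ 3 ∈ J := by
    intro a ha
    by_cases haJ : a ∈ J
    · exact pow_mem haJ 3
    have hidx : (J.subgroupOf (S : Subgroup G)).index = 3 := by
      have h := Subgroup.card_mul_index (J.subgroupOf (S : Subgroup G))
      rw [Nat.card_congr (Subgroup.subgroupOfEquivOfLe hJS).toEquiv, hJcard, hS81] at h
      omega
    haveI : (J.subgroupOf (S : Subgroup G)).Normal := inferInstance
    have := (J.subgroupOf (S : Subgroup G)).pow_index_mem (⟨a, ha⟩ : (S : Subgroup G))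
    rw [hidx] at this
    exact this
  have hconjJ : ∀ g j : G, j ∈ J → g * j * g⁻¹ ∈ J := fun g j hj =>
    Subgroup.Normal.conj_mem ‹J.Normal› j hj g
  have hDmul : ∀ a j k : G, j ∈ J → k ∈ J → D a (j * k) = D a j * D a k := by
    intro a j k hj hk
    simp only [D]
    have h1 : a * (j * k) * a⁻¹ = (a * j * a⁻¹) * (a * k * a⁻¹) := by group
    rw [h1, mul_inv_rev, show (a * j * a⁻¹) * (a * k * a⁻¹) * (k⁻¹ * j⁻¹) =
      (a * j * a⁻¹) * ((a * k * a⁻¹ * k⁻¹) * j⁻¹) by group,
      hJc _ (mul_mem (hconjJ a k hk) (inv_mem hk)) _ (inv_mem hj)]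
    group
  let F : G → G → G := fun a j => j * (a * j * a⁻¹) * (a⁻¹ * j * a)
  have hDD : ∀ a ∈ (S : Subgroup G), ∀ j ∈ J,
      D a (D a j) = F a j ∧ D a (F a j) = 1 := by
    intro a ha j hj
    have hj1 := hconjJ a j hj
    have hj2 : a⁻¹ * j * a ∈ J := by
      have := hconjJ a⁻¹ j hj; rwa [inv_inv] at this
    have hrot : a * (a * j * a⁻¹) * a⁻¹ = a⁻¹ * j * a := by
      have h : a * a * a * j = j * (a * a * a) := by
        have h := hJc _ (cube a ha) _ hj
        rwa [pow_succ, pow_two] at h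
      calc a * (a * j * a⁻¹) * a⁻¹ = a⁻¹ * (a * a * a * j) * a⁻¹ * a⁻¹ := by group
        _ = a⁻¹ * j * a := by rw [h]; group
    constructor
    · simp only [D, F]
      have e : a * (a * j * a⁻¹ * j⁻¹) * a⁻¹ =
          a * (a * j * a⁻¹) * a⁻¹ * (a * j * a⁻¹)⁻¹ := by group
      rw [e, hrot]
      have hsq : (a * j * a⁻¹)⁻¹ * (a * j * a⁻¹)⁻¹ = a * j * a⁻¹ := by
        have h3 := hJexp _ hj1
        rw [pow_succ, pow_two] at h3
        rw [← mul_inv_rev]
        exact inv_eq_of_mul_eq_one_right h3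
      set p := a * j * a⁻¹
      set r := a⁻¹ * j * a
      calc r * p⁻¹ * (p * j⁻¹)⁻¹ = r * (p⁻¹ * j) * p⁻¹ := by group
        _ = r * j * (p⁻¹ * p⁻¹) := by rw [hJc _ (inv_mem hj1) _ hj]; group
        _ = j * p * r := by
            rw [hsq, hJc _ hj2 _ hj, mul_assoc, hJc _ hj2 _ hj1, ← mul_assoc]
    · rw [D_eq_one]
      show a * F a j = F a j * a
      rw [← mul_inv_eq_iff_eq_mul]
      show a * (j * (a * j * a⁻¹) * (a⁻¹ * j * a)) * a⁻¹ = _
      calc a * (j * (a * j * a⁻¹) * (a⁻¹ * j * a)) * a⁻¹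
          = (a * j * a⁻¹) * (a * (a * j * a⁻¹) * a⁻¹) * j := by group
        _ = (a * j * a⁻¹) * (a⁻¹ * j * a) * j := by rw [hrot]
        _ = j * ((a * j * a⁻¹) * (a⁻¹ * j * a)) := hJc _ (mul_mem hj1 hj2) _ hj
        _ = F a j := by simp only [F, mul_assoc]
  obtain ⟨t, htT, ht1⟩ : ∃ t ∈ (T : Subgroup G), t ≠ 1 := by
    by_contra h
    push Not at h
    have : (T : Subgroup G) = ⊥ := (Subgroup.eq_bot_iff_forall _).2 h
    have := congrArg (fun H : Subgroup G => Nat.card H) this
    simp only [hT2, Subgroup.card_bot] at this; omega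
  have ht2 : t * t = 1 := by
    have := pow_card_eq_one' (x := (⟨t, htT⟩ : (T : Subgroup G)))
    rw [hT2] at this
    simpa [pow_two] using congrArg Subtype.val this
  have hti : t⁻¹ = t := inv_eq_of_mul_eq_one_right ht2
  have hTmem : ∀ b ∈ (T : Subgroup G), b = 1 ∨ b = t := by
    intro b hb
    by_contra h
    push Not at h
    have h3 : ({1, t, b} : Set G) ⊆ (T : Subgroup G) := by
      rintro y (rfl | rfl | rfl)
      exacts [one_mem _, htT, hb]
    have := Set.ncard_le_ncard h3 (Set.toFinite _)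
    rw [Set.ncard_eq_three.2 ⟨1, t, b, ht1.symm, h.1.symm, h.2.symm, rfl⟩,
      ← Nat.card_coe_set_eq] at this
    simp only [SetLike.coe_sort_coe] at this
    omega
  have hZt : ∀ c ∈ Z, Commute t c := fun c hc => Subgroup.mem_centralizer_iff.1 (hZT hc) t htT
  have hnotS : ¬ ∀ g ∈ (S : Subgroup G), Commute t g := fun h => hST (inf_eq_left.2 fun g hg => by
    rw [Subgroup.mem_centralizer_iff]
    intro b hb
    rcases hTmem b hb with rfl | rfl
    · simp
    · exact h g hg)
  have htS : t ∉ (S : Subgroup G) := by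
    intro h
    have := orderOf_dvd_natCard (⟨t, h⟩ : (S : Subgroup G))
    rw [Subgroup.orderOf_mk, hS81, orderOf_eq_prime (by rw [pow_two, ht2]) ht1] at this
    omega
  have htconj : ∀ g : G, t * (t * g * t) * t = g := fun g => by
    rw [show t * (t * g * t) * t = (t * t) * g * (t * t) by group, ht2, one_mul, mul_one]
  obtain ⟨a, ha, haJ⟩ : ∃ a ∈ (S : Subgroup G), a ∉ J := by
    by_contra h
    push Not at h
    have := Subgroup.card_le_of_le (show (S : Subgroup G) ≤ J from h)
    rw [hS81, hJcard] at this; omega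
  have hbS : t * a * t ∈ (S : Subgroup G) := by
    have := hSn.conj_mem a ha t; rwa [hti] at this
  have hbJ : t * a * t ∉ J := fun h => haJ (by
    have := hconjJ t _ h
    rwa [hti, htconj] at this)
  have hcos : t * a * t * a⁻¹ ∈ J ∨ t * a * t * a ∈ J := by
    have hb := hbS
    rw [← gen a ha haJ, ← SetLike.mem_coe, Subgroup.normal_mul, Set.mem_mul] at hb
    obtain ⟨j, hj, c, hc, e⟩ := hb
    obtain ⟨n, rfl⟩ := Subgroup.mem_zpowers_iff.1 hc
    have h3 : ∀ m : ℤ, a ^ (3 * m) ∈ J := fun m => by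
      rw [zpow_mul]; exact zpow_mem (by exact_mod_cast cube a ha) m
    obtain ⟨m, hm | hm | hm⟩ : ∃ m : ℤ, n = 3 * m ∨ n = 3 * m + 1 ∨ n = 3 * m + 2 :=
      ⟨n / 3, by omega⟩
    · exact absurd (e ▸ mul_mem hj (hm ▸ h3 m)) hbJ
    · left
      rw [← e, hm, zpow_add_one, ← mul_assoc, mul_inv_cancel_right]
      exact mul_mem hj (h3 m)
    · right
      rw [← e, hm, mul_assoc, ← zpow_add_one, show (3 : ℤ) * m + 2 + 1 = 3 * (m + 1) by ring]
      exact mul_mem hj (h3 _)
  rcases hcos with hcase | hcase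
  · -- the generator of `T` would centralise `S`
    exfalso
    apply hnotS
    set b := t * a * t with hb
    have hconjb : ∀ j ∈ J, b * j * b⁻¹ = a * j * a⁻¹ := by
      intro j hj
      calc b * j * b⁻¹ = (b * a⁻¹) * (a * j * a⁻¹) * (b * a⁻¹)⁻¹ := by group
        _ = a * j * a⁻¹ := by
          rw [hJc _ hcase _ (hconjJ a j hj), mul_inv_cancel_right]
    have hcommD : ∀ j ∈ J, D a (t * j * t) = t * D a j * t := by
      intro j hj
      have h1 : t * (a * j * a⁻¹) * t = b * (t * j * t) * b⁻¹ := by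
        rw [hb, mul_inv_rev, mul_inv_rev, hti]
        calc t * (a * j * a⁻¹) * t = t * a * (t * t) * j * (t * t) * a⁻¹ * t := by
              rw [ht2]; group
          _ = _ := by group
      have h2 : t * j * t ∈ J := by have := hconjJ t j hj; rwa [hti] at this
      rw [hconjb _ h2] at h1
      calc D a (t * j * t) = a * (t * j * t) * a⁻¹ * (t * j * t)⁻¹ := rfl
        _ = t * (a * j * a⁻¹) * t * (t * j * t)⁻¹ := by rw [h1]
        _ = t * (a * j * a⁻¹) * (t * t⁻¹) * j⁻¹ * t⁻¹ := by group
        _ = t * D a j * t := by simp only [hti, ht2, D]; group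
    have hlift : ∀ j ∈ J, Commute t (D a j) → Commute t j := by
      intro j hj h
      have h2 : t * j * t ∈ J := by have := hconjJ t j hj; rwa [hti] at this
      have hv : D a (t * j * t * j⁻¹) = 1 := by
        rw [hDmul a _ _ h2 (inv_mem hj), hcommD j hj, h.eq, mul_assoc _ t t, ht2, mul_one,
          ← hDmul a _ _ hj (inv_mem hj), mul_inv_cancel]
        simp [D]
      set v := t * j * t * j⁻¹ with hvdef
      have hvJ : v ∈ J := mul_mem h2 (inv_mem hj)
      have hvt : t * v * t = v := by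
        rw [(hZt v (hfix a ha haJ v hvJ hv)).eq, mul_assoc, ht2, mul_one]
      have h4 : t * v * t = j * (t * j⁻¹ * t) := by
        rw [hvdef]
        calc t * (t * j * t * j⁻¹) * t = (t * t) * j * (t * j⁻¹ * t) := by group
          _ = _ := by rw [ht2, one_mul]
      have hv2 : v * v = 1 := by
        calc v * v = v * (j * (t * j⁻¹ * t)) := by rw [← h4, hvt]
          _ = t * j * t * (j⁻¹ * j) * (t * j⁻¹ * t) := by rw [hvdef]; group
          _ = t * j * (t * t) * j⁻¹ * t := by group
          _ = 1 := by rw [ht2, mul_one, mul_assoc t j, mul_inv_cancel, mul_one, ht2]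
      have hv3 := hJexp v hvJ
      rw [pow_succ, pow_two, hv2, one_mul, hvdef, mul_inv_eq_one] at hv3
      show t * j = j * t
      calc t * j = t * j * (t * t) := by rw [ht2, mul_one]
        _ = (t * j * t) * t := by group
        _ = j * t := by rw [hv3]
    have hJt : ∀ j ∈ J, Commute t j := fun j hj => hlift j hj (hlift _ (D_mem hj) (by
      rw [(hDD a ha j hj).1]
      exact hZt _ (hfix a ha haJ _ (by
        rw [← (hDD a ha j hj).1]; exact D_mem (D_mem hj)) (hDD a ha j hj).2)))
    have hat : Commute t a := by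
      set v := b * a⁻¹ with hvdef
      have hvt : t * v * t = v := by rw [(hJt v hcase).eq, mul_assoc, ht2, mul_one]
      have h4 : t * v * t = v⁻¹ := by
        rw [hvdef, hb, mul_inv_rev, inv_inv, mul_inv_rev, mul_inv_rev, hti]
        calc t * (t * a * t * a⁻¹) * t = (t * t) * a * (t * a⁻¹ * t) := by group
          _ = _ := by rw [ht2, one_mul]; simp only [mul_assoc]
      have hv2 : v * v = 1 := by
        nth_rw 1 [← hvt, h4]
        exact inv_mul_cancel v
      have hv3 := hJexp v hcase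
      rw [pow_succ, pow_two, hv2, one_mul, hvdef, mul_inv_eq_one] at hv3
      show t * a = a * t
      calc t * a = t * a * (t * t) := by rw [ht2, mul_one]
        _ = b * t := by rw [hb]; group
        _ = a * t := by rw [hv3]
    intro g hg
    rw [← gen a ha haJ] at hg
    have : J ⊔ Subgroup.zpowers a ≤ Subgroup.centralizer {t} := sup_le
      (fun j hj => Subgroup.mem_centralizer_singleton_iff.2 (hJt j hj).symm.eq)
      (Subgroup.zpowers_le.2 (Subgroup.mem_centralizer_singleton_iff.2 hat.symm.eq))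
    exact (Subgroup.mem_centralizer_singleton_iff.1 (this hg)).symm
  · set x := a⁻¹ * (t * a * t) with hxdef
    have hxS : x ∈ (S : Subgroup G) := mul_mem (inv_mem ha) hbS
    have hxJ : x ∉ J := by
      intro h
      -- `x` is congruent to `a ^ (-2)`
      have h1 : a * x * a⁻¹ ∈ J := hconjJ a x h
      have h2 : (t * a * t * a) * (a * x * a⁻¹)⁻¹ ∈ J := mul_mem hcase (inv_mem h1)
      have h3 : (t * a * t * a) * (a * x * a⁻¹)⁻¹ =
          (t * a * t) * (a * a) * (t * a * t)⁻¹ := by rw [hxdef]; group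
      rw [h3] at h2
      have h4 := hconjJ (t * a * t)⁻¹ _ h2
      have h5 : a ^ 2 ∈ J := by
        rw [pow_two]
        rwa [inv_inv, show (t * a * t)⁻¹ * (t * a * t * (a * a) * (t * a * t)⁻¹) * (t * a * t) =
          a * a by group] at h4
      exact haJ (by
        have := mul_mem (cube a ha) (inv_mem h5)
        rwa [show a ^ 3 * (a ^ 2)⁻¹ = a by group] at this)
    have htx : t * x * t = x⁻¹ := by
      rw [hxdef, mul_inv_rev, inv_inv, mul_inv_rev, mul_inv_rev, hti]
      calc t * (a⁻¹ * (t * a * t)) * t = t * a⁻¹ * (t * a * (t * t)) := by group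
        _ = t * a⁻¹ * t * a := by rw [ht2]; group
        _ = _ := by group
    have hx3 : x ^ 3 = 1 := by
      have h1 : x ^ 3 ∈ Z := hfix x hxS hxJ _ (cube x hxS) (D_eq_one.2 (Commute.self_pow x 3))
      have h2 : t * x ^ 3 * t = (x ^ 3)⁻¹ := by
        have : (t * x * t⁻¹) ^ 3 = t * x ^ 3 * t⁻¹ := conj_pow
        rw [hti, htx] at this
        rw [← this, inv_pow]
      rw [(hZt _ h1).eq, mul_assoc, ht2, mul_one] at h2
      have h4 := hJexp _ (hZJ h1)
      rw [pow_succ, pow_two] at h4
      nth_rw 1 [h2] at h4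
      rwa [inv_mul_cancel, one_mul] at h4
    -- a vector generating `J`
    obtain ⟨j, hj, hFj⟩ : ∃ j ∈ J, F x j ≠ 1 := by
      by_contra h
      push Not at h
      let δ : J →* G :=
        MonoidHom.mk' (fun i => D x i.1) (fun i k => hDmul x _ _ i.2 k.2)
      have hker : δ.ker = Z.subgroupOf J := by
        ext i
        exact ⟨fun hi => hfix x hxS hxJ i.1 i.2 hi,
          fun hi => D_eq_one.2 ((hZS _ hi).2 x hxS).symm⟩
      have hrange : δ.range ≤ Z := by
        rintro _ ⟨i, rfl⟩
        exact hfix x hxS hxJ _ (D_mem i.2) ((hDD x hxS i.1 i.2).1.trans (h i.1 i.2))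
      have h1 := Subgroup.card_mul_index δ.ker
      rw [Subgroup.index_ker, hker, Nat.card_congr (Subgroup.subgroupOfEquivOfLe hZJ).toEquiv,
        hZcard, hJcard] at h1
      have := Subgroup.card_le_of_le hrange
      rw [hZcard] at this; omega
    have hFmem : ∀ i ∈ J, F x i ∈ Z := fun i hi => hfix x hxS hxJ _
      (by rw [← (hDD x hxS i hi).1]; exact D_mem (D_mem hi)) (hDD x hxS i hi).2
    have hj' : t * j * t ∈ J := by have := hconjJ t j hj; rwa [hti] at this
    set u := j * (t * j * t) with hudef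
    have hu : u ∈ J := mul_mem hj hj'
    have htu : t * u = u * t := by
      calc t * u = t * j * t * j * t := by rw [hudef]; group
        _ = (t * j * t) * j * t := by group
        _ = u * t := by rw [hJc _ hj' _ hj, hudef]
    have hFu : F x u ≠ 1 := by
      intro h
      have e1 : F x u = F x j * F x (t * j * t) := by
        rw [← (hDD x hxS u hu).1, hudef, hDmul x _ _ hj hj', hDmul x _ _ (D_mem hj) (D_mem hj'),
          (hDD x hxS j hj).1, (hDD x hxS _ hj').1]
      have e2 : F x (t * j * t) = t * F x j * t := by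
        have hp : x⁻¹ * j * x ∈ J := by
          have := hconjJ x⁻¹ j hj; rwa [inv_inv] at this
        have hq := hconjJ x j hj
        show t * j * t * (x * (t * j * t) * x⁻¹) * (x⁻¹ * (t * j * t) * x) =
          t * (j * (x * j * x⁻¹) * (x⁻¹ * j * x)) * t
        have a1 : x * (t * j * t) * x⁻¹ = t * (x⁻¹ * j * x) * t := by
          have hxt : x * t = t * x⁻¹ := by
            rw [← htx, ← mul_assoc, ← mul_assoc, ht2, one_mul]
          have htx' : t * x⁻¹ = x * t := hxt.symm
          calc x * (t * j * t) * x⁻¹ = (x * t) * j * (t * x⁻¹) := by group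
            _ = (t * x⁻¹) * j * (x * t) := by rw [hxt, htx']
            _ = _ := by group
        have a2 : x⁻¹ * (t * j * t) * x = t * (x * j * x⁻¹) * t := by
          have hxt : x⁻¹ * t = t * x := by rw [← htx, mul_assoc, ht2, mul_one]
          calc x⁻¹ * (t * j * t) * x = (x⁻¹ * t) * j * (t * x) := by group
            _ = (t * x) * j * (x⁻¹ * t) := by rw [hxt]
            _ = _ := by group
        rw [a1, a2]
        calc t * j * t * (t * (x⁻¹ * j * x) * t) * (t * (x * j * x⁻¹) * t)
            = t * j * (t * t) * (x⁻¹ * j * x) * (t * t) * (x * j * x⁻¹) * t := by group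
          _ = t * (j * ((x⁻¹ * j * x) * (x * j * x⁻¹))) * t := by rw [ht2]; group
          _ = _ := by rw [hJc _ hp _ hq]; simp only [mul_assoc]
      rw [e1, e2, (hZt _ (hFmem j hj)).eq, mul_assoc (F x j) t t, ht2, mul_one] at h
      have h3 := hJexp _ (hZJ (hFmem j hj))
      rw [pow_succ, pow_two, h, one_mul] at h3
      exact hFj h3
    have hDu : D x u ∉ Z := fun h => hFu (by
      rw [← (hDD x hxS u hu).1]
      exact D_eq_one.2 ((hZS _ h).2 x hxS).symm)
    have hZeq : ∀ c ∈ Z, c ≠ 1 → Z = Subgroup.zpowers c := by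
      intro c hc hc1
      refine (Subgroup.eq_of_le_of_card_ge (Subgroup.zpowers_le.2 hc) ?_).symm
      rw [hZcard, Nat.card_zpowers, orderOf_eq_prime (hJexp c (hZJ hc)) hc1]
    have hgen : Subgroup.closure {x, u, t} = ⊤ := by
      set M := Subgroup.closure ({x, u, t} : Set G) with hM
      have mx : x ∈ M := Subgroup.subset_closure (by simp)
      have mu : u ∈ M := Subgroup.subset_closure (by simp)
      have mt : t ∈ M := Subgroup.subset_closure (by simp)
      have mD : ∀ i ∈ M, D x i ∈ M := fun i hi =>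
        mul_mem (mul_mem (mul_mem mx hi) (inv_mem mx)) (inv_mem hi)
      have hFM : F x u ∈ M := by rw [← (hDD x hxS u hu).1]; exact mD _ (mD _ mu)
      have hZM : Z ≤ M := by
        rw [hZeq _ (hFmem u hu) hFu]; exact Subgroup.zpowers_le.2 hFM
      have hJM : J ≤ M := by
        let A : Subgroup G := M ⊓ J
        let δ : A →* G := MonoidHom.mk' (fun i => D x i.1) (fun i k => hDmul x _ _ i.2.2 k.2.2)
        have hker : δ.ker = Z.subgroupOf A := by
          ext i
          exact ⟨fun hi => hfix x hxS hxJ i.1 i.2.2 hi,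
            fun hi => D_eq_one.2 ((hZS _ hi).2 x hxS).symm⟩
        have h1 := Subgroup.card_mul_index δ.ker
        rw [Subgroup.index_ker, hker,
          Nat.card_congr (Subgroup.subgroupOfEquivOfLe (le_inf hZM hZJ : Z ≤ A)).toEquiv,
          hZcard] at h1
        have hlt : Z < δ.range := by
          refine lt_of_le_of_ne ?_ ?_
          · rw [hZeq _ (hFmem u hu) hFu, Subgroup.zpowers_le]
            exact ⟨⟨D x u, mD u mu, D_mem hu⟩, (hDD x hxS u hu).1⟩
          · intro h
            exact hDu (h ▸ ⟨⟨u, mu, hu⟩, rfl⟩)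
        have h2 : Nat.card Z < Nat.card δ.range := by
          by_contra h
          exact hlt.ne (Subgroup.eq_of_le_of_card_ge hlt.le (not_lt.1 h))
        have h3 : Nat.card A ∣ 27 := hJcard ▸ Subgroup.card_dvd_of_le inf_le_right
        obtain ⟨k, hk, hk'⟩ := (Nat.dvd_prime_pow Nat.prime_three (i := Nat.card A) (m := 3)).1 h3
        rw [hZcard] at h2
        have : A = J := Subgroup.eq_of_le_of_card_ge inf_le_right (by
          rw [hJcard, hk']
          interval_cases k <;> omega)
        exact this ▸ inf_le_left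
      have hSM : (S : Subgroup G) ≤ M := by
        rw [← gen x hxS hxJ]; exact sup_le hJM (Subgroup.zpowers_le.2 mx)
      refine Subgroup.eq_top_of_card_eq _ ?_
      have h1 : Nat.card M ∣ 162 := hG ▸ Subgroup.card_subgroup_dvd_card _
      obtain ⟨k, hk⟩ := Subgroup.card_dvd_of_le hSM
      rw [hS81] at hk
      have hne : k ≠ 1 := by
        rintro rfl
        exact htS ((Subgroup.eq_of_le_of_card_ge hSM (by rw [hk, hS81])).symm ▸ mt)
      have h2 := Nat.le_of_dvd (by norm_num) h1
      have h3 : 0 < Nat.card M := Nat.card_pos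
      rw [hG]; omega
    have hne : x * u * x⁻¹ ≠ x⁻¹ * u * x := by
      intro h
      refine hDu ?_
      have hc : D x u = 1 := by
        refine D_eq_one.2 ?_
        have h1 : x ^ 2 * u = u * x ^ 2 := by
          rw [pow_two]
          calc x * x * u = x * (x * u * x⁻¹) * x := by group
            _ = x * (x⁻¹ * u * x) * x := by rw [h]
            _ = _ := by group
        have h2 : x = (x ^ 2)⁻¹ := eq_inv_of_mul_eq_one_left (by rw [← hx3, ← pow_succ'])
        rw [h2]
        exact (show Commute (x ^ 2) u from h1).inv_left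
      rw [hc]; exact one_mem Z
    have hz : ∀ n : Subgroup G, n.Normal → n ≤ J → n ≠ ⊥ →
        u * (x * u * x⁻¹) * (x⁻¹ * u * x) ∈ n := by
      intro n hn hnJ hnb
      obtain ⟨c, hc, hc1⟩ := (n.ne_bot_iff_exists_ne_one).1 hnb |> fun ⟨c, hc⟩ =>
        (⟨c.1, c.2, fun h => hc (Subtype.ext h)⟩ : ∃ c ∈ n, c ≠ 1)
      haveI := hn
      suffices H : ∃ d ∈ n, d ∈ Z ∧ d ≠ 1 by
        obtain ⟨d, hd, hdZ, hd1⟩ := H
        have : F x u ∈ Subgroup.zpowers d := hZeq d hdZ hd1 ▸ hFmem u hu
        exact Subgroup.zpowers_le.2 hd this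
      by_cases h1 : D x c = 1
      · exact ⟨c, hc, hfix x hxS hxJ c (hnJ hc) h1, hc1⟩
      by_cases h2 : D x (D x c) = 1
      · exact ⟨_, D_mem hc, hfix x hxS hxJ _ (D_mem (hnJ hc)) h2, h1⟩
      · refine ⟨_, D_mem (D_mem hc), ?_, h2⟩
        rw [(hDD x hxS c (hnJ hc)).1]
        exact hFmem c (hnJ hc)
    obtain ⟨φ, hinj, hφz⟩ := embed_nine hG hJcomm x u t hu (hJexp u hu) hx3 ht2 htx htu hgen hz hne
    have hcentral : ∀ g : G, Commute g (F x u) := by
      have hmem : ({x, u, t} : Set G) ⊆ Subgroup.centralizer {F x u} := by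
        rintro y (rfl | rfl | rfl) <;> rw [SetLike.mem_coe, Subgroup.mem_centralizer_singleton_iff]
        · exact ((hZS _ (hFmem u hu)).2 x hxS).symm.eq
        · exact ((hZS _ (hFmem u hu)).2 u (hJS hu)).symm.eq
        · exact (hZt _ (hFmem u hu)).eq
      intro g
      have := (Subgroup.closure_le _).2 hmem (hgen.symm ▸ Subgroup.mem_top g)
      exact Subgroup.mem_centralizer_singleton_iff.1 this
    let ψ := φ.codRestrict (Subgroup.centralizer ({Equiv.swap (0 : Fin 9) 1 * Equiv.swap 1 2 *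
        Equiv.swap 3 4 * Equiv.swap 4 5 * Equiv.swap 6 7 * Equiv.swap 7 8} :
        Set (Equiv.Perm (Fin 9)))) (fun g => by
      rw [Subgroup.mem_centralizer_singleton_iff, ← hφz, ← map_mul, ← map_mul]
      exact congrArg φ (hcentral g).eq)
    refine ⟨MulEquiv.ofBijective ψ ((Nat.bijective_iff_injective_and_card ψ).2 ⟨?_, ?_⟩)⟩
    · exact fun p q h => hinj (congrArg Subtype.val h)
    · rw [hG, card_centralizer_nine]

end Cfsg.Agent.S3376
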