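import Cfsg.Statements.S3379
-- import your own Cfsg.Agent.* helpers here

set_option autoImplicit false
open Cfsg

namespace Cfsg.Agent.S3379

/-- Let G be a finite group all of whose Sylow subgroups are cyclic. Then G is generated by two elements x and y of coprime orders n and m with x⁻¹yx = y^r, where gcd(r − 1, m) = 1 and r^n ≡ 1 (mod m). -/
theorem result {G : Type*} [Group G] [Finite G]
    (hZ : ∀ (p : ℕ) [Fact p.Prime] (P : Sylow p G), IsCyclic (P : Subgroup G)) :
    ∃ (x y : G) (n m r : ℕ), Subgroup.closure {x, y} = ⊤ ∧ orderOf x = n ∧ orderOf y = m ∧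
      x⁻¹ * y * x = y ^ r ∧ Nat.Coprime (r - 1) m ∧ Nat.Coprime n m ∧ 1 ≤ r ∧ r ^ n % m = 1 % m := by
  haveI hG : IsZGroup G := ⟨fun p hp P => haveI := Fact.mk hp; hZ p P⟩
  obtain ⟨N, hN⟩ : ∃ N, N = commutator G := ⟨_, rfl⟩
  obtain ⟨H, hH⟩ := Subgroup.exists_right_complement'_of_coprime hG.coprime_commutator_index
  haveI : IsCyclic (G ⧸ commutator G) := IsZGroup.isCyclic_abelianization
  haveI : IsCyclic H := isCyclic_of_surjective _ (hH.symm.QuotientMulEquiv).surjective
  haveI : IsCyclic N := hN ▸ IsZGroup.isCyclic_commutator G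
  haveI : N.Normal := hN ▸ inferInstanceAs (commutator G).Normal
  obtain ⟨y₀, hy⟩ := IsCyclic.exists_ofOrder_eq_natCard (α := N)
  obtain ⟨x₀, hx⟩ := IsCyclic.exists_ofOrder_eq_natCard (α := H)
  have hyN : Subgroup.zpowers (y₀ : G) = N := by
    refine Subgroup.eq_of_le_of_card_ge (Subgroup.zpowers_le.mpr y₀.2) ?_
    rw [Nat.card_zpowers, Subgroup.orderOf_coe, hy]
  have hxH : Subgroup.zpowers (x₀ : G) = H := by
    refine Subgroup.eq_of_le_of_card_ge (Subgroup.zpowers_le.mpr x₀.2) ?_
    rw [Nat.card_zpowers, Subgroup.orderOf_coe, hx]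
  set x : G := (x₀ : G) with hx'
  set y : G := (y₀ : G) with hy'
  have hgen : Subgroup.closure {x, y} = ⊤ := by
    rw [eq_top_iff, ← hH.sup_eq_top, ← hN, ← hyN, ← hxH, sup_le_iff, Subgroup.zpowers_le, Subgroup.zpowers_le]
    exact ⟨Subgroup.subset_closure (by simp), Subgroup.subset_closure (by simp)⟩
  have hym : 0 < orderOf y := orderOf_pos y
  obtain ⟨k, hk⟩ : ∃ k : ℕ, x⁻¹ * y * x = y ^ k := by
    have : x⁻¹ * y * x ∈ N := by
      simpa using (inferInstance : N.Normal).conj_mem y y₀.2 x⁻¹
    rw [← hyN, ← mem_powers_iff_mem_zpowers] at this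
    obtain ⟨k, hk⟩ := this
    exact ⟨k, hk.symm⟩
  set r := k + orderOf y with hr
  have hconj : x⁻¹ * y * x = y ^ r := by rw [hr, pow_add, pow_orderOf_eq_one, mul_one, hk]
  have hr1 : 1 ≤ r := by omega
  refine ⟨x, y, orderOf x, orderOf y, r, hgen, rfl, rfl, hconj, ?_, ?_, hr1, ?_⟩
  · -- G modulo the normal subgroup generated by y^(r-1) is abelian
    set M := Subgroup.zpowers (y ^ (r - 1)) with hM
    haveI hMn : M.Normal := by
      have hle : M ≤ N := by rw [hM, Subgroup.zpowers_le, ← hyN]; exact Subgroup.npow_mem_zpowers y _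
      have hxM : x ∈ Subgroup.normalizer (M : Set G) := by
        have h1 : M.map (MulAut.conj x⁻¹).toMonoidHom = M := by
          refine Subgroup.eq_of_le_of_card_ge ?_ ?_
          · rw [hM, MonoidHom.map_zpowers, Subgroup.zpowers_le]
            change x⁻¹ * y ^ (r - 1) * (x⁻¹)⁻¹ ∈ _
            rw [← conj_pow, inv_inv, hconj, ← pow_mul, mul_comm r, pow_mul]
            exact Subgroup.npow_mem_zpowers _ _
          · exact le_of_eq (Nat.card_congr (M.equivMapOfInjective _ (MulEquiv.injective _)).toEquiv)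
        have h2 : x⁻¹ ∈ Subgroup.normalizer (M : Set G) := by
          rw [Subgroup.mem_normalizer_iff]
          intro g
          constructor
          · intro hg
            rw [← h1]
            exact ⟨g, hg, by simp⟩
          · intro hg
            rw [← h1] at hg
            obtain ⟨g', hg', he⟩ := hg
            have he' : x⁻¹ * g' * (x⁻¹)⁻¹ = x⁻¹ * g * (x⁻¹)⁻¹ := he
            rw [← mul_left_cancel (mul_right_cancel he')]
            exact hg'
        simpa using inv_mem h2
      rw [← Subgroup.normalizer_eq_top_iff, eq_top_iff, ← hgen, Subgroup.closure_le]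
      rintro g (rfl | hg)
      · exact hxM
      · rw [Set.mem_singleton_iff] at hg
        rw [SetLike.mem_coe, Subgroup.mem_normalizer_iff, hg]
        intro g
        have : ∀ a ∈ M, y * a * y⁻¹ = a := by
          intro a ha
          obtain ⟨j, rfl⟩ := Subgroup.mem_zpowers_iff.mp ha
          rw [(((Commute.refl y).pow_right (r - 1)).zpow_right j).eq, mul_inv_cancel_right]
        constructor
        · intro ha; rw [this g ha]; exact ha
        · intro ha
          have h := this _ ha
          rw [mul_left_cancel (mul_right_cancel h)] at ha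
          exact ha
    have hab : N ≤ M := by
      have hcomm : Commute (QuotientGroup.mk' M x) (QuotientGroup.mk' M y) := by
        rw [commute_iff_eq, ← map_mul, ← map_mul]
        refine (QuotientGroup.eq.mpr ?_).symm
        have : (y * x)⁻¹ * (x * y) = (x⁻¹ * y * x)⁻¹ * y := by group
        rw [this, hconj, show (y ^ r)⁻¹ * y = (y ^ (r - 1))⁻¹ by
          conv_lhs => rw [← Nat.sub_add_cancel hr1, pow_succ']
          group]
        exact inv_mem (Subgroup.mem_zpowers _)
      have htop : Subgroup.closure ({QuotientGroup.mk' M x, QuotientGroup.mk' M y} : Set (G ⧸ M)) = ⊤ := by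
        rw [← Set.image_pair, ← MonoidHom.map_closure, hgen]
        exact Subgroup.map_top_of_surjective _ (QuotientGroup.mk'_surjective M)
      have hc : IsMulCommutative (Subgroup.closure ({QuotientGroup.mk' M x, QuotientGroup.mk' M y} : Set (G ⧸ M))) := by
        refine Subgroup.isMulCommutative_closure ?_
        intro a ha b hb
        rcases ha with rfl | ha <;> rcases hb with rfl | hb
        · rfl
        · rw [Set.mem_singleton_iff.mp hb]; exact hcomm.eq
        · rw [Set.mem_singleton_iff.mp ha]; exact hcomm.eq.symm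
        · rw [Set.mem_singleton_iff.mp ha, Set.mem_singleton_iff.mp hb]
      rw [htop] at hc
      haveI : IsMulCommutative (G ⧸ M) := ⟨⟨fun a b =>
        congrArg Subtype.val (hc.is_comm.comm ⟨a, trivial⟩ ⟨b, trivial⟩)⟩⟩
      rw [hN]
      exact Subgroup.Normal.quotient_commutative_iff_commutator_le.mp inferInstance
    have hyM : y ∈ M := hab y₀.2
    rw [hM, ← mem_powers_iff_mem_zpowers] at hyM
    obtain ⟨j, hj⟩ := hyM
    have hj' : y ^ ((r - 1) * j) = y ^ 1 := by rw [pow_mul, pow_one]; exact hj
    rw [pow_eq_pow_iff_modEq] at hj'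
    refine Nat.coprime_of_dvd fun p hp h1 h2 => hp.not_dvd_one ?_
    exact (hj'.dvd_iff h2).mp (h1.mul_right j)
  · have := hG.coprime_commutator_index
    rw [hH.symm.index_eq_card, ← hN] at this
    rw [hx', hy', Subgroup.orderOf_coe, Subgroup.orderOf_coe, hx, hy]
    exact this.symm
  · have hn : ∀ i : ℕ, (x ^ i)⁻¹ * y * x ^ i = y ^ r ^ i := by
      intro i
      induction i with
      | zero => simp
      | succ i ih =>
        calc (x ^ (i + 1))⁻¹ * y * x ^ (i + 1) = x⁻¹ * ((x ^ i)⁻¹ * y * x ^ i) * (x⁻¹)⁻¹ := by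
              rw [pow_succ]; group
          _ = y ^ r ^ (i + 1) := by rw [ih, ← conj_pow, inv_inv, hconj, ← pow_mul, pow_succ']
    have := hn (orderOf x)
    rw [pow_orderOf_eq_one, inv_one, one_mul, mul_one] at this
    conv_lhs at this => rw [← pow_one y]
    rw [pow_eq_pow_iff_modEq] at this
    exact this.symm

end Cfsg.Agent.S3379
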