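import Cfsg.Statements.S3380
import Cfsg.Agent.S3380.Basic

set_option autoImplicit false
open Cfsg

namespace Cfsg.Agent.S3380

open CfsgLib.PPSplit

/-- Let a finite p-group G act faithfully and irreducibly on a non-trivial finite vector space V over the field with q elements (q prime), and suppose G is not cyclic, generalized quaternion, dihedral or semidihedral. Then G has a subgroup H of index p and V is the direct sum of p subspaces, each invariant under H, on none of which H acts faithfully, and which every element of G outside H permutes in a single p-cycle. -/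
theorem result
    (q : ℕ) [Fact q.Prime] {V : Type*} [AddCommGroup V] [Module (ZMod q) V] [Finite V] [Nontrivial V]
    {G : Type*} [Group G] [Finite G] (p : ℕ) [Fact p.Prime] (hG : IsPGroup p G)
    (ρ : G →* (V ≃ₗ[ZMod q] V)) (hρ : Function.Injective ρ)
    (hirr : ∀ W : Submodule (ZMod q) V, (∀ g : G, ∀ w ∈ W, ρ g w ∈ W) → W = ⊥ ∨ W = ⊤)
    (hnc : ¬ IsCyclic G) (hnq : ∀ n : ℕ, ¬ Nonempty (G ≃* QuaternionGroup n))
    (hnd : ∀ n : ℕ, ¬ Nonempty (G ≃* DihedralGroup n)) (hnsd : ¬ Cfsg.IsQuasiDihedral G) :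
    ∃ (H : Subgroup G) (W : Fin p → Submodule (ZMod q) V), H.index = p ∧
      iSup W = ⊤ ∧ iSupIndep W ∧
      (∀ h ∈ H, ∀ i, ∀ w ∈ W i, ρ h w ∈ W i) ∧
      (∀ i, ∃ h ∈ H, h ≠ 1 ∧ ∀ w ∈ W i, ρ h w = w) ∧
      ∀ g : G, g ∉ H → ∃ σ : Equiv.Perm (Fin p), orderOf σ = p ∧ ∀ i, (W i).map (ρ g : V →ₗ[ZMod q] V) = W (σ i) := by
  haveI : NeZero p := ⟨(Fact.out : p.Prime).ne_zero⟩
  have hP : p.Prime := Fact.out
  have hQ : q.Prime := Fact.out
  have hmul : ∀ g h : G, ∀ v : V, ρ (g * h) v = ρ g (ρ h v) := fun g h v => by rw [map_mul]; rfl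
  have hone : ∀ v : V, ρ (1 : G) v = v := fun v => by rw [map_one]; rfl
  have htriv : ∀ g : G, (∀ v, ρ g v = v) → g = 1 := fun g hg =>
    hρ ((LinearEquiv.ext hg).trans (map_one ρ).symm)
  obtain ⟨z, a, hz, hz1, hzc, ha, haz, hconj⟩ := exists_pair hG hnc hnq hnd hnsd
  -- fixed spaces of central elements
  have hzfix : ∀ v : V, ρ z v = v → v = 0 := by
    intro v hv
    rcases hirr (LinearMap.eqLocus (ρ z : V →ₗ[ZMod q] V) LinearMap.id) (fun g w hw => by
      show ρ z (ρ g w) = ρ g w
      rw [← hmul, ← (hzc g).eq, hmul, show ρ z w = w from hw]) with h | h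
    · have hv' : v ∈ LinearMap.eqLocus (ρ z : V →ₗ[ZMod q] V) LinearMap.id := hv
      rw [h] at hv'
      exact (Submodule.mem_bot _).1 hv'
    · exact absurd (htriv z fun w => (h.symm ▸ Submodule.mem_top :
        w ∈ LinearMap.eqLocus (ρ z : V →ₗ[ZMod q] V) LinearMap.id)) hz1
  have hpq : (p : ZMod q) ≠ 0 := by
    intro h
    rw [ZMod.natCast_eq_zero_iff] at h
    obtain rfl : q = p := (Nat.prime_dvd_prime_iff_eq hQ hP).1 h
    -- a central element of order `q` fixes a nonzero vector in characteristic `q`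
    let N : V →ₗ[ZMod q] V := (ρ z : V →ₗ[ZMod q] V) - LinearMap.id
    have hN : N ^ q = 0 := by
      have h1 : (ρ z : V →ₗ[ZMod q] V) ^ q = LinearMap.id := by
        have : ∀ n : ℕ, (ρ z : V →ₗ[ZMod q] V) ^ n = (ρ (z ^ n) : V →ₗ[ZMod q] V) := fun n => by
          induction n with
          | zero => rw [pow_zero, pow_zero, map_one]; rfl
          | succ n ih => rw [pow_succ, ih, pow_succ, map_mul]; rfl
        rw [this, hz, map_one]; rfl
      haveI : Nontrivial (Module.End (ZMod q) V) := inferInstance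
      haveI : CharP (Module.End (ZMod q) V) q :=
        charP_of_injective_algebraMap (algebraMap (ZMod q) (Module.End (ZMod q) V)).injective q
      show ((ρ z : V →ₗ[ZMod q] V) - LinearMap.id : Module.End (ZMod q) V) ^ q = 0
      rw [sub_pow_char_of_commute q (Commute.one_right _), h1]
      exact sub_eq_zero.2 (one_pow q).symm
    obtain ⟨v, hv⟩ := exists_ne (0 : V)
    classical
    have hex : ∃ n, (N ^ n) v = 0 := ⟨q, by rw [hN]; rfl⟩
    have hn0 : Nat.find hex ≠ 0 := fun e => by
      have := Nat.find_spec hex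
      rw [e, pow_zero] at this
      exact hv this
    obtain ⟨n, hn⟩ := Nat.exists_eq_succ_of_ne_zero hn0
    have h1 := Nat.find_spec hex
    rw [hn, pow_succ'] at h1
    exact Nat.find_min hex (by omega : n < Nat.find hex) (hzfix _ (sub_eq_zero.1 h1))
  obtain ⟨htop, hind⟩ := split ρ hpq hz hzc ha hzfix
  let W : Fin p → Submodule (ZMod q) V := fun i =>
    LinearMap.eqLocus (ρ (a * z ^ i.val) : V →ₗ[ZMod q] V) LinearMap.id
  -- powers of `z`
  have hzpow : ∀ k l : ℕ, z ^ k = z ^ l → k % p = l % p := by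
    intro k l h
    rw [pow_eq_pow_iff_modEq, orderOf_eq_prime hz hz1] at h
    exact h
  choose k hk using hconj
  let χ : G →* Multiplicative (ZMod p) := MonoidHom.mk' (fun g => Multiplicative.ofAdd (k g : ZMod p))
    (fun g h => by
      rw [← ofAdd_add, ← Nat.cast_add]
      congr 1
      rw [ZMod.natCast_eq_natCast_iff']
      apply hzpow
      apply mul_left_cancel (a := a)
      have := conj_pow_eq hzc (hk g) (k h)
      rw [← hk h, add_comm] at this
      rw [← hk (g * h), ← this]
      group)
  have hχ0 : ∀ g, g ∈ χ.ker ↔ g * a * g⁻¹ = a := by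
    intro g
    rw [MonoidHom.mem_ker]
    constructor
    · intro h
      have h' : ((k g : ℕ) : ZMod p) = ((0 : ℕ) : ZMod p) := by
        rw [Nat.cast_zero]; exact Multiplicative.ofAdd.injective h
      rw [ZMod.natCast_eq_natCast_iff', Nat.zero_mod] at h'
      rw [hk g, pow_eq_pow_mod _ hz, h', pow_zero, mul_one]
    · intro h
      show Multiplicative.ofAdd (k g : ZMod p) = Multiplicative.ofAdd 0
      congr 1
      rw [← Nat.cast_zero, ZMod.natCast_eq_natCast_iff']
      refine hzpow _ _ (mul_left_cancel (a := a) ?_)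
      rw [← hk g, h, pow_zero, mul_one]
  -- `a` is not central
  have hmove : ∃ g, g ∉ χ.ker := by
    by_contra hall
    push Not at hall
    have hca : ∀ g : G, Commute g a := fun g => by
      have := (hχ0 g).1 (hall g)
      exact mul_inv_eq_iff_eq_mul.1 this
    -- some summand is nonzero, and invariant
    obtain ⟨i, hi⟩ : ∃ i, W i ≠ ⊥ := by
      by_contra h
      push Not at h
      exact bot_ne_top ((iSup_eq_bot.2 h).symm.trans htop)
    rcases hirr (W i) (fun g w hw => by
      show ρ (a * z ^ i.val) (ρ g w) = ρ g w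
      rw [← hmul, ← ((hca g).mul_right ((hzc g).pow_right _)).eq, hmul,
        show ρ (a * z ^ i.val) w = w from hw]) with h | h
    · exact hi h
    · refine haz ?_
      have := htriv (a * z ^ i.val) fun w => (h.symm ▸ Submodule.mem_top : w ∈ W i)
      rw [mul_eq_one_iff_eq_inv] at this
      rw [this]
      exact inv_mem (pow_mem (Subgroup.mem_zpowers z) _)
  obtain ⟨g₀, hg₀⟩ := hmove
  have hindex : χ.ker.index = p := by
    rw [Subgroup.index_ker]
    have h1 : Nat.card χ.range ∣ p := by
      have := Subgroup.card_subgroup_dvd_card χ.range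
      rwa [Nat.card_congr Multiplicative.toAdd, Nat.card_zmod] at this
    rcases hP.eq_one_or_self_of_dvd _ h1 with h | h
    · exfalso
      apply hg₀
      have hbot : χ.range = ⊥ := Subgroup.eq_bot_of_card_eq _ h
      rw [MonoidHom.mem_ker]
      exact (Subgroup.mem_bot.1 (hbot ▸ ⟨g₀, rfl⟩ : χ g₀ ∈ (⊥ : Subgroup _)))
    · exact h
  refine ⟨χ.ker, W, hindex, htop, hind, ?_, fun i => ⟨a * z ^ i.val, ?_, ?_, fun w hw => hw⟩, ?_⟩
  · intro h hh i w hw
    show ρ (a * z ^ i.val) (ρ h w) = ρ h w
    have hc : Commute h (a * z ^ i.val) :=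
      Commute.mul_right (show Commute h a from mul_inv_eq_iff_eq_mul.1 ((hχ0 h).1 hh))
        ((hzc h).pow_right _)
    rw [← hmul, ← hc.eq, hmul, show ρ (a * z ^ i.val) w = w from hw]
  · rw [hχ0]
    have hc : Commute (a * z ^ i.val) a := (Commute.refl a).mul_left ((hzc a).symm.pow_left _)
    rw [hc.eq, mul_inv_cancel_right]
  · intro h
    rw [mul_eq_one_iff_eq_inv] at h
    exact haz (h ▸ inv_mem (pow_mem (Subgroup.mem_zpowers z) _))
  · intro g hg
    have hkg : ((k g : ℕ) : ZMod p) ≠ 0 := fun h => hg (by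
      rw [MonoidHom.mem_ker]; exact congrArg Multiplicative.ofAdd h)
    refine ⟨Equiv.addRight (Fin.ofNat p (k g)), ?_, fun i => ?_⟩
    · refine orderOf_eq_prime ?_ ?_
      · have : ∀ n : ℕ, ∀ j : Fin p, ((Equiv.addRight (Fin.ofNat p (k g))) ^ n) j =
            j + n • Fin.ofNat p (k g) := by
          intro n
          induction n with
          | zero => intro j; simp
          | succ n ih =>
            intro j
            rw [pow_succ, Equiv.Perm.mul_apply, ih, succ_nsmul']
            simp [Equiv.coe_addRight, add_assoc]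
        ext j
        rw [this, Equiv.Perm.one_apply]
        have h0 : p • Fin.ofNat p (k g) = 0 := by
          ext
          have := card_nsmul_eq_zero (x := Fin.ofNat p (k g))
          rw [Fintype.card_fin] at this
          rw [this]
        rw [h0, add_zero]
      · intro h
        have h2 := congrArg (fun σ : Equiv.Perm (Fin p) => (σ 0).val) h
        simp only [Equiv.coe_addRight, zero_add, Equiv.Perm.one_apply, Fin.val_ofNat,
          Fin.val_zero] at h2
        refine hkg ?_
        rw [← Nat.cast_zero, ZMod.natCast_eq_natCast_iff', h2, Nat.zero_mod]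
    · have hb : g * (a * z ^ i.val) * g⁻¹ =
          a * z ^ ((Equiv.addRight (Fin.ofNat p (k g))) i).val := by
        rw [conj_pow_eq hzc (hk g)]
        congr 1
        rw [Equiv.coe_addRight, Fin.val_add, Fin.val_ofNat, Nat.add_mod_mod, ← pow_eq_pow_mod _ hz]
      apply le_antisymm
      · rintro _ ⟨w, hw, rfl⟩
        show ρ (a * z ^ _) (ρ g w) = ρ g w
        rw [← hb, ← hmul, inv_mul_cancel_right, hmul, show ρ (a * z ^ i.val) w = w from hw]
      · intro w hw
        refine ⟨ρ g⁻¹ w, ?_, by
          show ρ g (ρ g⁻¹ w) = w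
          rw [← hmul, mul_inv_cancel, hone]⟩
        show ρ (a * z ^ i.val) (ρ g⁻¹ w) = ρ g⁻¹ w
        have hb' : (a * z ^ i.val) * g⁻¹ =
            g⁻¹ * (a * z ^ ((Equiv.addRight (Fin.ofNat p (k g))) i).val) := by
          rw [← hb]; group
        rw [← hmul, hb', hmul, show ρ (a * z ^ _) w = w from hw]

end Cfsg.Agent.S3380
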