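import Cfsg.Statements.S3381
-- import your own Cfsg.Agent.* helpers here

set_option autoImplicit false
open Cfsg

namespace Cfsg.Agent.S3381

variable {q : ℕ} [Fact q.Prime] {V : Type*} [AddCommGroup V] [Module (ZMod q) V]
  {G : Type*} [Group G] (ρ : G →* (V ≃ₗ[ZMod q] V))

/-- The fixed space of an element. -/
def fix (g : G) : Submodule (ZMod q) V where
  carrier := {v | ρ g v = v}
  add_mem' := fun {a b} ha hb => by simp only [Set.mem_ofPred_eq] at ha hb ⊢; rw [map_add, ha, hb]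
  zero_mem' := by simp
  smul_mem' := fun c x hx => by simp only [Set.mem_ofPred_eq] at hx ⊢; rw [map_smul, hx]

lemma mem_fix {g : G} {v : V} : v ∈ fix ρ g ↔ ρ g v = v := Iff.rfl

lemma rho_mul (g h : G) (v : V) : ρ (g * h) v = ρ g (ρ h v) := by rw [map_mul]; rfl

lemma rho_one (v : V) : ρ 1 v = v := by rw [map_one]; rfl


/-- Let G be a finite group acting faithfully and linearly on a non-trivial finite vector space V over the field with q elements (q prime) so that every non-zero vector has a stabilizer of order 2, and suppose G has a central involution. Then V has q^(2r) elements for some r and G contains exactly q^r + 1 non-central involutions. -/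
theorem result
    (q : ℕ) [Fact q.Prime] {V : Type*} [AddCommGroup V] [Module (ZMod q) V] [Finite V] [Nontrivial V]
    {G : Type*} [Group G] [Finite G] (ρ : G →* (V ≃ₗ[ZMod q] V)) (hρ : Function.Injective ρ)
    (hstab : ∀ v : V, v ≠ 0 → Nat.card {g : G // ρ g v = v} = 2)
    (z : G) (hz : orderOf z = 2) (hzc : z ∈ Subgroup.center G) :
    ∃ r : ℕ, Nat.card V = q ^ (2 * r) ∧
      Nat.card {g : G // orderOf g = 2 ∧ g ∉ Subgroup.center G} = q ^ r + 1 := by
  classical
  haveI := Fintype.ofFinite G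
  -- at most one non-identity element fixes a given vector
  have huniq : ∀ v : V, v ≠ 0 → ∀ g h : G, g ≠ 1 → h ≠ 1 → ρ g v = v → ρ h v = v → g = h := by
    intro v hv g h hg hh hgv hhv
    have h2 : Nat.card {g : G // ρ g v = v} = 2 := hstab v hv
    rw [Nat.card_eq_two_iff' (⟨1, rho_one ρ v⟩ : {g : G // ρ g v = v})] at h2
    exact congrArg Subtype.val (h2.unique (y₁ := ⟨g, hgv⟩) (y₂ := ⟨h, hhv⟩)
      (fun e => hg (congrArg Subtype.val e)) (fun e => hh (congrArg Subtype.val e)))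
  have hex : ∀ v : V, v ≠ 0 → ∃ g : G, g ≠ 1 ∧ ρ g v = v ∧ orderOf g = 2 := by
    intro v hv
    have h2 : Nat.card {g : G // ρ g v = v} = 2 := hstab v hv
    rw [Nat.card_eq_two_iff' (⟨1, rho_one ρ v⟩ : {g : G // ρ g v = v})] at h2
    obtain ⟨⟨g, hg⟩, hg1, -⟩ := h2
    have hg1' : g ≠ 1 := fun e => hg1 (Subtype.ext e)
    refine ⟨g, hg1', hg, orderOf_eq_prime ?_ hg1'⟩
    by_contra hsq
    have := huniq v hv g (g ^ 2) hg1' hsq hg (by rw [pow_two, rho_mul, hg, hg])
    exact hg1' (by simpa [pow_two] using this)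
  have hinv : ∀ {c : G}, orderOf c = 2 → ∀ v, ρ c (ρ c v) = v := by
    intro c hc v
    have : c * c = 1 := by rw [← pow_two, ← hc]; exact pow_orderOf_eq_one c
    rw [← rho_mul, this, rho_one]
  have hne1 : ∀ {c : G}, orderOf c = 2 → c ≠ 1 := fun hc e => by simp [e] at hc
  -- a central involution acts as -1
  have hneg : ∀ c : G, orderOf c = 2 → c ∈ Subgroup.center G → ∀ v, ρ c v = -v := by
    intro c hc hcc
    have hcomm : ∀ g v, ρ g (ρ c v) = ρ c (ρ g v) := fun g v => by
      rw [← rho_mul, ← rho_mul, Subgroup.mem_center_iff.mp hcc g]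
    have hmoved : ∀ u, ρ c u ≠ u → ∀ g, ρ g u = u → g = 1 ∨ (ρ g (u - ρ c u) = u - ρ c u ∧ g ≠ c) := by
      intro u hu g hg
      by_cases h1 : g = 1
      · exact Or.inl h1
      · exact Or.inr ⟨by rw [map_sub, hcomm, hg], fun e => hu (e ▸ hg)⟩
    obtain ⟨u₀, hu₀⟩ : ∃ u, ρ c u ≠ u := by
      by_contra h
      push Not at h
      exact hne1 hc (hρ (LinearEquiv.ext fun v => by rw [h v, rho_one]))
    have hd0 : u₀ - ρ c u₀ ≠ 0 := fun h => hu₀ (sub_eq_zero.mp h).symm
    have hd : ρ c (u₀ - ρ c u₀) = -(u₀ - ρ c u₀) := by rw [map_sub, hinv hc, neg_sub]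
    -- the fixed space of c is trivial
    have hW : ∀ w, ρ c w = w → w = 0 := by
      intro w hw
      by_contra hw0
      by_cases hdd : ρ c (u₀ - ρ c u₀) = u₀ - ρ c u₀
      · -- this is the case of characteristic two
        have hu0 : u₀ ≠ 0 := fun h => hu₀ (by simp [h])
        obtain ⟨g, hg1, hg, -⟩ := hex u₀ hu0
        obtain h | ⟨h, hgc⟩ := hmoved u₀ hu₀ g hg
        · exact hg1 h
        · exact hgc (huniq _ hd0 g c hg1 (hne1 hc) h hdd)
      · set d := u₀ - ρ c u₀ with hd'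
        have hwd : ρ c (w + d) ≠ w + d := by
          rw [map_add, hw]; exact fun h => hdd (add_left_cancel h)
        obtain ⟨g, hg1, hg, -⟩ := hex (w + d) (fun h => hwd (by simp [h]))
        have h3 : ρ g (w - d) = w - d := by
          have h := hcomm g (w + d)
          rwa [hg, map_add, hw, hd, ← sub_eq_add_neg] at h
        have h4 : ρ g (w + w) = w + w := by
          have : w + w = (w + d) + (w - d) := by abel
          rw [this, map_add, hg, h3]
        have hww : w + w ≠ 0 := by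
          intro h
          rcases eq_or_ne (2 : ZMod q) 0 with h2 | h2
          · exact hdd (hd.trans (neg_eq_of_add_eq_zero_left (by rw [← two_smul (ZMod q), h2, zero_smul])))
          · rw [← two_smul (ZMod q)] at h
            exact hw0 ((smul_eq_zero.mp h).resolve_left h2)
        have hgc : g = c := huniq _ hww g c hg1 (hne1 hc) h4 (by rw [map_add, hw])
        exact hwd (hgc ▸ hg)
    intro v
    have := hW (v + ρ c v) (by rw [map_add, hinv hc, add_comm])
    exact eq_neg_of_add_eq_zero_right this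
  have hzneg := hneg z hz hzc
  have hcz : ∀ c, orderOf c = 2 → c ∈ Subgroup.center G → c = z := fun c hc hcc =>
    hρ (LinearEquiv.ext fun v => by rw [hneg c hc hcc, hzneg])
  have hzfix : ∀ v, ρ z v = v → v = 0 := by
    intro v hv
    by_contra hv0
    rw [hzneg] at hv
    -- characteristic two would make z trivial
    have h2 : (2 : ZMod q) = 0 := by
      by_contra h2
      have : v + v = 0 := by nth_rw 2 [← hv]; simp
      rw [← two_smul (ZMod q)] at this
      exact hv0 ((smul_eq_zero.mp this).resolve_left h2)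
    apply hne1 hz
    apply hρ
    ext w
    rw [hzneg, rho_one]
    exact neg_eq_of_add_eq_zero_left (by rw [← two_smul (ZMod q), h2, zero_smul])
  set I := {g : G // orderOf g = 2 ∧ g ∉ Subgroup.center G}
  have hpartner : ∀ t : I, ∃ s : I, s.1 = t.1 * z ∧ (∀ v, v ∈ fix ρ s.1 ↔ ρ t.1 v = -v) ∧
      Nat.card (fix ρ t.1) * Nat.card (fix ρ s.1) = Nat.card V := by
    rintro ⟨t, ht, htc⟩
    have hts : ∀ v, ρ (t * z) v = v ↔ ρ t v = -v := fun v => by
      rw [rho_mul, hzneg, map_neg, neg_eq_iff_eq_neg]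
    have h1 : orderOf (t * z) = 2 := by
      apply orderOf_eq_prime
      · rw [Commute.mul_pow (Subgroup.mem_center_iff.mp hzc t)]
        have a := pow_orderOf_eq_one t; rw [ht] at a
        have b := pow_orderOf_eq_one z; rw [hz] at b
        rw [a, b, one_mul]
      · intro h
        apply htc
        rw [eq_inv_of_mul_eq_one_left h]
        exact inv_mem hzc
    have h2 : t * z ∉ Subgroup.center G := fun h => htc (by simpa using mul_mem h (inv_mem hzc))
    refine ⟨⟨t * z, h1, h2⟩, rfl, hts, ?_⟩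
    rw [← Nat.card_prod]
    apply Nat.card_congr
    have htwo : (2 : ZMod q) ≠ 0 := by
      intro h2
      apply hne1 hz
      apply hρ
      ext w
      rw [hzneg, rho_one]
      exact neg_eq_of_add_eq_zero_left (by rw [← two_smul (ZMod q), h2, zero_smul])
    have htt : ∀ v, ρ t (ρ t v) = v := hinv ht
    exact {
      toFun := fun p => (p.1 : V) + p.2
      invFun := fun v => (⟨(2 : ZMod q)⁻¹ • (v + ρ t v), by
          rw [mem_fix, map_smul, map_add, htt, add_comm]⟩,
        ⟨(2 : ZMod q)⁻¹ • (v - ρ t v), by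
          rw [mem_fix, hts, map_smul, map_sub, htt, ← smul_neg, neg_sub]⟩)
      left_inv := by
        rintro ⟨⟨a, ha⟩, ⟨b, hb⟩⟩
        rw [mem_fix] at ha hb
        rw [hts] at hb
        refine Prod.ext (Subtype.ext ?_) (Subtype.ext ?_) <;> simp only [map_add, ha, hb]
        · rw [show a + b + (a + -b) = a + a by abel, ← two_smul (ZMod q), inv_smul_smul₀ htwo]
        · rw [show a + b - (a + -b) = b + b by abel, ← two_smul (ZMod q), inv_smul_smul₀ htwo]
      right_inv := fun v => by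
        simp only [← smul_add]
        rw [show v + ρ t v + (v - ρ t v) = v + v by abel, ← two_smul (ZMod q), inv_smul_smul₀ htwo] }
  have hτ : ∀ v : V, v ≠ 0 → ∃! t : I, v ∈ fix ρ t.1 := by
    intro v hv
    obtain ⟨g, hg1, hg, hg2⟩ := hex v hv
    refine ⟨⟨g, hg2, fun hc => ?_⟩, hg, fun t ht => Subtype.ext (huniq v hv _ _ (hne1 t.2.1) hg1 ht hg)⟩
    exact hv (hzfix v (hcz g hg2 hc ▸ hg))
  have hdisj : ∀ s t : I, s ≠ t → Nat.card (fix ρ s.1) * Nat.card (fix ρ t.1) ≤ Nat.card V := by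
    intro s t hst
    rw [← Nat.card_prod]
    refine Nat.card_le_card_of_injective (fun p => (p.1 : V) + p.2) ?_
    rintro ⟨a, b⟩ ⟨c, d⟩ h
    simp only at h
    have h1 : (a : V) - c = (d : V) - b := by
      rw [sub_eq_sub_iff_add_eq_add]; rw [h]; abel
    have h2 : (a : V) - c = 0 := by
      by_contra hne
      exact hst ((hτ _ hne).unique (sub_mem a.2 c.2) (h1 ▸ sub_mem d.2 b.2))
    exact Prod.ext (Subtype.ext (sub_eq_zero.mp h2)) (Subtype.ext (sub_eq_zero.mp (h1 ▸ h2)).symm)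
  obtain ⟨v₀, hv₀⟩ := exists_ne (0 : V)
  obtain ⟨t₀, ht₀, -⟩ := hτ v₀ hv₀
  have hpos : ∀ s : I, 0 < Nat.card (fix ρ s.1) := fun s => Nat.card_pos
  obtain ⟨t₁, he₁, ht₁, hc₀⟩ := hpartner t₀
  have hzz : z * z = 1 := by rw [← pow_two, ← hz]; exact pow_orderOf_eq_one z
  have hsame : ∀ s : I, s ≠ t₀ → s ≠ t₁ → Nat.card (fix ρ s.1) = Nat.card (fix ρ t₀.1) ∧
      Nat.card (fix ρ t₀.1) = Nat.card (fix ρ t₁.1) := by
    intro s hs0 hs1
    obtain ⟨s', he', -, hcs⟩ := hpartner s
    have h'0 : s' ≠ t₀ := fun e => hs1 (Subtype.ext (by rw [he₁, ← e, he', mul_assoc, hzz, mul_one]))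
    have h'1 : s' ≠ t₁ := fun e => hs0 (Subtype.ext (by
      rw [e, he₁] at he'; exact (mul_right_cancel he').symm))
    have i1 := hdisj s t₀ hs0
    have i2 := hdisj s t₁ hs1
    have i3 := hdisj s' t₀ h'0
    have i4 := hdisj s' t₁ h'1
    have a0 := hpos t₀; have a1 := hpos t₁; have b0 := hpos s; have b1 := hpos s'
    rw [← hc₀] at i1 i2 i3 i4 hcs
    rw [mul_comm (Nat.card (fix ρ t₀.1))] at i1 i3
    have j1 := Nat.le_of_mul_le_mul_right i1 a0
    have j2 := Nat.le_of_mul_le_mul_right i2 a1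
    have j3 := Nat.le_of_mul_le_mul_right i3 a0
    have j4 := Nat.le_of_mul_le_mul_right i4 a1
    constructor <;> nlinarith
  obtain ⟨b, hb, hb0⟩ : ∃ b, b ∈ fix ρ t₁.1 ∧ b ≠ 0 := by
    by_contra h
    push Not at h
    refine hne1 t₀.2.1 (hρ (LinearEquiv.ext fun w => ?_))
    have hw : w - ρ t₀.1 w = 0 := h _ ((ht₁ _).mpr (by rw [map_sub, hinv t₀.2.1, neg_sub]))
    rw [rho_one]
    exact (sub_eq_zero.mp hw).symm
  have hanti : ∀ a, a ∈ fix ρ t₀.1 → a ∈ fix ρ t₁.1 → a = 0 := by
    intro a h0 h1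
    refine hzfix a ?_
    rw [hzneg, ← (ht₁ a).mp h1, h0]
  obtain ⟨s₀, hs₀, -⟩ := hτ (v₀ + b) (fun h => hv₀ (hanti v₀ ht₀ (by
    rw [eq_neg_of_add_eq_zero_left h]; exact neg_mem hb)))
  have hs00 : s₀ ≠ t₀ := fun e => hb0 (hanti b ((Submodule.add_mem_iff_right _ ht₀).mp (e ▸ hs₀)) hb)
  have hs01 : s₀ ≠ t₁ := fun e => hv₀ (hanti v₀ ht₀ ((Submodule.add_mem_iff_left _ hb).mp (e ▸ hs₀)))
  have hc01 := (hsame s₀ hs00 hs01).2
  have hall : ∀ s : I, Nat.card (fix ρ s.1) = Nat.card (fix ρ t₀.1) := by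
    intro s
    by_cases h0 : s = t₀
    · rw [h0]
    by_cases h1 : s = t₁
    · rw [h1, hc01]
    exact (hsame s h0 h1).1
  refine ⟨Module.finrank (ZMod q) (fix ρ t₀.1), ?_⟩
  have hq : Nat.card (fix ρ t₀.1) = q ^ Module.finrank (ZMod q) (fix ρ t₀.1) := by
    rw [Module.natCard_eq_pow_finrank (K := ZMod q), Nat.card_zmod]
  rw [← hc01] at hc₀
  refine ⟨by rw [two_mul, pow_add, ← hq, hc₀], ?_⟩
  rw [← hq]
  change Nat.card I = _
  set c := Nat.card (fix ρ t₀.1) with hc
  have e : {v : V // v ≠ 0} ≃ Σ t : I, {v : fix ρ t.1 // v ≠ 0} := {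
    toFun := fun v => ⟨(hτ v.1 v.2).choose, ⟨v.1, (hτ v.1 v.2).choose_spec.1⟩, fun h => v.2 (congrArg Subtype.val h)⟩
    invFun := fun p => ⟨p.2.1.1, fun h => p.2.2 (Subtype.ext h)⟩
    left_inv := fun v => rfl
    right_inv := by
      rintro ⟨t, ⟨v, hv⟩, hv0⟩
      have hv' : v ≠ 0 := fun h => hv0 (Subtype.ext h)
      obtain rfl := (hτ v hv').unique hv (hτ v hv').choose_spec.1
      rfl }
  haveI : Finite G := inferInstance
  have h0 : ∀ (W : Type _) [AddCommGroup W] [Finite W], Nat.card {w : W // w ≠ 0} = Nat.card W - 1 := by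
    intro W _ _
    haveI := Fintype.ofFinite W
    simp only [Nat.card_eq_fintype_card, ne_eq, Fintype.card_subtype_compl, Fintype.card_subtype_eq]
  have h1 := Nat.card_congr e
  rw [h0 V, Nat.card_sigma, Finset.sum_congr rfl (fun t _ => (h0 (fix ρ t.1)).trans (by rw [hall t])),
    Finset.sum_const, Finset.card_univ, smul_eq_mul, ← Nat.card_eq_fintype_card, ← hc₀] at h1
  have hc1 : 2 ≤ c := by
    haveI : Nontrivial (fix ρ t₀.1) := ⟨⟨v₀, ht₀⟩, 0, fun h => hv₀ (congrArg Subtype.val h)⟩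
    exact Finite.one_lt_card
  obtain ⟨d, hd⟩ : ∃ d, c = d + 2 := ⟨c - 2, by omega⟩
  have h2 : c * c - 1 = (c + 1) * (c - 1) := by
    rw [hd]
    have : d + 2 - 1 = d + 1 := rfl
    rw [this]
    apply Nat.sub_eq_of_eq_add
    ring
  rw [h2] at h1
  exact (Nat.eq_of_mul_eq_mul_right (by omega) h1).symm

end Cfsg.Agent.S3381
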