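import Cfsg.Statements.S3382
import Cfsg.Agent.S3382.Basic

set_option autoImplicit false
open Cfsg

namespace Cfsg.Agent.S3382

open CfsgLib.MonomialT

theorem units_two : ∀ x : (ZMod 2)ˣ, x = 1 := by decide

/-- Let q = 2^m + 1 be a prime other than 5. Then the automorphism group of the group of linear maps of F_q² of the forms (x, y) ↦ (a x, ± a⁻¹ y) and (x, y) ↦ (± a⁻¹ y, a x) with a ≠ 0 is itself a 2-group. -/
theorem result (q m : ℕ) [Fact q.Prime] (hq : q = 2 ^ m + 1) (hq5 : q ≠ 5)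
    (T : Subgroup ((Fin 2 → ZMod q) ≃ₗ[ZMod q] (Fin 2 → ZMod q)))
    (hT : ∀ f, f ∈ T ↔ ∃ a s : ZMod q, a ≠ 0 ∧ (s = 1 ∨ s = -1) ∧
      ((∀ v, f v = ![a * v 0, s * a⁻¹ * v 1]) ∨ (∀ v, f v = ![s * a⁻¹ * v 1, a * v 0]))) :
    IsPGroup 2 (MulAut T) := by
  have hP : q.Prime := Fact.out
  have hT' : IsT T := by
    intro f
    rw [hT]
    constructor
    · rintro ⟨a, s, ha, hs, h⟩
      have hs0 : s ≠ 0 := by rcases hs with rfl | rfl <;> simp
      have hp : a * (s * a⁻¹) = s := by field_simp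
      have hok : Ok (Units.mk0 a ha) (Units.mk0 (s * a⁻¹) (mul_ne_zero hs0 (inv_ne_zero ha))) := by
        rcases hs with rfl | rfl
        · exact Or.inl (Units.ext (by simpa using hp))
        · exact Or.inr (Units.ext (by simpa using hp))
      rcases h with h | h
      · exact Or.inl ⟨_, _, hok, LinearEquiv.ext fun v => by rw [h v, D_apply]; rfl⟩
      · exact Or.inr ⟨_, _, hok, LinearEquiv.ext fun v => by rw [h v, W_apply]; rfl⟩
    · have key : ∀ a b : (ZMod q)ˣ, Ok a b →
          ((a : ZMod q) * b = 1 ∨ (a : ZMod q) * b = -1) ∧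
            (b : ZMod q) = (a : ZMod q) * b * (a : ZMod q)⁻¹ := fun a b h => by
        refine ⟨h.imp (fun h => by simpa using congrArg Units.val h)
          (fun h => by simpa using congrArg Units.val h), ?_⟩
        field_simp
      rintro (⟨a, b, h, rfl⟩ | ⟨a, b, h, rfl⟩)
      · exact ⟨a, _, a.ne_zero, (key a b h).1,
          Or.inl fun v => by rw [D_apply, ← (key a b h).2]⟩
      · exact ⟨a, _, a.ne_zero, (key a b h).1,
          Or.inr fun v => by rw [W_apply, ← (key a b h).2]⟩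
  haveI : NeZero q := ⟨hP.ne_zero⟩
  haveI : Finite ((Fin 2 → ZMod q) ≃ₗ[ZMod q] (Fin 2 → ZMod q)) :=
    Finite.of_injective (fun f => (f : (Fin 2 → ZMod q) → (Fin 2 → ZMod q))) DFunLike.coe_injective
  haveI : Finite (MulAut T) := Finite.of_injective (fun f => (f : T → T)) DFunLike.coe_injective
  intro φ
  obtain ⟨k, r, hr, hφ⟩ : ∃ k r : ℕ, Odd r ∧ orderOf φ = 2 ^ k * r := by
    obtain ⟨k, r, hr, h⟩ := Nat.exists_eq_two_pow_mul_odd (orderOf_pos φ).ne'
    exact ⟨k, r, hr, h⟩
  refine ⟨k, ?_⟩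
  have hψ : (φ ^ 2 ^ k) ^ r = 1 := by rw [← pow_mul, ← hφ, pow_orderOf_eq_one]
  generalize φ ^ 2 ^ k = ψ at hψ
  clear hφ φ
  rcases Nat.lt_or_ge m 3 with hm | hm
  · interval_cases m
    · -- two elements
      obtain rfl : q = 2 := by simpa using hq
      have h1 : ∀ x : (ZMod 2)ˣ, x = 1 := units_two
      have hx : ∀ x : T, x = 1 ∨ x.1 = W 1 1 := fun x => by
        rcases (hT' x.1).1 x.2 with ⟨a, b, _, h⟩ | ⟨a, b, _, h⟩ <;> rw [h1 a, h1 b] at h
        · exact Or.inl (Subtype.ext (h.trans D_one))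
        · exact Or.inr h
      refine MulEquiv.ext fun x => ?_
      rcases hx x with rfl | h
      · simp
      · rcases hx (ψ x) with h' | h'
        · have : x = 1 := ψ.injective (h'.trans (map_one ψ).symm)
          simp [this]
        · exact Subtype.ext (h'.trans h.symm)
    · obtain rfl : q = 3 := by simpa using hq
      exact IsT.trivial_three T hT' hr hψ
    · exact absurd (by simpa using hq) hq5
  · exact hT'.trivial_large hm hq hr hψ

end Cfsg.Agent.S3382
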