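import Cfsg.Statements.S3383
-- import your own Cfsg.Agent.* helpers here

set_option autoImplicit false
open Cfsg
open scoped Pointwise

namespace Cfsg.Agent.S3383

/-- Let H be a Frobenius complement in a finite group L and K the Frobenius kernel (as a subgroup). Then K is characteristic in L, and every normal subgroup of L either contains K or is contained in K. -/
theorem result {L : Type*} [Group L] [Finite L]
    (H : Subgroup L) (hH : Cfsg.IsFrobeniusComplement H)
    (K : Subgroup L) (hK : (K : Set L) = Cfsg.frobeniusKernel H) :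
    K.Characteristic ∧ ∀ N : Subgroup L, N.Normal → K ≤ N ∨ N ≤ K := by
  obtain ⟨hHbot, hHtop, hTI⟩ := hH
  have hmem : ∀ g x : L, x ∈ MulAut.conj g • H ↔ g⁻¹ * x * g ∈ H := by
    intro g x
    rw [Subgroup.mem_pointwise_smul_iff_inv_smul_mem, ← map_inv, MulAut.smul_def, MulAut.conj_apply, inv_inv]
  have hKmem : ∀ x, x ∈ K ↔ (x = 1 ∨ ∀ g : L, g⁻¹ * x * g ∉ H) := by
    intro x
    rw [← SetLike.mem_coe, hK]
    simp only [Cfsg.frobeniusKernel, Set.mem_ofPred_eq, hmem]
  have hKn : K.Normal := by
    refine ⟨fun x hx y => ?_⟩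
    rcases (hKmem x).mp hx with rfl | hx'
    · simpa using K.one_mem
    · refine (hKmem _).mpr (Or.inr fun g hg => hx' (y⁻¹ * g) ?_)
      have : (y⁻¹ * g)⁻¹ * x * (y⁻¹ * g) = g⁻¹ * (y * x * y⁻¹) * g := by group
      rw [this]; exact hg
  have hKH : ∀ x ∈ K, x ∈ H → x = 1 := by
    intro x hxK hxH
    rcases (hKmem x).mp hxK with h | h
    · exact h
    · exact absurd (by simpa using hxH) (h 1)
  have hcent : ∀ k ∈ K, ∀ h ∈ H, h ≠ 1 → k * h * k⁻¹ = h → k = 1 := by
    intro k hk h hh h1 he
    refine hKH k hk ?_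
    by_contra hkH
    have h2 : h ∈ H ⊓ MulAut.conj k • H := by
      refine ⟨hh, (hmem k h).mpr ?_⟩
      have : k⁻¹ * h * k = h := by
        calc k⁻¹ * h * k = k⁻¹ * (k * h * k⁻¹) * k := by rw [he]
          _ = h := by group
      rw [this]; exact hh
    rw [hTI k hkH] at h2
    exact h1 (by simpa using h2)
  -- order of the kernel
  have hcard : Nat.card K = H.index := by
    apply le_antisymm
    · apply Nat.card_le_card_of_injective (fun k : K => ((k : L) : L ⧸ H))
      intro a b hab
      rw [QuotientGroup.eq] at hab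
      have := hKH _ (K.mul_mem (K.inv_mem a.2) b.2) hab
      exact Subtype.ext (inv_mul_eq_one.mp this)
    · -- every element outside the kernel is a conjugate of a non-identity element of H
      classical
      let S := {x : L // x ∉ K}
      let f : S → (L ⧸ H) × {h : H // h ≠ 1} := fun x =>
        let hx := not_forall.mp (fun h => x.2 ((hKmem x.1).mpr (Or.inr h)))
        let r := (Classical.choose hx : L)
        let q : L ⧸ H := r
        (q, ⟨⟨q.out⁻¹ * x.1 * q.out, by
          have hr : r⁻¹ * x.1 * r ∈ H := not_not.mp (Classical.choose_spec hx)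
          obtain ⟨⟨h, hh⟩, he⟩ := QuotientGroup.mk_out_eq_mul H r
          change (Quotient.out (r : L ⧸ H))⁻¹ * x.1 * (Quotient.out (r : L ⧸ H)) ∈ H
          rw [he]
          have : (r * h)⁻¹ * x.1 * (r * h) = h⁻¹ * (r⁻¹ * x.1 * r) * h := by group
          rw [this]
          exact H.mul_mem (H.mul_mem (H.inv_mem hh) hr) hh⟩, by
          intro h
          have h' := congrArg Subtype.val h
          simp only [OneMemClass.coe_one] at h'
          have : x.1 = 1 := by
            calc x.1 = q.out * (q.out⁻¹ * x.1 * q.out) * q.out⁻¹ := by group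
              _ = 1 := by rw [h']; group
          exact x.2 (this ▸ K.one_mem)⟩)
      have hinj : Function.Injective f := by
        intro x y hxy
        have h1 : (f x).1 = (f y).1 := congrArg Prod.fst hxy
        have h2 : (f x).1.out⁻¹ * x.1 * (f x).1.out = (f y).1.out⁻¹ * y.1 * (f y).1.out :=
          congrArg (fun z => ((z.2.1 : H) : L)) hxy
        rw [h1] at h2
        exact Subtype.ext (mul_left_cancel (mul_right_cancel h2))
      have hle := Nat.card_le_card_of_injective f hinj
      have e1 : Nat.card S = Nat.card L - Nat.card K := by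
        rw [Nat.card_congr (Equiv.refl S)]
        haveI := Fintype.ofFinite L
        simp only [S, Nat.card_eq_fintype_card, Fintype.card_subtype_compl]
      have e2 : Nat.card {h : H // h ≠ 1} = Nat.card H - 1 := by
        haveI := Fintype.ofFinite H
        simp only [Nat.card_eq_fintype_card, ne_eq, Fintype.card_subtype_compl, Fintype.card_subtype_eq]
      rw [Nat.card_prod, e1, e2, ← Subgroup.index_eq_card] at hle
      have h3 := H.index_mul_card
      have h4 : 0 < Nat.card H := Nat.card_pos
      rw [Nat.mul_sub, mul_one, h3] at hle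
      have : H.index ≤ Nat.card L := Nat.le_of_dvd Nat.card_pos H.index_dvd_card
      omega
  have hcop : (Nat.card K).Coprime (Nat.card H) := by
    refine Nat.coprime_of_dvd fun p hp hpK hpH => ?_
    haveI : Fact p.Prime := ⟨hp⟩
    obtain ⟨h, hh⟩ := exists_prime_orderOf_dvd_card' (G := H) p hpH
    let P := Subgroup.zpowers (h : L)
    have hP : IsPGroup p P := IsPGroup.of_card (n := 1) (by
      rw [Nat.card_zpowers, Subgroup.orderOf_coe, hh, pow_one])
    letI act : MulAction P K :=
      { smul := fun g k => ⟨(g : L) * k * (g : L)⁻¹, hKn.conj_mem _ k.2 _⟩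
        one_smul := fun k => Subtype.ext (show ((1 : P) : L) * k * ((1 : P) : L)⁻¹ = k by simp)
        mul_smul := fun a b k => Subtype.ext (show ((a * b : P) : L) * k * ((a * b : P) : L)⁻¹
          = a * (b * k * (b : L)⁻¹) * (a : L)⁻¹ by simp [mul_assoc]) }
    have hfix := hP.card_modEq_card_fixedPoints K
    have h1 : Nat.card (MulAction.fixedPoints P K) = 1 := by
      rw [Nat.card_eq_one_iff_unique]
      refine ⟨⟨fun a b => ?_⟩, ⟨⟨1, fun g => Subtype.ext (show (g : L) * ((1 : K) : L) * (g : L)⁻¹ = ((1 : K) : L) by simp)⟩⟩⟩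
      have key : ∀ k : K, k ∈ MulAction.fixedPoints P K → (k : L) = 1 := by
        intro k hk
        have he : (h : L) * k * (h : L)⁻¹ = k := congrArg Subtype.val (hk ⟨(h : L), Subgroup.mem_zpowers _⟩)
        refine hcent k k.2 h h.2 (fun hc => ?_) ?_
        · have : h = 1 := Subtype.ext hc
          rw [this, orderOf_one] at hh
          exact hp.ne_one hh.symm
        · have : (h : L) * k = k * h := mul_inv_eq_iff_eq_mul.mp he
          rw [← this]; group
      exact Subtype.ext (Subtype.ext ((key _ a.2).trans (key _ b.2).symm))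
    rw [h1] at hfix
    have h0 : Nat.card K % p = 0 := Nat.mod_eq_zero_of_dvd hpK |>.trans rfl
    rw [Nat.ModEq, h0, Nat.one_mod_eq_one.mpr hp.ne_one] at hfix
    exact zero_ne_one hfix
  have hindex : K.index = Nat.card H := by
    have h1 := K.card_mul_index
    have h2 := H.index_mul_card
    rw [hcard] at h1
    rw [← h2] at h1
    exact Nat.eq_of_mul_eq_mul_left (Nat.pos_of_ne_zero Subgroup.index_ne_zero_of_finite) h1
  refine ⟨?_, fun N hN => ?_⟩
  · refine Subgroup.characteristic_iff_map_le.mpr fun φ => ?_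
    rintro _ ⟨x, hx, rfl⟩
    haveI := hKn
    rw [← QuotientGroup.eq_one_iff, ← orderOf_eq_one_iff]
    refine Nat.eq_one_of_dvd_coprimes hcop ?_ ?_
    · refine orderOf_dvd_of_pow_eq_one ?_
      rw [← QuotientGroup.mk_pow, ← map_pow]
      have : x ^ Nat.card K = 1 := congrArg Subtype.val (pow_card_eq_one' (x := (⟨x, hx⟩ : K)))
      rw [this, map_one]; rfl
    · rw [← hindex, Subgroup.index_eq_card]
      exact orderOf_dvd_natCard _
  · by_cases hNK : N ≤ K
    · exact Or.inr hNK
    left
    obtain ⟨x, hxN, hxK⟩ := SetLike.not_le_iff_exists.mp hNK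
    obtain ⟨g, hg⟩ := not_forall.mp (fun h => hxK ((hKmem x).mpr (Or.inr h)))
    have hgH : g⁻¹ * x * g ∈ H := not_not.mp hg
    have hgN : g⁻¹ * x * g ∈ N := by simpa using hN.conj_mem x hxN g⁻¹
    have hg1 : g⁻¹ * x * g ≠ 1 := by
      intro h
      have : x = 1 := by
        calc x = g * (g⁻¹ * x * g) * g⁻¹ := by group
          _ = 1 := by rw [h]; group
      exact hxK (this ▸ K.one_mem)
    revert hgH hgN hg1
    generalize g⁻¹ * x * g = h
    intro hh hhN h1
    have hmemK : ∀ k : K, (k : L) * h * (k : L)⁻¹ * h⁻¹ ∈ K := by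
      intro k
      have : (k : L) * h * (k : L)⁻¹ * h⁻¹ = k * (h * (k : L)⁻¹ * h⁻¹) := by group
      rw [this]; exact K.mul_mem k.2 (hKn.conj_mem _ (K.inv_mem k.2) _)
    let f : K → K := fun k => ⟨_, hmemK k⟩
    have hf : Function.Injective f := by
      intro a b hab
      have h2 : (a : L) * h * (a : L)⁻¹ = b * h * (b : L)⁻¹ := mul_right_cancel (congrArg Subtype.val hab)
      have := hcent _ (K.mul_mem (K.inv_mem b.2) a.2) h hh h1 (by
        calc (b : L)⁻¹ * a * h * ((b : L)⁻¹ * a)⁻¹ = (b : L)⁻¹ * ((a : L) * h * (a : L)⁻¹) * b := by group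
          _ = h := by rw [h2]; group)
      exact Subtype.ext (inv_mul_eq_one.mp this).symm
    intro k hk
    obtain ⟨k', hk'⟩ := (Finite.injective_iff_surjective.mp hf) ⟨k, hk⟩
    have : (k' : L) * h * (k' : L)⁻¹ * h⁻¹ = k := congrArg Subtype.val hk'
    rw [← this]
    exact N.mul_mem (hN.conj_mem _ hhN _) (N.inv_mem hhN)

end Cfsg.Agent.S3383
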