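import Cfsg.Statements.S3389
-- import your own Cfsg.Agent.* helpers here

set_option autoImplicit false
open Cfsg

namespace Cfsg.Agent.S3389

/-- Let G be a finite group acting faithfully and transitively on a finite set Ω with fixity k ≥ 1: every non-identity element fixes at most k points and some non-identity element fixes exactly k points. Then |Z(G)| divides k; if k = 2 then |G| is even; and for every prime p > k dividing |G| and every point α, either p does not divide |G_α| or G_α contains a Sylow p-subgroup of G. -/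
theorem result {G : Type*} [Group G] [Finite G] {Ω : Type*} [Fintype Ω] [MulAction G Ω] [FaithfulSMul G Ω]
    (htr : MulAction.IsPretransitive G Ω) (k : ℕ) (hk : 1 ≤ k)
    (hfix : ∀ g : G, g ≠ 1 → Nat.card (MulAction.fixedBy Ω g) ≤ k) (hex : ∃ g : G, g ≠ 1 ∧ Nat.card (MulAction.fixedBy Ω g) = k) :
    Nat.card (Subgroup.center G) ∣ k ∧ (k = 2 → 2 ∣ Nat.card G) ∧
      ∀ (p : ℕ), p.Prime → k < p → p ∣ Nat.card G → ∀ α : Ω,
        ¬ p ∣ Nat.card (MulAction.stabilizer G α) ∨ ¬ p ∣ (MulAction.stabilizer G α).index := by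
  classical
  haveI := htr
  haveI := Fintype.ofFinite G
  obtain ⟨g, hg1, hgk⟩ := hex
  haveI hne : Nonempty (MulAction.fixedBy Ω g) := by
    have : 0 < Nat.card (MulAction.fixedBy Ω g) := by omega
    exact (Nat.card_pos_iff.mp this).1
  refine ⟨?_, ?_, ?_⟩
  · -- the centre acts semiregularly on the fixed points of g
    let Z := Subgroup.center G
    letI act : MulAction Z (MulAction.fixedBy Ω g) :=
      { smul := fun z x => ⟨(z : G) • (x : Ω), by
          rw [MulAction.mem_fixedBy, smul_smul, Subgroup.mem_center_iff.mp z.2 g, ← smul_smul, x.2]⟩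
        one_smul := fun x => Subtype.ext (one_smul G (x : Ω))
        mul_smul := fun a b x => Subtype.ext (mul_smul (a : G) (b : G) (x : Ω)) }
    have hfree : ∀ x : MulAction.fixedBy Ω g, MulAction.stabilizer Z x = ⊥ := by
      intro x
      rw [Subgroup.eq_bot_iff_forall]
      intro z hz
      have hzx : (z : G) • (x : Ω) = x := congrArg Subtype.val hz
      apply Subtype.ext
      apply FaithfulSMul.eq_of_smul_eq_smul (α := Ω)
      intro y
      obtain ⟨h, rfl⟩ := MulAction.exists_smul_eq G (x : Ω) y
      rw [smul_smul, ← Subgroup.mem_center_iff.mp z.2 h, ← smul_smul, hzx]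
      simp
    have e := MulAction.selfEquivSigmaOrbitsQuotientStabilizer Z (MulAction.fixedBy Ω g)
    haveI := Fintype.ofFinite (Quotient (MulAction.orbitRel Z (MulAction.fixedBy Ω g)))
    rw [← hgk, Nat.card_congr e, Nat.card_sigma]
    refine Finset.dvd_sum fun o _ => ?_
    rw [← Subgroup.index_eq_card, hfree, Subgroup.index_bot]
  · rintro rfl
    by_contra hodd
    obtain ⟨a, b, hab, hset⟩ := Set.ncard_eq_two.mp hgk
    let H : Subgroup G := MulAction.stabilizer G a ⊓ MulAction.stabilizer G b
    have hgH : g ∈ H := ⟨(hset.symm ▸ Or.inl rfl : a ∈ MulAction.fixedBy Ω g), (hset.symm ▸ Or.inr rfl : b ∈ MulAction.fixedBy Ω g)⟩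
    have hHodd : ¬ 2 ∣ Nat.card H := fun h => hodd (h.trans H.card_subgroup_dvd_card)
    have hH3 : 3 ≤ Nat.card H := by
      have : H ≠ ⊥ := fun h => hg1 (by simpa [h] using hgH)
      have h2 := (Subgroup.one_lt_card_iff_ne_bot H).mpr this
      omega
    -- conjugates of the non-identity elements of H fix two points each
    have hfixH : ∀ h ∈ H, h ≠ 1 → MulAction.fixedBy Ω h = {a, b} := by
      intro h hh h1
      refine (Set.eq_of_subset_of_ncard_le ?_ ?_ (Set.toFinite _)).symm
      · rintro x (rfl | rfl)
        exacts [hh.1, hh.2]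
      · rw [Set.ncard_pair hab]; exact hfix h h1
    let f : (G ⧸ H) × {h : H // h ≠ 1} → {x : G // x ≠ 1 ∧ Nat.card (MulAction.fixedBy Ω x) = 2} := fun p =>
      ⟨p.1.out * p.2.1 * p.1.out⁻¹, by
        refine ⟨?_, ?_⟩
        · rw [ne_eq, conj_eq_one_iff]
          exact fun h => p.2.2 (Subtype.ext h)
        · have e : MulAction.fixedBy Ω (p.1.out * (p.2.1 : G) * p.1.out⁻¹) =
              (fun x => p.1.out • x) '' MulAction.fixedBy Ω (p.2.1 : G) := by
            ext y
            simp only [MulAction.mem_fixedBy, Set.mem_image]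
            constructor
            · intro hy
              exact ⟨p.1.out⁻¹ • y, by rw [smul_smul, eq_inv_smul_iff, smul_smul, ← mul_assoc, hy], smul_inv_smul _ _⟩
            · rintro ⟨x, hx, rfl⟩
              rw [smul_smul, mul_assoc, inv_mul_cancel, mul_one, ← smul_smul, hx]
          rw [e, Nat.card_image_of_injective (MulAction.injective _), hfixH _ p.2.1.2 (fun h => p.2.2 (Subtype.ext h))]
          exact Set.ncard_pair hab⟩
    have hinj : Function.Injective f := by
      rintro ⟨q, h⟩ ⟨r, l⟩ he
      have he' : q.out * (h.1 : G) * q.out⁻¹ = r.out * (l.1 : G) * r.out⁻¹ := congrArg Subtype.val he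
      have key : ∀ (h l : H), h ≠ 1 → l ≠ 1 → ∀ c : G, c * (l : G) * c⁻¹ = h → c ∈ H := by
        intro h l h1 l1 c hc
        have hh1 : (h : G) ≠ 1 := fun e => h1 (Subtype.ext e)
        have hl1 : (l : G) ≠ 1 := fun e => l1 (Subtype.ext e)
        have hmap : ∀ x ∈ ({a, b} : Set Ω), c • x ∈ ({a, b} : Set Ω) := by
          intro x hx
          rw [← hfixH h h.2 hh1]
          rw [← hfixH l l.2 hl1] at hx
          rw [MulAction.mem_fixedBy] at hx ⊢
          rw [← hc, smul_smul, mul_assoc, inv_mul_cancel, mul_one, ← smul_smul, hx]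
        -- c preserves {a, b}; since its order is odd it fixes both points
        have hsq : ∀ x ∈ ({a, b} : Set Ω), (c * c) • x = x := by
          intro x hx
          rw [mul_smul]
          rcases hmap a (Or.inl rfl) with ha | ha <;> rcases hmap b (Or.inr rfl) with hb | hb
          · exact absurd (MulAction.injective c (ha.trans hb.symm)) hab
          · rw [Set.mem_singleton_iff] at hb; rcases hx with rfl | rfl <;> simp [ha, hb]
          · rw [Set.mem_singleton_iff] at ha; rcases hx with rfl | rfl <;> simp [ha, hb]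
          · rw [Set.mem_singleton_iff] at ha hb
            exact absurd (MulAction.injective c (ha.trans hb.symm)) hab
        have hc2 : c * c ∈ H := ⟨hsq a (Or.inl rfl), hsq b (Or.inr rfl)⟩
        have hco : Nat.Coprime 2 (orderOf c) := Nat.prime_two.coprime_iff_not_dvd.mpr
          fun h2 => hodd (h2.trans (orderOf_dvd_natCard c))
        obtain ⟨j, hj⟩ := exists_pow_eq_self_of_coprime hco
        rw [← hj, pow_two]
        exact H.pow_mem hc2 j
      have hm : q.out⁻¹ * r.out ∈ H := by
        refine key h.1 l.1 h.2 l.2 _ ?_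
        calc q.out⁻¹ * r.out * (l.1 : G) * (q.out⁻¹ * r.out)⁻¹
            = q.out⁻¹ * (r.out * (l.1 : G) * r.out⁻¹) * q.out := by group
          _ = h.1 := by rw [← he']; group
      have hq : q = r := by
        rw [← q.out_eq', ← r.out_eq', QuotientGroup.eq]; exact hm
      subst hq
      exact Prod.ext rfl (Subtype.ext (Subtype.ext (mul_left_cancel (mul_right_cancel he'))))
    have hle := Nat.card_le_card_of_injective f hinj
    have e2 : Nat.card {h : H // h ≠ 1} = Nat.card H - 1 := by
      simp only [Nat.card_eq_fintype_card, ne_eq, Fintype.card_subtype_compl, Fintype.card_subtype_eq]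
    rw [Nat.card_prod, e2, ← Subgroup.index_eq_card, Nat.mul_sub, mul_one, H.index_mul_card] at hle
    -- Burnside's count
    have hsum : ∑ x : G, Fintype.card (MulAction.fixedBy Ω x) = Fintype.card G := by
      haveI : Subsingleton (Quotient (MulAction.orbitRel G Ω)) :=
        ⟨fun x y => Quotient.inductionOn₂ x y fun u v => Quotient.sound (MulAction.exists_smul_eq G v u)⟩
      haveI : Unique (Quotient (MulAction.orbitRel G Ω)) := uniqueOfSubsingleton ⟦a⟧
      haveI : Fintype (Quotient (MulAction.orbitRel G Ω)) := Fintype.ofFinite _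
      rw [MulAction.sum_card_fixedBy_eq_card_orbits_mul_card_group G Ω, Fintype.card_unique, one_mul]
    let A := Finset.univ.filter (fun x : G => x ≠ 1 ∧ Nat.card (MulAction.fixedBy Ω x) = 2)
    have hA : A.card * 2 ≤ Fintype.card G := by
      rw [← hsum]
      calc A.card * 2 = ∑ x ∈ A, 2 := by rw [Finset.sum_const, smul_eq_mul]
        _ = ∑ x ∈ A, Fintype.card (MulAction.fixedBy Ω x) := Finset.sum_congr rfl fun x hx => by
            rw [← Nat.card_eq_fintype_card]; exact ((Finset.mem_filter.mp hx).2.2).symm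
        _ ≤ _ := Finset.sum_le_sum_of_subset (Finset.subset_univ _)
    rw [Nat.card_eq_fintype_card (α := { x : G // _ }), Fintype.card_subtype] at hle
    have h1 := H.index_mul_card
    rw [Nat.card_eq_fintype_card (α := G)] at h1 hle
    have : H.index * 3 ≤ Fintype.card G := h1 ▸ Nat.mul_le_mul_left _ hH3
    have hpos : 0 < Fintype.card G := Fintype.card_pos
    have hA' : (Fintype.card G - H.index) * 2 ≤ Fintype.card G := le_trans (Nat.mul_le_mul_right _ hle) hA
    omega
  · intro p hp hkp hpG α
    by_contra hcon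
    push Not at hcon
    obtain ⟨hd, hi⟩ := hcon
    haveI : Fact p.Prime := ⟨hp⟩
    -- a Sylow subgroup of the stabilizer
    obtain ⟨Pa⟩ := (inferInstance : Nonempty (Sylow p (MulAction.stabilizer G α)))
    let Q : Subgroup G := (Pa : Subgroup (MulAction.stabilizer G α)).map (MulAction.stabilizer G α).subtype
    have hQle : Q ≤ MulAction.stabilizer G α := Subgroup.map_subtype_le _
    have hQp : IsPGroup p Q := Pa.2.map _
    have hQne : Q ≠ ⊥ := by
      intro h
      have := (Subgroup.map_eq_bot_iff_of_injective _ Subtype.val_injective).mp h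
      exact Pa.ne_bot_of_dvd_card hd this
    obtain ⟨P, hQP⟩ := hQp.exists_le_sylow
    have hlt : Q < P := by
      refine lt_of_le_of_ne hQP fun he => ?_
      have h1 : (MulAction.stabilizer G α).index ∣ (P : Subgroup G).index :=
        Subgroup.index_dvd_of_le (he ▸ hQle)
      exact P.not_dvd_index (hi.trans h1)
    have hmax : (P : Subgroup G) ⊓ MulAction.stabilizer G α = Q := by
      have h1 : IsPGroup p ↥((P : Subgroup G) ⊓ MulAction.stabilizer G α) := P.2.to_le inf_le_left
      have h2 : (((P : Subgroup G) ⊓ MulAction.stabilizer G α).subgroupOf (MulAction.stabilizer G α)) = Pa := by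
        refine Pa.3 (h1.comap_subtype (K := MulAction.stabilizer G α)) ?_
        intro x hx
        exact ⟨hQP ⟨x, hx, rfl⟩, x.2⟩
      calc (P : Subgroup G) ⊓ MulAction.stabilizer G α
          = (((P : Subgroup G) ⊓ MulAction.stabilizer G α).subgroupOf (MulAction.stabilizer G α)).map
              (MulAction.stabilizer G α).subtype := (Subgroup.map_subgroupOf_eq_of_le inf_le_right).symm
        _ = Q := by rw [h2]
    haveI hnil : Group.IsNilpotent P := P.2.isNilpotent
    have hQ' : Q.subgroupOf (P : Subgroup G) < ⊤ := by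
      refine lt_top_iff_ne_top.mpr fun h => ?_
      exact absurd (Subgroup.subgroupOf_eq_top.mp h) (not_le_of_gt hlt)
    have hnc := Group.normalizerCondition_of_isNilpotent (G := P) _ hQ'
    obtain ⟨x, hxN, hxQ⟩ := SetLike.exists_of_lt hnc
    -- x permutes the fixed points of Q, of which there are fewer than p
    obtain ⟨⟨q₀, hq₀⟩, hq₀'⟩ := (Subgroup.ne_bot_iff_exists_ne_one).mp hQne
    have hq₀1 : q₀ ≠ 1 := fun h => hq₀' (Subtype.ext h)
    let F : Set Ω := {ω | ∀ q ∈ Q, q • ω = ω}
    have hFk : Nat.card F ≤ k :=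
      le_trans (Nat.card_mono (Set.toFinite _) fun ω hω => hω q₀ hq₀) (hfix q₀ hq₀1)
    have hxF : ∀ ω ∈ F, (x : G) • ω ∈ F := by
      intro ω hω q hq
      have hq' : (x : G)⁻¹ * q * x ∈ Q := by
        have := (Subgroup.mem_normalizer_iff''.mp hxN ⟨q, hQP hq⟩).mp hq
        simpa [Subgroup.mem_subgroupOf] using this
      have := hω _ hq'
      rw [mul_assoc, mul_smul, inv_smul_eq_iff, mul_smul] at this
      exact this
    let C := Subgroup.zpowers x
    have hCF : ∀ c : C, ∀ ω ∈ F, ((c : P) : G) • ω ∈ F := by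
      intro c ω hω
      obtain ⟨n, hn⟩ := (mem_powers_iff_mem_zpowers).mpr c.2
      have hn' : ((c : P) : G) = (x : G) ^ n := by rw [← hn]; simp
      rw [hn']
      clear hn hn'
      induction n generalizing ω with
      | zero => simpa using hω
      | succ n ih => rw [pow_succ, mul_smul]; exact ih _ (hxF ω hω)
    letI act : MulAction C F :=
      { smul := fun c ω => ⟨((c : P) : G) • (ω : Ω), hCF c ω ω.2⟩
        one_smul := fun ω => Subtype.ext (one_smul G (ω : Ω))
        mul_smul := fun a b ω => Subtype.ext (mul_smul ((a : P) : G) ((b : P) : G) (ω : Ω)) }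
    have hCp : IsPGroup p C := P.2.to_subgroup C
    have hαF : α ∈ F := fun q hq => hQle hq
    obtain ⟨n, hn⟩ := hCp.card_orbit (⟨α, hαF⟩ : F)
    have hn0 : n = 0 := by
      by_contra hn0
      have h1 : p ≤ p ^ n := Nat.le_self_pow hn0 p
      have h2 : Nat.card (MulAction.orbit C (⟨α, hαF⟩ : F)) ≤ Nat.card F :=
        Nat.card_le_card_of_injective _ Subtype.val_injective
      omega
    rw [hn0, pow_zero, Nat.card_eq_one_iff_unique] at hn
    have hxα : (x : G) • α = α := by
      have h1 : (⟨x, Subgroup.mem_zpowers x⟩ : C) • (⟨α, hαF⟩ : F) = ⟨α, hαF⟩ :=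
        congrArg Subtype.val (hn.1.elim
          (⟨_, MulAction.mem_orbit (⟨α, hαF⟩ : F) (⟨x, Subgroup.mem_zpowers x⟩ : C)⟩ : MulAction.orbit C (⟨α, hαF⟩ : F))
          ⟨_, MulAction.mem_orbit_self _⟩)
      exact congrArg Subtype.val h1
    apply hxQ
    rw [Subgroup.mem_subgroupOf, ← hmax]
    exact ⟨x.2, hxα⟩

end Cfsg.Agent.S3389
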