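import Cfsg.Statements.S3391
import Cfsg.Agent.Suzuki.Tori
import Cfsg.Agent.Suzuki.LieModel
-- import your own Cfsg.Agent.* helpers here

set_option autoImplicit false
open Cfsg

namespace Cfsg.Agent.S3391

open CfsgLib.Suzuki

variable {F : Type*} [Field F] [Fintype F] {m : ℕ} {Ω : Type*} [Fintype Ω] [MulAction (Cfsg.Sz F m) Ω]

lemma fixedBy_card_le (hfix : ∀ g : Cfsg.Sz F m, g ≠ 1 → Nat.card (MulAction.fixedBy Ω g) ≤ 2)
    {g : Cfsg.Sz F m} (hg : g ≠ 1) {a b c : Ω} (ha : g • a = a) (hb : g • b = b) (hc : g • c = c)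
    (hab : a ≠ b) (hac : a ≠ c) (hbc : b ≠ c) : False := by
  classical
  have h3 : ({a, b, c} : Set Ω).ncard = 3 := by
    rw [Set.ncard_insert_of_notMem (by simp [hab, hac]), Set.ncard_pair hbc]
  have hsub : ({a, b, c} : Set Ω) ⊆ MulAction.fixedBy Ω g := by
    rintro x (rfl | rfl | rfl) <;> assumption
  have := Set.ncard_le_ncard hsub (Set.toFinite _)
  have h2 := hfix g hg
  rw [Nat.card_coe_set_eq] at h2
  omega

/-- The square of an element preserving the fixed points of `g` fixes each of them. -/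
lemma sq_fix (hfix : ∀ g : Cfsg.Sz F m, g ≠ 1 → Nat.card (MulAction.fixedBy Ω g) ≤ 2)
    {g s : Cfsg.Sz F m} (hg : g ≠ 1) (hs : ∀ b : Ω, g • b = b → g • s • b = s • b) {a : Ω}
    (ha : g • a = a) : (s * s) • a = a := by
  rw [mul_smul]
  by_cases h1 : s • a = a
  · rw [h1, h1]
  by_contra h2
  exact fixedBy_card_le hfix hg ha (hs a ha) (hs _ (hs a ha)) (Ne.symm h1) (Ne.symm h2)
    (fun h => h1 (MulAction.injective s h).symm)

lemma odd_fix (hfix : ∀ g : Cfsg.Sz F m, g ≠ 1 → Nat.card (MulAction.fixedBy Ω g) ≤ 2)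
    {g s : Cfsg.Sz F m} (hg : g ≠ 1) (hs : ∀ b : Ω, g • b = b → g • s • b = s • b)
    (hodd : Odd (orderOf s)) {a : Ω} (ha : g • a = a) : s • a = a := by
  have h2 : Nat.Coprime 2 (orderOf s) := Nat.coprime_two_left.mpr hodd
  obtain ⟨j, hj⟩ := exists_pow_eq_self_of_coprime h2
  have := sq_fix hfix hg hs ha
  rw [← hj, pow_two]
  exact Subgroup.pow_mem (MulAction.stabilizer (Cfsg.Sz F m) a) this j

lemma fix_of_commute {g s : Cfsg.Sz F m} (h : g * s = s * g) {b : Ω} (hb : g • b = b) :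
    g • s • b = s • b := by
  rw [smul_smul, h, ← smul_smul, hb]

lemma card_sub_one_odd (hS : SzField F m) : Odd (Fintype.card F - 1) := by
  rw [hS.card_eq]
  have h : Even (2 ^ (2 * m + 1)) := Nat.even_pow.2 ⟨even_two, by omega⟩
  have : 0 < 2 ^ (2 * m + 1) := by positivity
  obtain ⟨r, hr⟩ := h
  exact ⟨r - 1, by omega⟩

lemma torus_orderOf_odd (hS : SzField F m) (μ : Fˣ) : Odd (orderOf (torSz hS μ)) := by
  classical
  have h1 : orderOf (torSz hS μ) ∣ Fintype.card F - 1 := by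
    refine (orderOf_map_dvd (torSz hS) μ).trans ?_
    rw [← Fintype.card_units]
    exact orderOf_dvd_card
  exact (card_sub_one_odd hS).of_dvd_nat h1

/-- An element of prime order fixing a point of the ovoid is conjugate to a central involution or a torus element. -/
lemma prime_cases (hS : SzField F m) {r : ℕ} (hr : r.Prime) (hnd : ¬ r ∣ Fintype.card F ^ 2 + 1)
    {x : Cfsg.Sz F m} (hx : orderOf x = r) :
    ∃ k : Cfsg.Sz F m, (r = 2 ∧ ∃ b : F, k * x * k⁻¹ = uniEl hS 0 b) ∨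
      (r ≠ 2 ∧ ∃ μ : Fˣ, μ ≠ 1 ∧ k * x * k⁻¹ = torSz hS μ) := by
  haveI := Fact.mk hr
  have hx1 : x ≠ 1 := fun e => hr.ne_one (by rw [← hx, e, orderOf_one])
  obtain ⟨k, hk⟩ := fixesPoint_cases hS hx1 (fixesPoint_of_prime_order hr hnd hx)
  have hord : orderOf (k * x * k⁻¹) = r := by rw [← MulAut.conj_apply, MulEquiv.orderOf_eq, hx]
  refine ⟨k, ?_⟩
  rcases hk with ⟨a, b, e⟩ | ⟨μ, hμ, e⟩
  · left
    have h4 : orderOf (⟨uniEl hS a b, uniEl_mem hS a b⟩ : uniSub hS) ∣ 4 := by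
      have h := Monoid.order_dvd_exponent (⟨uniEl hS a b, uniEl_mem hS a b⟩ : uniSub hS)
      rw [exponent_uniSub hS] at h
      exact h
    rw [← Subgroup.orderOf_coe] at h4
    change orderOf (uniEl hS a b) ∣ 4 at h4
    rw [← e, hord] at h4
    have hr2 : r = 2 := (Nat.prime_dvd_prime_iff_eq hr Nat.prime_two).mp
      (hr.dvd_of_dvd_pow (show r ∣ 2 ^ 2 from h4))
    refine ⟨hr2, b, ?_⟩
    have hsq : uniEl hS a b * uniEl hS a b = 1 := by
      rw [← pow_two, ← hr2, ← hord, e]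
      exact pow_orderOf_eq_one _
    rw [uniEl_sq, ← uniEl_zero hS, uniEl_eq_iff] at hsq
    have ha : a = 0 := by
      rcases mul_eq_zero.mp hsq.2 with h | h
      · exact θ_eq_zero.mp h
      · exact h
    rw [e, ha]
  · right
    refine ⟨?_, μ, hμ, e⟩
    rintro rfl
    have := torus_orderOf_odd hS μ
    rw [← e, hord] at this
    exact absurd this (by decide)

lemma borel_le (hS : SzField F m)
    (hfix : ∀ g : Cfsg.Sz F m, g ≠ 1 → Nat.card (MulAction.fixedBy Ω g) ≤ 2)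
    {b₀ : F} (hne : uniEl hS 0 b₀ ≠ 1) {α : Ω} (hα : uniEl hS 0 b₀ • α = α) :
    (∀ a b : F, uniEl hS a b • α = α) ∧ ∀ μ : Fˣ, torSz hS μ • α = α := by
  classical
  have hchar := hS.charP
  have hcomm : ∀ a b c : F, uniEl hS 0 c * uniEl hS a b = uniEl hS a b * uniEl hS 0 c := by
    intro a b c
    rw [uniEl_mul, uniEl_mul]
    refine (uniEl_eq_iff hS).mpr ⟨by ring, ?_⟩
    have h0 : θ m (0 : F) = 0 := θ_eq_zero.mpr rfl
    rw [h0]
    ring
  -- squares of unipotent elements fix α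
  have hZ : ∀ c : F, uniEl hS 0 c • α = α := by
    intro c
    obtain ⟨a, ha⟩ := self_mul_θ_surjective hS c
    have h := sq_fix hfix hne (fun β hβ => fix_of_commute (s := uniEl hS a 0) (hcomm a 0 b₀) hβ) hα
    rw [uniEl_sq, mul_comm] at h
    simp only at ha
    rwa [ha] at h
  -- the torus fixes α
  have hT : ∀ μ : Fˣ, torSz hS μ • α = α := by
    intro μ
    by_contra hmove
    have hconj : ∀ c : F, uniEl hS 0 c • torSz hS μ • α = torSz hS μ • α := by
      intro c
      obtain ⟨d, hd⟩ : ∃ d, (μ : F) * θ m (μ : F) * d = c :=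
        ⟨((μ : F) * θ m (μ : F))⁻¹ * c, by
          rw [← mul_assoc, mul_inv_cancel₀ (mul_ne_zero μ.ne_zero (fun h => μ.ne_zero (θ_eq_zero.mp h))), one_mul]⟩
      have e := torSz_conj_uniEl hS μ (0 : F) d
      rw [mul_zero, hd] at e
      rw [← e, smul_smul, mul_assoc, mul_assoc, inv_mul_cancel, mul_one, mul_smul, hZ d]
    have h2 : uniEl hS 0 b₀ • torSz hS μ • torSz hS μ • α = torSz hS μ • torSz hS μ • α := by
      obtain ⟨d, hd⟩ : ∃ d, (μ : F) * θ m (μ : F) * d = b₀ :=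
        ⟨((μ : F) * θ m (μ : F))⁻¹ * b₀, by
          rw [← mul_assoc, mul_inv_cancel₀ (mul_ne_zero μ.ne_zero (fun h => μ.ne_zero (θ_eq_zero.mp h))), one_mul]⟩
      have e := torSz_conj_uniEl hS μ (0 : F) d
      rw [mul_zero, hd] at e
      rw [← e, smul_smul, mul_assoc, mul_assoc, inv_mul_cancel, mul_one, mul_smul, hconj d]
    by_cases h3 : torSz hS μ • torSz hS μ • α = α
    · apply hmove
      have hodd := torus_orderOf_odd hS μ
      obtain ⟨j, hj⟩ := exists_pow_eq_self_of_coprime (Nat.coprime_two_left.mpr hodd)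
      rw [← hj, pow_two]
      exact Subgroup.pow_mem (MulAction.stabilizer (Cfsg.Sz F m) α) (by rw [MulAction.mem_stabilizer_iff, mul_smul]; exact h3) j
    · exact fixedBy_card_le hfix hne hα (hconj b₀) h2 (Ne.symm hmove) (Ne.symm h3)
        (fun h => hmove (MulAction.injective _ h).symm)
  -- a unipotent element outside the centre fixes α
  have hex : ∃ a b : F, a ≠ 0 ∧ uniEl hS a b • α = α := by
    by_contra hno
    push Not at hno
    obtain ⟨a, ha, hθ⟩ := exists_θ_ne hS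
    have hθa : θ m a ≠ 0 := fun h => ha (θ_eq_zero.mp h)
    have hfixu : ∀ a b, uniEl hS 0 b₀ • uniEl hS a b • α = uniEl hS a b • α := fun a b =>
      fix_of_commute (hcomm a b b₀) hα
    have heq : uniEl hS a 0 • α = uniEl hS (θ m a) 0 • α := by
      by_contra hne'
      exact fixedBy_card_le hfix hne hα (hfixu a 0) (hfixu (θ m a) 0) (Ne.symm (hno a 0 ha))
        (Ne.symm (hno (θ m a) 0 hθa)) hne'
    have h : α = (uniEl hS a 0)⁻¹ • uniEl hS (θ m a) 0 • α := by rw [← heq, inv_smul_smul]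
    rw [smul_smul, uniEl_inv, uniEl_mul] at h
    refine hno _ _ (fun h0 => hθ ?_) h.symm
    exact (CharTwo.add_eq_zero.mp h0).symm
  refine ⟨fun a b => ?_, hT⟩
  obtain ⟨a₀, c₀, ha₀, h₀⟩ := hex
  by_cases ha : a = 0
  · rw [ha]; exact hZ b
  let μ : Fˣ := Units.mk0 (a * a₀⁻¹) (mul_ne_zero ha (inv_ne_zero ha₀))
  have e := torSz_conj_uniEl hS μ a₀ c₀
  have hμa : (μ : F) * a₀ = a := inv_mul_cancel_right₀ ha₀ a
  rw [hμa] at e
  have h1 : uniEl hS a ((μ : F) * θ m (μ : F) * c₀) • α = α := by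
    rw [← e, mul_smul, mul_smul]
    have hTi : (torSz hS μ)⁻¹ • α = α := by rw [inv_smul_eq_iff, hT]
    rw [hTi, h₀, hT]
  have h2 : uniEl hS a b = uniEl hS 0 (b + (μ : F) * θ m (μ : F) * c₀) * uniEl hS a ((μ : F) * θ m (μ : F) * c₀) := by
    rw [uniEl_mul]
    refine (uniEl_eq_iff hS).mpr ⟨by ring, ?_⟩
    have h0 : θ m (0 : F) = 0 := θ_eq_zero.mpr rfl
    rw [h0, zero_mul, add_zero, add_assoc, CharTwo.add_self_eq_zero, add_zero]
  rw [h2, mul_smul, h1, hZ]

lemma not_anis_fix (hS : SzField F m)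
    (hfix : ∀ g : Cfsg.Sz F m, g ≠ 1 → Nat.card (MulAction.fixedBy Ω g) ≤ 2)
    (hodd : ∀ α : Ω, Odd (Nat.card (MulAction.stabilizer (Cfsg.Sz F m) α)))
    {x : Cfsg.Sz F m} (hx : IsAnisElt x) (α : Ω) : x • α ≠ α := by
  intro hxα
  classical
  set r := orderOf x with hr
  have hrp : r.Prime := hx.prime
  have hle : 2 ^ (m + 1) ≤ Fintype.card F := by
    rw [hS.card_eq]; exact Nat.pow_le_pow_right (by norm_num) (by omega)
  have hprod : Fintype.card F ^ 2 + 1 =
      (Fintype.card F + 2 ^ (m + 1) + 1) * (Fintype.card F - 2 ^ (m + 1) + 1) := by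
    obtain ⟨d, hd⟩ := Nat.exists_eq_add_of_le hle
    have h2 : 2 ^ (m + 1) * 2 ^ (m + 1) = 2 * Fintype.card F := by
      rw [hS.card_eq, ← pow_add, ← pow_succ']; congr 1; omega
    rw [hd] at h2 ⊢
    rw [Nat.add_sub_cancel_left]
    nlinarith
  have hdvd : r ∣ Fintype.card F ^ 2 + 1 := hx.dvd
  rw [hprod] at hdvd
  obtain ⟨z, hz, hzk, hN, hrz⟩ : ∃ z : Cfsg.Sz F m, IsAnisElt z ∧ Odd (Nat.card (cT z)) ∧
      Nat.card (Subgroup.normalizer (cT z : Set (Cfsg.Sz F m))) = 4 * Nat.card (cT z) ∧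
      r ∣ Nat.card (cT z) := by
    rcases hrp.dvd_mul.mp hdvd with h | h
    · obtain ⟨z, hz, hc, hn⟩ := exists_torus hS (Or.inl rfl)
      refine ⟨z, hz, ?_, by rw [hn, hc], by rw [hc]; exact h⟩
      rw [hc]
      have h1 : Even (Fintype.card F + 2 ^ (m + 1)) := by
        rw [hS.card_eq]; exact (Nat.even_pow.2 ⟨even_two, by omega⟩).add (Nat.even_pow.2 ⟨even_two, by omega⟩)
      exact h1.add_one
    · obtain ⟨z, hz, hc, hn⟩ := exists_torus hS (Or.inr rfl)
      refine ⟨z, hz, ?_, by rw [hn, hc], by rw [hc]; exact h⟩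
      rw [hc]
      have h1 : Even (Fintype.card F - 2 ^ (m + 1)) := by
        rw [hS.card_eq]
        exact Nat.even_sub (by rw [← hS.card_eq]; exact hle) |>.mpr
          (iff_of_true (Nat.even_pow.2 ⟨even_two, by omega⟩) (Nat.even_pow.2 ⟨even_two, by omega⟩))
      exact h1.add_one
  obtain ⟨k, hk⟩ := hx.exists_conj hS hz hrp (orderOf_dvd_card_cT x) hrz
  set y := k * x * k⁻¹ with hy
  have hy1 : y ≠ 1 := by
    intro e; rw [hy, mul_inv_eq_one, mul_eq_left] at e; exact hx.ne_one e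
  have hyz : y ∈ cT z := hk ▸ mem_cT.2 rfl
  have hyβ : y • (k • α) = k • α := by
    rw [smul_smul, hy, inv_mul_cancel_right, mul_smul, hxα]
  set β := k • α
  -- the torus fixes β
  have hcomm : ∀ u ∈ cT z, u • β = β := by
    intro u hu
    exact odd_fix hfix hy1 (fun b hb => fix_of_commute (hz.comm hS hyz hu) hb)
      (hzk.of_dvd_nat (Subgroup.orderOf_dvd_natCard _ hu)) hyβ
  -- the normaliser preserves the fixed points of y
  set N := Subgroup.normalizer (cT z : Set (Cfsg.Sz F m))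
  have horb : ∀ n ∈ N, y • n • β = n • β := by
    intro n hn
    have h1 : n⁻¹ * y * n ∈ cT z := (Subgroup.mem_normalizer_iff''.mp hn y).mp hyz
    have := hcomm _ h1
    rwa [mul_assoc, mul_smul, inv_smul_eq_iff, mul_smul] at this
  have hi : (MulAction.stabilizer N β).index ≤ 2 := by
    rw [MulAction.index_stabilizer]
    refine le_trans (Set.ncard_le_ncard ?_ (Set.toFinite _)) ((Nat.card_coe_set_eq _).symm.trans_le (hfix y hy1))
    rintro _ ⟨n, rfl⟩
    exact horb n n.2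
  have hso : Odd (Nat.card (MulAction.stabilizer N β)) := by
    refine (hodd β).of_dvd_nat ?_
    exact Subgroup.card_dvd_of_injective
      ((N.subtype.comp (MulAction.stabilizer N β).subtype).codRestrict (MulAction.stabilizer (Cfsg.Sz F m) β)
        (fun n => n.2))
      (fun a b e => Subtype.ext (Subtype.ext
        (congrArg (fun z : MulAction.stabilizer (Cfsg.Sz F m) β => (z : Cfsg.Sz F m)) e)))
  have hm := (MulAction.stabilizer N β).card_mul_index
  rw [hN] at hm
  have hpos : (MulAction.stabilizer N β).index ≠ 0 := Subgroup.index_ne_zero_of_finite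
  obtain ⟨c, hc⟩ := hso
  rw [hc] at hm
  interval_cases hh : (MulAction.stabilizer N β).index <;> omega

theorem core (hS : SzField F m) (htr : MulAction.IsPretransitive (Cfsg.Sz F m) Ω)
    (hfix : ∀ g : Cfsg.Sz F m, g ≠ 1 → Nat.card (MulAction.fixedBy Ω g) ≤ 2)
    (hex : ∃ g : Cfsg.Sz F m, g ≠ 1 ∧ Nat.card (MulAction.fixedBy Ω g) = 2) :
    (Fintype.card Ω = Fintype.card F ^ 2 + 1 ∧ MulAction.IsMultiplyPretransitive (Cfsg.Sz F m) Ω 2) ∨
    (Fintype.card Ω = Fintype.card F ^ 2 * (Fintype.card F ^ 2 + 1) ∧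
      ∀ α : Ω, Nat.card (MulAction.stabilizer (Cfsg.Sz F m) α) = Fintype.card F - 1) := by
  classical
  haveI := htr
  obtain ⟨g₀, hg₀, hg₀2⟩ := hex
  obtain ⟨a₀, a₁, ha01, hset⟩ := Set.ncard_eq_two.mp ((Nat.card_coe_set_eq _).symm.trans hg₀2)
  have hga₀ : g₀ • a₀ = a₀ := (hset ▸ Or.inl rfl : a₀ ∈ MulAction.fixedBy Ω g₀)
  haveI : Nonempty Ω := ⟨a₀⟩
  have hq : 8 ≤ Fintype.card F := hS.eight_le
  have hidx : ∀ α : Ω, (MulAction.stabilizer (Cfsg.Sz F m) α).index = Fintype.card Ω := fun α => by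
    rw [MulAction.index_stabilizer_of_transitive, Nat.card_eq_fintype_card]
  by_cases heven : ∃ α : Ω, ¬ Odd (Nat.card (MulAction.stabilizer (Cfsg.Sz F m) α))
  · left
    obtain ⟨α₀, hα₀⟩ := heven
    rw [Nat.not_odd_iff_even, even_iff_two_dvd] at hα₀
    haveI : Fact (Nat.Prime 2) := ⟨Nat.prime_two⟩
    obtain ⟨⟨t, htα⟩, ht⟩ := exists_prime_orderOf_dvd_card' 2 hα₀
    rw [Subgroup.orderOf_mk] at ht
    obtain ⟨k, ⟨-, b₀, hb₀⟩ | ⟨h2, -⟩⟩ := prime_cases hS Nat.prime_two (fun h => by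
      have h1 : Odd (Fintype.card F ^ 2 + 1) :=
        (Nat.even_pow.2 ⟨even_iff_two_dvd.2 hS.even_card, two_ne_zero⟩).add_one
      exact Nat.not_even_iff_odd.2 h1 (even_iff_two_dvd.2 h)) ht
    swap
    · exact absurd rfl h2
    have hne : uniEl hS 0 b₀ ≠ 1 := by
      rw [← hb₀]; intro e
      rw [mul_inv_eq_one, mul_eq_left] at e
      simp [e] at ht
    have hα : uniEl hS 0 b₀ • (k • α₀) = k • α₀ := by
      rw [← hb₀, smul_smul, inv_mul_cancel_right, mul_smul, show t • α₀ = α₀ from htα]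
    set α := k • α₀
    obtain ⟨hU, hT⟩ := borel_le hS hfix hne hα
    have hw : weylEl hS • α ≠ α := by
      intro hw
      have hall : ∀ g : Cfsg.Sz F m, g • α = α := by
        intro g
        rcases bruhat hS g with ⟨a, b, μ, rfl⟩ | ⟨x, y, a, b, μ, rfl⟩
        · rw [mul_smul, hT, hU]
        · rw [mul_smul, mul_smul, mul_smul, hT, hU, hw, hU]
      apply ha01
      obtain ⟨g, hg⟩ := MulAction.exists_smul_eq (Cfsg.Sz F m) α a₀
      obtain ⟨g', hg'⟩ := MulAction.exists_smul_eq (Cfsg.Sz F m) α a₁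
      rw [← hg, ← hg', hall, hall]
    have hstab : MulAction.stabilizer (Cfsg.Sz F m) α =
        MulAction.stabilizer (Cfsg.Sz F m) (Cfsg.suzukiPointInfinity F) := by
      ext g
      simp only [MulAction.mem_stabilizer_iff]
      constructor
      · intro hg
        rcases bruhat hS g with ⟨a, b, μ, rfl⟩ | ⟨x, y, a, b, μ, rfl⟩
        · rw [mul_smul, torSz_smul_infinity, uniEl_smul_infinity]
        · exfalso
          rw [mul_smul, mul_smul, mul_smul, hT, hU] at hg
          exact hw (MulAction.injective (uniEl hS x y) (hg.trans (hU x y).symm))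
      · intro hg
        obtain ⟨a, b, μ, rfl⟩ := pointStab_eq hS hg
        rw [mul_smul, hT, hU]
    have hcard : Fintype.card Ω = Fintype.card F ^ 2 + 1 := by
      have h := (MulAction.stabilizer (Cfsg.Sz F m) α).card_mul_index
      rw [hidx α, hstab, card_pointStab hS, card_sz hS] at h
      refine Nat.eq_of_mul_eq_mul_left (show 0 < Fintype.card F ^ 2 * (Fintype.card F - 1) from
        Nat.mul_pos (pow_pos (by omega) 2) (by omega)) ?_
      rw [h]; ring
    refine ⟨hcard, ?_⟩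
    rw [MulAction.is_two_pretransitive_iff]
    -- every point other than α is in the orbit of w α under the stabilizer
    have horb : ∀ β : Ω, β ≠ α → ∃ g : Cfsg.Sz F m, g • α = α ∧ g • weylEl hS • α = β := by
      intro β hβ
      obtain ⟨g, rfl⟩ := MulAction.exists_smul_eq (Cfsg.Sz F m) α β
      rcases bruhat hS g with ⟨a, b, μ, rfl⟩ | ⟨x, y, a, b, μ, rfl⟩
      · exact absurd (by rw [mul_smul, hT, hU]) hβ
      · exact ⟨uniEl hS x y, hU x y, by rw [mul_smul, mul_smul, mul_smul, hT, hU]⟩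
    intro a b c d hab hcd
    obtain ⟨g, hg⟩ := MulAction.exists_smul_eq (Cfsg.Sz F m) α a
    obtain ⟨g', hg'⟩ := MulAction.exists_smul_eq (Cfsg.Sz F m) α c
    obtain ⟨h, hh, hh'⟩ := horb (g⁻¹ • b) (fun e => hab (by rw [← hg, ← e, smul_inv_smul]))
    obtain ⟨h', hk1, hk2⟩ := horb (g'⁻¹ • d) (fun e => hcd (by rw [← hg', ← e, smul_inv_smul]))
    refine ⟨g' * h' * h⁻¹ * g⁻¹, ?_, ?_⟩
    · have e1 : h⁻¹ • α = α := by rw [inv_smul_eq_iff, hh]
      rw [mul_smul, mul_smul, mul_smul, ← hg, inv_smul_smul, e1, hk1, hg']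
    · have e1 : h⁻¹ • g⁻¹ • b = weylEl hS • α := by rw [inv_smul_eq_iff, hh']
      rw [mul_smul, mul_smul, mul_smul, e1, hk2, smul_inv_smul]
  · right
    push Not at heven
    have hcop : ∀ α : Ω, ∀ r : ℕ, r.Prime → r ∣ Nat.card (MulAction.stabilizer (Cfsg.Sz F m) α) →
        ¬ r ∣ Fintype.card F ^ 2 + 1 := by
      intro α r hr hd hd'
      haveI := Fact.mk hr
      obtain ⟨⟨x, hxα⟩, hx⟩ := exists_prime_orderOf_dvd_card' r hd
      rw [Subgroup.orderOf_mk] at hx
      exact not_anis_fix hS hfix heven (x := x) (by rw [IsAnisElt, hx]; exact ⟨hr, hd'⟩) α hxα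
    have hsame : ∀ α : Ω, Nat.card (MulAction.stabilizer (Cfsg.Sz F m) α) =
        Nat.card (MulAction.stabilizer (Cfsg.Sz F m) a₀) := by
      intro α
      have h1 := (MulAction.stabilizer (Cfsg.Sz F m) α).card_mul_index
      have h2 := (MulAction.stabilizer (Cfsg.Sz F m) a₀).card_mul_index
      rw [hidx] at h1 h2
      exact Nat.eq_of_mul_eq_mul_right Fintype.card_pos (h1.trans h2.symm)
    have hle : Nat.card (MulAction.stabilizer (Cfsg.Sz F m) a₀) ∣ Fintype.card F - 1 := by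
      have h1 : Nat.card (MulAction.stabilizer (Cfsg.Sz F m) a₀) ∣
          Fintype.card F ^ 2 * (Fintype.card F ^ 2 + 1) * (Fintype.card F - 1) :=
        card_sz hS ▸ Subgroup.card_subgroup_dvd_card _
      have hco1 : (Nat.card (MulAction.stabilizer (Cfsg.Sz F m) a₀)).Coprime (Fintype.card F ^ 2) := by
        rw [hS.card_eq, ← pow_mul]
        exact Nat.Coprime.pow_right _ (Nat.coprime_two_right.mpr (heven a₀))
      have hco2 : (Nat.card (MulAction.stabilizer (Cfsg.Sz F m) a₀)).Coprime (Fintype.card F ^ 2 + 1) :=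
        Nat.coprime_of_dvd fun r hr hd => hcop a₀ r hr hd
      exact (hco1.mul_right hco2).dvd_of_dvd_mul_left h1
    -- the stabilizer contains a torus
    have hne : Nat.card (MulAction.stabilizer (Cfsg.Sz F m) a₀) ≠ 1 := by
      intro h1
      rw [Subgroup.card_eq_one] at h1
      exact hg₀ ((Subgroup.eq_bot_iff_forall _).mp h1 g₀ hga₀)
    obtain ⟨r, hr, hrd⟩ := Nat.exists_prime_and_dvd hne
    haveI := Fact.mk hr
    obtain ⟨⟨x, hxα⟩, hx⟩ := exists_prime_orderOf_dvd_card' r hrd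
    rw [Subgroup.orderOf_mk] at hx
    obtain ⟨k, ⟨h2, -⟩ | ⟨-, μ, hμ, hk⟩⟩ := prime_cases hS hr (hcop a₀ r hr hrd) hx
    · subst h2
      exact absurd hrd (Nat.not_even_iff_odd.2 (heven a₀) ∘ even_iff_two_dvd.2)
    have hμ1 : torSz hS μ ≠ 1 := fun e => hμ (torSz_injective hS (e.trans (map_one _).symm))
    have hβ : torSz hS μ • (k • a₀) = k • a₀ := by
      rw [← hk, smul_smul, inv_mul_cancel_right, mul_smul, show x • a₀ = a₀ from hxα]
    have hge : Fintype.card F - 1 ≤ Nat.card (MulAction.stabilizer (Cfsg.Sz F m) (k • a₀)) := by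
      rw [← Fintype.card_units, ← Nat.card_eq_fintype_card]
      refine Nat.card_le_card_of_injective (fun ν : Fˣ => (⟨torSz hS ν, ?_⟩ : MulAction.stabilizer (Cfsg.Sz F m) (k • a₀))) ?_
      · exact odd_fix hfix hμ1 (fun b hb => fix_of_commute (by rw [← map_mul, mul_comm, map_mul]) hb)
          (torus_orderOf_odd hS ν) hβ
      · intro a b e
        exact torSz_injective hS (congrArg Subtype.val e)
    have heq : Nat.card (MulAction.stabilizer (Cfsg.Sz F m) a₀) = Fintype.card F - 1 := by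
      refine le_antisymm (Nat.le_of_dvd (by omega) hle) ?_
      rw [← hsame (k • a₀)]
      exact hge
    refine ⟨?_, fun α => (hsame α).trans heq⟩
    have h := (MulAction.stabilizer (Cfsg.Sz F m) a₀).card_mul_index
    rw [hidx, heq, card_sz hS] at h
    refine Nat.eq_of_mul_eq_mul_left (show 0 < Fintype.card F - 1 by omega) ?_
    rw [h]; ring


/-- Let q = 2^{2m+1} ≥ 8 and let G be isomorphic to the Suzuki group Sz(q). If G acts faithfully and transitively on a finite set Ω with fixity 2 (every non-identity element fixes at most two points, and some fixes exactly two), then either |Ω| = q² + 1 and the action is 2-transitive, or |Ω| = q²(q² + 1) and the point stabilizers have order q − 1. -/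
theorem result {G : Type*} [Group G] [Finite G] (F : Type) [Field F] [Fintype F] (m : ℕ) (hm : 1 ≤ m) (hF : Fintype.card F = 2 ^ (2 * m + 1))
    (e : G ≃* ↥(Cfsg.Lie.Sz F (2 ^ (m + 1)))) {Ω : Type*} [Fintype Ω] [MulAction G Ω] [FaithfulSMul G Ω] (htr : MulAction.IsPretransitive G Ω)
    (hfix : ∀ g : G, g ≠ 1 → Nat.card (MulAction.fixedBy Ω g) ≤ 2) (hex : ∃ g : G, g ≠ 1 ∧ Nat.card (MulAction.fixedBy Ω g) = 2) :
    (Fintype.card Ω = Fintype.card F ^ 2 + 1 ∧ MulAction.IsMultiplyPretransitive G Ω 2) ∨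
    (Fintype.card Ω = Fintype.card F ^ 2 * (Fintype.card F ^ 2 + 1) ∧ ∀ α : Ω, Nat.card (MulAction.stabilizer G α) = Fintype.card F - 1) := by
  classical
  have hS : CfsgLib.Suzuki.SzField F m := ⟨hm, hF⟩
  let φ : Cfsg.Sz F m ≃* G := (CfsgLib.Suzuki.lieSzEquiv hS).trans e.symm
  letI act : MulAction (Cfsg.Sz F m) Ω := MulAction.compHom Ω φ.toMonoidHom
  have hsmul : ∀ (x : Cfsg.Sz F m) (ω : Ω), x • ω = φ x • ω := fun _ _ => rfl
  have htr' : MulAction.IsPretransitive (Cfsg.Sz F m) Ω := by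
    refine ⟨fun a b => ?_⟩
    obtain ⟨g, hg⟩ := htr.exists_smul_eq a b
    exact ⟨φ.symm g, by rw [hsmul, φ.apply_symm_apply]; exact hg⟩
  have hfix' : ∀ x : Cfsg.Sz F m, x ≠ 1 → Nat.card (MulAction.fixedBy Ω x) ≤ 2 := fun x hx =>
    hfix (φ x) (fun h => hx (φ.injective (h.trans (map_one φ).symm)))
  have hex' : ∃ x : Cfsg.Sz F m, x ≠ 1 ∧ Nat.card (MulAction.fixedBy Ω x) = 2 := by
    obtain ⟨g, hg, h2⟩ := hex
    refine ⟨φ.symm g, fun h => hg (φ.symm.injective (h.trans (map_one φ.symm).symm)), ?_⟩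
    have : MulAction.fixedBy Ω (φ.symm g) = MulAction.fixedBy Ω g := by
      ext ω
      simp only [MulAction.mem_fixedBy, hsmul, φ.apply_symm_apply]
    rw [this, h2]
  rcases core hS htr' hfix' hex' with ⟨h1, h2⟩ | ⟨h1, h2⟩
  · refine Or.inl ⟨h1, ?_⟩
    rw [MulAction.is_two_pretransitive_iff] at h2 ⊢
    intro a b c d hab hcd
    obtain ⟨x, hx1, hx2⟩ := h2 hab hcd
    exact ⟨φ x, hx1, hx2⟩
  · refine Or.inr ⟨h1, fun α => ?_⟩
    rw [← h2 α]
    exact (Nat.card_congr
      { toFun := fun x => ⟨φ x.1, x.2⟩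
        invFun := fun g => ⟨φ.symm g.1, by
          rw [MulAction.mem_stabilizer_iff, hsmul, φ.apply_symm_apply]; exact g.2⟩
        left_inv := fun x => Subtype.ext (φ.symm_apply_apply _)
        right_inv := fun g => Subtype.ext (φ.apply_symm_apply _) }).symm

end Cfsg.Agent.S3391
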