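import Cfsg.Statements.S3396
import Cfsg.Agent.EPPOSeven.Main

set_option autoImplicit false
open Cfsg

namespace Cfsg.Agent.S3396

/-- Let G be a finite group whose order has at least three distinct prime divisors, and suppose every nonidentity element of G has order a power of 2 or a prime other than 5. Then G is isomorphic to PSL₂(7) (here F is any field with 7 elements). In particular a finite group whose set of element orders is {1, 2, 3, 4, 7} is PSL₂(7). -/
theorem result {G : Type*} [Group G] [Finite G]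
    {F : Type*} [Field F] [Fintype F] (hF : Fintype.card F = 7)
    (h3 : 3 ≤ (Nat.card G).primeFactors.card)
    (hord : ∀ g : G, g ≠ 1 → (∃ k : ℕ, orderOf g = 2 ^ k) ∨ ((orderOf g).Prime ∧ orderOf g ≠ 5)) :
    Nonempty (G ≃* Matrix.ProjectiveSpecialLinearGroup (Fin 2) F) := by
  have hg : CfsgLib.EPPOSeven.Good G := hord
  refine CfsgLib.EPPOSeven.nonempty_equiv_of_not_solvable hF _ G rfl hg fun hs => ?_
  obtain ⟨p, q, r, hp, hq, hr, hpq, hpr, hqr⟩ : ∃ p q r, p ∈ (Nat.card G).primeFactors ∧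
      q ∈ (Nat.card G).primeFactors ∧ r ∈ (Nat.card G).primeFactors ∧ p ≠ q ∧ p ≠ r ∧ q ≠ r := by
    obtain ⟨s, hsub, hcard⟩ := Finset.exists_subset_card_eq h3
    obtain ⟨p, q, r, hpq, hpr, hqr, rfl⟩ := Finset.card_eq_three.1 hcard
    exact ⟨p, q, r, hsub (by simp), hsub (by simp), hsub (by simp), hpq, hpr, hqr⟩
  rw [Nat.mem_primeFactors] at hp hq hr
  have key : ∀ a b : ℕ, a.Prime → b.Prime → a ≠ b → ∀ g : G, orderOf g ≠ a * b := by
    intro a b ha hb hab g hgo
    by_cases ha2 : a = 2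
    · have := hg.orderOf_eq_of_dvd hb (fun e => hab (ha2.trans e.symm)) (hgo ▸ dvd_mul_left b a)
      rw [hgo] at this
      exact ha.one_lt.ne' (Nat.eq_of_mul_eq_mul_right hb.pos (this.trans (one_mul b).symm))
    · have := hg.orderOf_eq_of_dvd ha ha2 (hgo ▸ dvd_mul_right a b)
      rw [hgo] at this
      exact hb.one_lt.ne' (Nat.eq_of_mul_eq_mul_left ha.pos (this.trans (mul_one a).symm))
  rcases CfsgLib.PrimeGraph.exists_edge_of_isSolvable hs hp.1 hq.1 hr.1 hpq hpr hqr hp.2.1 hq.2.1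
      hr.2.1 with ⟨g, h⟩ | ⟨g, h⟩ | ⟨g, h⟩
  · exact key p q hp.1 hq.1 hpq g h
  · exact key p r hp.1 hr.1 hpr g h
  · exact key q r hq.1 hr.1 hqr g h

end Cfsg.Agent.S3396
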