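import Cfsg.Statements.S3412
-- import your own Cfsg.Agent.* helpers here
import Cfsg.Agent.LinThree.CommutingGraph
import Cfsg.Agent.LinThree.Psl

set_option autoImplicit false
open Cfsg

namespace Cfsg.Agent.S3412

/-- Let H be a finite group whose commuting graph (vertices the non-identity elements, two joined when they commute) is isomorphic to that of PSL_3(3): there is a bijection between the non-identity elements of H and of PSL_3(3) under which two elements commute exactly when their images do. Then H ≅ PSL_3(3). -/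
theorem result {H : Type*} [Group H] [Finite H]
    (f : {h : H // h ≠ 1} ≃ {g : Matrix.ProjectiveSpecialLinearGroup (Fin 3) (ZMod 3) // g ≠ 1})
    (hf : ∀ x y : {h : H // h ≠ 1}, (x : H) * y = y * x ↔ ((f x) : Matrix.ProjectiveSpecialLinearGroup (Fin 3) (ZMod 3)) * (f y) = (f y) * (f x)) :
    Nonempty (H ≃* Matrix.ProjectiveSpecialLinearGroup (Fin 3) (ZMod 3)) := by
  let e := CfsgLib.LinThree.pslEquiv
  let e' : {g : Matrix.ProjectiveSpecialLinearGroup (Fin 3) (ZMod 3) // g ≠ 1} ≃
      {g : CfsgLib.LinThree.SL33 // g ≠ 1} :=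
    e.symm.toEquiv.subtypeEquiv fun g => (not_congr e.symm.map_eq_one_iff).symm
  obtain ⟨φ⟩ := CfsgLib.LinThree.iso_of_commutingGraph (f.trans e') (fun x y => by
    rw [hf x y]
    show _ ↔ e.symm (f x : Matrix.ProjectiveSpecialLinearGroup (Fin 3) (ZMod 3)) *
      e.symm (f y : Matrix.ProjectiveSpecialLinearGroup (Fin 3) (ZMod 3)) = _
    rw [← map_mul]
    show _ ↔ _ = e.symm (f y : Matrix.ProjectiveSpecialLinearGroup (Fin 3) (ZMod 3)) *
      e.symm (f x : Matrix.ProjectiveSpecialLinearGroup (Fin 3) (ZMod 3))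
    rw [← map_mul, e.symm.injective.eq_iff])
  exact ⟨φ.trans e⟩

end Cfsg.Agent.S3412
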