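import Cfsg.Statements.S3420
-- import your own Cfsg.Agent.* helpers here
import Cfsg.Agent.Spectrum.AltOrders
import Cfsg.Agent.Spectrum.TwoPrimes

set_option autoImplicit false
open Cfsg

namespace Cfsg.Agent.S3420

/-- Let n ≥ 11 and let G be a finite group with the same order and the same set of element orders as the alternating group of degree n. Then G has normal subgroups N < H such that H/N is a non-abelian simple group whose order is divisible by every prime p with n/2 < p ≤ n. -/
theorem result {G : Type*} [Group G] [Finite G] (n : ℕ) (hn : 11 ≤ n)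
    (hcard : Nat.card G = Nat.card ↥(alternatingGroup (Fin n)))
    (hspec : Set.range (orderOf : G → ℕ) = Set.range (orderOf : ↥(alternatingGroup (Fin n)) → ℕ)) :
    ∃ (N H : Subgroup G) (_ : N.Normal), H.Normal ∧ N < H ∧
      IsSimpleGroup (↥H ⧸ N.subgroupOf H) ∧ ¬ IsMulCommutative (↥H ⧸ N.subgroupOf H) ∧
      ∀ p : ℕ, p.Prime → n < 2 * p → p ≤ n → p ∣ Nat.card (↥H ⧸ N.subgroupOf H) := by
  obtain ⟨p₀, q₀, hp₀, hq₀, hlt, hn2, hle⟩ := CfsgLib.Spectrum.exists_two_primes hn
  have hne2 : ∀ p : ℕ, n < 2 * p → p ≠ 2 := fun p h => by omega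
  obtain ⟨N, H, hN, hH, hNH, h1, h2, h3⟩ := CfsgLib.Spectrum.exists_simple_section
    (π := {p : ℕ | p.Prime ∧ n < 2 * p ∧ p ≤ n})
    (p₀ := p₀) (q₀ := q₀) ⟨hp₀, hn2, by omega⟩ ⟨hq₀, by omega, hle⟩ hlt.ne
    (fun p hp => hp.1)
    (fun p hp => CfsgLib.Spectrum.dvd_card_of_le (by omega) hcard hp.1 (hne2 p hp.2.1) hp.2.2)
    (fun p hp => CfsgLib.Spectrum.not_pow_dvd_card (by omega) hcard
      (CfsgLib.Spectrum.not_sq_dvd_factorial hp.1 hp.2.1))
    (fun p hp q hq hne => CfsgLib.Spectrum.noCommute_of_spec hspec hp.1 hq.1 hne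
      (by have := hp.2; have := hq.2; omega)
      (by have := hp.2; have := Nat.mul_le_mul_left p hq.1.two_le; omega))
    (fun p hp q hq hne => CfsgLib.Spectrum.noActing_of_not_dvd (v := 1)
      (CfsgLib.Spectrum.not_pow_dvd_card (by omega) hcard
        (CfsgLib.Spectrum.not_sq_dvd_factorial hp.1 hp.2.1))
      (fun k hk => by
        rw [Finset.mem_Icc] at hk
        rw [show k = 1 by omega, pow_one]
        intro hmod
        have hd : q ∣ p - 1 := (Nat.modEq_iff_dvd' hp.1.one_lt.le).mp
          (by rw [Nat.ModEq, hmod, Nat.one_mod_eq_one.mpr hq.1.ne_one])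
        obtain ⟨j, hj⟩ := hd
        have hj2 : j < 2 := by
          by_contra hcon
          have := Nat.mul_le_mul_left q (not_lt.mp hcon)
          have := hp.2; have := hq.2
          omega
        interval_cases j
        · have := hp.1.two_le; omega
        · have hpq : p = q + 1 := by have := hp.1.two_le; omega
          rcases hp.1.eq_two_or_odd' with h | h
          · exact hne2 p hp.2.1 h
          · rcases hq.1.eq_two_or_odd' with h' | h'
            · exact hne2 q hq.2.1 h'
            · rw [hpq] at h; exact (Nat.not_even_iff_odd.mpr h) (h'.add_odd odd_one)))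
  exact ⟨N, H, hN, hH, hNH, h1, h2, fun p hp hp1 hp2 => h3 p ⟨hp, hp1, hp2⟩⟩

end Cfsg.Agent.S3420
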