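import Cfsg.Statements.S3419
-- import your own Cfsg.Agent.* helpers here
import Cfsg.Agent.Spectrum.AltOrders
import Cfsg.Agent.S3420

set_option autoImplicit false
open Cfsg

namespace Cfsg.Agent.S3419

/-- Let n ≥ 5 and let G be a finite group with the same order and the same set of element orders as the alternating group of degree n. Then G is not solvable. -/
theorem result {G : Type*} [Group G] [Finite G] (n : ℕ) (hn : 5 ≤ n)
    (hcard : Nat.card G = Nat.card ↥(alternatingGroup (Fin n)))
    (hspec : Set.range (orderOf : G → ℕ) = Set.range (orderOf : ↥(alternatingGroup (Fin n)) → ℕ)) :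
    ¬ Group.IsSolvable G := by
  rcases le_or_gt 11 n with h | h
  · obtain ⟨N, H, hN, hH, hNH, hsimple, hna, -⟩ := Cfsg.Agent.S3420.result n h hcard hspec
    intro hs
    haveI := hs
    haveI := hsimple
    haveI : Group.IsSolvable (↥H ⧸ N.subgroupOf H) := inferInstance
    exact hna ⟨⟨fun a b => IsSimpleGroup.comm_iff_isSolvable.mpr inferInstance a b⟩⟩
  · have key : ∀ p q v w : ℕ, p.Prime → q.Prime → p ≠ q → p ≠ 2 → q ≠ 2 → p ≤ n → q ≤ n →
        n < p + q → n < p * q → ¬ p ^ (v + 1) ∣ n.factorial → ¬ q ^ (w + 1) ∣ n.factorial →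
        (∀ k ∈ Finset.Icc 1 v, p ^ k % q ≠ 1) → (∀ k ∈ Finset.Icc 1 w, q ^ k % p ≠ 1) →
        ¬ Group.IsSolvable G := by
      intro p q v w hp hq hne hp2 hq2 hpn hqn h1 h2 hv hw hk1 hk2
      exact CfsgLib.Spectrum.not_isSolvable_of_pair hp hq hne
        (CfsgLib.Spectrum.dvd_card_of_le (by omega) hcard hp hp2 hpn)
        (CfsgLib.Spectrum.dvd_card_of_le (by omega) hcard hq hq2 hqn)
        (CfsgLib.Spectrum.noCommute_of_spec hspec hp hq hne h1 h2)
        (CfsgLib.Spectrum.noActing_of_not_dvd
          (CfsgLib.Spectrum.not_pow_dvd_card (by omega) hcard hv) hk1)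
        (CfsgLib.Spectrum.noActing_of_not_dvd
          (CfsgLib.Spectrum.not_pow_dvd_card (by omega) hcard hw) hk2)
    interval_cases n
    · exact key 3 5 1 1 (by norm_num) (by norm_num) (by norm_num) (by norm_num) (by norm_num)
        (by norm_num) (by norm_num) (by norm_num) (by norm_num) (by decide) (by decide) (by decide)
        (by decide)
    · exact key 3 5 2 1 (by norm_num) (by norm_num) (by norm_num) (by norm_num) (by norm_num)
        (by norm_num) (by norm_num) (by norm_num) (by norm_num) (by decide) (by decide) (by decide)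
        (by decide)
    all_goals
      exact key 5 7 2 1 (by norm_num) (by norm_num) (by norm_num) (by norm_num) (by norm_num)
        (by norm_num) (by norm_num) (by norm_num) (by norm_num) (by decide) (by decide) (by decide)
        (by decide)

end Cfsg.Agent.S3419
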