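import Cfsg.Statements.S3431
-- import your own Cfsg.Agent.* helpers here
import Cfsg.Agent.OrderCounts.Identify
import Cfsg.Agent.OrderCounts.Tables
import Cfsg.Agent.OrderCounts.AltSmall

set_option autoImplicit false
open Cfsg

namespace Cfsg.Agent.S3431

/-- Let n be 4, 5 or 6 and let G be a finite group whose set of sizes of same-order classes (the set of numbers #{g : o(g) = m} over the element orders m of G) equals that of the alternating group of degree n. Then G is isomorphic to that alternating group. -/
theorem result {G : Type*} [Group G] [Finite G] (n : ℕ) (hn : n = 4 ∨ n = 5 ∨ n = 6)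
    (h : ((fun m : ℕ => Nat.card {g : G // orderOf g = m}) '' Set.range (orderOf : G → ℕ)) = ((fun m : ℕ => Nat.card {g : ↥(alternatingGroup (Fin n)) // orderOf g = m}) '' Set.range (orderOf : ↥(alternatingGroup (Fin n)) → ℕ))) :
    Nonempty (G ≃* ↥(alternatingGroup (Fin n))) := by
  rcases hn with rfl | rfl | rfl
  · have V := CfsgLib.OrderCounts.valid_count CfsgLib.OrderCounts.dataFour
      CfsgLib.OrderCounts.dataFour_tablesOK (by decide) (h.trans CfsgLib.OrderCounts.altFour_counts)
    obtain ⟨hcard, ht⟩ := CfsgLib.OrderCounts.run_sound V CfsgLib.OrderCounts.dataFour_tablesOK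
      CfsgLib.OrderCounts.dataFour_run
    exact CfsgLib.OrderCounts.equiv_altFour hcard (ht (2, 3) (by decide)) (ht (3, 8) (by decide))
  · have V := CfsgLib.OrderCounts.valid_count CfsgLib.OrderCounts.dataFive
      CfsgLib.OrderCounts.dataFive_tablesOK (by decide) (h.trans CfsgLib.OrderCounts.altFive_counts)
    obtain ⟨hcard, ht⟩ := CfsgLib.OrderCounts.run_sound V CfsgLib.OrderCounts.dataFive_tablesOK
      CfsgLib.OrderCounts.dataFive_run
    exact CfsgLib.OrderCounts.equiv_altFive hcard (ht (5, 24) (by decide))
  · have V := CfsgLib.OrderCounts.valid_count CfsgLib.OrderCounts.dataSix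
      CfsgLib.OrderCounts.dataSix_tablesOK (by decide) (h.trans CfsgLib.OrderCounts.altSix_counts)
    obtain ⟨hcard, ht⟩ := CfsgLib.OrderCounts.run_sound V CfsgLib.OrderCounts.dataSix_tablesOK
      CfsgLib.OrderCounts.dataSix_run
    exact CfsgLib.OrderCounts.equiv_altSix hcard (ht (2, 45) (by decide)) (ht (3, 80) (by decide))
      (ht (4, 90) (by decide)) (ht (5, 144) (by decide))

end Cfsg.Agent.S3431
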