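import Cfsg.Statements.S3437
-- import your own Cfsg.Agent.* helpers here
import Cfsg.Agent.Spectrum.FrobeniusData
import Cfsg.Agent.LinThree.Orders
import Cfsg.Agent.LinThree.Psl

set_option autoImplicit false
open Cfsg

namespace Cfsg.Agent.S3437

/-- There is a finite solvable group with exactly the same set of element orders as the simple group PSL(3,3). -/
theorem result {F : Type*} [Field F] [Fintype F] (hF : Fintype.card F = 3) :
    ∃ (H : Type) (_ : Group H) (_ : Fintype H), Group.IsSolvable H ∧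
      Set.range (orderOf : H → ℕ) = Set.range (orderOf : Matrix.ProjectiveSpecialLinearGroup (Fin 3) F → ℕ) := by
  haveI : Fact (Nat.Prime 13) := ⟨by norm_num⟩
  obtain ⟨H, i₁, i₂, hsol, hrange⟩ := CfsgLib.Spectrum.exists_frobenius_spectrum 13 48 (by norm_num)
    CfsgLib.Spectrum.octaMats CfsgLib.Spectrum.octaTable CfsgLib.Spectrum.octaInv
    [1, 2, 3, 4, 6, 8, 13] (by simp) CfsgLib.Spectrum.octa_ok (by norm_num)
  refine ⟨H, i₁, i₂, hsol, hrange.trans ?_⟩
  rw [← CfsgLib.LinThree.range_orderOf]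
  let e : CfsgLib.LinThree.SL33 ≃* Matrix.ProjectiveSpecialLinearGroup (Fin 3) F :=
    CfsgLib.LinThree.pslEquiv.trans (CfsgLib.Linear.pslFieldCongr (by rw [ZMod.card, hF]))
  apply Set.eq_of_subset_of_subset
  · rintro _ ⟨g, rfl⟩; exact ⟨e g, e.orderOf_eq g⟩
  · rintro _ ⟨g, rfl⟩; exact ⟨e.symm g, e.symm.orderOf_eq g⟩

end Cfsg.Agent.S3437
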