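import Cfsg.Statements.S3438
-- import your own Cfsg.Agent.* helpers here
import Cfsg.Agent.Spectrum.FrobeniusData
import Cfsg.Agent.UThree.Orders

set_option autoImplicit false
open Cfsg

namespace Cfsg.Agent.S3438

/-- There is a finite solvable group with exactly the same set of element orders as the simple group PSU(3,3) (realised over the field with 9 elements). -/
theorem result {F : Type*} [Field F] [Fintype F] (hF : Fintype.card F = 9) :
    ∃ (H : Type) (_ : Group H) (_ : Fintype H), Group.IsSolvable H ∧ Set.range (orderOf : H → ℕ) = Set.range (orderOf : Cfsg.PSU 3 F 3 → ℕ) := by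
  haveI : Fact (Nat.Prime 7) := ⟨by norm_num⟩
  obtain ⟨H, i₁, i₂, hsol, hrange⟩ := CfsgLib.Spectrum.exists_frobenius_spectrum 7 24 (by norm_num)
    CfsgLib.Spectrum.metaEightMats CfsgLib.Spectrum.metaEightTable CfsgLib.Spectrum.metaEightInv
    [1, 2, 3, 4, 6, 7, 8, 12] (by simp) CfsgLib.Spectrum.metaEight_ok (by norm_num)
  haveI : CharP F 3 := by
    obtain ⟨p, hp⟩ := CharP.exists F
    haveI := hp
    obtain ⟨n, hpr, hn⟩ := FiniteField.card F p
    have h3 : p ∣ 3 ^ 2 := by
      rw [show 3 ^ 2 = Fintype.card F from hF.symm, hn]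
      exact dvd_pow_self p n.pos.ne'
    rwa [(Nat.prime_dvd_prime_iff_eq hpr Nat.prime_three).1 (hpr.dvd_of_dvd_pow h3)] at hp
  obtain ⟨ι, hι⟩ := CfsgLib.UThree.exists_iota (F := F) hF
  exact ⟨H, i₁, i₂, hsol, hrange.trans (CfsgLib.UThree.range_orderOf_PSU hι hF).symm⟩

end Cfsg.Agent.S3438
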