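import Cfsg.Statements.S3439
-- import your own Cfsg.Agent.* helpers here
import Cfsg.Agent.SolvablePSp.Model
import Cfsg.Agent.Isospectral57.PSpFourOrders

set_option autoImplicit false
open Cfsg

namespace Cfsg.Agent.S3439

/-- There is a finite solvable group with exactly the same set of element orders as the simple group PSp(4,3). -/
theorem result {F : Type*} [Field F] [Fintype F] (hF : Fintype.card F = 3) :
    ∃ (H : Type) (_ : Group H) (_ : Fintype H), Group.IsSolvable H ∧ Set.range (orderOf : H → ℕ) = Set.range (orderOf : Cfsg.PSp 2 F → ℕ) := by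
  refine ⟨CfsgLib.SolvablePSp.Model, inferInstance, Fintype.ofFinite _,
    CfsgLib.SolvablePSp.isSolvable, ?_⟩
  haveI : CharP F 3 := by
    obtain ⟨p, hp⟩ := CharP.exists F
    obtain ⟨n, hpp, hn⟩ := FiniteField.card F p
    rw [hF] at hn
    obtain rfl : p = 3 := ((Nat.prime_dvd_prime_iff_eq hpp Nat.prime_three).1
      (hn ▸ dvd_pow_self p n.ne_zero))
    exact hp
  haveI : Fact (Nat.Prime 3) := ⟨Nat.prime_three⟩
  rw [CfsgLib.SolvablePSp.range_orderOf, CfsgLib.PSpFour.range_orderOf (F := F) 3, hF]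
  ext m
  simp only [CfsgLib.PSpFour.spec, Set.mem_setOf_eq]
  norm_num
  intro hm
  refine ⟨?_, ?_⟩
  · rintro (h | h | h)
    exacts [Or.inl h, Or.inr (Or.inr (Or.inr (Or.inr h))), Or.inr (Or.inr (Or.inr (Or.inl h)))]
  · rintro (h | h | h | h | h)
    exacts [Or.inl h, Or.inr (Or.inr (h.trans (by norm_num))), Or.inr (Or.inr (h.trans (by norm_num))),
      Or.inr (Or.inr h), Or.inr (Or.inl h)]

end Cfsg.Agent.S3439
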