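import Cfsg.Statements.S3448
-- import your own Cfsg.Agent.* helpers here
import Cfsg.Agent.Spectrum.AltFive

set_option autoImplicit false
open Cfsg

namespace Cfsg.Agent.S3448

/-- The set of element orders of the direct product of two copies of the alternating group of degree 5 is {1, 2, 3, 5, 6, 10, 15}. (It is shared by the direct product of two Frobenius groups of orders 50 and 75, so this direct product is not determined by its element orders.) -/
theorem result : Set.range (orderOf : alternatingGroup (Fin 5) × alternatingGroup (Fin 5) → ℕ) = {1, 2, 3, 5, 6, 10, 15} := by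
  apply Set.eq_of_subset_of_subset
  · rintro _ ⟨⟨a, b⟩, rfl⟩
    rw [Prod.orderOf]
    have key : ∀ x ∈ ({1, 2, 3, 5} : Finset ℕ), ∀ y ∈ ({1, 2, 3, 5} : Finset ℕ),
        Nat.lcm x y ∈ ({1, 2, 3, 5, 6, 10, 15} : Finset ℕ) := by decide
    have := key _ (CfsgLib.Spectrum.altFive_orderOf_mem a) _ (CfsgLib.Spectrum.altFive_orderOf_mem b)
    simpa using this
  · intro n hn
    have key : ∀ n ∈ ({1, 2, 3, 5, 6, 10, 15} : Finset ℕ), ∃ x ∈ ({1, 2, 3, 5} : Finset ℕ),
        ∃ y ∈ ({1, 2, 3, 5} : Finset ℕ), Nat.lcm x y = n := by decide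
    obtain ⟨x, hx, y, hy, hxy⟩ := key n (by simpa using hn)
    obtain ⟨a, ha⟩ := CfsgLib.Spectrum.altFive_exists_orderOf hx
    obtain ⟨b, hb⟩ := CfsgLib.Spectrum.altFive_exists_orderOf hy
    exact ⟨(a, b), by rw [Prod.orderOf, ha, hb, hxy]⟩

end Cfsg.Agent.S3448
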