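import Cfsg.Statements.S3449
-- import your own Cfsg.Agent.* helpers here
import Cfsg.Agent.Spectrum.AltFive

set_option autoImplicit false
open Cfsg

namespace Cfsg.Agent.S3449

/-- The direct product of three copies of the alternating group of degree 5 has exactly the same set of element orders as the cyclic group of order 30, namely the divisors of 30; in particular a direct power of a non-abelian simple group need not be determined by its element orders. -/
theorem result : Set.range (orderOf : alternatingGroup (Fin 5) × alternatingGroup (Fin 5) × alternatingGroup (Fin 5) → ℕ) =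
      Set.range (orderOf : Multiplicative (ZMod 30) → ℕ) := by
  have hz : Set.range (orderOf : Multiplicative (ZMod 30) → ℕ) =
      {n : ℕ | n ∈ Nat.divisors 30} := by
    apply Set.eq_of_subset_of_subset
    · rintro _ ⟨g, rfl⟩
      refine Nat.mem_divisors.mpr ⟨?_, by norm_num⟩
      have := orderOf_dvd_natCard g
      rwa [Nat.card_congr Multiplicative.toAdd, Nat.card_zmod] at this
    · intro n hn
      have hdvd := (Nat.mem_divisors.mp hn).1
      refine ⟨Multiplicative.ofAdd ((30 / n : ℕ) : ZMod 30), ?_⟩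
      rw [orderOf_ofAdd_eq_addOrderOf, ZMod.addOrderOf_coe _ (by norm_num : (30 : ℕ) ≠ 0),
        Nat.gcd_eq_right (Nat.div_dvd_of_dvd hdvd), Nat.div_div_self hdvd (by norm_num)]
  rw [hz]
  apply Set.eq_of_subset_of_subset
  · rintro _ ⟨⟨a, b, c⟩, rfl⟩
    rw [Prod.orderOf, Prod.orderOf]
    have key : ∀ x ∈ ({1, 2, 3, 5} : Finset ℕ), ∀ y ∈ ({1, 2, 3, 5} : Finset ℕ),
        ∀ z ∈ ({1, 2, 3, 5} : Finset ℕ), Nat.lcm x (Nat.lcm y z) ∈ Nat.divisors 30 := by decide
    exact key _ (CfsgLib.Spectrum.altFive_orderOf_mem a) _ (CfsgLib.Spectrum.altFive_orderOf_mem b)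
      _ (CfsgLib.Spectrum.altFive_orderOf_mem c)
  · intro n hn
    have key : ∀ n ∈ Nat.divisors 30, ∃ x ∈ ({1, 2, 3, 5} : Finset ℕ),
        ∃ y ∈ ({1, 2, 3, 5} : Finset ℕ), ∃ z ∈ ({1, 2, 3, 5} : Finset ℕ),
        Nat.lcm x (Nat.lcm y z) = n := by decide
    obtain ⟨x, hx, y, hy, z, hz, hxyz⟩ := key n hn
    obtain ⟨a, ha⟩ := CfsgLib.Spectrum.altFive_exists_orderOf hx
    obtain ⟨b, hb⟩ := CfsgLib.Spectrum.altFive_exists_orderOf hy
    obtain ⟨c, hc⟩ := CfsgLib.Spectrum.altFive_exists_orderOf hz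
    exact ⟨(a, b, c), by rw [Prod.orderOf, Prod.orderOf, ha, hb, hc, hxyz]⟩

end Cfsg.Agent.S3449
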