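import Cfsg.Statements.S3452
import Cfsg.Agent.PGLSpectrum.Basic
import Cfsg.Agent.PGLSpectrum.Prime
import Cfsg.Agent.PGLSpectrum.Small

set_option autoImplicit false
open Cfsg

namespace Cfsg.Agent.S3452

/-- For F a finite field whose number of elements is a prime or equals 9, the group PGL(2,F) = GL(2,F)/Z(GL(2,F)) is not determined by its set of element orders: for every bound N there is a finite group of order greater than N with exactly the same set of element orders as PGL(2,F). -/
theorem result {F : Type*} [Field F] [Fintype F] (hF : (Fintype.card F).Prime ∨ Fintype.card F = 9) (N : ℕ) :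
    ∃ (H : Type) (_ : Group H) (_ : Fintype H), N < Fintype.card H ∧
      Set.range (orderOf : H → ℕ) = Set.range (orderOf : Matrix.GeneralLinearGroup (Fin 2) F ⧸ Subgroup.center (Matrix.GeneralLinearGroup (Fin 2) F) → ℕ) := by
  classical
  obtain ⟨p, hpF⟩ := CharP.exists F
  obtain ⟨n, hpp, hn⟩ := FiniteField.card F p
  haveI : Fact p.Prime := ⟨hpp⟩
  have hcases : (Fintype.card F = p) ∨ (p = 3 ∧ Fintype.card F = 9) := by
    rcases hF with h | h
    · left
      rw [hn] at h
      have h1 : (n : ℕ) = 1 := Nat.Prime.eq_one_of_pow h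
      rw [hn, h1, pow_one]
    · refine Or.inr ⟨?_, h⟩
      rw [hn] at h
      have h3 : p ∣ 3 ^ 2 := by rw [show (3 : ℕ) ^ 2 = 9 by norm_num, ← h]; exact dvd_pow_self p n.ne_zero
      exact (Nat.prime_dvd_prime_iff_eq hpp Nat.prime_three).mp (hpp.dvd_of_dvd_pow h3)
  have key : ∃ (H : Type) (_ : Group H) (_ : Fintype H), N < Fintype.card H ∧
      Set.range (orderOf : H → ℕ) =
        {s | s ∣ p ∨ s ∣ Fintype.card F - 1 ∨ s ∣ Fintype.card F + 1} := by
    rcases hcases with h | ⟨rfl, h⟩
    · rw [h]
      have h4 : p ≠ 4 := by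
        intro h4
        subst h4
        norm_num at hpp
      rcases (show p = 2 ∨ p = 3 ∨ 5 ≤ p by have := hpp.two_le; omega) with rfl | rfl | h5
      · exact CfsgLib.PGLSpectrum.exists_large_two N
      · exact CfsgLib.PGLSpectrum.exists_large_three N
      · exact CfsgLib.PGLSpectrum.exists_large_prime h5 N
    · rw [h]
      exact CfsgLib.PGLSpectrum.exists_large_nine N
  obtain ⟨H, i1, i2, hc, hr⟩ := key
  refine ⟨H, i1, i2, hc, hr.trans (CfsgLib.PGLSpectrum.range_orderOf p fun h2 => ?_).symm⟩
  rcases hcases with h | ⟨h3, -⟩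
  · rw [h, h2]
  · omega

end Cfsg.Agent.S3452
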