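import Cfsg.Statements.S3466
import Cfsg.Agent.Isospectral57.ThreePower
import Cfsg.Agent.Isospectral57.PSpFourThree

set_option autoImplicit false
open Cfsg

namespace Cfsg.Agent.S3466



/-- Let F be a finite field with q ≥ 3 elements such that q is not of the form 3^(2t+1) with t ≥ 1. Then PSp(4,F) is not determined by its set of element orders, not even up to finitely many groups: for every bound N there is a finite group of order greater than N with exactly the same set of element orders as PSp(4,F). -/
theorem result {F : Type*} [Field F] [Fintype F] (h3 : 3 ≤ Fintype.card F) (hq : ∀ t : ℕ, 1 ≤ t → Fintype.card F ≠ 3 ^ (2 * t + 1)) (N : ℕ) :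
    ∃ (H : Type) (_ : Group H) (_ : Fintype H), N < Fintype.card H ∧ Set.range (orderOf : H → ℕ) = Set.range (orderOf : Cfsg.PSp 2 F → ℕ) := by
  classical
  set q := Fintype.card F with hqdef
  obtain ⟨p, hchar⟩ := CharP.exists F
  obtain ⟨a, hp, hcard⟩ := FiniteField.card F p
  haveI := Fact.mk hp
  suffices h : ∃ (H : Type) (_ : Group H) (_ : Fintype H), N < Fintype.card H ∧
      Set.range (orderOf : H → ℕ) = CfsgLib.PSpFour.spec p q by
    obtain ⟨H, i₁, i₂, h₁, h₂⟩ := h
    exact ⟨H, i₁, i₂, h₁, h₂.trans (CfsgLib.PSpFour.range_orderOf p).symm⟩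
  by_cases hq3 : q = 3
  · have hp3 : p = 3 := by
      have h : p ∣ 3 := by
        rw [← hq3, hqdef, hcard]
        exact dvd_pow_self p a.ne_zero
      exact (Nat.prime_dvd_prime_iff_eq hp Nat.prime_three).1 h
    rw [hp3, hq3]
    exact CfsgLib.PSpFourThree57.exists_large_q_three N
  let E := FiniteField.Extension F p 2
  haveI : Finite E := Module.finite_of_finite F
  letI : Fintype E := Fintype.ofFinite E
  haveI : CharP E p := charP_of_injective_algebraMap (algebraMap F E).injective p
  have hE : Fintype.card E = Fintype.card F * Fintype.card F := by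
    rw [← Nat.card_eq_fintype_card, FiniteField.natCard_extension, Nat.card_eq_fintype_card, sq]
  by_cases hp3 : p = 3
  · subst hp3
    refine CfsgLib.ThreePower57.exists_large_three (E := E) ?_ hE N
    -- the exponent is even
    obtain ⟨s, hs⟩ | ⟨s, hs⟩ := Nat.even_or_odd (a : ℕ)
    · rw [hcard, hs, ← two_mul, pow_mul, Nat.pow_mod]
      rcases Nat.even_or_odd s with ⟨l, rfl⟩ | ⟨l, rfl⟩
      · left
        rw [← two_mul, pow_mul, Nat.pow_mod]
        simp
      · right
        rw [pow_succ, pow_mul, Nat.mul_mod, Nat.pow_mod]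
        simp
    · rcases Nat.eq_zero_or_pos s with rfl | hs0
      · exact absurd (by rw [hqdef, hcard, hs]; norm_num) hq3
      · exact absurd (hcard.trans (by rw [hs])) (hq s hs0)
  · refine CfsgLib.Hermitian57.exists_large_herm (E := E) p ?_ hE N
    rcases Nat.lt_or_ge p 5 with h | h
    · left
      have := hp.two_le
      rcases (by omega : p = 2 ∨ p = 3 ∨ p = 4) with h' | h' | h'
      · exact h'
      · exact absurd h' hp3
      · exact absurd (h' ▸ hp) (by norm_num)
    · exact Or.inr h

end Cfsg.Agent.S3466
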