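import Cfsg.Statements.S3488
import Cfsg.Agent.AltOrders.Basic

set_option autoImplicit false
open Cfsg

namespace Cfsg.Agent.S3488

variable {F : Type*} [Field F]

/-- The matrices with last row `(0, 0, 1)`. -/
def lastRow (F : Type*) [Field F] : Set (Matrix.SpecialLinearGroup (Fin 3) F) :=
  {M | (M : Matrix (Fin 3) (Fin 3) F) 2 0 = 0 ∧ (M : Matrix (Fin 3) (Fin 3) F) 2 1 = 0 ∧
    (M : Matrix (Fin 3) (Fin 3) F) 2 2 = 1}

theorem mem_lastRow {M : Matrix.SpecialLinearGroup (Fin 3) F}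
    (hM : M ∈ Subgroup.closure (lastRow F)) : M ∈ lastRow F := by
  induction hM using Subgroup.closure_induction with
  | mem x hx => exact hx
  | one => exact ⟨by simp, by simp, by simp⟩
  | mul x y _ _ hx hy =>
    obtain ⟨a0, a1, a2⟩ := hx
    obtain ⟨b0, b1, b2⟩ := hy
    refine ⟨?_, ?_, ?_⟩ <;>
      simp [Matrix.mul_apply, Fin.sum_univ_three, a0, a1, a2, b0, b1, b2]
  | inv x _ hx =>
    obtain ⟨a0, a1, a2⟩ := hx
    have h : (x : Matrix (Fin 3) (Fin 3) F) *
        ((x⁻¹ : Matrix.SpecialLinearGroup (Fin 3) F) : Matrix (Fin 3) (Fin 3) F) = 1 := by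
      rw [← Matrix.SpecialLinearGroup.coe_mul, mul_inv_cancel]
      rfl
    have e : ∀ j, ((x⁻¹ : Matrix.SpecialLinearGroup (Fin 3) F) : Matrix (Fin 3) (Fin 3) F) 2 j = (1 : Matrix (Fin 3) (Fin 3) F) 2 j :=
      fun j => by rw [← h]; simp [Matrix.mul_apply, Fin.sum_univ_three, a0, a1, a2]
    exact ⟨by rw [e]; simp, by rw [e]; simp, by rw [e]; simp⟩

theorem det_two {M : Matrix.SpecialLinearGroup (Fin 3) F} (hM : M ∈ lastRow F) :
    (M : Matrix (Fin 3) (Fin 3) F) 0 0 * (M : Matrix (Fin 3) (Fin 3) F) 1 1 -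
      (M : Matrix (Fin 3) (Fin 3) F) 0 1 * (M : Matrix (Fin 3) (Fin 3) F) 1 0 = 1 := by
  have h := M.2
  rw [Matrix.det_fin_three, hM.1, hM.2.1, hM.2.2] at h
  linear_combination h

theorem cayley {M : Matrix.SpecialLinearGroup (Fin 3) F} (hM : M ∈ lastRow F) :
    (M : Matrix (Fin 3) (Fin 3) F) ^ 3 =
      ((M : Matrix (Fin 3) (Fin 3) F) 0 0 + (M : Matrix (Fin 3) (Fin 3) F) 1 1 + 1) •
        ((M : Matrix (Fin 3) (Fin 3) F) ^ 2 - (M : Matrix (Fin 3) (Fin 3) F)) + 1 := by
  have hd := det_two hM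
  ext i j
  fin_cases i <;> fin_cases j
  all_goals simp [pow_succ, Matrix.mul_apply, Fin.sum_univ_three, hM.1, hM.2.1, hM.2.2]
  · linear_combination (-((M : Matrix (Fin 3) (Fin 3) F) 0 0 - 1)) * hd
  · linear_combination (-((M : Matrix (Fin 3) (Fin 3) F) 0 1)) * hd
  · linear_combination (-((M : Matrix (Fin 3) (Fin 3) F) 0 2)) * hd
  · linear_combination (-((M : Matrix (Fin 3) (Fin 3) F) 1 0)) * hd
  · linear_combination (-((M : Matrix (Fin 3) (Fin 3) F) 1 1 - 1)) * hd
  · linear_combination (-((M : Matrix (Fin 3) (Fin 3) F) 1 2)) * hd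
  all_goals ring

theorem four_facts [Fintype F] (hF : Fintype.card F = 4) :
    (2 : F) = 0 ∧ ∀ t : F, t = 0 ∨ t = 1 ∨ t ^ 2 + t + 1 = 0 := by
  have h4 : ∀ t : F, t ^ 4 = t := fun t => by
    have := FiniteField.pow_card t
    rwa [hF] at this
  have h2 : (2 : F) = 0 := by
    have := h4 (-1)
    have e : ((-1 : F)) ^ 4 = 1 := by ring
    rw [e] at this
    linear_combination this
  refine ⟨h2, fun t => ?_⟩
  have h : t * ((t - 1) * (t ^ 2 + t + 1)) = 0 := by linear_combination h4 t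
  rcases mul_eq_zero.1 h with h | h
  · exact Or.inl h
  · exact Or.inr ((mul_eq_zero.1 h).imp_left sub_eq_zero.1)

theorem pow_cases [Fintype F] (hF : Fintype.card F = 4) {M : Matrix.SpecialLinearGroup (Fin 3) F}
    (hM : M ∈ lastRow F) : M ^ 4 = 1 ∨ M ^ 3 = 1 ∨ M ^ 5 = 1 := by
  obtain ⟨h2, hall⟩ := four_facts hF
  set A := (M : Matrix (Fin 3) (Fin 3) F) with hA
  have hc : A ^ 3 = (A 0 0 + A 1 1 + 1) • (A ^ 2 - A) + 1 := cayley hM
  have hz : ∀ (B : Matrix (Fin 3) (Fin 3) F), B + B = 0 := fun B => by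
    rw [← two_smul F B, h2, zero_smul]
  have hneg : ∀ (B : Matrix (Fin 3) (Fin 3) F), -B = B := fun B =>
    neg_eq_of_add_eq_zero_left (hz B)
  rw [sub_eq_add_neg, hneg] at hc
  have ext' : ∀ k, A ^ k = 1 → M ^ k = 1 := fun k hk =>
    Subtype.ext (by rw [Matrix.SpecialLinearGroup.coe_pow]; exact hk)
  rcases hall (A 0 0 + A 1 1) with ht | ht | ht
  · left
    rw [ht, zero_add, one_smul] at hc
    refine ext' 4 ?_
    have e : A ^ 4 = A ^ 3 + A ^ 2 + A := by
      rw [pow_succ A 3, hc, add_mul, add_mul, ← pow_succ, one_mul, ← pow_two, hc]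
    rw [e, hc]
    calc A ^ 2 + A + 1 + A ^ 2 + A = (A ^ 2 + A ^ 2) + (A + A) + 1 := by abel
      _ = 1 := by rw [hz, hz, add_zero, zero_add]
  · right; left
    rw [ht, one_add_one_eq_two, h2, zero_smul, zero_add] at hc
    exact ext' 3 hc
  · right; right
    set u := A 0 0 + A 1 1 + 1 with hu
    have hu2 : u * u + u = 1 := by
      rw [hu]; linear_combination ht + (A 0 0 + A 1 1 + 0) * h2 + h2 - h2
    refine ext' 5 ?_
    have e4 : A ^ 4 = A ^ 2 + (u * u + 1) • A + u • (1 : Matrix (Fin 3) (Fin 3) F) := by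
      calc A ^ 4 = A ^ 3 * A := pow_succ A 3
        _ = u • (A ^ 3 + A ^ 2) + A := by
            conv_lhs => rw [hc, add_mul, smul_mul_assoc, add_mul, ← pow_succ, one_mul, ← pow_two]
        _ = (u * u + u) • A ^ 2 + (u * u + 1) • A + u • (1 : Matrix (Fin 3) (Fin 3) F) := by
            rw [hc]; module
        _ = _ := by rw [hu2, one_smul]
    rw [pow_succ A 4, e4, add_mul, add_mul, ← pow_succ, smul_mul_assoc, smul_mul_assoc, one_mul,
      ← pow_two A, hc]
    calc _ = (u * u + u + 1) • A ^ 2 + (u • A + u • A) + 1 := by module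
      _ = 1 := by rw [hu2, one_add_one_eq_two, h2, zero_smul, hz, add_zero, zero_add]

theorem exists_lastRow [Fintype F] (hF : Fintype.card F = 4) {n : ℕ}
    (hn : n ∈ ({1, 2, 3, 4, 5} : Finset ℕ)) :
    ∃ M : Matrix.SpecialLinearGroup (Fin 3) F, M ∈ lastRow F ∧ orderOf M = n := by
  obtain ⟨h2, hall⟩ := four_facts hF
  obtain ⟨w, hw⟩ : ∃ w : F, w ^ 2 + w + 1 = 0 := by
    by_contra hne
    classical
    have : (Finset.univ : Finset F) ⊆ {0, 1} := fun t _ => by
      rcases hall t with h | h | h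
      · simp [h]
      · simp [h]
      · exact absurd ⟨t, h⟩ hne
    have := Finset.card_le_card this
    rw [Finset.card_univ, hF] at this
    exact absurd (this.trans Finset.card_le_two) (by norm_num)
  have hneg : (-1 : F) = 1 := by linear_combination (-1 : F) * h2
  -- translation, orders 3, 4, 5
  let T : Matrix.SpecialLinearGroup (Fin 3) F := ⟨!![1, 0, 1; 0, 1, 0; 0, 0, 1], by simp [Matrix.det_fin_three]⟩
  let S : Matrix.SpecialLinearGroup (Fin 3) F :=
    ⟨!![0, 1, 0; 1, 1, 0; 0, 0, 1], by simp [Matrix.det_fin_three]; exact hneg⟩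
  let Q : Matrix.SpecialLinearGroup (Fin 3) F := ⟨!![1, 1, 0; 0, 1, 1; 0, 0, 1], by simp [Matrix.det_fin_three]⟩
  let R : Matrix.SpecialLinearGroup (Fin 3) F :=
    ⟨!![0, 1, 0; 1, w, 0; 0, 0, 1], by simp [Matrix.det_fin_three]; exact hneg⟩
  simp only [Finset.mem_insert, Finset.mem_singleton] at hn
  rcases hn with rfl | rfl | rfl | rfl | rfl
  · exact ⟨1, ⟨by simp, by simp, by simp⟩, orderOf_one⟩
  · haveI : Fact (Nat.Prime 2) := ⟨Nat.prime_two⟩
    refine ⟨T, ⟨rfl, rfl, rfl⟩, orderOf_eq_prime (Subtype.ext ?_) fun h => ?_⟩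
    · rw [Matrix.SpecialLinearGroup.coe_pow, pow_two]
      ext i j
      fin_cases i <;> fin_cases j <;> simp [T, Matrix.mul_apply, Fin.sum_univ_three, one_add_one_eq_two, h2]
    · simpa [T] using congrArg (fun M : Matrix.SpecialLinearGroup (Fin 3) F => (M : Matrix (Fin 3) (Fin 3) F) 0 2) h
  · haveI : Fact (Nat.Prime 3) := ⟨Nat.prime_three⟩
    refine ⟨S, ⟨rfl, rfl, rfl⟩, orderOf_eq_prime (Subtype.ext ?_) fun h => ?_⟩
    · rw [Matrix.SpecialLinearGroup.coe_pow, pow_three]
      ext i j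
      fin_cases i <;> fin_cases j <;> simp [S, Matrix.mul_apply, Fin.sum_univ_three, one_add_one_eq_two, h2]
    · simpa [S] using congrArg (fun M : Matrix.SpecialLinearGroup (Fin 3) F => (M : Matrix (Fin 3) (Fin 3) F) 0 1) h
  · haveI : Fact (Nat.Prime 2) := ⟨Nat.prime_two⟩
    refine ⟨Q, ⟨rfl, rfl, rfl⟩, orderOf_eq_prime_pow (p := 2) (n := 1) (fun h => ?_) (Subtype.ext ?_)⟩
    · have h' := congrArg (fun M : Matrix.SpecialLinearGroup (Fin 3) F => (M : Matrix (Fin 3) (Fin 3) F) 0 2) h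
      rw [pow_one, Matrix.SpecialLinearGroup.coe_pow] at h'
      simp [Q, pow_two, Matrix.mul_apply, Fin.sum_univ_three] at h'
    · rw [Matrix.SpecialLinearGroup.coe_pow]
      ext i j
      fin_cases i <;> fin_cases j <;>
        simp [Q, pow_succ, Matrix.mul_apply, Fin.sum_univ_three, one_add_one_eq_two, h2]
  · haveI : Fact (Nat.Prime 5) := ⟨by norm_num⟩
    have hR : R ∈ lastRow F := ⟨rfl, rfl, rfl⟩
    refine ⟨R, hR, orderOf_eq_prime ?_ fun h => ?_⟩
    · have hR1 : ∀ k, R ^ k = 1 → k = 4 ∨ k = 3 → False := by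
        rintro k hk (rfl | rfl)
        · have h' := congrArg (fun M : Matrix.SpecialLinearGroup (Fin 3) F => (M : Matrix (Fin 3) (Fin 3) F) 0 0) hk
          rw [Matrix.SpecialLinearGroup.coe_pow] at h'
          simp [R, pow_succ, Matrix.mul_apply, Fin.sum_univ_three] at h'
          rw [h'] at hw; simp at hw
        · have h' := congrArg (fun M : Matrix.SpecialLinearGroup (Fin 3) F => (M : Matrix (Fin 3) (Fin 3) F) 0 0) hk
          rw [Matrix.SpecialLinearGroup.coe_pow] at h'
          simp [R, pow_succ, Matrix.mul_apply, Fin.sum_univ_three] at h'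
          rw [h'] at hw
          have h3 : (1 : F) = 0 := by linear_combination hw - h2
          exact one_ne_zero h3
      rcases pow_cases hF hR with h | h | h
      · exact (hR1 4 h (Or.inl rfl)).elim
      · exact (hR1 3 h (Or.inr rfl)).elim
      · exact h
    · simpa [R] using congrArg (fun M : Matrix.SpecialLinearGroup (Fin 3) F => (M : Matrix (Fin 3) (Fin 3) F) 0 1) h

theorem mem_five {G : Type*} [Group G] {g : G} (h : g ^ 4 = 1 ∨ g ^ 3 = 1 ∨ g ^ 5 = 1) :
    orderOf g ∈ ({1, 2, 3, 4, 5} : Finset ℕ) := by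
  rcases h with h | h | h
  · have hd := orderOf_dvd_of_pow_eq_one h
    have hle := Nat.le_of_dvd (by norm_num) hd
    interval_cases orderOf g <;> simp_all
  all_goals
    rcases (Nat.dvd_prime (by norm_num)).1 (orderOf_dvd_of_pow_eq_one h) with h' | h' <;> simp [h']

set_option maxRecDepth 100000 in
theorem alt_six_pow : ∀ g : alternatingGroup (Fin 6), g ^ 4 = 1 ∨ g ^ 3 = 1 ∨ g ^ 5 = 1 := by
  decide +kernel

/-- The element orders of the affine group are `1, 2, 3, 4, 5`. -/
theorem range_affine [Fintype F] (hF : Fintype.card F = 4) :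
    Set.range (orderOf : Subgroup.closure (lastRow F) → ℕ) = ↑({1, 2, 3, 4, 5} : Finset ℕ) := by
  refine Set.Subset.antisymm ?_ fun n hn => ?_
  · rintro _ ⟨⟨M, hM⟩, rfl⟩
    rw [← Subgroup.orderOf_coe]
    exact mem_five (pow_cases hF (mem_lastRow hM))
  · obtain ⟨M, hM, hMn⟩ := exists_lastRow hF hn
    exact ⟨⟨M, Subgroup.subset_closure hM⟩, by rw [← Subgroup.orderOf_coe]; exact hMn⟩

theorem range_alt_six :
    Set.range (orderOf : alternatingGroup (Fin 6) → ℕ) = ↑({1, 2, 3, 4, 5} : Finset ℕ) := by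
  refine Set.Subset.antisymm ?_ fun n hn => ?_
  · rintro _ ⟨g, rfl⟩
    exact mem_five (alt_six_pow g)
  · have key : ∀ c : Multiset ℕ, c.sum ≤ 6 → (∀ a ∈ c, 2 ≤ a) → Even (c.sum + Multiset.card c) →
        c.lcm = n → n ∈ Set.range (orderOf : alternatingGroup (Fin 6) → ℕ) := fun c h1 h2 h3 h4 =>
      (CfsgLib.AltOrders.mem_range_orderOf_iff 6 n).2 ⟨c, h1, h2, h3, h4⟩
    simp only [Finset.coe_insert, Finset.coe_singleton, Set.mem_insert_iff, Set.mem_singleton_iff] at hn
    rcases hn with rfl | rfl | rfl | rfl | rfl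
    · exact key {} (by simp) (by simp) (by simp) (by simp)
    · exact key {2, 2} (by decide) (by decide) (by decide) (by decide)
    · exact key {3} (by decide) (by decide) (by decide) (by decide)
    · exact key {4, 2} (by decide) (by decide) (by decide) (by decide)
    · exact key {5} (by decide) (by decide) (by decide) (by decide)


/-- Let F be the field with four elements. The affine group F² ⋊ SL(2,F), realised as the subgroup of SL(3,F) of matrices with last row (0, 0, 1), has exactly the same set of element orders as the alternating group of degree 6 (namely {1, 2, 3, 4, 5}); so the alternating group of degree 6 is not determined by its element orders. -/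
theorem result {F : Type*} [Field F] [Fintype F] (hF : Fintype.card F = 4) :
    Set.range (orderOf : Subgroup.closure {M : Matrix.SpecialLinearGroup (Fin 3) F |
        (M : Matrix (Fin 3) (Fin 3) F) 2 0 = 0 ∧ (M : Matrix (Fin 3) (Fin 3) F) 2 1 = 0 ∧ (M : Matrix (Fin 3) (Fin 3) F) 2 2 = 1} → ℕ) =
      Set.range (orderOf : alternatingGroup (Fin 6) → ℕ) := by
  exact (range_affine hF).trans range_alt_six.symm

end Cfsg.Agent.S3488
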