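import Cfsg.Statements.S3489
import Cfsg.Agent.S3444
import Cfsg.Agent.S2477
import Cfsg.Agent.Isospectral57.TwoSFive

set_option autoImplicit false
open Cfsg

namespace Cfsg.Agent.S3489

open CfsgLib.TwoSFive

/-- The module: functions to `ZMod 21`, odd for `z`, with the sums over the cosets of the subgroups
of order 3 or 5 killed by 3. -/
def modA : AddSubgroup (L → ZMod 21) where
  carrier := {f | (∀ x, f (z * x) = -f x) ∧
    (∀ h : L, h ≠ 1 → h * h * h = 1 → ∀ x, 3 * (f x + f (h * x) + f (h * (h * x))) = 0) ∧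
    (∀ h : L, h ≠ 1 → h * h * h * h * h = 1 → ∀ x, 3 * (f x + f (h * x) + f (h * (h * x)) +
      f (h * (h * (h * x))) + f (h * (h * (h * (h * x))))) = 0)}
  zero_mem' := ⟨fun _ => by simp, fun _ _ _ _ => by simp, fun _ _ _ _ => by simp⟩
  add_mem' := fun {a b} ha hb => ⟨fun x => by simp only [Pi.add_apply, ha.1 x, hb.1 x]; ring,
    fun h h1 h2 x => by
      have e := ha.2.1 h h1 h2 x
      have e' := hb.2.1 h h1 h2 x
      simp only [Pi.add_apply]
      linear_combination e + e',
    fun h h1 h2 x => by
      have e := ha.2.2 h h1 h2 x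
      have e' := hb.2.2 h h1 h2 x
      simp only [Pi.add_apply]
      linear_combination e + e'⟩
  neg_mem' := fun {a} ha => ⟨fun x => by simp only [Pi.neg_apply, ha.1 x],
    fun h h1 h2 x => by
      have e := ha.2.1 h h1 h2 x
      simp only [Pi.neg_apply]
      linear_combination -e,
    fun h h1 h2 x => by
      have e := ha.2.2 h h1 h2 x
      simp only [Pi.neg_apply]
      linear_combination -e⟩

theorem z_comm : ∀ x : L, z * x = x * z := by decide +kernel

theorem translate_mem {f : L → ZMod 21} (hf : f ∈ modA) (l : L) :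
    (fun x => f (l⁻¹ * x)) ∈ modA := by
  refine ⟨fun x => ?_, fun h h1 h2 x => ?_, fun h h1 h2 x => ?_⟩
  · show f (l⁻¹ * (z * x)) = -f (l⁻¹ * x)
    rw [← hf.1, ← mul_assoc, ← z_comm, mul_assoc]
  · have e := hf.2.1 (l⁻¹ * h * l) (fun he => h1 ?_) ?_ (l⁻¹ * x)
    · simpa [mul_assoc] using e
    · have := congrArg (fun y => l * y * l⁻¹) he
      simpa [mul_assoc] using this
    · calc l⁻¹ * h * l * (l⁻¹ * h * l) * (l⁻¹ * h * l) = l⁻¹ * (h * h * h) * l := by group
        _ = 1 := by rw [h2]; group
  · have e := hf.2.2 (l⁻¹ * h * l) (fun he => h1 ?_) ?_ (l⁻¹ * x)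
    · simpa [mul_assoc] using e
    · have := congrArg (fun y => l * y * l⁻¹) he
      simpa [mul_assoc] using this
    · calc l⁻¹ * h * l * (l⁻¹ * h * l) * (l⁻¹ * h * l) * (l⁻¹ * h * l) * (l⁻¹ * h * l)
          = l⁻¹ * (h * h * h * h * h) * l := by group
        _ = 1 := by rw [h2]; group

def transl (l : L) : modA ≃+ modA where
  toFun f := ⟨fun x => (f : L → ZMod 21) (l⁻¹ * x), translate_mem f.2 l⟩
  invFun f := ⟨fun x => (f : L → ZMod 21) (l⁻¹⁻¹ * x), translate_mem f.2 l⁻¹⟩
  left_inv f := by ext x; simp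
  right_inv f := by ext x; simp
  map_add' _ _ := rfl

def act : L →* MulAut (Multiplicative modA) where
  toFun l := AddEquiv.toMultiplicative (transl l)
  map_one' := by
    refine MulEquiv.ext fun f => ?_
    refine Multiplicative.toAdd.injective (Subtype.ext (funext fun x => ?_))
    show ((Multiplicative.toAdd f : modA) : L → ZMod 21) (1⁻¹ * x) = ((Multiplicative.toAdd f : modA) : L → ZMod 21) x
    simp
  map_mul' a b := by
    refine MulEquiv.ext fun f => ?_
    refine Multiplicative.toAdd.injective (Subtype.ext (funext fun x => ?_))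
    show ((Multiplicative.toAdd f : modA) : L → ZMod 21) ((a * b)⁻¹ * x) =
      ((Multiplicative.toAdd f : modA) : L → ZMod 21) (b⁻¹ * (a⁻¹ * x))
    simp [mul_assoc]

/-- The group `(V × W) ⋊ 2.S₅`. -/
abbrev Hgp : Type := SemidirectProduct (Multiplicative modA) L act

/-- The function underlying the normal component of an element. -/
def vec (g : Hgp) : L → ZMod 21 := ((Multiplicative.toAdd g.left : modA) : L → ZMod 21)

theorem vec_mul (g k : Hgp) (x : L) : vec (g * k) x = vec g x + vec k (g.right⁻¹ * x) := rfl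

theorem ext_vec {g k : Hgp} (h : vec g = vec k) (h' : g.right = k.right) : g = k :=
  SemidirectProduct.ext (Multiplicative.toAdd.injective (Subtype.ext h)) h'

theorem vec_pow (g : Hgp) (n : ℕ) (x : L) :
    vec (g ^ n) x = ∑ i ∈ Finset.range n, vec g (g.right⁻¹ ^ i * x) := by
  induction n generalizing x with
  | zero => simp [vec]
  | succ n ih =>
    rw [pow_succ', vec_mul, ih, Finset.sum_range_succ']
    simp only [pow_zero, one_mul, pow_succ, mul_assoc]
    rw [add_comm]

theorem right_pow (g : Hgp) (n : ℕ) : (g ^ n).right = g.right ^ n := map_pow SemidirectProduct.rightHom g n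

/-- The normal component of `g ^ orderOf g.right` is invariant under `g.right`. -/
theorem vec_pow_invariant (g : Hgp) (x : L) :
    vec (g ^ orderOf g.right) (g.right⁻¹ * x) = vec (g ^ orderOf g.right) x := by
  have hr : (g ^ orderOf g.right).right = 1 := by rw [right_pow, pow_orderOf_eq_one]
  have h : g * g ^ orderOf g.right = g ^ orderOf g.right * g := (Commute.self_pow g _).eq
  have e := congrFun (congrArg vec h) x
  rw [vec_mul, vec_mul, hr, inv_one, one_mul, add_comm (vec g x)] at e
  exact add_right_cancel e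

theorem orders (l : L) : orderOf l ∈ ({1, 2, 3, 4, 5, 6, 8, 10, 12} : Finset ℕ) := by
  have key : ∀ d : ℕ, d ∣ 8 ∨ d ∣ 10 ∨ d ∣ 12 → d ∈ ({1, 2, 3, 4, 5, 6, 8, 10, 12} : Finset ℕ) := by
    intro d hd
    have hle : d ≤ 12 := by
      rcases hd with h | h | h <;> have := Nat.le_of_dvd (by norm_num) h <;> omega
    interval_cases d <;> revert hd <;> decide
  apply key
  rcases exponent_cases l with h | h | h
  · exact Or.inl (orderOf_dvd_of_pow_eq_one (by simp only [pow_succ, pow_zero, one_mul, ← mul_assoc] at h ⊢; exact h))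
  · exact Or.inr (Or.inl (orderOf_dvd_of_pow_eq_one (by simp only [pow_succ, pow_zero, one_mul, ← mul_assoc] at h ⊢; exact h)))
  · exact Or.inr (Or.inr (orderOf_dvd_of_pow_eq_one (by simp only [pow_succ, pow_zero, one_mul, ← mul_assoc] at h ⊢; exact h)))

theorem order_mem (g : Hgp) :
    orderOf g ∈ ({1, 2, 3, 4, 5, 6, 7, 8, 9, 10, 12, 15, 21} : Set ℕ) := by
  have hdvd : orderOf g.right ∣ orderOf g := orderOf_map_dvd SemidirectProduct.rightHom g
  have hr : (g ^ orderOf g.right).right = 1 := by rw [right_pow, pow_orderOf_eq_one]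
  have hinv := vec_pow_invariant g
  have hinvk : ∀ (k : ℕ) (x : L), vec (g ^ orderOf g.right) (g.right⁻¹ ^ k * x) = vec (g ^ orderOf g.right) x := by
    intro k
    induction k with
    | zero => simp
    | succ k ih => intro x; rw [pow_succ', mul_assoc, hinv, ih]
  have hmem := (Multiplicative.toAdd (g ^ orderOf g.right).left : modA).2
  have h3 : g.right ≠ 1 → ∀ m : ℕ, (m • vec (g ^ orderOf g.right)) = 0 → orderOf g ∣ orderOf g.right * m := by
    intro _ m hm
    refine orderOf_dvd_of_pow_eq_one (ext_vec (funext fun x => ?_) ?_)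
    · rw [pow_mul, vec_pow, hr]
      simpa [vec] using congrFun hm x
    · rw [pow_mul, right_pow, hr, one_pow, SemidirectProduct.one_right]
  have ho := orders g.right
  rcases eq_or_ne g.right 1 with h1 | h1
  · have h21 : orderOf g ∣ 21 := by
      refine orderOf_dvd_of_pow_eq_one (ext_vec (funext fun x => ?_) (by rw [right_pow, h1, one_pow]; rfl))
      rw [vec_pow, h1, Finset.sum_congr rfl (fun i _ => by rw [inv_one, one_pow, one_mul]), Finset.sum_const,
        Finset.card_range, ZModModule.char_nsmul_eq_zero 21]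
      rfl
    have : orderOf g ∈ Nat.divisors 21 := Nat.mem_divisors.2 ⟨h21, by norm_num⟩
    rw [show Nat.divisors 21 = {1, 3, 7, 21} by decide] at this
    simp only [Finset.mem_insert, Finset.mem_singleton] at this
    simp only [Set.mem_insert_iff, Set.mem_singleton_iff]
    omega
  · rcases Nat.even_or_odd (orderOf g.right) with ⟨k, hk⟩ | hodd
    · -- a power of `g.right` is the central involution
      have hz : g.right⁻¹ ^ k = z := by
        have hk0 : k ≠ 0 := by have := orderOf_pos g.right; omega
        rcases z_of_square (g.right⁻¹ ^ k) (by rw [← pow_add, ← hk, inv_pow, pow_orderOf_eq_one, inv_one]) with h | h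
        · exfalso
          have := Nat.le_of_dvd (Nat.pos_of_ne_zero hk0) (orderOf_dvd_of_pow_eq_one h)
          rw [orderOf_inv] at this
          omega
        · exact h
      have h0 : vec (g ^ orderOf g.right) = 0 := funext fun x => by
        have e : vec (g ^ orderOf g.right) x = -vec (g ^ orderOf g.right) x := by
          conv_lhs => rw [← hinvk k x, hz]
          exact hmem.1 x
        have : ∀ a : ZMod 21, a = -a → a = 0 := by decide
        exact this _ e
      have := h3 h1 1 (by rw [one_smul, h0])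
      rw [mul_one] at this
      rw [Nat.dvd_antisymm this hdvd]
      simp only [Finset.mem_insert, Finset.mem_singleton] at ho
      simp only [Set.mem_insert_iff, Set.mem_singleton_iff]
      omega
    · simp only [Finset.mem_insert, Finset.mem_singleton] at ho
      have hone : orderOf g.right ≠ 1 := fun h => h1 (orderOf_eq_one_iff.1 h)
      obtain ⟨j, hj⟩ := hodd
      have h35 : orderOf g.right = 3 ∨ orderOf g.right = 5 := by omega
      have hne : g.right⁻¹ ≠ 1 := inv_ne_one.2 h1
      have hp : g.right⁻¹ ^ orderOf g.right = 1 := by rw [inv_pow, pow_orderOf_eq_one, inv_one]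
      have hm : (3 : ℕ) • vec (g ^ orderOf g.right) = 0 := funext fun x => by
        show (3 : ℕ) • vec (g ^ orderOf g.right) x = 0
        rw [nsmul_eq_mul, Nat.cast_ofNat]
        have a3 : ∀ a : ZMod 21, 3 * (a + a + a) = 0 → 3 * a = 0 := by decide
        have a5 : ∀ a : ZMod 21, 3 * (a + a + a + a + a) = 0 → 3 * a = 0 := by decide
        rcases h35 with h | h <;> rw [h] at hp
        · have e := hmem.2.1 g.right⁻¹ hne (by rw [← hp, pow_succ, pow_succ, pow_one]) x
          exact a3 _ (by change 3 * (vec _ x + vec _ _ + vec _ _) = 0 at e; simp only [hinv] at e; exact e)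
        · have e := hmem.2.2 g.right⁻¹ hne (by rw [← hp, pow_succ, pow_succ, pow_succ, pow_succ, pow_one]) x
          exact a5 _ (by
            change 3 * (vec _ x + vec _ _ + vec _ _ + vec _ _ + vec _ _) = 0 at e
            simp only [hinv] at e
            exact e)
      have h' := h3 h1 3 hm
      obtain ⟨c, hc⟩ := hdvd
      rw [hc] at h'
      have hc3 : c = 1 ∨ c = 3 := (Nat.dvd_prime Nat.prime_three).1
        (Nat.dvd_of_mul_dvd_mul_left (orderOf_pos _) h')
      simp only [Set.mem_insert_iff, Set.mem_singleton_iff]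
      rcases h35 with h | h <;> rcases hc3 with h'' | h'' <;> rw [hc, h, h''] <;> norm_num

/-- The character, read modulo 21. -/
def f0 : modA := ⟨fun x => (chi x : ZMod 21),
  ⟨fun x => by show (chi (z * x) : ZMod 21) = -(chi x : ZMod 21); rw [chi_z, Int.cast_neg],
   fun h h1 h2 x => by
    obtain ⟨m, hm⟩ := Int.dvd_of_emod_eq_zero (chi_sum_three h h1 h2 x)
    rw [← Int.cast_add, ← Int.cast_add, hm, Int.cast_mul, ← mul_assoc,
      show (3 : ZMod 21) * ((7 : ℤ) : ZMod 21) = 0 by decide, zero_mul],
   fun h h1 h2 x => by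
    obtain ⟨m, hm⟩ := Int.dvd_of_emod_eq_zero (chi_sum_five h h1 h2 x)
    rw [← Int.cast_add, ← Int.cast_add, ← Int.cast_add, ← Int.cast_add, hm, Int.cast_mul, ← mul_assoc,
      show (3 : ZMod 21) * ((7 : ℤ) : ZMod 21) = 0 by decide, zero_mul]⟩⟩

/-- A vector killed by 3. -/
def w0 : modA := ⟨fun x => 7 * ((if x = 1 then 1 else 0) - (if x = z then 1 else 0)),
  ⟨by decide +kernel,
   fun h _ _ x => by
    have : (3 : ZMod 21) * 7 = 0 := by decide
    simp only [← mul_add, ← mul_assoc, this, zero_mul],
   fun h _ _ x => by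
    have : (3 : ZMod 21) * 7 = 0 := by decide
    simp only [← mul_add, ← mul_assoc, this, zero_mul]⟩⟩

/-- An element of `L` from its entries. -/
def elt (a b c d : ZMod 5) (h : (⟨a, b, c, d⟩ : Mat).det = 1 ∨ (⟨a, b, c, d⟩ : Mat).det = 3) : L :=
  ⟨⟨a, b, c, d⟩, h⟩

def e3 : L := elt 0 4 1 4 (by decide)
def e5 : L := elt 1 1 0 1 (by decide)

theorem orderOf_e3 : orderOf e3 = 3 := (orderOf_eq_iff (by norm_num)).2 (by decide +kernel)
theorem orderOf_e5 : orderOf e5 = 5 := (orderOf_eq_iff (by norm_num)).2 (by decide +kernel)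

theorem exists_orders : ∀ n ∈ [3, 5, 8, 10, 12], ∃ l : L, orderOf l = n := by
  intro n hn
  simp only [List.mem_cons, List.not_mem_nil, or_false] at hn
  rcases hn with rfl | rfl | rfl | rfl | rfl
  · exact ⟨e3, orderOf_e3⟩
  · exact ⟨e5, orderOf_e5⟩
  · exact ⟨elt 1 0 0 3 (by decide), (orderOf_eq_iff (by norm_num)).2 (by decide +kernel)⟩
  · exact ⟨elt 4 1 0 4 (by decide), (orderOf_eq_iff (by norm_num)).2 (by decide +kernel)⟩
  · exact ⟨elt 0 1 2 2 (by decide), (orderOf_eq_iff (by norm_num)).2 (by decide +kernel)⟩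

theorem orderOf_witness {l : L} {p : ℕ} (hl : orderOf l = p)
    (hs : ∑ i ∈ Finset.range p, (w0 : L → ZMod 21) (l⁻¹ ^ i) ≠ 0) (h9 : orderOf ((⟨Multiplicative.ofAdd w0, l⟩ : Hgp)) ∣ p * 3) :
    orderOf ((⟨Multiplicative.ofAdd w0, l⟩ : Hgp)) = p * 3 := by
  obtain ⟨c, hc⟩ : p ∣ orderOf ((⟨Multiplicative.ofAdd w0, l⟩ : Hgp)) :=
    hl ▸ orderOf_map_dvd SemidirectProduct.rightHom (⟨Multiplicative.ofAdd w0, l⟩ : Hgp)
  have hp : 0 < p := hl ▸ orderOf_pos l
  rw [hc] at h9
  rcases (Nat.dvd_prime Nat.prime_three).1 (Nat.dvd_of_mul_dvd_mul_left hp h9) with rfl | rfl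
  · exfalso
    apply hs
    have h1 : ((⟨Multiplicative.ofAdd w0, l⟩ : Hgp)) ^ p = 1 := by
      rw [← mul_one p, ← hc, pow_orderOf_eq_one]
    have e := congrFun (congrArg vec h1) 1
    rw [vec_pow] at e
    simpa [vec] using e
  · exact hc

theorem range_eq : Set.range (orderOf : Hgp → ℕ) = {1, 2, 3, 4, 5, 6, 7, 8, 9, 10, 12, 15, 21} := by
  refine Set.Subset.antisymm ?_ ?_
  · rintro _ ⟨g, rfl⟩
    exact order_mem g
  haveI : Finite Hgp := Finite.of_equiv _ SemidirectProduct.equivProd.symm
  have down : ∀ {m d : ℕ}, m ∈ Set.range (orderOf : Hgp → ℕ) → d ∣ m → d ∈ Set.range (orderOf : Hgp → ℕ) := by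
    rintro _ d ⟨g, rfl⟩ hd
    exact ⟨g ^ (orderOf g / d), orderOf_pow_orderOf_div (orderOf_pos g).ne' hd⟩
  have hL : ∀ n ∈ [3, 5, 8, 10, 12], n ∈ Set.range (orderOf : Hgp → ℕ) := by
    intro n hn
    obtain ⟨l, ho⟩ := exists_orders n hn
    exact ⟨SemidirectProduct.inr l, by
      rw [orderOf_injective _ SemidirectProduct.inr_injective, ho]⟩
  have h21 : 21 ∈ Set.range (orderOf : Hgp → ℕ) := by
    refine ⟨SemidirectProduct.inl (Multiplicative.ofAdd f0), ?_⟩
    rw [orderOf_injective _ SemidirectProduct.inl_injective, orderOf_ofAdd_eq_addOrderOf]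
    refine (addOrderOf_eq_iff (by norm_num)).2 ⟨?_, fun m hm hm0 h => ?_⟩
    · refine Subtype.ext (funext fun x => ?_)
      exact ZModModule.char_nsmul_eq_zero 21 _
    · have e := congrFun (congrArg Subtype.val h) 1
      change m • (chi 1 : ZMod 21) = 0 at e
      rw [nsmul_eq_mul, show (chi 1 : ZMod 21) = 4 by decide +kernel] at e
      revert e
      interval_cases m <;> decide
  have h9 : 9 ∈ Set.range (orderOf : Hgp → ℕ) := by
    refine ⟨⟨Multiplicative.ofAdd w0, e3⟩, ?_⟩
    exact orderOf_witness orderOf_e3 (by decide +kernel)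
      (orderOf_dvd_of_pow_eq_one (ext_vec (by decide +kernel) (by decide +kernel)))
  have h15 : 15 ∈ Set.range (orderOf : Hgp → ℕ) := by
    refine ⟨⟨Multiplicative.ofAdd w0, e5⟩, ?_⟩
    exact orderOf_witness orderOf_e5 (by decide +kernel)
      (orderOf_dvd_of_pow_eq_one (ext_vec (by decide +kernel) (by decide +kernel)))
  intro n hn
  simp only [Set.mem_insert_iff, Set.mem_singleton_iff] at hn
  rcases hn with rfl | rfl | rfl | rfl | rfl | rfl | rfl | rfl | rfl | rfl | rfl | rfl | rfl
  · exact down h21 (one_dvd _)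
  · exact down (hL 8 (by decide)) (by norm_num)
  · exact hL 3 (by decide)
  · exact down (hL 8 (by decide)) (by norm_num)
  · exact hL 5 (by decide)
  · exact down (hL 12 (by decide)) (by norm_num)
  · exact down h21 (by norm_num)
  · exact hL 8 (by decide)
  · exact h9
  · exact hL 10 (by decide)
  · exact hL 12 (by decide)
  · exact h15
  · exact h21


/-- The alternating group of degree 10 is not determined by its set of element orders, not even up to finitely many groups: for every bound N there is a finite group of order greater than N with exactly the same set of element orders as the alternating group of degree 10. -/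
theorem result (N : ℕ) : ∃ (H : Type) (_ : Group H) (_ : Fintype H), N < Fintype.card H ∧ Set.range (orderOf : H → ℕ) = Set.range (orderOf : alternatingGroup (Fin 10) → ℕ) := by
  haveI : Finite Hgp := Finite.of_equiv _ SemidirectProduct.equivProd.symm
  haveI : (SemidirectProduct.inl : Multiplicative modA →* Hgp).range.Normal := by
    rw [SemidirectProduct.range_inl_eq_ker_rightHom]
    infer_instance
  have hne : (SemidirectProduct.inl : Multiplicative modA →* Hgp).range ≠ ⊥ := by
    intro h
    have h1 : SemidirectProduct.inl (φ := act) (Multiplicative.ofAdd w0) ∈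
        (SemidirectProduct.inl : Multiplicative modA →* Hgp).range := ⟨_, rfl⟩
    rw [h, Subgroup.mem_bot] at h1
    have h2 := SemidirectProduct.inl_injective (h1.trans (map_one _).symm)
    exact absurd (congrFun (congrArg (fun a : Multiplicative modA => ((Multiplicative.toAdd a : modA) : L → ZMod 21)) h2) 1)
      (by decide +kernel)
  have hsol : Group.IsSolvable (SemidirectProduct.inl : Multiplicative modA →* Hgp).range :=
    Group.isSolvable_of_surjective
      (f := (SemidirectProduct.inl : Multiplicative modA →* Hgp).rangeRestrict) (MonoidHom.rangeRestrict_surjective _)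
  obtain ⟨H, i₁, i₂, h₁, h₂⟩ := Cfsg.Agent.S3444.result
    (SemidirectProduct.inl : Multiplicative modA →* Hgp).range hne hsol N
  exact ⟨H, i₁, i₂, h₁, h₂.trans (range_eq.trans Cfsg.Agent.S2477.result.symm)⟩

end Cfsg.Agent.S3489
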