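import Cfsg.Statements.S3491
import Cfsg.Agent.S3444
import Cfsg.Agent.S3488

set_option autoImplicit false
open Cfsg

namespace Cfsg.Agent.S3491



/-- The alternating group of degree 6 is not determined by its set of element orders, not even up to finitely many groups: for every bound N there is a finite group of order greater than N with exactly the same set of element orders as the alternating group of degree 6. -/
theorem result (N : ℕ) : ∃ (H : Type) (_ : Group H) (_ : Fintype H), N < Fintype.card H ∧ Set.range (orderOf : H → ℕ) = Set.range (orderOf : alternatingGroup (Fin 6) → ℕ) := by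
  classical
  let F := GaloisField 2 2
  letI : Fintype F := Fintype.ofFinite F
  have hF : Fintype.card F = 4 := by
    rw [← Nat.card_eq_fintype_card, GaloisField.card 2 2 (by norm_num)]; norm_num
  let H := Subgroup.closure (Cfsg.Agent.S3488.lastRow F)
  have hdef : ∀ M : Matrix.SpecialLinearGroup (Fin 3) F, M ∈ H → M ∈ Cfsg.Agent.S3488.lastRow F :=
    fun M hM => Cfsg.Agent.S3488.mem_lastRow hM
  -- the linear part
  let φ : H →* Matrix (Fin 2) (Fin 2) F :=
    { toFun := fun M => !![(M.1 : Matrix (Fin 3) (Fin 3) F) 0 0, (M.1 : Matrix (Fin 3) (Fin 3) F) 0 1;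
        (M.1 : Matrix (Fin 3) (Fin 3) F) 1 0, (M.1 : Matrix (Fin 3) (Fin 3) F) 1 1]
      map_one' := by ext i j; fin_cases i <;> fin_cases j <;> simp
      map_mul' := fun M N => by
        obtain ⟨b0, b1, b2⟩ := hdef N.1 N.2
        ext i j
        fin_cases i <;> fin_cases j <;> simp [Matrix.mul_apply, Fin.sum_univ_three, Fin.sum_univ_two, b0, b1] }
  have hker : ∀ a ∈ φ.ker, ∀ b ∈ φ.ker, a * b = b * a := by
    intro a ha b hb
    obtain ⟨a0, a1, a2⟩ := hdef a.1 a.2
    obtain ⟨b0, b1, b2⟩ := hdef b.1 b.2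
    rw [MonoidHom.mem_ker] at ha hb
    have e1 := congrFun (congrFun ha 0) 0; have e2 := congrFun (congrFun ha 0) 1
    have e3 := congrFun (congrFun ha 1) 0; have e4 := congrFun (congrFun ha 1) 1
    have f1 := congrFun (congrFun hb 0) 0; have f2 := congrFun (congrFun hb 0) 1
    have f3 := congrFun (congrFun hb 1) 0; have f4 := congrFun (congrFun hb 1) 1
    simp [φ] at e1 e2 e3 e4 f1 f2 f3 f4
    refine Subtype.ext (Subtype.ext ?_)
    ext i j
    fin_cases i <;> fin_cases j <;>
      simp [Matrix.mul_apply, Fin.sum_univ_three, a0, a1, a2, b0, b1, b2, e1, e2, e3, e4, f1, f2, f3, f4, add_comm]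
  have hne : φ.ker ≠ ⊥ := by
    intro h
    let T : Matrix.SpecialLinearGroup (Fin 3) F := ⟨!![1, 0, 1; 0, 1, 0; 0, 0, 1], by simp [Matrix.det_fin_three]⟩
    have hT : T ∈ H := Subgroup.subset_closure ⟨rfl, rfl, rfl⟩
    have h1 : (⟨T, hT⟩ : H) ∈ φ.ker := by
      rw [MonoidHom.mem_ker]
      ext i j
      fin_cases i <;> fin_cases j <;> simp [φ, T]
    rw [h, Subgroup.mem_bot] at h1
    have h2 := congrArg (fun M : H => (M.1 : Matrix (Fin 3) (Fin 3) F) 0 2) h1
    simp [T] at h2
  haveI : IsMulCommutative φ.ker := ⟨⟨fun a b => Subtype.ext (hker a a.2 b b.2)⟩⟩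
  have hs : Group.IsSolvable φ.ker := Group.isSolvable_of_comm fun a b => Subtype.ext (hker a a.2 b b.2)
  obtain ⟨K, i₁, i₂, h1, h2⟩ := Cfsg.Agent.S3444.result φ.ker hne hs N
  exact ⟨K, i₁, i₂, h1, h2.trans (Cfsg.Agent.S3488.result hF)⟩

end Cfsg.Agent.S3491
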