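import Cfsg.Statements.S3493
import Cfsg.Agent.ExtPrim.Structure

set_option autoImplicit false
open Cfsg

namespace Cfsg.Agent.S3493



/-- An extremely primitive permutation group is of affine type or almost simple. Let a finite group G act faithfully and primitively on a finite set Ω with at least two points, in such a way that every point stabilizer acts primitively on each of its own orbits in Ω (an orbit of size one counts as primitive). Then either G has a non-trivial abelian normal subgroup whose elements other than the identity fix no point (affine type), or G has a non-abelian simple normal subgroup with trivial centralizer (almost simple). -/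
theorem result {G : Type*} [Group G] [Finite G] {Ω : Type*} [Fintype Ω] [MulAction G Ω] [FaithfulSMul G Ω] (hΩ : 2 ≤ Fintype.card Ω) (hprim : MulAction.IsPreprimitive G Ω) (hep : ∀ (α : Ω) (ω : Ω), MulAction.IsPreprimitive (MulAction.stabilizer G α) (MulAction.orbit (MulAction.stabilizer G α) ω)) :
    (∃ N : Subgroup G, N.Normal ∧ N ≠ ⊥ ∧ IsMulCommutative N ∧ ∀ ω : Ω, MulAction.stabilizer N ω = ⊥) ∨ (∃ T : Subgroup G, T.Normal ∧ IsSimpleGroup T ∧ ¬ IsMulCommutative T ∧ Subgroup.centralizer (T : Set G) = ⊥) := by
  haveI := hprim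
  haveI : Nontrivial Ω := Fintype.one_lt_card_iff_nontrivial.1 hΩ
  by_cases hne : ∀ α : Ω, MulAction.stabilizer G α ≠ ⊥
  · have htop : (⊤ : Subgroup G) ≠ ⊥ := by
      intro h
      exact hne (Classical.arbitrary Ω) (Subgroup.eq_bot_iff_forall _ |>.2 fun x _ =>
        Subgroup.mem_bot.1 (h ▸ Subgroup.mem_top x))
    obtain ⟨N, hN, -⟩ := CfsgLib.MinNormal.exists_isMinNormal_le (⊤ : Subgroup G) htop
    haveI := hN.normal
    by_cases hc : IsMulCommutative N
    · haveI : MulAction.IsPretransitive N Ω :=
        CfsgLib.MinNormal.isPretransitive_of_ne_bot hN.ne_bot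
      refine Or.inl ⟨N, hN.normal, hN.ne_bot, hc, fun ω => ?_⟩
      refine (Subgroup.eq_bot_iff_forall _).2 fun n hn => Subtype.ext ?_
      exact CfsgLib.MinNormal.eq_one_of_fix_of_commute
        (fun m hm => congrArg Subtype.val (hc.is_comm.comm n ⟨m, hm⟩)) hn
    · exact Or.inr (CfsgLib.ExtPrim.almost_simple_of_minNormal hne hep hN hc)
  · push Not at hne
    obtain ⟨α, hα⟩ := hne
    have hall : ∀ ω : Ω, MulAction.stabilizer G ω = ⊥ := by
      intro ω
      obtain ⟨g, rfl⟩ := MulAction.exists_smul_eq G α ω
      rw [MulAction.stabilizer_smul_eq_stabilizer_map_conj, hα, Subgroup.map_bot]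
    have hc : IsCoatom (⊥ : Subgroup G) :=
      hα ▸ (MulAction.isCoatom_stabilizer_iff_preprimitive (G := G) (X := Ω) α).2 hprim
    have hcyc : IsCyclic G := by
      obtain ⟨g, -, hg1⟩ := (⊤ : Subgroup G).bot_or_exists_ne_one.resolve_left hc.1.symm
      refine isCyclic_iff_exists_zpowers_eq_top.2 ⟨g, (hc.le_iff.1 bot_le).resolve_right fun h => hg1 ?_⟩
      exact Subgroup.zpowers_eq_bot.1 h
    refine Or.inl ⟨⊤, inferInstance, hc.1.symm, ⟨⟨fun a b => Subtype.ext ?_⟩⟩, fun ω => ?_⟩
    · exact hcyc.commGroup.mul_comm a.1 b.1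
    · refine (Subgroup.eq_bot_iff_forall _).2 fun n hn => Subtype.ext ?_
      have : (n : G) ∈ MulAction.stabilizer G ω := hn
      rwa [hall, Subgroup.mem_bot] at this

end Cfsg.Agent.S3493
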