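import Cfsg.Statements.S3495
import Cfsg.Agent.ExtPrim.Basic

set_option autoImplicit false
open Cfsg

namespace Cfsg.Agent.S3495



/-- Let a finite group G act faithfully and primitively on a finite set Ω with non-trivial point stabilizers, each acting primitively on every one of its orbits (an extremely primitive group), and suppose G has an elementary abelian normal p-subgroup N acting regularly on Ω (affine type). Then every non-trivial subgroup M of a point stabilizer G_α that is normal in G_α has the same orbits on Ω as G_α, and normalizes no subgroup of N other than 1 and N. -/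
theorem result {G : Type*} [Group G] [Finite G] {Ω : Type*} [Fintype Ω] [MulAction G Ω] [FaithfulSMul G Ω] (hprim : MulAction.IsPreprimitive G Ω) (hH : ∀ α : Ω, MulAction.stabilizer G α ≠ ⊥) (hep : ∀ (α : Ω) (ω : Ω), MulAction.IsPreprimitive (MulAction.stabilizer G α) (MulAction.orbit (MulAction.stabilizer G α) ω))
    (N : Subgroup G) [N.Normal] (hNc : IsMulCommutative N) (p : ℕ) (hp : p.Prime) (hNp : ∀ n ∈ N, n ^ p = 1)
    (hNtr : MulAction.IsPretransitive N Ω) (hNreg : ∀ ω : Ω, MulAction.stabilizer N ω = ⊥) (α : Ω) (M : Subgroup G) (hM : M ≠ ⊥) (hMle : M ≤ MulAction.stabilizer G α)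
    (hMn : MulAction.stabilizer G α ≤ Subgroup.normalizer (M : Set G)) :
    (∀ ω : Ω, MulAction.orbit M ω = MulAction.orbit (MulAction.stabilizer G α) ω) ∧
    (∀ L : Subgroup G, L ≤ N → M ≤ Subgroup.normalizer (L : Set G) → L = ⊥ ∨ L = N) := by
  haveI := hprim
  have horb := CfsgLib.ExtPrim.orbit_eq (G := G) hH hep hM hMle hMn
  refine ⟨horb, fun L hLN hML => ?_⟩
  by_cases hL : L = ⊥
  · exact Or.inl hL
  right
  have inj : ∀ n ∈ N, ∀ n' ∈ N, n • α = n' • α → n = n' := by
    intro n hn n' hn' he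
    have : (⟨n'⁻¹ * n, N.mul_mem (N.inv_mem hn') hn⟩ : N) ∈ MulAction.stabilizer N α := by
      rw [MulAction.mem_stabilizer_iff]
      show (n'⁻¹ * n) • α = α
      rw [mul_smul, he, inv_smul_smul]
    rw [hNreg α, Subgroup.mem_bot] at this
    exact (inv_mul_eq_one.1 (congrArg Subtype.val this :)).symm
  have inv : ∀ h : G, h • α = α → ∀ l ∈ L, h * l * h⁻¹ ∈ L := by
    intro h hh l hl
    have hmem : h • l • α ∈ MulAction.orbit M (l • α) := by
      rw [horb]; exact ⟨⟨h, hh⟩, rfl⟩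
    obtain ⟨⟨m, hm⟩, hm'⟩ := hmem
    change m • l • α = h • l • α at hm'
    have hml : m * l * m⁻¹ ∈ L := (Subgroup.mem_normalizer_iff.1 (hML hm) l).1 hl
    have hma : m • α = α := hMle hm
    have hhl : h * l * h⁻¹ ∈ N := Subgroup.Normal.conj_mem inferInstance l (hLN hl) h
    rw [inj _ hhl _ (hLN hml) (by
      rw [mul_smul, mul_smul, inv_smul_eq_iff.2 hh.symm, ← hm', mul_smul, mul_smul,
        inv_smul_eq_iff.2 hma.symm])]
    exact hml
  haveI hLn : L.Normal := by
    refine ⟨fun l hl g => ?_⟩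
    obtain ⟨⟨n, hn⟩, hn'⟩ := MulAction.exists_smul_eq N α (g • α)
    change n • α = g • α at hn'
    have hh : (n⁻¹ * g) • α = α := by rw [mul_smul, ← hn', inv_smul_smul]
    have h1 := inv _ hh l hl
    have hc : n * (n⁻¹ * g * l * (n⁻¹ * g)⁻¹) = (n⁻¹ * g * l * (n⁻¹ * g)⁻¹) * n :=
      congrArg Subtype.val (hNc.is_comm.comm (⟨n, hn⟩ : N) ⟨_, hLN h1⟩)
    have : g * l * g⁻¹ = n⁻¹ * g * l * (n⁻¹ * g)⁻¹ := by
      calc g * l * g⁻¹ = n * (n⁻¹ * g * l * (n⁻¹ * g)⁻¹) * n⁻¹ := by group
        _ = _ := by rw [hc, mul_inv_cancel_right]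
    rwa [this]
  have hfix : MulAction.fixedPoints L Ω ≠ Set.univ := by
    intro h
    refine hL ((Subgroup.eq_bot_iff_forall L).2 fun l hl => inj l (hLN hl) 1 N.one_mem ?_)
    rw [one_smul]
    exact (h ▸ Set.mem_univ α : α ∈ MulAction.fixedPoints L Ω) ⟨l, hl⟩
  haveI := MulAction.IsQuasiPreprimitive.isPretransitive_of_normal (G := G) (X := Ω) hfix
  refine le_antisymm hLN fun n hn => ?_
  obtain ⟨⟨l, hl⟩, hl'⟩ := MulAction.exists_smul_eq L α (n • α)
  rwa [inj n hn l (hLN hl) hl'.symm]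

end Cfsg.Agent.S3495
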