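import Cfsg.Statements.S3496
import Cfsg.Agent.ExtPrim.Stabilizer
import Cfsg.Agent.MinNormal.Action
import Cfsg.Agent.Solvable.Basic
import Cfsg.Agent.S3495

set_option autoImplicit false
open Cfsg

namespace Cfsg.Agent.S3496

/-- An abelian group acting faithfully and irreducibly on a finite abelian `p`-group `V` of order
`p ^ d` embeds in the multiplicative group of a field with `p ^ d` elements, and the group
normalising it permutes that field by automorphisms. -/
private theorem irreducible_abelian {p d : ℕ} [Fact p.Prime] (hd : 0 < d) {V : Type*} [AddCommGroup V]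
    [Finite V] (hV : Nat.card V = p ^ d) (hp : ∀ v : V, p • v = 0) {K : Type*} [Group K] [Finite K]
    (f : K →* AddMonoid.End V) (hf : Function.Injective f) (A : Subgroup K) [hAn : A.Normal]
    (hAc : ∀ a ∈ A, ∀ b ∈ A, a * b = b * a)
    (hirr : ∀ W : AddSubgroup V, (∀ a ∈ A, ∀ w ∈ W, f a w ∈ W) → W = ⊥ ∨ W = ⊤) :
    IsCyclic A ∧ Nat.card A ∣ p ^ d - 1 ∧ (∀ i, 0 < i → i < d → ¬ Nat.card A ∣ p ^ i - 1) ∧
    ∀ C : Subgroup K, (∀ c ∈ C, (∀ a ∈ A, c * a = a * c) → c = 1) → IsCyclic C ∧ Nat.card C ∣ d := by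
  classical
  haveI : Nontrivial V := Finite.one_lt_card_iff_nontrivial.1 (by
    rw [hV]; exact Nat.one_lt_pow hd.ne' (Fact.out : p.Prime).one_lt)
  haveI : Finite (AddMonoid.End V) := Finite.of_injective
    (fun g : AddMonoid.End V => (g : V → V)) DFunLike.coe_injective
  set R := Subring.closure (f '' (A : Set K)) with hR
  have hgen : ∀ a ∈ A, f a ∈ R := fun a ha => Subring.subset_closure ⟨a, ha, rfl⟩
  have hcommgen : ∀ x ∈ f '' (A : Set K), ∀ y ∈ f '' (A : Set K), x * y = y * x := by
    rintro _ ⟨a, ha, rfl⟩ _ ⟨b, hb, rfl⟩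
    rw [← map_mul, ← map_mul, hAc a ha b hb]
  haveI : IsMulCommutative R := Subring.isMulCommutative_closure hcommgen
  have hcomm : ∀ x y : R, x * y = y * x := fun x y => IsMulCommutative.is_comm.comm x y
  letI : CommRing R := { (inferInstance : Ring R) with mul_comm := hcomm }
  -- nonzero elements are injective
  have hinj : ∀ r : R, r ≠ 0 → Function.Injective (r : AddMonoid.End V) := by
    intro r hr
    let W : AddSubgroup V := AddMonoidHom.ker (r : AddMonoid.End V)
    have hW : ∀ a ∈ A, ∀ w ∈ W, f a w ∈ W := fun a ha w hw => by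
      show (r : AddMonoid.End V) (f a w) = 0
      have e : (r : AddMonoid.End V) * f a = f a * (r : AddMonoid.End V) :=
        congrArg Subtype.val (hcomm r ⟨f a, hgen a ha⟩)
      have e' := DFunLike.congr_fun e w
      change (r : AddMonoid.End V) (f a w) = f a ((r : AddMonoid.End V) w) at e'
      rw [e', show (r : AddMonoid.End V) w = 0 from hw, map_zero]
    rcases hirr W hW with h | h
    · exact (AddMonoidHom.ker_eq_bot_iff (r : AddMonoid.End V)).1 h
    · refine absurd (Subtype.ext (DFunLike.ext _ _ fun v => ?_)) hr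
      exact (h ▸ AddSubgroup.mem_top v : v ∈ W)
  haveI : Nontrivial R := ⟨⟨0, 1, fun h => by
    obtain ⟨v, hv⟩ := exists_ne (0 : V)
    exact hv (DFunLike.congr_fun (congrArg Subtype.val h : (0 : AddMonoid.End V) = 1) v).symm⟩⟩
  haveI : NoZeroDivisors R := ⟨fun {x y} h => or_iff_not_imp_left.2 fun hx =>
    Subtype.ext (DFunLike.ext _ _ fun v => hinj x hx (by
      have h' := DFunLike.congr_fun (congrArg Subtype.val h) v
      change (x : AddMonoid.End V) ((y : AddMonoid.End V) v) = 0 at h'
      rw [h']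
      exact (map_zero (x : AddMonoid.End V)).symm))⟩
  haveI : IsDomain R := NoZeroDivisors.to_isDomain R
  letI : Field R := (Finite.isField_of_domain R).toField
  -- `R` has the size of `V`
  obtain ⟨v₀, hv₀⟩ := exists_ne (0 : V)
  have hcard : Nat.card R = p ^ d := by
    let e : R →+ V := AddMonoidHom.mk' (fun r => (r : AddMonoid.End V) v₀) (fun _ _ => rfl)
    have he : Function.Injective e := by
      rw [injective_iff_map_eq_zero]
      intro r hr
      by_contra hne
      exact hv₀ (hinj r hne ((show (r : AddMonoid.End V) v₀ = 0 from hr).trans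
        (map_zero (r : AddMonoid.End V)).symm))
    have hsurj : Function.Surjective e := by
      rcases hirr e.range (fun a ha w hw => by
        obtain ⟨r, rfl⟩ := hw
        exact ⟨⟨f a, hgen a ha⟩ * r, rfl⟩) with h | h
      · refine absurd ?_ hv₀
        have h1 : v₀ ∈ e.range := ⟨1, rfl⟩
        rwa [h, AddSubgroup.mem_bot] at h1
      · exact fun v => (h ▸ AddSubgroup.mem_top v : v ∈ e.range)
    rw [Nat.card_congr (Equiv.ofBijective e ⟨he, hsurj⟩), hV]
  haveI hchar : CharP R p := by
    refine (CharP.charP_iff_prime_eq_zero Fact.out).2 (Subtype.ext (DFunLike.ext _ _ fun v => ?_))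
    show (((p : R) : AddMonoid.End V)) v = 0
    rw [show (((p : R) : AddMonoid.End V)) = (p : AddMonoid.End V) from map_natCast R.subtype p,
      AddMonoid.End.natCast_apply]
    exact hp v
  -- the group embeds in the units
  let ι : A →* R := { toFun := fun a => ⟨f (a : K), hgen a a.2⟩
                      map_one' := Subtype.ext (map_one f)
                      map_mul' := fun a b => Subtype.ext (map_mul f (a : K) (b : K)) }
  have hι : Function.Injective ι := fun a b h => Subtype.ext (hf (congrArg Subtype.val h :))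
  have hcyc : IsCyclic A := isCyclic_of_injective_ringHom ι hι
  haveI : Finite R := inferInstance
  have hunits : Nat.card A ∣ p ^ d - 1 := by
    have hu := Subgroup.card_dvd_of_injective ι.toHomUnits
      (fun a b h => hι (congrArg Units.val h))
    rwa [Nat.card_units, hcard] at hu
  have hmin : ∀ i, 0 < i → i < d → ¬ Nat.card A ∣ p ^ i - 1 := by
    intro i hi hid hdvd
    cases nonempty_fintype R
    have hpi : 0 < p ^ i := pow_pos (Fact.out : p.Prime).pos i
    have hall : ∀ r : R, r ^ (p ^ i) = r := by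
      rintro ⟨r, hr⟩
      induction hr using Subring.closure_induction with
      | mem x hx =>
        obtain ⟨a, ha, rfl⟩ := hx
        have h1 : (⟨a, ha⟩ : A) ^ (p ^ i - 1) = 1 := by
          obtain ⟨k, hk⟩ := hdvd
          rw [hk, pow_mul, pow_card_eq_one', one_pow]
        have h2 : ι ⟨a, ha⟩ ^ (p ^ i) = ι ⟨a, ha⟩ := by
          rw [← map_pow, show (⟨a, ha⟩ : A) ^ (p ^ i) = ⟨a, ha⟩ by
            rw [show p ^ i = p ^ i - 1 + 1 by omega, pow_succ, h1, one_mul]]
        exact h2
      | zero => exact zero_pow hpi.ne'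
      | one => exact one_pow _
      | add x y hx hy ihx ihy =>
        show ((⟨x, hx⟩ : R) + ⟨y, hy⟩) ^ (p ^ i) = ⟨x, hx⟩ + ⟨y, hy⟩
        rw [add_pow_char_pow, ihx, ihy]
      | neg x hx ihx =>
        show (-(⟨x, hx⟩ : R)) ^ (p ^ i) = -⟨x, hx⟩
        have h := sub_pow_char_pow (n := i) (p := p) (0 : R) ⟨x, hx⟩
        rwa [zero_sub, zero_pow hpi.ne', zero_sub, ihx] at h
      | mul x y hx hy ihx ihy =>
        show ((⟨x, hx⟩ : R) * ⟨y, hy⟩) ^ (p ^ i) = ⟨x, hx⟩ * ⟨y, hy⟩
        rw [mul_pow, ihx, ihy]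
    open Polynomial in
    have hle : (Finset.univ : Finset R).card ≤ (X ^ (p ^ i) - X : R[X]).natDegree :=
      card_le_degree_of_subset_roots fun r _ => by
        rw [mem_roots (FiniteField.X_pow_card_pow_sub_X_ne_zero R hi.ne' (Fact.out : p.Prime).one_lt)]
        simp [IsRoot, hall r]
    rw [FiniteField.X_pow_card_pow_sub_X_natDegree_eq R hi.ne' (Fact.out : p.Prime).one_lt,
      Finset.card_univ, ← Nat.card_eq_fintype_card, hcard] at hle
    exact absurd hle (not_le.2 (Nat.pow_lt_pow_right (Fact.out : p.Prime).one_lt hid))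
  refine ⟨hcyc, hunits, hmin, fun C hC => ?_⟩
  letI : Algebra (ZMod p) R := ZMod.algebra R p
  -- `C` acts on `R` by conjugation
  have hconjR : ∀ c : K, ∀ r ∈ R, f c * r * f c⁻¹ ∈ R := by
    intro c r hr
    have hcc : f c⁻¹ * f c = 1 := by rw [← map_mul, inv_mul_cancel, map_one]
    have hcc' : f c * f c⁻¹ = 1 := by rw [← map_mul, mul_inv_cancel, map_one]
    induction hr using Subring.closure_induction with
    | mem x hx =>
      obtain ⟨a, ha, rfl⟩ := hx
      rw [← map_mul, ← map_mul]
      exact hgen _ (hAn.conj_mem a ha c)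
    | zero => simp
    | one => rw [mul_one, hcc']; exact R.one_mem
    | add x y _ _ ihx ihy => rw [mul_add, add_mul]; exact R.add_mem ihx ihy
    | neg x _ ihx => rw [mul_neg, neg_mul]; exact R.neg_mem ihx
    | mul x y _ _ ihx ihy =>
      have : f c * (x * y) * f c⁻¹ = f c * x * f c⁻¹ * (f c * y * f c⁻¹) := by
        calc f c * (x * y) * f c⁻¹ = f c * x * 1 * y * f c⁻¹ := by rw [mul_one, mul_assoc (f c) x y]
          _ = _ := by rw [← hcc]; simp only [mul_assoc]
      rw [this]
      exact R.mul_mem ihx ihy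
  let σ : C → (R →+* R) := fun c =>
    { toFun := fun r => ⟨f (c : K) * r * f (c : K)⁻¹, hconjR c r r.2⟩
      map_one' := Subtype.ext (by
        show f (c : K) * 1 * f (c : K)⁻¹ = 1
        rw [mul_one, ← map_mul, mul_inv_cancel, map_one])
      map_mul' := fun x y => Subtype.ext (by
        show f (c : K) * ((x : AddMonoid.End V) * y) * f (c : K)⁻¹ =
          f (c : K) * x * f (c : K)⁻¹ * (f (c : K) * y * f (c : K)⁻¹)
        have hcc : f (c : K)⁻¹ * f (c : K) = 1 := by rw [← map_mul, inv_mul_cancel, map_one]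
        simp only [mul_assoc]
        rw [← mul_assoc (f (c : K)⁻¹) (f (c : K)), hcc, one_mul])
      map_zero' := Subtype.ext (by
        show f (c : K) * 0 * f (c : K)⁻¹ = 0
        rw [mul_zero, zero_mul])
      map_add' := fun x y => Subtype.ext (by
        show f (c : K) * ((x : AddMonoid.End V) + y) * f (c : K)⁻¹ =
          f (c : K) * x * f (c : K)⁻¹ + f (c : K) * y * f (c : K)⁻¹
        rw [mul_add, add_mul]) }
  let γ : C →* (R →ₐ[ZMod p] R) :=
    { toFun := fun c => ⟨σ c, fun z =>
        RingHom.congr_fun (Subsingleton.elim ((σ c).comp (algebraMap (ZMod p) R)) (algebraMap (ZMod p) R)) z⟩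
      map_one' := AlgHom.ext fun r => Subtype.ext (by
        show f ((1 : C) : K) * (r : AddMonoid.End V) * f ((1 : C) : K)⁻¹ = r
        rw [OneMemClass.coe_one, inv_one, map_one, one_mul, mul_one])
      map_mul' := fun a b => AlgHom.ext fun r => Subtype.ext (by
        show f ((a * b : C) : K) * (r : AddMonoid.End V) * f ((a * b : C) : K)⁻¹ =
          f (a : K) * (f (b : K) * r * f (b : K)⁻¹) * f (a : K)⁻¹
        rw [Subgroup.coe_mul, mul_inv_rev, map_mul, map_mul]
        simp only [mul_assoc]) }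
  let γ' : C →* (R ≃ₐ[ZMod p] R) :=
    (AlgEquiv.algHomUnitsEquiv (ZMod p) R).toMonoidHom.comp γ.toHomUnits
  have hγ : Function.Injective γ' := by
    rw [← MonoidHom.ker_eq_bot_iff, Subgroup.eq_bot_iff_forall]
    intro c hc
    rw [MonoidHom.mem_ker] at hc
    refine Subtype.ext (hC c c.2 fun a ha => hf ?_)
    have h1 := AlgEquiv.ext_iff.1 hc ⟨f a, hgen a ha⟩
    have h2 : f (c : K) * f a * f (c : K)⁻¹ = f a := congrArg Subtype.val h1
    rw [map_mul, map_mul]
    conv_rhs => rw [← h2]
    rw [mul_assoc, ← map_mul f (c : K)⁻¹, inv_mul_cancel, map_one, mul_one]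
  refine ⟨isCyclic_of_injective γ' hγ, ?_⟩
  have hfr : Module.finrank (ZMod p) R = d := Nat.pow_right_injective (Fact.out : p.Prime).two_le
    ((FiniteField.pow_finrank_eq_natCard p R).trans hcard)
  have := Subgroup.card_dvd_of_injective γ' hγ
  rwa [IsGalois.card_aut_eq_finrank, hfr] at this


/-- The soluble extremely primitive groups. Let a finite solvable group G act faithfully and primitively on a finite set Ω with p ^ d points (p prime), with non-trivial point stabilizers each acting primitively on every one of its orbits. Then there is a prime q such that every orbit of a point stabilizer G_α other than {α} has exactly q points, q divides p ^ d − 1 but no p ^ i − 1 with 0 < i < d, and G_α has a normal subgroup T of order q with G_α generated by T and one further element and the order of G_α dividing q·d (so G_α is cyclic of order q, or an extension of T by a cyclic group of order dividing d). -/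
theorem result {G : Type*} [Group G] [Finite G] {Ω : Type*} [Fintype Ω] [MulAction G Ω] [FaithfulSMul G Ω] [Group.IsSolvable G] (p d : ℕ) (hp : p.Prime) (hcard : Fintype.card Ω = p ^ d)
    (hprim : MulAction.IsPreprimitive G Ω) (hH : ∀ α : Ω, MulAction.stabilizer G α ≠ ⊥) (hep : ∀ (α : Ω) (ω : Ω), MulAction.IsPreprimitive (MulAction.stabilizer G α) (MulAction.orbit (MulAction.stabilizer G α) ω)) (α : Ω) :
    ∃ q : ℕ, q.Prime ∧ (∀ ω : Ω, ω ≠ α → Nat.card (MulAction.orbit (MulAction.stabilizer G α) ω) = q) ∧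
      q ∣ p ^ d - 1 ∧ (∀ i : ℕ, 0 < i → i < d → ¬ q ∣ p ^ i - 1) ∧
      ∃ T : Subgroup G, T ≤ MulAction.stabilizer G α ∧ MulAction.stabilizer G α ≤ Subgroup.normalizer (T : Set G) ∧ Nat.card T = q ∧
        (∃ h : G, MulAction.stabilizer G α = T ⊔ Subgroup.zpowers h) ∧ Nat.card (MulAction.stabilizer G α) ∣ q * d := by
  classical
  haveI := hprim
  haveI := Fact.mk hp
  set S := MulAction.stabilizer G α with hS
  obtain ⟨ω, hω⟩ := CfsgLib.ExtPrim.exists_ne (hH α)
  have hd : 0 < d := by
    by_contra h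
    rw [Nat.le_zero.1 (not_lt.1 h), pow_zero] at hcard
    haveI := Fintype.card_le_one_iff_subsingleton.1 hcard.le
    exact hω (Subsingleton.elim _ _)
  have hGne : (⊤ : Subgroup G) ≠ ⊥ := fun h => hH α ((Subgroup.eq_bot_iff_forall _).2 fun x _ =>
    Subgroup.mem_bot.1 (h ▸ Subgroup.mem_top x))
  obtain ⟨N, hN, -⟩ := CfsgLib.MinNormal.exists_isMinNormal_le (⊤ : Subgroup G) hGne
  haveI := hN.normal
  haveI hNtr : MulAction.IsPretransitive N Ω := CfsgLib.MinNormal.isPretransitive_of_ne_bot hN.ne_bot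
  have hNc := CfsgLib.Solvable.isMulCommutative_of_minimal_normal hN.ne_bot hN.minimal
  have hNreg : ∀ x : Ω, MulAction.stabilizer N x = ⊥ := fun x =>
    (Subgroup.eq_bot_iff_forall _).2 fun n hn => Subtype.ext
      (CfsgLib.MinNormal.eq_one_of_fix_of_commute
        (fun m hm => congrArg Subtype.val (hNc.is_comm.comm n ⟨m, hm⟩)) hn)
  have hNinj : Function.Injective (fun n : N => (n : G) • α) := by
    intro a b hab
    have h1 : b⁻¹ * a ∈ MulAction.stabilizer N α := by
      show ((b : G)⁻¹ * a) • α = α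
      rw [mul_smul, show (a : G) • α = (b : G) • α from hab, inv_smul_smul]
    rw [hNreg, Subgroup.mem_bot] at h1
    exact (inv_mul_eq_one.1 h1).symm
  have hcN : Nat.card N = p ^ d := by
    rw [Nat.card_congr (Equiv.ofBijective _ ⟨hNinj, fun x => MulAction.exists_smul_eq N α x⟩),
      Nat.card_eq_fintype_card, hcard]
  obtain ⟨r, hr, hNr⟩ := CfsgLib.Solvable.exists_prime_pow_eq_one_of_minimal_normal hN.ne_bot hN.minimal
  have hrp : r = p := by
    haveI := Fact.mk hr
    obtain ⟨x, hx⟩ := exists_prime_orderOf_dvd_card' (G := N) p (hcN ▸ dvd_pow_self p hd.ne')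
    have h1 : orderOf x ∣ r := orderOf_dvd_of_pow_eq_one (Subtype.ext (hNr x x.2))
    rw [hx] at h1
    exact ((Nat.prime_dvd_prime_iff_eq hp hr).1 h1).symm
  subst hrp
  -- a minimal normal subgroup of the stabiliser
  haveI : Nontrivial S := (Subgroup.nontrivial_iff_ne_bot S).2 (hH α)
  obtain ⟨A, hAn, hAne, hAmin⟩ := CfsgLib.Solvable.exists_minimal_normal (G := S)
  haveI := hAn
  have hAc := CfsgLib.Solvable.mul_comm_of_minimal_normal hAne hAmin
  obtain ⟨q, hq, hAq⟩ := CfsgLib.Solvable.exists_prime_pow_eq_one_of_minimal_normal hAne hAmin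
  haveI := Fact.mk hq
  set M := A.map S.subtype with hMdef
  have hMle : M ≤ S := Subgroup.map_subtype_le _
  have hMne : M ≠ ⊥ := fun h =>
    hAne ((Subgroup.map_eq_bot_iff_of_injective _ S.subtype_injective).1 h)
  have hMn : S ≤ Subgroup.normalizer (M : Set G) :=
    CfsgLib.MinNormal.le_normalizer_of_conj_mem (by
      rintro l hl _ ⟨a, ha, rfl⟩
      exact ⟨⟨l, hl⟩ * a * ⟨l, hl⟩⁻¹, hAn.conj_mem a ha _, rfl⟩)
  have hMc : IsMulCommutative M := by
    refine ⟨⟨?_⟩⟩
    rintro ⟨_, a, ha, rfl⟩ ⟨_, b, hb, rfl⟩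
    exact Subtype.ext (show (a : G) * b = b * a from congrArg Subtype.val (hAc a ha b hb))
  -- the action of the stabiliser on `N`
  letI : CommGroup N := { (inferInstance : Group N) with mul_comm := hNc.is_comm.comm }
  let f : S →* AddMonoid.End (Additive N) :=
    { toFun := fun h => MonoidHom.toAdditive (MulAut.conjNormal (h : G) : MulAut N).toMonoidHom
      map_one' := DFunLike.ext _ _ fun v => by
        show Additive.ofMul (MulAut.conjNormal ((1 : S) : G) v.toMul) = v
        simp
      map_mul' := fun a b => DFunLike.ext _ _ fun v => by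
        show Additive.ofMul (MulAut.conjNormal ((a * b : S) : G) v.toMul) =
          Additive.ofMul (MulAut.conjNormal (a : G) (MulAut.conjNormal (b : G) v.toMul))
        simp }
  have hf : Function.Injective f := by
    intro a b hab
    refine Subtype.ext ?_
    have h1 : ((b : G)⁻¹ * a) = 1 := by
      refine CfsgLib.MinNormal.eq_one_of_fix_of_commute (N := N) (fun n hn => ?_)
        (S.mul_mem (S.inv_mem b.2) a.2 : (b : G)⁻¹ * a ∈ S)
      have h2 : (a : G) * n * (a : G)⁻¹ = (b : G) * n * (b : G)⁻¹ := congrArg Subtype.val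
        (congrArg Additive.toMul (DFunLike.congr_fun hab (Additive.ofMul (⟨n, hn⟩ : N))))
      calc (b : G)⁻¹ * a * n = (b : G)⁻¹ * ((a : G) * n * (a : G)⁻¹) * a := by group
        _ = (b : G)⁻¹ * ((b : G) * n * (b : G)⁻¹) * a := by rw [h2]
        _ = n * ((b : G)⁻¹ * a) := by group
    exact (inv_mul_eq_one.1 h1).symm
  have hirr : ∀ W : AddSubgroup (Additive N), (∀ a ∈ A, ∀ w ∈ W, f a w ∈ W) → W = ⊥ ∨ W = ⊤ := by
    intro W hW
    let L : Subgroup G :=
      { carrier := {x | ∃ hx : x ∈ N, Additive.ofMul (⟨x, hx⟩ : N) ∈ W}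
        one_mem' := ⟨N.one_mem, W.zero_mem⟩
        mul_mem' := by
          rintro a b ⟨ha, ha'⟩ ⟨hb, hb'⟩
          exact ⟨N.mul_mem ha hb, W.add_mem ha' hb'⟩
        inv_mem' := by
          rintro a ⟨ha, ha'⟩
          exact ⟨N.inv_mem ha, W.neg_mem ha'⟩ }
    have hML : M ≤ Subgroup.normalizer (L : Set G) :=
      CfsgLib.MinNormal.le_normalizer_of_conj_mem (by
        rintro _ ⟨a, ha, rfl⟩ x ⟨hx, hxW⟩
        exact ⟨hN.normal.conj_mem x hx _, hW a ha _ hxW⟩)
    rcases (Cfsg.Agent.S3495.result hprim hH hep N hNc r hp hNr hNtr hNreg α M hMne hMle hMn).2 L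
      (fun x hx => hx.1) hML with h | h
    · left
      refine (AddSubgroup.eq_bot_iff_forall W).2 fun w hw => ?_
      have h1 : ((w.toMul : N) : G) ∈ L := ⟨w.toMul.2, hw⟩
      rw [h, Subgroup.mem_bot] at h1
      exact Additive.toMul.injective (Subtype.ext h1)
    · right
      refine eq_top_iff.2 fun w _ => ?_
      have h1 : ((w.toMul : N) : G) ∈ L := by
        rw [h]
        exact w.toMul.2
      obtain ⟨hx, hxW⟩ := h1
      exact hxW
  obtain ⟨hcyc, hdvd, hmin, hC⟩ := irreducible_abelian (p := r) hd (V := Additive N)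
    (by rw [Nat.card_congr Additive.toMul, hcN])
    (fun v => Additive.toMul.injective (Subtype.ext (hNr _ v.toMul.2))) f hf A hAc hirr
  have hAcard : Nat.card A = q := by
    haveI := hcyc
    obtain ⟨g, hg⟩ := IsCyclic.exists_generator (α := A)
    have hgo : orderOf g = Nat.card A := orderOf_eq_card_of_forall_mem_zpowers hg
    have h1 : orderOf g ∣ q := orderOf_dvd_of_pow_eq_one (Subtype.ext (hAq g g.2))
    rcases (Nat.dvd_prime hq).1 h1 with h | h
    · exact absurd (Subgroup.card_eq_one.1 (hgo ▸ h)) hAne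
    · rw [← hgo, h]
  have hMcard : Nat.card M = q := by
    rw [hMdef, Subgroup.card_map_of_injective S.subtype_injective, hAcard]
  rw [hAcard] at hdvd hmin
  refine ⟨q, hq, fun x hx => (CfsgLib.ExtPrim.card_suborbit hH hep hMne hMle hMn hMc hx).trans hMcard,
    hdvd, hmin, M, hMle, hMn, hMcard, ?_⟩
  -- the complement
  set C := MulAction.stabilizer S ω with hCdef
  have hCfaith : ∀ c ∈ C, (∀ a ∈ A, c * a = a * c) → c = 1 := by
    intro c hc hca
    refine Subtype.ext (CfsgLib.ExtPrim.eq_one_of_commute_of_fix hH hep hMne hMle hMn c.2 ?_ hω hc)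
    rintro _ ⟨a, ha, rfl⟩
    exact congrArg Subtype.val (hca a ha)
  obtain ⟨hCcyc, hCd⟩ := hC C hCfaith
  haveI := hCcyc
  obtain ⟨h, hh⟩ := IsCyclic.exists_generator (α := C)
  refine ⟨⟨((h : S) : G), ?_⟩, ?_⟩
  · refine le_antisymm (fun x hx => ?_) (sup_le hMle (Subgroup.zpowers_le.2 (h : S).2))
    have h1 : x • ω ∈ MulAction.orbit M ω := by
      rw [CfsgLib.ExtPrim.orbit_eq hH hep hMne hMle hMn ω]
      exact ⟨⟨x, hx⟩, rfl⟩
    obtain ⟨⟨m, hm⟩, hm'⟩ := h1
    change m • ω = x • ω at hm'
    have hc : (⟨m⁻¹ * x, S.mul_mem (S.inv_mem (hMle hm)) hx⟩ : S) ∈ C := by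
      show (m⁻¹ * x) • ω = ω
      rw [mul_smul, ← hm', inv_smul_smul]
    obtain ⟨k, hk⟩ := hh ⟨_, hc⟩
    have hk' : ((h : S) : G) ^ k = m⁻¹ * x := by
      have := congrArg (fun z : C => ((z : S) : G)) hk
      simpa using this
    rw [show x = m * ((h : S) : G) ^ k by rw [hk', mul_inv_cancel_left]]
    exact Subgroup.mul_mem_sup hm (Subgroup.zpow_mem_zpowers _ k)
  · rw [← Subgroup.card_mul_index C, hCdef, MulAction.index_stabilizer, ← Nat.card_coe_set_eq,
      CfsgLib.ExtPrim.card_suborbit hH hep hMne hMle hMn hMc hω, hMcard, mul_comm]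
    exact Nat.mul_dvd_mul_left q hCd

end Cfsg.Agent.S3496
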