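import Cfsg.Statements.S3497
import Cfsg.Agent.ExtPrim.Stabilizer
import Cfsg.Agent.Solvable.Fitting

set_option autoImplicit false
open Cfsg

namespace Cfsg.Agent.S3497

private theorem exists_mulAut_embedding {p : ℕ} [Fact p.Prime] {V : Type*} [AddCommGroup V]
    [Module (ZMod p) V] [Finite V] {e : ℕ} (he : Nat.card V = p ^ e) {K : Type*} [Group K]
    (f : K → V →+ V) (h1 : ∀ v, f 1 v = v) (hmul : ∀ a b v, f (a * b) v = f a (f b v)) :
    ∃ φ : K →* GL (Fin e) (ZMod p), ∀ k, φ k = 1 ↔ ∀ v, f k v = v := by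
  have hfr : Module.finrank (ZMod p) V = e := Nat.pow_right_injective (Fact.out : p.Prime).two_le
    ((FiniteField.pow_finrank_eq_natCard p V).trans he)
  let b := Module.finBasisOfFinrankEq (ZMod p) V hfr
  let ψ : K →* Module.End (ZMod p) V :=
    { toFun := fun k => (f k).toZModLinearMap p
      map_one' := LinearMap.ext h1
      map_mul' := fun a c => LinearMap.ext (hmul a c) }
  refine ⟨(Matrix.GeneralLinearGroup.toLin' b).symm.toMonoidHom.comp ψ.toHomUnits, fun k => ?_⟩
  show (Matrix.GeneralLinearGroup.toLin' b).symm (ψ.toHomUnits k) = 1 ↔ _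
  rw [MulEquiv.map_eq_one_iff, Units.ext_iff, MonoidHom.coe_toHomUnits]
  exact ⟨fun h v => LinearMap.congr_fun h v, fun h => LinearMap.ext h⟩


/-- Restrictions on the point stabilizer of an extremely primitive group. Let a finite group G act faithfully and primitively on a finite set Ω with point stabilizers H = G_α whose order is neither 1 nor a prime, each acting primitively on every one of its orbits. Then H has trivial center, the Fitting subgroup F(H) is an elementary abelian p-group for some prime p, and if F(H) ≠ 1 has order p ^ e then p ^ e divides the number of points minus one and H / F(H) embeds in GL_e(p) (there is a homomorphism from H to GL_e(p) with kernel exactly F(H)). -/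
theorem result {G : Type*} [Group G] [Finite G] {Ω : Type*} [Fintype Ω] [MulAction G Ω] [FaithfulSMul G Ω] (hprim : MulAction.IsPreprimitive G Ω) (hep : ∀ (α : Ω) (ω : Ω), MulAction.IsPreprimitive (MulAction.stabilizer G α) (MulAction.orbit (MulAction.stabilizer G α) ω)) (α : Ω)
    (hH1 : MulAction.stabilizer G α ≠ ⊥) (hHp : ¬ (Nat.card (MulAction.stabilizer G α)).Prime) :
    Subgroup.center (MulAction.stabilizer G α) = ⊥ ∧
    IsMulCommutative (Cfsg.fittingSubgroup (MulAction.stabilizer G α)) ∧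
    ∃ p e : ℕ, p.Prime ∧ Nat.card (Cfsg.fittingSubgroup (MulAction.stabilizer G α)) = p ^ e ∧
      (∀ x ∈ Cfsg.fittingSubgroup (MulAction.stabilizer G α), x ^ p = 1) ∧
      (Cfsg.fittingSubgroup (MulAction.stabilizer G α) ≠ ⊥ →
        p ^ e ∣ Fintype.card Ω - 1 ∧
        ∃ φ : MulAction.stabilizer G α →* GL (Fin e) (ZMod p), φ.ker = Cfsg.fittingSubgroup (MulAction.stabilizer G α)) := by
  classical
  haveI := hprim
  set H := MulAction.stabilizer G α with hH
  have hne : ∀ β : Ω, MulAction.stabilizer G β ≠ ⊥ := by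
    intro β h
    obtain ⟨g, rfl⟩ := MulAction.exists_smul_eq G α β
    rw [MulAction.stabilizer_smul_eq_stabilizer_map_conj,
      Subgroup.map_eq_bot_iff_of_injective _ (MulAut.conj g).injective] at h
    exact hH1 h
  obtain ⟨ω, hω⟩ := CfsgLib.ExtPrim.exists_ne (hne α)
  -- transport of normal subgroups of `H`
  have hdown : ∀ K : Subgroup H, [K.Normal] →
      H ≤ Subgroup.normalizer ((K.map H.subtype : Subgroup G) : Set G) := by
    intro K hK h hh
    have key : ∀ g : H, ∀ y ∈ K.map H.subtype, (g : G) * y * (g : G)⁻¹ ∈ K.map H.subtype := by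
      rintro g _ ⟨k, hk, rfl⟩
      exact ⟨g * k * g⁻¹, hK.conj_mem k hk g, rfl⟩
    rw [Subgroup.mem_normalizer_iff]
    refine fun y => ⟨key ⟨h, hh⟩ y, fun hy => ?_⟩
    have := key ⟨h⁻¹, H.inv_mem hh⟩ _ hy
    simpa [mul_assoc] using this
  have hmapne : ∀ K : Subgroup H, K ≠ ⊥ → K.map H.subtype ≠ ⊥ := fun K hK h =>
    hK ((Subgroup.map_eq_bot_iff_of_injective _ H.subtype_injective).1 h)
  have hcentre : Subgroup.center H = ⊥ := by
    by_contra hz
    set Z := (Subgroup.center H).map H.subtype with hZ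
    have hstab : MulAction.stabilizer H ω = ⊥ := by
      refine (Subgroup.eq_bot_iff_forall _).2 fun h hh => Subtype.ext ?_
      refine CfsgLib.ExtPrim.eq_one_of_commute_of_fix hne hep (M := Z) (hmapne _ hz)
        (Subgroup.map_subtype_le _) (hdown _) h.2 ?_ hω hh
      rintro _ ⟨z, hz', rfl⟩
      exact congrArg Subtype.val (Subgroup.mem_center_iff.1 hz' h)
    haveI : Nontrivial (MulAction.orbit H ω) := by
      obtain ⟨h, hh, hmv⟩ := SetLike.not_le_iff_exists.1
        (CfsgLib.ExtPrim.stabilizer_ne (G := G) hω (hne α))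
      exact ⟨⟨⟨ω, MulAction.mem_orbit_self ω⟩, ⟨h • ω, ⟨⟨h, hh⟩, rfl⟩⟩,
        fun he => hmv (congrArg Subtype.val he).symm⟩⟩
    haveI := hep α ω
    have hc := (MulAction.isCoatom_stabilizer_iff_preprimitive (G := H) (X := MulAction.orbit H ω)
      (⟨ω, MulAction.mem_orbit_self ω⟩ : MulAction.orbit H ω)).2 inferInstance
    have heq : MulAction.stabilizer H (⟨ω, MulAction.mem_orbit_self ω⟩ : MulAction.orbit H ω) = ⊥ := by
      refine le_bot_iff.1 (le_of_le_of_eq ?_ hstab)
      intro h hh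
      exact congrArg Subtype.val hh
    rw [heq] at hc
    haveI : Nontrivial H := (Subgroup.nontrivial_iff_ne_bot H).2 hH1
    obtain ⟨q, hq, hqd⟩ := Nat.exists_prime_and_dvd (n := Nat.card H) Finite.one_lt_card.ne'
    haveI := Fact.mk hq
    obtain ⟨x, hx⟩ := exists_prime_orderOf_dvd_card' q hqd
    have htop : Subgroup.zpowers x = ⊤ := (hc.le_iff.1 bot_le).resolve_right fun h => by
      rw [Subgroup.zpowers_eq_bot] at h
      rw [h, orderOf_one] at hx
      exact hq.ne_one hx.symm
    exact hHp (by rw [← Subgroup.card_top, ← htop, Nat.card_zpowers, hx]; exact hq)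
  refine ⟨hcentre, ?_⟩
  set F := Cfsg.fittingSubgroup H with hFdef
  by_cases hF : F = ⊥
  · refine ⟨⟨⟨fun a b => ?_⟩⟩, 2, 0, Nat.prime_two, by rw [hF, Subgroup.card_bot, pow_zero],
      fun x hx => ?_, fun h => absurd hF h⟩
    · have : ∀ c : F, c = 1 := fun c => Subtype.ext (Subgroup.mem_bot.1 (hF ▸ c.2))
      rw [this a, this b]
    · rw [hF, Subgroup.mem_bot] at hx
      rw [hx, one_pow]
  haveI hFn : F.Normal := CfsgLib.Solvable.fittingSubgroup_normal
  haveI := CfsgLib.Solvable.fittingSubgroup_isNilpotent (G := H)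
  haveI : Nontrivial F := (Subgroup.nontrivial_iff_ne_bot F).2 hF
  set A : Subgroup H := (Subgroup.center F).map F.subtype with hA
  have hAne : A ≠ ⊥ := fun h => Group.IsNilpotent.center_ne_bot (G := F)
      ((Subgroup.map_eq_bot_iff_of_injective _ F.subtype_injective).1 h)
  haveI hAn : A.Normal := ConjAct.normal_of_characteristic_of_normal
  set M := A.map H.subtype with hMdef
  have hMc : IsMulCommutative M := by
    refine ⟨⟨?_⟩⟩
    rintro ⟨_, _, ⟨a, ha, rfl⟩, rfl⟩ ⟨_, _, ⟨b, -, rfl⟩, rfl⟩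
    exact Subtype.ext (congrArg (fun z : F => (((z : H)) : G)) (Subgroup.mem_center_iff.1 ha b).symm)
  have hFM : ∀ f : H, f ∈ F → ∀ m ∈ M, Commute (f : G) m := by
    rintro f hf _ ⟨_, ⟨a, ha, rfl⟩, rfl⟩
    exact congrArg (fun z : F => (((z : H)) : G)) (Subgroup.mem_center_iff.1 ha ⟨f, hf⟩)
  have hMle : M ≤ H := Subgroup.map_subtype_le _
  have hMne : M ≠ ⊥ := hmapne A hAne
  -- `F` is abelian
  have hFA : ∀ f : H, f ∈ F → f ∈ A := by
    intro f hf
    have := CfsgLib.ExtPrim.mem_of_commute hne hep hMne hMle (hdown A) hMc f.2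
      (fun m hm => hFM f hf m hm)
    obtain ⟨a, ha, hae⟩ := this
    rwa [← Subtype.ext hae]
  have hFc : ∀ a b : H, a ∈ F → b ∈ F → a * b = b * a := fun a b ha hb =>
    Subtype.ext (hFM a ha _ ⟨b, hFA b hb, rfl⟩).eq
  refine ⟨⟨⟨fun a b => Subtype.ext (hFc a b a.2 b.2)⟩⟩, ?_⟩
  obtain ⟨p, hp, hpd⟩ := Nat.exists_prime_and_dvd (n := Nat.card F) Finite.one_lt_card.ne'
  haveI := Fact.mk hp
  let E : Subgroup H :=
    { carrier := {x | x ∈ F ∧ x ^ p = 1}
      one_mem' := ⟨F.one_mem, one_pow p⟩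
      mul_mem' := fun {a b} ha hb => ⟨F.mul_mem ha.1 hb.1, by
        rw [(show Commute a b from hFc a b ha.1 hb.1).mul_pow, ha.2, hb.2, one_mul]⟩
      inv_mem' := fun {a} ha => ⟨F.inv_mem ha.1, by rw [inv_pow, ha.2, inv_one]⟩ }
  haveI : E.Normal := ⟨fun x hx g => ⟨hFn.conj_mem x hx.1 g, by
    rw [conj_pow, hx.2, mul_one, mul_inv_cancel]⟩⟩
  have hEne : E ≠ ⊥ := by
    obtain ⟨x, hx⟩ := exists_prime_orderOf_dvd_card' p hpd
    intro h
    have hxE : (x : H) ∈ E := ⟨x.2, by
      rw [← SubmonoidClass.coe_pow, ← hx, pow_orderOf_eq_one, OneMemClass.coe_one]⟩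
    rw [h, Subgroup.mem_bot] at hxE
    rw [show x = 1 from Subtype.ext hxE, orderOf_one] at hx
    exact hp.ne_one hx.symm
  have hEc : IsMulCommutative (E.map H.subtype) := by
    refine ⟨⟨?_⟩⟩
    rintro ⟨_, a, ha, rfl⟩ ⟨_, b, hb, rfl⟩
    exact Subtype.ext (show (a : G) * b = b * a from congrArg Subtype.val (hFc a b ha.1 hb.1))
  have hexp : ∀ x ∈ F, x ^ p = 1 := by
    intro f hf
    have := CfsgLib.ExtPrim.mem_of_commute hne hep (hmapne E hEne) (Subgroup.map_subtype_le _)
      (hdown E) hEc f.2 (by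
        rintro _ ⟨a, ha, rfl⟩
        exact congrArg Subtype.val (hFc f a hf ha.1))
    obtain ⟨a, ha, hae⟩ := this
    rw [← Subtype.ext hae]
    exact ha.2
  obtain ⟨e, he⟩ := IsPGroup.iff_card.1
    (show IsPGroup p F from fun x => ⟨1, Subtype.ext (by rw [pow_one]; exact hexp x x.2)⟩)
  refine ⟨p, e, hp, he, hexp, fun _ => ⟨?_, ?_⟩⟩
  · have hFM' : (F.map H.subtype) = M := by
      rw [hMdef]
      congr 1
      exact le_antisymm (fun x hx => hFA x hx) (Subgroup.map_subtype_le _)
    rw [← he, ← Nat.card_eq_fintype_card, ← Subgroup.card_map_of_injective H.subtype_injective, hFM']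
    exact CfsgLib.ExtPrim.card_dvd_sub_one hne hep hMne hMle (hdown A) hMc
  · letI : CommGroup F := { (inferInstance : Group F) with mul_comm := fun a b => Subtype.ext (hFc a b a.2 b.2) }
    letI : Module (ZMod p) (Additive F) :=
      AddCommGroup.zmodModule fun x => Additive.toMul.injective (Subtype.ext (hexp _ x.toMul.2))
    obtain ⟨φ, hφ⟩ := exists_mulAut_embedding (p := p) (V := Additive F)
      (by rw [Nat.card_congr Additive.toMul, he])
      (fun h : H => MonoidHom.toAdditive (MulAut.conjNormal h : MulAut F).toMonoidHom)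
      (fun v => by simp)
      (fun a b v => by simp)
    refine ⟨φ, ?_⟩
    ext h
    rw [MonoidHom.mem_ker, hφ]
    constructor
    · intro hv
      have hmem := CfsgLib.ExtPrim.mem_of_commute hne hep hMne hMle (hdown A) hMc h.2 (by
        rintro _ ⟨a, ha, rfl⟩
        have haF : a ∈ F := Subgroup.map_subtype_le _ ha
        have h1 : h * a * h⁻¹ = a := congrArg Subtype.val
          (congrArg Additive.toMul (hv (Additive.ofMul ⟨a, haF⟩)))
        exact congrArg Subtype.val (mul_inv_eq_iff_eq_mul.1 h1))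
      obtain ⟨a, ha, hae⟩ := hmem
      rw [← Subtype.ext hae]
      exact Subgroup.map_subtype_le _ ha
    · intro hh v
      refine Additive.toMul.injective (Subtype.ext ?_)
      show h * (v.toMul : H) * h⁻¹ = v.toMul
      rw [hFc h _ hh v.toMul.2, mul_inv_cancel_right]

end Cfsg.Agent.S3497
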