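import Cfsg.Statements.S3498

set_option autoImplicit false
open Cfsg

namespace Cfsg.Agent.S3498



/-- A maximal subgroup of a finite almost simple group does not have prime order. Here G is almost simple in the sense that it has a non-abelian simple normal subgroup T with trivial centralizer. -/
theorem result {G : Type*} [Group G] [Finite G] (T : Subgroup G) [T.Normal] (hT : IsSimpleGroup T) (hTc : ¬ IsMulCommutative T)
    (hC : Subgroup.centralizer (T : Set G) = ⊥) (H : Subgroup G) (hmax : IsCoatom H) : ¬ (Nat.card H).Prime := by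
  classical
  intro hp
  set p := Nat.card H with hpdef
  haveI := Fact.mk hp
  haveI := hT
  haveI : Nontrivial T := hT.toNontrivial
  -- `H` is not normal, hence self-normalizing
  have hnn : ¬ H.Normal := by
    intro hn
    rcases hT.eq_bot_or_eq_top_of_normal (H.subgroupOf T) inferInstance with h | h
    · have hd : Disjoint T H := by
        rw [disjoint_comm]; exact Subgroup.subgroupOf_eq_bot.1 h
      have : H ≤ Subgroup.centralizer (T : Set G) := fun x hx => by
        rw [Subgroup.mem_centralizer_iff]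
        exact fun t ht => Subgroup.commute_of_normal_of_disjoint T H inferInstance hn hd t x ht hx
      rw [hC, le_bot_iff] at this
      rw [hpdef, this, Subgroup.card_bot] at hp
      exact Nat.not_prime_one hp
    · have hle : T ≤ H := Subgroup.subgroupOf_eq_top.1 h
      haveI : IsCyclic H := isCyclic_of_prime_card hpdef.symm
      exact hTc ⟨⟨fun a b => Subtype.ext (congrArg Subtype.val
        (IsCyclic.commGroup.mul_comm ⟨a.1, hle a.2⟩ ⟨b.1, hle b.2⟩) :)⟩⟩
  have hNH : Subgroup.normalizer (H : Set G) = H := by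
    rcases hmax.le_iff.1 (Subgroup.le_normalizer (H := H)) with h | h
    · exact absurd (Subgroup.normalizer_eq_top_iff.1 h) hnn
    · exact h
  -- `H` is a Sylow subgroup
  obtain ⟨P, hHP⟩ := (IsPGroup.of_card (n := 1) (by rw [pow_one]) : IsPGroup p H).exists_le_sylow
  have hPH : (P : Subgroup G) = H := by
    by_contra hne
    haveI : Group.IsNilpotent P := P.isPGroup'.isNilpotent
    have hlt : H.subgroupOf P < ⊤ := lt_top_iff_ne_top.2 fun h =>
      hne (le_antisymm (Subgroup.subgroupOf_eq_top.1 h) hHP)
    obtain ⟨x, hx, hxn⟩ := SetLike.exists_of_lt (Group.normalizerCondition_of_isNilpotent _ hlt)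
    refine hxn (Subgroup.mem_subgroupOf.2 ?_)
    rw [← hNH, Subgroup.mem_normalizer_iff]
    intro h
    rw [Subgroup.mem_normalizer_iff] at hx
    constructor
    · intro hh
      simpa [Subgroup.mem_subgroupOf] using (hx ⟨h, hHP hh⟩).1 (by simpa [Subgroup.mem_subgroupOf] using hh)
    · intro hh
      have hhP : h ∈ (P : Subgroup G) := by
        have := P.mul_mem (P.mul_mem (P.inv_mem x.2) (hHP hh)) x.2
        simpa [mul_assoc] using this
      simpa [Subgroup.mem_subgroupOf] using (hx ⟨h, hhP⟩).2 (by simpa [Subgroup.mem_subgroupOf] using hh)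
  haveI : IsCyclic H := isCyclic_of_prime_card hpdef.symm
  have hPC : Subgroup.normalizer ((P : Subgroup G) : Set G) ≤ Subgroup.centralizer (P : Set G) := by
    rw [hPH, hNH]
    intro x hx
    rw [Subgroup.mem_centralizer_iff]
    intro y hy
    have hy' : y ∈ H := by rwa [← hPH]
    exact congrArg Subtype.val (IsCyclic.commGroup.mul_comm (⟨y, hy'⟩ : H) ⟨x, hx⟩)
  set φ := MonoidHom.transferSylow P hPC
  have hTK : T ≤ φ.ker := by
    rcases hT.eq_bot_or_eq_top_of_normal (φ.ker.subgroupOf T) inferInstance with h | h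
    · exfalso
      have hinj : Function.Injective (φ.comp T.subtype) := by
        rw [← MonoidHom.ker_eq_bot_iff, ← MonoidHom.comap_ker]
        exact h
      refine hTc ⟨⟨fun a b => hinj ?_⟩⟩
      have : ∀ u v : P, u * v = v * u := by
        rintro ⟨u, hu⟩ ⟨v, hv⟩
        have hu' : u ∈ H := by rw [← hPH]; exact hu
        have hv' : v ∈ H := by rw [← hPH]; exact hv
        exact Subtype.ext (congrArg Subtype.val
          (IsCyclic.commGroup.mul_comm (⟨u, hu'⟩ : H) ⟨v, hv'⟩) :)
      simp only [map_mul]
      exact this _ _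
    · exact Subgroup.subgroupOf_eq_top.1 h
  have hpT : ¬ p ∣ Nat.card T := fun h =>
    MonoidHom.not_dvd_card_ker_transferSylow P hPC (h.trans (Subgroup.card_dvd_of_le hTK))
  obtain ⟨q, hq, hqT⟩ := Nat.exists_prime_and_dvd (n := Nat.card T) Finite.one_lt_card.ne'
  haveI := Fact.mk hq
  obtain ⟨Q⟩ : Nonempty (Sylow q T) := inferInstance
  set Q' := (Q : Subgroup T).map T.subtype with hQ'
  have hfr := Sylow.normalizer_sup_eq_top Q
  rw [← hQ'] at hfr
  have hpN : p ∣ Nat.card (Subgroup.normalizer (Q' : Set G)) := by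
    have hpG : p ∣ Nat.card G := hpdef ▸ Subgroup.card_subgroup_dvd_card H
    rw [← Subgroup.index_mul_card T, hp.dvd_mul] at hpG
    have hidx := hpG.resolve_right hpT
    let ψ := (QuotientGroup.mk' T).comp (Subgroup.normalizer (Q' : Set G)).subtype
    have hsurj : Function.Surjective ψ := by
      rw [← MonoidHom.range_eq_top, MonoidHom.range_comp, Subgroup.range_subtype]
      have := congrArg (Subgroup.map (QuotientGroup.mk' T)) hfr
      rwa [Subgroup.map_sup, Subgroup.map_top_of_surjective _ (QuotientGroup.mk'_surjective T),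
        QuotientGroup.map_mk'_self, sup_bot_eq] at this
    exact hidx.trans (Subgroup.card_dvd_of_surjective ψ hsurj)
  obtain ⟨x, hx⟩ := exists_prime_orderOf_dvd_card' p hpN
  have hxo : orderOf (x : G) = p := by rwa [Subgroup.orderOf_coe]
  obtain ⟨R, hR⟩ := (IsPGroup.of_card (n := 1) (by rw [pow_one, Nat.card_zpowers, hxo]) :
    IsPGroup p (Subgroup.zpowers (x : G))).exists_le_sylow
  have hRx : (R : Subgroup G) = Subgroup.zpowers (x : G) := by
    refine (Subgroup.eq_of_le_of_card_ge hR ?_).symm
    rw [Nat.card_zpowers, hxo, Sylow.card_eq_multiplicity, ← Sylow.card_eq_multiplicity P, hPH]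
  obtain ⟨g, hg⟩ := MulAction.exists_smul_eq G R P
  have hRP : (R : Subgroup G).map (MulAut.conj g).toMonoidHom = H := by
    rw [← hPH, ← hg]; rfl
  set Q'' := Q'.map (MulAut.conj g).toMonoidHom with hQ''
  have hHQ : H ≤ Subgroup.normalizer (Q'' : Set G) := by
    rw [← hRP, hRx, hQ'']
    exact (Subgroup.map_mono ((Subgroup.zpowers_le).2 x.2)).trans (Subgroup.le_normalizer_map _)
  have hQT : Q'' ≤ T := by
    rintro _ ⟨_, ⟨t, -, rfl⟩, rfl⟩
    exact Subgroup.Normal.conj_mem inferInstance t.1 t.2 g
  have hQcard : Nat.card Q'' = Nat.card Q := by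
    rw [hQ'', hQ', Subgroup.card_map_of_injective (MulAut.conj g).injective,
      Subgroup.card_map_of_injective T.subtype_injective]
  have hQle : Q'' ≤ Subgroup.normalizer (Q'' : Set G) := Subgroup.le_normalizer
  have hnorm : Q''.Normal := by
    rw [← Subgroup.normalizer_eq_top_iff]
    refine (hmax.le_iff.1 hHQ).resolve_right fun h => ?_
    have h1 : Nat.card Q'' ∣ p := hpdef ▸ Subgroup.card_dvd_of_le (h ▸ hQle)
    rcases (Nat.dvd_prime hp).1 h1 with h2 | h2
    · exact Q.ne_bot_of_dvd_card hqT (Subgroup.card_eq_one.1 (hQcard.symm.trans h2))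
    · exact hpT (h2 ▸ Subgroup.card_dvd_of_le hQT)
  rcases hT.eq_bot_or_eq_top_of_normal (Q''.subgroupOf T) inferInstance with h | h
  · rw [Subgroup.subgroupOf_eq_bot] at h
    exact Q.ne_bot_of_dvd_card hqT (Subgroup.card_eq_one.1
      (hQcard.symm.trans (by rw [disjoint_self.1 (h.mono_right hQT), Subgroup.card_bot])))
  · have hTe : Q'' = T := le_antisymm hQT (Subgroup.subgroupOf_eq_top.1 h)
    have hqg : IsPGroup q T := by
      obtain ⟨n, hn⟩ := IsPGroup.iff_card.1 Q.isPGroup'
      exact IsPGroup.of_card (n := n) (by rw [← hTe, hQcard, hn])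
    rcases hT.eq_bot_or_eq_top_of_normal (Subgroup.center T) inferInstance with hz | hz
    · haveI := hqg.center_nontrivial
      exact (Subgroup.nontrivial_iff_ne_bot _).1 inferInstance hz
    · exact hTc ⟨⟨fun a b => Subgroup.mem_center_iff.1 (hz ▸ Subgroup.mem_top b) a⟩⟩

end Cfsg.Agent.S3498
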