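import Cfsg.Statements.S3501
import Cfsg.Agent.MinNormal.Classes

set_option autoImplicit false
open Cfsg

namespace Cfsg.Agent.S3501



/-- Let a finite group G act faithfully and primitively on a finite set Ω with at least two points, and suppose G is not almost simple (it has no non-abelian simple normal subgroup with trivial centralizer). Then the derangements of G form a single conjugacy class if and only if G is sharply 2-transitive (2-transitive, and no non-identity element fixes two points). -/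
theorem result {G : Type*} [Group G] [Finite G] {Ω : Type*} [Fintype Ω] [MulAction G Ω] [FaithfulSMul G Ω] (hΩ : 2 ≤ Fintype.card Ω) (hprim : MulAction.IsPreprimitive G Ω) (hnas : ¬ ∃ T : Subgroup G, T.Normal ∧ IsSimpleGroup T ∧ ¬ IsMulCommutative T ∧ Subgroup.centralizer (T : Set G) = ⊥) :
    Nat.card {c : ConjClasses G // ∃ g : G, ConjClasses.mk g = c ∧ ∀ ω : Ω, g • ω ≠ ω} = 1 ↔ (MulAction.IsMultiplyPretransitive G Ω 2 ∧ ∀ g : G, g ≠ 1 → ∀ a b : Ω, a ≠ b → g • a = a → g • b ≠ b) := by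
  haveI := hprim
  refine ⟨fun hone => ?_, fun h => CfsgLib.MinNormal.card_derClasses_of_sharp hΩ h.1 h.2⟩
  obtain ⟨N, hNn, hN, hNc, hNtr, hNreg⟩ :=
    CfsgLib.MinNormal.exists_abelian_regular hΩ hnas
      (show Nat.card (CfsgLib.MinNormal.DerClasses G Ω) ≤ 2 from hone.le.trans one_le_two)
  obtain ⟨hsub, -⟩ := Nat.card_eq_one_iff_unique.1 hone
  have hder : ∀ x ∈ N, x ≠ 1 → ∀ ω : Ω, x • ω ≠ ω := by
    intro x hx hx1 ω h
    have : (⟨x, hx⟩ : N) ∈ MulAction.stabilizer N ω := h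
    rw [hNreg, Subgroup.mem_bot] at this
    exact hx1 (congrArg Subtype.val this)
  have hconj : ∀ x y : G, (∀ ω : Ω, x • ω ≠ ω) → (∀ ω : Ω, y • ω ≠ ω) → IsConj x y := fun x y hx hy =>
    ConjClasses.mk_eq_mk_iff_isConj.1 (congrArg Subtype.val
      (hsub.elim ⟨_, x, rfl, hx⟩ ⟨_, y, rfl, hy⟩))
  refine ⟨CfsgLib.MinNormal.is_two_pretransitive hNc fun x hx y hy hx1 hy1 =>
    hconj x y (hder x hx hx1) (hder y hy hy1), fun g hg a b hab ha hb => ?_⟩
  obtain ⟨x, hxN, hx⟩ := CfsgLib.MinNormal.exists_derangement_not_mem hNc hg hab ha hb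
  obtain ⟨n, hn, hn1⟩ := N.bot_or_exists_ne_one.resolve_left hN
  obtain ⟨c, hc⟩ := isConj_iff.1 (hconj n x (hder n hn hn1) hx)
  exact hxN (hc ▸ hNn.conj_mem n hn c)

end Cfsg.Agent.S3501
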