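import Cfsg.Statements.S3504

set_option autoImplicit false
open Cfsg

namespace Cfsg.Agent.S3504

private theorem derangement_type {n : ℕ} {g : Equiv.Perm (Fin n)} (hp : (orderOf g).Prime)
    (hg : ∀ i, g i ≠ i) :
    ∃ m, n = m * orderOf g ∧ g.cycleType = Multiset.replicate m (orderOf g) := by
  obtain ⟨m, hm⟩ := Equiv.Perm.cycleType_prime_order hp
  refine ⟨m + 1, ?_, hm⟩
  have h := Equiv.Perm.sum_cycleType g
  rw [hm, Multiset.sum_replicate, smul_eq_mul] at h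
  rw [h, show g.support = Finset.univ from Finset.eq_univ_of_forall fun i => Equiv.Perm.mem_support.2 (hg i),
    Finset.card_univ, Fintype.card_fin]

private theorem exists_derangement {n q : ℕ} (hn : 0 < n) (hq : q.Prime) (hqn : q ∣ n) :
    ∃ g : Equiv.Perm (Fin n), orderOf g = q ∧ ∀ i, g i ≠ i := by
  obtain ⟨g, hg⟩ := (Equiv.Perm.exists_with_cycleType_iff (α := Fin n)
    (m := Multiset.replicate (n / q) q)).2 ⟨by
      rw [Multiset.sum_replicate, smul_eq_mul, Fintype.card_fin, Nat.div_mul_cancel hqn],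
      fun a ha => (Multiset.eq_of_mem_replicate ha) ▸ hq.two_le⟩
  have hne : n / q ≠ 0 := (Nat.div_pos (Nat.le_of_dvd hn hqn) hq.pos).ne'
  refine ⟨g, ?_, fun i => ?_⟩
  · rw [← Equiv.Perm.lcm_cycleType, hg]
    apply Nat.dvd_antisymm
    · exact Multiset.lcm_dvd.2 fun b hb => by rw [Multiset.eq_of_mem_replicate hb]
    · exact Multiset.dvd_lcm (Multiset.mem_replicate.2 ⟨hne, rfl⟩)
  · rw [← Equiv.Perm.mem_support]
    have h := Equiv.Perm.sum_cycleType g
    rw [hg, Multiset.sum_replicate, smul_eq_mul, Nat.div_mul_cancel hqn] at h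
    rw [Finset.eq_univ_of_card g.support (by rw [← h, Fintype.card_fin])]
    exact Finset.mem_univ i


/-- For n ≥ 5, the fixed-point-free permutations of prime order in the symmetric group of degree n form a single conjugacy class if and only if n is a prime power. -/
theorem result (n : ℕ) (hn : 5 ≤ n) :
    Nat.card {c : ConjClasses (Equiv.Perm (Fin n)) // ∃ g : Equiv.Perm (Fin n), ConjClasses.mk g = c ∧ (orderOf g).Prime ∧ ∀ i : Fin n, g i ≠ i} = 1 ↔ IsPrimePow n := by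
  rw [Nat.card_eq_one_iff_unique]
  obtain ⟨q, hq, hqn⟩ := Nat.exists_prime_and_dvd (n := n) (by omega)
  obtain ⟨g₀, hg₀, hg₀'⟩ := exists_derangement (by omega) hq hqn
  constructor
  · rintro ⟨hsub, -⟩
    rw [isPrimePow_iff_unique_prime_dvd]
    refine ⟨q, ⟨hq, hqn⟩, fun r ⟨hr, hrn⟩ => ?_⟩
    obtain ⟨g₁, hg₁, hg₁'⟩ := exists_derangement (by omega) hr hrn
    have heq := congrArg Subtype.val
      (hsub.elim ⟨ConjClasses.mk g₀, g₀, rfl, hg₀ ▸ hq, hg₀'⟩ ⟨ConjClasses.mk g₁, g₁, rfl, hg₁ ▸ hr, hg₁'⟩)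
    simp only [ConjClasses.mk_eq_mk_iff_isConj] at heq
    obtain ⟨c, hc⟩ := isConj_iff.1 heq
    have := (SemiconjBy.eq_1 c g₀ g₁ ▸ (by rw [← hc]; group) : SemiconjBy c g₀ g₁).orderOf_eq
    omega
  · intro hpp
    obtain ⟨r, -, hr⟩ := isPrimePow_iff_unique_prime_dvd.1 hpp
    refine ⟨⟨?_⟩, ⟨⟨ConjClasses.mk g₀, g₀, rfl, hg₀ ▸ hq, hg₀'⟩⟩⟩
    rintro ⟨_, g, rfl, hg, hg'⟩ ⟨_, g', rfl, hh, hh'⟩
    obtain ⟨m, hm, hmt⟩ := derangement_type hg hg'
    obtain ⟨m', hm', hmt'⟩ := derangement_type hh hh'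
    have h1 : orderOf g = r := hr _ ⟨hg, ⟨m, hm.trans (mul_comm _ _)⟩⟩
    have h2 : orderOf g' = r := hr _ ⟨hh, ⟨m', hm'.trans (mul_comm _ _)⟩⟩
    refine Subtype.ext (ConjClasses.mk_eq_mk_iff_isConj.2 (Equiv.Perm.isConj_iff_cycleType_eq.2 ?_))
    rw [hmt, hmt', h1, h2]
    rw [h1] at hm hg
    rw [h2] at hm'
    rw [Nat.eq_of_mul_eq_mul_right hg.pos (hm.symm.trans hm')]

end Cfsg.Agent.S3504
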