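import Cfsg.Statements.S3508

set_option autoImplicit false
open Cfsg

namespace Cfsg.Agent.S3508

open Polynomial in
private theorem unipotent_pow {p : ℕ} [Fact p.Prime] {V : Type*} [AddCommGroup V] [Module (ZMod p) V]
    [Finite V] (A : Module.End (ZMod p) V) (r s : ℕ) (hA : A ^ (p ^ r) = 1)
    (hs : Module.finrank (ZMod p) V < p ^ s) :
    A ^ (p ^ s) = 1 ∧ ∑ i ∈ Finset.range (p ^ s), A ^ i = 0 := by
  have e1 : ∀ t : ℕ, ((X : (ZMod p)[X]) - 1) ^ (p ^ t) = X ^ (p ^ t) - 1 := fun t => by
    rw [sub_pow_char_pow, one_pow]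
  have hnil : IsNilpotent (A - 1) := ⟨p ^ r, by
    have := congrArg (aeval A) (e1 r)
    simpa [hA] using this⟩
  have hd : (A - 1) ^ Module.finrank (ZMod p) V = 0 := by
    have := LinearMap.aeval_self_charpoly (A - 1)
    rwa [IsNilpotent.charpoly_eq_X_pow_finrank hnil, map_pow, aeval_X] at this
  have e2 : ((X : (ZMod p)[X]) - 1) ^ (p ^ s - 1) = ∑ i ∈ Finset.range (p ^ s), X ^ i := by
    have hne : ((X : (ZMod p)[X]) - 1) ≠ 0 := by
      simpa using X_sub_C_ne_zero (1 : ZMod p)
    refine mul_left_cancel₀ hne ?_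
    rw [← pow_succ', mul_geom_sum, Nat.sub_add_cancel (by omega), e1]
  refine ⟨?_, ?_⟩
  · have := congrArg (aeval A) (e1 s)
    simp only [map_pow, map_sub, aeval_X, map_one] at this
    rwa [pow_eq_zero_of_le hs.le hd, eq_comm, sub_eq_zero] at this
  · have := congrArg (aeval A) (e2)
    simp only [map_pow, map_sub, aeval_X, map_one, map_sum] at this
    rwa [pow_eq_zero_of_le (by omega) hd, eq_comm] at this


private theorem unipotent_pow' {p : ℕ} [Fact p.Prime] {V : Type*} [AddCommGroup V] [Module (ZMod p) V] [Finite V]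
    {m : ℕ} (hc : Nat.card V = p ^ m) (f : AddMonoid.End V) (r s : ℕ)
    (hf : f ^ (p ^ r) = 1) (hs : m < p ^ s) :
    f ^ (p ^ s) = 1 ∧ ∑ i ∈ Finset.range (p ^ s), f ^ i = 0 := by
  let A : Module.End (ZMod p) V := AddMonoidHom.toZModLinearMap p f
  have hpow : ∀ i (x : V), (A ^ i) x = (f ^ i) x := by
    intro i
    induction i with
    | zero => simp
    | succ i ih =>
      intro x
      rw [pow_succ', Module.End.mul_apply, ih, pow_succ', AddMonoid.End.coe_mul]
      rfl
  have hfr : Module.finrank (ZMod p) V = m :=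
    Nat.pow_right_injective (Fact.out : p.Prime).two_le
      ((FiniteField.pow_finrank_eq_natCard p V).trans hc)
  obtain ⟨h1, h2⟩ := unipotent_pow A r s
    (LinearMap.ext fun x => by rw [hpow, hf]; rfl) (by rw [hfr]; exact hs)
  refine ⟨DFunLike.ext _ _ fun x => ?_, DFunLike.ext _ _ fun x => ?_⟩
  · rw [← hpow, h1]; rfl
  · have h3 := LinearMap.congr_fun h2 x
    rw [LinearMap.sum_apply] at h3
    erw [AddMonoidHom.finsetSum_apply]
    exact (Finset.sum_congr rfl fun i _ => (hpow i x).symm).trans h3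

/-- Let a finite group G act faithfully on a set Ω with p ^ m points (p prime) and have an elementary abelian normal p-subgroup N acting regularly on Ω (so G is a group of affine transformations of an m-dimensional space over the field with p elements). If G contains an element of order p ^ r with r ≥ 1, then p ^ (r − 1) ≤ m. In particular an element of order p ^ m forces m ≤ 2, and m ≤ 1 when p is odd. -/
theorem result {G : Type*} [Group G] [Finite G] {Ω : Type*} [Fintype Ω] [MulAction G Ω] [FaithfulSMul G Ω] (p m : ℕ) (hp : p.Prime) (hcard : Fintype.card Ω = p ^ m)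
    (N : Subgroup G) [N.Normal] (hNc : IsMulCommutative N) (hNp : ∀ n ∈ N, n ^ p = 1)
    (hNtr : MulAction.IsPretransitive N Ω) (hNreg : ∀ ω : Ω, MulAction.stabilizer N ω = ⊥)
    (g : G) (r : ℕ) (hr : 1 ≤ r) (hg : orderOf g = p ^ r) :
    p ^ (r - 1) ≤ m ∧ (r = m → m ≤ 2 ∧ (2 < p → m ≤ 1)) := by
  classical
  haveI := Fact.mk hp
  haveI := hNtr
  letI : CommGroup N := { (inferInstance : Group N) with mul_comm := hNc.is_comm.comm }
  obtain ⟨ω⟩ : Nonempty Ω := Fintype.card_pos_iff.1 (by rw [hcard]; exact pow_pos hp.pos _)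
  -- `n ↦ n • ω` is a bijection
  have inj : Function.Injective (fun n : N => n • ω) := by
    intro a b hab
    have : b⁻¹ * a ∈ MulAction.stabilizer N ω := by
      rw [MulAction.mem_stabilizer_iff, mul_smul]
      show b⁻¹ • a • ω = ω
      rw [show a • ω = b • ω from hab, inv_smul_smul]
    rw [hNreg, Subgroup.mem_bot] at this
    exact (inv_mul_eq_one.1 this).symm
  have hcN : Nat.card N = p ^ m := by
    rw [Nat.card_congr (Equiv.ofBijective _ ⟨inj, MulAction.exists_smul_eq N ω⟩),
      Nat.card_eq_fintype_card, hcard]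
  obtain ⟨n, hn⟩ := MulAction.exists_smul_eq N ω (g • ω)
  set h : G := (n : G)⁻¹ * g with hh
  have hhω : h • ω = ω := by
    rw [hh, mul_smul, ← hn]
    exact inv_smul_smul (n : G) ω
  have hgnh : g = n * h := by rw [hh, mul_inv_cancel_left]
  let A : AddMonoid.End (Additive N) :=
    MonoidHom.toAdditive (MulAut.conjNormal h : MulAut N).toMonoidHom
  have hA1 : ∀ x : Additive N, A x = Additive.ofMul (MulAut.conjNormal h x.toMul) := fun x => rfl
  have hA : ∀ i (x : Additive N), (A ^ i) x = Additive.ofMul (MulAut.conjNormal (h ^ i) x.toMul) := by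
    intro i
    induction i with
    | zero => simp
    | succ i ih =>
      intro x
      rw [pow_succ', AddMonoid.End.coe_mul, Function.comp_apply, ih, hA1, pow_succ' h]
      simp
  have hsum : ∀ k : ℕ, g ^ k =
      (((∑ i ∈ Finset.range k, A ^ i) (Additive.ofMul n)).toMul : N) * h ^ k := by
    intro k
    induction k with
    | zero => simp
    | succ k ih =>
      rw [pow_succ, ih, Finset.sum_range_succ]
      erw [AddMonoidHom.add_apply]
      erw [hA k]
      rw [toMul_add, Subgroup.coe_mul,
        toMul_ofMul, MulAut.conjNormal_apply, hgnh, pow_succ h k]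
      simp [mul_assoc]
      all_goals rfl
  have hfix : ∀ k : ℕ, h ^ k • ω = ω := fun k =>
    pow_mem (MulAction.mem_stabilizer_iff.2 hhω : h ∈ MulAction.stabilizer G ω) k
  have hpr : A ^ (p ^ r) = 1 := by
    have h1 := hsum (p ^ r)
    rw [← hg, pow_orderOf_eq_one, hg] at h1
    set x := ((∑ i ∈ Finset.range (p ^ r), A ^ i) (Additive.ofMul n)).toMul
    have hx : x • ω = (1 : N) • ω := by
      rw [one_smul]
      show (x : G) • ω = ω
      conv_lhs => rw [← hfix (p ^ r), ← mul_smul, ← h1, one_smul]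
    rw [inj hx, Subgroup.coe_one, one_mul] at h1
    ext y
    rw [hA, ← h1, map_one]
    rfl
  have hmain : p ^ (r - 1) ≤ m := by
    by_contra hlt
    letI : Module (ZMod p) (Additive N) :=
      AddCommGroup.zmodModule fun x => Additive.toMul.injective (Subtype.ext (hNp _ x.toMul.2))
    obtain ⟨h1, h2⟩ := unipotent_pow' (p := p) (V := Additive N) (m := m)
      (by rw [Nat.card_congr Additive.toMul, hcN]) A r (r - 1) hpr (by omega)
    have hq : h ^ p ^ (r - 1) = 1 := by
      refine eq_of_smul_eq_smul (α := Ω) fun x => ?_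
      obtain ⟨y, rfl⟩ := MulAction.exists_smul_eq N ω x
      rw [one_smul]
      have := congrArg (fun e : AddMonoid.End (Additive N) => ((e (Additive.ofMul y)).toMul : G)) h1
      simp only [hA, toMul_ofMul, AddMonoid.End.coe_one, id_eq, MulAut.conjNormal_apply] at this
      show h ^ p ^ (r - 1) • (y : G) • ω = (y : G) • ω
      rw [← mul_smul]
      conv_lhs => rw [mul_inv_eq_iff_eq_mul.1 this, mul_smul, hfix]
    have h3 := hsum (p ^ (r - 1))
    rw [h2, hq] at h3
    erw [AddMonoidHom.zero_apply] at h3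
    simp only [toMul_zero, Subgroup.coe_one, mul_one] at h3
    rw [← orderOf_dvd_iff_pow_eq_one, hg, Nat.pow_dvd_pow_iff_le_right hp.one_lt] at h3
    omega
  refine ⟨hmain, fun hrm => ?_⟩
  subst hrm
  constructor
  · by_contra h3
    have h4 : 2 ^ (r - 1) ≤ r := (Nat.pow_le_pow_left hp.two_le _).trans hmain
    obtain ⟨t, rfl⟩ : ∃ t, r = t + 3 := ⟨r - 3, by omega⟩
    have : t + 3 < 2 ^ (t + 3 - 1) := by
      have := Nat.lt_two_pow_self (n := t)
      rw [show t + 3 - 1 = t + 2 by omega, pow_add]
      omega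
    omega
  · intro hp2
    by_contra h1
    have h4 : 3 ^ (r - 1) ≤ r := (Nat.pow_le_pow_left hp2 _).trans hmain
    obtain ⟨t, rfl⟩ : ∃ t, r = t + 2 := ⟨r - 2, by omega⟩
    have := Nat.lt_pow_self (show 1 < 3 by omega) (n := t)
    rw [show t + 2 - 1 = t + 1 by omega, pow_succ] at h4
    omega

end Cfsg.Agent.S3508
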