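import Cfsg.Statements.S3511

set_option autoImplicit false
open Cfsg

namespace Cfsg.Agent.S3511



/-- Let a finite group G act faithfully on a set Ω. If every element of G of square-free order has a regular cycle (an orbit of the cyclic group it generates with trivial stabilizer), then every element of G has a regular cycle. -/
theorem result {G : Type*} [Group G] [Finite G] {Ω : Type*} [MulAction G Ω] [FaithfulSMul G Ω]
    (h : ∀ g : G, Squarefree (orderOf g) → ∃ ω : Ω, MulAction.stabilizer (Subgroup.zpowers g) ω = ⊥) (g : G) :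
    ∃ ω : Ω, MulAction.stabilizer (Subgroup.zpowers g) ω = ⊥ := by
  classical
  set n := orderOf g with hn
  have hn0 : 0 < n := orderOf_pos g
  set r := ∏ q ∈ n.primeFactors, q with hr
  have hrdvd : r ∣ n := Nat.prod_primeFactors_dvd n
  have hr0 : r ≠ 0 := fun h0 => by rw [h0, zero_dvd_iff] at hrdvd; omega
  set g' := g ^ (n / r) with hg'
  have hord : orderOf g' = r := by
    rw [hg', orderOf_pow' g (Nat.div_pos (Nat.le_of_dvd hn0 hrdvd) (Nat.pos_of_ne_zero hr0)).ne',
      ← hn, Nat.gcd_eq_right (Nat.div_dvd_of_dvd hrdvd), Nat.div_div_self hrdvd hn0.ne']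
  obtain ⟨ω, hω⟩ := h g' (by
    rw [hord, hr]
    exact Finset.squarefree_prod_of_pairwise_isCoprime
      (fun a ha b hb hab => Nat.coprime_iff_isRelPrime.1 <|
        (Nat.coprime_primes (Nat.prime_of_mem_primeFactors ha) (Nat.prime_of_mem_primeFactors hb)).2 hab)
      (fun a ha => (Nat.prime_of_mem_primeFactors ha).squarefree))
  refine ⟨ω, ?_⟩
  by_contra hne
  obtain ⟨⟨x, hxz⟩, hx, hx1⟩ := (Subgroup.bot_or_exists_ne_one _).resolve_left hne
  have hx1' : x ≠ 1 := fun h1 => hx1 (Subtype.ext h1)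
  obtain ⟨q, hq, hqd⟩ := Nat.exists_prime_and_dvd (n := orderOf x) (by simpa using hx1')
  set y := x ^ (orderOf x / q) with hy
  have hyo : orderOf y = q := orderOf_pow_orderOf_div (orderOf_pos x).ne' hqd
  have hyz : y ∈ Subgroup.zpowers g := Subgroup.pow_mem _ hxz _
  have hqn : q ∣ n := hyo ▸ orderOf_dvd_of_mem_zpowers hyz
  have hqr : q ∣ r := Finset.dvd_prod_of_mem _ (Nat.mem_primeFactors.2 ⟨hq, hqn, hn0.ne'⟩)
  have hymem : y ∈ Subgroup.zpowers g' := by
    obtain ⟨i, hi⟩ := Submonoid.mem_powers_iff y g |>.1 (mem_powers_iff_mem_zpowers.2 hyz)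
    have hpow : g ^ (i * q) = 1 := by rw [pow_mul, hi, ← hyo, pow_orderOf_eq_one]
    rw [← orderOf_dvd_iff_pow_eq_one, ← hn] at hpow
    obtain ⟨c, hc⟩ : n / r ∣ i := by
      have h1 : n / q ∣ i :=
        (Nat.div_dvd_iff_dvd_mul hqn hq.pos).2 (by rwa [mul_comm] at hpow)
      exact dvd_trans (Nat.div_dvd_div_left hrdvd hqr) h1
    exact ⟨c, by simp only [zpow_natCast, hg', ← pow_mul, ← hi, hc]⟩
  have hyfix : y • ω = ω := by
    have hm : (⟨x, hxz⟩ : Subgroup.zpowers g) ^ (orderOf x / q) ∈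
        MulAction.stabilizer (Subgroup.zpowers g) ω := Subgroup.pow_mem _ hx _
    exact hm
  have h0 : (⟨y, hymem⟩ : Subgroup.zpowers g') ∈ MulAction.stabilizer (Subgroup.zpowers g') ω := hyfix
  rw [hω, Subgroup.mem_bot] at h0
  have : y = 1 := congrArg Subtype.val h0
  rw [this, orderOf_one] at hyo
  exact hq.ne_one hyo.symm

end Cfsg.Agent.S3511
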