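import Cfsg.Statements.S3514

set_option autoImplicit false
open Cfsg

namespace Cfsg.Agent.S3514



/-- Let p be a prime, V a finite vector space over the field with p elements, and H a group of linear transformations of V all of whose orbits on V have size coprime to p. (i) Every normal subgroup K of H has all its orbits on V of size coprime to p. (ii) If N is a group of linear transformations of V of order coprime to p that is normalized by H, then the group generated by N and H has all its orbits on V of size coprime to p. -/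
theorem result (p : ℕ) [Fact p.Prime] {V : Type*} [AddCommGroup V] [Module (ZMod p) V] [Finite V]
    (H : Subgroup (V ≃ₗ[ZMod p] V)) (hH : ∀ v : V, ¬ p ∣ Nat.card {u : V | ∃ h ∈ H, h v = u}) :
    (∀ K : Subgroup (V ≃ₗ[ZMod p] V), K ≤ H → H ≤ Subgroup.normalizer (K : Set (V ≃ₗ[ZMod p] V)) →
        ∀ v : V, ¬ p ∣ Nat.card {u : V | ∃ k ∈ K, k v = u}) ∧
    (∀ N : Subgroup (V ≃ₗ[ZMod p] V), ¬ p ∣ Nat.card N → H ≤ Subgroup.normalizer (N : Set (V ≃ₗ[ZMod p] V)) →
        ∀ v : V, ¬ p ∣ Nat.card {u : V | ∃ x ∈ N ⊔ H, x v = u}) := by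
  classical
  have hfin : Finite (V ≃ₗ[ZMod p] V) := Finite.of_injective (fun e => (e : V → V)) DFunLike.coe_injective
  have hset : ∀ (K : Subgroup (V ≃ₗ[ZMod p] V)) (v : V),
      Nat.card {u : V | ∃ k ∈ K, k v = u} = (MulAction.stabilizer K v).index := by
    intro K v
    rw [MulAction.index_stabilizer, ← Nat.card_coe_set_eq]
    refine Nat.card_congr (Equiv.setCongr (Set.ext fun u => ⟨?_, ?_⟩))
    · rintro ⟨k, hk, rfl⟩; exact ⟨⟨k, hk⟩, rfl⟩
    · rintro ⟨⟨k, hk⟩, rfl⟩; exact ⟨k, hk, rfl⟩
  have hSyl : ∀ v : V, ∃ P : Sylow p H, ∀ x ∈ (P : Subgroup H), (x : V ≃ₗ[ZMod p] V) v = v := by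
    intro v
    obtain ⟨P₀⟩ : Nonempty (Sylow p (MulAction.stabilizer H v)) := inferInstance
    obtain ⟨P, hP⟩ := (P₀.isPGroup'.map (MulAction.stabilizer H v).subtype).exists_le_sylow
    refine ⟨P, ?_⟩
    have hidx : ¬ p ∣ (MulAction.stabilizer H v).index := by rw [← hset]; exact hH v
    have heq : (P₀ : Subgroup (MulAction.stabilizer H v)).map (MulAction.stabilizer H v).subtype = P := by
      refine Subgroup.eq_of_le_of_card_ge hP ?_
      rw [Subgroup.card_map_of_injective (Subgroup.subtype_injective _), Sylow.card_eq_multiplicity,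
        Sylow.card_eq_multiplicity, ← Subgroup.card_mul_index (MulAction.stabilizer H v),
        Nat.factorization_mul Nat.card_pos.ne' Subgroup.index_ne_zero_of_finite, Finsupp.add_apply,
        Nat.factorization_eq_zero_of_not_dvd hidx, add_zero]
    intro x hx
    rw [← heq] at hx
    obtain ⟨y, -, rfl⟩ := hx
    exact y.2
  constructor
  · intro K hKH hHK v hd
    refine hH v (hd.trans ?_)
    rw [hset, hset]
    haveI : (K.subgroupOf H).Normal := Subgroup.normal_subgroupOf_of_le_normalizer hHK
    set S := MulAction.stabilizer H v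
    set K' := K.subgroupOf H
    have h1 : (MulAction.stabilizer K v).index = S.relIndex K' := by
      rw [Subgroup.relIndex]
      have : MulAction.stabilizer K v =
          (S.subgroupOf K').comap (Subgroup.subgroupOfEquivOfLe hKH).symm.toMonoidHom := by
        ext x; rfl
      rw [this, Subgroup.index_comap_of_surjective _ (MulEquiv.surjective _)]
    have h2 : S.relIndex K' = S.relIndex (S ⊔ K') := by
      have hb : 0 < K'.relIndex S := Nat.pos_of_ne_zero Subgroup.index_ne_zero_of_finite
      refine Nat.eq_of_mul_eq_mul_left hb ?_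
      have e1 := Subgroup.relIndex_mul_relIndex (S ⊓ K') S (S ⊔ K') inf_le_left le_sup_left
      have e2 := Subgroup.relIndex_mul_relIndex (S ⊓ K') K' (S ⊔ K') inf_le_right le_sup_right
      rw [Subgroup.inf_relIndex_left, ← e2, Subgroup.inf_relIndex_right, Subgroup.relIndex_sup_right] at e1
      rw [e1, mul_comm]
    rw [h1, h2, ← Subgroup.relIndex_top_right]
    exact ⟨_, (Subgroup.relIndex_mul_relIndex _ _ _ le_sup_left le_top).symm⟩
  · intro N hN hHN v
    rw [hset]
    obtain ⟨P, hP⟩ := hSyl v
    set M := N ⊔ H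
    set Q := ((P : Subgroup H).map H.subtype).subgroupOf M with hQ
    have hQv : Q ≤ MulAction.stabilizer M v := by
      rintro ⟨x, hxM⟩ ⟨y, hy, hyx⟩
      show x v = v
      rw [← (show (y : V ≃ₗ[ZMod p] V) = x from hyx)]
      exact hP y hy
    intro hd
    have hdQ : p ∣ Q.index := hd.trans ⟨_, (Subgroup.relIndex_mul_index hQv).symm.trans (mul_comm _ _)⟩
    have hQcard : Nat.card Q = Nat.card P := by
      rw [hQ, Nat.card_congr (Subgroup.subgroupOfEquivOfLe
        ((Subgroup.map_subtype_le _).trans le_sup_right)).toEquiv,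
        Subgroup.card_map_of_injective H.subtype_injective]
    -- `|N H| ∣ |N| |H|`
    have hMcard : Nat.card M ∣ Nat.card N * Nat.card H := by
      haveI : (N.subgroupOf M).Normal :=
        Subgroup.normal_subgroupOf_of_le_normalizer (sup_le Subgroup.le_normalizer hHN)
      rw [← Subgroup.card_mul_index (N.subgroupOf M),
        Nat.card_congr (Subgroup.subgroupOfEquivOfLe (le_sup_left : N ≤ M)).toEquiv]
      refine mul_dvd_mul_left _ ?_
      have hz : (N.subgroupOf M) ⊔ (H.subgroupOf M) = ⊤ := by
        rw [← Subgroup.subgroupOf_sup le_sup_left le_sup_right, Subgroup.subgroupOf_self]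
      have : (N.subgroupOf M).index = (N.subgroupOf M).relIndex (H.subgroupOf M) := by
        rw [← Subgroup.relIndex_sup_left (H.subgroupOf M), hz, Subgroup.relIndex_top_right]
      rw [this]
      refine (Subgroup.relIndex_dvd_of_le_left _ bot_le).trans ?_
      rw [Subgroup.relIndex_bot_left, Nat.card_congr (Subgroup.subgroupOfEquivOfLe (le_sup_right : H ≤ M)).toEquiv]
    have hp := (Fact.out : p.Prime)
    have h1 : p * Nat.card P ∣ Nat.card M := by
      rw [← hQcard, ← Subgroup.card_mul_index Q, mul_comm p]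
      exact mul_dvd_mul_left _ hdQ
    have h2 : p * Nat.card P ∣ Nat.card H := by
      refine (Nat.Coprime.dvd_of_dvd_mul_left ?_ (h1.trans hMcard))
      obtain ⟨k, hk⟩ := IsPGroup.iff_card.1 P.isPGroup'
      rw [hk, ← pow_succ']
      exact Nat.Coprime.pow_left _ (hp.coprime_iff_not_dvd.2 hN)
    rw [← Subgroup.card_mul_index (P : Subgroup H), mul_comm p] at h2
    exact P.not_dvd_index (Nat.dvd_of_mul_dvd_mul_left Nat.card_pos h2)

end Cfsg.Agent.S3514
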