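import Cfsg.Statements.S3515
import Cfsg.Agent.Closure.AffinePreserving

set_option autoImplicit false
open Cfsg

namespace Cfsg.Agent.S3515



private theorem cases_two : ∀ x : Fin 2 → ZMod 2,
    x = 0 ∨ x = Pi.single 0 1 ∨ x = Pi.single 1 1 ∨ x = 1 := by decide

private theorem ne_one_two : (0 : Fin 2 → ZMod 2) ≠ 1 ∧ (Pi.single 0 1 : Fin 2 → ZMod 2) ≠ 1 ∧
    (Pi.single 1 1 : Fin 2 → ZMod 2) ≠ 1 := by decide

/-- Every primitive affine permutation group of degree p² is 3-closed. Let p be a prime and G a group of permutations of the plane V = F_p² consisting of affine maps x ↦ Ax + b, containing all translations, and acting primitively on V. Then any permutation σ of V that agrees on every triple of points with some element of G (σ preserves every G-orbit on ordered triples) already lies in G. -/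
theorem result (p : ℕ) [Fact p.Prime] (G : Subgroup (Equiv.Perm (Fin 2 → ZMod p)))
    (haff : (G : Set (Equiv.Perm (Fin 2 → ZMod p))) ⊆ {τ : Equiv.Perm (Fin 2 → ZMod p) | ∃ (A : (Fin 2 → ZMod p) ≃ₗ[ZMod p] (Fin 2 → ZMod p)) (b : Fin 2 → ZMod p), ∀ x, τ x = A x + b})
    (htrans : ∀ b : Fin 2 → ZMod p, ∃ g ∈ G, ∀ x, g x = x + b) (hprim : MulAction.IsPreprimitive G (Fin 2 → ZMod p))
    (σ : Equiv.Perm (Fin 2 → ZMod p)) (hσ : (∀ t : Fin 3 → (Fin 2 → ZMod p), ∃ g ∈ G, ∀ i, σ (t i) = g (t i))) : σ ∈ G := by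
  have haff' : ∀ t : Fin 3 → (Fin 2 → ZMod p), ∃ (A : (Fin 2 → ZMod p) ≃ₗ[ZMod p] (Fin 2 → ZMod p))
      (b : Fin 2 → ZMod p), ∀ i, σ (t i) = A (t i) + b := by
    intro t
    obtain ⟨g, hg, hgt⟩ := hσ t
    obtain ⟨A, b, hAb⟩ := haff hg
    exact ⟨A, b, fun i => (hgt i).trans (hAb _)⟩
  obtain ⟨g, hg, hgt⟩ := hσ ![0, Pi.single 0 1, Pi.single 1 1]
  obtain ⟨A, b, hAb⟩ := haff hg
  suffices σ = g by rw [this]; exact hg
  have g0 := hgt 0; have g1 := hgt 1; have g2 := hgt 2
  simp at g0 g1 g2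
  by_cases hp : p = 2
  · subst hp
    have key := cases_two
    ext x : 1
    rcases key x with rfl | rfl | rfl | rfl
    · exact g0
    · exact g1
    · exact g2
    · obtain ⟨y, hy⟩ := g.surjective (σ 1)
      rcases key y with rfl | rfl | rfl | rfl
      · exact absurd (σ.injective (g0.trans hy)).symm (ne_one_two.1.symm)
      · exact absurd (σ.injective (g1.trans hy)).symm (ne_one_two.2.1.symm)
      · exact absurd (σ.injective (g2.trans hy)).symm (ne_one_two.2.2.symm)
      · exact hy.symm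
  · have h2 : (2 : ZMod p) ≠ 0 := by
      intro h0
      have h0' : ((2 : ℕ) : ZMod p) = 0 := by exact_mod_cast h0
      rw [ZMod.natCast_eq_zero_iff] at h0'
      exact hp ((Nat.prime_dvd_prime_iff_eq Fact.out Nat.prime_two).1 h0')
    obtain ⟨B, c, hBc⟩ := CfsgLib.AffineClosure.exists_affine h2 σ haff'
    rw [hBc, hAb] at g0 g1 g2
    simp at g0
    subst g0
    have hlin : (B : (Fin 2 → ZMod p) →ₗ[ZMod p] (Fin 2 → ZMod p)) = A := by
      refine Module.Basis.ext (Pi.basisFun (ZMod p) (Fin 2)) fun i => ?_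
      fin_cases i
      · simpa using g1
      · simpa using g2
    ext x : 1
    rw [hBc, hAb, ← LinearEquiv.coe_coe B, hlin]
    rfl

end Cfsg.Agent.S3515
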