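import Cfsg.Statements.S3516
import Cfsg.Agent.Closure.AffinePreserving

set_option autoImplicit false
open Cfsg

namespace Cfsg.Agent.S3516



/-- Let p be an odd prime, d ≥ 3, and G a group of affine permutations x ↦ Ax + b of V = F_p^d containing all translations and all maps x ↦ Ax with A of determinant 1. Then the 3-closure of G is the full affine group: a permutation σ of V agrees on every triple of points with some element of G if and only if σ is an affine map. -/
theorem result (p : ℕ) [Fact p.Prime] (hp : p ≠ 2) (d : ℕ) (hd : 3 ≤ d) (G : Subgroup (Equiv.Perm (Fin d → ZMod p)))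
    (haff : (G : Set (Equiv.Perm (Fin d → ZMod p))) ⊆ {τ : Equiv.Perm (Fin d → ZMod p) | ∃ (A : (Fin d → ZMod p) ≃ₗ[ZMod p] (Fin d → ZMod p)) (b : Fin d → ZMod p), ∀ x, τ x = A x + b})
    (htrans : ∀ b : Fin d → ZMod p, ∃ g ∈ G, ∀ x, g x = x + b)
    (hsl : ∀ A : (Fin d → ZMod p) ≃ₗ[ZMod p] (Fin d → ZMod p), LinearMap.det (A : (Fin d → ZMod p) →ₗ[ZMod p] (Fin d → ZMod p)) = 1 → ∃ g ∈ G, ∀ x, g x = A x)
    (σ : Equiv.Perm (Fin d → ZMod p)) :
    (∀ t : Fin 3 → (Fin d → ZMod p), ∃ g ∈ G, ∀ i, σ (t i) = g (t i)) ↔ σ ∈ {τ : Equiv.Perm (Fin d → ZMod p) | ∃ (A : (Fin d → ZMod p) ≃ₗ[ZMod p] (Fin d → ZMod p)) (b : Fin d → ZMod p), ∀ x, τ x = A x + b} := by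
  have h2 : (2 : ZMod p) ≠ 0 := by
    intro h0
    have h0' : ((2 : ℕ) : ZMod p) = 0 := by exact_mod_cast h0
    rw [ZMod.natCast_eq_zero_iff] at h0'
    exact hp ((Nat.prime_dvd_prime_iff_eq Fact.out Nat.prime_two).1 h0')
  constructor
  · intro h
    refine CfsgLib.AffineClosure.exists_affine h2 σ fun t => ?_
    obtain ⟨g, hg, hgt⟩ := h t
    obtain ⟨A, b, hAb⟩ := haff hg
    exact ⟨A, b, fun i => (hgt i).trans (hAb _)⟩
  · rintro ⟨A, b, hAb⟩ t
    set W : Submodule (ZMod p) (Fin d → ZMod p) :=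
      Submodule.span (ZMod p) (Set.range ![t 1 - t 0, t 2 - t 0]) with hW
    have hfr : Module.finrank (ZMod p) W ≤ 2 :=
      (finrank_range_le_card ![t 1 - t 0, t 2 - t 0]).trans (by simp)
    have hlt : W < ⊤ := by
      refine lt_top_iff_ne_top.2 fun htop => ?_
      rw [htop, finrank_top, Module.finrank_fin_fun] at hfr
      omega
    obtain ⟨f, hf0, hfW⟩ := Submodule.exists_dual_map_eq_bot_of_lt_top hlt inferInstance
    obtain ⟨w₀, hw₀⟩ := DFunLike.ne_iff.1 hf0
    set δ := LinearMap.det (A : (Fin d → ZMod p) →ₗ[ZMod p] (Fin d → ZMod p)) with hδ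
    have hδ0 : δ ≠ 0 := A.isUnit_det'.ne_zero
    set w := ((δ⁻¹ - 1) / f w₀) • w₀ with hw
    have hfw : f w = δ⁻¹ - 1 := by
      rw [hw, map_smul, smul_eq_mul, div_mul_cancel₀ _ (by simpa using hw₀)]
    let D := LinearMap.transvection f w
    have hdetD : LinearMap.det D = δ⁻¹ := by
      simp only [D, LinearMap.transvection.det, hfw]
      ring
    let D' : (Fin d → ZMod p) ≃ₗ[ZMod p] (Fin d → ZMod p) :=
      LinearMap.equivOfDetNeZero D (by rw [hdetD]; exact inv_ne_zero hδ0)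
    obtain ⟨g₁, hg₁, hg₁'⟩ := hsl (D'.trans A) (by
      rw [LinearEquiv.coe_trans, LinearMap.det_comp]
      show δ * LinearMap.det D = 1
      rw [hdetD, mul_inv_cancel₀ hδ0])
    obtain ⟨g₂, hg₂, hg₂'⟩ := htrans (σ (t 0) - (D'.trans A) (t 0))
    refine ⟨g₂ * g₁, G.mul_mem hg₂ hg₁, fun i => ?_⟩
    rw [Equiv.Perm.mul_apply, hg₂', hg₁']
    have hfix : ∀ v ∈ W, D v = v := by
      intro v hv
      have : f v = 0 := by
        have := Submodule.mem_map_of_mem (f := f) hv
        rwa [hfW, Submodule.mem_bot] at this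
      simp [D, LinearMap.transvection.apply, this]
    have hdiff : ∀ i, t i - t 0 ∈ W := by
      intro i
      fin_cases i
      · simp
      · exact Submodule.subset_span ⟨0, rfl⟩
      · exact Submodule.subset_span ⟨1, rfl⟩
    have e : (D'.trans A) (t i) - (D'.trans A) (t 0) = A (t i) - A (t 0) := by
      rw [← map_sub, ← map_sub]
      show A (D (t i - t 0)) = _
      rw [hfix _ (hdiff i)]
    rw [hAb, hAb]
    linear_combination (norm := module) -e

end Cfsg.Agent.S3516
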