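import Cfsg.Statements.S3517

set_option autoImplicit false
open Cfsg

namespace Cfsg.Agent.S3517

private theorem exists_equiv_map {K V : Type*} [Field K] [AddCommGroup V] [Module K V]
    [FiniteDimensional K V] {k : ℕ} (v v' : Fin k → V) (hv : LinearIndependent K v)
    (hv' : LinearIndependent K v') : ∃ A : V ≃ₗ[K] V, ∀ i, A (v i) = v' i := by
  set W := Submodule.span K (Set.range v)
  set W' := Submodule.span K (Set.range v')
  obtain ⟨C, hC⟩ := W.exists_isCompl
  obtain ⟨C', hC'⟩ := W'.exists_isCompl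
  let eW : W ≃ₗ[K] W' := hv.linearCombinationEquiv.symm.trans hv'.linearCombinationEquiv
  have hfr : Module.finrank K C = Module.finrank K C' := by
    have h1 := Submodule.finrank_add_eq_of_isCompl hC
    have h2 := Submodule.finrank_add_eq_of_isCompl hC'
    have h3 := eW.finrank_eq
    omega
  let eC : C ≃ₗ[K] C' := LinearEquiv.ofFinrankEq C C' hfr
  let A : V ≃ₗ[K] V := ((Submodule.prodEquivOfIsCompl W C hC).symm.trans (eW.prodCongr eC)).trans
    (Submodule.prodEquivOfIsCompl W' C' hC')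
  refine ⟨A, fun i => ?_⟩
  have hmem : v i ∈ W := Submodule.subset_span ⟨i, rfl⟩
  have h1 : (Submodule.prodEquivOfIsCompl W C hC).symm (v i) = ((⟨v i, hmem⟩ : W), (0 : C)) :=
    Submodule.prodEquivOfIsCompl_symm_apply_left _ _ hC (⟨v i, hmem⟩ : W)
  have h2 : hv.linearCombinationEquiv.symm (⟨v i, hmem⟩ : W) = Finsupp.single i 1 := by
    rw [LinearEquiv.symm_apply_eq]
    exact Subtype.ext (by simp)
  simp only [A, eW, LinearEquiv.trans_apply, h1, LinearEquiv.prodCongr_apply, map_zero, h2,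
    Submodule.coe_prodEquivOfIsCompl', Submodule.coe_zero, add_zero]
  show Finsupp.linearCombination K v' (Finsupp.single i 1) = v' i
  simp

private theorem exists_equiv_pair {V : Type*} [AddCommGroup V] [Module (ZMod 2) V]
    [FiniteDimensional (ZMod 2) V] (u v u' v' : V) (hu : u = 0 ↔ u' = 0) (hv : v = 0 ↔ v' = 0)
    (huv : u = v ↔ u' = v') : ∃ A : V ≃ₗ[ZMod 2] V, A u = u' ∧ A v = v' := by
  have one : ∀ w w' : V, (w = 0 ↔ w' = 0) → ∃ A : V ≃ₗ[ZMod 2] V, A w = w' := by
    intro w w' hww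
    by_cases hw : w = 0
    · exact ⟨LinearEquiv.refl _ _, by simp [hw, hww.1 hw]⟩
    · obtain ⟨A, hA⟩ := exists_equiv_map (K := ZMod 2) (![w]) (![w'])
        (linearIndependent_unique_iff.2 (by simpa using hw))
        (linearIndependent_unique_iff.2 (by simpa using fun h => hw (hww.2 h)))
      exact ⟨A, by simpa using hA 0⟩
  by_cases h0 : u = 0
  · obtain ⟨A, hA⟩ := one v v' hv
    exact ⟨A, by simp [h0, hu.1 h0], hA⟩
  by_cases h1 : v = 0
  · obtain ⟨A, hA⟩ := one u u' hu
    exact ⟨A, hA, by simp [h1, hv.1 h1]⟩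
  by_cases h2 : u = v
  · obtain ⟨A, hA⟩ := one u u' hu
    exact ⟨A, hA, by rw [← h2, hA, huv.1 h2]⟩
  have key : ∀ a b : V, a ≠ 0 → b ≠ 0 → a ≠ b → LinearIndependent (ZMod 2) ![a, b] := by
    intro a b ha hb hab
    rw [LinearIndependent.pair_iff]
    intro s t hst
    obtain rfl | rfl : s = 0 ∨ s = 1 := (by decide : ∀ s : ZMod 2, s = 0 ∨ s = 1) s
    all_goals obtain rfl | rfl : t = 0 ∨ t = 1 := (by decide : ∀ t : ZMod 2, t = 0 ∨ t = 1) t
    · exact ⟨rfl, rfl⟩
    · exact absurd (by simpa using hst) hb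
    · exact absurd (by simpa using hst) ha
    · have hab' : a + b = 0 := by simpa using hst
      have h22 : b + b = 0 := by
        rw [← two_smul (ZMod 2) b, show (2 : ZMod 2) = 0 from rfl, zero_smul]
      exact absurd (add_right_cancel (hab'.trans h22.symm)) hab
  obtain ⟨A, hA⟩ := exists_equiv_map _ _ (key u v h0 h1 h2)
    (key u' v' (fun h => h0 (hu.2 h)) (fun h => h1 (hv.2 h)) (fun h => h2 (huv.2 h)))
  exact ⟨A, by simpa using hA 0, by simpa using hA 1⟩


/-- For d ≥ 3, the 3-closure of the affine group AGL_d(2) acting on F_2^d is the full symmetric group: every permutation of F_2^d agrees on every ordered triple of points with some affine map (AGL_d(2) is 3-transitive). -/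
theorem result (d : ℕ) (hd : 3 ≤ d) (σ : Equiv.Perm (Fin d → ZMod 2)) (t : Fin 3 → (Fin d → ZMod 2)) :
    ∃ (A : (Fin d → ZMod 2) ≃ₗ[ZMod 2] (Fin d → ZMod 2)) (b : Fin d → ZMod 2), ∀ i, σ (t i) = A (t i) + b := by
  obtain ⟨A, h1, h2⟩ := exists_equiv_pair (t 1 - t 0) (t 2 - t 0) (σ (t 1) - σ (t 0)) (σ (t 2) - σ (t 0))
    (by simp [sub_eq_zero]) (by simp [sub_eq_zero]) (by simp)
  refine ⟨A, σ (t 0) - A (t 0), fun i => ?_⟩
  fin_cases i
  · simp
  · simp only [map_sub] at h1
    simp only [Fin.isValue]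
    linear_combination (norm := (simp; abel)) -h1
  · simp only [map_sub] at h2
    linear_combination (norm := (simp; abel)) -h2

end Cfsg.Agent.S3517
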