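import Cfsg.Statements.S3518

set_option autoImplicit false
open Cfsg

namespace Cfsg.Agent.S3518

open Polynomial in
/-- Burnside's theorem in polynomial form: a permutation `f` of `ZMod p` with
`(f x - f y) ^ d = (x - y) ^ d` for all `x, y`, where `d` is a proper divisor of `p - 1`, is affine. -/
private theorem burnside_affine (p : ℕ) [Fact p.Prime] (f : ZMod p → ZMod p) (d : ℕ) (hd0 : 0 < d)
    (hd : d ∣ p - 1) (hdp : d < p - 1) (h : ∀ x y, (f x - f y) ^ d = (x - y) ^ d) :
    ∃ a b : ZMod p, ∀ x, f x = a * x + b := by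
  classical
  set P := Lagrange.interpolate (Finset.univ : Finset (ZMod p)) id f with hP
  have hPe : ∀ x, P.eval x = f x := fun x =>
    Lagrange.eval_interpolate_at_node f (Set.injOn_id _) (Finset.mem_univ x)
  set n := P.natDegree with hn
  by_cases hn1 : n ≤ 1
  · refine ⟨P.coeff 1, P.coeff 0, fun x => ?_⟩
    rw [← hPe x, eq_X_add_C_of_natDegree_le_one hn1]
    simp
  exfalso
  have hP0 : P ≠ 0 := fun h0 => by simp [hn, h0] at hn1
  have hnp : n < p := by
    have h1 : P.degree < (Finset.univ : Finset (ZMod p)).card :=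
      Lagrange.degree_interpolate_lt f (Set.injOn_id _)
    rw [Finset.card_univ, ZMod.card, degree_eq_natDegree hP0] at h1
    exact_mod_cast h1
  obtain ⟨e, he⟩ := hd
  have he2 : 2 ≤ e := by
    by_contra hlt
    interval_cases e <;> omega
  have hcard : Fintype.card (ZMod p) = p := ZMod.card p
  set L := d * (e - 1) with hL
  have hLd : L + d = p - 1 := by rw [he, hL, ← Nat.mul_succ]; congr 1; omega
  have hdL : d ≤ L := Nat.le_mul_of_pos_right d (by omega)
  have sum0 : ∀ Q : (ZMod p)[X], Q.natDegree < p - 1 → ∑ x, Q.eval x = 0 := by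
    intro Q hQ
    simp_rw [eval_eq_sum_range]
    rw [Finset.sum_comm]
    refine Finset.sum_eq_zero fun i hi => ?_
    rw [← Finset.mul_sum, FiniteField.sum_pow_lt_card_sub_one (ZMod p) i, mul_zero]
    rw [hcard]
    exact lt_of_le_of_lt (Nat.lt_succ_iff.1 (Finset.mem_range.1 hi)) hQ
  have moments : ∀ k < d, ∀ j ≤ L, ∑ y, f y ^ k * y ^ j = 0 := by
    intro k hk j hj
    set Q : (ZMod p)[X] := ∑ y, C (f y ^ k) * (X + C (-y)) ^ L with hQ
    have hQ0 : ∀ x, Q.eval x = 0 := by
      intro x
      simp only [hQ, eval_finset_sum, eval_mul, eval_C, eval_pow, eval_add, eval_X]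
      have hb : Function.Bijective f := by
        refine Finite.injective_iff_bijective.1 fun u v huv => ?_
        have h1 := h u v
        rw [huv, sub_self, zero_pow hd0.ne'] at h1
        exact sub_eq_zero.1 (pow_eq_zero_iff hd0.ne' |>.1 h1.symm)
      calc ∑ y, f y ^ k * (x + -y) ^ L = ∑ y, f y ^ k * (f x - f y) ^ L := by
            refine Finset.sum_congr rfl fun y _ => ?_
            rw [← sub_eq_add_neg, hL, pow_mul, pow_mul, h]
        _ = ∑ z, z ^ k * (f x - z) ^ L := hb.sum_comp (fun z => z ^ k * (f x - z) ^ L)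
        _ = ∑ z, ((X : (ZMod p)[X]) ^ k * (C (f x) - X) ^ L).eval z := by simp
        _ = 0 := sum0 _ (by
            refine lt_of_le_of_lt (b := k + L) ?_ (by omega)
            refine natDegree_mul_le.trans (add_le_add (natDegree_X_pow_le k) ?_)
            refine natDegree_pow_le.trans ?_
            have : (C (f x) - X : (ZMod p)[X]).natDegree ≤ 1 :=
              (natDegree_sub_le _ _).trans (by simp)
            calc L * _ ≤ L * 1 := Nat.mul_le_mul_left L this
              _ = L := mul_one L)
    have hQz : Q = 0 := by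
      refine eq_zero_of_natDegree_lt_card_of_eval_eq_zero Q (f := id) Function.injective_id hQ0 ?_
      refine lt_of_le_of_lt (natDegree_sum_le_of_forall_le _ _ fun y _ => ?_) (by omega : L < Fintype.card (ZMod p))
      refine (natDegree_C_mul_le _ _).trans (natDegree_pow_le.trans ?_)
      rw [natDegree_X_add_C, mul_one]
    have hc := congrArg (fun R : (ZMod p)[X] => R.coeff (L - j)) hQz
    simp only [hQ, finset_sum_coeff, coeff_C_mul, coeff_X_add_C_pow, coeff_zero,
      show L - (L - j) = j by omega] at hc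
    have hch : ((L.choose (L - j) : ℕ) : ZMod p) ≠ 0 := by
      rw [Ne, ZMod.natCast_eq_zero_iff]
      exact (Fact.out : p.Prime).coprime_iff_not_dvd.1
        ((Fact.out : p.Prime).coprime_choose_of_lt (by omega : L < p) (Nat.sub_le L j))
    have hc2 : ((-1 : ZMod p) ^ j) * ∑ y, f y ^ k * (y ^ j * (L.choose (L - j) : ZMod p)) = 0 := by
      rw [Finset.mul_sum, ← hc]
      refine Finset.sum_congr rfl fun y _ => ?_
      rw [neg_pow y j]
      ring
    have hc' := (mul_eq_zero.1 hc2).resolve_left (pow_ne_zero _ (neg_ne_zero.2 one_ne_zero))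
    simp_rw [← mul_assoc] at hc'
    rw [← Finset.sum_mul] at hc'
    exact (mul_eq_zero.1 hc').resolve_right hch
  -- a power of `P` of degree between `d` and `p - 2` gives a contradiction
  have hdeg : ∀ k < d, d ≤ k * n → k * n ≤ p - 1 → False := by
    intro k hk h1 h2
    set j := p - 1 - k * n with hj
    have hm := moments k hk j (by omega)
    set R := P ^ k * X ^ j with hR
    have hRd : R.natDegree = p - 1 := by
      rw [hR, natDegree_mul (pow_ne_zero _ hP0) (pow_ne_zero _ X_ne_zero), natDegree_pow,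
        natDegree_X_pow, ← hn]
      omega
    have hR0 : R ≠ 0 := mul_ne_zero (pow_ne_zero _ hP0) (pow_ne_zero _ X_ne_zero)
    have hsum : ∑ x, R.eval x = - R.leadingCoeff := by
      simp_rw [eval_eq_sum_range]
      rw [Finset.sum_comm, Finset.sum_range_succ, Finset.sum_eq_zero, zero_add, ← Finset.mul_sum,
        leadingCoeff, hRd]
      · rw [← Finset.sum_erase_add _ _ (Finset.mem_univ (0 : ZMod p)), zero_pow (by omega : p - 1 ≠ 0),
          add_zero, Finset.sum_congr rfl (fun x hx => ZMod.pow_card_sub_one_eq_one (Finset.ne_of_mem_erase hx))]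
        simp [Finset.card_erase_of_mem, Nat.cast_sub (Fact.out : p.Prime).one_le]
      · intro i hi
        rw [← Finset.mul_sum, FiniteField.sum_pow_lt_card_sub_one (ZMod p) i, mul_zero]
        rw [hcard]
        rw [hRd] at hi
        exact Finset.mem_range.1 hi
    have hz : ∑ x, R.eval x = 0 := by simpa [hR, hPe] using hm
    rw [hz] at hsum
    exact leadingCoeff_ne_zero.2 hR0 (neg_eq_zero.1 hsum.symm)
  by_cases hnd : d ≤ n
  · -- then `k = 1`; `n ≤ p - 1`
    rcases Nat.lt_or_ge 1 d with hd1 | hd1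
    · exact hdeg 1 hd1 (by omega) (by omega)
    · -- `d = 1`
      have : ∀ x, f x = x + f 0 := fun x => by
        have := h x 0
        rw [show d = 1 by omega, pow_one, pow_one, sub_zero] at this
        linear_combination this
      have hPX : P = X + C (f 0) := by
        refine eq_of_natDegree_lt_card_of_eval_eq' _ _ Finset.univ (fun x _ => by rw [hPe, eval_add, eval_X, eval_C, this x]) ?_
        rw [natDegree_X_add_C, Finset.card_univ, hcard]
        exact max_lt hnp (by omega)
      rw [hn, hPX, natDegree_X_add_C] at hn1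
      exact hn1 le_rfl
  · set k := (d + n - 1) / n with hk
    have h1 : d ≤ k * n := by
      have := Nat.div_add_mod (d + n - 1) n
      have := Nat.mod_lt (d + n - 1) (show n > 0 by omega)
      rw [hk, mul_comm]; omega
    have h2 : k * n ≤ d + n - 1 := Nat.div_mul_le_self _ _
    have h3 : k < d := by
      rw [hk, Nat.div_lt_iff_lt_mul (by omega)]
      have : d * n ≥ d * 2 := Nat.mul_le_mul_left d (by omega)
      omega
    exact hdeg k h3 h1 (by omega)


/-- Closures of subgroups of the one-dimensional affine group. Let p be a prime and G a group of permutations of F_p lying in the affine group AGL₁(p) = {x ↦ ax + b, a ≠ 0} and containing all translations. (1) If G is a proper subgroup of AGL₁(p), then G is 2-closed: a permutation of F_p agreeing on every ordered pair of points with some element of G lies in G. (2) Every permutation of F_p agrees on every ordered pair with some element of AGL₁(p) (the 2-closure of AGL₁(p) is the symmetric group). (3) AGL₁(p) is 3-closed: a permutation agreeing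 on every ordered triple with some affine map is affine. -/
theorem result (p : ℕ) [Fact p.Prime] (G : Subgroup (Equiv.Perm (ZMod p))) (hG : G ≤ Cfsg.affineGroup (ZMod p))
    (htrans : ∀ b : ZMod p, ∃ g ∈ G, ∀ x, g x = x + b) :
    (G ≠ Cfsg.affineGroup (ZMod p) → ∀ σ : Equiv.Perm (ZMod p), (∀ t : Fin 2 → ZMod p, ∃ g ∈ G, ∀ i, σ (t i) = g (t i)) → σ ∈ G) ∧
    (∀ σ : Equiv.Perm (ZMod p), (∀ t : Fin 2 → ZMod p, ∃ g ∈ Cfsg.affineGroup (ZMod p), ∀ i, σ (t i) = g (t i))) ∧
    (∀ σ : Equiv.Perm (ZMod p), (∀ t : Fin 3 → ZMod p, ∃ g ∈ Cfsg.affineGroup (ZMod p), ∀ i, σ (t i) = g (t i)) → σ ∈ Cfsg.affineGroup (ZMod p)) := by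
  classical
  refine ⟨fun hne σ hσ => ?_, fun σ t => ?_, fun σ hσ => ?_⟩
  · let H : Subgroup (ZMod p)ˣ :=
      { carrier := {a | ∃ g ∈ G, ∀ x, g x = (a : ZMod p) * x}
        one_mem' := ⟨1, G.one_mem, by simp⟩
        mul_mem' := by
          rintro a b ⟨g, hg, hga⟩ ⟨k, hk, hkb⟩
          exact ⟨g * k, G.mul_mem hg hk, fun x => by simp [hga, hkb, mul_assoc]⟩
        inv_mem' := by
          rintro a ⟨g, hg, hga⟩
          refine ⟨g⁻¹, G.inv_mem hg, fun x => ?_⟩
          rw [Equiv.Perm.inv_def, Equiv.symm_apply_eq, hga]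
          rw [← mul_assoc, Units.mul_inv, one_mul] }
    have mem_of : ∀ g ∈ G, ∀ (a : (ZMod p)ˣ) (b : ZMod p), (∀ x, g x = (a : ZMod p) * x + b) → a ∈ H := by
      intro g hg a b hab
      obtain ⟨k, hk, hkb⟩ := htrans (-b)
      exact ⟨k * g, G.mul_mem hk hg, fun x => by simp [hkb, hab]⟩
    have of_mem : ∀ a ∈ H, ∀ b : ZMod p, ∃ g ∈ G, ∀ x, g x = (a : ZMod p) * x + b := by
      rintro a ⟨g, hg, hga⟩ b
      obtain ⟨k, hk, hkb⟩ := htrans b
      exact ⟨k * g, G.mul_mem hk hg, fun x => by simp [hkb, hga]⟩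
    have htop : H ≠ ⊤ := by
      intro hH
      refine hne (le_antisymm hG ?_)
      rintro τ ⟨a, b, hab⟩
      obtain ⟨g, hg, hgab⟩ := of_mem a (hH ▸ Subgroup.mem_top a) b
      rwa [show τ = g from Equiv.ext fun x => by rw [hab, hgab]]
    have hcU : Nat.card (ZMod p)ˣ = p - 1 := by
      rw [Nat.card_eq_fintype_card, ZMod.card_units]
    have hdvd : Nat.card H ∣ p - 1 := hcU ▸ Subgroup.card_subgroup_dvd_card H
    have hlt : Nat.card H < p - 1 := by
      refine lt_of_le_of_ne (Nat.le_of_dvd (by have := (Fact.out : p.Prime).two_le; omega) hdvd) ?_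
      exact fun h => htop (Subgroup.eq_top_of_card_eq _ (h.trans hcU.symm))
    obtain ⟨a, b, hab⟩ := burnside_affine p σ (Nat.card H) Nat.card_pos hdvd hlt fun x y => by
      obtain ⟨g, hg, hgt⟩ := hσ ![x, y]
      obtain ⟨a, b, hab⟩ := hG hg
      have ha := mem_of g hg a b hab
      have h0 := hgt 0; have h1 := hgt 1
      simp at h0 h1
      have hp1 : (a : ZMod p) ^ Nat.card H = 1 := by
        have := congrArg (fun u : H => ((u : (ZMod p)ˣ) : ZMod p)) (pow_card_eq_one' (G := H) (x := (⟨a, ha⟩ : H)))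
        simpa only [SubmonoidClass.coe_pow, Units.val_pow_eq_pow_val, OneMemClass.coe_one, Units.val_one] using this
      rw [h0, h1, hab, hab, show (a : ZMod p) * x + b - ((a : ZMod p) * y + b) = (a : ZMod p) * (x - y) by ring,
        mul_pow, hp1, one_mul]
    obtain ⟨g, hg, hgt⟩ := hσ ![0, 1]
    obtain ⟨c, e, hce⟩ := hG hg
    have h0 := hgt 0; have h1 := hgt 1
    simp [hab, hce] at h0 h1
    rwa [show σ = g from Equiv.ext fun x => by rw [hab, hce]; linear_combination x * h1 + (1 - x) * h0]
  · by_cases ht : t 0 = t 1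
    · refine ⟨Equiv.addRight (σ (t 0) - t 0), ⟨1, σ (t 0) - t 0, fun x => by simp⟩, fun i => ?_⟩
      fin_cases i <;> simp [ht]
    · have hd : t 1 - t 0 ≠ 0 := sub_ne_zero.2 (Ne.symm ht)
      have hn : σ (t 1) - σ (t 0) ≠ 0 := sub_ne_zero.2 fun h => ht (σ.injective h).symm
      set a : (ZMod p)ˣ := Units.mk0 _ (div_ne_zero hn hd) with ha
      refine ⟨(Equiv.mulLeft₀ (a : ZMod p) a.ne_zero).trans (Equiv.addRight (σ (t 0) - (a : ZMod p) * t 0)),
        ⟨a, σ (t 0) - (a : ZMod p) * t 0, fun x => by simp⟩, fun i => ?_⟩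
      fin_cases i
      · simp
      · simp only [Fin.mk_one, Fin.isValue, Equiv.trans_apply, Equiv.mulLeft₀_apply, Equiv.coe_addRight]
        rw [ha, Units.val_mk0]
        field_simp
        ring
  · obtain ⟨g, hg, hgt⟩ := hσ ![0, 1, 0]
    obtain ⟨a, b, hab⟩ := hg
    refine ⟨a, b, fun x => ?_⟩
    obtain ⟨k, ⟨c, e, hce⟩, hkt⟩ := hσ ![0, 1, x]
    have k0 := hkt 0; have k1 := hkt 1; have k2 := hkt 2
    have g0 := hgt 0; have g1 := hgt 1
    simp [hab] at g0 g1
    simp [hce, g0, g1] at k0 k1 k2
    rw [k2]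
    linear_combination (norm := ring_nf) (-x) * k1 + (x - 1) * k0

end Cfsg.Agent.S3518
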