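import Cfsg.Statements.S3520
import Cfsg.Agent.MinNormal.Classes

set_option autoImplicit false
open Cfsg

namespace Cfsg.Agent.S3520



/-- Let a finite group G act faithfully and primitively on a finite set Ω with at least two points, suppose G is not almost simple (no non-abelian simple normal subgroup with trivial centralizer), and suppose the derangements of G form exactly two conjugacy classes. Then either Ω has 3 points and G has order 3; or G has a non-trivial abelian normal subgroup N acting regularly, every non-identity element of G fixes at most one point (so, when n > 3, G is a Frobenius group with kernel N), the number n of points is odd and a point stabilizer has order (n − 1)/2; or G is 2-transitive with a non-trivial abelian regular normal subgroup and some non-identity element fixes at least two points (a non-Frobenius 2-transitive affine group). -/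
theorem result {G : Type*} [Group G] [Finite G] {Ω : Type*} [Fintype Ω] [MulAction G Ω] [FaithfulSMul G Ω] (hΩ : 2 ≤ Fintype.card Ω) (hprim : MulAction.IsPreprimitive G Ω) (hnas : ¬ ∃ T : Subgroup G, T.Normal ∧ IsSimpleGroup T ∧ ¬ IsMulCommutative T ∧ Subgroup.centralizer (T : Set G) = ⊥)
    (hκ : Nat.card {c : ConjClasses G // ∃ g : G, ConjClasses.mk g = c ∧ ∀ ω : Ω, g • ω ≠ ω} = 2) (α : Ω) :
    (Fintype.card Ω = 3 ∧ Nat.card G = 3) ∨
    ((∃ N : Subgroup G, N.Normal ∧ N ≠ ⊥ ∧ IsMulCommutative N ∧ ∀ ω : Ω, MulAction.stabilizer N ω = ⊥) ∧ (∀ g : G, g ≠ 1 → Nat.card (MulAction.fixedBy Ω g) ≤ 1) ∧ ¬ 2 ∣ Fintype.card Ω ∧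
        2 * Nat.card (MulAction.stabilizer G α) = Fintype.card Ω - 1) ∨
    ((∃ N : Subgroup G, N.Normal ∧ N ≠ ⊥ ∧ IsMulCommutative N ∧ ∀ ω : Ω, MulAction.stabilizer N ω = ⊥) ∧ MulAction.IsMultiplyPretransitive G Ω 2 ∧ ∃ g : G, g ≠ 1 ∧ 2 ≤ Nat.card (MulAction.fixedBy Ω g)) := by
  classical
  haveI := hprim
  obtain ⟨N, hNn, hN, hNc, hNtr, hNreg⟩ :=
    CfsgLib.MinNormal.exists_abelian_regular hΩ hnas
      (show Nat.card (CfsgLib.MinNormal.DerClasses G Ω) ≤ 2 from hκ.le)
  right
  have hder : ∀ x ∈ N, x ≠ 1 → ∀ ω : Ω, x • ω ≠ ω := by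
    intro x hx hx1 ω h
    have : (⟨x, hx⟩ : N) ∈ MulAction.stabilizer N ω := h
    rw [hNreg, Subgroup.mem_bot] at this
    exact hx1 (congrArg Subtype.val this)
  by_cases hall : ∀ g : G, g ≠ 1 → Nat.card (MulAction.fixedBy Ω g) ≤ 1
  swap
  · right
    push Not at hall
    obtain ⟨g, hg, hg2⟩ := hall
    obtain ⟨⟨a, ha⟩, ⟨b, hb⟩, hab⟩ := (Finite.one_lt_card_iff_nontrivial.1 hg2).exists_pair_ne
    obtain ⟨z, hzN, hz⟩ := CfsgLib.MinNormal.exists_derangement_not_mem hNc hg
      (fun e => hab (Subtype.ext e)) ha hb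
    refine ⟨⟨N, hNn, hN, hNc, hNreg⟩,
      CfsgLib.MinNormal.is_two_pretransitive hNc fun x hx y hy hx1 hy1 => ?_, g, hg, hg2⟩
    by_contra hxy
    have key : ∀ w ∈ N, ¬ IsConj w z := fun w hw h => by
      obtain ⟨c, rfl⟩ := isConj_iff.1 h
      exact hzN (hNn.conj_mem w hw c)
    have h3 : 3 ≤ Nat.card (CfsgLib.MinNormal.DerClasses G Ω) := by
      refine CfsgLib.MinNormal.le_card_derClasses ![x, y, z] (fun i => ?_) (fun i j h => ?_)
      · fin_cases i
        · exact hder x hx hx1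
        · exact hder y hy hy1
        · exact hz
      · fin_cases i <;> fin_cases j <;> first
          | rfl
          | exact absurd h hxy
          | exact absurd h.symm hxy
          | exact absurd h (key x hx)
          | exact absurd h.symm (key x hx)
          | exact absurd h (key y hy)
          | exact absurd h.symm (key y hy)
    change 3 ≤ _ at h3
    have hκ' : Nat.card (CfsgLib.MinNormal.DerClasses G Ω) = 2 := hκ
    omega
  left
  refine ⟨⟨N, hNn, hN, hNc, hNreg⟩, hall, ?_⟩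
  -- every derangement lies in `N`
  set H := MulAction.stabilizer G α with hH
  have hfix : ∀ g : G, g ≠ 1 → ∀ a b : Ω, g • a = a → g • b = b → a = b := by
    intro g hg a b ha hb
    exact congrArg Subtype.val (((Finite.card_le_one_iff_subsingleton.1 (hall g hg))).elim
      (⟨a, ha⟩ : MulAction.fixedBy Ω g) ⟨b, hb⟩)
  have hmemN : ∀ g : G, (∀ ω : Ω, g • ω ≠ ω) → g ∈ N := by
    intro g hg
    by_contra hgN
    obtain ⟨⟨n, hn⟩, hnα⟩ := MulAction.exists_smul_eq N α (g • α)
    change n • α = g • α at hnα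
    set h := n⁻¹ * g with hh
    have hα : h • α = α := by rw [hh, mul_smul, ← hnα, inv_smul_smul]
    have h1 : h ≠ 1 := fun e => hgN (by
      rw [hh, inv_mul_eq_one] at e; exact e ▸ hn)
    -- `m ↦ m (h m⁻¹ h⁻¹)` is onto `N`
    let f : N → N := fun m => ⟨(m : G) * (h * (m : G)⁻¹ * h⁻¹), N.mul_mem m.2
      (hNn.conj_mem _ (N.inv_mem m.2) h)⟩
    have hinj : Function.Injective f := by
      intro m m' hmm
      have e : (m : G) * (h * (m : G)⁻¹ * h⁻¹) = m' * (h * (m' : G)⁻¹ * h⁻¹) := congrArg Subtype.val hmm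
      have e1 : h * ((m' : G)⁻¹ * m)⁻¹ * h⁻¹ = ((m' : G)⁻¹ * m)⁻¹ := by
        have c1 : ∀ x ∈ N, ∀ y ∈ N, x * y = y * x := fun x hx y hy =>
          congrArg Subtype.val (hNc.is_comm.comm (⟨x, hx⟩ : N) ⟨y, hy⟩)
        have e2 : (m' : G)⁻¹ * m * (h * (m : G)⁻¹ * h⁻¹) = h * (m' : G)⁻¹ * h⁻¹ := by
          rw [mul_assoc, e, inv_mul_cancel_left]
        have e3 : (m' : G)⁻¹ * m = h * ((m' : G)⁻¹ * m) * h⁻¹ :=
          calc (m' : G)⁻¹ * m = h * (m' : G)⁻¹ * h⁻¹ * (h * (m : G)⁻¹ * h⁻¹)⁻¹ := by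
                rw [← e2, mul_inv_cancel_right]
            _ = _ := by group
        conv_rhs => rw [e3]
        group
      have hd : h * ((m' : G)⁻¹ * m) * h⁻¹ = (m' : G)⁻¹ * m := by
        have := congrArg (·⁻¹) e1
        simpa [mul_assoc] using this
      have hfx : h • ((m' : G)⁻¹ * m) • α = ((m' : G)⁻¹ * m) • α := by
        rw [← mul_smul, mul_inv_eq_iff_eq_mul.1 hd, mul_smul, hα]
      by_contra hne
      exact hder _ (N.mul_mem (N.inv_mem m'.2) m.2) (fun e' => hne (Subtype.ext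
        (inv_mul_eq_one.1 e')).symm) α (hfix h h1 _ _ hfx hα)
    obtain ⟨m, hm⟩ := Finite.injective_iff_surjective.1 hinj ⟨n, hn⟩
    have hm' : (m : G) * (h * (m : G)⁻¹ * h⁻¹) = n := congrArg Subtype.val hm
    refine hg ((m : G) • α) ?_
    rw [show g = n * h by rw [hh, mul_inv_cancel_left], ← hm',
      show (m : G) * (h * (m : G)⁻¹ * h⁻¹) * h = m * h * (m : G)⁻¹ by group,
      ← mul_smul, inv_mul_cancel_right, mul_smul, hα]
  -- two regular orbits of `H` on the nonidentity elements of `N`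
  obtain ⟨c₁, c₂, hc, hcu⟩ := Nat.card_eq_two_iff.1 hκ
  obtain ⟨x₁, hx₁, hd₁⟩ := c₁.2
  obtain ⟨x₂, hx₂, hd₂⟩ := c₂.2
  have hstab : ∀ x ∈ N, ∀ y ∈ N, IsConj x y → ∃ h ∈ H, h * x * h⁻¹ = y := by
    intro x hx y hy hxy
    obtain ⟨g, hg⟩ := isConj_iff.1 hxy
    obtain ⟨⟨m, hm⟩, hma⟩ := MulAction.exists_smul_eq N α (g • α)
    change m • α = g • α at hma
    refine ⟨m⁻¹ * g, ?_, ?_⟩
    · rw [hH, MulAction.mem_stabilizer_iff, mul_smul, ← hma, inv_smul_smul]
    · rw [show m⁻¹ * g * x * (m⁻¹ * g)⁻¹ = m⁻¹ * (g * x * g⁻¹) * m by group, hg, mul_assoc,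
        show y * m = m * y from congrArg Subtype.val (hNc.is_comm.comm (⟨y, hy⟩ : N) ⟨m, hm⟩),
        inv_mul_cancel_left]
  let rep : Fin 2 → G := ![x₁, x₂]
  have hrN : ∀ i, rep i ∈ N := fun i => by
    fin_cases i
    · exact hmemN x₁ hd₁
    · exact hmemN x₂ hd₂
  have hr1 : ∀ i, ∀ ω : Ω, rep i • ω ≠ ω := fun i => by
    fin_cases i <;> assumption
  have hreq : ∀ i j, IsConj (rep i) (rep j) → i = j := by
    intro i j h
    have hm := ConjClasses.mk_eq_mk_iff_isConj.2 h
    fin_cases i <;> fin_cases j <;> simp [rep, hx₁, hx₂] at hm ⊢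
    · exact hc (Subtype.ext hm)
    · exact hc (Subtype.ext hm.symm)
  have hcard : 2 * Nat.card H = Fintype.card Ω - 1 := by
    have hbij : Function.Bijective (fun p : Fin 2 × H =>
        (⟨(p.2 : G) • rep p.1 • α, fun e => hr1 p.1 α (smul_left_cancel (p.2 : G)
          (e.trans (MulAction.mem_stabilizer_iff.1 p.2.2).symm))⟩ : {ω : Ω // ω ≠ α})) := by
      constructor
      · rintro ⟨i, h, hh⟩ ⟨j, k, hk⟩ e
        have e' : h • rep i • α = k • rep j • α := congrArg Subtype.val e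
        have hconjN : ∀ (l : G), l ∈ H → ∀ x ∈ N, (l * x * l⁻¹) • α = l • x • α := fun l hl x hx => by
          rw [mul_smul, mul_smul, inv_smul_eq_iff.2 (MulAction.mem_stabilizer_iff.1 hl).symm]
        rw [← hconjN h hh _ (hrN i), ← hconjN k hk _ (hrN j)] at e'
        have e2 : h * rep i * h⁻¹ = k * rep j * k⁻¹ := by
          have h3 : (⟨(k * rep j * k⁻¹)⁻¹ * (h * rep i * h⁻¹), N.mul_mem (N.inv_mem (hNn.conj_mem _ (hrN j) k))
              (hNn.conj_mem _ (hrN i) h)⟩ : N) ∈ MulAction.stabilizer N α := by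
            show ((k * rep j * k⁻¹)⁻¹ * (h * rep i * h⁻¹)) • α = α
            rw [mul_smul, e', inv_smul_smul]
          rw [hNreg, Subgroup.mem_bot] at h3
          exact (inv_mul_eq_one.1 (congrArg Subtype.val h3 :)).symm
        have e3 : k⁻¹ * h * rep i * (k⁻¹ * h)⁻¹ = rep j := by
          rw [show k⁻¹ * h * rep i * (k⁻¹ * h)⁻¹ = k⁻¹ * (h * rep i * h⁻¹) * k by group, e2]
          group
        obtain rfl := hreq i j (isConj_iff.2 ⟨_, e3⟩)
        by_contra hne
        have hl1 : k⁻¹ * h ≠ 1 := fun e4 => hne (by rw [inv_mul_eq_one] at e4; subst e4; rfl)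
        have hl : (k⁻¹ * h) • α = α := H.mul_mem (H.inv_mem hk) hh
        have := hconjN _ (H.mul_mem (H.inv_mem hk) hh) _ (hrN i)
        rw [e3] at this
        exact hr1 i α (hfix _ hl1 _ α this.symm hl)
      · rintro ⟨ω, hω⟩
        obtain ⟨⟨y, hy⟩, rfl⟩ := MulAction.exists_smul_eq N α ω
        have hy1 : y ≠ 1 := fun e => hω (by subst e; exact one_smul G α)
        have hcl := hcu ▸ (Set.mem_univ (⟨ConjClasses.mk y, y, rfl, hder y hy hy1⟩ :
          CfsgLib.MinNormal.DerClasses G Ω))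
        have : ∃ i, IsConj (rep i) y := by
          rcases hcl with h | h
          · exact ⟨0, ConjClasses.mk_eq_mk_iff_isConj.1 (hx₁.trans (congrArg Subtype.val h).symm)⟩
          · exact ⟨1, ConjClasses.mk_eq_mk_iff_isConj.1 (hx₂.trans (congrArg Subtype.val h).symm)⟩
        obtain ⟨i, hi⟩ := this
        obtain ⟨h, hh, hhy⟩ := hstab _ (hrN i) y hy hi
        refine ⟨(i, ⟨h, hh⟩), Subtype.ext ?_⟩
        show h • rep i • α = y • α
        rw [← hhy, mul_smul, mul_smul, inv_smul_eq_iff.2 (MulAction.mem_stabilizer_iff.1 hh).symm]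
    have := Nat.card_congr (Equiv.ofBijective _ hbij)
    rw [Nat.card_prod, Nat.card_fin, Nat.card_eq_fintype_card (α := {ω : Ω // ω ≠ α}),
      Fintype.card_subtype_compl, Fintype.card_subtype_eq] at this
    exact this
  exact ⟨by omega, hcard⟩

end Cfsg.Agent.S3520
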