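import Cfsg.Statements.S3521
import Cfsg.Agent.ExtremelyPrimitive.Affine
import Cfsg.Agent.Solvable.FixedPointFree

set_option autoImplicit false
open Cfsg

namespace Cfsg.Agent.S3521



/-- Let a finite group G that is not solvable act faithfully and primitively on a finite set with p ^ d points (p prime), with a non-trivial abelian normal subgroup acting regularly (affine type) and with non-trivial point stabilizers each acting primitively on every one of its orbits (an insoluble extremely primitive group of affine type). Then p = 2; and if moreover G is not 2-transitive, then a point stabilizer is almost simple (it has a non-abelian simple normal subgroup with trivial centralizer). -/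
theorem result {G : Type*} [Group G] [Finite G] {Ω : Type*} [Fintype Ω] [MulAction G Ω] [FaithfulSMul G Ω] (p d : ℕ) (hp : p.Prime) (hcard : Fintype.card Ω = p ^ d) (hsol : ¬ Group.IsSolvable G)
    (N : Subgroup G) [N.Normal] (hN : N ≠ ⊥) (hNc : IsMulCommutative N) (hNreg : ∀ ω : Ω, MulAction.stabilizer N ω = ⊥)
    (hprim : MulAction.IsPreprimitive G Ω) (hH : ∀ α : Ω, MulAction.stabilizer G α ≠ ⊥) (hep : ∀ (α : Ω) (ω : Ω), MulAction.IsPreprimitive (MulAction.stabilizer G α) (MulAction.orbit (MulAction.stabilizer G α) ω)) (α : Ω) :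
    p = 2 ∧ (¬ MulAction.IsMultiplyPretransitive G Ω 2 → ∃ T : Subgroup (MulAction.stabilizer G α), T.Normal ∧ IsSimpleGroup T ∧ ¬ IsMulCommutative T ∧ Subgroup.centralizer (T : Set (MulAction.stabilizer G α)) = ⊥) := by
  classical
  haveI : Fact p.Prime := ⟨hp⟩
  haveI := hprim.toIsPretransitive
  set H := MulAction.stabilizer G α with hHdef
  letI : CommGroup N := { (inferInstance : Group N) with mul_comm := fun a b => hNc.is_comm.comm a b }
  -- a normal subgroup contained in `N` is trivial or all of `N`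
  have htrans : ∀ L : Subgroup G, L.Normal → L ≠ ⊥ → MulAction.IsPretransitive L Ω := by
    intro L hL hL0
    haveI := hL
    obtain ⟨l, hl, hl1⟩ := (Subgroup.bot_or_exists_ne_one L).resolve_left hL0
    refine MulAction.IsQuasiPreprimitive.isPretransitive_of_normal fun hfix => hl1 ?_
    refine eq_of_smul_eq_smul fun ω : Ω => ?_
    rw [one_smul]
    exact MulAction.mem_fixedPoints.1 (hfix ▸ Set.mem_univ ω) ⟨l, hl⟩
  haveI := htrans N inferInstance hN
  have hinj : ∀ {n n' : N}, (n : G) • α = (n' : G) • α → n = n' := fun {n n'} h => by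
    have h1 : n'⁻¹ * n ∈ MulAction.stabilizer N α := by
      rw [MulAction.mem_stabilizer_iff, Subgroup.smul_def, Subgroup.coe_mul, Subgroup.coe_inv, mul_smul, h,
        inv_smul_smul]
    rw [hNreg, Subgroup.mem_bot, inv_mul_eq_one] at h1
    exact h1.symm
  have hsurj : ∀ ω : Ω, ∃ n : N, (n : G) • α = ω := fun ω => MulAction.exists_smul_eq N α ω
  have hNcard : Nat.card N = p ^ d := by
    rw [← hcard, ← Nat.card_eq_fintype_card]
    exact Nat.card_eq_of_bijective (fun n : N => (n : G) • α) ⟨fun a b h => hinj h, hsurj⟩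
  letI : MulDistribMulAction H N := MulDistribMulAction.compHom N ((MulAut.conjNormal (H := N)).comp H.subtype)
  have hsm : ∀ (h : H) (n : N), ((h • n : N) : G) = h * n * (h : G)⁻¹ := fun h n => MulAut.conjNormal_apply _ _
  have hpt : ∀ (h : H) (n : N), (h : G) • ((n : G) • α) = ((h • n : N) : G) • α := fun h n => by
    have hα : (h : G)⁻¹ • α = α := MulAction.mem_stabilizer_iff.1 (inv_mem h.2)
    rw [hsm, mul_smul, hα, mul_smul]
  have hfaith : ∀ h : H, (∀ n : N, h • n = n) → h = 1 := fun h hh => Subtype.ext (eq_of_smul_eq_smul fun ω : Ω => by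
    obtain ⟨n, rfl⟩ := hsurj ω
    rw [hpt, hh, Subgroup.coe_one, one_smul])
  have hGNH : ∀ g : G, ∃ (n : N) (h : H), g = n * h := fun g => by
    obtain ⟨n, hn⟩ := hsurj (g • α)
    exact ⟨n, ⟨(n : G)⁻¹ * g, by rw [MulAction.mem_stabilizer_iff, mul_smul, ← hn, inv_smul_smul]⟩, by simp⟩
  have hns : ¬ Group.IsSolvable H := fun h => hsol (by
    haveI := h
    haveI : Group.IsSolvable N := Group.isSolvable_of_comm fun a b => mul_comm a b
    haveI : Group.IsSolvable (G ⧸ N) := Group.isSolvable_of_surjective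
      (f := (QuotientGroup.mk' N).comp H.subtype) fun x => by
        induction x using QuotientGroup.induction_on with
        | H g =>
          obtain ⟨n, h, rfl⟩ := hGNH g
          refine ⟨h, ?_⟩
          have : ((n : G) : G ⧸ N) = 1 := (QuotientGroup.eq_one_iff _).2 n.2
          show ((h : G) : G ⧸ N) = _
          rw [QuotientGroup.mk_mul, this, one_mul]
    exact Group.isSolvable_of_ker_le_range N.subtype (QuotientGroup.mk' N) (by simp))
  -- normal subgroups fixing a vector are trivial
  have hcore : ∀ K : Subgroup H, K.Normal → ∀ v : N, v ≠ 1 → K ≤ MulAction.stabilizer H v → K = ⊥ := by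
    intro K hK v hv hKv
    let W : Subgroup G := N ⊓ Subgroup.centralizer ((K.map H.subtype : Subgroup G) : Set G)
    have hW : W.Normal := ⟨fun w hw g => by
      obtain ⟨n, h, rfl⟩ := hGNH g
      have hwN : (h : G) * w * (h : G)⁻¹ ∈ N := Subgroup.Normal.conj_mem inferInstance w hw.1 h
      have hwC : (h : G) * w * (h : G)⁻¹ ∈ Subgroup.centralizer ((K.map H.subtype : Subgroup G) : Set G) := by
        refine Subgroup.mem_centralizer_iff.2 ?_
        rintro _ ⟨k, hk, rfl⟩
        have h1 := Subgroup.mem_centralizer_iff.1 hw.2 _ ⟨h⁻¹ * k * h, by simpa using hK.conj_mem k hk h⁻¹, rfl⟩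
        simp only [Subgroup.coe_subtype, Subgroup.coe_mul, Subgroup.coe_inv] at h1 ⊢
        calc (k : G) * ((h : G) * w * (h : G)⁻¹) = (h : G) * ((h : G)⁻¹ * k * h * w) * (h : G)⁻¹ := by group
          _ = _ := by rw [h1]; group
      have e : (n : G) * h * w * ((n : G) * h)⁻¹ = (h : G) * w * (h : G)⁻¹ := by
        have h2 : (n : G) * ((h : G) * w * (h : G)⁻¹) = (h : G) * w * (h : G)⁻¹ * n :=
          congrArg Subtype.val (mul_comm n ⟨_, hwN⟩)
        calc _ = (n : G) * ((h : G) * w * (h : G)⁻¹) * (n : G)⁻¹ := by group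
          _ = _ := by rw [h2, mul_inv_cancel_right]
      rw [e]
      exact ⟨hwN, hwC⟩⟩
    have hvW : (v : G) ∈ W := by
      refine ⟨v.2, Subgroup.mem_centralizer_iff.2 ?_⟩
      rintro _ ⟨k, hk, rfl⟩
      have h1 := congrArg Subtype.val (MulAction.mem_stabilizer_iff.1 (hKv hk))
      rw [hsm] at h1
      exact mul_inv_eq_iff_eq_mul.1 h1
    haveI := htrans W hW fun h0 => hv (Subtype.ext (Subgroup.mem_bot.1 (h0 ▸ hvW)))
    rw [Subgroup.eq_bot_iff_forall]
    intro k hk
    refine hfaith k fun n => ?_
    obtain ⟨w, hw⟩ := MulAction.exists_smul_eq W α ((n : G) • α)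
    obtain rfl : n = ⟨w, w.2.1⟩ := hinj hw.symm
    apply Subtype.ext
    rw [hsm]
    exact mul_inv_eq_iff_eq_mul.2 (Subgroup.mem_centralizer_iff.1 w.2.2 _ ⟨k, hk, rfl⟩)
  -- stabilisers of non-trivial vectors are maximal
  have hmax : ∀ v : N, v ≠ 1 → IsCoatom (MulAction.stabilizer H v) := by
    intro v hv
    have hst : MulAction.stabilizer H v = MulAction.stabilizer H ((v : G) • α) := by
      ext h
      rw [MulAction.mem_stabilizer_iff, MulAction.mem_stabilizer_iff, Subgroup.smul_def, hpt]
      exact ⟨fun e => by rw [e], fun e => hinj e⟩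
    have hne : MulAction.stabilizer H v ≠ ⊤ := fun h => by
      apply hns
      have := hcore ⊤ inferInstance v hv h.ge
      haveI : Subsingleton H := Subgroup.subsingleton_iff.1 (subsingleton_of_bot_eq_top this.symm)
      exact Group.isSolvable_of_comm fun a b => Subsingleton.elim _ _
    let ω : MulAction.orbit H ((v : G) • α) := ⟨_, MulAction.mem_orbit_self _⟩
    haveI : Nontrivial (MulAction.orbit H ((v : G) • α)) := by
      refine ⟨ω, ?_⟩
      by_contra hall
      push Not at hall
      refine hne (eq_top_iff.2 fun h _ => ?_)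
      rw [hst, MulAction.mem_stabilizer_iff]
      exact congrArg Subtype.val (hall ⟨_, MulAction.mem_orbit _ h⟩).symm
    haveI := hep α ((v : G) • α)
    have h1 := MulAction.IsPreprimitive.isCoatom_stabilizer_of_isPreprimitive (G := H) ω
    have h2 : MulAction.stabilizer H ω = MulAction.stabilizer H ((v : G) • α) := by
      ext h
      simp [ω, MulAction.mem_stabilizer_iff, Subtype.ext_iff]
    rwa [hst, ← h2]
  haveI : Nontrivial N := (Subgroup.nontrivial_iff_ne_bot N).2 hN
  obtain ⟨v₀, hv₀⟩ := exists_ne (1 : N)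
  -- the prime is two
  have hp2 : p = 2 := by
    by_contra hp2
    refine hns (Cfsg.Agent.S0205.result (Nat.not_even_iff_odd.1 fun heven => ?_))
    haveI := Fact.mk Nat.prime_two
    obtain ⟨t, ht⟩ := exists_prime_orderOf_dvd_card' (G := H) 2 (even_iff_two_dvd.1 heven)
    have ht2 : t * t = 1 := by rw [← sq, ← ht]; exact pow_orderOf_eq_one t
    have ht1 : t ≠ 1 := fun e => by rw [e, orderOf_one] at ht; omega
    refine ht1 (hfaith t fun n => ?_)
    by_contra hne
    set w : N := n * (t • n)⁻¹ with hw
    have hw1 : w ≠ 1 := fun e => hne (mul_inv_eq_one.1 e).symm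
    have htw : t • w = w⁻¹ := by
      rw [hw, smul_mul', smul_inv', ← mul_smul, ht2, one_smul, mul_inv_rev, inv_inv]
    set M := MulAction.stabilizer H w with hM
    have htM : t ∉ M := fun h => by
      rw [MulAction.mem_stabilizer_iff, htw, inv_eq_iff_mul_eq_one, ← sq] at h
      have h1 := Nat.dvd_gcd (orderOf_dvd_of_pow_eq_one h) (hNcard ▸ orderOf_dvd_natCard w)
      rw [((Nat.coprime_primes Nat.prime_two hp).2 (Ne.symm hp2)).pow_right d, Nat.dvd_one, orderOf_eq_one_iff] at h1
      exact hw1 h1
    have htn : t ∈ Subgroup.normalizer (M : Set H) := by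
      have key : ∀ x ∈ M, t * x * t⁻¹ ∈ M := fun x hx => by
        rw [MulAction.mem_stabilizer_iff] at hx ⊢
        rw [inv_eq_of_mul_eq_one_right ht2, mul_smul, mul_smul, htw, smul_inv', hx, smul_inv', htw, inv_inv]
      refine Subgroup.mem_normalizer_iff.2 fun x => ⟨key x, fun hx => ?_⟩
      have h1 := key _ hx
      rw [show t * (t * x * t⁻¹) * t⁻¹ = (t * t) * x * (t * t)⁻¹ by group, ht2] at h1
      simpa using h1
    have htop : Subgroup.normalizer (M : Set H) = ⊤ :=
      (hmax w hw1).2 _ (lt_of_le_of_ne Subgroup.le_normalizer fun h => htM (h.ge htn))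
    haveI : M.Normal := Subgroup.normalizer_eq_top_iff.1 htop
    have hbot := hcore M inferInstance w hw1 le_rfl
    have hatom : IsCoatom (⊥ : Subgroup H) := hbot ▸ hmax w hw1
    refine hns (Group.isSolvable_of_comm fun a b => ?_)
    by_cases ha : a = 1
    · simp [ha]
    have hza : Subgroup.zpowers a = ⊤ := hatom.2 _ (bot_lt_iff_ne_bot.2 fun h =>
      ha (Subgroup.mem_bot.1 (h ▸ Subgroup.mem_zpowers a)))
    obtain ⟨i, rfl⟩ := Subgroup.mem_zpowers_iff.1 (show b ∈ Subgroup.zpowers a by rw [hza]; trivial)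
    exact Commute.self_zpow a i
  refine ⟨hp2, fun _ => ?_⟩
  have S : CfsgLib.ExtremelyPrimitive57.Setting H N := by
    refine ⟨hmax, hcore, fun t ht => ?_, fun A hA hAfree => ?_⟩
    · subst hp2
      have hdvd : 2 ∣ Nat.card N := by
        rw [hNcard]
        refine dvd_pow_self 2 fun h0 => ?_
        rw [h0, pow_zero] at hNcard
        exact hv₀ (by
          haveI := (Nat.card_eq_one_iff_unique.1 hNcard).1
          exact Subsingleton.elim _ _)
      obtain ⟨w, hw⟩ := exists_prime_orderOf_dvd_card' (G := N) 2 hdvd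
      have hw1 : w ≠ 1 := fun e => by rw [e, orderOf_one] at hw; omega
      have hw2 : w * w = 1 := by rw [← sq, ← hw]; exact pow_orderOf_eq_one w
      by_cases hu : w * t • w = 1
      · exact ⟨w, hw1, by rw [eq_inv_of_mul_eq_one_right hu, inv_eq_of_mul_eq_one_right hw2]⟩
      · exact ⟨w * t • w, hu, by rw [smul_mul', ← mul_smul, ht, one_smul, mul_comm]⟩
    · haveI := hA
      let A' : Subgroup G := A.map H.subtype
      have hfpf : ∀ a ∈ A', a ≠ 1 → N ⊓ Subgroup.centralizer {a} = ⊥ := by
        rintro _ ⟨a, ha, rfl⟩ ha1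
        rw [Subgroup.eq_bot_iff_forall]
        rintro n ⟨hn, hnc⟩
        have hc : (a : G) * n = n * a := Subgroup.mem_centralizer_iff.1 hnc _ rfl
        have h1 := hAfree a ha (fun e => ha1 (by rw [e]; rfl)) ⟨n, hn⟩ (Subtype.ext (by
          rw [hsm]
          show (a : G) * n * (a : G)⁻¹ = n
          rw [hc, mul_inv_cancel_right]))
        exact congrArg Subtype.val h1
      haveI : IsMulCommutative A' := ⟨⟨by
        rintro ⟨_, a, ha, rfl⟩ ⟨_, b, hb, rfl⟩
        exact Subtype.ext (congrArg (fun z : A => ((z : H) : G)) (mul_comm' (⟨a, ha⟩ : A) ⟨b, hb⟩))⟩⟩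
      haveI := CfsgLib.Solvable.isCyclic_of_fpf_comm hN hfpf (le_refl A')
      exact (Subgroup.equivMapOfInjective A H.subtype H.subtype_injective).isCyclic.2 inferInstance
  exact CfsgLib.ExtremelyPrimitive57.almost_simple S hns hv₀

end Cfsg.Agent.S3521
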