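import Cfsg.Statements.S3524

set_option autoImplicit false
open Cfsg

namespace Cfsg.Agent.S3524



/-- A permutation group with a base is closed at one level above the base size. Let G be a group of permutations of a set Ω and suppose some k points α₁, …, α_k are fixed simultaneously only by the identity of G (a base of size k). Then G is (k+1)-closed: a permutation of Ω that agrees on every (k+1)-tuple of points with some element of G belongs to G. -/
theorem result {Ω : Type*} (G : Subgroup (Equiv.Perm Ω)) (k : ℕ) (α : Fin k → Ω)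
    (hbase : ∀ g ∈ G, (∀ i, g (α i) = α i) → g = 1) (σ : Equiv.Perm Ω)
    (hσ : ∀ t : Fin (k + 1) → Ω, ∃ g ∈ G, ∀ i, σ (t i) = g (t i)) : σ ∈ G := by
  have key : ∀ x, ∃ g ∈ G, σ x = g x ∧ ∀ i, σ (α i) = g (α i) := by
    intro x
    obtain ⟨g, hg, hgt⟩ := hσ (Fin.cons x α)
    exact ⟨g, hg, by simpa using hgt 0, fun i => by simpa using hgt i.succ⟩
  by_cases hΩ : Nonempty Ω
  · obtain ⟨x₀⟩ := hΩ
    obtain ⟨g, hg, -, hgα⟩ := key x₀
    suffices σ = g by rw [this]; exact hg
    ext x
    obtain ⟨k', hk', hx, hkα⟩ := key x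
    have h1 : g⁻¹ * k' = 1 := by
      refine hbase _ (G.mul_mem (G.inv_mem hg) hk') fun i => ?_
      rw [Equiv.Perm.mul_apply, ← hkα i, hgα i]
      exact g.symm_apply_apply _
    rw [hx, inv_mul_eq_one.mp h1]
  · have : σ = 1 := Equiv.ext fun x => absurd ⟨x⟩ hΩ
    rw [this]; exact G.one_mem

end Cfsg.Agent.S3524
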