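import Cfsg.Statements.S3532
import Cfsg.Agent.S2475

set_option autoImplicit false
open Cfsg

namespace Cfsg.Agent.S3532

open SemidirectProduct

variable {E : Type} [Field E]

/-- Multiplication by a subgroup of units, as automorphisms of the additive group. -/
def scaleHom (K : Subgroup Eˣ) : ↥K →* MulAut (Multiplicative E) where
  toFun u := AddEquiv.toMultiplicative
    { toFun := fun v => ((u : Eˣ) : E) * v
      invFun := fun v => (((u : Eˣ)⁻¹ : Eˣ) : E) * v
      left_inv := fun v => by simp
      right_inv := fun v => by simp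
      map_add' := fun v w => mul_add _ v w }
  map_one' := by
    refine MulEquiv.ext fun v => ?_
    simp
  map_mul' u w := by
    refine MulEquiv.ext fun v => ?_
    simp [MulAut.mul_apply, mul_assoc]

theorem scaleHom_apply (K : Subgroup Eˣ) (u : ↥K) (v : Multiplicative E) :
    scaleHom K u v = Multiplicative.ofAdd (((u : Eˣ) : E) * v.toAdd) := rfl

/-- The Frobenius group `E ⋊ K`. -/
abbrev Frob (K : Subgroup Eˣ) : Type := Multiplicative E ⋊[scaleHom K] ↥K

theorem frob_solvable (K : Subgroup Eˣ) : Group.IsSolvable (Frob K) :=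
  Group.isSolvable_of_ker_le_range (inl : Multiplicative E →* Frob K) (rightHom : Frob K →* ↥K)
    range_inl_eq_ker_rightHom.ge

theorem frob_range [Finite E] (p : ℕ) [Fact p.Prime] [CharP E p] (K : Subgroup Eˣ) :
    Set.range (orderOf : Frob K → ℕ) = {m : ℕ | m ∣ p ∨ m ∣ Nat.card ↥K} := by
  have hfin : Finite (Frob K) := Finite.of_equiv _ SemidirectProduct.equivProd.symm
  apply Set.Subset.antisymm
  · rintro _ ⟨x, rfl⟩
    by_cases hu : x.right = 1
    · left
      have hx : x = inl x.left := SemidirectProduct.ext (by simp) (by simp [hu])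
      rw [hx, orderOf_injective _ inl_injective]
      refine orderOf_dvd_of_pow_eq_one ?_
      apply Multiplicative.toAdd.injective
      simp [toAdd_pow, nsmul_eq_mul]
    · right
      have hne : (1 : E) - ((x.right : Eˣ) : E) ≠ 0 := by
        rw [sub_ne_zero]
        intro h
        exact hu (Subtype.ext (Units.ext h.symm))
      obtain ⟨w, hw⟩ : ∃ w : E, (1 - ((x.right : Eˣ) : E)) * w = x.left.toAdd :=
        ⟨_, mul_div_cancel₀ _ hne⟩
      have hx : x = MulAut.conj (inl (Multiplicative.ofAdd w) : Frob K) (inr x.right) := by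
        rw [MulAut.conj_apply]
        refine SemidirectProduct.ext ?_ (by simp)
        apply Multiplicative.toAdd.injective
        rw [← map_inv, SemidirectProduct.mul_left, SemidirectProduct.mul_left,
          SemidirectProduct.mul_right, SemidirectProduct.left_inl, SemidirectProduct.left_inl,
          SemidirectProduct.left_inr, SemidirectProduct.right_inl, SemidirectProduct.right_inr,
          map_one, mul_one, one_mul, scaleHom_apply, toAdd_mul, toAdd_ofAdd, toAdd_ofAdd,
          toAdd_inv, toAdd_ofAdd, ← hw]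
        ring
      rw [hx, MulEquiv.orderOf_eq, orderOf_injective _ inr_injective]
      exact orderOf_dvd_natCard _
  · rintro m hm
    obtain ⟨x, hx⟩ : ∃ x : Frob K, m ∣ orderOf x := by
      rcases hm with h | h
      · refine ⟨inl (Multiplicative.ofAdd 1), ?_⟩
        rw [orderOf_injective _ inl_injective, orderOf_ofAdd_eq_addOrderOf,
          CharP.eq E (CharP.addOrderOf_one E) (inferInstance : CharP E p)]
        exact h
      · obtain ⟨u, hu⟩ := IsCyclic.exists_ofOrder_eq_natCard (α := ↥K)
        exact ⟨inr u, by rw [orderOf_injective _ inr_injective, hu]; exact h⟩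
    exact ⟨x ^ (orderOf x / m), orderOf_pow_orderOf_div (orderOf_pos x).ne' hx⟩

theorem range_prod {A B : Type*} [Group A] [Group B] :
    Set.range (orderOf : A × B → ℕ) = Set.image2 Nat.lcm (Set.range (orderOf : A → ℕ)) (Set.range (orderOf : B → ℕ)) := by
  ext m
  simp [Prod.orderOf, Set.mem_image2]

/-- There is a subgroup of each order dividing `|E| - 1`. -/
theorem exists_units_subgroup [Finite E] {n : ℕ} (hn : n ∣ Nat.card E - 1) :
    ∃ K : Subgroup Eˣ, Nat.card ↥K = n := by
  classical
  cases nonempty_fintype E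
  have hc : Nat.card Eˣ = Nat.card E - 1 := by rw [Nat.card_units]
  obtain ⟨u, hu⟩ := IsCyclic.exists_ofOrder_eq_natCard (α := Eˣ)
  refine ⟨Subgroup.zpowers (u ^ (orderOf u / n)), ?_⟩
  rw [Nat.card_zpowers, orderOf_pow_orderOf_div (orderOf_pos u).ne' (by rw [hu, hc]; exact hn)]


/-- Let q ≥ 4 be a prime power and L = PSL(2,q). There is a finite solvable group with the same set of element orders as L × L (so L × L is not determined by its spectrum). -/
theorem result {F : Type*} [Field F] [Fintype F] (hF : 4 ≤ Fintype.card F) :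
    ∃ (H : Type) (_ : Group H) (_ : Finite H), Group.IsSolvable H ∧
      Set.range (orderOf : H → ℕ) = Set.range (orderOf : Matrix.ProjectiveSpecialLinearGroup (Fin 2) F × Matrix.ProjectiveSpecialLinearGroup (Fin 2) F → ℕ) := by
  classical
  obtain ⟨p, hchar⟩ := CharP.exists F
  obtain ⟨k, hp, hcard⟩ := FiniteField.card F p
  have : Fact p.Prime := ⟨hp⟩
  set q := Fintype.card F with hq
  set d := Nat.gcd 2 (q - 1) with hd
  have hda : (q - 1) / d ∣ q - 1 := Nat.div_dvd_of_dvd (Nat.gcd_dvd_right _ _)
  have hdb : (q + 1) / d ∣ q + 1 := by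
    refine Nat.div_dvd_of_dvd ?_
    rw [show q + 1 = q - 1 + 2 by omega]
    exact dvd_add (Nat.gcd_dvd_right _ _) (Nat.gcd_dvd_left _ _)
  let E := GaloisField p (2 * k)
  have hE : Nat.card E - 1 = (q - 1) * (q + 1) := by
    rw [GaloisField.card p _ (by have := k.pos; omega), mul_comm 2, pow_mul, ← hcard,
      ← one_pow 2, Nat.sq_sub_sq, mul_comm, one_pow]
  obtain ⟨A, hA⟩ := exists_units_subgroup (E := E) (n := (q - 1) / d) (hE ▸ hda.mul_right _)
  obtain ⟨B, hB⟩ := exists_units_subgroup (E := E) (n := (q + 1) / d) (hE ▸ hdb.mul_left _)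
  refine ⟨Frob A × Frob B, inferInstance, ?_, ?_, ?_⟩
  · have h1 : ∀ K : Subgroup Eˣ, Finite (Frob K) := fun K =>
      Finite.of_equiv _ SemidirectProduct.equivProd.symm
    have := h1 A
    have := h1 B
    infer_instance
  · have := frob_solvable A
    have := frob_solvable B
    infer_instance
  rw [range_prod, range_prod, frob_range p, frob_range p, hA, hB, S2475.result p hF]
  apply Set.Subset.antisymm
  · refine Set.image2_subset ?_ ?_
    · rintro m (h | h)
      · exact Or.inl h
      · exact Or.inr (Or.inl h)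
    · rintro m (h | h)
      · exact Or.inl h
      · exact Or.inr (Or.inr h)
  · rintro _ ⟨x, hx, y, hy, rfl⟩
    rcases hx with hx | hx | hx <;> rcases hy with hy | hy | hy
    · exact ⟨_, Or.inl (Nat.lcm_dvd hx hy), 1, Or.inl (one_dvd _), Nat.lcm_one_right _⟩
    · exact ⟨y, Or.inr hy, x, Or.inl hx, Nat.lcm_comm _ _⟩
    · exact ⟨x, Or.inl hx, y, Or.inr hy, rfl⟩
    · exact ⟨x, Or.inr hx, y, Or.inl hy, rfl⟩
    · exact ⟨_, Or.inr (Nat.lcm_dvd hx hy), 1, Or.inl (one_dvd _), Nat.lcm_one_right _⟩
    · exact ⟨x, Or.inr hx, y, Or.inr hy, rfl⟩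
    · exact ⟨y, Or.inl hy, x, Or.inr hx, Nat.lcm_comm _ _⟩
    · exact ⟨y, Or.inr hy, x, Or.inr hx, Nat.lcm_comm _ _⟩
    · exact ⟨1, Or.inl (one_dvd _), _, Or.inr (Nat.lcm_dvd hx hy), Nat.lcm_one_left _⟩

end Cfsg.Agent.S3532
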