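import Cfsg.Statements.S3547
import Cfsg.Agent.Derangement.Subgroup

set_option autoImplicit false
open Cfsg

namespace Cfsg.Agent.S3547

/-- Let G act faithfully and transitively on a finite set Ω, let D be the subgroup generated by the derangements, and let r_G and r_D be the numbers of orbits of G and of D on ordered pairs of points (the permutation ranks). Then r_D − 1 = (r_G − 1)·[G : D]. -/
theorem result {G Ω : Type*} [Group G] [Finite G] [MulAction G Ω] [FaithfulSMul G Ω] [Finite Ω]
    (htrans : MulAction.IsPretransitive G Ω) :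
    Nat.card (MulAction.orbitRel.Quotient ↥(Subgroup.closure {g : G | ∀ ω : Ω, g • ω ≠ ω}) (Ω × Ω)) - 1 =
      (Nat.card (MulAction.orbitRel.Quotient G (Ω × Ω)) - 1) * (Subgroup.closure {g : G | ∀ ω : Ω, g • ω ≠ ω}).index := by
  rcases isEmpty_or_nonempty Ω with hΩ | hΩ
  · simp [Nat.card_of_isEmpty]
  · classical
    cases nonempty_fintype G
    set D := Subgroup.closure {g : G | ∀ ω : Ω, g • ω ≠ ω} with hDdef
    have h := CfsgLib.Derangement.transitive_and_fix_eq_one D
      (fun g hg => Subgroup.subset_closure hg)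
    have hsum := CfsgLib.Derangement.sum_fixedBy (G := G) (Ω := Ω × Ω)
    rw [← Finset.sum_filter_add_sum_filter_not Finset.univ (· ∈ D)] at hsum
    have h1 : ∑ g ∈ Finset.univ.filter (· ∈ D), Nat.card (MulAction.fixedBy (Ω × Ω) g) =
        Nat.card (MulAction.orbitRel.Quotient ↥D (Ω × Ω)) * Nat.card ↥D := by
      rw [← CfsgLib.Derangement.sum_fixedBy (G := ↥D) (Ω := Ω × Ω)]
      exact Finset.sum_subtype (p := (· ∈ D)) (Finset.univ.filter (· ∈ D)) (by simp) (fun g => Nat.card (MulAction.fixedBy (Ω × Ω) g))
    have h2 : ∑ g ∈ Finset.univ.filter (fun g : G => g ∉ D), Nat.card (MulAction.fixedBy (Ω × Ω) g) =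
        (Finset.univ.filter (fun g : G => g ∉ D)).card := by
      rw [Finset.card_eq_sum_ones]
      refine Finset.sum_congr rfl fun g hg => ?_
      have h3 := h.2 g (Finset.mem_filter.1 hg).2
      let e : MulAction.fixedBy (Ω × Ω) g ≃ MulAction.fixedBy Ω g × MulAction.fixedBy Ω g :=
        { toFun := fun x => (⟨x.1.1, congrArg Prod.fst x.2⟩, ⟨x.1.2, congrArg Prod.snd x.2⟩)
          invFun := fun y => ⟨(y.1.1, y.2.1), Prod.ext y.1.2 y.2.2⟩
          left_inv := fun x => rfl
          right_inv := fun y => rfl }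
      rw [Nat.card_congr e, Nat.card_prod, h3]
    have hcard : Nat.card ↥D + (Finset.univ.filter (fun g : G => g ∉ D)).card = Nat.card G := by
      rw [Nat.card_eq_fintype_card, Nat.card_eq_fintype_card, Fintype.card_subtype]
      exact Finset.card_filter_add_card_filter_not (s := (Finset.univ : Finset G)) (p := (· ∈ D))
    rw [h1, h2] at hsum
    have hidx := D.card_mul_index
    have hD0 : 0 < Nat.card ↥D := Nat.card_pos
    set r := Nat.card (MulAction.orbitRel.Quotient G (Ω × Ω))
    set s := Nat.card (MulAction.orbitRel.Quotient ↥D (Ω × Ω))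
    have hi : 1 ≤ D.index := Nat.pos_of_ne_zero Subgroup.index_ne_zero_of_finite
    have hr : 1 ≤ r := by
      have : Nonempty (MulAction.orbitRel.Quotient G (Ω × Ω)) :=
        (inferInstance : Nonempty (Ω × Ω)).map Quotient.mk''
      exact Nat.card_pos
    have key : Nat.card ↥D * (s + D.index) = Nat.card ↥D * (r * D.index + 1) := by
      calc Nat.card ↥D * (s + D.index) = s * Nat.card ↥D + Nat.card ↥D * D.index := by ring
        _ = r * Nat.card G + Nat.card ↥D := by rw [hidx]; omega
        _ = Nat.card ↥D * (r * D.index + 1) := by rw [← hidx]; ring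
    have key' := Nat.eq_of_mul_eq_mul_left hD0 key
    rw [Nat.sub_mul, one_mul]
    have : D.index ≤ r * D.index := Nat.le_mul_of_pos_left _ hr
    omega

end Cfsg.Agent.S3547
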