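import Cfsg.Statements.S3548
import Cfsg.Agent.Derangement.Subgroup

set_option autoImplicit false
open Cfsg

namespace Cfsg.Agent.S3548

/-- Let G act faithfully and transitively on a finite set with n ≥ 2 points and let D be the subgroup generated by the derangements. Then the index of D in G divides n − 1, and if it equals n − 1 then n is a prime power. -/
theorem result {G Ω : Type*} [Group G] [Finite G] [MulAction G Ω] [FaithfulSMul G Ω] [Finite Ω]
    (htrans : MulAction.IsPretransitive G Ω) (hΩ : 2 ≤ Nat.card Ω) :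
    (Subgroup.closure {g : G | ∀ ω : Ω, g • ω ≠ ω}).index ∣ Nat.card Ω - 1 ∧
    ((Subgroup.closure {g : G | ∀ ω : Ω, g • ω ≠ ω}).index = Nat.card Ω - 1 → IsPrimePow (Nat.card Ω)) := by
  set D := Subgroup.closure {g : G | ∀ ω : Ω, g • ω ≠ ω} with hDdef
  have hD : ∀ g : G, (∀ ω : Ω, g • ω ≠ ω) → g ∈ D := fun g hg => Subgroup.subset_closure hg
  have hnt : Nontrivial Ω := Finite.one_lt_card_iff_nontrivial.1 hΩ
  obtain ⟨a⟩ := hnt.to_nonempty
  refine ⟨CfsgLib.Derangement.index_dvd_sub_one D hD, fun heq => ?_⟩
  have hnormal : D.Normal := CfsgLib.Derangement.closure_normal G Ω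
  have htr : MulAction.IsPretransitive ↥D Ω :=
    (CfsgLib.Derangement.transitive_and_fix_eq_one D hD).1
  have horb : ∀ b : Ω, a ≠ b → ∀ c : Ω, a ≠ c → c ∈ MulAction.orbit (MulAction.stabilizer G a) b := by
    intro b hb c hc
    have h := CfsgLib.Derangement.index_dvd_card_orbit D hD hb
    rw [heq, Nat.card_coe_set_eq] at h
    have hsub : MulAction.orbit (MulAction.stabilizer G a) b ⊆ ({a}ᶜ : Set Ω) := by
      rintro x ⟨g, rfl⟩ hx
      exact hb (MulAction.injective (g : G) ((g.2 : (g : G) • a = a).trans hx.symm))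
    have hpos : 0 < (MulAction.orbit (MulAction.stabilizer G a) b).ncard :=
      Set.Nonempty.ncard_pos (hs := Set.toFinite _) ⟨b, MulAction.mem_orbit_self b⟩
    have hle := Nat.le_of_dvd hpos h
    have heq2 : MulAction.orbit (MulAction.stabilizer G a) b = ({a}ᶜ : Set Ω) := by
      refine Set.eq_of_subset_of_ncard_le hsub ?_ (Set.toFinite _)
      rw [Set.ncard_compl, Set.ncard_singleton]
      exact hle
    rw [heq2]
    exact fun h' => hc h'.symm
  -- the stabiliser of `a` in `D` is trivial
  have hfree : ∀ x : G, x ∈ D → x • a = a → x = 1 := by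
    intro x hxD hxa
    refine eq_of_smul_eq_smul fun b : Ω => ?_
    rw [one_smul]
    rcases eq_or_ne a b with rfl | hb
    · exact hxa
    have hsz : Nat.card (MulAction.orbit (MulAction.stabilizer G a) b) = Nat.card Ω - 1 := by
      have : MulAction.orbit (MulAction.stabilizer G a) b = ({a}ᶜ : Set Ω) := by
        refine Set.Subset.antisymm ?_ fun c hc => horb b hb c (fun h => hc h.symm)
        rintro x ⟨g, rfl⟩ hx
        exact hb (MulAction.injective (g : G) ((g.2 : (g : G) • a = a).trans hx.symm))
      rw [this, Nat.card_coe_set_eq, Set.ncard_compl, Set.ncard_singleton]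
    have hi : (D.subgroupOf (MulAction.stabilizer G a)).index = D.index := by
      have hsa : (MulAction.stabilizer (↥D) a).index = Nat.card Ω :=
        MulAction.index_stabilizer_of_transitive _ _
      have hga : (MulAction.stabilizer G a).index = Nat.card Ω :=
        MulAction.index_stabilizer_of_transitive _ _
      have e0 : MulAction.stabilizer (↥D) a = (MulAction.stabilizer G a).subgroupOf D := rfl
      rw [e0] at hsa
      have e1 := Subgroup.relIndex_mul_index (inf_le_left : D ⊓ MulAction.stabilizer G a ≤ D)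
      have e2 := Subgroup.relIndex_mul_index
        (inf_le_right : D ⊓ MulAction.stabilizer G a ≤ MulAction.stabilizer G a)
      rw [Subgroup.inf_relIndex_left] at e1
      rw [Subgroup.inf_relIndex_right] at e2
      change (MulAction.stabilizer G a).relIndex D = Nat.card Ω at hsa
      change D.relIndex (MulAction.stabilizer G a) = D.index
      rw [hsa, ← e2, hga, mul_comm] at e1
      exact (Nat.eq_of_mul_eq_mul_right (Nat.card_pos) e1).symm
    have hle : MulAction.stabilizer (MulAction.stabilizer G a) b ≤ D.subgroupOf (MulAction.stabilizer G a) := by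
      intro g hg
      exact CfsgLib.Derangement.mem_of_fixes_two D hD hb g.2 hg
    have heq3 := Subgroup.eq_of_le_of_card_ge hle (by
      have c1 := (MulAction.stabilizer (MulAction.stabilizer G a) b).card_mul_index
      have c2 := (D.subgroupOf (MulAction.stabilizer G a)).card_mul_index
      rw [MulAction.index_stabilizer, ← Nat.card_coe_set_eq, hsz] at c1
      rw [hi, heq, ← c1] at c2
      have hpos : 0 < Nat.card Ω - 1 := by omega
      exact (Nat.eq_of_mul_eq_mul_right hpos c2).le)
    have : (⟨x, hxa⟩ : MulAction.stabilizer G a) ∈ D.subgroupOf (MulAction.stabilizer G a) := hxD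
    rw [← heq3] at this
    exact this
  -- hence all non-identity elements of `D` are conjugate
  have hcard : Nat.card ↥D = Nat.card Ω := by
    refine Nat.card_congr (Equiv.ofBijective (fun d : ↥D => (d : G) • a) ⟨fun x y hxy => ?_, fun b => ?_⟩)
    · have := hfree ((x : G)⁻¹ * y) (D.mul_mem (D.inv_mem x.2) y.2) (by
        simp only at hxy
        rw [mul_smul, ← hxy, inv_smul_smul])
      exact Subtype.ext (inv_mul_eq_one.1 this)
    · exact MulAction.exists_smul_eq (↥D) a b
  obtain ⟨p, hp, hpd⟩ := Nat.exists_prime_and_dvd (n := Nat.card ↥D) (by omega)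
  have : Fact p.Prime := ⟨hp⟩
  obtain ⟨d, hd⟩ := exists_prime_orderOf_dvd_card' p hpd
  have hd1 : (d : G) • a ≠ a := fun h => by
    have h1 : d = 1 := Subtype.ext (hfree _ d.2 h)
    rw [h1, orderOf_one] at hd
    exact hp.one_lt.ne hd
  have hP : IsPGroup p ↥D := by
    intro x
    rcases eq_or_ne x 1 with rfl | hx
    · exact ⟨0, by simp⟩
    have hx1 : (x : G) • a ≠ a := fun h => hx (Subtype.ext (hfree _ x.2 h))
    obtain ⟨g, hg⟩ := horb _ (Ne.symm hd1) _ (Ne.symm hx1)
    replace hg : (g : G) • (d : G) • a = (x : G) • a := hg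
    have hga : (g : G)⁻¹ • a = a := by rw [inv_smul_eq_iff]; exact g.2.symm
    have key := hfree ((x : G)⁻¹ * ((g : G) * d * (g : G)⁻¹))
      (D.mul_mem (D.inv_mem x.2) (hnormal.conj_mem _ d.2 _)) (by
        rw [mul_smul, mul_smul, mul_smul, hga, hg, inv_smul_smul])
    have hconj : (x : G) = (g : G) * d * (g : G)⁻¹ := inv_mul_eq_one.1 key
    refine ⟨1, ?_⟩
    rw [pow_one]
    apply Subtype.ext
    have hdp : (d : G) ^ p = 1 := by
      have := pow_orderOf_eq_one d
      rw [hd] at this
      exact_mod_cast congrArg Subtype.val this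
    rw [Subgroup.coe_pow, hconj, conj_pow, hdp]
    simp
  obtain ⟨k, hk⟩ := IsPGroup.iff_card.1 hP
  rw [hcard] at hk
  rw [hk]
  refine hp.prime.isPrimePow.pow ?_
  rintro rfl
  simp at hk
  omega

end Cfsg.Agent.S3548
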