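import Cfsg.Statements.S3549
import Cfsg.Agent.Derangement.Subgroup

set_option autoImplicit false
open Cfsg

namespace Cfsg.Agent.S3549

/-- Let G act faithfully, transitively but imprimitively on a finite set with n points, and let D be the subgroup generated by the derangements. Then the index of D in G is at most √n − 1. -/
theorem result {G Ω : Type*} [Group G] [Finite G] [MulAction G Ω] [FaithfulSMul G Ω] [Finite Ω]
    (htrans : MulAction.IsPretransitive G Ω) (himp : ¬ MulAction.IsPreprimitive G Ω) :
    ((Subgroup.closure {g : G | ∀ ω : Ω, g • ω ≠ ω}).index : ℝ) ≤ Real.sqrt (Nat.card Ω) - 1 := by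
  rcases subsingleton_or_nontrivial Ω with hΩ | hΩ
  · exact absurd MulAction.IsPreprimitive.of_subsingleton himp
  obtain ⟨a⟩ := hΩ.to_nonempty
  rw [← MulAction.isCoatom_stabilizer_iff_preprimitive G a] at himp
  set D := Subgroup.closure {g : G | ∀ ω : Ω, g • ω ≠ ω} with hDdef
  have hD : ∀ g : G, (∀ ω : Ω, g • ω ≠ ω) → g ∈ D := fun g hg => Subgroup.subset_closure hg
  have hne : MulAction.stabilizer G a ≠ ⊤ := by
    intro h
    obtain ⟨b, c, hbc⟩ := exists_pair_ne Ω
    obtain ⟨g, rfl⟩ := MulAction.exists_smul_eq G a b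
    obtain ⟨g', rfl⟩ := MulAction.exists_smul_eq G a c
    have h1 : g ∈ MulAction.stabilizer G a := h ▸ Subgroup.mem_top _
    have h2 : g' ∈ MulAction.stabilizer G a := h ▸ Subgroup.mem_top _
    exact hbc (h1.trans h2.symm)
  obtain ⟨K, hK1, hK2⟩ : ∃ K : Subgroup G, MulAction.stabilizer G a < K ∧ K ≠ ⊤ := by
    by_contra! h
    exact himp ⟨hne, h⟩
  -- `D` contains every derangement on the cosets of `K`
  have hDK : ∀ g : G, (∀ c : G ⧸ K, g • c ≠ c) → g ∈ D := by
    intro g hg
    refine hD g fun ω hω => ?_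
    obtain ⟨x, rfl⟩ := MulAction.exists_smul_eq G a ω
    refine hg (x : G ⧸ K) ?_
    rw [MulAction.Quotient.smul_coe, smul_eq_mul, QuotientGroup.eq]
    have h1 : x⁻¹ * g * x ∈ MulAction.stabilizer G a := by
      rw [MulAction.mem_stabilizer_iff, mul_smul, mul_smul, hω, inv_smul_smul]
    simpa [mul_assoc] using K.inv_mem (hK1.le h1)
  have hm := CfsgLib.Derangement.index_dvd_sub_one (Ω := G ⧸ K) D hDK
  change D.index ∣ K.index - 1 at hm
  let S : SubMulAction (MulAction.stabilizer G a) Ω :=
    { carrier := MulAction.orbit K a \ {a}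
      smul_mem' := by
        rintro g x ⟨⟨k, rfl⟩, hx⟩
        refine ⟨⟨⟨(g : G), hK1.le g.2⟩ * k, ?_⟩, ?_⟩
        · change ((g : G) * (k : G)) • a = (g : G) • (k : G) • a
          exact mul_smul _ _ _
        · intro h
          exact hx (MulAction.injective (g : G) (Eq.trans h (g.2 : (g : G) • a = a).symm)) }
  have hs := CfsgLib.Derangement.index_dvd_card D hD a S (fun h => h.2 rfl)
  have hB : MulAction.stabilizer (↥K) a = (MulAction.stabilizer G a).subgroupOf K := rfl
  have hBcard : Nat.card (MulAction.orbit K a) = (MulAction.stabilizer G a).relIndex K := by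
    rw [Nat.card_coe_set_eq, ← MulAction.index_stabilizer, hB]
    rfl
  have hScard : Nat.card S = (MulAction.stabilizer G a).relIndex K - 1 := by
    change Nat.card ↥(MulAction.orbit K a \ {a}) = _
    rw [Nat.card_coe_set_eq, Set.ncard_sdiff_singleton_of_mem (MulAction.mem_orbit_self a),
      ← Nat.card_coe_set_eq, hBcard]
  rw [hScard] at hs
  have hs2 : 2 ≤ (MulAction.stabilizer G a).relIndex K := by
    have h1 : (MulAction.stabilizer G a).relIndex K ≠ 1 := fun h =>
      not_le_of_gt hK1 (Subgroup.relIndex_eq_one.1 h)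
    have h0 : (MulAction.stabilizer G a).relIndex K ≠ 0 := Subgroup.index_ne_zero_of_finite
    omega
  have hm2 : 2 ≤ K.index := by
    have h1 : K.index ≠ 1 := mt Subgroup.index_eq_one.1 hK2
    have h0 : K.index ≠ 0 := Subgroup.index_ne_zero_of_finite
    omega
  have hn : (MulAction.stabilizer G a).relIndex K * K.index = Nat.card Ω := by
    rw [Subgroup.relIndex_mul_index hK1.le, MulAction.index_stabilizer_of_transitive]
  have h1 := Nat.le_of_dvd (by omega) hs
  have h2 := Nat.le_of_dvd (by omega) hm
  have hle : (D.index + 1) * (D.index + 1) ≤ Nat.card Ω := by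
    rw [← hn]
    exact Nat.mul_le_mul (by omega) (by omega)
  rw [le_sub_iff_add_le]
  apply Real.le_sqrt_of_sq_le
  rw [sq]
  exact_mod_cast hle

end Cfsg.Agent.S3549
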