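import Cfsg.Statements.S3550
import Cfsg.Agent.DerangedIndexNA.Cases

set_option autoImplicit false
set_option linter.style.haveILetI false
open Cfsg

namespace Cfsg.Agent.S3550

/-- Let G act faithfully and primitively on a finite set with n ≥ 2 points and suppose G has no non-trivial abelian normal subgroup (G is not of affine type). Let D be the subgroup generated by the derangements. Then the index of D in G is at most √n − 1. -/
theorem result {G Ω : Type*} [Group G] [Finite G] [MulAction G Ω] [FaithfulSMul G Ω] [Finite Ω]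
    (hprim : MulAction.IsPreprimitive G Ω) (hΩ : 2 ≤ Nat.card Ω) (hna : ∀ N : Subgroup G, N.Normal → IsMulCommutative ↥N → N = ⊥) :
    ((Subgroup.closure {g : G | ∀ ω : Ω, g • ω ≠ ω}).index : ℝ) ≤ Real.sqrt (Nat.card Ω) - 1 := by
  classical
  haveI := hprim.toIsPretransitive
  set D := Subgroup.closure {g : G | ∀ ω : Ω, g • ω ≠ ω} with hD
  haveI : D.Normal := CfsgLib.Derangement.closure_normal G Ω
  haveI : Nontrivial Ω := Finite.one_lt_card_iff_nontrivial.1 hΩ
  suffices key : (D.index + 1) ^ 2 ≤ Nat.card Ω by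
    have h1 : ((D.index : ℝ) + 1) ^ 2 ≤ (Nat.card Ω : ℝ) := by exact_mod_cast key
    linarith [Real.le_sqrt_of_sq_le h1]
  obtain ⟨htD, hone⟩ := CfsgLib.Derangement.transitive_and_fix_eq_one (Ω := Ω) D
    fun g hg => CfsgLib.Derangement.mem_closure hg
  have h : CfsgLib.DerangedIndex.Hyp Ω D := by
    refine ⟨fun a b => ?_, fun g hg => ?_, fun g hg a b ha hb => ?_⟩
    · obtain ⟨⟨d, hd⟩, e⟩ := htD.exists_smul_eq a b
      exact ⟨d, hd, e⟩
    · obtain ⟨⟨a, ha⟩⟩ := (Nat.card_ne_zero.1 (by rw [hone g hg]; omega :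
        Nat.card (MulAction.fixedBy Ω g) ≠ 0)).1
      exact ⟨a, ha⟩
    · haveI := (Nat.card_eq_one_iff_unique.1 (hone g hg)).1
      exact congrArg Subtype.val (Subsingleton.elim (⟨a, ha⟩ : MulAction.fixedBy Ω g) ⟨b, hb⟩)
  by_cases hk : D = ⊤
  · -- a group without abelian normal subgroups moves at least five points
    rw [hk, Subgroup.index_top]
    by_contra hn
    have hn3 : Nat.card Ω = 2 ∨ Nat.card Ω = 3 := by omega
    haveI := Fintype.ofFinite Ω
    haveI : Fact (Nat.card Ω).Prime := ⟨by rcases hn3 with e | e <;> rw [e] <;> norm_num⟩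
    haveI : MulAction.IsPretransitive (MulAction.toPermHom G Ω).range Ω := ⟨fun a b => by
      obtain ⟨g, e⟩ := MulAction.exists_smul_eq G a b
      exact ⟨⟨MulAction.toPermHom G Ω g, g, rfl⟩, e⟩⟩
    haveI := CfsgLib.Perm.PrimeDegree.isSolvable_of_card_le_three (p := Nat.card Ω)
      Nat.card_eq_fintype_card.symm (by omega) (MulAction.toPermHom G Ω).range
    haveI : Group.IsSolvable G := Group.isSolvable_of_isSolvable_injective
      (f := (MulAction.toPermHom G Ω).rangeRestrict)
      fun x y e => MulAction.toPerm_injective (congrArg Subtype.val e)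
    haveI : Group.IsSolvable (⊤ : Subgroup G) := inferInstance
    have hne : (⊤ : Subgroup G) ≠ ⊥ := by
      intro e
      obtain ⟨a, b, hab⟩ := exists_pair_ne Ω
      obtain ⟨g, hg⟩ := MulAction.exists_smul_eq G a b
      have hg1 : g = 1 := Subgroup.mem_bot.1 (e ▸ Subgroup.mem_top g)
      exact hab (by rw [← hg, hg1, one_smul])
    obtain ⟨A, hA, hA1, hA2⟩ := CfsgLib.DerangedIndexNA.exists_abelian_of_solvable (⊤ : Subgroup G) hne
    exact hA1 (hna A hA hA2)
  have hnp : ¬ (Nat.card Ω).Prime := fun hp =>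
    hk (CfsgLib.DerangedIndexNA.eq_top_of_prime hna h hp)
  obtain ⟨y, b, c, hy, hb, hc, hbc⟩ :=
    CfsgLib.DerangedIndexNA.exists_fixing_two hΩ hna hk
  refine CfsgLib.DerangedIndexNA.sq_le_nonprime h hk hΩ ⟨?_, ?_, ?_⟩ hy hb hc hbc <;>
    intro e <;> exact hnp (by rw [e]; norm_num)

end Cfsg.Agent.S3550
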