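import Cfsg.Statements.S3554

set_option autoImplicit false
open Cfsg

namespace Cfsg.Agent.S3554

/-- Let G act faithfully and transitively on a finite set and suppose G has a non-trivial cyclic normal subgroup. Then some element of G of prime order fixes no point. -/
theorem result {G Ω : Type*} [Group G] [Finite G] [MulAction G Ω] [FaithfulSMul G Ω] [Finite Ω]
    (htrans : MulAction.IsPretransitive G Ω) (C : Subgroup G) (hC : C.Normal) (hC1 : C ≠ ⊥) (hcyc : IsCyclic ↥C) :
    ∃ g : G, (orderOf g).Prime ∧ ∀ ω : Ω, g • ω ≠ ω := by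
  have : Nontrivial ↥C := (Subgroup.nontrivial_iff_ne_bot C).2 hC1
  obtain ⟨p, hp, hpd⟩ := Nat.exists_prime_and_dvd (n := Nat.card ↥C)
    (by have := Finite.one_lt_card (α := ↥C); omega)
  have : Fact p.Prime := ⟨hp⟩
  obtain ⟨c, hc⟩ := exists_prime_orderOf_dvd_card' p hpd
  refine ⟨(c : G), by rw [orderOf_submonoid c, hc]; exact hp, fun ω hω => ?_⟩
  -- every conjugate of `c` is a power of `c`, so `c` fixes every point
  have hpow : ∀ g : G, g * (c : G) * g⁻¹ ∈ Subgroup.zpowers (c : G) := by
    intro g
    let d : ↥C := ⟨g * (c : G) * g⁻¹, hC.conj_mem _ c.2 g⟩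
    have hd : orderOf d = p := by
      rw [← orderOf_submonoid d]
      change orderOf (g * (c : G) * g⁻¹) = p
      rw [show g * (c : G) * g⁻¹ = MulAut.conj g (c : G) from (MulAut.conj_apply g _).symm,
        MulEquiv.orderOf_eq, orderOf_submonoid c, hc]
    have hd' : d ∈ Subgroup.zpowers c := by
      classical
      cases nonempty_fintype ↥C
      by_contra hdn
      have hsub : insert d ((Subgroup.zpowers c : Set ↥C).toFinset) ⊆
          Finset.univ.filter (fun x : ↥C => x ^ p = 1) := by
        intro x hx
        rw [Finset.mem_insert, Set.mem_toFinset] at hx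
        simp only [Finset.mem_filter, Finset.mem_univ, true_and]
        rcases hx with rfl | ⟨k, rfl⟩
        · rw [← hd]; exact pow_orderOf_eq_one _
        · dsimp only
          rw [← hc, ← zpow_natCast, ← zpow_mul, mul_comm, zpow_mul, zpow_natCast,
            pow_orderOf_eq_one, one_zpow]
      have h1 := (Finset.card_le_card hsub).trans (IsCyclic.card_pow_eq_one_le hp.pos)
      rw [Finset.card_insert_of_notMem (by simpa using hdn), ← Set.ncard_eq_toFinset_card',
        ← Nat.card_coe_set_eq, SetLike.coe_sort_coe, Nat.card_zpowers, hc] at h1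
      omega
    obtain ⟨k, hk⟩ := hd'
    exact ⟨k, by
      have := congrArg Subtype.val hk
      simpa [d] using this⟩
  have hone : (c : G) = 1 := by
    refine eq_of_smul_eq_smul fun x : Ω => ?_
    rw [one_smul]
    obtain ⟨g, rfl⟩ := MulAction.exists_smul_eq G ω x
    obtain ⟨k, hk⟩ := hpow g⁻¹
    have hck : (g⁻¹ * (c : G) * g) • ω = ω := by
      have : ((c : G) ^ k) • ω = ω :=
        (MulAction.stabilizer G ω).zpow_mem (hω : (c : G) ∈ MulAction.stabilizer G ω) k
      simp only [inv_inv] at hk
      rwa [hk] at this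
    rw [← mul_smul]
    rw [mul_smul, mul_smul] at hck
    rw [inv_smul_eq_iff] at hck
    rw [mul_smul]
    exact hck
  rw [← orderOf_submonoid c, hone, orderOf_one] at hc
  exact hp.one_lt.ne hc

end Cfsg.Agent.S3554
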