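import Cfsg.Statements.S3555
import Cfsg.Agent.Derangement.Subgroup
import Cfsg.Agent.Characters.FrobeniusKernel

set_option autoImplicit false
open Cfsg
open scoped Pointwise

namespace Cfsg.Agent.S3555

open MulAction in
/-- Every point count is `0`, `1` or all points. -/
theorem fix_cases {G Ω : Type*} [Group G] [Fintype G] [Fintype Ω] [MulAction G Ω] [Nonempty Ω]
    [IsPretransitive G Ω] (hinv : ∀ g : G, (∀ ω : Ω, g • ω ≠ ω) → g * g = 1) (g : G) :
    Nat.card (fixedBy Ω g) = 0 ∨ Nat.card (fixedBy Ω g) = 1 ∨ Nat.card (fixedBy Ω g) = Fintype.card Ω := by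
  classical
  set π : G → ℕ := fun x => (Finset.univ.filter fun ω : Ω => x • ω = ω).card with hπdef
  have hπ : ∀ x, Nat.card (fixedBy Ω x) = π x := fun x => by
    rw [Nat.card_eq_fintype_card, hπdef]
    exact Fintype.card_of_subtype _ (by simp)
  set n := Fintype.card Ω with hn
  -- pairs swapped by `x`
  have hpairs : ∑ x : G, π (x * x) ≤ ∑ x : G, π x * π x := by
    have hl : ∀ x : G, π (x * x) =
        (Finset.univ.filter fun p : Ω × Ω => x • p.1 = p.2 ∧ x • p.2 = p.1).card := by
      intro x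
      refine Finset.card_bij (fun ω _ => (ω, x • ω)) (fun ω hω => ?_) (fun _ _ _ _ h => congrArg Prod.fst h) ?_
      · rw [Finset.mem_filter] at hω ⊢
        exact ⟨Finset.mem_univ _, rfl, by rw [← mul_smul]; exact hω.2⟩
      · rintro ⟨a, b⟩ hp
        rw [Finset.mem_filter] at hp
        refine ⟨a, Finset.mem_filter.2 ⟨Finset.mem_univ _, ?_⟩, ?_⟩
        · rw [mul_smul, hp.2.1, hp.2.2]
        · rw [hp.2.1]
    have hr : ∀ x : G, π x * π x =
        (Finset.univ.filter fun p : Ω × Ω => x • p.1 = p.1 ∧ x • p.2 = p.2).card := by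
      intro x
      rw [← Finset.card_product]
      congr 1
      ext p
      simp
    rw [Finset.sum_congr rfl fun x _ => hl x, Finset.sum_congr rfl fun x _ => hr x]
    simp only [Finset.card_filter]
    rw [Finset.sum_comm]
    conv_rhs => rw [Finset.sum_comm]
    refine Finset.sum_le_sum fun p _ => ?_
    rw [← Finset.card_filter, ← Finset.card_filter]
    rcases (Finset.univ.filter fun x : G => x • p.1 = p.2 ∧ x • p.2 = p.1).eq_empty_or_nonempty with he | ⟨x₀, hx₀⟩
    · rw [he]
      exact Nat.zero_le _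
    · rw [Finset.mem_filter] at hx₀
      refine Finset.card_le_card_of_injOn (fun x => x₀⁻¹ * x) (fun x hx => ?_) fun _ _ _ _ h => mul_left_cancel h
      simp only [Finset.coe_filter, Finset.mem_univ, true_and, Set.mem_setOf_eq] at hx ⊢
      rw [mul_smul, mul_smul, inv_smul_eq_iff, inv_smul_eq_iff, hx.1, hx.2, hx₀.2.1, hx₀.2.2]
      exact ⟨rfl, rfl⟩
  have hsum : ∑ x : G, π x = Fintype.card G := by
    rw [← Nat.card_eq_fintype_card, ← CfsgLib.Derangement.sum_fixedBy_transitive (G := G) (Ω := Ω)]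
    exact Finset.sum_congr rfl fun x _ => (hπ x).symm
  have hterm : ∀ x : G, π x * π x + n ≤ π (x * x) + n * π x := by
    intro x
    have hle : π x ≤ n := Finset.card_le_univ _
    have hmono : π x ≤ π (x * x) := Finset.card_le_card fun ω hω => by
      rw [Finset.mem_filter] at hω ⊢
      exact ⟨hω.1, by rw [mul_smul, hω.2, hω.2]⟩
    rcases Nat.eq_zero_or_pos (π x) with h0 | h0
    · have hx1 : x * x = 1 := hinv x fun ω hω =>
        Finset.notMem_empty ω (Finset.card_eq_zero.1 h0 ▸ Finset.mem_filter.2 ⟨Finset.mem_univ _, hω⟩)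
      have : π (x * x) = n := by
        rw [hx1]
        simp [hπdef, hn]
      rw [h0, this]
      omega
    · obtain ⟨a, ha⟩ := Nat.exists_eq_add_of_le h0
      obtain ⟨c, hc⟩ := Nat.exists_eq_add_of_le hle
      nlinarith
  -- summing gives equality everywhere
  have htot : ∑ x : G, (π (x * x) + n * π x) ≤ ∑ x : G, (π x * π x + n) := by
    rw [Finset.sum_add_distrib, Finset.sum_add_distrib, ← Finset.mul_sum, hsum, Finset.sum_const,
      Finset.card_univ, smul_eq_mul, mul_comm n]
    omega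
  have heq := (Finset.sum_eq_sum_iff_of_le fun x _ => hterm x).1
    (le_antisymm (Finset.sum_le_sum fun x _ => hterm x) htot) g (Finset.mem_univ g)
  have hle : π g ≤ n := Finset.card_le_univ _
  have hmono : π g ≤ π (g * g) := Finset.card_le_card fun ω hω => by
    rw [Finset.mem_filter] at hω ⊢
    exact ⟨hω.1, by rw [mul_smul, hω.2, hω.2]⟩
  rw [hπ]
  by_contra! hne
  obtain ⟨a, ha⟩ := Nat.exists_eq_add_of_le (show 2 ≤ π g by omega)
  obtain ⟨c, hc⟩ := Nat.exists_eq_add_of_le (show π g + 1 ≤ n by omega)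
  nlinarith


/-- Let G act faithfully and transitively on a finite set and suppose every element of G fixing no point is an involution. Then either G is an elementary abelian 2-group, or G is a Frobenius group whose Frobenius kernel is an elementary abelian 2-group: G has a Frobenius complement H, and the elements lying in no conjugate of H, together with the identity, pairwise commute and square to the identity. -/
theorem result {G Ω : Type*} [Group G] [Finite G] [MulAction G Ω] [FaithfulSMul G Ω] [Finite Ω]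
    (htrans : MulAction.IsPretransitive G Ω) (hinv : ∀ g : G, (∀ ω : Ω, g • ω ≠ ω) → orderOf g = 2) :
    (IsMulCommutative G ∧ ∀ g : G, g ^ 2 = 1) ∨
    (∃ H : Subgroup G, Cfsg.IsFrobeniusComplement H ∧
      (∀ x ∈ Cfsg.frobeniusKernel H, x ^ 2 = 1) ∧
      ∀ x ∈ Cfsg.frobeniusKernel H, ∀ y ∈ Cfsg.frobeniusKernel H, x * y = y * x) := by
  classical
  cases nonempty_fintype G
  cases nonempty_fintype Ω
  haveI := htrans
  have hsq : ∀ g : G, (∀ ω : Ω, g • ω ≠ ω) → g * g = 1 := fun g hg => by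
    rw [← pow_two, ← hinv g hg, pow_orderOf_eq_one]
  rcases isEmpty_or_nonempty Ω with hΩ | ⟨⟨ω₀⟩⟩
  · have h1 : ∀ g : G, g = 1 := fun g => eq_of_smul_eq_smul (α := Ω) fun ω => hΩ.elim ω
    exact Or.inl ⟨⟨⟨fun a b => by rw [h1 a, h1 b]⟩⟩, fun g => by rw [h1 g, one_pow]⟩
  haveI : Nonempty Ω := ⟨ω₀⟩
  set H := MulAction.stabilizer G ω₀ with hH
  by_cases hbot : H = ⊥
  · left
    have h2 : ∀ g : G, g * g = 1 := by
      intro g
      by_cases hg : g = 1
      · rw [hg, one_mul]
      refine hsq g fun ω hω => hg ?_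
      obtain ⟨t, ht⟩ := MulAction.exists_smul_eq G ω ω₀
      have h3 : t * g * t⁻¹ ∈ H := by
        rw [hH, MulAction.mem_stabilizer_iff, mul_smul, mul_smul, ← ht, inv_smul_smul, hω]
      rw [hbot, Subgroup.mem_bot] at h3
      simpa using h3
    refine ⟨⟨⟨fun a b => ?_⟩⟩, fun g => by rw [pow_two, h2]⟩
    rw [← inv_eq_of_mul_eq_one_right (h2 (a * b)), mul_inv_rev, inv_eq_of_mul_eq_one_right (h2 a),
      inv_eq_of_mul_eq_one_right (h2 b)]
  right
  have hfix : ∀ g : G, ∀ a b : Ω, a ≠ b → g • a = a → g • b = b → g = 1 := by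
    intro g a b hab ha hb
    have h2 : 2 ≤ Nat.card (MulAction.fixedBy Ω g) := by
      haveI : Nontrivial (MulAction.fixedBy Ω g) := ⟨⟨a, ha⟩, ⟨b, hb⟩, fun h => hab (congrArg Subtype.val h)⟩
      exact Finite.one_lt_card
    rcases fix_cases hsq g with h | h | h
    · omega
    · omega
    · refine eq_of_smul_eq_smul (α := Ω) fun ω => ?_
      rw [one_smul]
      have : MulAction.fixedBy Ω g = Set.univ := by
        refine Set.eq_univ_of_forall fun ω => ?_
        by_contra hω
        have h3 := Set.ncard_lt_ncard (Set.ssubset_univ_iff.2 fun he => hω (he ▸ Set.mem_univ ω) :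
          MulAction.fixedBy Ω g ⊂ Set.univ)
        rw [Set.ncard_univ, ← Nat.card_coe_set_eq, h, Nat.card_eq_fintype_card] at h3
        exact lt_irrefl _ h3
      exact Set.eq_univ_iff_forall.1 this ω
  have hmal : ∀ g : G, g ∉ H → ∀ x ∈ H, g * x * g⁻¹ ∈ H → x = 1 := by
    intro g hg x hx hgx
    have h1 : g⁻¹ • ω₀ ≠ ω₀ := fun h => hg (inv_mem_iff.1 (show g⁻¹ ∈ H from h))
    refine hfix x _ _ h1 ?_ hx
    have h3 : (g * x * g⁻¹) • ω₀ = ω₀ := hgx
    rw [mul_smul, mul_smul] at h3
    exact eq_inv_smul_iff.2 h3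
  have htop : H ≠ ⊤ := by
    intro h
    apply hbot
    refine (Subgroup.eq_bot_iff_forall _).2 fun x _ => eq_of_smul_eq_smul (α := Ω) fun ω => ?_
    obtain ⟨t, rfl⟩ := MulAction.exists_smul_eq G ω₀ ω
    have hall : ∀ y : G, y • ω₀ = ω₀ := fun y => (h ▸ Subgroup.mem_top y : y ∈ H)
    rw [one_smul, hall t, hall x]
  have hconj : ∀ g x : G, x ∈ MulAut.conj g • H ↔ g⁻¹ * x * g ∈ H := fun g x => by
    rw [Subgroup.mem_pointwise_smul_iff_inv_smul_mem, ← map_inv, MulAut.smul_def, MulAut.conj_apply, inv_inv]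
  refine ⟨H, ⟨hbot, htop, fun g hg => (Subgroup.eq_bot_iff_forall _).2 fun x hx => ?_⟩, ?_, ?_⟩
  · obtain ⟨hx1, hx2⟩ := Subgroup.mem_inf.1 hx
    refine hmal g⁻¹ (fun h => hg (inv_mem_iff.1 h)) x hx1 ?_
    rw [inv_inv]
    exact (hconj g x).1 hx2
  all_goals
    have hker : ∀ x ∈ Cfsg.frobeniusKernel H, x * x = 1 := by
      rintro x (rfl | hx)
      · exact one_mul 1
      refine hsq x fun ω hω => ?_
      obtain ⟨t, rfl⟩ := MulAction.exists_smul_eq G ω₀ ω
      refine hx t ((hconj t x).2 ?_)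
      rw [hH, MulAction.mem_stabilizer_iff, mul_smul, mul_smul, hω, inv_smul_smul]
  · exact fun x hx => by rw [pow_two]; exact hker x hx
  · obtain ⟨N, -, -, hN⟩ := CfsgLib.Characters.exists_frobenius_kernel H hmal
    have hiff : ∀ x, x ∈ Cfsg.frobeniusKernel H ↔ x ∈ N := by
      intro x
      rw [hN]
      constructor
      · rintro (rfl | hx) y hy
        · rfl
        · exact absurd ((hconj y x).2 hy) (hx y)
      · intro h
        by_cases hx : x = 1
        · exact Or.inl hx
        · exact Or.inr fun y hy => hx (h y ((hconj y x).1 hy))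
    intro x hx y hy
    have h1 := hker _ ((hiff _).2 (N.mul_mem ((hiff _).1 hx) ((hiff _).1 hy)))
    rw [← inv_eq_of_mul_eq_one_right h1, mul_inv_rev, inv_eq_of_mul_eq_one_right (hker x hx),
      inv_eq_of_mul_eq_one_right (hker y hy)]

end Cfsg.Agent.S3555
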