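import Cfsg.Statements.S3556
import Cfsg.Agent.Derangement.Subgroup

set_option autoImplicit false
open Cfsg

namespace Cfsg.Agent.S3556

open MulAction

variable {G Ω : Type*} [Group G] [MulAction G Ω]

/-- A non-trivial normal subgroup of a primitive group is transitive. -/
theorem transitive_of_normal [FaithfulSMul G Ω] (hprim : IsPreprimitive G Ω) (N : Subgroup G)
    (hN : N.Normal) (hN1 : N ≠ ⊥) : IsPretransitive ↥N Ω := by
  have := hprim
  have := hN
  apply IsQuasiPreprimitive.isPretransitive_of_normal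
  intro h
  apply hN1
  rw [Subgroup.eq_bot_iff_forall]
  intro n hn
  refine eq_of_smul_eq_smul fun ω : Ω => ?_
  rw [one_smul]
  have hω : ω ∈ fixedPoints N Ω := h ▸ Set.mem_univ ω
  exact hω ⟨n, hn⟩

/-- If `A` centralises a transitive subgroup then a non-identity element of `A` moves all points. -/
theorem derangement_of_centralizes [FaithfulSMul G Ω] (N : Subgroup G) [IsPretransitive ↥N Ω]
    (g : G) (hg : g ∈ Subgroup.centralizer (N : Set G)) (ω : Ω) (hω : g • ω = ω) : g = 1 := by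
  refine eq_of_smul_eq_smul fun x : Ω => ?_
  rw [one_smul]
  obtain ⟨n, rfl⟩ := exists_smul_eq (↥N) ω x
  rw [Subgroup.smul_def, ← mul_smul, ← hg n n.2, mul_smul, hω]

/-- A minimal normal subgroup that is not commutative has no non-trivial normal `r`-subgroup. -/
theorem no_normal_pgroup [Finite G] (N : Subgroup G) [N.Normal] (hnc : ¬ IsMulCommutative ↥N)
    (hmin : ∀ M : Subgroup G, M.Normal → M ≤ N → M = ⊥ ∨ M = N)
    (r : ℕ) [Fact r.Prime] (Q₀ : Subgroup G) (hQN : Q₀ ≤ N) (hQn : N ≤ Subgroup.normalizer (Q₀ : Set G))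
    (hQ : IsPGroup r ↥Q₀) : Q₀ = ⊥ := by
  obtain ⟨Q, hQ₀, hQmax⟩ := Finite.exists_le_maximal
    (p := fun Q : Subgroup G => Q ≤ N ∧ N ≤ Subgroup.normalizer (Q : Set G) ∧ IsPGroup r ↥Q) ⟨hQN, hQn, hQ⟩
  obtain ⟨⟨hle, hnorm, hp⟩, hub⟩ := hQmax
  have hgreat : ∀ R : Subgroup G, R ≤ N → N ≤ Subgroup.normalizer (R : Set G) → IsPGroup r ↥R → R ≤ Q := by
    intro R h1 h2 h3
    have := hub (y := R ⊔ Q) ⟨sup_le h1 hle,
      fun n hn => Subgroup.mem_normalizer_iff_map_conj_eq.mpr (by
        rw [Subgroup.map_sup, Subgroup.mem_normalizer_iff_map_conj_eq.mp (h2 hn),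
          Subgroup.mem_normalizer_iff_map_conj_eq.mp (hnorm hn)]),
      h3.to_sup_of_normal_right' hp (h1.trans hnorm)⟩ le_sup_right
    exact le_sup_left.trans this
  have hQnormal : Q.Normal := by
    refine ⟨fun n hn g => ?_⟩
    refine hgreat (Q.map (MulAut.conj g).toMonoidHom) ?_ ?_ (hp.map _) ⟨n, hn, rfl⟩
    · rintro _ ⟨x, hx, rfl⟩
      exact Subgroup.Normal.conj_mem ‹_› _ (hle hx) g
    · intro m hm
      rw [Subgroup.mem_normalizer_iff]
      intro x
      have hm' : g⁻¹ * m * g ∈ Subgroup.normalizer (Q : Set G) :=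
        hnorm (by simpa using Subgroup.Normal.conj_mem ‹N.Normal› _ hm g⁻¹)
      simp only [Subgroup.mem_map_equiv, MulAut.conj_symm_apply]
      have key := Subgroup.mem_normalizer_iff.1 hm' (g⁻¹ * x * g)
      simpa [mul_assoc] using key
  rcases hmin Q hQnormal hle with h | h
  · exact le_bot_iff.1 (h ▸ hQ₀)
  · -- `N` would be an `r`-group, so it would have a non-trivial centre
    exfalso
    subst h
    have hnt : Nontrivial ↥Q := by
      by_contra hnn
      rw [not_nontrivial_iff_subsingleton] at hnn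
      exact hnc ⟨⟨fun a b => Subsingleton.elim _ _⟩⟩
    have hc := hp.center_nontrivial
    have hZ : ((Subgroup.center ↥Q).map Q.subtype).Normal := by
      infer_instance
    rcases hmin _ hZ (Subgroup.map_subtype_le _) with hz | hz
    · rw [Subgroup.map_eq_bot_iff_of_injective _ Q.subtype_injective] at hz
      exact (Subgroup.nontrivial_iff_ne_bot _).1 hc hz
    · have htop : Subgroup.center ↥Q = ⊤ := by
        apply Subgroup.map_injective Q.subtype_injective
        rw [hz, ← MonoidHom.range_eq_map, Subgroup.range_subtype]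
      exact hnc ⟨⟨fun a b => (Subgroup.mem_center_iff.1 (htop ▸ Subgroup.mem_top b) a)⟩⟩

/-- A non-trivial subgroup that is commutative and normalised by `N`, inside `N`, is impossible. -/
theorem no_normal_abelian [Finite G] (N : Subgroup G) [N.Normal] (hnc : ¬ IsMulCommutative ↥N)
    (hmin : ∀ M : Subgroup G, M.Normal → M ≤ N → M = ⊥ ∨ M = N)
    (A : Subgroup G) (hAN : A ≤ N) (hAn : N ≤ Subgroup.normalizer (A : Set G))
    (hA : ∀ x ∈ A, ∀ y ∈ A, x * y = y * x) : A = ⊥ := by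
  by_contra hA1
  have : Nontrivial ↥A := (Subgroup.nontrivial_iff_ne_bot A).2 hA1
  obtain ⟨r, hr, hrd⟩ := Nat.exists_prime_and_dvd (n := Nat.card ↥A)
    (by have := Finite.one_lt_card (α := ↥A); omega)
  have : Fact r.Prime := ⟨hr⟩
  obtain ⟨x, hx⟩ := exists_prime_orderOf_dvd_card' r hrd
  let R : Subgroup G :=
    { carrier := {y | y ∈ A ∧ y ^ r = 1}
      one_mem' := ⟨A.one_mem, one_pow _⟩
      mul_mem' := fun {a b} ha hb => ⟨A.mul_mem ha.1 hb.1, by
        rw [(show Commute a b from hA a ha.1 b hb.1).mul_pow, ha.2, hb.2, one_mul]⟩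
      inv_mem' := fun {a} ha => ⟨A.inv_mem ha.1, by rw [inv_pow, ha.2, inv_one]⟩ }
  have hR : R = ⊥ := by
    refine no_normal_pgroup N hnc hmin r R (fun y hy => hAN hy.1) ?_ ?_
    · intro n hn
      rw [Subgroup.mem_normalizer_iff]
      intro y
      have key := Subgroup.mem_normalizer_iff.1 (hAn hn) y
      constructor
      · intro hy
        exact ⟨key.1 hy.1, by rw [conj_pow, hy.2]; simp⟩
      · intro hy
        refine ⟨key.2 hy.1, ?_⟩
        have h2 := hy.2
        rw [conj_pow, conj_eq_one_iff] at h2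
        exact h2
    · intro y
      exact ⟨1, Subtype.ext (by rw [pow_one, Subgroup.coe_pow]; exact y.2.2)⟩
  have hxR : (x : G) ∈ R := ⟨x.2, by rw [← hx, ← orderOf_submonoid x, pow_orderOf_eq_one]⟩
  rw [hR, Subgroup.mem_bot] at hxR
  rw [← orderOf_submonoid x, hxR, orderOf_one] at hx
  exact hr.one_lt.ne hx


/-- Let G act faithfully and primitively on a finite set with at least two points, and suppose that for some fixed prime p every element of G fixing no point has order a power of p. Then G is of affine type (it has a regular normal subgroup that is an elementary abelian r-group for some prime r) or almost simple (it has a non-abelian simple normal subgroup with trivial centralizer). -/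
theorem result {G Ω : Type*} [Group G] [Finite G] [MulAction G Ω] [FaithfulSMul G Ω] [Finite Ω]
    (hprim : MulAction.IsPreprimitive G Ω) (hΩ : 2 ≤ Nat.card Ω) (p : ℕ) (hp : p.Prime)
    (hder : ∀ g : G, (∀ ω : Ω, g • ω ≠ ω) → ∃ k : ℕ, orderOf g = p ^ k) :
    (∃ (N : Subgroup G) (r : ℕ), r.Prime ∧ N.Normal ∧ Cfsg.IsElementaryAbelian r N ∧
      MulAction.IsPretransitive N Ω ∧ ∀ a : Ω, MulAction.stabilizer N a = ⊥) ∨
    (∃ T : Subgroup G, T.Normal ∧ IsSimpleGroup ↥T ∧ ¬ IsMulCommutative ↥T ∧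
      Subgroup.centralizer (T : Set G) = ⊥) := by
  have hfact : Fact p.Prime := ⟨hp⟩
  have := hprim
  have hΩnt : Nontrivial Ω := Finite.one_lt_card_iff_nontrivial.1 hΩ
  obtain ⟨x⟩ := hΩnt.to_nonempty
  have hGnt : (⊤ : Subgroup G) ≠ ⊥ := by
    intro h
    obtain ⟨a, b, hab⟩ := exists_pair_ne Ω
    obtain ⟨g, hg⟩ := exists_smul_eq G a b
    have : g ∈ (⊥ : Subgroup G) := h ▸ Subgroup.mem_top g
    rw [Subgroup.mem_bot.1 this, one_smul] at hg
    exact hab hg
  obtain ⟨N, -, hNmin⟩ := Finite.exists_le_minimal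
    (p := fun M : Subgroup G => M.Normal ∧ M ≠ ⊥) (a := ⊤) ⟨inferInstance, hGnt⟩
  obtain ⟨⟨hN, hN1⟩, hlb⟩ := hNmin
  have := hN
  have hmin : ∀ M : Subgroup G, M.Normal → M ≤ N → M = ⊥ ∨ M = N := by
    intro M hM hMN
    by_cases h : M = ⊥
    · exact Or.inl h
    · exact Or.inr (le_antisymm hMN (hlb (y := M) ⟨hM, h⟩ hMN))
  have htr : IsPretransitive ↥N Ω := transitive_of_normal hprim N hN hN1
  by_cases hnc : IsMulCommutative ↥N
  · -- affine type
    left
    have hcomm : ∀ a ∈ N, ∀ b ∈ N, a * b = b * a := fun a ha b hb =>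
      congrArg Subtype.val (hnc.1.1 ⟨a, ha⟩ ⟨b, hb⟩)
    have : Nontrivial ↥N := (Subgroup.nontrivial_iff_ne_bot N).2 hN1
    obtain ⟨r, hr, hrd⟩ := Nat.exists_prime_and_dvd (n := Nat.card ↥N)
      (by have := Finite.one_lt_card (α := ↥N); omega)
    have : Fact r.Prime := ⟨hr⟩
    obtain ⟨y, hy⟩ := exists_prime_orderOf_dvd_card' r hrd
    let R : Subgroup G :=
      { carrier := {y | y ∈ N ∧ y ^ r = 1}
        one_mem' := ⟨N.one_mem, one_pow _⟩
        mul_mem' := fun {a b} ha hb => ⟨N.mul_mem ha.1 hb.1, by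
          rw [(show Commute a b from hcomm a ha.1 b hb.1).mul_pow, ha.2, hb.2, one_mul]⟩
        inv_mem' := fun {a} ha => ⟨N.inv_mem ha.1, by rw [inv_pow, ha.2, inv_one]⟩ }
    have hRn : R.Normal := ⟨fun z hz g => ⟨hN.conj_mem _ hz.1 g, by rw [conj_pow, hz.2]; simp⟩⟩
    have hyR : (y : G) ∈ R := ⟨y.2, by rw [← hy, ← orderOf_submonoid y, pow_orderOf_eq_one]⟩
    have hRN : R = N := by
      rcases hmin R hRn (fun z hz => hz.1) with h | h
      · exfalso
        rw [h, Subgroup.mem_bot] at hyR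
        rw [← orderOf_submonoid y, hyR, orderOf_one] at hy
        exact hr.one_lt.ne hy
      · exact h
    refine ⟨N, r, hr, hN, ⟨hnc, fun a ha => ?_⟩, htr, fun a => ?_⟩
    · rw [← hRN] at ha
      exact ha.2
    · rw [Subgroup.eq_bot_iff_forall]
      intro n hn
      exact Subtype.ext (derangement_of_centralizes N (n : G) (fun m hm => hcomm m hm n n.2) a hn)
  right
  -- `N` is not regular
  have hNx : ∃ n ∈ N, n ≠ 1 ∧ n • x = x := by
    by_contra! h
    have hall : ∀ n : ↥N, ∀ ω : Ω, n ≠ 1 → (n : G) • ω ≠ ω := by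
      intro n ω hn hω
      obtain ⟨m, hm⟩ := exists_smul_eq (↥N) x ω
      refine h ((m : G)⁻¹ * n * m) (N.mul_mem (N.mul_mem (N.inv_mem m.2) n.2) m.2) ?_ ?_
      · intro h1
        apply hn
        have : (n : G) = 1 := by
          rwa [mul_assoc, inv_mul_eq_one, eq_comm, mul_eq_right] at h1
        exact Subtype.ext this
      · rw [Subgroup.smul_def] at hm
        rw [mul_smul, mul_smul, hm, hω, ← hm, inv_smul_smul]
    have hPN : IsPGroup p ↥N := by
      intro n
      rcases eq_or_ne n 1 with rfl | hn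
      · exact ⟨0, by simp⟩
      obtain ⟨k, hk⟩ := hder n (fun ω => hall n ω hn)
      exact ⟨k, by rw [← hk, orderOf_submonoid, pow_orderOf_eq_one]⟩
    exact hN1 (no_normal_pgroup N hnc hmin p N le_rfl Subgroup.le_normalizer hPN)
  have hC : Subgroup.centralizer (N : Set G) = ⊥ := by
    by_contra hC
    have : IsPretransitive ↥(Subgroup.centralizer (N : Set G)) Ω :=
      transitive_of_normal hprim _ inferInstance hC
    obtain ⟨n, hnN, hn1, hnx⟩ := hNx
    exact hn1 (derangement_of_centralizes (Subgroup.centralizer (N : Set G)) n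
      (fun c hc => (hc n hnN).symm) x hnx)
  by_cases hsimp : IsSimpleGroup ↥N
  · exact ⟨N, hN, hsimp, hnc, hC⟩
  exfalso
  -- a minimal normal subgroup `S` of `N`, and `B` its centraliser in `N`
  obtain ⟨S₀, hS0, hS01, hS0N⟩ : ∃ S₀ : Subgroup G,
      (S₀ ≤ N ∧ N ≤ Subgroup.normalizer (S₀ : Set G)) ∧ S₀ ≠ ⊥ ∧ S₀ ≠ N := by
    by_contra! h
    have : Nontrivial ↥N := (Subgroup.nontrivial_iff_ne_bot N).2 hN1
    refine hsimp ⟨fun M hM => ?_⟩
    by_cases hMb : M = ⊥
    · exact Or.inl hMb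
    right
    have hMN := h (M.map N.subtype) ⟨Subgroup.map_subtype_le M, fun n hn => by
        rw [Subgroup.mem_normalizer_iff]
        intro y
        constructor
        · rintro ⟨m, hm, rfl⟩
          exact ⟨⟨n, hn⟩ * m * ⟨n, hn⟩⁻¹, hM.conj_mem _ hm _, rfl⟩
        · rintro ⟨m, hm, hmy⟩
          exact ⟨⟨n, hn⟩⁻¹ * m * ⟨n, hn⟩, by simpa using hM.conj_mem _ hm (⟨n, hn⟩ : ↥N)⁻¹, by
            simp only [Subgroup.coe_subtype] at hmy
            simp [hmy, mul_assoc]⟩⟩
      (fun h' => hMb ((Subgroup.map_eq_bot_iff_of_injective _ N.subtype_injective).1 h'))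
    apply Subgroup.map_injective N.subtype_injective
    rw [hMN, ← MonoidHom.range_eq_map, Subgroup.range_subtype]
  obtain ⟨S, hSS0, hSmin⟩ := Finite.exists_le_minimal
    (p := fun M : Subgroup G => (M ≤ N ∧ N ≤ Subgroup.normalizer (M : Set G)) ∧ M ≠ ⊥) (a := S₀) ⟨hS0, hS01⟩
  obtain ⟨⟨⟨hSN, hSn⟩, hS1⟩, hSlb⟩ := hSmin
  have hSne : S ≠ N := fun h => hS0N (le_antisymm hS0.1 (h ▸ hSS0))
  have hSconj : ∀ n ∈ N, ∀ s ∈ S, n * s * n⁻¹ ∈ S := fun n hn s hs =>
    (Subgroup.mem_normalizer_iff.1 (hSn hn) s).1 hs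
  set B : Subgroup G := N ⊓ Subgroup.centralizer (S : Set G) with hB
  have hcomm : ∀ s ∈ S, ∀ b ∈ B, s * b = b * s := fun s hs b hb => hb.2 s hs
  have hBconj : ∀ n ∈ N, ∀ b ∈ B, n * b * n⁻¹ ∈ B := by
    intro n hn b hb
    refine ⟨hN.conj_mem _ hb.1 n, fun s hs => ?_⟩
    have h1 := hcomm (n⁻¹ * s * n⁻¹⁻¹) (hSconj _ (N.inv_mem hn) s hs) b hb
    rw [inv_inv] at h1
    calc s * (n * b * n⁻¹) = n * ((n⁻¹ * s * n) * b) * n⁻¹ := by group
      _ = n * (b * (n⁻¹ * s * n)) * n⁻¹ := by rw [h1]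
      _ = n * b * n⁻¹ * s := by group
  have hdisj : S ⊓ B = ⊥ := by
    refine no_normal_abelian N hnc hmin _ (inf_le_left.trans hSN) (fun n hn => ?_)
      (fun a ha b hb => hcomm a ha.1 b hb.2)
    rw [Subgroup.mem_normalizer_iff]
    intro y
    constructor
    · exact fun hy => ⟨hSconj n hn y hy.1, hBconj n hn y hy.2⟩
    · intro hy
      have h1 := hSconj n⁻¹ (N.inv_mem hn) _ hy.1
      have h2 := hBconj n⁻¹ (N.inv_mem hn) _ hy.2
      simp [mul_assoc] at h1 h2
      exact ⟨h1, h2⟩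
  -- `N = S B`
  have hgen : N ≤ S ⊔ B := by
    have hle : Subgroup.normalClosure (S : Set G) ≤ N ⊓ (S ⊔ B) := by
      rw [Subgroup.normalClosure, Subgroup.closure_le]
      intro y hy
      obtain ⟨s, hs, hsy⟩ := Group.mem_conjugatesOfSet_iff.1 hy
      obtain ⟨g, rfl⟩ := isConj_iff.1 hsy
      refine ⟨hN.conj_mem _ (hSN hs) g, ?_⟩
      let T : Subgroup G := S.map (MulAut.conj g).toMonoidHom
      have hyT : g * s * g⁻¹ ∈ T := ⟨s, hs, rfl⟩
      have hTN : T ≤ N := by
        rintro _ ⟨z, hz, rfl⟩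
        exact hN.conj_mem _ (hSN hz) g
      have hTconj : ∀ n ∈ N, ∀ t ∈ T, n * t * n⁻¹ ∈ T := by
        rintro n hn _ ⟨z, hz, rfl⟩
        refine ⟨(g⁻¹ * n * g) * z * (g⁻¹ * n * g)⁻¹, hSconj _ ?_ z hz, ?_⟩
        · simpa using hN.conj_mem _ hn g⁻¹
        · simp [mul_assoc]
      by_cases hST : S ⊓ T = ⊥
      · refine Subgroup.mem_sup_right ⟨hTN hyT, fun z hz => ?_⟩
        have hmem : z * (g * s * g⁻¹) * z⁻¹ * (g * s * g⁻¹)⁻¹ ∈ S ⊓ T := by
          refine ⟨?_, T.mul_mem (hTconj z (hSN hz) _ hyT) (T.inv_mem hyT)⟩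
          have := S.mul_mem hz (hSconj _ (hTN hyT) _ (S.inv_mem hz))
          simpa [mul_assoc] using this
        rw [hST, Subgroup.mem_bot] at hmem
        exact commutatorElement_eq_one_iff_mul_comm.1 hmem
      · refine Subgroup.mem_sup_left ?_
        have hle : S ≤ S ⊓ T := by
          refine hSlb (y := S ⊓ T) ⟨⟨inf_le_left.trans hSN, fun n hn => ?_⟩, hST⟩ inf_le_left
          rw [Subgroup.mem_normalizer_iff]
          intro z
          constructor
          · exact fun hz => ⟨hSconj n hn z hz.1, hTconj n hn z hz.2⟩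
          · intro hz
            have h1 := hSconj n⁻¹ (N.inv_mem hn) _ hz.1
            have h2 := hTconj n⁻¹ (N.inv_mem hn) _ hz.2
            simp [mul_assoc] at h1 h2
            exact ⟨h1, h2⟩
        have hTS : T = S := by
          refine (Subgroup.eq_of_le_of_card_ge (fun z hz => (hle hz).2) ?_).symm
          exact (Nat.card_congr (S.equivMapOfInjective _ (MulAut.conj g).injective).toEquiv).ge
        exact hTS ▸ hyT
    rcases hmin _ Subgroup.normalClosure_normal (hle.trans inf_le_left) with h | h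
    · exact absurd (le_bot_iff.1 (h ▸ Subgroup.le_normalClosure)) hS1
    · exact h.ge.trans (hle.trans inf_le_right)
  have hdec : ∀ n ∈ N, ∃ s ∈ S, ∃ b ∈ B, n = s * b := by
    intro n hn
    let M : Subgroup G :=
      { carrier := {n | ∃ s ∈ S, ∃ b ∈ B, n = s * b}
        one_mem' := ⟨1, S.one_mem, 1, B.one_mem, (mul_one 1).symm⟩
        mul_mem' := by
          rintro _ _ ⟨s, hs, b, hb, rfl⟩ ⟨s', hs', b', hb', rfl⟩
          refine ⟨s * s', S.mul_mem hs hs', b * b', B.mul_mem hb hb', ?_⟩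
          rw [mul_assoc, ← mul_assoc b, ← hcomm s' hs' b hb, mul_assoc s', mul_assoc]
        inv_mem' := by
          rintro _ ⟨s, hs, b, hb, rfl⟩
          exact ⟨s⁻¹, S.inv_mem hs, b⁻¹, B.inv_mem hb, by
            rw [mul_inv_rev, ← hcomm _ (S.inv_mem hs) _ (B.inv_mem hb)]⟩ }
    have hM : S ⊔ B ≤ M := sup_le (fun s hs => ⟨s, hs, 1, B.one_mem, (mul_one s).symm⟩)
      (fun b hb => ⟨1, S.one_mem, b, hb, (one_mul b).symm⟩)
    exact hM (hgen hn)
  have hB1 : B ≠ ⊥ := by
    intro h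
    rw [h, sup_bot_eq] at hgen
    exact hSne (le_antisymm hSN hgen)
  -- the projection of the point stabiliser to `S`
  let K : Subgroup G :=
    { carrier := {s | s ∈ S ∧ ∃ b ∈ B, (s * b) • x = x}
      one_mem' := ⟨S.one_mem, 1, B.one_mem, by simp⟩
      mul_mem' := by
        rintro s t ⟨hs, b, hb, hsb⟩ ⟨ht, c, hc, htc⟩
        refine ⟨S.mul_mem hs ht, b * c, B.mul_mem hb hc, ?_⟩
        rw [show s * t * (b * c) = (s * b) * (t * c) by
          rw [mul_assoc, ← mul_assoc t, hcomm t ht b hb, mul_assoc, mul_assoc], mul_smul, htc, hsb]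
      inv_mem' := by
        rintro s ⟨hs, b, hb, hsb⟩
        refine ⟨S.inv_mem hs, b⁻¹, B.inv_mem hb, ?_⟩
        rw [show s⁻¹ * b⁻¹ = (b * s)⁻¹ by simp [mul_inv_rev], ← hcomm s hs b hb, inv_smul_eq_iff]
        exact hsb.symm }
  have hKS : K ≤ S := fun s hs => hs.1
  by_cases hK : K = S
  · -- then `S` is semiregular, hence a `p`-group
    have hSx : ∀ t ∈ S, t • x = x → t = 1 := by
      intro t ht htx
      refine eq_of_smul_eq_smul fun y : Ω => ?_
      rw [one_smul]
      obtain ⟨n, rfl⟩ := exists_smul_eq (↥N) x y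
      obtain ⟨s, hs, b, hb, hn⟩ := hdec n n.2
      rw [Subgroup.smul_def, hn]
      -- conjugating `t` back to `x`
      have hsK : s ∈ K := hK.symm ▸ hs
      obtain ⟨-, c, hc, hsc⟩ := hsK
      have htc : ((s * c)⁻¹ * t * (s * c)) • x = x := by
        rw [mul_smul, mul_smul, hsc, htx, inv_smul_eq_iff]
        exact hsc.symm
      have hconj : (s * c)⁻¹ * t * (s * c) = s⁻¹ * t * s := by
        rw [mul_inv_rev]
        have : c⁻¹ * (s⁻¹ * t * s) * c = s⁻¹ * t * s := by
          rw [← hcomm _ (S.mul_mem (S.mul_mem (S.inv_mem hs) ht) hs) _ (B.inv_mem hc), inv_mul_cancel_right]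
        calc c⁻¹ * s⁻¹ * t * (s * c) = c⁻¹ * (s⁻¹ * t * s) * c := by group
          _ = _ := this
      rw [hconj] at htc
      have : t * (s * b) = (s * b) * (s⁻¹ * t * s) := by
        rw [mul_assoc s b, ← hcomm _ (S.mul_mem (S.mul_mem (S.inv_mem hs) ht) hs) b hb]
        group
      rw [← mul_smul, this, mul_smul, htc]
    have hPS : IsPGroup p ↥S := by
      intro t
      rcases eq_or_ne t 1 with rfl | ht
      · exact ⟨0, by simp⟩
      obtain ⟨k, hk⟩ := hder t (fun ω hω => by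
        obtain ⟨n, rfl⟩ := exists_smul_eq (↥N) x ω
        apply ht
        apply Subtype.ext
        have h1 : ((n : G)⁻¹ * t * n) = 1 := by
          refine hSx _ (by simpa using hSconj (n : G)⁻¹ (N.inv_mem n.2) t t.2) ?_
          rw [Subgroup.smul_def] at hω
          rw [mul_smul, mul_smul, hω, inv_smul_smul]
        rw [mul_assoc, inv_mul_eq_one, eq_comm, mul_eq_right] at h1
        exact h1)
      exact ⟨k, by rw [← hk, orderOf_submonoid, pow_orderOf_eq_one]⟩
    exact hS1 (no_normal_pgroup N hnc hmin p S hSN hSn hPS)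
  · -- some element of `S` gives derangements with every element of `B`
    have hKlt : K.subgroupOf S ≠ ⊤ := fun h => hK (le_antisymm hKS (Subgroup.subgroupOf_eq_top.1 h))
    obtain ⟨s, hs⟩ := CfsgLib.Derangement.exists_not_conj_mem (K.subgroupOf S) hKlt
    have hdr : ∀ b ∈ B, ∀ ω : Ω, ((s : G) * b) • ω ≠ ω := by
      intro b hb ω hω
      obtain ⟨n, rfl⟩ := exists_smul_eq (↥N) x ω
      obtain ⟨s', hs', b', hb', hn⟩ := hdec n n.2
      rw [Subgroup.smul_def, hn] at hω
      apply hs ⟨s'⁻¹, S.inv_mem hs'⟩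
      have hb'' : b'⁻¹ * b * b' ∈ B := B.mul_mem (B.mul_mem (B.inv_mem hb') hb) hb'
      change _ ∈ S ∧ _
      rw [Subgroup.coe_subtype]
      refine ⟨SetLike.coe_mem _, _, hb'', ?_⟩
      have hcalc : ((⟨s'⁻¹, S.inv_mem hs'⟩ * s * ⟨s'⁻¹, S.inv_mem hs'⟩⁻¹ : ↥S) : G) * (b'⁻¹ * b * b') =
          (s' * b')⁻¹ * ((s : G) * b) * (s' * b') := by
        have h1 : s' * (b'⁻¹ * b) = (b'⁻¹ * b) * s' := hcomm _ hs' _ (B.mul_mem (B.inv_mem hb') hb)
        have h2 : s'⁻¹ * (s : G) * b'⁻¹ = b'⁻¹ * (s'⁻¹ * (s : G)) :=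
          hcomm _ (S.mul_mem (S.inv_mem hs') s.2) _ (B.inv_mem hb')
        simp only [Subgroup.coe_mul, InvMemClass.coe_inv, inv_inv]
        calc s'⁻¹ * (s : G) * s' * (b'⁻¹ * b * b')
            = s'⁻¹ * (s : G) * (s' * (b'⁻¹ * b)) * b' := by group
          _ = (s'⁻¹ * (s : G) * b'⁻¹) * b * (s' * b') := by rw [h1]; group
          _ = _ := by rw [h2]; group
      rw [hcalc, mul_smul, mul_smul, hω, inv_smul_smul]
    have hsp : ∃ k : ℕ, orderOf (s : G) = p ^ k := by
      have := hder ((s : G) * 1) (hdr 1 B.one_mem)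
      rwa [mul_one] at this
    have hPB : IsPGroup p ↥B := by
      intro b
      obtain ⟨k, hk⟩ := hsp
      obtain ⟨l, hl⟩ := hder ((s : G) * b) (hdr b b.2)
      refine ⟨k + l, Subtype.ext ?_⟩
      have h1 : ((s : G) * b) ^ p ^ (k + l) = 1 := by
        rw [pow_add, mul_comm, pow_mul, ← hl, pow_orderOf_eq_one, one_pow]
      have h2 : (s : G) ^ p ^ (k + l) = 1 := by
        rw [pow_add, pow_mul, ← hk, pow_orderOf_eq_one, one_pow]
      rw [(show Commute (s : G) (b : G) from hcomm s s.2 b b.2).mul_pow, h2, one_mul] at h1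
      rw [Subgroup.coe_pow]
      exact h1
    exact hB1 (no_normal_pgroup N hnc hmin p B inf_le_left (fun n hn => by
      rw [Subgroup.mem_normalizer_iff]
      intro y
      constructor
      · exact fun hy => hBconj n hn y hy
      · intro hy
        have h2 := hBconj n⁻¹ (N.inv_mem hn) _ hy
        simpa [mul_assoc] using h2) hPB)

end Cfsg.Agent.S3556
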