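import Cfsg.Statements.S3557

set_option autoImplicit false
open Cfsg

namespace Cfsg.Agent.S3557

open MulAction
open scoped Pointwise

/-- A non-trivial normal subgroup of a finite `p`-group contains a central element of order `p`. -/
theorem exists_central_orderOf_prime {Q : Type*} [Group Q] [Finite Q] {p : ℕ} [hp : Fact p.Prime]
    (hQ : IsPGroup p Q) (H : Subgroup Q) [H.Normal] (hH : H ≠ ⊥) :
    ∃ z ∈ H, z ∈ Subgroup.center Q ∧ orderOf z = p := by
  let W : Subgroup Q := H ⊓ Subgroup.center Q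
  suffices hW : W ≠ ⊥ by
    obtain ⟨k, hk⟩ := IsPGroup.iff_card.1 (hQ.to_subgroup W)
    have hk0 : k ≠ 0 := by
      rintro rfl
      exact hW (Subgroup.card_eq_one.1 (by simpa using hk))
    obtain ⟨z, hz⟩ := exists_prime_orderOf_dvd_card' p (hk ▸ dvd_pow_self p hk0)
    exact ⟨z, z.2.1, z.2.2, by rw [orderOf_submonoid z, hz]⟩
  intro hW
  let f : ConjAct Q →* MulAut ↥H := MulDistribMulAction.toMulAut _ _
  let : MulAction (ConjAct Q) ↥H := MulAction.compHom ↥H f
  have hdvd : p ∣ Nat.card ↥H := by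
    obtain ⟨k, hk⟩ := IsPGroup.iff_card.1 (hQ.to_subgroup H)
    have hk0 : k ≠ 0 := by
      rintro rfl
      exact hH (Subgroup.card_eq_one.1 (by simpa using hk))
    exact hk ▸ dvd_pow_self p hk0
  have hQ' : IsPGroup p (ConjAct Q) := hQ.of_equiv ConjAct.toConjAct
  have h1 : (1 : ↥H) ∈ fixedPoints (ConjAct Q) ↥H := fun c => map_one (f c)
  obtain ⟨w, hw, hw1⟩ := hQ'.exists_fixed_point_of_prime_dvd_card_of_fixed_point (α := ↥H) hdvd h1
  refine hw1 ?_
  have : (w : Q) ∈ W := by
    refine ⟨w.2, Subgroup.mem_center_iff.2 fun g => ?_⟩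
    have h2 := congrArg Subtype.val (hw (ConjAct.toConjAct g))
    have h3 : g * (w : Q) * g⁻¹ = w := h2
    exact mul_inv_eq_iff_eq_mul.1 h3
  rw [hW, Subgroup.mem_bot] at this
  exact (Subtype.ext this).symm

/-- The orbit lengths of a Sylow subgroup are divisible by the `p`-part of the degree. -/
theorem pow_dvd_card_orbit {G Ω : Type*} [Group G] [Finite G] [MulAction G Ω] [IsPretransitive G Ω]
    {p : ℕ} [Fact p.Prime] (P : Sylow p G) {j : ℕ} (hj : p ^ j ∣ Nat.card Ω) (ω : Ω) :
    p ^ j ∣ Nat.card (orbit (↥(P : Subgroup G)) ω) := by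
  have hle : Nat.card (stabilizer (↥(P : Subgroup G)) ω) ∣ p ^ (Nat.card (stabilizer G ω)).factorization p := by
    obtain ⟨k, hk⟩ := IsPGroup.iff_card.1 (P.2.to_subgroup (stabilizer (↥(P : Subgroup G)) ω))
    rw [hk]
    refine pow_dvd_pow p ((Nat.Prime.pow_dvd_iff_le_factorization Fact.out Nat.card_pos.ne').1 ?_)
    rw [← hk]
    have e : stabilizer (↥(P : Subgroup G)) ω = (stabilizer G ω).subgroupOf (P : Subgroup G) := rfl
    rw [e, ← Subgroup.card_map_of_injective (P : Subgroup G).subtype_injective]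
    refine Subgroup.card_dvd_of_le ?_
    rintro _ ⟨g, hg, rfl⟩
    exact hg
  have h1 := (stabilizer (↥(P : Subgroup G)) ω).card_mul_index
  rw [index_stabilizer, ← Nat.card_coe_set_eq, P.card_eq_multiplicity] at h1
  have h2 := (stabilizer G ω).card_mul_index
  rw [index_stabilizer_of_transitive] at h2
  set s := Nat.card (stabilizer G ω) with hs
  have hfac : (Nat.card G).factorization p = s.factorization p + (Nat.card Ω).factorization p := by
    rw [← h2, Nat.factorization_mul Nat.card_pos.ne' ?_]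
    · rfl
    · intro h0
      rw [h0, mul_zero] at h2
      exact Nat.card_pos.ne' h2.symm
  have hΩ0 : Nat.card Ω ≠ 0 := fun h0 => by
    rw [h0, mul_zero] at h2
    exact Nat.card_pos.ne' h2.symm
  have hj' : j ≤ (Nat.card Ω).factorization p := (Nat.Prime.pow_dvd_iff_le_factorization Fact.out hΩ0).1 hj
  obtain ⟨c, hc⟩ := hle
  refine (pow_dvd_pow p hj').trans ?_
  refine Nat.dvd_of_mul_dvd_mul_left (k := Nat.card (stabilizer (↥(P : Subgroup G)) ω)) Nat.card_pos ?_
  rw [h1, hfac, pow_add]
  exact mul_dvd_mul_right ⟨c, hc⟩ _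


/-- Let G act faithfully and transitively on a finite set with 2p² points, p a prime, and suppose G is 2-closed: every permutation of the set which, on each ordered pair of points, agrees with some element of G, is itself induced by an element of G. Then some element of G of prime order fixes no point. -/
theorem result {G Ω : Type*} [Group G] [Finite G] [MulAction G Ω] [FaithfulSMul G Ω] [Finite Ω]
    (htrans : MulAction.IsPretransitive G Ω) (p : ℕ) (hp : p.Prime) (hcard : Nat.card Ω = 2 * p ^ 2)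
    (hcl : ∀ σ : Equiv.Perm Ω, (∀ a b : Ω, ∃ g : G, σ a = g • a ∧ σ b = g • b) → ∃ g : G, ∀ a : Ω, σ a = g • a) :
    ∃ g : G, (orderOf g).Prime ∧ ∀ ω : Ω, g • ω ≠ ω := by
  classical
  have : Fact p.Prime := ⟨hp⟩
  let P : Sylow p G := default
  have hP : IsPGroup p ↥(P : Subgroup G) := P.2
  have hΩ0 : 0 < Nat.card Ω := by rw [hcard]; exact Nat.mul_pos two_pos (pow_pos hp.pos 2)
  have : Nonempty Ω := (Nat.card_pos_iff.1 hΩ0).1
  -- a central element of order `p` of `P` moving a point moves its whole orbit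
  have hmove : ∀ z : ↥(P : Subgroup G), z ∈ Subgroup.center ↥(P : Subgroup G) → ∀ x y : Ω,
      y ∈ orbit (↥(P : Subgroup G)) x → (z • y = y ↔ z • x = x) := by
    rintro z hz x y ⟨g, rfl⟩
    simp only
    rw [← mul_smul, ← Subgroup.mem_center_iff.1 hz g, mul_smul]
    exact (MulAction.injective g).eq_iff
  rcases eq_or_ne p 2 with hp2 | hp2
  · -- `P` is transitive
    subst hp2
    obtain ⟨a⟩ := ‹Nonempty Ω›
    have horb : orbit (↥(P : Subgroup G)) a = Set.univ := by
      refine Set.eq_of_subset_of_ncard_le (Set.subset_univ _) ?_ (Set.toFinite _)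
      rw [Set.ncard_univ, ← Nat.card_coe_set_eq]
      have : Nonempty (orbit (↥(P : Subgroup G)) a) := ⟨⟨a, mem_orbit_self a⟩⟩
      refine Nat.le_of_dvd Nat.card_pos ?_
      rw [hcard]
      exact pow_dvd_card_orbit P (j := 3) (by rw [hcard]; norm_num) a
    have hne : (⊤ : Subgroup ↥(P : Subgroup G)) ≠ ⊥ := by
      intro h
      have h1 : (orbit (↥(P : Subgroup G)) a).Subsingleton := by
        rintro _ ⟨g, rfl⟩ _ ⟨g', rfl⟩
        have hg : g ∈ (⊥ : Subgroup ↥(P : Subgroup G)) := h ▸ Subgroup.mem_top g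
        have hg' : g' ∈ (⊥ : Subgroup ↥(P : Subgroup G)) := h ▸ Subgroup.mem_top g'
        rw [Subgroup.mem_bot] at hg hg'
        rw [hg, hg']
      have := Set.ncard_le_one_iff_subsingleton.2 h1
      rw [horb, Set.ncard_univ, hcard] at this
      omega
    obtain ⟨z, -, hzc, hzo⟩ := exists_central_orderOf_prime hP ⊤ hne
    refine ⟨(z : G), by rw [orderOf_submonoid z, hzo]; exact hp, fun ω hω => ?_⟩
    have hfix : ∀ y : Ω, z • y = y := by
      intro y
      have h1 : z • a = a := (hmove z hzc a ω (horb ▸ Set.mem_univ _)).1 hω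
      exact (hmove z hzc a y (horb ▸ Set.mem_univ _)).2 h1
    have : (z : G) = 1 := eq_of_smul_eq_smul fun y : Ω => by
      rw [one_smul]
      exact hfix y
    rw [← orderOf_submonoid z, this, orderOf_one] at hzo
    exact hp.one_lt.ne hzo
  · -- two orbits of length `p ^ 2`
    have h3 : 3 ≤ p := by
      have := hp.two_le
      omega
    have hsize : ∀ x : Ω, Nat.card (orbit (↥(P : Subgroup G)) x) = p ^ 2 := by
      intro x
      obtain ⟨k, hk⟩ := hP.card_orbit x
      have h2 := pow_dvd_card_orbit P (j := 2) (by rw [hcard]; exact dvd_mul_left _ _) x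
      rw [hk, Nat.pow_dvd_pow_iff_le_right hp.one_lt] at h2
      have hle : p ^ k ≤ 2 * p ^ 2 := by
        rw [← hk, ← hcard, Nat.card_coe_set_eq, ← Set.ncard_univ]
        exact Set.ncard_le_ncard (Set.subset_univ _) (Set.toFinite _)
      rcases h2.eq_or_lt with h | h
      · rw [hk, ← h]
      · have h4 : p ^ 3 ≤ p ^ k := Nat.pow_le_pow_right hp.pos h
        have h5 : 0 < p ^ 2 := pow_pos hp.pos 2
        nlinarith [h4, hle, h5, h3]
    have hcover : ∀ a b : Ω, b ∉ orbit (↥(P : Subgroup G)) a → ∀ y : Ω,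
        y ∈ orbit (↥(P : Subgroup G)) a ∨ y ∈ orbit (↥(P : Subgroup G)) b := by
      intro a b hab y
      have hdisj : Disjoint (orbit (↥(P : Subgroup G)) a) (orbit (↥(P : Subgroup G)) b) := by
        rw [Set.disjoint_left]
        intro z hza hzb
        apply hab
        rw [← orbit_eq_iff.2 hza, orbit_eq_iff.2 hzb]
        exact mem_orbit_self b
      have huniv : orbit (↥(P : Subgroup G)) a ∪ orbit (↥(P : Subgroup G)) b = Set.univ := by
        refine Set.eq_of_subset_of_ncard_le (Set.subset_univ _) ?_ (Set.toFinite _)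
        rw [Set.ncard_univ, Set.ncard_union_eq hdisj, ← Nat.card_coe_set_eq, ← Nat.card_coe_set_eq,
          hsize, hsize, hcard, two_mul]
      exact (huniv.symm ▸ Set.mem_univ y : y ∈ _ ∪ _)
    have hne : (⊤ : Subgroup ↥(P : Subgroup G)) ≠ ⊥ := by
      intro h
      obtain ⟨a⟩ := ‹Nonempty Ω›
      have h1 : (orbit (↥(P : Subgroup G)) a).Subsingleton := by
        rintro _ ⟨g, rfl⟩ _ ⟨g', rfl⟩
        have hg : g ∈ (⊥ : Subgroup ↥(P : Subgroup G)) := h ▸ Subgroup.mem_top g
        have hg' : g' ∈ (⊥ : Subgroup ↥(P : Subgroup G)) := h ▸ Subgroup.mem_top g'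
        rw [Subgroup.mem_bot] at hg hg'
        rw [hg, hg']
      have h2 := Set.ncard_le_one_iff_subsingleton.2 h1
      rw [← Nat.card_coe_set_eq, hsize] at h2
      nlinarith
    obtain ⟨z, -, hzc, hzo⟩ := exists_central_orderOf_prime hP ⊤ hne
    by_cases hder : ∀ ω : Ω, (z : G) • ω ≠ ω
    · exact ⟨(z : G), by rw [orderOf_submonoid z, hzo]; exact hp, hder⟩
    push Not at hder
    obtain ⟨b, hb⟩ := hder
    replace hb : z • b = b := hb
    have hz1 : z ≠ 1 := by
      rintro rfl
      rw [orderOf_one] at hzo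
      exact hp.one_lt.ne hzo
    obtain ⟨a, ha⟩ : ∃ a : Ω, z • a ≠ a := by
      by_contra! h
      exact hz1 (Subtype.ext (eq_of_smul_eq_smul fun y : Ω => (h y).trans (one_smul G y).symm))
    have hab : b ∉ orbit (↥(P : Subgroup G)) a := fun h => ha ((hmove z hzc a b h).1 hb)
    set Δ₁ := orbit (↥(P : Subgroup G)) a with hΔ₁
    have hΔ₂ : ∀ y : Ω, y ∉ Δ₁ → y ∈ orbit (↥(P : Subgroup G)) b := fun y hy =>
      (hcover a b hab y).resolve_left hy
    -- the kernel on the second orbit
    let K : Subgroup ↥(P : Subgroup G) :=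
      { carrier := {g | ∀ y ∈ orbit (↥(P : Subgroup G)) b, g • y = y}
        one_mem' := fun y _ => one_smul _ y
        mul_mem' := fun {g h} hg hh y hy => by rw [mul_smul, hh y hy, hg y hy]
        inv_mem' := fun {g} hg y hy => by rw [inv_smul_eq_iff, hg y hy] }
    have hKn : K.Normal := ⟨fun g hg c y hy => by
      rw [mul_smul, mul_smul, hg _ (mem_orbit_of_mem_orbit _ hy), smul_inv_smul]⟩
    have hKz : z ∈ K := fun y hy => (hmove z hzc b y hy).2 hb
    -- the stabiliser of the `z`-block of `a`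
    set Pa := stabilizer (↥(P : Subgroup G)) a with hPa
    set H := Pa ⊔ Subgroup.zpowers z with hH
    have hPaH : Pa ≤ H := le_sup_left
    have hzH : z ∈ H := Subgroup.mem_sup_right (Subgroup.mem_zpowers z)
    have hHdec : ∀ g ∈ H, ∃ q ∈ Pa, ∃ i : ℤ, g = q * z ^ i := by
      intro g hg
      have hzn : (Subgroup.zpowers z).Normal := ⟨fun w hw c => by
        obtain ⟨i, rfl⟩ := hw
        exact ⟨i, by simp only; rw [Subgroup.mem_center_iff.1 ((Subgroup.center _).zpow_mem hzc i) c, mul_inv_cancel_right]⟩⟩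
      have : g ∈ (Pa : Set ↥(P : Subgroup G)) * (Subgroup.zpowers z : Set ↥(P : Subgroup G)) := by
        rw [← Subgroup.mul_normal]
        exact hg
      obtain ⟨q, hq, w, ⟨i, rfl⟩, rfl⟩ := this
      exact ⟨q, hq, i, rfl⟩
    have hPaidx : Pa.index = p ^ 2 := by
      rw [hPa, index_stabilizer, ← Nat.card_coe_set_eq, hsize]
    have hHidx : H.index = p := by
      obtain ⟨k, hk⟩ := hP.index H
      have h1 := Subgroup.relIndex_mul_index hPaH
      rw [hPaidx, hk] at h1
      have hne1 : Pa.relIndex H ≠ 1 := fun h => ha (Subgroup.relIndex_eq_one.1 h hzH)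
      have hle : k ≤ 1 := by
        by_contra hk2
        have h2 : p ^ 2 ∣ p ^ k := pow_dvd_pow p (by omega)
        obtain ⟨c, hc⟩ := h2
        rw [hc, mul_comm (Pa.relIndex H), mul_assoc] at h1
        have h3 : c * Pa.relIndex H = 1 := by
          have : p ^ 2 * (c * Pa.relIndex H) = p ^ 2 * 1 := by rw [h1, mul_one]
          exact Nat.eq_of_mul_eq_mul_left (pow_pos hp.pos 2) this
        exact hne1 (Nat.eq_one_of_mul_eq_one_left h3)
      rcases Nat.le_one_iff_eq_zero_or_eq_one.1 hle with rfl | rfl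
      · -- `H` would be everything, so `P` would move `a` inside its `z`-block
        exfalso
        rw [pow_zero] at hk
        have hsub : orbit (↥(P : Subgroup G)) a ⊆ orbit (↥(Subgroup.zpowers z)) a := by
          rintro _ ⟨g, rfl⟩
          obtain ⟨q, hq, i, rfl⟩ := hHdec g (Subgroup.index_eq_one.1 hk ▸ Subgroup.mem_top g)
          refine ⟨⟨z ^ i, i, rfl⟩, ?_⟩
          change (z ^ i) • a = (q * z ^ i) • a
          rw [Subgroup.mem_center_iff.1 ((Subgroup.center _).zpow_mem hzc i) q, mul_smul, hq]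
        have h2 := Set.ncard_le_ncard hsub (Set.toFinite _)
        rw [← Nat.card_coe_set_eq, hsize, ← index_stabilizer] at h2
        have h3 := Nat.le_of_dvd Nat.card_pos
          (stabilizer (↥(Subgroup.zpowers z)) a).index_dvd_card
        rw [Nat.card_zpowers, hzo] at h3
        nlinarith
      · rw [hk, pow_one]
    have hHn : H.Normal := by
      refine Subgroup.normal_of_index_eq_minFac_card ?_
      obtain ⟨k, hk⟩ := IsPGroup.iff_card.1 hP
      rw [hHidx, hk, Nat.Prime.pow_minFac hp]
      rintro rfl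
      rw [pow_zero] at hk
      have := H.index_dvd_card
      rw [hk, hHidx, Nat.dvd_one] at this
      exact hp.one_lt.ne' this
    -- `H` fixes every `z`-block of the first orbit
    have hblock : ∀ g ∈ H, ∀ y ∈ Δ₁, ∃ i : ℤ, g • y = (z ^ i) • y := by
      rintro g hg _ ⟨c, rfl⟩
      obtain ⟨q, hq, i, hqi⟩ := hHdec (c⁻¹ * g * c⁻¹⁻¹) (hHn.conj_mem g hg c⁻¹)
      rw [inv_inv] at hqi
      refine ⟨i, ?_⟩
      simp only
      calc g • c • a = c • (c⁻¹ * g * c) • a := by rw [← mul_smul, ← mul_smul]; group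
        _ = c • (q * z ^ i) • a := by rw [hqi]
        _ = c • (z ^ i) • q • a := by
            rw [Subgroup.mem_center_iff.1 ((Subgroup.center _).zpow_mem hzc i) q, mul_smul]
        _ = c • (z ^ i) • a := by rw [hq]
        _ = (z ^ i) • c • a := by
            rw [← mul_smul, Subgroup.mem_center_iff.1 ((Subgroup.center _).zpow_mem hzc i) c, mul_smul]
    -- an element of `H` that is central of order `p` modulo `K`
    have hKidx : ¬ H ≤ K := by
      intro hle
      have h1 := Subgroup.index_dvd_of_le hle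
      have hKPb : K ≤ stabilizer (↥(P : Subgroup G)) b := fun g hg => hg b (mem_orbit_self b)
      have h2 := (Subgroup.index_dvd_of_le hKPb).trans h1
      rw [index_stabilizer, ← Nat.card_coe_set_eq, hsize, hHidx] at h2
      have := Nat.le_of_dvd hp.pos h2
      nlinarith
    have : (H.map (QuotientGroup.mk' K)).Normal := hHn.map _ (QuotientGroup.mk'_surjective K)
    have hHK : H.map (QuotientGroup.mk' K) ≠ ⊥ := by
      intro h
      rw [Subgroup.map_eq_bot_iff, QuotientGroup.ker_mk'] at h
      exact hKidx h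
    obtain ⟨w, hwH, hwc, hwo⟩ := exists_central_orderOf_prime (hP.to_quotient K) _ hHK
    obtain ⟨h, hhH, rfl⟩ := hwH
    have hhK : h ∉ K := fun hh => by
      have : (QuotientGroup.mk' K) h = 1 := (QuotientGroup.eq_one_iff h).2 hh
      rw [this, orderOf_one] at hwo
      exact hp.one_lt.ne hwo
    have hhp : h ^ p ∈ K := by
      have h1 := pow_orderOf_eq_one ((QuotientGroup.mk' K) h)
      rw [hwo, ← map_pow] at h1
      exact (QuotientGroup.eq_one_iff _).1 h1
    have hhder : ∀ y, y ∈ orbit (↥(P : Subgroup G)) b → h • y ≠ y := by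
      intro y hy hhy
      apply hhK
      intro y' hy'
      obtain ⟨c, rfl⟩ : y' ∈ orbit (↥(P : Subgroup G)) y := by rwa [orbit_eq_iff.2 hy]
      have hcomm : (h * c)⁻¹ * (c * h) ∈ K := by
        rw [← QuotientGroup.eq]
        exact (Subgroup.mem_center_iff.1 hwc (QuotientGroup.mk' K c)).symm
      have h3 := hcomm y hy
      rw [mul_smul, mul_smul, hhy, inv_smul_eq_iff, mul_smul] at h3
      exact h3.symm
    -- the new permutation
    have hΔstab : ∀ (g : ↥(P : Subgroup G)) (y : Ω), g • y ∈ Δ₁ ↔ y ∈ Δ₁ := fun g y =>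
      ⟨fun hy => by simpa using mem_orbit_of_mem_orbit g⁻¹ hy, fun hy => mem_orbit_of_mem_orbit g hy⟩
    let σf : Ω → Ω := fun y => if y ∈ Δ₁ then z • y else h • y
    have hσbij : Function.Bijective σf := by
      refine Finite.injective_iff_bijective.1 fun x y hxy => ?_
      by_cases hx : x ∈ Δ₁ <;> by_cases hy : y ∈ Δ₁ <;> simp only [σf, hx, hy, if_true, if_false] at hxy
      · exact MulAction.injective z hxy
      · exact absurd ((hΔstab h y).1 (hxy ▸ (hΔstab z x).2 hx)) hy
      · exact absurd ((hΔstab h x).1 (hxy.symm ▸ (hΔstab z y).2 hy)) hx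
      · exact MulAction.injective h hxy
    obtain ⟨g, hg⟩ := hcl (Equiv.ofBijective σf hσbij) (fun x y => by
      simp only [Equiv.ofBijective_apply]
      by_cases hx : x ∈ Δ₁ <;> by_cases hy : y ∈ Δ₁ <;> simp only [σf, hx, hy, if_true, if_false]
      · exact ⟨z, rfl, rfl⟩
      · obtain ⟨i, hi⟩ := hblock h hhH x hx
        refine ⟨((z ^ (1 - i) * h : ↥(P : Subgroup G)) : G), ?_, ?_⟩
        · change z • x = (z ^ (1 - i) * h) • x
          rw [mul_smul, hi, ← mul_smul, ← zpow_add, sub_add_cancel, zpow_one]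
        · change h • y = (z ^ (1 - i) * h) • y
          rw [mul_smul]
          exact ((K.zpow_mem hKz (1 - i)) _ (mem_orbit_of_mem_orbit h (hΔ₂ y hy))).symm
      · obtain ⟨i, hi⟩ := hblock h hhH y hy
        refine ⟨((z ^ (1 - i) * h : ↥(P : Subgroup G)) : G), ?_, ?_⟩
        · change h • x = (z ^ (1 - i) * h) • x
          rw [mul_smul]
          exact ((K.zpow_mem hKz (1 - i)) _ (mem_orbit_of_mem_orbit h (hΔ₂ x hx))).symm
        · change z • y = (z ^ (1 - i) * h) • y
          rw [mul_smul, hi, ← mul_smul, ← zpow_add, sub_add_cancel, zpow_one]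
      · exact ⟨h, rfl, rfl⟩)
    have hgx : ∀ x, g • x = if x ∈ Δ₁ then z • x else h • x := fun x => (hg x).symm
    have hgn : ∀ (n : ℕ) (x : Ω), g ^ n • x = if x ∈ Δ₁ then z ^ n • x else h ^ n • x := by
      intro n x
      induction n with
      | zero => simp
      | succ n ih =>
        rw [pow_succ', mul_smul, ih, hgx]
        by_cases hx : x ∈ Δ₁
        · rw [if_pos hx, if_pos hx, if_pos ((hΔstab _ x).2 hx), pow_succ', mul_smul]
        · rw [if_neg hx, if_neg hx, if_neg (fun hh => hx ((hΔstab _ x).1 hh)), pow_succ', mul_smul]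
    have hgder : ∀ ω : Ω, g • ω ≠ ω := by
      intro ω hω
      rw [hgx] at hω
      by_cases hx : ω ∈ Δ₁
      · rw [if_pos hx] at hω
        exact ha ((hmove z hzc a ω hx).1 hω)
      · rw [if_neg hx] at hω
        exact hhder ω (hΔ₂ ω hx) hω
    refine ⟨g, ?_, hgder⟩
    have hgp : g ^ p = 1 := eq_of_smul_eq_smul fun x : Ω => by
      rw [one_smul, hgn]
      by_cases hx : x ∈ Δ₁
      · rw [if_pos hx, orderOf_dvd_iff_pow_eq_one.1 hzo.dvd, one_smul]
      · rw [if_neg hx]
        exact hhp x (hΔ₂ x hx)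
    rw [orderOf_eq_prime hgp fun h1 => hgder a (by rw [h1, one_smul])]
    exact hp

end Cfsg.Agent.S3557
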