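import Cfsg.Statements.S3560

set_option autoImplicit false
open Cfsg

namespace Cfsg.Agent.S3560

open MulAction
open scoped Pointwise

variable {ι α : Type*} [Fintype ι] [DecidableEq α]

/-- Isometries of the Hamming space `ι → α`. -/
def hammingIsom : Subgroup (Equiv.Perm (ι → α)) where
  carrier := {σ | ∀ x y, hammingDist (σ x) (σ y) = hammingDist x y}
  one_mem' := fun _ _ => rfl
  mul_mem' := fun {s t} hs ht x y => by rw [Equiv.Perm.mul_apply, Equiv.Perm.mul_apply, hs, ht]
  inv_mem' := fun {s} hs x y => by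
    conv_rhs => rw [← Equiv.apply_symm_apply s x, ← Equiv.apply_symm_apply s y, hs]
    rfl

theorem piCongr_mem (f : ι → Equiv.Perm α) : Equiv.piCongrRight f ∈ hammingIsom (ι := ι) (α := α) := by
  intro x y
  exact hammingDist_comp (fun i => f i) (fun i => (f i).injective)

theorem arrowCongr_mem [DecidableEq ι] (π : Equiv.Perm ι) :
    Equiv.arrowCongr π (Equiv.refl α) ∈ hammingIsom (ι := ι) (α := α) := by
  intro x y
  simp only [hammingDist]
  refine Finset.card_bij' (fun i _ => π.symm i) (fun i _ => π i) ?_ ?_ ?_ ?_ <;> intros <;>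
    simp_all [Equiv.arrowCongr]

theorem exists_perm_two {a b c d : α} (hab : a ≠ b) (hcd : c ≠ d) :
    ∃ f : Equiv.Perm α, f a = c ∧ f b = d := by
  refine ⟨Equiv.swap d (Equiv.swap a c b) * Equiv.swap a c, ?_, ?_⟩
  · rw [Equiv.Perm.mul_apply, Equiv.swap_apply_left, Equiv.swap_apply_of_ne_of_ne hcd]
    intro h
    exact hab ((Equiv.swap a c).injective (by rw [Equiv.swap_apply_left]; exact h))
  · rw [Equiv.Perm.mul_apply, Equiv.swap_apply_right]

/-- The stabiliser of `y` is transitive on the points at distance one from `y`. -/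
theorem neighbours [DecidableEq ι] (y : ι → α) {i j : ι} {a b : α} (ha : a ≠ y i) (hb : b ≠ y j) :
    ∃ σ ∈ hammingIsom (ι := ι) (α := α), σ y = y ∧ σ (Function.update y i a) = Function.update y j b := by
  obtain ⟨fj, hj1, hj2⟩ := exists_perm_two ha hb
  have hcoord : ∀ l : ι, ∃ f : Equiv.Perm α, f (y (Equiv.swap i j l)) = y l ∧
      f (Function.update y i a (Equiv.swap i j l)) = Function.update y j b l := by
    intro l
    by_cases hl : l = j
    · subst hl
      exact ⟨fj, by rw [Equiv.swap_apply_right]; exact hj2,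
        by rw [Equiv.swap_apply_right, Function.update_self, Function.update_self]; exact hj1⟩
    · refine ⟨Equiv.swap (y (Equiv.swap i j l)) (y l), Equiv.swap_apply_left _ _, ?_⟩
      have hne : Equiv.swap i j l ≠ i := fun h => hl (by
        have := congrArg (Equiv.swap i j) h
        rwa [Equiv.swap_apply_self, Equiv.swap_apply_left] at this)
      rw [Function.update_of_ne hne, Function.update_of_ne hl, Equiv.swap_apply_left]
  choose f hf1 hf2 using hcoord
  refine ⟨Equiv.piCongrRight f * Equiv.arrowCongr (Equiv.swap i j) (Equiv.refl α),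
    mul_mem (piCongr_mem f) (arrowCongr_mem _), funext fun l => ?_, funext fun l => ?_⟩
  · simpa [Equiv.arrowCongr, Pi.map] using hf1 l
  · simpa [Equiv.arrowCongr, Pi.map] using hf2 l

theorem isom_transitive [DecidableEq ι] (x y : ι → α) :
    ∃ σ ∈ hammingIsom (ι := ι) (α := α), σ x = y :=
  ⟨Equiv.piCongrRight fun l => Equiv.swap (x l) (y l), piCongr_mem _, funext fun l => by
    simp [Pi.map]⟩

theorem isom_primitive [DecidableEq ι] [Fintype α] (hm : 3 ≤ Fintype.card α) :
    IsPreprimitive ↥(hammingIsom (ι := ι) (α := α)) (ι → α) := by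
  have htr : IsPretransitive ↥(hammingIsom (ι := ι) (α := α)) (ι → α) := ⟨fun x y => by
    obtain ⟨σ, hσ, h⟩ := isom_transitive x y
    exact ⟨⟨σ, hσ⟩, h⟩⟩
  refine ⟨fun {B} hB => ?_⟩
  by_cases hs : B.Subsingleton
  · exact Or.inl hs
  right
  rw [Set.not_subsingleton_iff] at hs
  obtain ⟨x, hx, y, hy, hxy⟩ := hs
  have hstab : ∀ σ ∈ hammingIsom (ι := ι) (α := α), ∀ u ∈ B, σ u ∈ B → ∀ w ∈ B, σ w ∈ B := by
    intro σ hσ u hu hσu w hw
    have h1 : (⟨σ, hσ⟩ : hammingIsom (ι := ι) (α := α)) • B = B := by
      refine hB.smul_eq_of_nonempty ⟨σ u, ⟨u, hu, rfl⟩, hσu⟩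
    rw [← h1]
    exact ⟨w, hw, rfl⟩
  obtain ⟨i, hi⟩ := Function.ne_iff.1 hxy
  obtain ⟨z, hz1, hz2⟩ : ∃ z : α, z ≠ x i ∧ z ≠ y i := by
    by_contra! h
    have hsub : (Finset.univ : Finset α) ⊆ {x i, y i} := fun w _ => by
      rw [Finset.mem_insert, Finset.mem_singleton]
      by_cases hw : w = x i
      · exact Or.inl hw
      · exact Or.inr (h w hw)
    have := (Finset.card_le_card hsub).trans Finset.card_le_two
    rw [Finset.card_univ] at this
    omega
  -- a second point next to `y`
  have hy' : Function.update y i z ∈ B := by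
    have h := hstab _ (piCongr_mem fun l => if l = i then Equiv.swap (y i) z else 1) x hx ?_ y hy
    · convert h using 1
      funext l
      by_cases hl : l = i
      · subst hl
        simp [Pi.map]
      · simp [Pi.map, Function.update_of_ne hl, if_neg hl]
    · convert hx using 1
      funext l
      by_cases hl : l = i
      · subst hl
        simp [Pi.map, Equiv.swap_apply_of_ne_of_ne hi hz1.symm]
      · simp [Pi.map, if_neg hl]
  have hnb : ∀ u ∈ B, ∀ j b, b ≠ u j → Function.update u j b ∈ B := by
    intro u hu j b hb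
    obtain ⟨τ, hτdef⟩ : ∃ τ : Equiv.Perm (ι → α),
        τ = Equiv.piCongrRight fun l => Equiv.swap (y l) (u l) := ⟨_, rfl⟩
    have hτ : τ ∈ hammingIsom (ι := ι) (α := α) := hτdef ▸ piCongr_mem _
    have hτy : τ y = u := hτdef ▸ funext fun l => by simp [Pi.map]
    have h1 : τ (Function.update y i z) ∈ B := hstab τ hτ y hy (hτy.symm ▸ hu) _ hy'
    have h2 : τ (Function.update y i z) = Function.update u i (Equiv.swap (y i) (u i) z) := by
      subst hτdef
      funext l
      by_cases hl : l = i
      · subst hl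
        simp [Pi.map]
      · simp [Pi.map, Function.update_of_ne hl]
    rw [h2] at h1
    obtain ⟨σ, hσ, hσu, hσv⟩ := neighbours u (i := i) (j := j) (a := Equiv.swap (y i) (u i) z) (b := b)
      (by
        intro h
        have := congrArg (Equiv.swap (y i) (u i)) h
        rw [Equiv.swap_apply_self, Equiv.swap_apply_right] at this
        exact hz2 this) hb
    exact hσv ▸ hstab σ hσ u hu (hσu.symm ▸ hu) _ h1
  refine Set.eq_univ_of_forall fun w => ?_
  suffices ∀ (d : ℕ) (w : ι → α), hammingDist y w = d → w ∈ B from this _ w rfl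
  intro d
  induction d with
  | zero => exact fun w hw => hammingDist_eq_zero.1 hw ▸ hy
  | succ d ih =>
    intro w hw
    have hne : y ≠ w := fun h => by simp [h] at hw
    obtain ⟨j, hj⟩ := Function.ne_iff.1 hne
    have hd : hammingDist y (Function.update w j (y j)) = d := by
      have : (Finset.univ.filter fun l => y l ≠ Function.update w j (y j) l) =
          (Finset.univ.filter fun l => y l ≠ w l).erase j := by
        ext l
        by_cases hl : l = j
        · subst hl; simp
        · simp [hl]
      rw [hammingDist, this, Finset.card_erase_of_mem (by simp [hj])]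
      change hammingDist y w - 1 = d
      omega
    have := hnb _ (ih _ hd) j (w j) (by rw [Function.update_self]; exact Ne.symm hj)
    simpa using this


/-- Let K be a finite group isomorphic to a direct product of r ≥ 2 groups all of the same order m ≥ 3. Then K is not a B-group: there is a primitive but not doubly transitive permutation group (on some finite set) containing a regular subgroup isomorphic to K. -/
theorem result {K : Type*} [Group K] [Finite K] {ι : Type*} [Fintype ι] (F : ι → Type*) [∀ i, Group (F i)]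
    (hr : 2 ≤ Fintype.card ι) (m : ℕ) (hm : 3 ≤ m) (hcard : ∀ i, Nat.card (F i) = m) (e : K ≃* (∀ i, F i)) :
    ∃ (n : ℕ) (G R : Subgroup (Equiv.Perm (Fin n))), R ≤ G ∧ Nonempty (↥R ≃* K) ∧
      MulAction.IsPretransitive ↥R (Fin n) ∧ (∀ a : Fin n, MulAction.stabilizer ↥R a = ⊥) ∧
      MulAction.IsPreprimitive ↥G (Fin n) ∧ ¬ MulAction.IsMultiplyPretransitive ↥G (Fin n) 2 := by
  classical
  have hfin : ∀ i, Finite (F i) := fun i => Nat.finite_of_card_ne_zero (by rw [hcard i]; omega)
  let eF : ∀ i, F i ≃ Fin m := fun i => (Finite.equivFin (F i)).trans (finCongr (hcard i))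
  let eK : K ≃ (ι → Fin m) := e.toEquiv.trans (Equiv.piCongrRight eF)
  let eN : (ι → Fin m) ≃ Fin (Nat.card (ι → Fin m)) := Finite.equivFin _
  let Ψ : Equiv.Perm (ι → Fin m) ≃* Equiv.Perm (Fin (Nat.card (ι → Fin m))) := eN.permCongrHom
  let φ : K →* Equiv.Perm (ι → Fin m) := eK.permCongrHom.toMonoidHom.comp (MulAction.toPermHom K K)
  let ψ := Ψ.toMonoidHom.comp φ
  have hφ : ∀ k x, φ k (eK x) = eK (k * x) := fun k x => by simp [φ, Equiv.permCongrHom, Equiv.permCongr_apply]
  have hφmem : ∀ k, φ k ∈ hammingIsom (ι := ι) (α := Fin m) := by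
    intro k
    have : φ k = Equiv.piCongrRight fun i => (eF i).permCongr (Equiv.mulLeft (e k i)) := by
      refine Equiv.ext fun x => ?_
      obtain ⟨y, rfl⟩ := eK.surjective x
      rw [hφ]
      funext i
      simp [eK, Pi.map]
    rw [this]
    exact piCongr_mem _
  let G := (hammingIsom (ι := ι) (α := Fin m)).map Ψ.toMonoidHom
  have hψinj : Function.Injective ψ := by
    intro a b hab
    have h1 : φ a = φ b := Ψ.injective hab
    have h2 := congrArg (fun f : Equiv.Perm (ι → Fin m) => f (eK 1)) h1
    simp only [hφ, mul_one] at h2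
    exact eK.injective h2
  have hψapp : ∀ k x, ψ k (eN (eK x)) = eN (eK (k * x)) := fun k x => by
    simp [ψ, Ψ, Equiv.permCongrHom, Equiv.permCongr_apply, hφ]
  let f : (ι → Fin m) →ₑ[(fun g => (⟨Ψ g.1, Subgroup.mem_map_of_mem _ g.2⟩ : ↥G) : ↥(hammingIsom (ι := ι) (α := Fin m)) → ↥G)]
      Fin (Nat.card (ι → Fin m)) :=
    { toFun := eN
      map_smul' := fun g x => by
        change eN (g.1 x) = Ψ g.1 (eN x)
        simp [Ψ, Equiv.permCongrHom, Equiv.permCongr_apply] }
  have hprim := isom_primitive (ι := ι) (α := Fin m) (by simpa using hm)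
  refine ⟨_, G, ψ.range, ?_, ⟨(MonoidHom.ofInjective hψinj).symm⟩, ⟨?_⟩, ?_,
    hprim.of_surjective (f := f) eN.surjective, ?_⟩
  · rintro _ ⟨k, rfl⟩
    exact Subgroup.mem_map_of_mem _ (hφmem k)
  · intro x y
    obtain ⟨a, rfl⟩ := (eK.trans eN).surjective x
    obtain ⟨b, rfl⟩ := (eK.trans eN).surjective y
    refine ⟨⟨ψ (b * a⁻¹), _, rfl⟩, ?_⟩
    change ψ (b * a⁻¹) (eN (eK a)) = eN (eK b)
    rw [hψapp, inv_mul_cancel_right]
  · intro x
    obtain ⟨a, rfl⟩ := (eK.trans eN).surjective x
    rw [Subgroup.eq_bot_iff_forall]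
    rintro ⟨_, k, rfl⟩ hk
    replace hk : ψ k (eN (eK a)) = eN (eK a) := hk
    rw [hψapp, eN.apply_eq_iff_eq, eK.apply_eq_iff_eq, mul_eq_right] at hk
    subst hk
    exact Subtype.ext (map_one ψ)
  · intro h2
    rw [MulAction.is_two_pretransitive_iff] at h2
    obtain ⟨i, j, hij⟩ := Fintype.exists_pair_of_one_lt_card (α := ι) (by omega)
    let z : ι → Fin m := fun _ => ⟨0, by omega⟩
    let o : Fin m := ⟨1, by omega⟩
    have ho : o ≠ ⟨0, by omega⟩ := by simp [o, Fin.ext_iff]
    let u := Function.update z i o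
    let w := Function.update u j o
    have h1 : hammingDist z u = 1 := by
      have : (Finset.univ.filter fun l => z l ≠ u l) = {i} := by
        ext l
        by_cases hl : l = i
        · subst hl; simp [u, z, ho.symm]
        · simp [u, hl]
      simp [hammingDist, this]
    have h2' : hammingDist z w = 2 := by
      have : (Finset.univ.filter fun l => z l ≠ w l) = {i, j} := by
        ext l
        by_cases hl : l = j
        · subst hl; simp [w, z, ho.symm]
        · by_cases hl2 : l = i
          · subst hl2; simp [w, u, z, ho.symm, Function.update_of_ne hl]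
          · simp [w, u, hl, hl2]
      simp [hammingDist, this, Finset.card_pair hij]
    have hzu : eN z ≠ eN u := fun h => by rw [eN.injective h, hammingDist_self] at h1; omega
    have hzw : eN z ≠ eN w := fun h => by rw [eN.injective h, hammingDist_self] at h2'; omega
    obtain ⟨⟨_, σ, hσ, rfl⟩, hg1, hg2⟩ := h2 hzu hzw
    have e1 : σ z = z := by
      refine eN.injective ?_
      have : Ψ σ (eN z) = eN z := hg1
      simpa [Ψ, Equiv.permCongrHom, Equiv.permCongr_apply] using this
    have e2 : σ u = w := by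
      refine eN.injective ?_
      have : Ψ σ (eN u) = eN w := hg2
      simpa [Ψ, Equiv.permCongrHom, Equiv.permCongr_apply] using this
    have := hσ z u
    rw [e1, e2] at this
    omega

end Cfsg.Agent.S3560
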