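import Cfsg.Statements.S3571
import Cfsg.Agent.Derangement.AlternatingSocle
import Cfsg.Agent.Derangement.DegreeSix
import Cfsg.Agent.AutAlt.Basic

set_option autoImplicit false
open Cfsg

namespace Cfsg.Agent.S3571

open Equiv in
theorem eq_one_of_centralizes {m : ℕ} (hm : 4 ≤ m) (σ : Perm (Fin m))
    (h : ∀ x ∈ alternatingGroup (Fin m), σ * x * σ⁻¹ = x) : σ = 1 := by
  refine Equiv.ext fun a => ?_
  by_contra ha
  rw [Perm.one_apply] at ha
  obtain ⟨c, hc, d, hd, hcd⟩ := Finset.one_lt_card.1 (show 1 < ({a, σ a}ᶜ : Finset (Fin m)).card by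
    rw [Finset.card_compl, Finset.card_pair (Ne.symm ha), Fintype.card_fin]; omega)
  simp only [Finset.mem_compl, Finset.mem_insert, Finset.mem_singleton, not_or] at hc hd
  have hac : a ≠ c := Ne.symm hc.1
  have had : a ≠ d := Ne.symm hd.1
  have h1 := Perm.ext_iff.1 (h (CfsgLib.AutAlt.cyc a c d)
    (CfsgLib.AutAlt.cyc_isThreeCycle hac had hcd).mem_alternatingGroup) (σ a)
  rw [CfsgLib.AutAlt.conj_cyc, CfsgLib.AutAlt.cyc_apply_left (σ.injective.ne hac) (σ.injective.ne had),
    CfsgLib.AutAlt.cyc_apply_of_ne ha (Ne.symm hc.2) (Ne.symm hd.2)] at h1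
  exact hac (σ.injective h1).symm


/-- Let G be an almost simple group whose socle is an alternating group of degree m ≥ 5 (G has a normal subgroup T isomorphic to that alternating group with trivial centralizer), acting faithfully and primitively on a finite set Ω with at least two points, and let r be the largest prime divisor of the number of points. Then G contains an element of order r fixing no point. -/
theorem result {G Ω : Type*} [Group G] [Finite G] [MulAction G Ω] [FaithfulSMul G Ω] [Finite Ω]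
    (T : Subgroup G) (hT : T.Normal) (hTc : Subgroup.centralizer (T : Set G) = ⊥) (m : ℕ) (hm : 5 ≤ m)
    (eT : ↥T ≃* ↥(alternatingGroup (Fin m))) (hprim : MulAction.IsPreprimitive G Ω) (hΩ : 2 ≤ Nat.card Ω)
    (r : ℕ) (hr : r.Prime) (hrd : r ∣ Nat.card Ω) (hmax : ∀ s : ℕ, s.Prime → s ∣ Nat.card Ω → s ≤ r) :
    ∃ g : G, orderOf g = r ∧ ∀ ω : Ω, g • ω ≠ ω := by
  classical
  haveI := hprim
  haveI : Nontrivial Ω := Finite.one_lt_card_iff_nontrivial.1 hΩ
  obtain ⟨ω₀⟩ : Nonempty Ω := Nontrivial.to_nonempty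
  -- `T` is transitive
  have hTne : MulAction.fixedPoints T Ω ≠ Set.univ := by
    intro hfix
    haveI : IsSimpleGroup (alternatingGroup (Fin m)) := alternatingGroup.isSimpleGroup (by simpa using hm)
    obtain ⟨x, hx⟩ := exists_ne (1 : alternatingGroup (Fin m))
    apply hx
    apply eT.symm.injective
    rw [map_one]
    refine Subtype.ext (eq_of_smul_eq_smul (α := Ω) fun ω => ?_)
    rw [OneMemClass.coe_one, one_smul]
    exact (Set.eq_univ_iff_forall.1 hfix ω) (eT.symm x)
  haveI : MulAction.IsPretransitive T Ω :=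
    MulAction.IsQuasiPreprimitive.isPretransitive_of_normal hTne
  set S := MulAction.stabilizer T ω₀ with hS
  have hidx : S.index = Nat.card Ω := MulAction.index_stabilizer_of_transitive T ω₀
  -- it suffices to avoid the conjugates of the point stabiliser in `T`
  suffices ∃ g : T, orderOf g = r ∧ ∀ t : T, t * g * t⁻¹ ∉ S by
    obtain ⟨g, hg, hav⟩ := this
    refine ⟨g, by rw [Subgroup.orderOf_coe, hg], fun ω hω => ?_⟩
    obtain ⟨t, ht⟩ := MulAction.exists_smul_eq T ω ω₀
    refine hav t ?_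
    rw [hS, MulAction.mem_stabilizer_iff, mul_smul, mul_smul, ← ht, inv_smul_smul]
    exact congrArg (t • ·) hω
  rcases eq_or_ne m 6 with rfl | h6
  · have hne : S.map (eT : T →* alternatingGroup (Fin 6)) ≠ ⊤ := by
      intro h
      have h1 := Subgroup.index_map_equiv S eT
      rw [h, Subgroup.index_top, hidx] at h1
      omega
    obtain ⟨g, hg, hav⟩ := CfsgLib.DegreeSix.exists_avoid _ hne hr
      (by rwa [Subgroup.index_map_equiv, hidx]) (by rwa [Subgroup.index_map_equiv, hidx])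
    refine ⟨eT.symm g, by rw [MulEquiv.orderOf_eq, hg], fun t ht => hav (eT t) ⟨_, ht, ?_⟩⟩
    simp
  -- otherwise `G` embeds in the symmetric group of degree `m`
  let ι : T →* Equiv.Perm (Fin m) := (alternatingGroup (Fin m)).subtype.comp eT.toMonoidHom
  have hιinj : Function.Injective ι := fun x y h => eT.injective (Subtype.ext h)
  have hιmem : ∀ x, ι x ∈ alternatingGroup (Fin m) := fun x => (eT x).2
  have hex : ∀ g : G, ∃ σ : Equiv.Perm (Fin m), ∀ x : T, ι (MulAut.conjNormal g x) = σ * ι x * σ⁻¹ := by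
    intro g
    obtain ⟨σ, hσ⟩ := CfsgLib.AutAlt.exists_conj_of_mulEquiv
      (eT.symm.trans ((MulAut.conjNormal (H := T) g).trans eT)) (by simpa using (by omega : 4 ≤ m))
      (by simpa using h6)
    refine ⟨σ, fun x => ?_⟩
    have := hσ (eT x)
    simp only [MulEquiv.trans_apply, MulEquiv.symm_apply_apply] at this
    exact this
  choose σ hσ using hex
  have huniq : ∀ g : G, ∀ τ : Equiv.Perm (Fin m),
      (∀ x : T, ι (MulAut.conjNormal g x) = τ * ι x * τ⁻¹) → τ = σ g := by
    intro g τ hτ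
    refine (inv_mul_eq_one.1 (eq_one_of_centralizes (by omega) ((σ g)⁻¹ * τ) fun x hx => ?_)).symm
    have h1 := (hτ (eT.symm ⟨x, hx⟩)).symm.trans (hσ g (eT.symm ⟨x, hx⟩))
    simp only [ι, MonoidHom.comp_apply, MulEquiv.coe_toMonoidHom, MulEquiv.apply_symm_apply,
      Subgroup.coe_subtype] at h1
    calc (σ g)⁻¹ * τ * x * ((σ g)⁻¹ * τ)⁻¹ = (σ g)⁻¹ * (τ * x * τ⁻¹) * σ g := by group
      _ = x := by rw [h1]; group
  let ψ : G →* Equiv.Perm (Fin m) := MonoidHom.mk' σ fun g h => (huniq (g * h) (σ g * σ h) fun x => by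
    rw [map_mul, MulAut.mul_apply, hσ g, hσ h]
    group).symm
  have hψT : ∀ x : T, ψ x = ι x := fun x => (huniq x (ι x) fun y => by
    rw [← map_inv, ← map_mul, ← map_mul]
    refine congrArg ι (Subtype.ext ?_)
    rw [MulAut.conjNormal_apply]
    rfl).symm
  have hψinj : Function.Injective ψ := by
    refine (injective_iff_map_eq_one ψ).2 fun g hg => ?_
    have hmem : g ∈ Subgroup.centralizer (T : Set G) := by
      refine Subgroup.mem_centralizer_iff.2 fun x hx => ?_
      have h1 := hσ g ⟨x, hx⟩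
      rw [show σ g = 1 from hg, one_mul, inv_one, mul_one] at h1
      have h2 := congrArg Subtype.val (hιinj h1)
      rw [MulAut.conjNormal_apply] at h2
      exact (mul_inv_eq_iff_eq_mul.1 h2).symm
    rwa [hTc, Subgroup.mem_bot] at hmem
  set H := MulAction.stabilizer G ω₀ with hH
  have hHco : IsCoatom H := (MulAction.isCoatom_stabilizer_iff_preprimitive G ω₀).2 hprim
  have hAeq : ∀ y, y ∈ alternatingGroup (Fin m) ↔ ∃ x : T, ψ x = y := by
    intro y
    refine ⟨fun hy => ⟨eT.symm ⟨y, hy⟩, ?_⟩, ?_⟩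
    · rw [hψT]
      simp [ι]
    · rintro ⟨x, rfl⟩
      rw [hψT]
      exact hιmem x
  have hinf : H.map ψ ⊓ alternatingGroup (Fin m) = S.map ι := by
    ext y
    simp only [Subgroup.mem_inf, Subgroup.mem_map, hAeq]
    constructor
    · rintro ⟨⟨h, hh, rfl⟩, x, hx⟩
      obtain rfl := hψinj hx
      exact ⟨x, hh, (hψT x).symm⟩
    · rintro ⟨x, hx, rfl⟩
      exact ⟨⟨x, hx, hψT x⟩, x, hψT x⟩
  have hAH : ¬ alternatingGroup (Fin m) ≤ H.map ψ := by
    intro hle
    obtain ⟨ω, hω⟩ := exists_ne ω₀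
    obtain ⟨t, ht⟩ := MulAction.exists_smul_eq T ω₀ ω
    obtain ⟨h, hh, he⟩ := hle ((hAeq _).2 ⟨t, rfl⟩)
    exact hω (ht ▸ (hψinj he ▸ hh : (t : G) ∈ H))
  have hd : Nat.card Ω * Nat.card ↥(H.map ψ ⊓ alternatingGroup (Fin m)) =
      Nat.card (alternatingGroup (Fin m)) := by
    rw [hinf, Subgroup.card_map_of_injective hιinj, ← Nat.card_congr eT.toEquiv, ← hidx, mul_comm,
      Subgroup.card_mul_index]
  obtain ⟨g, hgA, hg, hav⟩ := CfsgLib.AlternatingSocle.exists_avoid (G' := ψ.range) (H := H.map ψ)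
    (by simpa using hm) (fun y hy => by obtain ⟨x, hx⟩ := (hAeq y).1 hy; exact ⟨x, hx⟩)
    (Subgroup.map_le_range ψ H) (fun L hL1 hL2 => by
      rcases hHco.le_iff.1 (show H ≤ L.comap ψ from Subgroup.map_le_iff_le_comap.1 hL1) with h | h
      · right
        refine le_antisymm hL2 ?_
        rintro _ ⟨y, rfl⟩
        exact (h ▸ Subgroup.mem_top y : y ∈ L.comap ψ)
      · left
        rw [← h, Subgroup.map_comap_eq_self hL2]) hAH hd hr hrd hmax
  obtain ⟨x, rfl⟩ := (hAeq g).1 hgA
  refine ⟨x, by rwa [orderOf_injective ψ hψinj, Subgroup.orderOf_coe] at hg, fun t ht => ?_⟩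
  refine hav (ψ t) ((hAeq _).2 ⟨t, rfl⟩) ⟨((t * x * t⁻¹ : T) : G), ht, ?_⟩
  simp

end Cfsg.Agent.S3571
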