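import Cfsg.Statements.S3572
import Cfsg.Agent.DihedralB.Main

set_option autoImplicit false
open Cfsg

namespace Cfsg.Agent.S3572

open MulAction CfsgLib.SchurRing

/-- A finite primitive permutation group containing a dihedral subgroup that acts regularly (transitively with trivial point stabilizers) is doubly transitive. -/
theorem result {G Ω : Type*} [Group G] [Finite G] [MulAction G Ω] [FaithfulSMul G Ω] [Finite Ω]
    (hprim : MulAction.IsPreprimitive G Ω) (D : Subgroup G) (m : ℕ) (hD : Nonempty (↥D ≃* DihedralGroup m))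
    (hDreg : MulAction.IsPretransitive ↥D Ω ∧ ∀ a : Ω, MulAction.stabilizer ↥D a = ⊥) :
    MulAction.IsMultiplyPretransitive G Ω 2 := by
  obtain ⟨ψ⟩ := hD
  have hm : NeZero m := ⟨by
    rintro rfl
    have := Finite.of_equiv ↥D ψ.toEquiv
    exact not_finite (DihedralGroup 0)⟩
  obtain ⟨hDt, hDs⟩ := hDreg
  rcases isEmpty_or_nonempty Ω with hΩ | ⟨⟨a⟩⟩
  · rw [is_two_pretransitive_iff]
    intro x
    exact isEmptyElim x
  obtain ⟨e₀, he₀⟩ := exists_transport D a (hDs a)
  set e : DihedralGroup m ≃ Ω := ψ.symm.toEquiv.trans e₀ with he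
  let : MulAction G (DihedralGroup m) :=
    { smul := fun g c => e.symm (g • e c)
      one_smul := fun c => show e.symm ((1 : G) • e c) = c by rw [one_smul, e.symm_apply_apply]
      mul_smul := fun g h c => show e.symm ((g * h) • e c) = e.symm (g • e (e.symm (h • e c))) by
        rw [e.apply_symm_apply, mul_smul] }
  have hmul : ∀ c x : DihedralGroup m, e (c * x) = ((ψ.symm c : ↥D) : G) • e x := by
    intro c x
    change e₀ (ψ.symm (c * x)) = _
    rw [map_mul, he₀, mul_smul]
    change ((ψ.symm c : ↥D) : G) • _ = ((ψ.symm c : ↥D) : G) • e₀ (ψ.symm x)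
    rw [he₀]
  have hτ : IsTranslating G (DihedralGroup m) := fun c => ⟨((ψ.symm c : ↥D) : G), fun x => by
    change e.symm (_ • e x) = c * x
    rw [e.symm_apply_eq, hmul]⟩
  have hpr : IsPreprimitive G (DihedralGroup m) := hprim.of_surjective
    (f := (MulActionHom.mk (φ := @id G) e.symm fun g x => by
      change e.symm (g • x) = e.symm (g • e (e.symm x))
      rw [e.apply_symm_apply])) e.symm.surjective
  have key : ∀ x y : DihedralGroup m, x ≠ 1 → y ≠ 1 →
      y ∈ orbit (stabilizer G (1 : DihedralGroup m)) x := by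
    rcases Nat.lt_or_ge m 2 with h2 | h2
    · intro x y hx hy
      have h1 : Nat.card (DihedralGroup m) ≤ 2 := by rw [DihedralGroup.nat_card]; omega
      have hxy : x = y := by
        by_contra hne
        classical
        have := Finset.card_le_univ ({1, x, y} : Finset (DihedralGroup m))
        rw [Finset.card_eq_three.2 ⟨1, x, y, hx.symm, hy.symm, hne, rfl⟩,
          ← Nat.card_eq_fintype_card] at this
        omega
      exact hxy ▸ mem_orbit_self x
    · have : CfsgLib.DihedralB.DihAct G m := ⟨hτ, hpr, h2⟩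
      exact CfsgLib.DihedralB.stabilizer_transitive
  rw [is_two_pretransitive_iff]
  intro x y x' y' hxy hxy'
  have hto : ∀ x y : Ω, x ≠ y → ∃ g : G, g • e 1 = x ∧
      ∃ c : DihedralGroup m, c ≠ 1 ∧ g • e c = y := by
    intro x y hxy
    refine ⟨((ψ.symm (e.symm x) : ↥D) : G), ?_, (e.symm x)⁻¹ * e.symm y, ?_, ?_⟩
    · rw [← hmul, mul_one, e.apply_symm_apply]
    · intro h
      rw [inv_mul_eq_one] at h
      exact hxy (e.symm.injective h)
    · rw [← hmul, mul_inv_cancel_left, e.apply_symm_apply]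
  obtain ⟨g, hg1, c, hc, hg2⟩ := hto x y hxy
  obtain ⟨g', hg1', c', hc', hg2'⟩ := hto x' y' hxy'
  obtain ⟨⟨h, hh⟩, hhc⟩ := key c c' hc hc'
  have hh1 : h • e 1 = e 1 := by
    have h1 : e.symm (h • e 1) = 1 := hh
    rwa [e.symm_apply_eq] at h1
  have hhc' : h • e c = e c' := by
    have h1 : e.symm (h • e c) = c' := hhc
    rwa [e.symm_apply_eq] at h1
  refine ⟨g' * h * g⁻¹, ?_, ?_⟩
  · rw [← hg1, mul_smul, inv_smul_smul, mul_smul, hh1, hg1']
  · rw [← hg2, mul_smul, inv_smul_smul, mul_smul, hhc', hg2']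

end Cfsg.Agent.S3572
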