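import Cfsg.Statements.S3573

set_option autoImplicit false
open Cfsg

namespace Cfsg.Agent.S3573

open Equiv Equiv.Perm

theorem orderOf_cycle {n r : ℕ} (hr : r.Prime) (σ : Perm (Fin n)) (hσ : orderOf σ = r)
    {c : Perm (Fin n)} (hc : c ∈ σ.cycleFactorsFinset) : c.support.card = r := by
  obtain ⟨hcyc, hsupp⟩ := mem_cycleFactorsFinset_iff.1 hc
  rw [← hcyc.orderOf]
  have hmem : c.support.card ∈ σ.cycleType := by
    rw [cycleType_def]
    exact Multiset.mem_map.2 ⟨c, hc, rfl⟩
  have h1 := dvd_of_mem_cycleType hmem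
  rw [hσ, ← hcyc.orderOf] at h1
  refine (hr.eq_one_or_self_of_dvd _ h1).resolve_left fun h => ?_
  rw [hcyc.orderOf] at h
  exact (two_le_card_support_of_ne_one hcyc.ne_one).not_gt (by omega)

theorem fixes_set_of_le {n k r : ℕ} (hr : r.Prime) (hkn : k ≤ n) (hle : k % r ≤ n % r)
    (σ : Perm (Fin n)) (hσ : orderOf σ = r) :
    ∃ s : Finset (Fin n), s.card = k ∧ s.image σ = s := by
  classical
  have hdisj : ∀ C ⊆ σ.cycleFactorsFinset, (↑C : Set (Perm (Fin n))).PairwiseDisjoint Perm.support := by
    intro C hC a ha b hb hab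
    exact (cycleFactorsFinset_pairwise_disjoint σ (hC ha) (hC hb) hab).disjoint_support
  have hcard : ∀ C ⊆ σ.cycleFactorsFinset, (C.biUnion Perm.support).card = C.card * r := by
    intro C hC
    rw [Finset.card_biUnion (hdisj C hC), Finset.sum_const_nat fun c hc => orderOf_cycle hr σ hσ (hC hc)]
  set t := σ.cycleFactorsFinset.card with ht
  have hsupp : σ.support = σ.cycleFactorsFinset.biUnion Perm.support := by
    ext x
    rw [Finset.mem_biUnion, mem_support_iff_mem_support_of_mem_cycleFactorsFinset]
  have hsc : σ.support.card = t * r := by rw [hsupp, hcard _ le_rfl]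
  have htn : t * r ≤ n := by
    rw [← hsc]
    exact (Finset.card_le_univ _).trans_eq (Fintype.card_fin n)
  -- number of cycles to use
  set j := min (k / r) t with hj
  have hjk : j * r ≤ k := by
    calc j * r ≤ (k / r) * r := Nat.mul_le_mul_right r (min_le_left _ _)
      _ ≤ k := Nat.div_mul_le_self k r
  have hrest : k - j * r ≤ n - t * r := by
    rcases le_total (k / r) t with h | h
    · rw [hj, min_eq_left h]
      have h1 : k - k / r * r = k % r := by
        have := Nat.div_add_mod k r
        rw [mul_comm] at this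
        omega
      have h2 : n % r ≤ n - t * r := by
        have h3 : (n - t * r) % r = n % r := by
          conv_rhs => rw [← Nat.sub_add_cancel htn]
          rw [Nat.add_mul_mod_self_right]
        rw [← h3]
        exact Nat.mod_le _ _
      omega
    · rw [hj, min_eq_right h]
      omega
  obtain ⟨C, hC, hCc⟩ := Finset.exists_subset_card_eq (s := σ.cycleFactorsFinset) (n := j) (min_le_right _ _)
  obtain ⟨F, hF, hFc⟩ := Finset.exists_subset_card_eq (s := σ.supportᶜ) (n := k - j * r) (by
    rw [Finset.card_compl, Fintype.card_fin, hsc]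
    exact hrest)
  refine ⟨C.biUnion Perm.support ∪ F, ?_, ?_⟩
  · rw [Finset.card_union_of_disjoint, hcard C hC, hCc, hFc]
    · omega
    · refine Finset.disjoint_left.2 fun x hx hxF => ?_
      have := Finset.mem_compl.1 (hF hxF)
      rw [hsupp] at this
      exact this (Finset.biUnion_subset_biUnion_of_subset_left _ hC hx)
  · refine Finset.eq_of_subset_of_card_le ?_ (Finset.card_image_of_injective _ σ.injective).ge
    intro y hy
    obtain ⟨x, hx, rfl⟩ := Finset.mem_image.1 hy
    rcases Finset.mem_union.1 hx with hx | hx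
    · obtain ⟨c, hc, hxc⟩ := Finset.mem_biUnion.1 hx
      refine Finset.mem_union_left _ (Finset.mem_biUnion.2 ⟨c, hc, ?_⟩)
      have h1 := (mem_cycleFactorsFinset_iff.1 (hC hc)).2 x hxc
      rw [← h1]
      exact apply_mem_support.2 hxc
    · have hfix : σ x = x := notMem_support.1 (Finset.mem_compl.1 (hF hx))
      rw [hfix]
      exact Finset.mem_union_right _ hx

theorem exists_no_fixed_set {n k r : ℕ} (hr : r.Prime) (hrn : r ≤ n) (hlt : n % r < k % r) :
    ∃ σ : Perm (Fin n), orderOf σ = r ∧ ∀ s : Finset (Fin n), s.card = k → s.image σ ≠ s := by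
  classical
  have : Fact r.Prime := ⟨hr⟩
  obtain ⟨σ, hσ⟩ := (Equiv.Perm.exists_with_cycleType_iff (Fin n) (m := Multiset.replicate (n / r) r)).2
    ⟨by simpa using Nat.div_mul_le_self n r, fun a ha => by
      rw [Multiset.eq_of_mem_replicate ha]
      exact hr.two_le⟩
  have hord : orderOf σ = r := by
    have hpos : 0 < n / r := Nat.div_pos hrn hr.pos
    rw [← lcm_cycleType, hσ]
    refine Nat.dvd_antisymm (Multiset.lcm_dvd.2 fun a ha => (Multiset.eq_of_mem_replicate ha).dvd) ?_
    exact Multiset.dvd_lcm (Multiset.mem_replicate.2 ⟨hpos.ne', rfl⟩)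
  refine ⟨σ, hord, fun s hs hsσ => ?_⟩
  have hsc : σ.support.card = n / r * r := by
    rw [← sum_cycleType, hσ]
    simp
  have hmem : ∀ x, σ x ∈ s ↔ x ∈ s := by
    intro x
    constructor
    · intro h
      rw [← hsσ] at h
      obtain ⟨y, hy, hyx⟩ := Finset.mem_image.1 h
      exact σ.injective hyx ▸ hy
    · exact fun h => hsσ ▸ Finset.mem_image_of_mem _ h
  have hpg : IsPGroup r (Subgroup.zpowers σ) := IsPGroup.of_card (n := 1) (by rw [Nat.card_zpowers, hord, pow_one])
  let S : SubMulAction (Subgroup.zpowers σ) (Fin n) :=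
    { carrier := ↑s
      smul_mem' := by
        rintro ⟨g, i, rfl⟩ x hx
        change (σ ^ i) x ∈ s
        induction i using Int.induction_on with
        | zero => simpa using hx
        | succ i ih => rw [add_comm, zpow_add, zpow_one, Perm.mul_apply]; exact (hmem _).2 ih
        | pred i ih =>
          rw [sub_eq_add_neg, add_comm, zpow_add, zpow_neg_one, Perm.mul_apply]
          refine (hmem _).1 ?_
          rw [← Perm.mul_apply, mul_inv_cancel, Perm.one_apply]
          exact ih }
  have hmod := hpg.card_modEq_card_fixedPoints (α := S)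
  have hS : Nat.card S = k := by
    change Nat.card ↥(↑s : Set (Fin n)) = k
    simp [hs]
  rw [hS] at hmod
  have hfix : Nat.card (MulAction.fixedPoints (Subgroup.zpowers σ) S) ≤ n % r := by
    have h1 : n % r = σ.supportᶜ.card := by
      rw [Finset.card_compl, Fintype.card_fin, hsc]
      have := Nat.div_add_mod n r
      rw [mul_comm] at this
      omega
    rw [h1, ← Nat.card_eq_finsetCard σ.supportᶜ]
    refine Nat.card_le_card_of_injective (fun x => ⟨(x.1 : Fin n), Finset.mem_compl.2 (notMem_support.2 ?_)⟩)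
      (fun x y hxy => Subtype.ext (Subtype.ext (by simpa using hxy)))
    exact congrArg Subtype.val (x.2 ⟨σ, Subgroup.mem_zpowers σ⟩)
  rw [Nat.ModEq, Nat.mod_eq_of_lt (hfix.trans_lt (Nat.mod_lt _ hr.pos))] at hmod
  omega

theorem all_fix_iff {n k r : ℕ} (hr : r.Prime) (hkn : k ≤ n) (hrd : r ∣ Nat.choose n k) :
    (∀ σ : Perm (Fin n), orderOf σ = r → ∃ s : Finset (Fin n), s.card = k ∧ s.image σ = s) ↔
      k % r ≤ n % r := by
  have hrn : r ≤ n := by
    rw [← Nat.Prime.dvd_factorial hr]
    exact hrd.trans ⟨k.factorial * (n - k).factorial, by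
      rw [← mul_assoc, Nat.choose_mul_factorial_mul_factorial hkn]⟩
  constructor
  · intro h
    by_contra hlt
    obtain ⟨σ, hσ, hno⟩ := exists_no_fixed_set (k := k) hr hrn (not_le.1 hlt)
    obtain ⟨s, hs, hsσ⟩ := h σ hσ
    exact hno s hs hsσ
  · exact fun h σ hσ => fixes_set_of_le hr hkn h σ hσ

theorem le_of_mod_le {n k r : ℕ} (hr : r.Prime) (hrd : r ∣ Nat.choose n k)
    (hle : k % r ≤ n % r) : r ≤ k := by
  by_contra hlt
  rw [not_le] at hlt
  rw [Nat.mod_eq_of_lt hlt] at hle
  have h1 : r ∣ n.descFactorial k := by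
    rw [Nat.descFactorial_eq_factorial_mul_choose]
    exact dvd_mul_of_dvd_right hrd _
  rw [Nat.descFactorial_eq_prod_range, hr.prime.dvd_finsetProd_iff] at h1
  obtain ⟨i, hi, hdi⟩ := h1
  rw [Finset.mem_range] at hi
  have h2 := Nat.div_add_mod n r
  have h3 : r ∣ n % r - i := by
    have : n - i = r * (n / r) + (n % r - i) := by omega
    rw [this] at hdi
    exact (Nat.dvd_add_right (dvd_mul_right r _)).1 hdi
  have := Nat.le_of_dvd (by omega) h3
  have := Nat.mod_lt n hr.pos
  omega


/-- Let 1 ≤ k with 2k < n and consider the symmetric group of degree n acting on the k-subsets of an n-set. Let r be a prime dividing the number C(n,k) of k-subsets. If r is odd, then every permutation of order r fixes some k-subset if and only if r ≤ k and the remainder of k modulo r is at most the remainder of n modulo r. If r = 2, then every involution fixes some k-subset if and only if k is even or n is odd. -/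
theorem result (n k : ℕ) (hk : 1 ≤ k) (hkn : 2 * k < n) (r : ℕ) (hr : r.Prime) (hrd : r ∣ Nat.choose n k) :
    (r ≠ 2 → ((∀ σ : Equiv.Perm (Fin n), orderOf σ = r → ∃ s : Finset (Fin n), s.card = k ∧ s.image σ = s) ↔
      (r ≤ k ∧ k % r ≤ n % r))) ∧
    (r = 2 → ((∀ σ : Equiv.Perm (Fin n), orderOf σ = 2 → ∃ s : Finset (Fin n), s.card = k ∧ s.image σ = s) ↔
      (Even k ∨ Odd n))) := by
  have h := all_fix_iff (k := k) hr (by omega) hrd
  refine ⟨fun _ => h.trans ⟨fun hle => ⟨le_of_mod_le hr hrd hle, hle⟩, fun hle => hle.2⟩, ?_⟩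
  rintro rfl
  refine h.trans ?_
  rw [Nat.even_iff, Nat.odd_iff]
  omega

end Cfsg.Agent.S3573
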