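import Cfsg.Statements.S3575
import Cfsg.Agent.Derangement.UniformPartition

set_option autoImplicit false
open Cfsg

namespace Cfsg.Agent.S3575

/-- Let a, b ≥ 2 and consider the symmetric group of degree a·b acting on the partitions of an (a·b)-set into b parts of size a (encoded as maps onto a b-element set all of whose fibres have a elements; a permutation fixes such a partition when it permutes the fibres). Let r be a prime dividing the number (ab)!/((a!)^b·b!) of such partitions, and let ℓ and k be the remainders of a and b modulo r. Then every permutation of order r fixes some such partition if and only if r ≤ a and one of the following holds: ℓ = 0; or k = 0 and ℓ = 1; or ℓ and k are non-zero, k·ℓ < r, and either b < r or (k + r)·ℓ ≤ k·a + r. -/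
theorem result (a b : ℕ) (ha : 2 ≤ a) (hb : 2 ≤ b) (r : ℕ) (hr : r.Prime)
    (hrd : r ∣ (a * b).factorial / (a.factorial ^ b * b.factorial)) :
    (∀ σ : Equiv.Perm (Fin (a * b)), orderOf σ = r →
        ∃ f : Fin (a * b) → Fin b, (∀ j : Fin b, Nat.card {x : Fin (a * b) // f x = j} = a) ∧
          ∃ π : Equiv.Perm (Fin b), ∀ x : Fin (a * b), f (σ x) = π (f x)) ↔
      (r ≤ a ∧ (a % r = 0 ∨ (b % r = 0 ∧ a % r = 1) ∨
        (a % r ≠ 0 ∧ b % r ≠ 0 ∧ (b % r) * (a % r) < r ∧ (b < r ∨ (b % r + r) * (a % r) ≤ (b % r) * a + r)))) := by
  have hrn : r ≤ a * b := by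
    refine hr.dvd_factorial.1 (hrd.trans (Nat.div_dvd_of_dvd ?_))
    have h := Nat.uniformBell_mul_eq b (n := a) (by omega)
    rw [mul_comm b a] at h
    exact ⟨b.uniformBell a, by rw [← h]; ring⟩
  have key : (∀ σ : Equiv.Perm (Fin (a * b)), orderOf σ = r →
        ∃ f : Fin (a * b) → Fin b, (∀ j : Fin b, Nat.card {x : Fin (a * b) // f x = j} = a) ∧
          ∃ π : Equiv.Perm (Fin b), ∀ x : Fin (a * b), f (σ x) = π (f x)) ↔
      ∀ t, 1 ≤ t → r * t ≤ a * b → CfsgLib.UniformPartition.Fits a b r t := by
    constructor
    · intro h t ht1 ht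
      obtain ⟨σ, hσr, hσc⟩ := CfsgLib.UniformPartition.exists_perm (n := a * b) hr.two_le ht
      haveI := Fact.mk hr
      have hσ : orderOf σ = r := orderOf_eq_prime hσr fun h1 => by
        rw [h1, Equiv.Perm.support_one, Finset.card_empty] at hσc
        exact (Nat.mul_pos hr.pos ht1).ne hσc
      obtain ⟨f, hf, π, hπ⟩ := h σ hσ
      exact CfsgLib.UniformPartition.fits_of_partition hr (by omega) σ hσ hσc f hf π hπ
    · intro h σ hσ
      obtain ⟨t, ht⟩ := CfsgLib.UniformPartition.dvd_support hr (hσ ▸ pow_orderOf_eq_one σ)
      refine CfsgLib.UniformPartition.exists_partition hr σ hσ ht (h t ?_ ?_)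
      · rcases Nat.eq_zero_or_pos t with rfl | h1
        · rw [mul_zero, Finset.card_eq_zero, Equiv.Perm.support_eq_empty_iff] at ht
          rw [ht, orderOf_one] at hσ
          exact absurd hσ hr.one_lt.ne
        · exact h1
      · rw [← ht]
        exact (Finset.card_le_univ _).trans_eq (Fintype.card_fin _)
  rw [key]
  clear key hrd
  have hr0 := hr.pos
  unfold CfsgLib.UniformPartition.Fits
  set A := a / r with hA
  set l := a % r with hl
  set B := b / r with hB
  set k := b % r with hk
  have haA : a = r * A + l := (Nat.div_add_mod a r).symm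
  have hbB : b = r * B + k := (Nat.div_add_mod b r).symm
  have hsB : ∀ s, r * s ≤ b → s ≤ B := fun s h => by
    rw [hB, Nat.le_div_iff_mul_le hr0, mul_comm]
    exact h
  have hlr : l < r := Nat.mod_lt _ hr0
  constructor
  · intro h
    have hra : r ≤ a := by
      obtain ⟨s, -, h2, h3⟩ := h 1 le_rfl (by rwa [mul_one])
      rcases Nat.eq_zero_or_pos s with rfl | hs
      · by_contra hlt
        rw [hA, Nat.div_eq_of_lt (not_le.1 hlt)] at h3
        simp at h3
      · have : a ≤ a * s := Nat.le_mul_of_pos_right a hs
        omega
    refine ⟨hra, ?_⟩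
    rcases Nat.eq_zero_or_pos l with hl0 | hl0
    · exact Or.inl hl0
    have hkl : k * l < r := by
      by_contra hge
      obtain ⟨s, h1, h2, h3⟩ := h (b * A + B * l + 1) (Nat.le_add_left 1 _) (by
        calc r * (b * A + B * l + 1) = b * (r * A) + (r * B) * l + r := by ring
          _ ≤ b * (r * A) + (r * B) * l + k * l := by omega
          _ = a * b := by rw [haA, hbB]; ring)
      have hs := Nat.mul_le_mul_right l (hsB s h1)
      have e : a * s = r * s * A + s * l := by rw [haA]; ring
      omega
    have hB1 : 1 ≤ B → l ≤ k * A + 1 := by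
      intro hB1
      obtain ⟨c, hc⟩ := Nat.exists_eq_add_of_le hB1
      obtain ⟨s, h1, h2, h3⟩ := h (b * A + c * l + 1) (Nat.le_add_left 1 _) (by
        have : r * 1 ≤ r * l := Nat.mul_le_mul_left r hl0
        calc r * (b * A + c * l + 1) = b * (r * A) + r * c * l + r := by ring
          _ ≤ b * (r * A) + r * c * l + r * l + k * l := by omega
          _ = a * b := by rw [haA, hbB, hc]; ring)
      have hs := hsB s h1
      have e : a * s = r * s * A + s * l := by rw [haA]; ring
      have hcs : c + 1 ≤ s := by
        by_contra hlt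
        have := Nat.mul_le_mul_right l (show s ≤ c by omega)
        omega
      have hs' : s = B := by omega
      subst hs'
      rw [hc] at e h2
      have e2 : b * A = r * (1 + c) * A + k * A := by
        have : b = r * (1 + c) + k := by rw [← hc]; exact hbB
        rw [this]; ring
      have e3 : (1 + c) * l = c * l + l := by ring
      omega
    rcases Nat.eq_zero_or_pos k with hk0 | hk0
    · right; left
      refine ⟨hk0, ?_⟩
      have hBpos : 1 ≤ B := Nat.one_le_iff_ne_zero.2 fun h0 => by
        rw [h0, hk0, mul_zero] at hbB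
        omega
      have := hB1 hBpos
      rw [hk0, zero_mul] at this
      omega
    · right; right
      refine ⟨hl0.ne', hk0.ne', hkl, ?_⟩
      rcases Nat.eq_zero_or_pos B with hB0 | hB0
      · left
        rw [hbB, hB0, mul_zero, zero_add]
        exact Nat.mod_lt _ hr0
      · right
        calc (k + r) * l = k * l + r * l := by ring
          _ ≤ k * l + r * (k * A + 1) := Nat.add_le_add_left (Nat.mul_le_mul_left r (hB1 hB0)) _
          _ = k * a + r := by rw [haA]; ring
  · rintro ⟨hra, hcond⟩ t ht1 ht
    rcases le_or_gt t (b * A) with htA | htA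
    · exact ⟨0, by simp, by simp, by simpa using htA⟩
    have htot : r * t ≤ r * (b * A) + r * (B * l) + k * l := by
      calc r * t ≤ a * b := ht
        _ = r * (b * A) + r * (B * l) + k * l := by rw [haA, hbB]; ring
    have hl0 : 0 < l := by
      by_contra h0
      have h0' : l = 0 := by omega
      rw [h0', mul_zero, mul_zero, mul_zero, add_zero, add_zero] at htot
      exact absurd (Nat.le_of_mul_le_mul_left htot hr0) (not_le.2 htA)
    have hkl : k * l < r := by
      rcases hcond with h | ⟨h, -⟩ | ⟨-, -, h, -⟩
      · omega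
      · rw [h, zero_mul]; exact hr0
      · exact h
    have htB : t ≤ b * A + B * l := by
      by_contra hgt
      have := Nat.mul_le_mul_left r (show b * A + B * l + 1 ≤ t by omega)
      rw [mul_add, mul_add, mul_one] at this
      omega
    have hB1 : 1 ≤ B := Nat.one_le_iff_ne_zero.2 fun h0 => by
      rw [h0, zero_mul] at htB
      omega
    have hlk : l ≤ k * A + 1 := by
      rcases hcond with h | ⟨-, h⟩ | ⟨-, -, -, h | h⟩
      · omega
      · omega
      · rw [hbB] at h
        have := Nat.mul_le_mul_left r hB1
        omega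
      · refine Nat.le_of_mul_le_mul_left (show r * l ≤ r * (k * A + 1) from ?_) hr0
        have e : k * a = r * (k * A) + k * l := by rw [haA]; ring
        have e2 : (k + r) * l = k * l + r * l := by ring
        rw [mul_add, mul_one]
        omega
    set i := t - b * A with hi
    obtain ⟨c, hc⟩ : ∃ c, c = (i - 1) / l := ⟨_, rfl⟩
    have hc1 : c * l + 1 ≤ i := by
      have := Nat.div_mul_le_self (i - 1) l
      rw [hc]
      omega
    have hc2 : i ≤ c * l + l := by
      have h1 := Nat.div_add_mod (i - 1) l
      have h2 := Nat.mod_lt (i - 1) hl0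
      rw [← hc, mul_comm] at h1
      omega
    have hcB : c + 1 ≤ B := by
      by_contra hgt
      have := Nat.mul_le_mul_right l (show B ≤ c by omega)
      omega
    have hmono : r * (c + 1) * A ≤ r * B * A :=
      Nat.mul_le_mul_right A (Nat.mul_le_mul_left r hcB)
    have e1 : a * (c + 1) = r * (c + 1) * A + c * l + l := by rw [haA]; ring
    have e2 : b * A = r * B * A + k * A := by rw [hbB]; ring
    refine ⟨c + 1, ?_, ?_, ?_⟩
    · have := Nat.mul_le_mul_left r hcB
      omega
    · omega
    · omega

end Cfsg.Agent.S3575
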