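import Cfsg.Statements.S3580
import Cfsg.Agent.SylowRatio.Main

set_option autoImplicit false
open Cfsg MulAction

namespace Cfsg.Agent.S3580

open CfsgLib

universe u v

variable {p : ℕ} [hp : Fact p.Prime] {G : Type u} [Group G] [Finite G] {Ω : Type v} [MulAction G Ω]

/-- The fixed points of a Sylow subgroup in a transitive action of a group generated by its `p`-elements. -/
theorem fixed_le [IsPretransitive G Ω] [Nontrivial Ω] [Finite Ω] (hgen : SylowRatio.pgen p (⊤ : Subgroup G) = ⊤)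
    (P : Sylow p G) :
    (2 * p - 1) * Nat.card {x : Ω // ∀ g ∈ (P : Subgroup G), g • x = x} ≤ (p - 1) * Nat.card Ω := by
  rcases isEmpty_or_nonempty {x : Ω // ∀ g ∈ (P : Subgroup G), g • x = x} with h | ⟨⟨a, ha⟩⟩
  · simp
  set H := stabilizer G a
  let e : G ⧸ H ≃ Ω := Equiv.ofBijective (MulAction.ofQuotientStabilizer G a)
    ⟨MulAction.injective_ofQuotientStabilizer G a, fun x => by
      obtain ⟨g, hg⟩ := exists_smul_eq G a x
      exact ⟨(g : G ⧸ H), hg⟩⟩
  have he : ∀ (g : G) (q : G ⧸ H), e (g • q) = g • e q := fun g q =>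
    MulAction.ofQuotientStabilizer_smul G a g q
  haveI : Nontrivial (G ⧸ H) := e.nontrivial
  have hfix : ((1 : G) : G ⧸ H) ∈ (SylowRatio.Fixed (P : Subgroup G) : Set (G ⧸ H)) := fun g hg =>
    e.injective (by rw [he]; show g • ((1 : G) • a) = (1 : G) • a; rw [one_smul]; exact ha g hg)
  have h0 := (SylowRatio.good p (Nat.card G) le_rfl hgen (G ⧸ H) inferInstance inferInstance P ⟨_, hfix⟩).1
  have hn : (Set.univ : Set (G ⧸ H)).ncard = Nat.card Ω := by rw [Set.ncard_univ, Nat.card_congr e]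
  have hf : (Set.univ ∩ SylowRatio.Fixed (P : Subgroup G) : Set (G ⧸ H)).ncard =
      Nat.card {x : Ω // ∀ g ∈ (P : Subgroup G), g • x = x} := by
    rw [Set.univ_inter, ← Nat.card_coe_set_eq]
    exact Nat.card_congr (e.subtypeEquiv fun q =>
      ⟨fun h g hg => by rw [← he, h g hg], fun h g hg => e.injective (by rw [he, h g hg])⟩)
  unfold SylowRatio.E at h0
  rw [hn, hf] at h0
  have hp1 := hp.out.one_le
  zify [hp1, show 1 ≤ 2 * p by omega]
  push_cast at h0 ⊢
  linarith

/-- The fixed points of a Sylow subgroup in any faithful transitive action. -/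
theorem fixed_le_faithful [IsPretransitive G Ω] [FaithfulSMul G Ω] [Finite Ω] (hpG : p ∣ Nat.card G)
    (P : Sylow p G) :
    (2 * p - 1) * Nat.card {x : Ω // ∀ g ∈ (P : Subgroup G), g • x = x} ≤ (p - 1) * Nat.card Ω := by
  classical
  set N := SylowRatio.pgen p (⊤ : Subgroup G)
  haveI hNn : N.Normal := ⟨fun n hn g => by
    have h : SylowRatio.cj g N = N := by
      rw [← SylowRatio.pgen_cj, SylowRatio.cj_eq_self (Subgroup.mem_top g)]
    rw [← h]
    exact ⟨n, hn, rfl⟩⟩
  have hPN : (P : Subgroup G) ≤ N := SylowRatio.le_pgen P.isPGroup' le_top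
  have hgen : SylowRatio.pgen p (⊤ : Subgroup N) = ⊤ :=
    SylowRatio.pgen_top_of_eq (SylowRatio.pgen_idem _)
  have hP1 : (P : Subgroup G) ≠ ⊥ := P.ne_bot_of_dvd_card hpG
  -- no orbit of `N` is trivial
  have hmove : ∀ x : Ω, ∃ n ∈ N, n • x ≠ x := by
    intro x
    by_contra hall
    push Not at hall
    refine hP1 ((Subgroup.eq_bot_iff_forall _).2 fun g hg => eq_of_smul_eq_smul (α := Ω) fun y => ?_)
    obtain ⟨k, rfl⟩ := exists_smul_eq G x y
    rw [one_smul, ← inv_smul_eq_iff, ← mul_smul, ← mul_smul]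
    have := hall (k⁻¹ * g * k⁻¹⁻¹) (hNn.conj_mem g (hPN hg) k⁻¹)
    simpa [mul_assoc, inv_smul_eq_iff, mul_smul] using this
  let Q := orbitRel.Quotient N Ω
  haveI := Fintype.ofFinite Q
  let eAll : Ω ≃ Σ q : Q, q.orbit := selfEquivSigmaOrbits' N Ω
  let eFix : {x : Ω // ∀ g ∈ (P : Subgroup G), g • x = x} ≃
      Σ q : Q, {z : q.orbit // ∀ g ∈ (P : Subgroup G), g • (z : Ω) = z} :=
    { toFun := fun x => ⟨Quotient.mk'' x.1, ⟨⟨x.1, orbitRel.Quotient.mem_orbit.2 rfl⟩, x.2⟩⟩
      invFun := fun s => ⟨s.2.1.1, s.2.2⟩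
      left_inv := fun _ => rfl
      right_inv := by
        rintro ⟨q, ⟨⟨z, hz⟩, hz'⟩⟩
        obtain rfl := orbitRel.Quotient.mem_orbit.1 hz
        rfl }
  rw [Nat.card_congr eFix, Nat.card_congr eAll, Nat.card_sigma, Nat.card_sigma, Finset.mul_sum,
    Finset.mul_sum]
  refine Finset.sum_le_sum fun q _ => ?_
  haveI : IsPretransitive N q.orbit := inferInstance
  haveI : Nontrivial q.orbit := by
    obtain ⟨x, rfl⟩ := Quotient.mk''_surjective q
    have hx : x ∈ orbitRel.Quotient.orbit (Quotient.mk'' x : Q) := orbitRel.Quotient.mem_orbit.2 rfl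
    obtain ⟨n, hn, hne⟩ := hmove x
    let z : orbitRel.Quotient.orbit (Quotient.mk'' x : Q) := ⟨x, hx⟩
    exact ⟨⟨z, (⟨n, hn⟩ : N) • z, fun e => hne (congrArg Subtype.val e).symm⟩⟩
  refine le_trans (le_of_eq ?_) (fixed_le (Ω := q.orbit) hgen (P.subtype hPN))
  congr 1
  refine Nat.card_congr (Equiv.subtypeEquivRight fun z => ⟨fun h g hg => ?_, fun h g hg => ?_⟩)
  · exact Subtype.ext (h g.1 (by simpa [Sylow.coe_subtype, Subgroup.mem_subgroupOf] using hg))
  · exact congrArg Subtype.val (h ⟨g, hPN hg⟩ (by simpa [Sylow.coe_subtype, Subgroup.mem_subgroupOf] using hg))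

/-- Orbits of a `p`-group: all but the fixed points have at least `p` elements. -/
theorem orbits_le [Finite Ω] {P : Subgroup G} (hP : IsPGroup p P) :
    p * Nat.card (orbitRel.Quotient P Ω) ≤
      Nat.card Ω + (p - 1) * Nat.card {x : Ω // ∀ g ∈ P, g • x = x} := by
  classical
  let Q := orbitRel.Quotient P Ω
  haveI := Fintype.ofFinite Q
  set S := Finset.univ.filter fun q : Q => Nat.card q.orbit = 1
  have hn : ∑ q : Q, Nat.card q.orbit = Nat.card Ω := by
    rw [← Nat.card_sigma, Nat.card_congr (selfEquivSigmaOrbits' P Ω)]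
  have hper : ∀ q : Q, p ≤ Nat.card q.orbit + (if q ∈ S then p - 1 else 0) := by
    intro q
    obtain ⟨x, rfl⟩ := Quotient.mk''_surjective q
    obtain ⟨k, hk⟩ := hP.card_orbit x
    have hc : Nat.card (orbitRel.Quotient.orbit (Quotient.mk'' x : Q)) = p ^ k := by
      rw [orbitRel.Quotient.orbit_mk]; exact hk
    rw [hc]
    by_cases hk0 : k = 0
    · rw [if_pos (Finset.mem_filter.2 ⟨Finset.mem_univ _, by rw [hc, hk0, pow_zero]⟩), hk0, pow_zero]
      omega
    · exact le_add_right (Nat.le_self_pow hk0 p)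
  have hS : S.card ≤ Nat.card {x : Ω // ∀ g ∈ P, g • x = x} := by
    rw [← Nat.card_eq_finsetCard]
    have hmem : ∀ q : S, ∀ g ∈ P, g • (q : Q).out = (q : Q).out := by
      intro q g hg
      have h1 := (Nat.card_eq_one_iff_unique.1 (Finset.mem_filter.1 q.2).2).1
      have hx : (q : Q).out ∈ (q : Q).orbit := orbitRel.Quotient.mem_orbit.2 (Quotient.out_eq' _)
      have hgx : g • (q : Q).out ∈ (q : Q).orbit := orbitRel.Quotient.mem_orbit.2 (by
        conv_rhs => rw [← Quotient.out_eq' (q : Q)]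
        exact Quotient.sound' (mem_orbit (q : Q).out (⟨g, hg⟩ : P)))
      exact congrArg Subtype.val (Subsingleton.elim (⟨_, hgx⟩ : (q : Q).orbit) ⟨_, hx⟩)
    refine Nat.card_le_card_of_injective (fun q => ⟨(q : Q).out, hmem q⟩) fun a b e => ?_
    exact Subtype.ext (Quotient.out_injective (congrArg Subtype.val e))
  calc p * Nat.card Q = ∑ _q : Q, p := by
        rw [Finset.sum_const, Finset.card_univ, smul_eq_mul, Nat.card_eq_fintype_card, mul_comm]
    _ ≤ ∑ q : Q, (Nat.card q.orbit + (if q ∈ S then p - 1 else 0)) := Finset.sum_le_sum fun q _ => hper q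
    _ = Nat.card Ω + (p - 1) * S.card := by
        rw [Finset.sum_add_distrib, hn, Finset.sum_ite_mem, Finset.univ_inter, Finset.sum_const,
          smul_eq_mul, mul_comm]
    _ ≤ _ := Nat.add_le_add_left (Nat.mul_le_mul_left _ hS) _

/-- Let G act faithfully and transitively on a finite set Ω, let p be an odd prime dividing the order of G and P a Sylow p-subgroup of G. Then the number of orbits of P on Ω is at most (p/(2p − 1))·(number of points). -/
theorem result {G Ω : Type*} [Group G] [Finite G] [MulAction G Ω] [FaithfulSMul G Ω] [Finite Ω]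
    (htrans : MulAction.IsPretransitive G Ω) (p : ℕ) [Fact p.Prime] (hp2 : p ≠ 2) (hpG : p ∣ Nat.card G)
    (P : Sylow p G) :
    (2 * p - 1) * Nat.card (MulAction.orbitRel.Quotient ↥(P : Subgroup G) Ω) ≤ p * Nat.card Ω := by
  have hf := fixed_le_faithful (Ω := Ω) hpG P
  have ho := orbits_le (Ω := Ω) P.isPGroup'
  have hp1 : 1 ≤ p := (Fact.out : p.Prime).one_le
  set f := Nat.card {x : Ω // ∀ g ∈ (P : Subgroup G), g • x = x}
  set o := Nat.card (MulAction.orbitRel.Quotient ↥(P : Subgroup G) Ω)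
  set n := Nat.card Ω
  refine Nat.le_of_mul_le_mul_left ?_ (show 0 < p by omega)
  obtain ⟨q, rfl⟩ : ∃ q, p = q + 1 := ⟨p - 1, by omega⟩
  simp only [show 2 * (q + 1) - 1 = 2 * q + 1 by omega, show q + 1 - 1 = q by omega] at hf ho ⊢
  nlinarith [Nat.mul_le_mul_left (2 * q + 1) ho, Nat.mul_le_mul_left q hf]

end Cfsg.Agent.S3580
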