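import Cfsg.Statements.S3590
import Cfsg.Agent.OrthTwo.Bridge
import Cfsg.Agent.S3444

set_option autoImplicit false
open Cfsg

namespace Cfsg.Agent.S3590

/-- Let F be a finite field of characteristic 2. Then PSp(8,F) is not determined by its set of element orders, not even up to finitely many groups: for every bound there is a finite group of larger order with exactly the same set of element orders as PSp(8,F). -/
theorem result {F : Type*} [Field F] [Fintype F]
    [CharP F 2] (M : ℕ) :
    ∃ (H : Type) (_ : Group H) (_ : Fintype H), M < Fintype.card H ∧ Set.range (orderOf : H → ℕ) = Set.range (orderOf : Cfsg.PSp 4 F → ℕ) := by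
  classical
  -- an anisotropic binary form
  obtain ⟨μ, hμ⟩ : ∃ μ : F, ∀ t : F, t ^ 2 + t ≠ μ := by
    by_contra! h
    have hinj := Finite.injective_iff_surjective.2 (show Function.Surjective fun t : F => t ^ 2 + t from h)
    exact zero_ne_one (@hinj 0 1 (by simp [CharTwo.add_self_eq_zero]))
  have hab : CfsgLib.OrthTwo.Aniso 1 μ := by
    intro x y h
    have hy : y = 0 := by
      by_contra hy
      refine hμ (x / y) (CharTwo.add_eq_zero.1 ?_)
      field_simp
      linear_combination h
    refine ⟨?_, hy⟩
    rw [hy] at h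
    simpa using h
  have hnd : (QuadraticMap.polarBilin (CfsgLib.OrthTwo.mform (1 : F) μ)).Nondegenerate :=
    CfsgLib.OrthTwo.prod_nondeg (CfsgLib.OrthTwo.hyp_nondeg 3)
      (CfsgLib.OrthTwo.bin_nondeg hab.ne_zero μ)
  have hL : CfsgLib.OrthTwo.NoLagrangian (CfsgLib.OrthTwo.mform (1 : F) μ) :=
    CfsgLib.OrthTwo.noLagrangian_minus hab hab.ne_zero 3
  let X := CfsgLib.OrthTwo.evenGroup (CfsgLib.OrthTwo.mform (1 : F) μ) hnd hL
  let G := Multiplicative (CfsgLib.OrthTwo.MSpace F) ⋊[CfsgLib.OrthTwo.affAction X] X
  haveI : Finite (CfsgLib.OrthTwo.MSpace F ≃ₗ[F] CfsgLib.OrthTwo.MSpace F) := DFunLike.finite _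
  haveI : Finite G := Finite.of_equiv _ SemidirectProduct.equivProd.symm
  let K : Subgroup G := (SemidirectProduct.inl : Multiplicative (CfsgLib.OrthTwo.MSpace F) →* G).range
  haveI : K.Normal := by
    rw [show K = SemidirectProduct.rightHom.ker from SemidirectProduct.range_inl_eq_ker_rightHom]
    infer_instance
  have hK : K ≠ ⊥ := by
    intro h
    have hmem : SemidirectProduct.inl (φ := CfsgLib.OrthTwo.affAction X)
        (Multiplicative.ofAdd (0, (1, 0))) ∈ K := ⟨_, rfl⟩
    rw [h, Subgroup.mem_bot, ← map_one (SemidirectProduct.inl (φ := CfsgLib.OrthTwo.affAction X))] at hmem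
    have := congrArg Multiplicative.toAdd (SemidirectProduct.inl_injective hmem)
    exact one_ne_zero (congrArg (fun z => z.2.1) this)
  have hs : Group.IsSolvable K := solvable_of_surjective
    (f := (SemidirectProduct.inl : Multiplicative (CfsgLib.OrthTwo.MSpace F) →* G).rangeRestrict)
    (MonoidHom.rangeRestrict_surjective _)
  obtain ⟨H, iH, jH, hcard, hspec⟩ := Cfsg.Agent.S3444.result K hK hs M
  exact ⟨H, iH, jH, hcard, hspec.trans ((CfsgLib.OrthTwo.range_affine hab hnd hL).trans
    (CfsgLib.OrthTwo.range_psp hab).symm)⟩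

end Cfsg.Agent.S3590
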