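import Cfsg.Statements.S3592
import Cfsg.Agent.MElevenUnique.Counts

set_option autoImplicit false
open Cfsg

namespace Cfsg.Agent.S3592

/-- Let M be the Mathieu group M₁₁ (order 7920). If a finite group G has the same order as M and the same set of values of the function 'number of elements of order n' (taken over the element orders n that occur), then G is isomorphic to M. -/
theorem result {G : Type*} [Group G] [Finite G]
    (hcard : Nat.card G = Nat.card ↥Cfsg.Spor.M11)
    (hnse : {c : ℕ | 0 < c ∧ ∃ n : ℕ, c = Nat.card {g : G // orderOf g = n}} =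
      {c : ℕ | 0 < c ∧ ∃ n : ℕ, c = Nat.card {g : ↥Cfsg.Spor.M11 // orderOf g = n}}) :
    Nonempty (G ≃* ↥Cfsg.Spor.M11) := by
  have h7920 : Nat.card ↥Cfsg.Spor.M11 = 7920 := CfsgLib.Mathieu.card_SporM11
  have hG : Nat.card G = 7920 := hcard.trans h7920
  refine CfsgLib.MElevenUnique.nonempty_mulEquiv_SporM11
    (CfsgLib.MElevenUnique.isSimpleGroup_of_counts hG h7920 CfsgLib.Mathieu.simple_SporM11
      fun c hc hex => ?_) hG
  have h : c ∈ {c : ℕ | 0 < c ∧ ∃ n : ℕ, c = Nat.card {g : G // orderOf g = n}} := ⟨hc, hex⟩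
  rw [hnse] at h
  exact h.2

end Cfsg.Agent.S3592
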