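import Cfsg.Statements.S3599
import Cfsg.Agent.PrimeGraph.Lucido

set_option autoImplicit false
open Cfsg

namespace Cfsg.Agent.S3599

/-- The elements killed by `n` are closed under multiplication. -/
def PowClosed (G : Type*) [Group G] (n : ℕ) : Prop :=
  ∀ x y : G, x ^ n = 1 → y ^ n = 1 → (x * y) ^ n = 1

section Factor

variable (p q : ℕ) [NeZero q]

/-- Functions on `ZMod q` with values mod `p` of sum zero. -/
abbrev zeroSum : AddSubgroup (ZMod q → ZMod p) where
  carrier := {f | ∑ i, f i = 0}
  add_mem' {f g} hf hg := by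
    simp only [Set.mem_setOf_eq] at hf hg ⊢
    simp [Finset.sum_add_distrib, hf, hg]
  zero_mem' := by simp
  neg_mem' {f} hf := by
    simp only [Set.mem_setOf_eq] at hf ⊢
    simp [hf]

/-- The shift action on `zeroSum`. -/
def shiftFun (t : ZMod q) (f : zeroSum p q) : zeroSum p q :=
  ⟨fun i => (f : ZMod q → ZMod p) (i + t),
    (Fintype.sum_equiv (Equiv.addRight t) _ _ (fun _ => rfl)).trans f.2⟩

theorem shiftFun_zero (f : zeroSum p q) : shiftFun p q 0 f = f :=
  Subtype.ext (funext fun i => by simp [shiftFun])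

theorem shiftFun_add (t u : ZMod q) (f : zeroSum p q) :
    shiftFun p q (t + u) f = shiftFun p q t (shiftFun p q u f) :=
  Subtype.ext (funext fun i => by simp [shiftFun, add_assoc])

/-- The shift as a homomorphism to automorphisms. -/
def shiftHom : Multiplicative (ZMod q) →* MulAut (Multiplicative (zeroSum p q)) where
  toFun t :=
    { toFun := fun f => Multiplicative.ofAdd (shiftFun p q t.toAdd f.toAdd)
      invFun := fun f => Multiplicative.ofAdd (shiftFun p q (-t.toAdd) f.toAdd)
      left_inv := fun f => by simp [← shiftFun_add, shiftFun_zero]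
      right_inv := fun f => by simp [← shiftFun_add, shiftFun_zero]
      map_mul' := fun f g => rfl }
  map_one' := by
    apply MulEquiv.ext
    intro f
    simp [shiftFun_zero]
  map_mul' t u := by
    apply MulEquiv.ext
    intro f
    simp [shiftFun_add]
    rfl

/-- The Frobenius group `zeroSum ⋊ C_q`. -/
abbrev factor : Type := Multiplicative (zeroSum p q) ⋊[shiftHom p q] Multiplicative (ZMod q)

theorem factor_spec [NeZero p] (hp : p.Prime) (hq : q.Prime) (hpq : p ≠ q) :
    Set.range (orderOf : factor p q → ℕ) = {1, p, q} ∧ PowClosed (factor p q) p := by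
  have := Fact.mk hp
  have := Fact.mk hq
  have hVp : ∀ v : Multiplicative (zeroSum p q), v ^ p = 1 := fun v => by
    apply Multiplicative.toAdd.injective
    apply Subtype.ext
    funext i
    simp
  have hqt : ∀ t : Multiplicative (ZMod q), t ^ q = 1 := fun t => by
    apply Multiplicative.toAdd.injective
    simp
  have hqp : (q : ZMod p) ≠ 0 := by
    rw [Ne, ZMod.natCast_eq_zero_iff, Nat.prime_dvd_prime_iff_eq hp hq]
    exact hpq
  have hfix : ∀ (t : Multiplicative (ZMod q)) (v : Multiplicative (zeroSum p q)), t ≠ 1 →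
      shiftHom p q t v = v → v = 1 := by
    intro t v ht hv
    have hv' : ∀ i, (v.toAdd : ZMod q → ZMod p) (i + t.toAdd) = (v.toAdd : ZMod q → ZMod p) i :=
      fun i => congrFun (congrArg Subtype.val (congrArg Multiplicative.toAdd hv)) i
    have hk : ∀ (k : ℕ) i, (v.toAdd : ZMod q → ZMod p) (i + (k : ZMod q) * t.toAdd) =
        (v.toAdd : ZMod q → ZMod p) i := by
      intro k
      induction k with
      | zero => intro i; simp
      | succ k ih => intro i; rw [Nat.cast_succ, add_mul, one_mul, ← add_assoc, hv', ih]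
    have hc : ∀ i, (v.toAdd : ZMod q → ZMod p) i = (v.toAdd : ZMod q → ZMod p) 0 := by
      intro i
      have ht' : t.toAdd ≠ 0 := ht
      have h := hk (i / t.toAdd).val 0
      rwa [zero_add, ZMod.natCast_zmod_val, div_mul_cancel₀ _ ht'] at h
    have hs : ∑ i, (v.toAdd : ZMod q → ZMod p) i = 0 := v.toAdd.2
    rw [Finset.sum_congr rfl (fun i _ => hc i), Finset.sum_const, Finset.card_univ, ZMod.card,
      nsmul_eq_mul, mul_eq_zero] at hs
    apply Multiplicative.toAdd.injective
    exact Subtype.ext (funext fun i => (hc i).trans (hs.resolve_left hqp))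
  have hkill : ∀ x : factor p q, x ^ p = 1 ↔ x.right = 1 := by
    intro x
    constructor
    · intro h
      have h1 : x.right ^ p = 1 := by
        rw [← SemidirectProduct.rightHom_eq_right, ← map_pow, h, map_one]
      have h2 := Nat.dvd_gcd (orderOf_dvd_of_pow_eq_one h1) (orderOf_dvd_of_pow_eq_one (hqt x.right))
      rw [(Nat.coprime_primes hp hq).2 hpq, Nat.dvd_one, orderOf_eq_one_iff] at h2
      exact h2
    · intro h
      have : x = SemidirectProduct.inl x.left := SemidirectProduct.ext (by simp) (by simpa using h)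
      rw [this, ← map_pow, hVp, map_one]
  have hother : ∀ x : factor p q, x.right ≠ 1 → x ^ q = 1 := by
    intro x hx
    have hr : (x ^ q).right = 1 := by
      rw [← SemidirectProduct.rightHom_eq_right, map_pow]; exact hqt _
    have hc := congrArg SemidirectProduct.left (Commute.self_pow x q).eq
    rw [SemidirectProduct.mul_left, SemidirectProduct.mul_left, hr, map_one, MulAut.one_apply,
      mul_comm] at hc
    exact SemidirectProduct.ext (hfix _ _ hx (mul_right_cancel hc)) hr
  refine ⟨?_, fun x y hx hy => ?_⟩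
  · refine Set.Subset.antisymm ?_ ?_
    · rintro _ ⟨x, rfl⟩
      by_cases hx : x.right = 1
      · rcases (Nat.dvd_prime hp).1 (orderOf_dvd_of_pow_eq_one ((hkill x).2 hx)) with h | h <;>
          simp [h]
      · rcases (Nat.dvd_prime hq).1 (orderOf_dvd_of_pow_eq_one (hother x hx)) with h | h <;>
          simp [h]
    · rintro n (rfl | rfl | rfl)
      · exact ⟨1, orderOf_one⟩
      · let f : zeroSum n q :=
          ⟨fun i => (if i = 0 then 1 else 0) - (if i = 1 then 1 else 0), by
            show ∑ i, _ = (0 : ZMod n)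
            rw [Finset.sum_sub_distrib]; simp⟩
        refine ⟨SemidirectProduct.inl (Multiplicative.ofAdd f), ?_⟩
        apply orderOf_eq_prime
        · rw [← map_pow, hVp, map_one]
        · intro h
          have h' := congrArg Multiplicative.toAdd (congrArg SemidirectProduct.left h)
          have h'' := congrFun (congrArg Subtype.val h') 0
          simp [f, zero_ne_one] at h''
      · refine ⟨SemidirectProduct.inr (Multiplicative.ofAdd 1), ?_⟩
        apply orderOf_eq_prime
        · rw [← map_pow, hqt, map_one]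
        · intro h
          have h' := congrArg SemidirectProduct.right h
          simp at h'
  · rw [hkill] at hx hy ⊢
    simp [hx, hy]

end Factor

section Product

variable {s : ℕ} (p : Fin s → Fin 2 → ℕ)

/-- The target set of element orders. -/
def omega : Set ℕ :=
  {m : ℕ | ∃ c : Fin s → ℕ, (∀ j, c j = 1 ∨ c j = p j 0 ∨ c j = p j 1) ∧ m = ∏ j, c j}

/-- Spectrum `omega` with prescribed normal Sylow subgroups. -/
def Good (e : Fin s → Fin 2) (G : Type) [Group G] : Prop :=
  Set.range (orderOf : G → ℕ) = omega p ∧ ∀ j, PowClosed G (p j (e j))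

theorem exists_good (hp : ∀ j i, (p j i).Prime)
    (hinj : ∀ j i j' i', p j i = p j' i' → j = j' ∧ i = i') (e : Fin s → Fin 2) :
    ∃ (G : Type) (_ : Group G) (_ : Finite G), Good p e G := by
  have hz : ∀ j i, NeZero (p j i) := fun j i => ⟨(hp j i).ne_zero⟩
  let F : Fin s → Type := fun j => factor (p j (e j)) (p j (e j + 1))
  have hne : ∀ j, p j (e j) ≠ p j (e j + 1) := by
    intro j h
    have := (hinj _ _ _ _ h).2
    revert this
    generalize e j = i
    fin_cases i <;> decide
  have hset : ∀ (j : Fin s) (n : ℕ), (n = 1 ∨ n = p j (e j) ∨ n = p j (e j + 1)) ↔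
      (n = 1 ∨ n = p j 0 ∨ n = p j 1) := by
    intro j n
    generalize e j = i
    fin_cases i
    · exact Iff.rfl
    · exact or_congr Iff.rfl or_comm
  have hspec : ∀ j, Set.range (orderOf : F j → ℕ) = {1, p j (e j), p j (e j + 1)} ∧
      PowClosed (F j) (p j (e j)) := fun j => factor_spec _ _ (hp _ _) (hp _ _) (hne j)
  have hcop : ∀ c : Fin s → ℕ, (∀ j, c j = 1 ∨ c j = p j 0 ∨ c j = p j 1) →
      Pairwise (fun a b => Nat.Coprime (c a) (c b)) := by
    intro c hc a b hab
    rcases hc a with h | h | h <;> rcases hc b with h' | h' | h' <;> rw [h, h'] <;>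
      first
        | exact Nat.coprime_one_left _
        | exact Nat.coprime_one_right _
        | exact (Nat.coprime_primes (hp _ _) (hp _ _)).2 fun he => hab (hinj _ _ _ _ he).1
  have : ∀ j, Finite (F j) := fun j => Finite.of_equiv _ SemidirectProduct.equivProd.symm
  have horder : ∀ x : (j : Fin s) → F j, orderOf x = ∏ j, orderOf (x j) ∧
      ∀ j, orderOf (x j) = 1 ∨ orderOf (x j) = p j 0 ∨ orderOf (x j) = p j 1 := by
    intro x
    have hc : ∀ j, orderOf (x j) = 1 ∨ orderOf (x j) = p j 0 ∨ orderOf (x j) = p j 1 := by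
      intro j
      have h : orderOf (x j) ∈ Set.range (orderOf : F j → ℕ) := ⟨x j, rfl⟩
      rw [(hspec j).1] at h
      exact (hset j _).1 h
    refine ⟨Nat.dvd_antisymm ?_ ?_, hc⟩
    · rw [orderOf_dvd_iff_pow_eq_one]
      funext j
      rw [Pi.pow_apply, Pi.one_apply]
      exact orderOf_dvd_iff_pow_eq_one.1 (Finset.dvd_prod_of_mem _ (Finset.mem_univ j))
    · exact Finset.prod_dvd_of_isRelPrime
        (fun a _ b _ hab => Nat.coprime_iff_isRelPrime.1 (hcop _ hc hab))
        fun j _ => orderOf_map_dvd (Pi.evalMonoidHom F j) x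
  refine ⟨(j : Fin s) → F j, inferInstance, inferInstance, ?_, ?_⟩
  · refine Set.Subset.antisymm ?_ ?_
    · rintro _ ⟨x, rfl⟩
      exact ⟨fun j => orderOf (x j), (horder x).2, (horder x).1⟩
    · rintro _ ⟨c, hc, rfl⟩
      have : ∀ j, ∃ y : F j, orderOf y = c j := fun j => by
        have : c j ∈ Set.range (orderOf : F j → ℕ) := by
          rw [(hspec j).1]; exact (hset j _).2 (hc j)
        exact this
      choose y hy using this
      exact ⟨y, by rw [(horder y).1]; exact Finset.prod_congr rfl fun j _ => hy j⟩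
  · intro j x y hx hy
    funext i
    have hx' : x i ^ p j (e j) = 1 := congrFun hx i
    have hy' : y i ^ p j (e j) = 1 := congrFun hy i
    rw [Pi.pow_apply, Pi.mul_apply, Pi.one_apply]
    by_cases hij : i = j
    · subst hij
      exact (hspec i).2 _ _ hx' hy'
    · have h1 : ∀ z : F i, z ^ p j (e j) = 1 → z = 1 := by
        intro z hz
        have h : orderOf z ∈ Set.range (orderOf : F i → ℕ) := ⟨z, rfl⟩
        rw [(hspec i).1] at h
        rw [← orderOf_eq_one_iff]
        rcases (Nat.dvd_prime (hp _ _)).1 (orderOf_dvd_of_pow_eq_one hz) with h' | h'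
        · exact h'
        · rw [h'] at h
          simp only [Set.mem_insert_iff, Set.mem_singleton_iff] at h
          rcases h with h | h | h
          · exact absurd h (hp _ _).one_lt.ne'
          · exact absurd (hinj _ _ _ _ h).1 (Ne.symm hij)
          · exact absurd (hinj _ _ _ _ h).1 (Ne.symm hij)
      simp [h1 _ hx', h1 _ hy']

theorem exists_critical (hp : ∀ j i, (p j i).Prime)
    (hinj : ∀ j i j' i', p j i = p j' i' → j = j' ∧ i = i') (e : Fin s → Fin 2) :
    ∃ (G : Type) (_ : Group G) (_ : Fintype G), Good p e G ∧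
      ∀ (H : Subgroup G) (N : Subgroup H) [N.Normal], (H ≠ ⊤ ∨ N ≠ ⊥) →
        Set.range (orderOf : (H ⧸ N) → ℕ) ≠ omega p := by
  classical
  have hex : ∃ n, ∃ (G : Type) (_ : Group G) (_ : Finite G), Nat.card G = n ∧ Good p e G := by
    obtain ⟨G, iG, fG, h⟩ := exists_good p hp hinj e
    exact ⟨_, G, iG, fG, rfl, h⟩
  obtain ⟨G, iG, fG, hcard, hG⟩ := Nat.find_spec hex
  refine ⟨G, iG, Fintype.ofFinite G, hG, fun H N hN hne heq => ?_⟩
  have hgood : Good p e (H ⧸ N) := by
    refine ⟨heq, fun j x y hx hy => ?_⟩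
    set P := p j (e j)
    have hPp : P.Prime := hp _ _
    have hlift : ∀ z : H ⧸ N, z ^ P = 1 → ∃ h : H, h ^ P = 1 ∧ (h : H ⧸ N) = z := by
      intro z hz
      rcases (Nat.dvd_prime hPp).1 (orderOf_dvd_of_pow_eq_one hz) with h1 | h1
      · exact ⟨1, one_pow _, by rw [orderOf_eq_one_iff] at h1; simp [h1]⟩
      induction z using QuotientGroup.induction_on with
      | H h =>
        have hd : P ∣ orderOf h := h1 ▸ orderOf_map_dvd (QuotientGroup.mk' N) h
        obtain ⟨c, hc, hce⟩ : orderOf (h : G) ∈ omega p := hG.1 ▸ ⟨(h : G), rfl⟩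
        have hsq : Squarefree (orderOf h) := by
          rw [← Subgroup.orderOf_coe, hce]
          refine Finset.squarefree_prod_of_pairwise_isCoprime ?_ fun i _ => ?_
          · intro a _ b _ hab
            rw [Function.onFun, Nat.coprime_iff_isRelPrime.symm]
            rcases hc a with h | h | h <;> rcases hc b with h' | h' | h' <;> rw [h, h'] <;>
              first
                | exact Nat.coprime_one_left _
                | exact Nat.coprime_one_right _
                | exact (Nat.coprime_primes (hp _ _) (hp _ _)).2 fun he => hab (hinj _ _ _ _ he).1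
          · rcases hc i with h | h | h <;> rw [h]
            · exact squarefree_one
            · exact (hp _ _).squarefree
            · exact (hp _ _).squarefree
        obtain ⟨k, hk⟩ := hd
        have hcop : Nat.Coprime k P := by
          rw [hk] at hsq
          exact (Nat.coprime_of_squarefree_mul hsq).symm
        have hhk : (h ^ k) ^ P = 1 := by
          rw [← pow_mul, mul_comm, ← hk, pow_orderOf_eq_one]
        obtain ⟨a, ha⟩ := exists_pow_eq_self_of_coprime (x := (h : H ⧸ N)) (n := k)
          (by rw [h1]; exact hcop)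
        refine ⟨(h ^ k) ^ a, ?_, ?_⟩
        · rw [← pow_mul, mul_comm a P, pow_mul, hhk, one_pow]
        · rw [QuotientGroup.mk_pow, QuotientGroup.mk_pow, ha]
    obtain ⟨a, ha, rfl⟩ := hlift x hx
    obtain ⟨b, hb, rfl⟩ := hlift y hy
    have hab : ((a : G) * b) ^ P = 1 := hG.2 j _ _
      (by rw [← SubmonoidClass.coe_pow, ha]; rfl) (by rw [← SubmonoidClass.coe_pow, hb]; rfl)
    rw [← QuotientGroup.mk_mul, ← QuotientGroup.mk_pow,
      show (a * b) ^ P = 1 from Subtype.ext (by simpa using hab), QuotientGroup.mk_one]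
  have hlt : Nat.card (H ⧸ N) < Nat.find hex := by
    rw [← hcard]
    refine lt_of_le_of_ne ?_ fun h => ?_
    · calc Nat.card (H ⧸ N) ≤ Nat.card H := Nat.card_le_card_of_surjective _ Quotient.mk''_surjective
        _ ≤ Nat.card G := Subgroup.card_le_card_group H
    · have h1 : Nat.card (H ⧸ N) ≤ Nat.card H :=
        Nat.card_le_card_of_surjective _ Quotient.mk''_surjective
      have h2 := Subgroup.card_le_card_group H
      have hH : H = ⊤ := Subgroup.eq_top_of_card_eq H (by omega)
      have h3 := Subgroup.card_eq_card_quotient_mul_card_subgroup N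
      have hN1 : Nat.card N = 1 := by
        have hpos : 0 < Nat.card (H ⧸ N) := Nat.card_pos
        have : Nat.card (H ⧸ N) * Nat.card N = Nat.card (H ⧸ N) := by omega
        exact Nat.eq_of_mul_eq_mul_left hpos (this.trans (mul_one _).symm)
      exact hne.elim (fun h => h hH) (fun h => h (Subgroup.card_eq_one.1 hN1))
  exact Nat.find_min hex hlt ⟨H ⧸ N, inferInstance, inferInstance, rfl, hgood⟩

end Product

/-- A finite group is critical with respect to a set Ω of natural numbers when its set of element orders is Ω while no proper section H/N (H a subgroup, N normal in H, (H, N) ≠ (whole group, 1)) has Ω as its set of element orders. Let s ≥ 1 and let p(j,0), p(j,1) (j < s) be 2s pairwise distinct primes, and let Ω be the set of all products c(0)·…·c(s−1) with each c(j) ∈ {1, p(j,0), p(j,1)}. Then there are 2^s pairwise non-isomorphic finite groups critical with respect to Ω. -/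
theorem result (s : ℕ) (hs : 1 ≤ s) (p : Fin s → Fin 2 → ℕ)
    (hp : ∀ j i, (p j i).Prime) (hinj : ∀ j i j' i', p j i = p j' i' → j = j' ∧ i = i') :
    ∃ (G : Fin (2 ^ s) → Type) (_ : ∀ a, Group (G a)) (_ : ∀ a, Fintype (G a)),
      (∀ a b, a ≠ b → ¬ Nonempty (G a ≃* G b)) ∧
      ∀ a, Set.range (orderOf : (G a) → ℕ) = {m : ℕ | ∃ c : Fin s → ℕ, (∀ j, c j = 1 ∨ c j = p j 0 ∨ c j = p j 1) ∧ m = ∏ j, c j} ∧
      ∀ (H : Subgroup (G a)) (N : Subgroup ↥H) [N.Normal], (H ≠ ⊤ ∨ N ≠ ⊥) → Set.range (orderOf : (↥H ⧸ N) → ℕ) ≠ {m : ℕ | ∃ c : Fin s → ℕ, (∀ j, c j = 1 ∨ c j = p j 0 ∨ c j = p j 1) ∧ m = ∏ j, c j} := by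
  classical
  let E : Fin (2 ^ s) ≃ (Fin s → Fin 2) := finFunctionFinEquiv.symm
  choose G iG fG hgood hcrit using fun a => exists_critical p hp hinj (E a)
  refine ⟨G, iG, fG, fun a b hab ⟨f⟩ => ?_, fun a => ⟨(hgood a).1, hcrit a⟩⟩
  have hE : E a ≠ E b := fun h => hab (E.injective h)
  obtain ⟨j, hj⟩ := Function.ne_iff.1 hE
  -- in `G a` both Sylow subgroups for the `j`-th pair would be normal
  have hb : PowClosed (G a) (p j (E b j)) := fun x y hx hy => by
    apply f.injective
    rw [map_pow, map_mul, map_one]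
    exact (hgood b).2 j _ _ (by rw [← map_pow, hx, map_one]) (by rw [← map_pow, hy, map_one])
  have ha := (hgood a).2 j
  set P := p j (E a j)
  set Q := p j (E b j)
  have hPQ : P ≠ Q := fun h => hj (hinj _ _ _ _ h).2
  have hconj : ∀ (n : ℕ) (x g : G a), x ^ n = 1 → (g * x * g⁻¹) ^ n = 1 := fun n x g hx => by
    rw [conj_pow, hx, mul_one, mul_inv_cancel]
  have hsetof : ∀ i, p j i ∈ Set.range (orderOf : G a → ℕ) := by
    intro i
    rw [(hgood a).1]
    refine ⟨fun k => if k = j then p j i else 1, fun k => ?_, ?_⟩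
    · by_cases hk : k = j
      · subst hk
        fin_cases i <;> simp
      · simp [hk]
    · simp
  obtain ⟨x, hx⟩ := hsetof (E a j)
  obtain ⟨y, hy⟩ := hsetof (E b j)
  have hx1 : x ^ P = 1 := by rw [show P = orderOf x from hx.symm, pow_orderOf_eq_one]
  have hy1 : y ^ Q = 1 := by rw [show Q = orderOf y from hy.symm, pow_orderOf_eq_one]
  set c := x * y * x⁻¹ * y⁻¹
  have hc1 : c ^ P = 1 := by
    rw [show c = x * (y * x⁻¹ * y⁻¹) by simp [c, mul_assoc]]
    exact ha _ _ hx1 (hconj _ _ _ (by rw [inv_pow, hx1, inv_one]))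
  have hc2 : c ^ Q = 1 := hb _ _ (hconj _ _ _ hy1) (by rw [inv_pow, hy1, inv_one])
  have hc : c = 1 := by
    rw [← orderOf_eq_one_iff, ← Nat.dvd_one, ← (Nat.coprime_primes (hp _ _) (hp _ _)).2 hPQ]
    exact Nat.dvd_gcd (orderOf_dvd_of_pow_eq_one hc1) (orderOf_dvd_of_pow_eq_one hc2)
  have hcomm : Commute x y := by
    have := mul_inv_eq_one.1 hc
    exact (mul_inv_eq_iff_eq_mul.1 this)
  obtain ⟨g, hg⟩ := CfsgLib.PrimeGraph.exists_orderOf_eq_mul_of_commute (hp _ _) (hp _ _) hPQ hx hy
    hcomm
  have hmem : orderOf g ∈ omega p := (hgood a).1 ▸ ⟨g, rfl⟩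
  obtain ⟨c', hc', hce⟩ := hmem
  rw [hg] at hce
  have key : ∀ i, p j i ∣ P * Q → p j i ∣ c' j := by
    intro i hi
    rw [hce] at hi
    obtain ⟨k, -, hk⟩ := (Prime.dvd_finsetProd_iff (hp j i).prime _).1 hi
    rcases hc' k with h | h | h <;> rw [h] at hk
    · exact absurd (Nat.dvd_one.1 hk) (hp j i).one_lt.ne'
    · have := (hinj _ _ _ _ ((Nat.prime_dvd_prime_iff_eq (hp _ _) (hp _ _)).1 hk))
      rw [this.1, h, this.2]
    · have := (hinj _ _ _ _ ((Nat.prime_dvd_prime_iff_eq (hp _ _) (hp _ _)).1 hk))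
      rw [this.1, h, this.2]
  have h1 : P ∣ c' j := key _ (dvd_mul_right _ _)
  have h2 : Q ∣ c' j := key _ (dvd_mul_left _ _)
  rcases hc' j with h | h | h <;> rw [h] at h1 h2
  · exact (hp _ _).one_lt.ne' (Nat.dvd_one.1 h1)
  · exact hPQ (((Nat.prime_dvd_prime_iff_eq (hp _ _) (hp _ _)).1 h1).trans
      ((Nat.prime_dvd_prime_iff_eq (hp _ _) (hp _ _)).1 h2).symm)
  · exact hPQ (((Nat.prime_dvd_prime_iff_eq (hp _ _) (hp _ _)).1 h1).trans
      ((Nat.prime_dvd_prime_iff_eq (hp _ _) (hp _ _)).1 h2).symm)

end Cfsg.Agent.S3599
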