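import Cfsg.Statements.S3600
import Cfsg.Agent.S3433
import Cfsg.Agent.CriticalFive.Main

set_option autoImplicit false
open Cfsg

namespace Cfsg.Agent.S3600

/-- A finite group is critical with respect to a set Ω of natural numbers when its set of element orders is Ω while no proper section has Ω as its set of element orders. A finite group critical with respect to {1, 2, 3, 4, 5} (the set of element orders of the alternating group of degree 6) is isomorphic either to the alternating group of degree 6 or to the affine group F² ⋊ SL(2,F) over the field F with four elements (realised as the matrices of SL(3,F) with last row (0, 0, 1)). -/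
theorem result {G : Type*} [Group G] [Finite G]
    (hcrit : Set.range (orderOf : G → ℕ) = ({1, 2, 3, 4, 5} : Set ℕ) ∧
      ∀ (H : Subgroup G) (N : Subgroup ↥H) [N.Normal], (H ≠ ⊤ ∨ N ≠ ⊥) → Set.range (orderOf : (↥H ⧸ N) → ℕ) ≠ ({1, 2, 3, 4, 5} : Set ℕ)) :
    Nonempty (G ≃* alternatingGroup (Fin 6)) ∨
      ∃ (F : Type) (_ : Field F) (_ : Fintype F), Fintype.card F = 4 ∧
        Nonempty (G ≃* ↥(Subgroup.closure {M : Matrix.SpecialLinearGroup (Fin 3) F |
          (M : Matrix (Fin 3) (Fin 3) F) 2 0 = 0 ∧ (M : Matrix (Fin 3) (Fin 3) F) 2 1 = 0 ∧ (M : Matrix (Fin 3) (Fin 3) F) 2 2 = 1})) := by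
  obtain ⟨hsp, hc⟩ := hcrit
  have hspec : Set.range (orderOf : G → ℕ) = {k : ℕ | 1 ≤ k ∧ k ≤ 5} := by
    rw [hsp]
    ext k
    simp only [Set.mem_insert_iff, Set.mem_singleton_iff, Set.mem_ofPred_eq]
    omega
  rcases Cfsg.Agent.S3433.result hspec with h | ⟨N, hNn, hN, ⟨e⟩⟩
  · exact Or.inl h
  right
  have hcrit' : ∀ H : Subgroup G, H ≠ ⊤ → Set.range (orderOf : H → ℕ) ≠ ({1, 2, 3, 4, 5} : Set ℕ) := by
    intro H hH he
    refine hc H ⊥ (Or.inl hH) ?_
    rw [← he, ← (QuotientGroup.quotientBot (G := H)).surjective.range_comp (orderOf : H → ℕ)]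
    exact congrArg Set.range (funext fun q => (MulEquiv.orderOf_eq QuotientGroup.quotientBot q).symm)
  obtain ⟨x, y, v, hR, htop, hcard⟩ := CfsgLib.CriticalFive.exists_rels hsp hcrit' hN e
  refine ⟨CfsgLib.CriticalFive.F4, inferInstance, inferInstance, CfsgLib.CriticalFive.F4.card_eq, ?_⟩
  have hm := CfsgLib.CriticalFive.mem_affSet
  set S := Subgroup.closure CfsgLib.CriticalFive.affSet
  let x' : S := ⟨CfsgLib.CriticalFive.xMat, Subgroup.subset_closure hm.1⟩
  let y' : S := ⟨CfsgLib.CriticalFive.yMat, Subgroup.subset_closure hm.2.1⟩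
  let v' : S := ⟨CfsgLib.CriticalFive.vMat, Subgroup.subset_closure hm.2.2⟩
  have hR' : CfsgLib.CriticalFive.Rels x' y' v' := by
    exact CfsgLib.CriticalFive.Rels.of_injective S.subtype S.subtype_injective CfsgLib.CriticalFive.rels_mat
  have hgen : Subgroup.closure {x', y', v'} = ⊤ := by
    apply Subgroup.map_injective (f := S.subtype) S.subtype_injective
    rw [MonoidHom.map_closure, ← MonoidHom.range_eq_map, Subgroup.range_subtype]
    simp only [Set.image_insert_eq, Set.image_singleton]
    exact CfsgLib.CriticalFive.closure_mat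
  exact CfsgLib.CriticalFive.nonempty_mulEquiv hR hR' htop hcard hgen
    CfsgLib.CriticalFive.card_closure_affSet

end Cfsg.Agent.S3600
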