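import Cfsg.Statements.S3611
import Cfsg.Agent.HalfPrime.Basic
-- import your own Cfsg.Agent.* helpers here

set_option autoImplicit false
open Cfsg

namespace Cfsg.Agent.S3611

/-- Let G be an insoluble group acting faithfully and transitively on a finite set of prime size p, and suppose the normalizer of a Sylow p-subgroup of G has order p(p-1)/2. If p ≡ 3 (mod 4), then G is triply transitive, or for any two distinct points the stabilizer of both has exactly four orbits on the set (the two fixed points and exactly two orbits on the remaining p - 2 points). -/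
theorem result {G Ω : Type*} [Group G] [Finite G] [MulAction G Ω] [FaithfulSMul G Ω] [Finite Ω]
    (p : ℕ) (hp : p.Prime) (hΩ : Nat.card Ω = p) (htrans : MulAction.IsPretransitive G Ω)
    (hins : ¬ Group.IsSolvable G) (P : Sylow p G)
    (hN : 2 * Nat.card ↥(Subgroup.normalizer ((P : Subgroup G) : Set G)) = p * (p - 1))
    (hp3 : p % 4 = 3) :
    MulAction.IsMultiplyPretransitive G Ω 3 ∨
    ∀ α β : Ω, α ≠ β →
      Nat.card (MulAction.orbitRel.Quotient ↥(MulAction.stabilizer G α ⊓ MulAction.stabilizer G β) Ω) = 4 := by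
  haveI := Fact.mk hp
  obtain ⟨hp5, h2⟩ := CfsgLib.HalfPrime.setup (G := G) hΩ hins
  obtain ⟨C⟩ := CfsgLib.HalfPrime.exists_coord hΩ P hN.ge
  refine or_iff_not_imp_left.2 fun h3 a b hab => ?_
  set H := MulAction.stabilizer G a ⊓ MulAction.stabilizer G b with hH
  obtain ⟨x, y, hxa, hxb, hya, hyb, hxy⟩ : ∃ x y : Ω, x ≠ a ∧ x ≠ b ∧ y ≠ a ∧ y ≠ b ∧
      ¬ ∃ g : G, g • a = a ∧ g • b = b ∧ g • x = y := by
    by_contra hcon
    refine h3 (CfsgLib.HalfPrime.three_of_related (CfsgLib.HalfPrime.related_of_pair hab ?_))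
    intro x y h1 h2 h3 h4
    by_contra hh
    exact hcon ⟨x, y, h1, h2, h3, h4, hh⟩
  let q : Ω → MulAction.orbitRel.Quotient H Ω := Quotient.mk''
  have hq : ∀ u v : Ω, q u = q v ↔ ∃ g : G, g • a = a ∧ g • b = b ∧ g • v = u := by
    intro u v
    rw [Quotient.eq'']
    exact ⟨fun ⟨g, hg⟩ => ⟨g, g.2.1, g.2.2, hg⟩, fun ⟨g, ga, gb, hg⟩ => ⟨⟨g, ga, gb⟩, hg⟩⟩
  have hfix : ∀ u, (q u = q a → u = a) ∧ (q u = q b → u = b) := by
    intro u
    refine ⟨fun h => ?_, fun h => ?_⟩
    · obtain ⟨g, ga, gb, hg⟩ := (hq u a).1 h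
      rw [← hg, ga]
    · obtain ⟨g, ga, gb, hg⟩ := (hq u b).1 h
      rw [← hg, gb]
  have hxy' : q y ≠ q x := fun h => hxy ((hq y x).1 h)
  let F : Fin 4 → MulAction.orbitRel.Quotient H Ω := ![q a, q b, q x, q y]
  have hF : Function.Bijective F := by
    refine ⟨fun i j hij => ?_, fun z => ?_⟩
    · fin_cases i <;> fin_cases j <;> simp [F] at hij ⊢
      · exact hab.symm ((hfix b).1 hij.symm)
      · exact hxa ((hfix x).1 hij.symm)
      · exact hya ((hfix y).1 hij.symm)
      · exact hab.symm ((hfix b).1 hij)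
      · exact hxb ((hfix x).2 hij.symm)
      · exact hyb ((hfix y).2 hij.symm)
      · exact hxa ((hfix x).1 hij)
      · exact hxb ((hfix x).2 hij)
      · exact hxy' hij.symm
      · exact hya ((hfix y).1 hij)
      · exact hyb ((hfix y).2 hij)
      · exact hxy' hij
    · obtain ⟨u, rfl⟩ : ∃ u, q u = z := Quotient.inductionOn' z fun u => ⟨u, rfl⟩
      rcases eq_or_ne u a with rfl | hua
      · exact ⟨0, rfl⟩
      rcases eq_or_ne u b with rfl | hub
      · exact ⟨1, rfl⟩
      obtain ⟨i, j, hne, g, ga, gb, hg⟩ := CfsgLib.HalfPrime.exists_related hins C hp5 hab ![x, y, u]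
        (by intro i; fin_cases i <;> assumption) (by intro i; fin_cases i <;> assumption)
      have h : q (![x, y, u] j) = q (![x, y, u] i) := (hq _ _).2 ⟨g, ga, gb, hg⟩
      fin_cases i <;> fin_cases j <;> simp at h hne
      · exact absurd h hxy'
      · exact ⟨2, h.symm⟩
      · exact absurd h.symm hxy'
      · exact ⟨3, h.symm⟩
      · exact ⟨2, h⟩
      · exact ⟨3, h⟩
  rw [← Nat.card_congr (Equiv.ofBijective F hF), Nat.card_fin]

end Cfsg.Agent.S3611
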