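import Cfsg.Statements.S3612
import Cfsg.Agent.HalfPrime.Basic
import Cfsg.Agent.HalfPrime.Triple

set_option autoImplicit false
open Cfsg

namespace Cfsg.Agent.S3612

/-- Let G be an insoluble group acting faithfully and transitively on a finite set of prime size p, and suppose the normalizer of a Sylow p-subgroup of G has order p(p-1)/2. If p > 7, then the stabilizer of a point acts primitively on the remaining p - 1 points. -/
theorem result {G Ω : Type*} [Group G] [Finite G] [MulAction G Ω] [FaithfulSMul G Ω] [Finite Ω]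
    (p : ℕ) (hp : p.Prime) (hΩ : Nat.card Ω = p) (htrans : MulAction.IsPretransitive G Ω)
    (hins : ¬ Group.IsSolvable G) (P : Sylow p G)
    (hN : 2 * Nat.card ↥(Subgroup.normalizer ((P : Subgroup G) : Set G)) = p * (p - 1))
    (hp7 : 7 < p) (α : Ω) :
    MulAction.IsPreprimitive ↥(MulAction.stabilizer G α) ↥(SubMulAction.ofStabilizer G α) := by
  haveI : Fact p.Prime := ⟨hp⟩
  obtain ⟨C⟩ := CfsgLib.HalfPrime.exists_coord (G := G) hΩ P hN.ge
  haveI := (CfsgLib.HalfPrime.setup (G := G) hΩ hins).2
  exact CfsgLib.HalfPrime.isPreprimitive_stabilizer hins C hp7 α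

end Cfsg.Agent.S3612
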