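import Cfsg.Statements.S3614
import Cfsg.Agent.HalfPrime.TwinPrime
import Cfsg.Agent.HalfPrime.Manning

set_option autoImplicit false
set_option linter.style.haveILetI false
open Cfsg

namespace Cfsg.Agent.S3614

/-- Let G be an insoluble group acting faithfully and transitively on a finite set of prime size p, and suppose the normalizer of a Sylow p-subgroup of G has order p(p-1)/2. If p = q + 2 = 2r + 3 > 9 or p = q + 2 = 3r + 4 > 13 with q and r prime, then G is isomorphic to the alternating group of degree p. -/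
theorem result {G Ω : Type*} [Group G] [Finite G] [MulAction G Ω] [FaithfulSMul G Ω] [Finite Ω]
    (p : ℕ) (hp : p.Prime) (hΩ : Nat.card Ω = p) (htrans : MulAction.IsPretransitive G Ω)
    (hins : ¬ Group.IsSolvable G) (P : Sylow p G)
    (hN : 2 * Nat.card ↥(Subgroup.normalizer ((P : Subgroup G) : Set G)) = p * (p - 1))
    (q r : ℕ) (hq : q.Prime) (hr : r.Prime)
    (hcases : (p = q + 2 ∧ p = 2 * r + 3 ∧ 9 < p) ∨ (p = q + 2 ∧ p = 3 * r + 4 ∧ 13 < p)) :
    Nonempty (G ≃* alternatingGroup (Fin p)) := by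
  classical
  haveI : Fact p.Prime := ⟨hp⟩
  haveI := htrans
  haveI := Fintype.ofFinite Ω
  have hcard : Fintype.card Ω = p := by rw [← Nat.card_eq_fintype_card]; exact hΩ
  have hpq : p = q + 2 := hcases.elim (fun h => h.1) fun h => h.1
  haveI h5 := CfsgLib.HalfPrime.twin_five hΩ hins P hN hq (by omega) hpq
  have hle : ∀ m, m ≤ 5 → MulAction.IsMultiplyPretransitive G Ω m := fun m hm =>
    MulAction.isMultiplyPretransitive_of_le (n := 5) hm (by rw [hΩ]; omega)
  haveI : MulAction.IsPreprimitive G Ω :=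
    MulAction.isPreprimitive_of_is_two_pretransitive (hle 2 (by omega))
  obtain ⟨c, hc, hcp, hcr⟩ : ∃ c, (c = 2 ∨ c = 3) ∧ p = c * r + (c + 1) ∧ c + 1 < r := by
    rcases hcases with ⟨-, h1, h2⟩ | ⟨-, h1, h2⟩
    · refine ⟨2, Or.inl rfl, by omega, ?_⟩
      by_contra h
      omega
    · refine ⟨3, Or.inr rfl, by omega, ?_⟩
      by_contra h
      interval_cases r <;> first
        | omega
        | norm_num at hr
  haveI : MulAction.IsMultiplyPretransitive G Ω (c + 1) := hle _ (by omega)
  obtain ⟨F, -, hF⟩ := Finset.exists_subset_card_eq (s := (Finset.univ : Finset Ω)) (n := c + 1) (by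
    rw [Finset.card_univ, hcard]; omega)
  have htr : ∀ x, x ∉ F → ∀ y, y ∉ F → ∃ g : G, (∀ z ∈ F, g • z = z) ∧ g • x = y := by
    intro x hx y hy
    haveI := hle (c + 1 + 1) (by omega)
    let s : Fin (c + 1) ↪ Ω :=
      (F.equivFinOfCardEq hF).symm.toEmbedding.trans (Function.Embedding.subtype _)
    have hs : ∀ i, s i ∈ F := fun i => by simp [s]
    have hinj : ∀ z, z ∉ F → Function.Injective (Fin.snoc s z : Fin (c + 1 + 1) → Ω) := fun z hz =>
      Fin.snoc_injective_iff.2 ⟨s.injective, fun ⟨i, hi⟩ => hz (hi ▸ hs i)⟩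
    obtain ⟨g, hg⟩ := MulAction.isMultiplyPretransitive_iff.1
      (inferInstance : MulAction.IsMultiplyPretransitive G Ω (c + 1 + 1))
      ⟨_, hinj x hx⟩ ⟨_, hinj y hy⟩
    refine ⟨g, fun z hz => ?_, by simpa using DFunLike.congr_fun hg (Fin.last _)⟩
    have := DFunLike.congr_fun hg (F.equivFinOfCardEq hF ⟨z, hz⟩).castSucc
    simpa [s] using this
  have hall := CfsgLib.HalfPrime.alternating_of_manning hr hcr hc (hcard.trans hcp) F hF htr
  have hsign : ∀ g : G, Equiv.Perm.sign (MulAction.toPerm g : Equiv.Perm Ω) = 1 :=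
    CfsgLib.HalfPrime.sign_eq_one hΩ (by omega) P hN
  have hinjP : Function.Injective (MulAction.toPermHom G Ω) := MulAction.toPerm_injective
  have hrange : (MulAction.toPermHom G Ω).range = alternatingGroup Ω := by
    refine le_antisymm ?_ fun σ hσ => ?_
    · rintro _ ⟨g, rfl⟩
      exact Equiv.Perm.mem_alternatingGroup.2 (hsign g)
    · obtain ⟨g, hg⟩ := hall σ (Equiv.Perm.mem_alternatingGroup.1 hσ)
      exact ⟨g, hg⟩
  exact ⟨((MonoidHom.ofInjective hinjP).trans (MulEquiv.subgroupCongr hrange)).trans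
    (Equiv.altCongrHom ((Fintype.equivFin Ω).trans (finCongr hcard)))⟩

end Cfsg.Agent.S3614
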