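import Cfsg.Statements.S3616
import Cfsg.Agent.HalfPrime.Overgroup

set_option autoImplicit false
set_option linter.style.haveILetI false
open Cfsg

namespace Cfsg.Agent.S3616

/-- Let p > 7 be prime and let X be a finite group acting faithfully on a set of p + 1 points by even permutations. Suppose X has a proper subgroup isomorphic to PSL(2, p) that acts doubly transitively on the set (such an action is necessarily the natural one on the projective line). Then X is 4-fold transitive. -/
theorem result {X Ω : Type*} [Group X] [Finite X] [MulAction X Ω] [FaithfulSMul X Ω] [Fintype Ω] [DecidableEq Ω]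
    (p : ℕ) (hp : p.Prime) (hp7 : 7 < p) (hΩ : Fintype.card Ω = p + 1)
    (heven : ∀ x : X, Equiv.Perm.sign (MulAction.toPerm x : Equiv.Perm Ω) = 1)
    (L : Subgroup X) (hL : Nonempty (↥L ≃* Matrix.ProjectiveSpecialLinearGroup (Fin 2) (ZMod p)))
    (hLt : MulAction.IsMultiplyPretransitive ↥L Ω 2) (hLX : L ≠ ⊤) :
    MulAction.IsMultiplyPretransitive X Ω 4 := by
  haveI : Fact p.Prime := ⟨hp⟩
  obtain ⟨e⟩ := hL
  obtain ⟨h, hh⟩ := hp.odd_of_ne_two (by omega)
  obtain ⟨v, t, w, hv, ht, hw, hwt, htv, hwv, hcard⟩ := CfsgLib.HalfPrime.exists_torus p (by omega)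
  rw [show (p - 1) / 2 = h by omega] at ht hcard
  haveI : MulAction.IsPretransitive ↥L Ω := by
    haveI := hLt
    exact MulAction.isPretransitive_of_is_two_pretransitive
  let f : Matrix.ProjectiveSpecialLinearGroup (Fin 2) (ZMod p) →* X :=
    L.subtype.comp e.symm.toMonoidHom
  have hf : Function.Injective f := L.subtype_injective.comp e.symm.injective
  have hzp : ∀ x, x ∈ Subgroup.zpowers (f v) ↔ ∃ y ∈ Subgroup.zpowers v, f y = x := by
    intro x
    rw [← MonoidHom.map_zpowers]
    exact Subgroup.mem_map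
  refine CfsgLib.HalfPrime.four_transitive hp7 hΩ heven L hLX h hh
    (by rw [Nat.card_congr e.toEquiv]; exact hcard) (f v) (f t) (f w) (e.symm v).2 (e.symm t).2
    (e.symm w).2 ((orderOf_injective f hf v).trans hv) ((orderOf_injective f hf t).trans ht)
    (by rw [← map_mul, hw, map_one]) (by rw [← map_mul, ← map_mul, hwt, map_inv])
    ((hzp _).2 ⟨_, htv, by rw [map_mul, map_mul, map_inv]⟩) fun hmem => hwv ?_
  obtain ⟨y, hy, hye⟩ := (hzp _).1 hmem
  rw [← map_mul, ← map_mul] at hye
  exact hf hye ▸ hy

end Cfsg.Agent.S3616
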