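import Cfsg.Statements.S3626
import Cfsg.Agent.ReeG2Tori.Classes
import Cfsg.Agent.ReeG2Spectrum.Isospectral

set_option autoImplicit false
open Cfsg

namespace Cfsg.Agent.S3626

/-- Let R be the small Ree group over the field with q = 3^(2m+1) ≥ 27 elements. Then there are finite groups of arbitrarily large order with exactly the same set of element orders as R × R × R. -/
theorem result {K : Type*} [Field K] [Fintype K] {m : ℕ} (hm : 1 ≤ m) (hK : Fintype.card K = 3 ^ (2 * m + 1)) (N : ℕ) :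
    ∃ (H : Type) (_ : Group H) (_ : Fintype H), N < Fintype.card H ∧
      Set.range (orderOf : H → ℕ) = Set.range (orderOf : ↥(Cfsg.Lie.twistedG2 K (3 ^ m)) × ↥(Cfsg.Lie.twistedG2 K (3 ^ m)) × ↥(Cfsg.Lie.twistedG2 K (3 ^ m)) → ℕ) := by
  have := CfsgLib.ReeG2Sylow.charP_three (m := m) hK
  have hK' : Nat.card K = 3 ^ (2 * m + 1) := by rw [Nat.card_eq_fintype_card, hK]
  have h8 := CfsgLib.ReeG2Tori.qq_mod_eight (m := m)
  have hq := CfsgLib.ReeG2Tori.le_qq hm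
  obtain ⟨A₁, A₂, h₁, h₂, hmul⟩ := CfsgLib.ReeG2Tori.class_singer hK' hm
  set q := CfsgLib.ReeG2Tori.qq m with hqdef
  set s₁ := q - 3 ^ (m + 1) + 1 with hs₁
  set s₂ := q + 3 ^ (m + 1) + 1 with hs₂
  have h3 : Nat.Coprime (CfsgLib.ReeG2Tori.nA m) 3 :=
    CfsgLib.ReeG2Tori.coprime_nA_qq.coprime_dvd_right CfsgLib.ReeG2Tori.three_dvd_qq
  have h3₁ : ¬ 3 ∣ s₁ := fun h =>
    (Nat.prime_three.coprime_iff_not_dvd.1 h3.symm) (hmul ▸ dvd_mul_of_dvd_left h _)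
  have h3₂ : ¬ 3 ∣ s₂ := fun h =>
    (Nat.prime_three.coprime_iff_not_dvd.1 h3.symm) (hmul ▸ dvd_mul_of_dvd_right h _)
  have hc : Nat.Coprime s₁ s₂ := by
    refine Nat.coprime_of_dvd fun p hp hd hd' => ?_
    have hle : 3 ^ (m + 1) ≤ q := Nat.pow_le_pow_right (by norm_num) (by omega)
    have h : p ∣ 2 * 3 ^ (m + 1) := by
      rw [show 2 * 3 ^ (m + 1) = s₂ - s₁ by omega]
      exact Nat.dvd_sub hd' hd
    rcases hp.dvd_mul.1 h with h | h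
    · have e := (Nat.prime_dvd_prime_iff_eq hp Nat.prime_two).1 h
      subst e
      exact absurd (h₁.odd.of_dvd_nat hd) (by decide)
    · have e := (Nat.prime_dvd_prime_iff_eq hp Nat.prime_three).1 (hp.dvd_of_dvd_pow h)
      subst e
      exact h3₁ hd
  obtain ⟨H, hG, hF, hN, hH⟩ := CfsgLib.ReeG2Spectrum.exists_isospectral (A := q - 1)
    (B := (q + 1) / 2) (s₁ := s₁) (s₂ := s₂) (by omega) (by omega) (by omega) (by omega) h₁.odd h₂.odd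
    h3₁ h3₂ hc (hmul.symm ▸ CfsgLib.ReeG2Tori.coprime_nA_sub.symm)
    (hmul.symm ▸ (CfsgLib.ReeG2Tori.coprime_nA_add.coprime_dvd_right
      (Nat.div_dvd_of_dvd (by omega))).symm) N
  refine ⟨H, hG, hF, hN, Set.ext fun d => (hH d).trans ?_⟩
  have hR : ∀ e, (∃ g : ↥(Cfsg.Lie.twistedG2 K (3 ^ m)), orderOf g = e) ↔
      ∃ x : Fin 6, e ∣ CfsgLib.ReeG2Spectrum.slot (q - 1) ((q + 1) / 2) s₁ s₂ x := by
    intro e
    refine (CfsgLib.ReeG2Tori.orderOf_iff hK' hm e).trans ?_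
    rw [Fin.exists_fin_succ, Fin.exists_fin_succ, Fin.exists_fin_succ, Fin.exists_fin_succ,
      Fin.exists_fin_succ, Fin.exists_fin_succ]
    simp [CfsgLib.ReeG2Spectrum.slot, ← hqdef, ← hs₁, ← hs₂]
    tauto
  constructor
  · rintro ⟨x, y, z, hd⟩
    obtain ⟨a, ha⟩ := (hR _).2 ⟨x, dvd_rfl⟩
    obtain ⟨b, hb⟩ := (hR _).2 ⟨y, dvd_rfl⟩
    obtain ⟨c, hc'⟩ := (hR _).2 ⟨z, dvd_rfl⟩
    have he : orderOf (a, b, c) ≠ 0 := by
      have := CfsgLib.ReeG2Sylow.finite_twisted (K := K) (m := m)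
      exact (orderOf_pos _).ne'
    have ho : d ∣ orderOf (a, b, c) := by rwa [Prod.orderOf, Prod.orderOf, ha, hb, hc']
    exact ⟨(a, b, c) ^ (orderOf (a, b, c) / d), orderOf_pow_orderOf_div he ho⟩
  · rintro ⟨⟨a, b, c⟩, rfl⟩
    obtain ⟨x, hx⟩ := (hR _).1 ⟨a, rfl⟩
    obtain ⟨y, hy⟩ := (hR _).1 ⟨b, rfl⟩
    obtain ⟨z, hz⟩ := (hR _).1 ⟨c, rfl⟩
    rw [Prod.orderOf, Prod.orderOf]
    exact ⟨x, y, z, Nat.lcm_dvd (hx.trans (Nat.dvd_lcm_left _ _)) (Nat.lcm_dvd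
      ((hy.trans (Nat.dvd_lcm_left _ _)).trans (Nat.dvd_lcm_right _ _))
      ((hz.trans (Nat.dvd_lcm_right _ _)).trans (Nat.dvd_lcm_right _ _)))⟩

end Cfsg.Agent.S3626
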