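import Cfsg.Statements.S3627
import Cfsg.Agent.S3599
import Cfsg.Agent.PrimeGraph.ModuleExtension
import Cfsg.Agent.J1.Orders

set_option autoImplicit false
open Cfsg

namespace Cfsg.Agent.S3627

open CfsgLib.PrimeGraph (piAction)
open Cfsg.Agent.S3599 (zeroSum shiftHom factor factor_spec)

/-- A semidirect product with a fixed-point-free action of a group of prime order. -/
theorem spectrum_semidirect {L V : Type*} [Group L] [Finite L] [CommGroup V] [Finite V]
    [Nontrivial V] (φ : L →* MulAut V) {p q : ℕ} (hp : p.Prime) (hq : q.Prime)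
    (hV : ∀ v : V, v ^ p = 1) (hL : Nat.card L = q)
    (hfix : ∀ (t : L) (v : V), t ≠ 1 → φ t v = v → v = 1) :
    Set.range (orderOf : V ⋊[φ] L → ℕ) = {1, p, q} := by
  have := Fact.mk hq
  have hLq : ∀ t : L, t ^ q = 1 := fun t => by rw [← hL]; exact pow_card_eq_one'
  refine Set.Subset.antisymm ?_ ?_
  · rintro _ ⟨x, rfl⟩
    by_cases hx : x.right = 1
    · have hx' : x = SemidirectProduct.inl x.left :=
        SemidirectProduct.ext (by simp) (by simpa using hx)
      have : x ^ p = 1 := by rw [hx', ← map_pow, hV, map_one]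
      rcases (Nat.dvd_prime hp).1 (orderOf_dvd_of_pow_eq_one this) with h | h <;> simp [h]
    · have hr : (x ^ q).right = 1 := by
        rw [← SemidirectProduct.rightHom_eq_right, map_pow]; exact hLq _
      have hc := congrArg SemidirectProduct.left (Commute.self_pow x q).eq
      rw [SemidirectProduct.mul_left, SemidirectProduct.mul_left, hr, map_one, MulAut.one_apply,
        mul_comm] at hc
      have : x ^ q = 1 := SemidirectProduct.ext (hfix _ _ hx (mul_right_cancel hc)) hr
      rcases (Nat.dvd_prime hq).1 (orderOf_dvd_of_pow_eq_one this) with h | h <;> simp [h]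
  · rintro n (rfl | rfl | rfl)
    · exact ⟨1, orderOf_one⟩
    · obtain ⟨v, hv⟩ := exists_ne (1 : V)
      exact ⟨SemidirectProduct.inl v, by
        rw [orderOf_injective _ SemidirectProduct.inl_injective]
        have := Fact.mk hp
        exact orderOf_eq_prime (hV v) hv⟩
    · obtain ⟨t, ht⟩ := exists_prime_orderOf_dvd_card' (G := L) n (by rw [hL])
      exact ⟨SemidirectProduct.inr t, by rw [orderOf_injective _ SemidirectProduct.inr_injective, ht]⟩

/-- The odd primes of `43890`. -/
def oddPrime : Fin 5 → ℕ := ![3, 5, 7, 11, 19]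

instance instNeZeroOddPrime (j : Fin 5) : NeZero (oddPrime j) :=
  ⟨by revert j; decide⟩

/-- The Frobenius group `2^(2(N+1)(r-1)/2) : r` used as a factor. -/
abbrev bigFactor (N : ℕ) (j : Fin 5) : Type :=
  (Fin (N + 1) → Multiplicative (zeroSum 2 (oddPrime j)))
    ⋊[piAction (shiftHom 2 (oddPrime j)) (Fin (N + 1))] Multiplicative (ZMod (oddPrime j))

theorem nontrivial_zeroSum (j : Fin 5) : Nontrivial (Multiplicative (zeroSum 2 (oddPrime j))) := by
  have hpr : (oddPrime j).Prime := by fin_cases j <;> norm_num [oddPrime]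
  have hne : 2 ≠ oddPrime j := by fin_cases j <;> norm_num [oddPrime]
  obtain ⟨x, hx⟩ : ∃ x : factor 2 (oddPrime j), orderOf x = 2 := by
    have h : 2 ∈ Set.range (orderOf : factor 2 (oddPrime j) → ℕ) := by
      rw [(factor_spec 2 _ Nat.prime_two hpr hne).1]; simp
    exact h
  by_contra h
  rw [not_nontrivial_iff_subsingleton] at h
  have hx1 : x = SemidirectProduct.inr x.right := SemidirectProduct.ext (Subsingleton.elim _ _) (by simp)
  have hq : x.right ^ oddPrime j = 1 := by
    apply Multiplicative.toAdd.injective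
    simp
  rw [hx1, orderOf_injective _ SemidirectProduct.inr_injective] at hx
  have := orderOf_dvd_of_pow_eq_one hq
  rw [hx] at this
  exact hne ((Nat.prime_dvd_prime_iff_eq Nat.prime_two hpr).1 this)

theorem spectrum_bigFactor (N : ℕ) (j : Fin 5) :
    Set.range (orderOf : bigFactor N j → ℕ) = {1, 2, oddPrime j} := by
  have hpr : (oddPrime j).Prime := by fin_cases j <;> norm_num [oddPrime]
  have hne : 2 ≠ oddPrime j := by fin_cases j <;> norm_num [oddPrime]
  have := nontrivial_zeroSum j
  refine spectrum_semidirect _ Nat.prime_two hpr (fun v => ?_) (by simp [Nat.card_eq_fintype_card]) ?_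
  · funext i
    apply Multiplicative.toAdd.injective
    apply Subtype.ext
    funext k
    simp [CharTwo.two_eq_zero]
  · intro t v ht hv
    funext i
    by_contra hvi
    set x : factor 2 (oddPrime j) := SemidirectProduct.inl (v i) * SemidirectProduct.inr t
    have hmem : orderOf x ∈ ({1, 2, oddPrime j} : Set ℕ) :=
      (factor_spec 2 _ Nat.prime_two hpr hne).1 ▸ ⟨x, rfl⟩
    have hfix : shiftHom 2 (oddPrime j) t (v i) = v i := congrFun hv i
    have hcomm : Commute (SemidirectProduct.inl (v i) : factor 2 (oddPrime j))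
        (SemidirectProduct.inr t) := SemidirectProduct.ext (by simp [hfix]) (by simp)
    have ht' : orderOf t = oddPrime j := by
      have := Fact.mk hpr
      refine orderOf_eq_prime ?_ ht
      apply Multiplicative.toAdd.injective
      simp
    have hv' : orderOf (v i) = 2 := by
      refine orderOf_eq_prime ?_ hvi
      apply Multiplicative.toAdd.injective
      apply Subtype.ext
      funext k
      simp [CharTwo.two_eq_zero]
    have hx : orderOf x = 2 * oddPrime j := by
      rw [hcomm.orderOf_mul_eq_mul_orderOf_of_coprime (by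
        rw [orderOf_injective _ SemidirectProduct.inl_injective,
          orderOf_injective _ SemidirectProduct.inr_injective, hv', ht']
        exact (Nat.coprime_primes Nat.prime_two hpr).2 hne),
        orderOf_injective _ SemidirectProduct.inl_injective,
        orderOf_injective _ SemidirectProduct.inr_injective, hv', ht']
    rw [hx] at hmem
    revert hmem
    fin_cases j <;> norm_num [oddPrime]

/-- All proper divisors of `43890`. -/
def target : Set ℕ := {n | n ∣ 43890 ∧ n ≠ 43890}

theorem mem_of_dvd_witness {G : Type*} [Group G] [Finite G] {n : ℕ}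
    (hw : ∀ r ∈ [2, 3, 5, 7, 11, 19], ∃ g : G, orderOf g = 43890 / r) (hn : n ∈ target) :
    ∃ g : G, orderOf g = n := by
  obtain ⟨hd, hne⟩ := hn
  obtain ⟨k, hk⟩ := hd
  obtain ⟨r, hr, hrk⟩ := Nat.exists_prime_and_dvd (show k ≠ 1 from fun h => hne (by rw [hk, h, mul_one]))
  have hr' : r ∈ [2, 3, 5, 7, 11, 19] := by
    have h : r ∣ 43890 := hk ▸ hrk.mul_left n
    rw [show 43890 = 2 * (3 * (5 * (7 * (11 * 19)))) by norm_num] at h
    have key : ∀ p : ℕ, p.Prime → r ∣ p → r = p := fun p hp h' => (Nat.prime_dvd_prime_iff_eq hr hp).1 h'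
    rcases hr.dvd_mul.1 h with h | h
    · simp [key 2 (by norm_num) h]
    rcases hr.dvd_mul.1 h with h | h
    · simp [key 3 (by norm_num) h]
    rcases hr.dvd_mul.1 h with h | h
    · simp [key 5 (by norm_num) h]
    rcases hr.dvd_mul.1 h with h | h
    · simp [key 7 (by norm_num) h]
    rcases hr.dvd_mul.1 h with h | h
    · simp [key 11 (by norm_num) h]
    · simp [key 19 (by norm_num) h]
  obtain ⟨g, hg⟩ := hw r hr'
  have hnd : n ∣ orderOf g := by
    obtain ⟨c, rfl⟩ := hrk
    refine ⟨c, ?_⟩
    rw [hg, hk, show n * (r * c) = r * (n * c) by ring, Nat.mul_div_cancel_left _ hr.pos]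
  exact ⟨g ^ (orderOf g / n), orderOf_pow_orderOf_div (orderOf_pos g).ne' hnd⟩

/-- The element orders of `J₁` as a list. -/
def ordersJ : List ℕ := [1, 2, 3, 5, 6, 7, 10, 11, 15, 19]

theorem lcm4_check : ∀ a ∈ ordersJ, ∀ b ∈ ordersJ, ∀ c ∈ ordersJ, ∀ d ∈ ordersJ,
    Nat.lcm a (Nat.lcm b (Nat.lcm c d)) ∣ 43890 ∧ Nat.lcm a (Nat.lcm b (Nat.lcm c d)) ≠ 43890 := by
  decide +kernel

theorem spectrum_four :
    Set.range (orderOf : ↥Cfsg.Spor.J1 × ↥Cfsg.Spor.J1 × ↥Cfsg.Spor.J1 × ↥Cfsg.Spor.J1 → ℕ) =
      target := by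
  have hJ := CfsgLib.J1.range_orderOf_J1
  have hmem : ∀ g : Cfsg.Spor.J1, orderOf g ∈ ordersJ := fun g =>
    (Set.ext_iff.1 hJ _).1 ⟨g, rfl⟩
  have hex : ∀ n ∈ ordersJ, ∃ g : Cfsg.Spor.J1, orderOf g = n := fun n hn =>
    (Set.ext_iff.1 hJ n).2 hn
  have : Finite Cfsg.Spor.J1 := Nat.finite_of_card_ne_zero (by rw [CfsgLib.J1.card_J1]; norm_num)
  refine Set.Subset.antisymm ?_ fun n hn => mem_of_dvd_witness (fun r hr => ?_) hn
  · rintro _ ⟨⟨a, b, c, d⟩, rfl⟩
    rw [Prod.orderOf, Prod.orderOf, Prod.orderOf]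
    exact lcm4_check _ (hmem a) _ (hmem b) _ (hmem c) _ (hmem d)
  · have pick : ∀ a ∈ ordersJ, ∀ b ∈ ordersJ, ∀ c ∈ ordersJ, ∀ d ∈ ordersJ,
        Nat.lcm a (Nat.lcm b (Nat.lcm c d)) = 43890 / r →
        ∃ g : ↥Cfsg.Spor.J1 × ↥Cfsg.Spor.J1 × ↥Cfsg.Spor.J1 × ↥Cfsg.Spor.J1,
          orderOf g = 43890 / r := by
      intro a ha b hb c hc d hd h
      obtain ⟨x, hx⟩ := hex a ha
      obtain ⟨y, hy⟩ := hex b hb
      obtain ⟨z, hz⟩ := hex c hc
      obtain ⟨w, hw⟩ := hex d hd
      exact ⟨(x, y, z, w), by rw [Prod.orderOf, Prod.orderOf, Prod.orderOf, hx, hy, hz, hw, h]⟩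
    simp only [List.mem_cons, List.not_mem_nil, or_false] at hr
    rcases hr with rfl | rfl | rfl | rfl | rfl | rfl
    · exact pick 7 (by decide) 11 (by decide) 19 (by decide) 15 (by decide) (by decide +kernel)
    · exact pick 7 (by decide) 11 (by decide) 19 (by decide) 10 (by decide) (by decide +kernel)
    · exact pick 7 (by decide) 11 (by decide) 19 (by decide) 6 (by decide) (by decide +kernel)
    · exact pick 11 (by decide) 19 (by decide) 6 (by decide) 5 (by decide) (by decide +kernel)
    · exact pick 7 (by decide) 19 (by decide) 6 (by decide) 5 (by decide) (by decide +kernel)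
    · exact pick 7 (by decide) 11 (by decide) 6 (by decide) 5 (by decide) (by decide +kernel)

theorem spectrum_product (N : ℕ) :
    Set.range (orderOf : ((j : Fin 5) → bigFactor N j) → ℕ) = target := by
  have : ∀ j, Finite (bigFactor N j) := fun j => Finite.of_equiv _ SemidirectProduct.equivProd.symm
  have hspec := spectrum_bigFactor N
  have hord : ∀ x : (j : Fin 5) → bigFactor N j,
      orderOf x = Finset.univ.lcm fun j => orderOf (x j) := fun x => Nat.dvd_antisymm
    (orderOf_dvd_iff_pow_eq_one.2 (funext fun j => by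
      rw [Pi.pow_apply, Pi.one_apply]
      exact orderOf_dvd_iff_pow_eq_one.1
        (Finset.dvd_lcm (f := fun j => orderOf (x j)) (Finset.mem_univ j))))
    (Finset.lcm_dvd fun j _ => orderOf_map_dvd (Pi.evalMonoidHom (bigFactor N) j) x)
  have hval : ∀ (x : (j : Fin 5) → bigFactor N j) (j : Fin 5),
      orderOf (x j) = 1 ∨ orderOf (x j) = 2 ∨ orderOf (x j) = oddPrime j := fun x j => by
    have h : orderOf (x j) ∈ ({1, 2, oddPrime j} : Set ℕ) := hspec j ▸ ⟨x j, rfl⟩
    simpa using h
  refine Set.Subset.antisymm ?_ fun n hn => mem_of_dvd_witness (fun r hr => ?_) hn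
  · rintro _ ⟨x, rfl⟩
    show orderOf x ∈ target
    rw [hord]
    have key : ∀ a ∈ [1, 2, 3], ∀ b ∈ [1, 2, 5], ∀ c ∈ [1, 2, 7], ∀ d ∈ [1, 2, 11], ∀ e ∈ [1, 2, 19],
        Nat.lcm a (Nat.lcm b (Nat.lcm c (Nat.lcm d e))) ∣ 43890 ∧
        Nat.lcm a (Nat.lcm b (Nat.lcm c (Nat.lcm d e))) ≠ 43890 := by decide +kernel
    have e5 : (Finset.univ.lcm fun j => orderOf (x j)) = Nat.lcm (orderOf (x 0)) (Nat.lcm (orderOf (x 1))
        (Nat.lcm (orderOf (x 2)) (Nat.lcm (orderOf (x 3)) (orderOf (x 4))))) := by
      rw [show (Finset.univ : Finset (Fin 5)) = {0, 1, 2, 3, 4} from by decide]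
      simp [Finset.lcm_insert, lcm_eq_nat_lcm]
    rw [e5]
    refine key _ ?_ _ ?_ _ ?_ _ ?_ _ ?_
    · rcases hval x 0 with h | h | h <;> simp [h, oddPrime]
    · rcases hval x 1 with h | h | h <;> simp [h, oddPrime]
    · rcases hval x 2 with h | h | h <;> simp [h, oddPrime]
    · rcases hval x 3 with h | h | h <;> simp [h, oddPrime]
    · rcases hval x 4 with h | h | h <;> simp [h, oddPrime]
  · have pick : ∀ o : Fin 5 → ℕ, (∀ j, o j = 2 ∨ o j = oddPrime j) →
        Finset.univ.lcm o = 43890 / r → ∃ g : (j : Fin 5) → bigFactor N j, orderOf g = 43890 / r := by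
      intro o ho h
      have hy : ∀ j, ∃ y : bigFactor N j, orderOf y = o j := fun j => by
        have h : o j ∈ Set.range (orderOf : bigFactor N j → ℕ) := by
          rw [hspec j]; rcases ho j with h | h <;> simp [h]
        exact h
      choose y hy using hy
      refine ⟨y, ?_⟩
      rw [hord, ← h]
      exact Finset.lcm_congr rfl fun j _ => hy j
    simp only [List.mem_cons, List.not_mem_nil, or_false] at hr
    rcases hr with rfl | rfl | rfl | rfl | rfl | rfl
    · exact pick ![3, 5, 7, 11, 19] (by decide) (by decide +kernel)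
    · exact pick ![2, 5, 7, 11, 19] (by decide) (by decide +kernel)
    · exact pick ![3, 2, 7, 11, 19] (by decide) (by decide +kernel)
    · exact pick ![3, 5, 2, 11, 19] (by decide) (by decide +kernel)
    · exact pick ![3, 5, 7, 2, 19] (by decide) (by decide +kernel)
    · exact pick ![3, 5, 7, 11, 2] (by decide) (by decide +kernel)

/-- Let J be the first Janko group. Then there are finite groups of arbitrarily large order with exactly the same set of element orders as J × J × J × J. -/
theorem result (N : ℕ) : ∃ (H : Type) (_ : Group H) (_ : Fintype H), N < Fintype.card H ∧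
      Set.range (orderOf : H → ℕ) = Set.range (orderOf : ↥Cfsg.Spor.J1 × ↥Cfsg.Spor.J1 × ↥Cfsg.Spor.J1 × ↥Cfsg.Spor.J1 → ℕ) := by
  classical
  have : ∀ j, Finite (bigFactor N j) := fun j => Finite.of_equiv _ SemidirectProduct.equivProd.symm
  refine ⟨(j : Fin 5) → bigFactor N j, inferInstance, Fintype.ofFinite _, ?_,
    by rw [spectrum_product, spectrum_four]⟩
  rw [Fintype.card_eq_nat_card]
  have := nontrivial_zeroSum 0
  have h1 : N < Nat.card (Fin (N + 1) → Multiplicative (zeroSum 2 (oddPrime 0))) := by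
    rw [Nat.card_fun, Nat.card_fin]
    calc N < 2 ^ (N + 1) := (Nat.lt_succ_self N).trans Nat.lt_two_pow_self
      _ ≤ _ := Nat.pow_le_pow_left Finite.one_lt_card _
  refine h1.trans_le ?_
  calc Nat.card (Fin (N + 1) → Multiplicative (zeroSum 2 (oddPrime 0)))
      ≤ Nat.card (bigFactor N 0) := Nat.card_le_card_of_injective _ SemidirectProduct.inl_injective
    _ ≤ Nat.card ((j : Fin 5) → bigFactor N j) :=
      Nat.card_le_card_of_surjective (fun x => x 0) (Function.surjective_eval 0)

end Cfsg.Agent.S3627
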