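import Cfsg.Statements.S3639
import Cfsg.Agent.Suzuki.Centralizers
import Cfsg.Agent.Suzuki.LieModel
import Cfsg.Agent.PrimeGraph.ModuleExtension

set_option autoImplicit false
open Cfsg

namespace Cfsg.Agent.S3639

open CfsgLib.Suzuki Matrix Polynomial

/-- An element of odd prime order of the Suzuki group fixes no non-zero vector. -/
theorem eq_two_of_fixed {F : Type*} [Field F] [Fintype F] {m : ℕ} (hS : SzField F m)
    (g : Cfsg.Sz F m) {r : ℕ} (hr : r.Prime) (hg : orderOf g = r) (v : Fin 4 → F) (hv : v ≠ 0)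
    (h : ((g : Matrix.SpecialLinearGroup (Fin 4) F) : Matrix (Fin 4) (Fin 4) F) *ᵥ v = v) :
    r = 2 := by
  by_contra hr2
  have hg1 : g ≠ 1 := fun h1 => hr.one_lt.ne' (by rw [← hg, h1, orderOf_one])
  by_cases hA : r ∣ Fintype.card F ^ 2 + 1
  · obtain ⟨hirr, hdeg⟩ := anis_matrix hS ⟨hr, hA⟩ hg
    set M := ((g : Matrix.SpecialLinearGroup (Fin 4) F) : Matrix (Fin 4) (Fin 4) F) with hM
    have hkey : ∀ f : F[X], (aeval M f) *ᵥ v = f.eval 1 • v := by
      intro f
      induction f using Polynomial.induction_on' with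
      | add a b ha hb => simp [add_mulVec, ha, hb, add_smul]
      | monomial k c =>
        have hk : ∀ k : ℕ, (M ^ k) *ᵥ v = v := by
          intro k
          induction k with
          | zero => simp
          | succ k ih => rw [pow_succ, ← mulVec_mulVec, h, ih]
        simp [aeval_monomial, ← mulVec_mulVec, smul_mulVec, hk, Algebra.algebraMap_eq_smul_one]
    have h0 := hkey (minpoly F M)
    rw [minpoly.aeval, Matrix.zero_mulVec, eq_comm, smul_eq_zero] at h0
    have hd : X - C (1 : F) ∣ minpoly F M := dvd_iff_isRoot.2 (h0.resolve_right hv)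
    have := natDegree_eq_of_degree_eq
      (degree_eq_degree_of_associated ((irreducible_X_sub_C (1 : F)).associated_of_dvd hirr hd))
    rw [natDegree_X_sub_C, hdeg] at this
    omega
  · obtain ⟨k, hk⟩ := fixesPoint_cases hS hg1 (fixesPoint_of_prime_order hr hA hg)
    have hord : orderOf (k * g * k⁻¹) = r := by
      rw [← MulAut.conj_apply k g]
      exact (MulEquiv.orderOf_eq (MulAut.conj k) g).trans hg
    rcases hk with ⟨a, b, e⟩ | ⟨μ, hμ, e⟩
    · have := hS.charP
      have h4 : (k * g * k⁻¹) ^ 4 = 1 := by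
        rw [e, (pow_mul (uniEl hS a b) 2 2 : uniEl hS a b ^ 4 = _), pow_two (uniEl hS a b), uniEl_mul, pow_two, uniEl_mul,
          ← uniEl_zero hS,
          uniEl_eq_iff]
        simp [CharTwo.add_self_eq_zero, θ_def]
      have h2 := orderOf_dvd_of_pow_eq_one h4
      rw [hord] at h2
      exact hr2 ((Nat.prime_dvd_prime_iff_eq hr Nat.prime_two).1
        (hr.dvd_of_dvd_pow (show r ∣ 2 ^ 2 from h2)))
    · set w := ((k : Matrix.SpecialLinearGroup (Fin 4) F) : Matrix (Fin 4) (Fin 4) F) *ᵥ v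
      have hw : torMat m μ *ᵥ w = w := by
        have h1 := congrArg (fun x : Cfsg.Sz F m =>
          ((x : Matrix.SpecialLinearGroup (Fin 4) F) : Matrix (Fin 4) (Fin 4) F) *ᵥ w) e
        refine Eq.trans h1.symm ?_
        show ((k * g * k⁻¹ : Cfsg.Sz F m) : Matrix.SpecialLinearGroup (Fin 4) F).1 *ᵥ w = w
        have h2 : (k * g * k⁻¹) * k = k * g := by group
        have h3 : ((k * g * k⁻¹ : Cfsg.Sz F m) : Matrix.SpecialLinearGroup (Fin 4) F).1 *
            ((k : Matrix.SpecialLinearGroup (Fin 4) F) : Matrix (Fin 4) (Fin 4) F) =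
            ((k : Matrix.SpecialLinearGroup (Fin 4) F) : Matrix (Fin 4) (Fin 4) F) *
            ((g : Matrix.SpecialLinearGroup (Fin 4) F) : Matrix (Fin 4) (Fin 4) F) :=
          congrArg (fun x : Cfsg.Sz F m =>
            ((x : Matrix.SpecialLinearGroup (Fin 4) F) : Matrix (Fin 4) (Fin 4) F)) h2
        rw [mulVec_mulVec, h3, ← mulVec_mulVec, h]
      have hu0 : (μ : F) ^ (2 ^ m) ≠ 1 := fun h1 =>
        hμ (Units.ext ((pow_two_pow_bijective hS m).1 (h1.trans (one_pow (2 ^ m)).symm)))
      have hu1 : (μ : F) ^ (2 ^ m + 1) ≠ 1 := fun h1 => by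
        apply hμ
        apply Units.ext
        apply self_mul_θ_injective hS
        have hq : (μ : F) ^ (2 ^ (2 * m + 1)) = μ := by rw [← hS.card_eq]; exact FiniteField.pow_card _
        have := congrArg (θ m) h1
        rw [θ_def, θ_def, ← pow_mul, one_pow, add_mul, one_mul, pow_add, ← pow_add 2 m,
          show m + (m + 1) = 2 * m + 1 by ring, hq] at this
        simp [θ_def, this]
      have hwz : w = 0 := by
        ext i
        have hi := congrFun hw i
        fin_cases i <;>
          simp [torMat, mulVec, dotProduct, Fin.sum_univ_four] at hi ⊢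
        · by_contra hne
          exact hu1 (mul_right_cancel₀ hne (hi.trans (one_mul _).symm))
        · by_contra hne
          exact hu0 (mul_right_cancel₀ hne (hi.trans (one_mul _).symm))
        · by_contra hne
          exact hu0 (inv_eq_one.1 (mul_right_cancel₀ hne (hi.trans (one_mul _).symm)))
        · by_contra hne
          exact hu1 (inv_eq_one.1 (mul_right_cancel₀ hne (hi.trans (one_mul _).symm)))
      apply hv
      have h2 : ((k⁻¹ * k : Cfsg.Sz F m) : Matrix.SpecialLinearGroup (Fin 4) F).1 *ᵥ v = v := by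
        rw [inv_mul_cancel]
        exact one_mulVec v
      rw [← h2]
      show (((k⁻¹ : Cfsg.Sz F m) : Matrix.SpecialLinearGroup (Fin 4) F).1 *
        ((k : Matrix.SpecialLinearGroup (Fin 4) F) : Matrix (Fin 4) (Fin 4) F)) *ᵥ v = 0
      rw [← mulVec_mulVec]
      show ((k⁻¹ : Cfsg.Sz F m) : Matrix.SpecialLinearGroup (Fin 4) F).1 *ᵥ w = 0
      rw [hwz, mulVec_zero]

/-- Let S be the Suzuki group over the field with q = 2^(2m+1) ≥ 8 elements. Then there are finite groups of arbitrarily large order with the same prime graph as S. -/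
theorem result {F : Type*} [Field F] [Fintype F] {m : ℕ} (hm : 1 ≤ m) (hF : Fintype.card F = 2 ^ (2 * m + 1)) (N : ℕ) :
    ∃ (H : Type) (_ : Group H) (_ : Fintype H), N < Fintype.card H ∧ ((∀ r : ℕ, r.Prime → (r ∣ Nat.card ↥(Cfsg.Lie.Sz F (2 ^ (m + 1))) ↔ r ∣ Nat.card H)) ∧
      (∀ r s : ℕ, r.Prime → s.Prime → r ≠ s → ((∃ x : ↥(Cfsg.Lie.Sz F (2 ^ (m + 1))), orderOf x = r * s) ↔ (∃ y : H, orderOf y = r * s)))) := by
  have hS : SzField F m := ⟨hm, hF⟩
  have := hS.charP
  let e := lieSzEquiv hS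
  have h2 : 2 ∣ Nat.card (Cfsg.Sz F m) := by
    have h : orderOf (uniEl hS (0 : F) 1) = 2 := by
      refine orderOf_eq_prime ?_ ?_
      · rw [pow_two, uniEl_mul, ← uniEl_zero hS, uniEl_eq_iff]
        simp [CharTwo.add_self_eq_zero]
      · rw [← uniEl_zero hS, Ne, uniEl_eq_iff]
        simp
    have h' := orderOf_dvd_natCard (uniEl hS (0 : F) 1)
    rwa [h] at h'
  obtain ⟨H, iH, fH, hN, h1, h3⟩ := CfsgLib.PrimeGraph.exists_large_same_graph
    (CfsgLib.PrimeGraph.vecAction.comp
      (Matrix.SpecialLinearGroup.toGL.comp (Cfsg.Sz F m).subtype :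
        Cfsg.Sz F m →* GL (Fin 4) F))
    (V := Multiplicative (Fin 4 → F)) Nat.prime_two
    (fun v => by
      apply Multiplicative.toAdd.injective
      ext i
      simp [CharTwo.two_eq_zero])
    h2
    (fun g r hr hr2 hg v hv hv1 => absurd
      (eq_two_of_fixed hS g hr hg v.toAdd (fun h => hv1 (Multiplicative.toAdd.injective h))
        (CfsgLib.PrimeGraph.mulVec_eq_of_vecAction hv)) hr2) N
  have := Fintype.ofFinite H
  refine ⟨H, iH, inferInstance, by rwa [← Nat.card_eq_fintype_card], fun r hr => ?_,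
    fun r s hr hs hrs => ?_⟩
  · rw [← Nat.card_congr e.toEquiv]; exact h1 r hr
  · rw [← h3 r s hr hs hrs]
    exact ⟨fun ⟨g, hg⟩ => ⟨e.symm g, by rw [MulEquiv.orderOf_eq, hg]⟩,
      fun ⟨g, hg⟩ => ⟨e g, by rw [MulEquiv.orderOf_eq, hg]⟩⟩

end Cfsg.Agent.S3639
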