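import Cfsg.Statements.S3641
import Cfsg.Agent.SylowEighteen.Kernel
import Cfsg.Agent.SylowEighteen.Projective

set_option autoImplicit false
set_option linter.style.haveILetI false
open Cfsg

namespace Cfsg.Agent.S3641

/-- Let G be a finite group with trivial centre whose set of Sylow numbers (numbers of Sylow r-subgroups, r over the prime divisors of its order) is exactly {18, 136, 153}. Then G is isomorphic to PSL(2, 17) or to PGL(2, 17). -/
theorem result {G : Type*} [Group G] [Finite G] (hZ : Subgroup.center G = ⊥) (hNS : {c : ℕ | ∃ r : ℕ, r.Prime ∧ r ∣ Nat.card G ∧ c = Nat.card (Sylow r G)} = ({18, 136, 153} : Set ℕ))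
    {F : Type*} [Field F] [Fintype F] (hF : Fintype.card F = 17) :
    Nonempty (G ≃* Matrix.ProjectiveSpecialLinearGroup (Fin 2) F) ∨ Nonempty (G ≃* (GL (Fin 2) F ⧸ Subgroup.center (GL (Fin 2) F))) := by
  classical
  haveI h2p : Fact (Nat.Prime 2) := ⟨Nat.prime_two⟩
  haveI h3p : Fact (Nat.Prime 3) := ⟨Nat.prime_three⟩
  haveI h17p : Fact (Nat.Prime 17) := ⟨by norm_num⟩
  have hmem : ∀ r, r.Prime → r ∣ Nat.card G → Nat.card (Sylow r G) = 18 ∨
      Nat.card (Sylow r G) = 136 ∨ Nat.card (Sylow r G) = 153 := by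
    intro r hr hrd
    have : Nat.card (Sylow r G) ∈ ({18, 136, 153} : Set ℕ) := by
      rw [← hNS]; exact ⟨r, hr, hrd, rfl⟩
    simpa using this
  have hdvd : ∀ r, r.Prime → r ∣ Nat.card G → (r ∣ Nat.card (Sylow r G) - 1) := by
    intro r hr _
    haveI : Fact r.Prime := ⟨hr⟩
    exact (Nat.modEq_iff_dvd' Nat.card_pos).1 (card_sylow_modEq_one r G).symm
  have hn17 : 17 ∣ Nat.card G ∧ Nat.card (Sylow 17 G) = 18 := by
    obtain ⟨r, hr, hrd, hc⟩ : (18 : ℕ) ∈ {c : ℕ | ∃ r : ℕ, r.Prime ∧ r ∣ Nat.card G ∧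
        c = Nat.card (Sylow r G)} := by rw [hNS]; simp
    have h := hdvd r hr hrd
    rw [← hc] at h
    have hr17 : r = 17 := (Nat.prime_dvd_prime_iff_eq hr (by norm_num)).1 h
    subst hr17
    exact ⟨hrd, hc.symm⟩
  obtain ⟨P₀⟩ : Nonempty (Sylow 17 G) := inferInstance
  have h18 : 18 ∣ Nat.card G := by
    rw [← hn17.2]
    exact P₀.card_dvd_index.trans (Subgroup.index_dvd_card _)
  have h2G : 2 ∣ Nat.card G := (show 2 ∣ 18 by norm_num).trans h18
  have h3G : 3 ∣ Nat.card G := (show 3 ∣ 18 by norm_num).trans h18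
  have hn2 : Nat.card (Sylow 2 G) = 153 := by
    have h := hdvd 2 Nat.prime_two h2G
    rcases hmem 2 Nat.prime_two h2G with e | e | e <;> rw [e] at h ⊢ <;> omega
  have hn3 : Nat.card (Sylow 3 G) = 136 := by
    have h := hdvd 3 Nat.prime_three h3G
    rcases hmem 3 Nat.prime_three h3G with e | e | e <;> rw [e] at h ⊢ <;> omega
  -- the action on the Sylow 17-subgroups
  haveI := Fintype.ofFinite (Sylow 17 G)
  let ρ : G →* Equiv.Perm (Sylow 17 G) := MulAction.toPermHom G (Sylow 17 G)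
  have hsurj : Function.Surjective ρ.rangeRestrict := ρ.rangeRestrict_surjective
  have hkerρ : ρ.rangeRestrict.ker = ρ.ker := MonoidHom.ker_rangeRestrict ρ
  have hrot : ∀ P : Sylow 17 G, Nat.card ((P : Subgroup G).map ρ.rangeRestrict) = 17 := by
    intro P
    obtain ⟨k, hk⟩ := IsPGroup.iff_card.1 (P.isPGroup'.map ρ.rangeRestrict)
    have hdv : 17 ^ k ∣ Nat.factorial 18 := by
      rw [← hk, ← hn17.2, Nat.card_eq_fintype_card (α := Sylow 17 G), ← Fintype.card_perm,
        ← Nat.card_eq_fintype_card]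
      exact (Subgroup.card_subgroup_dvd_card _).trans (Subgroup.card_subgroup_dvd_card _)
    have hk1 : k ≤ 1 := by
      by_contra hk1
      push Not at hk1
      have : 17 ^ 2 ∣ Nat.factorial 18 := (pow_dvd_pow 17 hk1).trans hdv
      norm_num [Nat.factorial] at this
    have hk0 : k ≠ 0 := by
      rintro rfl
      rw [pow_zero, Subgroup.card_eq_one, Subgroup.map_eq_bot_iff, hkerρ] at hk
      haveI : Nontrivial (Sylow 17 G) := Finite.one_lt_card_iff_nontrivial.1 (by omega)
      obtain ⟨Q, hQ⟩ := exists_ne P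
      have hle : (P : Subgroup G) ≤ Subgroup.normalizer ((Q : Subgroup G) : Set G) := fun x hx =>
        Sylow.smul_eq_iff_mem_normalizer.1 (Equiv.ext_iff.1 (MonoidHom.mem_ker.1 (hk hx)) Q)
      refine hQ (Sylow.ext (P.3 Q.isPGroup' fun x hx => ?_))
      exact CfsgLib.SylowEighteen.mem_of_isPGroup_of_normalizes Q (hle hx)
        (by obtain ⟨j, hj⟩ := IsPGroup.iff_orderOf.1 P.isPGroup' ⟨x, hx⟩
            exact ⟨j, by rw [← Subgroup.orderOf_coe] at hj; exact hj⟩)
    rw [hk, show k = 1 by omega, pow_one]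
  have hsetup : CfsgLib.SylowEighteen.Setup ρ.range (Sylow 17 G) := by
    refine ⟨hn17.2, fun P => ?_⟩
    obtain ⟨⟨u', hu'⟩, hu1⟩ := exists_prime_orderOf_dvd_card'
      (G := ((P : Subgroup G).map ρ.rangeRestrict : Subgroup ρ.range)) 17 (by rw [hrot P])
    rw [← Subgroup.orderOf_coe] at hu1
    replace hu1 : orderOf u' = 17 := hu1
    have hzp : Subgroup.zpowers u' = (P : Subgroup G).map ρ.rangeRestrict :=
      Subgroup.eq_of_le_of_card_ge (Subgroup.zpowers_le.2 hu')
        (by rw [hrot P, Nat.card_zpowers, hu1])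
    obtain ⟨u, hu, rfl⟩ := hu'
    refine ⟨ρ.rangeRestrict u, hu1, ?_, fun Q hQ => ?_, fun x hx => ?_⟩
    · exact Sylow.smul_eq_iff_mem_normalizer.2 (Subgroup.le_normalizer hu)
    · refine Sylow.ext (P.3 Q.isPGroup' fun x hx => ?_)
      refine CfsgLib.SylowEighteen.mem_of_isPGroup_of_normalizes Q ?_
        (by obtain ⟨j, hj⟩ := IsPGroup.iff_orderOf.1 P.isPGroup' ⟨x, hx⟩
            exact ⟨j, by rw [← Subgroup.orderOf_coe] at hj; exact hj⟩)
      refine Sylow.smul_eq_iff_mem_normalizer.1 ?_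
      have hxm : ρ.rangeRestrict x ∈ Subgroup.zpowers (ρ.rangeRestrict u) :=
        hzp ▸ ⟨x, hx, rfl⟩
      show ρ.rangeRestrict x • Q = Q
      exact CfsgLib.SylowEighteen.smul_eq_of_mem_zpowers hxm hQ
    · obtain ⟨g, rfl⟩ := hsurj x
      have hg : g ∈ Subgroup.normalizer ((P : Subgroup G) : Set G) :=
        Sylow.smul_eq_iff_mem_normalizer.1 hx
      rw [hzp, ← map_inv, ← map_mul, ← map_mul]
      exact ⟨g * u * g⁻¹, (Subgroup.mem_normalizer_iff.1 hg u).1 hu, rfl⟩
  have hdvd3 : Nat.card (Sylow 3 ρ.range) ∣ 136 :=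
    hn3 ▸ CfsgLib.SylowEighteen.card_sylow_dvd_of_surjective hsurj 3
  obtain ⟨hX3, hXev, hXcard⟩ := CfsgLib.SylowEighteen.main hsetup hdvd3
  have hX2 := CfsgLib.SylowEighteen.card_sylow_two hsetup hXcard
  have hK2 : ∀ S : Sylow 2 G, ρ.ker ≤ Subgroup.normalizer ((S : Subgroup G) : Set G) := fun S =>
    hkerρ ▸ CfsgLib.SylowEighteen.ker_le_normalizer_of_card_eq hsurj 2 (hn2.trans hX2.symm) S
  have hK3 : ∀ S : Sylow 3 G, ρ.ker ≤ Subgroup.normalizer ((S : Subgroup G) : Set G) := fun S =>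
    hkerρ ▸ CfsgLib.SylowEighteen.ker_le_normalizer_of_card_eq hsurj 3 (hn3.trans hX3.symm) S
  have hK17 : ∀ S : Sylow 17 G, ρ.ker ≤ Subgroup.normalizer ((S : Subgroup G) : Set G) :=
    fun S x hx => Sylow.smul_eq_iff_mem_normalizer.1 (Equiv.ext_iff.1 (MonoidHom.mem_ker.1 hx) S)
  have hbot : ρ.ker = ⊥ := by
    refine CfsgLib.SylowEighteen.eq_bot_of_normalizes hZ ρ.ker fun t ht T htG => ?_
    by_cases ht2 : t = 2
    · subst ht2; exact hK2 T
    by_cases ht3 : t = 3
    · subst ht3; exact hK3 T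
    by_cases ht17 : t = 17
    · subst ht17; exact hK17 T
    exfalso
    have htp : t.Prime := ht.out
    have hTle : (T : Subgroup G) ≤ ρ.ker := by
      intro x hx
      obtain ⟨j, hj⟩ := IsPGroup.iff_orderOf.1 T.isPGroup' ⟨x, hx⟩
      rw [← Subgroup.orderOf_coe] at hj
      rw [← hkerρ, MonoidHom.mem_ker, ← orderOf_eq_one_iff]
      have h1 : orderOf (ρ.rangeRestrict x) ∣ t ^ j :=
        (show orderOf x = t ^ j from hj) ▸ orderOf_map_dvd _ x
      have h2 : orderOf (ρ.rangeRestrict x) ∣ 2 ^ 5 * (3 ^ 2 * 17) := by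
        refine (orderOf_dvd_natCard _).trans ?_
        rcases hXcard with e | e <;> rw [e] <;> norm_num
      have hco : Nat.Coprime (t ^ j) (2 ^ 5 * (3 ^ 2 * 17)) := by
        refine Nat.Coprime.pow_left j ?_
        refine Nat.Coprime.mul_right ?_ (Nat.Coprime.mul_right ?_ ?_)
        · exact Nat.Coprime.pow_right _ ((Nat.coprime_primes htp Nat.prime_two).2 ht2)
        · exact Nat.Coprime.pow_right _ ((Nat.coprime_primes htp Nat.prime_three).2 ht3)
        · exact (Nat.coprime_primes htp (by norm_num)).2 ht17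
      exact Nat.eq_one_of_dvd_coprimes hco h1 h2
    have h := hdvd t htp htG
    rcases hmem t htp htG with e | e | e <;> rw [e] at h
    · exact ht17 ((Nat.prime_dvd_prime_iff_eq htp (by norm_num)).1 h)
    · have h5 : t = 5 := by
        rcases (Nat.Prime.dvd_mul htp).1 (show t ∣ 27 * 5 from h) with h1 | h1
        · exact absurd ((Nat.prime_dvd_prime_iff_eq htp Nat.prime_three).1
            (htp.dvd_of_dvd_pow (show t ∣ 3 ^ 3 from h1))) ht3
        · exact (Nat.prime_dvd_prime_iff_eq htp (by norm_num)).1 h1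
      subst h5
      obtain ⟨S⟩ : Nonempty (Sylow 2 G) := inferInstance
      have := CfsgLib.SylowEighteen.pow_modEq_one_of_normalizes (by norm_num : (2 : ℕ) ≠ 5)
        ρ.ker S (hK2 S) T hTle 3 17 (by rw [e]; norm_num) (by norm_num)
      norm_num [Nat.ModEq] at this
    · have h19 : t = 19 := by
        rcases (Nat.Prime.dvd_mul htp).1 (show t ∣ 8 * 19 from h) with h1 | h1
        · exact absurd ((Nat.prime_dvd_prime_iff_eq htp Nat.prime_two).1
            (htp.dvd_of_dvd_pow (show t ∣ 2 ^ 3 from h1))) ht2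
        · exact (Nat.prime_dvd_prime_iff_eq htp (by norm_num)).1 h1
      subst h19
      obtain ⟨S⟩ : Nonempty (Sylow 3 G) := inferInstance
      have := CfsgLib.SylowEighteen.pow_modEq_one_of_normalizes (by norm_num : (3 : ℕ) ≠ 19)
        ρ.ker S (hK3 S) T hTle 2 17 (by rw [e]; norm_num) (by norm_num)
      norm_num [Nat.ModEq] at this
  have hinj : Function.Injective ρ := (MonoidHom.ker_eq_bot_iff ρ).1 hbot
  let eG : G ≃* ρ.range := MonoidHom.ofInjective hinj
  rcases hXcard with e | e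
  · left
    haveI := CfsgLib.SylowEighteen.isSimpleGroup hsetup e hX3
    obtain ⟨f⟩ := CfsgLib.SylowEighteen.nonempty_psl (G := ρ.range) e hF
    exact ⟨eG.trans f⟩
  · right
    obtain ⟨f⟩ := CfsgLib.SylowEighteen.nonempty_pgl hsetup hdvd3 e hF
    exact ⟨eG.trans f⟩

end Cfsg.Agent.S3641
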