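import Cfsg.Statements.S3643
import Cfsg.Agent.MTwelveGraph.Structure
import Cfsg.Agent.MTwelveGraph.Degrees

set_option autoImplicit false
open Cfsg

namespace Cfsg.Agent.S3643

/-- Let G be a finite group of the same order as the Mathieu group M₁₂ whose character degree graph equals that of M₁₂ (same primes dividing some irreducible complex character degree, same pairs of distinct primes whose product divides some degree). Then G is isomorphic to M₁₂ or to the direct product of the alternating group of degree 4 with M₁₁. -/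
theorem result {G : Type*} [Group G] [Finite G] (hcard : Nat.card G = Nat.card ↥Cfsg.Spor.M12) (hΔ : Cfsg.degreePrimes G = Cfsg.degreePrimes ↥Cfsg.Spor.M12 ∧ Cfsg.degreeGraph G = Cfsg.degreeGraph ↥Cfsg.Spor.M12) :
    Nonempty (G ≃* ↥Cfsg.Spor.M12) ∨ Nonempty (G ≃* alternatingGroup (Fin 4) × ↥Cfsg.Spor.M11) := by
  haveI := Fintype.ofFinite G
  haveI := Fintype.ofFinite ↥Cfsg.Spor.M12
  have hG : Nat.card G = 95040 := hcard.trans CfsgLib.Mathieu.card_SporM12
  have key : ∀ (p q d₀ : ℕ), p.Prime → q.Prime → p ≠ q → p * q ∣ d₀ →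
      (∃ χ : ↥Cfsg.Spor.M12 → ℂ, Cfsg.IsIrrCharacter ↥Cfsg.Spor.M12 χ ∧ χ 1 = d₀) →
      ∃ (χ : G → ℂ) (d : ℕ), Cfsg.IsIrrCharacter G χ ∧ χ 1 = d ∧ p * q ∣ d := by
    rintro p q d₀ hp hq hne hdvd ⟨χ, hχ, hd⟩
    have h : (Cfsg.degreeGraph ↥Cfsg.Spor.M12).Adj p q :=
      ⟨hne, hp, hq, d₀, CfsgLib.DegreeGraph.mem_charDegrees hχ hd, hdvd⟩
    rw [← hΔ.2] at h
    obtain ⟨-, -, -, d, hd', hdvd'⟩ := h
    obtain ⟨ψ, hψ, hψd, -⟩ := CfsgLib.DegreeGraph.exists_of_mem hd'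
    exact ⟨ψ, d, hψ, hψd, hdvd'⟩
  obtain ⟨χ, a, hχ, ha, h55⟩ := key 5 11 55 (by norm_num) (by norm_num) (by norm_num) (by norm_num)
    CfsgLib.MTwelveGraph.Scheme.exists_fiftyfive
  obtain ⟨ψ, b, hψ, hb, h33⟩ := key 3 11 99 (by norm_num) (by norm_num) (by norm_num) (by norm_num)
    CfsgLib.MTwelveGraph.Scheme.exists_ninetynine
  exact CfsgLib.MTwelveGraph.structure_of_degrees hG hχ ha h55 hψ hb h33

end Cfsg.Agent.S3643
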