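import Cfsg.Statements.S3660
import Cfsg.Agent.PrimeGraph.ModuleExtension

set_option autoImplicit false
open Cfsg

namespace Cfsg.Agent.S3660

open Matrix

theorem center_eq_bot {F : Type*} [Field F] [CharP F 2] :
    Subgroup.center (SpecialLinearGroup (Fin 2) F) = ⊥ := by
  refine (Subgroup.eq_bot_iff_forall _).2 fun A hA => ?_
  obtain ⟨r, hr, hA'⟩ := Matrix.SpecialLinearGroup.mem_center_iff.1 hA
  have hr1 : r = 1 := by
    rw [Fintype.card_fin] at hr
    have h : (r - 1) * (r - 1) = 0 := by
      have h2 : (2 : F) = 0 := CharTwo.two_eq_zero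
      linear_combination hr + (1 - r) * h2
    exact sub_eq_zero.1 (mul_self_eq_zero.1 h)
  apply Subtype.ext
  rw [← hA', hr1, map_one]
  rfl

theorem sq_eq_one_of_fixed {F : Type*} [Field F] [CharP F 2] (g : SpecialLinearGroup (Fin 2) F)
    (v : Fin 2 → F) (hv : v ≠ 0) (h : (g : Matrix (Fin 2) (Fin 2) F) *ᵥ v = v) : g ^ 2 = 1 := by
  set A := (g : Matrix (Fin 2) (Fin 2) F) with hA
  have hd : A 0 0 * A 1 1 - A 0 1 * A 1 0 = 1 := by rw [← det_fin_two]; exact g.2
  have h0 : A 0 0 * v 0 + A 0 1 * v 1 = v 0 := by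
    simpa [mulVec, dotProduct, Fin.sum_univ_two] using congrFun h 0
  have h1 : A 1 0 * v 0 + A 1 1 * v 1 = v 1 := by
    simpa [mulVec, dotProduct, Fin.sum_univ_two] using congrFun h 1
  have h2 : (2 : F) = 0 := CharTwo.two_eq_zero
  have ht0 : (A 0 0 + A 1 1) * v 0 = 0 := by
    linear_combination (1 - A 1 1) * h0 + A 0 1 * h1 + v 0 * hd + v 0 * h2
  have ht1 : (A 0 0 + A 1 1) * v 1 = 0 := by
    linear_combination (1 - A 0 0) * h1 + A 1 0 * h0 + v 1 * hd + v 1 * h2
  have ht : A 0 0 + A 1 1 = 0 := by
    by_contra hne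
    exact hv (funext fun i => by
      fin_cases i
      · exact (mul_eq_zero.1 ht0).resolve_left hne
      · exact (mul_eq_zero.1 ht1).resolve_left hne)
  apply Matrix.SpecialLinearGroup.ext
  suffices hA2 : A ^ 2 = 1 by
    intro i j
    simpa [← hA] using congrFun (congrFun hA2 i) j
  rw [pow_two]
  ext i j
  fin_cases i <;> fin_cases j <;> simp [mul_apply, Fin.sum_univ_two]
  · linear_combination A 0 0 * ht - hd + (-1) * h2
  · linear_combination A 0 1 * ht
  · linear_combination A 1 0 * ht
  · linear_combination A 1 1 * ht - hd + (-1) * h2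

theorem two_dvd_card {F : Type*} [Field F] [Finite F] [CharP F 2] :
    2 ∣ Nat.card (SpecialLinearGroup (Fin 2) F) := by
  let u : SpecialLinearGroup (Fin 2) F := ⟨!![1, 1; 0, 1], by simp [det_fin_two]⟩
  have hu : orderOf u = 2 := by
    refine orderOf_eq_prime (sq_eq_one_of_fixed u ![1, 0] ?_ ?_) ?_
    · intro h; simpa using congrFun h 0
    · ext i; fin_cases i <;> simp [u, mulVec, dotProduct, Fin.sum_univ_two]
    · intro h
      have := congrArg (fun B : SpecialLinearGroup (Fin 2) F => (B : Matrix (Fin 2) (Fin 2) F) 0 1) h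
      simp [u] at this
  have h := orderOf_dvd_natCard u
  rwa [hu] at h

/-- The prime graph of a finite group has the prime divisors of its order as vertices, two distinct primes p, q being joined when the group has an element of order pq; two groups have the same prime graph when they have the same prime divisors and the same joined pairs. Let F be a finite field of characteristic 2 with at least 4 elements. Then there are finite groups of arbitrarily large order with the same prime graph as PSL(2,F); in particular PSL(2,F) is not determined by its prime graph. -/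
theorem result {F : Type*} [Field F] [Fintype F] [CharP F 2] (hF : 4 ≤ Fintype.card F) (N : ℕ) :
    ∃ (H : Type) (_ : Group H) (_ : Finite H), N < Nat.card H ∧
      ((∀ p : ℕ, p.Prime → (p ∣ Nat.card (Matrix.ProjectiveSpecialLinearGroup (Fin 2) F) ↔ p ∣ Nat.card H)) ∧
      (∀ p q : ℕ, p.Prime → q.Prime → p ≠ q → ((∃ g : (Matrix.ProjectiveSpecialLinearGroup (Fin 2) F), orderOf g = p * q) ↔ (∃ g : H, orderOf g = p * q)))) := by
  let e : Matrix.SpecialLinearGroup (Fin 2) F ≃* Matrix.ProjectiveSpecialLinearGroup (Fin 2) F :=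
    (QuotientGroup.quotientBot.symm).trans (QuotientGroup.quotientMulEquivOfEq center_eq_bot.symm)
  obtain ⟨H, iH, fH, hN, h1, h2⟩ := CfsgLib.PrimeGraph.exists_large_same_graph
    (CfsgLib.PrimeGraph.vecAction.comp
      (Matrix.SpecialLinearGroup.toGL : Matrix.SpecialLinearGroup (Fin 2) F →* GL (Fin 2) F))
    (V := Multiplicative (Fin 2 → F)) Nat.prime_two
    (fun v => by
      apply Multiplicative.toAdd.injective
      ext i
      simp [CharTwo.two_eq_zero])
    two_dvd_card
    (fun g r hr hr2 hg v hv hv1 => by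
      exfalso
      have := sq_eq_one_of_fixed g v.toAdd (fun h => hv1 (Multiplicative.toAdd.injective h))
        (CfsgLib.PrimeGraph.mulVec_eq_of_vecAction hv)
      have h := orderOf_dvd_of_pow_eq_one this
      rw [hg] at h
      exact hr2 ((Nat.prime_dvd_prime_iff_eq hr Nat.prime_two).1 h)) N
  refine ⟨H, iH, fH, hN, fun p hp => ?_, fun p q hp hq hpq => ?_⟩
  · rw [← Nat.card_congr e.toEquiv]; exact h1 p hp
  · rw [← h2 p q hp hq hpq]
    exact ⟨fun ⟨g, hg⟩ => ⟨e.symm g, by rw [MulEquiv.orderOf_eq, hg]⟩,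
      fun ⟨g, hg⟩ => ⟨e g, by rw [MulEquiv.orderOf_eq, hg]⟩⟩

end Cfsg.Agent.S3660
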