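import Cfsg.Statements.S3664
import Cfsg.Agent.PrimeGraph67.SymplecticSixThree
import Cfsg.Agent.PrimeGraph67.SzFrobeniusGraph
-- import your own Cfsg.Agent.* helpers here

set_option autoImplicit false
open Cfsg

namespace Cfsg.Agent.S3664

/-- The prime graph of a finite group has the prime divisors of its order as vertices, two distinct primes p, q being joined when the group has an element of order pq; two groups have the same prime graph when they have the same prime divisors and the same joined pairs. Let F be the field with 3 elements and L = PSp(6,F). There are finite groups of arbitrarily large order with the same prime graph as L (a prime graph shared by the orthogonal groups Ω₇(3) and PΩ⁺₈(3)). -/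
theorem result {F : Type*} [Field F] [Fintype F] (hF : Fintype.card F = 3) (N : ℕ) :
    ∃ (H : Type) (_ : Group H) (_ : Finite H), N < Nat.card H ∧
      ((∀ p : ℕ, p.Prime → (p ∣ Nat.card (Cfsg.PSp 3 F) ↔ p ∣ Nat.card H)) ∧
      (∀ p q : ℕ, p.Prime → q.Prime → p ≠ q → ((∃ g : (Cfsg.PSp 3 F), orderOf g = p * q) ↔ (∃ g : H, orderOf g = p * q)))) := by
  obtain ⟨H, iH, fH, hN, h1, h2⟩ := CfsgLib.PrimeGraph67.SzEight.exists_large N
  have hd := fun {p : ℕ} (hp : p.Prime) => CfsgLib.PrimeGraph67.SpSix.prime_dvd_iff (F := F) hF hp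
  refine ⟨H, iH, fH, hN, fun p hp => (hd hp).trans (h1 p hp).symm, fun p q hp hq hpq => ?_⟩
  rw [h2 p q hp hq hpq]
  constructor
  · rintro ⟨g, hg⟩
    have hpd := (hd hp).1 ((hg ▸ dvd_mul_right p q : p ∣ orderOf g).trans (orderOf_dvd_natCard g))
    have hqd := (hd hq).1 ((hg ▸ dvd_mul_left q p : q ∣ orderOf g).trans (orderOf_dvd_natCard g))
    exact (CfsgLib.PrimeGraph67.SpSix.edge_iff hF hpd hqd hpq).1 ⟨g, hg⟩
  · intro hE
    have key : ∀ {p : ℕ}, p.Prime → (p ∣ 6 ∨ p ∣ 10 ∨ p ∣ 14 ∨ p ∣ 15) →
        p = 2 ∨ p = 3 ∨ p = 5 ∨ p = 7 ∨ p = 13 := by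
      intro p hp h
      have hle : p ≤ 15 := by
        rcases h with h | h | h | h <;> exact (Nat.le_of_dvd (by norm_num) h).trans (by norm_num)
      interval_cases p <;> first | (norm_num at hp; done) | omega
    have hpd := key hp (by
      rcases hE with e | e | e | e <;> [left; (right; left); (right; right; left); (right; right; right)] <;>
        exact e ▸ dvd_mul_right p q)
    have hqd := key hq (by
      rcases hE with e | e | e | e <;> [left; (right; left); (right; right; left); (right; right; right)] <;>
        exact e ▸ dvd_mul_left q p)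
    obtain ⟨g, hg⟩ := (CfsgLib.PrimeGraph67.SpSix.edge_iff hF hpd hqd hpq).2 hE
    exact ⟨g, hg⟩

end Cfsg.Agent.S3664
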