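import Cfsg.Statements.S3668
import Cfsg.Agent.Classification.SmallGraph.Order360
import Cfsg.Agent.Classification.SmallGraph.Order2520
import Cfsg.Agent.Classification.SmallGraph.SimpleBlocks
import Cfsg.Agent.S3669

set_option autoImplicit false
open Cfsg CfsgLib.Classification.SmallGraph

namespace Cfsg.Agent.S3668

/-- The character degree graph of a finite group has as vertices the primes dividing some irreducible complex character degree, two distinct primes being joined when their product divides some irreducible character degree; two groups have the same character degree graph when they have the same vertices and the same joined pairs. Let S be a finite non-abelian simple group of order less than 6000. If a finite group G has the same order as S and the same character degree graph as S, then G is isomorphic to S. -/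
theorem result {S : Type*} [Group S] [Finite S] [IsSimpleGroup S] (hS : ¬ IsMulCommutative S)
    (hlt : Nat.card S < 6000) {G : Type*} [Group G] [Finite G] (hcard : Nat.card G = Nat.card S) (hΓ : Cfsg.degreePrimes G = Cfsg.degreePrimes S ∧ Cfsg.degreeGraph G = Cfsg.degreeGraph S) :
    Nonempty (G ≃* S) := by
  obtain ⟨hP, hA⟩ := hΓ
  have hmem := CfsgLib.Classification.OrderMid.orders_lt_six_thousand hS hlt
  by_cases hs : IsSimpleGroup G
  · exact CfsgLib.Classification.SmallGraph.nonempty_iso hcard rfl hmem
  simp only [List.mem_cons, List.not_mem_nil, or_false] at hmem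
  rcases hmem with h | h | h | h | h | h | h | h | h | h | h <;> have hG := hcard.trans h
  · obtain ⟨e⟩ := CfsgLib.Classification.nonempty_equiv_alternating_five h
    obtain ⟨f⟩ := Cfsg.Agent.S3669.result hG
      ⟨hP.trans (CfsgLib.Classification.SmallGraph.degreePrimes_congr e),
        hA.trans (CfsgLib.Classification.SmallGraph.degreeGraph_congr e)⟩
    exact ⟨f.trans e.symm⟩
  all_goals exfalso
  · obtain ⟨h2, h7, -⟩ := primes_168 h
    exact false_168 hG hs (hP ▸ h7) (hP ▸ h2)
  · obtain ⟨h3, h25, h23, h35⟩ := primes_360 h
    exact false_360 hG hs (hP ▸ h3) (hA ▸ h25) (hA ▸ h23) (hA ▸ h35)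
  · obtain ⟨h2, h7, h23⟩ := primes_504 h
    exact false_504 hG hs (hP ▸ h7) (hP ▸ h2) (hA ▸ h23)
  · exact (not_mem_large hs).1 hG (hP ▸ primes_large.1 h)
  · exact (not_mem_large hs).2.1 hG (hP ▸ primes_large.2.1 h)
  · exact (not_mem_large hs).2.2.1 hG (hP ▸ primes_large.2.2.1 h)
  · obtain ⟨h5, h7⟩ := primes_2520 h
    exact false_2520 hG hs (hP ▸ h5) (hP ▸ h7)
  · exact (not_mem_large hs).2.2.2.1 hG (hP ▸ primes_large.2.2.2 h)
  · exact (not_mem_large hs).2.2.2.2 hG (hP ▸ primes_4080 h)
  · obtain ⟨h3, h13⟩ := primes_5616 h
    exact false_5616 hG hs (hP ▸ h13) (hP ▸ h3)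

end Cfsg.Agent.S3668
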