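import Cfsg.Statements.S3670
import Cfsg.Agent.UThree.Triangle

set_option autoImplicit false
open Cfsg

namespace Cfsg.Agent.S3670

/-- The character degree graph of a finite group has as vertices the primes dividing some irreducible complex character degree, two distinct primes being joined when their product divides some irreducible character degree; two groups have the same character degree graph when they have the same vertices and the same joined pairs. Let F be the field with 9 elements and L = PSU(3,3) realised over F (order 6048). There is a finite solvable group of order 6048 with the same character degree graph as L; so L is not determined by its order together with its character degree graph. -/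
theorem result {F : Type*} [Field F] [Fintype F] (hF : Fintype.card F = 9) :
    ∃ (H : Type) (_ : Group H) (_ : Fintype H), Group.IsSolvable H ∧ Nat.card H = 6048 ∧ Cfsg.degreePrimes H = Cfsg.degreePrimes (Cfsg.PSU 3 F 3) ∧ Cfsg.degreeGraph H = Cfsg.degreeGraph (Cfsg.PSU 3 F 3) := by
  haveI : Fact (Nat.Prime 3) := ⟨by norm_num⟩
  haveI : CharP F 3 := charP_of_card_eq_prime_pow (p := 3) (f := 2) (by rw [hF]; norm_num)
  obtain ⟨ι, hι⟩ := CfsgLib.UThree.exists_iota hF
  refine ⟨CfsgLib.UThree.SolvWitness.W, inferInstance, inferInstance,
    CfsgLib.UThree.SolvWitness.isSolvable_W, CfsgLib.UThree.SolvWitness.card_W, ?_⟩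
  exact CfsgLib.UThree.Triangle.graphs_eq hι hF

end Cfsg.Agent.S3670
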