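import Mathlib

/-!
# Arbitrarily large groups with the prime graph of `PSL(2,7)`

The group is the semidirect product of many copies of the natural module of `SL(2,8)` with `SL(2,8)`.
Every element order divides 4, 7 or 9, as every non-trivial element of odd order fixes no non-zero vector.
-/

namespace Cfsg.Agent.S3678

open Matrix

section general

variable {R : Type*} [CommRing R]

/-- Cayley-Hamilton in degree two. -/
theorem sq_eq (g : SpecialLinearGroup (Fin 2) R) :
    (g : Matrix (Fin 2) (Fin 2) R) * g = (g 0 0 + g 1 1) • (g : Matrix (Fin 2) (Fin 2) R) - 1 := by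
  have h := g.det_coe
  rw [det_fin_two] at h
  ext i j
  fin_cases i <;> fin_cases j <;>
    simp [mul_apply, Fin.sum_univ_two] <;> first | linear_combination h | linear_combination -h | ring

end general

section eight

variable {F : Type*} [Field F] [Fintype F]

theorem two_eq_zero (hF : Fintype.card F = 8) : (2 : F) = 0 := by
  have h := FiniteField.cast_card_eq_zero F
  rw [hF] at h
  have : (2 : F) ^ 3 = 0 := by norm_num; exact_mod_cast h
  exact pow_eq_zero_iff (by norm_num) |>.mp this

/-- The element orders of `SL(2,8)`. -/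
theorem orders_eight (hF : Fintype.card F = 8) (g : SpecialLinearGroup (Fin 2) F) :
    g ^ 2 = 1 ∨ g ^ 7 = 1 ∨ g ^ 9 = 1 := by
  set M : Matrix (Fin 2) (Fin 2) F := g.1 with hM
  set t := g 0 0 + g 1 1 with ht
  have h2 := two_eq_zero hF
  have hz : ∀ A : Matrix (Fin 2) (Fin 2) F, A + A = 0 := fun A => by
    rw [← two_smul F A, h2, zero_smul]
  have hneg : (-1 : Matrix (Fin 2) (Fin 2) F) = 1 := neg_eq_of_add_eq_zero_left (hz 1)
  have hsq : M * M = t • M + 1 := by rw [sq_eq g, sub_eq_add_neg, hneg]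
  by_cases ht0 : t = 0
  · left
    apply Subtype.ext
    rw [Matrix.SpecialLinearGroup.coe_pow, Matrix.SpecialLinearGroup.coe_one, sq, ← hM, hsq, ht0, zero_smul, zero_add]
  have ht7 : t ^ 7 = 1 := by
    have := FiniteField.pow_card_sub_one_eq_one t ht0
    rwa [hF] at this
  set s := t ^ 6 + t ^ 4 + 1 with hs
  have h4 : M ^ 4 = t ^ 3 • M + (t ^ 2 + 1) • (1 : Matrix (Fin 2) (Fin 2) F) := by
    rw [show M ^ 4 = (M * M) * (M * M) by noncomm_ring, hsq]
    simp only [mul_add, add_mul, smul_mul_assoc, mul_smul_comm, one_mul, mul_one, hsq, smul_add]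
    match_scalars
    · linear_combination (t : F) * h2
    · ring
  have h8 : M ^ 8 = M + s • (1 : Matrix (Fin 2) (Fin 2) F) := by
    rw [show M ^ 8 = M ^ 4 * M ^ 4 by noncomm_ring, h4]
    simp only [mul_add, add_mul, smul_mul_assoc, mul_smul_comm, one_mul, mul_one, hsq, smul_add]
    match_scalars
    · linear_combination (1 : F) * ht7 + (t ^ 3 * (t ^ 2 + 1)) * h2
    · simp only [hs]; linear_combination t ^ 2 * h2
  -- the eighth power satisfies the same equation
  have hroot : M ^ 8 * M ^ 8 = t • M ^ 8 + 1 := by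
    have hM8 : ((g ^ 8 : SpecialLinearGroup (Fin 2) F) : Matrix (Fin 2) (Fin 2) F) = M ^ 8 :=
      Matrix.SpecialLinearGroup.coe_pow g 8
    have h := sq_eq (g ^ 8)
    rw [sub_eq_add_neg, hneg] at h
    have htr : (g ^ 8) 0 0 + (g ^ 8) 1 1 = t := by
      have e : ∀ i, (g ^ 8) i i = (M ^ 8) i i := fun i => congrFun (congrFun hM8 i) i
      rw [e, e, h8]
      simp only [Matrix.add_apply, Matrix.smul_apply, Matrix.one_apply_eq, smul_eq_mul, ht, hM]
      linear_combination s * h2
    rwa [htr, hM8] at h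
  have hst : s * (s + t) = 0 := by
    have h := congrFun (congrFun hroot 0) 0
    rw [h8] at h
    simp only [mul_add, add_mul, smul_mul_assoc, mul_smul_comm, one_mul, mul_one, hsq, smul_add,
      Matrix.add_apply, Matrix.smul_apply, Matrix.one_apply_eq, smul_eq_mul] at h
    linear_combination h - (s * M 0 0) * h2 + (s * t) * h2
  rcases mul_eq_zero.mp hst with h | h
  · right; left
    have h' : g ^ 8 = g := Subtype.ext (by rw [Matrix.SpecialLinearGroup.coe_pow, ← hM, h8, h, zero_smul, add_zero])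
    rw [pow_succ] at h'
    exact mul_eq_right.mp h'
  · right; right
    have hst' : s = t := by linear_combination h - t * h2
    apply Subtype.ext
    rw [Matrix.SpecialLinearGroup.coe_pow, Matrix.SpecialLinearGroup.coe_one, pow_succ, ← hM, h8, hst', add_mul,
      hsq, smul_mul_assoc, one_mul, add_right_comm, hz, zero_add]

theorem fixed_zero (hF : Fintype.card F = 8) (g : SpecialLinearGroup (Fin 2) F) (m : ℕ) (hm : Odd m)
    (hg : g ^ m = 1) (hg1 : g ≠ 1) (v : Fin 2 → F) (hv : (g : Matrix (Fin 2) (Fin 2) F) *ᵥ v = v) :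
    v = 0 := by
  by_contra hv0
  apply hg1
  have h2 := two_eq_zero hF
  have hh := congrArg (fun A : Matrix (Fin 2) (Fin 2) F => A *ᵥ v) (sq_eq g)
  simp only [← mulVec_mulVec, hv, sub_mulVec, smul_mulVec, one_mulVec] at hh
  obtain ⟨i, hi⟩ := Function.ne_iff.mp hv0
  have hi' := congrFun hh i
  simp only [Pi.sub_apply, Pi.smul_apply, smul_eq_mul] at hi'
  have ht : g 0 0 + g 1 1 = 0 := by
    have : (g 0 0 + g 1 1) * v i = 0 := by linear_combination -hi' + v i * h2
    exact (mul_eq_zero.mp this).resolve_right hi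
  have hsq : g ^ 2 = 1 := by
    apply Subtype.ext
    rw [Matrix.SpecialLinearGroup.coe_pow, Matrix.SpecialLinearGroup.coe_one, sq, sq_eq g, ht, zero_smul, zero_sub]
    refine neg_eq_of_add_eq_zero_left ?_
    rw [← two_smul F (1 : Matrix (Fin 2) (Fin 2) F), h2, zero_smul]
  obtain ⟨l, rfl⟩ := hm
  rw [pow_add, pow_mul, hsq, one_pow, one_mul, pow_one] at hg
  exact hg

end eight

/-- The diagonal action on copies of the natural module. -/
def act (F : Type) [Field F] (N : ℕ) :
    SpecialLinearGroup (Fin 2) F →* MulAut (Multiplicative (Fin N → Fin 2 → F)) where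
  toFun g :=
    { toFun := fun w => Multiplicative.ofAdd fun i => (g : Matrix (Fin 2) (Fin 2) F) *ᵥ w.toAdd i
      invFun := fun w => Multiplicative.ofAdd fun i => ((g⁻¹ : SpecialLinearGroup (Fin 2) F) : Matrix (Fin 2) (Fin 2) F) *ᵥ w.toAdd i
      left_inv := fun w => by
        apply Multiplicative.toAdd.injective
        funext i
        simp only [toAdd_ofAdd, mulVec_mulVec, ← Matrix.SpecialLinearGroup.coe_mul, inv_mul_cancel,
          Matrix.SpecialLinearGroup.coe_one, one_mulVec]
      right_inv := fun w => by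
        apply Multiplicative.toAdd.injective
        funext i
        simp only [toAdd_ofAdd, mulVec_mulVec, ← Matrix.SpecialLinearGroup.coe_mul, mul_inv_cancel,
          Matrix.SpecialLinearGroup.coe_one, one_mulVec]
      map_mul' := fun w w' => by
        apply Multiplicative.toAdd.injective
        funext i
        simp only [toAdd_ofAdd, toAdd_mul, Pi.add_apply, mulVec_add] }
  map_one' := by
    apply MulEquiv.ext
    intro w
    apply Multiplicative.toAdd.injective
    funext i
    simp
  map_mul' g g' := by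
    apply MulEquiv.ext
    intro w
    apply Multiplicative.toAdd.injective
    funext i
    simp only [MulEquiv.coe_mk, Equiv.coe_fn_mk, MulAut.mul_apply, toAdd_ofAdd,
      Matrix.SpecialLinearGroup.coe_mul, mulVec_mulVec]

theorem semidirect_pow {W K : Type*} [CommGroup W] [Group K] {φ : K →* MulAut W}
    (hfix : ∀ g : K, ∀ m : ℕ, g ^ m = 1 → g ≠ 1 → Odd m → ∀ w : W, φ g w = w → w = 1)
    (h : W ⋊[φ] K) (m : ℕ) (hm : Odd m) (hg : h.right ^ m = 1) (hg1 : h.right ≠ 1) : h ^ m = 1 := by
  have hr : (h ^ m).right = 1 := by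
    have := map_pow (SemidirectProduct.rightHom (φ := φ)) h m
    simp only [SemidirectProduct.rightHom_eq_right] at this
    rw [this, hg]
  have hl : φ h.right (h ^ m).left = (h ^ m).left := by
    have h1 := congrArg SemidirectProduct.left ((Commute.refl h).pow_right m).eq
    simp only [SemidirectProduct.mul_left, hr, map_one, MulAut.one_apply] at h1
    rw [mul_comm (h ^ m).left] at h1
    exact mul_left_cancel h1
  exact SemidirectProduct.ext (hfix _ m hg hg1 hm _ hl) hr

theorem pow_four {W K : Type*} [Group W] [Group K] {φ : K →* MulAut W} (hW : ∀ w : W, w ^ 2 = 1)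
    (h : W ⋊[φ] K) (hg : h.right ^ 2 = 1) : h ^ 4 = 1 := by
  have hr : (h ^ 2).right = 1 := by
    have := map_pow (SemidirectProduct.rightHom (φ := φ)) h 2
    simp only [SemidirectProduct.rightHom_eq_right] at this
    rw [this, hg]
  have h2 : h ^ 2 = SemidirectProduct.inl (h ^ 2).left := by
    refine SemidirectProduct.ext ?_ ?_ <;> simp [hr]
  rw [show h ^ 4 = (h ^ 2) ^ 2 from pow_mul h 2 2, h2, ← map_pow, hW, map_one]

theorem prime_cases {p : ℕ} (hp : p.Prime) (h : p ∣ 4 ∨ p ∣ 7 ∨ p ∣ 9) : p = 2 ∨ p = 3 ∨ p = 7 := by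
  rcases h with h | h | h
  · exact Or.inl ((Nat.prime_dvd_prime_iff_eq hp Nat.prime_two).mp
      (hp.dvd_of_dvd_pow (n := 2) (m := 2) h))
  · exact Or.inr (Or.inr ((Nat.prime_dvd_prime_iff_eq hp (by norm_num)).mp h))
  · exact Or.inr (Or.inl ((Nat.prime_dvd_prime_iff_eq hp Nat.prime_three).mp
      (hp.dvd_of_dvd_pow (n := 2) (m := 3) h)))

/-- What the prime graph needs from a group. -/
def Isolated237 (X : Type*) [Group X] : Prop :=
  (∀ x : X, x ^ 4 = 1 ∨ x ^ 7 = 1 ∨ x ^ 9 = 1) ∧ ∀ p : ℕ, p = 2 ∨ p = 3 ∨ p = 7 → ∃ x : X, orderOf x = p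

theorem Isolated237.dvd_iff {X : Type*} [Group X] [Finite X] (h : Isolated237 X) {p : ℕ}
    (hp : p.Prime) : p ∣ Nat.card X ↔ p = 2 ∨ p = 3 ∨ p = 7 := by
  constructor
  · intro hd
    haveI := Fact.mk hp
    obtain ⟨x, hx⟩ := exists_prime_orderOf_dvd_card' (G := X) p hd
    refine prime_cases hp ?_
    rw [← hx]
    exact (h.1 x).imp orderOf_dvd_of_pow_eq_one (Or.imp orderOf_dvd_of_pow_eq_one orderOf_dvd_of_pow_eq_one)
  · intro hp'
    obtain ⟨x, hx⟩ := h.2 p hp'
    exact hx ▸ orderOf_dvd_natCard x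

theorem Isolated237.no_edge {X : Type*} [Group X] (h : Isolated237 X) {p q : ℕ} (hp : p.Prime)
    (hq : q.Prime) (hpq : p ≠ q) : ¬ ∃ x : X, orderOf x = p * q := by
  rintro ⟨x, hx⟩
  have key : ∀ r : ℕ, r.Prime → ∀ a : ℕ, p * q ∣ r ^ a → False := by
    intro r hr a ha
    have h1 := (Nat.prime_dvd_prime_iff_eq hp hr).mp (hp.dvd_of_dvd_pow ((Dvd.intro q rfl).trans ha))
    have h2 := (Nat.prime_dvd_prime_iff_eq hq hr).mp (hq.dvd_of_dvd_pow ((Dvd.intro_left p rfl).trans ha))
    exact hpq (h1.trans h2.symm)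
  rcases h.1 x with h' | h' | h'
  · exact key 2 Nat.prime_two 2 (hx ▸ orderOf_dvd_of_pow_eq_one h')
  · exact key 7 (by norm_num) 1 (hx ▸ orderOf_dvd_of_pow_eq_one h')
  · exact key 3 Nat.prime_three 2 (hx ▸ orderOf_dvd_of_pow_eq_one h')

theorem isolated_psl {F : Type*} [Field F] [Fintype F] (hF : Fintype.card F = 7) :
    Isolated237 (ProjectiveSpecialLinearGroup (Fin 2) F) := by
  haveI hc : CharP F 7 := by
    haveI := Fact.mk (show Nat.Prime 7 by norm_num)
    exact CharP.charP_iff_prime_eq_zero (by norm_num) |>.mpr (by rw [← hF]; exact FiniteField.cast_card_eq_zero F)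
  have h7 : (7 : F) = 0 := by exact_mod_cast CharP.cast_eq_zero F 7
  have hneg1 : (-1 : F) ^ 2 = 1 := by ring
  have hcen : ∀ (g : SpecialLinearGroup (Fin 2) F) (r : F), r ^ 2 = 1 →
      (g : Matrix (Fin 2) (Fin 2) F) = r • 1 → QuotientGroup.mk' (Subgroup.center _) g = 1 := by
    intro g r hr hg
    rw [QuotientGroup.mk'_apply, QuotientGroup.eq_one_iff, Matrix.SpecialLinearGroup.mem_center_iff]
    refine ⟨r, by simpa using hr, ?_⟩
    rw [hg, scalar_apply, smul_one_eq_diagonal]
  constructor
  · intro x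
    obtain ⟨g, rfl⟩ := QuotientGroup.mk'_surjective _ x
    simp only [← map_pow]
    set M : Matrix (Fin 2) (Fin 2) F := g.1 with hM
    set t := g 0 0 + g 1 1 with ht
    have hsq : M * M = t • M - 1 := sq_eq g
    have htc : t = 0 ∨ (t - 1) * (t + 1) = 0 ∨ t ^ 2 = 2 ∨ (t - 2) * (t + 2) = 0 := by
      by_cases h0 : t = 0
      · exact Or.inl h0
      have h6 := FiniteField.pow_card_sub_one_eq_one t h0
      rw [hF] at h6
      have : ((t - 1) * (t + 1)) * ((t ^ 2 - 2) * ((t - 2) * (t + 2))) = 0 := by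
        linear_combination h6 + (-(t ^ 4) + 2 * t ^ 2 - 1) * h7
      rcases mul_eq_zero.mp this with h | h
      · exact Or.inr (Or.inl h)
      rcases mul_eq_zero.mp h with h | h
      · exact Or.inr (Or.inr (Or.inl (sub_eq_zero.mp h)))
      · exact Or.inr (Or.inr (Or.inr h))
    rcases htc with h | h | h | h
    · left
      refine hcen _ 1 (one_pow 2) ?_
      rw [Matrix.SpecialLinearGroup.coe_pow, ← hM, show M ^ 4 = (M * M) * (M * M) by noncomm_ring, hsq, h,
        zero_smul, zero_sub, neg_mul_neg, one_mul, one_smul]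
    · right; right
      refine hcen _ (-t) (by linear_combination h) ?_
      rw [Matrix.SpecialLinearGroup.coe_pow, ← hM]
      have h3 : M ^ 3 = (-t) • (1 : Matrix (Fin 2) (Fin 2) F) := by
        rw [show M ^ 3 = M * (M * M) by noncomm_ring, hsq]
        simp only [mul_sub, mul_smul_comm, mul_one, hsq, smul_sub, smul_smul]
        match_scalars
        · linear_combination h
        · ring
      rw [show M ^ 9 = M ^ 3 * M ^ 3 * M ^ 3 by noncomm_ring, h3]
      simp only [smul_mul_smul_comm, mul_one]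
      congr 1
      linear_combination (-t) * h
    · left
      refine hcen _ (-1) hneg1 ?_
      rw [Matrix.SpecialLinearGroup.coe_pow, ← hM, show M ^ 4 = (M * M) * (M * M) by noncomm_ring, hsq]
      simp only [mul_sub, sub_mul, smul_mul_assoc, mul_smul_comm, one_mul, mul_one, hsq, smul_sub]
      match_scalars
      · linear_combination t * h
      · linear_combination -h
    · right; left
      have ht2 : t = 2 ∨ t = -2 := by
        rcases mul_eq_zero.mp h with h | h
        · exact Or.inl (sub_eq_zero.mp h)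
        · exact Or.inr (eq_neg_of_add_eq_zero_left h)
      obtain ⟨e, he, hte⟩ : ∃ e : F, e ^ 2 = 1 ∧ t = 2 * e := by
        rcases ht2 with h | h
        · exact ⟨1, one_pow 2, by rw [h, mul_one]⟩
        · exact ⟨-1, hneg1, by rw [h]; ring⟩
      refine hcen _ e he ?_
      rw [Matrix.SpecialLinearGroup.coe_pow, ← hM]
      haveI := Fact.mk (show Nat.Prime 7 by norm_num)
      set Nm := M - e • (1 : Matrix (Fin 2) (Fin 2) F) with hNm
      have hN2 : Nm * Nm = 0 := by
        simp only [hNm, mul_sub, sub_mul, smul_mul_assoc, mul_smul_comm, one_mul, mul_one, hsq, hte]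
        match_scalars
        · ring
        · linear_combination he
      have hN7 : Nm ^ 7 = 0 := by
        rw [show Nm ^ 7 = Nm * Nm * Nm ^ 5 by noncomm_ring, hN2, zero_mul]
      have hcomm : Commute M (e • (1 : Matrix (Fin 2) (Fin 2) F)) := (Commute.one_right M).smul_right e
      haveI : CharP (Matrix (Fin 2) (Fin 2) F) 7 :=
        charP_of_injective_algebraMap (algebraMap F (Matrix (Fin 2) (Fin 2) F)).injective 7
      rw [hNm, sub_pow_char_of_commute 7 hcomm, sub_eq_zero, smul_pow, one_pow] at hN7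
      rw [hN7]
      congr 1
      rw [show e ^ 7 = (e ^ 2) ^ 3 * e by ring, he, one_pow, one_mul]
  · intro p hp
    let A : SpecialLinearGroup (Fin 2) F := ⟨!![0, 1; -1, 0], by simp [det_fin_two]⟩
    let B : SpecialLinearGroup (Fin 2) F := ⟨!![0, 1; -1, -1], by simp [det_fin_two]⟩
    let C : SpecialLinearGroup (Fin 2) F := ⟨!![1, 1; 0, 1], by simp [det_fin_two]⟩
    have hne : ∀ g : SpecialLinearGroup (Fin 2) F, (g : Matrix (Fin 2) (Fin 2) F) 0 1 = 1 →
        QuotientGroup.mk' (Subgroup.center _) g ≠ 1 := by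
      intro g hg h
      rw [QuotientGroup.mk'_apply, QuotientGroup.eq_one_iff, Matrix.SpecialLinearGroup.mem_center_iff] at h
      obtain ⟨r, -, hr⟩ := h
      have := congrFun (congrFun hr 0) 1
      rw [hg] at this
      simp at this
    have mk : ∀ (g : SpecialLinearGroup (Fin 2) F) (r : F), r ^ 2 = 1 →
        (g : Matrix (Fin 2) (Fin 2) F) 0 1 = 1 → ∀ l : ℕ, l.Prime →
        (g : Matrix (Fin 2) (Fin 2) F) ^ l = r • 1 →
        orderOf (QuotientGroup.mk' (Subgroup.center _) g) = l := by
      intro g r hr hg l hl hpow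
      haveI := Fact.mk hl
      refine orderOf_eq_prime ?_ (hne g hg)
      rw [← map_pow]
      exact hcen _ r hr (by rw [Matrix.SpecialLinearGroup.coe_pow, hpow])
    rcases hp with rfl | rfl | rfl
    · refine ⟨_, mk A (-1) hneg1 rfl 2 Nat.prime_two ?_⟩
      ext i j; fin_cases i <;> fin_cases j <;> simp [A, sq, Matrix.mul_apply, Fin.sum_univ_two]
    · refine ⟨_, mk B 1 (one_pow 2) rfl 3 Nat.prime_three ?_⟩
      ext i j; fin_cases i <;> fin_cases j <;> simp [B, pow_succ, Matrix.mul_apply, Fin.sum_univ_two]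
    · refine ⟨_, mk C 1 (one_pow 2) rfl 7 (by norm_num) ?_⟩
      ext i j; fin_cases i <;> fin_cases j <;> simp [C, pow_succ, Matrix.mul_apply, Fin.sum_univ_two] <;>
        linear_combination h7

theorem isolated_semidirect (F : Type) [Field F] [Fintype F] (hF : Fintype.card F = 8) (N : ℕ) :
    Isolated237 (Multiplicative (Fin N → Fin 2 → F) ⋊[act F N] SpecialLinearGroup (Fin 2) F) := by
  have h2 := two_eq_zero hF
  constructor
  · intro h
    have hfix : ∀ g : SpecialLinearGroup (Fin 2) F, ∀ m : ℕ, g ^ m = 1 → g ≠ 1 → Odd m →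
        ∀ w, act F N g w = w → w = 1 := by
      intro g m hg hg1 hm w hw
      apply Multiplicative.toAdd.injective
      funext i
      have := congrFun (congrArg Multiplicative.toAdd hw) i
      exact fixed_zero hF g m hm hg hg1 _ this
    have hW : ∀ w : Multiplicative (Fin N → Fin 2 → F), w ^ 2 = 1 := fun w => by
      apply Multiplicative.toAdd.injective
      funext i j
      simp only [toAdd_pow, toAdd_one, Pi.smul_apply, Pi.zero_apply, nsmul_eq_mul, Nat.cast_ofNat, h2, zero_mul]
    by_cases h1 : h.right = 1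
    · exact Or.inl (pow_four hW h (by rw [h1, one_pow]))
    rcases orders_eight hF h.right with hg | hg | hg
    · exact Or.inl (pow_four hW h hg)
    · exact Or.inr (Or.inl (semidirect_pow hfix h 7 (by decide) hg h1))
    · exact Or.inr (Or.inr (semidirect_pow hfix h 9 (by decide) hg h1))
  · intro p hp
    have horder : ∀ g : SpecialLinearGroup (Fin 2) F, ∀ l : ℕ, l.Prime → g ^ l = 1 → g ≠ 1 →
        ∃ x : Multiplicative (Fin N → Fin 2 → F) ⋊[act F N] SpecialLinearGroup (Fin 2) F,
          orderOf x = l := by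
      intro g l hl hg hg1
      haveI := Fact.mk hl
      exact ⟨SemidirectProduct.inr g, by
        rw [orderOf_injective _ SemidirectProduct.inr_injective]; exact orderOf_eq_prime hg hg1⟩
    have h01 : ∀ g : SpecialLinearGroup (Fin 2) F, (g : Matrix (Fin 2) (Fin 2) F) 0 1 = 1 → g ≠ 1 := by
      intro g hg h
      rw [h] at hg
      simp at hg
    rcases hp with rfl | rfl | rfl
    · refine horder ⟨!![1, 1; 0, 1], by simp [det_fin_two]⟩ 2 Nat.prime_two ?_ (h01 _ rfl)
      apply Subtype.ext
      change (!![1, 1; 0, 1] : Matrix (Fin 2) (Fin 2) F) ^ 2 = 1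
      ext i j; fin_cases i <;> fin_cases j <;> simp [sq, Matrix.mul_apply, Fin.sum_univ_two] <;> linear_combination h2
    · refine horder ⟨!![0, 1; -1, -1], by simp [det_fin_two]⟩ 3 Nat.prime_three ?_ (h01 _ rfl)
      apply Subtype.ext
      change (!![0, 1; -1, -1] : Matrix (Fin 2) (Fin 2) F) ^ 3 = 1
      ext i j; fin_cases i <;> fin_cases j <;> simp [pow_succ, Matrix.mul_apply, Fin.sum_univ_two]
    · obtain ⟨u, hu⟩ : ∃ u : Fˣ, u ≠ 1 := by
        classical
        haveI : Nontrivial Fˣ := Fintype.one_lt_card_iff_nontrivial.mp (by rw [Fintype.card_units, hF]; norm_num)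
        exact exists_ne 1
      refine horder ⟨!![(u : F), 0; 0, (u⁻¹ : Fˣ)], by simp [det_fin_two]⟩ 7 (by norm_num) ?_ ?_
      · have hu7 := FiniteField.pow_card_sub_one_eq_one (u : F) u.ne_zero
        have hu7' := FiniteField.pow_card_sub_one_eq_one ((u⁻¹ : Fˣ) : F) (u⁻¹).ne_zero
        rw [hF] at hu7 hu7'
        apply Subtype.ext
        have hd : (!![(u : F), 0; 0, (u⁻¹ : Fˣ)] : Matrix (Fin 2) (Fin 2) F) =
            diagonal ![(u : F), ((u⁻¹ : Fˣ) : F)] := by
          ext i j; fin_cases i <;> fin_cases j <;> simp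
        change (!![(u : F), 0; 0, (u⁻¹ : Fˣ)] : Matrix (Fin 2) (Fin 2) F) ^ 7 = 1
        rw [hd, diagonal_pow, ← diagonal_one]
        congr 1
        funext i
        fin_cases i
        · simpa using hu7
        · simpa using hu7'
      · intro h
        apply hu
        have := congrArg (fun A : SpecialLinearGroup (Fin 2) F => (A : Matrix (Fin 2) (Fin 2) F) 0 0) h
        simpa using this

theorem result {F : Type*} [Field F] [Fintype F] (hF : Fintype.card F = 7) (N : ℕ) :
    ∃ (H : Type) (_ : Group H) (_ : Finite H), N < Nat.card H ∧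
      ((∀ p : ℕ, p.Prime → (p ∣ Nat.card (Matrix.ProjectiveSpecialLinearGroup (Fin 2) F) ↔ p ∣ Nat.card H)) ∧
      (∀ p q : ℕ, p.Prime → q.Prime → p ≠ q → ((∃ g : (Matrix.ProjectiveSpecialLinearGroup (Fin 2) F), orderOf g = p * q) ↔ (∃ g : H, orderOf g = p * q)))) := by
  classical
  haveI : Fact (Nat.Prime 2) := ⟨Nat.prime_two⟩
  let K := GaloisField 2 3
  haveI : Fintype K := Fintype.ofFinite K
  have hK : Fintype.card K = 8 := by
    rw [← Nat.card_eq_fintype_card, GaloisField.card 2 3 (by norm_num)]; norm_num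
  haveI : Finite (Multiplicative (Fin N → Fin 2 → K) ⋊[act K N] SpecialLinearGroup (Fin 2) K) :=
    Finite.of_equiv _ SemidirectProduct.equivProd.symm
  refine ⟨Multiplicative (Fin N → Fin 2 → K) ⋊[act K N] SpecialLinearGroup (Fin 2) K, inferInstance,
    inferInstance, ?_, ?_, ?_⟩
  · rw [SemidirectProduct.card]
    have h1 : N < Nat.card (Multiplicative (Fin N → Fin 2 → K)) := by
      rw [Nat.card_congr Multiplicative.toAdd, Nat.card_fun, Nat.card_fun, Nat.card_fin, Nat.card_fin,
        Nat.card_eq_fintype_card, hK]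
      calc N < 2 ^ N := Nat.lt_two_pow_self
        _ ≤ (8 ^ 2) ^ N := Nat.pow_le_pow_left (by norm_num) N
    exact h1.trans_le (Nat.le_mul_of_pos_right _ Nat.card_pos)
  · intro p hp
    rw [(isolated_psl hF).dvd_iff hp, (isolated_semidirect K hK N).dvd_iff hp]
  · intro p q hp hq hpq
    exact iff_of_false ((isolated_psl hF).no_edge hp hq hpq) ((isolated_semidirect K hK N).no_edge hp hq hpq)

end Cfsg.Agent.S3678
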