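import Cfsg.Agent.CharSimple.Basic
import Mathlib

/-!
# The socle of a primitive group
-/

namespace Cfsg.Agent.S3680

open MulAction

variable {G Ω : Type*} [Group G] [MulAction G Ω] [FaithfulSMul G Ω]

/-- An element commuting with a transitive subgroup and fixing a point is trivial. -/
theorem eq_one_of_commute (M : Subgroup G) [IsPretransitive M Ω] {c : G}
    (hc : ∀ x ∈ M, x * c = c * x) {a : Ω} (ha : c • a = a) : c = 1 := by
  apply eq_of_smul_eq_smul (α := Ω)
  intro z
  obtain ⟨x, rfl⟩ := exists_smul_eq M a z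
  rw [one_smul, Subgroup.smul_def, ← mul_smul, ← hc x x.2, mul_smul, ha]

/-- Two commuting transitive subgroups are isomorphic. -/
theorem equiv_of_commute (M M' : Subgroup G) [IsPretransitive M Ω] [IsPretransitive M' Ω]
    (hc : ∀ x ∈ M, ∀ y ∈ M', x * y = y * x) (a : Ω) : Nonempty (M ≃* M') := by
  have inj : ∀ x x' : M, (x : G) • a = (x' : G) • a → x = x' := by
    intro x x' h
    have h1 : ((x' : G)⁻¹ * x) • a = a := by rw [mul_smul, h, inv_smul_smul]
    have := eq_one_of_commute M' (fun y hy => (hc _ (mul_mem (inv_mem x'.2) x.2) y hy).symm) h1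
    exact Subtype.ext (inv_mul_eq_one.mp this).symm
  have inj' : ∀ y y' : M', (y : G) • a = (y' : G) • a → y = y' := by
    intro y y' h
    have h1 : ((y' : G)⁻¹ * y) • a = a := by rw [mul_smul, h, inv_smul_smul]
    have := eq_one_of_commute M (fun x hx => hc x hx _ (mul_mem (inv_mem y'.2) y.2)) h1
    exact Subtype.ext (inv_mul_eq_one.mp this).symm
  choose f hf using fun x : M => exists_smul_eq M' a ((x : G)⁻¹ • a)
  simp only [Subgroup.smul_def] at hf
  refine ⟨{ toEquiv := Equiv.ofBijective f ⟨?_, ?_⟩, map_mul' := ?_ }⟩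
  · intro x x' h
    have := (hf x).symm.trans ((congrArg (fun y : M' => (y : G) • a) h).trans (hf x'))
    have h2 := inj x⁻¹ x'⁻¹ (by simpa using this)
    exact inv_injective h2
  · intro y
    obtain ⟨x, hx⟩ := exists_smul_eq M a ((y : G) • a)
    rw [Subgroup.smul_def] at hx
    refine ⟨x⁻¹, inj' _ _ ?_⟩
    rw [hf, InvMemClass.coe_inv, inv_inv, hx]
  · intro x x'
    apply inj'
    change (f (x * x') : G) • a = ((f x : G) * (f x' : G)) • a
    rw [mul_smul, hf, hf, ← mul_smul (f x : G), ← hc _ (inv_mem x'.2) _ (f x).2, mul_smul, hf,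
      ← mul_smul, Subgroup.coe_mul, mul_inv_rev]

theorem result {G Ω : Type*} [Group G] [Finite G] [MulAction G Ω] [FaithfulSMul G Ω] [Finite Ω]
    (hprim : MulAction.IsPreprimitive G Ω) (N : Subgroup G)
    (hN : N = sSup {V : Subgroup G | V.Normal ∧ V ≠ ⊥ ∧ ∀ M : Subgroup G, M.Normal → M ≤ V → M = ⊥ ∨ M = V}) :
    (∃ p : ℕ, p.Prime ∧ IsMulCommutative N ∧ (∀ x : N, x ^ p = 1) ∧
      MulAction.IsPretransitive N Ω ∧ ∀ ω : Ω, MulAction.stabilizer N ω = ⊥) ∨
    (∃ (T : Type) (_ : Group T) (m : ℕ), 1 ≤ m ∧ IsSimpleGroup T ∧ ¬ IsMulCommutative T ∧ Nonempty (N ≃* (Fin m → T))) := by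
  classical
  haveI := hprim
  set 𝒱 := {V : Subgroup G | V.Normal ∧ V ≠ ⊥ ∧ ∀ M : Subgroup G, M.Normal → M ≤ V → M = ⊥ ∨ M = V}
  rcases subsingleton_or_nontrivial G with hG | hG
  · left
    haveI : IsPretransitive G Ω := hprim.toIsPretransitive
    refine ⟨2, Nat.prime_two, ⟨⟨fun _ _ => Subsingleton.elim _ _⟩⟩, fun x => Subsingleton.elim _ _, ?_,
      fun ω => Subsingleton.elim _ _⟩
    constructor
    intro x y
    obtain ⟨g, hg⟩ := exists_smul_eq G x y
    exact ⟨1, by rw [one_smul]; rwa [Subsingleton.elim g 1, one_smul] at hg⟩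
  obtain ⟨a, -⟩ : ∃ a : Ω, True := by
    rcases isEmpty_or_nonempty Ω with h | ⟨⟨a⟩⟩
    · obtain ⟨g, g', hne⟩ := exists_pair_ne G
      exact absurd (eq_of_smul_eq_smul (α := Ω) fun x => h.elim x) hne
    · exact ⟨a, trivial⟩
  have htrans : ∀ V ∈ 𝒱, IsPretransitive V Ω := by
    intro V hV
    haveI := hV.1
    apply IsQuasiPreprimitive.isPretransitive_of_normal (G := G)
    intro h
    apply hV.2.1
    rw [eq_bot_iff]
    intro v hv
    rw [Subgroup.mem_bot]
    apply eq_of_smul_eq_smul (α := Ω)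
    intro x
    have hx : x ∈ fixedPoints V Ω := h ▸ Set.mem_univ x
    rw [one_smul]
    exact hx ⟨v, hv⟩
  have hcomm : ∀ V ∈ 𝒱, ∀ V' ∈ 𝒱, V ≠ V' → ∀ x ∈ V, ∀ y ∈ V', x * y = y * x := by
    intro V hV V' hV' hne x hx y hy
    haveI := hV.1
    haveI := hV'.1
    have hd : Disjoint V V' := by
      rw [disjoint_iff]
      rcases hV.2.2 (V ⊓ V') inferInstance inf_le_left with h | h
      · exact h
      · rcases hV'.2.2 (V ⊓ V') inferInstance inf_le_right with h' | h'
        · exact h'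
        · exact absurd (h.symm.trans h') hne
    exact Subgroup.commute_of_normal_of_disjoint V V' hV.1 hV'.1 hd x y hx hy
  obtain ⟨V₀, -, ⟨hV₀n, hV₀ne⟩, hV₀min⟩ := Finite.exists_le_minimal
    (p := fun L : Subgroup G => L.Normal ∧ L ≠ ⊥) (a := ⊤) ⟨inferInstance, top_ne_bot⟩
  have hV₀ : V₀ ∈ 𝒱 := ⟨hV₀n, hV₀ne, fun M hM hle => (em (M = ⊥)).imp id fun h =>
    le_antisymm hle (hV₀min ⟨hM, h⟩ hle)⟩
  by_cases hab : ∃ V ∈ 𝒱, IsMulCommutative V
  · -- abelian socle
    left
    obtain ⟨V, hV, hc⟩ := hab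
    haveI := htrans V hV
    have hVc : ∀ x ∈ V, ∀ y ∈ V, x * y = y * x := fun x hx y hy =>
      congrArg Subtype.val (hc.is_comm.comm ⟨x, hx⟩ ⟨y, hy⟩)
    have hC : ∀ c : G, (∀ x ∈ V, x * c = c * x) → c ∈ V := by
      intro c hc'
      obtain ⟨x, hx⟩ := exists_smul_eq V a (c • a)
      rw [Subgroup.smul_def] at hx
      have h1 : ((x : G)⁻¹ * c) • a = a := by rw [mul_smul, ← hx, inv_smul_smul]
      have := eq_one_of_commute V (c := (x : G)⁻¹ * c) (fun y hy => by
        rw [← mul_assoc, hVc y hy _ (inv_mem x.2), mul_assoc, hc' y hy, mul_assoc]) h1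
      exact (inv_mul_eq_one.mp this) ▸ x.2
    have hNV : N = V := by
      rw [hN]
      refine le_antisymm (sSup_le fun V' hV' => ?_) (le_sSup hV)
      by_cases h : V = V'
      · exact h.ge
      · exact fun y hy => hC y fun x hx => hcomm V hV V' hV' h x hx y hy
    subst hNV
    haveI : Nontrivial N := (Subgroup.nontrivial_iff_ne_bot N).mpr hV.2.1
    obtain ⟨p, hp, hpd⟩ := Nat.exists_prime_and_dvd (n := Nat.card N) (by
      have := Finite.one_lt_card (α := N); omega)
    refine ⟨p, hp, hc, ?_, inferInstance, ?_⟩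
    · haveI := Fact.mk hp
      obtain ⟨y, hy⟩ := exists_prime_orderOf_dvd_card' p hpd
      let L : Subgroup G :=
        { carrier := {x | x ∈ N ∧ x ^ p = 1}
          one_mem' := ⟨one_mem _, one_pow _⟩
          mul_mem' := fun {u v} hu hv => ⟨mul_mem hu.1 hv.1, by
            rw [Commute.mul_pow (hVc u hu.1 v hv.1), hu.2, hv.2, one_mul]⟩
          inv_mem' := fun {u} hu => ⟨inv_mem hu.1, by rw [inv_pow, hu.2, inv_one]⟩ }
      have hLn : L.Normal := ⟨fun u hu g => ⟨hV.1.conj_mem u hu.1 g, by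
        rw [conj_pow, hu.2, mul_one, mul_inv_cancel]⟩⟩
      rcases hV.2.2 L hLn (fun u hu => hu.1) with h | h
      · exfalso
        have hy' : (y : G) ∈ L := ⟨y.2, by
          rw [← SubgroupClass.coe_pow, ← hy, pow_orderOf_eq_one, OneMemClass.coe_one]⟩
        rw [h, Subgroup.mem_bot, OneMemClass.coe_eq_one] at hy'
        rw [hy', orderOf_one] at hy
        exact hp.ne_one hy.symm
      · intro x
        have : (x : G) ∈ L := by rw [h]; exact x.2
        exact Subtype.ext (by rw [SubgroupClass.coe_pow, OneMemClass.coe_one]; exact this.2)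
    · intro ω
      rw [eq_bot_iff]
      intro x hx
      rw [Subgroup.mem_bot]
      exact Subtype.ext (eq_one_of_commute N (fun y hy => hVc y hy x x.2) hx)
  -- non-abelian socle
  right
  push Not at hab
  obtain ⟨T, iT, iF, m, hm, hTs, hTc, ⟨e⟩⟩ :=
    CfsgLib.CharSimple.exists_equiv_pi hV₀.1 hV₀.2.1 hV₀.2.2 (hab V₀ hV₀)
  by_cases h1 : ∀ V ∈ 𝒱, V = V₀
  · have hNV : N = V₀ := by
      rw [hN]
      exact le_antisymm (sSup_le fun V hV => (h1 V hV).le) (le_sSup hV₀)
    exact ⟨T, iT, m, hm, hTs, hTc, ⟨(MulEquiv.subgroupCongr hNV).trans e⟩⟩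
  push Not at h1
  obtain ⟨V₁, hV₁, hne⟩ := h1
  haveI := htrans V₀ hV₀
  haveI := htrans V₁ hV₁
  have h01 := hcomm V₀ hV₀ V₁ hV₁ hne.symm
  obtain ⟨e₁⟩ := equiv_of_commute V₁ V₀ (fun x hx y hy => (h01 y hy x hx).symm) a
  have hC : ∀ c : G, (∀ x ∈ V₀, x * c = c * x) → c ∈ V₁ := by
    intro c hc'
    obtain ⟨x, hx⟩ := exists_smul_eq V₁ a (c • a)
    rw [Subgroup.smul_def] at hx
    have h1 : ((x : G)⁻¹ * c) • a = a := by rw [mul_smul, ← hx, inv_smul_smul]
    have := eq_one_of_commute V₀ (c := (x : G)⁻¹ * c) (fun y hy => by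
      rw [← mul_assoc, h01 y hy _ (inv_mem x.2), mul_assoc, hc' y hy, mul_assoc]) h1
    exact (inv_mul_eq_one.mp this) ▸ x.2
  have hNV : N = V₀ ⊔ V₁ := by
    rw [hN]
    refine le_antisymm (sSup_le fun V hV => ?_) (sup_le (le_sSup hV₀) (le_sSup hV₁))
    by_cases h : V₀ = V
    · exact h ▸ le_sup_left
    · exact le_trans (fun y hy => hC y fun x hx => hcomm V₀ hV₀ V hV h x hx y hy) le_sup_right
  have hc01 : ∀ (x : V₀) (y : V₁), Commute (V₀.subtype x) (V₁.subtype y) := fun x y => h01 x x.2 y y.2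
  let f : V₀ × V₁ →* G := V₀.subtype.noncommCoprod V₁.subtype hc01
  have hf : f.range = N := by
    change (V₀.subtype.noncommCoprod V₁.subtype hc01).range = N
    rw [MonoidHom.noncommCoprod_range, Subgroup.range_subtype, Subgroup.range_subtype, hNV]
  have hfi : Function.Injective f := by
    rw [injective_iff_map_eq_one]
    rintro ⟨x, y⟩ h
    simp only [f, MonoidHom.noncommCoprod_apply, Subgroup.coe_subtype] at h
    have hy : (y : G) = (x : G)⁻¹ := eq_inv_of_mul_eq_one_right h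
    haveI := hV₀.1
    haveI := hV₁.1
    have hmem : (x : G) ∈ V₀ ⊓ V₁ := Subgroup.mem_inf.mpr ⟨x.2, by rw [← inv_inv (x : G), ← hy]; exact inv_mem y.2⟩
    have hbot : V₀ ⊓ V₁ = ⊥ := by
      rcases hV₀.2.2 (V₀ ⊓ V₁) inferInstance inf_le_left with h' | h'
      · exact h'
      · rcases hV₁.2.2 (V₀ ⊓ V₁) inferInstance inf_le_right with h'' | h''
        · exact h''
        · exact absurd (h''.symm.trans h') hne
    rw [hbot, Subgroup.mem_bot] at hmem
    have hy1 : (y : G) = 1 := by rw [hy, hmem, inv_one]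
    exact Prod.ext (Subtype.ext hmem) (Subtype.ext hy1)
  let e' : (Fin m → T) × (Fin m → T) ≃* (Fin (m + m) → T) :=
    { toEquiv := Fin.appendEquiv m m
      map_mul' := fun u v => by
        funext i
        simp only [Fin.appendEquiv, Equiv.coe_fn_mk, Pi.mul_apply, Prod.fst_mul, Prod.snd_mul]
        induction i using Fin.addCases <;> simp only [Fin.append_left, Fin.append_right, Pi.mul_apply] }
  exact ⟨T, iT, m + m, by omega, hTs, hTc, ⟨((MulEquiv.subgroupCongr hf.symm).trans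
    (MonoidHom.ofInjective hfi).symm).trans ((MulEquiv.prodCongr e (e₁.trans e)).trans e')⟩⟩

end Cfsg.Agent.S3680
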