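import Mathlib

namespace Cfsg.Agent.S3681

open Equiv Equiv.Perm

/-- If the supports of two permutations meet in exactly one point, their commutator is a 3-cycle. -/
theorem isThreeCycle_commutator {α : Type*} [Fintype α] [DecidableEq α] (x y : Perm α) (c : α)
    (hxc : x c ≠ c) (hyc : y c ≠ c) (hdis : ∀ z, x z ≠ z → y z ≠ z → z = c) :
    IsThreeCycle (x * y * x⁻¹ * y⁻¹) := by
  have hy_fix : ∀ z, x z ≠ z → z ≠ c → y z = z := fun z h1 h2 => by
    by_contra h; exact h2 (hdis z h1 h)
  have hx_fix : ∀ z, y z ≠ z → z ≠ c → x z = z := fun z h1 h2 => by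
    by_contra h; exact h2 (hdis z h h1)
  have hy' : ∀ z, y z = z → y⁻¹ z = z := fun z h => by
    rw [inv_eq_iff_eq, h]
  have hx' : ∀ z, x z = z → x⁻¹ z = z := fun z h => by
    rw [inv_eq_iff_eq, h]
  set A := x c with hA
  set B := y c with hB
  have hxA : x A ≠ A := fun h => hxc (x.injective h)
  have hyB : y B ≠ B := fun h => hyc (y.injective h)
  have hAB : A ≠ B := fun h => by
    have := hy_fix A hxA hxc
    exact hyB (h ▸ this)
  set u := x⁻¹ c with hu
  set v := y⁻¹ c with hv
  have hxu : x u = c := by simp [hu]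
  have hyv : y v = c := by simp [hv]
  have huc : u ≠ c := fun h => hxc (by rw [h] at hxu; exact hxu)
  have hvc : v ≠ c := fun h => hyc (by rw [h] at hyv; exact hyv)
  have hyu : y u = u := hy_fix u (by rw [hxu]; exact huc.symm) huc
  have hxv : x v = v := hx_fix v (by rw [hyv]; exact hvc.symm) hvc
  have hc1 : (x * y * x⁻¹ * y⁻¹) c = A := by
    simp only [coe_mul, Function.comp_apply, ← hv, hx' v hxv, hyv, hA]
  have hcA : (x * y * x⁻¹ * y⁻¹) A = B := by
    have hyA : y A = A := hy_fix A hxA hxc
    have : x⁻¹ A = c := by rw [inv_eq_iff_eq, hA]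
    simp only [coe_mul, Function.comp_apply, hy' A hyA, this, ← hB]
    exact hx_fix B hyB hyc
  have hcB : (x * y * x⁻¹ * y⁻¹) B = c := by
    have : y⁻¹ B = c := by rw [inv_eq_iff_eq, hB]
    simp only [coe_mul, Function.comp_apply, this, ← hu, hyu, hxu]
  have hsupp : (x * y * x⁻¹ * y⁻¹).support = {c, A, B} := by
    ext z
    simp only [mem_support, Finset.mem_insert, Finset.mem_singleton]
    constructor
    · intro h
      by_contra hn
      push Not at hn
      obtain ⟨hzc, hzA, hzB⟩ := hn
      apply h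
      simp only [coe_mul, Function.comp_apply]
      by_cases hyz : y z = z
      · rw [hy' z hyz]
        have hw : x (x⁻¹ z) = z := by simp
        set w := x⁻¹ z
        have hwc : w ≠ c := fun h' => hzA (by rw [← hw, h', hA])
        by_cases hyw : y w = w
        · rw [hyw, hw]
        · have hxw := hx_fix w hyw hwc
          rw [hxw] at hw
          rw [hw] at hyw
          exact absurd hyz hyw
      · have hw : y (y⁻¹ z) = z := by simp
        set w := y⁻¹ z
        have hwc : w ≠ c := fun h' => hzB (by rw [← hw, h', hB])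
        have hyw : y w ≠ w := fun h' => hyz (by rw [hw] at h'; rw [h'] at hw ⊢; exact hw)
        rw [hx' w (hx_fix w hyw hwc), hw, hx_fix z hyz hzc]
    · rintro (rfl | rfl | rfl)
      · rw [hc1]; exact hxc
      · rw [hcA]; exact hAB.symm
      · rw [hcB]; exact hyc.symm
  rw [← card_support_eq_three_iff, hsupp]
  rw [Finset.card_insert_of_notMem (by simp [Ne.symm hxc, Ne.symm hyc]),
    Finset.card_pair hAB]

theorem result {G Ω : Type*} [Group G] [Finite G] [MulAction G Ω] [FaithfulSMul G Ω] [Fintype Ω] [DecidableEq Ω]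
    (hprim : MulAction.IsPreprimitive G Ω) (hA : ¬ alternatingGroup Ω ≤ (MulAction.toPermHom G Ω).range) :
    Nat.card G * Nat.factorial ((Fintype.card Ω + 1) / 2) ≤ Nat.factorial (Fintype.card Ω) := by
  classical
  set n := Fintype.card Ω with hn
  -- a smallest base
  have hex : ∃ m : ℕ, ∃ Γ : Finset Ω, Γ.card = m ∧ ∀ g : G, (∀ z ∈ Γ, g • z = z) → g = 1 :=
    ⟨_, Finset.univ, rfl, fun g hg => eq_of_smul_eq_smul (α := Ω) fun z => by
      rw [hg z (Finset.mem_univ z), one_smul]⟩
  set m := Nat.find hex with hm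
  obtain ⟨Γ, hΓm, hΓ⟩ := Nat.find_spec hex
  have hmin : ∀ Δ : Finset Ω, Δ.card < m → ∃ g : G, (∀ z ∈ Δ, g • z = z) ∧ g ≠ 1 := by
    intro Δ hΔ
    have := Nat.find_min hex hΔ
    push Not at this
    exact this Δ rfl
  -- the base is at most half of the points
  have hsmall : 2 * m ≤ n := by
    by_contra hlt
    push Not at hlt
    obtain ⟨x, hxfix, hx1⟩ := hmin Γᶜ (by rw [Finset.card_compl, hΓm]; omega)
    obtain ⟨c, hc, hxc⟩ : ∃ c ∈ Γ, x • c ≠ c := by
      by_contra h
      push Not at h
      exact hx1 (hΓ x h)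
    obtain ⟨y, hyfix, hy1⟩ := hmin (Γ.erase c) (by
      rw [Finset.card_erase_of_mem hc, hΓm]
      have : 0 < Γ.card := Finset.card_pos.mpr ⟨c, hc⟩
      omega)
    have hyc : y • c ≠ c := fun h => hy1 (hΓ y fun z hz => by
      by_cases hzc : z = c
      · rw [hzc, h]
      · exact hyfix z (Finset.mem_erase.mpr ⟨hzc, hz⟩))
    apply hA
    have hP : MulAction.IsPreprimitive (MulAction.toPermHom G Ω).range Ω :=
      let f : Ω →ₑ[⇑(MulAction.toPermHom G Ω).rangeRestrict] Ω :=
        { toFun := id, map_smul' := fun g z => rfl }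
      MulAction.IsPreprimitive.of_surjective (f := f) Function.surjective_id
    refine Equiv.Perm.alternatingGroup_le_of_isPreprimitive_of_isThreeCycle_mem hP
      (g := MulAction.toPerm x * MulAction.toPerm y * (MulAction.toPerm x)⁻¹ * (MulAction.toPerm y)⁻¹)
      (isThreeCycle_commutator _ _ c hxc hyc ?_) ?_
    · intro z hxz hyz
      have hzΓ : z ∈ Γ := by
        by_contra h
        exact hxz (hxfix z (Finset.mem_compl.mpr h))
      by_contra hzc
      exact hyz (hyfix z (Finset.mem_erase.mpr ⟨hzc, hzΓ⟩))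
    · exact ⟨x * y * x⁻¹ * y⁻¹, by simp only [map_mul, map_inv, MulAction.toPermHom_apply]⟩
  -- counting
  have hinj : Function.Injective (fun g : G =>
      (⟨fun z => g • (z : Ω), fun z w h => Subtype.ext (MulAction.injective g h)⟩ : Γ ↪ Ω)) := by
    intro g h hgh
    have : h⁻¹ * g = 1 := hΓ _ fun z hz => by
      have := congrArg (fun f : Γ ↪ Ω => f ⟨z, hz⟩) hgh
      change g • z = h • z at this
      rw [mul_smul, this, inv_smul_smul]
    rwa [inv_mul_eq_one, eq_comm] at this
  have hle := Nat.card_le_card_of_injective _ hinj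
  rw [Nat.card_eq_fintype_card (α := Γ ↪ Ω), Fintype.card_embedding_eq, Fintype.card_coe, hΓm] at hle
  calc Nat.card G * Nat.factorial ((n + 1) / 2) ≤ n.descFactorial m * Nat.factorial (n - m) := by
        gcongr
        omega
    _ = Nat.factorial n := by rw [mul_comm, Nat.factorial_mul_descFactorial (by omega)]

end Cfsg.Agent.S3681
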