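import Mathlib

namespace Cfsg.Agent.S3683

theorem result {G Ω : Type*} [Group G] [Finite G] [MulAction G Ω] [FaithfulSMul G Ω] [Finite Ω]
    (hprim : MulAction.IsPreprimitive G Ω) (a b : Ω) (hab : a ≠ b) (hfix : ∀ g : G, g • a = a → g • b = b) :
    MulAction.stabilizer G a = ⊥ ∧ IsCyclic G ∧ (Nat.card G).Prime := by
  have : Nontrivial Ω := ⟨a, b, hab⟩
  have hA : IsCoatom (MulAction.stabilizer G a) :=
    MulAction.IsPreprimitive.isCoatom_stabilizer_of_isPreprimitive G a
  have hB : IsCoatom (MulAction.stabilizer G b) :=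
    MulAction.IsPreprimitive.isCoatom_stabilizer_of_isPreprimitive G b
  have heq : MulAction.stabilizer G b = MulAction.stabilizer G a := by
    have hle : MulAction.stabilizer G a ≤ MulAction.stabilizer G b := fun g hg => hfix g hg
    rcases hA.le_iff.mp hle with h | h
    · exact absurd h hB.1
    · exact h
  -- the points with that stabiliser form a block
  obtain ⟨g₀, hg₀⟩ := MulAction.exists_smul_eq G a b
  have hnorm : g₀ ∈ Subgroup.normalizer (MulAction.stabilizer G a : Set G) := by
    rw [Subgroup.mem_normalizer_iff]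
    intro h
    constructor
    · intro hh
      rw [← heq, MulAction.mem_stabilizer_iff, ← hg₀]
      simp only [mul_smul, inv_smul_smul]
      rw [MulAction.mem_stabilizer_iff.mp hh]
    · intro hh
      rw [← heq, MulAction.mem_stabilizer_iff, ← hg₀] at hh
      simp only [mul_smul, inv_smul_smul, smul_left_cancel_iff] at hh
      exact hh
  have hN : (MulAction.stabilizer G a).Normal := by
    rw [← Subgroup.normalizer_eq_top_iff]
    rcases hA.le_iff.mp (Subgroup.le_normalizer (H := MulAction.stabilizer G a)) with h | h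
    · exact h
    · exfalso
      rw [h] at hnorm
      exact hab (hnorm.symm.trans hg₀)
  have hbot : MulAction.stabilizer G a = ⊥ := by
    rw [eq_bot_iff]
    intro h hh
    rw [Subgroup.mem_bot]
    apply eq_of_smul_eq_smul (α := Ω)
    intro x
    obtain ⟨g, rfl⟩ := MulAction.exists_smul_eq G a x
    have := hN.conj_mem h hh g⁻¹
    rw [MulAction.mem_stabilizer_iff] at this
    simp only [mul_smul, inv_inv, inv_smul_eq_iff] at this
    rw [one_smul, this]
  rw [hbot] at hA
  have hs : IsSimpleOrder (Subgroup G) :=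
    { exists_pair_ne := ⟨⊥, ⊤, hA.1⟩
      eq_bot_or_eq_top := fun H => (hA.le_iff.mp (bot_le : ⊥ ≤ H)).symm }
  have : Nontrivial G := by
    refine ⟨g₀, 1, fun h => hab ?_⟩
    rw [← hg₀, h, one_smul]
  have hp : (Nat.card G).Prime := by
    obtain ⟨p, hp, hpd⟩ := (Nat.card G).exists_prime_and_dvd (by
      have := Finite.one_lt_card (α := G); omega)
    have := Fact.mk hp
    obtain ⟨x, hx⟩ := exists_prime_orderOf_dvd_card' (G := G) p hpd
    rcases eq_bot_or_eq_top (Subgroup.zpowers x) with h | h
    · rw [Subgroup.zpowers_eq_bot] at h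
      rw [h, orderOf_one] at hx
      exact absurd hx.symm hp.ne_one
    · have h2 := Nat.card_zpowers x
      rw [h, Subgroup.card_top, hx] at h2
      rwa [h2]
  have := Fact.mk hp
  exact ⟨hbot, isCyclic_of_prime_card (p := Nat.card G) rfl, hp⟩

end Cfsg.Agent.S3683
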