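import Mathlib
import Cfsg.Agent.Small.Dihedral

namespace Cfsg.Agent.S3684

open MulAction

theorem result {G Ω : Type*} [Group G] [Finite G] [MulAction G Ω] [FaithfulSMul G Ω] [Finite Ω]
    (hprim : MulAction.IsPreprimitive G Ω) (a b : Ω) (h2 : Nat.card (MulAction.orbit (MulAction.stabilizer G a) b) = 2) :
    Nat.card (MulAction.stabilizer G a) = 2 ∧ ∃ p : ℕ, p.Prime ∧ Nonempty (G ≃* DihedralGroup p) := by
  set A := stabilizer G a with hA
  set B := stabilizer G b with hB
  have hidx : (B.subgroupOf A).index = 2 := by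
    have : B.subgroupOf A = stabilizer A b := by
      ext x; simp [hB, Subgroup.mem_subgroupOf, Subgroup.smul_def]
    rw [this, index_stabilizer, ← Nat.card_coe_set_eq, h2]
  have hAne : A ≠ ⊥ := by
    intro h
    haveI : Subsingleton A := by rw [h]; infer_instance
    simp [Subgroup.index_eq_one.mpr (Subsingleton.elim _ ⊤)] at hidx
  have hab : a ≠ b := by
    rintro rfl
    have : B.subgroupOf A = ⊤ := Subgroup.subgroupOf_eq_top.mpr le_rfl
    simp [this] at hidx
  haveI : Nontrivial Ω := ⟨a, b, hab⟩
  have hAc : IsCoatom A := IsPreprimitive.isCoatom_stabilizer_of_isPreprimitive G a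
  have hBA : ¬ A ≤ B := by
    intro h
    simp [Subgroup.subgroupOf_eq_top.mpr h] at hidx
  obtain ⟨g, hg⟩ := exists_smul_eq G a b
  have hconj : B = A.map (MulAut.conj g).toMonoidHom := by
    rw [hA, hB, ← hg, stabilizer_smul_eq_stabilizer_map_conj]
  have hcard : Nat.card B = Nat.card A := by
    rw [hconj]
    exact Nat.card_congr (Subgroup.equivMapOfInjective A _ (MulAut.conj g).injective).toEquiv.symm
  have hidx2 : (A.subgroupOf B).index = 2 := by
    have h1 := (B.subgroupOf A).index_mul_card
    have h1' := (A.subgroupOf B).index_mul_card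
    rw [hidx] at h1
    have e1 : Nat.card (B.subgroupOf A) = Nat.card (A ⊓ B : Subgroup G) := by
      rw [← Subgroup.inf_subgroupOf_right, inf_comm]
      exact Nat.card_congr (Subgroup.subgroupOfEquivOfLe inf_le_left).toEquiv
    have e2 : Nat.card (A.subgroupOf B) = Nat.card (A ⊓ B : Subgroup G) := by
      rw [← Subgroup.inf_subgroupOf_right]
      exact Nat.card_congr (Subgroup.subgroupOfEquivOfLe inf_le_right).toEquiv
    rw [e1] at h1
    rw [e2, hcard, ← h1] at h1'
    exact Nat.eq_of_mul_eq_mul_right Nat.card_pos h1'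
  -- the two point stabiliser is normal
  have hD : A ⊓ B = ⊥ := by
    set D := A ⊓ B with hDdef
    have hnA : A ≤ Subgroup.normalizer (D : Set G) := by
      rw [← Subgroup.normal_subgroupOf_iff_le_normalizer inf_le_left]
      apply Subgroup.normal_of_index_eq_two
      rw [inf_comm, Subgroup.inf_subgroupOf_right]; exact hidx
    have hnB : B ≤ Subgroup.normalizer (D : Set G) := by
      rw [← Subgroup.normal_subgroupOf_iff_le_normalizer inf_le_right]
      apply Subgroup.normal_of_index_eq_two
      rw [Subgroup.inf_subgroupOf_right]; exact hidx2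
    have htop : Subgroup.normalizer (D : Set G) = ⊤ := by
      rcases hAc.le_iff.mp hnA with h | h
      · exact h
      · rw [h] at hnB
        exact absurd (Subgroup.eq_of_le_of_card_ge hnB hcard.symm.le).ge hBA
    have hN : D.Normal := Subgroup.normalizer_eq_top_iff.mp htop
    rw [eq_bot_iff]
    intro h hh
    rw [Subgroup.mem_bot]
    apply eq_of_smul_eq_smul (α := Ω)
    intro x
    obtain ⟨k, rfl⟩ := exists_smul_eq G a x
    have h' := (Subgroup.mem_inf.mp (hN.conj_mem h hh k⁻¹)).1
    rw [hA, mem_stabilizer_iff] at h'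
    simp only [mul_smul, inv_inv, inv_smul_eq_iff] at h'
    rw [h', one_smul]
  have hA2 : Nat.card A = 2 := by
    have h1 := (B.subgroupOf A).index_mul_card
    have : B.subgroupOf A = ⊥ := by
      rw [← Subgroup.inf_subgroupOf_right, inf_comm, hD, Subgroup.bot_subgroupOf]
    rw [hidx, this, Subgroup.card_bot] at h1
    omega
  refine ⟨hA2, ?_⟩
  have key : ∀ H : Subgroup G, Nat.card H = 2 → ∃ t : G, orderOf t = 2 ∧ H = Subgroup.zpowers t := by
    intro H hH
    haveI : Fact (Nat.Prime 2) := ⟨Nat.prime_two⟩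
    obtain ⟨x, hx⟩ := exists_prime_orderOf_dvd_card' (G := H) 2 (by rw [hH])
    refine ⟨x, by rw [Subgroup.orderOf_coe]; exact hx, ?_⟩
    symm
    apply Subgroup.eq_of_le_of_card_ge (by rw [Subgroup.zpowers_le]; exact x.2)
    rw [Nat.card_zpowers, Subgroup.orderOf_coe, hx, hH]
  obtain ⟨t, ht, htA⟩ := key A hA2
  obtain ⟨s, hs, hsB⟩ := key B (hcard.trans hA2)
  have hts : t ≠ s := fun h => hBA (by rw [htA, h, ← hsB])
  have htu : t ∉ Subgroup.zpowers (t * s) := by
    intro h
    obtain ⟨k, hk⟩ := Subgroup.mem_zpowers_iff.mp h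
    have hc : Commute t (t * s) := by
      have := (Commute.refl (t * s)).zpow_left k
      rwa [hk] at this
    have h1 := CfsgLib.Small.invol_conj_mul ht hs
    rw [hc.eq, mul_inv_cancel_right] at h1
    have h2 : (t * s) ^ (2 : ℤ) = 1 := by
      rw [zpow_two]
      exact mul_eq_one_iff_eq_inv.mpr h1
    rcases Int.emod_two_eq_zero_or_one k with he | he
    · rw [← Int.mul_ediv_add_emod k 2, he, add_zero, zpow_mul, h2, one_zpow] at hk
      exact CfsgLib.Small.ne_one_of_orderOf_two ht hk.symm
    · rw [← Int.mul_ediv_add_emod k 2, he, zpow_add, zpow_mul, h2, one_zpow, one_mul, zpow_one] at hk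
      exact CfsgLib.Small.ne_one_of_orderOf_two hs (mul_eq_left.mp hk)
  have hgen : Subgroup.closure ({t, s} : Set G) = ⊤ := by
    have hle : A ≤ Subgroup.closure ({t, s} : Set G) := by
      rw [htA, Subgroup.zpowers_le]; exact Subgroup.subset_closure (by simp)
    rcases hAc.le_iff.mp hle with h | h
    · exact h
    · exfalso
      apply hBA
      have hsA : s ∈ A := by rw [← h]; exact Subgroup.subset_closure (by simp)
      have : B ≤ A := by rw [hsB, Subgroup.zpowers_le]; exact hsA
      exact (Subgroup.eq_of_le_of_card_ge this hcard.symm.le).ge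
  have e : G ≃* DihedralGroup (orderOf (t * s)) :=
    (Subgroup.topEquiv.symm.trans (MulEquiv.subgroupCongr hgen.symm)).trans
      (CfsgLib.Small.closurePairEquivDihedral ht hs hts)
  refine ⟨orderOf (t * s), ?_, ⟨e⟩⟩
  have hcardG : Nat.card G = 2 * orderOf (t * s) := by
    rw [Nat.card_congr e.toEquiv, DihedralGroup.nat_card]
  rw [Nat.prime_def_lt']
  have hne1 : orderOf (t * s) ≠ 1 := by
    rw [Ne, orderOf_eq_one_iff, mul_eq_one_iff_eq_inv, CfsgLib.Small.inv_eq_self_of_orderOf_two hs]
    exact hts
  have hpos : 0 < orderOf (t * s) := orderOf_pos _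
  refine ⟨by omega, fun d hd2 hdlt hdvd => ?_⟩
  -- a dihedral subgroup strictly between
  set y := t * (t * s) ^ d with hy
  have hu : (t * s) ^ d ≠ 1 := pow_ne_one_of_lt_orderOf (by omega) hdlt
  have hy2 : orderOf y = 2 := by
    rw [CfsgLib.Small.orderOf_eq_two_iff_sq]
    constructor
    · intro h
      apply htu
      have : t = ((t * s) ^ d)⁻¹ := eq_inv_of_mul_eq_one_left h
      have hmem : ((t * s) ^ d)⁻¹ ∈ Subgroup.zpowers (t * s) :=
        inv_mem (Subgroup.pow_mem _ (Subgroup.mem_zpowers (t * s)) d)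
      exact (congrArg (· ∈ Subgroup.zpowers (t * s)) this).mpr hmem
    · have h1 := CfsgLib.Small.invol_conj_pow (CfsgLib.Small.invol_conj_mul ht hs) d
      rw [CfsgLib.Small.inv_eq_self_of_orderOf_two ht] at h1
      rw [hy, ← mul_assoc, h1, inv_mul_cancel]
  have hxy : t ≠ y := fun h => hu (mul_eq_left.mp (hy ▸ h).symm)
  have hxyu : t * y = (t * s) ^ d := by
    rw [hy, ← mul_assoc, CfsgLib.Small.mul_self_of_orderOf_two ht, one_mul]
  set K := Subgroup.closure ({t, y} : Set G) with hK
  have hKcard : Nat.card K = 2 * (orderOf (t * s) / d) := by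
    rw [Nat.card_congr (CfsgLib.Small.closurePairEquivDihedral ht hy2 hxy).toEquiv,
      DihedralGroup.nat_card, hxyu, orderOf_pow_of_dvd (by omega) hdvd]
  have hle : A ≤ K := by
    rw [htA, Subgroup.zpowers_le]; exact Subgroup.subset_closure (by simp)
  rcases hAc.le_iff.mp hle with h | h
  · rw [h, Subgroup.card_top, hcardG] at hKcard
    have : orderOf (t * s) / d < orderOf (t * s) := Nat.div_lt_self hpos (by omega)
    omega
  · rw [h, hA2] at hKcard
    have : 2 ≤ orderOf (t * s) / d := by
      obtain ⟨c, hc⟩ := hdvd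
      rw [hc, Nat.mul_div_cancel_left _ (by omega)]
      by_contra hc2
      rcases c with _ | _ | c
      · rw [Nat.mul_zero] at hc; omega
      · rw [Nat.mul_one] at hc; omega
      · omega
    omega

end Cfsg.Agent.S3684
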