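import Cfsg.Statements.S3686
import Cfsg.Agent.CubicSuborbit.Main
import Cfsg.Agent.SuborbitThree.CaseFour
import Cfsg.Agent.SuborbitThree.CaseTwelve
import Cfsg.Agent.SuborbitThree.CaseEight
import Cfsg.Agent.SuborbitThree.SmallCase

set_option autoImplicit false
open Cfsg

namespace Cfsg.Agent.S3686

/-- Let G be a finite insoluble group acting faithfully and primitively on a set Ω so that the stabilizer of a point a has an orbit of length 3. Then G is isomorphic to one of: the alternating or the symmetric group of degree 5, PGL(2, 7), PSL(2, 11), PSL(2, 13), PSL(2, p) for a prime p ≡ ±1 (mod 16), PSL(3, 3), or a group containing a normal subgroup of index 2 isomorphic to PSL(3, 3) with trivial centralizer. -/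
theorem result {G Ω : Type*} [Group G] [Finite G] [MulAction G Ω] [FaithfulSMul G Ω] [Finite Ω]
    (hsol : ¬ Group.IsSolvable G) (hprim : MulAction.IsPreprimitive G Ω) (a b : Ω) (h3 : Nat.card (MulAction.orbit (MulAction.stabilizer G a) b) = 3) :
    Nonempty (G ≃* alternatingGroup (Fin 5)) ∨ Nonempty (G ≃* Equiv.Perm (Fin 5)) ∨
      Nonempty (G ≃* GL (Fin 2) (ZMod 7) ⧸ Subgroup.center (GL (Fin 2) (ZMod 7))) ∨
      Nonempty (G ≃* Matrix.ProjectiveSpecialLinearGroup (Fin 2) (ZMod 11)) ∨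
      Nonempty (G ≃* Matrix.ProjectiveSpecialLinearGroup (Fin 2) (ZMod 13)) ∨
      (∃ p : ℕ, p.Prime ∧ (p % 16 = 1 ∨ p % 16 = 15) ∧ Nonempty (G ≃* Matrix.ProjectiveSpecialLinearGroup (Fin 2) (ZMod p))) ∨
      Nonempty (G ≃* Matrix.ProjectiveSpecialLinearGroup (Fin 3) (ZMod 3)) ∨
      (∃ N : Subgroup G, N.Normal ∧ N.index = 2 ∧ Subgroup.centralizer (N : Set G) = ⊥ ∧
        Nonempty (N ≃* Matrix.ProjectiveSpecialLinearGroup (Fin 3) (ZMod 3))) := by
  have hshape := CfsgLib.CubicSuborbit.main hprim a b h3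
  haveI hs4 : Group.IsSolvable (Equiv.Perm (Fin 4)) :=
    CfsgLib.OutTwo.isSolvable_of_card_dvd_168
      (by rw [Nat.card_perm, Nat.card_fin]; norm_num [Nat.factorial])
      (by rw [Nat.card_perm, Nat.card_fin]; norm_num [Nat.factorial])
  haveI hd12 : Group.IsSolvable (DihedralGroup 6) :=
    CfsgLib.OutTwo.isSolvable_of_card_dvd_168
      (by rw [DihedralGroup.nat_card]; norm_num) (by rw [DihedralGroup.nat_card]; norm_num)
  haveI hs3 : Group.IsSolvable (Equiv.Perm (Fin 3)) :=
    CfsgLib.OutTwo.isSolvable_of_card_dvd_168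
      (by rw [Nat.card_perm, Nat.card_fin]; norm_num [Nat.factorial])
      (by rw [Nat.card_perm, Nat.card_fin]; norm_num [Nat.factorial])
  haveI hc3 : Group.IsSolvable (Multiplicative (ZMod 3)) :=
    Group.isSolvable_of_comm fun x y => mul_comm x y
  haveI hc2 : Group.IsSolvable (Multiplicative (ZMod 2)) :=
    Group.isSolvable_of_comm fun x y => mul_comm x y
  have hsolv : Group.IsSolvable (MulAction.stabilizer G a) := by
    rcases hshape with ⟨⟨e⟩⟩ | ⟨⟨e⟩⟩ | ⟨⟨e⟩⟩ | ⟨⟨e⟩⟩ | ⟨⟨e⟩⟩ <;>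
      exact Group.isSolvable_of_surjective (f := e.symm.toMonoidHom) e.symm.surjective
  have S := CfsgLib.SuborbitThree.stab_of_primitive hsol hprim a b h3 hsolv
  rcases hshape with h | h | h | h | h
  · exact Or.inl (CfsgLib.SuborbitThree.case_small S (Or.inl h))
  · exact Or.inl (CfsgLib.SuborbitThree.case_small S (Or.inr h))
  · rcases CfsgLib.SuborbitThree.case_twelve S h with h | h | h | h
    · exact Or.inr (Or.inl h)
    · exact Or.inr (Or.inr (Or.inl h))
    · exact Or.inr (Or.inr (Or.inr (Or.inl h)))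
    · exact Or.inr (Or.inr (Or.inr (Or.inr (Or.inl h))))
  · rcases CfsgLib.SuborbitThree.case_four S h with h | h
    · exact Or.inr (Or.inr (Or.inr (Or.inr (Or.inr (Or.inl h)))))
    · exact Or.inr (Or.inr (Or.inr (Or.inr (Or.inr (Or.inr (Or.inl h))))))
  · exact Or.inr (Or.inr (Or.inr (Or.inr (Or.inr (Or.inr (Or.inr
      (CfsgLib.SuborbitThree.case_eight S h)))))))

end Cfsg.Agent.S3686
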