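import Cfsg.Statements.S3687
import Cfsg.Agent.Sims60.KnappEmbed
-- import your own Cfsg.Agent.* helpers here

set_option autoImplicit false
open Cfsg

namespace Cfsg.Agent.S3687

/-- Let a finite group G act faithfully and primitively on a set Ω, let a and b be points such that the orbit Δ of b under the stabilizer H of a has d ≥ 6 elements, and suppose that the permutation group induced by H on Δ contains the alternating group of Δ (the image of H in the symmetric group of Δ has index at most 2) while H does not act faithfully on Δ. Then either H induces exactly the alternating group of Δ and H is isomorphic to the direct product of the alternating groups of degrees d and d - 1; or H induces the full symmetric group of Δ and H is isomorphic to one of: the direct product of the symmetric groups of degrees d and d - 1, the direct product of the symmetric group of degree d with the alternating group of degree d - 1, or the subgroup of the direct product of the symmetric groups of degrees d and d - 1 consisting of the pairs of permutations with equal signs.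 -/
theorem result {G Ω : Type*} [Group G] [Finite G] [MulAction G Ω] [FaithfulSMul G Ω] [Finite Ω]
    (hprim : MulAction.IsPreprimitive G Ω) (a b : Ω) (d : ℕ) (hd : Nat.card (MulAction.orbit (MulAction.stabilizer G a) b) = d) (h6 : 6 ≤ d)
    (halt : (MulAction.toPermHom (MulAction.stabilizer G a) (MulAction.orbit (MulAction.stabilizer G a) b)).range.index ≤ 2)
    (hunf : ¬ Function.Injective (MulAction.toPermHom (MulAction.stabilizer G a) (MulAction.orbit (MulAction.stabilizer G a) b))) :
    ((MulAction.toPermHom (MulAction.stabilizer G a) (MulAction.orbit (MulAction.stabilizer G a) b)).range.index = 2 ∧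
      Nonempty (MulAction.stabilizer G a ≃* alternatingGroup (Fin d) × alternatingGroup (Fin (d - 1)))) ∨
    ((MulAction.toPermHom (MulAction.stabilizer G a) (MulAction.orbit (MulAction.stabilizer G a) b)).range = ⊤ ∧
      (Nonempty (MulAction.stabilizer G a ≃* Equiv.Perm (Fin d) × Equiv.Perm (Fin (d - 1))) ∨
       Nonempty (MulAction.stabilizer G a ≃* Equiv.Perm (Fin d) × alternatingGroup (Fin (d - 1))) ∨
       Nonempty (MulAction.stabilizer G a ≃* ((Equiv.Perm.sign.comp (MonoidHom.fst (Equiv.Perm (Fin d)) (Equiv.Perm (Fin (d - 1))))) *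
         (Equiv.Perm.sign.comp (MonoidHom.snd (Equiv.Perm (Fin d)) (Equiv.Perm (Fin (d - 1)))))).ker))) := by
  
  obtain ⟨⟨e⟩, hne, hn, hi⟩ := CfsgLib.Sims60.setting hprim a b hd (by omega)
  set H := MulAction.stabilizer G a
  set K := MulAction.stabilizer G b
  set f := MulAction.toPermHom H (MulAction.orbit H b)
  have hker : f.ker = CfsgLib.Sims60.core₁ H K := by
    refine le_antisymm (Subgroup.normal_le_normalCore.2 fun y hy => ?_) fun y hy => ?_
    · refine ⟨y.2, MulAction.mem_stabilizer_iff.2 ?_⟩
      have := congrArg (fun σ => ((σ ⟨b, MulAction.mem_orbit_self b⟩ : MulAction.orbit H b) : Ω))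
        (MonoidHom.mem_ker.1 hy)
      simpa [f, Subgroup.smul_def] using this
    · refine MonoidHom.mem_ker.2 (Equiv.ext fun q => Subtype.ext ?_)
      obtain ⟨h, hh⟩ := MulAction.mem_orbit_iff.1 q.2
      have hm := MulAction.mem_stabilizer_iff.1 (hy h⁻¹).2
      simp [f, Subgroup.smul_def, ← hh, mul_smul] at hm ⊢
      simpa [inv_smul_eq_iff] using hm
  have hcard : f.range.index * (CfsgLib.Sims60.core₁ H K).index = Nat.factorial d := by
    rw [← hker, Subgroup.index_ker, Subgroup.index_mul_card, Nat.card_perm, hd]
  have hne0 : f.range.index ≠ 0 := Subgroup.index_ne_zero_of_finite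
  have hA : CfsgLib.Sims60.kern H K ≠ ⊥ := fun h => hunf ((MonoidHom.ker_eq_bot_iff _).1 (by
    rw [hker]; exact (Subgroup.map_eq_bot_iff_of_injective _ H.subtype_injective).1 h))
  have hi' : ((K ⊓ H).subgroupOf K).index = d := by
    have h1 := Subgroup.card_mul_index ((H ⊓ K).subgroupOf H)
    have h2 := Subgroup.card_mul_index ((K ⊓ H).subgroupOf K)
    rw [Nat.card_congr (Subgroup.subgroupOfEquivOfLe (inf_le_left : H ⊓ K ≤ H)).toEquiv, hi] at h1
    rw [Nat.card_congr (Subgroup.subgroupOfEquivOfLe (inf_le_left : K ⊓ H ≤ K)).toEquiv,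
      inf_comm K H, ← Nat.card_congr e.toEquiv, ← h1] at h2
    rw [inf_comm K H]
    exact Nat.eq_of_mul_eq_mul_left Nat.card_pos h2
  have c := CfsgLib.Sims60.exists_conf e hne (hn a) (hn b) h6 hi hi'
    (by rw [← hcard]; exact Nat.mul_le_mul_right _ halt) hA
  obtain ⟨Φ, hinj, hsub, hAlt, hSym⟩ := c.exists_embedding
  have hiso := MonoidHom.ofInjective hinj
  rcases (show f.range.index = 1 ∨ f.range.index = 2 by omega) with h | h
  · refine Or.inr ⟨Subgroup.index_eq_one.1 h, ?_⟩
    rw [h, one_mul] at hcard
    obtain ⟨h1, h2⟩ := hSym hcard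
    rcases CfsgLib.Sims60.prod_range_cases (by omega) hsub
      (fun σ => (h1 σ).elim fun x hx => ⟨_, ⟨x, rfl⟩, hx⟩)
      (fun τ => (h2 τ).elim fun x hx => ⟨_, ⟨x, rfl⟩, hx⟩) with hR | hR
    · exact Or.inl ⟨hiso.trans ((MulEquiv.subgroupCongr hR).trans Subgroup.topEquiv)⟩
    · exact Or.inr (Or.inr ⟨hiso.trans (MulEquiv.subgroupCongr hR)⟩)
  · rw [h] at hcard
    exact Or.inl ⟨h, ⟨hiso.trans ((MulEquiv.subgroupCongr (le_antisymm (hAlt hcard) hsub)).trans
      (Subgroup.prodEquiv _ _))⟩⟩

end Cfsg.Agent.S3687
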