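import Cfsg.Statements.S3693
import Cfsg.Agent.Sims60.Basic
-- import your own Cfsg.Agent.* helpers here

set_option autoImplicit false
open Cfsg

namespace Cfsg.Agent.S3693

/-- Let a finite group G act faithfully and primitively on a set Ω, let a and b be points such that the orbit Δ of b under the stabilizer H of a has length d ≥ 2, and consider the permutation group induced on Δ by the elements of H fixing b. If that induced group has trivial Fitting subgroup (no non-trivial nilpotent normal subgroup), then the two-point stabilizer of a and b has trivial Fitting subgroup and the order of H divides d! · ((d - 1)!)^d. -/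
theorem result {G Ω : Type*} [Group G] [Finite G] [MulAction G Ω] [FaithfulSMul G Ω] [Finite Ω]
    (hprim : MulAction.IsPreprimitive G Ω) (a b : Ω) (d : ℕ) (hd : Nat.card (MulAction.orbit (MulAction.stabilizer G a) b) = d) (h2 : 2 ≤ d)
    (hF : Cfsg.fittingSubgroup ↥(((MulAction.stabilizer G b).subgroupOf (MulAction.stabilizer G a)).map (MulAction.toPermHom (MulAction.stabilizer G a) (MulAction.orbit (MulAction.stabilizer G a) b))) = ⊥) :
    Cfsg.fittingSubgroup ↥(MulAction.stabilizer G a ⊓ MulAction.stabilizer G b) = ⊥ ∧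
      Nat.card (MulAction.stabilizer G a) ∣ Nat.factorial d * (Nat.factorial (d - 1)) ^ d := by
  
  obtain ⟨⟨e⟩, hne, hn, hi⟩ := CfsgLib.Sims60.setting hprim a b hd h2
  set H := MulAction.stabilizer G a
  set K := MulAction.stabilizer G b
  have hle : ∀ q : ℕ, q.Prime → Cfsg.pCoreOf q (H ⊓ K) ≤ (CfsgLib.Sims60.core₁ H K).map H.subtype := by
    intro q hq
    haveI := Fact.mk hq
    set f := MulAction.toPermHom H (MulAction.orbit H b)
    set P := Cfsg.pCoreOf q (H ⊓ K)
    set L := (K.subgroupOf H).map f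
    have hPD : P ≤ H ⊓ K := CfsgLib.LocalStructure.pCoreOf_le _
    have hPL : (P.subgroupOf H).map f ≤ L :=
      Subgroup.map_mono fun x hx => (hPD (Subgroup.mem_subgroupOf.1 hx)).2
    have hnorm : L ≤ Subgroup.normalizer (((P.subgroupOf H).map f : Subgroup _) : Set _) := by
      refine (Subgroup.map_mono ?_).trans (Subgroup.le_normalizer_map _)
      intro x hx
      rw [Subgroup.mem_normalizer_iff]
      intro y
      exact Subgroup.mem_normalizer_iff.1 (CfsgLib.LocalStructure.le_normalizer_pCoreOf (p := q)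
        (H ⊓ K) ⟨x.2, hx⟩) (y : G)
    haveI : (((P.subgroupOf H).map f).subgroupOf L).Normal :=
      (Subgroup.normal_subgroupOf_iff_le_normalizer hPL).2 hnorm
    have hp : IsPGroup q (((P.subgroupOf H).map f).subgroupOf L) := by
      refine IsPGroup.of_equiv ?_ (Subgroup.subgroupOfEquivOfLe hPL).symm
      exact (IsPGroup.of_equiv (CfsgLib.LocalStructure.pCoreOf_isPGroup (H ⊓ K))
        (Subgroup.subgroupOfEquivOfLe (hPD.trans inf_le_left)).symm).map f
    have h0 := ((CfsgLib.LocalStructure.le_pCore (p := q) hp).trans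
      (CfsgLib.Components.pCore_le_fittingSubgroup q)).trans hF.le
    intro x hx
    have hxH : x ∈ H := (hPD hx).1
    have hm : f ⟨x, hxH⟩ ∈ (P.subgroupOf H).map f := ⟨⟨x, hxH⟩, hx, rfl⟩
    have h1 : (⟨f ⟨x, hxH⟩, hPL hm⟩ : L) = 1 := Subgroup.mem_bot.1 (h0 hm)
    have hker : (⟨x, hxH⟩ : H) ∈ f.ker := MonoidHom.mem_ker.2 (congrArg Subtype.val h1)
    refine ⟨⟨x, hxH⟩, ?_, rfl⟩
    refine Subgroup.normal_le_normalCore.2 ?_ hker
    intro y hy
    refine ⟨y.2, MulAction.mem_stabilizer_iff.2 ?_⟩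
    have := congrArg (fun σ => ((σ ⟨b, MulAction.mem_orbit_self b⟩ : MulAction.orbit H b) : Ω))
      (MonoidHom.mem_ker.1 hy)
    simpa [f, Subgroup.smul_def] using this
  have hbot : ∀ q : ℕ, q.Prime → Cfsg.pCoreOf q (H ⊓ K) = ⊥ := fun q hq =>
    haveI := Fact.mk hq; CfsgLib.Sims60.pCoreOf_inf_eq_bot e hne (hn a) (hle q hq)
  refine ⟨CfsgLib.Sims60.fittingSubgroup_eq_bot fun q hq =>
    CfsgLib.ThompsonWielandt.pCore_eq_bot_of_pCoreOf (hbot q hq), ?_⟩
  obtain ⟨p, P, hp, hPn, hPp, hPK, hdvd, -⟩ :=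
    CfsgLib.Sims60.exists_pSubgroup e hne (hn a) (hn b) hi
  haveI := Fact.mk hp
  have hP : P.map H.subtype = ⊥ := le_bot_iff.1 ((CfsgLib.LocalStructure.le_pCoreOf
    (le_inf (Subgroup.map_subtype_le _) hPK)
    (inf_le_left.trans (CfsgLib.Sims60.le_normalizer_map_normal P)) (hPp.map _)).trans
      (hbot p hp).le)
  rw [Subgroup.map_eq_bot_iff_of_injective _ H.subtype_injective] at hP
  rwa [hP, Subgroup.index_bot] at hdvd

end Cfsg.Agent.S3693
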