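import Mathlib

/-!
# Abelian `p`-subgroups of the symmetric group

By induction along point stabilisers: the orders of the orbit quotients split into as many factors as
the rank, with sum at most the number of points. The arithmetic and geometric means finish the proof.
-/

namespace Cfsg.Agent.S3696

open MulAction

variable {Ω : Type*} [Fintype Ω] [DecidableEq Ω]

theorem card_orbit_mul (B : Subgroup (Equiv.Perm Ω)) (ω : Ω) :
    (orbit B ω).ncard * Nat.card (B ⊓ stabilizer (Equiv.Perm Ω) ω : Subgroup (Equiv.Perm Ω)) = Nat.card B := by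
  rw [← index_stabilizer B ω,
    show stabilizer B ω = (B ⊓ stabilizer (Equiv.Perm Ω) ω).subgroupOf B by
      ext x; simp [Subgroup.mem_subgroupOf, Subgroup.smul_def],
    ← Nat.card_congr (Subgroup.subgroupOfEquivOfLe (inf_le_left :
      B ⊓ stabilizer (Equiv.Perm Ω) ω ≤ B)).toEquiv, Subgroup.index_mul_card]

theorem split_le {p : ℕ} (hp : 2 ≤ p) (d : ℕ) : ∀ r : ℕ, p ≤ r → r + d * p ≤ p ^ d * r := by
  induction d with
  | zero => simp
  | succ d ih =>
    intro r hr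
    have h1 := ih r hr
    have h2 : r + (d + 1) * p ≤ p ^ d * r + p := by rw [Nat.succ_mul]; omega
    have h3 : p ^ d * r + p ≤ 2 * (p ^ d * r) := by
      have : 1 ≤ p ^ d := Nat.one_le_pow _ _ (by omega)
      have h4 : r ≤ p ^ d * r := Nat.le_mul_of_pos_left r this
      omega
    calc r + (d + 1) * p ≤ 2 * (p ^ d * r) := h2.trans h3
      _ ≤ p * (p ^ d * r) := Nat.mul_le_mul_right _ hp
      _ = p ^ (d + 1) * r := by ring

open Classical in
/-- The factors of an abelian `p`-group of permutations. -/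
theorem factors {p : ℕ} (hp : p.Prime) (A : Subgroup (Equiv.Perm Ω)) (hA : IsPGroup p A)
    (hab : ∀ x ∈ A, ∀ y ∈ A, x * y = y * x) :
    ∀ B : Subgroup (Equiv.Perm Ω), B ≤ A → ∀ E : Subgroup (Equiv.Perm Ω),
      (∀ x, x ∈ E ↔ x ∈ B ∧ x ^ p = 1) →
      ∃ (k : ℕ) (f : Fin k → ℕ), Nat.card E = p ^ k ∧ ∏ i, f i = Nat.card B ∧
        ∑ i, f i ≤ {ω : Ω | ∃ b ∈ B, b ω ≠ ω}.ncard := by
  haveI := Fact.mk hp
  intro B
  induction hN : Nat.card B using Nat.strong_induction_on generalizing B with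
  | _ N ih =>
  intro hBA E hE
  by_cases hB1 : B = ⊥
  · refine ⟨0, Fin.elim0, ?_, ?_, by simp⟩
    · have : E = ⊥ := by
        rw [eq_bot_iff]; intro x hx
        rw [← hB1]; exact ((hE x).mp hx).1
      simp [this]
    · rw [← hN, hB1]; simp
  have hBp : IsPGroup p B := hA.to_le hBA
  obtain ⟨x, hxB, hxp, hx1⟩ : ∃ x ∈ B, x ^ p = 1 ∧ x ≠ 1 := by
    haveI : Nontrivial B := (Subgroup.nontrivial_iff_ne_bot B).mpr hB1
    obtain ⟨n, hn⟩ := IsPGroup.iff_card.mp hBp
    have hn0 : n ≠ 0 := by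
      rintro rfl
      have := Finite.one_lt_card (α := B)
      simp_all
    obtain ⟨y, hy⟩ := exists_prime_orderOf_dvd_card' (G := B) p (hn ▸ dvd_pow_self p hn0)
    refine ⟨y, y.2, ?_, ?_⟩
    · rw [← hy, ← SubgroupClass.coe_pow, pow_orderOf_eq_one, OneMemClass.coe_one]
    · intro h
      rw [OneMemClass.coe_eq_one] at h
      rw [h, orderOf_one] at hy
      exact hp.ne_one hy.symm
  obtain ⟨ω, hω⟩ : ∃ ω, x ω ≠ ω := by
    by_contra h
    push Not at h
    exact hx1 (Equiv.ext h)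
  set K := B ⊓ stabilizer (Equiv.Perm Ω) ω with hK
  set EK := E ⊓ stabilizer (Equiv.Perm Ω) ω with hEK
  have hBorb := card_orbit_mul B ω
  have hEorb := card_orbit_mul E ω
  have hEB : E ≤ B := fun y hy => ((hE y).mp hy).1
  have hKlt : Nat.card K < N := by
    rw [← hN]
    refine lt_of_le_of_ne (Subgroup.card_le_of_le inf_le_left) fun h => ?_
    have := Subgroup.eq_of_le_of_card_ge (H := K) inf_le_left h.ge
    have hxK : x ∈ K := this ▸ hxB
    exact hω hxK.2
  obtain ⟨k, f, hfE, hfP, hfS⟩ := ih _ hKlt K rfl (inf_le_left.trans hBA) EK (fun y => by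
    simp only [hEK, hK, Subgroup.mem_inf, hE]; tauto)
  -- both orbit sizes are powers of `p`
  obtain ⟨e, -, he⟩ := (Nat.dvd_prime_pow hp).mp
    (Dvd.intro _ hBorb |>.trans (IsPGroup.iff_card.mp hBp).choose_spec.dvd)
  obtain ⟨d, -, hd⟩ := (Nat.dvd_prime_pow hp).mp
    (Dvd.intro _ hEorb |>.trans (IsPGroup.iff_card.mp (hBp.to_le hEB)).choose_spec.dvd)
  have hsub : orbit E ω ⊆ orbit B ω := by
    rintro _ ⟨g, rfl⟩
    exact ⟨⟨g, hEB g.2⟩, rfl⟩
  have hd1 : 1 < p ^ d := by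
    rw [← hd, Set.one_lt_ncard]
    exact ⟨x ω, ⟨⟨x, (hE x).mpr ⟨hxB, hxp⟩⟩, rfl⟩, ω, mem_orbit_self ω, hω⟩
  have hde : p ^ d ≤ p ^ e := hd ▸ he ▸ Set.ncard_le_ncard hsub
  have hd0 : d ≠ 0 := by rintro rfl; simp at hd1
  have hde' : d ≤ e := (Nat.pow_le_pow_iff_right hp.one_lt).mp hde
  obtain ⟨d', rfl⟩ := Nat.exists_eq_succ_of_ne_zero hd0
  set r := p ^ (e - d') with hr
  have hpr : p ≤ r := by
    rw [hr]; exact Nat.le_self_pow (by omega) p
  have hm : p ^ d' * r = p ^ e := by rw [hr, ← pow_add]; congr 1; omega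
  refine ⟨k + (d' + 1), Fin.append f (Fin.cons r (fun _ => p)), ?_, ?_, ?_⟩
  · rw [← hEorb, hd, ← hEK, hfE, ← pow_add, Nat.add_comm]
  · rw [Fin.prod_univ_add]
    simp only [Fin.append_left, Fin.append_right, Fin.prod_univ_succ, Fin.cons_zero, Fin.cons_succ,
      Finset.prod_const, Finset.card_univ, Fintype.card_fin, hfP]
    rw [mul_comm r, hm, ← he, mul_comm, ← hN, ← hBorb]
  · rw [Fin.sum_univ_add]
    simp only [Fin.append_left, Fin.append_right, Fin.sum_univ_succ, Fin.cons_zero, Fin.cons_succ,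
      Finset.sum_const, Finset.card_univ, Fintype.card_fin, smul_eq_mul]
    have hdis : Disjoint {z : Ω | ∃ b ∈ K, b z ≠ z} (orbit B ω) := by
      rw [Set.disjoint_right]
      rintro _ ⟨g, rfl⟩ ⟨b, hb, hne⟩
      apply hne
      change b ((g : Equiv.Perm Ω) ω) = (g : Equiv.Perm Ω) ω
      rw [← Equiv.Perm.mul_apply, hab b (hBA hb.1) g (hBA g.2), Equiv.Perm.mul_apply,
        show b ω = ω from hb.2]
    have hcov : {z : Ω | ∃ b ∈ K, b z ≠ z} ∪ orbit B ω ⊆ {z : Ω | ∃ b ∈ B, b z ≠ z} := by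
      rintro z (⟨b, hb, hne⟩ | ⟨g, rfl⟩)
      · exact ⟨b, hb.1, hne⟩
      · refine ⟨x, hxB, ?_⟩
        change x ((g : Equiv.Perm Ω) ω) ≠ (g : Equiv.Perm Ω) ω
        rw [← Equiv.Perm.mul_apply, hab x (hBA hxB) g (hBA g.2), Equiv.Perm.mul_apply]
        exact fun h => hω ((g : Equiv.Perm Ω).injective h)
    have h1 := Set.ncard_le_ncard hcov
    rw [Set.ncard_union_eq hdis, he, ← hm] at h1
    have h2 := split_le hp.two_le d' r hpr
    omega

theorem am_gm {k : ℕ} (f : Fin k → ℕ) : k ^ k * ∏ i, f i ≤ (∑ i, f i) ^ k := by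
  rcases Nat.eq_zero_or_pos k with rfl | hk
  · simp
  have hk' : (0 : ℝ) < k := by exact_mod_cast hk
  have h := Real.geom_mean_le_arith_mean_weighted Finset.univ (fun _ : Fin k => (k : ℝ)⁻¹)
    (fun i => (f i : ℝ)) (fun _ _ => by positivity) (by simp [hk'.ne']) (fun i _ => by positivity)
  rw [← Finset.mul_sum] at h
  have h' := pow_le_pow_left₀ (by positivity) h k
  rw [← Finset.prod_pow, mul_pow, inv_pow] at h'
  have e : ∀ i : Fin k, ((f i : ℝ) ^ (k : ℝ)⁻¹) ^ k = f i := fun i => by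
    rw [← Real.rpow_natCast, ← Real.rpow_mul (by positivity), inv_mul_cancel₀ hk'.ne', Real.rpow_one]
  rw [Finset.prod_congr rfl (fun i _ => e i), le_inv_mul_iff₀ (by positivity)] at h'
  exact_mod_cast h'

theorem result {Ω : Type*} [Fintype Ω] [DecidableEq Ω]
    (p : ℕ) (hp : p.Prime) (hn : p ≤ Fintype.card Ω) (A : Subgroup (Equiv.Perm Ω)) (hA : IsPGroup p A) (hab : IsMulCommutative A)
    (k : ℕ) (hk : Nat.card {x : A // x ^ p = 1} = p ^ k) :
    Nat.card A * k ^ k ≤ Fintype.card Ω ^ k := by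
  have hcomm : ∀ x ∈ A, ∀ y ∈ A, x * y = y * x := fun x hx y hy =>
    congrArg Subtype.val (hab.is_comm.comm ⟨x, hx⟩ ⟨y, hy⟩)
  let E : Subgroup (Equiv.Perm Ω) :=
    { carrier := {x | x ∈ A ∧ x ^ p = 1}
      one_mem' := ⟨A.one_mem, one_pow p⟩
      mul_mem' := fun {x y} hx hy => ⟨A.mul_mem hx.1 hy.1, by
        rw [(show Commute x y from hcomm x hx.1 y hy.1).mul_pow, hx.2, hy.2, one_mul]⟩
      inv_mem' := fun {x} hx => ⟨A.inv_mem hx.1, by rw [inv_pow, hx.2, inv_one]⟩ }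
  obtain ⟨k', f, hE, hP, hS⟩ := factors hp A hA hcomm A le_rfl E (fun x => Iff.rfl)
  have hEk : Nat.card E = Nat.card {x : A // x ^ p = 1} := Nat.card_congr
    { toFun := fun x => ⟨⟨x, x.2.1⟩, Subtype.ext (by simpa using x.2.2)⟩
      invFun := fun x => ⟨x.1, x.1.2, by simpa using congrArg Subtype.val x.2⟩
      left_inv := fun x => rfl
      right_inv := fun x => rfl }
  rw [hEk, hk] at hE
  obtain rfl := Nat.pow_right_injective hp.two_le hE
  rw [← hP, Nat.mul_comm]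
  refine (am_gm f).trans (Nat.pow_le_pow_left (hS.trans ?_) k)
  rw [← Nat.card_eq_fintype_card]
  exact Set.ncard_le_card _

end Cfsg.Agent.S3696
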