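import Cfsg.Prelude.Def_Solvable
import Cfsg.Agent.Coprime.Action
import Cfsg.Agent.Solvable.Frattini
import Cfsg.Agent.Solvable.FrobeniusBasic
import Mathlib

/-!
# A Frobenius quotient with cyclic complement gives elements of order `p * #H`

Let `h` lift a generator of the complement. If `h ^ m ≠ 1` we are done. Otherwise `h` may be chosen
to normalise a Sylow `r`-subgroup `R` of a kernel lift and an `R`-invariant Sylow `p`-subgroup `P` of
`N` that `R` does not centralise. Summing the norm maps of the conjugates of `h` over `R` shows that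
the norm map of `h` on the abelianisation of `P` is non-trivial, so some `h x` has order divisible by `p m`.
-/

namespace Cfsg.Agent.S3703

open scoped Pointwise

/-- A subgroup containing a Sylow subgroup for every prime of `A` contains `A`. -/
theorem le_of_sylow_le {G : Type*} [Group G] [Finite G] {A M : Subgroup G}
    (h : ∀ p : ℕ, p.Prime → ∃ P : Sylow p A, (P : Subgroup A).map A.subtype ≤ M) : A ≤ M := by
  suffices hc : M.subgroupOf A = ⊤ from Subgroup.subgroupOf_eq_top.mp hc
  rw [← Subgroup.card_eq_iff_eq_top]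
  refine Nat.dvd_antisymm (Subgroup.card_subgroup_dvd_card _) ?_
  rw [← Nat.factorization_le_iff_dvd Nat.card_pos.ne' Nat.card_pos.ne']
  intro p
  by_cases hp : p.Prime
  · haveI := Fact.mk hp
    obtain ⟨P, hP⟩ := h p hp
    have hle : (P : Subgroup A) ≤ M.subgroupOf A := fun x hx =>
      Subgroup.mem_subgroupOf.mpr (hP ⟨x, hx, rfl⟩)
    have hd := Subgroup.card_dvd_of_le hle
    rw [P.card_eq_multiplicity] at hd
    exact (hp.pow_dvd_iff_le_factorization Nat.card_pos.ne').mp hd
  · simp [hp]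

theorem sum_shift {R : Type*} [Group R] [Fintype R] {V : Type*} [CommGroup V]
    (σ : R →* V ≃* V) (c : R) (v : V) : σ c (∏ f, σ f v) = ∏ f, σ f v := by
  rw [map_prod]
  conv_lhs =>
    enter [2, f]
    rw [← MulAut.mul_apply, ← map_mul]
  exact Fintype.prod_equiv (Equiv.mulLeft c) _ _ fun f => rfl

/-- The norm trick. -/
theorem exists_norm_ne_one {R : Type*} [Group R] [Fintype R] {V : Type*} [CommGroup V] [Finite V]
    (hcop : (Nat.card V).Coprime (Fintype.card R))
    (σ : R →* V ≃* V) (η : V ≃* V) (φ : R ≃* R) (hφ : ∀ f v, η (σ f v) = σ (φ f) (η v))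
    (m : ℕ) (hm : 0 < m) (hfree : ∀ i, 0 < i → i < m → ∀ f : R, (φ ^ i : MulAut R) f = f → f = 1)
    (hnt : ∃ f v, σ f v ≠ v) : ∃ v, ∏ i ∈ Finset.range m, (η ^ i : MulAut V) v ≠ 1 := by
  by_contra hall
  push Not at hall
  obtain ⟨f₀, v₀, hne⟩ := hnt
  apply hne
  have hpow : ∀ (i : ℕ) (f : R) (v : V),
      (η ^ i : MulAut V) (σ f v) = σ ((φ ^ i : MulAut R) f) ((η ^ i : MulAut V) v) := by
    intro i
    induction i with
    | zero => intro f v; simp
    | succ i ih =>
      intro f v
      rw [pow_succ', pow_succ', MulAut.mul_apply, MulAut.mul_apply, MulAut.mul_apply, ih, hφ]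
  -- the norm of every conjugate of `η` is trivial
  have hsum : ∀ v, ∏ i ∈ Finset.range m, ∏ f : R, σ f ((η ^ i : MulAut V) (σ f⁻¹ v)) = 1 := by
    intro v
    rw [Finset.prod_comm]
    refine Finset.prod_eq_one fun f _ => ?_
    rw [← map_prod, hall, map_one]
  have hfix : ∀ v c, σ c (v ^ Fintype.card R) = v ^ Fintype.card R := by
    intro v c
    have hv := hsum v
    obtain ⟨m', rfl⟩ := Nat.exists_eq_succ_of_ne_zero hm.ne'
    rw [Finset.prod_range_succ'] at hv
    have h0 : ∏ f : R, σ f ((η ^ 0 : MulAut V) (σ f⁻¹ v)) = v ^ Fintype.card R := by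
      rw [← Finset.card_univ, ← Finset.prod_const]
      refine Finset.prod_congr rfl fun f _ => ?_
      rw [pow_zero, MulAut.one_apply, ← MulAut.mul_apply, ← map_mul, mul_inv_cancel, map_one, MulAut.one_apply]
    rw [h0] at hv
    have hterm : ∀ i ∈ Finset.range m', ∏ f : R, σ f ((η ^ (i + 1) : MulAut V) (σ f⁻¹ v))
        = ∏ f : R, σ f ((η ^ (i + 1) : MulAut V) v) := by
      intro i hi
      rw [Finset.mem_range] at hi
      have hinj : Function.Injective fun f : R => f * (φ ^ (i + 1) : MulAut R) f⁻¹ := by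
        intro f g hfg
        have : g⁻¹ * f = 1 := hfree (i + 1) (by omega) (by omega) _ (by
          simp only [map_inv] at hfg
          rw [map_mul, map_inv, eq_comm, inv_mul_eq_iff_eq_mul, ← mul_assoc, ← hfg,
            inv_mul_cancel_right])
        rwa [inv_mul_eq_one, eq_comm] at this
      refine Fintype.prod_equiv (Equiv.ofBijective _ (Finite.injective_iff_bijective.mp hinj)) _ _ fun f => ?_
      rw [hpow, ← MulAut.mul_apply, ← map_mul]
      rfl
    rw [Finset.prod_congr rfl hterm] at hv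
    have hX : σ c (∏ i ∈ Finset.range m', ∏ f : R, σ f ((η ^ (i + 1) : MulAut V) v))
        = ∏ i ∈ Finset.range m', ∏ f : R, σ f ((η ^ (i + 1) : MulAut V) v) := by
      rw [map_prod]
      exact Finset.prod_congr rfl fun i _ => sum_shift σ c _
    have hv' := congrArg (σ c) hv
    rw [map_mul, hX, map_one] at hv'
    exact mul_left_cancel (hv'.trans hv.symm)
  -- taking roots
  have h := hfix v₀ f₀
  rw [map_pow] at h
  have hb : Function.Injective fun w : V => w ^ Fintype.card R :=
    (powCoprime hcop).injective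
  exact hb h

theorem mul_pow_eq {G : Type*} [Group G] (h x : G) (k : ℕ) :
    (h * x) ^ k * (h ^ k)⁻¹ =
      ((List.range k).map fun i => h ^ (i + 1) * x * (h ^ (i + 1))⁻¹).prod := by
  induction k with
  | zero => simp
  | succ k ih =>
    rw [List.range_succ, List.map_append, List.prod_append, List.map_singleton, List.prod_singleton,
      ← ih, pow_succ, pow_succ]
    group

theorem result {G : Type*} [Group G] [Finite G] (N : Subgroup G) [N.Normal]
    (Fb Hb : Subgroup (G ⧸ N)) [Fb.Normal] (hHb : Cfsg.IsFrobeniusComplement Hb) (hker : Cfsg.frobeniusKernel Hb = (Fb : Set (G ⧸ N)))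
    (hcyc : IsCyclic Hb) (hcop : (Nat.card Fb).Coprime (Nat.card N))
    (hnot : ¬ Fb ≤ (Subgroup.centralizer (N : Set G)).map (QuotientGroup.mk' N)) :
    ∃ p : ℕ, p.Prime ∧ p ∣ Nat.card N ∧ ∃ g : G, orderOf g = p * Nat.card Hb := by
  classical
  set q := QuotientGroup.mk' N with hq
  set m := Nat.card Hb with hm
  obtain ⟨t, ht⟩ := hcyc.exists_generator
  have htord : orderOf (t : G ⧸ N) = m := by
    rw [Subgroup.orderOf_coe, hm]
    exact orderOf_eq_card_of_forall_mem_zpowers ht
  -- an element over the generator of larger order finishes the proof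
  by_cases hbig : ∃ g : G, q g = (t : G ⧸ N) ∧ g ^ m ≠ 1
  · obtain ⟨g, hg, hgm⟩ := hbig
    have hgN : g ^ m ∈ N := by
      rw [← QuotientGroup.eq_one_iff, ← QuotientGroup.mk'_apply, ← hq, map_pow, hg, ← htord, pow_orderOf_eq_one]
    have hne : orderOf (g ^ m) ≠ 1 := by rwa [Ne, orderOf_eq_one_iff]
    obtain ⟨p, hp, hpd⟩ := Nat.exists_prime_and_dvd hne
    have hmg : m ∣ orderOf g := by
      rw [← htord, ← hg]; exact orderOf_map_dvd q g
    refine ⟨p, hp, hpd.trans ?_, ?_⟩
    · rw [← Subgroup.orderOf_mk (g ^ m) hgN]; exact orderOf_dvd_natCard _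
    · have hpm : p * m ∣ orderOf g := by
        obtain ⟨c, hc⟩ := hmg
        rw [orderOf_pow, Nat.gcd_eq_right ⟨c, hc⟩, hc, Nat.mul_div_cancel_left _ Nat.card_pos] at hpd
        rw [hc, mul_comm p]
        exact Nat.mul_dvd_mul_left m hpd
      exact ⟨g ^ (orderOf g / (p * m)), orderOf_pow_orderOf_div (orderOf_pos g).ne' hpm⟩
  push Not at hbig
  exfalso
  -- the Frobenius facts
  have hdisj : ∀ x ∈ Fb, x ∈ Hb → x = 1 := by
    intro x hx hxH
    have : x ∈ Cfsg.frobeniusKernel Hb := hker ▸ hx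
    rcases this with h | h
    · exact h
    · exact absurd (by simpa using hxH) (h 1)
  have hfpf : ∀ x ∈ Fb, ∀ y ∈ Hb, y ≠ 1 → y * x = x * y → x = 1 := by
    intro x hx y hy hy1 hc
    refine hdisj x hx ?_
    by_contra hxH
    have := hHb.2.2 x hxH
    apply hy1
    rw [← Subgroup.mem_bot, ← this]
    refine Subgroup.mem_inf.mpr ⟨hy, ?_⟩
    rw [CfsgLib.Coprime.mem_conj_smul, mul_assoc, hc, inv_mul_cancel_left]
    exact hy
  have hcopFH : (Nat.card Hb).Coprime (Nat.card Fb) := by
    have h1 : Nat.card Fb = Hb.index := by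
      rw [← CfsgLib.Solvable.ncard_kernel_eq hHb, hker, ← Nat.card_coe_set_eq]; rfl
    rw [h1]
    have h2 := CfsgLib.Solvable.index_mod_card hHb
    rw [Nat.Coprime, Nat.gcd_rec, h2]
    rw [← Nat.gcd_rec]
    exact Nat.gcd_one_right _
  -- a Sylow subgroup of the kernel, invariant under the complement
  obtain ⟨r, hr, R, hRinv, hRC⟩ : ∃ r : ℕ, ∃ _ : Fact r.Prime, ∃ R : Sylow r Fb,
      Hb ≤ Subgroup.normalizer (((R : Subgroup Fb).map Fb.subtype : Subgroup (G ⧸ N)) : Set (G ⧸ N)) ∧
      ¬ (R : Subgroup Fb).map Fb.subtype ≤ (Subgroup.centralizer (N : Set G)).map q := by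
    by_contra hno
    push Not at hno
    apply hnot
    refine le_of_sylow_le fun r hr => ?_
    haveI := Fact.mk hr
    haveI : IsCyclic Hb := hcyc
    obtain ⟨R, hR⟩ := CfsgLib.Coprime.exists_invariant_sylow (G := Fb) (A := Hb)
      (Subgroup.le_normalizer_of_normal) hcopFH (Or.inl (Group.isSolvable_of_comm fun a b => by
        letI := IsCyclic.commGroup (α := Hb); exact mul_comm a b)) r
    exact ⟨R, hno r ⟨hr⟩ R hR⟩
  set Rq := (R : Subgroup Fb).map Fb.subtype with hRq
  have hRp : IsPGroup r Rq := R.2.map _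
  have hRFb : Rq ≤ Fb := Subgroup.map_subtype_le _
  have hrne : Rq ≠ ⊥ := fun h => hRC (h ▸ bot_le)
  have hrN : ¬ r ∣ Nat.card N := by
    intro h
    obtain ⟨k, hk⟩ := IsPGroup.iff_card.mp hRp
    have : r ∣ Nat.card Fb := by
      refine (dvd_trans ?_ (Subgroup.card_dvd_of_le hRFb))
      rw [hk]
      refine dvd_pow_self r ?_
      rintro rfl
      exact hrne (Subgroup.card_eq_one.mp (by rw [hk, pow_zero]))
    exact hr.out.ne_one (Nat.eq_one_of_dvd_coprimes hcop this h)
  -- its lift
  set W := Rq.comap q with hW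
  have hNW : N ≤ W := fun x hx => by
    rw [hW, Subgroup.mem_comap, show q x = 1 from (QuotientGroup.eq_one_iff x).mpr hx]; exact one_mem _
  let R₀ : Sylow r W := default
  set A := (R₀ : Subgroup W).map W.subtype with hA
  have hAp : IsPGroup r A := R₀.2.map _
  have hAW : A ≤ W := Subgroup.map_subtype_le _
  have hAcop : (Nat.card A).Coprime (Nat.card N) := by
    obtain ⟨k, hk⟩ := IsPGroup.iff_card.mp hAp
    rw [hk]; exact Nat.Coprime.pow_left k ((Nat.Prime.coprime_iff_not_dvd hr.out).mpr hrN)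
  have hAsol : Group.IsSolvable A := by
    haveI := hAp.isNilpotent
    infer_instance
  have hAmap : A.map q = Rq := by
    refine Subgroup.eq_of_le_of_card_ge (Subgroup.map_le_iff_le_comap.mpr hAW) ?_
    -- `q` is injective on `A`
    have hcA : Nat.card (A.map q) = Nat.card A := by
      refine (Nat.card_congr (Equiv.ofBijective (fun a : A => (⟨q a, a, a.2, rfl⟩ : A.map q)) ⟨?_, ?_⟩)).symm
      · intro a b hab
        have h1 : ((a : G)⁻¹ * b) ∈ N := by
          rw [← QuotientGroup.eq, ← QuotientGroup.mk'_apply N, ← QuotientGroup.mk'_apply N, ← hq]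
          exact congrArg Subtype.val hab
        have h2 : ((a : G)⁻¹ * b) ∈ A := mul_mem (inv_mem a.2) b.2
        have h3 := (CfsgLib.Coprime.inf_eq_bot_of_coprime hAcop).le (Subgroup.mem_inf.mpr ⟨h2, h1⟩)
        rw [Subgroup.mem_bot, inv_mul_eq_one] at h3
        exact Subtype.ext h3
      · rintro ⟨_, a, ha, rfl⟩
        exact ⟨⟨a, ha⟩, rfl⟩
    rw [hcA, Subgroup.card_map_of_injective W.subtype_injective, R₀.card_eq_multiplicity]
    obtain ⟨k, hk⟩ := IsPGroup.iff_card.mp hRp
    have hWc : Nat.card W = Nat.card Rq * Nat.card N := by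
      have h1 := W.card_mul_index
      rw [hW, Subgroup.index_comap_of_surjective Rq (QuotientGroup.mk'_surjective N), ← hW,
        Subgroup.card_eq_card_quotient_mul_card_subgroup N, ← Rq.card_mul_index, mul_right_comm] at h1
      exact Nat.eq_of_mul_eq_mul_right (Nat.pos_of_ne_zero Subgroup.index_ne_zero_of_finite) h1
    have hle : r ^ k ∣ r ^ (Nat.card W).factorization r := by
      refine Nat.pow_dvd_pow r ((hr.out.pow_dvd_iff_le_factorization Nat.card_pos.ne').mp ?_)
      rw [hWc, hk]; exact dvd_mul_right _ _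
    rw [hk]
    exact Nat.le_of_dvd (pow_pos hr.out.pos _) hle
  -- it does not centralise `N`; choose a Sylow subgroup that it moves
  obtain ⟨p, hp, P, hPinv, hPnc⟩ : ∃ p : ℕ, ∃ _ : Fact p.Prime, ∃ P : Sylow p N,
      A ≤ Subgroup.normalizer (((P : Subgroup N).map N.subtype : Subgroup G) : Set G) ∧
      ¬ A ≤ Subgroup.centralizer (((P : Subgroup N).map N.subtype : Subgroup G) : Set G) := by
    by_contra hno
    push Not at hno
    apply hRC
    rw [← hAmap]
    refine Subgroup.map_mono (Subgroup.le_centralizer_iff.mp (le_of_sylow_le fun p hp => ?_))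
    haveI := Fact.mk hp
    obtain ⟨P, hP⟩ := CfsgLib.Coprime.exists_invariant_sylow (G := N) (A := A)
      Subgroup.le_normalizer_of_normal hAcop (Or.inl hAsol) p
    exact ⟨P, Subgroup.le_centralizer_iff.mp (hno p ⟨hp⟩ P hP)⟩
  set P' := (P : Subgroup N).map N.subtype with hP'
  have hPN : P' ≤ N := Subgroup.map_subtype_le _
  -- a lift of the generator normalising both
  obtain ⟨h₀, hh₀⟩ := QuotientGroup.mk'_surjective N (t : G ⧸ N)
  have hh₀W : h₀ ∈ Subgroup.normalizer (W : Set G) := by
    rw [Subgroup.mem_normalizer_iff]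
    intro x
    rw [hW, Subgroup.mem_comap, Subgroup.mem_comap, map_mul, map_mul, map_inv, hh₀]
    exact Subgroup.mem_normalizer_iff.mp (hRinv t.2) (q x)
  obtain ⟨h₁, hh₁q, hh₁A⟩ : ∃ h₁ : G, q h₁ = t ∧ h₁ ∈ Subgroup.normalizer (A : Set G) := by
    have hAR : Nat.card ↥(MulAut.conj h₀ • A) = Nat.card A := CfsgLib.Coprime.card_conj_smul _ _
    have hconjW : MulAut.conj h₀ • A ≤ W := by
      intro x hx
      rw [CfsgLib.Coprime.mem_conj_smul] at hx
      have := (Subgroup.mem_normalizer_iff.mp hh₀W _).mp (hAW hx)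
      simpa [mul_assoc] using this
    let R₁ : Sylow r W := Sylow.ofCard ((MulAut.conj h₀ • A).subgroupOf W) (by
      rw [Nat.card_congr (Subgroup.subgroupOfEquivOfLe hconjW).toEquiv, hAR,
        Subgroup.card_map_of_injective W.subtype_injective, R₀.card_eq_multiplicity])
    obtain ⟨w, hw, hweq⟩ := CfsgLib.Coprime.exists_conj_map_sylow R₀ R₁
    have hR₁ : (R₁ : Subgroup W).map W.subtype = MulAut.conj h₀ • A := by
      change ((MulAut.conj h₀ • A).subgroupOf W).map W.subtype = _
      rw [Subgroup.map_subgroupOf_eq_of_le hconjW]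
    rw [hR₁, ← hA] at hweq
    -- write `w` modulo the part in `A`
    obtain ⟨a, ha, haq⟩ : ∃ a ∈ A, q a = q w := by
      have : q w ∈ A.map q := hAmap ▸ hw
      exact this
    refine ⟨(w * a⁻¹)⁻¹ * h₀, ?_, ?_⟩
    · rw [map_mul, map_inv, map_mul, map_inv, haq, mul_inv_cancel, inv_one, one_mul, hh₀]
    · rw [CfsgLib.Coprime.mem_normalizer_iff_conj_smul_eq, ← CfsgLib.Coprime.conj_smul_conj_smul, ← hweq,
        CfsgLib.Coprime.conj_smul_conj_smul, mul_inv_rev, inv_inv, mul_assoc, inv_mul_cancel, mul_one]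
      exact CfsgLib.Coprime.conj_smul_eq_self (Subgroup.le_normalizer ha)
  obtain ⟨h, hhq, hhA, hhP⟩ : ∃ h : G, q h = t ∧ h ∈ Subgroup.normalizer (A : Set G) ∧
      h ∈ Subgroup.normalizer (P' : Set G) := by
    have hQinv : A ≤ Subgroup.normalizer ((MulAut.conj h₁ • P' : Subgroup G) : Set G) := by
      intro a ha
      rw [CfsgLib.Coprime.mem_normalizer_iff_conj_smul_eq]
      have ha' : h₁⁻¹ * a * h₁ ∈ A := by
        have := (Subgroup.mem_normalizer_iff.mp (inv_mem hh₁A) a).mp ha
        simpa using this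
      have e := CfsgLib.Coprime.mem_normalizer_iff_conj_smul_eq.mp (hPinv ha')
      conv_rhs => rw [← e]
      rw [CfsgLib.Coprime.conj_smul_conj_smul, CfsgLib.Coprime.conj_smul_conj_smul]
      simp [mul_assoc]
    have hQle : MulAut.conj h₁ • P' ≤ N := fun x hx => by
      rw [CfsgLib.Coprime.mem_conj_smul] at hx
      have := ‹N.Normal›.conj_mem _ (hPN hx) h₁
      simpa [mul_assoc] using this
    let P₁ : Sylow p N := Sylow.ofCard ((MulAut.conj h₁ • P').subgroupOf N) (by
      rw [Nat.card_congr (Subgroup.subgroupOfEquivOfLe hQle).toEquiv, CfsgLib.Coprime.card_conj_smul,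
        Subgroup.card_map_of_injective N.subtype_injective, P.card_eq_multiplicity])
    obtain ⟨n, hn, hneq⟩ := CfsgLib.Coprime.exists_conj_map_sylow P P₁
    have hP₁ : (P₁ : Subgroup N).map N.subtype = MulAut.conj h₁ • P' := by
      change ((MulAut.conj h₁ • P').subgroupOf N).map N.subtype = _
      rw [Subgroup.map_subgroupOf_eq_of_le hQle]
    rw [hP₁, ← hP'] at hneq
    obtain ⟨c, hc, hceq⟩ := CfsgLib.Coprime.exists_conj_eq_of_invariant Subgroup.le_normalizer_of_normal
      hAcop (Or.inl hAsol) hPinv hQinv hn hneq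
    refine ⟨c⁻¹ * h₁, ?_, ?_, ?_⟩
    · rw [map_mul, map_inv, show q c = 1 from (QuotientGroup.eq_one_iff c).mpr hc.1, inv_one, one_mul, hh₁q]
    · exact mul_mem (inv_mem (Subgroup.centralizer_le_normalizer _ hc.2)) hh₁A
    · rw [CfsgLib.Coprime.mem_normalizer_iff_conj_smul_eq, ← CfsgLib.Coprime.conj_smul_conj_smul, ← hceq,
        CfsgLib.Coprime.conj_smul_conj_smul, inv_mul_cancel, map_one, one_smul]
  -- the actions on the abelianisation
  let act : ↥(Subgroup.normalizer (P' : Set G)) →* MulAut (Abelianization P') :=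
    { toFun := fun g => (Subgroup.normalizerMonoidHom P' g).abelianizationCongr
      map_one' := by
        rw [map_one]; exact abelianizationCongr_refl
      map_mul' := fun g g' => by
        rw [map_mul]; exact (abelianizationCongr_trans _ _).symm }
  haveI : Fintype A := Fintype.ofFinite _
  let σ : A →* MulAut (Abelianization P') := act.comp (Subgroup.inclusion hPinv)
  let φ : A ≃* A := Subgroup.normalizerMonoidHom A ⟨h, hhA⟩
  have hP'p : IsPGroup p P' := P.2.map _
  have hpr : p ≠ r := by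
    rintro rfl
    apply hPnc
    have : P' = ⊥ := by
      obtain ⟨k, hk⟩ := IsPGroup.iff_card.mp hP'p
      rcases k with _ | k
      · exact Subgroup.card_eq_one.mp (by rw [hk, pow_zero])
      · exact absurd ((dvd_pow_self p k.succ_ne_zero).trans (hk ▸ Subgroup.card_dvd_of_le hPN)) hrN
    intro a _
    rw [this, Subgroup.mem_centralizer_iff]
    intro x hx
    rw [Subgroup.coe_bot, Set.mem_singleton_iff] at hx
    simp [hx]
  have hVcop : (Nat.card (Abelianization P')).Coprime (Fintype.card A) := by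
    obtain ⟨k, hk⟩ := IsPGroup.iff_card.mp hP'p
    obtain ⟨l, hl⟩ := IsPGroup.iff_card.mp hAp
    have hd : Nat.card (Abelianization P') ∣ Nat.card P' :=
      Subgroup.card_quotient_dvd_card _
    rw [← Nat.card_eq_fintype_card, hl]
    exact Nat.Coprime.coprime_dvd_left hd (hk ▸ Nat.coprime_pow_primes k l hp.out hr.out hpr)
  have hφ : ∀ (f : A) v, act ⟨h, hhP⟩ (σ f v) = σ (φ f) (act ⟨h, hhP⟩ v) := by
    intro f v
    simp only [σ, MonoidHom.comp_apply, ← MulAut.mul_apply, ← map_mul]
    congr 2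
    apply Subtype.ext
    change h * (f : G) = (h * f * h⁻¹) * h
    group
  have hφpow : ∀ (i : ℕ) (f : A), (((φ ^ i : MulAut A) f : A) : G) = h ^ i * f * (h ^ i)⁻¹ := by
    intro i f
    have : (φ ^ i : MulAut A) = Subgroup.normalizerMonoidHom A (⟨h, hhA⟩ ^ i) := (map_pow _ _ _).symm
    rw [this]
    rfl
  have hfree : ∀ i, 0 < i → i < m → ∀ f : A, (φ ^ i : MulAut A) f = f → f = 1 := by
    intro i hi him f hf
    have h1 : h ^ i * f * (h ^ i)⁻¹ = f := by rw [← hφpow, hf]
    have h2 : q f = 1 := by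
      refine hfpf _ (hRFb (hAmap ▸ Subgroup.mem_map_of_mem q f.2)) ((t : G ⧸ N) ^ i) (pow_mem t.2 i)
        (pow_ne_one_of_lt_orderOf hi.ne' (htord ▸ him)) ?_
      have := congrArg q h1
      simpa [mul_inv_eq_iff_eq_mul, hhq] using this
    have h3 := (CfsgLib.Coprime.inf_eq_bot_of_coprime hAcop).le
      (Subgroup.mem_inf.mpr ⟨f.2, (QuotientGroup.eq_one_iff (f : G)).mp h2⟩)
    exact Subtype.ext h3
  have hnt : ∃ (f : A) (v : Abelianization P'), σ f v ≠ v := by
    by_contra hno
    push Not at hno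
    apply hPnc
    refine CfsgLib.Coprime.le_centralizer_of_commutator_le_frattini hPinv ?_ ?_
    · have : Nat.card (frattini P') ∣ Nat.card P' := Subgroup.card_subgroup_dvd_card _
      exact Nat.Coprime.coprime_dvd_right (this.trans (Subgroup.card_dvd_of_le hPN)) hAcop
    · rw [Subgroup.commutator_le]
      intro x hx a ha
      have hm : (⟨a * x * a⁻¹, (Subgroup.mem_normalizer_iff.mp (hPinv ha) x).mp hx⟩ : P') * (⟨x, hx⟩ : P')⁻¹
          ∈ commutator P' := by
        rw [← div_eq_mul_inv, ← QuotientGroup.eq_iff_div_mem]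
        exact hno ⟨a, ha⟩ (Abelianization.of ⟨x, hx⟩)
      have := CfsgLib.Solvable.commutator_le_frattini hP'p (inv_mem hm)
      refine ⟨_, this, ?_⟩
      simp [commutatorElement_def, mul_assoc]
  obtain ⟨v, hv⟩ := exists_norm_ne_one hVcop σ (act ⟨h, hhP⟩) φ hφ m Nat.card_pos hfree hnt
  obtain ⟨x, rfl⟩ := QuotientGroup.mk'_surjective (commutator P') v
  apply hv
  -- compare with the power of `h * x`
  have hh : h ^ m = 1 := hbig h hhq
  have hhx : (h * (x : G)) ^ m = 1 := hbig _ (by
    rw [map_mul, hhq, show q (x : G) = 1 from (QuotientGroup.eq_one_iff (x : G)).mpr (hPN x.2), mul_one])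
  let c : ℕ → P' := fun i => Subgroup.normalizerMonoidHom P' (⟨h, hhP⟩ ^ i) x
  have hc : ∀ i, (c i : G) = h ^ i * x * (h ^ i)⁻¹ := fun i => rfl
  have hl : ((List.range m).map fun i => c (i + 1)).prod = 1 := by
    apply Subtype.ext
    rw [← Subgroup.subtype_apply, map_list_prod, List.map_map]
    change ((List.range m).map fun i => h ^ (i + 1) * (x : G) * (h ^ (i + 1))⁻¹).prod = 1
    rw [← mul_pow_eq, hhx, hh, inv_one, mul_one]
  have hl' := congrArg (Abelianization.of (G := P')) hl
  rw [map_list_prod, List.map_map, map_one] at hl'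
  have hterm : ∀ i, ((act ⟨h, hhP⟩) ^ i : MulAut _) (Abelianization.of x) = Abelianization.of (c i) := by
    intro i
    rw [← map_pow]
    rfl
  change ∏ i ∈ Finset.range m, ((act ⟨h, hhP⟩) ^ i : MulAut _) (Abelianization.of x) = 1
  simp only [hterm]
  have hshift := (Finset.prod_range_succ (fun i => Abelianization.of (c i)) m).symm.trans
    (Finset.prod_range_succ' (fun i => Abelianization.of (c i)) m)
  have hcm : c m = c 0 := Subtype.ext (by rw [hc, hc, hh, pow_zero])
  rw [hcm] at hshift
  exact (mul_right_cancel hshift).trans hl'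
end Cfsg.Agent.S3703
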