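import Mathlib

/-!
# An intransitive subgroup of index `n` in a 2-transitive group of degree `n` has two orbits

For each union `O` of orbits of `H` we form the incidence matrix `A O` between the cosets of `H` and
the points. The products `(A O)ᵀ * A O'` commute with the two transitive action, so they lie in the
span of the identity and the all ones matrix. This forces any two of these matrices to be affinely
dependent modulo the all ones matrix, which leaves room for two orbits only.
-/

namespace Cfsg.Agent.S3704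

open MulAction

variable {G Ω : Type*} [Group G] [MulAction G Ω] {H : Subgroup G}

open Classical in
/-- Incidence between the coset `g H` and the point `ω`. -/
noncomputable def inc (O : Set Ω) (hO : ∀ h ∈ H, ∀ x, h • x ∈ O ↔ x ∈ O) :
    G ⧸ H → Ω → ℚ :=
  fun x ω => Quotient.liftOn' x (fun g => if g⁻¹ • ω ∈ O then (1 : ℚ) else 0) (by
    intro g g' hgg
    rw [QuotientGroup.leftRel_apply] at hgg
    have : g'⁻¹ • ω ∈ O ↔ g⁻¹ • ω ∈ O := by
      rw [← hO _ hgg (g'⁻¹ • ω), mul_smul, smul_inv_smul]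
    simp only [this])

open Classical in
theorem inc_mk (O : Set Ω) (hO : ∀ h ∈ H, ∀ x, h • x ∈ O ↔ x ∈ O) (g : G) (ω : Ω) :
    inc O hO (g : G ⧸ H) ω = if g⁻¹ • ω ∈ O then 1 else 0 := rfl

theorem inc_smul (O : Set Ω) (hO : ∀ h ∈ H, ∀ x, h • x ∈ O ↔ x ∈ O) (a : G) (x : G ⧸ H) (ω : Ω) :
    inc O hO (a • x) (a • ω) = inc O hO x ω := by
  induction x using QuotientGroup.induction_on with
  | _ g =>
    rw [MulAction.Quotient.smul_mk, inc_mk, inc_mk]
    rw [smul_eq_mul, mul_inv_rev, mul_smul, inv_smul_smul]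

section

variable [Finite G] [Fintype Ω] [Fintype (G ⧸ H)]

theorem gram (h2 : IsMultiplyPretransitive G Ω 2) (O O' : Set Ω)
    (hO : ∀ h ∈ H, ∀ x, h • x ∈ O ↔ x ∈ O) (hO' : ∀ h ∈ H, ∀ x, h • x ∈ O' ↔ x ∈ O') :
    ∃ c d : ℚ, ∀ ω ω' : Ω, (ω = ω' → ∑ x, inc O hO x ω * inc O' hO' x ω' = c) ∧
      (ω ≠ ω' → ∑ x, inc O hO x ω * inc O' hO' x ω' = d) := by
  classical
  haveI : IsPretransitive G Ω := isPretransitive_of_is_two_pretransitive (h2 := h2)
  rw [is_two_pretransitive_iff] at h2
  have hinv : ∀ (a : G) ω ω', ∑ x, inc O hO x (a • ω) * inc O' hO' x (a • ω')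
      = ∑ x, inc O hO x ω * inc O' hO' x ω' := by
    intro a ω ω'
    rw [← Equiv.sum_comp (MulAction.toPerm a : Equiv.Perm (G ⧸ H))]
    simp only [MulAction.toPerm_apply, inc_smul]
  by_cases hne : Nonempty Ω
  · obtain ⟨z⟩ := hne
    by_cases hp : ∃ u v : Ω, u ≠ v
    · obtain ⟨u, v, huv⟩ := hp
      refine ⟨∑ x, inc O hO x z * inc O' hO' x z, ∑ x, inc O hO x u * inc O' hO' x v,
        fun ω ω' => ⟨?_, ?_⟩⟩
      · rintro rfl
        obtain ⟨a, rfl⟩ := exists_smul_eq G z ω
        exact hinv a z z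
      · intro hω
        obtain ⟨a, rfl, rfl⟩ := h2 huv hω
        exact hinv a u v
    · push Not at hp
      refine ⟨∑ x, inc O hO x z * inc O' hO' x z, 0, fun ω ω' => ⟨?_, fun h => absurd (hp ω ω') h⟩⟩
      rintro rfl
      rw [hp ω z]
  · exact ⟨0, 0, fun ω => absurd ⟨ω⟩ hne⟩

theorem inc_rowsum (O : Set Ω) (hO : ∀ h ∈ H, ∀ x, h • x ∈ O ↔ x ∈ O) (x : G ⧸ H) :
    ∑ ω, inc O hO x ω = Nat.card O := by
  classical
  induction x using QuotientGroup.induction_on with
  | _ g =>
    rw [← Equiv.sum_comp (MulAction.toPerm g : Equiv.Perm Ω)]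
    simp only [inc_mk, MulAction.toPerm_apply, inv_smul_smul]
    rw [Finset.sum_boole, Nat.card_eq_fintype_card, Fintype.card_subtype]

theorem inc_colsum [IsPretransitive G Ω] (O : Set Ω) (hO : ∀ h ∈ H, ∀ x, h • x ∈ O ↔ x ∈ O)
    (ω ω' : Ω) : ∑ x, inc O hO x ω = ∑ x, inc O hO x ω' := by
  obtain ⟨a, rfl⟩ := exists_smul_eq G ω ω'
  symm
  rw [← Equiv.sum_comp (MulAction.toPerm a : Equiv.Perm (G ⧸ H))]
  simp only [MulAction.toPerm_apply, inc_smul]

/-- Two disjoint non-empty invariant sets cover everything. -/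
theorem cover (h2 : IsMultiplyPretransitive G Ω 2) (hidx : H.index = Nat.card Ω)
    (O O' : Set Ω) (hO : ∀ h ∈ H, ∀ x, h • x ∈ O ↔ x ∈ O) (hO' : ∀ h ∈ H, ∀ x, h • x ∈ O' ↔ x ∈ O')
    (a b : Ω) (ha : a ∈ O) (hb : b ∈ O') (hdis : ∀ x ∈ O, x ∉ O') (z : Ω) : z ∈ O ∨ z ∈ O' := by
  classical
  by_contra hz
  push Not at hz
  haveI : IsPretransitive G Ω := isPretransitive_of_is_two_pretransitive (h2 := h2)
  obtain ⟨c, d, hcd⟩ := gram h2 O O hO hO
  obtain ⟨e, f, hef⟩ := gram h2 O O' hO hO'
  set k := ∑ x, inc O hO x a with hk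
  have h01 : ∀ x ω, inc O hO x ω = 0 ∨ inc O hO x ω = 1 := by
    intro x ω
    induction x using QuotientGroup.induction_on with
    | _ g => rw [inc_mk]; split <;> simp
  have hnn : ∀ x ω, 0 ≤ inc O hO x ω := fun x ω => by
    rcases h01 x ω with h | h <;> simp [h]
  have hk1 : 1 ≤ k := by
    refine le_trans ?_ (Finset.single_le_sum (fun x _ => hnn x a) (Finset.mem_univ ((1 : G) : G ⧸ H)))
    rw [inc_mk]; simp [ha]
  have hck : c = k := by
    rw [← (hcd a a).1 rfl]
    exact Finset.sum_congr rfl fun x _ => by rcases h01 x a with h | h <;> simp [h]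
  have hdc : d ≠ c := by
    intro hdc
    have haz : a ≠ z := fun h => hz.1 (h ▸ ha)
    have h1 := (hcd a z).2 haz
    rw [hdc, hck] at h1
    have h2' : ∑ x, (inc O hO x a - inc O hO x a * inc O hO x z) = 0 := by
      rw [Finset.sum_sub_distrib, h1, sub_self]
    rw [Finset.sum_eq_zero_iff_of_nonneg] at h2'
    · have := h2' ((1 : G) : G ⧸ H) (Finset.mem_univ _)
      simp [inc_mk, ha, hz.1] at this
    · intro x _
      rcases h01 x a with h | h <;> rcases h01 x z with h' | h' <;> simp [h, h']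
  have hcd0 : c - d ≠ 0 := sub_ne_zero.mpr (Ne.symm hdc)
  -- the transpose of the incidence matrix is injective
  have hcard : Fintype.card Ω = Fintype.card (G ⧸ H) := by
    rw [← Nat.card_eq_fintype_card, ← Nat.card_eq_fintype_card, ← hidx, Subgroup.index]
  let L : (Ω → ℚ) →ₗ[ℚ] (G ⧸ H → ℚ) :=
    { toFun := fun v x => ∑ ω, inc O hO x ω * v ω
      map_add' := fun v w => by funext x; simp [mul_add, Finset.sum_add_distrib]
      map_smul' := fun r v => by funext x; simp [Finset.mul_sum]; congr 1; ext ω; ring }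
  have hLinj : Function.Injective L := by
    rw [injective_iff_map_eq_zero]
    intro v hv
    have hv' : ∀ x, ∑ ω, inc O hO x ω * v ω = 0 := fun x => congrFun hv x
    have key : ∀ ω, (c - d) * v ω + d * ∑ ω', v ω' = 0 := by
      intro ω
      have h0 : ∑ x, inc O hO x ω * (∑ ω', inc O hO x ω' * v ω') = 0 := by simp [hv']
      simp only [Finset.mul_sum, ← mul_assoc] at h0
      rw [Finset.sum_comm] at h0
      simp only [← Finset.sum_mul] at h0
      have h1 : ∀ ω', (∑ x, inc O hO x ω * inc O hO x ω') * v ω'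
          = (if ω = ω' then (c - d) * v ω' else 0) + d * v ω' := by
        intro ω'
        by_cases h : ω = ω'
        · rw [(hcd ω ω').1 h, if_pos h]; ring
        · rw [(hcd ω ω').2 h, if_neg h]; ring
      simp only [h1, Finset.sum_add_distrib, Finset.sum_ite_eq, Finset.mem_univ, if_true,
        ← Finset.mul_sum] at h0
      exact h0
    have hconst : ∀ ω, v ω = v a := fun ω => by
      have := key ω
      have := key a
      exact mul_left_cancel₀ hcd0 (by linarith)
    have hx := hv' ((1 : G) : G ⧸ H)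
    simp only [hconst, ← Finset.sum_mul, inc_rowsum] at hx
    have hOne : (Nat.card O : ℚ) ≠ 0 := by
      haveI : Nonempty O := ⟨⟨a, ha⟩⟩
      exact_mod_cast Nat.card_pos.ne'
    have hva : v a = 0 := (mul_eq_zero.mp hx).resolve_left hOne
    funext ω
    rw [hconst, hva, Pi.zero_apply]
  have hLsurj : Function.Surjective L :=
    (LinearMap.injective_iff_surjective_of_finrank_eq_finrank (by simpa using hcard)).mp hLinj
  have htinj : ∀ w : G ⧸ H → ℚ, (∀ ω, ∑ x, inc O hO x ω * w x = 0) → w = 0 := by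
    intro w hw
    obtain ⟨v, hv⟩ := hLsurj w
    have : ∑ x, w x * w x = 0 := by
      nth_rw 2 [← hv]
      simp only [L, LinearMap.coe_mk, AddHom.coe_mk, Finset.mul_sum]
      rw [Finset.sum_comm]
      refine Finset.sum_eq_zero fun ω _ => ?_
      rw [← mul_zero (v ω), ← hw ω, Finset.mul_sum]
      exact Finset.sum_congr rfl fun x _ => by ring
    funext x
    exact mul_self_eq_zero.mp
      ((Finset.sum_eq_zero_iff_of_nonneg (fun x _ => mul_self_nonneg (w x))).mp this x (Finset.mem_univ x))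
  -- the affine relation
  set α := (e - f) / (c - d) with hα
  set β := (f - α * d) / k with hβ
  have hrel : ∀ ω' x, inc O' hO' x ω' = α * inc O hO x ω' + β := by
    intro ω'
    have hw := htinj (fun x => inc O' hO' x ω' - α * inc O hO x ω' - β) (fun ω => by
      simp only [mul_sub, Finset.sum_sub_distrib, ← Finset.sum_mul]
      rw [inc_colsum O hO ω a, ← hk]
      have hswap : ∑ x, inc O hO x ω * (α * inc O hO x ω')
          = α * ∑ x, inc O hO x ω * inc O hO x ω' := by
        rw [Finset.mul_sum]; exact Finset.sum_congr rfl fun x _ => by ring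
      rw [hswap]
      have hkb : k * β = f - α * d := by
        rw [hβ]; field_simp
      have hac : α * (c - d) = e - f := by rw [hα]; field_simp
      by_cases h : ω = ω'
      · rw [(hef ω ω').1 h, (hcd ω ω').1 h]; linarith
      · rw [(hef ω ω').2 h, (hcd ω ω').2 h]; linarith)
    intro x
    have := congrFun hw x
    simp only [Pi.zero_apply] at this
    linarith
  have h1 := hrel a ((1 : G) : G ⧸ H)
  have h2 := hrel b ((1 : G) : G ⧸ H)
  have h3 := hrel z ((1 : G) : G ⧸ H)
  have hbO : b ∉ O := fun h => hdis b h hb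
  simp [inc_mk, hbO, hb, hz.1, hz.2] at h2 h3
  linarith

end

theorem result {G Ω : Type*} [Group G] [Finite G] [MulAction G Ω] [FaithfulSMul G Ω] [Finite Ω] (h2 : MulAction.IsMultiplyPretransitive G Ω 2) (H : Subgroup G) (hidx : H.index = Nat.card Ω) (hnt : ¬ MulAction.IsPretransitive H Ω) (hfix : ∀ a : Ω, ∃ h : H, h • a ≠ a) : Nat.card (MulAction.orbitRel.Quotient H Ω) = 2 := by
  haveI := Fintype.ofFinite Ω
  haveI := Fintype.ofFinite (G ⧸ H)
  -- invariant set of an orbit
  let S : MulAction.orbitRel.Quotient H Ω → Set Ω :=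
    fun q => {x | (Quotient.mk'' x : MulAction.orbitRel.Quotient H Ω) = q}
  have hS : ∀ q, ∀ h ∈ H, ∀ x, h • x ∈ S q ↔ x ∈ S q := by
    intro q h hh x
    have : (Quotient.mk'' (h • x) : MulAction.orbitRel.Quotient H Ω) = Quotient.mk'' x :=
      Quotient.sound' ⟨⟨h, hh⟩, rfl⟩
    simp [S, this]
  have hS1 : ∀ q, ∃ x, x ∈ S q := fun q => Quotient.inductionOn' q fun x => ⟨x, rfl⟩
  obtain ⟨x, y, hxy⟩ : ∃ x y : Ω, (Quotient.mk'' x : MulAction.orbitRel.Quotient H Ω) ≠ Quotient.mk'' y := by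
    by_contra h
    push Not at h
    exact hnt ⟨fun x y => by
      obtain ⟨g, hg⟩ := Quotient.exact' (h y x)
      exact ⟨g, hg⟩⟩
  rw [Nat.card_eq_two_iff]
  refine ⟨Quotient.mk'' x, Quotient.mk'' y, hxy, ?_⟩
  rw [Set.eq_univ_iff_forall]
  intro q
  obtain ⟨z, hz⟩ := hS1 q
  have := cover h2 hidx (S (Quotient.mk'' x)) (S (Quotient.mk'' y)) (hS _) (hS _) x y rfl rfl
    (fun u hu hu' => hxy (hu.symm.trans hu')) z
  rcases this with h | h
  · exact Or.inl (hz.symm.trans h)
  · exact Or.inr (Set.mem_singleton_iff.mpr (hz.symm.trans h))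

end Cfsg.Agent.S3704
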