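import Cfsg.Statements.S3708
import Cfsg.Agent.Phan.Recognise

set_option autoImplicit false
open Cfsg

namespace Cfsg.Agent.S3708

/-- Phan's recognition of unitary groups. Let F be a finite field with q² elements, q > 4, and n ≥ 2. Let G be a group generated by subgroups U_0, …, U_{n−1}, each isomorphic to the special unitary group SU(2, q²) (determinant-one isometries of the standard Hermitian form in two variables over F), and let D_i ≤ U_i be cyclic subgroups of order q + 1. Suppose that U_i and U_j commute elementwise whenever the indices differ by at least 2, that the subgroup generated by U_i and U_{i+1} is isomorphic to SU(3, q²) for each i, and that D_i and D_j commute elementwise for all i, j. Then G is a homomorphic image of SU(n+1, q²). (Generation of G by the U_i is part of the hypothesis; G is not assumed finite.) -/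
theorem result {G : Type*} [Group G] (n : ℕ) (hn : 2 ≤ n)
    (F : Type*) [Field F] [Fintype F] (q : ℕ) (hq : 4 < q) (hF : Fintype.card F = q ^ 2)
    (U : Fin n → Subgroup G) (e : ∀ i, ↥(Cfsg.SU 2 F q) ≃* ↥(U i)) (hgen : ⨆ i, U i = ⊤)
    (D : Fin n → Subgroup G) (hD : ∀ i, D i ≤ U i ∧ IsCyclic ↥(D i) ∧ Nat.card ↥(D i) = q + 1)
    (h1 : ∀ i j : Fin n, (i : ℕ) + 2 ≤ j → ∀ x ∈ U i, ∀ y ∈ U j, x * y = y * x)
    (h2 : ∀ i j : Fin n, (i : ℕ) + 1 = j → Nonempty (↥(U i ⊔ U j) ≃* ↥(Cfsg.SU 3 F q)))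
    (h3 : ∀ i j : Fin n, i ≠ j → ∀ x ∈ D i, ∀ y ∈ D j, x * y = y * x) :
    ∃ f : ↥(Cfsg.SU (n + 1) F q) →* G, Function.Surjective f := by
  classical
  obtain ⟨C, rfl⟩ := CfsgLib.RepBounds.Unit.exists_conjField q hF
  let U' : ℕ → Subgroup G := fun i => if h : i < n then U ⟨i, h⟩ else ⊥
  have hU' : ∀ i (h : i < n), U' i = U ⟨i, h⟩ := fun i h => dif_pos h
  have hψ : ∀ i, i + 2 ≤ n → ∃ ψ : CfsgLib.RepBounds.Unit.suG C (Fin 3) →* G,
      CfsgLib.Phan.IsPair C ψ (U' i) (U' (i + 1)) := by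
    intro i hi
    rw [hU' i (by omega), hU' (i + 1) (by omega)]
    obtain ⟨iso⟩ := h2 ⟨i, by omega⟩ ⟨i + 1, by omega⟩ rfl
    obtain ⟨hA, cA, nA⟩ := hD ⟨i, by omega⟩
    obtain ⟨hB, cB, nB⟩ := hD ⟨i + 1, by omega⟩
    haveI := cA
    haveI := cB
    exact CfsgLib.Phan.exists_pair_of_iso C (by omega)
      ((MulEquiv.subgroupCongr (CfsgLib.RepBounds.Unit.suG_fin_eq C 2)).trans (e _))
      ((MulEquiv.subgroupCongr (CfsgLib.RepBounds.Unit.suG_fin_eq C 2)).trans (e _))
      (iso.trans (MulEquiv.subgroupCongr (CfsgLib.RepBounds.Unit.suG_fin_eq C 3)).symm)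
      hA nA hB nB
      (fun x hx y hy => h3 _ _ (by simp) x hx y hy)
  obtain ⟨f, hf⟩ := CfsgLib.Phan.exists_hom_of_pairs (C := C) (by omega) (n := n) hn U' hψ
    (fun i j hij hj x hx y hy => by
      rw [hU' i (by omega)] at hx
      rw [hU' j hj] at hy
      exact h1 _ _ hij x hx y hy)
  refine ⟨f.comp (MulEquiv.subgroupCongr
    (CfsgLib.RepBounds.Unit.suG_fin_eq C (n + 1))).symm.toMonoidHom, ?_⟩
  refine Function.Surjective.comp (g := f) (MonoidHom.range_eq_top.1 ?_) (MulEquiv.surjective _)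
  rw [eq_top_iff, ← hgen]
  exact iSup_le fun i => by simpa only [hU' _ i.2] using hf i i.2

end Cfsg.Agent.S3708
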