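import Cfsg.Statements.S3709
import Cfsg.Agent.Phan.Standard

set_option autoImplicit false
open Cfsg

namespace Cfsg.Agent.S3709

/-- Recognition of unitary groups from a weak Phan system. Let F be a finite field with q² elements, q > 3, and n ≥ 3. Let G be a group with subgroups U_0, …, U_{n−1}, each isomorphic to SU(2, q²), and, for each pair of consecutive indices, a subgroup V_{i,i+1} in which U_i and U_{i+1} form a standard pair (some isomorphism from SU(3, q²), or from its central quotient PSU(3, q²), onto V_{i,i+1} carries the two block-diagonal SU(2, q²) subgroups, or their images, onto U_i and U_{i+1}). Suppose that U_i and U_j commute elementwise whenever the indices differ by at least 2, and that G is generated by the U_i together with the V_{i,i+1}. Then G is a homomorphic image of SU(n+1, q²). (G is not assumed finite.) -/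
theorem result {G : Type*} [Group G] (n : ℕ) (hn : 3 ≤ n)
    (F : Type*) [Field F] [Fintype F] (q : ℕ) (hq : 3 < q) (hF : Fintype.card F = q ^ 2)
    (U : Fin n → Subgroup G) (e : ∀ i, ↥(Cfsg.SU 2 F q) ≃* ↥(U i))
    (V : Fin n → Fin n → Subgroup G)
    (h1 : ∀ i j : Fin n, (i : ℕ) + 2 ≤ j → ∀ x ∈ U i, ∀ y ∈ U j, x * y = y * x)
    (h2 : ∀ i j : Fin n, (i : ℕ) + 1 = j → Cfsg.IsStandardUnitaryPair (V i j) (U i) (U j) F q)
    (hgen : (⨆ i, U i) ⊔ (⨆ (i : Fin n) (j : Fin n) (_ : (i : ℕ) + 1 = j), V i j) = ⊤) :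
    ∃ f : ↥(Cfsg.SU (n + 1) F q) →* G, Function.Surjective f := by
  classical
  obtain ⟨C, rfl⟩ := CfsgLib.RepBounds.Unit.exists_conjField q hF
  let U' : ℕ → Subgroup G := fun i => if h : i < n then U ⟨i, h⟩ else ⊥
  have hU' : ∀ i (h : i < n), U' i = U ⟨i, h⟩ := fun i h => dif_pos h
  have hψ : ∀ i (hi : i + 2 ≤ n), ∃ ψ : CfsgLib.RepBounds.Unit.suG C (Fin 3) →* G,
      CfsgLib.Phan.IsPair C ψ (U' i) (U' (i + 1)) ∧
        ψ.range = V ⟨i, by omega⟩ ⟨i + 1, by omega⟩ := by
    intro i hi
    rw [hU' i (by omega), hU' (i + 1) (by omega)]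
    exact CfsgLib.Phan.exists_pair_of_standard C (by omega) (h2 _ _ rfl)
  obtain ⟨f, hf⟩ := CfsgLib.Phan.exists_hom_of_pairs (C := C) (by omega) (n := n) (by omega) U'
    (fun i hi => (hψ i hi).imp fun _ h => h.1)
    (fun i j hij hj x hx y hy => by
      rw [hU' i (by omega)] at hx
      rw [hU' j hj] at hy
      exact h1 _ _ hij x hx y hy)
  refine ⟨f.comp (MulEquiv.subgroupCongr
    (CfsgLib.RepBounds.Unit.suG_fin_eq C (n + 1))).symm.toMonoidHom, ?_⟩
  refine Function.Surjective.comp (g := f) (MonoidHom.range_eq_top.1 ?_) (MulEquiv.surjective _)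
  rw [eq_top_iff, ← hgen]
  refine sup_le (iSup_le fun i => ?_) (iSup_le fun i => iSup_le fun j => iSup_le fun hij => ?_)
  · simpa only [hU' _ i.2] using hf i i.2
  · obtain ⟨ψ, hψ', hr⟩ := hψ i (by omega)
    have hV : V i j = ψ.range := by
      rw [hr]
      exact congrArg₂ V rfl (Fin.ext hij.symm)
    rw [hV, CfsgLib.Phan.range_eq_sup C (by omega) ψ, hψ'.range_up, hψ'.range_lo]
    exact sup_le (hf i (by omega)) (hf _ (by omega))

end Cfsg.Agent.S3709
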