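import Cfsg.Statements.S3716
import Cfsg.Agent.SylowThreeNine.Dihedral.NotSimple

set_option autoImplicit false
open Cfsg

namespace Cfsg.Agent.S3716

/-- Let G be a finite group with an elementary abelian Sylow 3-subgroup M of order 9 which is self-centralizing (C_G(M) = M), let N = N_G(M), and suppose C_G(g) ≤ N for every nonidentity g ∈ M. If the Sylow 2-subgroups of N are dihedral of order 8, then G is not simple. -/
theorem result {G : Type*} [Group G] [Finite G] (M : Sylow 3 G) (hM9 : Nat.card ↥(M : Subgroup G) = 9)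
    (hMel : ∀ m ∈ (M : Subgroup G), m ^ 3 = 1)
    (hCM : Subgroup.centralizer ((M : Subgroup G) : Set G) = (M : Subgroup G))
    (N : Subgroup G) (hN : N = Subgroup.normalizer ((M : Subgroup G) : Set G))
    (hCg : ∀ g ∈ (M : Subgroup G), g ≠ 1 → Subgroup.centralizer ({g} : Set G) ≤ N)
    (hS : ∀ S : Sylow 2 ↥N, Nonempty (↥(S : Subgroup ↥N) ≃* DihedralGroup 4)) :
    ¬ IsSimpleGroup G := by
  classical
  haveI : Fact (Nat.Prime 3) := ⟨Nat.prime_three⟩
  subst hN
  have hcomm : ∀ a ∈ (M : Subgroup G), ∀ b ∈ (M : Subgroup G), a * b = b * a := fun a ha b hb => by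
    have hb' : b ∈ Subgroup.centralizer ((M : Subgroup G) : Set G) := by rw [hCM]; exact hb
    exact Subgroup.mem_centralizer_iff.1 hb' a ha
  let c : CfsgLib.SylowThreeNine.Setup G :=
    { S := M
      card_eq := hM9
      exp := fun a ha => by rw [← pow_two, ← pow_succ]; exact hMel a ha
      comm := hcomm
      not_dvd := fun h => by
        have hP := M.pow_dvd_card_of_pow_dvd_card (n := 3) (show 3 ^ 3 ∣ Nat.card G from h)
        rw [hM9] at hP
        norm_num at hP
      cent := hCg }
  have hcent : ∀ g : G, (∀ a ∈ c.S, g * a = a * g) → g ∈ c.S := fun g hg => by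
    show g ∈ (M : Subgroup G)
    rw [← hCM]
    exact Subgroup.mem_centralizer_iff.2 fun a ha => (hg a ha).symm
  obtain ⟨P⟩ : Nonempty (Sylow 2 ↥(Subgroup.normalizer ((M : Subgroup G) : Set G))) := inferInstance
  obtain ⟨e⟩ := hS P
  obtain ⟨F⟩ := CfsgLib.SylowThreeNine.Dihedral.exists_frame c hcent P e
  exact F.not_isSimpleGroup

end Cfsg.Agent.S3716
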