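import Cfsg.Statements.S3718
import Cfsg.Agent.OneComposite.TwoR
import Cfsg.Agent.OneComposite.Filters
import Cfsg.Agent.S2497
import Cfsg.Agent.SEmbed.ProjectiveLine
import Cfsg.Agent.Suzuki.Tori
import Cfsg.Agent.Suzuki.Unipotent
import Cfsg.Agent.Suzuki.LieModel
import Cfsg.Agent.S0205
import Cfsg.Agent.Small.CosetRep

set_option autoImplicit false
open Cfsg

namespace Cfsg.Agent.S3718

/-- Let G be a finite simple group whose set of element orders contains at most one composite number (at most one element order that is neither 1 nor a prime). Then G is cyclic of prime order, or isomorphic to PSL₂(q) for q ∈ {5, 7, 8, 9, 11, 13, 16}, to PSL₃(4), to the Suzuki group Sz(8), to PSL₂(3ⁿ) with (3ⁿ − 1)/2 and (3ⁿ + 1)/4 both prime, or to PSL₂(2ⁿ) with 2ⁿ − 1 and (2ⁿ + 1)/3 both prime. -/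
theorem result {G : Type*} [Group G] [Finite G] [IsSimpleGroup G]
    (h1 : {n : ℕ | n ∈ Set.range (orderOf : G → ℕ) ∧ 1 < n ∧ ¬ n.Prime}.Subsingleton) :
    (Nat.card G).Prime ∨
    (∃ (F : Type) (_ : Field F) (_ : Fintype F), (Fintype.card F = 5 ∨ Fintype.card F = 7 ∨ Fintype.card F = 8 ∨ Fintype.card F = 9 ∨
        Fintype.card F = 11 ∨ Fintype.card F = 13 ∨ Fintype.card F = 16) ∧ Nonempty (G ≃* Matrix.ProjectiveSpecialLinearGroup (Fin 2) F)) ∨
    (∃ (F : Type) (_ : Field F) (_ : Fintype F), Fintype.card F = 4 ∧ Nonempty (G ≃* Matrix.ProjectiveSpecialLinearGroup (Fin 3) F)) ∨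
    (∃ (F : Type) (_ : Field F) (_ : Fintype F), Fintype.card F = 8 ∧ Nonempty (G ≃* ↥(Cfsg.Lie.Sz F 4))) ∨
    (∃ (F : Type) (_ : Field F) (_ : Fintype F), ∃ n r s : ℕ, r.Prime ∧ s.Prime ∧ 3 ^ n - 1 = 2 * r ∧ 3 ^ n + 1 = 4 * s ∧
        Fintype.card F = 3 ^ n ∧ Nonempty (G ≃* Matrix.ProjectiveSpecialLinearGroup (Fin 2) F)) ∨
    (∃ (F : Type) (_ : Field F) (_ : Fintype F), ∃ n r : ℕ, (2 ^ n - 1).Prime ∧ r.Prime ∧ 2 ^ n + 1 = 3 * r ∧
        Fintype.card F = 2 ^ n ∧ Nonempty (G ≃* Matrix.ProjectiveSpecialLinearGroup (Fin 2) F)) := by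
  classical
  haveI : Fact (Nat.Prime 2) := ⟨Nat.prime_two⟩
  by_cases hcomm : IsMulCommutative G
  · exact Or.inl (CfsgLib.Small.card_prime_of_simple_comm hcomm)
  right
  have hone : CfsgLib.OneComposite.AtMostOne G := fun x y hx hx' hy hy' =>
    h1 ⟨⟨x, rfl⟩, hx, hx'⟩ ⟨⟨y, rfl⟩, hy, hy'⟩
  have isoFive : ∀ (F : Type) [Field F] [Fintype F], Fintype.card F = 4 →
      Nonempty (G ≃* Matrix.ProjectiveSpecialLinearGroup (Fin 2) F) →
      ∃ (K : Type) (_ : Field K) (_ : Fintype K), Fintype.card K = 5 ∧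
        Nonempty (G ≃* Matrix.ProjectiveSpecialLinearGroup (Fin 2) K) := by
    intro F _ _ hF ⟨e⟩
    haveI : Fact (Nat.Prime 5) := ⟨by norm_num⟩
    obtain ⟨e4⟩ := Cfsg.Agent.S0252.result hF
    obtain ⟨e5⟩ := Cfsg.Agent.S0253.result (F := ZMod 5) (ZMod.card 5)
    exact ⟨ZMod 5, inferInstance, inferInstance, ZMod.card 5, ⟨(e.trans e4).trans e5.symm⟩⟩
  by_cases hpp : ∀ g : G, g ≠ 1 → IsPrimePow (orderOf g)
  · rcases Cfsg.Agent.S2497.result hcomm hpp with hA6 | ⟨F, i1, i2, hF, ⟨e⟩⟩ | h3 | ⟨F, i1, i2, hS⟩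
    · obtain ⟨e⟩ := hA6
      obtain ⟨e'⟩ := Cfsg.Agent.S0254.result CfsgLib.Linear.card_gf9
      exact Or.inl ⟨CfsgLib.Linear.GF9, inferInstance, inferInstance,
        by simp [CfsgLib.Linear.card_gf9], ⟨e.trans e'.symm⟩⟩
    · simp only [Finset.mem_insert, Finset.mem_singleton] at hF
      rcases hF with hF | hF | hF | hF
      · obtain ⟨K, j1, j2, hK, hK'⟩ := isoFive F hF ⟨e⟩
        exact Or.inl ⟨K, j1, j2, Or.inl hK, hK'⟩
      · exact Or.inl ⟨F, i1, i2, by omega, ⟨e⟩⟩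
      · exact Or.inl ⟨F, i1, i2, by omega, ⟨e⟩⟩
      · -- orders eight and nine
        exfalso
        have := (hone.of_equiv e).eq_of_dvd (by omega) (a := 8) (b := 9)
          (by rw [hF]; norm_num) (by rw [hF]; norm_num) (by norm_num) (by norm_num) (by norm_num)
          (by norm_num)
        omega
    · exact Or.inr (Or.inl h3)
    · rcases hS with ⟨hF, he⟩ | ⟨hF, ⟨e⟩⟩
      · exact Or.inr (Or.inr (Or.inl ⟨F, i1, i2, hF, he⟩))
      · -- orders four and twenty-five
        exfalso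
        have hS : CfsgLib.Suzuki.SzField F 2 := ⟨by norm_num, by rw [hF]; norm_num⟩
        have hSz := hone.of_equiv (e.trans (CfsgLib.Suzuki.lieSzEquiv hS).symm)
        obtain ⟨z, hz, hzk, -⟩ := CfsgLib.Suzuki.exists_torus hS (k := 25)
          (Or.inr (by rw [hF]; norm_num))
        haveI := hz.cyclic hS
        obtain ⟨u, hu⟩ := IsCyclic.exists_ofOrder_eq_natCard (α := CfsgLib.Suzuki.cT z)
        rw [hzk, ← Subgroup.orderOf_coe] at hu
        obtain ⟨v, hv⟩ : ∃ v : Cfsg.Sz F 2, orderOf v = 4 := by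
          have hexp := CfsgLib.Suzuki.exponent_uniSub hS
          obtain ⟨v, hv⟩ : ∃ v : CfsgLib.Suzuki.uniSub hS, v ^ 2 ≠ 1 := by
            by_contra hcon
            push Not at hcon
            have := Monoid.exponent_dvd_of_forall_pow_eq_one hcon
            rw [hexp] at this
            norm_num at this
          refine ⟨v, ?_⟩
          rw [Subgroup.orderOf_coe]
          refine orderOf_eq_prime_pow (p := 2) (n := 1) (by simpa using hv) ?_
          have := Monoid.pow_exponent_eq_one v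
          rw [hexp] at this
          simpa using this
        have := hSz u v (by omega) (by rw [hu]; norm_num) (by omega) (by rw [hv]; norm_num)
        omega
  -- the composite order is a product of two primes
  push Not at hpp
  obtain ⟨g, hg1, hg⟩ := hpp
  have hn1 : 1 < orderOf g := by
    have := orderOf_pos g
    have : orderOf g ≠ 1 := fun e => hg1 (orderOf_eq_one_iff.1 e)
    omega
  obtain ⟨p, hp, hpd⟩ := Nat.exists_prime_and_dvd (show orderOf g ≠ 1 by omega)
  obtain ⟨q, hq, hqd, hqp⟩ : ∃ q, q.Prime ∧ q ∣ orderOf g ∧ q ≠ p := by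
    by_contra hcon
    push Not at hcon
    refine hg ((isPrimePow_nat_iff _).2 ⟨p, (orderOf g).primeFactorsList.length, hp, ?_,
      (Nat.eq_prime_pow_of_unique_prime_dvd (by omega) fun {d} hd hdn => hcon d hd hdn).symm⟩)
    exact List.length_pos_of_ne_nil fun e => by
      rcases (Nat.primeFactorsList_eq_nil _).1 e with h0 | h0 <;> omega
  have hpq : p * q ∣ orderOf g :=
    ((Nat.coprime_primes hp hq).2 (Ne.symm hqp)).mul_dvd_of_dvd_of_dvd hpd hqd
  have hpqc : ¬ (p * q).Prime := Nat.not_prime_mul hp.one_lt.ne' hq.one_lt.ne'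
  have hpq1 : 1 < p * q := by nlinarith [hp.two_le, hq.two_le]
  obtain ⟨w, hw⟩ : ∃ w : G, orderOf w = p * q :=
    ⟨g ^ (orderOf g / (p * q)), orderOf_pow_orderOf_div (by omega) hpq⟩
  have hcases : ∀ x : G, x = 1 ∨ (orderOf x).Prime ∨ orderOf x = p * q := by
    intro x
    by_cases hx : x = 1
    · exact Or.inl hx
    by_cases hxp : (orderOf x).Prime
    · exact Or.inr (Or.inl hxp)
    have hx1 : 1 < orderOf x := by
      have := orderOf_pos x
      have : orderOf x ≠ 1 := fun e => hx (orderOf_eq_one_iff.1 e)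
      omega
    exact Or.inr (Or.inr ((hone x w hx1 hxp (hw ▸ hpq1) (hw ▸ hpqc)).trans hw))
  -- the case of an even order
  have twoR : ∀ r : ℕ, r.Prime → r ≠ 2 → p * q = 2 * r →
      (∃ (F : Type) (_ : Field F) (_ : Fintype F), (Fintype.card F = 5 ∨ Fintype.card F = 7 ∨
        Fintype.card F = 8 ∨ Fintype.card F = 9 ∨ Fintype.card F = 11 ∨ Fintype.card F = 13 ∨
        Fintype.card F = 16) ∧ Nonempty (G ≃* Matrix.ProjectiveSpecialLinearGroup (Fin 2) F)) ∨
      (∃ (F : Type) (_ : Field F) (_ : Fintype F), ∃ n r s : ℕ, r.Prime ∧ s.Prime ∧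
        3 ^ n - 1 = 2 * r ∧ 3 ^ n + 1 = 4 * s ∧ Fintype.card F = 3 ^ n ∧
        Nonempty (G ≃* Matrix.ProjectiveSpecialLinearGroup (Fin 2) F)) := by
    intro r hr hr2 hpqr
    have hord : ∀ x : G, ∀ d : ℕ, d.Prime → d ∣ orderOf x → orderOf x = d ∨ orderOf x = 2 * r := by
      intro x d hd hdx
      rcases hcases x with rfl | hx | hx
      · rw [orderOf_one] at hdx; exact absurd (Nat.dvd_one.1 hdx) hd.one_lt.ne'
      · exact Or.inl ((Nat.prime_dvd_prime_iff_eq hd hx).1 hdx).symm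
      · exact Or.inr (hx.trans hpqr)
    have H : CfsgLib.OneComposite.Hyp G r :=
      ⟨inferInstance, hcomm, hr, hr2, fun x hx => hord x 2 Nat.prime_two hx,
        fun x hx => hord x r hr hx, ⟨w, hw.trans hpqr⟩⟩
    obtain ⟨F, i1, i2, hodd, ⟨e⟩⟩ := H.exists_equiv
    have h4F : 4 ≤ Fintype.card F := by
      by_contra hlt
      have h3 : Fintype.card F = 3 := by
        obtain ⟨t, ht⟩ := hodd
        have := Fintype.one_lt_card (α := F)
        omega
      refine CfsgLib.Classification.DihedralBSW.card_ne_twelve (Classical.arbitrary (Sylow 2 G))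
        hcomm ?_
      have h2 := CfsgLib.Linear.card_PSL_two_odd (F := F) hodd
      rw [h3] at h2
      rw [Nat.card_congr e.toEquiv]
      omega
    have hwe : orderOf (e w) = 2 * r := by rw [e.orderOf_eq, hw, hpqr]
    rcases CfsgLib.OneComposite.filter_odd (hone.of_equiv e) hodd h4F hr hr2 hwe with
      hF | hF | ⟨n, a, b, ha, hb, hn1, hn2, hF⟩
    · exact Or.inl ⟨F, i1, i2, by omega, ⟨e⟩⟩
    · exact Or.inl ⟨F, i1, i2, by omega, ⟨e⟩⟩
    · exact Or.inr ⟨F, i1, i2, n, a, b, ha, hb, hn1, hn2, hF, ⟨e⟩⟩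
  by_cases hp2 : p = 2
  · rcases twoR q hq (hp2 ▸ hqp) (by rw [hp2]) with h | h
    · exact Or.inl h
    · exact Or.inr (Or.inr (Or.inr (Or.inl h)))
  by_cases hq2 : q = 2
  · rcases twoR p hp hp2 (by rw [hq2, mul_comm]) with h | h
    · exact Or.inl h
    · exact Or.inr (Or.inr (Or.inr (Or.inl h)))
  -- both primes odd: centralisers of involutions are elementary abelian
  have hsq : ∀ t x : G, orderOf t = 2 → Commute t x → x ^ 2 = 1 := by
    intro t x ht hc
    have hodd_pq : ¬ 2 ∣ p * q := fun hd => by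
      rcases Nat.prime_two.dvd_mul.1 hd with e | e
      · exact hp2 ((Nat.prime_dvd_prime_iff_eq Nat.prime_two hp).1 e).symm
      · exact hq2 ((Nat.prime_dvd_prime_iff_eq Nat.prime_two hq).1 e).symm
    rcases hcases x with rfl | hx | hx
    · exact one_pow 2
    · rcases hx.eq_two_or_odd' with e | e
      · rw [← e, pow_orderOf_eq_one]
      · exfalso
        have hm := hc.orderOf_mul_eq_mul_orderOf_of_coprime (by
          rw [ht]; exact Nat.coprime_two_left.2 e)
        rw [ht] at hm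
        rcases hcases (t * x) with h' | h' | h'
        · rw [h', orderOf_one] at hm; omega
        · rw [hm] at h'; exact Nat.not_prime_mul (by norm_num) hx.one_lt.ne' h'
        · exact hodd_pq ⟨orderOf x, by rw [← h', hm]⟩
    · exfalso
      have hm := hc.orderOf_mul_eq_mul_orderOf_of_coprime (by
        rw [ht, hx]; exact (Nat.coprime_two_left).2 (Nat.odd_iff.2 (by omega)))
      rw [ht, hx] at hm
      rcases hcases (t * x) with h' | h' | h'
      · rw [h', orderOf_one] at hm; omega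
      · rw [hm] at h'; exact Nat.not_prime_mul (by norm_num) (by omega) h'
      · omega
  have hevenG : 2 ∣ Nat.card G := by
    by_contra h2
    haveI : Group.IsSolvable G := Cfsg.Agent.S0205.result (Nat.odd_iff.2 (by omega))
    refine hcomm ⟨⟨fun a b => ?_⟩⟩
    exact IsSimpleGroup.comm_iff_isSolvable.2 inferInstance a b
  obtain ⟨T⟩ : Nonempty (Sylow 2 G) := inferInstance
  have hTsq : ∀ x ∈ (T : Subgroup G), x ^ 2 = 1 := by
    intro x hx
    obtain ⟨k, hk⟩ := IsPGroup.iff_orderOf.1 T.2 ⟨x, hx⟩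
    rw [Subgroup.orderOf_mk] at hk
    rcases hcases x with rfl | h' | h'
    · exact one_pow 2
    · rw [hk] at h'
      have : orderOf x = 2 := by
        rcases k with _ | _ | k
        · simp at h'; exact absurd h' (by norm_num)
        · simpa using hk
        · exact absurd h' (Nat.Prime.not_prime_pow (by omega))
      rw [← this, pow_orderOf_eq_one]
    · exfalso
      have hd : p ∣ 2 ^ k := hk ▸ h' ▸ dvd_mul_right p q
      exact hp2 ((Nat.prime_dvd_prime_iff_eq hp Nat.prime_two).1 (hp.dvd_of_dvd_pow hd))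
  have hTc : IsMulCommutative (T : Subgroup G) := ⟨⟨fun a b => Subtype.ext (by
    have inv : ∀ x ∈ (T : Subgroup G), x⁻¹ = x := fun x hx =>
      inv_eq_of_mul_eq_one_right (by rw [← pow_two, hTsq x hx])
    have := inv _ (mul_mem a.2 b.2)
    rw [mul_inv_rev, inv _ a.2, inv _ b.2] at this
    exact this.symm)⟩⟩
  have hTnc : ¬ IsCyclic (T : Subgroup G) := by
    refine CfsgLib.Transitivity.not_isCyclic_of_elab ⟨hTc, hTsq⟩ ?_
    have h4 := CfsgLib.Small.four_dvd_card_of_simple hcomm hevenG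
    exact Nat.le_of_dvd Nat.card_pos
      (by simpa using T.pow_dvd_card_of_pow_dvd_card (n := 2) (by simpa using h4))
  have hTnn : ¬ (T : Subgroup G).Normal := by
    intro hn
    rcases hn.eq_bot_or_eq_top with e | e
    · exact T.ne_bot_of_dvd_card hevenG e
    · exact hcomm ⟨⟨fun a b => congrArg Subtype.val
        (mul_comm' (⟨a, e ▸ Subgroup.mem_top a⟩ : (T : Subgroup G)) ⟨b, e ▸ Subgroup.mem_top b⟩)⟩⟩
  have hCi : ∀ t : G, orderOf t = 2 → IsMulCommutative (Subgroup.centralizer ({t} : Set G)) ∧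
      ∀ c ∈ Subgroup.centralizer ({t} : Set G), c ^ 2 = 1 := by
    intro t ht
    have hC : ∀ c ∈ Subgroup.centralizer ({t} : Set G), c ^ 2 = 1 := fun c hc =>
      hsq t c ht (Subgroup.mem_centralizer_singleton_iff.1 hc).symm
    refine ⟨⟨⟨fun a b => Subtype.ext ?_⟩⟩, hC⟩
    have inv : ∀ x ∈ Subgroup.centralizer ({t} : Set G), x⁻¹ = x := fun x hx =>
      inv_eq_of_mul_eq_one_right (by rw [← pow_two, hC x hx])
    have := inv _ (mul_mem a.2 b.2)
    rw [mul_inv_rev, inv _ a.2, inv _ b.2] at this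
    exact this.symm
  obtain ⟨F, i1, i2, hF, ⟨e⟩⟩ := CfsgLib.SEmbed.exists_equiv_PSL2 (T := T) ⟨hTnc, hTnn, hCi⟩
  obtain ⟨m, hm⟩ := T.2.exists_card_eq
  rw [hm] at hF
  have hm2 : 2 ≤ m := by
    by_contra hlt
    have h4 := CfsgLib.Small.four_dvd_card_of_simple hcomm hevenG
    have h22 : 2 ^ 2 ∣ 2 ^ m := hm ▸ T.pow_dvd_card_of_pow_dvd_card (by simpa using h4)
    have := (Nat.pow_dvd_pow_iff_le_right (by norm_num)).1 h22
    omega
  rcases CfsgLib.OneComposite.filter_even (hone.of_equiv e) hm2 hF with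
    h4 | h8 | h16 | ⟨hU, x, hx, hV⟩
  · obtain ⟨K, j1, j2, hK, hK'⟩ := isoFive F h4 ⟨e⟩
    exact Or.inl ⟨K, j1, j2, Or.inl hK, hK'⟩
  · exact Or.inl ⟨F, i1, i2, by omega, ⟨e⟩⟩
  · exact Or.inl ⟨F, i1, i2, by omega, ⟨e⟩⟩
  · exact Or.inr (Or.inr (Or.inr (Or.inr ⟨F, i1, i2, m, x, hU, hx, hV, hF, ⟨e⟩⟩)))

end Cfsg.Agent.S3718
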