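import Cfsg.Statements.S3733

set_option autoImplicit false
open Cfsg

namespace Cfsg.Agent.S3733

open scoped Classical in
theorem sum_part {G : Type*} [Group G] [Fintype G] {M : Type*} [AddCommGroup M] (f : G → M)
    (A : Subgroup G) (𝒜 : Finset (Subgroup G)) (hle : ∀ B ∈ 𝒜, B ≤ A)
    (hpart : ∀ a ∈ A, a ≠ 1 → ∃! B, B ∈ 𝒜 ∧ a ∈ B) :
    ∑ B ∈ 𝒜, ∑ b with b ∈ B, f b = (∑ a with a ∈ A, f a) + ((𝒜.card : ℤ) - 1) • f 1 := by
  have e : ∀ B : Subgroup G, ∑ b with b ∈ B, f b = f 1 + ∑ b with b ∈ B ∧ b ≠ 1, f b := by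
    intro B
    have hset : (Finset.univ.filter (fun b => b ∈ B)) =
        insert 1 (Finset.univ.filter (fun b => b ∈ B ∧ b ≠ 1)) := by
      ext x
      by_cases hx : x = 1 <;> simp [hx, B.one_mem]
    rw [hset, Finset.sum_insert (by simp)]
  simp only [e, Finset.sum_add_distrib, Finset.sum_const]
  have hc : ∑ B ∈ 𝒜, ∑ b with b ∈ B ∧ b ≠ 1, f b = ∑ b with b ∈ A ∧ b ≠ 1, f b := by
    simp only [Finset.sum_filter]
    rw [Finset.sum_comm]
    refine Finset.sum_congr rfl fun b _ => ?_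
    by_cases hb : b ∈ A ∧ b ≠ 1
    · rw [if_pos hb]
      obtain ⟨B, ⟨hB, hbB⟩, huniq⟩ := hpart b hb.1 hb.2
      rw [Finset.sum_eq_single B]
      · rw [if_pos ⟨hbB, hb.2⟩]
      · intro B' hB' hne
        rw [if_neg]
        exact fun h => hne (huniq B' ⟨hB', h.1⟩)
      · exact fun h => absurd hB h
    · rw [if_neg hb]
      exact Finset.sum_eq_zero fun B hB => if_neg fun h => hb ⟨hle B hB h.1, h.2⟩
  rw [hc, sub_smul, natCast_zsmul, one_zsmul]
  abel

/-- Let A and V be subgroups of a finite group with V abelian and nontrivial and A normalizing V. Suppose a nonempty finite family of proper subgroups of A partitions A: every non-identity element of A lies in exactly one member. If the number of members minus one is coprime to the order of V, then some member B of the family has a non-identity fixed point on V, that is V ∩ C(B) ≠ 1. -/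
theorem result {G : Type*} [Group G] [Finite G] (A V : Subgroup G) (hVab : IsMulCommutative V) (hV : V ≠ ⊥) (hAV : A ≤ Subgroup.normalizer (V : Set G)) (𝒜 : Finset (Subgroup G)) (hne : 𝒜.Nonempty) (hprop : ∀ B ∈ 𝒜, B < A) (hpart : ∀ a ∈ A, a ≠ 1 → ∃! B, B ∈ 𝒜 ∧ a ∈ B) (hk : (𝒜.card - 1).Coprime (Nat.card V)) : ∃ B ∈ 𝒜, V ⊓ Subgroup.centralizer (B : Set G) ≠ ⊥ := by
  classical
  let _ := Fintype.ofFinite G
  by_contra! hall
  letI : CommGroup V := { (inferInstance : Group V) with mul_comm := hVab.is_comm.comm }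
  let f : ↥V → G → Additive ↥V := fun v a =>
    if h : a ∈ A then Additive.ofMul
      ⟨a * v * a⁻¹, (Subgroup.mem_normalizer_iff.mp (hAV h) v).mp v.2⟩ else 0
  have hfix : ∀ B ≤ A, ∀ v : ↥V, ∀ b ∈ B,
      b * (Additive.toMul (∑ a with a ∈ B, f v a) : ↥V).1 * b⁻¹ =
        (Additive.toMul (∑ a with a ∈ B, f v a) : ↥V).1 := by
    intro B hB v b hb
    let c : ↥V →* ↥V :=
      { toFun := fun x => ⟨b * x * b⁻¹, (Subgroup.mem_normalizer_iff.mp (hAV (hB hb)) x).mp x.2⟩
        map_one' := by ext; simp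
        map_mul' := fun x y => by ext; simp [mul_assoc] }
    have hc : MonoidHom.toAdditive c (∑ a with a ∈ B, f v a) = ∑ a with a ∈ B, f v a := by
      rw [map_sum]
      refine Finset.sum_equiv (Equiv.mulLeft b) ?_ ?_
      · intro i
        simp [B.mul_mem_cancel_left hb]
      · intro i hi
        have hiB : i ∈ B := (Finset.mem_filter.mp hi).2
        simp only [f, Equiv.coe_mulLeft, dif_pos (hB hiB), dif_pos (A.mul_mem (hB hb) (hB hiB))]
        show Additive.ofMul (c _) = _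
        congr 1
        ext
        simp [c, mul_assoc]
    exact congrArg (fun y => ((Additive.toMul y : ↥V) : G)) hc
  have hzero : ∀ B ∈ 𝒜, ∀ C, B ≤ C → C ≤ A → ∀ v : ↥V, ∑ a with a ∈ C, f v a = 0 := by
    intro B hB C hBC hCA v
    have hm : (Additive.toMul (∑ a with a ∈ C, f v a) : ↥V).1 ∈ V ⊓ Subgroup.centralizer (B : Set G) := by
      refine ⟨(Additive.toMul _ : ↥V).2, ?_⟩
      show _ ∈ Subgroup.centralizer (B : Set G)
      rw [Subgroup.mem_centralizer_iff]
      intro b hb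
      have := hfix C hCA v b (hBC hb)
      exact mul_inv_eq_iff_eq_mul.mp this
    rw [hall B hB, Subgroup.mem_bot] at hm
    have hz : (Additive.toMul (∑ a with a ∈ C, f v a) : ↥V) = 1 := Subtype.ext hm
    exact Additive.toMul.injective (by rw [hz]; rfl)
  apply hV
  rw [eq_bot_iff]
  intro v hv
  obtain ⟨B₀, hB₀⟩ := hne
  have hs := sum_part (f ⟨v, hv⟩) A 𝒜 (fun B hB => (hprop B hB).le) hpart
  rw [Finset.sum_eq_zero (fun B hB => hzero B hB B le_rfl (hprop B hB).le _),
    hzero B₀ hB₀ A (hprop B₀ hB₀).le le_rfl _, zero_add] at hs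
  have h1 : f ⟨v, hv⟩ 1 = Additive.ofMul ⟨v, hv⟩ := by
    simp [f, A.one_mem]
  have hpos : 1 ≤ 𝒜.card := Finset.card_pos.mpr ⟨B₀, hB₀⟩
  rw [h1, ← Nat.cast_one, ← Nat.cast_sub hpos, natCast_zsmul, ← ofMul_pow, eq_comm, ofMul_eq_zero] at hs
  have h2 : orderOf (⟨v, hv⟩ : ↥V) ∣ (𝒜.card - 1).gcd (Nat.card V) :=
    Nat.dvd_gcd (orderOf_dvd_of_pow_eq_one hs) (orderOf_dvd_natCard _)
  rw [hk, Nat.dvd_one, orderOf_eq_one_iff] at h2
  simpa using congrArg Subtype.val h2

end Cfsg.Agent.S3733
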