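import Cfsg.Statements.S3735

set_option autoImplicit false
open Cfsg

namespace Cfsg.Agent.S3735

/-- an atom among the `A`-invariant subgroups of `V` -/
def IsInvAtom {G : Type*} [Group G] (A V L : Subgroup G) : Prop :=
  L ≤ V ∧ L ≠ ⊥ ∧ A ≤ Subgroup.normalizer (L : Set G) ∧
    ∀ M : Subgroup G, M ≤ L → A ≤ Subgroup.normalizer (M : Set G) → M = ⊥ ∨ M = L

theorem exists_atom_le {G : Type*} [Group G] [Finite G] (A V U : Subgroup G) (hU : U ≠ ⊥)
    (hUV : U ≤ V) (hA : A ≤ Subgroup.normalizer (U : Set G)) : ∃ L, IsInvAtom A V L ∧ L ≤ U := by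
  obtain ⟨L, hLU, ⟨hL, hAL⟩, hmin⟩ := exists_minimal_le_of_wellFoundedLT
    (fun L : Subgroup G => L ≠ ⊥ ∧ A ≤ Subgroup.normalizer (L : Set G)) U ⟨hU, hA⟩
  refine ⟨L, ⟨hLU.trans hUV, hL, hAL, fun M hM hAM => ?_⟩, hLU⟩
  by_contra! h
  exact h.2 (le_antisymm hM (hmin ⟨h.1, hAM⟩ hM))

theorem inv_sup {G : Type*} [Group G] {A U W : Subgroup G}
    (hU : A ≤ Subgroup.normalizer (U : Set G)) (hW : A ≤ Subgroup.normalizer (W : Set G)) :
    A ≤ Subgroup.normalizer ((U ⊔ W : Subgroup G) : Set G) :=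
  (le_inf hU hW).trans (Subgroup.normalizer_inf_normalizer_le_normalizer_sup U W)

/-- Clifford's Theorem for actions on finite abelian groups, first part. Let H and V be subgroups of a finite group with V abelian and H normalizing V, and let A be a normal subgroup of H. If every H-invariant subgroup of V has an H-invariant complement in V, then every A-invariant subgroup of V has an A-invariant complement in V. -/
theorem result {G : Type*} [Group G] [Finite G] (H A V : Subgroup G) (hVab : IsMulCommutative V) (hHV : H ≤ Subgroup.normalizer (V : Set G)) (hAH : A ≤ H) (hAn : H ≤ Subgroup.normalizer (A : Set G)) (hss : ∀ U : Subgroup G, U ≤ V → H ≤ Subgroup.normalizer (U : Set G) → ∃ W : Subgroup G, W ≤ V ∧ H ≤ Subgroup.normalizer (W : Set G) ∧ U ⊓ W = ⊥ ∧ U ⊔ W = V) (U : Subgroup G) (hUV : U ≤ V) (hAU : A ≤ Subgroup.normalizer (U : Set G)) : ∃ W : Subgroup G, W ≤ V ∧ A ≤ Subgroup.normalizer (W : Set G) ∧ U ⊓ W = ⊥ ∧ U ⊔ W = V := by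
  obtain ⟨S, hS⟩ : ∃ S : Subgroup G, S = ⨆ L : {L : Subgroup G // IsInvAtom A V L}, (L : Subgroup G) :=
    ⟨_, rfl⟩
  have hSV : S ≤ V := hS ▸ iSup_le fun L => L.2.1
  have hHS : H ≤ Subgroup.normalizer (S : Set G) := by
    have hle : ∀ h ∈ H, S.map (MulAut.conj h : G ≃* G).toMonoidHom ≤ S := by
      intro h hh
      rw [hS, Subgroup.map_iSup, iSup_le_iff]
      rintro ⟨L, hLV, hL, hAL, hmin⟩
      refine le_iSup_of_le ⟨L.map (MulAut.conj h : G ≃* G).toMonoidHom, ?_, ?_, ?_, ?_⟩ le_rfl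
      · exact (Subgroup.map_mono hLV).trans
          (le_of_eq (Subgroup.mem_normalizer_iff_map_conj_eq.mp (hHV hh)))
      · rwa [Ne, Subgroup.map_eq_bot_iff_of_injective _ (MulAut.conj h).injective]
      · intro a ha
        have h1 : h⁻¹ * a * h ∈ Subgroup.normalizer (L : Set G) :=
          hAL ((Subgroup.mem_normalizer_iff''.mp (hAn hh) a).mp ha)
        rw [Subgroup.mem_normalizer_iff_map_conj_eq] at h1 ⊢
        conv_rhs => rw [← h1]
        rw [Subgroup.map_map, Subgroup.map_map]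
        congr 1
        ext x
        simp [mul_assoc]
      · intro M hM hAM
        have hmem : ∀ a ∈ A, h * a * h⁻¹ ∈ A := fun a ha =>
          (Subgroup.mem_normalizer_iff.mp (hAn hh) a).mp ha
        have hM' : M.map (MulAut.conj h⁻¹ : G ≃* G).toMonoidHom ≤ L := by
          refine (Subgroup.map_mono hM).trans ?_
          rintro _ ⟨_, ⟨x, hx, rfl⟩, rfl⟩
          simpa [mul_assoc] using hx
        have hAM' : A ≤ Subgroup.normalizer ((M.map (MulAut.conj h⁻¹ : G ≃* G).toMonoidHom : Subgroup G) : Set G) := by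
          intro a ha
          have h1 := Subgroup.mem_normalizer_iff_map_conj_eq.mp (hAM (hmem a ha))
          rw [Subgroup.mem_normalizer_iff_map_conj_eq]
          conv_rhs => rw [← h1]
          rw [Subgroup.map_map, Subgroup.map_map]
          congr 1
          ext x
          simp [mul_assoc]
        have hback : M = (M.map (MulAut.conj h⁻¹ : G ≃* G).toMonoidHom).map
            (MulAut.conj h : G ≃* G).toMonoidHom := by
          rw [Subgroup.map_map]
          conv_lhs => rw [← Subgroup.map_id M]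
          congr 1
          ext x
          simp [mul_assoc]
        rcases hmin _ hM' hAM' with e | e
        · left; rw [hback, e, Subgroup.map_bot]
        · right; rw [hback, e]
    intro h hh
    rw [Subgroup.mem_normalizer_iff_map_conj_eq]
    exact Subgroup.eq_of_le_of_card_ge (hle h hh)
      (by rw [Subgroup.card_map_of_injective (MulAut.conj h).injective])
  have hSeq : S = V := by
    obtain ⟨W, hWV, hHW, hinf, hsup⟩ := hss S hSV hHS
    by_cases hW : W = ⊥
    · rwa [hW, sup_bot_eq] at hsup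
    obtain ⟨L, hL, hLW⟩ := exists_atom_le A V W hW hWV (hAH.trans hHW)
    have : L ≤ S := hS ▸ le_iSup_of_le ⟨L, hL⟩ le_rfl
    exact absurd (le_bot_iff.mp (hinf ▸ le_inf this hLW)) hL.2.1
  obtain ⟨W, -, ⟨hWV, hAW, hUW⟩, hmax⟩ := exists_maximal_ge_of_wellFoundedGT
    (fun W : Subgroup G => W ≤ V ∧ A ≤ Subgroup.normalizer (W : Set G) ∧ U ⊓ W = ⊥) ⊥
    ⟨bot_le, by rw [Subgroup.normalizer_eq_top]; exact le_top, inf_bot_eq _⟩
  refine ⟨W, hWV, hAW, hUW, le_antisymm (sup_le hUV hWV) ?_⟩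
  rw [← hSeq, hS, iSup_le_iff]
  rintro ⟨L, hLV, hL, hAL, hmin⟩
  show L ≤ U ⊔ W
  have hinvI : A ≤ Subgroup.normalizer ((L ⊓ (U ⊔ W) : Subgroup G) : Set G) :=
    (le_inf hAL (inv_sup hAU hAW)).trans Subgroup.inf_normalizer_le_normalizer_inf
  rcases hmin _ inf_le_left hinvI with e | e
  swap
  · exact inf_eq_left.mp e
  exfalso
  have hWL : W ⊔ L ≤ W := by
    refine hmax ⟨sup_le hWV hLV, inv_sup hAW hAL, ?_⟩ le_sup_left
    rw [eq_bot_iff]
    rintro x ⟨hxU, hxWL⟩
    have hn : W ≤ Subgroup.normalizer (L : Set G) := by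
      rw [Subgroup.le_normalizer_iff]
      intro w hw l hl
      have hc : w * l = l * w := by
        have := hVab.is_comm.comm ⟨w, hWV hw⟩ ⟨l, hLV hl⟩
        exact congrArg Subtype.val this
      rw [hc]
      simpa [mul_assoc] using hl
    replace hxWL : x ∈ ((W ⊔ L : Subgroup G) : Set G) := hxWL
    rw [Subgroup.coe_mul_of_left_le_normalizer_right W L hn] at hxWL
    obtain ⟨w, hw, l, hl, rfl⟩ := hxWL
    have hl' : l ∈ L ⊓ (U ⊔ W) := by
      refine ⟨hl, ?_⟩
      have := mul_mem (inv_mem (Subgroup.mem_sup_right (S := U) hw)) (Subgroup.mem_sup_left (T := W) hxU)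
      simpa using this
    rw [e, Subgroup.mem_bot] at hl'
    subst hl'
    simp only [mul_one] at hxU ⊢
    exact hUW ▸ ⟨hxU, hw⟩
  have : L ≤ L ⊓ (U ⊔ W) := le_inf le_rfl (((le_sup_right : L ≤ W ⊔ L).trans hWL).trans le_sup_right)
  exact hL (le_bot_iff.mp (e ▸ this))

end Cfsg.Agent.S3735
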