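import Cfsg.Statements.S3737
import Cfsg.Agent.HallHigman.MinimalAction

set_option autoImplicit false
open Cfsg

namespace Cfsg.Agent.S3737

open scoped commutatorElement

/-- the Baer sum in a class two group -/
def bop {H : Type*} [Group H] (k : ℕ) (x y : H) : H := x * y * ⁅y, x⁆ ^ k

theorem bop_comm {H : Type*} [Group H] (k : ℕ) (hc : ∀ x y : H, ⁅x, y⁆ ∈ Subgroup.center H)
    (hk : ∀ x y : H, ⁅x, y⁆ ^ (2 * k) = ⁅x, y⁆) (x y : H) : bop k x y = bop k y x := by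
  unfold bop
  have hz := Subgroup.mem_center_iff.mp (hc x y)
  have h1 : x * y = y * x * ⁅x, y⁆ := by rw [hz, commutatorElement_def]; group
  have h2 : ⁅x, y⁆ * ⁅y, x⁆ ^ k = ⁅x, y⁆ ^ k := by
    rw [← commutatorElement_inv x y, inv_pow, mul_inv_eq_iff_eq_mul, ← pow_add, ← two_mul, hk]
  rw [h1, mul_assoc, h2]

theorem bop_assoc {H : Type*} [Group H] (k : ℕ) (hc : ∀ x y : H, ⁅x, y⁆ ∈ Subgroup.center H)
    (x y z : H) : bop k (bop k x y) z = bop k x (bop k y z) := by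
  have hpc : ∀ (a b : H) (n : ℕ) (g : H), g * ⁅a, b⁆ ^ n = ⁅a, b⁆ ^ n * g := fun a b n =>
    Subgroup.mem_center_iff.mp (Subgroup.pow_mem _ (hc a b) n)
  have hmul : ∀ a b c : H, ⁅a * b, c⁆ = ⁅a, c⁆ * ⁅b, c⁆ := by
    intro a b c
    rw [commutatorElement_mul_left_eq_conj_mul,
      Subgroup.mem_center_iff.mp (hc b c) a, mul_inv_cancel_right]
    exact (Subgroup.mem_center_iff.mp (hc b c) ⁅a, c⁆).symm
  have hmulr : ∀ a b c : H, ⁅a, b * c⁆ = ⁅a, b⁆ * ⁅a, c⁆ := by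
    intro a b c
    rw [commutatorElement_mul_right_eq_mul_conj]
    simp only [mul_assoc]
    rw [← Subgroup.mem_center_iff.mp (hc a c) b⁻¹, mul_inv_cancel_left]
  have hcen : ∀ a b c : H, ∀ n : ℕ, ⁅⁅a, b⁆ ^ n, c⁆ = 1 := fun a b c n =>
    commutatorElement_eq_one_iff_mul_comm.mpr (hpc a b n c).symm
  have hcen' : ∀ a b c : H, ∀ n : ℕ, ⁅c, ⁅a, b⁆ ^ n⁆ = 1 := fun a b c n =>
    commutatorElement_eq_one_iff_mul_comm.mpr (hpc a b n c)
  have hcom : ∀ a b c d : H, Commute ⁅a, b⁆ ⁅c, d⁆ := fun a b c d =>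
    Subgroup.mem_center_iff.mp (hc c d) ⁅a, b⁆
  unfold bop
  rw [hmulr z, hmulr z, hcen', mul_one, hmul (y * z), hmul y z x, hcen, mul_one,
    (hcom z x z y).mul_pow, (hcom y x z x).mul_pow]
  calc x * y * ⁅y, x⁆ ^ k * z * (⁅z, x⁆ ^ k * ⁅z, y⁆ ^ k)
      = x * y * z * (⁅y, x⁆ ^ k * (⁅z, x⁆ ^ k * ⁅z, y⁆ ^ k)) := by
        rw [mul_assoc (x * y) _ z, ← hpc]; group
    _ = x * y * z * (⁅z, y⁆ ^ k * (⁅y, x⁆ ^ k * ⁅z, x⁆ ^ k)) := by
        rw [← mul_assoc (⁅y, x⁆ ^ k), hpc z y k]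
    _ = x * (y * z * ⁅z, y⁆ ^ k) * (⁅y, x⁆ ^ k * ⁅z, x⁆ ^ k) := by group

theorem bop_central {H : Type*} [Group H] (k : ℕ) {x z : H} (hz : z ∈ Subgroup.center H) :
    bop k x z = x * z := by
  rw [bop, commutatorElement_eq_one_iff_mul_comm.mpr (Subgroup.mem_center_iff.mp hz x).symm,
    one_pow, mul_one]

theorem map_bop {H : Type*} [Group H] (k : ℕ) (f : H →* H) (x y : H) :
    f (bop k x y) = bop k (f x) (f y) := by
  simp [bop, map_commutatorElement]

/-- Thompson's strengthening of the P × Q lemma for odd primes. Let p be an odd prime and let P, Q and G be subgroups of a finite group with P a p-group, Q of order prime to p and normalized by P, and G a p-group normalized by both P and Q. If every element of G centralized by P is centralized by Q, then Q centralizes G. -/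
theorem result {X : Type*} [Group X] [Finite X] {p : ℕ} [Fact p.Prime] (hp : p ≠ 2) (P Q G : Subgroup X) (hP : IsPGroup p P) (hQ : (Nat.card Q).Coprime p) (hPQ : P ≤ Subgroup.normalizer (Q : Set X)) (hG : IsPGroup p G) (hPG : P ≤ Subgroup.normalizer (G : Set X)) (hQG : Q ≤ Subgroup.normalizer (G : Set X)) (hC : G ⊓ Subgroup.centralizer (P : Set X) ≤ Subgroup.centralizer (Q : Set X)) : Q ≤ Subgroup.centralizer (G : Set X) := by
  rw [Subgroup.le_centralizer_iff, ← Subgroup.commutator_eq_bot_iff_le_centralizer]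
  by_contra hnt
  obtain ⟨Q0, hQ0G, hBQ0, hnt0, hmin⟩ := CfsgLib.HallHigman.exists_minimal_action
    (B := P ⊔ Q) (sup_le hPG hQG) hnt
  have hQ0p : IsPGroup p Q0 := hG.to_le hQ0G
  have hQn : P ⊔ Q ≤ Subgroup.normalizer (Q : Set X) := sup_le hPQ Subgroup.le_normalizer
  obtain ⟨-, hC0, -, hzen, -, hexp⟩ := CfsgLib.HallHigman.minimal_action hQ0p hBQ0 le_sup_right
    hQn hQ hnt0 hmin
  replace hexp := hexp hp
  set Φ := frattini ↥Q0 with hΦ
  classical
  haveI := Fintype.ofFinite ↥Q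
  have hcm : ∀ x y : ↥Q0, ⁅x, y⁆ ∈ Subgroup.center ↥Q0 := fun x y =>
    hzen (CfsgLib.Solvable.commutator_le_frattini hQ0p
      (Subgroup.commutator_mem_commutator (Subgroup.mem_top x) (Subgroup.mem_top y)))
  have hpow : ∀ x : ↥Q0, x ^ p = 1 := fun x => Subtype.ext (hexp x x.2)
  obtain ⟨k, hk⟩ : ∃ k, 2 * k = p + 1 := ⟨(p + 1) / 2, by
    obtain ⟨j, hj⟩ := (Fact.out : p.Prime).odd_of_ne_two hp
    omega⟩
  have hk2 : ∀ x y : ↥Q0, ⁅x, y⁆ ^ (2 * k) = ⁅x, y⁆ := fun x y => by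
    rw [hk, pow_succ, hpow, one_mul]
  have : Std.Commutative (bop (H := ↥Q0) k) := ⟨bop_comm k hcm hk2⟩
  have : Std.Associative (bop (H := ↥Q0) k) := ⟨bop_assoc k hcm⟩
  have hN : P ⊔ Q ≤ Subgroup.normalizer (Q0 : Set X) := hBQ0
  let c : ↥(P ⊔ Q) → ↥Q0 →* ↥Q0 := fun a =>
    { toFun := fun x => ⟨(a : X) * x * (a : X)⁻¹, (Subgroup.mem_normalizer_iff.mp (hN a.2) x).mp x.2⟩
      map_one' := by ext; simp
      map_mul' := fun x y => by ext; simp [mul_assoc] }
  let ι : ↥Q → ↥(P ⊔ Q) := fun q => ⟨q, Subgroup.mem_sup_right q.2⟩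
  let S : ↥Q0 → ↥Q0 := fun x => Finset.univ.fold (bop k) 1 (fun q : ↥Q => c (ι q) x)
  have hSe : ∀ (a : ↥(P ⊔ Q)) (x y : ↥Q0) (e : ↥Q ≃ ↥Q),
      (∀ q, c a (c (ι q) x) = c (ι (e q)) y) → c a (S x) = S y := by
    intro a x y e he
    have h := Finset.fold_hom (op := bop k) (s := (Finset.univ : Finset ↥Q)) (b := (1 : ↥Q0))
      (f := fun q => c (ι q) x) (m := c a) (op' := bop k) (map_bop k (c a))
    rw [map_one] at h
    show c a (Finset.fold (bop k) 1 _ Finset.univ) = _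
    rw [← h]
    conv_rhs => simp only [S]; rw [← Finset.univ_map_equiv_to_embedding e, Finset.fold_map]
    simp [Function.comp_def, he]
  have hSC : ∀ x, S x ∈ Φ := by
    intro x
    have hmem : (S x : X) ∈ Φ.map Q0.subtype := by
      rw [← hC0]
      refine ⟨(S x).2, ?_⟩
      show _ ∈ Subgroup.centralizer (Q : Set X)
      rw [Subgroup.mem_centralizer_iff]
      intro b hb
      have h := congrArg Subtype.val (hSe (ι ⟨b, hb⟩) x x (Equiv.mulLeft ⟨b, hb⟩) (fun q => by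
        ext; simp [c, ι, mul_assoc]))
      exact mul_inv_eq_iff_eq_mul.mp h
    obtain ⟨w, hw, hwe⟩ := hmem
    exact Subtype.ext hwe ▸ hw
  have hQfix : ∀ z ∈ Φ, ∀ q : ↥Q, c (ι q) z = z := by
    intro z hz q
    have h : (z : X) ∈ Q0 ⊓ Subgroup.centralizer (Q : Set X) := hC0.symm ▸ ⟨z, hz, rfl⟩
    ext
    show (q : X) * z * (q : X)⁻¹ = z
    rw [Subgroup.mem_centralizer_iff.mp h.2 q q.2, mul_inv_cancel_right]
  have hSmul : ∀ x, ∀ z ∈ Φ, S (x * z) = S x * z ^ Nat.card ↥Q := by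
    intro x z hz
    have hconst : ∀ s : Finset ↥Q, s.fold (bop k) 1 (fun _ => z) = z ^ s.card := by
      intro s
      induction s using Finset.induction_on with
      | empty => simp
      | @insert a s ha ih =>
        rw [Finset.fold_insert ha, ih, Finset.card_insert_of_notMem ha,
          bop_central k (Subgroup.pow_mem _ (hzen hz) _), pow_succ']
    have hfun : (fun q : ↥Q => c (ι q) (x * z)) = fun q => bop k (c (ι q) x) z := by
      funext q
      rw [bop_central k (hzen hz), map_mul, hQfix z hz q]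
    show Finset.fold (bop k) 1 _ _ = _
    rw [hfun]
    conv_lhs => rw [show (1 : ↥Q0) = bop k 1 1 by simp [bop]]
    rw [Finset.fold_op_distrib, hconst, bop_central k (Subgroup.pow_mem _ (hzen hz) _),
      Finset.card_univ, Nat.card_eq_fintype_card]
  have hΦc : ∀ a : ↥(P ⊔ Q), Φ ≤ Φ.comap (c a) := by
    intro a z hz
    have h := Subgroup.mem_normalizer_iff.mp
      (CfsgLib.HallHigman.le_normalizer_map_char hBQ0 Φ a.2) z |>.mp ⟨z, hz, rfl⟩
    obtain ⟨w, hw, hwe⟩ := h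
    show c a z ∈ Φ
    exact (show w = c a z from Subtype.ext hwe) ▸ hw
  have : Φ.Normal := inferInstance
  letI act : MulAction ↥P (↥Q0 ⧸ Φ) :=
    { smul := fun g => QuotientGroup.map Φ Φ (c ⟨g, Subgroup.mem_sup_left g.2⟩) (hΦc _)
      one_smul := fun v => QuotientGroup.induction_on v fun x => by
        show QuotientGroup.mk _ = QuotientGroup.mk x
        congr 1; ext; simp [c]
      mul_smul := fun g h v => QuotientGroup.induction_on v fun x => by
        show QuotientGroup.mk _ = QuotientGroup.mk _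
        congr 1; ext; simp [c, mul_assoc] }
  have hdvd : p ∣ Nat.card (↥Q0 ⧸ Φ) := by
    obtain ⟨n, hn⟩ := IsPGroup.iff_card.mp (hQ0p.to_quotient Φ)
    rw [hn]
    refine dvd_pow_self p ?_
    intro h0
    have hbot : ((frattini ↥Q0).map Q0.subtype) = Q0 := by
      have h1 : Φ.index = 1 := by rw [Subgroup.index, hn, h0, pow_zero]
      rw [← hΦ, Subgroup.index_eq_one.mp h1, ← MonoidHom.range_eq_map, Q0.range_subtype]
    refine absurd hbot (CfsgLib.HallHigman.map_frattini_lt ?_).ne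
    intro h; exact hnt0 (by rw [h, Subgroup.commutator_bot_left])
  obtain ⟨v, hv, hv1⟩ := hP.exists_fixed_point_of_prime_dvd_card_of_fixed_point
    (α := ↥Q0 ⧸ Φ) hdvd (a := 1) (fun g => map_one _)
  obtain ⟨x, rfl⟩ := QuotientGroup.mk_surjective v
  have hn0 : (Nat.card ↥Q).Coprime p := hQ
  obtain ⟨m, hm⟩ := Nat.exists_mul_mod_eq_one_of_coprime hn0 (Fact.out : p.Prime).one_lt
  set z := (S x)⁻¹ ^ m with hz
  have hzΦ : z ∈ Φ := Φ.pow_mem (Φ.inv_mem (hSC x)) _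
  have hS0 : S (x * z) = 1 := by
    rw [hSmul x z hzΦ, hz, ← pow_mul, mul_comm m]
    have : (S x)⁻¹ ^ (Nat.card ↥Q * m) = (S x)⁻¹ := by
      rw [← Nat.mod_add_div (Nat.card ↥Q * m) p, hm.2, pow_add, pow_one, pow_mul, hpow, one_pow,
        mul_one]
    rw [this, mul_inv_cancel]
  have hxP : ((x * z : ↥Q0) : X) ∈ Subgroup.centralizer (P : Set X) := by
    rw [Subgroup.mem_centralizer_iff]
    intro g hg
    set a : ↥(P ⊔ Q) := ⟨g, Subgroup.mem_sup_left hg⟩ with ha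
    have hfix : c a x⁻¹ * x ∈ Φ := by
      have h := hv ⟨g, hg⟩
      have h' : (QuotientGroup.mk (c a x) : ↥Q0 ⧸ Φ) = QuotientGroup.mk x := h
      rw [map_inv]
      exact QuotientGroup.eq.mp h'
    set w := (x * z)⁻¹ * c a (x * z) with hw
    have hwΦ : w ∈ Φ := by
      have h1 : (x⁻¹ * c a x) ∈ Φ := by
        have := Φ.inv_mem hfix
        rwa [map_inv, mul_inv_rev, inv_inv] at this
      rw [hw, mul_inv_rev, map_mul, mul_assoc, ← mul_assoc x⁻¹]
      exact Φ.mul_mem (Φ.inv_mem hzΦ) (Φ.mul_mem h1 (hΦc a hzΦ))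
    have hQconj : ∀ q : ↥Q, g * (q : X) * g⁻¹ ∈ Q := fun q =>
      (Subgroup.mem_normalizer_iff.mp (hPQ hg) q).mp q.2
    let e : ↥Q ≃ ↥Q := Equiv.ofBijective (fun q => ⟨g * q * g⁻¹, hQconj q⟩)
      (Finite.injective_iff_bijective.mp fun q r h => by
        have := congrArg Subtype.val h
        simpa using this)
    have h1 := hSe a (x * z) (x * z * w) e (fun q => by
      rw [show x * z * w = c a (x * z) by rw [hw, mul_inv_cancel_left]]
      apply Subtype.ext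
      simp [c, ι, e, a, mul_assoc])
    rw [hSmul _ w hwΦ, hS0, map_one, one_mul] at h1
    have hw1 : w = 1 := by
      rw [← orderOf_eq_one_iff, ← Nat.dvd_one, ← hn0]
      exact Nat.dvd_gcd (orderOf_dvd_of_pow_eq_one h1.symm) (orderOf_dvd_of_pow_eq_one (hpow w))
    rw [hw, inv_mul_eq_one] at hw1
    have h3 : g * ((x * z : ↥Q0) : X) * g⁻¹ = ((x * z : ↥Q0) : X) :=
      (congrArg Subtype.val hw1).symm
    exact mul_inv_eq_iff_eq_mul.mp h3
  have hxΦ : x * z ∈ Φ := by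
    have : ((x * z : ↥Q0) : X) ∈ Φ.map Q0.subtype :=
      hC0 ▸ ⟨(x * z).2, hC ⟨hQ0G (x * z).2, hxP⟩⟩
    obtain ⟨w, hw, hwe⟩ := this
    exact (show w = x * z from Subtype.ext hwe) ▸ hw
  exact hv1 (QuotientGroup.eq_one_iff x |>.mpr ((Φ.mul_mem_cancel_right hzΦ).mp hxΦ)).symm

end Cfsg.Agent.S3737
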