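import Cfsg.Statements.S3738
import Cfsg.Agent.HallHigman.MinimalAction
import Cfsg.Agent.HallHigman.SquareMap

set_option autoImplicit false
open Cfsg
open scoped commutatorElement

namespace Cfsg.Agent.S3738

/-- Let d be a non-identity 3-element of a finite group and P a 2-subgroup normalized by d on which ⟨d⟩ acts faithfully (no non-identity power of d centralizes P) and without non-identity fixed points (C_P(d) = 1). If every abelian subgroup of P has 2-rank at most 2, then d has order 3. -/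
theorem result {X : Type*} [Group X] [Finite X] (d : X) (n : ℕ) (hn : 1 ≤ n) (hd : orderOf d = 3 ^ n) (P : Subgroup X) (hP : IsPGroup 2 P) (hdP : d ∈ Subgroup.normalizer (P : Set X)) (hfaith : Subgroup.zpowers d ⊓ Subgroup.centralizer (P : Set X) = ⊥) (hfpf : P ⊓ Subgroup.centralizer {d} = ⊥) (hrank : ∀ V : Subgroup X, V ≤ P → IsMulCommutative V → Cfsg.PRankLE 2 2 V) : orderOf d = 3 := by
  by_contra hne
  have hn2 : 2 ≤ n := by
    rcases Nat.lt_or_ge n 2 with h | h
    · exfalso; apply hne; rw [hd, show n = 1 by omega, pow_one]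
    · exact h
  set A := Subgroup.zpowers (d ^ 3) with hA
  set B := Subgroup.zpowers d with hB
  have hAB : A ≤ B := Subgroup.zpowers_le.mpr (Subgroup.pow_mem _ (Subgroup.mem_zpowers d) 3)
  have hBP : B ≤ Subgroup.normalizer (P : Set X) := Subgroup.zpowers_le.mpr hdP
  have hAn : B ≤ Subgroup.normalizer (A : Set X) := by
    rw [Subgroup.le_normalizer_iff]
    intro b hb a ha
    have hc : a * b = b * a := by
      obtain ⟨i, rfl⟩ := Subgroup.mem_zpowers_iff.mp hb
      obtain ⟨j, rfl⟩ := Subgroup.mem_zpowers_iff.mp (hAB ha)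
      exact (Commute.zpow_zpow (Commute.refl d) j i).eq
    rw [← hc, mul_inv_cancel_right]; exact ha
  have hAcard : (Nat.card A).Coprime 2 := by
    have h : Nat.card A ∣ 3 ^ n := by
      rw [← hd, ← Nat.card_zpowers]; exact Subgroup.card_dvd_of_le hAB
    exact Nat.Coprime.coprime_dvd_left h ((show Nat.Coprime 3 2 by decide).pow_left n)
  have hnt : ⁅P, A⁆ ≠ ⊥ := by
    intro h
    have hmem : d ^ 3 ∈ B ⊓ Subgroup.centralizer (P : Set X) := by
      refine ⟨hAB (Subgroup.mem_zpowers _), ?_⟩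
      rw [Subgroup.commutator_comm, Subgroup.commutator_eq_bot_iff_le_centralizer] at h
      exact h (Subgroup.mem_zpowers _)
    rw [hfaith, Subgroup.mem_bot] at hmem
    have := Nat.le_of_dvd (by norm_num) (orderOf_dvd_of_pow_eq_one hmem)
    have h9 : 3 ^ 2 ≤ 3 ^ n := Nat.pow_le_pow_right (by norm_num) hn2
    rw [hd] at this
    omega
  obtain ⟨Q0, hQ0P, hBQ0, hnt0, hmin⟩ := CfsgLib.HallHigman.exists_minimal_action hBP hnt
  have hQ0 : IsPGroup 2 Q0 := hP.to_le hQ0P
  obtain ⟨-, hC0, hcase, hzen, -, -⟩ :=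
    CfsgLib.HallHigman.minimal_action hQ0 hBQ0 hAB hAn hAcard hnt0 hmin
  have hcop := CfsgLib.HallHigman.coprime_card_of_coprime_prime hQ0 hAcard
  set Φ := frattini ↥Q0 with hΦ
  have hrank' : ∀ E : Subgroup ↥Q0, IsMulCommutative E → (∀ a ∈ E, a ^ 2 = 1) →
      Nat.card E ≤ 4 := by
    intro E hE hE2
    have hQc : IsMulCommutative ↥(E.map Q0.subtype) := by
      refine ⟨⟨?_⟩⟩
      rintro ⟨_, a, ha, rfl⟩ ⟨_, b, hb, rfl⟩
      exact Subtype.ext (congrArg (fun z : ↥E => ((z : ↥Q0) : X)) (hE.is_comm.comm ⟨a, ha⟩ ⟨b, hb⟩))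
    have h := hrank (E.map Q0.subtype) ((Subgroup.map_subtype_le _).trans hQ0P) hQc ⊤ ⟨⟨fun a b =>
      Subtype.ext (hQc.is_comm.comm a.1 b.1)⟩⟩ (fun a _ => by
        obtain ⟨_, c, hc, rfl⟩ := a
        exact Subtype.ext (congrArg (fun z : ↥Q0 => (z : X)) (hE2 c hc)))
    rw [Subgroup.card_top, Subgroup.card_map_of_injective Q0.subtype_injective] at h
    norm_num at h
    exact h
  -- the action of `B` on `Q0 / Φ`
  let c : ↥B → ↥Q0 →* ↥Q0 := fun a =>
    { toFun := fun x => ⟨(a : X) * x * (a : X)⁻¹, (Subgroup.mem_normalizer_iff.mp (hBQ0 a.2) x).mp x.2⟩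
      map_one' := by ext; simp
      map_mul' := fun x y => by ext; simp [mul_assoc] }
  have hΦc : ∀ a : ↥B, Φ ≤ Φ.comap (c a) := by
    intro a z hz
    obtain ⟨w, hw, hwe⟩ := Subgroup.mem_normalizer_iff.mp
      (CfsgLib.HallHigman.le_normalizer_map_char hBQ0 Φ a.2) z |>.mp ⟨z, hz, rfl⟩
    show c a z ∈ Φ
    exact (show w = c a z from Subtype.ext hwe) ▸ hw
  letI act : MulAction ↥B (↥Q0 ⧸ Φ) :=
    { smul := fun g => QuotientGroup.map Φ Φ (c g) (hΦc _)
      one_smul := fun v => QuotientGroup.induction_on v fun x => by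
        show QuotientGroup.mk _ = QuotientGroup.mk x
        congr 1; ext; simp [c]
      mul_smul := fun g h v => QuotientGroup.induction_on v fun x => by
        show QuotientGroup.mk _ = QuotientGroup.mk _
        congr 1; ext; simp [c, mul_assoc] }
  have hfree : ∀ v : ↥Q0 ⧸ Φ, (⟨d ^ 3, hAB (Subgroup.mem_zpowers _)⟩ : ↥B) • v = v → v = 1 := by
    intro v
    induction v using QuotientGroup.induction_on with | H x => ?_
    intro h
    have h' : (x : ↥Q0)⁻¹ * c ⟨d ^ 3, hAB (Subgroup.mem_zpowers _)⟩ x ∈ Φ := by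
      have h2 : (QuotientGroup.mk (c ⟨d ^ 3, _⟩ x) : ↥Q0 ⧸ Φ) = QuotientGroup.mk x := h
      exact QuotientGroup.eq.mp h2.symm
    have hAN : A ≤ Subgroup.normalizer ((Φ.map Q0.subtype : Subgroup X) : Set X) :=
      hAB.trans (CfsgLib.HallHigman.le_normalizer_map_char hBQ0 Φ)
    have hall : ∀ a ∈ A, ((x : X))⁻¹ * (a * (x : X) * a⁻¹) ∈ Φ.map Q0.subtype := by
      let T : Subgroup X :=
        { carrier := {a | a ∈ B ∧ ((x : X))⁻¹ * (a * (x : X) * a⁻¹) ∈ Φ.map Q0.subtype}
          one_mem' := ⟨one_mem _, by simp⟩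
          mul_mem' := by
            rintro a b ⟨ha, ha'⟩ ⟨hb, hb'⟩
            refine ⟨mul_mem ha hb, ?_⟩
            have hb2 := (Subgroup.mem_normalizer_iff.mp
              (CfsgLib.HallHigman.le_normalizer_map_char hBQ0 Φ ha) _).mp hb'
            have := mul_mem ha' hb2
            convert this using 1
            group
          inv_mem' := by
            rintro a ⟨ha, ha'⟩
            refine ⟨inv_mem ha, ?_⟩
            have := (Subgroup.mem_normalizer_iff.mp
              (CfsgLib.HallHigman.le_normalizer_map_char hBQ0 Φ (inv_mem ha)) _).mp (inv_mem ha')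
            convert this using 1
            group }
      exact fun a ha => (Subgroup.zpowers_le.mpr (show d ^ 3 ∈ T from
        ⟨hAB (Subgroup.mem_zpowers _), ⟨_, h', rfl⟩⟩) ha).2
    obtain ⟨y, hy, hyx⟩ := CfsgLib.Coprime.exists_fixed_mem_coset hAN
      (hcop.coprime_dvd_right (Subgroup.card_dvd_of_le (Subgroup.map_subtype_le _)))
      (Or.inl (Group.isSolvable_of_comm fun a b => Subtype.ext (by
        obtain ⟨i, hi⟩ := Subgroup.mem_zpowers_iff.mp a.2
        obtain ⟨j, hj⟩ := Subgroup.mem_zpowers_iff.mp b.2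
        show (a : X) * b = b * a
        rw [← hi, ← hj]
        exact (Commute.zpow_zpow (Commute.refl _) i j).eq))) hall
    have hyQ : y ∈ Q0 := by
      simpa using Q0.mul_mem x.2 (Subgroup.map_subtype_le _ hyx)
    have hyΦ : y ∈ Φ.map Q0.subtype := hC0 ▸ ⟨hyQ, hy⟩
    have hxΦ : (x : X) ∈ Φ.map Q0.subtype := by
      have := mul_mem hyΦ (inv_mem hyx)
      simpa using this
    obtain ⟨w, hw, hwe⟩ := hxΦ
    exact (QuotientGroup.eq_one_iff x).mpr ((show w = x from Subtype.ext hwe) ▸ hw)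
  have hnine : Nat.card (↥Q0 ⧸ Φ) % 9 = 1 := by
    classical
    haveI := Fintype.ofFinite (↥Q0 ⧸ Φ)
    haveI := Fintype.ofFinite (MulAction.orbitRel.Quotient ↥B (↥Q0 ⧸ Φ))
    rw [Nat.card_congr (MulAction.selfEquivSigmaOrbits ↥B (↥Q0 ⧸ Φ)), Nat.card_sigma,
      ← Finset.add_sum_erase _ _ (Finset.mem_univ (Quotient.mk'' (1 : ↥Q0 ⧸ Φ)))]
    have hfix1 : ∀ g : ↥B, g • (1 : ↥Q0 ⧸ Φ) = 1 := fun g => map_one _
    have h1 : Nat.card (MulAction.orbit ↥B
        (Quotient.out (Quotient.mk'' (1 : ↥Q0 ⧸ Φ) : MulAction.orbitRel.Quotient ↥B (↥Q0 ⧸ Φ)))) = 1 := by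
      obtain ⟨g, hg⟩ := Quotient.mk_out (s := MulAction.orbitRel ↥B (↥Q0 ⧸ Φ)) (1 : ↥Q0 ⧸ Φ)
      have hout : (Quotient.out (Quotient.mk'' (1 : ↥Q0 ⧸ Φ) :
          MulAction.orbitRel.Quotient ↥B (↥Q0 ⧸ Φ))) = 1 := hg.symm.trans (hfix1 g)
      rw [hout]
      have horb : MulAction.orbit ↥B (1 : ↥Q0 ⧸ Φ) = {1} := by
        ext u
        constructor
        · rintro ⟨g, rfl⟩; exact hfix1 g
        · rintro rfl; exact MulAction.mem_orbit_self _
      rw [horb]; simp
    have h2 : 9 ∣ ∑ w ∈ (Finset.univ.erase (Quotient.mk'' (1 : ↥Q0 ⧸ Φ))),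
        Nat.card (MulAction.orbit ↥B
          (Quotient.out (w : MulAction.orbitRel.Quotient ↥B (↥Q0 ⧸ Φ)))) := by
      refine Finset.dvd_sum fun w hw => ?_
      set v := Quotient.out w with hv
      have hv1 : v ≠ 1 := by
        intro h
        apply (Finset.mem_erase.mp hw).1
        rw [← Quotient.out_eq' w, ← hv, h]
      rw [Nat.card_congr (MulAction.orbitEquivQuotientStabilizer ↥B v)]
      have hdvd : (MulAction.stabilizer ↥B v).index ∣ 3 ^ n := by
        rw [← hd, ← Nat.card_zpowers]; exact Subgroup.index_dvd_card _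
      obtain ⟨j, -, hj⟩ := (Nat.dvd_prime_pow Nat.prime_three).mp hdvd
      show 9 ∣ (MulAction.stabilizer ↥B v).index
      rw [hj]
      refine (show 9 = 3 ^ 2 by norm_num) ▸ pow_dvd_pow 3 ?_
      by_contra hj2
      apply hv1
      apply hfree
      haveI : (MulAction.stabilizer ↥B v).Normal := ⟨fun a ha g => by
        have hc : g * a = a * g := Subtype.ext (by
          obtain ⟨i, hi⟩ := Subgroup.mem_zpowers_iff.mp g.2
          obtain ⟨k, hk⟩ := Subgroup.mem_zpowers_iff.mp a.2
          show (g : X) * a = a * g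
          rw [← hi, ← hk]
          exact (Commute.zpow_zpow (Commute.refl _) i k).eq)
        rw [hc, mul_inv_cancel_right]; exact ha⟩
      have h3 : (⟨d, Subgroup.mem_zpowers d⟩ : ↥B) ^ (MulAction.stabilizer ↥B v).index ∈
          MulAction.stabilizer ↥B v := Subgroup.pow_index_mem _ _
      rw [hj] at h3
      have h4 := Subgroup.pow_mem _ h3 (3 ^ (1 - j))
      rw [← pow_mul, ← pow_add, show j + (1 - j) = 1 by omega, pow_one] at h4
      exact h4
    rw [h1]
    omega
  obtain ⟨m, hm⟩ := IsPGroup.iff_card.mp (hQ0.to_quotient Φ)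
  have hm6 : 64 ≤ Nat.card (↥Q0 ⧸ Φ) := by
    have hne1 : Nat.card (↥Q0 ⧸ Φ) ≠ 1 := by
      intro h
      refine (CfsgLib.HallHigman.map_frattini_lt (P := Q0) ?_).ne ?_
      · intro h'; exact hnt0 (by rw [h', Subgroup.commutator_bot_left])
      · rw [← hΦ, Subgroup.index_eq_one.mp (show Φ.index = 1 from h), ← MonoidHom.range_eq_map,
          Q0.range_subtype]
    rw [hm] at hnine hne1 ⊢
    rcases Nat.lt_or_ge m 6 with h | h
    · interval_cases m <;> simp_all
    · calc 64 = 2 ^ 6 := by norm_num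
        _ ≤ 2 ^ m := Nat.pow_le_pow_right (by norm_num) h
  rcases hcase with hel | hsp
  · have hall : ∀ a : ↥Q0, a ^ 2 = 1 := fun a => Subtype.ext (hel.2 a a.2)
    have h4 := hrank' ⊤ ⟨⟨fun a b => Subtype.ext (hel.1.is_comm.comm a.1 b.1)⟩⟩ (fun a _ => hall a)
    rw [Subgroup.card_top] at h4
    have := Nat.le_of_dvd Nat.card_pos (Subgroup.card_quotient_dvd_card Φ)
    omega
  · obtain ⟨-, hfc, hcc⟩ := hsp
    have hΦ2 : ∀ z ∈ Φ, z ^ 2 = 1 := by
      let T : Subgroup ↥Q0 :=
        { carrier := {z | z ∈ Subgroup.center ↥Q0 ∧ z ^ 2 = 1}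
          one_mem' := ⟨one_mem _, one_pow 2⟩
          mul_mem' := by
            rintro a b ⟨ha, ha'⟩ ⟨hb, hb'⟩
            refine ⟨mul_mem ha hb, ?_⟩
            rw [Commute.mul_pow (Subgroup.mem_center_iff.mp hb a : Commute a b), ha', hb', one_mul]
          inv_mem' := by
            rintro a ⟨ha, ha'⟩
            exact ⟨inv_mem ha, by rw [inv_pow, ha', inv_one]⟩ }
      have hT : commutator ↥Q0 ≤ T := by
        rw [commutator_def, Subgroup.commutator_le]
        intro a _ b _
        have hz : ⁅a, b⁆ ∈ Subgroup.center ↥Q0 :=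
          hcc ▸ Subgroup.commutator_mem_commutator (Subgroup.mem_top a) (Subgroup.mem_top b)
        refine ⟨hz, ?_⟩
        rw [← CfsgLib.HallHigman.commutatorElement_pow_class_two hz,
          commutatorElement_eq_one_iff_mul_comm]
        exact (Subgroup.mem_center_iff.mp (hzen (CfsgLib.Solvable.pow_mem_frattini hQ0 a)) b).symm
      exact fun z hz => (hT (show z ∈ commutator ↥Q0 by rw [hcc, ← hfc]; exact hz)).2
    have hΦ4 : Nat.card Φ ≤ 4 := hrank' Φ ⟨⟨fun a b => Subtype.ext
      (Subgroup.mem_center_iff.mp (hzen b.2) a.1)⟩⟩ hΦ2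
    obtain ⟨x, hx, hx2⟩ := CfsgLib.SquareMap.exists_sq_eq_one Φ Φ hzen hΦ2 le_rfl
      (CfsgLib.Solvable.pow_mem_frattini hQ0) (by
        calc Nat.card Φ ^ 2 ≤ 4 ^ 2 := Nat.pow_le_pow_left hΦ4 2
          _ < 64 := by norm_num
          _ ≤ Φ.index := hm6)
    let E : Subgroup ↥Q0 :=
      { carrier := {e | e ∈ Φ ∨ x * e ∈ Φ}
        one_mem' := Or.inl (one_mem _)
        mul_mem' := by
          have hxx : x * x = 1 := by rw [← sq]; exact hx2
          rintro a b (ha | ha) (hb | hb)
          · exact Or.inl (mul_mem ha hb)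
          · refine Or.inr ?_
            rw [← mul_assoc, Subgroup.mem_center_iff.mp (hzen ha) x, mul_assoc]
            exact mul_mem ha hb
          · exact Or.inr (by rw [← mul_assoc]; exact mul_mem ha hb)
          · refine Or.inl ?_
            have h1 : a * b = (x * a) * (x * b) := by
              rw [← mul_assoc, ← Subgroup.mem_center_iff.mp (hzen ha) x]
              simp [← mul_assoc, hxx]
            rw [h1]; exact mul_mem ha hb
        inv_mem' := by
          rintro a (ha | ha)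
          · exact Or.inl (inv_mem ha)
          · refine Or.inr ?_
            have hxi : x⁻¹ = x := inv_eq_of_mul_eq_one_left (by rw [← sq]; exact hx2)
            have h1 : x * a⁻¹ = (x * a)⁻¹ := by
              rw [mul_inv_rev, hxi]
              have := Subgroup.mem_center_iff.mp (hzen (inv_mem ha)) x
              rw [mul_inv_rev, hxi] at this
              calc x * a⁻¹ = x * (a⁻¹ * x) * x := by
                    rw [mul_assoc, mul_assoc, ← sq, hx2, mul_one]
                _ = a⁻¹ * x := by rw [this, mul_assoc, ← sq, hx2, mul_one]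
            rw [h1]; exact inv_mem ha }
    have hform : ∀ e ∈ E, ∃ z ∈ Φ, e = z ∨ e = x * z := by
      rintro e (he | he)
      · exact ⟨e, he, Or.inl rfl⟩
      · exact ⟨x * e, he, Or.inr (by rw [← mul_assoc, ← sq, hx2, one_mul])⟩
    have hcomm : ∀ a ∈ E, ∀ b ∈ E, a * b = b * a := by
      intro a ha b hb
      obtain ⟨z, hz, hza⟩ := hform a ha
      obtain ⟨w, hw, hwb⟩ := hform b hb
      have cz : ∀ g, Commute g z := fun g => Subgroup.mem_center_iff.mp (hzen hz) g
      have cw : ∀ g, Commute g w := fun g => Subgroup.mem_center_iff.mp (hzen hw) g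
      rcases hza with rfl | rfl <;> rcases hwb with rfl | rfl
      · exact cw _
      · exact (cz _).symm
      · exact cw _
      · exact (((Commute.refl x).mul_right (cw x)).mul_left ((cz x).symm.mul_right (cw z)))
    have hE := hrank' E ⟨⟨fun a b => Subtype.ext (hcomm _ a.2 _ b.2)⟩⟩ (by
      intro a ha
      obtain ⟨z, hz, rfl | rfl⟩ := hform a ha
      · exact hΦ2 _ hz
      · rw [Commute.mul_pow (Subgroup.mem_center_iff.mp (hzen hz) x : Commute x z), hx2, hΦ2 _ hz,
          one_mul])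
    have hlt : Φ < E := lt_of_le_of_ne (fun e he => Or.inl he) fun h => hx (h ▸
      (Or.inr (by rw [← sq, hx2]; exact one_mem _) : x ∈ E))
    have hcardlt : Nat.card Φ < Nat.card E := by
      by_contra h
      exact hlt.ne (Subgroup.eq_of_le_of_card_ge hlt.le (not_lt.mp h))
    have hne1 : Nat.card Φ ≠ 1 := by
      intro h
      have hb : Subgroup.center ↥Q0 = ⊥ := by
        rw [← hfc]; exact Subgroup.card_eq_one.mp h
      have hQne : Q0 ≠ ⊥ := fun h' => hnt0 (by rw [h', Subgroup.commutator_bot_left])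
      haveI : Nontrivial ↥Q0 := (Subgroup.nontrivial_iff_ne_bot Q0).mpr hQne
      haveI := hQ0.isNilpotent
      exact Group.IsNilpotent.center_ne_bot (G := ↥Q0) hb
    have hne2 : Nat.card Φ ≠ 2 := by
      intro h
      obtain ⟨z, hz1, hu⟩ := (Nat.card_eq_two_iff' (1 : ↥Φ)).mp h
      have huniq : ∀ w : ↥Φ, w = 1 ∨ w = z := fun w =>
        (em (w = 1)).imp_right fun h' => hu w h'
      have hzd : ((z : ↥Q0) : X) ∈ P ⊓ Subgroup.centralizer {d} := by
        refine ⟨hQ0P (z : ↥Q0).2, ?_⟩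
        show _ ∈ Subgroup.centralizer {d}
        rw [Subgroup.mem_centralizer_singleton_iff]
        set db : ↥B := ⟨d, Subgroup.mem_zpowers d⟩ with hdb
        rcases huniq ⟨c db z, hΦc db z.2⟩ with e | e
        · exfalso
          apply hz1
          have e' := congrArg (fun w : ↥Φ => ((w : ↥Q0) : X)) e
          simp [c, hdb] at e'
          exact Subtype.ext (Subtype.ext (by simpa using e'))
        · have e' := congrArg (fun w : ↥Φ => ((w : ↥Q0) : X)) e
          have e'' : d * ((z : ↥Q0) : X) * d⁻¹ = ((z : ↥Q0) : X) := e'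
          exact (mul_inv_eq_iff_eq_mul.mp e'').symm
      rw [hfpf, Subgroup.mem_bot] at hzd
      exact hz1 (Subtype.ext (Subtype.ext hzd))
    obtain ⟨i, hi⟩ := IsPGroup.iff_card.mp (hQ0.to_subgroup Φ)
    obtain ⟨j, hj⟩ := IsPGroup.iff_card.mp (hQ0.to_subgroup E)
    rw [hi] at hcardlt hne1 hne2
    rw [hj] at hcardlt hE
    have hij : i < j := (Nat.pow_lt_pow_iff_right (by norm_num : 1 < 2)).mp hcardlt
    have hi2 : 2 ≤ i := by
      have h0 : i ≠ 0 := fun h0 => hne1 (by rw [h0, pow_zero])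
      have h1 : i ≠ 1 := fun h0 => hne2 (by rw [h0, pow_one])
      omega
    have : 2 ^ 3 ≤ 2 ^ j := Nat.pow_le_pow_right (by norm_num) (by omega)
    omega

end Cfsg.Agent.S3738
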