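import Cfsg.Statements.S3739
import Cfsg.Agent.S3738
import Cfsg.Agent.PLocal.Cores
import Cfsg.Agent.Coprime.Generation

set_option autoImplicit false
open Cfsg

namespace Cfsg.Agent.S3739

open scoped commutatorElement IsMulCommutative

/-- a `p`-group normalizing a subgroup of order divisible by `p` centralizes a non-trivial element of it -/
theorem exists_fixed {G : Type*} [Group G] [Finite G] {p : ℕ} [Fact p.Prime] {P K : Subgroup G}
    (hP : IsPGroup p P) (hPK : P ≤ Subgroup.normalizer (K : Set G)) (hd : p ∣ Nat.card K) :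
    ∃ z ∈ K, z ≠ 1 ∧ ∀ x ∈ P, x * z = z * x := by
  letI : MulAction ↥P ↥K :=
    { smul := fun g n => ⟨(g : G) * n * (g : G)⁻¹, (Subgroup.mem_normalizer_iff.mp (hPK g.2) n).mp n.2⟩
      one_smul := fun n => Subtype.ext (by show (1 : G) * n * (1 : G)⁻¹ = n; simp)
      mul_smul := fun g h n => Subtype.ext (by
        show ((g : G) * h) * n * ((g : G) * h)⁻¹ = g * (h * n * (h : G)⁻¹) * (g : G)⁻¹
        group) }
  obtain ⟨n, hn, hn1⟩ := hP.exists_fixed_point_of_prime_dvd_card_of_fixed_point (α := ↥K) hd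
    (a := 1) (fun g => Subtype.ext (by show (g : G) * (1 : G) * (g : G)⁻¹ = 1; simp))
  exact ⟨n, n.2, fun h => hn1 (Subtype.ext h).symm,
    fun x hx => mul_inv_eq_iff_eq_mul.mp (congrArg Subtype.val (hn ⟨x, hx⟩))⟩

/-- a subgroup of order two is centralized by its normalizer -/
theorem commute_of_card_two {G : Type*} [Group G] [Finite G] {S : Subgroup G} (hS : Nat.card S = 2)
    {x s : G} (hx : x ∈ Subgroup.normalizer (S : Set G)) (hs : s ∈ S) : x * s = s * x := by
  by_cases h1 : s = 1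
  · rw [h1, mul_one, one_mul]
  have hc : x * s * x⁻¹ ∈ S := (Subgroup.mem_normalizer_iff.mp hx s).mp hs
  have hS' : ∀ a ∈ S, a = 1 ∨ a = s := by
    intro a ha
    obtain ⟨u, v, huv, huniv⟩ := Nat.card_eq_two_iff.mp hS
    have h : ∀ w : S, w = u ∨ w = v := fun w => by
      have := huniv.ge (Set.mem_univ w)
      simpa using this
    rcases h ⟨a, ha⟩ with ha' | ha' <;> rcases h ⟨s, hs⟩ with hs' | hs' <;>
      rcases h 1 with h' | h'
    all_goals first
      | (left; exact congrArg Subtype.val (ha'.trans h'.symm))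
      | (right; exact congrArg Subtype.val (ha'.trans hs'.symm))
      | exact absurd (congrArg Subtype.val (hs'.trans h'.symm)) h1
  rcases hS' _ hc with h | h
  · exact absurd (conj_eq_one_iff.mp h) h1
  · exact mul_inv_eq_iff_eq_mul.mp h

theorem mul_comm_of_mem {G : Type*} [Group G] {V : Subgroup G} (hV : IsMulCommutative V) {a b : G}
    (ha : a ∈ V) (hb : b ∈ V) : a * b = b * a := by
  haveI := hV
  exact congrArg Subtype.val (mul_comm (⟨a, ha⟩ : ↥V) ⟨b, hb⟩)

theorem elementary_mono {G : Type*} [Group G] {W S : Subgroup G} (hW : Cfsg.IsElementaryAbelian 2 W)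
    (h : S ≤ W) : Cfsg.IsElementaryAbelian 2 S :=
  ⟨⟨⟨fun a b => Subtype.ext (mul_comm_of_mem hW.1 (h a.2) (h b.2))⟩⟩, fun a ha => hW.2 a (h ha)⟩

/-- an element of order three fixes all of a four group or none of its involutions -/
theorem fixed_four {G : Type*} [Group G] [Finite G] {Z : Subgroup G} (hZ : Nat.card Z = 4) {y : G}
    (hy : orderOf y = 3) (hyZ : y ∈ Subgroup.normalizer (Z : Set G)) {z : G} (hz : z ∈ Z) (hz1 : z ≠ 1)
    (hc : y * z = z * y) : ∀ w ∈ Z, y * w = w * y := by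
  haveI : Fact (Nat.Prime 3) := ⟨Nat.prime_three⟩
  set C := Z ⊓ Subgroup.centralizer {y} with hC
  have hP : IsPGroup 3 (Subgroup.zpowers y) :=
    IsPGroup.of_card (n := 1) (by rw [Nat.card_zpowers, hy, pow_one])
  have hPZ : Subgroup.zpowers y ≤ Subgroup.normalizer (Z : Set G) := Subgroup.zpowers_le.mpr hyZ
  letI : MulAction ↥(Subgroup.zpowers y) ↥Z :=
    { smul := fun g n => ⟨(g : G) * n * (g : G)⁻¹, (Subgroup.mem_normalizer_iff.mp (hPZ g.2) n).mp n.2⟩
      one_smul := fun n => Subtype.ext (by show (1 : G) * n * (1 : G)⁻¹ = n; simp)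
      mul_smul := fun g h n => Subtype.ext (by
        show ((g : G) * h) * n * ((g : G) * h)⁻¹ = g * (h * n * (h : G)⁻¹) * (g : G)⁻¹
        group) }
  have hmod := hP.card_modEq_card_fixedPoints (α := ↥Z)
  have hfp : Nat.card (MulAction.fixedPoints ↥(Subgroup.zpowers y) ↥Z) = Nat.card C := by
    refine Nat.card_congr ⟨fun z => ⟨z.1, z.1.2, ?_⟩, fun c => ⟨⟨c, c.2.1⟩, ?_⟩, fun _ => rfl, fun _ => rfl⟩
    · exact Subgroup.mem_centralizer_singleton_iff.mpr
        (mul_inv_eq_iff_eq_mul.mp (congrArg Subtype.val (z.2 ⟨y, Subgroup.mem_zpowers y⟩))).symm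
    · rintro ⟨x, hx⟩
      obtain ⟨i, rfl⟩ := Subgroup.mem_zpowers_iff.mp hx
      exact Subtype.ext (mul_inv_eq_iff_eq_mul.mpr
        ((show Commute y (c : G) from (Subgroup.mem_centralizer_singleton_iff.mp c.2.2).symm).zpow_left i).eq)
  have hdvd : Nat.card C ∣ 2 ^ 2 := by
    rw [show (2 : ℕ) ^ 2 = 4 from rfl, ← hZ]; exact Subgroup.card_dvd_of_le inf_le_left
  obtain ⟨i, hi2, hi⟩ := (Nat.dvd_prime_pow Nat.prime_two).mp hdvd
  rw [hfp, hZ, hi, Nat.modEq_iff_dvd] at hmod
  interval_cases i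
  · have : z ∈ C := ⟨hz, Subgroup.mem_centralizer_singleton_iff.mpr hc.symm⟩
    rw [Subgroup.card_eq_one.mp hi, Subgroup.mem_bot] at this
    exact absurd this hz1
  · norm_num at hmod
  · have h4 : C = Z := Subgroup.eq_of_le_of_card_ge inf_le_left (by rw [hZ, hi]; rfl)
    exact fun w hw => (Subgroup.mem_centralizer_singleton_iff.mp (h4.ge hw).2).symm

/-- a non-identity power of an element of order three has the same centralizer -/
theorem commute_of_zpow {G : Type*} [Group G] {x : G} (hx : orderOf x = 3) {k : ℤ} (hk : x ^ k ≠ 1)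
    {w : G} (hw : x ^ k * w = w * x ^ k) : x * w = w * x := by
  have hcop : IsCoprime k (3 : ℤ) := by
    rw [Int.isCoprime_iff_gcd_eq_one]
    rcases Nat.coprime_or_dvd_of_prime Nat.prime_three k.natAbs with h' | h'
    · rw [Int.gcd]; exact h'.symm
    · exact absurd (orderOf_dvd_iff_zpow_eq_one.mp (hx ▸ Int.natCast_dvd.mpr h')) hk
  obtain ⟨a, b, hab⟩ := hcop
  have hx' : x = (x ^ k) ^ a := by
    rw [← zpow_mul, mul_comm k a]
    conv_lhs => rw [← zpow_one x, ← hab, zpow_add, mul_comm b, zpow_mul x 3 b,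
      show x ^ (3 : ℤ) = 1 by rw [show (3 : ℤ) = ((3 : ℕ) : ℤ) by norm_num, zpow_natCast, ← hx, pow_orderOf_eq_one],
      one_zpow, mul_one]
  rw [hx']
  exact ((show Commute (x ^ k) w from hw).zpow_left a).eq

/-- two elements of order three of a cyclic subgroup generate the same subgroup -/
theorem zpowers_le_of_cyclic {G : Type*} [Group G] [Finite G] {A : Subgroup G} (hA : IsCyclic A) {x y : G}
    (hx : orderOf x = 3) (hxA : x ∈ A) (hy : y ∈ A) (hy3 : y ^ 3 = 1) : y ∈ Subgroup.zpowers x := by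
  classical
  haveI := Fintype.ofFinite ↥A
  haveI := Fintype.ofFinite ↥(Subgroup.zpowers x)
  have hle := IsCyclic.card_pow_eq_one_le (α := ↥A) (n := 3) (by norm_num)
  by_contra hyx
  have hin : ∀ z : ↥(Subgroup.zpowers x), ((z : G) ∈ A) := fun z => Subgroup.zpowers_le.mpr hxA z.2
  have hc : 3 + 1 ≤ (Finset.univ.filter fun a : ↥A => a ^ 3 = 1).card := by
    refine le_trans (le_of_eq ?_) (Finset.card_le_card
      (s := insert (⟨y, hy⟩ : ↥A) ((Finset.univ : Finset ↥(Subgroup.zpowers x)).image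
        fun z : ↥(Subgroup.zpowers x) => (⟨(z : G), hin z⟩ : ↥A))) ?_)
    · rw [Finset.card_insert_of_notMem, Finset.card_image_of_injective, Finset.card_univ,
        ← Nat.card_eq_fintype_card, Nat.card_zpowers, hx]
      · intro a b h; exact Subtype.ext (congrArg (fun z : ↥A => (z : G)) h)
      · intro h
        obtain ⟨z, -, hz⟩ := Finset.mem_image.mp h
        have hz2 : (z : G) = y := congrArg Subtype.val hz
        exact hyx (hz2 ▸ z.2)
    · intro a ha
      rw [Finset.mem_filter]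
      refine ⟨Finset.mem_univ _, ?_⟩
      rcases Finset.mem_insert.mp ha with rfl | ha
      · exact Subtype.ext hy3
      · obtain ⟨⟨z, hz⟩, -, rfl⟩ := Finset.mem_image.mp ha
        obtain ⟨i, rfl⟩ := Subgroup.mem_zpowers_iff.mp hz
        refine Subtype.ext ?_
        show (x ^ i) ^ 3 = 1
        rw [← zpow_natCast, ← zpow_mul, mul_comm, zpow_mul, zpow_natCast, ← hx, pow_orderOf_eq_one, one_zpow]
  omega


/-- Let G be a finite group with C_G(O₂(G)) ≤ O₂(G) containing an element of order 6, and let d be a non-identity 3-element of G normalizing a nontrivial elementary abelian 2-subgroup W with C_W(d) = 1. Then G has an elementary abelian subgroup of order 8. -/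
theorem result {G : Type*} [Group G] [Finite G] (hchar : Subgroup.centralizer (Cfsg.pCore 2 G : Set G) ≤ Cfsg.pCore 2 G) (hsix : ∃ g : G, orderOf g = 6) (d : G) (hd1 : d ≠ 1) (hd : IsPGroup 3 ↥(Subgroup.zpowers d)) (W : Subgroup G) (hW : Cfsg.IsElementaryAbelian 2 W) (hW1 : W ≠ ⊥) (hdW : d ∈ Subgroup.normalizer (W : Set G)) (hfpf : W ⊓ Subgroup.centralizer {d} = ⊥) : ∃ E : Subgroup G, Cfsg.IsElementaryAbelian 2 E ∧ Nat.card E = 8 := by
  haveI : Fact (Nat.Prime 2) := ⟨Nat.prime_two⟩
  haveI : Fact (Nat.Prime 3) := ⟨Nat.prime_three⟩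
  by_contra hno
  have hrank : ∀ V : Subgroup G, Cfsg.IsElementaryAbelian 2 V → Nat.card V ≤ 4 ∧ ∃ k, Nat.card V = 2 ^ k := by
    intro V hV
    obtain ⟨k, hk⟩ := IsPGroup.iff_card.mp
      (show IsPGroup 2 V from fun v => ⟨1, Subtype.ext (by simpa using hV.2 v v.2)⟩)
    refine ⟨?_, k, hk⟩
    by_contra hlt
    have hk3 : 3 ≤ k := by
      by_contra h
      exact hlt (hk ▸ (Nat.pow_le_pow_right two_pos (show k ≤ 2 by omega)))
    obtain ⟨S, hS⟩ := Sylow.exists_subgroup_card_pow_prime 2 (G := ↥V) (n := 3)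
      (hk ▸ pow_dvd_pow 2 hk3)
    refine hno ⟨S.map V.subtype, elementary_mono hV (Subgroup.map_subtype_le _), ?_⟩
    rw [Subgroup.card_map_of_injective V.subtype_injective, hS]; norm_num
  -- adjoining a commuting involution to a four group is impossible
  have hadd : ∀ V : Subgroup G, Cfsg.IsElementaryAbelian 2 V → Nat.card V = 4 → ∀ t : G, t ^ 2 = 1 →
      (∀ v ∈ V, t * v = v * t) → t ∈ V := by
    intro V hV hV4 t ht hc
    by_contra htV
    have hcomm : ∀ a ∈ insert t (V : Set G), ∀ b ∈ insert t (V : Set G), a * b = b * a := by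
      rintro a (ha | ha) b (hb | hb)
      · rw [ha, hb]
      · rw [ha]; exact hc b hb
      · rw [hb]; exact (hc a ha).symm
      · exact mul_comm_of_mem hV.1 ha hb
    have hel : Cfsg.IsElementaryAbelian 2 (Subgroup.closure (insert t (V : Set G))) := by
      refine ⟨Subgroup.isMulCommutative_closure hcomm, ?_⟩
      intro a ha
      induction ha using Subgroup.closure_induction with
      | mem a ha => exact ha.elim (fun h => h ▸ ht) (hV.2 a)
      | one => exact one_pow 2
      | mul a b ha hb iha ihb =>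
        have : a * b = b * a := mul_comm_of_mem (Subgroup.isMulCommutative_closure hcomm) ha hb
        rw [(show Commute a b from this).mul_pow, iha, ihb, one_mul]
      | inv a _ iha => rw [inv_pow, iha, inv_one]
    have hlt : V < Subgroup.closure (insert t (V : Set G)) :=
      lt_of_le_of_ne (fun v hv => Subgroup.subset_closure (Or.inr hv))
        fun h => htV (h ▸ Subgroup.subset_closure (Or.inl rfl))
    have h1 := (hrank _ hel).1
    exact hlt.ne (Subgroup.eq_of_le_of_card_ge hlt.le (by rw [hV4]; exact h1))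
  -- fixed-point-free action on an elementary group forces invariant subgroups of order four
  have hfour : ∀ (V S : Subgroup G) (x : G), Cfsg.IsElementaryAbelian 2 V → S ≤ V → S ≠ ⊥ →
      x ∈ Subgroup.normalizer (S : Set G) → (∀ w ∈ V, x * w = w * x → w = 1) → Nat.card S = 4 := by
    intro V S x hV hSV hS1 hxS hfp
    obtain ⟨hle, k, hk⟩ := hrank S (elementary_mono hV hSV)
    have hk2 : k ≤ 2 := (Nat.pow_le_pow_iff_right (show 1 < 2 by norm_num)).mp (by rw [← hk]; exact hle)
    interval_cases k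
    · exact absurd (Subgroup.card_eq_one.mp hk) hS1
    · obtain ⟨⟨s, hs⟩, hs1⟩ := Subgroup.ne_bot_iff_exists_ne_one.mp hS1
      exact absurd (Subtype.ext (hfp s (hSV hs) (commute_of_card_two hk hxS hs))) hs1
    · exact hk
  set Q := Cfsg.pCore 2 G with hQdef
  have hQ : IsPGroup 2 Q := CfsgLib.PLocal.isPGroup_pCore 2 G
  obtain ⟨n, hn⟩ := IsPGroup.iff_card.mp hd
  rw [Nat.card_zpowers] at hn
  have hn1 : 1 ≤ n := by
    by_contra h
    rw [show n = 0 by omega, pow_zero, orderOf_eq_one_iff] at hn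
    exact hd1 hn
  have h23 : ∀ x : G, x ∈ Q → (∃ m, orderOf x ∣ 3 ^ m) → x = 1 := by
    rintro x hx ⟨m, hm⟩
    obtain ⟨j, hj⟩ := hQ ⟨x, hx⟩
    have h2 : orderOf x ∣ 2 ^ j := orderOf_dvd_of_pow_eq_one (congrArg Subtype.val hj)
    exact orderOf_eq_one_iff.mp (Nat.eq_one_of_dvd_coprimes
      ((show Nat.Coprime 2 3 by norm_num).pow j m) h2 hm)
  have hWfix : ∀ w ∈ W, d * w = w * d → w = 1 := fun w hw hc => by
    have : w ∈ W ⊓ Subgroup.centralizer {d} :=
      ⟨hw, Subgroup.mem_centralizer_singleton_iff.mpr hc.symm⟩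
    rwa [hfpf, Subgroup.mem_bot] at this
  have hW4 : Nat.card W = 4 := hfour W W d hW le_rfl hW1 hdW hWfix
  have hWp : IsPGroup 2 W := fun v => ⟨1, Subtype.ext (by simpa using hW.2 v v.2)⟩
  -- the central involutions of `Q`
  let Z : Subgroup G :=
    { carrier := {z | z ∈ Q ∧ z ^ 2 = 1 ∧ ∀ q ∈ Q, q * z = z * q}
      one_mem' := ⟨Q.one_mem, one_pow 2, fun q _ => by simp⟩
      mul_mem' := fun {a b} ha hb => ⟨Q.mul_mem ha.1 hb.1,
        by rw [(show Commute a b from hb.2.2 a ha.1).mul_pow, ha.2.1, hb.2.1, one_mul],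
        fun q hq => ((show Commute q a from ha.2.2 q hq).mul_right (hb.2.2 q hq)).eq⟩
      inv_mem' := fun {a} ha => ⟨Q.inv_mem ha.1, by rw [inv_pow, ha.2.1, inv_one],
        fun q hq => (show Commute q a from ha.2.2 q hq).inv_right.eq⟩ }
  have hZmem : ∀ z, z ∈ Z ↔ z ∈ Q ∧ z ^ 2 = 1 ∧ ∀ q ∈ Q, q * z = z * q := fun z => Iff.rfl
  have hZel : Cfsg.IsElementaryAbelian 2 Z :=
    ⟨⟨⟨fun a b => Subtype.ext (((hZmem b).mp b.2).2.2 a ((hZmem a).mp a.2).1)⟩⟩,
      fun a ha => ((hZmem a).mp ha).2.1⟩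
  have hQn : ∀ g q : G, q ∈ Q → g * q * g⁻¹ ∈ Q := fun g q hq =>
    (inferInstance : Q.Normal).conj_mem q hq g
  have hZn : Z.Normal := ⟨fun z hz g => (hZmem _).mpr ⟨hQn g z ((hZmem z).mp hz).1,
    by rw [conj_pow, ((hZmem z).mp hz).2.1, mul_one, mul_inv_cancel], fun q hq => by
      have h := ((hZmem z).mp hz).2.2 (g⁻¹ * q * g) (by simpa using hQn g⁻¹ q hq)
      calc q * (g * z * g⁻¹) = g * ((g⁻¹ * q * g) * z) * g⁻¹ := by group
        _ = g * (z * (g⁻¹ * q * g)) * g⁻¹ := by rw [h]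
        _ = g * z * g⁻¹ * q := by group⟩⟩
  obtain ⟨g6, hg6⟩ := hsix
  have hQ1 : Q ≠ ⊥ := by
    intro h
    have h2 : g6 ∈ Q := hchar (by rw [h]; simp [Subgroup.mem_centralizer_iff])
    rw [h, Subgroup.mem_bot] at h2
    rw [h2, orderOf_one] at hg6
    norm_num at hg6
  obtain ⟨j, hj⟩ := IsPGroup.iff_card.mp hQ
  have h2Q : 2 ∣ Nat.card Q :=
    hj ▸ dvd_pow_self 2 (fun h => hQ1 (Subgroup.card_eq_one.mp (by rw [hj, h, pow_zero])))
  have hZ1 : 2 ∣ Nat.card Z := by
    obtain ⟨z, hz, hz1, hzc⟩ := exists_fixed hQ Subgroup.le_normalizer h2Q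
    obtain ⟨i, hi⟩ := IsPGroup.iff_card.mp (hQ.to_le (Subgroup.zpowers_le.mpr hz))
    obtain ⟨u, hu⟩ := exists_prime_orderOf_dvd_card' (G := Subgroup.zpowers z) 2
      (hi ▸ dvd_pow_self 2 (fun h => hz1 (by
        rw [h, pow_zero, Nat.card_zpowers, orderOf_eq_one_iff] at hi; exact hi)))
    rw [← Subgroup.orderOf_coe] at hu
    obtain ⟨k, hk⟩ := Subgroup.mem_zpowers_iff.mp u.2
    have huZ : (u : G) ∈ Z := (hZmem _).mpr ⟨hk ▸ Q.zpow_mem hz k, hu ▸ pow_orderOf_eq_one _,
      fun q hq => hk ▸ ((show Commute q z from hzc q hq).zpow_right k).eq⟩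
    rw [← hu, ← Subgroup.orderOf_mk (u : G) huZ]
    exact orderOf_dvd_natCard _
  -- `W = Z`
  have hWZ : Z = W := by
    have hne : W ⊓ Z ≠ ⊥ := by
      intro h
      obtain ⟨z, hz, hz1, hzc⟩ := exists_fixed hWp Subgroup.le_normalizer_of_normal hZ1
      have : z ∈ W ⊓ Z := ⟨hadd W hW hW4 z (hZel.2 z hz) fun v hv => (hzc v hv).symm, hz⟩
      rw [h, Subgroup.mem_bot] at this
      exact hz1 this
    have h4 := hfour W (W ⊓ Z) d hW inf_le_left hne
      (Subgroup.inf_normalizer_le_normalizer_inf ⟨hdW, Subgroup.le_normalizer_of_normal (Subgroup.mem_top d)⟩) hWfix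
    have hle : W ≤ Z := inf_eq_left.mp (Subgroup.eq_of_le_of_card_ge inf_le_left (by rw [h4, hW4]))
    exact (Subgroup.eq_of_le_of_card_ge hle (by rw [hW4]; exact (hrank Z hZel).1)).symm
  subst hWZ
  -- every involution of `Q` lies in `Z`
  have hinv : ∀ t ∈ Q, t ^ 2 = 1 → t ∈ Z := fun t ht ht2 =>
    hadd Z hZel hW4 t ht2 fun v hv => ((hZmem v).mp hv).2.2 t ht
  -- elements fixing no element of `Z` fix no element of `Q`
  have hfix : ∀ a : G, (∀ w ∈ Z, a * w = w * a → w = 1) → Q ⊓ Subgroup.centralizer {a} = ⊥ := by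
    intro a ha
    by_contra h
    obtain ⟨i, hi⟩ := IsPGroup.iff_card.mp (hQ.to_inf_left (K := Subgroup.centralizer {a}))
    obtain ⟨u, hu⟩ := exists_prime_orderOf_dvd_card' (G := ↥(Q ⊓ Subgroup.centralizer {a})) 2
      (hi ▸ dvd_pow_self 2 (fun h' => h (Subgroup.card_eq_one.mp (by rw [hi, h', pow_zero]))))
    rw [← Subgroup.orderOf_coe] at hu
    have h1 := ha u (hinv u u.2.1 (hu ▸ pow_orderOf_eq_one _))
      (Subgroup.mem_centralizer_singleton_iff.mp u.2.2).symm
    rw [h1, orderOf_one] at hu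
    norm_num at hu
  -- `d` has order three
  have hd3 : orderOf d = 3 := by
    refine Cfsg.Agent.S3738.result d n hn1 hn Q hQ
      (Subgroup.le_normalizer_of_normal (Subgroup.mem_zpowers d)) ?_ (hfix d hWfix) ?_
    · rw [Subgroup.eq_bot_iff_forall]
      rintro x ⟨hx, hxc⟩
      exact h23 x (hchar hxc) ⟨n, by
        rw [← hn, ← Nat.card_zpowers d, ← Subgroup.orderOf_mk x hx]; exact orderOf_dvd_natCard _⟩
    · intro V hV _ A hA hA2
      rw [← Subgroup.card_map_of_injective V.subtype_injective]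
      refine (hrank _ ⟨?_, ?_⟩).1.trans (by norm_num)
      · infer_instance
      · rintro _ ⟨a, ha, rfl⟩
        exact congrArg Subtype.val (hA2 a ha)
  -- an element of order three commuting with an involution
  set y := g6 ^ 2 with hy
  set t := g6 ^ 3 with ht
  have hy3 : orderOf y = 3 := by rw [hy, orderOf_pow, hg6]; norm_num
  have ht2 : orderOf t = 2 := by rw [ht, orderOf_pow, hg6]; norm_num
  have hty : t * y = y * t := (Commute.pow_pow_self g6 3 2).eq
  have hyZ : ∀ z ∈ Z, y * z = z * y := by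
    by_contra hcon
    have hyfp : ∀ w ∈ Z, y * w = w * y → w = 1 := fun w hw hc => by_contra fun h1 =>
      hcon (fixed_four hW4 hy3 (Subgroup.le_normalizer_of_normal (Subgroup.mem_top y)) hw h1 hc)
    have hTp : IsPGroup 2 (Subgroup.zpowers t) :=
      IsPGroup.of_card (n := 1) (by rw [Nat.card_zpowers, ht2, pow_one])
    obtain ⟨z, hz, hz1, hzc⟩ := exists_fixed hTp Subgroup.le_normalizer_of_normal hZ1
    have hzS : z ∈ Z ⊓ Subgroup.centralizer {t} :=
      ⟨hz, Subgroup.mem_centralizer_singleton_iff.mpr (hzc t (Subgroup.mem_zpowers t)).symm⟩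
    have hS4 := hfour Z _ y hW (inf_le_left : Z ⊓ Subgroup.centralizer {t} ≤ Z)
      (fun h => hz1 (by rwa [h, Subgroup.mem_bot] at hzS))
      (Subgroup.inf_normalizer_le_normalizer_inf ⟨Subgroup.le_normalizer_of_normal (Subgroup.mem_top y),
        Subgroup.le_normalizer (Subgroup.mem_centralizer_singleton_iff.mpr hty.symm)⟩) hyfp
    have h4 : Z ⊓ Subgroup.centralizer {t} = Z := Subgroup.eq_of_le_of_card_ge inf_le_left (by rw [hS4, hW4])
    have htmem : t ∈ Z := hadd Z hW hW4 t (ht2 ▸ pow_orderOf_eq_one t)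
      fun z hz => (Subgroup.mem_centralizer_singleton_iff.mp (h4.ge hz).2).symm
    have := hyfp t htmem hty.symm
    rw [this, orderOf_one] at ht2
    norm_num at ht2
  -- an element of order three centralizing `Z` and commuting with `d`
  obtain ⟨P, hdP⟩ := hd.exists_le_sylow
  obtain ⟨g, hg⟩ : ∃ g : G, g * y * g⁻¹ ∈ P := by
    obtain ⟨R, hR⟩ := (show IsPGroup 3 (Subgroup.zpowers y) from
      IsPGroup.of_card (n := 1) (by rw [Nat.card_zpowers, hy3, pow_one])).exists_le_sylow
    obtain ⟨g, rfl⟩ := MulAction.exists_smul_eq G R P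
    exact ⟨g, Subgroup.smul_mem_pointwise_smul _ (MulAut.conj g) _ (hR (Subgroup.mem_zpowers y))⟩
  have hCn : (Subgroup.centralizer (Z : Set G)).Normal := by haveI := hZn; infer_instance
  set K := (P : Subgroup G) ⊓ Subgroup.centralizer (Z : Set G)
  have hyK : g * y * g⁻¹ ∈ K :=
    ⟨hg, hCn.conj_mem y (Subgroup.mem_centralizer_iff.mpr fun z hz => (hyZ z hz).symm) g⟩
  have h3K : 3 ∣ Nat.card K := by
    rw [← hy3, show orderOf y = orderOf (g * y * g⁻¹) from ((MulAut.conj g).orderOf_eq y).symm,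
      ← Subgroup.orderOf_mk _ hyK]
    exact orderOf_dvd_natCard _
  obtain ⟨z0, hz0, hz01, hz0c⟩ := exists_fixed P.isPGroup' ((le_inf Subgroup.le_normalizer
    Subgroup.le_normalizer_of_normal).trans Subgroup.inf_normalizer_le_normalizer_inf) h3K
  obtain ⟨i, hi⟩ := IsPGroup.iff_card.mp (P.isPGroup'.to_le (Subgroup.zpowers_le.mpr hz0.1))
  obtain ⟨u, hu⟩ := exists_prime_orderOf_dvd_card' (G := Subgroup.zpowers z0) 3
    (hi ▸ dvd_pow_self 3 (fun h => hz01 (by
      rw [h, pow_zero, Nat.card_zpowers, orderOf_eq_one_iff] at hi; exact hi)))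
  rw [← Subgroup.orderOf_coe] at hu
  have huK : (u : G) ∈ K := Subgroup.zpowers_le.mpr hz0 u.2
  obtain ⟨m, hm⟩ := Subgroup.mem_zpowers_iff.mp u.2
  have hud : Commute (u : G) d := hm ▸
    ((show Commute d z0 from hz0c d (hdP (Subgroup.mem_zpowers d))).symm.zpow_left m)
  -- generation by centralizers gives a contradiction
  set A := Subgroup.closure ({(u : G), d} : Set G) with hA
  haveI : IsMulCommutative A := Subgroup.isMulCommutative_closure (by
    rintro a (ha | ha) b (hb | hb)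
    all_goals (try rw [Set.mem_singleton_iff] at ha); (try rw [Set.mem_singleton_iff] at hb); subst ha hb
    all_goals first | rfl | exact hud.eq | exact hud.eq.symm)
  have hform : ∀ a ∈ A, ∃ i j : ℤ, a = (u : G) ^ i * d ^ j := by
    intro a ha
    induction ha using Subgroup.closure_induction with
    | mem a ha =>
      rcases ha with ha | ha
      · exact ⟨1, 0, by rw [ha, zpow_one, zpow_zero, mul_one]⟩
      · exact ⟨0, 1, by rw [Set.mem_singleton_iff.mp ha, zpow_one, zpow_zero, one_mul]⟩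
    | one => exact ⟨0, 0, by simp⟩
    | mul a b _ _ iha ihb =>
      obtain ⟨i, j, rfl⟩ := iha
      obtain ⟨k, l, rfl⟩ := ihb
      refine ⟨i + k, j + l, ?_⟩
      rw [zpow_add, zpow_add, mul_assoc, ← mul_assoc (d ^ j), ← ((hud.zpow_left k).zpow_right j).eq]
      simp [mul_assoc]
    | inv a _ iha =>
      obtain ⟨i, j, rfl⟩ := iha
      refine ⟨-i, -j, ?_⟩
      rw [mul_inv_rev, zpow_neg, zpow_neg]
      exact (((hud.zpow_left i).zpow_right j).inv_inv).eq.symm
  have hAP : A ≤ (P : Subgroup G) := by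
    rw [hA, Subgroup.closure_le]
    rintro a (ha | ha)
    · exact ha ▸ huK.1
    · exact Set.mem_singleton_iff.mp ha ▸ hdP (Subgroup.mem_zpowers d)
  have hcyc : ¬ IsCyclic A := by
    intro hc
    have hdu : d ∈ Subgroup.zpowers (u : G) := zpowers_le_of_cyclic hc hu
      (Subgroup.subset_closure (Or.inl rfl)) (Subgroup.subset_closure (Or.inr rfl))
      (hd3 ▸ pow_orderOf_eq_one d)
    have : d ∈ Subgroup.centralizer (Z : Set G) := Subgroup.zpowers_le.mpr huK.2 hdu
    refine hW1 ((Subgroup.eq_bot_iff_forall _).mpr fun w hw => hWfix w hw ?_)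
    exact (Subgroup.mem_centralizer_iff.mp this w hw).symm
  have hcopQ : (Nat.card A).Coprime (Nat.card Q) := by
    obtain ⟨a, ha⟩ := IsPGroup.iff_card.mp (P.isPGroup'.to_le hAP)
    rw [ha, hj]
    exact (show Nat.Coprime 3 2 by norm_num).pow a j
  have hQu : Q ≤ Subgroup.centralizer {(u : G)} := by
    refine CfsgLib.Coprime.le_of_forall_inf_centralizer_le hcyc Subgroup.le_normalizer_of_normal hcopQ ?_
    intro a ha ha1
    obtain ⟨i, j, rfl⟩ := hform a ha
    by_cases hj' : d ^ j = 1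
    · rw [hj', mul_one] at ha1 ⊢
      intro q hq
      exact Subgroup.mem_centralizer_singleton_iff.mpr
        (commute_of_zpow hu ha1 (Subgroup.mem_centralizer_singleton_iff.mp hq.2).symm).symm
    · rw [hfix _ ?_]
      · exact bot_le
      intro w hw hc
      refine hWfix w hw (commute_of_zpow hd3 hj' ?_)
      have huw : Commute ((u : G) ^ i) w :=
        (show Commute (u : G) w from (Subgroup.mem_centralizer_iff.mp huK.2 w hw).symm).zpow_left i
      have h2 : (u : G) ^ i * (d ^ j * w) = (u : G) ^ i * (w * d ^ j) := by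
        rw [← mul_assoc, hc, ← mul_assoc, ← mul_assoc, huw.eq]
      exact mul_left_cancel h2
  have h1 : (u : G) = 1 := h23 u (hchar (Subgroup.mem_centralizer_iff.mpr fun q hq =>
    Subgroup.mem_centralizer_singleton_iff.mp (hQu hq))) ⟨1, by rw [hu, pow_one]⟩
  rw [h1, orderOf_one] at hu
  norm_num at hu

end Cfsg.Agent.S3739
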