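import Cfsg.Statements.S3740
import Cfsg.Agent.S3742
import Cfsg.Agent.Linear.SL2Sylow
import Cfsg.Agent.Coprime.Action

set_option autoImplicit false
set_option maxHeartbeats 1000000
open Cfsg

namespace Cfsg.Agent.S3740

open Matrix
open scoped MatrixGroups commutatorElement

variable {F : Type} [Field F] [Fintype F] {p : ℕ} [Fact p.Prime] [CharP F p]

theorem odd_card (hp : p ≠ 2) : Odd (Fintype.card F) := by
  obtain ⟨n, -, h⟩ := FiniteField.card F p
  rw [h]
  exact ((Fact.out : p.Prime).odd_of_ne_two hp).pow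

/-- elements of order prime to `p` other than `±1` are semisimple regular -/
theorem trace_ne (hp : p ≠ 2) (g : SL(2, F)) (hcop : (orderOf g).Coprime p) (h1 : g ≠ 1) (hn : g ≠ -1) :
    g.1.trace ^ 2 ≠ 4 := by
  intro h
  have h2 : (2 : F) ≠ 0 := CfsgLib.Linear.two_ne_zero_of_odd (odd_card (p := p) hp)
  set ε : F := g.1.trace / 2 with hε
  have ht : g.1.trace = 2 * ε := by rw [hε]; field_simp
  have hε2 : ε ^ 2 = 1 := by
    rw [ht, mul_pow] at h
    have h4 : (2 : F) ^ 2 ≠ 0 := pow_ne_zero 2 h2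
    exact mul_left_cancel₀ h4 (by rw [h, mul_one]; norm_num)
  have hd := g.2
  rw [Matrix.det_fin_two] at hd
  rw [Matrix.trace_fin_two] at ht
  set e : Matrix (Fin 2) (Fin 2) F := ε • 1 with he
  have hsq : (g.1 - e) ^ 2 = 0 := by
    rw [sq]
    ext i j
    fin_cases i <;> fin_cases j <;> simp [Matrix.mul_apply, he]
    · linear_combination (g.1 0 0) * ht - hd + hε2
    · linear_combination (g.1 0 1) * ht
    · linear_combination (g.1 1 0) * ht
    · linear_combination (g.1 1 1) * ht - hd + hε2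
  have hcomm : Commute g.1 e := (Commute.one_right g.1).smul_right ε
  have hpow : g.1 ^ p = e ^ p := by
    have h3 : (g.1 - e) ^ p = 0 := by
      rw [show p = 2 + (p - 2) by have := (Fact.out : p.Prime).two_le; omega, pow_add, hsq, zero_mul]
    rw [sub_pow_char_of_commute _ hcomm, sub_eq_zero] at h3
    exact h3
  have hgp : g ^ (p * 2) = 1 := by
    apply Subtype.ext
    rw [pow_mul]
    show (g.1 ^ p) ^ 2 = 1
    rw [hpow, he, smul_pow, one_pow, smul_pow, one_pow, ← pow_mul, mul_comm, pow_mul, hε2, one_pow,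
      one_smul]
  have h22 : g ^ 2 = 1 := orderOf_dvd_iff_pow_eq_one.mp
    (hcop.dvd_of_dvd_mul_left (orderOf_dvd_of_pow_eq_one hgp))
  exact hn (CfsgLib.Linear.eq_neg_one_of_sq (odd_card (p := p) hp) g h1 h22)

/-- a `p`-element centralizing a regular semisimple element is trivial -/
theorem eq_one_of_commute {a g : SL(2, F)} (ht : g.1.trace ^ 2 ≠ 4) (hc : a * g = g * a) {k : ℕ}
    (ha : a ^ p ^ k = 1) : a = 1 := by
  obtain ⟨φ, l, hinj, -, -, -⟩ := CfsgLib.Linear.exists_centralizer_hom g ht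
  haveI : CharP (AlgebraicClosure F) p := charP_of_injective_algebraMap (algebraMap F _).injective p
  let a' : Subgroup.centralizer ({g} : Set SL(2, F)) := ⟨a, Subgroup.mem_centralizer_singleton_iff.mpr hc⟩
  have h1 : φ a' ^ p ^ k = 1 := by
    rw [← map_pow, show a' ^ p ^ k = 1 from Subtype.ext ha, map_one]
  have h2 : (φ a' - 1) ^ p ^ k = 0 := by rw [sub_pow_char_pow, h1, one_pow, sub_self]
  have h3 : φ a' = 1 := sub_eq_zero.mp (eq_zero_of_pow_eq_zero h2)
  exact congrArg Subtype.val (hinj (h3.trans (map_one φ).symm))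

/-- the squares in a generalised quaternion group lie in the cyclic subgroup of index two -/
theorem quaternion_sq (n : ℕ) (q : QuaternionGroup n) : ∃ i : ZMod (2 * n), q * q = QuaternionGroup.a i := by
  cases q with
  | a i => exact ⟨i + i, rfl⟩
  | xa i => exact ⟨(n : ZMod (2 * n)) + i - i, rfl⟩

/-- the automorphisms of order three of the quaternion group are conjugate -/
theorem aut_conj (σ γ : MulAut (QuaternionGroup 2)) (hσ : σ ^ 3 = 1) (hσ1 : σ ≠ 1) (hγ : γ ^ 3 = 1)
    (hγ1 : γ ≠ 1) : ∃ τ : MulAut (QuaternionGroup 2), τ * σ = γ * τ := by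
  obtain ⟨f⟩ := Cfsg.Agent.S3742.result
  have key : ∀ x y : Equiv.Perm (Fin 4), x ^ 3 = 1 → x ≠ 1 → y ^ 3 = 1 → y ≠ 1 →
      ∃ z, z * x = y * z := by decide +kernel
  obtain ⟨z, hz⟩ := key (f σ) (f γ) (by rw [← map_pow, hσ, map_one])
    (fun h => hσ1 (f.injective (h.trans (map_one f).symm))) (by rw [← map_pow, hγ, map_one])
    (fun h => hγ1 (f.injective (h.trans (map_one f).symm)))
  refine ⟨f.symm z, f.injective ?_⟩
  rw [map_mul, map_mul, f.apply_symm_apply, hz]

/-- conjugation of a normalizing subgroup on a subgroup, transported along an isomorphism -/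
def transportConj {G : Type*} [Group G] {R : Subgroup G} (e : ↥R ≃* QuaternionGroup 2) (K : Subgroup G)
    (hK : K ≤ Subgroup.normalizer (R : Set G)) : ↥K →* MulAut (QuaternionGroup 2) where
  toFun k :=
    { toFun := fun q => e ⟨(k : G) * (e.symm q : G) * (k : G)⁻¹,
        (Subgroup.mem_normalizer_iff.mp (hK k.2) _).mp (e.symm q).2⟩
      invFun := fun q => e ⟨(k : G)⁻¹ * (e.symm q : G) * (k : G),
        (Subgroup.mem_normalizer_iff''.mp (hK k.2) _).mp (e.symm q).2⟩
      left_inv := fun q => by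
        apply e.symm.injective
        rw [e.symm_apply_apply]
        apply Subtype.ext
        simp [mul_assoc]
      right_inv := fun q => by
        apply e.symm.injective
        rw [e.symm_apply_apply]
        apply Subtype.ext
        simp [mul_assoc]
      map_mul' := fun q q' => by
        rw [← map_mul e]
        congr 1
        apply Subtype.ext
        simp [mul_assoc] }
  map_one' := by
    apply MulEquiv.ext
    intro q
    apply e.symm.injective
    show e.symm (e _) = e.symm q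
    rw [e.symm_apply_apply]
    exact Subtype.ext (by simp)
  map_mul' := fun k l => by
    apply MulEquiv.ext
    intro q
    show e _ = e _
    congr 1
    apply Subtype.ext
    simp [mul_assoc]

/-- the common part of the two uses: recognition of `R⟨a⟩` -/
theorem core (hp : p ≠ 2) (γ : MulAut (QuaternionGroup 2)) (hγ : γ ^ 3 = 1) (hγ1 : γ ≠ 1)
    (a : SL(2, F)) (ha : IsPGroup p ↥(Subgroup.zpowers a)) (R : Subgroup SL(2, F))
    (hR : (Nat.card R).Coprime p) (haR : a ∈ Subgroup.normalizer (R : Set SL(2, F)))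
    (hnt : ⁅R, Subgroup.zpowers a⁆ ≠ ⊥) :
    p = 3 ∧ Nonempty (↥R ≃* QuaternionGroup 2) ∧ Nonempty (↥(R ⊔ Subgroup.zpowers a) ≃*
      QuaternionGroup 2 ⋊[(Subgroup.zpowers γ).subtype] ↥(Subgroup.zpowers γ)) := by
  have hpp : p.Prime := Fact.out
  have hF : Odd (Fintype.card F) := odd_card (p := p) hp
  set K := Subgroup.zpowers a with hK
  have hKR : K ≤ Subgroup.normalizer (R : Set SL(2, F)) := Subgroup.zpowers_le.mpr haR
  obtain ⟨k, hk⟩ := IsPGroup.iff_card.mp ha
  rw [Nat.card_zpowers] at hk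
  have hak : a ^ p ^ k = 1 := hk ▸ pow_orderOf_eq_one a
  have ha1 : a ≠ 1 := by
    intro h
    apply hnt
    rw [hK, h, Subgroup.zpowers_one_eq_bot, Subgroup.commutator_bot_right]
  have haodd : Odd (orderOf a) := by rw [hk]; exact (hpp.odd_of_ne_two hp).pow
  have hcopR : ∀ r ∈ R, (orderOf r).Coprime p := fun r hr =>
    hR.coprime_dvd_left (Subgroup.orderOf_mk r hr ▸ orderOf_dvd_natCard _)
  have hpm : ∀ r ∈ R, r ≠ 1 → r ≠ -1 → a * r ≠ r * a := fun r hr h1 hn hc =>
    ha1 (eq_one_of_commute (trace_ne hp r (hcopR r hr) h1 hn) hc hak)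
  -- invariant abelian subgroups consist of scalars
  have hab : ∀ B : Subgroup SL(2, F), B ≤ R → IsMulCommutative B →
      a ∈ Subgroup.normalizer (B : Set SL(2, F)) → ∀ b ∈ B, b = 1 ∨ b = -1 := by
    intro B hBR hB haB b hb
    by_contra hcon
    push Not at hcon
    have ht := trace_ne hp b (hcopR b (hBR hb)) hcon.1 hcon.2
    haveI hcyc := CfsgLib.Linear.isCyclic_centralizer b ht
    have hBC : B ≤ Subgroup.centralizer ({b} : Set SL(2, F)) := fun x hx =>
      Subgroup.mem_centralizer_singleton_iff.mpr (congrArg Subtype.val (hB.is_comm.comm ⟨x, hx⟩ ⟨b, hb⟩))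
    haveI : IsCyclic B := Subgroup.isCyclic_of_le hBC
    have hconj : a * b * a⁻¹ ∈ B := (Subgroup.mem_normalizer_iff.mp haB b).mp hb
    have hord : orderOf (⟨b, hb⟩ : ↥B) = orderOf b := Subgroup.orderOf_mk b hb
    have hpow : (⟨a * b * a⁻¹, hconj⟩ : ↥B) ^ orderOf b = 1 := Subtype.ext (by
      show (a * b * a⁻¹) ^ orderOf b = 1
      rw [conj_pow, pow_orderOf_eq_one, mul_one, mul_inv_cancel])
    obtain ⟨i, hi⟩ := Subgroup.mem_zpowers_iff.mp
      (CfsgLib.Linear.mem_zpowers_of_pow_eq_one (orderOf_pos b) hord hpow)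
    have hmem : a * b * a⁻¹ ∈ Subgroup.zpowers b := ⟨i, congrArg Subtype.val hi⟩
    exact hpm b (hBR hb) hcon.1 hcon.2 (CfsgLib.Linear.commute_of_odd_normalizing b a ht hmem haodd).eq
  have hnonab : ¬ ∀ r ∈ R, r = 1 ∨ r = -1 := by
    intro h
    apply hnt
    rw [Subgroup.commutator_eq_bot_iff_le_centralizer]
    intro r hr
    rw [Subgroup.mem_centralizer_iff]
    rintro x ⟨i, rfl⟩
    rcases h r hr with rfl | rfl
    · rw [mul_one, one_mul]
    · exact ((Commute.neg_one_right (a ^ i))).eq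
  -- `R` is a `2`-group
  have hR2 : IsPGroup 2 R := by
    haveI : Fact (Nat.Prime 2) := ⟨Nat.prime_two⟩
    have hall : ∀ r : ℕ, r.Prime → r ∣ Nat.card R → r = 2 := by
      intro r hr hrd
      by_contra hr2
      haveI := Fact.mk hr
      have hrp : r ≠ p := fun h => (hpp.coprime_iff_not_dvd.mp hR.symm) (h ▸ hrd)
      obtain ⟨S, hS⟩ := CfsgLib.Coprime.exists_invariant_sylow hKR
        (by rw [hK, Nat.card_zpowers, hk]; exact (hR.symm.pow_left k))
        (Or.inl (haveI := ha.isNilpotent; inferInstance)) r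
      haveI : IsCyclic ((S : Subgroup ↥R).map R.subtype) :=
        CfsgLib.Linear.isCyclic_of_isPGroup p hr2 hrp _ (S.2.map _)
      have hsc := hab ((S : Subgroup ↥R).map R.subtype) (Subgroup.map_subtype_le _)
        IsCyclic.isMulCommutative (hS (Subgroup.mem_zpowers a))
      obtain ⟨y, hy⟩ := exists_prime_orderOf_dvd_card' r (S.dvd_card_of_dvd_card hrd)
      have hyo : orderOf ((y : ↥R) : SL(2, F)) = r := by rw [Subgroup.orderOf_coe, Subgroup.orderOf_coe, hy]
      rcases hsc _ (Subgroup.mem_map_of_mem R.subtype y.2) with h | h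
      · rw [Subgroup.coe_subtype] at h
        rw [h, orderOf_one] at hyo
        exact hr.ne_one hyo.symm
      · rw [Subgroup.coe_subtype] at h
        have h2 : orderOf ((y : ↥R) : SL(2, F)) ∣ 2 := orderOf_dvd_of_pow_eq_one (by rw [h, neg_one_sq])
        rw [hyo] at h2
        exact hr2 ((Nat.prime_dvd_prime_iff_eq hr Nat.prime_two).mp h2)
    refine IsPGroup.of_card (n := (Nat.card R).primeFactorsList.length) ?_
    exact Nat.eq_prime_pow_of_unique_prime_dvd Nat.card_pos.ne' fun {d} hd hdd => hall d hd hdd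
  -- it is quaternion of order eight
  obtain ⟨e⟩ : Nonempty (↥R ≃* QuaternionGroup 2) := by
    rcases CfsgLib.Linear.isCyclic_or_quaternion_two hF R hR2 with hc | ⟨m, hm, ⟨e⟩⟩
    · exfalso
      exact hnonab (hab R le_rfl IsCyclic.isMulCommutative haR)
    · obtain rfl | hm2 : m = 1 ∨ 2 ≤ m := by omega
      · exact ⟨e⟩
      exfalso
      set B := Subgroup.closure {x : SL(2, F) | ∃ r ∈ R, x = r * r} with hB
      have hBR : B ≤ R := (Subgroup.closure_le R).mpr (by rintro _ ⟨r, hr, rfl⟩; exact R.mul_mem hr hr)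
      have hcomm : IsMulCommutative B := by
        refine Subgroup.isMulCommutative_closure ?_
        rintro _ ⟨r, hr, rfl⟩ _ ⟨s, hs, rfl⟩
        obtain ⟨i, hi⟩ := quaternion_sq _ (e ⟨r, hr⟩)
        obtain ⟨j, hj⟩ := quaternion_sq _ (e ⟨s, hs⟩)
        refine congrArg Subtype.val (e.injective (?_ : e (⟨r, hr⟩ * ⟨r, hr⟩ * (⟨s, hs⟩ * ⟨s, hs⟩)) =
          e (⟨s, hs⟩ * ⟨s, hs⟩ * (⟨r, hr⟩ * ⟨r, hr⟩))))
        simp only [map_mul]
        rw [hi, hj, QuaternionGroup.a_mul_a, QuaternionGroup.a_mul_a, add_comm]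
      have haB : a ∈ Subgroup.normalizer (B : Set SL(2, F)) := by
        rw [Subgroup.mem_normalizer_iff_map_conj_eq, hB, MonoidHom.map_closure]
        congr 1
        ext x
        constructor
        · rintro ⟨_, ⟨r, hr, rfl⟩, rfl⟩
          exact ⟨a * r * a⁻¹, (Subgroup.mem_normalizer_iff.mp haR r).mp hr, by simp [mul_assoc]⟩
        · rintro ⟨r, hr, rfl⟩
          exact ⟨(a⁻¹ * r * a) * (a⁻¹ * r * a),
            ⟨_, (Subgroup.mem_normalizer_iff''.mp haR r).mp hr, rfl⟩, by simp [mul_assoc]⟩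
      set r := e.symm (QuaternionGroup.a 1) with hr
      have hmem : ((r : SL(2, F)) * r) ∈ B := Subgroup.subset_closure ⟨r, r.2, rfl⟩
      have h2 : orderOf ((r : SL(2, F)) * r) ∣ 2 := by
        rcases hab B hBR hcomm haB _ hmem with h | h <;> rw [h]
        · simp
        · exact orderOf_dvd_of_pow_eq_one neg_one_sq
      haveI : NeZero (2 ^ m) := ⟨by positivity⟩
      have h4 : orderOf (r : SL(2, F)) ∣ 4 := by
        apply orderOf_dvd_of_pow_eq_one
        rw [show 4 = 2 * 2 from rfl, pow_mul, sq (r : SL(2, F))]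
        exact orderOf_dvd_iff_pow_eq_one.mp h2
      rw [Subgroup.orderOf_coe, hr, e.symm.orderOf_eq, QuaternionGroup.orderOf_a_one] at h4
      have h8 : 2 ^ 2 ≤ 2 ^ m := Nat.pow_le_pow_right two_pos hm2
      have := Nat.le_of_dvd (by norm_num) h4
      omega
  -- the action
  have hfaith : ∀ (e : ↥R ≃* QuaternionGroup 2), Function.Injective (transportConj e K hKR) := by
    intro e
    rw [injective_iff_map_eq_one]
    rintro ⟨x, hx⟩ hχ
    apply Subtype.ext
    obtain ⟨g, hg, hg1, hgn⟩ : ∃ g ∈ R, g ≠ 1 ∧ g ≠ -1 := by push Not at hnonab; exact hnonab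
    obtain ⟨i, rfl⟩ := Subgroup.mem_zpowers_iff.mp hx
    have hc : a ^ i * g = g * a ^ i := by
      have h := congrArg (fun σ : MulAut (QuaternionGroup 2) => e.symm (σ (e ⟨g, hg⟩))) hχ
      simp only [MulAut.one_apply, e.symm_apply_apply] at h
      have h2 : a ^ i * g * (a ^ i)⁻¹ = g := by simpa [transportConj] using congrArg Subtype.val h
      exact mul_inv_eq_iff_eq_mul.mp h2
    refine eq_one_of_commute (trace_ne hp g (hcopR g hg) hg1 hgn) hc (k := k) ?_
    rw [← zpow_natCast, ← _root_.zpow_mul, mul_comm, _root_.zpow_mul, zpow_natCast, hak, _root_.one_zpow]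
  have h24 : Nat.card (MulAut (QuaternionGroup 2)) = 24 := by
    obtain ⟨f⟩ := Cfsg.Agent.S3742.result
    rw [Nat.card_congr f.toEquiv, Nat.card_perm]
    simp [Nat.factorial]
  have hdvd : p ^ k ∣ 24 := by
    rw [← hk, ← Nat.card_zpowers, ← hK, ← h24]
    exact Subgroup.card_dvd_of_injective _ (hfaith e)
  have hk0 : k ≠ 0 := fun h => ha1 (orderOf_eq_one_iff.mp (by rw [hk, h, pow_zero]))
  have hp3 : p = 3 := by
    have h : p ∣ 2 ^ 3 * 3 := (dvd_pow_self p hk0).trans hdvd
    rcases (Nat.Prime.dvd_mul hpp).mp h with h | h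
    · exact absurd ((Nat.prime_dvd_prime_iff_eq hpp Nat.prime_two).mp (hpp.dvd_of_dvd_pow h)) hp
    · exact (Nat.prime_dvd_prime_iff_eq hpp Nat.prime_three).mp h
  subst hp3
  have hk1 : k = 1 := by
    by_contra h
    have h9 : 3 ^ 2 ∣ 24 := (pow_dvd_pow 3 (show 2 ≤ k by omega)).trans hdvd
    norm_num at h9
  rw [hk1, pow_one] at hk
  refine ⟨rfl, ⟨e⟩, ?_⟩
  -- normalise the isomorphism
  set σ := transportConj e K hKR ⟨a, Subgroup.mem_zpowers a⟩ with hσ
  have hσ3 : σ ^ 3 = 1 := by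
    rw [hσ, ← map_pow, show (⟨a, Subgroup.mem_zpowers a⟩ : ↥K) ^ 3 = 1 from
      Subtype.ext (hk ▸ pow_orderOf_eq_one a), map_one]
  have hσ1 : σ ≠ 1 := fun h => ha1 (congrArg Subtype.val (hfaith e (h.trans (map_one _).symm)))
  obtain ⟨τ, hτ⟩ := aut_conj σ γ hσ3 hσ1 hγ hγ1
  set e' := e.trans τ with he'
  set χ := transportConj e' K hKR with hχ
  have hχa : χ ⟨a, Subgroup.mem_zpowers a⟩ = γ := by
    apply MulEquiv.ext
    intro q
    have h := DFunLike.congr_fun hτ (τ.symm q)
    rw [MulAut.mul_apply, MulAut.mul_apply, MulEquiv.apply_symm_apply] at h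
    exact h
  have hrange : χ.range = Subgroup.zpowers γ := by
    rw [← hχa, ← MonoidHom.map_zpowers, MonoidHom.range_eq_map]
    congr 1
    rw [eq_comm, Subgroup.eq_top_iff']
    rintro ⟨x, hx⟩
    obtain ⟨i, rfl⟩ := Subgroup.mem_zpowers_iff.mp hx
    exact ⟨i, Subtype.ext (by simp)⟩
  let ε : ↥K ≃* ↥(Subgroup.zpowers γ) := (MonoidHom.ofInjective (hfaith e')).trans (MulEquiv.subgroupCongr hrange)
  let ι : QuaternionGroup 2 →* SL(2, F) := R.subtype.comp e'.symm.toMonoidHom
  let fg : ↥(Subgroup.zpowers γ) →* SL(2, F) := K.subtype.comp ε.symm.toMonoidHom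
  have hcond : ∀ g, ι.comp ((Subgroup.zpowers γ).subtype g).toMonoidHom =
      (MulAut.conj (fg g)).toMonoidHom.comp ι := by
    intro g
    obtain ⟨x, rfl⟩ := ε.surjective g
    ext1 q
    show ((e'.symm (χ x q) : ↥R) : SL(2, F)) = (fg (ε x)) * (e'.symm q : SL(2, F)) * (fg (ε x))⁻¹
    rw [show fg (ε x) = (x : SL(2, F)) from congrArg Subtype.val (ε.symm_apply_apply x)]
    show ((e'.symm (e' _) : ↥R) : SL(2, F)) = _
    rw [e'.symm_apply_apply]
  let f := SemidirectProduct.lift ι fg hcond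
  have hdisj : R ⊓ K = ⊥ := by
    rw [CfsgLib.Coprime.inf_eq_bot_of_coprime]
    rw [hK, Nat.card_zpowers, hk]
    exact hR
  have hfinj : Function.Injective f := by
    rw [injective_iff_map_eq_one]
    rintro ⟨q, g⟩ h
    rw [← SemidirectProduct.inl_left_mul_inr_right (⟨q, g⟩ : _ ⋊[_] _), map_mul,
      SemidirectProduct.lift_inl, SemidirectProduct.lift_inr] at h
    have hmem : fg g ∈ R ⊓ K :=
      ⟨(eq_inv_of_mul_eq_one_right h) ▸ R.inv_mem (e'.symm q).2, (ε.symm g).2⟩
    rw [hdisj, Subgroup.mem_bot] at hmem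
    have hg1 : g = 1 := ε.symm.injective (Subtype.ext (hmem.trans (by simp)))
    rw [hmem, mul_one] at h
    have hq : q = 1 := e'.symm.injective (Subtype.ext (h.trans (by simp)))
    exact SemidirectProduct.ext hq hg1
  have hfr : f.range = R ⊔ K := by
    refine le_antisymm ?_ (sup_le ?_ ?_)
    · rintro _ ⟨⟨q, g⟩, rfl⟩
      rw [← SemidirectProduct.inl_left_mul_inr_right (⟨q, g⟩ : _ ⋊[_] _), map_mul,
        SemidirectProduct.lift_inl, SemidirectProduct.lift_inr]
      exact Subgroup.mul_mem_sup (e'.symm q).2 (ε.symm g).2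
    · intro r hr
      exact ⟨SemidirectProduct.inl (e' ⟨r, hr⟩), by
        rw [SemidirectProduct.lift_inl]; exact congrArg Subtype.val (e'.symm_apply_apply ⟨r, hr⟩)⟩
    · intro x hx
      exact ⟨SemidirectProduct.inr (ε ⟨x, hx⟩), by
        rw [SemidirectProduct.lift_inr]; exact congrArg Subtype.val (ε.symm_apply_apply ⟨x, hx⟩)⟩
  exact ⟨((MonoidHom.ofInjective hfinj).trans (MulEquiv.subgroupCongr hfr)).symm⟩

section three

/-- the Sylow `2`-subgroup of `SL(2,3)` -/
def quatThree : Subgroup SL(2, ZMod 3) where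
  carrier := {x | x ^ 4 = 1}
  one_mem' := one_pow 4
  mul_mem' := fun {x y} hx hy =>
    (show ∀ x y : SL(2, ZMod 3), x ^ 4 = 1 → y ^ 4 = 1 → (x * y) ^ 4 = 1 by decide +kernel) x y hx hy
  inv_mem' := fun {x} hx => by
    show x⁻¹ ^ 4 = 1
    rw [inv_pow, show x ^ 4 = 1 from hx, inv_one]

/-- a transvection of `SL(2,3)` -/
def transThree : SL(2, ZMod 3) := ⟨!![1, 1; 0, 1], by decide⟩

end three


/-- Let F be a finite field of odd characteristic p and let a be a p-element of SL₂(F) normalizing a subgroup R of order prime to p with [R, a] ≠ 1. Then p = 3, R is a quaternion group of order 8, and R⟨a⟩ is isomorphic to SL₂(3). -/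
theorem result (F : Type) [Field F] [Fintype F] {p : ℕ} [Fact p.Prime] [CharP F p] (hp : p ≠ 2) (a : Matrix.SpecialLinearGroup (Fin 2) F) (ha : IsPGroup p ↥(Subgroup.zpowers a)) (R : Subgroup (Matrix.SpecialLinearGroup (Fin 2) F)) (hR : (Nat.card R).Coprime p) (haR : a ∈ Subgroup.normalizer (R : Set (Matrix.SpecialLinearGroup (Fin 2) F))) (hnt : ⁅R, Subgroup.zpowers a⁆ ≠ ⊥) : p = 3 ∧ Nonempty (↥R ≃* QuaternionGroup 2) ∧ Nonempty (↥(R ⊔ Subgroup.zpowers a) ≃* Matrix.SpecialLinearGroup (Fin 2) (ZMod 3)) := by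
  haveI : Fact (Nat.Prime 3) := ⟨Nat.prime_three⟩
  obtain ⟨γ, hγ, hγ1⟩ : ∃ γ : MulAut (QuaternionGroup 2), γ ^ 3 = 1 ∧ γ ≠ 1 := by
    obtain ⟨f⟩ := Cfsg.Agent.S3742.result
    obtain ⟨x, hx, hx1⟩ : ∃ x : Equiv.Perm (Fin 4), x ^ 3 = 1 ∧ x ≠ 1 := by decide +kernel
    exact ⟨f.symm x, by rw [← map_pow, hx, map_one], fun h => hx1 (f.symm.injective (h.trans (map_one _).symm))⟩
  obtain ⟨h3, hQ, ⟨e⟩⟩ := core hp γ hγ hγ1 a ha R hR haR hnt
  refine ⟨h3, hQ, ?_⟩
  have hc4 : Fintype.card {x : Matrix.SpecialLinearGroup (Fin 2) (ZMod 3) // x ^ 4 = 1} = 8 := by decide +kernel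
  have hc : Nat.card quatThree = 8 := by
    rw [show Nat.card quatThree = Nat.card {x : Matrix.SpecialLinearGroup (Fin 2) (ZMod 3) // x ^ 4 = 1} from rfl,
      Nat.card_eq_fintype_card, hc4]
  have hc3 : Nat.card (Subgroup.zpowers transThree) = 3 := by
    rw [Nat.card_zpowers]
    exact orderOf_eq_prime (by decide +kernel) (by decide +kernel)
  obtain ⟨-, -, ⟨e3⟩⟩ := core (F := ZMod 3) (p := 3) (by norm_num) γ hγ hγ1 transThree
    (IsPGroup.of_card (n := 1) (by rw [hc3, pow_one])) quatThree (by rw [hc]; norm_num)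
    (by
      have hconj : ∀ g x : Matrix.SpecialLinearGroup (Fin 2) (ZMod 3), x ^ 4 = 1 → (g * x * g⁻¹) ^ 4 = 1 :=
        fun g x hx => by rw [conj_pow, hx, mul_one, mul_inv_cancel]
      rw [Subgroup.mem_normalizer_iff]
      intro x
      exact ⟨hconj _ x, fun h => show x ^ 4 = 1 by
        have := hconj transThree⁻¹ _ h
        simpa [mul_assoc] using (this : (transThree⁻¹ * (transThree * x * transThree⁻¹) * transThree⁻¹⁻¹) ^ 4 = 1)⟩)
    (by
      rw [Ne, Subgroup.commutator_eq_bot_iff_le_centralizer]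
      intro h
      obtain ⟨x, hx, hne⟩ : ∃ x : Matrix.SpecialLinearGroup (Fin 2) (ZMod 3),
          x ^ 4 = 1 ∧ transThree * x ≠ x * transThree := by decide +kernel
      exact hne (Subgroup.mem_centralizer_iff.mp (h (show x ∈ quatThree from hx)) transThree
        (Subgroup.mem_zpowers transThree)))
  have htop : quatThree ⊔ Subgroup.zpowers transThree = ⊤ := by
    refine Subgroup.eq_top_of_le_card _ (Nat.le_of_dvd Nat.card_pos ?_)
    rw [show Nat.card (Matrix.SpecialLinearGroup (Fin 2) (ZMod 3)) = 8 * 3 by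
      rw [Nat.card_eq_fintype_card]; decide +kernel]
    exact Nat.Coprime.mul_dvd_of_dvd_of_dvd (by norm_num) (hc.symm.dvd.trans (Subgroup.card_dvd_of_le le_sup_left))
      (hc3.symm.dvd.trans (Subgroup.card_dvd_of_le le_sup_right))
  exact ⟨e.trans (e3.symm.trans ((MulEquiv.subgroupCongr htop).trans Subgroup.topEquiv))⟩

end Cfsg.Agent.S3740
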