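import Cfsg.Statements.S3741

set_option autoImplicit false
open Cfsg

namespace Cfsg.Agent.S3741

open scoped commutatorElement

open scoped Classical in
theorem count {G : Type*} [Group G] [Finite G] {p : ℕ} (A B D : Subgroup G) (hD : Nat.card D = p)
    (hpr : p.Prime) (hcen : ∀ d ∈ D, ∀ g ∈ A ⊔ B, g * d = d * g) (hAB : ∀ a ∈ A, ∀ b ∈ B, ⁅a, b⁆ ∈ D) :
    p * Nat.card {ab : ↥A × ↥B // Commute (ab.1 : G) ab.2} + Nat.card (A ⊓ Subgroup.centralizer (B : Set G) : Subgroup G) * Nat.card B
      = p * (Nat.card (A ⊓ Subgroup.centralizer (B : Set G) : Subgroup G) * Nat.card B) + Nat.card A * Nat.card B := by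
  haveI := Fintype.ofFinite ↥A
  rw [Nat.card_congr (Equiv.subtypeProdEquivSigmaSubtype fun (a : ↥A) (b : ↥B) => Commute (a : G) b),
    Nat.card_sigma]
  have key : ∀ a : ↥A, p * Nat.card {b : ↥B // Commute (a : G) b} =
      if (a : G) ∈ Subgroup.centralizer (B : Set G) then p * Nat.card B else Nat.card B := by
    intro a
    split_ifs with ha
    · congr 1
      exact Nat.card_congr (Equiv.subtypeUnivEquiv fun b =>
        (show Commute (b : G) a from Subgroup.mem_centralizer_iff.mp ha b b.2).symm)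
    · let φ : ↥B →* ↥D :=
        { toFun := fun b => ⟨⁅(a : G), (b : G)⁆, hAB a a.2 b b.2⟩
          map_one' := by ext; simp
          map_mul' := fun b c => Subtype.ext (by
            show ⁅(a : G), (b : G) * c⁆ = ⁅(a : G), (b : G)⁆ * ⁅(a : G), (c : G)⁆
            rw [commutatorElement_mul_right_eq_mul_conj]
            simp only [mul_assoc]
            congr 1
            rw [← mul_assoc, hcen _ (hAB a a.2 c c.2) b (Subgroup.mem_sup_right b.2), mul_assoc,
              mul_inv_cancel, mul_one]) }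
      have hker : Nat.card φ.ker = Nat.card {b : ↥B // Commute (a : G) b} :=
        Nat.card_congr (Equiv.subtypeEquivRight fun b => by
          rw [MonoidHom.mem_ker, ← commutatorElement_eq_one_iff_commute]
          exact Subtype.ext_iff)
      have hne : φ.range ≠ ⊥ := by
        intro h
        apply ha
        rw [Subgroup.mem_centralizer_iff]
        intro b hb
        have h1 : φ ⟨b, hb⟩ ∈ φ.range := ⟨_, rfl⟩
        rw [h, Subgroup.mem_bot] at h1
        exact (commutatorElement_eq_one_iff_mul_comm.mp (congrArg Subtype.val h1)).symm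
      have hr : Nat.card φ.range = p := by
        rcases (Nat.dvd_prime hpr).mp (hD ▸ Subgroup.card_subgroup_dvd_card φ.range) with h | h
        · exact absurd (Subgroup.card_eq_one.mp h) hne
        · exact h
      rw [← hker, ← Subgroup.card_mul_index φ.ker, Subgroup.index_ker, hr, mul_comm]
  rw [Finset.mul_sum, Finset.sum_congr rfl (fun a _ => key a), Finset.sum_ite, Finset.sum_const,
    Finset.sum_const, smul_eq_mul, smul_eq_mul]
  have hc : (Finset.univ.filter fun a : ↥A => (a : G) ∈ Subgroup.centralizer (B : Set G)).card =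
      Nat.card (A ⊓ Subgroup.centralizer (B : Set G) : Subgroup G) := by
    rw [← Nat.card_congr (Subgroup.subgroupOfEquivOfLe (inf_le_left : A ⊓ Subgroup.centralizer (B : Set G) ≤ A)).toEquiv]
    refine (Nat.subtype_card _ fun a => ?_).symm
    rw [Finset.mem_filter, Subgroup.mem_subgroupOf, Subgroup.mem_inf]
    exact ⟨fun h => ⟨a.2, h.2⟩, fun h => ⟨Finset.mem_univ _, h.2⟩⟩
  have hsplit := Finset.card_filter_add_card_filter_not
    (s := (Finset.univ : Finset ↥A)) (fun a : ↥A => (a : G) ∈ Subgroup.centralizer (B : Set G))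
  rw [Finset.card_univ, ← Nat.card_eq_fintype_card, hc] at hsplit
  rw [hc, ← hsplit]
  ring

/-- Let A and B be subgroups of a finite p-group with [A, B] ≤ A ∩ B and [A, B] of order at most p. Then |A : C_A(B)| = |B : C_B(A)|. -/
theorem result {G : Type*} [Group G] [Finite G] {p : ℕ} [Fact p.Prime] (hG : IsPGroup p G) (A B : Subgroup G) (hAB : ⁅A, B⁆ ≤ A ⊓ B) (hcard : Nat.card ↥⁅A, B⁆ ≤ p) : (A ⊓ Subgroup.centralizer (B : Set G)).relIndex A = (B ⊓ Subgroup.centralizer (A : Set G)).relIndex B := by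
  set D := ⁅A, B⁆ with hDdef
  obtain ⟨k, hk⟩ := IsPGroup.iff_card.mp (hG.to_subgroup D)
  have hmem : ∀ a ∈ A, ∀ b ∈ B, ⁅a, b⁆ ∈ D := fun a ha b hb => Subgroup.commutator_mem_commutator ha hb
  rcases Nat.eq_zero_or_pos k with rfl | hkpos
  · rw [pow_zero, Subgroup.card_eq_one, Subgroup.commutator_eq_bot_iff_le_centralizer] at hk
    rw [Subgroup.relIndex_eq_one.mpr (le_inf le_rfl hk),
      Subgroup.relIndex_eq_one.mpr (le_inf le_rfl (Subgroup.le_centralizer_iff.mp hk))]
  have hk1 : k = 1 := by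
    have h : p ^ k ≤ p ^ 1 := by rw [pow_one, ← hk]; exact hcard
    have := (Nat.pow_le_pow_iff_right (Fact.out : p.Prime).one_lt).mp h
    omega
  rw [hk1, pow_one] at hk
  -- `D` is central in `A ⊔ B`
  have hnD : A ⊔ B ≤ Subgroup.normalizer (D : Set G) :=
    sup_le (Subgroup.normalizer_commutator_ge_left A B) (Subgroup.normalizer_commutator_ge_right A B)
  have hcen : ∀ d ∈ D, ∀ g ∈ A ⊔ B, g * d = d * g := by
    set L := A ⊔ B
    letI : MulAction ↥L ↥D :=
      { smul := fun g d => ⟨(g : G) * d * (g : G)⁻¹, (Subgroup.mem_normalizer_iff.mp (hnD g.2) d).mp d.2⟩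
        one_smul := fun d => Subtype.ext (by show (1 : G) * d * (1 : G)⁻¹ = d; simp)
        mul_smul := fun g h d => Subtype.ext (by
          show ((g : G) * h) * d * ((g : G) * h)⁻¹ = g * (h * d * (h : G)⁻¹) * (g : G)⁻¹
          group) }
    obtain ⟨d₀, hd₀, hd₀1⟩ := (hG.to_subgroup L).exists_fixed_point_of_prime_dvd_card_of_fixed_point
      (α := ↥D) (by rw [hk]) (a := 1) (fun g => Subtype.ext (by show (g : G) * (1 : G) * (g : G)⁻¹ = 1; simp))
    intro d hd g hg
    have htop : Subgroup.zpowers d₀ = ⊤ := zpowers_eq_top_of_prime_card hk (Ne.symm hd₀1)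
    obtain ⟨i, hi⟩ := Subgroup.mem_zpowers_iff.mp (htop ▸ Subgroup.mem_top (⟨d, hd⟩ : ↥D))
    have h1 : (g : G) * d₀ * g⁻¹ = d₀ := congrArg Subtype.val (hd₀ ⟨g, hg⟩)
    have h2 : Commute g (d₀ : G) := mul_inv_eq_iff_eq_mul.mp h1
    have h3 : ((d₀ : G)) ^ i = d := by simpa using congrArg Subtype.val hi
    exact h3 ▸ (h2.zpow_right i).eq
  have h1 := count A B D hk Fact.out hcen hmem
  have h2 := count B A D hk Fact.out (fun d hd g hg => hcen d hd g (sup_comm A B ▸ hg))
    (fun b hb a ha => by rw [← commutatorElement_inv]; exact D.inv_mem (hmem a ha b hb))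
  have hswap : Nat.card {ab : ↥A × ↥B // Commute (ab.1 : G) ab.2} =
      Nat.card {ab : ↥B × ↥A // Commute (ab.1 : G) ab.2} :=
    Nat.card_congr ((Equiv.prodComm _ _).subtypeEquiv fun ab => commute_iff_eq _ _ |>.trans eq_comm)
  rw [← hswap] at h2
  set CA := A ⊓ Subgroup.centralizer (B : Set G)
  set CB := B ⊓ Subgroup.centralizer (A : Set G)
  have hA := Subgroup.relIndex_mul_relIndex ⊥ CA A bot_le inf_le_left
  have hB := Subgroup.relIndex_mul_relIndex ⊥ CB B bot_le inf_le_left
  rw [Subgroup.relIndex_bot_left, Subgroup.relIndex_bot_left] at hA hB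
  have he : (Nat.card CA : ℤ) * Nat.card B = (Nat.card CB : ℤ) * Nat.card A := by
    have e1 := congrArg (Nat.cast : ℕ → ℤ) h1
    have e2 := congrArg (Nat.cast : ℕ → ℤ) h2
    push_cast at e1 e2
    have hp1 : ((p : ℤ) - 1) ≠ 0 := by
      have := (Fact.out : p.Prime).two_le
      omega
    apply mul_left_cancel₀ hp1
    linarith [e1, e2]
  rw [← hA, ← hB] at he
  push_cast at he
  have h0 : (Nat.card CA : ℤ) * Nat.card CB ≠ 0 :=
    mul_ne_zero (Nat.cast_ne_zero.mpr Nat.card_pos.ne') (Nat.cast_ne_zero.mpr Nat.card_pos.ne')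
  have hfin : (CA.relIndex A : ℤ) = CB.relIndex B := mul_left_cancel₀ h0 (by linarith [he])
  exact_mod_cast hfin

end Cfsg.Agent.S3741
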