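import Cfsg.Statements.S3744
import Cfsg.Agent.PSolvHall69.PComplement
import Cfsg.Agent.Solvable.SchurZassenhaus

set_option autoImplicit false
open Cfsg

namespace Cfsg.Agent.S3744

open CfsgLib

universe u

theorem map_conj_map_conj {G : Type*} [Group G] (U : Subgroup G) (a b : G) :
    (U.map (MulAut.conj b).toMonoidHom).map (MulAut.conj a).toMonoidHom =
      U.map (MulAut.conj (a * b)).toMonoidHom := by
  rw [Subgroup.map_map]
  congr 1
  ext x
  simp [mul_assoc]

theorem conj_le_aux {p : ℕ} [Fact p.Prime] (n : ℕ) : ∀ (G : Type u) [Group G] [Finite G],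
    Nat.card G ≤ n → Cfsg.IsPSolvable p G → ∀ H U : Subgroup G, ¬ p ∣ Nat.card H →
      (∃ k : ℕ, H.index = p ^ k) → ¬ p ∣ Nat.card U →
      ∃ g : G, U.map (MulAut.conj g).toMonoidHom ≤ H := by
  induction n with
  | zero => intro G _ _ h; exact absurd h (by have := Nat.card_pos (α := G); omega)
  | succ n ih =>
    intro G _ _ hn hG H U hH hk hU
    obtain ⟨k, hk⟩ := hk
    have hp : p.Prime := Fact.out
    rcases subsingleton_or_nontrivial G with hs | hs
    · exact ⟨1, fun x _ => by rw [Subsingleton.elim x 1]; exact H.one_mem⟩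
    have lift : ∀ N : Subgroup G, N.Normal → N ≠ ⊥ →
        ∃ g : G, U.map (MulAut.conj g).toMonoidHom ≤ H ⊔ N := by
      intro N hN hne
      haveI := hN
      have hlt : Nat.card (G ⧸ N) ≤ n := by
        have h1 := Subgroup.card_eq_card_quotient_mul_card_subgroup N
        have h2 : 2 ≤ Nat.card N := (Subgroup.one_lt_card_iff_ne_bot N).mpr hne
        have h3 : 0 < Nat.card (G ⧸ N) := Nat.card_pos
        have h4 : 2 * Nat.card (G ⧸ N) ≤ Nat.card G := by
          rw [h1, mul_comm 2]; exact Nat.mul_le_mul_left _ h2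
        omega
      set q := QuotientGroup.mk' N
      obtain ⟨j, -, hj⟩ := (Nat.dvd_prime_pow hp).mp
        (hk ▸ H.index_map_dvd (QuotientGroup.mk'_surjective N))
      obtain ⟨gb, hgb⟩ := ih (G ⧸ N) hlt (PLocal.isPSolvable_quotient hG N) (H.map q) (U.map q)
        (fun h => hH (h.trans (Subgroup.card_map_dvd _ _))) ⟨j, hj⟩
        (fun h => hU (h.trans (Subgroup.card_map_dvd _ _)))
      obtain ⟨g, rfl⟩ := QuotientGroup.mk'_surjective N gb
      refine ⟨g, ?_⟩
      rintro _ ⟨u, hu, rfl⟩
      rw [show H ⊔ N = (H.map q).comap q by rw [Subgroup.comap_map_eq, QuotientGroup.ker_mk'],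
        Subgroup.mem_comap]
      exact hgb ⟨q u, Subgroup.mem_map_of_mem q hu, by simp [q]⟩
    rcases PLocal.pCore_ne_bot_or_of_isPSolvable hG with h | h
    · obtain ⟨g, hg⟩ := lift _ inferInstance h
      set N := Cfsg.pCore p G
      set L := H ⊔ N
      have hN : IsPGroup p N := PLocal.isPGroup_pCore p G
      obtain ⟨e, he⟩ := IsPGroup.iff_card.mp hN
      haveI : Group.IsNilpotent ↥(N.subgroupOf L) := (hN.comap_subtype (H := N)).isNilpotent
      have hc : Subgroup.IsComplement' (N.subgroupOf L) (H.subgroupOf L) := by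
        refine Subgroup.isComplement'_of_disjoint_and_mul_eq_univ ?_ ?_
        · refine Solvable.disjoint_of_coprime ?_
          rw [Nat.card_congr (Subgroup.subgroupOfEquivOfLe (le_sup_right : N ≤ L)).toEquiv,
            Nat.card_congr (Subgroup.subgroupOfEquivOfLe (le_sup_left : H ≤ L)).toEquiv, he]
          exact (((hp.coprime_iff_not_dvd).mpr hH).pow_left e).symm
        · rw [← Subgroup.normal_mul, ← Subgroup.subgroupOf_sup le_sup_right le_sup_left, sup_comm,
            Subgroup.subgroupOf_self, Subgroup.coe_top]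
      obtain ⟨m, hm, hmle⟩ := Solvable.exists_conj_le_of_coprime (Or.inl inferInstance) hc
        (U := (U.map (MulAut.conj g).toMonoidHom).subgroupOf L) (by
          rw [Nat.card_congr (Subgroup.subgroupOfEquivOfLe hg).toEquiv,
            Nat.card_congr (Subgroup.subgroupOfEquivOfLe (le_sup_right : N ≤ L)).toEquiv, he,
            Subgroup.card_map_of_injective (MulAut.conj g).injective]
          exact (((hp.coprime_iff_not_dvd).mpr hU).pow_left e).symm)
      refine ⟨(m : G) * g, ?_⟩
      rw [← map_conj_map_conj]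
      rintro _ ⟨u, hu, rfl⟩
      have := hmle (Subgroup.smul_mem_pointwise_smul (⟨u, hg hu⟩ : ↥L) (MulAut.conj m) _
        (show u ∈ U.map (MulAut.conj g).toMonoidHom from hu))
      exact this
    · obtain ⟨g, hg⟩ := lift _ inferInstance h
      refine ⟨g, hg.trans (le_of_eq ?_)⟩
      refine (Subgroup.eq_of_le_of_card_ge le_sup_left (Nat.le_of_dvd Nat.card_pos ?_)).symm
      have hd : Nat.card ↥(H ⊔ Cfsg.pPrimeCore p G) ∣ Nat.card H * p ^ k := by
        rw [← hk, H.card_mul_index]; exact Subgroup.card_subgroup_dvd_card _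
      refine Nat.Coprime.dvd_of_dvd_mul_right (Nat.Coprime.pow_right k ?_) hd
      rw [PLocal.not_dvd_iff_coprime]
      intro hd'
      have hc := PLocal.not_dvd_iff_coprime.mp (PLocal.coprime_card_pPrimeCore p G)
      rw [← sup_comm, ← PLocal.card_mul_relIndex (le_sup_left : Cfsg.pPrimeCore p G ≤ _), hp.dvd_mul,
        Subgroup.relIndex_sup_left] at hd'
      exact hd'.elim hc fun h' => hH (h'.trans (Subgroup.relIndex_dvd_card _ _))


/-- A finite p-soluble group has a p-complement, all its p-complements are conjugate, and every subgroup of order prime to p lies in one of them. Here a p-complement is a subgroup of order prime to p whose index is a power of p. -/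
theorem result {G : Type*} [Group G] [Finite G] {p : ℕ} [Fact p.Prime] (hG : Cfsg.IsPSolvable p G) : (∃ H : Subgroup G, (Nat.card H).Coprime p ∧ ∃ n : ℕ, H.index = p ^ n) ∧ (∀ H₁ H₂ : Subgroup G, (Nat.card H₁).Coprime p → (∃ n : ℕ, H₁.index = p ^ n) → (Nat.card H₂).Coprime p → (∃ n : ℕ, H₂.index = p ^ n) → ∃ g : G, H₂ = H₁.map (MulAut.conj g).toMonoidHom) ∧ (∀ U : Subgroup G, (Nat.card U).Coprime p → ∃ H : Subgroup G, (Nat.card H).Coprime p ∧ (∃ n : ℕ, H.index = p ^ n) ∧ ∃ g : G, U.map (MulAut.conj g).toMonoidHom ≤ H) := by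
  have hp : p.Prime := Fact.out
  have hnd : ∀ H : Subgroup G, (Nat.card H).Coprime p → ¬ p ∣ Nat.card H := fun H h =>
    CfsgLib.PLocal.not_dvd_iff_coprime.mp h
  obtain ⟨K, hK, hKk⟩ := CfsgLib.PSolvHall69.exists_pComplement hG
  refine ⟨⟨K, CfsgLib.PLocal.not_dvd_iff_coprime.mpr hK, hKk⟩, ?_, ?_⟩
  · intro H₁ H₂ h1 hk1 h2 hk2
    obtain ⟨g, hg⟩ := conj_le_aux _ G le_rfl hG H₂ H₁ (hnd _ h2) hk2 (hnd _ h1)
    refine ⟨g, (Subgroup.eq_of_le_of_card_ge hg ?_).symm⟩
    rw [Subgroup.card_map_of_injective (MulAut.conj g).injective]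
    obtain ⟨a, ha⟩ := hk1
    have hd : Nat.card H₂ ∣ Nat.card H₁ * p ^ a := by
      rw [← ha, H₁.card_mul_index]; exact Subgroup.card_subgroup_dvd_card _
    exact Nat.le_of_dvd Nat.card_pos (Nat.Coprime.dvd_of_dvd_mul_right (h2.pow_right a) hd)
  · intro U hU
    exact ⟨K, CfsgLib.PLocal.not_dvd_iff_coprime.mpr hK, hKk,
      conj_le_aux _ G le_rfl hG K U hK hKk (hnd _ hU)⟩

end Cfsg.Agent.S3744
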