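import Cfsg.Statements.S3746
import Cfsg.Agent.Components.Basic
import Cfsg.Agent.HallHigman.MinimalAction

set_option autoImplicit false
open Cfsg
open scoped commutatorElement

namespace Cfsg.Agent.S3746

/-- Let Z ≤ Z(G) be a central subgroup of a finite group G and E a subgroup of G containing Z whose image E/Z is a component of G/Z (subnormal and quasisimple). Then the derived subgroup [E, E] is a component of G. -/
theorem result {G : Type*} [Group G] [Finite G] (Z : Subgroup G) (hZ : Z ≤ Subgroup.center G) [Z.Normal] (E : Subgroup G) (hZE : Z ≤ E) (hE : Cfsg.IsComponent (E.map (QuotientGroup.mk' Z))) : Cfsg.IsComponent ⁅E, E⁆ := by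
  have _ : Finite G := inferInstance
  set f := QuotientGroup.mk' Z with hf
  set D := ⁅E, E⁆ with hD
  have hperf := CfsgLib.Components.IsComponent.commutator_eq_self hE
  have hker : f.ker = Z := QuotientGroup.ker_mk' Z
  have hfD : D.map f = E.map f := by rw [hD, Subgroup.map_commutator, hperf]
  have hDE : D ≤ E := Subgroup.commutator_le_self E
  have hEDZ : E ≤ D ⊔ Z := by
    intro e he
    obtain ⟨d, hd, hde⟩ := hfD.ge ⟨e, he, rfl⟩
    have hz : d⁻¹ * e ∈ Z := hker ▸ (MonoidHom.mem_ker.mpr (by rw [map_mul, map_inv, hde]; group))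
    have := mul_mem (Subgroup.mem_sup_left (T := Z) hd) (Subgroup.mem_sup_right (S := D) hz)
    simpa using this
  have hcen : ∀ z ∈ Z, ∀ g : G, g * z = z * g := fun z hz g =>
    Subgroup.mem_center_iff.mp (hZ hz) g
  have hDD : ⁅D, D⁆ = D := by
    refine le_antisymm (Subgroup.commutator_le_self D) ?_
    conv_lhs => rw [hD]
    rw [Subgroup.commutator_le]
    intro a ha b hb
    obtain ⟨x, hx, y, hy, rfl⟩ := Subgroup.mem_sup_of_normal_right.mp (hEDZ ha)
    obtain ⟨u, hu, v, hv, rfl⟩ := Subgroup.mem_sup_of_normal_right.mp (hEDZ hb)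
    have h : ⁅x * y, u * v⁆ = ⁅x, u⁆ := by
      have h1 : ∀ g, Commute y g := fun g => (hcen y hy g).symm
      have h2 : ∀ g, Commute v g := fun g => (hcen v hv g).symm
      rw [commutatorElement_def, commutatorElement_def]
      calc x * y * (u * v) * (x * y)⁻¹ * (u * v)⁻¹
          = x * (y * u) * (v * y⁻¹) * x⁻¹ * v⁻¹ * u⁻¹ := by group
        _ = x * (u * y) * (y⁻¹ * v) * x⁻¹ * v⁻¹ * u⁻¹ := by rw [(h1 u).eq, (h2 y⁻¹).eq]
        _ = x * u * (v * x⁻¹) * v⁻¹ * u⁻¹ := by group
        _ = x * u * (x⁻¹ * v) * v⁻¹ * u⁻¹ := by rw [(h2 x⁻¹).eq]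
        _ = x * u * x⁻¹ * u⁻¹ := by group
    rw [h]
    exact Subgroup.commutator_mem_commutator hx hu
  have hne : D ≠ ⊥ := by
    intro h
    apply CfsgLib.Components.IsComponent.ne_bot hE
    rw [← hfD, h, Subgroup.map_bot]
  haveI : Nontrivial D := (Subgroup.nontrivial_iff_ne_bot D).mpr hne
  have hEsn : E.IsSubnormal := by
    have h := hE.1.comap f
    rwa [Subgroup.comap_map_eq, hker, sup_eq_left.mpr hZE] at h
  have hDn : (D.subgroupOf E).Normal :=
    (Subgroup.normal_subgroupOf_iff_le_normalizer hDE).mpr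
      (CfsgLib.HallHigman.le_normalizer_commutator Subgroup.le_normalizer Subgroup.le_normalizer)
  refine ⟨Subgroup.IsSubnormal.step D E hDE hEsn hDn, ?_⟩
  refine CfsgLib.Components.isQuasisimple_of_normal_le_center ?_ ?_
  · rw [← Subgroup.map_subtype_inj, Subgroup.map_commutator, ← MonoidHom.range_eq_map,
      Subgroup.range_subtype, hDD]
  intro N hN hNtop
  set N' := N.map D.subtype with hN'
  have hND : N' ≤ D := Subgroup.map_subtype_le N
  have hfN : ((N'.map f).subgroupOf (E.map f)).Normal := by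
    rw [Subgroup.normal_subgroupOf_iff_le_normalizer (Subgroup.map_mono (hND.trans hDE)), ← hfD]
    refine le_trans (Subgroup.map_mono ?_) (Subgroup.le_normalizer_map f)
    rw [← Subgroup.normal_subgroupOf_iff_le_normalizer hND]
    have : N'.subgroupOf D = N := Subgroup.comap_map_eq_self_of_injective D.subtype_injective N
    rw [this]; exact hN
  rcases CfsgLib.Components.IsQuasisimple.normal_eq_top_or_le_center hE.2
    ((N'.map f).subgroupOf (E.map f)) with h | h
  · exfalso
    apply hNtop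
    rw [Subgroup.subgroupOf_eq_top] at h
    have hDN : D ≤ N' ⊔ Z := by
      intro d hd
      obtain ⟨n, hn, hnd⟩ := h (hfD ▸ ⟨d, hd, rfl⟩ : f d ∈ E.map f)
      have hz : n⁻¹ * d ∈ Z := hker ▸ (MonoidHom.mem_ker.mpr (by rw [map_mul, map_inv, hnd]; group))
      have := mul_mem (Subgroup.mem_sup_left (T := Z) hn) (Subgroup.mem_sup_right (S := N') hz)
      simpa using this
    have hle : D ≤ N' := by
      conv_lhs => rw [← hDD]
      rw [Subgroup.commutator_le]
      intro a ha b hb
      obtain ⟨x, hx, y, hy, rfl⟩ := Subgroup.mem_sup_of_normal_right.mp (hDN ha)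
      have h1 : ∀ g, Commute y g := fun g => (hcen y hy g).symm
      have hbD := hb
      have h2 : x * y * b * (x * y)⁻¹ * b⁻¹ = x * b * x⁻¹ * b⁻¹ := by
        calc x * y * b * (x * y)⁻¹ * b⁻¹ = x * (y * b) * y⁻¹ * x⁻¹ * b⁻¹ := by group
          _ = x * (b * y) * y⁻¹ * x⁻¹ * b⁻¹ := by rw [(h1 b).eq]
          _ = _ := by group
      rw [commutatorElement_def, h2]
      have hx' : x⁻¹ ∈ N' := N'.inv_mem hx
      obtain ⟨w, hw, hwx⟩ := hx'
      have : b * x⁻¹ * b⁻¹ ∈ N' :=
        ⟨⟨b, hbD⟩ * w * ⟨b, hbD⟩⁻¹, hN.conj_mem w hw _, by simp [← hwx]⟩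
      have := N'.mul_mem hx this
      simpa [mul_assoc] using this
    rw [← Subgroup.map_subtype_inj, ← MonoidHom.range_eq_map, Subgroup.range_subtype]
    exact le_antisymm hND hle
  · have hNDZ : ⁅N', D⁆ ≤ Z := by
      rw [← hker, ← Subgroup.map_eq_bot_iff, Subgroup.map_commutator, hfD,
        Subgroup.commutator_eq_bot_iff_le_centralizer]
      intro a ha
      rw [Subgroup.mem_centralizer_iff]
      intro b hb
      have := Subgroup.mem_center_iff.mp
        (h (show (⟨a, Subgroup.map_mono (hND.trans hDE) ha⟩ : E.map f) ∈ (N'.map f).subgroupOf (E.map f) from ha)) ⟨b, hb⟩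
      exact congrArg Subtype.val this
    have hZD : ⁅Z, D⁆ = ⊥ := le_bot_iff.mp (le_trans (Subgroup.commutator_mono hZ le_rfl)
      (Subgroup.commutator_center_left D).le)
    have h1 : ⁅⁅D, N'⁆, D⁆ = ⊥ := by
      rw [eq_bot_iff, ← hZD]
      exact Subgroup.commutator_mono (Subgroup.commutator_comm D N' ▸ hNDZ) le_rfl
    have h2 : ⁅⁅N', D⁆, D⁆ = ⊥ := by
      rw [eq_bot_iff, ← hZD]
      exact Subgroup.commutator_mono hNDZ le_rfl
    have h3 := Subgroup.commutator_commutator_eq_bot_of_rotate (H₁ := D) (H₂ := D) (H₃ := N') h1 h2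
    rw [hDD] at h3
    intro n hn
    rw [Subgroup.mem_center_iff]
    intro d
    exact Subtype.ext (Subgroup.mem_centralizer_iff.mp
      (Subgroup.commutator_eq_bot_iff_le_centralizer.mp h3 d.2) (n : G) ⟨n, hn, rfl⟩).symm

end Cfsg.Agent.S3746
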