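import Cfsg.Statements.S3749
import Cfsg.Agent.HallHigman.MinimalAction
import Cfsg.Agent.PLocal.Cores

set_option autoImplicit false
open Cfsg

namespace Cfsg.Agent.S3749

/-- Call a proper subgroup M of G primitive when M = N_G(N) for every non-trivial normal subgroup N of M. Let M be a primitive subgroup of the finite group G, p a prime with O_p(M) ≠ 1, and N a normal subgroup of G with M ∩ N = 1. Then p does not divide the order of N; for every prime q there is exactly one Sylow q-subgroup of N normalized by M; and if the order of N has at least two prime divisors then M is not a maximal subgroup of G. -/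
theorem result {G : Type*} [Group G] [Finite G] (M : Subgroup G) (hM : M ≠ ⊤) (hprim : ∀ N : Subgroup G, N ≤ M → M ≤ Subgroup.normalizer (N : Set G) → N ≠ ⊥ → Subgroup.normalizer (N : Set G) = M) {p : ℕ} [Fact p.Prime] (hOp : Cfsg.pCore p ↥M ≠ ⊥) (N : Subgroup G) [N.Normal] (hMN : M ⊓ N = ⊥) : ¬ p ∣ Nat.card N ∧ (∀ q : ℕ, [Fact q.Prime] → ∃! Q : Sylow q ↥N, M ≤ Subgroup.normalizer ((Q : Subgroup ↥N).map N.subtype : Set G)) ∧ ((∃ q r : ℕ, q.Prime ∧ r.Prime ∧ q ≠ r ∧ q ∣ Nat.card N ∧ r ∣ Nat.card N) → ¬ IsCoatom M) := by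
  haveI := ‹N.Normal›
  set P := (Cfsg.pCore p ↥M).map M.subtype with hPdef
  have hPM : P ≤ M := Subgroup.map_subtype_le _
  have hPp : IsPGroup p P := (CfsgLib.PLocal.isPGroup_pCore p ↥M).map _
  have hMP : M ≤ Subgroup.normalizer (P : Set G) :=
    CfsgLib.HallHigman.le_normalizer_map_char Subgroup.le_normalizer _
  have hNP : Subgroup.normalizer (P : Set G) = M := hprim P hPM hMP
    fun h => hOp ((Subgroup.map_eq_bot_iff_of_injective _ M.subtype_injective).mp h)
  have hCN : N ⊓ Subgroup.centralizer (P : Set G) = ⊥ := by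
    rw [eq_bot_iff, ← hMN]
    exact le_inf (inf_le_right.trans ((Subgroup.centralizer_le_normalizer _).trans hNP.le)) inf_le_left
  have hPN : P ≤ Subgroup.normalizer (N : Set G) := Subgroup.le_normalizer_of_normal
  have hpN : ¬ p ∣ Nat.card N := by
    intro hd
    letI : MulAction ↥P ↥N :=
      { smul := fun g n => ⟨(g : G) * n * (g : G)⁻¹, ‹N.Normal›.conj_mem n n.2 g⟩
        one_smul := fun n => Subtype.ext (by show (1 : G) * n * (1 : G)⁻¹ = n; simp)
        mul_smul := fun g h n => Subtype.ext (by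
          show ((g : G) * h) * n * ((g : G) * h)⁻¹ = g * (h * n * (h : G)⁻¹) * (g : G)⁻¹
          group) }
    obtain ⟨n, hn, hn1⟩ := hPp.exists_fixed_point_of_prime_dvd_card_of_fixed_point (α := ↥N) hd
      (a := 1) (fun g => Subtype.ext (by show (g : G) * (1 : G) * (g : G)⁻¹ = 1; simp))
    have h : (n : G) ∈ N ⊓ Subgroup.centralizer (P : Set G) := ⟨n.2, Subgroup.mem_centralizer_iff.mpr
      fun g hg => mul_inv_eq_iff_eq_mul.mp (congrArg Subtype.val (hn ⟨g, hg⟩))⟩
    rw [hCN, Subgroup.mem_bot] at h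
    exact hn1 (Subtype.ext h).symm
  obtain ⟨k, hk⟩ := IsPGroup.iff_card.mp hPp
  have hcop : (Nat.card P).Coprime (Nat.card N) := by
    rw [hk]; exact ((Fact.out : p.Prime).coprime_iff_not_dvd.mpr hpN).pow_left k
  haveI : Group.IsNilpotent P := hPp.isNilpotent
  have hsolv : Group.IsSolvable P := inferInstance
  have huniq : ∀ (q : ℕ) [Fact q.Prime] (Q R : Sylow q ↥N),
      P ≤ Subgroup.normalizer (((Q : Subgroup ↥N).map N.subtype : Subgroup G) : Set G) →
      P ≤ Subgroup.normalizer (((R : Subgroup ↥N).map N.subtype : Subgroup G) : Set G) → Q = R := by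
    intro q _ Q R hQ hR
    obtain ⟨g, hg, hgQ⟩ := CfsgLib.Coprime.exists_conj_map_sylow Q R
    obtain ⟨c, hc, hcQ⟩ := CfsgLib.Coprime.exists_conj_eq_of_invariant hPN hcop (Or.inl hsolv) hQ hR hg hgQ
    rw [hCN, Subgroup.mem_bot] at hc
    rw [hc, map_one, one_smul] at hcQ
    exact Sylow.ext (Subgroup.map_subtype_inj.mp hcQ)
  have hex : ∀ (q : ℕ) [Fact q.Prime], ∃ Q : Sylow q ↥N,
      M ≤ Subgroup.normalizer (((Q : Subgroup ↥N).map N.subtype : Subgroup G) : Set G) := by
    intro q _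
    obtain ⟨Q, hQ⟩ := CfsgLib.Coprime.exists_invariant_sylow hPN hcop (Or.inl hsolv) q
    refine ⟨Q, fun m hm => ?_⟩
    set Q' := ((Q : Subgroup ↥N).map N.subtype).map (MulAut.conj m).toMonoidHom with hQ'
    have hQ'N : Q' ≤ N := by
      rintro _ ⟨x, hx, rfl⟩
      exact ‹N.Normal›.conj_mem x (Subgroup.map_subtype_le _ hx) m
    have hcard : Nat.card (Q'.subgroupOf N) = q ^ (Nat.card ↥N).factorization q := by
      rw [Nat.card_congr (Subgroup.subgroupOfEquivOfLe hQ'N).toEquiv, hQ',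
        Subgroup.card_map_of_injective (MulAut.conj m).injective,
        Subgroup.card_map_of_injective N.subtype_injective, Q.card_eq_multiplicity]
    have hinv : P ≤ Subgroup.normalizer (Q' : Set G) := by
      refine le_trans ?_ (Subgroup.le_normalizer_map (MulAut.conj m).toMonoidHom)
      intro x hx
      refine ⟨m⁻¹ * x * m, hQ ((Subgroup.mem_normalizer_iff''.mp (hMP hm) x).mp hx), ?_⟩
      simp [mul_assoc]
    set R := Sylow.ofCard (Q'.subgroupOf N) hcard with hR
    have hRmap : (R : Subgroup ↥N).map N.subtype = Q' := by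
      rw [hR, Sylow.coe_ofCard, Subgroup.map_subgroupOf_eq_of_le hQ'N]
    have := huniq q Q R hQ (hRmap.symm ▸ hinv)
    rw [Subgroup.mem_normalizer_iff_map_conj_eq]
    conv_rhs => rw [this, hRmap]
    rfl
  refine ⟨hpN, fun q _ => ?_, ?_⟩
  · obtain ⟨Q, hQ⟩ := hex q
    exact ⟨Q, hQ, fun R hR => huniq q R Q (hPM.trans hR) (hPM.trans hQ)⟩
  · rintro ⟨q, r, hq, hr, hqr, hqd, hrd⟩ hcoat
    haveI := Fact.mk hq
    obtain ⟨Q, hQ⟩ := hex q
    set Q0 := (Q : Subgroup ↥N).map N.subtype with hQ0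
    have hQN : Q0 ≤ N := Subgroup.map_subtype_le _
    have hQ1 : Q0 ≠ ⊥ := fun h => Sylow.ne_bot_of_dvd_card Q hqd
      ((Subgroup.map_eq_bot_iff_of_injective _ N.subtype_injective).mp h)
    have hlt : M < Q0 ⊔ M := by
      refine lt_of_le_of_ne le_sup_right fun h => hQ1 ?_
      rw [eq_bot_iff, ← hMN]
      exact le_inf (le_sup_left.trans h.ge) hQN
    have htop := hcoat.2 _ hlt
    have hmod := CfsgLib.Coprime.sup_inf_eq_sup_inf_of_le hQ hQN (H := M)
    rw [htop, top_inf_eq, hMN, sup_bot_eq] at hmod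
    have hc : Nat.card N = Nat.card Q0 := by rw [← hmod]
    rw [hQ0, Subgroup.card_map_of_injective N.subtype_injective, Q.card_eq_multiplicity] at hc
    rw [hc] at hrd
    exact hqr ((Nat.prime_dvd_prime_iff_eq hr hq).mp (hr.dvd_of_dvd_pow hrd)).symm

end Cfsg.Agent.S3749
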