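import Cfsg.Statements.S3750
import Cfsg.Agent.HallHigman.PrimitiveSubgroup
import Cfsg.Agent.Solvable.Fitting

set_option autoImplicit false
open Cfsg

namespace Cfsg.Agent.S3750

/-- Call a proper subgroup M of G primitive when M = N_G(N) for every non-trivial normal subgroup N of M. Let M be a primitive subgroup of the finite group G and N a normal subgroup of G with M ∩ F*(N) ≠ 1. Then F(G) = 1 and F*(N) = F*(G) = E(G); in particular every minimal normal subgroup of G is contained in N. -/
theorem result {G : Type*} [Group G] [Finite G] (M : Subgroup G) (hM : M ≠ ⊤) (hprim : ∀ N : Subgroup G, N ≤ M → M ≤ Subgroup.normalizer (N : Set G) → N ≠ ⊥ → Subgroup.normalizer (N : Set G) = M) (N : Subgroup G) [N.Normal] (hMF : M ⊓ (Cfsg.generalizedFittingSubgroup ↥N).map N.subtype ≠ ⊥) : Cfsg.fittingSubgroup G = ⊥ ∧ (Cfsg.generalizedFittingSubgroup ↥N).map N.subtype = Cfsg.generalizedFittingSubgroup G ∧ Cfsg.generalizedFittingSubgroup G = Cfsg.layer G ∧ ∀ K : Subgroup G, K.Normal → K ≠ ⊥ → (∀ K' : Subgroup G, K'.Normal → K' ≤ K → K'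 = ⊥ ∨ K' = K) → K ≤ N := by
  set FN := (Cfsg.fittingSubgroup ↥N).map N.subtype with hFN
  set EN := (Cfsg.layer ↥N).map N.subtype with hEN
  set FS := (Cfsg.generalizedFittingSubgroup ↥N).map N.subtype with hFS
  haveI : (Cfsg.layer ↥N).Characteristic := CfsgLib.Components.layer_characteristic
  haveI : (Cfsg.fittingSubgroup ↥N).Characteristic := CfsgLib.Solvable.fittingSubgroup_characteristic
  have hFNn : FN.Normal := inferInstanceAs ((Cfsg.fittingSubgroup ↥N).map N.subtype).Normal
  have hENn : EN.Normal := inferInstanceAs ((Cfsg.layer ↥N).map N.subtype).Normal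
  have hFSeq : FS = EN ⊔ FN := Subgroup.map_sup _ _ _
  have hFSn : FS.Normal := hFSeq ▸ inferInstance
  have hX : M ≤ Subgroup.normalizer ((M ⊓ FS : Subgroup G) : Set G) :=
    (le_inf Subgroup.le_normalizer Subgroup.le_normalizer_of_normal).trans
      Subgroup.inf_normalizer_le_normalizer_inf
  have hC : Subgroup.centralizer (FS : Set G) = ⊥ := by
    haveI : (Subgroup.centralizer (FS : Set G)).Normal := Subgroup.normal_centralizer
    refine CfsgLib.PrimitiveSubgroup.normal_le_eq_bot hM hprim _ ?_
    rw [← hprim _ inf_le_left hX hMF]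
    refine le_trans ?_ (Subgroup.centralizer_le_normalizer _)
    exact Subgroup.centralizer_le (fun x hx => (Subgroup.mem_inf.mp hx).2)
  haveI hFn : (Cfsg.fittingSubgroup G).Normal := CfsgLib.Solvable.fittingSubgroup_normal
  have hFnil : Group.IsNilpotent (Cfsg.fittingSubgroup G) :=
    CfsgLib.Solvable.fittingSubgroup_isNilpotent
  have hFNnil : Group.IsNilpotent FN := by
    haveI := CfsgLib.Solvable.fittingSubgroup_isNilpotent (G := ↥N)
    exact Group.nilpotent_of_mulEquiv ((Cfsg.fittingSubgroup ↥N).equivMapOfInjective _ N.subtype_injective)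
  have hENL : EN ≤ Cfsg.layer G := CfsgLib.Components.layer_map_subtype_le ‹N.Normal›.isSubnormal
  have hEF : EN ≤ Subgroup.centralizer (Cfsg.fittingSubgroup G : Set G) :=
    hENL.trans CfsgLib.Components.layer_le_centralizer_fittingSubgroup
  have hFN0 : FN = ⊥ := by
    by_contra h
    haveI : Nontrivial FN := (Subgroup.nontrivial_iff_ne_bot FN).mpr h
    haveI := hFNnil
    refine Group.IsNilpotent.center_ne_bot (G := ↥FN) ?_
    rw [eq_bot_iff]
    intro z hz
    have hzC : (z : G) ∈ Subgroup.centralizer (FS : Set G) := by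
      rw [hFSeq]
      have hle : EN ⊔ FN ≤ Subgroup.centralizer ({(z : G)} : Set G) := by
        refine sup_le (fun e he => ?_) (fun e he => ?_)
        · rw [Subgroup.mem_centralizer_singleton_iff]
          exact (Subgroup.mem_centralizer_iff.mp (hEF he) z
            (CfsgLib.Components.le_fittingSubgroup hFNnil z.2)).symm
        · rw [Subgroup.mem_centralizer_singleton_iff]
          exact congrArg Subtype.val (Subgroup.mem_center_iff.mp hz ⟨e, he⟩)
      rw [Subgroup.mem_centralizer_iff]
      exact fun e he => Subgroup.mem_centralizer_singleton_iff.mp (hle he)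
    rw [hC, Subgroup.mem_bot] at hzC
    exact Subgroup.mem_bot.mpr (Subtype.ext hzC)
  have hFSE : FS = EN := by rw [hFSeq, hFN0, sup_bot_eq]
  have hF0 : Cfsg.fittingSubgroup G = ⊥ := by
    rw [← le_bot_iff, ← hC, hFSE]
    exact Subgroup.le_centralizer_iff.mp hEF
  have hE : EN = Cfsg.layer G := by
    refine le_antisymm hENL (sSup_le fun K hK => ?_)
    rcases CfsgLib.Components.IsComponent.le_or_commutator_eq_bot_of_normal hK N with h | h
    · exact CfsgLib.Components.IsComponent.le_layer_map_subtype hK h
    · exfalso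
      refine CfsgLib.Components.IsComponent.ne_bot hK (le_bot_iff.mp (hC ▸ ?_))
      exact (Subgroup.commutator_eq_bot_iff_le_centralizer.mp h).trans
        (Subgroup.centralizer_le (Subgroup.map_subtype_le _))
  have hFG : Cfsg.generalizedFittingSubgroup G = Cfsg.layer G := by
    rw [Cfsg.generalizedFittingSubgroup, hF0, sup_bot_eq]
  refine ⟨hF0, by rw [hFG, hFSE, hE], hFG, fun K hK hK1 hmin => ?_⟩
  haveI := hK
  rcases hmin (K ⊓ N) inferInstance inf_le_left with h | h
  · exfalso
    refine hK1 (le_bot_iff.mp (hC ▸ ?_))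
    refine le_trans ?_ (Subgroup.centralizer_le (Subgroup.map_subtype_le _))
    rw [← Subgroup.commutator_eq_bot_iff_le_centralizer, eq_bot_iff, ← h]
    exact Subgroup.commutator_le_inf K N
  · exact inf_eq_left.mp h

end Cfsg.Agent.S3750
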