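import Cfsg.Statements.S3751
import Cfsg.Agent.HallHigman.MinimalAction
import Cfsg.Agent.PLocal.Cores

set_option autoImplicit false
open Cfsg

namespace Cfsg.Agent.S3751

open scoped commutatorElement

/-- `T` is a non-trivial `p`-subgroup with maximal normalizer -/
def IsMaxLocal {G : Type*} [Group G] (p : ℕ) (M : Subgroup G) : Prop :=
  (∃ T : Subgroup G, IsPGroup p T ∧ T ≠ ⊥ ∧ M = Subgroup.normalizer (T : Set G)) ∧
  ∀ L : Subgroup G, (∃ T : Subgroup G, IsPGroup p T ∧ T ≠ ⊥ ∧ L = Subgroup.normalizer (T : Set G)) →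
    M ≤ L → L = M

theorem exists_maxLocal {G : Type*} [Group G] [Finite G] {p : ℕ} (T : Subgroup G) (hT : IsPGroup p T)
    (hT1 : T ≠ ⊥) : ∃ M, IsMaxLocal p M ∧ Subgroup.normalizer (T : Set G) ≤ M := by
  obtain ⟨M, hle, hM, hmax⟩ := exists_maximal_ge_of_wellFoundedGT
    (fun L : Subgroup G => ∃ T : Subgroup G, IsPGroup p T ∧ T ≠ ⊥ ∧ L = Subgroup.normalizer (T : Set G))
    (Subgroup.normalizer (T : Set G)) ⟨T, hT, hT1, rfl⟩
  exact ⟨M, ⟨hM, fun L hL hML => le_antisymm (hmax hL hML) hML⟩, hle⟩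

theorem IsMaxLocal.normalizer_eq {G : Type*} [Group G] [Finite G] {p : ℕ} {M : Subgroup G}
    (hM : IsMaxLocal p M) {U : Subgroup G} (hU : IsPGroup p U) (hU1 : U ≠ ⊥)
    (hMU : M ≤ Subgroup.normalizer (U : Set G)) : Subgroup.normalizer (U : Set G) = M :=
  hM.2 _ ⟨U, hU, hU1, rfl⟩ hMU

theorem IsMaxLocal.core_ne {G : Type*} [Group G] [Finite G] {p : ℕ} {M : Subgroup G}
    (hM : IsMaxLocal p M) : (Cfsg.pCore p ↥M).map M.subtype ≠ ⊥ := by
  obtain ⟨⟨T, hT, hT1, rfl⟩, -⟩ := hM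
  intro h
  apply hT1
  rw [eq_bot_iff, ← h]
  intro t ht
  refine ⟨⟨t, Subgroup.le_normalizer ht⟩, ?_, rfl⟩
  exact CfsgLib.PLocal.le_pCore (N := T.subgroupOf _)
    (hT.of_equiv (Subgroup.subgroupOfEquivOfLe Subgroup.le_normalizer).symm) (show t ∈ T from ht)

theorem IsMaxLocal.self_normalizing {G : Type*} [Group G] [Finite G] {p : ℕ} {M : Subgroup G}
    (hM : IsMaxLocal p M) : Subgroup.normalizer (M : Set G) = M := by
  refine le_antisymm ?_ Subgroup.le_normalizer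
  refine le_trans (CfsgLib.HallHigman.le_normalizer_map_char le_rfl (Cfsg.pCore p ↥M)) (le_of_eq ?_)
  exact hM.normalizer_eq ((CfsgLib.PLocal.isPGroup_pCore p ↥M).map _) hM.core_ne
    (CfsgLib.HallHigman.le_normalizer_map_char Subgroup.le_normalizer _)

theorem IsMaxLocal.conj {G : Type*} [Group G] [Finite G] {p : ℕ} {M : Subgroup G}
    (hM : IsMaxLocal p M) (g : G) : IsMaxLocal p (M.map (MulAut.conj g).toMonoidHom) := by
  obtain ⟨⟨T, hT, hT1, rfl⟩, hmax⟩ := hM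
  have hnorm : ∀ (U : Subgroup G) (h : G),
      (Subgroup.normalizer (U : Set G)).map (MulAut.conj h).toMonoidHom =
        Subgroup.normalizer ((U.map (MulAut.conj h).toMonoidHom : Subgroup G) : Set G) := fun U h =>
    Subgroup.map_normalizer_eq_of_bijective U (MulAut.conj h).bijective
  refine ⟨⟨T.map (MulAut.conj g).toMonoidHom, hT.map _, fun h => hT1 ?_, hnorm T g⟩, ?_⟩
  · exact (Subgroup.map_eq_bot_iff_of_injective _ (MulAut.conj g).injective).mp h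
  · rintro L ⟨U, hU, hU1, rfl⟩ hle
    have h2 := hmax _ ⟨U.map (MulAut.conj g⁻¹).toMonoidHom, hU.map _, fun h => hU1
      ((Subgroup.map_eq_bot_iff_of_injective _ (MulAut.conj g⁻¹).injective).mp h), rfl⟩ (by
        intro x hx
        rw [← hnorm]
        exact ⟨g * x * g⁻¹, hle ⟨x, hx, rfl⟩, by simp [mul_assoc]⟩)
    rw [← h2, ← hnorm, Subgroup.map_map]
    conv_lhs => rw [← Subgroup.map_id (Subgroup.normalizer (U : Set G))]
    congr 1
    ext x; simp [mul_assoc]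

theorem sup_core_isPGroup {G : Type*} [Group G] [Finite G] {p : ℕ} (M S : Subgroup G) (hSM : S ≤ M)
    (hS : IsPGroup p S) : IsPGroup p ↥(S ⊔ (Cfsg.pCore p ↥M).map M.subtype) := by
  refine IsPGroup.to_sup_of_normal_right' hS ((CfsgLib.PLocal.isPGroup_pCore p ↥M).map _) ?_
  exact hSM.trans (CfsgLib.HallHigman.le_normalizer_map_char Subgroup.le_normalizer _)

/-- two maximal locals containing each other's cores form a primitive pair -/
theorem pair_half {G : Type*} [Group G] [Finite G] {p : ℕ} [Fact p.Prime] {M₁ M₂ : Subgroup G}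
    (h₁ : IsMaxLocal p M₁)
    (hc : Subgroup.centralizer (Cfsg.pCore p ↥M₁ : Set ↥M₁) ≤ Cfsg.pCore p ↥M₁)
    (A : Subgroup G) (hA : A ≠ ⊥) (hAle : A ≤ M₁ ⊓ M₂) (hn : M₁ ≤ Subgroup.normalizer (A : Set G)) :
    M₂ ⊓ Subgroup.normalizer (A : Set G) = M₁ ⊓ M₂ := by
  set O₁ := (Cfsg.pCore p ↥M₁).map M₁.subtype with hO₁
  have hM₁O : M₁ ≤ Subgroup.normalizer (O₁ : Set G) :=
    CfsgLib.HallHigman.le_normalizer_map_char Subgroup.le_normalizer _
  have hAM : A ≤ M₁ := hAle.trans inf_le_left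
  set U := A ⊓ O₁ with hU
  have hU1 : U ≠ ⊥ := by
    intro h
    apply hA
    rw [eq_bot_iff, ← h]
    refine le_inf le_rfl fun a ha => ⟨⟨a, hAM ha⟩, hc ?_, rfl⟩
    rw [Subgroup.mem_centralizer_iff]
    intro x hx
    have h2 : ⁅a, (x : G)⁆ ∈ U := ⟨Subgroup.le_normalizer_iff_commutator_le_left.mp hn
        (Subgroup.commutator_mem_commutator ha x.2),
      Subgroup.le_normalizer_iff_commutator_le_right.mp (hAM.trans hM₁O)
        (Subgroup.commutator_mem_commutator ha (Subgroup.mem_map_of_mem M₁.subtype hx))⟩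
    rw [h, Subgroup.mem_bot, commutatorElement_eq_one_iff_mul_comm] at h2
    exact Subtype.ext h2.symm
  set V := (Cfsg.pCore p ↥A).map A.subtype with hV
  have hUV : U ≤ V := by
    intro u hu
    refine ⟨⟨u, hu.1⟩, ?_, rfl⟩
    haveI hUn : (U.subgroupOf A).Normal :=
      (Subgroup.normal_subgroupOf_iff_le_normalizer inf_le_left).mpr
        ((le_inf Subgroup.le_normalizer (hAM.trans hM₁O)).trans Subgroup.inf_normalizer_le_normalizer_inf)
    exact CfsgLib.PLocal.le_pCore (N := U.subgroupOf A)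
      ((((CfsgLib.PLocal.isPGroup_pCore p ↥M₁).map _).to_le inf_le_right).of_equiv
        (Subgroup.subgroupOfEquivOfLe inf_le_left).symm) (show u ∈ U from hu)
  have hnV : Subgroup.normalizer (A : Set G) ≤ Subgroup.normalizer (V : Set G) :=
    CfsgLib.HallHigman.le_normalizer_map_char le_rfl _
  have hNV := h₁.normalizer_eq ((CfsgLib.PLocal.isPGroup_pCore p ↥A).map _)
    (fun h => hU1 (le_bot_iff.mp (hUV.trans h.le))) (hn.trans hnV)
  exact le_antisymm (le_inf ((inf_le_right.trans hnV).trans hNV.le) inf_le_left)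
    (le_inf inf_le_right (inf_le_left.trans hn))

/-- Two distinct subgroups M₁, M₂ of G form a primitive pair when, for {i, j} = {1, 2}, every non-trivial normal subgroup A of M_i contained in M₁ ∩ M₂ satisfies N_{M_j}(A) = M₁ ∩ M₂; the pair has characteristic p when moreover C_{M_i}(O_p(M_i)) ≤ O_p(M_i) for both i and O_p(M₁)O_p(M₂) ≤ M₁ ∩ M₂. Let G be a finite group, p a prime dividing its order, with O_p(G) = 1 and every p-local subgroup of characteristic p. Then either G has a primitive pair of characteristic p, or every maximal p-local subgroup M of G is strongly p-embedded in G: M is a proper subgroup, p divides its order, and for every g ∉ M the order of M ∩ gMg⁻¹ is prime to p. -/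
theorem result {G : Type*} [Group G] [Finite G] {p : ℕ} [Fact p.Prime] (hloc : Cfsg.IsOfLocalCharacteristic p G) (hOp : Cfsg.pCore p G = ⊥) : (∃ M₁ M₂ : Subgroup G, M₁ ≠ M₂ ∧ (∀ A : Subgroup G, A ≠ ⊥ → A ≤ M₁ ⊓ M₂ → (M₁ ≤ Subgroup.normalizer (A : Set G) → M₂ ⊓ Subgroup.normalizer (A : Set G) = M₁ ⊓ M₂) ∧ (M₂ ≤ Subgroup.normalizer (A : Set G) → M₁ ⊓ Subgroup.normalizer (A : Set G) = M₁ ⊓ M₂)) ∧ Subgroup.centralizer (Cfsg.pCore p ↥M₁ : Set ↥M₁) ≤ Cfsg.pCore p ↥M₁ ∧ Subgroup.centralizer (Cfsg.pCore p ↥M₂ : Set ↥M₂) ≤ Cfsg.pCore p ↥M₂ ∧ (Cfsg.pCore p ↥M₁).map M₁.subtype ⊔ (Cfsg.pCore p ↥M₂).map M₂.subtype ≤ M₁ ⊓ M₂) ∨ (∀ M : Subgroup G, (∃ T : Subgroup G, IsPGroup p T ∧ T ≠ ⊥ ∧ M = Subgroup.normalizer (T : Set G)) → (∀ L : Subgroup G, (∃ T : Subgroup G, IsPGroup p T ∧ T ≠ ⊥ ∧ L = Subgroup.normalizer (T : Set G)) → M ≤ L → L = M) → M ≠ ⊤ ∧ p ∣ Nat.card M ∧ ∀ g : G, g ∉ M → ¬ p ∣ Nat.card ↥(M ⊓ M.map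 (MulAut.conj g).toMonoidHom)) := by
  have hchar : ∀ M : Subgroup G, IsMaxLocal p M →
      Subgroup.centralizer (Cfsg.pCore p ↥M : Set ↥M) ≤ Cfsg.pCore p ↥M := by
    rintro M ⟨⟨T, hT, hT1, rfl⟩, -⟩
    exact hloc.2 T hT hT1
  by_cases hshare : ∃ M₁ M₂ S : Subgroup G, IsMaxLocal p M₁ ∧ IsMaxLocal p M₂ ∧ M₁ ≠ M₂ ∧
      IsPGroup p S ∧ S ≠ ⊥ ∧ S ≤ M₁ ⊓ M₂
  swap
  · right
    intro M hT hmax
    have hM : IsMaxLocal p M := ⟨hT, hmax⟩
    obtain ⟨T, hTp, hT1, hMT⟩ := hT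
    refine ⟨?_, ?_, fun g hg hd => ?_⟩
    · intro htop
      haveI : T.Normal := Subgroup.normalizer_eq_top_iff.mp (hMT ▸ htop)
      exact hT1 (le_bot_iff.mp (hOp ▸ CfsgLib.PLocal.le_pCore hTp))
    · obtain ⟨k, hk⟩ := IsPGroup.iff_card.mp hTp
      have hk0 : k ≠ 0 := fun h => hT1 (Subgroup.card_eq_one.mp (by rw [hk, h, pow_zero]))
      exact (hk ▸ dvd_pow_self p hk0).trans (Subgroup.card_dvd_of_le (hMT ▸ Subgroup.le_normalizer))
    · obtain ⟨x, hx⟩ := exists_prime_orderOf_dvd_card' p hd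
      refine hshare ⟨M, M.map (MulAut.conj g).toMonoidHom,
        (Subgroup.zpowers x).map (M ⊓ M.map (MulAut.conj g).toMonoidHom).subtype,
        hM, hM.conj g, ?_, ?_, ?_, Subgroup.map_subtype_le _⟩
      · intro h
        exact hg (hM.self_normalizing ▸ Subgroup.mem_normalizer_iff_map_conj_eq.mpr h.symm)
      · exact (IsPGroup.of_card (n := 1) (by rw [Nat.card_zpowers, hx, pow_one])).map _
      · intro h
        rw [Subgroup.map_eq_bot_iff_of_injective _ (Subgroup.subtype_injective _),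
          Subgroup.zpowers_eq_bot] at h
        rw [h, orderOf_one] at hx
        exact (Fact.out : p.Prime).ne_one hx.symm
  left
  obtain ⟨S, ⟨M₁, M₂, hM₁, hM₂, hne, hS, hS1, hSle⟩, hSmax⟩ := Set.Finite.exists_maximal
    (Set.toFinite {S : Subgroup G | ∃ M₁ M₂ : Subgroup G, IsMaxLocal p M₁ ∧ IsMaxLocal p M₂ ∧ M₁ ≠ M₂ ∧
      IsPGroup p S ∧ S ≠ ⊥ ∧ S ≤ M₁ ⊓ M₂})
    (by obtain ⟨M₁, M₂, S, h⟩ := hshare; exact ⟨S, M₁, M₂, h⟩)
  obtain ⟨M3, hM3, hNM3⟩ := exists_maxLocal S hS hS1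
  -- a `p`-subgroup of `M` properly above `S` forces `M = M3`
  have hgrow : ∀ M, IsMaxLocal p M → ∀ S' : Subgroup G, IsPGroup p S' → S < S' → S' ≤ M → M = M3 := by
    intro M hM S' hS' hlt hle
    by_contra hne'
    haveI := hS'.isNilpotent
    have hsub : S.subgroupOf S' < ⊤ := by
      rw [lt_top_iff_ne_top, Ne, Subgroup.subgroupOf_eq_top]; exact hlt.not_ge
    obtain ⟨y, hy, hyS⟩ := SetLike.exists_of_lt
      (Group.normalizerCondition_of_isNilpotent (G := ↥S') _ hsub)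
    rw [← Subgroup.subgroupOf_normalizer_eq hlt.le, Subgroup.mem_subgroupOf] at hy
    rw [Subgroup.mem_subgroupOf] at hyS
    have h : S' ⊓ Subgroup.normalizer (S : Set G) ≤ S := hSmax (y := S' ⊓ Subgroup.normalizer (S : Set G))
      ⟨M, M3, hM, hM3, hne', hS'.to_le inf_le_left,
        fun h => hS1 (le_bot_iff.mp (h ▸ le_inf hlt.le Subgroup.le_normalizer)),
        le_inf (inf_le_left.trans hle) (inf_le_right.trans hNM3)⟩ (le_inf hlt.le Subgroup.le_normalizer)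
    exact hyS (h ⟨y.2, hy⟩)
  -- choose `N₂` in which `S` is maximal
  have hmk : ∀ N₁ N₂ : Subgroup G, IsMaxLocal p N₁ → IsMaxLocal p N₂ → N₁ ≠ N₂ → S ≤ N₁ ⊓ N₂ →
      (∀ S' : Subgroup G, IsPGroup p S' → S ≤ S' → S' ≤ N₂ → S' = S) →
      (∃ M₁ M₂ : Subgroup G, M₁ ≠ M₂ ∧ (∀ A : Subgroup G, A ≠ ⊥ → A ≤ M₁ ⊓ M₂ → (M₁ ≤ Subgroup.normalizer (A : Set G) → M₂ ⊓ Subgroup.normalizer (A : Set G) = M₁ ⊓ M₂) ∧ (M₂ ≤ Subgroup.normalizer (A : Set G) → M₁ ⊓ Subgroup.normalizer (A : Set G) = M₁ ⊓ M₂)) ∧ Subgroup.centralizer (Cfsg.pCore p ↥M₁ : Set ↥M₁) ≤ Cfsg.pCore p ↥M₁ ∧ Subgroup.centralizer (Cfsg.pCore p ↥M₂ : Set ↥M₂) ≤ Cfsg.pCore p ↥M₂ ∧ (Cfsg.pCore p ↥M₁).map M₁.subtype ⊔ (Cfsg.pCore p ↥M₂).map M₂.subtype ≤ M₁ ⊓ M₂) := by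
    intro N₁ N₂ hN₁ hN₂ hne hle hmax₂
    have hO : ∀ N, S ≤ N → (∀ S' : Subgroup G, IsPGroup p S' → S ≤ S' → S' ≤ N → S' = S) →
        (Cfsg.pCore p ↥N).map N.subtype ≤ S := fun N hSN hmx =>
      le_sup_right.trans (hmx _ (sup_core_isPGroup N S hSN hS) le_sup_left
        (sup_le hSN (Subgroup.map_subtype_le _))).le
    have mk : ∀ A B : Subgroup G, IsMaxLocal p A → IsMaxLocal p B → A ≠ B → S ≤ A ⊓ B →
        (∀ S' : Subgroup G, IsPGroup p S' → S ≤ S' → S' ≤ A → S' = S) →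
        (∀ S' : Subgroup G, IsPGroup p S' → S ≤ S' → S' ≤ B → S' = S) →
        (∃ M₁ M₂ : Subgroup G, M₁ ≠ M₂ ∧ (∀ A : Subgroup G, A ≠ ⊥ → A ≤ M₁ ⊓ M₂ → (M₁ ≤ Subgroup.normalizer (A : Set G) → M₂ ⊓ Subgroup.normalizer (A : Set G) = M₁ ⊓ M₂) ∧ (M₂ ≤ Subgroup.normalizer (A : Set G) → M₁ ⊓ Subgroup.normalizer (A : Set G) = M₁ ⊓ M₂)) ∧ Subgroup.centralizer (Cfsg.pCore p ↥M₁ : Set ↥M₁) ≤ Cfsg.pCore p ↥M₁ ∧ Subgroup.centralizer (Cfsg.pCore p ↥M₂ : Set ↥M₂) ≤ Cfsg.pCore p ↥M₂ ∧ (Cfsg.pCore p ↥M₁).map M₁.subtype ⊔ (Cfsg.pCore p ↥M₂).map M₂.subtype ≤ M₁ ⊓ M₂) := by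
      intro A B hA hB hAB hS' hmA hmB
      refine ⟨A, B, hAB, fun U hU hUle => ⟨fun hn => pair_half hA (hchar A hA) U hU hUle hn, fun hn => ?_⟩,
        hchar A hA, hchar B hB, ?_⟩
      · rw [inf_comm A B]
        exact pair_half hB (hchar B hB) U hU (inf_comm A B ▸ hUle) hn
      · exact sup_le ((hO A (hS'.trans inf_le_left) hmA).trans hS')
          ((hO B (hS'.trans inf_le_right) hmB).trans hS')
    by_cases hmax₁ : ∀ S' : Subgroup G, IsPGroup p S' → S ≤ S' → S' ≤ N₁ → S' = S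
    · exact mk N₁ N₂ hN₁ hN₂ hne hle hmax₁ hmax₂
    push Not at hmax₁
    obtain ⟨S', hS', hSS', hS'N, hne'⟩ := hmax₁
    haveI := hS'.isNilpotent
    have hsub : S.subgroupOf S' < ⊤ := by
      rw [lt_top_iff_ne_top, Ne, Subgroup.subgroupOf_eq_top]
      exact fun h => hne' (le_antisymm h hSS')
    obtain ⟨y, hy, hyS⟩ := SetLike.exists_of_lt
      (Group.normalizerCondition_of_isNilpotent (G := ↥S') _ hsub)
    rw [← Subgroup.subgroupOf_normalizer_eq hSS', Subgroup.mem_subgroupOf] at hy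
    rw [Subgroup.mem_subgroupOf] at hyS
    have hSN₂ : S ≤ N₂ := hle.trans inf_le_right
    have hy2 : (y : G) ∉ N₂ := by
      intro hyN
      have := hmax₂ (S ⊔ Subgroup.zpowers (y : G))
        (hS'.to_le (sup_le hSS' (Subgroup.zpowers_le.mpr y.2))) le_sup_left
        (sup_le hSN₂ (Subgroup.zpowers_le.mpr hyN))
      exact hyS (this.le (Subgroup.mem_sup_right (Subgroup.mem_zpowers _)))
    have hyS' : S.map (MulAut.conj (y : G)).toMonoidHom = S := Subgroup.mem_normalizer_iff_map_conj_eq.mp hy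
    set N₂' := N₂.map (MulAut.conj (y : G)).toMonoidHom with hN₂'
    have hne2 : N₂ ≠ N₂' := fun h =>
      hy2 (hN₂.self_normalizing ▸ Subgroup.mem_normalizer_iff_map_conj_eq.mpr h.symm)
    refine mk N₂ N₂' hN₂ (hN₂.conj _) hne2 (le_inf hSN₂ (hyS'.ge.trans (Subgroup.map_mono hSN₂))) hmax₂ ?_
    intro T hT hST hTN
    have hback : T.map (MulAut.conj (y : G)⁻¹).toMonoidHom = S := by
      refine hmax₂ _ (hT.map _) ?_ ?_
      · intro s hs
        obtain ⟨t, ht, hts⟩ : ∃ t ∈ T, t = (y : G) * s * (y : G)⁻¹ :=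
          ⟨_, hST ((Subgroup.mem_normalizer_iff.mp hy s).mp hs), rfl⟩
        exact ⟨t, ht, by simp [hts, mul_assoc]⟩
      · rintro _ ⟨t, ht, rfl⟩
        obtain ⟨n, hn, rfl⟩ := hTN ht
        simpa [mul_assoc] using hn
    refine (Subgroup.eq_of_le_of_card_ge hST (le_of_eq ?_)).symm
    rw [← hback, Subgroup.card_map_of_injective (MulAut.conj (y : G)⁻¹).injective]
  by_cases hm : ∀ S' : Subgroup G, IsPGroup p S' → S ≤ S' → S' ≤ M₂ → S' = S
  · exact hmk M₁ M₂ hM₁ hM₂ hne hSle hm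
  · push Not at hm
    obtain ⟨S', hS', hSS', hS'M, hne'⟩ := hm
    have hM2eq := hgrow M₂ hM₂ S' hS' (lt_of_le_of_ne hSS' (Ne.symm hne')) hS'M
    refine hmk M₂ M₁ hM₂ hM₁ hne.symm (inf_comm M₁ M₂ ▸ hSle) fun T hT hST hTM => ?_
    by_contra hne''
    exact hne ((hgrow M₁ hM₁ T hT (lt_of_le_of_ne hST (Ne.symm hne'')) hTM).trans hM2eq.symm)

end Cfsg.Agent.S3751
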