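import Cfsg.Statements.S3752
import Cfsg.Agent.Signalizer.BenderPair

set_option autoImplicit false
open Cfsg

namespace Cfsg.Agent.S3752

/-- Bender's Theorem on primitive pairs. Two distinct subgroups M₁, M₂ of G form a primitive pair when, for {i, j} = {1, 2}, every non-trivial normal subgroup A of M_i contained in M₁ ∩ M₂ satisfies N_{M_j}(A) = M₁ ∩ M₂; the pair has characteristic p when moreover C_{M_i}(O_p(M_i)) ≤ O_p(M_i) for both i and O_p(M₁)O_p(M₂) ≤ M₁ ∩ M₂. If (M₁, M₂) is a primitive pair of the finite group G with F*(M₁) ≤ M₂ and F*(M₂) ≤ M₁, then for some prime p the pair has characteristic p. -/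
theorem result {G : Type*} [Group G] [Finite G] (M₁ M₂ : Subgroup G) (hne : M₁ ≠ M₂) (hP : ∀ A : Subgroup G, A ≠ ⊥ → A ≤ M₁ ⊓ M₂ → (M₁ ≤ Subgroup.normalizer (A : Set G) → M₂ ⊓ Subgroup.normalizer (A : Set G) = M₁ ⊓ M₂) ∧ (M₂ ≤ Subgroup.normalizer (A : Set G) → M₁ ⊓ Subgroup.normalizer (A : Set G) = M₁ ⊓ M₂)) (h₁ : (Cfsg.generalizedFittingSubgroup ↥M₁).map M₁.subtype ≤ M₂) (h₂ : (Cfsg.generalizedFittingSubgroup ↥M₂).map M₂.subtype ≤ M₁) : ∃ p : ℕ, p.Prime ∧ Subgroup.centralizer (Cfsg.pCore p ↥M₁ : Set ↥M₁) ≤ Cfsg.pCore p ↥M₁ ∧ Subgroup.centralizer (Cfsg.pCore p ↥M₂ : Set ↥M₂) ≤ Cfsg.pCore p ↥M₂ ∧ (Cfsg.pCore p ↥M₁).map M₁.subtype ⊔ (Cfsg.pCore p ↥M₂).map M₂.subtype ≤ M₁ ⊓ M₂ := by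
  have hP₁ : CfsgLib.Signalizer.PairHalf M₁ M₂ := fun W hW hle hn =>
    ((hP W hW hle).1 hn).le.trans inf_le_left
  have hP₂ : CfsgLib.Signalizer.PairHalf M₂ M₁ := fun W hW hle hn =>
    ((hP W hW (inf_comm M₁ M₂ ▸ hle)).2 hn).le.trans inf_le_right
  obtain ⟨p, hp, hF₁, hF₂⟩ := CfsgLib.Signalizer.bender_pair hP₁ hP₂ hne h₁ h₂
  have := Fact.mk hp
  have key : ∀ M : Subgroup G, IsPGroup p ↥(Cfsg.generalizedFittingSubgroup ↥M) →
      Subgroup.centralizer (Cfsg.pCore p ↥M : Set ↥M) ≤ Cfsg.pCore p ↥M ∧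
        (Cfsg.pCore p ↥M) ≤ Cfsg.generalizedFittingSubgroup ↥M := by
    intro M hF
    have := CfsgLib.Components.layer_normal (G := ↥M)
    have := CfsgLib.Solvable.fittingSubgroup_normal (G := ↥M)
    have hn : (Cfsg.generalizedFittingSubgroup ↥M).Normal := Subgroup.sup_normal _ _
    have hle : Cfsg.generalizedFittingSubgroup ↥M ≤ Cfsg.pCore p ↥M :=
      CfsgLib.Components.le_pCore hF
    have hge : Cfsg.pCore p ↥M ≤ Cfsg.generalizedFittingSubgroup ↥M :=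
      (CfsgLib.Components.pCore_le_fittingSubgroup p).trans
        CfsgLib.Components.fitting_le_generalizedFitting
    exact ⟨((Subgroup.centralizer_le (SetLike.coe_subset_coe.mpr hle)).trans
      CfsgLib.Components.centralizer_generalizedFitting_le_self).trans hle, hge⟩
  exact ⟨p, hp, (key M₁ hF₁).1, (key M₂ hF₂).1, sup_le
    (le_inf (Subgroup.map_subtype_le _) ((Subgroup.map_mono (key M₁ hF₁).2).trans h₁))
    (le_inf ((Subgroup.map_mono (key M₂ hF₂).2).trans h₂) (Subgroup.map_subtype_le _))⟩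

end Cfsg.Agent.S3752
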