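import Cfsg.Statements.S3753
import Cfsg.Agent.PrimitiveStable.Main

set_option autoImplicit false
open Cfsg

namespace Cfsg.Agent.S3753

open Subgroup CfsgLib.PrimitiveStable

variable {G : Type*} [Group G] [Finite G] {p : ℕ} [hp : Fact p.Prime]

theorem eq_bot_of_core_eq_bot (H : Subgroup G)
    (hc : centralizer (Cfsg.pCore p H : Set H) ≤ Cfsg.pCore p H)
    (h : (Cfsg.pCore p H).map H.subtype = ⊥) : H = ⊥ := by
  rw [Subgroup.map_eq_bot_iff_of_injective _ H.subtype_injective] at h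
  rw [eq_bot_iff]
  intro x hx
  have h1 : (⟨x, hx⟩ : H) ∈ Cfsg.pCore p H := hc fun y hy => by
    rw [h] at hy
    rw [show y = 1 from hy, one_mul, mul_one]
  rw [h] at h1
  exact congrArg Subtype.val (mem_bot.1 h1)

theorem core_normalizer (H : Subgroup G) :
    H ≤ normalizer ((Cfsg.pCore p H).map H.subtype : Set G) := by
  intro h hh
  rw [mem_normalizer_iff]
  intro x
  constructor
  · rintro ⟨y, hy, rfl⟩
    exact ⟨⟨h, hh⟩ * y * ⟨h, hh⟩⁻¹, (inferInstance : (Cfsg.pCore p H).Normal).conj_mem y hy _, rfl⟩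
  · rintro ⟨y, hy, hxy⟩
    refine ⟨⟨h, hh⟩⁻¹ * y * ⟨h, hh⟩, ?_, ?_⟩
    · simpa using (inferInstance : (Cfsg.pCore p H).Normal).conj_mem y hy ⟨h, hh⟩⁻¹
    · show h⁻¹ * (H.subtype y) * h = x
      rw [hxy]; group

theorem core_two_maximal (H : Subgroup G) (hab : ∀ S : Sylow 2 H, IsMulCommutative S)
    (hc : centralizer (Cfsg.pCore 2 H : Set H) ≤ Cfsg.pCore 2 H) {A : Subgroup G}
    (hA : IsPGroup 2 A) (hAH : A ≤ H) : A ≤ (Cfsg.pCore 2 H).map H.subtype := by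
  obtain ⟨S, hS⟩ :=
    (hA.comap_of_injective H.subtype H.subtype_injective : IsPGroup 2 (A.subgroupOf H)).exists_le_sylow
  have hOT : Cfsg.pCore 2 H ≤ (S : Subgroup H) := by
    have hsup : IsPGroup 2 ((S : Subgroup H) ⊔ Cfsg.pCore 2 H : Subgroup H) :=
      S.isPGroup'.to_sup_of_normal_right (CfsgLib.PLocal.isPGroup_pCore 2 H)
    exact le_sup_right.trans (S.3 hsup le_sup_left).le
  intro x hx
  refine ⟨⟨x, hAH hx⟩, hc fun y hy => ?_, rfl⟩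
  exact congrArg Subtype.val ((hab S).is_comm.comm ⟨y, hOT hy⟩ ⟨_, hS (show (⟨x, hAH hx⟩ : H) ∈ A.subgroupOf H from hx)⟩)


/-- Two distinct subgroups M₁, M₂ of G form a primitive pair when, for {i, j} = {1, 2}, every non-trivial normal subgroup A of M_i contained in M₁ ∩ M₂ satisfies N_{M_j}(A) = M₁ ∩ M₂; the pair has characteristic p when moreover C_{M_i}(O_p(M_i)) ≤ O_p(M_i) for both i and O_p(M₁)O_p(M₂) ≤ M₁ ∩ M₂. If the finite group G has a primitive pair (M₁, M₂) of characteristic p for some prime p, then M₁ or M₂ has non-abelian Sylow 2-subgroups. In particular no group of odd order has a primitive pair of characteristic p. -/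
theorem result {G : Type*} [Group G] [Finite G] {p : ℕ} [Fact p.Prime] (M₁ M₂ : Subgroup G) (hne : M₁ ≠ M₂) (hP : ∀ A : Subgroup G, A ≠ ⊥ → A ≤ M₁ ⊓ M₂ → (M₁ ≤ Subgroup.normalizer (A : Set G) → M₂ ⊓ Subgroup.normalizer (A : Set G) = M₁ ⊓ M₂) ∧ (M₂ ≤ Subgroup.normalizer (A : Set G) → M₁ ⊓ Subgroup.normalizer (A : Set G) = M₁ ⊓ M₂)) (hc₁ : Subgroup.centralizer (Cfsg.pCore p ↥M₁ : Set ↥M₁) ≤ Cfsg.pCore p ↥M₁) (hc₂ : Subgroup.centralizer (Cfsg.pCore p ↥M₂ : Set ↥M₂) ≤ Cfsg.pCore p ↥M₂) (hO : (Cfsg.pCore p ↥M₁).map M₁.subtype ⊔ (Cfsg.pCore p ↥M₂).map M₂.subtype ≤ M₁ ⊓ M₂) : (∃ S : Sylow 2 ↥M₁, ¬ IsMulCommutative (S : Subgroup ↥M₁)) ∨ (∃ S : Sylow 2 ↥M₂, ¬ IsMulCommutative (S : Subgroup ↥M₂)) := by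
  by_contra hcon
  push_neg at hcon
  obtain ⟨hab₁, hab₂⟩ := hcon
  set Q₁ := (Cfsg.pCore p M₁).map M₁.subtype with hQ₁
  set Q₂ := (Cfsg.pCore p M₂).map M₂.subtype with hQ₂
  have hQ1 : Q₁ ≤ M₂ := (le_sup_left.trans hO).trans inf_le_right
  have hQ2 : Q₂ ≤ M₁ := (le_sup_right.trans hO).trans inf_le_left
  have hQ1n : Q₁ ≠ ⊥ := fun h => hne (by
    have h1 := eq_bot_of_core_eq_bot M₁ hc₁ h
    rw [h1, eq_bot_of_core_eq_bot M₂ hc₂ (le_bot_iff.1 (h1 ▸ hQ2))])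
  have hQ2n : Q₂ ≠ ⊥ := fun h => hne (by
    have h1 := eq_bot_of_core_eq_bot M₂ hc₂ h
    rw [h1, eq_bot_of_core_eq_bot M₁ hc₁ (le_bot_iff.1 (h1 ▸ hQ1))])
  rcases eq_or_ne p 2 with rfl | hp2
  · have h12 : Q₁ = Q₂ := le_antisymm
      (core_two_maximal M₂ hab₂ hc₂ ((CfsgLib.PLocal.isPGroup_pCore 2 M₁).map _) hQ1)
      (core_two_maximal M₁ hab₁ hc₁ ((CfsgLib.PLocal.isPGroup_pCore 2 M₂).map _) hQ2)
    have hn1 : M₁ ≤ normalizer (Q₁ : Set G) := core_normalizer M₁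
    have hn2 : M₂ ≤ normalizer (Q₁ : Set G) := h12 ▸ core_normalizer M₂
    obtain ⟨e1, e2⟩ := hP Q₁ hQ1n (le_inf (map_subtype_le _) hQ1)
    have e1 := e1 hn1
    have e2 := e2 hn2
    rw [inf_of_le_left hn2] at e1
    rw [inf_of_le_left hn1] at e2
    exact hne (e2.trans e1.symm)
  · obtain ⟨Z₁, hz1, hz1n, hz1N, hz1m⟩ := exists_min hQ1n (core_normalizer M₁)
    obtain ⟨Z₂, hz2, hz2n, hz2N, hz2m⟩ := exists_min hQ2n (core_normalizer M₂)
    refine Pair.false_of_pair (M := fun b => cond b M₂ M₁) (Qs := fun b => cond b Q₂ Q₁)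
      (Zs := fun b => cond b Z₂ Z₁) ⟨?_, hne, ?_, ?_⟩ hp2 (Bool.rec hab₁ hab₂)
    · rintro (_ | _)
      · exact ⟨rfl, hc₁, hz1, hz1n, hz1N, hz1m⟩
      · exact ⟨rfl, hc₂, hz2, hz2n, hz2N, hz2m⟩
    · rintro (_ | _)
      · exact hQ1
      · exact hQ2
    · rintro (_ | _) A hA hle hn
      · exact (hP A hA hle).1 hn
      · exact ((hP A hA (hle.trans_eq (inf_comm M₂ M₁))).2 hn).trans (inf_comm M₁ M₂)

end Cfsg.Agent.S3753
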