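import Cfsg.Statements.S3759
import Cfsg.Agent.ZCGroup.Main

set_option autoImplicit false
open Cfsg

namespace Cfsg.Agent.S3759

/-- Let G be a finite group of even order in which the centralizer of every involution is solvable and C_G(Ω₁(Z(S))) ≤ N_G(S) for every Sylow 2-subgroup S, with O_{2'}(G) = 1 = O₂(G). Fix a Sylow 2-subgroup S and put Z = Ω₁(Z(S)), H = O²(G), R = S ∩ H. Then H has a strongly embedded subgroup; or Z ∩ R has order 2 and is weakly closed in R with respect to H; or Z has order 4 and equals the subgroup generated by the involutions of R; or the subgroup HZ has local characteristic 2: it has even order and every 2-local subgroup L of HZ satisfies C_L(O₂(L)) ≤ O₂(L). -/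
theorem result {G : Type*} [Group G] [Finite G] (heven : Even (Nat.card G)) (hC : ∀ t : G, orderOf t = 2 → Group.IsSolvable ↥(Subgroup.centralizer ({t} : Set G))) (hZ : ∀ S : Sylow 2 G, Subgroup.centralizer (Cfsg.omegaOne 2 ((S : Subgroup G) ⊓ Subgroup.centralizer ((S : Subgroup G) : Set G)) : Set G) ≤ Subgroup.normalizer ((S : Subgroup G) : Set G)) (hO' : Cfsg.pPrimeCore 2 G = ⊥) (hO : Cfsg.pCore 2 G = ⊥) (S : Sylow 2 G) : (∃ M : Subgroup ↥(Cfsg.pResidual 2 G), Cfsg.IsStronglyEmbedded M) ∨ (Nat.card ↥(Cfsg.omegaOne 2 ((S : Subgroup G) ⊓ Subgroup.centralizer ((S : Subgroup G) : Set G)) ⊓ Cfsg.pResidual 2 G) = 2 ∧ ∀ h ∈ Cfsg.pResidual 2 G, ∀ z ∈ Cfsg.omegaOne 2 ((S : Subgroup G) ⊓ Subgroup.centralizer ((S : Subgroup G) : Set G)) ⊓ Cfsg.pResidual 2 G, h * z * h⁻¹ ∈ (S : Subgroup G) → h * z * h⁻¹ ∈ Cfsg.omegaOne 2 ((S : Subgroup G) ⊓ Subgroup.centralizer ((S : Subgroup G) : Set G))) ∨ (Nat.card ↥(Cfsg.omegaOne 2 ((S :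 Subgroup G) ⊓ Subgroup.centralizer ((S : Subgroup G) : Set G))) = 4 ∧ Cfsg.omegaOne 2 ((S : Subgroup G) ⊓ Cfsg.pResidual 2 G) = Cfsg.omegaOne 2 ((S : Subgroup G) ⊓ Subgroup.centralizer ((S : Subgroup G) : Set G))) ∨ Cfsg.IsCharacteristicTwoType ↥(Cfsg.pResidual 2 G ⊔ Cfsg.omegaOne 2 ((S : Subgroup G) ⊓ Subgroup.centralizer ((S : Subgroup G) : Set G))) := by
  haveI : Fact (Nat.Prime 2) := ⟨Nat.prime_two⟩
  haveI : (Cfsg.pResidual 2 G).Normal := inferInstance
  have hR := CfsgLib.ZCGroup.inf_pResidual_ne_bot hO' hO heven S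
  obtain ⟨z, hzZ, hzH, hz⟩ := CfsgLib.ZCGroup.exists_mem_zc_pResidual S hR
  have hz1 : z ≠ 1 := CfsgLib.ZCGroup.ne_one_of_orderOf hz
  have hzS : z ∈ (S : Subgroup G) := (CfsgLib.ZCGroup.zc_le S hzZ).1
  -- only one involution of `Z ∩ R`
  have hone : ∀ (_ : ∀ x ∈ CfsgLib.ZCGroup.zc S, x ∈ Cfsg.pResidual 2 G → x = 1 ∨ x = z),
      Nat.card ↥(CfsgLib.ZCGroup.zc S ⊓ Cfsg.pResidual 2 G) = 2 := by
    intro h
    have heq : CfsgLib.ZCGroup.zc S ⊓ Cfsg.pResidual 2 G = Subgroup.zpowers z := by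
      refine le_antisymm (fun x hx => ?_) (Subgroup.zpowers_le.mpr ⟨hzZ, hzH⟩)
      rcases h x hx.1 hx.2 with rfl | rfl
      · exact one_mem _
      · exact Subgroup.mem_zpowers _
    rw [heq, Nat.card_zpowers, hz]
  by_cases huniq : ∀ r ∈ (S : Subgroup G) ⊓ Cfsg.pResidual 2 G, orderOf r = 2 → r = z
  · have hin : ∀ x ∈ (S : Subgroup G) ⊓ Cfsg.pResidual 2 G, x * x = 1 → x = 1 ∨ x = z := by
      intro x hx hxx
      by_cases hx1 : x = 1
      · exact Or.inl hx1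
      · exact Or.inr (huniq x hx (CfsgLib.ZCGroup.orderOf_eq_two hxx hx1))
    refine Or.inr (Or.inl ⟨hone fun x hx hxH => hin x ⟨(CfsgLib.ZCGroup.zc_le S hx).1, hxH⟩
      (CfsgLib.ZCGroup.zc_mul_self S hx), fun h hh x hx hhx => ?_⟩)
    have hH : h * x * h⁻¹ ∈ Cfsg.pResidual 2 G := mul_mem (mul_mem hh hx.2) (inv_mem hh)
    rcases hin _ ⟨hhx, hH⟩ (by
      rw [show h * x * h⁻¹ * (h * x * h⁻¹) = h * (x * x) * h⁻¹ by group,
        CfsgLib.ZCGroup.zc_mul_self S hx.1]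
      group) with e | e
    · rw [e]; exact one_mem _
    · rw [e]; exact hzZ
  push Not at huniq
  obtain ⟨r, hr, hro, hrz⟩ := huniq
  have hfinish : ∀ [(Cfsg.pResidual 2 G ⊔ CfsgLib.ZCGroup.zc S).Normal],
      (∀ t ∈ (S : Subgroup G) ⊓ (Cfsg.pResidual 2 G ⊔ CfsgLib.ZCGroup.zc S), orderOf t = 2 →
        CfsgLib.ZCGroup.core t = ⊥) →
      Cfsg.IsCharacteristicTwoType ↥(Cfsg.pResidual 2 G ⊔ CfsgLib.ZCGroup.zc S) := by
    intro _ h
    refine CfsgLib.ZCGroup.charTwoType_of_cores hC S _ (fun e => hz1 ?_) h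
    have : z ∈ (S : Subgroup G) ⊓ (Cfsg.pResidual 2 G ⊔ CfsgLib.ZCGroup.zc S) :=
      ⟨hzS, Subgroup.mem_sup_left hzH⟩
    rwa [e, Subgroup.mem_bot] at this
  haveI hLn : (Cfsg.pResidual 2 G ⊔ CfsgLib.ZCGroup.zc S).Normal := by
    refine Subgroup.normalizer_eq_top_iff.mp (top_unique
      ((CfsgLib.Transfer.sylow_sup_pResidual S).ge.trans
        (sup_le ?_ (le_sup_left.trans Subgroup.le_normalizer))))
    intro s hs
    rw [Subgroup.mem_normalizer_iff_map_conj_eq, Subgroup.map_sup]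
    congr 1
    · exact Subgroup.mem_normalizer_iff_map_conj_eq.mp
        ((Subgroup.normalizer_eq_top_iff.mpr inferInstance).ge (Subgroup.mem_top s))
    · refine Subgroup.mem_normalizer_iff_map_conj_eq.mp
        (Subgroup.centralizer_le_normalizer _ ?_)
      exact Subgroup.mem_centralizer_iff.mpr fun x hx => (CfsgLib.ZCGroup.zc_comm S hx hs).symm
  by_cases h4 : 4 ≤ Nat.card ↥(CfsgLib.ZCGroup.zc S)
  · rcases CfsgLib.ZCGroup.large_center hC hO' S hzZ hzH hz hr hro hrz h4 with h | h | h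
    · exact Or.inl h
    · exact Or.inr (Or.inr (Or.inl h))
    · exact Or.inr (Or.inr (Or.inr (hfinish fun t ht hto => h t ht.1 hto)))
  -- now `Z = ⟨z⟩`
  have hZeq : CfsgLib.ZCGroup.zc S = Subgroup.zpowers z := by
    refine (Subgroup.eq_of_le_of_card_ge (Subgroup.zpowers_le.mpr hzZ) ?_).symm
    rw [Nat.card_zpowers, hz]
    obtain ⟨n, hn⟩ := IsPGroup.iff_card.mp
      (S.isPGroup'.to_le ((CfsgLib.ZCGroup.zc_le S).trans inf_le_left))
    rw [hn] at h4 ⊢
    have : n ≤ 1 := by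
      by_contra hlt
      exact h4 (le_trans (by norm_num) (Nat.pow_le_pow_right two_pos (show 2 ≤ n by omega)))
    exact le_trans (Nat.pow_le_pow_right two_pos this) (by norm_num)
  have hZmem : ∀ x ∈ CfsgLib.ZCGroup.zc S, x = 1 ∨ x = z := by
    intro x hx
    obtain ⟨k, rfl⟩ := Subgroup.mem_zpowers_iff.mp (hZeq.le hx)
    rcases Int.even_or_odd k with ⟨m, rfl⟩ | ⟨m, rfl⟩
    · left
      rw [← two_mul, zpow_mul, zpow_two, CfsgLib.ZCGroup.mul_self_of_orderOf hz, one_zpow]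
    · right
      rw [zpow_add, zpow_mul, zpow_two, CfsgLib.ZCGroup.mul_self_of_orderOf hz, one_zpow, one_mul,
        zpow_one]
  by_cases hwc : ∀ h ∈ Cfsg.pResidual 2 G, h * z * h⁻¹ ∈ (S : Subgroup G) → h * z * h⁻¹ = z
  · refine Or.inr (Or.inl ⟨hone fun x hx _ => hZmem x hx, fun h hh x hx hhx => ?_⟩)
    rcases hZmem x hx.1 with rfl | rfl
    · simp
    · rw [hwc h hh hhx]; exact hzZ
  push Not at hwc
  obtain ⟨g, -, hu, hne⟩ := hwc
  have d : CfsgLib.ZCGroup.OneCentral S z :=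
    { orderOf_eq := hz
      mem := hzS
      mem_res := hzH
      comm := fun s hs => CfsgLib.ZCGroup.zc_comm S hzZ hs
      unique := fun x hxS hxo hxc =>
        (hZmem x (CfsgLib.ZCGroup.mem_zc S hxS hxc (CfsgLib.ZCGroup.mul_self_of_orderOf hxo))
          ).resolve_left (CfsgLib.ZCGroup.ne_one_of_orderOf hxo)
      centralizer_le := by
        have h1 : CfsgLib.ZCGroup.zc S = Subgroup.zpowers z := hZeq
        rw [CfsgLib.Transitivity.centralizer_singleton_eq, ← h1]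
        exact hZ S }
  have hLR : (S : Subgroup G) ⊓ (Cfsg.pResidual 2 G ⊔ CfsgLib.ZCGroup.zc S) =
      (S : Subgroup G) ⊓ Cfsg.pResidual 2 G := by
    rw [sup_eq_left.mpr (hZeq.le.trans (Subgroup.zpowers_le.mpr hzH))]
  by_cases hbig : ∃ E : Subgroup G, E ≤ (S : Subgroup G) ∧ Cfsg.IsElementaryAbelian 2 E ∧
      4 < Nat.card E
  · obtain ⟨E, hES, hE, hE8⟩ := hbig
    rcases CfsgLib.ZCGroup.large_rank hC hO' S d hES hE hE8 with h | h
    · exact Or.inl h
    · exact Or.inr (Or.inr (Or.inr (hfinish fun t ht hto => h t (hLR ▸ ht) hto)))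
  · push Not at hbig
    rcases CfsgLib.ZCGroup.small_rank hC hO' S d hu hne hbig with h | h
    · exact Or.inl h
    · exact Or.inr (Or.inr (Or.inr (hfinish fun t ht hto => h t (hLR ▸ ht) hto)))

end Cfsg.Agent.S3759
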