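import Cfsg.Statements.S3758
import Cfsg.Agent.S3759
import Cfsg.Agent.ZCGroup.Structure

set_option autoImplicit false
open Cfsg

namespace Cfsg.Agent.S3758

/-- Let G be a finite group of even order in which every 2-local subgroup is solvable and C_G(Ω₁(Z(S))) ≤ N_G(S) for every Sylow 2-subgroup S, and suppose O_{2'}(G) = 1 = O₂(G). Fix a Sylow 2-subgroup S, put Z = Ω₁(Z(S)), H = O²(G) (generated by the elements of odd order) and R = S ∩ H. Then one of the following holds: H has a strongly embedded subgroup; R is dihedral (of order at least 4) or semidihedral; Z ∩ R has order 2 and is weakly closed in R with respect to H; or Z has order 4 and is exactly the subgroup generated by the involutions of R. -/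
theorem result {G : Type*} [Group G] [Finite G] (heven : Even (Nat.card G)) (hN : ∀ L : Subgroup G, Cfsg.IsTwoLocal L → Group.IsSolvable L) (hZ : ∀ S : Sylow 2 G, Subgroup.centralizer (Cfsg.omegaOne 2 ((S : Subgroup G) ⊓ Subgroup.centralizer ((S : Subgroup G) : Set G)) : Set G) ≤ Subgroup.normalizer ((S : Subgroup G) : Set G)) (hO' : Cfsg.pPrimeCore 2 G = ⊥) (hO : Cfsg.pCore 2 G = ⊥) (S : Sylow 2 G) : (∃ M : Subgroup ↥(Cfsg.pResidual 2 G), Cfsg.IsStronglyEmbedded M) ∨ ((∃ n : ℕ, 2 ≤ n ∧ Nonempty (↥((S : Subgroup G) ⊓ Cfsg.pResidual 2 G) ≃* DihedralGroup n)) ∨ Cfsg.IsQuasiDihedral ↥((S : Subgroup G) ⊓ Cfsg.pResidual 2 G)) ∨ (Nat.card ↥(Cfsg.omegaOne 2 ((S : Subgroup G) ⊓ Subgroup.centralizer ((S : Subgroup G) : Set G)) ⊓ Cfsg.pResidual 2 G) = 2 ∧ ∀ h ∈ Cfsg.pResidual 2 G, ∀ z ∈ Cfsg.omegaOne 2 ((S : Subgroup G) ⊓ Subgroup.centralizer ((S : Subgroup G) : Set G)) ⊓ Cfsg.pResidual 2 G, h * z * h⁻¹ ∈ (S : Subgroup G) → h * z * h⁻¹ ∈ Cfsg.omegaOne 2 ((S : Subgroup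 G) ⊓ Subgroup.centralizer ((S : Subgroup G) : Set G))) ∨ (Nat.card ↥(Cfsg.omegaOne 2 ((S : Subgroup G) ⊓ Subgroup.centralizer ((S : Subgroup G) : Set G))) = 4 ∧ Cfsg.omegaOne 2 ((S : Subgroup G) ⊓ Cfsg.pResidual 2 G) = Cfsg.omegaOne 2 ((S : Subgroup G) ⊓ Subgroup.centralizer ((S : Subgroup G) : Set G))) := by
  haveI : Fact (Nat.Prime 2) := ⟨Nat.prime_two⟩
  haveI : (Cfsg.pResidual 2 G).Normal := inferInstance
  have hC : ∀ t : G, orderOf t = 2 → Group.IsSolvable ↥(Subgroup.centralizer ({t} : Set G)) := by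
    intro t ht
    haveI := hN (Subgroup.normalizer ((Subgroup.zpowers t : Subgroup G) : Set G))
      ⟨_, CfsgLib.ZCGroup.isPGroup_zpowers_of_orderOf ht,
        (fun e => CfsgLib.ZCGroup.ne_one_of_orderOf ht (Subgroup.zpowers_eq_bot.mp e)), rfl⟩
    have hle : Subgroup.centralizer ({t} : Set G) ≤
        Subgroup.normalizer ((Subgroup.zpowers t : Subgroup G) : Set G) := by
      rw [CfsgLib.Transitivity.centralizer_singleton_eq]
      exact Subgroup.centralizer_le_normalizer _
    exact Group.isSolvable_of_isSolvable_injective (Subgroup.inclusion_injective hle)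
  rcases Cfsg.Agent.S3759.result heven hC hZ hO' hO S with h | h | h | h
  · exact Or.inl h
  · exact Or.inr (Or.inr (Or.inl h))
  · exact Or.inr (Or.inr (Or.inr h))
  haveI hLn : (Cfsg.pResidual 2 G ⊔ CfsgLib.ZCGroup.zc S).Normal := by
    refine Subgroup.normalizer_eq_top_iff.mp (top_unique
      ((CfsgLib.Transfer.sylow_sup_pResidual S).ge.trans
        (sup_le ?_ (le_sup_left.trans Subgroup.le_normalizer))))
    intro s hs
    rw [Subgroup.mem_normalizer_iff_map_conj_eq, Subgroup.map_sup]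
    congr 1
    · exact Subgroup.mem_normalizer_iff_map_conj_eq.mp
        ((Subgroup.normalizer_eq_top_iff.mpr inferInstance).ge (Subgroup.mem_top s))
    · refine Subgroup.mem_normalizer_iff_map_conj_eq.mp
        (Subgroup.centralizer_le_normalizer _ ?_)
      exact Subgroup.mem_centralizer_iff.mpr fun x hx => (CfsgLib.ZCGroup.zc_comm S hx hs).symm
  rcases CfsgLib.ZCGroup.structure_of_charTwoType hN hZ hO S
    (Cfsg.pResidual 2 G ⊔ CfsgLib.ZCGroup.zc S) le_sup_left le_sup_right le_rfl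
    (CfsgLib.ZCGroup.inf_pResidual_ne_bot hO' hO heven S) h with h' | h'
  · exact Or.inl h'
  · exact Or.inr (Or.inl h')

end Cfsg.Agent.S3758
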