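import Cfsg.Statements.S3760

set_option autoImplicit false
open Cfsg

namespace Cfsg.Agent.S3760

/-- Let the group G act transitively on a set X, let x ∈ X with stabilizer H = G_x, and let K ≤ H. Then N_G(K) acts transitively on the set of fixed points of K if and only if every G-conjugate of K contained in H is already an H-conjugate of K. -/
theorem result {G : Type*} [Group G] {X : Type*} [MulAction G X] (htrans : ∀ a b : X, ∃ g : G, g • a = b) (x : X) (K : Subgroup G) (hK : K ≤ MulAction.stabilizer G x) : (∀ a b : X, (∀ k ∈ K, k • a = a) → (∀ k ∈ K, k • b = b) → ∃ g ∈ Subgroup.normalizer (K : Set G), g • a = b) ↔ ∀ g : G, K.map (MulAut.conj g).toMonoidHom ≤ MulAction.stabilizer G x → ∃ h ∈ MulAction.stabilizer G x, K.map (MulAut.conj g).toMonoidHom = K.map (MulAut.conj h).toMonoidHom := by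
  constructor
  · intro h g hg
    have hfix : ∀ k ∈ K, k • (g⁻¹ • x) = g⁻¹ • x := by
      intro k hk
      have hm : g * k * g⁻¹ ∈ MulAction.stabilizer G x := hg ⟨k, hk, by simp [MulAut.conj_apply]⟩
      rw [MulAction.mem_stabilizer_iff] at hm
      calc k • (g⁻¹ • x) = g⁻¹ • ((g * k * g⁻¹) • x) := by simp [smul_smul, mul_assoc]
        _ = g⁻¹ • x := by rw [hm]
    obtain ⟨n, hn, hnx⟩ := h (g⁻¹ • x) x hfix (fun k hk => hK hk)
    refine ⟨g * n⁻¹, ?_, ?_⟩
    · rw [MulAction.mem_stabilizer_iff]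
      conv_lhs => rw [← hnx]
      simp [smul_smul, mul_assoc]
    · have hn' : n⁻¹ ∈ Subgroup.normalizer (K : Set G) := inv_mem hn
      ext y
      constructor
      · rintro ⟨k, hk, rfl⟩
        refine ⟨n * k * n⁻¹, (Subgroup.mem_normalizer_iff.mp hn k).mp hk, ?_⟩
        simp [MulAut.conj_apply, mul_assoc]
      · rintro ⟨k, hk, rfl⟩
        refine ⟨n⁻¹ * k * n, ?_, ?_⟩
        · simpa using (Subgroup.mem_normalizer_iff.mp hn' k).mp hk
        · simp [MulAut.conj_apply, mul_assoc]
  · intro h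
    suffices hx : ∀ a : X, (∀ k ∈ K, k • a = a) →
        ∃ g ∈ Subgroup.normalizer (K : Set G), g • x = a by
      intro a b ha hb
      obtain ⟨g₁, hg₁, rfl⟩ := hx a ha
      obtain ⟨g₂, hg₂, rfl⟩ := hx b hb
      exact ⟨g₂ * g₁⁻¹, mul_mem hg₂ (inv_mem hg₁), by simp [smul_smul, mul_assoc]⟩
    intro a ha
    obtain ⟨t, rfl⟩ := htrans x a
    have hconj : K.map (MulAut.conj t⁻¹).toMonoidHom ≤ MulAction.stabilizer G x := by
      rintro _ ⟨k, hk, rfl⟩
      rw [MulAction.mem_stabilizer_iff]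
      simp [MulAut.conj_apply, mul_smul, ha k hk]
    obtain ⟨u, hu, hueq⟩ := h t⁻¹ hconj
    refine ⟨t * u, ?_, by rw [mul_smul, MulAction.mem_stabilizer_iff.mp hu]⟩
    rw [Subgroup.mem_normalizer_iff]
    intro k
    constructor
    · intro hk
      have hm : u * k * u⁻¹ ∈ K.map (MulAut.conj t⁻¹).toMonoidHom :=
        hueq.symm ▸ ⟨k, hk, by simp [MulAut.conj_apply]⟩
      obtain ⟨k', hk', he⟩ := hm
      simp only [MulEquiv.coe_toMonoidHom, MulAut.conj_apply, inv_inv] at he
      have h' : t * u * k * (t * u)⁻¹ = k' := by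
        rw [show t * u * k * (t * u)⁻¹ = t * (u * k * u⁻¹) * t⁻¹ by group, ← he]; group
      exact h' ▸ hk'
    · intro hk
      have hm : t⁻¹ * (t * u * k * (t * u)⁻¹) * t ∈ K.map (MulAut.conj u).toMonoidHom :=
        hueq ▸ ⟨_, hk, by simp [MulAut.conj_apply]⟩
      obtain ⟨k', hk', he⟩ := hm
      simp only [MulEquiv.coe_toMonoidHom, MulAut.conj_apply] at he
      have h' : k = k' := by
        calc k = u⁻¹ * (t⁻¹ * (t * u * k * (t * u)⁻¹) * t) * u := by group
          _ = k' := by rw [← he]; group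
      exact h' ▸ hk'

end Cfsg.Agent.S3760
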