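import Cfsg.Statements.S3761
import Cfsg.Agent.SelfCentralCyclic.Cases

set_option autoImplicit false
open Cfsg

namespace Cfsg.Agent.S3761

/-- Let G be a finite non-abelian p-group with a cyclic normal subgroup U of order p^n such that C_G(U) = U. Then either p = 2 and G is dihedral, generalized quaternion or semidihedral of order 2^(n+1); or, writing U₁ for the subgroup generated by the p-th powers of elements of U and M = C_G(U₁), the subgroup U has index p in M and the subgroup Ω₁(M) generated by the elements of M of order dividing p is elementary abelian of order p² and characteristic in G. -/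
theorem result {G : Type*} [Group G] [Finite G] {p : ℕ} [Fact p.Prime] (hG : IsPGroup p G) (hna : ¬ IsMulCommutative G) (U : Subgroup G) [U.Normal] (hU : IsCyclic U) (n : ℕ) (hUn : Nat.card U = p ^ n) (hC : Subgroup.centralizer (U : Set G) = U) : (p = 2 ∧ Nat.card G = 2 ^ (n + 1) ∧ ((∃ m : ℕ, Nonempty (G ≃* DihedralGroup m)) ∨ (∃ m : ℕ, Nonempty (G ≃* QuaternionGroup m)) ∨ Cfsg.IsQuasiDihedral G)) ∨ (U.relIndex (Subgroup.centralizer (Cfsg.powerClosure p 1 U : Set G)) = p ∧ Cfsg.IsElementaryAbelian p (Cfsg.omegaOne p (Subgroup.centralizer (Cfsg.powerClosure p 1 U : Set G))) ∧ Nat.card ↥(Cfsg.omegaOne p (Subgroup.centralizer (Cfsg.powerClosure p 1 U : Set G))) = p ^ 2 ∧ (Cfsg.omegaOne p (Subgroup.centralizer (Cfsg.powerClosure p 1 U : Set G))).Characteristic) := by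
  classical
  obtain ⟨a, ha⟩ := U.isCyclic_iff_exists_zpowers_eq_top.mp hU
  subst ha
  choose r hr using fun g : G => Subgroup.mem_zpowers_iff.mp
    (‹(Subgroup.zpowers a).Normal›.conj_mem a (Subgroup.mem_zpowers a) g)
  have D : CfsgLib.SelfCentralCyclic.Data p n a r :=
    { pgroup := hG
      order := by rw [← Nat.card_zpowers, hUn]
      conj := fun g => (hr g).symm
      self := fun x hx => by
        refine hC.le (Subgroup.mem_centralizer_iff.mpr fun y hy => ?_)
        obtain ⟨j, rfl⟩ := Subgroup.mem_zpowers_iff.mp hy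
        exact ((hx.zpow_right j).eq).symm
      nonab := by
        by_contra! hall
        exact hna ⟨⟨fun u v => by
          obtain ⟨i, rfl⟩ := Subgroup.mem_zpowers_iff.mp (hall u)
          obtain ⟨j, rfl⟩ := Subgroup.mem_zpowers_iff.mp (hall v)
          exact (Commute.zpow_zpow (Commute.refl a) i j).eq⟩⟩ }
  set M := Subgroup.centralizer (Cfsg.powerClosure p 1 (Subgroup.zpowers a) : Set G)
  by_cases hgt : M ≤ Subgroup.zpowers a
  · exact Or.inl (CfsgLib.SelfCentralCyclic.maxClass_of_self D
      fun g hg => hgt ((D.mem_cent_iff g).mpr hg))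
  · exact CfsgLib.SelfCentralCyclic.cases_of_gt D D.mem_cent_iff hgt

end Cfsg.Agent.S3761
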