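import Cfsg.Statements.S3763
import Cfsg.Agent.ExtraspecialIso.TwoRank

set_option autoImplicit false
open Cfsg

namespace Cfsg.Agent.S3763

theorem hasElem_top_iff {Q : Type*} [Group Q] [Finite Q] {n : ℕ} :
    CfsgLib.ExtraspecialIso.HasElem (⊤ : Subgroup Q) (n + 1) ↔ ¬ Cfsg.PRankLE 2 n Q := by
  have : Fact (Nat.Prime 2) := ⟨Nat.prime_two⟩
  constructor
  · rintro ⟨A, -, hA, hA2, hAc⟩ h
    have h1 := hAc.trans (h A hA hA2)
    rw [Nat.pow_le_pow_iff_right (by norm_num)] at h1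
    omega
  · intro h
    unfold Cfsg.PRankLE at h
    push Not at h
    obtain ⟨A, hA, hA2, hlt⟩ := h
    refine ⟨A, le_top, hA, hA2, ?_⟩
    have hp : IsPGroup 2 A := fun a => ⟨1, by rw [pow_one]; exact Subtype.ext (hA2 a a.2)⟩
    obtain ⟨j, hj⟩ := IsPGroup.iff_card.mp hp
    rw [hj] at hlt ⊢
    exact Nat.pow_le_pow_right (by norm_num) ((Nat.pow_lt_pow_iff_right (by norm_num)).mp hlt)

/-- Let E be an extraspecial 2-group of order 2^(2n+1). Then the largest elementary abelian subgroups of E have order 2^n or 2^(n+1); and two extraspecial 2-groups of the same order whose largest elementary abelian subgroups have the same order are isomorphic. -/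
theorem result {E : Type*} [Group E] [Finite E] (hE : Cfsg.IsExtraspecial 2 E) (n : ℕ) (hn : Nat.card E = 2 ^ (2 * n + 1)) : ((Cfsg.PRankLE 2 n E ∧ ¬ Cfsg.PRankLE 2 (n - 1) E) ∨ (Cfsg.PRankLE 2 (n + 1) E ∧ ¬ Cfsg.PRankLE 2 n E)) ∧ ∀ (E' : Type*) [Group E'] [Finite E'], Cfsg.IsExtraspecial 2 E' → Nat.card E' = Nat.card E → (∀ k : ℕ, Cfsg.PRankLE 2 k E ↔ Cfsg.PRankLE 2 k E') → Nonempty (E ≃* E') := by
  have : Fact (Nat.Prime 2) := ⟨Nat.prime_two⟩
  obtain ⟨z, hg⟩ := CfsgLib.ExtraspecialIso.exists_gen hE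
  have hD := CfsgLib.ExtraspecialIso.nondeg_top (P := E)
  have hc : Nat.card (⊤ : Subgroup E) = 2 ^ (2 * n + 1) := by rw [Subgroup.card_top, hn]
  have hup : Cfsg.PRankLE 2 (n + 1) E := fun A hA _ => hg.card_comm_le n ⊤ hD hc A le_top hA
  have hn0 : 1 ≤ n := by
    obtain ⟨m, hm1, hm⟩ := CfsgLib.ExtraspecialBasic.exists_card_eq hE
    have := Nat.pow_right_injective le_rfl (hn.symm.trans hm)
    omega
  have hlow : ¬ Cfsg.PRankLE 2 (n - 1) E := fun h => by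
    obtain ⟨A, -, hA, hA2, hAc⟩ := hg.hasElem_lower n ⊤ hD hc
    have h1 := hAc.trans (h A hA hA2)
    rw [Nat.pow_le_pow_iff_right (by norm_num)] at h1
    omega
  refine ⟨?_, fun E' _ _ hE' hcard hrk => ?_⟩
  · by_cases h : Cfsg.PRankLE 2 n E
    · exact Or.inl ⟨h, hlow⟩
    · exact Or.inr ⟨hup, h⟩
  obtain ⟨z', hg'⟩ := CfsgLib.ExtraspecialIso.exists_gen hE'
  have hc' : Nat.card (⊤ : Subgroup E') = 2 ^ (2 * n + 1) := by rw [Subgroup.card_top, hcard, hn]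
  refine CfsgLib.ExtraspecialIso.iso_top (CfsgLib.ExtraspecialIso.iso_of_rank hg hg' n ⊤ ⊤ hD
    CfsgLib.ExtraspecialIso.nondeg_top hc hc' ?_)
  rw [hasElem_top_iff, hasElem_top_iff, hrk]

end Cfsg.Agent.S3763
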