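import Cfsg.Statements.S3764
import Cfsg.Agent.FpfModule.Module

set_option autoImplicit false
open Cfsg

namespace Cfsg.Agent.S3764

open Subgroup
open scoped commutatorElement

theorem center_map_eq {G : Type*} [Group G] (Q : Subgroup G) :
    (Subgroup.center Q).map Q.subtype = Q ⊓ centralizer (Q : Set G) := by
  ext g
  simp only [mem_map, mem_inf, mem_centralizer_iff]
  constructor
  · rintro ⟨u, hu, rfl⟩
    exact ⟨u.2, fun y hy => congrArg Subtype.val (mem_center_iff.1 hu ⟨y, hy⟩)⟩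
  · rintro ⟨hg, h⟩
    exact ⟨⟨g, hg⟩, mem_center_iff.2 fun y => Subtype.ext (h y y.2), rfl⟩

/-- Let p, q, r be distinct primes and let X, Q, V be subgroups of a finite group with X of order r, Q an extraspecial q-group normalized by X with C_Q(X) = Z(Q), and V an elementary abelian p-group normalized by X and Q on which XQ acts faithfully ((X ⊔ Q) ∩ C(V) = 1). If C_V(X) = 1, then q = 2, r = 2^n + 1 for some n, and Q has order 2^(2n+1). -/
theorem result {G : Type*} [Group G] [Finite G] {p q r : ℕ} (hp : p.Prime) (hq : q.Prime) (hr : r.Prime) (hpq : p ≠ q) (hpr : p ≠ r) (hqr : q ≠ r) (X Q V : Subgroup G) (hX : Nat.card X = r) (hQ : Cfsg.IsExtraspecial q ↥Q) (hXQ : X ≤ Subgroup.normalizer (Q : Set G)) (hCQ : Q ⊓ Subgroup.centralizer (X : Set G) = (Subgroup.center ↥Q).map Q.subtype) (hV : Cfsg.IsElementaryAbelian p V) (hXV : X ≤ Subgroup.normalizer (V : Set G)) (hQV : Q ≤ Subgroup.normalizer (V : Set G)) (hfaith : (X ⊔ Q) ⊓ Subgroup.centralizer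 (V : Set G) = ⊥) (hCV : V ⊓ Subgroup.centralizer (X : Set G) = ⊥) : q = 2 ∧ ∃ n : ℕ, r = 2 ^ n + 1 ∧ Nat.card Q = 2 ^ (2 * n + 1) := by
  have : Fact p.Prime := ⟨hp⟩
  have : Fact q.Prime := ⟨hq⟩
  obtain ⟨⟨hQp, -, hQc⟩, hZq⟩ := hQ
  obtain ⟨e, he⟩ := IsPGroup.iff_card.mp hQp
  have hnd : ∀ s : ℕ, s.Prime → s ≠ q → ¬ s ∣ Nat.card Q := fun s hs hsq h => by
    rw [he] at h
    exact hsq ((Nat.prime_dvd_prime_iff_eq hs hq).1 (hs.dvd_of_dvd_pow h))
  set Z := Q ⊓ centralizer (Q : Set G) with hZ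
  have hQQ : ⁅Q, Q⁆ = Z := by
    rw [hZ, ← center_map_eq, ← hQc, Subgroup.map_subtype_commutator]
  have hCX : Q ⊓ centralizer (X : Set G) = Z := by rw [hCQ, center_map_eq]
  have hZc : Nat.card Z = q := by
    rw [hZ, ← center_map_eq, card_map_of_injective Q.subtype_injective, hZq]
  obtain ⟨z₀, hz₀, hz₀1⟩ := (bot_or_exists_ne_one Z).resolve_left fun h => hq.ne_one (by
    rw [← hZc, h, card_bot])
  obtain ⟨m, hm, hidx⟩ := CfsgLib.FpfModule.exists_index_eq_group hr hpr X Q V hX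
    (hnd p hp hpq) (hnd r hr (Ne.symm hqr)) hXQ hV.1 hV.2 hXV hQV hfaith hCV
    (fun z hz => ((hCX ▸ hz : z ∈ Q ⊓ centralizer (X : Set G))).2)
    (fun z hz => (show z ∈ Z from hCX ▸ hz).2)
    (hQQ ▸ inf_le_right) (hQQ.symm ▸ hz₀) hz₀1 (fun N _ _ hzN k hk hkc => by
      by_contra hall
      push Not at hall
      obtain ⟨y, hy, hne⟩ : ∃ y ∈ Q, ⁅y, k⁆ ≠ 1 := by
        by_contra h
        push Not at h
        exact hkc (mem_centralizer_iff.2 fun y hy =>
          commutatorElement_eq_one_iff_mul_comm.1 (h y hy))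
      have hle : zpowers ⁅y, k⁆ = Z := CfsgLib.OddOrder.zpowers_eq_of_card_prime (hZc.symm ▸ hq)
        (hQQ ▸ commutator_mem_commutator hy hk) hne
      exact hzN ((zpowers_le.2 (hall y hy)) (hle.symm ▸ hz₀)))
  have hcard : Nat.card Q = q * m ^ 2 := by
    rw [← hidx, ← hZc, ← card_mul_index ((centralizer (Q : Set G)).subgroupOf Q)]
    congr 1
    rw [← card_map_of_injective Q.subtype_injective, subgroupOf_map_subtype, inf_comm]
  obtain ⟨n, -, hn⟩ := (Nat.dvd_prime_pow hq).1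
    (he ▸ hcard ▸ (dvd_pow_self m two_ne_zero).mul_left q : m ∣ q ^ e)
  have hn0 : n ≠ 0 := by
    rintro rfl
    rw [pow_zero] at hn
    rw [hn, one_pow, mul_one] at hcard
    have hZQ : Z = Q := eq_of_le_of_card_ge inf_le_left (by rw [hcard, hZc])
    have : ⁅Q, Q⁆ = ⊥ := commutator_eq_bot_iff_le_centralizer.2 (hZQ.symm.le.trans inf_le_right)
    rw [hQQ] at this
    rw [this, card_bot] at hZc
    exact hq.ne_one hZc.symm
  have hq2 : q = 2 := by
    rcases hq.eq_two_or_odd' with h | h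
    · exact h
    · exfalso
      have hodd : Odd (q ^ n) := h.pow
      have h2 : 2 ∣ r := by rw [hm, hn]; exact (Odd.add_one hodd).two_dvd
      have hr2 := ((Nat.prime_dvd_prime_iff_eq Nat.prime_two hr).1 h2).symm
      have := Nat.one_lt_pow hn0 hq.one_lt
      omega
  subst hq2
  exact ⟨rfl, n, by rw [hm, hn], by rw [hcard, hn, ← pow_mul, pow_succ', mul_comm n]⟩

end Cfsg.Agent.S3764
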