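import Cfsg.Statements.S3765
import Cfsg.Agent.FpfModule.Module
import Cfsg.Agent.OddOrder.BG3.Frobenius
import Cfsg.Agent.Coprime.Abelian

set_option autoImplicit false
open Cfsg

namespace Cfsg.Agent.S3765

open Subgroup
open scoped commutatorElement

/-- Let p, q, r be distinct primes and let X, Q, V be subgroups of a finite group with X of order r normalizing the q-group Q and acting faithfully on it (X ∩ C(Q) = 1), and V a nontrivial elementary abelian p-group normalized by X and Q on which XQ acts faithfully. If q = 2 and r has the form 2^n + 1, assume in addition that Q is abelian. Then C_V(X) ≠ 1. -/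
theorem result {G : Type*} [Group G] [Finite G] {p q r : ℕ} (hp : p.Prime) (hq : q.Prime) (hr : r.Prime) (hpq : p ≠ q) (hpr : p ≠ r) (hqr : q ≠ r) (X Q V : Subgroup G) (hX : Nat.card X = r) (hQ : IsPGroup q Q) (hXQ : X ≤ Subgroup.normalizer (Q : Set G)) (hXfaith : X ⊓ Subgroup.centralizer (Q : Set G) = ⊥) (hV : Cfsg.IsElementaryAbelian p V) (hV1 : V ≠ ⊥) (hXV : X ≤ Subgroup.normalizer (V : Set G)) (hQV : Q ≤ Subgroup.normalizer (V : Set G)) (hfaith : (X ⊔ Q) ⊓ Subgroup.centralizer (V : Set G) = ⊥) (hexc : q = 2 → (∃ n : ℕ, r = 2 ^ n + 1) → IsMulCommutative Q) : V ⊓ Subgroup.centralizer (X : Set G) ≠ ⊥ := by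
  classical
  have : Fact p.Prime := ⟨hp⟩
  have : Fact q.Prime := ⟨hq⟩
  intro hCV
  have hndvd : ∀ (s : ℕ) (K : Subgroup G), s.Prime → s ≠ q → K ≤ Q → ¬ s ∣ Nat.card K := by
    intro s K hs hsq hKQ h
    obtain ⟨e, he⟩ := IsPGroup.iff_card.mp hQ
    have h' := h.trans (card_dvd_of_le hKQ)
    rw [he] at h'
    exact hsq ((Nat.prime_dvd_prime_iff_eq hs hq).1 (hs.dvd_of_dvd_pow h'))
  obtain ⟨K, ⟨hKQ, hXK, hKc⟩, hmin⟩ := (wellFounded_lt (α := Subgroup G)).has_min
    {K | K ≤ Q ∧ X ≤ normalizer (K : Set G) ∧ ¬ K ≤ centralizer (X : Set G)}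
    ⟨Q, le_rfl, hXQ, fun h => by
      rw [le_centralizer_iff] at h
      rw [inf_eq_left.2 h] at hXfaith
      rw [hXfaith, card_bot] at hX
      exact hr.ne_one hX.symm⟩
  have hsub : ∀ L : Subgroup G, L < K → X ≤ normalizer (L : Set G) → L ≤ centralizer (X : Set G) :=
    fun L hL hXL => by
      by_contra h
      exact hmin L ⟨hL.le.trans hKQ, hXL, h⟩ hL
  have hKr : (Nat.card X).Coprime (Nat.card K) := by
    rw [hX]; exact hr.coprime_iff_not_dvd.2 (hndvd r K hr (Ne.symm hqr) hKQ)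
  -- `[K, X] = K`
  have heq : ⁅K, X⁆ = K := by
    refine (CfsgLib.Coprime.commutator_le_of_le_normalizer hXK).eq_of_not_lt fun hlt => hKc ?_
    have h := commutator_eq_bot_iff_le_centralizer.2
      (hsub _ hlt (normalizer_commutator_ge_right K X))
    rw [CfsgLib.Coprime.commutator_commutator_eq hXK hKr] at h
    exact commutator_eq_bot_iff_le_centralizer.1 h
  have hfK : (X ⊔ K) ⊓ centralizer (V : Set G) = ⊥ :=
    eq_bot_iff.2 ((inf_le_inf_right _ (sup_le_sup_left hKQ X)).trans hfaith.le)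
  have hKV := hKQ.trans hQV
  -- the abelian case
  by_cases hab : ⁅K, K⁆ = ⊥
  · have hcen := commutator_eq_bot_iff_le_centralizer.1 hab
    have : IsMulCommutative K := ⟨⟨fun a b => Subtype.ext
      (mem_centralizer_iff.1 (hcen b.2) a a.2)⟩⟩
    have hfix : K ⊓ centralizer (X : Set G) = ⊥ := by
      have h := CfsgLib.Coprime.inf_centralizer_inf_commutator_eq_bot (V := K) hXK hKr
      rw [heq] at h
      rwa [inf_eq_left.2 inf_le_left] at h
    have hle : K ≤ centralizer (V : Set G) := by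
      refine CfsgLib.OddOrder.le_centralizer_of_frobenius_action hV.1 hXK hKV hXV
        (fun x hx hx1 => ?_) ?_ hCV
      · rw [← hfix, ← CfsgLib.OddOrder.zpowers_eq_of_card_prime (hX ▸ hr) hx hx1]
        congr 1
        ext g
        rw [mem_centralizer_singleton_iff, mem_centralizer_iff]
        refine ⟨fun h y hy => ?_, fun h => (h x (mem_zpowers x)).symm⟩
        obtain ⟨i, rfl⟩ := mem_zpowers_iff.1 hy
        exact (Commute.zpow_left (show Commute x g from h.symm) i).eq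
      · obtain ⟨e, he⟩ := IsPGroup.iff_card.mp (show IsPGroup p V from fun v => ⟨1, by
          rw [pow_one]; exact Subtype.ext (hV.2 v v.2)⟩)
        rw [he]
        exact Nat.Coprime.pow_right _ ((hp.coprime_iff_not_dvd.2 (hndvd p K hp hpq hKQ)).symm)
    have : K = ⊥ := eq_bot_iff.2 fun k hk => hfK ▸ ⟨mem_sup_right hk, hle hk⟩
    exact hKc (this.le.trans bot_le)
  -- the nonabelian case
  have hKp : IsPGroup q K := hQ.to_le hKQ
  have hne : K ≠ ⊥ := fun h => hab (by rw [h, commutator_bot_left])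
  have hK' : ⁅K, K⁆ < K := by
    refine (commutator_le_self K).lt_of_ne fun h => ?_
    have : Nontrivial K := (nontrivial_iff_ne_bot K).2 hne
    have := hKp.isNilpotent
    refine (Group.IsSolvable.commutator_lt_top_of_nontrivial (G := K)).ne
      (map_injective K.subtype_injective ?_)
    rw [map_subtype_commutator, h, ← MonoidHom.range_eq_map, range_subtype]
  have hconjX : ∀ g ∈ X, ∀ k ∈ K, g * k * g⁻¹ ∈ K := fun g hg k hk =>
    (mem_normalizer_iff.1 (hXK hg) k).1 hk
  have hnormK' : X ≤ normalizer ((⁅K, K⁆ : Subgroup G) : Set G) := fun g hg =>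
    mem_normalizer_iff_map_conj_eq.2 (by
      rw [map_commutator, mem_normalizer_iff_map_conj_eq.1 (hXK hg)])
  have hK'X : ⁅⁅K, K⁆, X⁆ = ⊥ := commutator_eq_bot_iff_le_centralizer.2 (hsub _ hK' hnormK')
  have hclass : ⁅K, K⁆ ≤ centralizer (K : Set G) := by
    rw [← commutator_eq_bot_iff_le_centralizer]
    have h1 : ⁅⁅X, ⁅K, K⁆⁆, K⁆ = ⊥ := by
      rw [commutator_comm X, hK'X, commutator_bot_left]
    have h2 : ⁅⁅⁅K, K⁆, K⁆, X⁆ = ⊥ :=
      le_bot_iff.1 ((commutator_mono (commutator_mono hK'.le le_rfl) le_rfl).trans hK'X.le)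
    have h := commutator_commutator_eq_bot_of_rotate (H₁ := K) (H₂ := X) (H₃ := ⁅K, K⁆) h1 h2
    rwa [heq, commutator_comm] at h
  have hCX : K ⊓ centralizer (X : Set G) ≤ centralizer (K : Set G) := by
    have h1 : ⁅⁅X, K ⊓ centralizer (X : Set G)⁆, K⁆ = ⊥ := by
      rw [commutator_comm X, commutator_eq_bot_iff_le_centralizer.2 inf_le_right,
        commutator_bot_left]
    have h2 : ⁅⁅K ⊓ centralizer (X : Set G), K⁆, X⁆ = ⊥ :=
      le_bot_iff.1 ((commutator_mono (commutator_mono inf_le_left le_rfl) le_rfl).trans hK'X.le)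
    have h := commutator_commutator_eq_bot_of_rotate (H₁ := K) (H₂ := X)
      (H₃ := K ⊓ centralizer (X : Set G)) h1 h2
    rwa [heq, commutator_comm, commutator_eq_bot_iff_le_centralizer] at h
  set D := K ⊓ centralizer (K : Set G) with hD
  have hDK : D < K := lt_of_le_of_ne inf_le_left fun h => hab
    (commutator_eq_bot_iff_le_centralizer.2 (h.symm.le.trans inf_le_right))
  have hDX : D ≤ centralizer (X : Set G) := hsub _ hDK (le_normalizer_iff.2 fun g hg k hk => by
    refine ⟨hconjX g hg k hk.1, mem_centralizer_iff.2 fun y hy => ?_⟩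
    have hy' : g⁻¹ * y * g ∈ K := by simpa using hconjX g⁻¹ (inv_mem hg) y hy
    have h := mem_centralizer_iff.1 hk.2 _ hy'
    calc y * (g * k * g⁻¹) = g * ((g⁻¹ * y * g) * k) * g⁻¹ := by group
      _ = g * (k * (g⁻¹ * y * g)) * g⁻¹ := by rw [h]
      _ = g * k * g⁻¹ * y := by group)
  obtain ⟨z₀, hz₀, hz₀1⟩ := (bot_or_exists_ne_one ⁅K, K⁆).resolve_left hab
  have hnd : ∀ N : Subgroup G, X ≤ normalizer (N : Set G) → K ≤ normalizer (N : Set G) → z₀ ∉ N →
      ∀ k ∈ K, k ∉ centralizer (K : Set G) → ∃ y ∈ K, ⁅y, k⁆ ∉ N := by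
    intro N hXN _ hzN k hk hkc
    by_contra hall
    push Not at hall
    have hmul : ∀ y ∈ K, ∀ a ∈ K, ∀ b ∈ K, ⁅y, a * b⁆ = ⁅y, a⁆ * ⁅y, b⁆ := by
      intro y hy a ha b hb
      have hc := mem_centralizer_iff.1 (hclass (commutator_mem_commutator hy hb)) a ha
      calc ⁅y, a * b⁆ = ⁅y, a⁆ * (a * ⁅y, b⁆) * a⁻¹ := by
              simp only [commutatorElement_def]; group
        _ = ⁅y, a⁆ * ⁅y, b⁆ := by rw [hc]; group
    let P : Subgroup G :=
      { carrier := {u | u ∈ K ∧ ∀ y ∈ K, ⁅y, u⁆ ∈ N}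
        one_mem' := ⟨one_mem K, fun y _ => by rw [commutatorElement_one_right]; exact one_mem N⟩
        mul_mem' := fun {a b} ha hb => ⟨mul_mem ha.1 hb.1, fun y hy => by
          rw [hmul y hy a ha.1 b hb.1]; exact N.mul_mem (ha.2 y hy) (hb.2 y hy)⟩
        inv_mem' := fun {a} ha => ⟨inv_mem ha.1, fun y hy => by
          have h := hmul y hy a ha.1 a⁻¹ (inv_mem ha.1)
          rw [mul_inv_cancel, commutatorElement_one_right] at h
          rw [eq_inv_of_mul_eq_one_right h.symm]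
          exact inv_mem (ha.2 y hy)⟩ }
    have hPK : P ≤ K := fun u hu => hu.1
    rcases hPK.lt_or_eq with hlt | hPeq
    · have hPX : P ≤ centralizer (X : Set G) := hsub _ hlt (le_normalizer_iff.2 fun g hg u hu => by
        refine ⟨hconjX g hg u hu.1, fun y hy => ?_⟩
        have h1 := hu.2 (g⁻¹ * y * g) (by simpa using hconjX g⁻¹ (inv_mem hg) y hy)
        have h2 := (mem_normalizer_iff.1 (hXN hg) _).1 h1
        have h3 : ⁅y, g * u * g⁻¹⁆ = g * ⁅g⁻¹ * y * g, u⁆ * g⁻¹ := by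
          simp only [commutatorElement_def]; group
        rw [h3]; exact h2)
      exact hkc (hCX ⟨hk, hPX (show k ∈ P from ⟨hk, hall⟩)⟩)
    · have hle : ⁅K, K⁆ ≤ N := commutator_le.2 fun a ha b hb => (hPeq.symm ▸ hb : b ∈ P).2 a ha
      exact hzN (hle hz₀)
  obtain ⟨m, hm, hidx⟩ := CfsgLib.FpfModule.exists_index_eq_group hr hpr X K V hX
    (hndvd p K hp hpq hKQ) (hndvd r K hr (Ne.symm hqr) hKQ) hXK hV.1 hV.2 hXV hKV hfK hCV
    hDX hCX hclass hz₀ hz₀1 hnd
  obtain ⟨e, he⟩ := IsPGroup.iff_card.mp hKp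
  obtain ⟨n, -, hn⟩ := (Nat.dvd_prime_pow hq).1 (he ▸ ((dvd_pow_self m two_ne_zero).trans
    (hidx ▸ index_dvd_card ((centralizer (K : Set G)).subgroupOf K))) : m ∣ q ^ e)
  have hm1 : m ≠ 1 := by
    rintro rfl
    rw [one_pow, index_eq_one, subgroupOf_eq_top] at hidx
    exact hab (commutator_eq_bot_iff_le_centralizer.2 hidx)
  rcases hq.eq_two_or_odd' with h | h
  · subst h
    have hQc := hexc rfl ⟨n, by rw [hm, hn]⟩
    refine hab (commutator_eq_bot_iff_le_centralizer.2 fun a ha => mem_centralizer_iff.2 fun b hb =>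
      ?_)
    exact congrArg Subtype.val (hQc.is_comm.comm ⟨b, hKQ hb⟩ ⟨a, hKQ ha⟩)
  · have hodd : Odd (q ^ n) := h.pow
    have h2 : 2 ∣ r := by rw [hm, hn]; exact (Odd.add_one hodd).two_dvd
    have hr2 := ((Nat.prime_dvd_prime_iff_eq Nat.prime_two hr).1 h2).symm
    omega

end Cfsg.Agent.S3765
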