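import Cfsg.Statements.S3766
import Cfsg.Agent.Solvable.Fitting

set_option autoImplicit false
open Cfsg

namespace Cfsg.Agent.S3766

open scoped commutatorElement

/-- a nilpotent normal subgroup centralizes every chief factor -/
theorem commutator_le_of_chief {G : Type*} [Group G] (F : Subgroup G) [F.Normal] [Group.IsNilpotent ↥F]
    (U V : Subgroup G) [U.Normal] [V.Normal] (hVU : V < U)
    (hmin : ∀ W : Subgroup G, W.Normal → V ≤ W → W ≤ U → W = V ∨ W = U) : ⁅U, F⁆ ≤ V := by
  rcases hmin (⁅U, F⁆ ⊔ V) inferInstance le_sup_right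
    (sup_le (Subgroup.commutator_le_left U F) hVU.le) with h | h
  · exact le_sup_left.trans h.le
  · exfalso
    set q := QuotientGroup.mk' V with hq
    have hUq : U.map q = ⁅U.map q, F.map q⁆ := by
      conv_lhs => rw [← h]
      rw [Subgroup.map_sup, Subgroup.map_commutator,
        show V.map q = ⊥ by rw [Subgroup.map_eq_bot_iff, hq, QuotientGroup.ker_mk'], sup_bot_eq]
    have hk : ∀ k, U.map q ≤ (F.lowerCentralSeries k).map q := by
      intro k
      induction k with
      | zero =>
        rw [Subgroup.lowerCentralSeries_zero, hUq]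
        haveI : (F.map q).Normal := ‹F.Normal›.map q (QuotientGroup.mk'_surjective V)
        exact Subgroup.commutator_le_right _ _
      | succ k ih =>
        rw [Subgroup.lowerCentralSeries_succ, Subgroup.map_commutator, hUq]
        exact Subgroup.commutator_mono ih le_rfl
    obtain ⟨n, hn⟩ := (Subgroup.isNilpotent_iff_lowerCentralSeries F).mp ‹Group.IsNilpotent ↥F›
    have h1 := hk n
    rw [hn, Subgroup.map_bot, le_bot_iff, Subgroup.map_eq_bot_iff, hq,
      QuotientGroup.ker_mk'] at h1
    exact hVU.not_ge h1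

/-- every non-trivial normal subgroup lies at the top of a chief factor -/
theorem exists_chief_below {G : Type*} [Group G] [Finite G] (U : Subgroup G) [U.Normal] (hU : U ≠ ⊥) :
    ∃ V : Subgroup G, V.Normal ∧ V < U ∧
      ∀ W : Subgroup G, W.Normal → V ≤ W → W ≤ U → W = V ∨ W = U := by
  obtain ⟨V, ⟨hV, hVU⟩, hmax⟩ := Set.Finite.exists_maximal (Set.toFinite {V : Subgroup G | V.Normal ∧ V < U})
    ⟨⊥, inferInstance, bot_lt_iff_ne_bot.mpr hU⟩
  refine ⟨V, hV, hVU, fun W hW hVW hWU => ?_⟩
  rcases eq_or_lt_of_le hWU with h | h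
  · exact Or.inr h
  · exact Or.inl (le_antisymm (hmax ⟨hW, h⟩ hVW) hVW)

/-- a subgroup with commutator inside `F` centralizing the chief factors below `F` is nilpotent -/
theorem isNilpotent_of_centralizes {G : Type*} [Group G] [Finite G] (F W : Subgroup G) [W.Normal]
    (hW : ⁅W, W⁆ ≤ F)
    (hc : ∀ U V : Subgroup G, U.Normal → V.Normal → V < U →
      (∀ X : Subgroup G, X.Normal → V ≤ X → X ≤ U → X = V ∨ X = U) → U ≤ F → ⁅U, W⁆ ≤ V) :
    Group.IsNilpotent ↥W := by
  rw [Subgroup.isNilpotent_iff_lowerCentralSeries]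
  set L : ℕ → Subgroup G := fun k => W.lowerCentralSeries k with hL
  have hLn : ∀ k, (L k).Normal := by
    intro k
    induction k with
    | zero => exact ‹W.Normal›
    | succ k ih =>
      haveI : (W.lowerCentralSeries k).Normal := ih
      exact Subgroup.commutator_normal _ _
  have hLsub : ∀ k, L k ≤ W := by
    intro k
    induction k with
    | zero => exact le_rfl
    | succ k ih => exact (Subgroup.commutator_mono ih le_rfl).trans (Subgroup.commutator_le_left W W)
  have hLF : ∀ k, L (k + 1) ≤ F := fun k => (Subgroup.commutator_mono (hLsub k) le_rfl).trans hW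
  have hdec : ∀ k, L (k + 1) = ⊥ ∨ Nat.card (L (k + 2)) < Nat.card (L (k + 1)) := by
    intro k
    by_cases h : L (k + 1) = ⊥
    · exact Or.inl h
    right
    haveI := hLn (k + 1)
    obtain ⟨V, hV, hVL, hmin⟩ := exists_chief_below (L (k + 1)) h
    have hle : L (k + 2) ≤ V := hc (L (k + 1)) V (hLn _) hV hVL hmin (hLF k)
    refine lt_of_le_of_ne (Subgroup.card_le_of_le (hle.trans hVL.le)) fun he => hVL.not_ge ?_
    rw [← Subgroup.eq_of_le_of_card_ge (hle.trans hVL.le) he.ge]
    exact hle
  have hstep : ∀ j, L (j + 1) = ⊥ ∨ Nat.card (L (j + 1)) + j ≤ Nat.card (L 1) := by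
    intro j
    induction j with
    | zero => exact Or.inr le_rfl
    | succ j ih =>
      rcases hdec j with h | h
      · left
        show ⁅L (j + 1), W⁆ = ⊥
        rw [h, Subgroup.commutator_bot_left]
      · rcases ih with h' | h'
        · rw [h', Subgroup.card_bot] at h
          have := Nat.card_pos (α := L (j + 2))
          omega
        · exact Or.inr (show Nat.card (L (j + 2)) + (j + 1) ≤ _ by omega)
  rcases hstep (Nat.card (L 1)) with h | h
  · exact ⟨_, h⟩
  · have := Nat.card_pos (α := L (Nat.card (L 1) + 1))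
    omega


/-- Let G be a finite solvable group and N a normal subgroup of G. Call a pair V < U of normal subgroups of G a chief factor of G when no normal subgroup of G lies strictly between them; an element g centralizes the chief factor U/V when u g u⁻¹ g⁻¹ ∈ V for all u ∈ U. Then an element of G lies in the Fitting subgroup F(N) if and only if it lies in N and centralizes every chief factor of G; and also if and only if it lies in N and centralizes every chief factor U/V of G with U ≤ F(N). -/
theorem result {G : Type*} [Group G] [Finite G] (hG : Group.IsSolvable G) (N : Subgroup G) [N.Normal] (g : G) : (g ∈ (Cfsg.fittingSubgroup ↥N).map N.subtype ↔ g ∈ N ∧ ∀ U V : Subgroup G, (U.Normal ∧ V.Normal ∧ V < U ∧ ∀ W : Subgroup G, W.Normal → V ≤ W → W ≤ U → W = V ∨ W = U) → ∀ u ∈ U, u * g * u⁻¹ * g⁻¹ ∈ V) ∧ (g ∈ (Cfsg.fittingSubgroup ↥N).map N.subtype ↔ g ∈ N ∧ ∀ U V : Subgroup G, (U.Normal ∧ V.Normal ∧ V < U ∧ ∀ W : Subgroup G, W.Normal → V ≤ W → W ≤ U → W = V ∨ W = U) → U ≤ (Cfsg.fittingSubgroup ↥N).map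 N.subtype → ∀ u ∈ U, u * g * u⁻¹ * g⁻¹ ∈ V) := by
  set F : Subgroup G := (Cfsg.fittingSubgroup ↥N).map N.subtype with hF
  haveI : (Cfsg.fittingSubgroup ↥N).Characteristic := CfsgLib.Solvable.fittingSubgroup_characteristic
  haveI hFn : F.Normal := by rw [hF]; infer_instance
  haveI : Group.IsNilpotent ↥(Cfsg.fittingSubgroup ↥N) := CfsgLib.Solvable.fittingSubgroup_isNilpotent
  haveI hFnil : Group.IsNilpotent ↥F :=
    Group.nilpotent_of_mulEquiv ((Cfsg.fittingSubgroup ↥N).equivMapOfInjective N.subtype N.subtype_injective)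
  have hfwd : ∀ g ∈ F, g ∈ N ∧ ∀ U V : Subgroup G, (U.Normal ∧ V.Normal ∧ V < U ∧ ∀ W : Subgroup G, W.Normal → V ≤ W → W ≤ U → W = V ∨ W = U) → ∀ u ∈ U, u * g * u⁻¹ * g⁻¹ ∈ V := by
    rintro g hg
    refine ⟨Subgroup.map_subtype_le _ hg, ?_⟩
    rintro U V ⟨hU, hV, hVU, hmin⟩ u hu
    exact commutator_le_of_chief F U V hVU hmin (Subgroup.commutator_mem_commutator hu hg)
  -- the elements of `N` centralizing the chief factors below `F`
  have hbwd : ∀ g ∈ N, (∀ U V : Subgroup G, (U.Normal ∧ V.Normal ∧ V < U ∧ ∀ W : Subgroup G, W.Normal → V ≤ W → W ≤ U → W = V ∨ W = U) → U ≤ F → ∀ u ∈ U, u * g * u⁻¹ * g⁻¹ ∈ V) → g ∈ F := by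
    set C : Subgroup G := N ⊓ ⨅ p : {p : Subgroup G × Subgroup G // p.1.Normal ∧ p.2.Normal ∧ p.2 < p.1 ∧
      (∀ W : Subgroup G, W.Normal → p.2 ≤ W → W ≤ p.1 → W = p.2 ∨ W = p.1) ∧ p.1 ≤ F},
      (haveI := p.2.2.1; Subgroup.comap (QuotientGroup.mk' p.1.2)
        (Subgroup.centralizer ((p.1.1.map (QuotientGroup.mk' p.1.2) : Subgroup (G ⧸ p.1.2)) : Set (G ⧸ p.1.2))))
      with hC
    have hCn : C.Normal := by
      refine Subgroup.normal_inf_normal _ _ (hK := Subgroup.normal_iInf_normal fun p => ?_)
      haveI := p.2.1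
      haveI := p.2.2.1
      haveI : (p.1.1.map (QuotientGroup.mk' p.1.2)).Normal := p.2.1.map _ (QuotientGroup.mk'_surjective _)
      infer_instance
    have hCmem : ∀ U V : Subgroup G, U.Normal → V.Normal → V < U →
        (∀ X : Subgroup G, X.Normal → V ≤ X → X ≤ U → X = V ∨ X = U) → U ≤ F → ⁅U, C⁆ ≤ V := by
      intro U V hU hV hVU hmin hUF
      rw [Subgroup.commutator_le]
      intro u hu c hc
      have h := Subgroup.mem_centralizer_iff.mp (Subgroup.mem_comap.mp
        (Subgroup.mem_iInf.mp hc.2 ⟨(U, V), hU, hV, hVU, hmin, hUF⟩)) _ (Subgroup.mem_map_of_mem _ hu)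
      rw [← QuotientGroup.eq_one_iff, commutatorElement_def]
      simp only [QuotientGroup.mk_mul, QuotientGroup.mk_inv]
      simp only [QuotientGroup.mk'_apply] at h
      rw [h]
      group
    have hCF : C ≤ F := by
      haveI : Group.IsSolvable ↥C := inferInstance
      obtain ⟨n, hn⟩ := (inferInstance : Group.IsSolvable ↥C).solvable
      have key : ∀ j k, k + j = n → (derivedSeries ↥C k).map C.subtype ≤ F := by
        intro j
        induction j with
        | zero => rintro k rfl; rw [add_zero] at hn; rw [hn, Subgroup.map_bot]; exact bot_le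
        | succ j ih =>
          intro k hk
          set W := (derivedSeries ↥C k).map C.subtype with hW
          haveI : (derivedSeries ↥C k).Characteristic := derivedSeries_characteristic ↥C k
          haveI : W.Normal := by rw [hW]; infer_instance
          have hWW : ⁅W, W⁆ ≤ F := by
            rw [hW, ← Subgroup.map_commutator]
            exact ih (k + 1) (by omega)
          have hWC : W ≤ C := Subgroup.map_subtype_le _
          haveI := isNilpotent_of_centralizes F W hWW fun U V hU hV hVU hmin hUF =>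
            (Subgroup.commutator_mono le_rfl hWC).trans (hCmem U V hU hV hVU hmin hUF)
          have hWN : W ≤ N := hWC.trans inf_le_left
          haveI : Group.IsNilpotent ↥(W.subgroupOf N) :=
            Group.nilpotent_of_mulEquiv (Subgroup.subgroupOfEquivOfLe hWN).symm
          intro w hw
          exact ⟨⟨w, hWN hw⟩, CfsgLib.Solvable.le_fittingSubgroup (N := W.subgroupOf N)
            inferInstance (show w ∈ W from hw), rfl⟩
      have h0 := key n 0 (zero_add n)
      rwa [derivedSeries_zero, ← MonoidHom.range_eq_map, Subgroup.range_subtype] at h0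
    intro g hgN hg
    refine hCF ⟨hgN, Subgroup.mem_iInf.mpr ?_⟩
    rintro ⟨⟨U, V⟩, hU, hV, hVU, hmin, hUF⟩
    rw [Subgroup.mem_comap, Subgroup.mem_centralizer_iff]
    rintro _ ⟨u, hu, rfl⟩
    have h := hg U V ⟨hU, hV, hVU, hmin⟩ hUF u hu
    rw [← QuotientGroup.eq_one_iff] at h
    simp only [QuotientGroup.mk_mul, QuotientGroup.mk_inv] at h
    rw [mul_inv_eq_one, mul_inv_eq_iff_eq_mul] at h
    exact h
  constructor
  · exact ⟨hfwd g, fun h => hbwd g h.1 fun U V hUV _ => h.2 U V hUV⟩
  · exact ⟨fun h => ⟨(hfwd g h).1, fun U V hUV _ => (hfwd g h).2 U V hUV⟩, fun h => hbwd g h.1 h.2⟩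

end Cfsg.Agent.S3766
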