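import Cfsg.Statements.S3767
import Cfsg.Agent.FpfModule.Symplectic
import Cfsg.Agent.ExtraspecialBasic.Order

set_option autoImplicit false
set_option linter.style.haveILetI false
open Cfsg

namespace Cfsg.Agent.S3767

open Subgroup
open scoped commutatorElement

theorem center_map_eq {G : Type*} [Group G] (Q : Subgroup G) :
    (Subgroup.center Q).map Q.subtype = Q ⊓ centralizer (Q : Set G) := by
  ext g
  simp only [mem_map, mem_inf, mem_centralizer_iff]
  constructor
  · rintro ⟨u, hu, rfl⟩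
    exact ⟨u.2, fun y hy => congrArg Subtype.val (mem_center_iff.1 hu ⟨y, hy⟩)⟩
  · rintro ⟨hg, h⟩
    exact ⟨⟨g, hg⟩, mem_center_iff.2 fun y => Subtype.ext (h y y.2), rfl⟩

/-- A biadditive map over `ZMod p` is bilinear. -/
def toForm {p : ℕ} {A : Type*} [AddCommGroup A] [Module (ZMod p) A] (β : A →+ A →+ ZMod p) :
    LinearMap.BilinForm (ZMod p) A :=
  LinearMap.mk₂ (ZMod p) (fun u v => β u v) (fun u w v => by simp)
    (fun c u v => ZMod.map_smul (β.flip v) c u) (fun u v w => map_add (β u) v w)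
    (fun c u v => ZMod.map_smul (β u) c v)

/-- The statement for an additive group of exponent `p` with a biadditive form. -/
theorem pow_eq_or_of_addForm {A : Type*} [AddCommGroup A] [Finite A] {p : ℕ} [Fact p.Prime]
    [Module (ZMod p) A] (β : A →+ A →+ ZMod p) (halt : ∀ x, β x x = 0)
    (hnd : ∀ x, (∀ y, β x y = 0) → x = 0) (g : A →+ A) {h : ℕ} (h0 : 0 < h)
    (hpow : ∀ x, g^[h] x = x) (hfree : ∀ i, 0 < i → i < h → ∀ x, g^[i] x = x → x = 0)
    (hisom : ∀ x y, β (g x) (g y) = β x y) {n : ℕ} (hn : Nat.card A = p ^ (2 * n)) :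
    (p : ZMod h) ^ n = 1 ∨ (p : ZMod h) ^ n = -1 := by
  haveI : FiniteDimensional (ZMod p) A := Module.Finite.of_finite
  let B := toForm (p := p) β
  let G₀ : Module.End (ZMod p) A := g.toZModLinearMap p
  have hG : ∀ (i : ℕ) (x : A), (G₀ ^ i) x = g^[i] x := fun i x => by
    rw [Module.End.coe_pow]; rfl
  have hskew : ∀ x y, β x y = 0 → β y x = 0 := fun x y hxy => by
    have := halt (x + y)
    simpa [halt, hxy] using this
  refine CfsgLib.FpfModule.Symplectic.pow_eq_or (B := B) (g := G₀) ⟨?_, ?_, halt,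
    ⟨hnd, fun y hy => hnd y fun x => hskew _ _ (hy x)⟩, hisom⟩ h0 ?_
  · exact LinearMap.ext fun x => (hG h x).trans (hpow x)
  · exact fun i hi0 hi x hx => hfree i hi0 hi x ((hG i x).symm.trans hx)
  · have h2 := Module.natCard_eq_pow_finrank (K := ZMod p) (V := A)
    rw [Nat.card_zmod, hn] at h2
    exact (Nat.pow_right_injective (Nat.Prime.two_le Fact.out) h2).symm

/-- The commutator form of an extraspecial group, as an abstract statement about an automorphism. -/
theorem pow_eq_or_of_auto {Q : Type*} [Group Q] [Finite Q] {p : ℕ} [Fact p.Prime]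
    (hQ : Cfsg.IsExtraspecial p Q) {n : ℕ} (hn : Nat.card Q = p ^ (2 * n + 1)) {h : ℕ} (h0 : 0 < h)
    (hcop : h.Coprime p) (a : MulAut Q) (hah : a ^ h = 1)
    (hfix : ∀ z ∈ Subgroup.center Q, a z = z)
    (hfree : ∀ i, 0 < i → i < h → ∀ u : Q, (a ^ i) u = u → u ∈ Subgroup.center Q) :
    (p : ZMod h) ^ n = 1 ∨ (p : ZMod h) ^ n = -1 := by
  classical
  set Z := Subgroup.center Q with hZ
  letI : CommGroup (Q ⧸ Z) :=
    { (inferInstance : Group (Q ⧸ Z)) with
      mul_comm := fun u v => by
        obtain ⟨u, rfl⟩ := QuotientGroup.mk_surjective u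
        obtain ⟨v, rfl⟩ := QuotientGroup.mk_surjective v
        rw [← QuotientGroup.mk_mul, ← QuotientGroup.mk_mul, QuotientGroup.eq]
        have := CfsgLib.ExtraspecialBasic.commutator_mem_center hQ v⁻¹ u⁻¹
        simpa [commutatorElement_def, mul_assoc] using this }
  haveI : Finite (Additive (Q ⧸ Z)) := Finite.of_equiv _ Additive.ofMul
  have hexp : ∀ v : Additive (Q ⧸ Z), p • v = 0 := fun v => by
    obtain ⟨u, hu⟩ := QuotientGroup.mk_surjective (Additive.toMul v)
    show Additive.ofMul ((Additive.toMul v) ^ p) = 0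
    rw [← hu, ← QuotientGroup.mk_pow, (QuotientGroup.eq_one_iff _).2
      (CfsgLib.ExtraspecialBasic.pow_mem_center hQ u)]
    rfl
  -- the form
  let ι : Z ≃* Multiplicative (ZMod p) :=
    mulEquivOfPrimeCardEq hQ.2 (by rw [Nat.card_congr Multiplicative.toAdd, Nat.card_zmod])
  let c : Q → (Q ⧸ Z) →* Multiplicative (ZMod p) := fun u =>
    QuotientGroup.lift Z (ι.toMonoidHom.comp (CfsgLib.ExtraspecialBasic.commHom hQ u)) fun z hz => by
      rw [MonoidHom.mem_ker, MonoidHom.comp_apply,
        (CfsgLib.ExtraspecialBasic.commHom_eq_one hQ).2 (Subgroup.mem_center_iff.1 hz u), map_one]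
  have hc : ∀ u v : Q, c u (v : Q ⧸ Z) = ι (CfsgLib.ExtraspecialBasic.commHom hQ u v) := fun u v => rfl
  have hskew : ∀ u v : Q, c u (v : Q ⧸ Z) * c v (u : Q ⧸ Z) = 1 := fun u v => by
    rw [hc, hc, ← map_mul, ← map_one ι]
    congr 1
    apply Subtype.ext
    show ⁅u, v⁆ * ⁅v, u⁆ = 1
    rw [← commutatorElement_inv v u, inv_mul_cancel]
  let d : (Q ⧸ Z) →* ((Q ⧸ Z) →* Multiplicative (ZMod p)) :=
    QuotientGroup.lift Z
      { toFun := c
        map_one' := MonoidHom.ext fun v => by
          obtain ⟨v, rfl⟩ := QuotientGroup.mk_surjective v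
          have h1 := hskew 1 v
          rwa [show c v ((1 : Q) : Q ⧸ Z) = 1 from map_one _, mul_one] at h1
        map_mul' := fun u w => MonoidHom.ext fun v => by
          obtain ⟨v, rfl⟩ := QuotientGroup.mk_surjective v
          have h1 := hskew (u * w) v
          rw [QuotientGroup.mk_mul, map_mul (c v)] at h1
          rw [MonoidHom.mul_apply, eq_inv_of_mul_eq_one_left h1,
            eq_inv_of_mul_eq_one_left (hskew u v), eq_inv_of_mul_eq_one_left (hskew w v), mul_inv] }
      fun z hz => MonoidHom.ext fun v => by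
        obtain ⟨v, rfl⟩ := QuotientGroup.mk_surjective v
        show c z (v : Q ⧸ Z) = 1
        rw [hc, (CfsgLib.ExtraspecialBasic.commHom_eq_one hQ).2
          (Subgroup.mem_center_iff.1 hz v).symm, map_one]
  let B₀ : Additive (Q ⧸ Z) → Additive (Q ⧸ Z) →+ ZMod p := fun u =>
    { toFun := fun v => Multiplicative.toAdd (d (Additive.toMul u) (Additive.toMul v))
      map_zero' := by
        show Multiplicative.toAdd (d (Additive.toMul u) 1) = 0
        rw [map_one]; rfl
      map_add' := fun v w => by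
        show Multiplicative.toAdd (d (Additive.toMul u) (Additive.toMul v * Additive.toMul w)) = _
        rw [map_mul]; rfl }
  let β : Additive (Q ⧸ Z) →+ Additive (Q ⧸ Z) →+ ZMod p :=
    { toFun := B₀
      map_zero' := AddMonoidHom.ext fun v => by
        show Multiplicative.toAdd (d 1 (Additive.toMul v)) = 0
        rw [map_one]; rfl
      map_add' := fun u w => AddMonoidHom.ext fun v => by
        show Multiplicative.toAdd (d (Additive.toMul u * Additive.toMul w) (Additive.toMul v)) =
          Multiplicative.toAdd (d (Additive.toMul u) (Additive.toMul v)) +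
            Multiplicative.toAdd (d (Additive.toMul w) (Additive.toMul v))
        rw [map_mul]; rfl }
  have hB : ∀ u v : Q, β (Additive.ofMul (u : Q ⧸ Z)) (Additive.ofMul (v : Q ⧸ Z)) =
      Multiplicative.toAdd (ι (CfsgLib.ExtraspecialBasic.commHom hQ u v)) := fun u v => rfl
  have hrep : ∀ x : Additive (Q ⧸ Z), ∃ u : Q, x = Additive.ofMul ((u : Q) : Q ⧸ Z) := fun x => by
    obtain ⟨u, hu⟩ := QuotientGroup.mk_surjective (Additive.toMul x)
    exact ⟨u, congrArg Additive.ofMul hu.symm⟩
  let a' : (Q ⧸ Z) →* (Q ⧸ Z) := QuotientGroup.map Z Z a.toMonoidHom fun z hz => by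
    show a z ∈ Z
    rw [hfix z hz]; exact hz
  let g : Additive (Q ⧸ Z) →+ Additive (Q ⧸ Z) := MonoidHom.toAdditive a'
  have hg : ∀ (i : ℕ) (u : Q), g^[i] (Additive.ofMul (u : Q ⧸ Z)) =
      Additive.ofMul (((a ^ i) u : Q) : Q ⧸ Z) := by
    intro i
    induction i with
    | zero => intro u; rfl
    | succ i ih =>
      intro u
      rw [Function.iterate_succ_apply', ih, pow_succ', MulAut.mul_apply]
      rfl
  refine @pow_eq_or_of_addForm _ _ _ p _ (AddCommGroup.zmodModule hexp) β (fun x => ?_) (fun x hx => ?_) g h h0 (fun x => ?_)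
    (fun i hi0 hi x hx => ?_) (fun x y => ?_) n ?_
  · obtain ⟨u, rfl⟩ := hrep x
    rw [hB, (CfsgLib.ExtraspecialBasic.commHom_eq_one hQ).2 (Commute.refl u), map_one]
    rfl
  · obtain ⟨u, rfl⟩ := hrep x
    refine congrArg Additive.ofMul ((QuotientGroup.eq_one_iff u).2
      (Subgroup.mem_center_iff.2 fun v => ?_))
    have h1 := hx (Additive.ofMul (v : Q ⧸ Z))
    rw [hB] at h1
    exact ((CfsgLib.ExtraspecialBasic.commHom_eq_one hQ).1
      (ι.injective (h1.trans (map_one ι).symm))).eq.symm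
  · obtain ⟨u, rfl⟩ := hrep x
    rw [hg, hah]; rfl
  · obtain ⟨u, rfl⟩ := hrep x
    rw [hg] at hx
    set z := u⁻¹ * (a ^ i) u with hz
    have hzZ : z ∈ Z := QuotientGroup.eq.1 (congrArg Additive.toMul hx.symm)
    have hzfix : ∀ m : ℕ, (a ^ m) z = z := by
      intro m
      induction m with
      | zero => rfl
      | succ m ih => rw [pow_succ, MulAut.mul_apply, hfix z hzZ, ih]
    have hiter : ∀ m : ℕ, ((a ^ i) ^ m) u = u * z ^ m := by
      intro m
      induction m with
      | zero => simp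
      | succ m ih =>
        rw [pow_succ' (a ^ i), MulAut.mul_apply, ih, map_mul, map_pow, hzfix i,
          show (a ^ i) u = u * z by rw [hz, mul_inv_cancel_left], mul_assoc, ← pow_succ']
    have hzh : z ^ h = 1 := by
      have h1 := hiter h
      rw [← pow_mul, mul_comm, pow_mul, hah, one_pow, MulAut.one_apply] at h1
      exact mul_eq_left.1 h1.symm
    have hz1 : z = 1 := by
      rw [← orderOf_eq_one_iff]
      exact Nat.dvd_one.1 (hcop ▸ Nat.dvd_gcd (orderOf_dvd_of_pow_eq_one hzh)
        (orderOf_dvd_of_pow_eq_one (CfsgLib.ExtraspecialBasic.pow_center_eq_one hQ hzZ)))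
    exact congrArg Additive.ofMul ((QuotientGroup.eq_one_iff u).2
      (hfree i hi0 hi u (inv_mul_eq_one.1 (hz ▸ hz1)).symm))
  · obtain ⟨u, rfl⟩ := hrep x
    obtain ⟨v, rfl⟩ := hrep y
    have hg1 := hg 1
    simp only [Function.iterate_one, pow_one] at hg1
    rw [hg1, hg1, hB, hB]
    congr 2
    apply Subtype.ext
    show ⁅a u, a v⁆ = ⁅u, v⁆
    rw [← map_commutatorElement, hfix _ (CfsgLib.ExtraspecialBasic.commutator_mem_center hQ u v)]
  · have h1 : Nat.card (Q ⧸ Z) = p ^ (2 * n) := by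
      have := Subgroup.card_eq_card_quotient_mul_card_subgroup Z
      rw [hn, hQ.2, pow_succ] at this
      exact Nat.eq_of_mul_eq_mul_right (Nat.Prime.pos Fact.out) this.symm
    rw [Nat.card_congr Additive.toMul, h1]

/-- Let P be an extraspecial p-group of order p^(2n+1) and H a cyclic group of order h prime to p acting on P (inside a common finite group: H normalizes P) so that C_P(x) = Z(P) for every non-identity x ∈ H. Then h divides p^n + 1 or h divides p^n − 1. -/
theorem result {G : Type*} [Group G] [Finite G] {p : ℕ} [Fact p.Prime] (P H : Subgroup G) (hP : Cfsg.IsExtraspecial p ↥P) (n : ℕ) (hn : Nat.card P = p ^ (2 * n + 1)) (hH : IsCyclic H) (hcop : (Nat.card H).Coprime p) (hHP : H ≤ Subgroup.normalizer (P : Set G)) (hfix : ∀ x ∈ H, x ≠ 1 → P ⊓ Subgroup.centralizer {x} = (Subgroup.center ↥P).map P.subtype) : Nat.card H ∣ p ^ n + 1 ∨ Nat.card H ∣ p ^ n - 1 := by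
  classical
  obtain ⟨⟨x, hxH⟩, hgen⟩ := hH.exists_generator
  have hord : orderOf x = Nat.card H := by
    rw [← orderOf_eq_card_of_forall_mem_zpowers hgen, ← Subgroup.orderOf_coe]
  set h := Nat.card H
  have hxn : x ∈ normalizer (P : Set G) := hHP hxH
  let a : MulAut P := P.normalizerMonoidHom ⟨x, hxn⟩
  have hpow : ∀ (i : ℕ) (u : P), (((a ^ i) u : P) : G) = x ^ i * u * (x ^ i)⁻¹ := by
    intro i u
    show (((P.normalizerMonoidHom ⟨x, hxn⟩) ^ i) u : G) = _
    rw [← map_pow]
    rfl
  have hah : a ^ h = 1 := MulEquiv.ext fun u => Subtype.ext (by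
    rw [hpow, ← hord, pow_orderOf_eq_one]; simp)
  have hfixZ : ∀ z ∈ Subgroup.center P, a z = z := by
    intro z hz
    apply Subtype.ext
    have h1 := hpow 1 z
    simp only [pow_one] at h1
    rw [h1]
    rcases eq_or_ne x 1 with hx1 | hx1
    · subst hx1; simp
    · have hmem : (z : G) ∈ (Subgroup.center P).map P.subtype := ⟨z, hz, rfl⟩
      rw [← hfix x hxH hx1] at hmem
      rw [mul_inv_eq_iff_eq_mul]
      exact (mem_centralizer_singleton_iff.1 hmem.2).symm
  have hfree : ∀ i, 0 < i → i < h → ∀ u : P, (a ^ i) u = u → u ∈ Subgroup.center P := by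
    intro i hi0 hi u hu
    have hne : x ^ i ≠ 1 := pow_ne_one_of_lt_orderOf (by omega) (hord ▸ hi)
    have h1 := congrArg Subtype.val hu
    rw [hpow, mul_inv_eq_iff_eq_mul] at h1
    have hmem : (u : G) ∈ P ⊓ centralizer {x ^ i} := ⟨u.2, mem_centralizer_singleton_iff.2 h1.symm⟩
    rw [hfix (x ^ i) (pow_mem hxH i) hne] at hmem
    obtain ⟨v, hv, hvu⟩ := hmem
    rwa [← P.subtype_injective hvu]
  have h0 : 0 < h := Nat.card_pos
  have hpp : 1 ≤ p ^ n := Nat.one_le_pow _ _ (Nat.Prime.pos Fact.out)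
  rcases pow_eq_or_of_auto hP hn h0 hcop a hah hfixZ hfree with h1 | h1
  · right
    rw [← ZMod.natCast_eq_zero_iff, Nat.cast_sub hpp, Nat.cast_pow, h1, Nat.cast_one, sub_self]
  · left
    rw [← ZMod.natCast_eq_zero_iff, Nat.cast_add, Nat.cast_pow, h1, Nat.cast_one, neg_add_cancel]

end Cfsg.Agent.S3767
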