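import Cfsg.Statements.S3768
import Cfsg.Agent.Solvable.FrobeniusBasic
import Cfsg.Agent.Characters.FrobeniusKernel

set_option autoImplicit false
open Cfsg

namespace Cfsg.Agent.S3768

/-- Let G be a finite Frobenius group with Frobenius complement R and Frobenius kernel K (the identity together with the elements in no conjugate of R), and let N be a normal subgroup of G not containing K. Then G/N is a Frobenius group with Frobenius complement RN/N whose Frobenius kernel is the image of K. -/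
theorem result {G : Type*} [Group G] [Finite G] (R : Subgroup G) (hR : Cfsg.IsFrobeniusComplement R) (N : Subgroup G) [N.Normal] (hKN : ¬ Cfsg.frobeniusKernel R ⊆ N) : Cfsg.IsFrobeniusComplement (R.map (QuotientGroup.mk' N)) ∧ Cfsg.frobeniusKernel (R.map (QuotientGroup.mk' N)) = QuotientGroup.mk' N '' Cfsg.frobeniusKernel R := by
  obtain ⟨K, hKn, hKR, -⟩ := CfsgLib.Characters.exists_frobenius_kernel R fun g hg x hx hgx => by
    by_contra hx1
    exact hg (inv_inv g ▸ R.inv_mem
      (CfsgLib.FrobComp.mem_of_conj_mem hR hx hx1 (g := g⁻¹) (by rwa [inv_inv])))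
  haveI := hKn
  have hker : (K : Set G) = Cfsg.frobeniusKernel R :=
    CfsgLib.Solvable.kernel_eq_of_normal_complement hKR hR
  have hK1 : K ≠ ⊥ := by
    intro h
    subst h
    exact hR.2.1 (Subgroup.isComplement'_bot_left.mp hKR)
  have hfpf := (CfsgLib.Solvable.isFrobeniusComplement_iff_fpf hKR hK1 hR.1).mp hR
  -- commutation with a non-trivial element of `R` is a bijection of every normal subgroup below `K`
  have hbij : ∀ r ∈ R, r ≠ 1 → ∀ L : Subgroup G, L.Normal → L ≤ K →
      ∀ y ∈ L, ∃ n ∈ L, r * n * r⁻¹ * n⁻¹ = y := by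
    intro r hr hr1 L hL hLK
    let f : L → L := fun n => ⟨r * n * r⁻¹ * (n : G)⁻¹, L.mul_mem (hL.conj_mem n n.2 r) (L.inv_mem n.2)⟩
    have hf : Function.Injective f := by
      intro a b hab
      have h : r * (a : G) * r⁻¹ * (a : G)⁻¹ = r * b * r⁻¹ * (b : G)⁻¹ := congrArg Subtype.val hab
      apply Subtype.ext
      have hc : r * ((b : G)⁻¹ * a) = ((b : G)⁻¹ * a) * r := by
        have h2 : r * (a : G) = r * b * r⁻¹ * (b : G)⁻¹ * a * r := by rw [← h]; group
        calc r * ((b : G)⁻¹ * a) = r * (b : G)⁻¹ * r⁻¹ * (r * a) := by group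
          _ = ((b : G)⁻¹ * a) * r := by rw [h2]; group
      have h1 := CfsgLib.Solvable.eq_one_of_commute_of_fpf hfpf hr hr1
        (hLK (L.mul_mem (L.inv_mem b.2) a.2)) hc
      exact (inv_mul_eq_one.mp h1).symm
    intro y hy
    obtain ⟨n, hn⟩ := Finite.injective_iff_surjective.mp hf ⟨y, hy⟩
    exact ⟨n, n.2, congrArg Subtype.val hn⟩
  have hKN' : ¬ K ≤ N := fun h => hKN (hker ▸ h)
  have hNK : N ≤ K := by
    intro x hx
    by_contra hxK
    have hxk : x ∉ Cfsg.frobeniusKernel R := fun h => hxK (hker.symm ▸ h : x ∈ (K : Set G))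
    obtain ⟨-, g, h, hh, h1, rfl⟩ := CfsgLib.FrobComp.exists_conj_of_notMem_kernel hxk
    have hhN : h ∈ N := by simpa [mul_assoc] using (inferInstance : N.Normal).conj_mem _ hx g⁻¹
    apply hKN'
    intro y hy
    obtain ⟨n, -, rfl⟩ := hbij h hh h1 K hKn le_rfl y hy
    simpa [mul_assoc] using N.mul_mem hhN ((inferInstance : N.Normal).conj_mem _ (N.inv_mem hhN) n)
  set q := QuotientGroup.mk' N with hq
  haveI hKqn : (K.map q).Normal := hKn.map q (QuotientGroup.mk'_surjective N)
  have hdis : Disjoint (K.map q) (R.map q) := by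
    rw [Subgroup.disjoint_def]
    rintro _ ⟨k, hk, rfl⟩ ⟨r, hr, hkr⟩
    rw [hq, QuotientGroup.mk'_apply, QuotientGroup.mk'_apply, QuotientGroup.eq] at hkr
    have hrK : r ∈ K := by
      have h := K.mul_mem hk (K.inv_mem (hNK hkr))
      simpa [mul_assoc] using h
    have : r ∈ K ⊓ R := ⟨hrK, hr⟩
    rw [hKR.disjoint.eq_bot, Subgroup.mem_bot] at this
    subst this
    rw [inv_one, one_mul] at hkr
    exact (QuotientGroup.eq_one_iff k).mpr hkr
  have hc : Subgroup.IsComplement' (K.map q) (R.map q) := by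
    refine Subgroup.isComplement'_of_disjoint_and_mul_eq_univ hdis ?_
    rw [Set.eq_univ_iff_forall]
    intro y
    obtain ⟨x, rfl⟩ := QuotientGroup.mk'_surjective N y
    obtain ⟨⟨⟨k, hk⟩, ⟨r, hr⟩⟩, hkr⟩ := hKR.2 x
    exact ⟨q k, Subgroup.mem_map_of_mem q hk, q r, Subgroup.mem_map_of_mem q hr,
      by rw [← hkr]; exact (map_mul q k r).symm⟩
  have hKq : K.map q ≠ ⊥ := by
    rw [Ne, Subgroup.map_eq_bot_iff, hq, QuotientGroup.ker_mk']
    exact hKN'
  have hRq : R.map q ≠ ⊥ := by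
    rw [Ne, Subgroup.map_eq_bot_iff, hq, QuotientGroup.ker_mk']
    intro h
    apply hR.1
    rw [eq_bot_iff]
    intro x hx
    exact hKR.disjoint.le_bot ⟨hNK (h hx), hx⟩
  have hF : Cfsg.IsFrobeniusComplement (R.map q) := by
    refine (CfsgLib.Solvable.isFrobeniusComplement_iff_fpf hc hKq hRq).mpr ?_
    rintro _ ⟨r, hr, rfl⟩ hr1
    rw [Subgroup.eq_bot_iff_forall]
    rintro _ ⟨⟨k, hk, rfl⟩, hkc⟩
    have hr1' : r ≠ 1 := fun h => hr1 (by rw [h, map_one])
    have hc' : q r * q k = q k * q r := Subgroup.mem_centralizer_iff.mp hkc _ rfl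
    have hN : r * k * r⁻¹ * k⁻¹ ∈ N := by
      rw [← QuotientGroup.eq_one_iff]
      show q (r * k * r⁻¹ * k⁻¹) = 1
      rw [map_mul, map_mul, map_mul, map_inv, map_inv, hc']
      group
    obtain ⟨n, hn, hnk⟩ := hbij r hr hr1' N inferInstance hNK _ hN
    have hkn : r * (n⁻¹ * k) = (n⁻¹ * k) * r := by
      have h2 : r * k = r * n * r⁻¹ * n⁻¹ * k * r := by rw [hnk]; group
      calc r * (n⁻¹ * k) = r * n⁻¹ * r⁻¹ * (r * k) := by group
        _ = (n⁻¹ * k) * r := by rw [h2]; group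
    have h1 := CfsgLib.Solvable.eq_one_of_commute_of_fpf hfpf hr hr1'
      (K.mul_mem (K.inv_mem (hNK hn)) hk) hkn
    rw [← inv_mul_eq_one.mp h1]
    exact (QuotientGroup.eq_one_iff n).mpr hn
  refine ⟨hF, ?_⟩
  rw [← CfsgLib.Solvable.kernel_eq_of_normal_complement hc hF, ← hker, Subgroup.coe_map]

end Cfsg.Agent.S3768
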