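import Cfsg.Statements.S3769
import Cfsg.Agent.OddOrder.BG3.Rfix0

set_option autoImplicit false
open Cfsg

namespace Cfsg.Agent.S3769

/-- Let G and V be subgroups of a finite group with G solvable of odd order normalizing V, V an elementary abelian ℓ-group for a prime ℓ not dividing the order of G, and suppose G has a normal Hall subgroup K with a complement R of prime order. If C_V(R) = 1, then [R, K] centralizes V. -/
theorem result {X : Type*} [Group X] [Finite X] (G : Subgroup X) (hsolv : Group.IsSolvable G) (hodd : Odd (Nat.card G)) (V : Subgroup X) {ℓ : ℕ} (hℓ : ℓ.Prime) (hV : Cfsg.IsElementaryAbelian ℓ V) (hℓG : ¬ ℓ ∣ Nat.card G) (hGV : G ≤ Subgroup.normalizer (V : Set X)) (K R : Subgroup X) (hKG : K ≤ G) (hKn : G ≤ Subgroup.normalizer (K : Set X)) (hHall : (Nat.card K).Coprime (K.relIndex G)) (hRG : R ≤ G) (hR : (Nat.card R).Prime) (hKR : K ⊓ R = ⊥) (hKRG : K ⊔ R = G) (hCV : V ⊓ Subgroup.centralizer (R : Set X) = ⊥) : ⁅R, K⁆ ≤ Subgroup.centralizer (V : Set X) := by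
  haveI : Fact ℓ.Prime := ⟨hℓ⟩
  have hcard : Nat.card K * K.relIndex G = Nat.card G := by
    have := Subgroup.relIndex_mul_relIndex (⊥ : Subgroup X) K G bot_le hKG
    rwa [Subgroup.relIndex_bot_left, Subgroup.relIndex_bot_left] at this
  have hKd : Nat.card K ∣ Nat.card G := Subgroup.card_dvd_of_le hKG
  have hRd : Nat.card R ∣ Nat.card G := Subgroup.card_dvd_of_le hRG
  have hrel : K.relIndex G = Nat.card R := by
    have h2 := CfsgLib.Coprime.card_sup_eq (hRG.trans hKn) hKR
    rw [hKRG, ← hcard] at h2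
    exact Nat.eq_of_mul_eq_mul_left Nat.card_pos h2
  rw [Subgroup.commutator_comm]
  have := hsolv
  exact CfsgLib.OddOrder.commutator_le_centralizer_of_rfix0 ℓ hV
    (Group.isSolvable_of_isSolvable_injective (Subgroup.inclusion_injective hKG))
    (hRG.trans hKn) (hKG.trans hGV) (hRG.trans hGV) hR
    (fun h => by
      have h2 := hodd.of_dvd_nat hRd
      rw [h] at h2
      exact absurd h2 (by decide))
    (fun h => hℓG (h ▸ hRd)) (hodd.of_dvd_nat hKd)
    ((Nat.Coprime.symm ((Nat.Prime.coprime_iff_not_dvd hℓ).2 fun h => hℓG (h.trans hKd))))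
    (hrel ▸ hHall).symm hCV

end Cfsg.Agent.S3769
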