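import Cfsg.Statements.S3770
import Cfsg.Agent.Solvable.FrobeniusBasic
import Cfsg.Agent.Characters.FrobeniusKernel
import Cfsg.Agent.ThompsonFpf.Nilpotency
import Cfsg.Agent.OddOrder.BG3.SmallFixedPoints

set_option autoImplicit false
open Cfsg

namespace Cfsg.Agent.S3770

/-- Let G and V be subgroups of a finite group with G a Frobenius group with complement R of prime order and kernel K, G normalizing V, and V an elementary abelian ℓ-group for a prime ℓ not dividing the order of G. If C_V(R) has order ℓ, then the derived subgroup of K centralizes V. -/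
theorem result {X : Type*} [Group X] [Finite X] (G : Subgroup X) (V : Subgroup X) {ℓ : ℕ} (hℓ : ℓ.Prime) (hV : Cfsg.IsElementaryAbelian ℓ V) (hℓG : ¬ ℓ ∣ Nat.card G) (hGV : G ≤ Subgroup.normalizer (V : Set X)) (R : Subgroup ↥G) (hR : Cfsg.IsFrobeniusComplement R) (hRp : (Nat.card R).Prime) (hCV : Nat.card ↥(V ⊓ Subgroup.centralizer ((R.map G.subtype : Subgroup X) : Set X)) = ℓ) : ⁅Subgroup.closure (Subtype.val '' Cfsg.frobeniusKernel R), Subgroup.closure (Subtype.val '' Cfsg.frobeniusKernel R)⁆ ≤ Subgroup.centralizer (V : Set X) := by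
  haveI : Fact ℓ.Prime := ⟨hℓ⟩
  haveI : Fact (Nat.card R).Prime := ⟨hRp⟩
  obtain ⟨K₀, hKn, hKR, -⟩ := CfsgLib.Characters.exists_frobenius_kernel R fun g hg x hx hgx => by
    by_contra hx1
    exact hg (inv_inv g ▸ R.inv_mem
      (CfsgLib.FrobComp.mem_of_conj_mem hR hx hx1 (g := g⁻¹) (by rwa [inv_inv])))
  haveI := hKn
  have hker : (K₀ : Set ↥G) = Cfsg.frobeniusKernel R :=
    CfsgLib.Solvable.kernel_eq_of_normal_complement hKR hR
  have hK1 : K₀ ≠ ⊥ := by
    intro h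
    subst h
    exact hR.2.1 (Subgroup.isComplement'_bot_left.mp hKR)
  have hfpf := (CfsgLib.Solvable.isFrobeniusComplement_iff_fpf hKR hK1 hR.1).mp hR
  set K := K₀.map G.subtype with hK
  set Rm := R.map G.subtype with hRm
  rw [show Subgroup.closure (Subtype.val '' Cfsg.frobeniusKernel R) = K by
    rw [hK, ← hker, show Subtype.val '' (K₀ : Set ↥G) = ((K₀.map G.subtype : Subgroup X) : Set X) from rfl,
      Subgroup.closure_eq]]
  have hKG : K ≤ G := Subgroup.map_subtype_le _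
  have hRG : Rm ≤ G := Subgroup.map_subtype_le _
  have hGK : G ≤ Subgroup.normalizer (K : Set X) := by
    intro g hg
    rw [Subgroup.mem_normalizer_iff]
    intro x
    constructor
    · rintro ⟨y, hy, rfl⟩
      exact ⟨⟨g, hg⟩ * y * ⟨g, hg⟩⁻¹, hKn.conj_mem y hy _, rfl⟩
    · rintro ⟨y, hy, hyx⟩
      refine ⟨⟨g, hg⟩⁻¹ * y * ⟨g, hg⟩, by simpa using hKn.conj_mem y hy ⟨g, hg⟩⁻¹, ?_⟩
      show g⁻¹ * (y : X) * g = x
      rw [show (y : X) = g * x * g⁻¹ from hyx]
      group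
  have hfix : K ⊓ Subgroup.centralizer (Rm : Set X) = ⊥ := by
    rw [Subgroup.eq_bot_iff_forall]
    rintro _ ⟨⟨k, hk, rfl⟩, hc⟩
    obtain ⟨⟨r, hr⟩, hr1⟩ := Subgroup.ne_bot_iff_exists_ne_one.mp hR.1
    have := CfsgLib.Solvable.eq_one_of_commute_of_fpf hfpf hr (fun h => hr1 (Subtype.ext h)) hk
      (Subtype.ext (Subgroup.mem_centralizer_iff.mp hc r (Subgroup.mem_map_of_mem G.subtype hr)))
    rw [this, map_one]
  have hRc : Nat.card Rm = Nat.card R := Subgroup.card_map_of_injective G.subtype_injective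
  obtain ⟨⟨r, hr⟩, hr1⟩ := Subgroup.ne_bot_iff_exists_ne_one.mp hR.1
  have hfixr : K ⊓ Subgroup.centralizer ({(r : X)} : Set X) = ⊥ := by
    rw [Subgroup.eq_bot_iff_forall]
    rintro _ ⟨⟨k, hk, rfl⟩, hc⟩
    have := CfsgLib.Solvable.eq_one_of_commute_of_fpf hfpf hr (fun h => hr1 (Subtype.ext h)) hk
      (Subtype.ext (Subgroup.mem_centralizer_iff.mp hc r rfl))
    rw [this, map_one]
  have hrp : (r : X) ^ Nat.card R = 1 :=
    congrArg (fun z : ↥R => ((z : ↥G) : X)) (pow_card_eq_one' (x := (⟨r, hr⟩ : ↥R)))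
  haveI : Group.IsNilpotent ↥K :=
    CfsgLib.ThompsonFpf.isNilpotent_of_conj (p := Nat.card R) K (r : X) (hGK r.2) hrp hfixr
  refine CfsgLib.OddOrder.commutator_le_centralizer_of_card_fixed_le ℓ hV.1 hV.2 inferInstance
    (hRG.trans hGK) (hKG.trans hGV) (hRG.trans hGV) (hRc.symm ▸ hRp) ?_ ?_ hfix hCV.le
  · intro h
    exact hℓG (h ▸ Subgroup.card_dvd_of_le hRG)
  · exact Nat.Coprime.symm ((hℓ.coprime_iff_not_dvd).mpr fun h => hℓG (h.trans (Subgroup.card_dvd_of_le hKG)))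

end Cfsg.Agent.S3770
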