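import Cfsg.Statements.S3771

set_option autoImplicit false
open Cfsg

namespace Cfsg.Agent.S3771

open scoped commutatorElement


/-- Let p be a prime and R a finite p-group of p-rank at most 2 (no elementary abelian subgroup of order p³) in which every element has order dividing p. Then R has order at most p³. -/
theorem result {R : Type*} [Group R] [Finite R] {p : ℕ} [Fact p.Prime] (hR : IsPGroup p R) (hrank : Cfsg.PRankLE p 2 R) (hexp : ∀ x : R, x ^ p = 1) : Nat.card R ≤ p ^ 3 := by
  have hp := (Fact.out : p.Prime)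
  set Z := Subgroup.center R with hZ
  have hab : ∀ s : Set R, (∀ a ∈ s, ∀ b ∈ s, a * b = b * a) → Nat.card (Subgroup.closure s) ≤ p ^ 2 := by
    intro s hs
    refine hrank _ ?_ fun a _ => hexp a
    exact Subgroup.isMulCommutative_closure hs
  by_cases hZtop : Z = ⊤
  · have h := hrank ⊤ ⟨⟨fun a b => Subtype.ext (Subgroup.mem_center_iff.mp (show (b : R) ∈ Z from hZtop.ge (Subgroup.mem_top _)) a)⟩⟩ fun a _ => hexp a
    rw [Subgroup.card_top] at h
    exact h.trans (Nat.pow_le_pow_right hp.pos (by norm_num))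
  haveI : Nontrivial R := by
    by_contra h
    rw [not_nontrivial_iff_subsingleton] at h
    exact hZtop (Subsingleton.elim _ _)
  -- pick `x` in the second centre
  haveI : Nontrivial (R ⧸ Z) := by
    rw [← Finite.one_lt_card_iff_nontrivial, ← Subgroup.index_eq_card]
    exact Subgroup.one_lt_index_of_ne_top hZtop
  haveI := (hR.to_quotient Z).center_nontrivial
  obtain ⟨⟨xb, hxb⟩, hxb1⟩ := exists_ne (1 : Subgroup.center (R ⧸ Z))
  obtain ⟨x, rfl⟩ := QuotientGroup.mk_surjective xb
  have hxZ : x ∉ Z := fun h => hxb1 (Subtype.ext ((QuotientGroup.eq_one_iff x).mpr h))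
  have hcomm : ∀ g : R, ⁅g, x⁆ ∈ Z := fun g => by
    rw [← QuotientGroup.eq_one_iff, commutatorElement_def]
    simp only [QuotientGroup.mk_mul, QuotientGroup.mk_inv]
    rw [Subgroup.mem_center_iff.mp hxb (g : R ⧸ Z)]
    simp
  -- `A = Z⟨x⟩`
  set A := Subgroup.closure ((Z : Set R) ∪ {x}) with hA
  have hZA : Z < A := by
    refine lt_of_le_of_ne (fun z hz => Subgroup.subset_closure (Or.inl hz)) fun h => hxZ ?_
    rw [h]; exact Subgroup.subset_closure (Or.inr rfl)
  have hA2 : Nat.card A ≤ p ^ 2 := hab _ (by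
    rintro a (ha | ha) b (hb | hb)
    all_goals first
      | exact Subgroup.mem_center_iff.mp hb a
      | exact (Subgroup.mem_center_iff.mp ha b).symm
      | (rw [Set.mem_singleton_iff.mp ha, Set.mem_singleton_iff.mp hb]))
  obtain ⟨a, ha⟩ := IsPGroup.iff_card.mp (hR.to_subgroup A)
  obtain ⟨b, hb⟩ := IsPGroup.iff_card.mp (hR.to_subgroup Z)
  have hb1 : 1 ≤ b := by
    by_contra h
    haveI := hR.center_nontrivial
    have : Nat.card Z = 1 := by rw [hb, show b = 0 by omega, pow_zero]
    exact (Finite.one_lt_card (α := Z)).ne' this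
  have hba : b < a := by
    have : Nat.card Z < Nat.card A := by
      refine lt_of_le_of_ne (Subgroup.card_le_of_le hZA.le) fun h => hZA.ne ?_
      exact Subgroup.eq_of_le_of_card_ge hZA.le h.ge
    rw [ha, hb] at this
    exact (Nat.pow_lt_pow_iff_right hp.one_lt).mp this
  have ha2 : a ≤ 2 := by rw [ha] at hA2; exact (Nat.pow_le_pow_iff_right hp.one_lt).mp hA2
  -- `C(x) ≤ A`
  have hC : ∀ y : R, y * x = x * y → y ∈ A := by
    intro y hy
    by_contra hyA
    set S := Subgroup.closure ((Z : Set R) ∪ {x, y}) with hS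
    have hS2 : Nat.card S ≤ p ^ 2 := hab _ (by
      rintro u (hu | hu | hu) v (hv | hv | hv)
      all_goals first
        | exact Subgroup.mem_center_iff.mp hv u
        | exact (Subgroup.mem_center_iff.mp hu v).symm
        | ((try rw [Set.mem_singleton_iff] at hu); (try rw [Set.mem_singleton_iff] at hv); subst hu hv; first | rfl | exact hy | exact hy.symm))
    have hlt : A < S := lt_of_le_of_ne (Subgroup.closure_mono (Set.union_subset_union_right _ (by simp)))
      fun h => hyA (h ▸ Subgroup.subset_closure (Or.inr (Or.inr rfl)))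
    have : Nat.card A < Nat.card S := by
      refine lt_of_le_of_ne (Subgroup.card_le_of_le hlt.le) fun h => hlt.ne ?_
      exact Subgroup.eq_of_le_of_card_ge hlt.le h.ge
    rw [ha, show a = 2 by omega] at this
    omega
  -- `g ↦ ⁅g, x⁆` is a homomorphism into `Z`
  let φ : R →* Z :=
    { toFun := fun g => ⟨⁅g, x⁆, hcomm g⟩
      map_one' := Subtype.ext (commutatorElement_one_left x)
      map_mul' := fun g h => Subtype.ext (by
        show ⁅g * h, x⁆ = ⁅g, x⁆ * ⁅h, x⁆
        have h1 : ⁅g * h, x⁆ = g * ⁅h, x⁆ * g⁻¹ * ⁅g, x⁆ := by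
          simp only [commutatorElement_def]; group
        rw [h1, Subgroup.mem_center_iff.mp (hcomm h) g, mul_inv_cancel_right,
          (Subgroup.mem_center_iff.mp (hcomm h) _).symm]) }
  have hker : φ.ker ≤ A := fun g hg =>
    hC g (commutatorElement_eq_one_iff_mul_comm.mp (congrArg Subtype.val (MonoidHom.mem_ker.mp hg)))
  rw [← Subgroup.card_mul_index φ.ker, Subgroup.index_ker]
  calc Nat.card φ.ker * Nat.card φ.range ≤ p ^ 2 * p ^ 1 := by
        refine Nat.mul_le_mul ((Subgroup.card_le_of_le hker).trans hA2) ?_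
        refine (Subgroup.card_le_card_group _).trans ?_
        rw [hb]
        exact Nat.pow_le_pow_right hp.pos (by omega)
    _ = p ^ 3 := by ring

end Cfsg.Agent.S3771
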