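import Cfsg.Statements.S3772
import Cfsg.Agent.HallHigman.MinimalAction
import Cfsg.Agent.HallHigman.SquareMap

set_option autoImplicit false
open Cfsg

namespace Cfsg.Agent.S3772

open scoped commutatorElement
open CfsgLib.SquareMap

theorem even_radical {V : Type*} [AddCommGroup V] [Fintype V] {s : V → ℤ} (hs : IsSignQuad s)
    (h2 : ∀ v : V, v + v = 0) (S : Finset V) (z₀ : V) (hz0 : z₀ ≠ 0)
    (hS : ∀ z, z ∈ S → z + z₀ ∈ S) : (2 : ℤ) ∣ ∑ z ∈ S, s z := by
  have h1 : ((∑ z ∈ S, s z : ℤ) : ZMod 2) = 0 := by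
    rw [Int.cast_sum]
    refine Finset.sum_involution (fun z _ => z + z₀) ?_ ?_ (fun z hz => hS z hz) ?_
    · intro z _
      rcases mul_self_eq_one_iff.mp (hs.sq_one z) with e | e <;>
        rcases mul_self_eq_one_iff.mp (hs.sq_one (z + z₀)) with e' | e' <;>
        rw [e, e'] <;> decide
    · intro z _ _ h
      exact hz0 (by simpa using h)
    · intro z _
      rw [add_assoc, h2, add_zero]
  exact_mod_cast (ZMod.intCast_zmod_eq_zero_iff_dvd _ 2).mp h1

/-- Let G be a finite 2-group whose Frattini subgroup Φ(G) has order 2, with |G : Φ(G)| = 2^d, and let j be the number of elements x of G with x² = 1. Then j = 2^d, or j = 2^d + 2^(d−r) or j = 2^d − 2^(d−r) for some positive integer r with 2r ≤ d. Moreover if d = 2r and j is 2^d + 2^r or 2^d − 2^r, then G is extraspecial. -/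
theorem result {G : Type*} [Group G] [Finite G] (hG : IsPGroup 2 G) (hΦ : Nat.card (frattini G) = 2) (d : ℕ) (hd : (frattini G).index = 2 ^ d) : (Nat.card {x : G // x ^ 2 = 1} = 2 ^ d ∨ ∃ r : ℕ, 1 ≤ r ∧ 2 * r ≤ d ∧ (Nat.card {x : G // x ^ 2 = 1} = 2 ^ d + 2 ^ (d - r) ∨ Nat.card {x : G // x ^ 2 = 1} + 2 ^ (d - r) = 2 ^ d)) ∧ (∀ r : ℕ, d = 2 * r → (Nat.card {x : G // x ^ 2 = 1} = 2 ^ d + 2 ^ r ∨ Nat.card {x : G // x ^ 2 = 1} + 2 ^ r = 2 ^ d) → Cfsg.IsExtraspecial 2 G) := by
  classical
  set N := frattini G with hN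
  have hNc : ∀ n ∈ N, ∀ g : G, g * n = n * g := by
    intro n hn g
    have hg : g * n * g⁻¹ ∈ N := (inferInstance : N.Normal).conj_mem n hn g
    obtain ⟨c, hc, hu⟩ := (Nat.card_eq_two_iff' (1 : ↥N)).mp hΦ
    by_cases h1 : n = 1
    · simp [h1]
    · have e1 := hu ⟨n, hn⟩ (fun h => h1 (congrArg Subtype.val h))
      have e2 := hu ⟨g * n * g⁻¹, hg⟩ (fun h => h1 (by simpa using congrArg Subtype.val h))
      exact mul_inv_eq_iff_eq_mul.mp (congrArg Subtype.val (e2.trans e1.symm))
  have hsq : ∀ x : G, x ^ 2 ∈ N := CfsgLib.Solvable.pow_mem_frattini hG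
  have hN2 : ∀ n ∈ N, n ^ 2 = 1 := by
    intro n hn
    have h := pow_card_eq_one' (x := (⟨n, hn⟩ : ↥N))
    rw [hΦ] at h
    exact congrArg Subtype.val h
  have hNcard := (Nat.card_eq_two_iff' (1 : ↥N)).mp hΦ
  obtain ⟨c, hc, hu⟩ := hNcard
  let sg : G → ℤ := fun n => if n = 1 then 1 else -1
  have hsg : ∀ a ∈ N, ∀ b ∈ N, sg (a * b) = sg a * sg b := by
    intro a ha b hb
    by_cases h1 : a = 1
    · simp [sg, h1]
    by_cases h2 : b = 1
    · simp [sg, h2]
    have e1 := congrArg Subtype.val (hu ⟨a, ha⟩ fun h => h1 (congrArg Subtype.val h))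
    have e2 := congrArg Subtype.val (hu ⟨b, hb⟩ fun h => h2 (congrArg Subtype.val h))
    have hab : a * b = 1 := by
      rw [show a = b from e1.trans e2.symm, ← sq]; exact hN2 b hb
    simp [sg, h1, h2, hab]
  have hcomm : ∀ x y : G, ⁅x, y⁆ ∈ N := fun x y => CfsgLib.Solvable.commutator_le_frattini hG
    (Subgroup.commutator_mem_commutator (Subgroup.mem_top x) (Subgroup.mem_top y))
  have hcc : ∀ x y : G, ⁅x, y⁆ ∈ Subgroup.center G := fun x y =>
    Subgroup.mem_center_iff.mpr (hNc _ (hcomm x y))
  have hprod : ∀ x y : G, (x * y) ^ 2 = x ^ 2 * y ^ 2 * ⁅y, x⁆ := by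
    intro x y
    rw [CfsgLib.HallHigman.mul_pow_class_two x y (hcc y x) 2, Nat.choose_self, pow_one]
  haveI hNn : N.Normal := inferInstance
  have hQ2 : ∀ v : G ⧸ N, v * v = 1 := fun v => QuotientGroup.induction_on v fun x => by
    rw [← QuotientGroup.mk_mul, QuotientGroup.eq_one_iff, ← sq]; exact hsq x
  have hQc : ∀ v w : G ⧸ N, v * w = w * v := by
    intro v w
    induction v using QuotientGroup.induction_on with | H x => ?_
    induction w using QuotientGroup.induction_on with | H y => ?_
    rw [← QuotientGroup.mk_mul, ← QuotientGroup.mk_mul, QuotientGroup.eq]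
    have := hcomm y⁻¹ x⁻¹
    simpa [commutatorElement_def, mul_assoc] using this
  letI : CommGroup (G ⧸ N) := { (inferInstance : Group (G ⧸ N)) with mul_comm := hQc }
  let sq' : G ⧸ N → G := Quotient.lift (fun x => x ^ 2) fun x y h => by
    have h' := QuotientGroup.leftRel_apply.mp h
    show x ^ 2 = y ^ 2
    conv_rhs => rw [show y = x * (x⁻¹ * y) by group]
    rw [Commute.mul_pow (hNc _ h' x : Commute x (x⁻¹ * y)), hN2 _ h', mul_one]
  haveI : Fintype (G ⧸ N) := Fintype.ofFinite _
  let f : Additive (G ⧸ N) → ℤ := fun v => sg (sq' (Additive.toMul v))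
  have hone : ∀ a, sg a * sg a = 1 := fun a => by by_cases h : a = 1 <;> simp [sg, h]
  have hpol : ∀ x y : G, sg ((x * y) ^ 2) * sg (x ^ 2) * sg (y ^ 2) = sg ⁅y, x⁆ := by
    intro x y
    rw [hprod, hsg _ (mul_mem (hsq x) (hsq y)) _ (hcomm y x), hsg _ (hsq x) _ (hsq y)]
    calc _ = (sg (x ^ 2) * sg (x ^ 2)) * (sg (y ^ 2) * sg (y ^ 2)) * sg ⁅y, x⁆ := by ring
      _ = _ := by rw [hone, hone, one_mul, one_mul]
  have hbil : ∀ x y z : G, ⁅z, x * y⁆ = ⁅z, x⁆ * ⁅z, y⁆ := by
    intro x y z
    rw [commutatorElement_mul_right_eq_mul_conj]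
    simp only [mul_assoc]
    rw [← hNc _ (hcomm z y) x⁻¹, mul_inv_cancel_left]
  have hf : IsSignQuad f := by
    refine ⟨fun v => hone _, fun u v w => ?_⟩
    obtain ⟨x, hx⟩ := QuotientGroup.mk_surjective (Additive.toMul u)
    obtain ⟨y, hy⟩ := QuotientGroup.mk_surjective (Additive.toMul v)
    obtain ⟨z, hz⟩ := QuotientGroup.mk_surjective (Additive.toMul w)
    simp only [f, toMul_add, ← hx, ← hy, ← hz, ← QuotientGroup.mk_mul]
    show sg ((x * y * z) ^ 2) * sg ((x * y) ^ 2) * sg (z ^ 2) =
      sg ((x * z) ^ 2) * sg (x ^ 2) * sg (z ^ 2) * (sg ((y * z) ^ 2) * sg (y ^ 2) * sg (z ^ 2))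
    rw [hpol, hpol, hpol, ← hsg _ (hcomm z x) _ (hcomm z y), hbil]
  have hf0 : f 0 = 1 := by
    show sg ((1 : G) ^ 2) = 1
    simp [sg]
  haveI : Fintype (Additive (G ⧸ N)) := Fintype.ofFinite _
  have hdV : Fintype.card (Additive (G ⧸ N)) = 2 ^ d := by
    rw [← Nat.card_eq_fintype_card, ← hd]; rfl
  haveI : Fintype G := Fintype.ofFinite G
  have hfib : ∀ h : Additive (G ⧸ N) → ℤ,
      ∑ x : G, h (Additive.ofMul (QuotientGroup.mk x)) = 2 * ∑ v, h v := by
    intro h
    have hcnt : ∀ v : Additive (G ⧸ N),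
        (Finset.univ.filter fun x : G => Additive.ofMul (QuotientGroup.mk x : G ⧸ N) = v).card = 2 := by
      intro v
      obtain ⟨y, hy⟩ := QuotientGroup.mk_surjective (Additive.toMul v)
      rw [← hΦ]
      refine (Nat.card_congr ((Equiv.mulLeft y).subtypeEquiv fun n => ?_)).trans
        (Nat.subtype_card _ (p := fun x : G => x ∈
          Finset.univ.filter fun x : G => Additive.ofMul (QuotientGroup.mk x : G ⧸ N) = v)
          (fun _ => Iff.rfl)) |>.symm
      rw [Equiv.coe_mulLeft, Finset.mem_filter]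
      simp only [Finset.mem_univ, true_and]
      rw [← ofMul_toMul v, Additive.ofMul.injective.eq_iff, ← hy, QuotientGroup.eq]
      constructor
      · intro hn
        simpa using N.inv_mem hn
      · intro hn
        simpa using N.inv_mem hn
    rw [← Finset.sum_fiberwise Finset.univ (fun x : G => Additive.ofMul (QuotientGroup.mk x : G ⧸ N)),
      Finset.mul_sum]
    refine Finset.sum_congr rfl fun v _ => ?_
    rw [Finset.sum_congr rfl (g := fun _ => h v)
      (fun x hx => by rw [(Finset.mem_filter.mp hx).2]), Finset.sum_const, hcnt, nsmul_eq_mul]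
    norm_num
  have hJ : (Nat.card {x : G // x ^ 2 = 1} : ℤ) = 2 ^ d + ∑ v, f v := by
    have h2J : (2 : ℤ) * Nat.card {x : G // x ^ 2 = 1} = ∑ x : G, (1 + f (Additive.ofMul (QuotientGroup.mk x))) := by
      have hterm : ∀ x : G, (1 + f (Additive.ofMul (QuotientGroup.mk x)) : ℤ) =
          if x ^ 2 = 1 then 2 else 0 := fun x => by
        show 1 + sg (x ^ 2) = _
        by_cases h : x ^ 2 = 1 <;> simp [sg, h]
      rw [Finset.sum_congr rfl (fun x _ => hterm x), ← Finset.sum_filter, Finset.sum_const,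
        Nat.card_eq_fintype_card, Fintype.card_subtype, nsmul_eq_mul]
      ring
    rw [hfib (fun v => 1 + f v), Finset.sum_add_distrib, Finset.sum_const, Finset.card_univ, hdV,
      nsmul_eq_mul] at h2J
    push_cast at h2J
    linarith
  have hne : ∑ v, f v ≠ 2 ^ d := by
    intro h
    have hall : ∀ x : G, x ^ 2 = 1 := by
      have hT : Nat.card {x : G // x ^ 2 = 1} = Nat.card G := by
        have h2 : Nat.card G = 2 * 2 ^ d := by
          rw [← hd]; conv_rhs => arg 1; rw [← hΦ]
          exact (Subgroup.card_mul_index N).symm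
        rw [h] at hJ
        have : (Nat.card {x : G // x ^ 2 = 1} : ℤ) = (Nat.card G : ℤ) := by
          rw [hJ, h2]; push_cast; ring
        exact_mod_cast this
      intro x
      have hb := (Nat.bijective_iff_injective_and_card (Subtype.val : {x : G // x ^ 2 = 1} → G)).mpr
        ⟨Subtype.val_injective, hT⟩
      obtain ⟨y, rfl⟩ := hb.2 x
      exact y.2
    have hcomm' : commutator G = ⊥ := by
      rw [commutator_def, Subgroup.commutator_eq_bot_iff_le_centralizer]
      intro a _
      rw [Subgroup.mem_centralizer_iff]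
      intro b _
      have hinv : ∀ u : G, u⁻¹ = u := fun u => inv_eq_of_mul_eq_one_left (by rw [← sq]; exact hall u)
      calc b * a = (b * a)⁻¹ := (hinv _).symm
        _ = a * b := by rw [mul_inv_rev, hinv, hinv]
    have hle : N ≤ ⊥ := CfsgLib.Solvable.frattini_le_of_elementary (p := 2) (hcomm'.le)
      (fun x => by rw [hall x]; exact one_mem _)
    rw [le_bot_iff.mp hle, Subgroup.card_bot] at hΦ
    exact absurd hΦ (by norm_num)
  refine ⟨?_, ?_⟩
  · rcases natAbs_sum hf hf0 hdV with h0 | ⟨k, hk, hdk, hkd⟩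
    · left
      rw [h0, add_zero] at hJ
      exact_mod_cast hJ
    · right
      have hcases := Int.natAbs_eq (∑ v, f v)
      rw [hk] at hcases
      push_cast at hcases
      have hkd' : k < d := by
        refine lt_of_le_of_ne hkd fun he => ?_
        rw [he] at hcases
        rcases hcases with e | e
        · exact hne e
        · rw [e] at hJ
          have h1 : (1 : ℤ) ≤ Nat.card {x : G // x ^ 2 = 1} := by
            haveI : Nonempty {x : G // x ^ 2 = 1} := ⟨⟨1, one_pow 2⟩⟩
            exact_mod_cast Nat.card_pos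
          linarith
      refine ⟨d - k, by omega, by omega, ?_⟩
      rw [show d - (d - k) = k by omega]
      rcases hcases with e | e <;> rw [e] at hJ
      · left; exact_mod_cast hJ
      · right
        have : ((Nat.card {x : G // x ^ 2 = 1} + 2 ^ k : ℕ) : ℤ) = ((2 ^ d : ℕ) : ℤ) := by
          push_cast; linarith
        exact_mod_cast this
  · intro r hdr hj
    have hS : (∑ v, f v) * (∑ v, f v) = 2 ^ d := by
      have : (∑ v, f v) = 2 ^ r ∨ (∑ v, f v) = -2 ^ r := by
        rcases hj with e | e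
        · left
          rw [e] at hJ; push_cast at hJ; linarith
        · right
          have := congrArg (Nat.cast : ℕ → ℤ) e
          push_cast at this; linarith
      rcases this with e | e <;> rw [e, hdr, two_mul, pow_add] <;> ring
    have hcenter : Subgroup.center G = N := by
      refine le_antisymm (fun z hz => ?_) (fun n hn => Subgroup.mem_center_iff.mpr (hNc n hn))
      by_contra hzN
      set z₀ : Additive (G ⧸ N) := Additive.ofMul (QuotientGroup.mk z) with hz₀
      have hz00 : z₀ ≠ 0 := fun h => hzN ((QuotientGroup.eq_one_iff z).mp (Additive.ofMul.injective h))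
      have hrad : ∀ v, f (v + z₀) * f v * f z₀ = 1 := by
        intro v
        obtain ⟨y, hy⟩ := QuotientGroup.mk_surjective (Additive.toMul v)
        simp only [f, toMul_add, ← hy, hz₀, toMul_ofMul, ← QuotientGroup.mk_mul]
        show sg ((y * z) ^ 2) * sg (y ^ 2) * sg (z ^ 2) = 1
        rw [hpol, commutatorElement_eq_one_iff_mul_comm.mpr (Subgroup.mem_center_iff.mp hz y).symm]
        simp [sg]
      have h2 : ∀ v : Additive (G ⧸ N), v + v = 0 := fun v => hQ2 (Additive.toMul v)
      have hdvd : (2 : ℤ) ∣ ∑ v with (∀ u, f (u + v) * f u * f v = 1), f v := by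
        refine even_radical hf h2 _ z₀ hz00 fun v hv => ?_
        rw [Finset.mem_filter] at hv ⊢
        refine ⟨Finset.mem_univ _, fun u => ?_⟩
        have e := hf.polar_add v z₀ u
        rw [show v + z₀ + u = u + (v + z₀) by abel, show v + u = u + v by abel,
          show z₀ + u = u + z₀ by abel] at e
        calc f (u + (v + z₀)) * f u * f (v + z₀)
            = f (u + (v + z₀)) * f (v + z₀) * f u := by ring
          _ = f (u + v) * f v * f u * (f (u + z₀) * f z₀ * f u) := e
          _ = f (u + v) * f u * f v * (f (u + z₀) * f u * f z₀) := by ring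
          _ = 1 := by rw [hv.2 u, hrad u, one_mul]
      have hsum := sum_mul_sum hf
      rw [hS, hdV] at hsum
      push_cast at hsum
      have h1 : ∑ v with (∀ u, f (u + v) * f u * f v = 1), f v = (1 : ℤ) := by
        have := mul_left_cancel₀ (pow_ne_zero d two_ne_zero) (hsum.symm.trans (mul_one _).symm)
        exact this
      rw [h1] at hdvd
      norm_num at hdvd
    have hcommN : commutator G = N := by
      refine le_antisymm (CfsgLib.Solvable.commutator_le_frattini hG) ?_
      by_contra h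
      have hbot : commutator G = ⊥ := by
        apply Subgroup.card_eq_one.mp
        by_contra h1
        have h0 : 0 < Nat.card (commutator G) := Nat.card_pos
        exact h (Subgroup.eq_of_le_of_card_ge (CfsgLib.Solvable.commutator_le_frattini hG)
          (by rw [hΦ]; omega)).ge
      rw [commutator_eq_bot_iff_center_eq_top, hcenter] at hbot
      have hsur : (⊥ : Subgroup G) = ⊤ := frattini_nongenerating (by rw [bot_sup_eq, ← hN, hbot])
      rw [hbot, ← hsur, Subgroup.card_bot] at hΦ
      exact absurd hΦ (by norm_num)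
    exact ⟨⟨hG, hcenter.symm, hcommN.trans hcenter.symm⟩, by rw [hcenter, hΦ]⟩

end Cfsg.Agent.S3772
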