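import Cfsg.Statements.S3773
import Cfsg.Agent.HallHigman.MinimalAction
import Cfsg.Agent.HallHigman.SquareMap

set_option autoImplicit false
open Cfsg

namespace Cfsg.Agent.S3773

open scoped commutatorElement
open CfsgLib.SquareMap

theorem hyperplane {G : Type*} [Group G] [Finite G] (T L : Subgroup G) (a₀ : G) (hLT : L ≤ T)
    (ha₀ : a₀ ∈ T) (ha₀L : a₀ ∉ L) (hsq : ∀ a ∈ T, a ^ 2 ∈ L)
    (hcom : ∀ a ∈ T, ∀ b ∈ T, ⁅a, b⁆ ∈ L) :
    ∃ M : Subgroup G, L ≤ M ∧ M ≤ T ∧ a₀ ∉ M ∧ ∀ a ∈ T, a ∈ M ∨ a * a₀ ∈ M := by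
  obtain ⟨M, -, ⟨hLM, hMT, haM⟩, hmax⟩ := exists_maximal_ge_of_wellFoundedGT
    (fun M : Subgroup G => L ≤ M ∧ M ≤ T ∧ a₀ ∉ M) L ⟨le_rfl, hLT, ha₀L⟩
  refine ⟨M, hLM, hMT, haM, fun a ha => or_iff_not_imp_left.mpr fun haM' => ?_⟩
  have hcM : ∀ t ∈ T, ∀ m ∈ M, t * m * t⁻¹ ∈ M := by
    intro t ht m hm
    have := M.mul_mem (hLM (hcom t ht m (hMT hm))) hm
    simpa [commutatorElement_def, mul_assoc] using this
  have haa : a * a ∈ M := by rw [← sq]; exact hLM (hsq a ha)
  let M' : Subgroup G :=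
    { carrier := {x | x ∈ M ∨ (x ∈ T ∧ a * x ∈ M)}
      one_mem' := Or.inl (one_mem _)
      mul_mem' := by
        rintro x y (hx | ⟨hxT, hx⟩) (hy | ⟨hyT, hy⟩)
        · exact Or.inl (mul_mem hx hy)
        · refine Or.inr ⟨mul_mem (hMT hx) hyT, ?_⟩
          have h1 := hcM a ha x hx
          have := mul_mem h1 hy
          simpa [mul_assoc] using this
        · exact Or.inr ⟨mul_mem hxT (hMT hy), by rw [← mul_assoc]; exact mul_mem hx hy⟩
        · refine Or.inl ?_
          have h1 := hcM a⁻¹ (T.inv_mem ha) _ hx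
          have h2 := mul_mem h1 (mul_mem (inv_mem haa) hy)
          simpa [mul_assoc] using h2
      inv_mem' := by
        rintro x (hx | ⟨hxT, hx⟩)
        · exact Or.inl (inv_mem hx)
        · refine Or.inr ⟨inv_mem hxT, ?_⟩
          have h1 := mul_mem haa (hcM a⁻¹ (T.inv_mem ha) _ (inv_mem hx))
          simpa [mul_assoc] using h1 }
  have hle : M ≤ M' := fun x hx => Or.inl hx
  have haM'' : a ∈ M' := Or.inr ⟨ha, haa⟩
  by_contra hno
  refine haM' (hmax ⟨hLM.trans hle, ?_, ?_⟩ hle haM'')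
  · rintro x (hx | ⟨hx, -⟩)
    · exact hMT hx
    · exact hx
  · rintro (h | ⟨-, h⟩)
    · exact haM h
    · exact hno h

theorem not_large {G : Type*} [Group G] [Finite G] (N M K : Subgroup G) (hMN : M ≤ N) (hNK : N ≤ K)
    (hN2 : ∀ x, x ∈ N ↔ x ^ 2 = 1) (hNc : ∀ n ∈ N, ∀ g, g * n = n * g)
    (hsq : ∀ x ∈ K, x ^ 2 ∈ M) : N.relIndex K ≤ Nat.card M ^ 2 := by
  by_contra h
  obtain ⟨⟨x, hx⟩, hxN, hx2⟩ := exists_sq_eq_one (M.subgroupOf K) (N.subgroupOf K)
    (fun n hn => Subgroup.mem_center_iff.mpr fun g => Subtype.ext (hNc _ hn g))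
    (fun n hn => Subtype.ext ((hN2 _).mp hn)) (fun n hn => hMN hn) (fun n => hsq n n.2)
    (by
      rw [Nat.card_congr (Subgroup.subgroupOfEquivOfLe (hMN.trans hNK)).toEquiv]
      exact lt_of_not_ge h)
  exact hxN ((hN2 x).mpr (congrArg Subtype.val hx2))

/-- Let G be a finite 2-group of nilpotency class at most 2 and exponent dividing 4 in which the elements x with x² = 1 form a subgroup N. Then |G| ≤ |N|³, and |G| < |N|³ unless G is special. -/
theorem result {G : Type*} [Group G] [Finite G] (hG : IsPGroup 2 G) (hcl : (⊤ : Subgroup G).lowerCentralSeries 2 = ⊥) (hexp : ∀ x : G, x ^ 4 = 1) (hN : ∀ x y : G, x ^ 2 = 1 → y ^ 2 = 1 → (x * y) ^ 2 = 1) : Nat.card G ≤ Nat.card {x : G // x ^ 2 = 1} ^ 3 ∧ (¬ Cfsg.IsSpecial 2 G → Nat.card G < Nat.card {x : G // x ^ 2 = 1} ^ 3) := by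
  have hcc : ∀ x y : G, ⁅x, y⁆ ∈ Subgroup.center G := by
    intro x y
    rw [Subgroup.mem_center_iff]
    intro g
    have h : ⁅⁅x, y⁆, g⁆ ∈ (⊤ : Subgroup G).lowerCentralSeries 2 := by
      rw [Subgroup.lowerCentralSeries_succ, Subgroup.lowerCentralSeries_succ,
        Subgroup.lowerCentralSeries_zero]
      exact Subgroup.commutator_mem_commutator
        (Subgroup.commutator_mem_commutator (Subgroup.mem_top x) (Subgroup.mem_top y)) (Subgroup.mem_top g)
    rw [hcl, Subgroup.mem_bot, commutatorElement_eq_one_iff_mul_comm] at h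
    exact h.symm
  have hc2 : ∀ x y : G, ⁅y, x⁆ ^ 2 = 1 := by
    intro x y
    have h := CfsgLib.HallHigman.mul_pow_class_two x y (hcc y x) 4
    rw [hexp, hexp, hexp, one_mul, one_mul, show Nat.choose 4 2 = 4 + 2 by rfl, pow_add, hexp,
      one_mul] at h
    exact h.symm
  have hsqc : ∀ x g : G, g * x ^ 2 = x ^ 2 * g := by
    intro x g
    have h := CfsgLib.HallHigman.commutatorElement_pow_class_two (hcc x g) 2
    rw [hc2, commutatorElement_eq_one_iff_mul_comm] at h
    exact h.symm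
  have hprod : ∀ x y : G, (x * y) ^ 2 = x ^ 2 * y ^ 2 * ⁅y, x⁆ := fun x y => by
    rw [CfsgLib.HallHigman.mul_pow_class_two x y (hcc y x) 2, Nat.choose_self, pow_one]
  let N : Subgroup G :=
    { carrier := {x | x ^ 2 = 1}
      one_mem' := one_pow 2
      mul_mem' := fun ha hb => hN _ _ ha hb
      inv_mem' := fun {a} ha => by
        show a⁻¹ ^ 2 = 1
        rw [inv_pow, show a ^ 2 = 1 from ha, inv_one] }
  have hN2 : ∀ x, x ∈ N ↔ x ^ 2 = 1 := fun _ => Iff.rfl
  have hsqN : ∀ x : G, x ^ 2 ∈ N := fun x => by rw [hN2, ← pow_mul]; exact hexp x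
  have hcomS : ∀ L : Subgroup G, (∀ x, x ^ 2 ∈ L) → ∀ x y : G, ⁅y, x⁆ ∈ L := by
    intro L hL x y
    have h : ⁅y, x⁆ = (x ^ 2 * y ^ 2)⁻¹ * (x * y) ^ 2 := by rw [hprod, inv_mul_cancel_left]
    rw [h]; exact L.mul_mem (L.inv_mem (L.mul_mem (hL x) (hL y))) (hL _)
  have hcN : ∀ x y : G, ⁅y, x⁆ ∈ N := hcomS N hsqN
  set Z0 := N ⊓ Subgroup.center G with hZ0
  have hsqZ0 : ∀ x : G, x ^ 2 ∈ Z0 := fun x => ⟨hsqN x, Subgroup.mem_center_iff.mpr (hsqc x)⟩
  have hcZ0 : ∀ x y : G, ⁅y, x⁆ ∈ Z0 := hcomS Z0 hsqZ0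
  have hNn : N.Normal := ⟨fun n hn g => by
    have := N.mul_mem (hcN n g) hn
    simpa [commutatorElement_def, mul_assoc] using this⟩
  -- a complement to `N` over `Z0`
  obtain ⟨H, -, ⟨hZH, hHN⟩, hmax⟩ := exists_maximal_ge_of_wellFoundedGT
    (fun H : Subgroup G => Z0 ≤ H ∧ H ⊓ N = Z0) Z0 ⟨le_rfl, inf_eq_left.mpr inf_le_left⟩
  have hsup : H ⊔ N = ⊤ := by
    rw [eq_top_iff]
    intro g _
    by_contra hg
    have hgH : g ∉ H := fun h => hg (Subgroup.mem_sup_left h)
    have hHn : ∀ t h : G, h ∈ H → t * h * t⁻¹ ∈ H := by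
      intro t h hh
      have := H.mul_mem (hZH (hcZ0 h t)) hh
      simpa [commutatorElement_def, mul_assoc] using this
    have hgg : g * g ∈ H := by rw [← sq]; exact hZH (hsqZ0 g)
    let H' : Subgroup G :=
      { carrier := {x | x ∈ H ∨ g * x ∈ H}
        one_mem' := Or.inl (one_mem _)
        mul_mem' := by
          rintro x y (hx | hx) (hy | hy)
          · exact Or.inl (mul_mem hx hy)
          · exact Or.inr (by simpa [mul_assoc] using mul_mem (hHn g x hx) hy)
          · exact Or.inr (by simpa [mul_assoc] using mul_mem hx hy)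
          · refine Or.inl ?_
            have h1 := mul_mem (hHn g⁻¹ _ hx) (mul_mem (inv_mem hgg) hy)
            simpa [mul_assoc] using h1
        inv_mem' := by
          rintro x (hx | hx)
          · exact Or.inl (inv_mem hx)
          · exact Or.inr (by simpa [mul_assoc] using mul_mem hgg (hHn g⁻¹ _ (inv_mem hx))) }
    have hle : H ≤ H' := fun x hx => Or.inl hx
    refine hgH (hmax ⟨hZH.trans hle, le_antisymm ?_ ?_⟩ hle (Or.inr hgg : g ∈ H'))
    · rintro x ⟨hx, hxN⟩
      rcases hx with hx | hx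
      · exact hHN ▸ ⟨hx, hxN⟩
      · exfalso
        apply hg
        have := (H ⊔ N).mul_mem (Subgroup.mem_sup_left hx) (Subgroup.mem_sup_right (N.inv_mem hxN))
        simpa using this
    · exact le_inf (hZH.trans hle) inf_le_left
  have hidx : N.index ≤ Nat.card Z0 ^ 2 := by
    have h1 : N.index = N.relIndex H := by
      rw [← Subgroup.relIndex_sup_right H N, hsup, Subgroup.relIndex_top_right]
    rw [h1, ← Subgroup.inf_relIndex_right, inf_comm N H, hHN]
    by_contra h
    obtain ⟨⟨x, hx⟩, hxN, hx2⟩ := exists_sq_eq_one (Z0.subgroupOf H) (Z0.subgroupOf H)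
      (fun n hn => Subgroup.mem_center_iff.mpr fun g =>
        Subtype.ext (Subgroup.mem_center_iff.mp (Subgroup.mem_inf.mp hn).2 g))
      (fun n hn => Subtype.ext ((hN2 _).mp (Subgroup.mem_inf.mp hn).1)) le_rfl
      (fun n => hsqZ0 n) (by
        rw [Nat.card_congr (Subgroup.subgroupOfEquivOfLe hZH).toEquiv]
        exact lt_of_not_ge h)
    exact hxN (show x ∈ Z0 from hHN ▸ ⟨hx, (hN2 x).mpr (congrArg Subtype.val hx2)⟩)
  have hcardN : Nat.card {x : G // x ^ 2 = 1} = Nat.card N := rfl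
  have hG1 : Nat.card G = Nat.card N * N.index := (Subgroup.card_mul_index N).symm
  have hZN : Nat.card Z0 ≤ Nat.card N := Nat.card_le_card_of_injective _
    (Subgroup.inclusion_injective (inf_le_left : Z0 ≤ N))
  have hle : Nat.card G ≤ Nat.card N ^ 3 := by
    rw [hG1, pow_succ' (Nat.card N) 2]
    exact Nat.mul_le_mul_left _ (hidx.trans (Nat.pow_le_pow_left hZN 2))
  rw [hcardN]
  refine ⟨hle, fun hns => lt_of_le_of_ne hle fun heq => hns ?_⟩
  have hidxeq : N.index = Nat.card N ^ 2 := by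
    rw [hG1, pow_succ' (Nat.card N) 2] at heq
    exact Nat.eq_of_mul_eq_mul_left Nat.card_pos heq
  have hNc : ∀ n ∈ N, ∀ g, g * n = n * g := by
    have h := Subgroup.eq_of_le_of_card_ge (inf_le_left : Z0 ≤ N)
      ((Nat.pow_le_pow_iff_left two_ne_zero).mp (hidxeq ▸ hidx))
    exact fun n hn => Subgroup.mem_center_iff.mp (Subgroup.mem_inf.mp (h.ge hn)).2
  have hΦle : frattini G ≤ N := CfsgLib.Solvable.frattini_le_of_elementary (p := 2)
    (by rw [commutator_def, Subgroup.commutator_le]; exact fun a _ b _ => hcN b a) hsqN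
  have hΦ : frattini G = N := by
    refine Subgroup.eq_of_le_of_card_ge hΦle ?_
    have h := not_large N (frattini G) ⊤ hΦle le_top hN2 hNc
      (fun x _ => CfsgLib.Solvable.pow_mem_frattini hG x)
    rw [Subgroup.relIndex_top_right, hidxeq] at h
    exact (Nat.pow_le_pow_iff_left two_ne_zero).mp h
  have hD : commutator G = N := by
    refine le_antisymm (hΦ ▸ CfsgLib.Solvable.commutator_le_frattini hG) fun a₀ ha₀ => ?_
    by_contra hd
    have hDN : commutator G ≤ N := hΦ ▸ CfsgLib.Solvable.commutator_le_frattini hG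
    have hmemD : ∀ x y : G, ⁅x, y⁆ ∈ commutator G := fun x y =>
      Subgroup.commutator_mem_commutator (Subgroup.mem_top x) (Subgroup.mem_top y)
    obtain ⟨M, hDM, hMN, haM, hhalf⟩ := hyperplane N (commutator G) a₀ hDN ha₀ hd
      (fun a ha => by rw [(hN2 a).mp ha]; exact one_mem _) (fun a _ b _ => hmemD a b)
    let K : Subgroup G :=
      { carrier := {x | x ^ 2 ∈ M}
        one_mem' := by rw [Set.mem_setOf_eq, one_pow]; exact one_mem _
        mul_mem' := fun {a b} ha hb => by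
          rw [Set.mem_setOf_eq, hprod]
          exact M.mul_mem (M.mul_mem ha hb) (hDM (hmemD b a))
        inv_mem' := fun {a} ha => by
          rw [Set.mem_setOf_eq, inv_pow]; exact inv_mem ha }
    have hNK : N ≤ K := fun n hn => by
      show n ^ 2 ∈ M
      rw [(hN2 n).mp hn]; exact one_mem _
    have hK : K.index ≤ 2 := by
      by_cases htop : ∀ x, x ∈ K
      · rw [Subgroup.index_eq_one.mpr (eq_top_iff.mpr fun x _ => htop x)]; omega
      obtain ⟨g, hg⟩ := not_forall.mp htop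
      refine le_of_eq (Subgroup.index_eq_two_iff_exists_notMem_and.mpr ⟨g, hg, fun b => ?_⟩)
      rw [or_iff_not_imp_right]
      intro hb
      show (b * g) ^ 2 ∈ M
      rw [hprod]
      refine M.mul_mem ?_ (hDM (hmemD g b))
      have h1 := (hhalf _ (hsqN b)).resolve_left hb
      have h2 := (hhalf _ (hsqN g)).resolve_left hg
      have h3 := M.mul_mem h1 h2
      rwa [show b ^ 2 * a₀ * (g ^ 2 * a₀) = b ^ 2 * (a₀ * g ^ 2) * a₀ by group, ← hsqc g a₀ |>.symm,
        show b ^ 2 * (g ^ 2 * a₀) * a₀ = b ^ 2 * g ^ 2 * a₀ ^ 2 by rw [sq a₀]; group,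
        (hN2 a₀).mp ha₀, mul_one] at h3
    have hMcard : 2 * Nat.card M ≤ Nat.card N := by
      have h2 : M.relIndex N ≠ 1 := fun h => haM (Subgroup.relIndex_eq_one.mp h ha₀)
      have h3 := Subgroup.relIndex_mul_relIndex ⊥ M N bot_le hMN
      rw [Subgroup.relIndex_bot_left, Subgroup.relIndex_bot_left] at h3
      rw [← h3, mul_comm 2]
      refine Nat.mul_le_mul_left _ ?_
      have h4 : M.relIndex N ≠ 0 := Subgroup.index_ne_zero_of_finite
      omega
    have h1 := not_large N M K hMN hNK hN2 hNc (fun x hx => hx)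
    have h2 := Subgroup.relIndex_mul_index hNK
    have h3 : N.index ≤ Nat.card M ^ 2 * 2 := h2 ▸ Nat.mul_le_mul h1 hK
    have h4 := Nat.pow_le_pow_left hMcard 2
    have h0 : 0 < Nat.card M ^ 2 := pow_pos Nat.card_pos 2
    rw [hidxeq] at h3
    rw [mul_pow] at h4
    omega
  have hZ : Subgroup.center G = N := by
    refine le_antisymm (fun z hz => ?_) fun n hn => Subgroup.mem_center_iff.mpr (hNc n hn)
    by_contra hzN
    obtain ⟨K, hNK, -, hzK, hhalf⟩ := hyperplane ⊤ N z le_top (Subgroup.mem_top z) hzN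
      (fun a _ => hsqN a) (fun a _ b _ => hcN b a)
    have hK : K.index = 2 := Subgroup.index_eq_two_iff_exists_notMem_and.mpr
      ⟨z, hzK, fun b => (hhalf b (Subgroup.mem_top b)).symm⟩
    set c := z ^ 2 with hc
    have hc1 : c ≠ 1 := fun h => hzN ((hN2 z).mpr h)
    set C := (Subgroup.zpowers c).subgroupOf K with hC
    have hcK : Subgroup.zpowers c ≤ N := Subgroup.zpowers_le.mpr (hsqN z)
    haveI hCn : C.Normal := ⟨fun n hn g => by
      have h : (g : G) * n = n * g := hNc _ (hcK hn) g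
      have he : g * n = n * g := Subtype.ext h
      rw [he, mul_inv_cancel_right]; exact hn⟩
    set f := QuotientGroup.mk' C with hf
    set N1 := (N.subgroupOf K).map f with hN1
    have hCN : C ≤ N.subgroupOf K := fun n hn => hcK hn
    have hidx1 : N1.index = N.relIndex K := by
      rw [hN1, Subgroup.index_map, QuotientGroup.ker_mk', sup_eq_left.mpr hCN,
        MonoidHom.range_eq_top.mpr (QuotientGroup.mk'_surjective C), Subgroup.index_top, mul_one]
      rfl
    have hcard1 : 2 * Nat.card N1 = Nat.card N := by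
      have e1 : Nat.card N1 = C.relIndex (N.subgroupOf K) := by
        rw [hN1, ← Subgroup.relIndex_bot_left, ← Subgroup.map_bot f, Subgroup.relIndex_map_map,
          QuotientGroup.ker_mk', bot_sup_eq, sup_eq_left.mpr hCN]
      have e2 := Subgroup.relIndex_mul_relIndex ⊥ C (N.subgroupOf K) bot_le hCN
      rw [Subgroup.relIndex_bot_left, Subgroup.relIndex_bot_left, ← e1,
        Nat.card_congr (Subgroup.subgroupOfEquivOfLe (hcK.trans hNK)).toEquiv,
        Nat.card_congr (Subgroup.subgroupOfEquivOfLe hNK).toEquiv, Nat.card_zpowers,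
        orderOf_eq_prime ((hN2 c).mp (hsqN z)) hc1] at e2
      exact e2
    obtain ⟨q, hqN, hq2⟩ := exists_sq_eq_one N1 N1
      (by
        rintro _ ⟨n, hn, rfl⟩
        rw [Subgroup.mem_center_iff]
        intro q
        obtain ⟨k, rfl⟩ := QuotientGroup.mk'_surjective C q
        rw [← map_mul, ← map_mul]
        exact congrArg f (Subtype.ext (hNc _ hn k)))
      (by
        rintro _ ⟨n, hn, rfl⟩
        rw [← map_pow, show n ^ 2 = 1 from Subtype.ext ((hN2 _).mp hn), map_one])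
      le_rfl
      (fun q => by
        obtain ⟨k, rfl⟩ := QuotientGroup.mk'_surjective C q
        exact ⟨k ^ 2, hsqN k, map_pow f k 2⟩)
      (by
        rw [hidx1]
        have h2 := Subgroup.relIndex_mul_index hNK
        rw [hK, hidxeq, ← hcard1, mul_pow] at h2
        have : 0 < Nat.card N1 ^ 2 := pow_pos Nat.card_pos 2
        omega)
    obtain ⟨⟨x, hx⟩, rfl⟩ := QuotientGroup.mk'_surjective C q
    rw [← map_pow] at hq2
    have hxC0 : (⟨x, hx⟩ : ↥K) ^ 2 ∈ C := (QuotientGroup.eq_one_iff _).mp hq2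
    have hxC : x ^ 2 ∈ Subgroup.zpowers c := hxC0
    have hxN : x ∉ N := fun h => hqN ⟨⟨x, hx⟩, h, rfl⟩
    obtain ⟨i, hi⟩ := Subgroup.mem_zpowers_iff.mp hxC
    have hxc : x ^ 2 = 1 ∨ x ^ 2 = c := by
      rw [← hi]
      have hcc2 : c ^ (2 : ℤ) = 1 := by exact_mod_cast (hN2 c).mp (hsqN z)
      rcases Int.even_or_odd i with ⟨j, rfl⟩ | ⟨j, rfl⟩
      · left; rw [← two_mul, zpow_mul, hcc2, one_zpow]
      · right; rw [zpow_add, zpow_mul, hcc2, one_zpow, one_mul, zpow_one]
    rcases hxc with h | h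
    · exact hxN ((hN2 x).mpr h)
    · apply hzK
      have hxz : x * z ∈ N := by
        rw [hN2, Commute.mul_pow (Subgroup.mem_center_iff.mp hz x : Commute x z), h, hc, ← sq,
          ← pow_mul]
        exact hexp z
      have h' := K.mul_mem (K.inv_mem hx) (hNK hxz)
      rwa [inv_mul_cancel_left] at h'
  exact ⟨hG, hΦ.trans hZ.symm, hD.trans hZ.symm⟩

end Cfsg.Agent.S3773
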