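import Cfsg.Statements.S3774

set_option autoImplicit false
open Cfsg

namespace Cfsg.Agent.S3774

theorem exists_inv_power {G : Type*} [Group G] (hG : IsPGroup 2 G) {x : G} (hx : x ≠ 1) :
    ∃ z : G, z ≠ 1 ∧ z ^ 2 = 1 ∧ z = x ^ (orderOf x / 2) := by
  refine ⟨_, ?_, ?_, rfl⟩
  all_goals
    obtain ⟨k, hk⟩ := IsPGroup.iff_orderOf.mp hG x
    have hk0 : k ≠ 0 := by
      rintro rfl
      rw [pow_zero, orderOf_eq_one_iff] at hk
      exact hx hk
    obtain ⟨j, rfl⟩ : ∃ j, k = j + 1 := ⟨k - 1, by omega⟩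
    have hdiv : 2 ^ (j + 1) / 2 = 2 ^ j := by rw [pow_succ, Nat.mul_div_cancel _ (by norm_num : 0 < 2)]
    rw [hk, hdiv]
  · refine pow_ne_one_of_lt_orderOf (pow_ne_zero _ (by norm_num)) ?_
    rw [hk]; exact Nat.pow_lt_pow_right (by norm_num) (by omega)
  · rw [← pow_mul, ← pow_succ, ← hk, pow_orderOf_eq_one]

/-- Let G be a nontrivial finite 2-group whose automorphism group permutes the involutions of G transitively. Then every involution of G is central, so that the involutions together with 1 form the subgroup Ω₁(Z(G)), and if this subgroup has order q then |G| is a power of q. -/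
theorem result {G : Type*} [Group G] [Finite G] [Nontrivial G] (hG : IsPGroup 2 G) (htrans : ∀ x y : G, x ≠ 1 → x ^ 2 = 1 → y ≠ 1 → y ^ 2 = 1 → ∃ a : MulAut G, a x = y) : (∀ x : G, x ^ 2 = 1 → x ∈ Subgroup.center G) ∧ ∃ m : ℕ, Nat.card G = Nat.card {z : G // z ^ 2 = 1} ^ m := by
  classical
  obtain ⟨c, hc, hc1⟩ : ∃ c ∈ Subgroup.center G, c ≠ 1 := by
    have := hG.center_nontrivial
    obtain ⟨⟨c, hc⟩, h⟩ := exists_ne (1 : Subgroup.center G)
    exact ⟨c, hc, fun h1 => h (Subtype.ext h1)⟩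
  obtain ⟨w, hw1, hw2, hwc⟩ := exists_inv_power hG hc1
  have hwz : w ∈ Subgroup.center G := hwc ▸ pow_mem hc _
  have hcen : ∀ x : G, x ^ 2 = 1 → x ∈ Subgroup.center G := by
    intro x hx
    rcases eq_or_ne x 1 with rfl | hx1
    · exact one_mem _
    obtain ⟨a, rfl⟩ := htrans w x hw1 hw2 hx1 hx
    rw [Subgroup.mem_center_iff]
    intro g
    obtain ⟨g, rfl⟩ := a.surjective g
    rw [← map_mul, ← map_mul, Subgroup.mem_center_iff.mp hwz g]
  refine ⟨hcen, ?_⟩
  let Ω : Subgroup G :=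
    { carrier := {z | z ^ 2 = 1}
      one_mem' := one_pow 2
      mul_mem' := fun {a b} ha hb => by
        show (a * b) ^ 2 = 1
        rw [Commute.mul_pow (Subgroup.mem_center_iff.mp (hcen b hb) a), ha, hb, one_mul]
      inv_mem' := fun {a} ha => by
        show a⁻¹ ^ 2 = 1
        rw [inv_pow, ha, inv_one] }
  obtain ⟨s, hs⟩ := IsPGroup.iff_card.mp (hG.to_subgroup Ω)
  obtain ⟨N, hN⟩ := IsPGroup.iff_card.mp hG
  have hsq : Nat.card {z : G // z ^ 2 = 1} = 2 ^ s := hs
  let _ : Fintype G := Fintype.ofFinite G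
  let I : Finset G := Finset.univ.filter fun z => z ≠ 1 ∧ z ^ 2 = 1
  let S : Finset G := Finset.univ.filter fun x => x ≠ 1
  let π : G → G := fun x => x ^ (orderOf x / 2)
  have hπ : ∀ x ∈ S, π x ∈ I := fun x hx => by
    obtain ⟨z, h1, h2, h3⟩ := exists_inv_power hG (Finset.mem_filter.mp hx).2
    subst h3
    exact Finset.mem_filter.mpr ⟨Finset.mem_univ _, h1, h2⟩
  have hfib : ∀ z ∈ I, (S.filter fun x => π x = z).card = (S.filter fun x => π x = w).card := by
    intro z hz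
    obtain ⟨-, hz1, hz2⟩ := Finset.mem_filter.mp hz
    obtain ⟨a, ha⟩ := htrans z w hz1 hz2 hw1 hw2
    refine Finset.card_bij' (fun x _ => a x) (fun x _ => a.symm x) ?_ ?_ ?_ ?_
    · intro x hx
      obtain ⟨hx1, hx2⟩ := Finset.mem_filter.mp hx
      refine Finset.mem_filter.mpr ⟨Finset.mem_filter.mpr ⟨Finset.mem_univ _, ?_⟩, ?_⟩
      · exact (map_ne_one_iff a a.injective).mpr (Finset.mem_filter.mp hx1).2
      · show a x ^ (orderOf (a x) / 2) = w
        have hx3 : x ^ (orderOf x / 2) = z := hx2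
        rw [MulEquiv.orderOf_eq, ← map_pow, hx3, ha]
    · intro x hx
      obtain ⟨hx1, hx2⟩ := Finset.mem_filter.mp hx
      refine Finset.mem_filter.mpr ⟨Finset.mem_filter.mpr ⟨Finset.mem_univ _, ?_⟩, ?_⟩
      · exact (map_ne_one_iff a.symm a.symm.injective).mpr (Finset.mem_filter.mp hx1).2
      · show a.symm x ^ (orderOf (a.symm x) / 2) = z
        have hx3 : x ^ (orderOf x / 2) = w := hx2
        rw [MulEquiv.orderOf_eq, ← map_pow, MulEquiv.symm_apply_eq, ha, hx3]
    · intros; simp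
    · intros; simp
  have hsum : S.card = I.card * (S.filter fun x => π x = w).card := by
    rw [Finset.card_eq_sum_card_fiberwise hπ, Finset.sum_congr rfl hfib, Finset.sum_const,
      smul_eq_mul]
  have hScard : S.card = 2 ^ N - 1 := by
    rw [show S = Finset.univ.erase (1 : G) by ext; simp [S],
      Finset.card_erase_of_mem (Finset.mem_univ _), Finset.card_univ, ← Nat.card_eq_fintype_card, hN]
  have hIcard : I.card = 2 ^ s - 1 := by
    rw [← hsq, Nat.card_eq_fintype_card, Fintype.card_subtype,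
      ← Finset.card_erase_of_mem (a := (1 : G)) (by simp)]
    congr 1
    ext z; simp [I]
  have hdvd : 2 ^ s - 1 ∣ 2 ^ N - 1 := ⟨_, by rw [← hScard, ← hIcard]; exact hsum⟩
  have hs0 : s ≠ 0 := by
    intro h
    have : Ω = ⊥ := Subgroup.card_eq_one.mp (by rw [hs, h, pow_zero])
    exact hw1 (Subgroup.mem_bot.mp (this ▸ (hw2 : w ∈ Ω)))
  have hgcd := Nat.pow_sub_one_gcd_pow_sub_one 2 s N
  rw [Nat.gcd_eq_left hdvd] at hgcd
  have h2 : 2 ^ s = 2 ^ Nat.gcd s N := by
    have := Nat.one_le_two_pow (n := s)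
    have := Nat.one_le_two_pow (n := Nat.gcd s N)
    omega
  have hsN : s ∣ N := by
    rw [Nat.pow_right_injective le_rfl h2]; exact Nat.gcd_dvd_right _ _
  obtain ⟨m, hm⟩ := hsN
  exact ⟨m, by rw [hsq, ← pow_mul, ← hm, hN]⟩

end Cfsg.Agent.S3774
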