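import Cfsg.Statements.S3775
import Cfsg.Agent.AbelianCoprime.Complement

set_option autoImplicit false
open Cfsg

namespace Cfsg.Agent.S3775

open CfsgLib.AbelianCoprime

variable {A : Type*} [CommGroup A] [Finite A] {p : ℕ} [hp : Fact p.Prime]

/-- The elements whose `n`-th power lies in `T`. -/
def powPre (n : ℕ) (T : Subgroup A) : Subgroup A where
  carrier := {a | a ^ n ∈ T}
  one_mem' := by simp [T.one_mem]
  mul_mem' {a b} ha hb := by show (a * b) ^ n ∈ T; rw [mul_pow]; exact T.mul_mem ha hb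
  inv_mem' {a} ha := by show a⁻¹ ^ n ∈ T; rw [inv_pow]; exact T.inv_mem ha

/-- The `n`-th powers of elements of `D`. -/
def powImage (n : ℕ) (D : Subgroup A) : Subgroup A := D.map (powMonoidHom n)

omit [Finite A] hp in
theorem mem_powImage {n : ℕ} {D : Subgroup A} {a : A} :
    a ∈ powImage n D ↔ ∃ d ∈ D, d ^ n = a := Iff.rfl

omit [Finite A] hp in
theorem invariant_powPre {X : Subgroup (MulAut A)} {T : Subgroup A} (h : Invariant X T) (n : ℕ) :
    Invariant X (powPre n T) := fun x hx a ha => by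
  show x a ^ n ∈ T
  rw [← map_pow]; exact h x hx _ ha

omit [Finite A] hp in
theorem invariant_powImage {X : Subgroup (MulAut A)} {D : Subgroup A} (h : Invariant X D) (n : ℕ) :
    Invariant X (powImage n D) := by
  rintro x hx _ ⟨d, hd, rfl⟩
  exact ⟨x d, h x hx d hd, (map_pow x d n).symm⟩

omit [Finite A] hp in
theorem invariant_top (X : Subgroup (MulAut A)) : Invariant X (⊤ : Subgroup A) :=
  fun _ _ _ _ => Subgroup.mem_top _

theorem exists_exponent (hA : IsPGroup p A) : ∃ e, ∀ a : A, a ^ p ^ e = 1 := by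
  obtain ⟨n, hn⟩ := IsPGroup.iff_card.mp hA
  exact ⟨n, fun a => hn ▸ pow_card_eq_one'⟩

/-- (iii) implies (ii). -/
theorem iii_ii {X : Subgroup (MulAut A)} (hA : IsPGroup p A)
    (h3 : ∀ B : Subgroup A, Invariant X B → (∀ b ∈ B, b ^ p = 1) → B = ⊥ ∨ ∀ a : A, a ∈ B ↔ a ^ p = 1)
    {B : Subgroup A} (hB : Invariant X B) : ∃ i : ℕ, ∀ a : A, a ∈ B ↔ a ^ p ^ i = 1 := by
  classical
  have hex : ∃ i, ∀ b ∈ B, b ^ p ^ i = 1 := by
    obtain ⟨e, he⟩ := exists_exponent hA
    exact ⟨e, fun b _ => he b⟩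
  refine ⟨Nat.find hex, fun a => ⟨fun ha => Nat.find_spec hex a ha, ?_⟩⟩
  have key : ∀ i, i ≤ Nat.find hex → ∀ a : A, a ^ p ^ i = 1 → a ∈ B := by
    intro i
    induction i with
    | zero => intro _ a ha; rw [pow_zero, pow_one] at ha; rw [ha]; exact one_mem _
    | succ i ih =>
      intro hi a ha
      set T := powImage (p ^ i) (B ⊓ powPre (p ^ (i + 1)) ⊥)
      have hT : Invariant X T :=
        invariant_powImage (hB.inf (invariant_powPre (Invariant.bot X) _)) _
      have hTp : ∀ t ∈ T, t ^ p = 1 := by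
        rintro _ ⟨d, hd, rfl⟩
        show (d ^ p ^ i) ^ p = 1
        rw [← pow_mul, ← pow_succ]
        exact hd.2
      rcases h3 T hT hTp with h | h
      · exfalso
        have hnot : ¬ ∀ b ∈ B, b ^ p ^ i = 1 := Nat.find_min hex (by omega)
        obtain ⟨b, hb, hb1⟩ : ∃ b ∈ B, b ^ p ^ i ≠ 1 := by
          simpa only [not_forall, exists_prop] using hnot
        obtain ⟨k, hk⟩ := IsPGroup.iff_orderOf.mp hA b
        have hik : i + 1 ≤ k := by
          by_contra hlt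
          refine hb1 (orderOf_dvd_iff_pow_eq_one.mp ?_)
          rw [hk]; exact pow_dvd_pow p (by omega)
        have hmem : (b ^ p ^ (k - (i + 1))) ^ p ^ i ∈ T := by
          refine ⟨b ^ p ^ (k - (i + 1)), ⟨pow_mem hb _, ?_⟩, rfl⟩
          show (b ^ p ^ (k - (i + 1))) ^ p ^ (i + 1) = 1
          rw [← pow_mul, ← pow_add, show k - (i + 1) + (i + 1) = k by omega, ← hk, pow_orderOf_eq_one]
        rw [h, Subgroup.mem_bot, ← pow_mul, ← pow_add] at hmem
        have := orderOf_dvd_of_pow_eq_one hmem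
        rw [hk, Nat.pow_dvd_pow_iff_le_right hp.out.one_lt] at this
        omega
      · have hmem : a ^ p ^ i ∈ T := (h _).mpr (by rw [← pow_mul, ← pow_succ, ha])
        obtain ⟨d, ⟨hdB, -⟩, hd⟩ := hmem
        have hd' : d ^ p ^ i = a ^ p ^ i := hd
        have := ih (by omega) (a * d⁻¹) (by rw [mul_pow, inv_pow, hd', mul_inv_cancel])
        simpa using mul_mem this hdB
  exact key _ le_rfl a

/-- (i) implies (iii). -/
theorem i_iii {X : Subgroup (MulAut A)} (hA : IsPGroup p A) (hX : (Nat.card X).Coprime p)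
    (h1 : ∀ B C : Subgroup A, Invariant X B → Invariant X C → B ⊓ C = ⊥ → B ⊔ C = ⊤ → B = ⊥ ∨ C = ⊥)
    {B : Subgroup A} (hB : Invariant X B) (hBp : ∀ b ∈ B, b ^ p = 1) :
    B = ⊥ ∨ ∀ a : A, a ∈ B ↔ a ^ p = 1 := by
  classical
  rcases eq_or_ne B ⊥ with h | hBne
  · exact Or.inl h
  right
  have hex := exists_exponent hA
  have hepos : Nat.find hex ≠ 0 := by
    intro h0
    have := Nat.find_spec hex
    rw [h0] at this
    exact hBne ((Subgroup.eq_bot_iff_forall B).mpr fun b _ => by simpa using this b)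
  obtain ⟨e, he⟩ : ∃ e, Nat.find hex = e + 1 := ⟨Nat.find hex - 1, by omega⟩
  have hexp : ∀ a : A, a ^ p ^ (e + 1) = 1 := fun a => by rw [← he]; exact Nat.find_spec hex a
  have hnot : ¬ ∀ a : A, a ^ p ^ e = 1 := Nat.find_min hex (by omega)
  set M := powImage (p ^ e) (⊤ : Subgroup A) with hMdef
  have key : ∀ T : Subgroup A, Invariant X T → T ≤ M → T ≠ ⊥ →
      (∀ a : A, a ^ p ^ e = 1 → ∃ b, b ^ p = a) ∧ T = M := by
    intro T hT hTM hTne
    obtain ⟨D, ⟨hD, hDT⟩, hmin⟩ := Set.Finite.exists_minimalFor id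
      {D : Subgroup A | Invariant X D ∧ powImage (p ^ e) D = T} (Set.toFinite _)
      ⟨powPre (p ^ e) T, invariant_powPre hT _, by
        refine le_antisymm ?_ fun t ht => ?_
        · rintro _ ⟨d, hd, rfl⟩; exact hd
        · obtain ⟨d, -, rfl⟩ := hTM ht
          exact ⟨d, ht, rfl⟩⟩
    have hDne : D ≠ ⊥ := by
      rintro rfl
      exact hTne (by rw [← hDT, powImage, Subgroup.map_bot])
    set K := D ⊓ powPre (p ^ e) ⊥
    set C₀ := powImage p D
    have hC₀K : C₀ ≤ K := by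
      rintro _ ⟨d, hd, rfl⟩
      refine ⟨D.pow_mem hd _, ?_⟩
      show (d ^ p) ^ p ^ e = 1
      rw [← pow_mul, ← pow_succ']; exact hexp d
    obtain ⟨W, -, hWD, hW, hWK, hWsup⟩ := exists_invariant_complement hX hC₀K inf_le_left
      (fun d hd => ⟨d, hd, rfl⟩) (invariant_powImage hD _)
      (hD.inf (invariant_powPre (Invariant.bot X) _)) hD
    have hKC : K = C₀ := by
      have hDW : D ≤ W := by
        refine hmin ⟨hW, le_antisymm ?_ ?_⟩ hWD
        · rw [← hDT]; exact Subgroup.map_mono hWD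
        · rw [← hDT]
          rintro _ ⟨d, hd, rfl⟩
          rw [← hWsup] at hd
          obtain ⟨w, hw, k, hk, rfl⟩ := Subgroup.mem_sup.mp hd
          refine ⟨w, hw, ?_⟩
          show w ^ p ^ e = (w * k) ^ p ^ e
          rw [mul_pow, show k ^ p ^ e = 1 from hk.2, mul_one]
      rw [← hWK]
      exact (inf_eq_right.mpr (le_trans inf_le_left hDW)).symm
    obtain ⟨C, ⟨hC, hCD⟩, hmax⟩ := Set.Finite.exists_maximalFor id
      {C : Subgroup A | Invariant X C ∧ C ⊓ D = ⊥} (Set.toFinite _)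
      ⟨⊥, Invariant.bot X, bot_inf_eq D⟩
    have hDC : C ⊔ D = ⊤ := by
      by_contra hne
      set U := powPre p C
      have hCU : C ≤ U := fun c hc => pow_mem hc p
      obtain ⟨a, ha, hap⟩ : ∃ a, a ∉ C ⊔ D ∧ a ^ p ∈ C ⊔ D := by
        obtain ⟨a, ha⟩ : ∃ a, a ∉ C ⊔ D := by
          by_contra hall
          exact hne (eq_top_iff.mpr fun a _ => not_not.mp fun ha => hall ⟨a, ha⟩)
        have hex' : ∃ j, a ^ p ^ j ∈ C ⊔ D := ⟨e + 1, by rw [hexp]; exact one_mem _⟩
        have hj : Nat.find hex' ≠ 0 := fun h0 => by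
          have := Nat.find_spec hex'
          rw [h0, pow_zero, pow_one] at this
          exact ha this
        obtain ⟨j, hj⟩ : ∃ j, Nat.find hex' = j + 1 := ⟨Nat.find hex' - 1, by omega⟩
        refine ⟨a ^ p ^ j, Nat.find_min hex' (by omega), ?_⟩
        rw [← pow_mul, ← pow_succ, ← hj]
        exact Nat.find_spec hex'
      obtain ⟨c, hc, d, hd, hcd⟩ := Subgroup.mem_sup.mp hap
      have hd0 : d ^ p ^ e = 1 := by
        have h2 : c ^ p ^ e * d ^ p ^ e = 1 := by
          rw [← mul_pow, hcd, ← pow_mul, ← pow_succ', hexp]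
        have h3 : d ^ p ^ e ∈ C ⊓ D :=
          ⟨by rw [eq_inv_of_mul_eq_one_right h2]; exact C.inv_mem (C.pow_mem hc _), D.pow_mem hd _⟩
        rwa [hCD, Subgroup.mem_bot] at h3
      have hdC₀ : d ∈ C₀ := hKC ▸ (⟨hd, hd0⟩ : d ∈ K)
      obtain ⟨d₀, hd₀, hd₀'⟩ := hdC₀
      have hd₀p : d₀ ^ p = d := hd₀'
      have haU : a * d₀⁻¹ ∈ U := by
        show (a * d₀⁻¹) ^ p ∈ C
        rw [mul_pow, inv_pow, hd₀p, ← hcd, mul_inv_cancel_right]
        exact hc
      have haU' : a * d₀⁻¹ ∉ C ⊔ D := fun h => ha (by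
        simpa using mul_mem h (Subgroup.mem_sup_right hd₀))
      obtain ⟨W', hCW, hWU, hW', hWE, hWEsup⟩ := exists_invariant_complement hX
        (le_inf hCU (le_sup_left : C ≤ C ⊔ D)) inf_le_left (fun u hu => hu)
        hC ((invariant_powPre hC p).inf (hC.sup hD)) (invariant_powPre hC p)
      have hW'D : W' ⊓ D = ⊥ := by
        refine eq_bot_iff.mpr fun w hw => ?_
        rw [← hCD]
        refine ⟨?_, hw.2⟩
        rw [← hWE]
        exact ⟨hw.1, hWU hw.1, Subgroup.mem_sup_right hw.2⟩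
      have hle := hmax ⟨hW', hW'D⟩ hCW
      rw [← hWEsup] at haU
      obtain ⟨w, hw, v, hv, hwv⟩ := Subgroup.mem_sup.mp haU
      exact haU' (hwv ▸ mul_mem (Subgroup.mem_sup_left (hle hw)) hv.2)
    have hCbot : C = ⊥ := (h1 C D hC hD hCD hDC).resolve_right hDne
    rw [hCbot, bot_sup_eq] at hDC
    subst hDC
    refine ⟨fun a ha => ?_, hDT.symm⟩
    have haK : a ∈ C₀ := hKC ▸ (⟨Subgroup.mem_top a, ha⟩ : a ∈ K)
    obtain ⟨b, -, hb⟩ := haK
    exact ⟨b, hb⟩
  have hMne : M ≠ ⊥ := fun h => hnot fun a => by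
    rw [← Subgroup.mem_bot, ← h]; exact ⟨a, Subgroup.mem_top a, rfl⟩
  have hMi : Invariant X M := invariant_powImage (invariant_top X) _
  obtain ⟨hroot, -⟩ := key M hMi le_rfl hMne
  have hsoc : ∀ a : A, a ^ p = 1 → a ∈ M := by
    intro a ha
    suffices ∀ j, j ≤ e → ∃ b, b ^ p ^ j = a by
      obtain ⟨b, hb⟩ := this e le_rfl
      exact ⟨b, Subgroup.mem_top b, hb⟩
    intro j
    induction j with
    | zero => intro _; exact ⟨a, by rw [pow_zero, pow_one]⟩
    | succ j ih =>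
      intro hj
      obtain ⟨b, hb⟩ := ih (by omega)
      obtain ⟨c, hc⟩ := hroot b (by
        rw [show e = (e - (j + 1)) + 1 + j by omega, pow_add, pow_add, pow_one,
          mul_comm (p ^ _ * p), pow_mul, hb, mul_comm, pow_mul, ha, one_pow])
      exact ⟨c, by rw [pow_succ', pow_mul, hc, hb]⟩
  have hBM : B ≤ M := fun b hb => hsoc b (hBp b hb)
  intro a
  refine ⟨hBp a, fun ha => ?_⟩
  rw [(key B hB hBM hBne).2]
  exact hsoc a ha

/-- Let A be a finite abelian p-group and X a group of automorphisms of A of order prime to p. Call a subgroup of A invariant when every element of X maps it onto itself. Then the following are equivalent: (i) A is not the direct product of two nontrivial invariant subgroups; (ii) every invariant subgroup of A is one of the subgroups Ω_i(A) = {a : a^(p^i) = 1}; (iii) the subgroup Ω₁(A) of elements of order dividing p has no invariant subgroups other than 1 and itself. -/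
theorem result {A : Type*} [CommGroup A] [Finite A] {p : ℕ} [Fact p.Prime] (hA : IsPGroup p A) (X : Subgroup (MulAut A)) (hX : (Nat.card X).Coprime p) : ((¬ ∃ B C : Subgroup A, B ≠ ⊥ ∧ C ≠ ⊥ ∧ (∀ x ∈ X, B.map x.toMonoidHom = B) ∧ (∀ x ∈ X, C.map x.toMonoidHom = C) ∧ B ⊓ C = ⊥ ∧ B ⊔ C = ⊤) ↔ (∀ B : Subgroup A, (∀ x ∈ X, B.map x.toMonoidHom = B) → ∃ i : ℕ, ∀ a : A, a ∈ B ↔ a ^ p ^ i = 1)) ∧ ((∀ B : Subgroup A, (∀ x ∈ X, B.map x.toMonoidHom = B) → ∃ i : ℕ, ∀ a : A, a ∈ B ↔ a ^ p ^ i = 1) ↔ (∀ B : Subgroup A, (∀ x ∈ X, B.map x.toMonoidHom = B) → (∀ b ∈ B, b ^ p = 1) → B = ⊥ ∨ ∀ a : A, a ∈ B ↔ a ^ p = 1)) := by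
  classical
  simp only [← invariant_iff]
  have h32 : (∀ B : Subgroup A, Invariant X B → (∀ b ∈ B, b ^ p = 1) →
      B = ⊥ ∨ ∀ a : A, a ∈ B ↔ a ^ p = 1) →
      ∀ B : Subgroup A, Invariant X B → ∃ i : ℕ, ∀ a : A, a ∈ B ↔ a ^ p ^ i = 1 :=
    fun h B hB => iii_ii hA h hB
  refine ⟨⟨fun h => h32 fun B hB hBp => i_iii hA hX (fun B C hB hC h1 h2 => ?_) hB hBp, ?_⟩,
    ⟨fun h B hB hBp => ?_, h32⟩⟩
  · by_contra hne
    rw [not_or] at hne
    exact h ⟨B, C, hne.1, hne.2, hB, hC, h1, h2⟩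
  · rintro h ⟨B, C, hBne, hCne, hB, hC, hinf, -⟩
    obtain ⟨i, hi⟩ := h B hB
    obtain ⟨j, hj⟩ := h C hC
    rcases le_total i j with hij | hij
    · refine hBne (eq_bot_iff.mpr fun b hb => hinf ▸ ⟨hb, (hj b).mpr ?_⟩)
      obtain ⟨d, rfl⟩ := Nat.exists_eq_add_of_le hij
      rw [pow_add, pow_mul, (hi b).mp hb, one_pow]
    · refine hCne (eq_bot_iff.mpr fun b hb => hinf ▸ ⟨(hi b).mpr ?_, hb⟩)
      obtain ⟨d, rfl⟩ := Nat.exists_eq_add_of_le hij
      rw [pow_add, pow_mul, (hj b).mp hb, one_pow]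
  · obtain ⟨i, hi⟩ := h B hB
    rcases i with _ | i
    · exact Or.inl ((Subgroup.eq_bot_iff_forall B).mpr fun b hb => by simpa using (hi b).mp hb)
    · refine Or.inr fun a => ⟨hBp a, fun ha => (hi a).mpr ?_⟩
      rw [pow_succ', pow_mul, ha, one_pow]

end Cfsg.Agent.S3775
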