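import Cfsg.Statements.S3780

set_option autoImplicit false
open Cfsg

namespace Cfsg.Agent.S3780

/-- Let V be a finite abelian p-group and α an automorphism of V of order p whose fixed-point subgroup has order p^n. Then V can be generated by pn elements: some subset of V with at most pn elements generates V. -/
theorem result {V : Type*} [CommGroup V] [Finite V] {p : ℕ} [Fact p.Prime] (hV : IsPGroup p V) (α : MulAut V) (hα : orderOf α = p) (n : ℕ) (hfix : Nat.card {v : V // α v = v} = p ^ n) : ∃ S : Finset V, S.card ≤ p * n ∧ Subgroup.closure (S : Set V) = ⊤ := by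
  have hp := (Fact.out : p.Prime)
  -- additive language
  let A : AddMonoid.End (Additive V) := MonoidHom.toAdditive α.toMonoidHom
  set σ : AddMonoid.End (Additive V) := A - 1 with hσ
  have hApow : ∀ (k : ℕ) (v : V), (A ^ k) (Additive.ofMul v) = Additive.ofMul ((α ^ k) v) := by
    intro k
    induction k with
    | zero => intro v; simp
    | succ k ih =>
      intro v
      rw [pow_succ, pow_succ]
      show (A ^ k) (A (Additive.ofMul v)) = _
      exact ih (α v)
  have hA1 : A ^ p = 1 := by
    refine AddMonoidHom.ext fun v => ?_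
    obtain ⟨v, rfl⟩ := Additive.ofMul.surjective v
    show (A ^ p) (Additive.ofMul v) = Additive.ofMul v
    rw [hApow, ← hα, pow_orderOf_eq_one]
    rfl
  have hσp : ∀ v : Additive V, p • v = 0 → (σ ^ p) v = 0 := by
    intro v hv
    obtain ⟨r, hr⟩ := (Commute.one_right σ).exists_add_pow_prime_eq hp
    rw [show σ + 1 = A by rw [hσ, sub_add_cancel], hA1, one_pow] at hr
    have h2 : σ ^ p = -((p : AddMonoid.End (Additive V)) * σ * 1 * r) := by
      have h3 : σ ^ p + (p : AddMonoid.End (Additive V)) * σ * 1 * r = 0 := by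
        apply add_right_cancel (b := (1 : AddMonoid.End (Additive V)))
        rw [zero_add]
        conv_rhs => rw [hr]
        abel
      exact eq_neg_of_add_eq_zero_left h3
    rw [h2]
    show -((p : AddMonoid.End (Additive V)) (σ ((1 : AddMonoid.End (Additive V)) (r v)))) = 0
    rw [AddMonoid.End.natCast_apply, neg_eq_zero]
    show p • σ (r v) = 0
    rw [← map_nsmul, ← map_nsmul, hv, map_zero, map_zero]
  -- the kernels of the powers of `σ` on the elements killed by `p`
  set W : AddSubgroup (Additive V) := (nsmulAddMonoidHom p : Additive V →+ Additive V).ker with hW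
  set K : ℕ → AddSubgroup (Additive V) := fun i => W ⊓ AddMonoidHom.ker (σ ^ i : AddMonoid.End (Additive V))
    with hK
  have hK1 : Nat.card (K 1) ≤ p ^ n := by
    rw [← hfix]
    refine Nat.card_le_card_of_injective (fun v => ⟨Additive.toMul (v : Additive V), ?_⟩) ?_
    · have h : σ (v : Additive V) = 0 := by
        have := v.2.2
        rw [pow_one] at this
        exact this
      have h2 : A (v : Additive V) - (v : Additive V) = 0 := h
      exact congrArg Additive.toMul (sub_eq_zero.mp h2)
    · intro a b h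
      have h' := congrArg Subtype.val h
      exact Subtype.ext (Additive.toMul.injective h')
  have hKstep : ∀ i, Nat.card (K (i + 1)) ≤ Nat.card (K i) * p ^ n := by
    intro i
    set f : K (i + 1) →+ Additive V := (σ ^ i : AddMonoid.End (Additive V)).comp (K (i + 1)).subtype with hf
    rw [← AddSubgroup.card_mul_index f.ker, AddSubgroup.index_ker]
    refine Nat.mul_le_mul (Nat.card_le_card_of_injective (fun v => ⟨((v : K (i + 1)) : Additive V),
      (v : K (i + 1)).2.1, v.2⟩) ?_) ?_
    · intro a b h
      exact Subtype.ext (Subtype.ext (congrArg (fun z => z.1) h))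
    · refine le_trans (AddSubgroup.card_le_of_le ?_) hK1
      rintro _ ⟨v, rfl⟩
      refine ⟨?_, ?_⟩
      · show p • (σ ^ i) (v : Additive V) = 0
        rw [← map_nsmul, show p • (v : Additive V) = 0 from v.2.1, map_zero]
      · show (σ ^ 1) ((σ ^ i) (v : Additive V)) = 0
        have h4 : (σ ^ (1 + i)) (v : Additive V) = 0 := by rw [add_comm 1 i]; exact v.2.2
        rw [pow_add] at h4
        exact h4
  have hKle : ∀ i, Nat.card (K i) ≤ p ^ (n * i) := by
    intro i
    induction i with
    | zero =>
      rw [mul_zero, pow_zero]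
      have : K 0 = ⊥ := by
        rw [eq_bot_iff]
        intro v hv
        exact hv.2
      rw [this, AddSubgroup.card_bot]
    | succ i ih =>
      rw [mul_add, mul_one, pow_add]
      exact (hKstep i).trans (Nat.mul_le_mul_right _ ih)
  have hWle : Nat.card W ≤ p ^ (n * p) :=
    (AddSubgroup.card_le_of_le (le_inf le_rfl fun v hv => hσp v hv)).trans (hKle p)
  -- `V / V ^ p` has at most `p ^ (p n)` elements
  set P : Subgroup V := (powMonoidHom p : V →* V).range with hP
  have hPcard : Nat.card V ≤ p ^ (p * n) * Nat.card P := by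
    rw [← Subgroup.card_mul_index (powMonoidHom p : V →* V).ker, Subgroup.index_ker, mul_comm p n]
    refine Nat.mul_le_mul_right _ (le_of_eq_of_le ?_ hWle)
    exact Nat.card_congr (Additive.ofMul.subtypeEquiv fun v => by
      rw [MonoidHom.mem_ker, hW, AddMonoidHom.mem_ker]
      rfl)
  classical
  have hgreedy : ∀ k : ℕ, ∃ S : Finset V, S.card ≤ k ∧
      (Subgroup.closure (S : Set V) ⊔ P = ⊤ ∨ p ^ k * Nat.card P ≤ Nat.card ↥(Subgroup.closure (S : Set V) ⊔ P)) := by
    intro k
    induction k with
    | zero => exact ⟨∅, le_rfl, Or.inr (by simp)⟩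
    | succ k ih =>
      obtain ⟨S, hS, h⟩ := ih
      by_cases htop : Subgroup.closure (S : Set V) ⊔ P = ⊤
      · exact ⟨S, hS.trans k.le_succ, Or.inl htop⟩
      obtain ⟨x, -, hx⟩ := SetLike.exists_of_lt (lt_top_iff_ne_top.mpr htop)
      refine ⟨insert x S, (Finset.card_insert_le _ _).trans (Nat.succ_le_succ hS), Or.inr ?_⟩
      set H₀ := Subgroup.closure (S : Set V) ⊔ P with hH₀
      set H₁ := Subgroup.closure ((insert x S : Finset V) : Set V) ⊔ P with hH₁
      have hle : H₀ ≤ H₁ := sup_le_sup_right (Subgroup.closure_mono (by simp)) P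
      have hne : H₀ ≠ H₁ := fun he => hx (he ▸ Subgroup.mem_sup_left (Subgroup.subset_closure (by simp)))
      obtain ⟨a, ha⟩ := IsPGroup.iff_card.mp (hV.to_subgroup H₀)
      obtain ⟨b, hb⟩ := IsPGroup.iff_card.mp (hV.to_subgroup H₁)
      have hab : a < b := by
        by_contra hba
        refine hne (Subgroup.eq_of_le_of_card_ge hle ?_)
        rw [ha, hb]
        exact Nat.pow_le_pow_right hp.pos (not_lt.mp hba)
      have h' := h.resolve_left htop
      rw [ha] at h'
      rw [hb, pow_succ, mul_right_comm]
      calc p ^ k * Nat.card P * p ≤ p ^ a * p := Nat.mul_le_mul_right _ h'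
        _ = p ^ (a + 1) := (pow_succ p a).symm
        _ ≤ p ^ b := Nat.pow_le_pow_right hp.pos hab
  obtain ⟨S, hS, h⟩ := hgreedy (p * n)
  refine ⟨S, hS, ?_⟩
  have htop : Subgroup.closure (S : Set V) ⊔ P = ⊤ :=
    h.elim id fun h => Subgroup.eq_top_of_le_card _ (hPcard.trans h)
  obtain ⟨m, hm⟩ := IsPGroup.iff_card.mp hV
  have key : ∀ k, ∀ v : V, ∃ s ∈ Subgroup.closure (S : Set V), ∃ u : V, v = s * u ^ p ^ k := by
    intro k
    induction k with
    | zero => exact fun v => ⟨1, one_mem _, v, by simp⟩
    | succ k ih =>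
      intro v
      obtain ⟨s, hs, u, hu⟩ := ih v
      obtain ⟨s', hs', _, ⟨w, rfl⟩, hw⟩ := Subgroup.mem_sup.mp (htop.ge (Subgroup.mem_top u))
      refine ⟨s * s' ^ p ^ k, mul_mem hs (pow_mem hs' _), w, ?_⟩
      rw [hu, ← hw, powMonoidHom_apply, mul_pow, ← pow_mul, ← pow_succ', mul_assoc]
  rw [eq_top_iff]
  intro v _
  obtain ⟨s, hs, u, rfl⟩ := key m v
  rwa [← hm, pow_card_eq_one', mul_one]

end Cfsg.Agent.S3780
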