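import Cfsg.Statements.S3781

set_option autoImplicit false
open Cfsg

namespace Cfsg.Agent.S3781

/-- iterated commutator with the whole group -/
def iterComm {G : Type*} [Group G] (H : Subgroup G) : ℕ → Subgroup G
  | 0 => H
  | k + 1 => ⁅iterComm H k, (⊤ : Subgroup G)⁆

theorem normal_lcs {G : Type*} [Group G] (N : Subgroup G) [N.Normal] :
    ∀ k, (N.lowerCentralSeries k).Normal
  | 0 => by rw [Subgroup.lowerCentralSeries_zero]; infer_instance
  | k + 1 => by
      have := normal_lcs N k
      rw [Subgroup.lowerCentralSeries_succ]; infer_instance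

theorem iterComm_normal {G : Type*} [Group G] (H : Subgroup G) [H.Normal] :
    ∀ k, (iterComm H k).Normal
  | 0 => inferInstanceAs H.Normal
  | k + 1 => by
      have := iterComm_normal H k
      exact Subgroup.commutator_normal _ _

theorem iterComm_mono {G : Type*} [Group G] {H K : Subgroup G} (h : H ≤ K) :
    ∀ k, iterComm H k ≤ iterComm K k
  | 0 => h
  | k + 1 => Subgroup.commutator_mono (iterComm_mono h k) le_rfl

theorem iterComm_add {G : Type*} [Group G] (H : Subgroup G) (a : ℕ) :
    ∀ b, iterComm (iterComm H a) b = iterComm H (a + b)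
  | 0 => rfl
  | b + 1 => by
      show ⁅iterComm (iterComm H a) b, _⁆ = _
      rw [iterComm_add H a b]; rfl

theorem iterComm_le_self {G : Type*} [Group G] (k : ℕ) (H : Subgroup G) [H.Normal] :
    iterComm H k ≤ H := by
  induction k with
  | zero => exact le_rfl
  | succ k ih => exact (Subgroup.commutator_mono ih le_rfl).trans (Subgroup.commutator_le_left _ _)

/-- three subgroups lemma, normal form -/
theorem three {G : Type*} [Group G] (A B C N : Subgroup G) [N.Normal]
    (h1 : ⁅⁅B, C⁆, A⁆ ≤ N) (h2 : ⁅⁅C, A⁆, B⁆ ≤ N) : ⁅⁅A, B⁆, C⁆ ≤ N := by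
  let f := QuotientGroup.mk' N
  have key : ∀ X : Subgroup G, X.map f = ⊥ ↔ X ≤ N := fun X => by
    rw [Subgroup.map_eq_bot_iff, QuotientGroup.ker_mk']
  have h1' := (key _).mpr h1
  have h2' := (key _).mpr h2
  rw [← key]
  simp only [Subgroup.map_commutator] at h1' h2' ⊢
  exact Subgroup.commutator_commutator_eq_bot_of_rotate h1' h2'

theorem comm_lcs_le {G : Type*} [Group G] :
    ∀ (k : ℕ) (H : Subgroup G) [H.Normal],
      ⁅H, (⊤ : Subgroup G).lowerCentralSeries k⁆ ≤ iterComm H (k + 1) := by
  intro k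
  induction k with
  | zero => intro H _; exact le_of_eq rfl
  | succ k ih =>
    intro H _
    have hn := iterComm_normal H (k + 1 + 1)
    rw [Subgroup.lowerCentralSeries_succ, Subgroup.commutator_comm]
    refine three _ _ _ _ ?_ ?_
    · rw [Subgroup.commutator_comm ⊤ H]
      refine (ih ⁅H, (⊤ : Subgroup G)⁆).trans (le_of_eq ?_)
      rw [show ⁅H, (⊤ : Subgroup G)⁆ = iterComm H 1 from rfl, iterComm_add]
      congr 1; omega
    · exact Subgroup.commutator_mono (ih H) le_rfl

theorem relIndex_eq_pow {G : Type*} [Group G] [Finite G] {p : ℕ} [Fact p.Prime] (hG : IsPGroup p G)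
    (K H : Subgroup G) : ∃ s, K.relIndex H = p ^ s := by
  obtain ⟨m, hm⟩ := IsPGroup.iff_card.mp (hG.to_subgroup H)
  have hd : K.relIndex H ∣ p ^ m := hm ▸ Subgroup.index_dvd_card _
  obtain ⟨s, _, hs⟩ := (Nat.dvd_prime_pow (Fact.out : p.Prime)).mp hd
  exact ⟨s, hs⟩

theorem eq_bot_of_le_comm {G : Type*} [Group G] [Group.IsNilpotent G] (K : Subgroup G)
    (h : K ≤ ⁅K, (⊤ : Subgroup G)⁆) : K = ⊥ := by
  have key : ∀ j, K ≤ (⊤ : Subgroup G).lowerCentralSeries j := by
    intro j
    induction j with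
    | zero => simp
    | succ j ih =>
      rw [Subgroup.lowerCentralSeries_succ]
      exact h.trans (Subgroup.commutator_mono ih le_rfl)
  obtain ⟨c, hc⟩ := Subgroup.nilpotent_iff_lowerCentralSeries.mp (inferInstance : Group.IsNilpotent G)
  exact le_bot_iff.mp (hc ▸ key c)

theorem iterComm_le {G : Type*} [Group G] [Finite G] {p : ℕ} [Fact p.Prime] (hG : IsPGroup p G) :
    ∀ (s : ℕ) (H K : Subgroup G) [H.Normal] [K.Normal],
      K ≤ H → K.relIndex H = p ^ s → iterComm H s ≤ K := by
  intro s
  induction s using Nat.strong_induction_on with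
  | _ s ih =>
    intro H K _ _ hKH hs
    rcases Nat.eq_zero_or_pos s with rfl | hspos
    · rw [pow_zero] at hs; exact Subgroup.relIndex_eq_one.mp hs
    obtain ⟨s, rfl⟩ := Nat.exists_eq_succ_of_ne_zero hspos.ne'
    have hnil : Group.IsNilpotent G := hG.isNilpotent
    set L := ⁅H, (⊤ : Subgroup G)⁆ ⊔ K with hL
    have hLn : L.Normal := by rw [hL]; infer_instance
    have hLH : L ≤ H := sup_le (Subgroup.commutator_le_left _ _) hKH
    have hne : L.relIndex H ≠ 1 := by
      intro h1
      have hHL : H ≤ L := Subgroup.relIndex_eq_one.mp h1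
      let f := QuotientGroup.mk' K
      have h2 : H.map f ≤ ⁅H.map f, (⊤ : Subgroup (G ⧸ K))⁆ := by
        refine (Subgroup.map_mono hHL).trans ?_
        rw [hL, Subgroup.map_sup, QuotientGroup.map_mk'_self, sup_bot_eq, Subgroup.map_commutator]
        exact Subgroup.commutator_mono le_rfl le_top
      have h3 := eq_bot_of_le_comm _ h2
      rw [Subgroup.map_eq_bot_iff, QuotientGroup.ker_mk'] at h3
      rw [Subgroup.relIndex_eq_one.mpr h3] at hs
      exact absurd hs.symm (by simp [(Fact.out : p.Prime).ne_one])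
    have hmul := Subgroup.relIndex_mul_relIndex K L H le_sup_right hLH
    obtain ⟨a, ha⟩ := relIndex_eq_pow hG K L
    obtain ⟨b, hb⟩ := relIndex_eq_pow hG L H
    rw [ha, hb, hs, ← pow_add] at hmul
    have hb0 : b ≠ 0 := fun h => hne (by simp [hb, h])
    have hab : a + b = s + 1 := Nat.pow_right_injective (Fact.out : p.Prime).two_le hmul
    have hrec : ∀ t, a ≤ t → iterComm L t ≤ K := by
      intro t hat
      induction t, hat using Nat.le_induction with
      | base => exact ih a (by omega) L K le_sup_right ha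
      | succ t _ iht =>
        exact (Subgroup.commutator_mono iht le_rfl).trans (Subgroup.commutator_le_left _ _)
    have : iterComm H (1 + s) ≤ K := by
      rw [← iterComm_add H 1 s]
      exact (iterComm_mono (le_sup_left : ⁅H, (⊤ : Subgroup G)⁆ ≤ L) s).trans (hrec s (by omega))
    rwa [Nat.add_comm] at this

/-- Let G be a finite p-group and n ≥ 1, and write γ_1(G) = G, γ_{k+1}(G) = [γ_k(G), G], and likewise γ_k(N) for a subgroup N. Let N be a normal subgroup of G contained in γ_n(G). If i > 1 and γ_{i+1}(N) ≠ 1, then |γ_i(N) : γ_{i+1}(N)| ≥ p^n. -/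
theorem result {G : Type*} [Group G] [Finite G] {p : ℕ} [Fact p.Prime] (hG : IsPGroup p G) (n : ℕ) (hn : 1 ≤ n) (N : Subgroup G) [N.Normal] (hN : N ≤ (⊤ : Subgroup G).lowerCentralSeries (n - 1)) (i : ℕ) (hi : 1 < i) (hne : N.lowerCentralSeries i ≠ ⊥) : p ^ n ≤ (N.lowerCentralSeries i).relIndex (N.lowerCentralSeries (i - 1)) := by
  set H := N.lowerCentralSeries (i - 1) with hH
  set K := N.lowerCentralSeries i with hK
  have : H.Normal := normal_lcs N _
  have : K.Normal := normal_lcs N _
  by_contra hlt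
  have hKH : K ≤ H := N.lowerCentralSeries_antitone (Nat.sub_le i 1)
  have hsucc : K = ⁅H, N⁆ := by
    rw [hK, hH, ← Subgroup.lowerCentralSeries_succ, Nat.sub_add_cancel (by omega : 1 ≤ i)]
  obtain ⟨s, hs⟩ := relIndex_eq_pow hG K H
  have hsn : s < n := by
    by_contra h
    exact hlt (hs ▸ Nat.pow_le_pow_right (Fact.out : p.Prime).pos (by omega))
  have h1 : iterComm H s ≤ K := iterComm_le hG s H K hKH hs
  have h2 : K ≤ iterComm H n := by
    calc K = ⁅H, N⁆ := hsucc
      _ ≤ ⁅H, (⊤ : Subgroup G).lowerCentralSeries (n - 1)⁆ := Subgroup.commutator_mono le_rfl hN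
      _ ≤ iterComm H n := (comm_lcs_le (n - 1) H).trans (le_of_eq (by rw [Nat.sub_add_cancel hn]))
  have h3 : K ≤ ⁅K, (⊤ : Subgroup G)⁆ := by
    refine h2.trans ?_
    have h := iterComm_mono h1 (n - s)
    rw [iterComm_add, Nat.add_sub_cancel' hsn.le] at h
    refine h.trans ?_
    obtain ⟨m, hm⟩ : ∃ m, n - s = m + 1 := ⟨n - s - 1, by omega⟩
    rw [hm]
    exact Subgroup.commutator_mono (iterComm_le_self m K) le_rfl
  have hnil : Group.IsNilpotent G := hG.isNilpotent
  exact hne (eq_bot_of_le_comm K h3)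

end Cfsg.Agent.S3781
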