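import Cfsg.Statements.S3784

import Mathlib

set_option autoImplicit false
open Cfsg

namespace Cfsg.Agent.S3784

theorem sq_dvd_pow_sub (x : ℤ) (n : ℕ) : x ^ 2 ∣ (x + 1) ^ n - 1 - n * x := by
  induction n with
  | zero => simp
  | succ n ih =>
    obtain ⟨c, hc⟩ := ih
    refine ⟨(x + 1) * c + n, ?_⟩
    push_cast
    linear_combination (x + 1) * hc

theorem two_pow_not_dvd_odd {c b : ℕ} (hc : 1 ≤ c) (hb : Odd b) : ¬ (2 : ℤ) ^ c ∣ (b : ℤ) := by
  intro h
  have h2 : (2 : ℤ) ∣ (b : ℤ) := (dvd_pow_self 2 (by omega)).trans h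
  exact (Nat.not_even_iff_odd.2 hb) (even_iff_two_dvd.2 (by exact_mod_cast h2))


/-- Let p, q be primes and a, b positive integers with p^a = q^b + 1. Then either p = 2, b = 1, a is prime and q = 2^a − 1; or q = 2, a = 1, b is a power of 2 and p = 2^b + 1; or p^a = 9 and q^b = 8. -/
theorem result (p q a b : ℕ) (hp : p.Prime) (hq : q.Prime) (ha : 1 ≤ a) (hb : 1 ≤ b) (h : p ^ a = q ^ b + 1) : (p = 2 ∧ b = 1 ∧ a.Prime ∧ q + 1 = 2 ^ a) ∨ (q = 2 ∧ a = 1 ∧ (∃ m : ℕ, b = 2 ^ m) ∧ p = 2 ^ b + 1) ∨ (p ^ a = 9 ∧ q ^ b = 8) := by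
  have hq2 := hq.two_le
  have hp2 := hp.two_le
  rcases eq_or_ne p 2 with rfl | hp'
  · -- `2 ^ a = q ^ b + 1`
    left
    have hqo : Odd q := by
      rcases hq.eq_two_or_odd' with rfl | h'
      · exfalso
        have e1 : Even (2 ^ a) := Nat.even_pow.2 ⟨even_two, by omega⟩
        have e2 : Odd (2 ^ b + 1) := Even.add_one (Nat.even_pow.2 ⟨even_two, by omega⟩)
        rw [h] at e1
        exact Nat.not_even_iff_odd.2 e2 e1
      · exact h'
    have hq3 : 3 ≤ q := by
      rcases hqo with ⟨k, rfl⟩
      omega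
    have hqb : q ≤ q ^ b := Nat.le_self_pow (by omega) q
    have hbo : Odd b := by
      rcases Nat.even_or_odd b with ⟨k, rfl⟩ | hb'
      · exfalso
        have ha2 : 2 ≤ a := by
          rcases Nat.lt_or_ge a 2 with ha' | ha'
          · interval_cases a
            omega
          · exact ha'
        have h4 : 4 ∣ q ^ (k + k) + 1 := h ▸ (pow_dvd_pow 2 ha2)
        obtain ⟨m, hm⟩ := hqo.pow (n := k)
        rw [pow_add, hm] at h4
        have : (2 * m + 1) * (2 * m + 1) + 1 = 4 * (m * m + m) + 2 := by ring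
        omega
      · exact hb'
    obtain ⟨c, -, hc⟩ := (Nat.dvd_prime_pow Nat.prime_two).1
      (show q + 1 ∣ 2 ^ a by
        rw [h]
        have := hbo.nat_add_dvd_pow_add_pow q 1
        simpa using this)
    have hc2 : 2 ≤ c := by
      by_contra hc'
      interval_cases c <;> omega
    have hac : a < 2 * c := by
      by_contra hac
      have hd : (2 : ℤ) ^ (2 * c) ∣ (q : ℤ) ^ b + 1 := by
        have := pow_dvd_pow 2 (Nat.le_of_not_lt hac)
        rw [h] at this
        exact_mod_cast this
      have hx : (q : ℤ) = -(-(2 : ℤ) ^ c + 1) := by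
        have : ((q : ℤ) + 1) = (2 : ℤ) ^ c := by exact_mod_cast hc
        linarith
      have hs := sq_dvd_pow_sub (-(2 : ℤ) ^ c) b
      rw [neg_sq, ← pow_mul, mul_comm c 2] at hs
      rw [hx, hbo.neg_pow] at hd
      have hsum := dvd_add hd hs
      have hb' : (2 : ℤ) ^ (2 * c) ∣ (b : ℤ) * 2 ^ c := by
        obtain ⟨z, hz⟩ := hsum
        exact ⟨z, by linear_combination hz⟩
      rw [two_mul, pow_add] at hb'
      exact two_pow_not_dvd_odd (by omega) hbo
        ((mul_dvd_mul_iff_right (pow_ne_zero c (two_ne_zero : (2 : ℤ) ≠ 0))).1 hb')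
    have hlt : q ^ b + 1 < (q + 1) ^ 2 := by
      rw [hc, ← pow_mul, ← h]
      exact Nat.pow_lt_pow_right one_lt_two (by omega)
    have hb1 : b = 1 := by
      by_contra hb'
      have hb3 : 3 ≤ b := by
        rcases hbo with ⟨k, rfl⟩
        omega
      have h3 : q ^ 3 ≤ q ^ b := Nat.pow_le_pow_right (by omega) hb3
      nlinarith
    subst hb1
    rw [pow_one] at h
    refine ⟨rfl, rfl, ?_, h.symm⟩
    have hqp : (2 ^ a - 1).Prime := by rw [h]; simpa using hq
    exact (Nat.prime_of_pow_sub_one_prime (by rintro rfl; omega) hqp).2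
  · -- `q = 2`
    have hpo : Odd p := hp.odd_of_ne_two hp'
    have hq' : q = 2 := by
      rcases hq.eq_two_or_odd' with rfl | h'
      · rfl
      · exfalso
        have e1 : Odd (p ^ a) := hpo.pow
        have e2 : Even (q ^ b + 1) := (h'.pow).add_one
        rw [← h] at e2
        exact Nat.not_even_iff_odd.2 e1 e2
    subst hq'
    right
    rcases eq_or_ne a 1 with rfl | ha'
    · left
      rw [pow_one] at h
      exact ⟨rfl, rfl, Nat.pow_of_pow_add_prime one_lt_two (by omega) (h ▸ hp), h⟩
    · right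
      rcases Nat.even_or_odd a with ⟨k, rfl⟩ | hao
      · have hk : 1 ≤ k := by omega
        rw [pow_add] at h
        set x := p ^ k with hx
        have hx3 : 3 ≤ x := le_trans (by omega) (Nat.le_self_pow (by omega) p)
        have h1 : (x - 1) * (x + 1) = 2 ^ b := by
          zify [show 1 ≤ x by omega]
          have h' : (x : ℤ) * x = 2 ^ b + 1 := by exact_mod_cast h
          linear_combination h'
        obtain ⟨i, -, hi⟩ := (Nat.dvd_prime_pow Nat.prime_two).1 (Dvd.intro _ h1)
        obtain ⟨j, -, hj⟩ := (Nat.dvd_prime_pow Nat.prime_two).1 (Dvd.intro_left _ h1)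
        have hi1 : i = 1 := by
          by_contra hi'
          have hi2 : 2 ≤ i := by
            rcases Nat.eq_zero_or_pos i with rfl | hpos
            · simp at hi; omega
            · omega
          have hj2 : 2 ≤ j := by
            by_contra hj'
            interval_cases j <;> simp at hj <;> omega
          have d1 : 4 ∣ 2 ^ i := pow_dvd_pow 2 hi2
          have d2 : 4 ∣ 2 ^ j := pow_dvd_pow 2 hj2
          omega
        subst hi1
        have hx' : x = 3 := by omega
        rw [hx'] at h
        refine ⟨?_, by omega⟩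
        rw [pow_add, ← hx, hx']
        norm_num
      · exfalso
        obtain ⟨c, hcb, hc⟩ := (Nat.dvd_prime_pow Nat.prime_two).1
          (show p - 1 ∣ 2 ^ b by
            have := Nat.sub_dvd_pow_sub_pow p 1 a
            rw [one_pow, h, Nat.add_sub_cancel] at this
            exact this)
        have hc1 : 1 ≤ c := by
          rcases Nat.eq_zero_or_pos c with rfl | hpos
          · simp at hc; omega
          · exact hpos
        have hb2 : b < 2 * c := by
          by_contra hb2
          have hd : (2 : ℤ) ^ (2 * c) ∣ (p : ℤ) ^ a - 1 := by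
            have h' : (p : ℤ) ^ a - 1 = 2 ^ b := by
              have : ((p : ℤ)) ^ a = 2 ^ b + 1 := by exact_mod_cast h
              linarith
            rw [h']
            exact pow_dvd_pow 2 (Nat.le_of_not_lt hb2)
          have hx : (p : ℤ) = 2 ^ c + 1 := by
            have : p = 2 ^ c + 1 := by omega
            exact_mod_cast this
          have hs := sq_dvd_pow_sub ((2 : ℤ) ^ c) a
          rw [← pow_mul, mul_comm c 2] at hs
          rw [hx] at hd
          have hsum := dvd_sub hd hs
          have ha2 : (2 : ℤ) ^ (2 * c) ∣ (a : ℤ) * 2 ^ c := by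
            obtain ⟨z, hz⟩ := hsum
            exact ⟨z, by linear_combination hz⟩
          rw [two_mul, pow_add] at ha2
          exact two_pow_not_dvd_odd hc1 hao
            ((mul_dvd_mul_iff_right (pow_ne_zero c (two_ne_zero : (2 : ℤ) ≠ 0))).1 ha2)
        have hlt : 2 ^ b < (p - 1) ^ 2 := by
          rw [hc, ← pow_mul]
          exact Nat.pow_lt_pow_right one_lt_two (by omega)
        have h2 : p ^ 2 ≤ p ^ a := Nat.pow_le_pow_right (by omega) (by omega)
        have h3 : (p - 1) ^ 2 < p ^ 2 := Nat.pow_lt_pow_left (by omega) (by omega)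
        omega

end Cfsg.Agent.S3784
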