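import Cfsg.Statements.S3785

import Mathlib
import Cfsg.Agent.Solvable.Fitting
import Cfsg.Agent.OddOrder.BG1Stab

set_option autoImplicit false
open Cfsg

namespace Cfsg.Agent.S3785

open CfsgLib

/-- In a finite group an `r`-element of `F(G)` lies in `O_r(G)`. -/
theorem mem_pCore_of_mem_fitting {G : Type*} [Group G] [Finite G] {r : ℕ} [Fact r.Prime] {y : G}
    (hy : y ∈ Cfsg.fittingSubgroup G) {k : ℕ} (hk : y ^ r ^ k = 1) : y ∈ Cfsg.pCore r G := by
  have := Solvable.fittingSubgroup_normal (G := G)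
  have := Solvable.fittingSubgroup_isNilpotent (G := G)
  obtain ⟨P⟩ : Nonempty (Sylow r (Cfsg.fittingSubgroup G)) := inferInstance
  have hPn : (P : Subgroup (Cfsg.fittingSubgroup G)).Normal := inferInstance
  have := Sylow.unique_of_normal P hPn
  have hchar : (P : Subgroup (Cfsg.fittingSubgroup G)).Characteristic :=
    P.characteristic_of_normal hPn
  have hzp : IsPGroup r (Subgroup.zpowers (⟨y, hy⟩ : Cfsg.fittingSubgroup G)) := by
    intro z
    obtain ⟨j, hj⟩ := Subgroup.mem_zpowers_iff.1 z.2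
    refine ⟨k, Subtype.ext ?_⟩
    have hk' : (⟨y, hy⟩ : Cfsg.fittingSubgroup G) ^ r ^ k = 1 := Subtype.ext (by simpa using hk)
    rw [SubgroupClass.coe_pow, OneMemClass.coe_one]
    rw [← hj, ← zpow_natCast, ← zpow_mul, mul_comm, zpow_mul, zpow_natCast, hk', one_zpow]
  obtain ⟨P', hP'⟩ := hzp.exists_le_sylow
  rw [Subsingleton.elim P' P] at hP'
  exact Solvable.le_pCore (P.isPGroup'.map (Cfsg.fittingSubgroup G).subtype)
    ⟨_, hP' (Subgroup.mem_zpowers _), rfl⟩


/-- Let G be a finite solvable group whose Fitting subgroup F(G) has odd order. If an element g of G commutes with every element of prime order of F(G), then g ∈ F(G). -/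
theorem result {G : Type*} [Group G] [Finite G] (hG : Group.IsSolvable G) (hodd : Odd (Nat.card (Cfsg.fittingSubgroup G))) (g : G) (hg : ∀ x ∈ Cfsg.fittingSubgroup G, (orderOf x).Prime → g * x = x * g) : g ∈ Cfsg.fittingSubgroup G := by
  classical
  haveI := hG
  set F := Cfsg.fittingSubgroup G with hFdef
  have hFn : F.Normal := Solvable.fittingSubgroup_normal
  -- the normal subgroup centralizing all elements of prime order of `F`
  let K : Subgroup G := Subgroup.centralizer {x : G | x ∈ F ∧ (orderOf x).Prime}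
  have hgK : g ∈ K := fun x hx => (hg x hx.1 hx.2).symm
  have hKn : K.Normal := ⟨fun k hk h => by
    intro x hx
    have hx' : h⁻¹ * x * h⁻¹⁻¹ ∈ {x : G | x ∈ F ∧ (orderOf x).Prime} := by
      refine ⟨hFn.conj_mem x hx.1 h⁻¹, ?_⟩
      rw [← MulAut.conj_apply, MulEquiv.orderOf_eq]
      exact hx.2
    have e := hk _ hx'
    rw [inv_inv] at e
    calc x * (h * k * h⁻¹) = h * ((h⁻¹ * x * h) * k) * h⁻¹ := by group
      _ = h * (k * (h⁻¹ * x * h)) * h⁻¹ := by rw [e]
      _ = h * k * h⁻¹ * x := by group⟩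
  have hcent : ∀ r : ℕ, r.Prime → ∀ x ∈ K, (orderOf x).Coprime r →
      ∀ y ∈ Cfsg.pCore r G, Commute x y := by
    intro r hr x hx hcop
    have := Fact.mk hr
    rcases eq_or_ne r 2 with rfl | hr2
    · intro y hy
      have hyF : y ∈ F := Solvable.pCore_le_fittingSubgroup 2 hy
      obtain ⟨k, hk⟩ := Solvable.isPGroup_pCore (G := G) 2 ⟨y, hy⟩
      have hd : orderOf y ∣ 2 ^ k := orderOf_dvd_of_pow_eq_one (congrArg Subtype.val hk)
      have hodd' : (orderOf y).Coprime (2 ^ k) :=
        Nat.Coprime.pow_right k ((Nat.coprime_two_right).2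
          (hodd.of_dvd_nat (F.orderOf_dvd_natCard hyF)))
      rw [orderOf_eq_one_iff.1 (Nat.eq_one_of_dvd_coprimes hodd' dvd_rfl hd)]
      exact Commute.one_right x
    · refine OddOrder.Stab.commute_of_fix_prime_order hr2 (Solvable.isPGroup_pCore r) hcop ?_ ?_
      · rw [Subgroup.normalizer_eq_top_iff.2 (Solvable.pCore_normal r)]
        exact Subgroup.mem_top x
      · intro y hy hyr
        by_cases hy1 : y = 1
        · subst hy1; exact Commute.one_right x
        exact (hx y ⟨Solvable.pCore_le_fittingSubgroup r hy, by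
          rw [orderOf_eq_prime hyr hy1]; exact hr⟩).symm
  -- every Sylow subgroup of `K` lies in `F`
  suffices hK : K ≤ F from hK hgK
  have htop := Solvable.iSup_sylow_eq_top (G := K) (fun p => Classical.arbitrary (Sylow (p : ℕ) K))
  have hmap := congrArg (Subgroup.map K.subtype) htop
  rw [Subgroup.map_iSup, ← MonoidHom.range_eq_map, Subgroup.range_subtype] at hmap
  rw [← hmap]
  refine iSup_le fun q => ?_
  have hq : Fact (q : ℕ).Prime := ⟨Nat.prime_of_mem_primeFactors q.2⟩
  generalize (Classical.arbitrary (Sylow (q : ℕ) K)) = Q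
  rintro _ ⟨x, hxQ, rfl⟩
  -- `L` centralizes `O_r(G)` for all `r ≠ q`
  let L : Subgroup G := K ⊓ ⨅ r : {r : Nat.Primes // (r : ℕ) ≠ q},
    Subgroup.centralizer (Cfsg.pCore ((r : Nat.Primes) : ℕ) G : Set G)
  have hxL : (x : G) ∈ L := by
    refine Subgroup.mem_inf.2 ⟨x.2, Subgroup.mem_iInf.2 fun r y hy => ?_⟩
    obtain ⟨k, hk⟩ := Q.2 ⟨x, hxQ⟩
    have hd : orderOf (x : G) ∣ (q : ℕ) ^ k :=
      orderOf_dvd_of_pow_eq_one (congrArg (fun z : Q => ((z : K) : G)) hk)
    exact (hcent _ r.1.2 x x.2 (Nat.Coprime.coprime_dvd_left hd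
      (Nat.Coprime.pow_left k ((Nat.coprime_primes hq.out r.1.2).2 (Ne.symm r.2)))) y hy).eq.symm
  have hLn : L.Normal := by
    have : (⨅ r : {r : Nat.Primes // (r : ℕ) ≠ q},
        Subgroup.centralizer (Cfsg.pCore ((r : Nat.Primes) : ℕ) G : Set G)).Normal :=
      Subgroup.normal_iInf_normal fun r =>
        have := Solvable.pCore_normal (G := G) ((r : Nat.Primes) : ℕ)
        inferInstance
    infer_instance
  have hcentral : ∀ r : ℕ, r.Prime → r ≠ q → ∀ z ∈ L, ∀ k : ℕ, z ^ r ^ k = 1 →
      ∀ w ∈ L, w * z = z * w := by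
    intro r hr hrq z hz k hk w hw
    have := Fact.mk hr
    have hzF : z ∈ F := by
      refine Solvable.centralizer_fittingSubgroup_le ?_
      rw [← Subgroup.zpowers_le, Subgroup.le_centralizer_iff, Solvable.fittingSubgroup_eq_iSup]
      refine iSup_le fun s => ?_
      rw [Subgroup.le_centralizer_iff, Subgroup.zpowers_le]
      intro y hy
      by_cases hs : (s : ℕ) = q
      · refine (hcent _ s.2 z hz.1 ?_ y hy).eq.symm
        exact Nat.Coprime.coprime_dvd_left (orderOf_dvd_of_pow_eq_one hk)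
          (Nat.Coprime.pow_left k ((Nat.coprime_primes hr s.2).2 (hs ▸ hrq)))
      · exact Subgroup.mem_iInf.1 hz.2 ⟨s, hs⟩ y hy
    have hzr := mem_pCore_of_mem_fitting hzF hk
    exact ((Subgroup.mem_iInf.1 hw.2 ⟨⟨r, hr⟩, hrq⟩) z hzr).symm
  have hLnil : Group.IsNilpotent L := by
    have hqg : IsPGroup q (L ⧸ Subgroup.center L) := by
      refine IsPGroup.of_card (n := (Nat.card (L ⧸ Subgroup.center L)).factorization q) ?_
      refine Nat.eq_pow_of_factorization_eq_single Nat.card_pos.ne' ?_
      ext r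
      by_cases hr : r = (q : ℕ)
      · subst hr; simp
      · rw [Finsupp.single_eq_of_ne hr]
        by_contra hne
        have hrm := Finsupp.mem_support_iff.2 hne
        have := Fact.mk (Nat.prime_of_mem_primeFactors hrm)
        obtain ⟨R⟩ : Nonempty (Sylow r L) := inferInstance
        have hRle : (R : Subgroup L) ≤ Subgroup.center L := by
          intro z hz
          obtain ⟨k, hk⟩ := R.2 ⟨z, hz⟩
          rw [Subgroup.mem_center_iff]
          intro w
          exact Subtype.ext (hcentral r (Nat.prime_of_mem_primeFactors hrm) hr z z.2 k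
            (congrArg (fun z : R => ((z : L) : G)) hk) w w.2)
        exact R.not_dvd_index ((Nat.dvd_of_mem_primeFactors hrm).trans
          (by rw [← Subgroup.index_eq_card]; exact Subgroup.index_dvd_of_le hRle))
    have := hqg.isNilpotent
    exact Subgroup.isNilpotent_of_ker_le_center (QuotientGroup.mk' (Subgroup.center L))
      (by rw [QuotientGroup.ker_mk'])
  exact Solvable.le_fittingSubgroup hLnil hxL

end Cfsg.Agent.S3785
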