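import Cfsg.Statements.S3786

import Cfsg.Agent.HallHigman.LengthBound

set_option autoImplicit false
open Cfsg

namespace Cfsg.Agent.S3786


/-- The Hall–Higman bound on p-length. Let p be an odd prime and G a finite p-soluble group whose Sylow p-subgroups have exponent dividing p^e. (a) If p is not of the form 2^k + 1, or if the Sylow 2-subgroups of G are abelian, then G has p-length at most e. (b) In every case G has p-length at most 2e. -/
theorem result {G : Type*} [Group G] [Finite G] {p : ℕ} [Fact p.Prime] (hp : p ≠ 2) (hG : Cfsg.IsPSolvable p G) (e : ℕ) (hexp : ∀ (P : Sylow p G), ∀ x ∈ (P : Subgroup G), x ^ p ^ e = 1) : (((¬ ∃ k : ℕ, p = 2 ^ k + 1) ∨ ∀ S : Sylow 2 G, IsMulCommutative (S : Subgroup G)) → Cfsg.PLengthLE p e G) ∧ Cfsg.PLengthLE p (2 * e) G := by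
  have hpp : p.Prime := Fact.out
  have key : ((¬ ∃ k : ℕ, p = 2 ^ k + 1) ∨ ∀ S : Sylow 2 G, IsMulCommutative (S : Subgroup G)) →
      Cfsg.PLengthLE p e G := by
    intro h
    refine CfsgLib.HallHigman.pLengthLE_of_no_exception (Nat.card G) le_rfl hG e hexp
      fun n₀ q k h1 h2 h3 h4 Q => ?_
    obtain rfl := CfsgLib.HallHigman.exception_prime hpp hp h2 h1 h3 h4
    rcases h with h | h
    · exfalso
      apply h
      have h5 : p ^ n₀ = 2 ^ k + 1 := by
        have := pow_pos hpp.pos n₀
        omega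
      rcases CfsgLib.HallHigman.pow_eq_two_pow_add_one hpp (hpp.odd_of_ne_two hp) h1 h5 with
        rfl | ⟨rfl, -⟩
      · exact ⟨k, by simpa using h5⟩
      · exact ⟨1, rfl⟩
    · exact h Q
  refine ⟨key, ?_⟩
  by_cases hf : ∃ k : ℕ, p = 2 ^ k + 1
  · obtain ⟨k, hk⟩ := hf
    refine CfsgLib.HallHigman.pLengthLE_two_mul (k := k) ?_ hk (Nat.card G) le_rfl hG e hexp
    rcases Nat.eq_zero_or_pos k with rfl | h
    · exact absurd (by simpa using hk) hp
    · exact h
  · exact CfsgLib.PLength.pLengthLE_mono (by omega) (key (Or.inl hf))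

end Cfsg.Agent.S3786
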