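import Cfsg.Statements.S3787

import Cfsg.Agent.HallHigman.WreathSection
import Cfsg.Agent.HallHigman.FrattiniNorm
import Cfsg.Agent.HallHigman.LengthBound

set_option autoImplicit false
open Cfsg

namespace Cfsg.Agent.S3787

universe u v

set_option linter.style.haveILetI false

open scoped commutatorElement

theorem involves_wreath {p : ℕ} [Fact p.Prime] {Y : Type u} [Group Y] (C : Subgroup Y) {X : Type v}
    [Group X] (f : C →* X) (A : Subgroup X) [IsMulCommutative A] (hexp : ∀ x ∈ A, x ^ p = 1)
    (h : X) (hnorm : ∀ x ∈ A, h * x * h⁻¹ ∈ A) (hh : h ^ p = 1) {a : X} (ha : a ∈ A)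
    (hne : (a * h) ^ p ≠ 1) (haf : a ∈ f.range) (hhf : h ∈ f.range) :
    Cfsg.Involves (CfsgLib.HallHigman.WreathCp p) Y := by
  obtain ⟨e, he, her⟩ := CfsgLib.HallHigman.wreathCp_embed p A hexp h hnorm hh ha hne
  have hle : e.range ≤ f.range := her.trans ((Subgroup.closure_le _).2 (by
    rintro x (rfl | rfl) <;> assumption))
  let e' : CfsgLib.HallHigman.WreathCp p →* f.range := e.codRestrict _ fun w => hle ⟨w, rfl⟩
  have he' : Function.Injective e' := fun x y h => he (congrArg Subtype.val h)
  exact CfsgLib.ConjFunctor.involves_trans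
    (CfsgLib.ConjFunctor.involves_of_surjective_subgroup C f.rangeRestrict
      f.rangeRestrict_surjective)
    (CfsgLib.ConjFunctor.involves_of_surjective_subgroup e'.range
      (MonoidHom.ofInjective he').symm.toMonoidHom (MonoidHom.ofInjective he').symm.surjective)

theorem main {p : ℕ} [hp : Fact p.Prime] (hp2 : p ≠ 2) (hnf : ¬ ∃ k : ℕ, p = 2 ^ k + 1) :
    ∀ (b : ℕ) {G : Type u} [Group G] [Finite G], Nat.card G ≤ b → Cfsg.IsPSolvable p G →
    ∀ P : Sylow p G, ¬ Cfsg.Involves (CfsgLib.HallHigman.WreathCp p) (P : Subgroup G) →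
    Cfsg.PLengthLE p 1 G := by
  intro b
  induction b with
  | zero => intro G _ _ hc; exact absurd hc (Nat.not_le.2 Nat.card_pos)
  | succ b ih =>
    intro G _ _ hc hG P hP
    by_cases hO : Cfsg.pPrimeCore p G = ⊥
    swap
    · have hlt : Nat.card (G ⧸ Cfsg.pPrimeCore p G) ≤ b := by
        have h1 := Subgroup.card_eq_card_quotient_mul_card_subgroup (Cfsg.pPrimeCore p G)
        have h2 : 1 < Nat.card (Cfsg.pPrimeCore p G) := (Subgroup.one_lt_card_iff_ne_bot _).2 hO
        have h3 : 0 < Nat.card (G ⧸ Cfsg.pPrimeCore p G) := Nat.card_pos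
        nlinarith
      have h0 : Cfsg.PLengthLE p 0 (Cfsg.pPrimeCore p G) :=
        CfsgLib.PLength.pLengthLE_zero_iff.2 (CfsgLib.PLocal.coprime_card_pPrimeCore p G)
      simpa using CfsgLib.PLength.pLengthLE_extension _ h0
        (ih hlt (CfsgLib.PLocal.isPSolvable_quotient hG _)
          (P.mapSurjective (QuotientGroup.mk'_surjective (Cfsg.pPrimeCore p G))) fun h =>
          hP (CfsgLib.ConjFunctor.involves_trans (CfsgLib.ConjFunctor.involves_of_surjective
            ((QuotientGroup.mk' (Cfsg.pPrimeCore p G)).subgroupMap (P : Subgroup G))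
            (MonoidHom.subgroupMap_surjective _ _)) h))
    set O := Cfsg.pCore p G with hOdef
    set H := G ⧸ O with hH
    have hH0 : Cfsg.PLengthLE p 0 H := by
      rw [CfsgLib.PLength.pLengthLE_zero_iff, Nat.coprime_comm, hp.out.coprime_iff_not_dvd]
      intro hdvd
      set Q := P.mapSurjective (QuotientGroup.mk'_surjective O) with hQ
      obtain ⟨⟨x, hxQ⟩, hx⟩ := exists_prime_orderOf_dvd_card' (G := (Q : Subgroup H)) p
        (Q.dvd_card_of_dvd_card hdvd)
      rw [Subgroup.orderOf_mk] at hx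
      obtain ⟨g, hgP, rfl⟩ := hxQ
      obtain ⟨m, ψ, hψ, hnorm⟩ := CfsgLib.HallHigman.exists_frattini_norm hG hO
      set F0 := (frattini O).map O.subtype with hF0
      haveI : F0.Normal := by rw [hF0]; infer_instance
      by_cases hall : ∀ u ∈ O, (u * g) ^ p * (g ^ p)⁻¹ ∈ F0
      · have h0 := hnorm g 1 (by simpa using hall)
        rw [pow_one] at h0
        haveI : Nontrivial (Fin m → AlgebraicClosure (ZMod p)) := by
          by_contra h
          rw [not_nontrivial_iff_subsingleton] at h
          rw [hψ (LinearMap.ext fun v => Subsingleton.elim _ _ : ψ (QuotientGroup.mk' O g) = ψ 1),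
            orderOf_one] at hx
          exact hp.out.ne_one hx.symm
        rcases CfsgLib.HallHigman.degree_bound ψ hψ (CfsgLib.PLocal.isPSolvable_quotient hG O)
            (CfsgLib.PLocal.pCore_quotient_pCore_eq_bot p G) (QuotientGroup.mk' O g) (n := 1)
            (by rw [pow_one]; exact hx) (p - 1) h0 with h | ⟨n₀, q, e, h1, h2, hq, h3, h4, -, -⟩
        · rw [pow_one] at h
          have := hp.out.pos
          omega
        · obtain rfl := CfsgLib.HallHigman.exception_prime hp.out hp2 hq h1 h3 h4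
          obtain rfl : n₀ = 1 := by omega
          rw [pow_one] at h4
          exact hnf ⟨e, by have := hp.out.pos; omega⟩
      push Not at hall
      obtain ⟨u, huO, hu⟩ := hall
      have hOP : O ≤ P := CfsgLib.PLocal.pCore_le_sylow P
      set π := QuotientGroup.mk' F0 with hπ
      set A := O.map π with hA
      have hcomm : ∀ x ∈ A, ∀ y ∈ A, x * y = y * x := by
        rintro _ ⟨x, hx, rfl⟩ _ ⟨y, hy, rfl⟩
        rw [← map_mul, ← map_mul]
        refine QuotientGroup.eq.2 ⟨⁅(⟨y, hy⟩ : O)⁻¹, (⟨x, hx⟩ : O)⁻¹⁆,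
          CfsgLib.Solvable.commutator_le_frattini (CfsgLib.PLocal.isPGroup_pCore p G)
            (Subgroup.commutator_mem_commutator (Subgroup.mem_top _) (Subgroup.mem_top _)), ?_⟩
        simp only [commutatorElement_def, Subgroup.subtype_apply, Subgroup.coe_mul,
          Subgroup.coe_inv]
        group
      have hexpA : ∀ x ∈ A, x ^ p = 1 := by
        rintro _ ⟨x, hx, rfl⟩
        rw [← map_pow, hπ, QuotientGroup.mk'_apply, QuotientGroup.eq_one_iff]
        exact ⟨_, CfsgLib.Solvable.pow_mem_frattini (CfsgLib.PLocal.isPGroup_pCore p G) ⟨x, hx⟩,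
          rfl⟩
      have hnA : A.Normal := (Cfsg.pCore_normal p G).map π (QuotientGroup.mk'_surjective F0)
      set a := π u with ha
      have haA : a ∈ A := ⟨u, huO, rfl⟩
      set h0 := π g with hh0
      set z := h0 ^ p with hz
      have hzA : z ∈ A := by
        refine ⟨g ^ p, ?_, map_pow _ _ _⟩
        rw [SetLike.mem_coe, ← QuotientGroup.eq_one_iff, QuotientGroup.mk_pow]
        exact orderOf_dvd_iff_pow_eq_one.1 hx.dvd
      have hN : (a * h0) ^ p * z⁻¹ ≠ 1 := by
        rw [ha, hh0, hz, ← map_mul, ← map_pow, ← map_pow, ← map_inv, ← map_mul]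
        exact fun h => hu ((QuotientGroup.eq_one_iff _).1 h)
      have hwA : (a * h0) ^ p * z⁻¹ ∈ A ∧ (a * h0) ^ p ∈ A := by
        have h1 : (a * h0) ^ p ∈ A := by
          rw [ha, hh0, ← map_mul, ← map_pow]
          refine ⟨_, ?_, rfl⟩
          rw [SetLike.mem_coe, ← QuotientGroup.eq_one_iff, QuotientGroup.mk_pow,
            QuotientGroup.mk_mul, (QuotientGroup.eq_one_iff u).2 huO, one_mul]
          exact orderOf_dvd_iff_pow_eq_one.1 hx.dvd
        exact ⟨mul_mem h1 (inv_mem hzA), h1⟩
      by_cases hwz : (a * h0) ^ p ∈ Subgroup.zpowers z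
      · -- adjust the lift so that its `p`-th power is trivial
        have hf : ∀ n : ℕ, ∀ x ∈ A, (x * h0) ^ n * (h0 ^ n)⁻¹ ∈ A ∧ ∀ y ∈ A,
            (x * y * h0) ^ n * (h0 ^ n)⁻¹ =
              (x * h0) ^ n * (h0 ^ n)⁻¹ * ((y * h0) ^ n * (h0 ^ n)⁻¹) := by
          intro n
          induction n with
          | zero => intro x _; simp
          | succ n ihn =>
            intro x hx
            have hs : ∀ w, (w * h0) ^ (n + 1) * (h0 ^ (n + 1))⁻¹ =
                (w * h0) ^ n * (h0 ^ n)⁻¹ * (h0 ^ n * w * (h0 ^ n)⁻¹) := by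
              intro w
              rw [pow_succ, pow_succ h0]
              group
            refine ⟨?_, fun y hy => ?_⟩
            · rw [hs]
              exact mul_mem (ihn x hx).1 (hnA.conj_mem _ hx _)
            · rw [hs, hs, hs, (ihn x hx).2 y hy,
                show h0 ^ n * (x * y) * (h0 ^ n)⁻¹ =
                  h0 ^ n * x * (h0 ^ n)⁻¹ * (h0 ^ n * y * (h0 ^ n)⁻¹) by group]
              exact (show Commute _ _ from
                hcomm _ (ihn y hy).1 _ (hnA.conj_mem _ hx _)).mul_mul_mul_comm _ _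
        set N := (a * h0) ^ p * z⁻¹ with hNdef
        have hpow : ∀ k : ℕ, (a ^ k * h0) ^ p = N ^ k * z := by
          intro k
          induction k with
          | zero => simp [hz]
          | succ k ihk =>
            have h1 := (hf p (a ^ k) (pow_mem haA k)).2 a haA
            rw [← hz, ← pow_succ] at h1
            rw [← mul_inv_eq_iff_eq_mul, h1, ihk, mul_inv_cancel_right, ← hNdef, pow_succ]
        obtain ⟨i, hi⟩ : ∃ i : ℕ, N = z ^ i := by
          have : N ∈ Subgroup.zpowers z := mul_mem hwz (inv_mem (Subgroup.mem_zpowers z))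
          rw [← mem_powers_iff_mem_zpowers] at this
          obtain ⟨i, hi⟩ := this
          exact ⟨i, hi.symm⟩
        have hi0 : (i : ZMod p) ≠ 0 := by
          intro h
          obtain ⟨j, rfl⟩ := (ZMod.natCast_eq_zero_iff i p).1 h
          rw [pow_mul, hexpA z hzA, one_pow] at hi
          exact hN hi
        set c := ((i : ZMod p)⁻¹).val with hc'
        have hzc : N ^ c = z := by
          rw [hi, ← pow_mul, pow_eq_pow_mod _ (hexpA z hzA)]
          have h1 : ((i * c : ℕ) : ZMod p) = 1 := by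
            rw [Nat.cast_mul, hc', ZMod.natCast_zmod_val, mul_inv_cancel₀ hi0]
          rw [← ZMod.val_natCast p, h1, ZMod.val_one, pow_one]
        have hh : (a ^ (c * (p - 1)) * h0) ^ p = 1 := by
          rw [hpow]
          conv_lhs => arg 2; rw [← hzc]
          rw [← pow_add, ← Nat.mul_succ, Nat.succ_eq_add_one, Nat.sub_add_cancel hp.out.one_le,
            pow_mul', hexpA N hwA.1, one_pow]
        haveI : IsMulCommutative A := ⟨⟨fun x y => Subtype.ext (hcomm _ x.2 _ y.2)⟩⟩
        refine hP (involves_wreath (⊤ : Subgroup (P : Subgroup G))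
          ((π.comp (P : Subgroup G).subtype).comp (Subgroup.subtype _)) A hexpA
          (a ^ (c * (p - 1)) * h0) (fun x hx => hnA.conj_mem x hx _) hh haA ?_ ?_ ?_)
        · rw [← mul_assoc, ← pow_succ', hpow]
          conv_lhs => arg 2; rw [← hzc]
          rw [← pow_add, add_right_comm, ← Nat.mul_succ, Nat.succ_eq_add_one,
            Nat.sub_add_cancel hp.out.one_le, pow_succ, pow_mul', hexpA N hwA.1, one_pow, one_mul]
          exact hN
        · exact ⟨⟨⟨u, hOP huO⟩, trivial⟩, rfl⟩
        · exact ⟨⟨⟨u, hOP huO⟩ ^ (c * (p - 1)) * ⟨g, hgP⟩, trivial⟩, by simp [ha, hh0]⟩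
      · -- work modulo the central subgroup generated by the `p`-th power
        set C0 := Subgroup.centralizer ({z} : Set (G ⧸ F0)) with hC0
        set R := (Subgroup.zpowers z).subgroupOf C0 with hR
        haveI : R.Normal := ⟨fun n hn w => by
          have hcm : Commute (w : G ⧸ F0) z := Subgroup.mem_centralizer_singleton_iff.1 w.2
          obtain ⟨k, hk⟩ := hn
          refine ⟨k, ?_⟩
          show z ^ k = (w : G ⧸ F0) * (n : G ⧸ F0) * (w : G ⧸ F0)⁻¹
          have hk' : z ^ k = (n : G ⧸ F0) := hk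
          rw [← hk', (hcm.zpow_right k).eq, mul_inv_cancel_right]⟩
        have hAC : A ≤ C0 := fun x hx => Subgroup.mem_centralizer_singleton_iff.2 (hcomm x hx z hzA)
        have hh0C : h0 ∈ C0 := Subgroup.mem_centralizer_singleton_iff.2
          ((Commute.refl h0).pow_right p)
        set A' := (A.subgroupOf C0).map (QuotientGroup.mk' R) with hA'
        haveI : IsMulCommutative A' := ⟨⟨by
          rintro ⟨_, x, hx, rfl⟩ ⟨_, y, hy, rfl⟩
          refine Subtype.ext ?_
          show QuotientGroup.mk' R x * QuotientGroup.mk' R y =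
            QuotientGroup.mk' R y * QuotientGroup.mk' R x
          rw [← map_mul, ← map_mul]
          exact congrArg _ (Subtype.ext (hcomm _ hx _ hy))⟩⟩
        let f := (QuotientGroup.mk' R).comp
          ((π.comp (P : Subgroup G).subtype).subgroupComap C0)
        refine hP (involves_wreath (C0.comap (π.comp (P : Subgroup G).subtype)) f A' ?_
          (QuotientGroup.mk' R ⟨h0, hh0C⟩) ?_ ?_ (a := QuotientGroup.mk' R ⟨a, hAC haA⟩) ?_ ?_ ?_ ?_)
        · rintro _ ⟨x, hx, rfl⟩
          rw [← map_pow, show x ^ p = 1 from Subtype.ext (hexpA _ hx), map_one]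
        · rintro _ ⟨x, hx, rfl⟩
          rw [← map_mul, ← map_inv, ← map_mul]
          exact ⟨_, hnA.conj_mem _ hx h0, rfl⟩
        · rw [← map_pow, QuotientGroup.mk'_apply, QuotientGroup.eq_one_iff]
          exact Subgroup.mem_zpowers z
        · exact ⟨_, haA, rfl⟩
        · rw [← map_mul, ← map_pow, QuotientGroup.mk'_apply, Ne, QuotientGroup.eq_one_iff]
          exact hwz
        · exact ⟨⟨⟨u, hOP huO⟩, hAC haA⟩, rfl⟩
        · exact ⟨⟨⟨g, hgP⟩, hh0C⟩, rfl⟩
    exact CfsgLib.PLength.pLengthLE_extension O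
      (CfsgLib.PLength.pLengthLE_one_of_isPGroup (CfsgLib.PLocal.isPGroup_pCore p G)) hH0


/-- Let G be a finite p-soluble group, p an odd prime not of the form 2^k + 1, and suppose the wreath product C_p ≀ C_p (of order p^(p+1)) is not involved in a Sylow p-subgroup of G: no section of a Sylow p-subgroup is isomorphic to it. Then G has p-length at most 1. -/
theorem result {G : Type*} [Group G] [Finite G] {p : ℕ} [Fact p.Prime] (hp2 : p ≠ 2) (hnf : (¬ ∃ k : ℕ, p = 2 ^ k + 1)) (hG : Cfsg.IsPSolvable p G) (P : Sylow p G) (hwr : ∀ (W : Type) [Group W] [Finite W], (∃ (B : Subgroup W) (t : W), B.Normal ∧ IsMulCommutative B ∧ (∀ b ∈ B, b ^ p = 1) ∧ Nat.card B = p ^ p ∧ orderOf t = p ∧ t ∉ B ∧ Nat.card W = p ^ (p + 1) ∧ Nat.card ↥(B ⊓ Subgroup.centralizer ({t} : Set W)) = p) → ¬ Cfsg.Involves W ↥(P : Subgroup G)) : Cfsg.PLengthLE p 1 G := by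
  exact main hp2 hnf (Nat.card G) le_rfl hG P
    (hwr _ (CfsgLib.HallHigman.wreathCp_spec p))

end Cfsg.Agent.S3787
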