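import Cfsg.Statements.S3788

import Cfsg.Agent.HallHigman.LengthSetup
import Cfsg.Agent.WeakClosed.Transvection
import Cfsg.Agent.Coprime.ActionHom
import Cfsg.Agent.ConjFunctor.Sections

set_option autoImplicit false
open Cfsg

namespace Cfsg.Agent.S3788

universe u

set_option linter.style.haveILetI false

open scoped commutatorElement

/-- The iterated product of `c * z * a` when `a * z * a⁻¹ = c * z`. -/
theorem pow_formula {X : Type u} [Group X] {a z c : X} (hac : Commute a c) (hzc : Commute z c)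
    (h : a * z = c * z * a) : ∀ k : ℕ, ∃ t : ℕ, 2 * t = k * (k + 1) ∧
      (a * z) ^ k = z ^ k * c ^ t * a ^ k := by
  have hk : ∀ k : ℕ, a ^ k * z = c ^ k * z * a ^ k := by
    intro k
    induction k with
    | zero => simp
    | succ k ih =>
      rw [pow_succ a, mul_assoc, h, ← mul_assoc, ← mul_assoc, ((hac.pow_left k)).eq, mul_assoc c, ih,
        pow_succ' c]
      simp only [mul_assoc]
  intro k
  induction k with
  | zero => exact ⟨0, by simp, by simp⟩
  | succ k ih =>
    obtain ⟨t, ht, he⟩ := ih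
    refine ⟨t + (k + 1), by rw [mul_add, ht]; ring, ?_⟩
    rw [pow_succ, he, h]
    calc z ^ k * c ^ t * a ^ k * (c * z * a) = z ^ k * c ^ t * (a ^ k * c) * z * a := by
          simp only [mul_assoc]
      _ = z ^ k * c ^ t * c * (a ^ k * z) * a := by
          rw [(hac.pow_left k).eq]; simp only [mul_assoc]
      _ = z ^ k * (c ^ (t + (k + 1)) * z) * (a ^ k * a) := by
          rw [hk, show t + (k + 1) = t + 1 + k by omega, pow_add, pow_add, pow_one]
          simp only [mul_assoc]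
      _ = z ^ (k + 1) * c ^ (t + (k + 1)) * a ^ (k + 1) := by
          rw [← (hzc.pow_right _).eq, ← pow_succ a, pow_succ z]
          simp only [mul_assoc]

/-- For odd `p` a cyclic subgroup normalised by `V` lies in `V`. -/
theorem core_odd {p : ℕ} [hp : Fact p.Prime] (hp2 : p ≠ 2) {X : Type u} [Group X] [Finite X]
    (V : Subgroup X) [V.Normal] (hexp : ∀ v ∈ V, v ^ p = 1)
    (hcomm : ∀ v ∈ V, ∀ w ∈ V, v * w = w * v) (hC : Subgroup.centralizer (V : Set X) ≤ V)
    (hsol : Cfsg.IsPSolvable p (X ⧸ V)) (hOp : Cfsg.pCore p (X ⧸ V) = ⊥) (a : X)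
    (hap : ∃ k, a ^ p ^ k = 1) (hc : ∀ v ∈ V, a * v * a⁻¹ * v⁻¹ ∈ Subgroup.zpowers a) :
    a ∈ V := by
  by_contra haV
  have hmem : ∀ v ∈ V, a * v * a⁻¹ * v⁻¹ ∈ V := fun v hv =>
    mul_mem ((inferInstance : V.Normal).conj_mem v hv a) (inv_mem hv)
  have hca : ∀ v ∈ V, Commute a (a * v * a⁻¹ * v⁻¹) := by
    intro v hv
    obtain ⟨i, hi⟩ := Subgroup.mem_zpowers_iff.1 (hc v hv)
    rw [← hi]
    exact Commute.zpow_right (Commute.refl a) i
  have hap' : ∀ v ∈ V, Commute (a ^ p) v := by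
    intro v hv
    set c := a * v * a⁻¹ * v⁻¹ with hcdef
    have h1 : ∀ k : ℕ, a ^ k * v * (a ^ k)⁻¹ = c ^ k * v := by
      intro k
      induction k with
      | zero => simp
      | succ k ih =>
        have h2 : a ^ (k + 1) * v * (a ^ (k + 1))⁻¹ = a * (a ^ k * v * (a ^ k)⁻¹) * a⁻¹ := by
          rw [pow_succ' a]; group
        rw [h2, ih, show a * (c ^ k * v) * a⁻¹ = a * c ^ k * a⁻¹ * (a * v * a⁻¹) by group,
          ((hca v hv).pow_right k).eq, mul_inv_cancel_right, pow_succ, mul_assoc (c ^ k) c v]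
        congr 1
        rw [hcdef, inv_mul_cancel_right]
    have h3 := h1 p
    rw [hexp c (hmem v hv), one_mul, mul_inv_eq_iff_eq_mul] at h3
    exact h3
  have hapV : a ^ p ∈ V := hC (Subgroup.mem_centralizer_iff.2 fun v hv => (hap' v hv).symm.eq)
  have hcp : ∀ v ∈ V, a * v * a⁻¹ * v⁻¹ ∈ Subgroup.zpowers (a ^ p) := by
    intro v hv
    obtain ⟨i, hi⟩ := Subgroup.mem_zpowers_iff.1 (hc v hv)
    by_cases hd : (p : ℤ) ∣ i
    · obtain ⟨j, rfl⟩ := hd
      exact ⟨j, by rw [← hi, zpow_mul, zpow_natCast]⟩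
    · exfalso
      apply haV
      obtain ⟨k, hk⟩ := hap
      have hcop : IsCoprime i ((p ^ k : ℕ) : ℤ) := by
        push_cast
        exact IsCoprime.pow_right (((Nat.prime_iff_prime_int.1 hp.out).irreducible).coprime_iff_not_dvd.2
          hd).symm
      obtain ⟨s, t, hst⟩ := hcop
      have h := zpow_mem (hi.symm ▸ hmem v hv : a ^ i ∈ V) s
      rwa [← zpow_mul, mul_comm, show s * i = 1 + ((p ^ k : ℕ) : ℤ) * (-t) by rw [← hst]; ring,
        zpow_add, zpow_one, zpow_mul, zpow_natCast, hk, one_zpow, mul_one] at h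
  set Y := X ⧸ V with hY
  set π := QuotientGroup.mk' V with hπ
  set N := Cfsg.pPrimeCore p Y with hNdef
  haveI hNn : N.Normal := Cfsg.pPrimeCore_normal p Y
  set x := π a with hx
  obtain ⟨k, hk⟩ := hap
  have hxk : x ^ p ^ k = 1 := by rw [hx, ← map_pow, hk, map_one]
  let φ : Subgroup.zpowers x →* MulAut N :=
    (MulAut.conjNormal : Y →* MulAut N).comp (Subgroup.zpowers x).subtype
  have hNc : (Nat.card N).Coprime p := CfsgLib.PLocal.coprime_card_pPrimeCore p Y
  have hZp : IsPGroup p (Subgroup.zpowers x) := by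
    obtain ⟨i, -, hi⟩ := (Nat.dvd_prime_pow hp.out).1 (orderOf_dvd_of_pow_eq_one hxk)
    exact IsPGroup.of_card (n := i) (by rw [Nat.card_zpowers, hi])
  haveI := hZp.isNilpotent
  have hcop : (Nat.card (Subgroup.zpowers x)).Coprime (Nat.card N) := by
    obtain ⟨e, he⟩ := IsPGroup.iff_card.1 hZp
    rw [he]
    exact hNc.symm.pow_left e
  have hxC : (Subgroup.centralizer ({x} : Set Y)).subgroupOf N = ⊤ := by
    refine Subgroup.eq_top_of_le_card _ (Nat.le_of_dvd Nat.card_pos ?_)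
    refine (Nat.factorization_le_iff_dvd Nat.card_pos.ne' Nat.card_pos.ne').mp fun q => ?_
    by_cases hq : q.Prime
    swap
    · simp [hq]
    haveI := Fact.mk hq
    obtain ⟨Tb, hTb⟩ := CfsgLib.Coprime.exists_invariant_sylow_hom φ hcop (Or.inl inferInstance) q
    refine (hq.pow_dvd_iff_le_factorization Nat.card_pos.ne').mp ?_
    rw [← Tb.card_eq_multiplicity]
    refine Subgroup.card_dvd_of_le fun tb htb => ?_
    rw [Subgroup.mem_subgroupOf, Subgroup.mem_centralizer_singleton_iff]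
    rcases eq_or_ne p q with rfl | hpq
    · have hb : (Tb : Subgroup N) = ⊥ := by
        rw [← Subgroup.card_eq_one, Tb.card_eq_multiplicity,
          Nat.factorization_eq_zero_of_not_dvd (hp.out.coprime_iff_not_dvd.1 hNc.symm), pow_zero]
      rw [hb, Subgroup.mem_bot] at htb
      rw [htb, Subgroup.coe_one, one_mul, mul_one]
    set T₀ := (Tb : Subgroup N).map N.subtype with hT₀
    set U := T₀.comap π with hU
    set M := U ⊔ Subgroup.zpowers a with hM
    have haU : ∀ w ∈ U, a * w * a⁻¹ ∈ U := by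
      rintro w ⟨t, ht, hte⟩
      refine ⟨φ ⟨x, Subgroup.mem_zpowers x⟩ t, hTb _ t ht, ?_⟩
      show x * (t : Y) * x⁻¹ = π (a * w * a⁻¹)
      rw [map_mul, map_mul, map_inv, ← hx, show (t : Y) = π w from hte]
    have hMnorm : M ≤ Subgroup.normalizer (U : Set X) := sup_le Subgroup.le_normalizer
      (Subgroup.zpowers_le.2 (Cfsg.Agent.S2759.mem_normalizer_of_conj_mem haU))
    haveI : (U.subgroupOf M).Normal := (Subgroup.normal_subgroupOf_iff_le_normalizer le_sup_left).2 hMnorm
    obtain ⟨T⟩ : Nonempty (Sylow q (U.subgroupOf M)) := inferInstance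
    have htop := Sylow.normalizer_sup_eq_top T
    have haM : (⟨a, Subgroup.mem_sup_right (Subgroup.mem_zpowers a)⟩ : M) ∈
        Subgroup.normalizer (((T : Subgroup (U.subgroupOf M)).map (U.subgroupOf M).subtype :
          Subgroup M) : Set M) ⊔ U.subgroupOf M := htop ▸ Subgroup.mem_top _
    obtain ⟨n, hn, u, hu, hnu⟩ := Subgroup.mem_sup_of_normal_right.1 haM
    set T' : Subgroup X := ((T : Subgroup (U.subgroupOf M)).map (U.subgroupOf M).subtype).map M.subtype
      with hT'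
    have hnT : ∀ w ∈ T', (n : X) * w * (n : X)⁻¹ ∈ T' := by
      rintro _ ⟨w, hw, rfl⟩
      exact ⟨_, (Subgroup.mem_normalizer_iff.1 hn w).1 hw, rfl⟩
    have hT'q : IsPGroup q T' := (T.isPGroup'.map _).map _
    have hT'U : T' ≤ U := by
      rintro _ ⟨_, ⟨w, hw, rfl⟩, rfl⟩
      exact w.2
    have hVU : V ≤ U := fun v hv => by
      rw [hU, Subgroup.mem_comap, hπ, QuotientGroup.mk'_apply, (QuotientGroup.eq_one_iff v).2 hv]
      exact one_mem _
    have hVT : ∀ w ∈ T', w ∈ V → w = 1 := by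
      intro w hw hwV
      obtain ⟨i, hi⟩ := hT'q ⟨w, hw⟩
      have hi' : w ^ q ^ i = 1 := congrArg Subtype.val hi
      rw [← orderOf_eq_one_iff]
      exact Nat.eq_one_of_dvd_coprimes
        (((Nat.coprime_primes hp.out hq).2 hpq).pow_right i)
        (orderOf_dvd_of_pow_eq_one (hexp w hwV)) (orderOf_dvd_of_pow_eq_one hi')
    -- the image of `T'` is all of `T₀`
    have hcover : ∀ w ∈ U, ∃ t ∈ T', ∃ v ∈ V, w = t * v := by
      intro w hw
      let f : (U.subgroupOf M) →* T₀ :=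
        (π.comp (M.subtype.comp (U.subgroupOf M).subtype)).codRestrict T₀ fun z => z.2
      have hf : Function.Surjective f := by
        rintro ⟨y, hy⟩
        obtain ⟨z, rfl⟩ := QuotientGroup.mk'_surjective V y
        exact ⟨⟨⟨z, Subgroup.mem_sup_left hy⟩, hy⟩, rfl⟩
      have hfull : (T.mapSurjective hf : Subgroup T₀) = ⊤ :=
        ((T.mapSurjective hf).is_maximal' ((Tb.isPGroup'.map N.subtype).of_equiv
          Subgroup.topEquiv.symm) le_top).symm
      obtain ⟨z, hz, hze⟩ : (⟨π w, hw⟩ : T₀) ∈ (T : Subgroup (U.subgroupOf M)).map f := by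
        show (⟨π w, hw⟩ : T₀) ∈ (T.mapSurjective hf : Subgroup T₀)
        rw [hfull]; exact Subgroup.mem_top _
      refine ⟨((z : M) : X), ⟨_, ⟨z, hz, rfl⟩, rfl⟩, ((z : M) : X)⁻¹ * w, ?_,
        (mul_inv_cancel_left _ _).symm⟩
      have h2 : π ((z : M) : X) = π w := congrArg Subtype.val hze
      exact QuotientGroup.eq.1 h2
    obtain ⟨t₁, ht₁, v, hv, huv⟩ := hcover _ hu
    set a' := (n : X) * t₁ with ha'
    have ha'T : ∀ w ∈ T', a' * w * a'⁻¹ ∈ T' := fun w hw => by
      have h := hnT _ (mul_mem (mul_mem ht₁ hw) (inv_mem ht₁))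
      convert h using 1
      rw [ha']; group
    have haa' : a = a' * v := by
      have h : (n : X) * (u : X) = a := congrArg Subtype.val hnu
      rw [← h, show (u : X) = t₁ * v from huv, ha', mul_assoc]
    -- the `p`-th power centralises `T'`
    have hapT : ∀ w ∈ T', Commute (a ^ p) w := by
      intro w hw
      set z := v⁻¹ with hz
      have hzV : z ∈ V := inv_mem hv
      obtain ⟨t, ht, he⟩ := pow_formula (hca z hzV)
        (hcomm z hzV _ (hmem z hzV)) (by group) p
      have hpt : p ∣ t := by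
        have h2 : p ∣ 2 * t := ht ▸ Dvd.intro _ rfl
        exact ((Nat.coprime_primes hp.out Nat.prime_two).2 hp2).dvd_of_dvd_mul_left h2
      obtain ⟨s, rfl⟩ := hpt
      rw [hexp z hzV, one_mul, pow_mul, hexp _ (hmem z hzV), one_pow, one_mul,
        show a * z = a' by rw [haa', hz, mul_inv_cancel_right]] at he
      have hj : ∀ j : ℕ, a' ^ j * w * (a' ^ j)⁻¹ ∈ T' := by
        intro j
        induction j with
        | zero => simpa using hw
        | succ j ih =>
          have := ha'T _ ih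
          convert this using 1
          rw [pow_succ']; group
      have h1 : a ^ p * w * (a ^ p)⁻¹ * w⁻¹ ∈ T' := by
        rw [← he]
        exact mul_mem (hj p) (inv_mem hw)
      have h2 : a ^ p * w * (a ^ p)⁻¹ * w⁻¹ ∈ V := by
        rw [mul_assoc (a ^ p), mul_assoc (a ^ p)]
        exact mul_mem hapV ((inferInstance : V.Normal).conj_mem _ (inv_mem hapV) w)
      have h3 := hVT _ h1 h2
      rw [mul_inv_eq_one, mul_inv_eq_iff_eq_mul] at h3
      exact h3
    have hcT : ∀ v ∈ V, ∀ w ∈ T', Commute (a * v * a⁻¹ * v⁻¹) w := by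
      intro v hv w hw
      obtain ⟨i, hi⟩ := Subgroup.mem_zpowers_iff.1 (hcp v hv)
      rw [← hi]
      exact (hapT w hw).zpow_left i
    obtain ⟨t, ht, v₀, hv₀, hwt⟩ : ∃ t ∈ T', ∃ v₀ ∈ V, π (t * v₀) = (tb : Y) := by
      obtain ⟨w, hw⟩ := QuotientGroup.mk'_surjective V (tb : Y)
      have hwU : w ∈ U := by
        rw [hU, Subgroup.mem_comap, hπ, hw]
        exact ⟨tb, htb, rfl⟩
      obtain ⟨t, ht, v₀, hv₀, rfl⟩ := hcover w hwU
      exact ⟨t, ht, v₀, hv₀, hw⟩
    set w := a' * t * a'⁻¹ * t⁻¹ with hw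
    have hwT : w ∈ T' := mul_mem (ha'T t ht) (inv_mem ht)
    -- conjugation by `a'` on `V`
    have ha'V : ∀ v' ∈ V, a' * v' * a'⁻¹ = a * v' * a⁻¹ := by
      intro v' hv'
      rw [haa', show a' * v * v' * (a' * v)⁻¹ = a' * (v * v' * v⁻¹) * a'⁻¹ by group, hcomm v hv v' hv',
        mul_inv_cancel_right]
    have hwV : ∀ v' ∈ V, Commute w v' := by
      intro v' hv'
      set e := w * v' * w⁻¹ * v'⁻¹ with he
      have hconj : ∀ g, ∀ z ∈ V, g * z * g⁻¹ ∈ V := fun g z hz =>
        (inferInstance : V.Normal).conj_mem z hz g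
      let S : Subgroup X :=
        { carrier := {g | ∀ v'' ∈ V, g * v'' * g⁻¹ * v''⁻¹ ∈ Subgroup.centralizer (T' : Set X)}
          one_mem' := fun v'' _ => by simp
          mul_mem' := fun {g h} hg hh v'' hv'' => by
            have := mul_mem (hg _ (hconj h v'' hv'')) (hh v'' hv'')
            convert this using 1
            group
          inv_mem' := fun {g} hg v'' hv'' => by
            have := inv_mem (hg _ (hconj g⁻¹ v'' hv''))
            convert this using 1
            group }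
      have ha'S : a' ∈ S := fun v'' hv'' => by
        rw [ha'V v'' hv'']
        exact Subgroup.mem_centralizer_iff.2 fun y hy => ((hcT v'' hv'' y hy).symm).eq
      have htS : t * a'⁻¹ * t⁻¹ ∈ S := fun v'' hv'' => by
        have h1 := inv_mem ha'S _ (hconj t⁻¹ v'' hv'')
        have h2 := Subgroup.mem_centralizer_iff.1 h1 t ht
        convert h1 using 1
        calc t * a'⁻¹ * t⁻¹ * v'' * (t * a'⁻¹ * t⁻¹)⁻¹ * v''⁻¹
            = t * (a'⁻¹ * (t⁻¹ * v'' * t⁻¹⁻¹) * a'⁻¹⁻¹ * (t⁻¹ * v'' * t⁻¹⁻¹)⁻¹) * t⁻¹ := by group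
          _ = _ := by rw [h2, mul_inv_cancel_right]
      have heC : ∀ y ∈ T', Commute e y := by
        intro y hy
        have h1 : w ∈ S := by
          rw [show w = a' * (t * a'⁻¹ * t⁻¹) by rw [hw]; group]
          exact mul_mem ha'S htS
        exact (show y * e = e * y from Subgroup.mem_centralizer_iff.1 (h1 v' hv') y hy).symm
      obtain ⟨i, hi⟩ := hT'q ⟨w, hwT⟩
      have hi' : w ^ q ^ i = 1 := congrArg Subtype.val hi
      have heV : e ∈ V := mul_mem (hconj _ _ hv') (inv_mem hv')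
      have hiter : ∀ j : ℕ, w ^ j * v' * (w ^ j)⁻¹ = e ^ j * v' := by
        intro j
        induction j with
        | zero => simp
        | succ j ih =>
          have h2 : w ^ (j + 1) * v' * (w ^ (j + 1))⁻¹ = w * (w ^ j * v' * (w ^ j)⁻¹) * w⁻¹ := by
            rw [pow_succ' w]; group
          rw [h2, ih, show w * (e ^ j * v') * w⁻¹ = w * e ^ j * w⁻¹ * (w * v' * w⁻¹) by group,
            ← ((heC w hwT).pow_left j).eq, mul_inv_cancel_right,
            show w * v' * w⁻¹ = e * v' by rw [he, inv_mul_cancel_right], ← mul_assoc, pow_succ]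
      have h4 := hiter (q ^ i)
      rw [hi', one_mul, inv_one, mul_one] at h4
      have h5 : e ^ q ^ i = 1 := mul_eq_right.1 h4.symm
      have h6 : orderOf e = 1 := Nat.eq_one_of_dvd_coprimes
        (((Nat.coprime_primes hp.out hq).2 hpq).pow_right i)
        (orderOf_dvd_of_pow_eq_one (hexp e heV)) (orderOf_dvd_of_pow_eq_one h5)
      rw [orderOf_eq_one_iff, he, mul_inv_eq_one, mul_inv_eq_iff_eq_mul] at h6
      exact h6
    have hw1 : w = 1 := hVT w hwT
      (hC (Subgroup.mem_centralizer_iff.2 fun v' hv' => (hwV v' hv').symm.eq))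
    have hπv : ∀ v ∈ V, π v = 1 := fun v hv => by
      rw [hπ, QuotientGroup.mk'_apply, QuotientGroup.eq_one_iff]; exact hv
    rw [hw, mul_inv_eq_one, mul_inv_eq_iff_eq_mul] at hw1
    rw [← hwt, hx, haa', map_mul π t, hπv v₀ hv₀, mul_one, map_mul, hπv v hv, mul_one, ← map_mul,
      ← map_mul, hw1]
  have hxN : x ∈ N := Cfsg.Agent.S3754.centralizer_pPrimeCore_le hsol hOp (by
    rw [Subgroup.mem_centralizer_iff]
    intro z hz
    have h1 : (⟨z, hz⟩ : N) ∈ (Subgroup.centralizer ({x} : Set Y)).subgroupOf N :=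
      hxC ▸ Subgroup.mem_top _
    exact Subgroup.mem_centralizer_singleton_iff.1 (Subgroup.mem_subgroupOf.1 h1))
  have hx1 : x = 1 := by
    rw [← orderOf_eq_one_iff]
    exact Nat.eq_one_of_dvd_coprimes (hNc.pow_right k) (N.orderOf_dvd_natCard hxN)
      (orderOf_dvd_of_pow_eq_one hxk)
  exact haV ((QuotientGroup.eq_one_iff a).1 hx1)

theorem quotient_congr_of_eq {X : Type u} [Group X] {p : ℕ} (C V : Subgroup X) [C.Normal] [V.Normal]
    (h : C = V) (hO : Cfsg.pCore p (X ⧸ V) = ⊥) :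
    ∀ N : Subgroup (X ⧸ C), N.Normal → IsPGroup p N → N = ⊥ := by
  subst h
  intro N hN hNp
  rw [eq_bot_iff, ← hO]
  exact CfsgLib.PLocal.le_pCore (hN := hN) hNp

theorem main {G : Type u} [Group G] [Finite G] {p : ℕ} [hp : Fact p.Prime]
    (hG : Cfsg.IsPSolvable p G) (hO : Cfsg.pPrimeCore p G = ⊥) (P : Sylow p G) (a : G)
    (ha : a ∈ (P : Subgroup G))
    (hA : ∀ g ∈ (P : Subgroup G), g * a * g⁻¹ ∈ Subgroup.zpowers a)
    (h : p ≠ 2 ∨ ¬ Cfsg.Involves (Equiv.Perm (Fin 4)) G) : a ∈ Cfsg.pCore p G := by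
  set O := Cfsg.pCore p G with hOdef
  have hOp : IsPGroup p O := CfsgLib.PLocal.isPGroup_pCore p G
  set F0 := (frattini O).map O.subtype with hF0
  haveI : F0.Normal := by rw [hF0]; infer_instance
  have hF0O : F0 ≤ O := Subgroup.map_subtype_le _
  set π := QuotientGroup.mk' F0 with hπ
  set V := O.map π with hV
  haveI hVn : V.Normal := (Cfsg.pCore_normal p G).map π (QuotientGroup.mk'_surjective F0)
  have hcomm : ∀ x ∈ V, ∀ y ∈ V, x * y = y * x := by
    rintro _ ⟨x, hx, rfl⟩ _ ⟨y, hy, rfl⟩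
    rw [← map_mul, ← map_mul]
    refine QuotientGroup.eq.2 ⟨⁅(⟨y, hy⟩ : O)⁻¹, (⟨x, hx⟩ : O)⁻¹⁆,
      CfsgLib.Solvable.commutator_le_frattini hOp
        (Subgroup.commutator_mem_commutator (Subgroup.mem_top _) (Subgroup.mem_top _)), ?_⟩
    simp only [commutatorElement_def, Subgroup.subtype_apply, Subgroup.coe_mul, Subgroup.coe_inv]
    group
  have hexp : ∀ x ∈ V, x ^ p = 1 := by
    rintro _ ⟨x, hx, rfl⟩
    rw [← map_pow, hπ, QuotientGroup.mk'_apply, QuotientGroup.eq_one_iff]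
    exact ⟨_, CfsgLib.Solvable.pow_mem_frattini hOp ⟨x, hx⟩, rfl⟩
  have hcomap : V.comap π = O := by
    rw [hV, Subgroup.comap_map_eq_self]
    rw [hπ, QuotientGroup.ker_mk']; exact hF0O
  have hC : Subgroup.centralizer (V : Set (G ⧸ F0)) ≤ V := by
    intro y hy
    obtain ⟨g, rfl⟩ := QuotientGroup.mk'_surjective F0 y
    refine ⟨g, ?_, rfl⟩
    refine (Cfsg.Agent.S4218.mem_pCore_iff hG hO g).1 fun x hx => ?_
    have h1 := Subgroup.mem_centralizer_iff.1 hy (π x) ⟨x, hx, rfl⟩
    have h2 : π (x⁻¹ * (g * x * g⁻¹)) = 1 := by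
      simp only [map_mul, map_inv, hπ] at h1 ⊢
      rw [← h1, mul_inv_cancel_right, inv_mul_cancel]
    rw [hπ, QuotientGroup.mk'_apply, QuotientGroup.eq_one_iff] at h2
    obtain ⟨z, hz, hze⟩ := h2
    haveI : (frattini O).Normal := inferInstance
    refine ⟨⟨x, hx⟩ * z * ⟨x, hx⟩⁻¹, ‹(frattini O).Normal›.conj_mem z hz _, ?_⟩
    show x * O.subtype z * x⁻¹ = _
    rw [hze]; group
  let e : (G ⧸ F0) ⧸ V ≃* G ⧸ O := QuotientGroup.quotientQuotientEquivQuotient F0 O hF0O
  have hsol : Cfsg.IsPSolvable p ((G ⧸ F0) ⧸ V) :=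
    CfsgLib.PLocal.isPSolvable_quotient (CfsgLib.PLocal.isPSolvable_quotient hG F0) V
  have hOp' : Cfsg.pCore p ((G ⧸ F0) ⧸ V) = ⊥ := by
    refine Subgroup.map_injective (f := e.toMonoidHom) e.injective ?_
    rw [CfsgLib.PLocal.map_pCore_equiv e, Subgroup.map_bot,
      CfsgLib.PLocal.pCore_quotient_pCore_eq_bot p G]
  have hcz : ∀ v ∈ V, π a * v * (π a)⁻¹ * v⁻¹ ∈ Subgroup.zpowers (π a) := by
    rintro _ ⟨u, hu, rfl⟩
    have h1 : a * (u * a⁻¹ * u⁻¹) ∈ Subgroup.zpowers a := by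
      refine mul_mem (Subgroup.mem_zpowers a) ?_
      have := inv_mem (hA u (CfsgLib.PLocal.pCore_le_sylow P hu))
      convert this using 1
      group
    obtain ⟨i, hi⟩ := h1
    refine ⟨i, ?_⟩
    show π a ^ i = _
    rw [← map_zpow, show a ^ i = a * (u * a⁻¹ * u⁻¹) from hi, map_mul, map_mul, map_mul, map_inv,
      map_inv]
    simp only [mul_assoc]
  rw [← hcomap, Subgroup.mem_comap]
  by_cases hp2 : p = 2
  swap
  · refine core_odd hp2 V hexp hcomm hC hsol hOp' (π a) ?_ hcz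
    obtain ⟨k, hk⟩ := P.isPGroup' ⟨a, ha⟩
    exact ⟨k, by rw [← map_pow, show a ^ p ^ k = 1 from congrArg Subtype.val hk, map_one]⟩
  subst hp2
  by_contra haV
  set x := π a with hx
  have hCeq : Subgroup.centralizer (V : Set (G ⧸ F0)) = V :=
    le_antisymm hC fun v hv => Subgroup.mem_centralizer_iff.2 fun w hw => hcomm w hw v hv
  let δ : V →* V :=
    { toFun := fun v => ⟨x * v * x⁻¹ * (v : G ⧸ F0)⁻¹,
        mul_mem (hVn.conj_mem _ v.2 x) (inv_mem v.2)⟩
      map_one' := Subtype.ext (by simp)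
      map_mul' := fun v w => Subtype.ext (by
        show x * ((v : G ⧸ F0) * w) * x⁻¹ * ((v : G ⧸ F0) * w)⁻¹ =
          x * v * x⁻¹ * (v : G ⧸ F0)⁻¹ * (x * w * x⁻¹ * (w : G ⧸ F0)⁻¹)
        have h1 := hcomm _ (inv_mem v.2) _
          (mul_mem (hVn.conj_mem _ w.2 x) (inv_mem w.2))
        simp only [mul_assoc] at h1 ⊢
        rw [h1]
        group) }
  have hrange : Nat.card δ.range ≤ 2 := by
    let f : δ.range → Subgroup.zpowers x := fun r => ⟨((r : V) : G ⧸ F0), by
      obtain ⟨v, hv⟩ := r.2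
      rw [← hv]
      exact hcz v v.2⟩
    let R : Subgroup (Subgroup.zpowers x) := ((δ.range.map V.subtype)).subgroupOf _
    haveI : IsCyclic R := inferInstance
    have hR : Nat.card R ≤ 2 := by
      obtain ⟨g, hg⟩ := IsCyclic.exists_generator (α := R)
      rw [← orderOf_eq_card_of_forall_mem_zpowers hg]
      refine Nat.le_of_dvd two_pos (orderOf_dvd_of_pow_eq_one ?_)
      refine Subtype.ext (Subtype.ext ?_)
      obtain ⟨v, -, hv⟩ := g.2
      show (((g : Subgroup.zpowers x) : G ⧸ F0)) ^ 2 = 1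
      rw [show ((g : Subgroup.zpowers x) : G ⧸ F0) = (v : G ⧸ F0) from hv.symm]
      exact hexp _ v.2
    refine le_trans (Nat.card_le_card_of_injective (fun r => (⟨f r, ⟨(r : V), r.2, rfl⟩⟩ : R))
      fun r r' h => Subtype.ext (Subtype.ext (congrArg (fun t : R =>
        ((t : Subgroup.zpowers x) : G ⧸ F0)) h))) hR
  have hker : Nat.card δ.ker ≤ Nat.card ↥(V ⊓ Subgroup.centralizer ({x} : Set (G ⧸ F0))) := by
    refine Nat.card_le_card_of_injective (fun v => (⟨((v : V) : G ⧸ F0), (v : V).2, ?_⟩ :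
      ↥(V ⊓ Subgroup.centralizer ({x} : Set (G ⧸ F0))))) fun v v' hvv =>
        Subtype.ext (Subtype.ext (congrArg Subtype.val hvv :))
    refine Subgroup.mem_centralizer_singleton_iff.2 ?_
    have h1 : x * ((v : V) : G ⧸ F0) * x⁻¹ * ((v : V) : G ⧸ F0)⁻¹ = 1 := congrArg Subtype.val v.2
    rw [mul_inv_eq_one, mul_inv_eq_iff_eq_mul] at h1
    exact h1.symm
  have hcard : Nat.card V ≤ 2 * Nat.card ↥(V ⊓ Subgroup.centralizer ({x} : Set (G ⧸ F0))) := by
    rw [Subgroup.card_eq_card_quotient_mul_card_subgroup δ.ker,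
      Nat.card_congr (QuotientGroup.quotientKerEquivRange δ).toEquiv]
    exact Nat.mul_le_mul hrange hker
  have hx2 : x ^ 2 ∈ Subgroup.centralizer (V : Set (G ⧸ F0)) := by
    refine Subgroup.mem_centralizer_iff.2 fun v hv => ?_
    obtain ⟨i, hi⟩ := hcz v hv
    set c := x * v * x⁻¹ * v⁻¹ with hc
    have hcV : c ∈ V := mul_mem (hVn.conj_mem _ hv x) (inv_mem hv)
    have hxc : x * c = c * x := by
      rw [← hi]; exact ((Commute.refl x).zpow_right i).eq
    have h1 : x * v = c * v * x := by rw [hc]; group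
    have hc2 : c * c = 1 := by rw [← pow_two]; exact hexp c hcV
    symm
    calc x ^ 2 * v = x * (x * v) := by rw [pow_two, mul_assoc]
      _ = (x * c) * v * x := by rw [h1]; simp only [mul_assoc]
      _ = c * (x * v) * x := by rw [hxc]; simp only [mul_assoc]
      _ = (c * c) * v * (x * x) := by rw [h1]; simp only [mul_assoc]
      _ = v * x ^ 2 := by rw [hc2, one_mul, pow_two]
  rcases h with h | h
  · exact h rfl
  refine h (CfsgLib.ConjFunctor.involves_trans (CfsgLib.ConjFunctor.involves_quotient F0)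
    (CfsgLib.WeakClosed.involves_s4_of_transvection V
      ((CfsgLib.PLocal.isPGroup_pCore 2 G).map π) hcomm (fun hh => haV (hC hh)) hx2 hcard
      (quotient_congr_of_eq _ V hCeq hOp')))


/-- Let G be a finite p-soluble group, P a Sylow p-subgroup of G and A a cyclic normal subgroup of P. If p is odd, or if no section of G is isomorphic to the symmetric group of degree 4, then A ≤ O_{p',p}(G). -/
theorem result {G : Type*} [Group G] [Finite G] {p : ℕ} [Fact p.Prime] (hG : Cfsg.IsPSolvable p G) (P : Sylow p G) (A : Subgroup G) (hAP : A ≤ (P : Subgroup G)) (hAn : (P : Subgroup G) ≤ Subgroup.normalizer (A : Set G)) (hA : IsCyclic A) (h : p ≠ 2 ∨ ¬ Cfsg.Involves (Equiv.Perm (Fin 4)) G) : A ≤ Cfsg.pPrimePCore p G := by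
  obtain ⟨a, ha⟩ := (Subgroup.isCyclic_iff_exists_zpowers_eq_top A).1 hA
  subst ha
  refine Subgroup.zpowers_le.2 ?_
  set N := Cfsg.pPrimeCore p G with hN
  show QuotientGroup.mk' N a ∈ Cfsg.pCore p (G ⧸ N)
  refine main (CfsgLib.PLocal.isPSolvable_quotient hG N)
    (CfsgLib.PLocal.pPrimeCore_quotient_pPrimeCore_eq_bot p G)
    (P.mapSurjective (QuotientGroup.mk'_surjective N)) _
    ⟨a, hAP (Subgroup.mem_zpowers a), rfl⟩ ?_
    (h.imp id fun h' hh => h' (CfsgLib.ConjFunctor.involves_trans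
      (CfsgLib.ConjFunctor.involves_quotient N) hh))
  rintro _ ⟨g, hg, rfl⟩
  obtain ⟨i, hi⟩ := (Subgroup.mem_normalizer_iff.1 (hAn hg) a).1 (Subgroup.mem_zpowers a)
  refine ⟨i, ?_⟩
  show QuotientGroup.mk' N a ^ i = _
  rw [← map_zpow, show a ^ i = g * a * g⁻¹ from hi, map_mul, map_mul, map_inv]

end Cfsg.Agent.S3788
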