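import Cfsg.Statements.S3789

import Cfsg.Agent.HallHigman.DerivedKill
import Cfsg.Agent.HallHigman.FrattiniNorm
import Cfsg.Agent.HallHigman.LengthBound

set_option autoImplicit false
open Cfsg

namespace Cfsg.Agent.S3789

universe u

set_option linter.style.haveILetI false

open Finset Module
open scoped commutatorElement

/-- The Frattini quotient of `O_p(G)` with the filtration coming from the derived series of a Sylow
subgroup. -/
theorem exists_filtration {G : Type u} [Group G] [Finite G] {p : ℕ} [hp : Fact p.Prime]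
    (hG : Cfsg.IsPSolvable p G) (hO : Cfsg.pPrimeCore p G = ⊥) (P : Sylow p G) (d : ℕ)
    (hd : derivedSeries (P : Subgroup G) (d + 1) = ⊥) :
    ∃ (m : ℕ) (ψ : G ⧸ Cfsg.pCore p G →* Module.End (AlgebraicClosure (ZMod p))
        (Fin m → AlgebraicClosure (ZMod p))), Function.Injective ψ ∧
      ∃ M : ℕ → Submodule (AlgebraicClosure (ZMod p)) (Fin m → AlgebraicClosure (ZMod p)),
        M 0 = ⊤ ∧
        (∀ j < d, ∀ x ∈ ((derivedSeries (P : Subgroup G) j).map (P : Subgroup G).subtype).map
          (QuotientGroup.mk' (Cfsg.pCore p G)), ∀ v ∈ M j, ψ x v - v ∈ M (j + 1)) ∧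
        (∀ x ∈ ((derivedSeries (P : Subgroup G) d).map (P : Subgroup G).subtype).map
          (QuotientGroup.mk' (Cfsg.pCore p G)), ∀ v ∈ M d, ψ x v = v) := by
  set O := Cfsg.pCore p G with hOdef
  have hOp : IsPGroup p O := CfsgLib.PLocal.isPGroup_pCore p G
  have hOP : O ≤ P := CfsgLib.PLocal.pCore_le_sylow P
  set F := frattini O with hF
  haveI hFn : F.Normal := by rw [hF]; infer_instance
  have hQ'F : commutator O ≤ F := CfsgLib.Solvable.commutator_le_frattini hOp
  letI : CommGroup (O ⧸ F) := { (inferInstance : Group (O ⧸ F)) with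
    mul_comm := fun a c => by
      induction a using QuotientGroup.induction_on with
      | H a =>
        induction c using QuotientGroup.induction_on with
        | H c =>
          show ((a * c : O) : O ⧸ F) = ((c * a : O) : O ⧸ F)
          rw [QuotientGroup.eq,
            show (a * c)⁻¹ * (c * a) = ⁅c⁻¹, a⁻¹⁆ by rw [commutatorElement_def]; group]
          exact hQ'F (Subgroup.commutator_mem_commutator (Subgroup.mem_top _) (Subgroup.mem_top _)) }
  have hexp : ∀ u : O ⧸ F, u ^ p = 1 := fun u => by
    induction u using QuotientGroup.induction_on with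
    | H u =>
      rw [← QuotientGroup.mk_pow, QuotientGroup.eq_one_iff]
      exact CfsgLib.Solvable.pow_mem_frattini hOp u
  have hmapF : ∀ f : MulAut O, F.map (f : O →* O) = F := fun f =>
    Subgroup.characteristic_iff_map_eq.1 (inferInstance : (frattini O).Characteristic) f
  let bar : MulAut O →* MulAut (O ⧸ F) :=
    { toFun := fun f => QuotientGroup.congr F F f (hmapF f)
      map_one' := by
        ext u
        induction u using QuotientGroup.induction_on
        simp
      map_mul' := fun f f' => by
        ext u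
        induction u using QuotientGroup.induction_on
        simp [MulAut.mul_apply] }
  let c : G →* MulAut (O ⧸ F) := bar.comp MulAut.conjNormal
  have hc : ∀ g (u : O), c g (u : O ⧸ F) = ((MulAut.conjNormal g u : O) : O ⧸ F) := fun g u => rfl
  have hker : ∀ g, c g = 1 ↔ g ∈ O := by
    intro g
    rw [← Cfsg.Agent.S4218.mem_pCore_iff hG hO g]
    constructor
    · intro h x hx
      have h1 : ((MulAut.conjNormal g ⟨x, hx⟩ : O) : O ⧸ F) = ((⟨x, hx⟩ : O) : O ⧸ F) := by
        rw [← hc, h, MulAut.one_apply]
      rw [eq_comm, QuotientGroup.eq] at h1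
      exact ⟨_, hFn.conj_mem _ h1 ⟨x, hx⟩, by
        show x * (x⁻¹ * (g * x * g⁻¹)) * x⁻¹ = _
        rw [mul_inv_cancel_left]⟩
    · intro h
      refine MulEquiv.ext fun u => ?_
      induction u using QuotientGroup.induction_on with
      | H u =>
        rw [hc, MulAut.one_apply, eq_comm, QuotientGroup.eq]
        obtain ⟨z, hz, hze⟩ := h u u.2
        have h2 := hFn.conj_mem z hz u⁻¹
        convert h2 using 1
        refine Subtype.ext ?_
        show (u : G)⁻¹ * (g * (u : G) * g⁻¹) = (u : G)⁻¹ * (O.subtype z) * (u : G)⁻¹⁻¹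
        rw [hze]
        group
  obtain ⟨m, Θ, hΘ⟩ := @CfsgLib.ShultGross.exists_end_embedding p _ (Additive (O ⧸ F)) _ _
    (AddCommGroup.zmodModule fun v : Additive (O ⧸ F) => hexp v.toMul)
  let toEnd : MulAut (O ⧸ F) →* AddMonoid.End (Additive (O ⧸ F)) :=
    { toFun := fun f => MonoidHom.toAdditive f.toMonoidHom
      map_one' := AddMonoidHom.ext fun _ => rfl
      map_mul' := fun _ _ => AddMonoidHom.ext fun _ => rfl }
  have hinj : Function.Injective (Θ.toMonoidHom.comp toEnd) := hΘ.comp fun f g h => by
    ext x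
    exact congrArg (fun k : AddMonoid.End (Additive (O ⧸ F)) =>
      Additive.toMul (k (Additive.ofMul x))) h
  let Dg : ℕ → Subgroup G := fun j =>
    (derivedSeries (P : Subgroup G) j).map (P : Subgroup G).subtype
  have hDg : ∀ j, ∀ x ∈ Dg j, ∀ y ∈ Dg j, ⁅x, y⁆ ∈ Dg (j + 1) := fun j x hx y hy => by
    have h := Subgroup.commutator_mem_commutator hx hy
    simp only [Dg] at h ⊢
    rwa [← Subgroup.map_commutator, ← derivedSeries_succ] at h
  let D : ℕ → Set (O ⧸ F) := fun j => {u | ∃ o : O, (o : G) ∈ Dg j ∧ (o : O ⧸ F) = u}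
  let M : ℕ → Submodule (AlgebraicClosure (ZMod p)) (Fin m → AlgebraicClosure (ZMod p)) := fun j =>
    ⨆ (T : AddMonoid.End (Additive (O ⧸ F))) (_ : ∀ a, Additive.toMul (T a) ∈ D j),
      LinearMap.range (Θ T)
  refine ⟨m, QuotientGroup.lift O ((Θ.toMonoidHom.comp toEnd).comp c) (fun g hg => by
    rw [MonoidHom.mem_ker, MonoidHom.comp_apply, (hker g).2 hg, map_one]), ?_, M, ?_, ?_, ?_⟩
  · intro a b h
    induction a using QuotientGroup.induction_on with
    | H a =>
      induction b using QuotientGroup.induction_on with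
      | H b =>
        have h1 : c a = c b := hinj h
        refine QuotientGroup.eq.2 ((hker _).1 ?_)
        rw [map_mul, map_inv, h1, inv_mul_cancel]
  · refine eq_top_iff.2 fun v _ => ?_
    refine le_iSup₂ (f := fun (T : AddMonoid.End (Additive (O ⧸ F)))
      (_ : ∀ a, Additive.toMul (T a) ∈ D 0) => LinearMap.range (Θ T)) 1 (fun a => ?_)
      ⟨v, by rw [map_one, Module.End.one_apply]⟩
    obtain ⟨o, ho⟩ := QuotientGroup.mk_surjective (Additive.toMul a)
    exact ⟨o, ⟨⟨(o : G), hOP o.2⟩, by simp [derivedSeries_zero], rfl⟩, ho⟩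
  · rintro j hj _ ⟨g, hg, rfl⟩ v hv
    have hle : M j ≤ (M (j + 1)).comap (Θ (toEnd (c g)) - 1) := iSup₂_le fun T hT => by
      rintro _ ⟨w, rfl⟩
      rw [Submodule.mem_comap, ← map_one Θ, ← map_sub, ← Module.End.mul_apply, ← map_mul]
      refine le_iSup₂ (f := fun (T : AddMonoid.End (Additive (O ⧸ F)))
        (_ : ∀ a, Additive.toMul (T a) ∈ D (j + 1)) => LinearMap.range (Θ T))
        ((toEnd (c g) - 1) * T) (fun a => ?_) ⟨w, rfl⟩
      obtain ⟨o, ho, hoe⟩ := hT a
      refine ⟨MulAut.conjNormal g o * o⁻¹, ?_, ?_⟩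
      · have h := hDg j g hg o ho
        rw [commutatorElement_def] at h
        simpa using h
      · show _ = c g (Additive.toMul (T a)) / Additive.toMul (T a)
        rw [← hoe, div_eq_mul_inv]
        rfl
    exact hle hv
  · rintro _ ⟨g, hg, rfl⟩ v hv
    have hle : M d ≤ LinearMap.ker (Θ (toEnd (c g)) - 1) := iSup₂_le fun T hT => by
      rintro _ ⟨w, rfl⟩
      have h0 : (toEnd (c g) - 1) * T = 0 := AddMonoidHom.ext fun a => by
        obtain ⟨o, ho, hoe⟩ := hT a
        show Additive.ofMul (c g (Additive.toMul (T a))) - T a = 0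
        have h := hDg d g hg o ho
        simp only [Dg, hd, Subgroup.map_bot, Subgroup.mem_bot] at h
        have h1 : MulAut.conjNormal g o = o := Subtype.ext (by
          rw [MulAut.conjNormal_apply, mul_inv_eq_iff_eq_mul]
          exact commutatorElement_eq_one_iff_mul_comm.1 h)
        rw [← hoe, hc, h1, hoe]
        exact sub_self (T a)
      rw [LinearMap.mem_ker, ← map_one Θ, ← map_sub, ← Module.End.mul_apply, ← map_mul, h0,
        map_zero, LinearMap.zero_apply]
    exact sub_eq_zero.1 (hle hv)

set_option maxHeartbeats 1000000 in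
theorem main {p : ℕ} [hp : Fact p.Prime] (hp2 : p ≠ 2) :
    ∀ (b : ℕ) {G : Type u} [Group G] [Finite G], Nat.card G ≤ b → Cfsg.IsPSolvable p G → ∀ d : ℕ,
    (∀ P : Sylow p G, derivedSeries (P : Subgroup G) d = ⊥) → Cfsg.PLengthLE p d G := by
  intro b
  induction b with
  | zero => intro G _ _ hc; exact absurd hc (Nat.not_le.2 Nat.card_pos)
  | succ b ih =>
    intro G _ _ hc hG d hd
    have hlt : ∀ (N : Subgroup G) [N.Normal], N ≠ ⊥ → Nat.card (G ⧸ N) ≤ b := by
      intro N _ hN
      have h1 := Subgroup.card_eq_card_quotient_mul_card_subgroup N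
      have h2 : 1 < Nat.card N := (Subgroup.one_lt_card_iff_ne_bot _).2 hN
      have h3 : 0 < Nat.card (G ⧸ N) := Nat.card_pos
      nlinarith
    have hser : ∀ (N : Subgroup G) [N.Normal] (P : Sylow p G) (j : ℕ),
        derivedSeries (P.mapSurjective (QuotientGroup.mk'_surjective N) : Subgroup (G ⧸ N)) j =
          (derivedSeries (P : Subgroup G) j).map
            ((QuotientGroup.mk' N).subgroupMap (P : Subgroup G)) := fun N _ P j =>
      (map_derivedSeries_eq (MonoidHom.subgroupMap_surjective _ _) j).symm
    by_cases hO : Cfsg.pPrimeCore p G = ⊥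
    swap
    · have h0 : Cfsg.PLengthLE p 0 (Cfsg.pPrimeCore p G) :=
        CfsgLib.PLength.pLengthLE_zero_iff.2 (CfsgLib.PLocal.coprime_card_pPrimeCore p G)
      simpa using CfsgLib.PLength.pLengthLE_extension _ h0
        (ih (hlt _ hO) (CfsgLib.PLocal.isPSolvable_quotient hG _) d fun Q => by
          obtain ⟨P, rfl⟩ := Sylow.mapSurjective_surjective (QuotientGroup.mk'_surjective _) p Q
          rw [hser, hd P, Subgroup.map_bot]
          rfl)
    rcases d with _ | d
    · rw [CfsgLib.PLength.pLengthLE_zero_iff, Nat.coprime_comm, hp.out.coprime_iff_not_dvd]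
      intro hdvd
      obtain ⟨P⟩ : Nonempty (Sylow p G) := inferInstance
      have h := hd P
      rw [derivedSeries_zero] at h
      obtain ⟨x, hx⟩ := exists_prime_orderOf_dvd_card' (G := (P : Subgroup G)) p
        (P.dvd_card_of_dvd_card hdvd)
      rw [show x = 1 from Subgroup.mem_bot.1 (h ▸ Subgroup.mem_top x), orderOf_one] at hx
      exact hp.out.ne_one hx.symm
    rcases subsingleton_or_nontrivial G with hs | hs
    · refine CfsgLib.PLength.pLengthLE_mono (Nat.zero_le _) ?_
      rw [CfsgLib.PLength.pLengthLE_zero_iff, Nat.card_eq_one_iff_unique.2 ⟨hs, inferInstance⟩]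
      exact Nat.coprime_one_left p
    have hOne : Cfsg.pCore p G ≠ ⊥ := by
      rcases CfsgLib.PLocal.pCore_ne_bot_or_of_isPSolvable hG with h | h
      · exact h
      · exact absurd hO h
    set H := G ⧸ Cfsg.pCore p G with hH
    have hHs : Cfsg.IsPSolvable p H := CfsgLib.PLocal.isPSolvable_quotient hG _
    have hH0 : Cfsg.pCore p H = ⊥ := CfsgLib.PLocal.pCore_quotient_pCore_eq_bot p G
    have hdH : ∀ Q : Sylow p H, derivedSeries (Q : Subgroup H) d = ⊥ := by
      intro Q
      obtain ⟨P, rfl⟩ := Sylow.mapSurjective_surjective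
        (QuotientGroup.mk'_surjective (Cfsg.pCore p G)) p Q
      obtain ⟨m, ψ, hψ, M, hM0, hstep, htop⟩ := exists_filtration hG hO P d (hd P)
      set Pb : Subgroup H :=
        (P.mapSurjective (QuotientGroup.mk'_surjective (Cfsg.pCore p G)) : Subgroup H) with hPb
      have hPp : IsPGroup p Pb := (P.mapSurjective _).isPGroup'
      have hmem : ∀ j, ∀ x ∈ derivedSeries Pb j, (x : H) ∈
          ((derivedSeries (P : Subgroup G) j).map (P : Subgroup G).subtype).map
            (QuotientGroup.mk' (Cfsg.pCore p G)) := by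
        intro j x hx
        replace hx := (hser _ P j).le hx
        obtain ⟨y, hy, rfl⟩ := hx
        exact ⟨(y : G), ⟨y, hy, rfl⟩, rfl⟩
      let π : Pb →* Module.End (AlgebraicClosure (ZMod p)) (Fin m → AlgebraicClosure (ZMod p)) :=
        ψ.comp Pb.subtype
      have hst : ∀ j < d, ∀ x ∈ derivedSeries Pb j, ∀ v ∈ M j, π x v - v ∈ M (j + 1) :=
        fun j hj x hx => hstep j hj _ (hmem j x hx)
      have htp : ∀ x ∈ derivedSeries Pb d, ∀ v ∈ M d, π x v = v :=
        fun x hx => htop _ (hmem d x hx)
      have hA := CfsgLib.HallHigman.sub_one_mem π M hM0 hst d le_rfl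
      have hsq : ∀ x ∈ derivedSeries Pb d, (π x - 1) ^ 2 = 0 := fun x hx => by
        rw [pow_two]
        refine LinearMap.ext fun v => ?_
        show π x (π x v - v) - (π x v - v) = 0
        rw [htp x hx _ (hA x hx v), sub_self]
      rw [Subgroup.eq_bot_iff_forall]
      intro x hx
      set N := Cfsg.pPrimeCore p H with hNdef
      haveI hNn : N.Normal := Cfsg.pPrimeCore_normal p H
      let φ : Pb →* MulAut N := (MulAut.conjNormal : H →* MulAut N).comp Pb.subtype
      have hNc : (Nat.card N).Coprime p := CfsgLib.PLocal.coprime_card_pPrimeCore p H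
      haveI := hPp.isNilpotent
      have hcop : (Nat.card Pb).Coprime (Nat.card N) := by
        obtain ⟨e, he⟩ := IsPGroup.iff_card.1 hPp
        rw [he]
        exact hNc.symm.pow_left e
      have hfix : ∀ q : ℕ, q.Prime → ∃ T : Sylow q N, ∀ t ∈ (T : Subgroup N), φ x t = t := by
        intro q hq
        haveI := Fact.mk hq
        obtain ⟨T, hT⟩ := CfsgLib.Coprime.exists_invariant_sylow_hom φ hcop (Or.inl inferInstance) q
        refine ⟨T, fun t ht => ?_⟩
        rcases eq_or_ne p q with rfl | hpq
        · have hb : (T : Subgroup N) = ⊥ := by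
            rw [← Subgroup.card_eq_one, T.card_eq_multiplicity,
              Nat.factorization_eq_zero_of_not_dvd
                (hp.out.coprime_iff_not_dvd.1 hNc.symm), pow_zero]
          rw [hb, Subgroup.mem_bot] at ht
          rw [ht, map_one]
        let ρ := CfsgLib.HallHigman.restrictAct φ (T : Subgroup N) hT
        let ι : (T : Subgroup N) →* H := N.subtype.comp (T : Subgroup N).subtype
        have hι : Function.Injective ι :=
          N.subtype_injective.comp (T : Subgroup N).subtype_injective
        have hcompat : ∀ (g : Pb) u, π g * (ψ.comp ι) u = (ψ.comp ι) (ρ g u) * π g := by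
          intro g u
          show ψ (g : H) * ψ (ι u) = ψ ((g : H) * (ι u) * (g : H)⁻¹) * ψ (g : H)
          rw [← map_mul, ← map_mul, inv_mul_cancel_right]
        have h : ρ x = 1 := by
          by_cases hex : p = 3 ∧ q = 2
          · obtain ⟨rfl, rfl⟩ := hex
            exact CfsgLib.HallHigman.derived_kill _ T.isPGroup' (ψ.comp ι) (hψ.comp hι) hPp ρ π
              hcompat d M le_rfl hM0 hst htp x hx
          · by_contra hne
            obtain ⟨t', ht'⟩ : ∃ t', ρ x t' ≠ t' := by
              by_contra! h
              exact hne (MulEquiv.ext h)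
            have hp3 : 3 ≤ p := by
              have := hp.out.two_le
              omega
            have hX : π x ^ p ^ 1 = 1 := by
              haveI : Nonempty (Fin m) := by
                by_contra he
                rw [not_nonempty_iff] at he
                exact ht' ((hψ.comp hι) (LinearMap.ext fun v => Subsingleton.elim _ _))
              haveI : CharP (Module.End (AlgebraicClosure (ZMod p))
                  (Fin m → AlgebraicClosure (ZMod p))) p :=
                charP_of_injective_algebraMap (algebraMap (AlgebraicClosure (ZMod p)) _).injective p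
              have h1 : (π x - 1) ^ p ^ 1 = 0 :=
                pow_eq_zero_of_le (by rw [pow_one]; omega) (hsq x hx)
              rwa [sub_pow_char_pow_of_commute p 1 (Commute.one_right _), one_pow, sub_eq_zero] at h1
            rcases CfsgLib.HallHigman.minimal_degree hpq _ (Q := (T : Subgroup N)) (m := 1) le_rfl
                le_rfl T.isPGroup' (ρ x) (ψ.comp ι) (hψ.comp hι) (π x) hX (fun u => hcompat x u)
                ⟨t', by simpa using ht'⟩ 2 (hsq x hx) with h | ⟨n₀, e, h1, h2, h3, h4, -, h6⟩
            · rw [pow_one] at h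
              omega
            · obtain rfl : n₀ = 1 := by omega
              rw [Nat.sub_self, pow_zero, one_mul, pow_one] at h6
              have hq2 := CfsgLib.HallHigman.exception_prime hp.out hp2 hq h1 h3 h4
              exact hex ⟨by omega, hq2⟩
        exact congrArg (fun f : MulAut (T : Subgroup N) => ((f ⟨t, ht⟩ : (T : Subgroup N)) : N)) h
      have hS : CfsgLib.HallHigman.fixSubgroup (φ x) = ⊤ := by
        refine Subgroup.eq_top_of_le_card _ (Nat.le_of_dvd Nat.card_pos ?_)
        refine (Nat.factorization_le_iff_dvd Nat.card_pos.ne' Nat.card_pos.ne').mp fun q => ?_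
        by_cases hq : q.Prime
        · haveI := Fact.mk hq
          obtain ⟨T, hT⟩ := hfix q hq
          refine (hq.pow_dvd_iff_le_factorization Nat.card_pos.ne').mp ?_
          rw [← T.card_eq_multiplicity]
          exact Subgroup.card_dvd_of_le fun z hz => hT z hz
        · simp [hq]
      have hxC : (x : H) ∈ Subgroup.centralizer (N : Set H) := by
        rw [Subgroup.mem_centralizer_iff]
        intro z hz
        have h1 : φ x ⟨z, hz⟩ = ⟨z, hz⟩ :=
          (show (⟨z, hz⟩ : N) ∈ CfsgLib.HallHigman.fixSubgroup (φ x) from hS ▸ Subgroup.mem_top _)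
        have h2 : (x : H) * z * (x : H)⁻¹ = z := congrArg Subtype.val h1
        exact (mul_inv_eq_iff_eq_mul.1 h2).symm
      have hxN := Cfsg.Agent.S3754.centralizer_pPrimeCore_le hHs hH0 hxC
      obtain ⟨i, hi⟩ := hPp x
      have hi' : (x : H) ^ p ^ i = 1 := congrArg Subtype.val hi
      refine Subtype.ext ?_
      rw [Subgroup.coe_one, ← orderOf_eq_one_iff]
      exact Nat.eq_one_of_dvd_coprimes (hNc.pow_right i) (N.orderOf_dvd_natCard hxN)
        (orderOf_dvd_of_pow_eq_one hi')
    have h1 := CfsgLib.PLength.pLengthLE_one_of_isPGroup (p := p)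
      (CfsgLib.PLocal.isPGroup_pCore p G)
    have h2 := ih (hlt _ hOne) hHs d hdH
    exact CfsgLib.PLength.pLengthLE_mono (by omega)
      (CfsgLib.PLength.pLengthLE_extension (Cfsg.pCore p G) h1 h2)


/-- Let p be an odd prime and G a finite p-soluble group whose Sylow p-subgroups have derived length at most d. Then G has p-length at most d. -/
theorem result {G : Type*} [Group G] [Finite G] {p : ℕ} [Fact p.Prime] (hp : p ≠ 2) (hG : Cfsg.IsPSolvable p G) (d : ℕ) (hd : ∀ P : Sylow p G, derivedSeries ↥(P : Subgroup G) d = ⊥) : Cfsg.PLengthLE p d G := by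
  exact main hp (Nat.card G) le_rfl hG d hd

end Cfsg.Agent.S3789
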