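import Cfsg.Statements.S3790

import Mathlib
import Cfsg.Agent.PLength.Basic

set_option autoImplicit false
open Cfsg

namespace Cfsg.Agent.S3790

open CfsgLib.PLength

universe u

theorem aux (p : ℕ) [hp : Fact p.Prime] (σ : Finset ℕ) :
    (∀ q ∈ σ, q.Prime ∧ q ≠ p) →
    ∀ {G : Type u} [Group G] [Finite G], ∀ l : ℕ → ℕ,
      (∀ s : ℕ, s.Prime → s ∣ Nat.card G → s ≠ p → s ∈ σ) →
      (∀ q ∈ σ, Cfsg.PLengthLE q (l q) G) →
      Cfsg.PLengthLE p (σ.prod fun q => 1 + l q) G := by
  induction σ using Finset.induction_on with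
  | empty =>
    intro _ G _ _ l hcov _
    rw [Finset.prod_empty]
    refine pLengthLE_one_of_isPGroup (IsPGroup.of_card (n := (Nat.card G).factorization p) ?_)
    refine Nat.eq_pow_of_factorization_eq_single Nat.card_pos.ne' ?_
    ext s
    by_cases hs : s = p
    · subst hs; simp
    · rw [Finsupp.single_eq_of_ne hs]
      by_contra hne
      exact Finset.notMem_empty s (hcov s (Nat.prime_of_mem_primeFactors
        (Finsupp.mem_support_iff.2 hne)) (Nat.dvd_of_mem_primeFactors
          (Finsupp.mem_support_iff.2 hne)) hs)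
  | @insert q σ' hq ih =>
    intro hσ G _ _ l hcov hl
    obtain ⟨hqp, hqne⟩ := hσ q (Finset.mem_insert_self _ _)
    have := Fact.mk hqp
    rw [Finset.prod_insert hq]
    -- `q'`-groups
    have base : ∀ {K : Type u} [Group K] [Finite K], (Nat.card K).Coprime q →
        Nat.card K ∣ Nat.card G →
        (∀ s ∈ σ', Cfsg.PLengthLE s (l s) K) →
        Cfsg.PLengthLE p (σ'.prod fun s => 1 + l s) K := by
      intro K _ _ hcop hdvd hlK
      refine ih (fun s hs => hσ s (Finset.mem_insert_of_mem hs)) l (fun s hs hsd hsp => ?_) hlK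
      refine (Finset.mem_insert.1 (hcov s hs (hsd.trans hdvd) hsp)).resolve_left ?_
      rintro rfl
      exact hs.ne_one (Nat.eq_one_of_dvd_coprimes hcop hsd dvd_rfl)
    suffices key : ∀ (m : ℕ) {K : Type u} [Group K] [Finite K], Nat.card K ∣ Nat.card G →
        (∀ s ∈ σ', Cfsg.PLengthLE s (l s) K) → Cfsg.PLengthLE q m K →
        Cfsg.PLengthLE p ((1 + m) * σ'.prod fun s => 1 + l s) K by
      exact key (l q) dvd_rfl (fun s hs => hl s (Finset.mem_insert_of_mem hs))
        (hl q (Finset.mem_insert_self _ _))
    intro m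
    induction m with
    | zero =>
      intro K _ _ hdvd hlK hm
      simpa using base (pLengthLE_zero_iff.1 hm) hdvd hlK
    | succ m ihm =>
      intro K _ _ hdvd hlK hm
      set U₁ := (Cfsg.upperPSeries q K 1).1 with hU₁
      set U₂ := (Cfsg.upperPSeries q K 2).1 with hU₂
      have hS := isPSeries_upperPSeries q K
      have hle : U₁ ≤ U₂ := hS.mono 1
      have h1 : Cfsg.PLengthLE p (σ'.prod fun s => 1 + l s) (U₁.subgroupOf U₂) := by
        have hd : Nat.card (U₁.subgroupOf U₂) ∣ Nat.card K :=
          (Subgroup.card_subgroup_dvd_card _).trans (Subgroup.card_subgroup_dvd_card U₂)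
        refine base ?_ (hd.trans hdvd) (fun s hs => ?_)
        · rw [Nat.card_congr (Subgroup.subgroupOfEquivOfLe hle).toEquiv]
          have h := hS.coprime 0 Even.zero
          simp only [hS.zero, zero_add, Subgroup.relIndex_bot_left] at h
          exact h
        · have := Fact.mk (hσ s (Finset.mem_insert_of_mem hs)).1
          exact pLengthLE_subgroup (pLengthLE_subgroup (hlK s hs) U₂) _
      have h2 : Cfsg.PLengthLE p 0 (U₂ ⧸ U₁.subgroupOf U₂) := by
        rw [pLengthLE_zero_iff, ← Subgroup.index_eq_card]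
        obtain ⟨j, hj⟩ := hS.ppow 1 (by decide)
        show (U₁.relIndex U₂).Coprime p
        rw [show U₁.relIndex U₂ = q ^ j from hj]
        exact Nat.Coprime.pow_left _ ((Nat.coprime_primes hqp hp.out).2 hqne)
      have hU : Cfsg.PLengthLE p (σ'.prod fun s => 1 + l s) U₂ := by
        simpa using pLengthLE_extension (U₁.subgroupOf U₂) h1 h2
      have hQ : Cfsg.PLengthLE p ((1 + m) * σ'.prod fun s => 1 + l s) (K ⧸ U₂) := by
        refine ihm ((Subgroup.card_quotient_dvd_card _).trans hdvd) (fun s hs => ?_)
          (pLengthLE_quotient_two hm)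
        have := Fact.mk (hσ s (Finset.mem_insert_of_mem hs)).1
        exact pLengthLE_quotient (hlK s hs) U₂
      exact pLengthLE_mono (by ring_nf; rfl) (pLengthLE_extension U₂ hU hQ)


/-- Let G be a finite solvable group and p a prime. Suppose p₁, …, p_r are distinct primes, all different from p, that include every prime dividing the order of G other than p, and that G has p_i-length at most l_i for each i. Then G has p-length at most the product of the numbers 1 + l_i. -/
theorem result {G : Type*} [Group G] [Finite G] (hG : Group.IsSolvable G) (p : ℕ) [Fact p.Prime] (r : ℕ) (q : Fin r → ℕ) (hq : ∀ i, (q i).Prime ∧ q i ≠ p) (hinj : Function.Injective q) (hcover : ∀ s : ℕ, s.Prime → s ∣ Nat.card G → s ≠ p → ∃ i, q i = s) (l : Fin r → ℕ) (hl : ∀ i, Cfsg.PLengthLE (q i) (l i) G) : Cfsg.PLengthLE p (Finset.univ.prod fun i => 1 + l i) G := by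
  classical
  let l' : ℕ → ℕ := Function.extend q l 0
  have hl' : ∀ i, l' (q i) = l i := fun i => hinj.extend_apply l 0 i
  have h := aux p (Finset.univ.image q) (fun s hs => by
      obtain ⟨i, -, rfl⟩ := Finset.mem_image.1 hs
      exact hq i) (G := G) l' (fun s hs hsd hsp => by
      obtain ⟨i, rfl⟩ := hcover s hs hsd hsp
      exact Finset.mem_image_of_mem q (Finset.mem_univ i)) (fun s hs => by
      obtain ⟨i, -, rfl⟩ := Finset.mem_image.1 hs
      rw [hl']
      exact hl i)
  rw [Finset.prod_image fun a _ b _ h => hinj h] at h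
  simpa only [hl'] using h

end Cfsg.Agent.S3790
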