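import Cfsg.Statements.S3791

import Mathlib
import Cfsg.Agent.PLength.Basic

set_option autoImplicit false
open Cfsg

namespace Cfsg.Agent.S3791

open CfsgLib.PLength

universe u

theorem aux {r : ℕ} (q : Fin r → ℕ) (hq : ∀ i, (q i).Prime) (d : Fin r → ℕ) (n : ℕ) :
    ∀ {G : Type u} [Group G] [Finite G] (l : Fin r → ℕ),
      Nat.card G + (Finset.univ.sum l) ≤ n →
      (∀ s : ℕ, s.Prime → s ∣ Nat.card G → ∃ i, q i = s) →
      (∀ i, ∀ P : Subgroup G, IsPGroup (q i) P → derivedSeries P (d i) = ⊥) →
      (∀ i, Cfsg.PLengthLE (q i) (l i) G) →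
      derivedSeries G (Finset.univ.sum fun i => d i * l i) = ⊥ := by
  induction n with
  | zero =>
    intro G _ _ l h
    have := Nat.card_pos (α := G)
    omega
  | succ n ih =>
    intro G _ _ l hn hcov hd hl
    by_cases hG : Subsingleton G
    · rw [eq_bot_iff]
      intro x _
      exact Subgroup.mem_bot.2 (Subsingleton.elim x 1)
    have : Nontrivial G := not_subsingleton_iff_nontrivial.1 hG
    -- the hypothesis on `p`-subgroups passes to quotients
    have hquot : ∀ (N : Subgroup G) [N.Normal] (i : Fin r), ∀ P : Subgroup (G ⧸ N),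
        IsPGroup (q i) P → derivedSeries P (d i) = ⊥ := by
      intro N _ i P hP
      have := Fact.mk (hq i)
      obtain ⟨S, hS⟩ := hP.exists_le_sylow
      obtain ⟨T⟩ : Nonempty (Sylow (q i) G) := inferInstance
      have hsurj := QuotientGroup.mk'_surjective N
      obtain ⟨g, hg⟩ := MulAction.exists_smul_eq (G ⧸ N) (T.mapSurjective hsurj) S
      obtain ⟨g', rfl⟩ := hsurj g
      have hSle : (S : Subgroup (G ⧸ N)) ≤
          ((g' • T : Sylow (q i) G) : Subgroup G).map (QuotientGroup.mk' N) := by
        rw [← hg]
        intro x hx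
        rw [Sylow.coe_subgroup_smul, Subgroup.mem_pointwise_smul_iff_inv_smul_mem,
          Sylow.coe_mapSurjective] at hx
        obtain ⟨t, ht, htx⟩ := hx
        refine ⟨g' * t * g'⁻¹, ?_, ?_⟩
        · rw [Sylow.coe_subgroup_smul]
          exact Subgroup.smul_mem_pointwise_smul t (MulAut.conj g') _ ht
        · rw [map_mul, map_mul, map_inv, htx]
          simp [MulAut.smul_def, mul_assoc]
      let T' : Subgroup G := (g' • T : Sylow (q i) G)
      have hT' := hd i T' (g' • T : Sylow (q i) G).2
      let f : T' →* T'.map (QuotientGroup.mk' N) := (QuotientGroup.mk' N).subgroupMap T'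
      have h1 : derivedSeries (T'.map (QuotientGroup.mk' N)) (d i) = ⊥ := by
        rw [← map_derivedSeries_eq (MonoidHom.subgroupMap_surjective _ T'), hT', Subgroup.map_bot]
      let ι : P →* T'.map (QuotientGroup.mk' N) := Subgroup.inclusion (hS.trans hSle)
      have h2 := map_derivedSeries_le_derivedSeries ι (d i)
      rw [h1, le_bot_iff, Subgroup.map_eq_bot_iff_of_injective _
        (Subgroup.inclusion_injective (hS.trans hSle))] at h2
      exact h2
    have hcovq : ∀ (N : Subgroup G) [N.Normal], ∀ s : ℕ, s.Prime → s ∣ Nat.card (G ⧸ N) →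
        ∃ i, q i = s := fun N _ s hs hsd => hcov s hs (hsd.trans (Subgroup.card_quotient_dvd_card N))
    set D := Finset.univ.sum fun i => d i * l i with hD
    by_cases hall : ∀ i, Cfsg.pPrimeCore (q i) G ≠ ⊥
    · rw [eq_bot_iff]
      intro x hx
      rw [Subgroup.mem_bot, ← orderOf_eq_one_iff]
      by_contra hne
      obtain ⟨s, hs, hsd⟩ := Nat.exists_prime_and_dvd hne
      obtain ⟨i, rfl⟩ := hcov s hs (hsd.trans (orderOf_dvd_natCard x))
      have := Fact.mk (hq i)
      set N := Cfsg.pPrimeCore (q i) G with hN
      have hlt : Nat.card (G ⧸ N) < Nat.card G := by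
        have h1 := N.card_eq_card_quotient_mul_card_subgroup
        have h2 : 1 < Nat.card N := N.one_lt_card_iff_ne_bot.2 (hall i)
        have h3 : 0 < Nat.card (G ⧸ N) := Nat.card_pos
        nlinarith
      have h := ih (G := G ⧸ N) l (by omega) (hcovq N) (hquot N) (fun j => by
        have := Fact.mk (hq j)
        exact pLengthLE_quotient (hl j) N)
      have hx' : QuotientGroup.mk' N x ∈ derivedSeries (G ⧸ N) D :=
        map_derivedSeries_le_derivedSeries (QuotientGroup.mk' N) D ⟨x, hx, rfl⟩
      rw [h, Subgroup.mem_bot] at hx'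
      have hxN : x ∈ N := (QuotientGroup.eq_one_iff x).1 hx'
      exact hs.ne_one (Nat.eq_one_of_dvd_coprimes (CfsgLib.PLocal.coprime_card_pPrimeCore (q i) G)
        (hsd.trans (N.orderOf_dvd_natCard hxN)) dvd_rfl)
    · push Not at hall
      obtain ⟨i, hi⟩ := hall
      have := Fact.mk (hq i)
      have hli : 1 ≤ l i := by
        by_contra h0
        have h := hl i
        rw [show l i = 0 by omega, pLengthLE_zero_iff] at h
        have hle := CfsgLib.PLocal.le_pPrimeCore (p := q i) (N := (⊤ : Subgroup G))
          (by rwa [Subgroup.card_top])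
        rw [hi] at hle
        exact top_ne_bot (le_bot_iff.1 hle)
      set l' := Function.update l i (l i - 1) with hl'
      set N := Cfsg.pCore (q i) G with hN
      have hlsum : Finset.univ.sum l' + 1 = Finset.univ.sum l := by
        rw [hl', Finset.sum_update_of_mem (Finset.mem_univ i)]
        rw [Finset.sum_eq_sum_sdiff_singleton_add (Finset.mem_univ i) l]
        omega
      have hDsum : (Finset.univ.sum fun j => d j * l' j) + d i = D := by
        have e : (fun j => d j * l' j) = Function.update (fun j => d j * l j) i (d i * (l i - 1)) := by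
          funext j
          by_cases hj : j = i
          · subst hj; simp [hl']
          · simp [hl', hj]
        rw [e, Finset.sum_update_of_mem (Finset.mem_univ i), hD,
          Finset.sum_eq_sum_sdiff_singleton_add (Finset.mem_univ i) (fun j => d j * l j)]
        have : d i * l i = d i * (l i - 1) + d i := by
          conv_lhs => rw [← Nat.sub_add_cancel hli, mul_add, mul_one]
        omega
      have hcard : Nat.card (G ⧸ N) ≤ Nat.card G :=
        Nat.le_of_dvd Nat.card_pos (Subgroup.card_quotient_dvd_card N)
      have h := ih (G := G ⧸ N) l' (by omega) (hcovq N) (hquot N) (fun j => by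
        have := Fact.mk (hq j)
        by_cases hj : j = i
        · subst hj
          rw [hl', Function.update_self]
          exact pLengthLE_quotient_pCore hi (by rw [Nat.sub_add_cancel hli]; exact hl j)
        · rw [hl', Function.update_of_ne hj]
          exact pLengthLE_quotient (hl j) N)
      rw [← hDsum]
      set a := Finset.univ.sum fun j => d j * l' j
      have hle : derivedSeries G a ≤ N := by
        intro x hx
        have hx' : QuotientGroup.mk' N x ∈ derivedSeries (G ⧸ N) a :=
          map_derivedSeries_le_derivedSeries (QuotientGroup.mk' N) a ⟨x, hx, rfl⟩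
        rw [h, Subgroup.mem_bot] at hx'
        exact (QuotientGroup.eq_one_iff x).1 hx'
      have hd' := hd i N (CfsgLib.PLocal.isPGroup_pCore (q i) G)
      have key : ∀ k, derivedSeries G (a + k) ≤ (derivedSeries N k).map N.subtype := by
        intro k
        induction k with
        | zero =>
          rw [derivedSeries_zero, ← MonoidHom.range_eq_map, Subgroup.range_subtype]
          exact hle
        | succ k ihk =>
          show ⁅derivedSeries G (a + k), derivedSeries G (a + k)⁆ ≤ _
          rw [derivedSeries_succ, Subgroup.map_commutator]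
          exact Subgroup.commutator_mono ihk ihk
      have h3 := key (d i)
      rw [hd', Subgroup.map_bot, le_bot_iff] at h3
      exact h3


/-- The Hall–Higman bound on derived length: let G be a finite solvable group, let p₁, …, p_r be distinct primes that include every prime dividing the order of G, and suppose that for each i the Sylow p_i-subgroups of G have derived length at most d_i and G has p_i-length at most l_i. Then G has derived length at most Σ d_i l_i. -/
theorem result {G : Type*} [Group G] [Finite G] (hG : Group.IsSolvable G) (r : ℕ) (q : Fin r → ℕ) (hq : ∀ i, (q i).Prime) (hinj : Function.Injective q) (hcover : ∀ s : ℕ, s.Prime → s ∣ Nat.card G → ∃ i, q i = s) (d l : Fin r → ℕ) (hd : ∀ i, ∀ P : Subgroup G, (haveI := Fact.mk (hq i); ∃ S : Sylow (q i) G, (S : Subgroup G) = P) → derivedSeries ↥P (d i) = ⊥) (hl : ∀ i, Cfsg.PLengthLE (q i) (l i) G) : derivedSeries G (Finset.univ.sum fun i => d i * l i) = ⊥ := by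
  refine aux q hq d (Nat.card G + Finset.univ.sum l) l le_rfl hcover (fun i P hP => ?_) hl
  have := Fact.mk (hq i)
  obtain ⟨S, hS⟩ := hP.exists_le_sylow
  have hS' := hd i S ⟨S, rfl⟩
  have h2 := map_derivedSeries_le_derivedSeries (Subgroup.inclusion hS) (d i)
  rw [hS', le_bot_iff, Subgroup.map_eq_bot_iff_of_injective _
    (Subgroup.inclusion_injective hS)] at h2
  exact h2

end Cfsg.Agent.S3791
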