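import Mathlib

set_option autoImplicit false

namespace Cfsg.Agent.S3794

universe u

section Basic

variable {G : Type*} [Group G]

lemma fpf_injective {σ : MulAut G} (hfpf : ∀ g : G, σ g = g → g = 1) :
    Function.Injective (fun g : G => g⁻¹ * σ g) := by
  intro a b hab
  simp only at hab
  have h1 : σ (b * a⁻¹) = b * a⁻¹ := by
    rw [map_mul, map_inv]
    have : σ b = b * (a⁻¹ * σ a) := by rw [hab]; group
    rw [this]; group
  exact (mul_inv_eq_one.1 (hfpf _ h1)).symm

lemma fpf_surj_on [Finite G] {σ : MulAut G} (hfpf : ∀ g : G, σ g = g → g = 1)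
    (A : Subgroup G) (hA : ∀ a ∈ A, σ a ∈ A) {w : G} (hw : w ∈ A) :
    ∃ a ∈ A, a⁻¹ * σ a = w := by
  have hinj : Function.Injective
      (fun a : A => (⟨(a : G)⁻¹ * σ a, mul_mem (inv_mem a.2) (hA _ a.2)⟩ : A)) := by
    intro a b hab
    exact Subtype.ext (fpf_injective hfpf (congrArg Subtype.val hab))
  obtain ⟨a, ha⟩ := (Finite.injective_iff_surjective.1 hinj) ⟨w, hw⟩
  exact ⟨a, a.2, congrArg Subtype.val ha⟩

lemma inv_closed [Finite G] {σ : MulAut G} (A : Subgroup G) (hA : ∀ a ∈ A, σ a ∈ A) {a : G}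
    (ha : a ∈ A) : σ.symm a ∈ A := by
  have hinj : Function.Injective (fun x : A => (⟨σ x, hA _ x.2⟩ : A)) := by
    intro x y hxy
    exact Subtype.ext (σ.injective (congrArg Subtype.val hxy))
  obtain ⟨x, hx⟩ := (Finite.injective_iff_surjective.1 hinj) ⟨a, ha⟩
  have : σ x = a := congrArg Subtype.val hx
  rw [← this]
  simp

lemma odd_of_fpf [Finite G] {σ : MulAut G} (hσ : σ ^ 4 = 1)
    (hfpf : ∀ g : G, σ g = g → g = 1) : Odd (Nat.card G) := by
  have hP : IsPGroup 2 (Subgroup.zpowers σ) := by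
    intro x
    refine ⟨2, ?_⟩
    apply Subtype.ext
    obtain ⟨k, hk⟩ := Subgroup.mem_zpowers_iff.1 x.2
    simp only [SubgroupClass.coe_pow, OneMemClass.coe_one]
    rw [← hk, ← zpow_natCast, ← zpow_mul, mul_comm, zpow_mul, zpow_natCast]
    norm_num [hσ]
  have := Fact.mk Nat.prime_two
  have hmod := hP.card_modEq_card_fixedPoints G
  have hone : MulAction.fixedPoints (Subgroup.zpowers σ) G = {1} := by
    ext g
    constructor
    · intro hg
      exact hfpf g (hg ⟨σ, Subgroup.mem_zpowers σ⟩)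
    · intro hg x
      rw [Set.mem_singleton_iff] at hg
      subst hg
      exact map_one (x : MulAut G)
  rw [hone] at hmod
  simp [Nat.ModEq] at hmod
  exact Nat.odd_iff.2 hmod

lemma quotient_fpf [Finite G] {σ : MulAut G} (hfpf : ∀ g : G, σ g = g → g = 1)
    (N : Subgroup G) [N.Normal] (hN : ∀ a ∈ N, σ a ∈ N) (g : G)
    (hg : g⁻¹ * σ g ∈ N) : g ∈ N := by
  obtain ⟨m, hm, he⟩ := fpf_surj_on hfpf N hN hg
  exact fpf_injective hfpf he ▸ hm

lemma sq_eq_one [Finite G] (hodd : Odd (Nat.card G)) {x : G} (hx : x * x = 1) : x = 1 := by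
  have h2 : orderOf x ∣ 2 := orderOf_dvd_of_pow_eq_one (by rw [pow_two]; exact hx)
  rcases (Nat.dvd_prime Nat.prime_two).1 h2 with h | h
  · exact orderOf_eq_one_iff.1 h
  · have : 2 ∣ Nat.card G := h ▸ orderOf_dvd_natCard x
    exact absurd (even_iff_two_dvd.2 this) (Nat.not_even_iff_odd.2 hodd)

end Basic

/-- Four-term elimination: an operator `s` with `1 + s + s² + s³ = 0` normalizing a commutative
family forces `(ψ w - 1)³ = 0`. -/
lemma cube_zero {H R : Type*} [Group H] [Finite H] [Ring R] (ψ : H →* R) (s : R) (σ : MulAut H)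
    (hfpf : ∀ h : H, σ h = h → h = 1) (hσ : σ ^ 4 = 1)
    (hs : 1 + s + s * s + s * s * s = 0) (hcomp : ∀ h : H, s * ψ h = ψ (σ h) * s)
    (A : Subgroup H) (hA : ∀ a ∈ A, σ a ∈ A) (hcomm : ∀ a ∈ A, ∀ b ∈ A, a * b = b * a)
    {a : H} (ha : a ∈ A) : (ψ (a⁻¹ * σ (σ a)) - 1) ^ 3 = 0 := by
  have hσ4 : ∀ h, σ (σ (σ (σ h))) = h := fun h => by
    have := congrArg (fun f : MulAut H => f h) hσ
    simpa [pow_succ, MulAut.mul_apply] using this
  set w := a⁻¹ * σ (σ a) with hw
  have hwA : w ∈ A := mul_mem (inv_mem ha) (hA _ (hA _ ha))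
  obtain ⟨d, hdA, hd⟩ := fpf_surj_on hfpf A hA hwA
  have hfpf3 : ∀ h : H, σ.symm h = h → h = 1 := fun h hh =>
    hfpf h (by conv_lhs => rw [← hh]
               simp)
  obtain ⟨c, hcA, hc⟩ := fpf_surj_on hfpf3 A (fun x hx => inv_closed A hA hx) hwA
  have hsymm : σ.symm c = σ (σ (σ c)) := by
    apply σ.injective
    rw [hσ4]
    simp
  rw [hsymm] at hc
  -- the twisted equations
  have hE : ∀ b : H, ψ b + ψ (σ b) * s + ψ (σ (σ b)) * (s * s)
      + ψ (σ (σ (σ b))) * (s * s * s) = 0 := by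
    intro b
    have e1 : s * ψ b = ψ (σ b) * s := hcomp b
    have e2 : s * s * ψ b = ψ (σ (σ b)) * (s * s) := by
      rw [mul_assoc, e1, ← mul_assoc, hcomp (σ b), mul_assoc]
    have e3 : s * s * s * ψ b = ψ (σ (σ (σ b))) * (s * s * s) := by
      rw [mul_assoc (s * s) s, e1, ← mul_assoc, mul_assoc s s, ← mul_assoc]
      rw [mul_assoc s s (ψ (σ b)), hcomp (σ b), ← mul_assoc, hcomp, mul_assoc, mul_assoc,
        mul_assoc]
    calc _ = (1 + s + s * s + s * s * s) * ψ b := by
          rw [add_mul, add_mul, add_mul, one_mul, e1, e2, e3]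
      _ = 0 := by rw [hs, zero_mul]
  have hψc : ∀ x ∈ A, ∀ y ∈ A, ψ x * ψ y = ψ y * ψ x := fun x hx y hy => by
    rw [← map_mul, ← map_mul, hcomm x hx y hy]
  have hE2 : ∀ b ∈ A, (ψ (σ (σ (σ c))) - ψ c) * ψ b
      + (ψ (σ (σ (σ c))) - ψ (σ c)) * ψ (σ b) * s
      + (ψ (σ (σ (σ c))) - ψ (σ (σ c))) * ψ (σ (σ b)) * (s * s) = 0 := by
    intro b _
    have h1 := hE b
    have h2 := hE (c * b)
    simp only [map_mul] at h2
    have h3 : ψ (σ (σ (σ c))) * (ψ b + ψ (σ b) * s + ψ (σ (σ b)) * (s * s)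
      + ψ (σ (σ (σ b))) * (s * s * s)) - (ψ c * ψ b + ψ (σ c) * ψ (σ b) * s
      + ψ (σ (σ c)) * ψ (σ (σ b)) * (s * s)
      + ψ (σ (σ (σ c))) * ψ (σ (σ (σ b))) * (s * s * s)) = 0 := by
      rw [h1, h2, mul_zero, sub_zero]
    rw [← h3]
    noncomm_ring
  have hE3 : ∀ b ∈ A, (ψ (σ (σ a)) - ψ a) * (ψ (σ (σ (σ c))) - ψ c) * ψ b
      + (ψ (σ (σ a)) - ψ (σ a)) * (ψ (σ (σ (σ c))) - ψ (σ c)) * ψ (σ b) * s = 0 := by
    intro b hb
    have h1 := hE2 b hb
    have h2 := hE2 (a * b) (mul_mem ha hb)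
    simp only [map_mul] at h2
    have c1 : Commute (ψ a) (ψ (σ (σ (σ c))) - ψ c) :=
      Commute.sub_right (hψc a ha _ (hA _ (hA _ (hA _ hcA)))) (hψc a ha c hcA)
    have c2 : Commute (ψ (σ a)) (ψ (σ (σ (σ c))) - ψ (σ c)) :=
      Commute.sub_right (hψc _ (hA _ ha) _ (hA _ (hA _ (hA _ hcA))))
        (hψc _ (hA _ ha) _ (hA _ hcA))
    have c3 : Commute (ψ (σ (σ a))) (ψ (σ (σ (σ c))) - ψ (σ (σ c))) :=
      Commute.sub_right (hψc _ (hA _ (hA _ ha)) _ (hA _ (hA _ (hA _ hcA))))
        (hψc _ (hA _ (hA _ ha)) _ (hA _ (hA _ hcA)))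
    rw [← mul_assoc (_ - _) (ψ a), ← mul_assoc (_ - _) (ψ (σ a)),
      ← mul_assoc (_ - _) (ψ (σ (σ a))), ← c1.eq, ← c2.eq, ← c3.eq] at h2
    have h3 : ψ (σ (σ a)) * ((ψ (σ (σ (σ c))) - ψ c) * ψ b
      + (ψ (σ (σ (σ c))) - ψ (σ c)) * ψ (σ b) * s
      + (ψ (σ (σ (σ c))) - ψ (σ (σ c))) * ψ (σ (σ b)) * (s * s))
      - (ψ a * (ψ (σ (σ (σ c))) - ψ c) * ψ b
      + ψ (σ a) * (ψ (σ (σ (σ c))) - ψ (σ c)) * ψ (σ b) * s
      + ψ (σ (σ a)) * (ψ (σ (σ (σ c))) - ψ (σ (σ c))) * ψ (σ (σ b)) * (s * s)) = 0 := by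
      rw [h1, h2, mul_zero, sub_zero]
    rw [← h3]
    noncomm_ring
  have h1 := hE3 1 (one_mem A)
  have h2 := hE3 d hdA
  simp only [map_one, mul_one] at h1
  have cd : Commute (ψ (σ d)) ((ψ (σ (σ a)) - ψ (σ a)) * (ψ (σ (σ (σ c))) - ψ (σ c))) := by
    have hd' := hA _ hdA
    exact Commute.mul_right
      (Commute.sub_right (hψc _ hd' _ (hA _ (hA _ ha))) (hψc _ hd' _ (hA _ ha)))
      (Commute.sub_right (hψc _ hd' _ (hA _ (hA _ (hA _ hcA)))) (hψc _ hd' _ (hA _ hcA)))
  have cd' : Commute (ψ d) ((ψ (σ (σ a)) - ψ a) * (ψ (σ (σ (σ c))) - ψ c)) :=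
    Commute.mul_right
      (Commute.sub_right (hψc _ hdA _ (hA _ (hA _ ha))) (hψc _ hdA _ ha))
      (Commute.sub_right (hψc _ hdA _ (hA _ (hA _ (hA _ hcA)))) (hψc _ hdA _ hcA))
  rw [← cd.eq, ← cd'.eq] at h2
  have h3 : (ψ (σ d) - ψ d) * ((ψ (σ (σ a)) - ψ a) * (ψ (σ (σ (σ c))) - ψ c)) = 0 := by
    have : ψ (σ d) * ((ψ (σ (σ a)) - ψ a) * (ψ (σ (σ (σ c))) - ψ c)
      + (ψ (σ (σ a)) - ψ (σ a)) * (ψ (σ (σ (σ c))) - ψ (σ c)) * s)
      - (ψ d * ((ψ (σ (σ a)) - ψ a) * (ψ (σ (σ (σ c))) - ψ c))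
      + ψ (σ d) * ((ψ (σ (σ a)) - ψ (σ a)) * (ψ (σ (σ (σ c))) - ψ (σ c))) * s) = 0 := by
      rw [h1, h2, mul_zero, sub_zero]
    rw [← this]
    noncomm_ring
  -- every difference is an invertible multiple of `ψ w - 1`
  have ed : ψ (σ d) - ψ d = ψ d * (ψ w - 1) := by
    rw [mul_sub, mul_one, ← map_mul, ← hd, mul_inv_cancel_left]
  have ec : ψ (σ (σ (σ c))) - ψ c = ψ c * (ψ w - 1) := by
    rw [mul_sub, mul_one, ← map_mul, ← hc, mul_inv_cancel_left]
  have ea : ψ (σ (σ a)) - ψ a = ψ a * (ψ w - 1) := by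
    rw [mul_sub, mul_one, ← map_mul, hw, mul_inv_cancel_left]
  rw [ed, ec, ea] at h3
  have k : ∀ x ∈ A, Commute (ψ x) (ψ w - 1) := fun x hx =>
    Commute.sub_right (hψc x hx w hwA) (Commute.one_right _)
  have h4 : ψ (d * a * c) * (ψ w - 1) ^ 3 = 0 := by
    rw [map_mul, map_mul, ← h3]
    have k1 : (ψ w - 1) * ψ a = ψ a * (ψ w - 1) := (k a ha).eq.symm
    have k2 : (ψ w - 1) * ψ c = ψ c * (ψ w - 1) := (k c hcA).eq.symm
    symm
    calc ψ d * (ψ w - 1) * (ψ a * (ψ w - 1) * (ψ c * (ψ w - 1)))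
        = ψ d * (((ψ w - 1) * ψ a) * (((ψ w - 1) * ψ c) * (ψ w - 1))) := by noncomm_ring
      _ = ψ d * ((ψ a * (ψ w - 1)) * ((ψ c * (ψ w - 1)) * (ψ w - 1))) := by rw [k1, k2]
      _ = ψ d * (ψ a * (((ψ w - 1) * ψ c) * ((ψ w - 1) * (ψ w - 1)))) := by noncomm_ring
      _ = ψ d * (ψ a * ((ψ c * (ψ w - 1)) * ((ψ w - 1) * (ψ w - 1)))) := by rw [k2]
      _ = ψ d * ψ a * ψ c * (ψ w - 1) ^ 3 := by noncomm_ring
  calc (ψ w - 1) ^ 3 = ψ (d * a * c)⁻¹ * (ψ (d * a * c) * (ψ w - 1) ^ 3) := by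
        rw [← mul_assoc, ← map_mul, inv_mul_cancel, map_one, one_mul]
    _ = 0 := by rw [h4, mul_zero]

/-- The module step: an irreducible faithful configuration forces `H` to be abelian. -/
lemma module_step {H V : Type*} [Group H] [Finite H] [CommGroup V] [Finite V] [Nontrivial V]
    {r : ℕ} [hr : Fact r.Prime] (hr2 : r ≠ 2) (hV : ∀ v : V, v ^ r = 1)
    (φ : H →* MulAut V) (hφ : Function.Injective φ)
    (σ : MulAut H) (hfpf : ∀ h : H, σ h = h → h = 1) (hσ : σ ^ 4 = 1)
    (S : MulAut V) (hSfpf : ∀ v, S v = v → v = 1) (hS : ∀ v, S (S (S (S v))) = v)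
    (hcomp : ∀ h v, S (φ h v) = φ (σ h) (S v))
    (hirr : ∀ W : Subgroup V, (∀ w ∈ W, S w ∈ W) → (∀ h : H, ∀ w ∈ W, φ h w ∈ W) →
      W ≠ ⊥ → W = ⊤)
    (hnil : Group.IsNilpotent (commutator H)) : ∀ a b : H, a * b = b * a := by
  have hodd : Odd (Nat.card H) := odd_of_fpf hσ hfpf
  have : Group.IsSolvable H := Group.isSolvable_of_ker_le_range (commutator H).subtype
    (Abelianization.of (G := H)) (by rw [Abelianization.ker_of, Subgroup.range_subtype])
  let R := AddMonoid.End (Additive V)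
  let ψ : H →* R :=
    { toFun := fun h => MonoidHom.toAdditive (φ h).toMonoidHom
      map_one' := AddMonoidHom.ext fun v => by
        show Additive.ofMul (φ 1 v.toMul) = v
        rw [map_one]
        rfl
      map_mul' := fun x y => AddMonoidHom.ext fun v => by
        show Additive.ofMul (φ (x * y) v.toMul) = Additive.ofMul (φ x (φ y v.toMul))
        rw [map_mul]
        rfl }
  let s : R := MonoidHom.toAdditive S.toMonoidHom
  have hψ : Function.Injective ψ := by
    intro x y hxy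
    apply hφ
    ext v
    exact congrArg (fun f : R => (Additive.toMul (f (Additive.ofMul v)))) hxy
  have hs : 1 + s + s * s + s * s * s = 0 := by
    refine AddMonoidHom.ext fun v => ?_
    change Additive.ofMul (v.toMul * S v.toMul * S (S v.toMul) * S (S (S v.toMul))) = 0
    have : S (v.toMul * S v.toMul * S (S v.toMul) * S (S (S v.toMul))) =
        v.toMul * S v.toMul * S (S v.toMul) * S (S (S v.toMul)) := by
      rw [map_mul, map_mul, map_mul, hS, mul_comm _ v.toMul, ← mul_assoc, ← mul_assoc]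
    rw [hSfpf _ this]
    rfl
  have hsc : ∀ h, s * ψ h = ψ (σ h) * s := fun h =>
    AddMonoidHom.ext fun v => congrArg Additive.ofMul (hcomp h v.toMul)
  -- `r`-subgroups which are normal and invariant are trivial
  have hcore : ∀ P : Subgroup H, (∀ g : H, ∀ x ∈ P, g * x * g⁻¹ ∈ P) → (∀ x ∈ P, σ x ∈ P) →
      IsPGroup r P → P = ⊥ := by
    intro P hPn hPs hP
    let : MulAction P V := MulAction.compHom V (φ.comp P.subtype)
    have hdvd : r ∣ Nat.card V := by
      obtain ⟨v, hv⟩ := exists_ne (1 : V)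
      exact orderOf_eq_prime (hV v) hv ▸ orderOf_dvd_natCard v
    have hone : (1 : V) ∈ MulAction.fixedPoints P V := fun x => map_one (φ x)
    obtain ⟨v, hv, hv1⟩ := hP.exists_fixed_point_of_prime_dvd_card_of_fixed_point V hdvd hone
    let W : Subgroup V :=
      { carrier := {w | ∀ x ∈ P, φ x w = w}
        one_mem' := fun x _ => map_one _
        mul_mem' := fun {a b} ha hb x hx => by rw [map_mul, ha x hx, hb x hx]
        inv_mem' := fun {a} ha x hx => by rw [map_inv, ha x hx] }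
    have hWbot : W ≠ ⊥ := by
      intro hW
      have : v ∈ W := fun x hx => hv ⟨x, hx⟩
      rw [hW, Subgroup.mem_bot] at this
      exact hv1 this.symm
    have hWS : ∀ w ∈ W, S w ∈ W := by
      intro w hw x hx
      obtain ⟨y, hy⟩ := σ.surjective x
      have hy' : y ∈ P := by
        have := inv_closed P hPs hx
        rwa [← hy, MulEquiv.symm_apply_apply] at this
      rw [← hy, ← hcomp, hw y hy']
    have hWH : ∀ h : H, ∀ w ∈ W, φ h w ∈ W := by
      intro h w hw x hx
      have h1 : x * h = h * (h⁻¹ * x * h⁻¹⁻¹) := by group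
      rw [← MulAut.mul_apply, ← map_mul, h1, map_mul, MulAut.mul_apply, hw _ (hPn h⁻¹ x hx)]
    have htop := hirr W hWS hWH hWbot
    rw [Subgroup.eq_bot_iff_forall]
    intro x hx
    apply hφ
    ext w
    have hw : w ∈ W := htop ▸ Subgroup.mem_top w
    rw [map_one, MulAut.one_apply]
    exact hw x hx
  have hnilcore : ∀ Q : Subgroup H, Group.IsNilpotent Q → (∀ g : H, ∀ x ∈ Q, g * x * g⁻¹ ∈ Q) →
      (∀ x ∈ Q, σ x ∈ Q) → (Nat.card Q).Coprime r := by
    intro Q hQ hQn hQs
    obtain ⟨P₀⟩ : Nonempty (Sylow r Q) := inferInstance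
    have hP0n : (P₀ : Subgroup Q).Normal :=
      inferInstance
    have := Sylow.unique_of_normal P₀ hP0n
    have hmem : ∀ x : Q, x ∈ (P₀ : Subgroup Q) ↔ ∃ k, (x : H) ^ r ^ k = 1 := by
      intro x
      constructor
      · intro hx
        obtain ⟨k, hk⟩ := P₀.2 ⟨x, hx⟩
        exact ⟨k, congrArg (fun z : P₀ => ((z : Q) : H)) hk⟩
      · rintro ⟨k, hk⟩
        have hzp : IsPGroup r (Subgroup.zpowers x) := by
          intro y
          obtain ⟨j, hj⟩ := Subgroup.mem_zpowers_iff.1 y.2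
          refine ⟨k, Subtype.ext ?_⟩
          have hk' : x ^ r ^ k = 1 := Subtype.ext (by simpa using hk)
          simp only [SubgroupClass.coe_pow, OneMemClass.coe_one]
          rw [← hj, ← zpow_natCast, ← zpow_mul, mul_comm, zpow_mul, zpow_natCast, hk', one_zpow]
        obtain ⟨P', hP'⟩ := hzp.exists_le_sylow
        rw [Subsingleton.elim P₀ P']
        exact hP' (Subgroup.mem_zpowers x)
    have hbot := hcore ((P₀ : Subgroup Q).map Q.subtype) ?_ ?_ (P₀.2.map _)
    · rw [Subgroup.map_eq_bot_iff_of_injective _ Q.subtype_injective] at hbot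
      rcases (Nat.coprime_or_dvd_of_prime hr.out (Nat.card Q)) with h | h
      · exact h.symm
      · exact absurd hbot (P₀.ne_bot_of_dvd_card h)
    · rintro g _ ⟨x, hx, rfl⟩
      obtain ⟨k, hk⟩ := (hmem x).1 hx
      refine ⟨⟨g * x * g⁻¹, hQn g x x.2⟩, (hmem _).2 ⟨k, ?_⟩, rfl⟩
      show (g * (x : H) * g⁻¹) ^ r ^ k = 1
      rw [conj_pow, hk, mul_one, mul_inv_cancel]
    · rintro _ ⟨x, hx, rfl⟩
      obtain ⟨k, hk⟩ := (hmem x).1 hx
      refine ⟨⟨σ x, hQs x x.2⟩, (hmem _).2 ⟨k, ?_⟩, rfl⟩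
      show (σ (x : H)) ^ r ^ k = 1
      rw [← map_pow, hk, map_one]
  -- invariant nilpotent `r'`-subgroups are centralized by `σ²`
  have hgen : ∀ (n : ℕ) (Q : Subgroup H), Nat.card Q ≤ n → Group.IsNilpotent Q →
      (∀ x ∈ Q, σ x ∈ Q) → (Nat.card Q).Coprime r → ∀ x ∈ Q, σ (σ x) = x := by
    intro n
    induction n with
    | zero =>
      intro Q hQ
      exact absurd hQ (Nat.not_le.2 Nat.card_pos)
    | succ n ih =>
      intro Q hcard hQ hQs hQr
      by_cases hQb : Q = ⊥
      · intro x hx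
        rw [hQb, Subgroup.mem_bot] at hx
        simp [hx]
      have : Group.IsSolvable Q := inferInstance
      have hlt : ⁅Q, Q⁆ < Q := Group.IsSolvable.commutator_lt_of_ne_bot hQb
      have hD : ∀ k ∈ ⁅Q, Q⁆, σ k ∈ ⁅Q, Q⁆ := by
        have hmap : ⁅Q, Q⁆.map σ.toMonoidHom ≤ ⁅Q, Q⁆ := by
          rw [Subgroup.map_commutator]
          have : Q.map σ.toMonoidHom ≤ Q := by
            rintro _ ⟨x, hx, rfl⟩
            exact hQs x hx
          exact Subgroup.commutator_mono this this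
        exact fun k hk => hmap ⟨k, hk, rfl⟩
      have hDnil : Group.IsNilpotent (⁅Q, Q⁆ : Subgroup H) :=
        Group.nilpotent_of_mulEquiv (Subgroup.subgroupOfEquivOfLe hlt.le)
      have hDcard : Nat.card (⁅Q, Q⁆ : Subgroup H) ≤ n := by
        have : Nat.card (⁅Q, Q⁆ : Subgroup H) < Nat.card Q :=
          lt_of_le_of_ne (Subgroup.card_le_of_le hlt.le)
            (fun he => hlt.ne (Subgroup.eq_of_le_of_card_ge hlt.le he.ge))
        omega
      have hfix := ih _ hDcard hDnil hD
        (Nat.Coprime.coprime_dvd_left (Subgroup.card_dvd_of_le hlt.le) hQr)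
      intro g hg
      set x := g⁻¹ * σ (σ g) with hxdef
      suffices x = 1 by
        rw [hxdef, inv_mul_eq_one] at this
        exact this.symm
      have hcen : ∀ u ∈ Q, ∀ k ∈ ⁅Q, Q⁆, (u⁻¹ * σ (σ u)) * k = k * (u⁻¹ * σ (σ u)) := by
        intro u hu k hk
        have hk' : u * k * u⁻¹ ∈ ⁅Q, Q⁆ :=
          (Subgroup.mem_normalizer_iff.1
            ((Subgroup.le_normalizer_iff_commutator_le_left.2 (Subgroup.commutator_mono hlt.le le_rfl)) hu) k).1 hk
        have h1 := hfix _ hk'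
        rw [map_mul, map_mul, map_inv, map_mul, map_mul, map_inv, hfix k hk] at h1
        calc (u⁻¹ * σ (σ u)) * k = u⁻¹ * (σ (σ u) * k * (σ (σ u))⁻¹) * σ (σ u) := by group
          _ = u⁻¹ * (u * k * u⁻¹) * σ (σ u) := by rw [h1]
          _ = k * (u⁻¹ * σ (σ u)) := by group
      have hσσx : σ (σ x) = x⁻¹ := by
        have h4 : σ (σ (σ (σ g))) = g := by
          have := congrArg (fun f : MulAut H => f g) hσ
          simpa [pow_succ, MulAut.mul_apply] using this
        rw [hxdef, map_mul, map_mul, map_inv, map_inv, h4, mul_inv_rev, inv_inv]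
      have hxQ : x ∈ Q := mul_mem (inv_mem hg) (hQs _ (hQs _ hg))
      have hy : σ x = (σ g)⁻¹ * σ (σ (σ g)) := by rw [hxdef, map_mul, map_inv]
      set y := σ x with hydef
      have hyQ : y ∈ Q := hQs _ hxQ
      set c := x⁻¹ * y⁻¹ * x * y with hcdef
      have hcD : c ∈ ⁅Q, Q⁆ := by
        have := Subgroup.commutator_mem_commutator (inv_mem hxQ) (inv_mem hyQ)
        rw [commutatorElement_def, inv_inv, inv_inv] at this
        exact this
      have hxc : x * c = c * x := hcen g hg c hcD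
      have hσc : σ c = c := by
        have h1 : σ y = x⁻¹ := hσσx
        rw [hcdef, map_mul, map_mul, map_mul, map_inv, map_inv, ← hydef, h1, inv_inv]
        have h2 : x * c * x⁻¹ = c := by rw [hxc, mul_inv_cancel_right]
        calc y⁻¹ * x * y * x⁻¹ = x * c * x⁻¹ := by rw [hcdef]; group
          _ = c := h2
          _ = _ := hcdef
      have hc1 : x * y = y * x := by
        have := hfpf c hσc
        rw [hcdef] at this
        calc x * y = y * x * (x⁻¹ * y⁻¹ * x * y) := by group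
          _ = y * x := by rw [this, mul_one]
      let A := Subgroup.closure ({x, y} : Set H)
      have hAQ : A ≤ Q := (Subgroup.closure_le Q).2 (by
        rintro z (rfl | rfl)
        · exact hxQ
        · exact hyQ)
      have hAs : ∀ z ∈ A, σ z ∈ A := by
        have : A.map σ.toMonoidHom ≤ A := by
          rw [MonoidHom.map_closure, Subgroup.closure_le]
          rintro _ ⟨z, (rfl | rfl), rfl⟩
          · exact Subgroup.subset_closure (Or.inr rfl)
          · show σ (σ x) ∈ A
            rw [hσσx]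
            exact inv_mem (Subgroup.subset_closure (Or.inl rfl))
        exact fun z hz => this ⟨z, hz, rfl⟩
      have hAc : ∀ a ∈ A, ∀ b ∈ A, a * b = b * a := by
        have : IsMulCommutative A := Subgroup.isMulCommutative_closure (by
          rintro a (rfl | rfl) b (rfl | rfl)
          · rfl
          · exact hc1
          · exact hc1.symm
          · rfl)
        exact fun a ha b hb => congrArg Subtype.val (mul_comm' (⟨a, ha⟩ : A) ⟨b, hb⟩)
      have hxA : x ∈ A := Subgroup.subset_closure (Or.inl rfl)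
      have h3 := cube_zero ψ s σ hfpf hσ hs hsc A hAs hAc hxA
      rw [hσσx] at h3
      set w := x⁻¹ * x⁻¹ with hwdef
      have hr3 : 3 ≤ r := by
        have := hr.out.two_le
        omega
      have hrR : (r : R) = 0 := by
        refine AddMonoidHom.ext fun v => ?_
        refine (AddMonoid.End.natCast_apply r v).trans ?_
        exact congrArg Additive.ofMul (hV v.toMul)
      have : Nontrivial R := by
        refine ⟨0, 1, fun h0 => ?_⟩
        obtain ⟨v, hv⟩ := exists_ne (1 : V)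
        exact hv (congrArg (fun f : R => Additive.toMul (f (Additive.ofMul v))) h0).symm
      have : CharP R r := (CharP.charP_iff_prime_eq_zero hr.out).2 hrR
      have hwr : ψ (w ^ r) = ψ 1 := by
        have : (ψ w - 1) ^ r = 0 := pow_eq_zero_of_le hr3 h3
        rw [sub_pow_char_of_commute _ (Commute.one_right _), one_pow, sub_eq_zero] at this
        rw [map_pow, this, map_one]
      have hwr' := hψ hwr
      have hwQ : w ∈ Q := mul_mem (inv_mem hxQ) (inv_mem hxQ)
      have hw1 : w = 1 := by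
        rw [← orderOf_eq_one_iff]
        refine Nat.dvd_one.1 ?_
        rw [← hQr.symm]
        refine Nat.dvd_gcd (orderOf_dvd_of_pow_eq_one hwr') ?_
        exact Q.orderOf_dvd_natCard hwQ
      exact inv_eq_one.1 (sq_eq_one hodd hw1)
  -- conclusion
  have hDs : ∀ k ∈ commutator H, σ k ∈ commutator H := by
    have hmap : (commutator H).map σ.toMonoidHom ≤ commutator H := by
      rw [commutator_def, Subgroup.map_commutator]
      exact Subgroup.commutator_mono le_top le_top
    exact fun k hk => hmap ⟨k, hk, rfl⟩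
  have hDn : ∀ g : H, ∀ x ∈ commutator H, g * x * g⁻¹ ∈ commutator H := fun g x hx =>
    Subgroup.Normal.conj_mem inferInstance x hx g
  have hfix := hgen _ _ le_rfl hnil hDs (hnilcore _ hnil hDn hDs)
  let C := Subgroup.centralizer ((commutator H : Subgroup H) : Set H)
  have hCs : ∀ x ∈ C, σ x ∈ C := by
    intro x hx k hk
    have hk' := inv_closed _ hDs hk
    have h1 := congrArg σ (hx _ hk')
    simpa using h1
  have hCn : ∀ g : H, ∀ x ∈ C, g * x * g⁻¹ ∈ C := fun g x hx =>
    Subgroup.Normal.conj_mem inferInstance x hx g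
  have hCnil : Group.IsNilpotent C := by
    refine Subgroup.isNilpotent_of_ker_le_center (Abelianization.of.comp C.subtype) ?_
    intro x hx
    have hx' : (x : H) ∈ commutator H := by
      rw [← Abelianization.ker_of]
      exact hx
    rw [Subgroup.mem_center_iff]
    exact fun z => Subtype.ext (z.2 _ hx').symm
  have hfixC := hgen _ _ le_rfl hCnil hCs (hnilcore _ hCnil hCn hCs)
  have hall : ∀ g : H, σ (σ g) = g := by
    intro g
    have hx : g⁻¹ * σ (σ g) ∈ C := by
      intro k hk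
      have h1 := hfix _ (hDn g k hk)
      rw [map_mul, map_mul, map_inv, map_mul, map_mul, map_inv, hfix k hk] at h1
      calc k * (g⁻¹ * σ (σ g)) = g⁻¹ * (g * k * g⁻¹) * σ (σ g) := by group
        _ = g⁻¹ * (σ (σ g) * k * (σ (σ g))⁻¹) * σ (σ g) := by rw [h1]
        _ = g⁻¹ * σ (σ g) * k := by group
    have h1 := hfixC _ hx
    have h4 : σ (σ (σ (σ g))) = g := by
      have := congrArg (fun f : MulAut H => f g) hσ
      simpa [pow_succ, MulAut.mul_apply] using this
    rw [map_mul, map_mul, map_inv, map_inv, h4] at h1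
    have : (g⁻¹ * σ (σ g)) * (g⁻¹ * σ (σ g)) = 1 := by
      nth_rw 2 [← h1]
      group
    exact (inv_mul_eq_one.1 (sq_eq_one hodd this)).symm
  have hinv : ∀ h : H, σ h = h⁻¹ := by
    intro h
    obtain ⟨a, -, rfl⟩ := fpf_surj_on hfpf ⊤ (fun _ _ => Subgroup.mem_top _) (Subgroup.mem_top h)
    rw [map_mul, map_inv, hall, mul_inv_rev, inv_inv]
  intro a b
  have := map_mul σ a b
  rw [hinv, hinv, hinv, mul_inv_rev] at this
  exact inv_injective (by rw [mul_inv_rev, mul_inv_rev]; exact this)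

theorem result_aux (n : ℕ) : ∀ {G : Type u} [Group G] [Finite G], Nat.card G ≤ n →
    Group.IsSolvable G → ∀ σ : MulAut G, σ ^ 4 = 1 → (∀ g : G, σ g = g → g = 1) →
    Group.IsNilpotent (commutator G) := by
  induction n with
  | zero => intro G _ _ h; exact absurd h (Nat.not_le.2 Nat.card_pos)
  | succ n ih =>
    intro G _ _ hn hG σ hσ hfpf
    by_cases hb : Subsingleton G
    · infer_instance
    have : Nontrivial G := not_subsingleton_iff_nontrivial.1 hb
    classical
    -- a minimal invariant normal subgroup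
    let p : ℕ → Prop := fun k => ∃ W : Subgroup G,
      W.Normal ∧ (∀ a ∈ W, σ a ∈ W) ∧ W ≠ ⊥ ∧ Nat.card W = k
    have hex : ∃ k, p k := ⟨_, ⊤, inferInstance, fun _ _ => Subgroup.mem_top _, top_ne_bot, rfl⟩
    obtain ⟨V, hVn, hVs, hVb, hVc⟩ := Nat.find_spec hex
    have hmin : ∀ W : Subgroup G, W ≤ V → W.Normal → (∀ a ∈ W, σ a ∈ W) → W ≠ ⊥ → W = V :=
      fun W hWV hWn hWs hWb => Subgroup.eq_of_le_of_card_ge hWV
        (hVc ▸ Nat.find_min' hex ⟨W, hWn, hWs, hWb, rfl⟩)
    have hVab : ∀ a ∈ V, ∀ b ∈ V, a * b = b * a := by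
      have hlt : ⁅V, V⁆ < V := Group.IsSolvable.commutator_lt_of_ne_bot hVb
      have hmap : ⁅V, V⁆.map σ.toMonoidHom ≤ ⁅V, V⁆ := by
        rw [Subgroup.map_commutator]
        have h : V.map σ.toMonoidHom ≤ V := by
          rintro _ ⟨x, hx, rfl⟩
          exact hVs x hx
        exact Subgroup.commutator_mono h h
      have hD : ⁅V, V⁆ = ⊥ := by
        by_contra hne
        exact hlt.ne (hmin _ hlt.le inferInstance (fun a ha => hmap ⟨a, ha, rfl⟩) hne)
      intro a ha b hb
      have := Subgroup.commutator_mem_commutator ha hb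
      rw [hD, Subgroup.mem_bot, commutatorElement_eq_one_iff_mul_comm] at this
      exact this
    let instCG : CommGroup V :=
      { (inferInstance : Group V) with
        mul_comm := fun a b => Subtype.ext (hVab a a.2 b b.2) }
    have hVnt : Nontrivial V := (Subgroup.nontrivial_iff_ne_bot V).2 hVb
    obtain ⟨r, hr, hrdvd⟩ := Nat.exists_prime_and_dvd (n := Nat.card V) Finite.one_lt_card.ne'
    have := Fact.mk hr
    let U : Subgroup G :=
      { carrier := {v | v ∈ V ∧ v ^ r = 1}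
        one_mem' := ⟨one_mem V, one_pow r⟩
        mul_mem' := fun {a b} ha hb => ⟨mul_mem ha.1 hb.1, by
          rw [(show Commute a b from hVab a ha.1 b hb.1).mul_pow, ha.2, hb.2, one_mul]⟩
        inv_mem' := fun {a} ha => ⟨inv_mem ha.1, by rw [inv_pow, ha.2, inv_one]⟩ }
    have hUV : U = V := by
      refine hmin U (fun a ha => ha.1) ⟨fun a ha g => ⟨hVn.conj_mem a ha.1 g, ?_⟩⟩
        (fun a ha => ⟨hVs a ha.1, ?_⟩) ?_
      · rw [conj_pow, ha.2, mul_one, mul_inv_cancel]
      · rw [← map_pow, ha.2, map_one]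
      · obtain ⟨x, hx⟩ := exists_prime_orderOf_dvd_card' r hrdvd
        intro hU
        have hxU : (x : G) ∈ U := ⟨x.2, congrArg Subtype.val (hx ▸ pow_orderOf_eq_one x)⟩
        rw [hU, Subgroup.mem_bot] at hxU
        have : x = 1 := Subtype.ext hxU
        rw [this, orderOf_one] at hx
        exact hr.ne_one hx.symm
    have hVr : ∀ v : V, v ^ r = 1 := by
      intro v
      have hv : (v : G) ∈ U := by rw [hUV]; exact v.2
      exact Subtype.ext hv.2
    have hr2 : r ≠ 2 := by
      rintro rfl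
      exact Nat.not_even_iff_odd.2 (odd_of_fpf hσ hfpf)
        (even_iff_two_dvd.2 (hrdvd.trans (Subgroup.card_subgroup_dvd_card V)))
    have hσ4 : ∀ h, σ (σ (σ (σ h))) = h := fun h => by
      have := congrArg (fun f : MulAut G => f h) hσ
      simpa [pow_succ, MulAut.mul_apply] using this
    -- quotients inherit the hypotheses
    have hmapeq : ∀ N : Subgroup G, (∀ a ∈ N, σ a ∈ N) → N.map σ.toMonoidHom = N := by
      intro N hN
      refine le_antisymm ?_ (fun x hx => ⟨σ.symm x, inv_closed N hN hx, by simp⟩)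
      rintro _ ⟨x, hx, rfl⟩
      exact hN x hx
    have hquot : ∀ N : Subgroup G, ∀ _ : N.Normal, (∀ a ∈ N, σ a ∈ N) →
        ∃ τ : MulAut (G ⧸ N), (∀ g : G, τ (g : G ⧸ N) = ((σ g : G) : G ⧸ N)) ∧
          τ ^ 4 = 1 ∧ ∀ x, τ x = x → x = 1 := by
      intro N _ hN
      refine ⟨QuotientGroup.congr N N σ (hmapeq N hN), fun g => rfl, ?_, ?_⟩
      · ext x
        induction x using QuotientGroup.induction_on with
        | H g =>
          show ((σ (σ (σ (σ g))) : G) : G ⧸ N) = g
          rw [hσ4]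
      · intro x
        induction x using QuotientGroup.induction_on with
        | H g =>
          intro hg
          have hg' : ((σ g : G) : G ⧸ N) = g := hg
          rw [QuotientGroup.eq_one_iff]
          exact quotient_fpf hfpf N hN g (QuotientGroup.eq.1 hg'.symm)
    have hqcard : ∀ N : Subgroup G, N ≠ ⊥ → Nat.card (G ⧸ N) ≤ n := by
      intro N hN
      have h1 := N.card_eq_card_quotient_mul_card_subgroup
      have h2 : 1 < Nat.card N := N.one_lt_card_iff_ne_bot.2 hN
      have h3 : 0 < Nat.card (G ⧸ N) := Nat.card_pos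
      nlinarith
    -- the action on `V`
    let φ₀ : G →* MulAut V := MulAut.conjNormal
    have hker : ∀ g : G, g ∈ φ₀.ker ↔ ∀ v ∈ V, g * v = v * g := by
      intro g
      rw [MonoidHom.mem_ker]
      constructor
      · intro hg v hv
        have h1 : (φ₀ g ⟨v, hv⟩ : G) = v := by rw [hg]; rfl
        rw [MulAut.conjNormal_apply] at h1
        calc g * v = g * v * g⁻¹ * g := by group
          _ = v * g := by rw [h1]
      · intro hg
        ext v
        rw [MulAut.conjNormal_apply]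
        show g * (v : G) * g⁻¹ = v
        rw [hg v v.2, mul_inv_cancel_right]
    have hCs : ∀ g ∈ φ₀.ker, σ g ∈ φ₀.ker := by
      intro g hg
      rw [hker] at hg ⊢
      intro v hv
      have h1 := congrArg σ (hg _ (inv_closed V hVs hv))
      simpa using h1
    have hCb : φ₀.ker ≠ ⊥ := fun hC => hVb (eq_bot_iff.2 fun v hv => hC ▸ (hker v).2
      (fun w hw => hVab v hv w hw))
    obtain ⟨τ, hτ, hτ4, hτfpf⟩ := hquot φ₀.ker inferInstance hCs
    have hnilH := ih (hqcard _ hCb) inferInstance τ hτ4 hτfpf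
    let S : MulAut V :=
      { toFun := fun v => ⟨σ v, hVs v v.2⟩
        invFun := fun v => ⟨σ.symm v, inv_closed V hVs v.2⟩
        left_inv := fun v => Subtype.ext (σ.symm_apply_apply v)
        right_inv := fun v => Subtype.ext (σ.apply_symm_apply v)
        map_mul' := fun a b => Subtype.ext (map_mul σ (a : G) (b : G)) }
    have hcomm : ∀ a b : G ⧸ φ₀.ker, a * b = b * a := by
      refine module_step hr2 hVr (QuotientGroup.kerLift φ₀) (QuotientGroup.kerLift_injective φ₀)
        τ hτfpf hτ4 S (fun v hv => Subtype.ext (hfpf v (congrArg Subtype.val hv)))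
        (fun v => Subtype.ext (hσ4 v)) ?_ ?_ hnilH
      · intro h v
        induction h using QuotientGroup.induction_on with
        | H g =>
          rw [hτ]
          apply Subtype.ext
          show σ ((φ₀ g v : V) : G) = ((φ₀ (σ g) (S v) : V) : G)
          rw [MulAut.conjNormal_apply, MulAut.conjNormal_apply, map_mul, map_mul, map_inv]
          rfl
      · intro W hWS hWH hWb
        have hW := hmin (W.map V.subtype) ?_ ⟨?_⟩ ?_ ?_
        · refine Subgroup.map_injective V.subtype_injective ?_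
          rw [hW, ← MonoidHom.range_eq_map, Subgroup.range_subtype]
        · rintro _ ⟨w, _, rfl⟩
          exact w.2
        · rintro _ ⟨w, hw, rfl⟩ g
          exact ⟨_, hWH (g : G ⧸ φ₀.ker) w hw, MulAut.conjNormal_apply g w⟩
        · rintro _ ⟨w, hw, rfl⟩
          exact ⟨_, hWS w hw, rfl⟩
        · rwa [Ne, Subgroup.map_eq_bot_iff_of_injective _ V.subtype_injective]
    have hGC : commutator G ≤ φ₀.ker := by
      rw [commutator_def, Subgroup.commutator_le]
      intro a _ b _
      rw [← QuotientGroup.eq_one_iff, ← QuotientGroup.mk'_apply, map_commutatorElement,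
        commutatorElement_eq_one_iff_mul_comm]
      exact hcomm _ _
    obtain ⟨υ, -, hυ4, hυfpf⟩ := hquot V hVn hVs
    have hnilV := ih (hqcard V hVb) inferInstance υ hυ4 hυfpf
    let f : commutator G →* commutator (G ⧸ V) :=
      ((QuotientGroup.mk' V).comp (commutator G).subtype).codRestrict _ (fun x => by
        have : (commutator G).map (QuotientGroup.mk' V) ≤ commutator (G ⧸ V) := by
          rw [commutator_def, Subgroup.map_commutator]
          exact Subgroup.commutator_mono le_top le_top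
        exact this ⟨x, x.2, rfl⟩)
    refine Subgroup.isNilpotent_of_ker_le_center f ?_
    intro x hx
    have hxV : (x : G) ∈ V := by
      have := congrArg Subtype.val hx
      exact (QuotientGroup.eq_one_iff _).1 this
    rw [Subgroup.mem_center_iff]
    exact fun z => Subtype.ext ((hker z).1 (hGC z.2) x hxV)

/-- Let G be a finite solvable group with an automorphism σ satisfying σ⁴ = 1 and fixing only the
identity. Then the derived subgroup G' is nilpotent. -/
theorem result {G : Type*} [Group G] [Finite G] (hG : Group.IsSolvable G) (σ : MulAut G) (hσ : σ ^ 4 = 1) (hfpf : ∀ g : G, σ g = g → g = 1) : Group.IsNilpotent (commutator G) :=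
  result_aux _ le_rfl hG σ hσ hfpf

end Cfsg.Agent.S3794
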