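import Cfsg.Statements.S3796

import Cfsg.Agent.Ward.Height

set_option autoImplicit false
open Cfsg

namespace Cfsg.Agent.S3796


/-- Ward's Theorem: let G be a finite solvable group and A an elementary abelian group of automorphisms of G of order p² (p a prime) with no non-identity common fixed point. Then G has Fitting height at most 2: G has Fitting height at most m when there is a chain of normal subgroups 1 = F₀ ≤ F₁ ≤ ⋯ ≤ F_m = G with each F_{i+1}/F_i nilpotent. -/
theorem result {G : Type*} [Group G] [Finite G] (hG : Group.IsSolvable G) {p : ℕ} (hp : p.Prime) (A : Subgroup (MulAut G)) (hA : Cfsg.IsElementaryAbelian p A) (hcard : Nat.card A = p ^ 2) (hfpf : ∀ g : G, (∀ a ∈ A, a g = g) → g = 1) : ∃ F : Fin (2 + 1) → Subgroup G, F 0 = ⊥ ∧ F (Fin.last 2) = ⊤ ∧ Monotone F ∧ (∀ i, (F i).Normal) ∧ ∀ i : Fin 2, ∃ k : ℕ, (F i.succ).lowerCentralSeries k ≤ F i.castSucc := by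
  haveI : Fact p.Prime := ⟨hp⟩
  haveI : Finite A := Nat.finite_of_card_ne_zero (by rw [hcard]; exact pow_ne_zero 2 hp.ne_zero)
  cases nonempty_fintype A
  obtain ⟨N, hNn, -, hN, hq⟩ := CfsgLib.Ward.exists_nilpotent_by_nilpotent (p := p) (A := A)
    (fun a b => hA.1.is_comm.comm a b)
    (fun a => Subtype.ext (by simpa using hA.2 a a.2)) hcard _ le_rfl hG A.subtype
    (fun x hx => hfpf x fun a ha => hx ⟨a, ha⟩)
  refine ⟨![⊥, N, ⊤], rfl, rfl, ?_, ?_, ?_⟩
  · rw [Fin.monotone_iff_le_succ]
    intro i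
    fin_cases i <;> simp
  · intro i
    fin_cases i <;> simp <;> infer_instance
  · intro i
    fin_cases i
    · haveI := hN
      obtain ⟨k, hk⟩ := (Subgroup.isNilpotent_iff_lowerCentralSeries N).1 hN
      exact ⟨k, by simp [hk]⟩
    · haveI := hq
      obtain ⟨k, hk⟩ := Subgroup.nilpotent_iff_lowerCentralSeries.1 hq
      refine ⟨k, ?_⟩
      have h : (Subgroup.lowerCentralSeries (⊤ : Subgroup G) k).map (QuotientGroup.mk' N) = ⊥ := by
        rw [Subgroup.map_lowerCentralSeries,
          Subgroup.map_top_of_surjective _ (QuotientGroup.mk'_surjective N), hk]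
      rw [Subgroup.map_eq_bot_iff, QuotientGroup.ker_mk'] at h
      simpa using h

end Cfsg.Agent.S3796
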