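import Cfsg.Statements.S3802

import Mathlib

set_option autoImplicit false
open Cfsg

namespace Cfsg.Agent.S3802

/-- A minimal normal subgroup normalizes every subnormal subgroup (Wielandt). -/
theorem le_normalizer_of_minimal : ∀ (n : ℕ) {G : Type*} [Group G] [Finite G], Nat.card G ≤ n →
    ∀ R : Subgroup G, R.Normal → (∀ S : Subgroup G, S.Normal → S ≤ R → S = ⊥ ∨ S = R) →
      ∀ N : Subgroup G, N.IsSubnormal → R ≤ Subgroup.normalizer (N : Set G) := by
  intro n
  induction n with
  | zero => intro G _ _ h; exact absurd h (Nat.not_le.2 Nat.card_pos)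
  | succ n ih =>
    intro G _ _ hn R hR hmin N hN
    rcases hN.lt_normal with rfl | ⟨K, hK, hNK, hKlt⟩
    · exact le_trans le_top Subgroup.le_normalizer
    rcases hmin (R ⊓ K) inferInstance inf_le_left with h0 | h0
    · intro r hr
      have hcomm : ∀ k ∈ K, r * k = k * r := by
        intro k hk
        have h1 : r * k * r⁻¹ * k⁻¹ ∈ R ⊓ K := by
          refine Subgroup.mem_inf.2 ⟨?_, mul_mem (hK.conj_mem k hk r) (inv_mem hk)⟩
          rw [show r * k * r⁻¹ * k⁻¹ = r * (k * r⁻¹ * k⁻¹) by group]
          exact mul_mem hr (hR.conj_mem _ (inv_mem hr) k)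
        rw [h0, Subgroup.mem_bot, mul_inv_eq_one, mul_inv_eq_iff_eq_mul] at h1
        exact h1
      exact Subgroup.centralizer_le_normalizer _ (fun k hk => (hcomm k (hNK hk)).symm)
    · have hRK : R ≤ K := h0 ▸ inf_le_right
      rcases eq_or_ne R ⊥ with rfl | hRb
      · exact bot_le
      classical
      let p : ℕ → Prop := fun m => ∃ S : Subgroup K,
        S.Normal ∧ S ≤ R.subgroupOf K ∧ S ≠ ⊥ ∧ Nat.card S = m
      have hex : ∃ m, p m := ⟨_, R.subgroupOf K, inferInstance, le_rfl, by
        rw [Ne, Subgroup.subgroupOf_eq_bot]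
        intro hd
        exact hRb (hd.eq_bot_of_le hRK), rfl⟩
      obtain ⟨S, hSn, hSR, hSb, hSc⟩ := Nat.find_spec hex
      have hSmin : ∀ T : Subgroup K, T.Normal → T ≤ S → T = ⊥ ∨ T = S := by
        intro T hTn hTS
        rcases eq_or_ne T ⊥ with hT | hT
        · exact Or.inl hT
        · exact Or.inr (Subgroup.eq_of_le_of_card_ge hTS
            (hSc ▸ Nat.find_min' hex ⟨T, hTn, hTS.trans hSR, hT, rfl⟩))
      have hKcard : Nat.card K ≤ n := by
        have : Nat.card K < Nat.card G := by
          refine lt_of_le_of_ne (Subgroup.card_le_card_group K) ?_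
          intro he
          exact hKlt.ne (Subgroup.eq_top_of_card_eq K he)
        omega
      -- every `G`-conjugate of `S` normalizes `N`
      have hconj : ∀ g : G, ∀ s ∈ S, g * (s : G) * g⁻¹ ∈ Subgroup.normalizer (N : Set G) := by
        intro g s hs
        let S' : Subgroup K := S.map (MulAut.conjNormal g : MulAut K).toMonoidHom
        have hS'n : S'.Normal := hSn.map _ (MulAut.conjNormal g : MulAut K).surjective
        have hS'min : ∀ T : Subgroup K, T.Normal → T ≤ S' → T = ⊥ ∨ T = S' := by
          intro T hTn hTS
          let f : K →* K := (MulAut.conjNormal g : MulAut K).toMonoidHom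
          have hf : Function.Injective f := (MulAut.conjNormal g : MulAut K).injective
          have hle : T.comap f ≤ S := by
            rw [← Subgroup.comap_map_eq_self_of_injective hf S]
            exact Subgroup.comap_mono hTS
          have hfs : Function.Surjective f := (MulAut.conjNormal g : MulAut K).surjective
          rcases hSmin _ (hTn.comap f) hle with h | h
          · left
            rw [← Subgroup.map_comap_eq_self_of_surjective hfs T, h, Subgroup.map_bot]
          · right
            rw [← Subgroup.map_comap_eq_self_of_surjective hfs T, h]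
        have hmem : (MulAut.conjNormal g s : K) ∈ S' := ⟨s, hs, rfl⟩
        have := ih hKcard S' hS'n hS'min (N.subgroupOf K) hN.subgroupOf hmem
        rw [Subgroup.mem_normalizer_iff] at this
        rw [Subgroup.mem_normalizer_iff]
        intro x
        constructor
        · intro hx
          exact (this ⟨x, hNK hx⟩).1 hx
        · intro hx
          have hxK : x ∈ K := by
            have := hNK hx
            have hk : g * (s : G) * g⁻¹ ∈ K := hK.conj_mem _ s.2 g
            have := mul_mem (mul_mem (inv_mem hk) this) hk
            simpa [mul_assoc] using this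
          exact (this ⟨x, hxK⟩).2 hx
      let T : Subgroup G := Subgroup.normalClosure ((S.map K.subtype : Subgroup G) : Set G)
      have hTR : T ≤ R := by
        refine Subgroup.normalClosure_le_normal ?_
        rintro _ ⟨s, hs, rfl⟩
        exact hSR hs
      have hT : T = R := by
        refine (hmin T Subgroup.normalClosure_normal hTR).resolve_left fun h => hSb ?_
        rw [Subgroup.eq_bot_iff_forall]
        intro s hs
        have : (s : G) ∈ T := Subgroup.subset_normalClosure ⟨s, hs, rfl⟩
        rw [h, Subgroup.mem_bot] at this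
        exact Subtype.ext this
      rw [← hT]
      show Subgroup.closure (Group.conjugatesOfSet _) ≤ _
      rw [Subgroup.closure_le]
      intro y hy
      obtain ⟨_, ⟨s, hs, rfl⟩, hc⟩ := Group.mem_conjugatesOfSet_iff.1 hy
      obtain ⟨g, rfl⟩ := isConj_iff.1 hc
      exact hconj g s hs

theorem core_aux : ∀ (n : ℕ) {G : Type*} [Group G] [Finite G], Nat.card G ≤ n →
    ∀ M N : Subgroup G, IsCoatom M → N.IsSubnormal → N ≤ M → N ≤ M.normalCore := by
  intro n
  induction n with
  | zero => intro G _ _ h; exact absurd h (Nat.not_le.2 Nat.card_pos)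
  | succ n ih =>
    intro G _ _ hn M N hM hN hNM
    by_cases hG : Subsingleton G
    · intro x _
      rw [Subsingleton.elim x 1]
      exact one_mem _
    have : Nontrivial G := not_subsingleton_iff_nontrivial.1 hG
    classical
    let p : ℕ → Prop := fun m => ∃ S : Subgroup G, S.Normal ∧ S ≠ ⊥ ∧ Nat.card S = m
    have hex : ∃ m, p m := ⟨_, ⊤, inferInstance, top_ne_bot, rfl⟩
    obtain ⟨R, hRn, hRb, hRc⟩ := Nat.find_spec hex
    have hmin : ∀ T : Subgroup G, T.Normal → T ≤ R → T = ⊥ ∨ T = R := by
      intro T hTn hTR
      rcases eq_or_ne T ⊥ with hT | hT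
      · exact Or.inl hT
      · exact Or.inr (Subgroup.eq_of_le_of_card_ge hTR
          (hRc ▸ Nat.find_min' hex ⟨T, hTn, hT, rfl⟩))
    by_cases hRM : R ≤ M
    · let π := QuotientGroup.mk' R
      have hπ : Function.Surjective π := QuotientGroup.mk'_surjective R
      have hcm : (M.map π).comap π = M := by
        rw [Subgroup.comap_map_eq, QuotientGroup.ker_mk', sup_eq_left.2 hRM]
      have hM' : IsCoatom (M.map π) := by
        refine ⟨fun h => hM.1 ?_, fun L hL => ?_⟩
        · rw [← hcm, h, Subgroup.comap_top]
        · have h2 : M < L.comap π := by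
            rw [← hcm]
            exact (Subgroup.comap_lt_comap_of_surjective hπ).2 hL
          rw [← Subgroup.map_comap_eq_self_of_surjective hπ L, hM.2 _ h2,
            Subgroup.map_top_of_surjective π hπ]
      have hcard : Nat.card (G ⧸ R) ≤ n := by
        have h1 := R.card_eq_card_quotient_mul_card_subgroup
        have h2 : 1 < Nat.card R := R.one_lt_card_iff_ne_bot.2 hRb
        have h3 : 0 < Nat.card (G ⧸ R) := Nat.card_pos
        nlinarith
      have h := ih hcard (M.map π) (N.map π) hM' (hN.map hπ) (Subgroup.map_mono hNM)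
      intro x hx
      have hx' := h (Subgroup.mem_map_of_mem π hx)
      intro g
      have h4 : π (g * x * g⁻¹) ∈ M.map π := by
        rw [map_mul, map_mul, map_inv]
        exact hx' (π g)
      rw [← hcm]
      exact h4
    · have hsup : M ⊔ R = ⊤ := hM.2 _ (lt_of_le_of_ne le_sup_left
        (fun h => hRM (by rw [h]; exact le_sup_right)))
      have hnorm := le_normalizer_of_minimal _ hn R hRn hmin N hN
      intro x hx g
      obtain ⟨m, hm, r, hr, rfl⟩ := Subgroup.mem_sup_of_normal_right.1
        (hsup.symm ▸ Subgroup.mem_top g : g ∈ M ⊔ R)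
      have h1 : r * x * r⁻¹ ∈ N := (Subgroup.mem_normalizer_iff.1 (hnorm hr) x).1 hx
      show m * r * x * (m * r)⁻¹ ∈ M
      rw [show m * r * x * (m * r)⁻¹ = m * (r * x * r⁻¹) * m⁻¹ by group]
      exact mul_mem (mul_mem hm (hNM h1)) (inv_mem hm)


/-- Let G be a finite group, M a maximal subgroup of G and N a subnormal subgroup of G contained in M. Then N is contained in every conjugate of M, that is, N lies in the core of M in G. -/
theorem result {G : Type*} [Group G] [Finite G] (M N : Subgroup G) (hM : IsCoatom M) (hN : N.IsSubnormal) (hNM : N ≤ M) :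
    N ≤ Subgroup.normalCore M := by
  exact core_aux _ le_rfl M N hM hN hNM

end Cfsg.Agent.S3802
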