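import Cfsg.Statements.S3803

import Mathlib
import Cfsg.Agent.OddOrder.BG1Stab
import Cfsg.Agent.Coprime.Action
import Cfsg.Agent.Solvable.Frattini

set_option autoImplicit false
open Cfsg

namespace Cfsg.Agent.S3803

open scoped commutatorElement
open CfsgLib

variable {X : Type*} [Group X] [Finite X]

/-- Conjugation by an element of odd order fixes a cyclic invariant `2`-subgroup. -/
theorem commute_cyclic {a z : X} {j : ℕ} (ha : Odd (orderOf a)) (hz : z ^ 2 ^ j = 1)
    (hinv : a * z * a⁻¹ ∈ Subgroup.zpowers z) : Commute a z := by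
  induction j generalizing z with
  | zero => rw [pow_zero, pow_one] at hz; subst hz; exact Commute.one_right a
  | succ j ih =>
    obtain ⟨k, hk⟩ := Subgroup.mem_zpowers_iff.1 hinv
    have h2 : Commute a (z ^ 2) := by
      refine ih (by rw [← pow_mul, ← pow_succ', hz]) ?_
      rw [← conj_pow, ← hk]
      exact Subgroup.mem_zpowers_iff.2 ⟨k, by rw [← zpow_natCast, ← zpow_natCast, ← zpow_mul,
        ← zpow_mul, mul_comm]⟩
    by_cases hz1 : z = 1
    · subst hz1; exact Commute.one_right a
    rcases Int.even_or_odd k with ⟨i, hi⟩ | ⟨i, hi⟩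
    · exfalso
      have h3 : a * z * a⁻¹ = (z ^ 2) ^ i := by
        rw [← hk, hi, ← zpow_natCast z 2, ← zpow_mul]
        congr 1
        push_cast
        ring
      have h4 : z = (z ^ 2) ^ i := by
        calc z = a⁻¹ * (a * z * a⁻¹) * a := by group
          _ = a⁻¹ * (z ^ 2) ^ i * a := by rw [h3]
          _ = (z ^ 2) ^ i := by rw [mul_assoc, ← (h2.zpow_right i).eq]; group
      obtain ⟨l, -, hl⟩ := (Nat.dvd_prime_pow Nat.prime_two).1 (orderOf_dvd_of_pow_eq_one hz)
      have h5 : z ^ (2 * i - 1) = 1 := by
        rw [zpow_sub_one, zpow_mul, mul_inv_eq_one, zpow_ofNat]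
        exact h4.symm
      have h6 : (orderOf z : ℤ) ∣ 2 * i - 1 := orderOf_dvd_iff_zpow_eq_one.2 h5
      have hl0 : 1 ≤ l := by
        by_contra hl0
        rw [show l = 0 by omega, pow_zero, orderOf_eq_one_iff] at hl
        exact hz1 hl
      have h7 : (2 : ℤ) ∣ 2 * i - 1 := by
        refine dvd_trans ?_ h6
        rw [hl]
        push_cast
        exact dvd_pow_self 2 (by omega)
      omega
    · have hcom : ⁅a, z⁆ = (z ^ 2) ^ i := by
        rw [commutatorElement_def, ← hk, hi, zpow_add_one, zpow_mul, mul_inv_cancel_right,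
          zpow_ofNat]
      refine OddOrder.Stab.commute_of_stab (by rw [hcom]; exact h2.zpow_right i) ?_
      rw [hcom]
      refine Nat.Coprime.coprime_dvd_right (?_ : orderOf ((z ^ 2) ^ i) ∣ 2 ^ (j + 1))
        (Nat.Coprime.pow_right _ (Nat.coprime_two_right.2 ha))
      refine orderOf_dvd_of_pow_eq_one ?_
      rw [← zpow_natCast, ← zpow_mul, mul_comm, zpow_mul, zpow_natCast, ← pow_mul, mul_comm,
        pow_mul, hz, one_pow, one_zpow]

/-- A maximal subgroup of a finite `2`-group has index `2`. -/
theorem coatom_index_two {S : Type*} [Group S] [Finite S] (hS : IsPGroup 2 S) {N : Subgroup S}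
    (hN : IsCoatom N) : N.Normal ∧ N.index = 2 := by
  haveI : Fact (Nat.Prime 2) := ⟨Nat.prime_two⟩
  have hnil := hS.isNilpotent
  have hNn : N.Normal := (Group.isNilpotent_of_finite_tfae.out 0 2 rfl rfl).1 hnil N hN
  refine ⟨hNn, ?_⟩
  have hQ : Nontrivial (S ⧸ N) := by
    rw [← Finite.one_lt_card_iff_nontrivial, ← Subgroup.index_eq_card]
    exact Subgroup.one_lt_index_of_ne_top hN.1
  obtain ⟨k, hk⟩ := (hS.to_quotient N).exists_card_eq
  have h1 := Finite.one_lt_card (α := S ⧸ N)
  rw [hk] at h1
  obtain ⟨q, hq⟩ := exists_prime_orderOf_dvd_card' 2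
    (hk ▸ dvd_pow_self 2 (by rintro rfl; simp at h1) : 2 ∣ Nat.card (S ⧸ N))
  have hlt : N < (Subgroup.zpowers q).comap (QuotientGroup.mk' N) := by
    refine lt_of_le_of_ne (fun x hx => ?_) fun h => ?_
    · rw [Subgroup.mem_comap, QuotientGroup.mk'_apply, (QuotientGroup.eq_one_iff x).2 hx]
      exact one_mem _
    · obtain ⟨y, rfl⟩ := QuotientGroup.mk'_surjective N q
      have hy : y ∈ N := h.symm ▸ Subgroup.mem_zpowers (QuotientGroup.mk' N y)
      rw [QuotientGroup.mk'_apply, (QuotientGroup.eq_one_iff y).2 hy, orderOf_one] at hq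
      omega
  have htop := hN.2 _ hlt
  have hz : Subgroup.zpowers q = ⊤ := by
    rw [← Subgroup.map_comap_eq_self_of_surjective (QuotientGroup.mk'_surjective N)
      (Subgroup.zpowers q), htop, Subgroup.map_top_of_surjective _ (QuotientGroup.mk'_surjective N)]
  rw [Subgroup.index_eq_card, ← Subgroup.card_top, ← hz, Nat.card_zpowers, hq]

/-- The statement for a single element of odd order. -/
theorem commute_aux {a : X} (ha : Odd (orderOf a)) {d : ℕ} {j : ℕ} (hdj : d = 2 ^ j) (hd1 : 1 < d)
    (n : ℕ) : ∀ P : Subgroup X, Nat.card P ≤ n → IsPGroup 2 P →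
      a ∈ Subgroup.normalizer (P : Set X) → d < Nat.card P →
      (∀ E : Subgroup X, E ≤ P → (Nat.card E = d ∨ (d = 2 ∧ Nat.card E = 4)) →
        a ∈ Subgroup.normalizer (E : Set X)) → ∀ x ∈ P, Commute a x := by
  induction n with
  | zero => intro P h; exact absurd h (Nat.not_le.2 Nat.card_pos)
  | succ n ih =>
    intro P hPn hP haP hdP hinv
    classical
    haveI : Fact (Nat.Prime 2) := ⟨Nat.prime_two⟩
    obtain ⟨m, hm⟩ := hP.exists_card_eq
    have hjm : j < m := by
      rw [hdj, hm] at hdP
      exact (Nat.pow_lt_pow_iff_right one_lt_two).1 hdP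
    have hj1 : 1 ≤ j := by
      by_contra h
      rw [show j = 0 by omega, pow_zero] at hdj
      omega
    have hcop : (orderOf a).Coprime (Nat.card P) := by
      rw [hm]; exact Nat.Coprime.pow_right _ (Nat.coprime_two_right.2 ha)
    have hconj : ∀ x ∈ P, a * x * a⁻¹ ∈ P := fun x hx =>
      (Subgroup.mem_normalizer_iff.1 haP x).1 hx
    let Φ : Subgroup X := (frattini P).map P.subtype
    have hΦP : Φ ≤ P := Subgroup.map_subtype_le _
    have hPcomm : ∀ x ∈ P, ∀ y ∈ P, ⁅x, y⁆ ∈ Φ := fun x hx y hy =>
      ⟨⁅(⟨x, hx⟩ : P), ⟨y, hy⟩⁆, (OddOrder.Stab.frattini_facts hP).1 _ _, rfl⟩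
    have hPsq : ∀ x ∈ P, x ^ 2 ∈ Φ := fun x hx =>
      ⟨(⟨x, hx⟩ : P) ^ 2, (OddOrder.Stab.frattini_facts hP).2.1 _, rfl⟩
    -- trivial modulo `Φ` is enough
    have hfin : (∀ x ∈ P, ⁅a, x⁆ ∈ Φ) → ∀ x ∈ P, Commute a x := by
      intro h x hx
      have hle : ⁅P, Subgroup.zpowers a⁆ ≤ Φ := by
        rw [Subgroup.commutator_le]
        intro y hy b hb
        obtain ⟨k, rfl⟩ := (Subgroup.mem_zpowers_iff).1 hb
        -- the commutators with powers of `a`
        have hN : a ∈ Subgroup.normalizer (Φ : Set X) := by
          rw [Subgroup.mem_normalizer_iff_map_conj_eq]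
          refine Subgroup.eq_of_le_of_card_ge ?_ (by
            exact (Subgroup.card_map_of_injective (MulAut.conj a).injective).ge)
          rintro _ ⟨z, hz, rfl⟩
          exact OddOrder.Stab.map_subtype_conj_mem (frattini P) haP hz
        have hS : ∀ k : ℕ, ⁅a ^ k, y⁆ ∈ Φ := by
          intro k
          induction k with
          | zero => simp [one_mem]
          | succ k ihk =>
            have e : ⁅a ^ (k + 1), y⁆ = a * ⁅a ^ k, y⁆ * a⁻¹ * ⁅a, y⁆ := by
              simp only [commutatorElement_def, pow_succ']; group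
            rw [e]
            exact mul_mem ((Subgroup.mem_normalizer_iff.1 hN _).1 ihk) (h y hy)
        obtain ⟨k', hk'⟩ : ∃ k' : ℕ, a ^ k = a ^ k' := by
          obtain ⟨k', -, hk'⟩ := (isOfFinOrder_of_finite a).mem_zpowers_iff_mem_range_orderOf.1
            (Subgroup.mem_zpowers_iff.2 ⟨k, rfl⟩) |> Finset.mem_image.1
          exact ⟨k', hk'.symm⟩
        rw [hk', ← commutatorElement_inv]
        exact inv_mem (hS k')
      have := Coprime.le_centralizer_of_commutator_le_frattini (Subgroup.zpowers_le.2 haP)
        (by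
          rw [Nat.card_zpowers]
          exact hcop.coprime_dvd_right (Subgroup.card_subgroup_dvd_card _)) hle
      exact (Subgroup.mem_centralizer_iff.1 (this (Subgroup.mem_zpowers a)) x hx).symm
    -- invariant subgroups larger than `d` are centralized
    have hIH : ∀ M : Subgroup X, M ≤ P → M ≠ P → (∀ x ∈ M, a * x * a⁻¹ ∈ M) → d < Nat.card M →
        ∀ x ∈ M, Commute a x := by
      intro M hMP hne hMinv hdM
      refine ih M ?_ (hP.to_le hMP) ?_ hdM (fun E hE => hinv E (hE.trans hMP))
      · have : Nat.card M < Nat.card P := lt_of_le_of_ne (Subgroup.card_le_of_le hMP)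
          (fun he => hne (Subgroup.eq_of_le_of_card_ge hMP he.ge))
        omega
      · rw [Subgroup.mem_normalizer_iff_map_conj_eq]
        refine Subgroup.eq_of_le_of_card_ge ?_ (by
          exact (Subgroup.card_map_of_injective (MulAut.conj a).injective).ge)
        rintro _ ⟨z, hz, rfl⟩
        exact hMinv z hz
    -- subgroups of `P` containing `Φ` have index-two steps
    have hstep : ∀ K : Subgroup X, Φ ≤ K → K ≤ P → ∀ x ∈ P, x ∉ K →
        Nat.card ↥(K ⊔ Subgroup.zpowers x) = 2 * Nat.card K := by
      intro K hK hKP x hx hxK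
      have hxN : Subgroup.zpowers x ≤ Subgroup.normalizer (K : Set X) := by
        rw [Subgroup.zpowers_le, Subgroup.mem_normalizer_iff_map_conj_eq]
        refine Subgroup.eq_of_le_of_card_ge ?_ (by
          exact (Subgroup.card_map_of_injective (MulAut.conj x).injective).ge)
        rintro _ ⟨z, hz, rfl⟩
        show x * z * x⁻¹ ∈ K
        rw [show x * z * x⁻¹ = ⁅x, z⁆ * z by rw [commutatorElement_def]; group]
        exact mul_mem (hK (hPcomm x hx z (hKP hz))) hz
      rw [← Subgroup.card_mul_index (K.subgroupOf (K ⊔ Subgroup.zpowers x)),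
        Nat.card_congr (Subgroup.subgroupOfEquivOfLe (le_sup_left : K ≤ K ⊔ Subgroup.zpowers x)).toEquiv,
        mul_comm]
      congr 1
      rw [Subgroup.index_eq_two_iff]
      refine ⟨⟨x, Subgroup.mem_sup_right (Subgroup.mem_zpowers x)⟩, fun b => ?_⟩
      simp only [Subgroup.mem_subgroupOf]
      obtain ⟨k, hk, w, hw, hb⟩ := Coprime.exists_mul_of_mem_sup hxN b.2
      obtain ⟨i, rfl⟩ := Subgroup.mem_zpowers_iff.1 hw
      have hsq : ∀ l : ℤ, x ^ (2 * l) ∈ K := fun l => by
        rw [zpow_mul, zpow_two, ← pow_two]
        exact zpow_mem (hK (hPsq x hx)) l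
      rcases Int.even_or_odd i with ⟨l, hl⟩ | ⟨l, hl⟩
      · refine Or.inr ⟨?_, fun h => hxK ?_⟩
        · rw [← hb, hl, ← two_mul]
          exact mul_mem hk (hsq l)
        · have h' : (b : X) ∈ K := by rw [← hb, hl, ← two_mul]; exact mul_mem hk (hsq l)
          simpa using mul_mem (inv_mem h') h
      · refine Or.inl ⟨?_, fun h => hxK ?_⟩
        · show (b : X) * x ∈ K
          rw [← hb, hl, zpow_add_one, mul_assoc, mul_assoc, ← pow_two]
          exact mul_mem hk (mul_mem (hsq l) (hK (hPsq x hx)))
        · have h' : k⁻¹ * (b : X) ∈ K := mul_mem (inv_mem hk) h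
          rw [← hb, hl, zpow_add_one, inv_mul_cancel_left] at h'
          simpa using mul_mem (inv_mem (hsq l)) h'
    rcases lt_or_ge (Nat.card Φ) d with hΦd | hΦd
    · -- all subgroups of order at most `d` above `Φ` are invariant
      have hall : ∀ (s : ℕ) (K : Subgroup X), Φ ≤ K → K ≤ P → Nat.card K * 2 ^ s = d →
          a ∈ Subgroup.normalizer (K : Set X) := by
        intro s
        induction s with
        | zero => intro K _ hKP hc; exact hinv K hKP (Or.inl (by simpa using hc))
        | succ s ihs =>
          intro K hK hKP hc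
          have hlt : 4 * Nat.card K ≤ Nat.card P := by
            obtain ⟨e, he⟩ := (hP.to_le hKP).exists_card_eq
            rw [he, hdj, ← pow_add] at hc
            have h := Nat.pow_right_injective le_rfl hc
            rw [he, hm, show (4 : ℕ) = 2 ^ 2 by norm_num, ← pow_add]
            exact Nat.pow_le_pow_right two_pos (by omega)
          have hpos : 0 < Nat.card K := Nat.card_pos
          obtain ⟨x, hx, hxK⟩ : ∃ x ∈ P, x ∉ K := by
            by_contra h
            push Not at h
            have := Subgroup.card_le_of_le (show P ≤ K from h)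
            omega
          have hc1 := hstep K hK hKP x hx hxK
          have hK1P : K ⊔ Subgroup.zpowers x ≤ P := sup_le hKP (Subgroup.zpowers_le.2 hx)
          obtain ⟨y, hy, hyK⟩ : ∃ y ∈ P, y ∉ K ⊔ Subgroup.zpowers x := by
            by_contra h
            push Not at h
            have := Subgroup.card_le_of_le (show P ≤ K ⊔ Subgroup.zpowers x from h)
            omega
          have hyK' : y ∉ K := fun h => hyK (Subgroup.mem_sup_left h)
          have hc2 := hstep K hK hKP y hy hyK'
          have hK2P : K ⊔ Subgroup.zpowers y ≤ P := sup_le hKP (Subgroup.zpowers_le.2 hy)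
          have n1 := ihs _ (hK.trans le_sup_left) hK1P (by rw [hc1, ← hc, pow_succ]; ring)
          have n2 := ihs _ (hK.trans le_sup_left) hK2P (by rw [hc2, ← hc, pow_succ]; ring)
          have hinf : (K ⊔ Subgroup.zpowers x) ⊓ (K ⊔ Subgroup.zpowers y) = K := by
            refine le_antisymm ?_ (le_inf le_sup_left le_sup_left)
            intro z hz
            by_contra hzK
            have hcz := hstep K hK hKP z (hK1P hz.1) hzK
            have e1 : K ⊔ Subgroup.zpowers z = K ⊔ Subgroup.zpowers x :=
              Subgroup.eq_of_le_of_card_ge (sup_le le_sup_left (Subgroup.zpowers_le.2 hz.1))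
                (by rw [hcz, hc1])
            have e2 : K ⊔ Subgroup.zpowers z = K ⊔ Subgroup.zpowers y :=
              Subgroup.eq_of_le_of_card_ge (sup_le le_sup_left (Subgroup.zpowers_le.2 hz.2))
                (by rw [hcz, hc2])
            exact hyK (e1 ▸ e2.symm ▸ Subgroup.mem_sup_right (Subgroup.mem_zpowers y))
          rw [← hinf]
          rw [Subgroup.mem_normalizer_iff] at n1 n2 ⊢
          intro z
          simp only [Subgroup.mem_inf]
          exact and_congr (n1 z) (n2 z)
      refine hfin fun x hx => ?_
      by_cases hxΦ : x ∈ Φ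
      · rw [commutatorElement_def]
        exact mul_mem (OddOrder.Stab.map_subtype_conj_mem (frattini P) haP hxΦ) (inv_mem hxΦ)
      obtain ⟨e, he⟩ := (hP.to_le hΦP).exists_card_eq
      have hej : e < j := by
        rw [he, hdj] at hΦd
        exact (Nat.pow_lt_pow_iff_right one_lt_two).1 hΦd
      have hcx := hstep Φ le_rfl hΦP x hx hxΦ
      have hn := hall (j - (e + 1)) _ le_sup_left (sup_le hΦP (Subgroup.zpowers_le.2 hx)) (by
        rw [hcx, he, hdj, ← pow_succ', ← pow_add]
        congr 1
        omega)
      have hxm : x ∈ Φ ⊔ Subgroup.zpowers x := Subgroup.mem_sup_right (Subgroup.mem_zpowers x)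
      have hax : a * x * a⁻¹ ∈ Φ ⊔ Subgroup.zpowers x :=
        (Subgroup.mem_normalizer_iff.1 hn x).1 hxm
      have hnot : a * x * a⁻¹ ∉ Φ := by
        intro h
        have hΦN : a ∈ Subgroup.normalizer (Φ : Set X) := by
          rw [Subgroup.mem_normalizer_iff_map_conj_eq]
          refine Subgroup.eq_of_le_of_card_ge ?_ (by
            exact (Subgroup.card_map_of_injective (MulAut.conj a).injective).ge)
          rintro _ ⟨z, hz, rfl⟩
          exact OddOrder.Stab.map_subtype_conj_mem (frattini P) haP hz
        exact hxΦ ((Subgroup.mem_normalizer_iff.1 hΦN x).2 h)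
      have hidx : (Φ.subgroupOf (Φ ⊔ Subgroup.zpowers x)).index = 2 := by
        have h := Subgroup.card_mul_index (Φ.subgroupOf (Φ ⊔ Subgroup.zpowers x))
        rw [Nat.card_congr (Subgroup.subgroupOfEquivOfLe (le_sup_left :
          Φ ≤ Φ ⊔ Subgroup.zpowers x)).toEquiv, hcx, mul_comm 2] at h
        exact Nat.eq_of_mul_eq_mul_left Nat.card_pos h
      have h1 := Subgroup.mul_mem_iff_of_index_two hidx (a := ⟨a * x * a⁻¹, hax⟩)
        (b := ⟨x⁻¹, inv_mem hxm⟩)
      simp only [Subgroup.mem_subgroupOf, MulMemClass.mk_mul_mk, inv_mem_iff] at h1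
      rw [commutatorElement_def]
      exact h1.2 ⟨fun h => absurd h hnot, fun h => absurd h hxΦ⟩
    · -- `d ≤ |Φ|`
      have hΦne : Φ ≠ P := by
        intro h
        have h1 : frattini P = ⊤ := by
          apply Subgroup.eq_top_of_card_eq
          rw [← Subgroup.card_map_of_injective P.subtype_injective]
          exact congrArg (fun S : Subgroup X => Nat.card S) h
        have : Nontrivial P := by
          rw [← Finite.one_lt_card_iff_nontrivial]; omega
        exact (OddOrder.Stab.frattini_facts hP).2.2 this h1
      by_cases hmax : ∃ M : Subgroup X, Φ ≤ M ∧ M ≤ P ∧ (∀ x ∈ M, a * x * a⁻¹ ∈ M) ∧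
          M.relIndex P = 2
      · obtain ⟨M, hΦM, hMP, hMinv, hM2⟩ := hmax
        intro x hx
        have hMne : M ≠ P := fun h => by simp [h] at hM2
        have hcm : Nat.card M * 2 = Nat.card P := by
          rw [← hM2, ← Subgroup.relIndex_bot_left, Subgroup.relIndex_mul_relIndex _ _ _ bot_le hMP,
            Subgroup.relIndex_bot_left]
        rcases Nat.lt_or_ge d (Nat.card M) with hdM | hdM
        · have hM := hIH M hMP hMne hMinv hdM
          have hmem : ⁅a, x⁆ ∈ M := by
            by_cases hxM : x ∈ M
            · exact mul_mem (hMinv x hxM) (inv_mem hxM)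
            have h1 := Subgroup.mul_mem_iff_of_index_two (H := M.subgroupOf P) hM2
              (a := ⟨a * x * a⁻¹, hconj x hx⟩) (b := ⟨x⁻¹, inv_mem hx⟩)
            simp only [Subgroup.mem_subgroupOf, MulMemClass.mk_mul_mk, inv_mem_iff] at h1
            refine h1.2 ⟨fun h => ?_, fun h => absurd h hxM⟩
            have hNM : a ∈ Subgroup.normalizer (M : Set X) := by
              rw [Subgroup.mem_normalizer_iff_map_conj_eq]
              refine Subgroup.eq_of_le_of_card_ge ?_ (by
                exact (Subgroup.card_map_of_injective (MulAut.conj a).injective).ge)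
              rintro _ ⟨z, hz, rfl⟩
              exact hMinv z hz
            exact (Subgroup.mem_normalizer_iff.1 hNM x).2 h
          exact OddOrder.Stab.commute_of_stab_mem (hM _ hmem) hmem
            (hcop.coprime_dvd_right (Subgroup.card_dvd_of_le hMP))
        · -- `|P| = 2d`: every maximal subgroup has order `d`
          have hPd : Nat.card P = 2 * d := by
            have h1 : 2 ^ j < 2 ^ m := by rw [← hdj, ← hm]; exact hdP
            have h2 : 2 ^ (j + 1) ≤ 2 ^ m := Nat.pow_le_pow_right two_pos hjm
            rw [pow_succ, ← hdj, ← hm] at h2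
            omega
          refine hfin (fun y hy => ?_) x hx
          have hyP : (⟨⁅a, y⁆, mul_mem (hconj y hy) (inv_mem hy)⟩ : P) ∈ frattini P := by
            rw [Solvable.mem_frattini_iff]
            intro N hN
            have hNi : N.index = 2 := (coatom_index_two hP hN).2
            have hNc : Nat.card (N.map P.subtype) = d := by
              rw [Subgroup.card_map_of_injective P.subtype_injective]
              have := N.card_mul_index
              rw [hNi, hPd] at this
              omega
            have hNn := hinv _ (Subgroup.map_subtype_le N) (Or.inl hNc)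
            by_cases hyN : (⟨y, hy⟩ : P) ∈ N
            · obtain ⟨w, hw, hwe⟩ := (Subgroup.mem_normalizer_iff.1 hNn y).1 ⟨_, hyN, rfl⟩
              have : (⟨⁅a, y⁆, mul_mem (hconj y hy) (inv_mem hy)⟩ : P) = w * (⟨y, hy⟩ : P)⁻¹ := by
                apply Subtype.ext
                show ⁅a, y⁆ = (w : X) * y⁻¹
                rw [show (w : X) = a * y * a⁻¹ from hwe, commutatorElement_def]
              rw [this]
              exact mul_mem hw (inv_mem hyN)
            · have h1 := Subgroup.mul_mem_iff_of_index_two hNi
                (a := (⟨a * y * a⁻¹, hconj y hy⟩ : P)) (b := (⟨y, hy⟩ : P)⁻¹)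
              have h2 : (⟨a * y * a⁻¹, hconj y hy⟩ : P) ∉ N := fun h => by
                obtain ⟨w, hw, hwe⟩ := (Subgroup.mem_normalizer_iff.1 hNn y).2 ⟨_, h, rfl⟩
                exact hyN ((Subtype.ext hwe : w = ⟨y, hy⟩) ▸ hw)
              exact h1.2 ⟨fun h => absurd h h2, fun h => absurd (inv_mem_iff.1 h) hyN⟩
          exact ⟨_, hyP, rfl⟩
      · exfalso
        -- fixed elements lie in `Φ`
        have hfixΦ : ∀ x ∈ P, Commute a x → x ∈ Φ := by
          intro x hx hax
          by_contra hxΦ
          obtain ⟨M0, hM0c, hxM0⟩ : ∃ M0 : Subgroup P, IsCoatom M0 ∧ (⟨x, hx⟩ : P) ∉ M0 := by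
            by_contra h
            push Not at h
            exact hxΦ ⟨⟨x, hx⟩, Solvable.mem_frattini_iff.2 h, rfl⟩
          have := hP.isNilpotent
          obtain ⟨hM0n, hM0i⟩ := coatom_index_two hP hM0c
          have hQ2 : Nat.card (P ⧸ M0) = 2 := by rw [← Subgroup.index_eq_card, hM0i]
          have : IsCyclic (P ⧸ M0) := isCyclic_of_prime_card hQ2
          let aP : MulAut P :=
            { toFun := fun z => ⟨a * z * a⁻¹, hconj z z.2⟩
              invFun := fun z => ⟨a⁻¹ * z * a, (Subgroup.mem_normalizer_iff''.1 haP z).1 z.2⟩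
              left_inv := fun z => by ext; simp [mul_assoc]
              right_inv := fun z => by ext; simp [mul_assoc]
              map_mul' := fun z w => by ext; simp [mul_assoc] }
          have haPpow : ∀ (i : ℕ) (z : P), (((aP ^ i) z : P) : X) = a ^ i * z * (a ^ i)⁻¹ := by
            intro i
            induction i with
            | zero => intro z; simp
            | succ i ihi =>
              intro z
              rw [pow_succ', MulAut.mul_apply]
              show a * (((aP ^ i) z : P) : X) * a⁻¹ = _
              rw [ihi, pow_succ']; group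
          let := IsCyclic.commGroup (α := P ⧸ M0)
          let χ : P →* P ⧸ M0 :=
            { toFun := fun z => ∏ i ∈ Finset.range (orderOf a), QuotientGroup.mk' M0 ((aP ^ i) z)
              map_one' := by simp
              map_mul' := fun z w => by simp only [map_mul, Finset.prod_mul_distrib] }
          have hχinv : ∀ z, χ (aP z) = χ z := by
            intro z
            show ∏ i ∈ Finset.range (orderOf a), QuotientGroup.mk' M0 ((aP ^ i) (aP z)) =
              ∏ i ∈ Finset.range (orderOf a), QuotientGroup.mk' M0 ((aP ^ i) z)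
            let F : ℕ → P ⧸ M0 := fun i => QuotientGroup.mk' M0 ((aP ^ i) z)
            have e : ∀ i, QuotientGroup.mk' M0 ((aP ^ i) (aP z)) = F (i + 1) := fun i => by
              show _ = QuotientGroup.mk' M0 ((aP ^ (i + 1)) z)
              rw [pow_succ, MulAut.mul_apply]
            rw [Finset.prod_congr rfl (fun i _ => e i)]
            have hF : F (orderOf a) = F 0 := by
              show QuotientGroup.mk' M0 _ = QuotientGroup.mk' M0 _
              congr 1
              apply Subtype.ext
              rw [haPpow, haPpow, pow_orderOf_eq_one, pow_zero]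
            have h1 := Finset.prod_range_succ' F (orderOf a)
            rw [Finset.prod_range_succ, hF] at h1
            exact (mul_right_cancel h1).symm
          have hχx : χ ⟨x, hx⟩ ≠ 1 := by
            have hfixi : ∀ i, (aP ^ i) ⟨x, hx⟩ = ⟨x, hx⟩ := fun i => Subtype.ext (by
              rw [haPpow]
              show a ^ i * x * (a ^ i)⁻¹ = x
              rw [(hax.pow_left i).eq, mul_inv_cancel_right])
            show ∏ i ∈ Finset.range (orderOf a), QuotientGroup.mk' M0 ((aP ^ i) ⟨x, hx⟩) ≠ 1
            simp only [hfixi, Finset.prod_const, Finset.card_range]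
            intro h
            apply hxM0
            rw [← QuotientGroup.eq_one_iff, ← orderOf_eq_one_iff]
            refine Nat.eq_one_of_dvd_coprimes (Nat.coprime_two_right.2 ha)
              (orderOf_dvd_of_pow_eq_one h) ?_
            rw [← hQ2]
            exact orderOf_dvd_natCard _
          have hki : χ.ker.index = 2 := by
            rw [Subgroup.index_ker]
            refine ((Nat.dvd_prime Nat.prime_two).1
              (hQ2 ▸ Subgroup.card_subgroup_dvd_card χ.range)).resolve_left fun h => hχx ?_
            have h' : χ ⟨x, hx⟩ ∈ χ.range := ⟨_, rfl⟩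
            rw [Subgroup.card_eq_one.1 h, Subgroup.mem_bot] at h'
            exact h'
          refine hmax ⟨χ.ker.map P.subtype, ?_, Subgroup.map_subtype_le _, ?_, ?_⟩
          · refine Subgroup.map_mono fun z hz => ?_
            have hkc : IsCoatom χ.ker := by
              refine ⟨fun h => by rw [h, Subgroup.index_top] at hki; omega, fun L hL => ?_⟩
              have h1 := Subgroup.relIndex_mul_index hL.le
              rw [hki] at h1
              have h2 : χ.ker.relIndex L ≠ 1 := fun h => hL.not_ge (Subgroup.relIndex_eq_one.1 h)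
              exact Subgroup.index_eq_one.1 (by
                rcases (Nat.dvd_prime Nat.prime_two).1 (Dvd.intro_left _ h1) with h' | h'
                · exact h'
                · rw [h'] at h1; omega)
            exact Solvable.mem_frattini_iff.1 hz _ hkc
          · rintro _ ⟨z, hz, rfl⟩
            exact ⟨aP z, by rw [SetLike.mem_coe, MonoidHom.mem_ker, hχinv]; exact hz, rfl⟩
          · rw [Subgroup.relIndex, Subgroup.subgroupOf,
              Subgroup.comap_map_eq_self_of_injective P.subtype_injective, hki]
        -- elements outside `Φ` have order `> d`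
        have hord : ∀ x ∈ P, x ∉ Φ → d < orderOf x := by
          intro x hx hxΦ
          by_contra hle
          obtain ⟨k, hk⟩ := (hP.to_le (Subgroup.zpowers_le.2 hx)).exists_card_eq
          rw [Nat.card_zpowers] at hk
          have hkj : k ≤ j := by
            rw [hk, hdj, not_lt] at hle
            exact (Nat.pow_le_pow_iff_right one_lt_two).1 hle
          obtain ⟨E, hEc, hxE⟩ := Sylow.exists_subgroup_card_pow_prime_le 2
            (hm ▸ pow_dvd_pow 2 hjm.le) ((Subgroup.zpowers x).subgroupOf P)
            (by rw [Nat.card_congr (Subgroup.subgroupOfEquivOfLe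
              (Subgroup.zpowers_le.2 hx)).toEquiv, Nat.card_zpowers, hk]) hkj
          have hEX : Nat.card (E.map P.subtype) = d := by
            rw [Subgroup.card_map_of_injective P.subtype_injective, hEc, hdj]
          have hEn := hinv _ (Subgroup.map_subtype_le E) (Or.inl hEX)
          have hxM : x ∈ (E ⊔ frattini P).map P.subtype :=
            ⟨⟨x, hx⟩, Subgroup.mem_sup_left (hxE (Subgroup.mem_zpowers x)), rfl⟩
          have hΦM : Φ ≤ (E ⊔ frattini P).map P.subtype := Subgroup.map_mono le_sup_right
          have hne : (E ⊔ frattini P).map P.subtype ≠ P := by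
            intro h
            have hEtop : E = ⊤ := by
              refine Solvable.eq_top_of_sup_frattini (Subgroup.map_injective P.subtype_injective ?_)
              rw [h, ← MonoidHom.range_eq_map, Subgroup.range_subtype]
            rw [hEtop, Subgroup.card_top, hm] at hEc
            have := Nat.pow_right_injective le_rfl hEc
            omega
          have hinvM : ∀ z ∈ (E ⊔ frattini P).map P.subtype,
              a * z * a⁻¹ ∈ (E ⊔ frattini P).map P.subtype := by
            intro z hz
            rw [Subgroup.map_sup] at hz ⊢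
            have h1 : (MulAut.conj a).toMonoidHom z ∈
                (E.map P.subtype ⊔ Φ).map (MulAut.conj a).toMonoidHom := ⟨z, hz, rfl⟩
            rw [Subgroup.map_sup] at h1
            refine (sup_le_sup ?_ ?_ : _ ≤ E.map P.subtype ⊔ Φ) h1
            · rintro _ ⟨w, hw, rfl⟩
              exact (Subgroup.mem_normalizer_iff.1 hEn w).1 hw
            · rintro _ ⟨w, hw, rfl⟩
              exact OddOrder.Stab.map_subtype_conj_mem (frattini P) haP hw
          have hdM : d < Nat.card ((E ⊔ frattini P).map P.subtype) := by
            have : Φ < (E ⊔ frattini P).map P.subtype :=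
              lt_of_le_of_ne hΦM fun h => hxΦ (h.symm ▸ hxM)
            have hlt : Nat.card Φ < Nat.card ((E ⊔ frattini P).map P.subtype) :=
              lt_of_not_ge fun h => this.ne (Subgroup.eq_of_le_of_card_ge this.le h)
            omega
          exact hxΦ (hfixΦ x hx (hIH _ (Subgroup.map_subtype_le _) hne hinvM hdM x hxM))
        obtain ⟨x₀, hx₀, hx₀Φ⟩ : ∃ x ∈ P, x ∉ Φ := by
          by_contra h
          push Not at h
          exact hΦne (le_antisymm hΦP h)
        -- `Φ` is centralized
        have hΦc : ∀ z ∈ Φ, Commute a z := by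
          rcases hΦd.lt_or_eq with h | h
          · exact hIH Φ hΦP hΦne
              (fun z hz => OddOrder.Stab.map_subtype_conj_mem (frattini P) haP hz) h
          · intro z hz
            obtain ⟨k, hk⟩ := (hP.to_le (Subgroup.zpowers_le.2 hx₀)).exists_card_eq
            rw [Nat.card_zpowers] at hk
            have hkj : j < k := by
              have := hord x₀ hx₀ hx₀Φ
              rw [hk, hdj] at this
              exact (Nat.pow_lt_pow_iff_right one_lt_two).1 this
            have hw : x₀ ^ 2 ∈ Φ := hPsq x₀ hx₀
            have hgen : Subgroup.zpowers (x₀ ^ 2) = Φ := by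
              refine Subgroup.eq_of_le_of_card_ge (Subgroup.zpowers_le.2 hw) ?_
              rw [Nat.card_zpowers, orderOf_pow x₀, hk,
                Nat.gcd_eq_right (dvd_pow_self 2 (show k ≠ 0 by omega)), ← h, hdj,
                Nat.le_div_iff_mul_le two_pos, ← pow_succ]
              exact Nat.pow_le_pow_right two_pos hkj
            obtain ⟨l, rfl⟩ := Subgroup.mem_zpowers_iff.1 (hgen.symm ▸ hz : z ∈ Subgroup.zpowers (x₀ ^ 2))
            refine (commute_cyclic ha (j := k) ?_ ?_).zpow_right l
            · rw [← pow_mul, mul_comm, pow_mul, ← hk, pow_orderOf_eq_one, one_pow]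
            · rw [hgen]
              exact OddOrder.Stab.map_subtype_conj_mem (frattini P) haP hw
        -- the commutators `[a,x]` generate `P`
        let R : Subgroup P := Subgroup.closure
          (Set.range fun x : P => (⟨⁅a, (x : X)⁆, mul_mem (hconj x x.2) (inv_mem x.2)⟩ : P))
        have hR : R = ⊤ := by
          by_contra hRne
          obtain ⟨N, hN, hRN⟩ := Solvable.exists_coatom_ge hRne
          have := hP.isNilpotent
          have hNn : N.Normal := (Group.isNilpotent_of_finite_tfae.out 0 2 rfl rfl).1 this N hN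
          refine hmax ⟨N.map P.subtype, Subgroup.map_mono fun z hz =>
            Solvable.mem_frattini_iff.1 hz _ hN, Subgroup.map_subtype_le _, ?_, ?_⟩
          · rintro _ ⟨z, hz, rfl⟩
            refine ⟨⟨⁅a, (z : X)⁆, mul_mem (hconj z z.2) (inv_mem z.2)⟩ * z,
              mul_mem (hRN (Subgroup.subset_closure ⟨z, rfl⟩)) hz, ?_⟩
            show ⁅a, (z : X)⁆ * z = a * z * a⁻¹
            rw [commutatorElement_def]; group
          · rw [Subgroup.relIndex, Subgroup.subgroupOf,
              Subgroup.comap_map_eq_self_of_injective P.subtype_injective]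
            exact (coatom_index_two hP hN).2
        have hgen : ∀ (S : Subgroup P), (∀ x : P,
            (⟨⁅a, (x : X)⁆, mul_mem (hconj x x.2) (inv_mem x.2)⟩ : P) ∈ S) → ∀ x : P, x ∈ S :=
          fun S hS x => (Subgroup.closure_le S).2 (by rintro _ ⟨y, rfl⟩; exact hS y)
            (hR.symm ▸ Subgroup.mem_top x : x ∈ R)
        have hΦcen : ∀ z ∈ Φ, ∀ y ∈ P, Commute y z := by
          intro z hz y hy
          have h := hgen ((Subgroup.centralizer {z}).subgroupOf P) (fun x => ?_) ⟨y, hy⟩
          · exact Subgroup.mem_centralizer_singleton_iff.1 h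
          · rw [Subgroup.mem_subgroupOf]
            refine Subgroup.mem_centralizer_singleton_iff.2 ?_
            -- `x z x⁻¹ ∈ Φ` is fixed by `a`
            have hxz : (x : X) * z * (x : X)⁻¹ ∈ Φ :=
              OddOrder.Stab.map_subtype_conj_mem (frattini P) (Subgroup.le_normalizer x.2) hz
            have h1 := (hΦc _ hxz).eq
            have h2 := (hΦc z hz).eq
            show ⁅a, (x : X)⁆ * z = z * ⁅a, (x : X)⁆
            have h3 : (x : X)⁻¹ * z * x ∈ Φ := by
              have := OddOrder.Stab.map_subtype_conj_mem (frattini P)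
                (Subgroup.le_normalizer (inv_mem x.2)) hz
              rw [inv_inv] at this
              exact this
            have h4 := (hΦc _ h3).eq
            calc ⁅a, (x : X)⁆ * z = a * x * (a⁻¹ * ((x : X)⁻¹ * z * x)) * (x : X)⁻¹ := by
                  rw [commutatorElement_def]; group
              _ = a * x * (((x : X)⁻¹ * z * x) * a⁻¹) * (x : X)⁻¹ := by
                  rw [(hΦc _ h3).inv_left.eq]
              _ = a * z * x * a⁻¹ * (x : X)⁻¹ := by group
              _ = z * ⁅a, (x : X)⁆ := by rw [h2, commutatorElement_def]; group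
        let f : P →* P := MonoidHom.mk' (fun x => x ^ 4) fun x y => by
          have hc : ⁅y, x⁆ ∈ Subgroup.center P := by
            rw [Subgroup.mem_center_iff]
            exact fun g => Subtype.ext (hΦcen _ (hPcomm y y.2 x x.2) g g.2).eq
          have hc' : ∀ z, Commute ⁅y, x⁆ z := fun z => (Subgroup.mem_center_iff.1 hc z).symm
          have h2 : ⁅y, x⁆ ^ 2 = 1 := by
            rw [← OddOrder.Stab.commutatorElement_pow_left ((hc' y).symm) 2,
              commutatorElement_eq_one_iff_commute]
            apply Subtype.ext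
            exact (hΦcen _ (hPsq y y.2) x x.2).symm.eq
          rw [OddOrder.Stab.mul_pow_of_commutator_central hc' 4,
            show Nat.choose 4 2 = 2 * 3 from rfl, pow_mul, h2, one_pow, mul_one]
        have hf : ∀ x : P, f x = 1 := fun x => by
          refine MonoidHom.mem_ker.1 (hgen f.ker (fun y => ?_) x)
          rw [MonoidHom.mem_ker]
          have e : (⟨⁅a, (y : X)⁆, mul_mem (hconj y y.2) (inv_mem y.2)⟩ : P) =
              ⟨a * y * a⁻¹, hconj y y.2⟩ * y⁻¹ := Subtype.ext (commutatorElement_def _ _)
          rw [e, map_mul, map_inv, mul_inv_eq_one]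
          apply Subtype.ext
          show ((⟨a * y * a⁻¹, hconj y y.2⟩ : P) : X) ^ 4 = (y : X) ^ 4
          have h4 : (y : X) ^ 4 ∈ Φ := by
            rw [show (4 : ℕ) = 2 * 2 from rfl, pow_mul]
            exact pow_mem (hPsq y y.2) 2
          rw [conj_pow, (hΦc _ h4).eq, mul_inv_cancel_right]
        have hx4 : x₀ ^ 4 = 1 := congrArg Subtype.val (hf ⟨x₀, hx₀⟩)
        have ho := hord x₀ hx₀ hx₀Φ
        obtain ⟨k, hk2, hk⟩ := (Nat.dvd_prime_pow Nat.prime_two).1
          (orderOf_dvd_of_pow_eq_one hx4 : orderOf x₀ ∣ 2 ^ 2)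
        have hk' : k = 2 ∧ j = 1 := by
          rw [hk, hdj] at ho
          have := (Nat.pow_lt_pow_iff_right one_lt_two).1 ho
          omega
        obtain ⟨rfl, rfl⟩ := hk'
        have hn4 := hinv (Subgroup.zpowers x₀) (Subgroup.zpowers_le.2 hx₀)
          (Or.inr ⟨by simpa using hdj, by rw [Nat.card_zpowers, hk]; rfl⟩)
        refine hx₀Φ (hfixΦ x₀ hx₀ (commute_cyclic ha (j := 2) hx4 ?_))
        exact (Subgroup.mem_normalizer_iff.1 hn4 x₀).1 (Subgroup.mem_zpowers x₀)


/-- Let P be a 2-subgroup and A a subgroup of odd order of a finite group, with A normalizing P. Let D ≤ P with 1 < |D| < |P|. If every subgroup of P of order |D|, and also every subgroup of P of order 4 in case |D| = 2, is normalized by A, then A centralizes P. -/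
theorem result {X : Type*} [Group X] [Finite X] (P A D : Subgroup X) (hP : IsPGroup 2 P) (hA : Odd (Nat.card A))
    (hAP : A ≤ Subgroup.normalizer (P : Set X)) (hDP : D ≤ P) (hD1 : 1 < Nat.card D) (hD2 : Nat.card D < Nat.card P)
    (hinv : ∀ E : Subgroup X, E ≤ P → (Nat.card E = Nat.card D ∨ (Nat.card D = 2 ∧ Nat.card E = 4)) → A ≤ Subgroup.normalizer (E : Set X)) :
    A ≤ Subgroup.centralizer (P : Set X) := by
  intro a haA x hx
  haveI : Fact (Nat.Prime 2) := ⟨Nat.prime_two⟩
  obtain ⟨j, hj⟩ := (hP.to_le hDP).exists_card_eq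
  have h := commute_aux (hA.of_dvd_nat (A.orderOf_dvd_natCard haA)) hj hD1 _ P le_rfl hP (hAP haA)
    hD2 (fun E hE hc => hinv E hE hc haA) x hx
  exact h.eq.symm

end Cfsg.Agent.S3803
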