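import Cfsg.Statements.S3804

import Mathlib

set_option autoImplicit false
open Cfsg

namespace Cfsg.Agent.S3804

/-- `|A| |B| ≤ |A ∩ B| |⟨A,B⟩|`, with equality only if every element of the join is a product. -/
theorem card_mul_le {X : Type*} [Group X] [Finite X] (A B : Subgroup X) :
    Nat.card A * Nat.card B ≤ Nat.card ↥(A ⊓ B) * Nat.card ↥(A ⊔ B) ∧
      (Nat.card A * Nat.card B = Nat.card ↥(A ⊓ B) * Nat.card ↥(A ⊔ B) →
        ∀ g ∈ A ⊔ B, ∃ a ∈ A, ∃ b ∈ B, g = a * b) := by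
  let ι := Subgroup.quotientSubgroupOfEmbeddingOfLE B (le_sup_left : A ≤ A ⊔ B)
  have e1 : Nat.card ↥(A ⊓ B) * Nat.card (A ⧸ B.subgroupOf A) = Nat.card A := by
    have h := (B.subgroupOf A).card_eq_card_quotient_mul_card_subgroup
    rw [h, mul_comm]
    congr 1
    exact Nat.card_congr ⟨fun x => ⟨⟨x.1, x.2.1⟩, x.2.2⟩, fun x => ⟨x.1.1, x.1.2, x.2⟩,
      fun x => rfl, fun x => rfl⟩
  have e2 : Nat.card ((A ⊔ B : Subgroup X) ⧸ B.subgroupOf (A ⊔ B)) * Nat.card B =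
      Nat.card ↥(A ⊔ B) := by
    rw [(B.subgroupOf (A ⊔ B)).card_eq_card_quotient_mul_card_subgroup,
      Nat.card_congr (Subgroup.subgroupOfEquivOfLe (le_sup_right : B ≤ A ⊔ B)).toEquiv]
  have hle := Nat.card_le_card_of_injective _ ι.injective
  constructor
  · rw [← e1, ← e2, mul_assoc]
    exact Nat.mul_le_mul_left _ (Nat.mul_le_mul_right _ hle)
  · intro he g hg
    rw [← e1, ← e2, mul_assoc] at he
    have he' := Nat.eq_of_mul_eq_mul_left Nat.card_pos he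
    have hc := Nat.eq_of_mul_eq_mul_right Nat.card_pos he'
    have hbij : Function.Bijective ι :=
      (Nat.bijective_iff_injective_and_card _).2 ⟨ι.injective, hc⟩
    obtain ⟨q, hq⟩ := hbij.2 (QuotientGroup.mk ⟨g, hg⟩)
    induction q using QuotientGroup.induction_on with
    | H a =>
      rw [Subgroup.quotientSubgroupOfEmbeddingOfLE_apply_mk, QuotientGroup.eq] at hq
      refine ⟨a, a.2, (a : X)⁻¹ * g, hq, by group⟩


/-- Let G and H be subgroups of a finite group with G normalizing H, fix a real number α > 0, and for a subgroup A of G put m(A) = |A|^α · |C_H(A)|. Let A and B be nontrivial subgroups of G at which m attains its maximum over all nontrivial subgroups of G, and assume that A ∩ B ≠ 1 or that this maximum is at least |H|. Then AB = BA is a subgroup at which m is again maximal, C_H(A ∩ B) = C_H(A) C_H(B), and if A ∩ B ≠ 1 then m is maximal at A ∩ B as well. -/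
theorem result {X : Type*} [Group X] [Finite X] (G H : Subgroup X) (hGH : G ≤ Subgroup.normalizer (H : Set X)) (α : ℝ) (hα : 0 < α)
    (A B : Subgroup X) (hA : A ≤ G) (hB : B ≤ G) (hA1 : A ≠ ⊥) (hB1 : B ≠ ⊥)
    (hAmax : ∀ A' : Subgroup X, A' ≤ G → A' ≠ ⊥ → (fun A : Subgroup X => ((Nat.card A : ℝ) ^ α) * (Nat.card ↥(H ⊓ Subgroup.centralizer (A : Set X)) : ℝ)) A' ≤ (fun A : Subgroup X => ((Nat.card A : ℝ) ^ α) * (Nat.card ↥(H ⊓ Subgroup.centralizer (A : Set X)) : ℝ)) A)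
    (hBmax : ∀ A' : Subgroup X, A' ≤ G → A' ≠ ⊥ → (fun A : Subgroup X => ((Nat.card A : ℝ) ^ α) * (Nat.card ↥(H ⊓ Subgroup.centralizer (A : Set X)) : ℝ)) A' ≤ (fun A : Subgroup X => ((Nat.card A : ℝ) ^ α) * (Nat.card ↥(H ⊓ Subgroup.centralizer (A : Set X)) : ℝ)) B)
    (hcase : A ⊓ B ≠ ⊥ ∨ (Nat.card H : ℝ) ≤ (fun A : Subgroup X => ((Nat.card A : ℝ) ^ α) * (Nat.card ↥(H ⊓ Subgroup.centralizer (A : Set X)) : ℝ)) A) :
    (∀ a ∈ A, ∀ b ∈ B, ∃ b' ∈ B, ∃ a' ∈ A, a * b = b' * a') ∧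
    (∀ A' : Subgroup X, A' ≤ G → A' ≠ ⊥ → (fun A : Subgroup X => ((Nat.card A : ℝ) ^ α) * (Nat.card ↥(H ⊓ Subgroup.centralizer (A : Set X)) : ℝ)) A' ≤ (fun A : Subgroup X => ((Nat.card A : ℝ) ^ α) * (Nat.card ↥(H ⊓ Subgroup.centralizer (A : Set X)) : ℝ)) (A ⊔ B)) ∧
    (∀ h ∈ H ⊓ Subgroup.centralizer ((A ⊓ B : Subgroup X) : Set X), ∃ u ∈ H ⊓ Subgroup.centralizer (A : Set X), ∃ v ∈ H ⊓ Subgroup.centralizer (B : Set X), h = u * v) ∧
    (A ⊓ B ≠ ⊥ → ∀ A' : Subgroup X, A' ≤ G → A' ≠ ⊥ → (fun A : Subgroup X => ((Nat.card A : ℝ) ^ α) * (Nat.card ↥(H ⊓ Subgroup.centralizer (A : Set X)) : ℝ)) A' ≤ (fun A : Subgroup X => ((Nat.card A : ℝ) ^ α) * (Nat.card ↥(H ⊓ Subgroup.centralizer (A : Set X)) : ℝ)) (A ⊓ B)) := by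
  dsimp only at *
  set mA := (Nat.card A : ℝ) ^ α * (Nat.card ↥(H ⊓ Subgroup.centralizer (A : Set X)) : ℝ) with hmA
  set mB := (Nat.card B : ℝ) ^ α * (Nat.card ↥(H ⊓ Subgroup.centralizer (B : Set X)) : ℝ) with hmB
  have hAB : mA = mB := le_antisymm (hBmax A hA hA1) (hAmax B hB hB1)
  set CA := H ⊓ Subgroup.centralizer (A : Set X) with hCA
  set CB := H ⊓ Subgroup.centralizer (B : Set X) with hCB
  set CI := H ⊓ Subgroup.centralizer ((A ⊓ B : Subgroup X) : Set X) with hCI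
  set CJ := H ⊓ Subgroup.centralizer ((A ⊔ B : Subgroup X) : Set X) with hCJ
  have hCJe : CA ⊓ CB = CJ := by
    refine le_antisymm (fun x hx => Subgroup.mem_inf.2 ⟨hx.1.1, ?_⟩) (le_inf ?_ ?_)
    · have hle : A ⊔ B ≤ Subgroup.centralizer ({x} : Set X) := sup_le
        (fun a ha => Subgroup.mem_centralizer_singleton_iff.2 (hx.1.2 a ha))
        (fun b hb => Subgroup.mem_centralizer_singleton_iff.2 (hx.2.2 b hb))
      exact fun y hy => Subgroup.mem_centralizer_singleton_iff.1 (hle hy)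
    · exact inf_le_inf_left H (Subgroup.centralizer_le (le_sup_left : A ≤ A ⊔ B))
    · exact inf_le_inf_left H (Subgroup.centralizer_le (le_sup_right : B ≤ A ⊔ B))
  have hCle : CA ⊔ CB ≤ CI := sup_le
    (inf_le_inf_left H (Subgroup.centralizer_le (inf_le_left : A ⊓ B ≤ A)))
    (inf_le_inf_left H (Subgroup.centralizer_le (inf_le_right : A ⊓ B ≤ B)))
  obtain ⟨c1, c1e⟩ := card_mul_le A B
  obtain ⟨c2, c2e⟩ := card_mul_le CA CB
  rw [hCJe] at c2 c2e
  have c3 : Nat.card CA * Nat.card CB ≤ Nat.card CJ * Nat.card CI :=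
    c2.trans (Nat.mul_le_mul_left _ (Subgroup.card_le_of_le hCle))
  have hJne : A ⊔ B ≠ ⊥ := fun h => hA1 (eq_bot_iff.2 (le_sup_left.trans h.le))
  have hJ : (Nat.card ↥(A ⊔ B) : ℝ) ^ α * (Nat.card CJ : ℝ) ≤ mA :=
    hAmax _ (sup_le hA hB) hJne
  have hI : (Nat.card ↥(A ⊓ B) : ℝ) ^ α * (Nat.card CI : ℝ) ≤ mA := by
    rcases eq_or_ne (A ⊓ B) ⊥ with h0 | h0
    · rcases hcase with h | h
      · exact absurd h0 h
      · refine le_trans ?_ h
        have : Nat.card ↥(A ⊓ B) = 1 := by rw [h0, Subgroup.card_bot]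
        rw [this, Nat.cast_one, Real.one_rpow, one_mul, Nat.cast_le]
        exact Subgroup.card_le_of_le inf_le_left
    · exact hAmax _ (inf_le_left.trans hA) h0
  have pos : ∀ K : Subgroup X, (0 : ℝ) < Nat.card K := fun K => by exact_mod_cast Nat.card_pos
  have hmApos : 0 < mA := mul_pos (Real.rpow_pos_of_pos (pos A) α) (pos CA)
  have hb0 : (0 : ℝ) ≤ (Nat.card A : ℝ) * Nat.card B := by positivity
  have hlow : mA * mA ≤ ((Nat.card ↥(A ⊔ B) : ℝ) ^ α * (Nat.card CJ : ℝ)) *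
      ((Nat.card ↥(A ⊓ B) : ℝ) ^ α * (Nat.card CI : ℝ)) := by
    calc mA * mA = mA * mB := by rw [← hAB]
      _ = ((Nat.card A : ℝ) * Nat.card B) ^ α * ((Nat.card CA : ℝ) * Nat.card CB) := by
          rw [hmA, hmB, Real.mul_rpow (pos A).le (pos B).le]; ring
      _ ≤ ((Nat.card ↥(A ⊔ B) : ℝ) * Nat.card ↥(A ⊓ B)) ^ α * ((Nat.card CJ : ℝ) * Nat.card CI) := by
          refine mul_le_mul (Real.rpow_le_rpow hb0 ?_ hα.le) ?_ (by positivity) (by positivity)
          · rw [mul_comm (Nat.card ↥(A ⊔ B) : ℝ)]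
            exact_mod_cast c1
          · exact_mod_cast c3
      _ = _ := by rw [Real.mul_rpow (pos _).le (pos _).le]; ring
  set x := (Nat.card ↥(A ⊔ B) : ℝ) ^ α * (Nat.card CJ : ℝ) with hx
  set y := (Nat.card ↥(A ⊓ B) : ℝ) ^ α * (Nat.card CI : ℝ) with hy
  have hxe : x = mA := by
    refine le_antisymm hJ ?_
    have : mA * mA ≤ x * mA := hlow.trans (mul_le_mul_of_nonneg_left hI (by positivity))
    exact le_of_mul_le_mul_right this hmApos
  have hye : y = mA := by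
    refine le_antisymm hI ?_
    have : mA * mA ≤ mA * y := hlow.trans (mul_le_mul_of_nonneg_right hJ (by positivity))
    exact le_of_mul_le_mul_left this hmApos
  have heq : ((Nat.card A : ℝ) * Nat.card B) ^ α * ((Nat.card CA : ℝ) * Nat.card CB) =
      ((Nat.card ↥(A ⊓ B) : ℝ) * Nat.card ↥(A ⊔ B)) ^ α * ((Nat.card CJ : ℝ) * Nat.card CI) := by
    rw [Real.mul_rpow (pos A).le (pos B).le, Real.mul_rpow (pos _).le (pos _).le]
    have h1 : mA * mB = y * x := by rw [← hAB, hxe, hye]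
    rw [hmA, hmB, hx, hy] at h1
    linear_combination h1
  have r1 : ((Nat.card A : ℝ) * Nat.card B) ≤ (Nat.card ↥(A ⊓ B) : ℝ) * Nat.card ↥(A ⊔ B) := by
    exact_mod_cast c1
  have r2 : ((Nat.card CA : ℝ) * Nat.card CB) ≤ (Nat.card CJ : ℝ) * Nat.card CI := by
    exact_mod_cast c3
  have s1 : Nat.card A * Nat.card B = Nat.card ↥(A ⊓ B) * Nat.card ↥(A ⊔ B) := by
    rcases r1.lt_or_eq with h | h
    · exfalso
      have := mul_lt_mul_of_pos_of_nonneg' (Real.rpow_lt_rpow hb0 h hα) r2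
        (mul_pos (pos CA) (pos CB)) (by positivity)
      rw [heq] at this
      exact lt_irrefl _ this
    · exact_mod_cast h
  have s2 : Nat.card CA * Nat.card CB = Nat.card CJ * Nat.card CI := by
    have h0 : (Nat.card A : ℝ) * Nat.card B = (Nat.card ↥(A ⊓ B) : ℝ) * Nat.card ↥(A ⊔ B) := by
      exact_mod_cast s1
    rw [← h0] at heq
    exact_mod_cast mul_left_cancel₀ (Real.rpow_pos_of_pos (mul_pos (pos A) (pos B)) α).ne' heq
  have hsup : CA ⊔ CB = CI := by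
    refine Subgroup.eq_of_le_of_card_ge hCle ?_
    have h1 : Nat.card CJ * Nat.card CI ≤ Nat.card CJ * Nat.card ↥(CA ⊔ CB) := s2 ▸ c2
    exact Nat.le_of_mul_le_mul_left h1 Nat.card_pos
  refine ⟨fun a ha b hb => ?_, ?_, fun h hh => ?_, ?_⟩
  · obtain ⟨a', ha', b', hb', he⟩ := c1e s1 (a * b)⁻¹
      (inv_mem (mul_mem (Subgroup.mem_sup_left ha) (Subgroup.mem_sup_right hb)))
    exact ⟨b'⁻¹, inv_mem hb', a'⁻¹, inv_mem ha', by rw [← mul_inv_rev, ← he, inv_inv]⟩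
  · exact fun A' h1 h2 => (hAmax A' h1 h2).trans hxe.ge
  · rw [← hsup] at hh
    exact c2e (by rw [hsup]; exact s2) h hh
  · exact fun _ A' h1 h2 => (hAmax A' h1 h2).trans hye.ge

end Cfsg.Agent.S3804
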