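import Cfsg.Statements.S3806
import Cfsg.Agent.PMaxClass.AbelianTerm

set_option autoImplicit false
open Cfsg

namespace Cfsg.Agent.S3806

/-- Let p be a prime and S a finite p-group of order pⁿ (n ≥ 2) of maximal nilpotency class n − 1 whose sectional p-rank is exactly k (every section has p-rank at most k, and some section has p-rank k). If p ≥ k + 2 then the order of S is at most p^(2k). -/
theorem result {S : Type*} [Group S] [Finite S] (p : ℕ) [Fact p.Prime] (hS : IsPGroup p S) [Group.IsNilpotent S]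
    (n : ℕ) (hn : 2 ≤ n) (hcard : Nat.card S = p ^ n) (hmax : Group.nilpotencyClass S = n - 1)
    (k : ℕ) (hk : 1 ≤ k) (hsr : Cfsg.SectionalPRankLE p k S ∧ ¬ Cfsg.SectionalPRankLE p (k - 1) S)
    (hpk : k + 2 ≤ p) : Nat.card S ≤ p ^ (2 * k) := by
  have hp := (Fact.out : p.Prime)
  rw [hcard]
  refine Nat.pow_le_pow_right hp.pos ?_
  by_contra hlt
  push Not at hlt
  have h : CfsgLib.PMaxClass.MaxClass S p n := ⟨hp, hcard, fun e => by
    have := Subgroup.upperCentralSeries_eq_top_iff_nilpotencyClass_le.1 e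
    omega⟩
  have hc : Subgroup.upperCentralSeries S (n - 1) = ⊤ :=
    Subgroup.upperCentralSeries_eq_top_iff_nilpotencyClass_le.2 hmax.le
  rcases Nat.lt_or_ge k 2 with hk1 | hk2
  · -- `S / U (n - 2)` has rank two
    obtain rfl : k = 1 := by omega
    set U := Subgroup.upperCentralSeries S (n - 2) with hU
    have hidx : U.index = p ^ 2 := by
      refine Nat.eq_of_mul_eq_mul_left (pow_pos hp.pos (n - 2)) ?_
      have h1 := Subgroup.card_mul_index U
      rw [h.card_upper le_rfl, hcard] at h1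
      rw [h1, ← pow_add]
      congr 1
      omega
    let N : Subgroup ↥(⊤ : Subgroup S) := U.subgroupOf ⊤
    have hNn : N.Normal := Subgroup.normal_subgroupOf
    have hNidx : Nat.card (↥(⊤ : Subgroup S) ⧸ N) = p ^ 2 := by
      show N.index = _
      rw [← hidx, ← Subgroup.relIndex_top_right U]
      rfl
    have hab : IsMulCommutative (↥(⊤ : Subgroup S) ⧸ N) :=
      IsPGroup.isMulCommutative_of_card_eq_prime_sq hNidx
    have h1 := hsr.1 ⊤ N ⊤
      ⟨⟨fun x y => Subtype.ext (hab.is_comm.comm (x : ↥(⊤ : Subgroup S) ⧸ N) y)⟩⟩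
    have hexp : ∀ a : ↥(⊤ : Subgroup S) ⧸ N, a ^ p = 1 := by
      intro a
      by_contra hne
      obtain ⟨d, hd, hd'⟩ := (Nat.dvd_prime_pow hp).1 (hNidx ▸ orderOf_dvd_natCard a)
      have hd2 : d = 2 := by
        by_contra hd2
        refine hne (orderOf_dvd_iff_pow_eq_one.1 ?_)
        rw [hd']
        exact (pow_dvd_pow p (show d ≤ 1 by omega)).trans (by rw [pow_one])
      -- a cyclic quotient by `U (n - 2)` makes `U (n - 2)` everything
      have hgen : ∀ x, x ∈ Subgroup.zpowers a := by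
        have : Subgroup.zpowers a = ⊤ := Subgroup.eq_top_of_card_eq _ (by
          rw [Nat.card_zpowers, hd', hd2, hNidx])
        exact fun x => this ▸ Subgroup.mem_top x
      refine h.ne_top (eq_top_iff.2 fun x _ => ?_)
      obtain ⟨g, rfl⟩ := QuotientGroup.mk_surjective a
      rw [show n - 2 = n - 3 + 1 by omega, Subgroup.mem_upperCentralSeries_succ_iff]
      intro y
      set f := QuotientGroup.mk' (Subgroup.upperCentralSeries S (n - 3)) with hf
      have hcen : ∀ u ∈ U, ∀ z, Commute (f u) (f z) := fun u hu z => by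
        rw [← commutatorElement_eq_one_iff_commute, ← map_commutatorElement, hf,
          QuotientGroup.mk'_apply, QuotientGroup.eq_one_iff]
        rw [hU, show n - 2 = n - 3 + 1 by omega] at hu
        exact Subgroup.mem_upperCentralSeries_succ_iff.1 hu z
      have hdec : ∀ z : S, ∃ (e : ℤ) (u : S), u ∈ U ∧ z = (g : S) ^ e * u := fun z => by
        obtain ⟨e, he⟩ := Subgroup.mem_zpowers_iff.1
          (hgen ((⟨z, Subgroup.mem_top z⟩ : ↥(⊤ : Subgroup S)) : ↥(⊤ : Subgroup S) ⧸ N))
        have h2 := QuotientGroup.eq.1 (he : ((g ^ e : ↥(⊤ : Subgroup S)) : ↥(⊤ : Subgroup S) ⧸ N) = _)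
        exact ⟨e, ((g : S) ^ e)⁻¹ * z, by simpa [N, Subgroup.mem_subgroupOf] using h2, by group⟩
      obtain ⟨e₁, u₁, hu₁, rfl⟩ := hdec x
      obtain ⟨e₂, u₂, hu₂, rfl⟩ := hdec y
      rw [← QuotientGroup.eq_one_iff, ← QuotientGroup.mk'_apply, map_commutatorElement,
        commutatorElement_eq_one_iff_commute, ← hf, map_mul, map_mul, map_zpow, map_zpow]
      have c1 : Commute (f (g : S) ^ e₁) (f (g : S) ^ e₂) := (Commute.refl _).zpow_zpow e₁ e₂
      exact (c1.mul_right (((hcen u₂ hu₂ g).symm).zpow_left e₁)).mul_left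
        (((hcen u₁ hu₁ g).zpow_right e₂).mul_right (hcen u₁ hu₁ u₂))
    have h2 := h1 fun a _ => hexp a
    rw [Subgroup.card_top, hNidx] at h2
    exact absurd h2 (Nat.pow_lt_pow_right hp.one_lt (by omega)).not_ge
  · obtain ⟨hcomm, hexp⟩ := h.elementary_upper hc (m := k + 1) (by omega) (by omega) (by omega) (by omega)
    have hab : IsMulCommutative ↥(Subgroup.upperCentralSeries S (k + 1)) :=
      ⟨⟨fun a b => Subtype.ext (hcomm a a.2 b b.2)⟩⟩
    set U := Subgroup.upperCentralSeries S (k + 1) with hU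
    have h1 := hsr.1 U ⊥ ⊤ ⟨⟨fun x y => Subtype.ext (by
      obtain ⟨x', hx'⟩ := QuotientGroup.mk_surjective (x : ↥U ⧸ (⊥ : Subgroup ↥U))
      obtain ⟨y', hy'⟩ := QuotientGroup.mk_surjective (y : ↥U ⧸ (⊥ : Subgroup ↥U))
      show (x : ↥U ⧸ (⊥ : Subgroup ↥U)) * y = y * x
      rw [← hx', ← hy', ← QuotientGroup.mk_mul, ← QuotientGroup.mk_mul, hab.is_comm.comm])⟩⟩
      (fun a _ => by
        obtain ⟨a', rfl⟩ := QuotientGroup.mk_surjective a
        rw [← QuotientGroup.mk_pow, show a' ^ p = 1 from Subtype.ext (hexp a' a'.2), QuotientGroup.mk_one])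
    rw [Subgroup.card_top, Nat.card_congr (QuotientGroup.quotientBot (G := ↥U)).toEquiv,
      h.card_upper (by omega)] at h1
    exact absurd h1 (Nat.pow_lt_pow_right hp.one_lt (by omega)).not_ge

end Cfsg.Agent.S3806
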