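import Cfsg.Statements.S3807

import Mathlib

set_option autoImplicit false
open Cfsg

namespace Cfsg.Agent.S3807

open scoped commutatorElement

/-- The nonidentity elements of a group of exponent `p` are fibred over the subgroups of order `p`. -/
theorem card_subgroups_prime {G : Type*} [Group G] [Finite G] {p : ℕ} [hp : Fact p.Prime]
    (hexp : ∀ x : G, x ^ p = 1) :
    Nat.card {U : Subgroup G // Nat.card U = p} * (p - 1) + 1 = Nat.card G := by
  classical
  let := Fintype.ofFinite G
  have hord : ∀ x : G, x ≠ 1 → orderOf x = p := fun x hx => orderOf_eq_prime (hexp x) hx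
  let e : {x : G // x ≠ 1} ≃ Σ U : {U : Subgroup G // Nat.card U = p}, {y : U.1 // y ≠ 1} :=
    { toFun := fun x => ⟨⟨Subgroup.zpowers x.1, by rw [Nat.card_zpowers]; exact hord _ x.2⟩,
        ⟨⟨x.1, Subgroup.mem_zpowers x.1⟩, fun h => x.2 (congrArg Subtype.val h)⟩⟩
      invFun := fun z => ⟨z.2.1.1, fun h => z.2.2 (Subtype.ext h)⟩
      left_inv := fun x => rfl
      right_inv := by
        rintro ⟨⟨U, hU⟩, ⟨⟨y, hy⟩, hy1⟩⟩
        have hy1' : y ≠ 1 := fun h => hy1 (Subtype.ext h)
        have : Subgroup.zpowers y = U := by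
          refine Subgroup.eq_of_le_of_card_ge (Subgroup.zpowers_le.2 hy) ?_
          rw [Nat.card_zpowers, hord y hy1', hU]
        subst this
        rfl }
  have h1 : ∀ (α : Type _) [Group α] [Finite α], Nat.card {y : α // y ≠ 1} + 1 = Nat.card α := by
    intro α _ _
    rw [← Nat.card_congr (Equiv.optionSubtypeNe (1 : α)), Finite.card_option]
  have h2 := h1 G
  rw [Nat.card_congr e, Nat.card_sigma] at h2
  have h3 : ∀ U : {U : Subgroup G // Nat.card U = p}, Nat.card {y : U.1 // y ≠ 1} = p - 1 := by
    intro U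
    have := h1 U.1
    rw [U.2] at this
    omega
  rw [Finset.sum_congr rfl (fun U _ => h3 U), Finset.sum_const, smul_eq_mul, Finset.card_univ,
    ← Nat.card_eq_fintype_card] at h2
  exact h2


/-- Let S be a non-abelian finite p-group with an abelian subgroup A of index p. Then [S : Z(S)] = p·#[S,S], and either [S,S] has order p, S/Z(S) is elementary abelian of order p², and S has exactly p + 1 abelian subgroups of index p; or [S,S] has order at least p² and A is the only abelian subgroup of index p in S. -/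
theorem result {S : Type*} [Group S] [Finite S] (p : ℕ) [Fact p.Prime] (hS : IsPGroup p S) (hna : ¬ IsMulCommutative S)
    (A : Subgroup S) (hA : IsMulCommutative ↥A) (hAi : A.index = p) :
    (Subgroup.center S).index = p * Nat.card (commutator S) ∧
      ((Nat.card (commutator S) = p ∧ Cfsg.IsElementaryAbelian p (⊤ : Subgroup (S ⧸ Subgroup.center S)) ∧
          Nat.card (S ⧸ Subgroup.center S) = p ^ 2 ∧
          Nat.card {B : Subgroup S // IsMulCommutative ↥B ∧ B.index = p} = p + 1) ∨
        (p ^ 2 ≤ Nat.card (commutator S) ∧ ∀ B : Subgroup S, IsMulCommutative ↥B → B.index = p → B = A)) := by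
  classical
  have hp : p.Prime := Fact.out
  obtain ⟨m, hm⟩ := hS.exists_card_eq
  have hm0 : m ≠ 0 := by
    rintro rfl
    have := A.index_dvd_card
    rw [hAi, hm, pow_zero] at this
    exact hp.ne_one (Nat.dvd_one.1 this)
  have hnorm : ∀ B : Subgroup S, B.index = p → B.Normal := fun B hB =>
    Subgroup.normal_of_index_eq_minFac_card (by rw [hB, hm, Nat.Prime.pow_minFac hp hm0])
  have hAn := hnorm A hAi
  have hAc : ∀ a ∈ A, ∀ b ∈ A, a * b = b * a := fun a ha b hb =>
    congrArg Subtype.val (mul_comm' (⟨a, ha⟩ : A) ⟨b, hb⟩)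
  have hAt : A ≠ ⊤ := fun h => by rw [h, Subgroup.index_top] at hAi; exact hp.ne_one hAi.symm
  have hmax : ∀ B : Subgroup S, B.index = p → ∀ C, B ≤ C → C = B ∨ C = ⊤ := by
    intro B hB C hBC
    rcases (Nat.dvd_prime hp).1 (hB ▸ Subgroup.index_dvd_of_le hBC) with h | h
    · exact Or.inr (Subgroup.index_eq_one.1 h)
    · refine Or.inl (Subgroup.eq_of_le_of_card_ge hBC ?_).symm
      have h1 := B.card_mul_index
      have h2 := C.card_mul_index
      rw [hB, ← h2, h] at h1
      exact (Nat.eq_of_mul_eq_mul_right hp.pos h1).ge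
  -- every abelian subgroup of index `p` contains the centre
  have hZ : ∀ B : Subgroup S, IsMulCommutative B → B.index = p → Subgroup.center S ≤ B := by
    intro B hB hBi
    rcases hmax B hBi (B ⊔ Subgroup.center S) le_sup_left with h | h
    · exact le_sup_right.trans h.le
    · exfalso
      refine hna ⟨⟨fun x y => ?_⟩⟩
      obtain ⟨a, ha, c, hc, rfl⟩ := Subgroup.mem_sup_of_normal_right.1
        (h.symm ▸ Subgroup.mem_top x : x ∈ B ⊔ Subgroup.center S)
      obtain ⟨b, hb, d, hd, rfl⟩ := Subgroup.mem_sup_of_normal_right.1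
        (h.symm ▸ Subgroup.mem_top y : y ∈ B ⊔ Subgroup.center S)
      have hab : a * b = b * a := congrArg Subtype.val (mul_comm' (⟨a, ha⟩ : B) ⟨b, hb⟩)
      have c1 := Subgroup.mem_center_iff.1 hc
      have d1 := Subgroup.mem_center_iff.1 hd
      calc a * c * (b * d) = a * (c * (b * d)) := by group
        _ = a * b * (d * c) := by rw [← c1 (b * d)]; group
        _ = b * a * (d * c) := by rw [hab]
        _ = b * (a * d) * c := by group
        _ = b * d * (a * c) := by rw [d1 a]; group
  obtain ⟨t, ht⟩ : ∃ t, t ∉ A := by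
    by_contra h
    push Not at h
    exact hAt ((Subgroup.eq_top_iff' A).2 h)
  have hgen : A ⊔ Subgroup.zpowers t = ⊤ := (hmax A hAi _ le_sup_left).resolve_left
    fun h => ht (h ▸ Subgroup.mem_sup_right (Subgroup.mem_zpowers t))
  let f : A →* S := MonoidHom.mk' (fun a => ⁅t, (a : S)⁆) fun a b => by
    show ⁅t, (a : S) * b⁆ = ⁅t, (a : S)⁆ * ⁅t, (b : S)⁆
    have hb : ⁅t, (b : S)⁆ ∈ A := mul_mem (hAn.conj_mem _ b.2 t) (inv_mem b.2)
    calc ⁅t, (a : S) * b⁆ = ⁅t, (a : S)⁆ * ((a : S) * ⁅t, (b : S)⁆ * (a : S)⁻¹) := by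
          simp only [commutatorElement_def]; group
      _ = ⁅t, (a : S)⁆ * ⁅t, (b : S)⁆ := by rw [hAc a a.2 _ hb, mul_inv_cancel_right]
  have hfA : ∀ a, f a ∈ A := fun a => mul_mem (hAn.conj_mem _ a.2 t) (inv_mem a.2)
  have hker : f.ker.map A.subtype = Subgroup.center S := by
    refine le_antisymm ?_ fun z hz => ⟨⟨z, hZ A hA hAi hz⟩, ?_, rfl⟩
    · rintro _ ⟨a, ha, rfl⟩
      rw [Subgroup.mem_center_iff]
      intro g
      have hc : Commute t (a : S) := commutatorElement_eq_one_iff_commute.1 ha
      have hle : A ⊔ Subgroup.zpowers t ≤ Subgroup.centralizer {(a : S)} :=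
        sup_le (fun b hb => Subgroup.mem_centralizer_singleton_iff.2 (hAc b hb a a.2))
          (Subgroup.zpowers_le.2 (Subgroup.mem_centralizer_singleton_iff.2 hc.eq))
      rw [hgen] at hle
      exact Subgroup.mem_centralizer_singleton_iff.1 (hle (Subgroup.mem_top g))
    · exact commutatorElement_eq_one_iff_commute.2 (Subgroup.mem_center_iff.1 hz t)
  have hrn : f.range.Normal := by
    constructor
    rintro _ ⟨a, rfl⟩ g
    obtain ⟨b, hb, c, ⟨j, rfl⟩, rfl⟩ := Subgroup.mem_sup_of_normal_left.1
      (hgen.symm ▸ Subgroup.mem_top g : g ∈ A ⊔ Subgroup.zpowers t)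
    have ha' : t ^ j * (a : S) * (t ^ j)⁻¹ ∈ A := hAn.conj_mem _ a.2 _
    refine ⟨⟨_, ha'⟩, ?_⟩
    have e : t ^ j * f a * (t ^ j)⁻¹ = f ⟨_, ha'⟩ := by
      show t ^ j * ⁅t, (a : S)⁆ * (t ^ j)⁻¹ = ⁅t, t ^ j * (a : S) * (t ^ j)⁻¹⁆
      simp only [commutatorElement_def]
      group
    calc f ⟨_, ha'⟩ = b * f ⟨_, ha'⟩ * b⁻¹ := by
          rw [hAc b hb _ (hfA _), mul_inv_cancel_right]
      _ = b * t ^ j * f a * (b * t ^ j)⁻¹ := by rw [← e]; group
  have hrange : f.range = commutator S := by
    refine le_antisymm ?_ ?_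
    · rintro _ ⟨a, rfl⟩
      exact Subgroup.commutator_mem_commutator (Subgroup.mem_top _) (Subgroup.mem_top _)
    · rw [commutator_def, Subgroup.commutator_le]
      intro x _ y _
      rw [← QuotientGroup.eq_one_iff, ← QuotientGroup.mk'_apply, map_commutatorElement,
        commutatorElement_eq_one_iff_mul_comm]
      let π := QuotientGroup.mk' f.range
      have hta : ∀ a ∈ A, Commute (π t) (π a) := fun a ha => by
        rw [← commutatorElement_eq_one_iff_commute, ← map_commutatorElement]
        exact (QuotientGroup.eq_one_iff _).2 ⟨⟨a, ha⟩, rfl⟩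
      obtain ⟨a, ha, _, ⟨i, rfl⟩, rfl⟩ := Subgroup.mem_sup_of_normal_left.1
        (hgen.symm ▸ Subgroup.mem_top x : x ∈ A ⊔ Subgroup.zpowers t)
      obtain ⟨b, hb, _, ⟨j, rfl⟩, rfl⟩ := Subgroup.mem_sup_of_normal_left.1
        (hgen.symm ▸ Subgroup.mem_top y : y ∈ A ⊔ Subgroup.zpowers t)
      show π (a * t ^ i) * π (b * t ^ j) = π (b * t ^ j) * π (a * t ^ i)
      rw [map_mul, map_mul, map_zpow, map_zpow]
      have hab : Commute (π a) (π b) := Commute.map (hAc a ha b hb) π
      exact ((hab.mul_right ((hta a ha).symm.zpow_right j)).mul_left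
        (((hta b hb).zpow_left i).mul_right ((Commute.refl (π t)).zpow_zpow i j))).eq
  have hprod : Nat.card (Subgroup.center S) * Nat.card (commutator S) = Nat.card A := by
    rw [← hker, Subgroup.card_map_of_injective A.subtype_injective, ← hrange, ← Subgroup.index_ker,
      Subgroup.card_mul_index]
  have hZidx : (Subgroup.center S).index = p * Nat.card (commutator S) := by
    have h1 := (Subgroup.center S).card_mul_index
    have h2 := A.card_mul_index
    rw [← h2, hAi, ← hprod, mul_assoc, mul_comm _ p] at h1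
    exact Nat.eq_of_mul_eq_mul_left Nat.card_pos h1
  refine ⟨hZidx, ?_⟩
  obtain ⟨k, hk⟩ := (hS.to_subgroup (commutator S)).exists_card_eq
  have hk1 : 1 ≤ k := by
    by_contra hk0
    rw [show k = 0 by omega, pow_zero] at hk
    refine hna ⟨⟨fun x y => ?_⟩⟩
    have := Subgroup.commutator_mem_commutator (Subgroup.mem_top x) (Subgroup.mem_top y)
    rw [← commutator_def, Subgroup.card_eq_one.1 hk, Subgroup.mem_bot,
      commutatorElement_eq_one_iff_mul_comm] at this
    exact this
  rcases Nat.lt_or_ge k 2 with hk2 | hk2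
  · left
    have hc : Nat.card (commutator S) = p := by rw [hk, show k = 1 by omega, pow_one]
    have hq : Nat.card (S ⧸ Subgroup.center S) = p ^ 2 := by
      rw [← Subgroup.index_eq_card, hZidx, hc, pow_two]
    have hnc : ¬ IsCyclic (S ⧸ Subgroup.center S) := fun hcy => hna
      ⟨⟨commutative_of_cyclic_center_quotient (QuotientGroup.mk' (Subgroup.center S))
        (by rw [QuotientGroup.ker_mk'])⟩⟩
    have hexp : ∀ q : S ⧸ Subgroup.center S, q ^ p = 1 := by
      intro q
      obtain ⟨i, hi, hie⟩ := (Nat.dvd_prime_pow hp).1 (hq ▸ orderOf_dvd_natCard q)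
      rcases Nat.lt_or_ge i 2 with h | h
      · rw [← orderOf_dvd_iff_pow_eq_one, hie]
        exact (pow_dvd_pow p (show i ≤ 1 by omega)).trans (pow_one p).dvd
      · exact absurd (isCyclic_of_orderOf_eq_card q
          (by rw [hie, hq, show i = 2 by omega])) hnc
    refine ⟨hc, ⟨⟨⟨fun x y => Subtype.ext ?_⟩⟩, fun q _ => hexp q⟩, hq, ?_⟩
    · exact (IsPGroup.isMulCommutative_of_card_eq_prime_sq hq).1.1 x.1 y.1
    · let π := QuotientGroup.mk' (Subgroup.center S)
      have hπ : Function.Surjective π := QuotientGroup.mk'_surjective _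
      have hB : ∀ U : Subgroup (S ⧸ Subgroup.center S), Nat.card U = p →
          IsMulCommutative (U.comap π) ∧ (U.comap π).index = p := by
        intro U hU
        constructor
        · let ψ : U.comap π →* U := π.subgroupComap U
          have : IsCyclic U := isCyclic_of_prime_card hU
          refine ⟨⟨commutative_of_cyclic_center_quotient ψ ?_⟩⟩
          intro x hx
          have hx' : (x : S) ∈ Subgroup.center S := (QuotientGroup.eq_one_iff _).1
            (congrArg Subtype.val hx)
          exact Subgroup.mem_center_iff.2 fun g => Subtype.ext (Subgroup.mem_center_iff.1 hx' g)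
        · rw [Subgroup.index_comap_of_surjective _ hπ]
          have := U.card_mul_index
          rw [hU, hq, pow_two] at this
          exact Nat.eq_of_mul_eq_mul_left hp.pos this
      have hU : ∀ B : Subgroup S, IsMulCommutative B ∧ B.index = p →
          Nat.card (B.map π) = p := by
        intro B hB'
        have h1 : (B.map π).comap π = B := by
          rw [Subgroup.comap_map_eq, QuotientGroup.ker_mk', sup_eq_left.2 (hZ B hB'.1 hB'.2)]
        have h2 : (B.map π).index = p := by
          rw [← Subgroup.index_comap_of_surjective _ hπ, h1, hB'.2]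
        have := (B.map π).card_mul_index
        rw [h2, hq, pow_two] at this
        exact Nat.eq_of_mul_eq_mul_right hp.pos this
      let e : {B : Subgroup S // IsMulCommutative B ∧ B.index = p} ≃
          {U : Subgroup (S ⧸ Subgroup.center S) // Nat.card U = p} :=
        { toFun := fun B => ⟨B.1.map π, hU _ B.2⟩
          invFun := fun U => ⟨U.1.comap π, hB _ U.2⟩
          left_inv := fun B => Subtype.ext (by
            show (B.1.map π).comap π = B.1
            rw [Subgroup.comap_map_eq, QuotientGroup.ker_mk',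
              sup_eq_left.2 (hZ B.1 B.2.1 B.2.2)])
          right_inv := fun U => Subtype.ext (Subgroup.map_comap_eq_self_of_surjective hπ U.1) }
      rw [Nat.card_congr e]
      have h := card_subgroups_prime hexp
      rw [hq] at h
      obtain ⟨r, rfl⟩ : ∃ r, p = r + 2 := ⟨p - 2, (Nat.sub_add_cancel hp.two_le).symm⟩
      rw [show r + 2 - 1 = r + 1 by omega] at h
      refine Nat.eq_of_mul_eq_mul_right (show 0 < r + 1 by omega) ?_
      nlinarith
  · right
    refine ⟨hk ▸ Nat.pow_le_pow_right hp.pos hk2, fun B hB hBi => ?_⟩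
    by_contra hne
    have hBn := hnorm B hBi
    have htop : B ⊔ A = ⊤ := (hmax B hBi _ le_sup_left).resolve_left fun h => hne (by
      rcases hmax A hAi B (le_sup_right.trans h.le) with h' | h'
      · exact h'
      · rw [h', Subgroup.index_top] at hBi
        exact absurd hBi.symm hp.ne_one)
    have hle : B ⊓ A ≤ Subgroup.center S := by
      intro z hz
      rw [Subgroup.mem_center_iff]
      intro g
      obtain ⟨b, hb, a, ha, rfl⟩ := Subgroup.mem_sup_of_normal_left.1
        (htop.symm ▸ Subgroup.mem_top g : g ∈ B ⊔ A)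
      have h1 : b * z = z * b := congrArg Subtype.val (mul_comm' (⟨b, hb⟩ : B) ⟨z, hz.1⟩)
      rw [mul_assoc, hAc a ha z hz.2, ← mul_assoc, h1, mul_assoc]
    have h1 : (B ⊓ A).index ≤ p * p := by
      have h := Subgroup.index_inf_le (H := B) (K := A)
      rw [hBi, hAi] at h
      exact h
    have h2 := Nat.le_of_dvd (Nat.pos_of_ne_zero Subgroup.index_ne_zero_of_finite)
      (Subgroup.index_dvd_of_le hle)
    rw [hZidx, hk] at h2
    have h3 : p * p ^ k ≤ p * p := h2.trans h1
    have h4 := Nat.le_of_mul_le_mul_left h3 hp.pos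
    have h5 : p ^ 2 ≤ p ^ k := Nat.pow_le_pow_right hp.pos hk2
    nlinarith [hp.two_le]

end Cfsg.Agent.S3807
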