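import Cfsg.Statements.S3808

import Mathlib
import Cfsg.Agent.ExtraspecialBasic.Order

set_option autoImplicit false
open Cfsg

namespace Cfsg.Agent.S3808


/-- Let S be a finite p-group with an extraspecial subgroup Q of index p. Then either Z(S) = Z(Q), or S = Q·Z(S) and Z(S) has order p². -/
theorem result {S : Type*} [Group S] [Finite S] (p : ℕ) [Fact p.Prime] (hS : IsPGroup p S) (Q : Subgroup S) (hQ : Cfsg.IsExtraspecial p ↥Q) (hQi : Q.index = p) :
    Subgroup.center S = (Subgroup.center ↥Q).map Q.subtype ∨
      (Q ⊔ Subgroup.center S = ⊤ ∧ Nat.card (Subgroup.center S) = p ^ 2) := by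
  have hp : p.Prime := Fact.out
  obtain ⟨n, hn1, hn⟩ := CfsgLib.ExtraspecialBasic.exists_card_eq hQ
  have hcard : Nat.card S = p ^ (2 + 2 * n) := by
    rw [← Q.card_mul_index, hn, hQi, ← pow_succ]
    congr 1
    omega
  have hQn : Q.Normal := Subgroup.normal_of_index_eq_minFac_card (by
    rw [hQi, hcard, Nat.Prime.pow_minFac hp (by omega)])
  have hZQle : Subgroup.center S ⊓ Q ≤ (Subgroup.center Q).map Q.subtype := by
    intro z hz
    exact ⟨⟨z, hz.2⟩, Subgroup.mem_center_iff.2 fun g =>
      Subtype.ext (Subgroup.mem_center_iff.1 hz.1 g), rfl⟩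
  have hZcard : Nat.card ((Subgroup.center Q).map Q.subtype) = p := by
    rw [Subgroup.card_map_of_injective Q.subtype_injective, hQ.2]
  by_cases hle : Subgroup.center S ≤ Q
  · left
    refine Subgroup.eq_of_le_of_card_ge (le_trans (le_inf le_rfl hle) hZQle) ?_
    rw [hZcard]
    have : Nontrivial S := by
      rw [← Finite.one_lt_card_iff_nontrivial, hcard]
      exact Nat.one_lt_pow (by omega) hp.one_lt
    have := hS.center_nontrivial
    obtain ⟨k, hk⟩ := (hS.to_subgroup (Subgroup.center S)).exists_card_eq
    rw [hk]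
    refine Nat.le_self_pow ?_ p
    rintro rfl
    have h1 := Finite.one_lt_card (α := Subgroup.center S)
    rw [hk] at h1
    simp at h1
  · right
    have htop : Q ⊔ Subgroup.center S = ⊤ := by
      rw [← Subgroup.index_eq_one]
      rcases (Nat.dvd_prime hp).1 (hQi ▸ Subgroup.index_dvd_of_le
        (le_sup_left : Q ≤ Q ⊔ Subgroup.center S)) with h | h
      · exact h
      · exfalso
        have he : Q = Q ⊔ Subgroup.center S := by
          refine Subgroup.eq_of_le_of_card_ge le_sup_left ?_
          have h1 := Q.card_mul_index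
          have h2 := (Q ⊔ Subgroup.center S).card_mul_index
          rw [hQi, ← h2, h] at h1
          exact (Nat.eq_of_mul_eq_mul_right hp.pos h1).ge
        exact hle (le_sup_right.trans he.ge)
    refine ⟨htop, ?_⟩
    have hinf : Subgroup.center S ⊓ Q = (Subgroup.center Q).map Q.subtype := by
      refine le_antisymm hZQle ?_
      rintro _ ⟨z, hz, rfl⟩
      refine Subgroup.mem_inf.2 ⟨?_, z.2⟩
      rw [Subgroup.mem_center_iff]
      intro g
      obtain ⟨a, ha, c, hc, rfl⟩ := Subgroup.mem_sup_of_normal_left.1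
        (htop.symm ▸ Subgroup.mem_top g : g ∈ Q ⊔ Subgroup.center S)
      have h1 : a * (z : S) = z * a := congrArg Subtype.val (Subgroup.mem_center_iff.1 hz ⟨a, ha⟩)
      have h2 : (z : S) * c = c * z := Subgroup.mem_center_iff.1 hc z
      show a * c * z = z * (a * c)
      rw [mul_assoc, ← h2, ← mul_assoc, h1, mul_assoc]
    have h1 : Q.relIndex (Subgroup.center S) = p := by
      rw [← Subgroup.relIndex_sup_right, sup_comm, htop, Subgroup.relIndex_top_right, hQi]
    have h2 := Subgroup.relIndex_mul_relIndex ⊥ (Subgroup.center S ⊓ Q) (Subgroup.center S)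
      bot_le inf_le_left
    rw [Subgroup.relIndex_bot_left, Subgroup.relIndex_bot_left, Subgroup.inf_relIndex_left, h1,
      hinf, hZcard] at h2
    rw [← h2, pow_two]

end Cfsg.Agent.S3808
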