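import Cfsg.Statements.S3809

import Mathlib
import Cfsg.Agent.ExtraspecialBasic.Order

set_option autoImplicit false
open Cfsg

namespace Cfsg.Agent.S3809


/-- Let S be a finite p-group with an extraspecial subgroup of index p. Then S has order p^(2+2n) for some n ≥ 1, derived length at most 3, and exponent dividing p³. -/
theorem result {S : Type*} [Group S] [Finite S] (p : ℕ) [Fact p.Prime] (hS : IsPGroup p S) (Q : Subgroup S) (hQ : Cfsg.IsExtraspecial p ↥Q) (hQi : Q.index = p) :
    (∃ n : ℕ, 1 ≤ n ∧ Nat.card S = p ^ (2 + 2 * n)) ∧ derivedSeries S 3 = ⊥ ∧ ∀ x : S, x ^ (p ^ 3) = 1 := by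
  have hp : p.Prime := Fact.out
  obtain ⟨n, hn1, hn⟩ := CfsgLib.ExtraspecialBasic.exists_card_eq hQ
  have hcard : Nat.card S = p ^ (2 + 2 * n) := by
    rw [← Q.card_mul_index, hn, hQi, ← pow_succ]
    congr 1
    omega
  have hQn : Q.Normal := Subgroup.normal_of_index_eq_minFac_card (by
    rw [hQi, hcard, Nat.Prime.pow_minFac hp (by omega)])
  have hpow : ∀ x : S, x ^ p ∈ Q := fun x => by
    rw [← hQi]
    exact Subgroup.pow_index_mem Q x
  refine ⟨⟨n, hn1, hcard⟩, ?_, fun x => ?_⟩
  · have h1 : derivedSeries S 1 ≤ Q := by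
      rw [derivedSeries_one]
      have : IsCyclic (S ⧸ Q) := isCyclic_of_prime_card (p := p) (by rw [← Subgroup.index_eq_card]; exact hQi)
      let := IsCyclic.commGroup (α := S ⧸ Q)
      rw [commutator_def, Subgroup.commutator_le]
      intro a _ b _
      rw [← QuotientGroup.eq_one_iff, ← QuotientGroup.mk'_apply, map_commutatorElement,
        commutatorElement_eq_one_iff_mul_comm, mul_comm]
    have h2 : derivedSeries S 2 ≤ (Subgroup.center Q).map Q.subtype := by
      rw [derivedSeries_succ]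
      refine le_trans (Subgroup.commutator_mono h1 h1) ?_
      rw [← hQ.1.2.2, commutator_def, Subgroup.map_commutator, ← MonoidHom.range_eq_map,
        Subgroup.range_subtype]
    rw [derivedSeries_succ, eq_bot_iff, Subgroup.commutator_le]
    intro a ha b hb
    rw [Subgroup.mem_bot, commutatorElement_eq_one_iff_mul_comm]
    obtain ⟨a', ha', rfl⟩ := h2 ha
    obtain ⟨b', -, rfl⟩ := h2 hb
    rw [← map_mul, ← map_mul, Subgroup.mem_center_iff.1 ha' b']
  · have h := CfsgLib.ExtraspecialBasic.pow_sq_eq_one hQ (⟨x ^ p, hpow x⟩ : Q)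
    have h' : (x ^ p) ^ p ^ 2 = 1 := congrArg Subtype.val h
    rw [← pow_mul, ← pow_succ'] at h'
    exact h'

end Cfsg.Agent.S3809
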