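import Cfsg.Statements.S3810

import Mathlib
import Cfsg.Agent.ExtraspecialBasic.Order

set_option autoImplicit false
open Cfsg

namespace Cfsg.Agent.S3810

open scoped commutatorElement

/-- An extraspecial group with an abelian subgroup of index dividing `p` has order `p ^ 3`. -/
theorem card_eq_of_abelian_index {P : Type*} [Group P] [Finite P] {p : ℕ} [hp : Fact p.Prime]
    (hP : Cfsg.IsExtraspecial p P) (B : Subgroup P) (hB : IsMulCommutative B)
    (hi : B.index ∣ p) : Nat.card P = p ^ 3 := by
  obtain ⟨n, hn1, hn⟩ := CfsgLib.ExtraspecialBasic.exists_card_eq hP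
  have hBt : B ≠ ⊤ := by
    intro h
    refine CfsgLib.ExtraspecialBasic.center_ne_top hP ((Subgroup.eq_top_iff' _).2 fun x => ?_)
    refine Subgroup.mem_center_iff.2 fun y => ?_
    exact congrArg Subtype.val
      (mul_comm' (⟨y, h ▸ Subgroup.mem_top y⟩ : B) ⟨x, h ▸ Subgroup.mem_top x⟩)
  have hidx : B.index = p := ((Nat.dvd_prime hp.out).1 hi).resolve_left
    (fun h => hBt (Subgroup.index_eq_one.1 h))
  obtain ⟨t, ht⟩ : ∃ t, t ∉ B := by
    by_contra h
    push Not at h
    exact hBt ((Subgroup.eq_top_iff' B).2 h)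
  have hgen : B ⊔ Subgroup.zpowers t = ⊤ := by
    have hlt : B < B ⊔ Subgroup.zpowers t :=
      left_lt_sup.2 fun h => ht (h (Subgroup.mem_zpowers t))
    rw [← Subgroup.index_eq_one]
    refine ((Nat.dvd_prime hp.out).1 (hidx ▸ Subgroup.index_dvd_of_le hlt.le)).resolve_right ?_
    intro h
    have h1 := B.card_mul_index
    have h2 := (B ⊔ Subgroup.zpowers t).card_mul_index
    rw [hidx, ← h2, h] at h1
    exact hlt.ne (Subgroup.eq_of_le_of_card_ge hlt.le (Nat.eq_of_mul_eq_mul_right hp.out.pos h1).ge)
  let f := (CfsgLib.ExtraspecialBasic.commHom hP t).comp B.subtype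
  have hker : f.ker.map B.subtype ≤ Subgroup.center P := by
    rintro _ ⟨b, hb, rfl⟩
    rw [Subgroup.mem_center_iff]
    intro g
    have hc : Commute t (b : P) := (CfsgLib.ExtraspecialBasic.commHom_eq_one hP).1 hb
    have hle : B ⊔ Subgroup.zpowers t ≤ Subgroup.centralizer {(b : P)} := by
      refine sup_le (fun a ha => Subgroup.mem_centralizer_singleton_iff.2 ?_)
        (Subgroup.zpowers_le.2 (Subgroup.mem_centralizer_singleton_iff.2 hc.eq))
      exact congrArg Subtype.val (mul_comm' (⟨a, ha⟩ : B) b)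
    rw [hgen] at hle
    exact Subgroup.mem_centralizer_singleton_iff.1 (hle (Subgroup.mem_top g))
  have h1 := f.ker.card_mul_index
  rw [Subgroup.index_ker] at h1
  have h2 : Nat.card f.range ≤ p := hP.2 ▸ Subgroup.card_le_card_group f.range
  have h3 : Nat.card f.ker ≤ p := by
    rw [← hP.2, ← Subgroup.card_map_of_injective B.subtype_injective]
    exact Subgroup.card_le_of_le hker
  have h4 := B.card_mul_index
  rw [hidx, hn] at h4
  have h5 : p ^ (2 * n + 1) ≤ p ^ 3 := by
    rw [← h4, ← h1, pow_succ _ 2, pow_two]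
    exact Nat.mul_le_mul_right _ (Nat.mul_le_mul h3 h2)
  have h6 := (Nat.pow_le_pow_iff_right hp.out.one_lt).1 h5
  have : n = 1 := by omega
  subst this
  exact hn


/-- Let S be a finite p-group with an extraspecial subgroup of index p. Then S has an abelian subgroup of index p if and only if S has order p⁴. -/
theorem result {S : Type*} [Group S] [Finite S] (p : ℕ) [Fact p.Prime] (hS : IsPGroup p S) (Q : Subgroup S) (hQ : Cfsg.IsExtraspecial p ↥Q) (hQi : Q.index = p) :
    (∃ A : Subgroup S, IsMulCommutative ↥A ∧ A.index = p) ↔ Nat.card S = p ^ 4 := by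
  have hp : p.Prime := Fact.out
  obtain ⟨n, hn1, hn⟩ := CfsgLib.ExtraspecialBasic.exists_card_eq hQ
  have hcard : Nat.card S = p ^ (2 * n + 1) * p := by rw [← Q.card_mul_index, hn, hQi]
  have hQn : Q.Normal := Subgroup.normal_of_index_eq_minFac_card (by
    rw [hQi, hcard, ← pow_succ, Nat.Prime.pow_minFac hp (by omega)])
  constructor
  · rintro ⟨A, hA, hAi⟩
    have hd : (A.subgroupOf Q).index ∣ p := by
      rw [← hAi]
      show A.relIndex Q ∣ A.index
      have : A.Normal := Subgroup.normal_of_index_eq_minFac_card (by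
        rw [hAi, hcard, ← pow_succ, Nat.Prime.pow_minFac hp (by omega)])
      exact Subgroup.relIndex_dvd_index_of_normal A Q
    have hc : IsMulCommutative (A.subgroupOf Q) := ⟨⟨fun a b => by
      apply Subtype.ext
      apply Subtype.ext
      have h := congrArg Subtype.val
        (mul_comm' (⟨((a : Q) : S), a.2⟩ : A) ⟨((b : Q) : S), b.2⟩)
      simpa using h⟩⟩
    rw [← Q.card_mul_index, card_eq_of_abelian_index hQ _ hc hd, hQi, pow_succ _ 3]
  · intro h4
    have hn' : n = 1 := by
      rw [hcard, ← pow_succ] at h4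
      have := Nat.pow_right_injective hp.two_le h4
      omega
    subst hn'
    set ZQ := (Subgroup.center Q).map Q.subtype with hZQ
    have hZc : Nat.card ZQ = p := by
      rw [hZQ, Subgroup.card_map_of_injective Q.subtype_injective, hQ.2]
    have hZn : ZQ.Normal := ConjAct.normal_of_characteristic_of_normal
    -- an element of `Q` outside the centre that is central modulo `Z(Q)`
    have hQc : Nat.card Q = p ^ 3 := hn
    obtain ⟨x, hxQ, hxZ, hx⟩ : ∃ x ∈ Q, x ∉ ZQ ∧ ∀ s : S, ⁅s, x⁆ ∈ ZQ := by
      let π := QuotientGroup.mk' ZQ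
      have hne : Q.map π ≠ ⊥ := by
        rw [Ne, Subgroup.map_eq_bot_iff, QuotientGroup.ker_mk']
        intro hle
        have := Subgroup.card_le_of_le hle
        rw [hQc, hZc] at this
        have := Nat.pow_lt_pow_right hp.one_lt (show 1 < 3 by norm_num)
        rw [pow_one] at this
        omega
      have hmn : (Q.map π).Normal := hQn.map _ (QuotientGroup.mk'_surjective ZQ)
      have hSZ : IsPGroup p (S ⧸ ZQ) := hS.to_quotient ZQ
      obtain ⟨k, hk⟩ := (hSZ.to_subgroup (Q.map π)).exists_card_eq
      have hdvd : p ∣ Nat.card (Q.map π) := by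
        have h1 := (Subgroup.one_lt_card_iff_ne_bot _).2 hne
        rw [hk] at h1 ⊢
        exact dvd_pow_self p (by rintro rfl; simp at h1)
      have hconj : IsPGroup p (ConjAct (S ⧸ ZQ)) := hSZ.of_equiv ConjAct.toConjAct
      have hone : (1 : Q.map π) ∈ MulAction.fixedPoints (ConjAct (S ⧸ ZQ)) (Q.map π) := fun g =>
        Subtype.ext (by rw [ConjAct.Subgroup.val_conj_smul]; exact smul_one g)
      obtain ⟨y, hy, hy1⟩ := hconj.exists_fixed_point_of_prime_dvd_card_of_fixed_point _ hdvd hone
      obtain ⟨x, hxQ, hxy⟩ := y.2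
      refine ⟨x, hxQ, fun hxZ => hy1 (Subtype.ext ?_), fun s => ?_⟩
      · rw [← hxy]
        exact ((QuotientGroup.eq_one_iff x).2 hxZ).symm
      · have h := congrArg Subtype.val (hy (ConjAct.toConjAct (π s)))
        rw [ConjAct.Subgroup.val_conj_smul, ConjAct.toConjAct_smul, ← hxy] at h
        rw [← QuotientGroup.eq_one_iff, ← QuotientGroup.mk'_apply, map_commutatorElement,
          commutatorElement_eq_one_iff_mul_comm]
        exact mul_inv_eq_iff_eq_mul.1 h
    have hZcen : ZQ ≤ Subgroup.center S := by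
      have hconj : IsPGroup p (ConjAct S) := hS.of_equiv ConjAct.toConjAct
      have hm := hconj.card_modEq_card_fixedPoints ZQ
      rw [hZc] at hm
      have hone : (1 : ZQ) ∈ MulAction.fixedPoints (ConjAct S) ZQ := fun g =>
        Subtype.ext (by rw [ConjAct.Subgroup.val_conj_smul]; exact smul_one g)
      have hpos : 0 < Nat.card (MulAction.fixedPoints (ConjAct S) ZQ) :=
        Nat.card_pos_iff.2 ⟨⟨⟨1, hone⟩⟩, inferInstance⟩
      have hle : Nat.card (MulAction.fixedPoints (ConjAct S) ZQ) ≤ Nat.card ZQ :=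
        Finite.card_subtype_le _
      rw [hZc] at hle
      have heq : Nat.card (MulAction.fixedPoints (ConjAct S) ZQ) = p := by
        have hd := (Nat.modEq_zero_iff_dvd.1 (hm.symm.trans (Nat.modEq_zero_iff_dvd.2 dvd_rfl)))
        have := Nat.le_of_dvd hpos hd
        omega
      have huniv : MulAction.fixedPoints (ConjAct S) ZQ = Set.univ :=
        Set.eq_of_subset_of_ncard_le (Set.subset_univ _)
          (by rw [Set.ncard_univ, hZc]; exact heq.ge) (Set.toFinite _)
      intro z hz
      rw [Subgroup.mem_center_iff]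
      intro g
      have := congrArg Subtype.val ((huniv.symm ▸ Set.mem_univ _ :
        (⟨z, hz⟩ : ZQ) ∈ MulAction.fixedPoints (ConjAct S) ZQ) (ConjAct.toConjAct g))
      rw [ConjAct.Subgroup.val_conj_smul, ConjAct.toConjAct_smul] at this
      exact mul_inv_eq_iff_eq_mul.1 this
    let f : S →* ZQ := MonoidHom.mk' (fun s => ⟨⁅s, x⁆, hx s⟩) fun a b => Subtype.ext (by
      show ⁅a * b, x⁆ = ⁅a, x⁆ * ⁅b, x⁆
      have h := Subgroup.mem_center_iff.1 (hZcen (hx b)) a
      calc ⁅a * b, x⁆ = (a * ⁅b, x⁆ * a⁻¹) * ⁅a, x⁆ := by simp only [commutatorElement_def]; group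
        _ = ⁅b, x⁆ * ⁅a, x⁆ := by rw [h, mul_inv_cancel_right]
        _ = ⁅a, x⁆ * ⁅b, x⁆ := (Subgroup.mem_center_iff.1 (hZcen (hx b)) _).symm)
    have hker : ∀ s, s ∈ f.ker ↔ Commute s x := fun s => by
      rw [MonoidHom.mem_ker, ← commutatorElement_eq_one_iff_commute]
      exact ⟨fun h => congrArg Subtype.val h, fun h => Subtype.ext h⟩
    have hxc : x ∉ Subgroup.center S := by
      intro h
      refine hxZ ⟨⟨x, hxQ⟩, Subgroup.mem_center_iff.2 fun g => Subtype.ext ?_, rfl⟩
      exact Subgroup.mem_center_iff.1 h g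
    have hidx : f.ker.index = p := by
      rw [Subgroup.index_ker]
      rcases (Nat.dvd_prime hp).1 (hZc ▸ Subgroup.card_subgroup_dvd_card f.range) with h | h
      · exfalso
        refine hxc (Subgroup.mem_center_iff.2 fun g => ((hker g).1 ?_).eq)
        have : f g ∈ f.range := ⟨g, rfl⟩
        rw [Subgroup.card_eq_one.1 h, Subgroup.mem_bot] at this
        exact this
      · exact h
    refine ⟨f.ker, ?_, hidx⟩
    have hkc : Nat.card f.ker = p ^ 3 := by
      have h := f.ker.card_mul_index
      rw [hidx, h4, pow_succ p 3] at h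
      exact Nat.eq_of_mul_eq_mul_right hp.pos h
    set C := f.ker with hC
    have hxC : x ∈ C := (hker x).2 (Commute.refl x)
    have hZC : ZQ ≤ C := fun z hz => (hker z).2 (Subgroup.mem_center_iff.1 (hZcen hz) x).symm
    have hcyc : IsCyclic (C ⧸ Subgroup.center C) := by
      have hzle : (ZQ ⊔ Subgroup.zpowers x) ≤ (Subgroup.center C).map C.subtype := by
        refine sup_le (fun z hz => ⟨⟨z, hZC hz⟩, Subgroup.mem_center_iff.2 fun g => Subtype.ext ?_,
          rfl⟩) (Subgroup.zpowers_le.2 ⟨⟨x, hxC⟩, Subgroup.mem_center_iff.2 fun g => Subtype.ext ?_,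
          rfl⟩)
        · exact Subgroup.mem_center_iff.1 (hZcen hz) g
        · exact ((hker g).1 g.2).eq
      have hlt : ZQ < ZQ ⊔ Subgroup.zpowers x := left_lt_sup.2 fun h => hxZ (h (Subgroup.mem_zpowers x))
      obtain ⟨k, hk⟩ := (hS.to_subgroup (ZQ ⊔ Subgroup.zpowers x)).exists_card_eq
      have hk2 : p ^ 2 ≤ p ^ k := by
        refine Nat.pow_le_pow_right hp.pos ?_
        have h1 : Nat.card ZQ < Nat.card ↥(ZQ ⊔ Subgroup.zpowers x) :=
          lt_of_not_ge fun h => hlt.ne (Subgroup.eq_of_le_of_card_ge hlt.le h)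
        rw [hk, hZc] at h1
        have := (Nat.pow_lt_pow_iff_right hp.one_lt).1 (show p ^ 1 < p ^ k by simpa using h1)
        omega
      have h2 : p ^ 2 ≤ Nat.card (Subgroup.center C) := by
        rw [← Subgroup.card_map_of_injective C.subtype_injective]
        exact (hk2.trans hk.ge).trans (Subgroup.card_le_of_le hzle)
      have h3 := (Subgroup.center C).card_mul_index
      rw [hkc] at h3
      have hple : (Subgroup.center C).index ≤ p := by
        by_contra h
        have : p ^ 2 * (p + 1) ≤ Nat.card (Subgroup.center C) * (Subgroup.center C).index :=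
          Nat.mul_le_mul h2 (by omega)
        rw [h3] at this
        nlinarith [hp.pos]
      obtain ⟨j, -, hj⟩ := (Nat.dvd_prime_pow hp).1 (Dvd.intro_left _ h3)
      rw [Subgroup.index_eq_card] at hj hple
      have hj1 : j ≤ 1 := by
        rw [hj] at hple
        exact (Nat.pow_le_pow_iff_right hp.one_lt).1 (by simpa using hple)
      interval_cases j
      · have : Subsingleton (C ⧸ Subgroup.center C) := (Nat.card_eq_one_iff_unique.1 (by simpa using hj)).1
        infer_instance
      · exact isCyclic_of_prime_card (p := p) (by simpa using hj)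
    exact ⟨⟨commutative_of_cyclic_center_quotient (QuotientGroup.mk' (Subgroup.center C))
      (by rw [QuotientGroup.ker_mk'])⟩⟩

end Cfsg.Agent.S3810
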