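import Cfsg.Statements.S3811
import Cfsg.Agent.SoftSubgroup.Tower

set_option autoImplicit false
open Cfsg

namespace Cfsg.Agent.S3811

open Subgroup CfsgLib.SoftSubgroup in
/-- A subgroup of class at most `c` above a soft subgroup has index at most `p ^ (c - 1)` over it. -/
theorem card_le_of_cls {P : Type*} [Group P] [Finite P] {p : ℕ} [Fact p.Prime] {E : Subgroup P}
    (hC : Subgroup.centralizer (E : Set P) ≤ E)
    (hs : ∀ M : Subgroup P, E ≤ M → M ≠ ⊤ → M.relIndex (Subgroup.normalizer (M : Set P)) = p)
    {K : Subgroup P} (hEK : E ≤ K) (hKt : K ≠ ⊤) {c : ℕ} (hc : K.lowerCentralSeries (c + 1) = ⊥) :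
    Nat.card K ≤ Nat.card E * p ^ c := by
  have hZ : K.lowerCentralSeries c ≤ E := by
    rw [Subgroup.lowerCentralSeries_succ, Subgroup.commutator_eq_bot_iff_le_centralizer] at hc
    exact (hc.trans (Subgroup.centralizer_le hEK)).trans hC
  have key : ∀ j, j ≤ c → Nat.card ↥(E ⊔ K.lowerCentralSeries (c - j)) ≤ Nat.card E * p ^ j := by
    intro j hj
    induction j with
    | zero => simp [sup_eq_left.2 hZ]
    | succ j ih =>
      specialize ih (by omega)
      set M := E ⊔ K.lowerCentralSeries (c - j) with hM
      have hMK : M ≤ K := sup_le hEK (Subgroup.lowerCentralSeries_le_self K _)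
      have hMt : M ≠ ⊤ := fun he => hKt (top_le_iff.1 (he ▸ hMK))
      have hsucc : c - j = c - (j + 1) + 1 := by omega
      have hle : E ⊔ K.lowerCentralSeries (c - (j + 1)) ≤ Subgroup.normalizer (M : Set P) := by
        refine sup_le (le_sup_left.trans Subgroup.le_normalizer) ?_
        rw [Subgroup.le_normalizer_iff_commutator_le_right]
        refine (Subgroup.commutator_mono le_rfl hMK).trans ?_
        rw [← Subgroup.lowerCentralSeries_succ, ← hsucc]
        exact le_sup_right
      have h1 := Subgroup.card_le_of_le hle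
      have h2 : Nat.card ↥(Subgroup.normalizer (M : Set P)) = Nat.card M * p := by
        rw [← hs M le_sup_left hMt, ← Subgroup.relIndex_bot_left M,
          Subgroup.relIndex_mul_relIndex ⊥ M _ bot_le Subgroup.le_normalizer,
          Subgroup.relIndex_bot_left]
      rw [pow_succ]
      nlinarith
  have := key c le_rfl
  rwa [Nat.sub_self, Subgroup.lowerCentralSeries_zero, sup_eq_right.2 hEK] at this

/-- Let P be a finite p-group and E an abelian subgroup of P that contains its centralizer, has index p in its normalizer, and has index at least p² in P. Then the subgroups of P containing E are totally ordered by inclusion, each proper one has index p in its normalizer (so they form the normalizer tower of E, with all steps of index p), and the i-th member of the tower above E has nilpotency class i + 1 whenever it is a proper subgroup of P. -/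
theorem result {P : Type*} [Group P] [Finite P] (p : ℕ) [Fact p.Prime] (hP : IsPGroup p P)
    (E : Subgroup P) (hEab : IsMulCommutative ↥E) (hC : Subgroup.centralizer (E : Set P) ≤ E)
    (hN : (E.subgroupOf (Subgroup.normalizer (E : Set P))).index = p) (hidx : p ^ 2 ≤ E.index) :
    (∀ K L : Subgroup P, E ≤ K → E ≤ L → K ≤ L ∨ L ≤ K) ∧
      (∀ K : Subgroup P, E ≤ K → K ≠ ⊤ → (K.subgroupOf (Subgroup.normalizer (K : Set P))).index = p) ∧
      ∀ (i : ℕ) (K : Subgroup P) [Group.IsNilpotent ↥K], E ≤ K → K ≠ ⊤ → K.index * p ^ i = E.index →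
        Group.nilpotencyClass ↥K = i + 1 := by
  have hs : CfsgLib.SoftSubgroup.IsSoft p E := ⟨hEab, hC, hN, hidx⟩
  have hT := CfsgLib.SoftSubgroup.tower _ P rfl hP E hs
  refine ⟨fun K L hK hL => CfsgLib.SoftSubgroup.total_of_succ hP hT.succ hK hL, hT.succ,
    fun i K _ hEK hKt hi => ?_⟩
  have htop : ∀ n, Group.nilpotencyClass ↥K ≤ n ↔ K.lowerCentralSeries n = ⊥ := fun n => by
    rw [← lowerCentralSeries_eq_bot_iff_nilpotencyClass_le, ← Subgroup.top_subtype_lowerCentralSeries K,
      Subgroup.map_eq_bot_iff_of_injective _ K.subtype_injective]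
  refine le_antisymm ((htop _).2 (hT.cls i K hEK hKt hi)) ?_
  by_contra hlt
  have hp := (Fact.out : p.Prime)
  have hcard : Nat.card K = Nat.card E * p ^ i := by
    refine Nat.eq_of_mul_eq_mul_right (Nat.pos_of_ne_zero (Subgroup.FiniteIndex.index_ne_zero (H := K))) ?_
    rw [K.card_mul_index, ← E.card_mul_index, ← hi]
    ring
  rcases Nat.eq_zero_or_pos i with rfl | hi0
  · have h1 : K.lowerCentralSeries 0 = ⊥ := (htop 0).1 (by omega)
    rw [Subgroup.lowerCentralSeries_zero] at h1
    have hEb : E = ⊥ := le_bot_iff.1 (h1 ▸ hEK)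
    have h2 : (⊤ : Subgroup P) ≤ E := fun x _ => hC (Subgroup.mem_centralizer_iff.2 fun e he => by
      rw [SetLike.mem_coe, hEb, Subgroup.mem_bot] at he
      simp [he])
    exact hs.ne_top (top_le_iff.1 h2)
  · have h1 : K.lowerCentralSeries (i - 1 + 1) = ⊥ := by
      rw [Nat.sub_add_cancel hi0]; exact (htop i).1 (by omega)
    have h2 := card_le_of_cls hC hT.succ hEK hKt h1
    rw [hcard] at h2
    have h3 := Nat.pow_lt_pow_right hp.one_lt (Nat.sub_lt hi0 Nat.one_pos)
    nlinarith [Nat.card_pos (α := E)]

end Cfsg.Agent.S3811
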