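import Cfsg.Statements.S3815

import Cfsg.Agent.PLocal.Cores

set_option autoImplicit false
open Cfsg

namespace Cfsg.Agent.S3815


/-- Let G be a finite group, p a prime and d ∈ G an element of order prime to p. If dg has order prime to p for every element g ∈ G of order prime to p, then d ∈ O_{p'}(G). -/
theorem result {G : Type*} [Group G] [Finite G] {p : ℕ} [Fact p.Prime]
    (d : G) (hd : (orderOf d).Coprime p)
    (h : ∀ g : G, (orderOf g).Coprime p → (orderOf (d * g)).Coprime p) :
    d ∈ Cfsg.pPrimeCore p G := by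
  have hcop : ∀ z : G, ∀ y : G, orderOf (z * y * z⁻¹) = orderOf y := fun z y => by
    rw [← MulAut.conj_apply]
    exact MulEquiv.orderOf_eq (MulAut.conj z) y
  let D : Submonoid G :=
    { carrier := {x | ∀ g : G, (orderOf g).Coprime p → (orderOf (x * g)).Coprime p}
      one_mem' := fun g hg => by rwa [one_mul]
      mul_mem' := fun {a b} ha hb g hg => by rw [mul_assoc]; exact ha _ (hb g hg) }
  let K : Subgroup G :=
    { D with
      inv_mem' := @fun a ha => by
        show a⁻¹ ∈ D
        have : a⁻¹ = a ^ (orderOf a - 1) := by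
          rw [inv_eq_iff_mul_eq_one, ← pow_succ', Nat.sub_add_cancel (orderOf_pos a),
            pow_orderOf_eq_one]
        rw [this]
        exact D.pow_mem ha _ }
  have hKn : K.Normal := ⟨fun a ha z g hg => by
    have h1 : orderOf (z⁻¹ * g * z) = orderOf g := by simpa using hcop z⁻¹ g
    have h2 := ha (z⁻¹ * g * z) (h1 ▸ hg)
    have e : z * a * z⁻¹ * g = z * (a * (z⁻¹ * g * z)) * z⁻¹ := by group
    show (orderOf (z * a * z⁻¹ * g)).Coprime p
    rw [e, hcop]
    exact h2⟩
  have hK : ∀ x ∈ K, (orderOf x).Coprime p := fun x hx => by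
    have := hx 1 (by simp)
    rwa [mul_one] at this
  have hcard : (Nat.card K).Coprime p := by
    rw [CfsgLib.PLocal.not_dvd_iff_coprime]
    intro hdvd
    obtain ⟨x, hx⟩ := exists_prime_orderOf_dvd_card' p hdvd
    have h1 := hK x x.2
    rw [Subgroup.orderOf_coe, hx, Nat.coprime_self] at h1
    exact (Fact.out : p.Prime).ne_one h1
  exact CfsgLib.PLocal.le_pPrimeCore hcard (show d ∈ K from h)

end Cfsg.Agent.S3815
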