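import Cfsg.Statements.S3818
import Cfsg.Agent.FGS.FixedHalf

set_option autoImplicit false
open Cfsg

namespace Cfsg.Agent.S3818

/-- Let G be a finite solvable group and P a subgroup of G of prime order p > 3 whose conjugates generate G. Let V be a faithful irreducible representation of G over a field of positive characteristic, finite-dimensional. Then the subspace of V fixed by P has dimension less than half the dimension of V. -/
theorem result {G : Type*} [Group G] [Finite G] [Group.IsSolvable G]
    {p : ℕ} [Fact p.Prime] (hp : 3 < p) (P : Subgroup G) (hP : Nat.card P = p) (hgen : Subgroup.normalClosure (P : Set G) = ⊤)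
    {k : Type*} [Field k] (ℓ : ℕ) [Fact ℓ.Prime] [CharP k ℓ]
    {V : Type*} [AddCommGroup V] [Module k V] [FiniteDimensional k V]
    (ρ : Representation k G V) [ρ.IsIrreducible] (hfaith : Function.Injective ρ) :
    2 * Module.finrank k ↥(⨅ g : ↥P, LinearMap.ker (ρ (g : G) - LinearMap.id)) < Module.finrank k V := by
  classical
  haveI : IsCyclic P := isCyclic_of_prime_card hP
  obtain ⟨⟨x, hxP⟩, hx⟩ := IsCyclic.exists_generator (α := P)
  have hxp : x ^ p = 1 := by
    have h := pow_card_eq_one' (G := P) (x := ⟨x, hxP⟩)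
    rw [hP] at h
    simpa using congrArg Subtype.val h
  have hPle : (P : Set G) ⊆ Subgroup.normalClosure ({x} : Set G) := fun y hy => by
    obtain ⟨i, hi⟩ := Subgroup.mem_zpowers_iff.mp (hx ⟨y, hy⟩)
    have : y = x ^ i := by simpa using (congrArg Subtype.val hi).symm
    rw [this]
    exact zpow_mem (Subgroup.subset_normalClosure (Set.mem_singleton x)) i
  have hgen' : Subgroup.normalClosure ({x} : Set G) = ⊤ :=
    top_le_iff.mp (hgen ▸ Subgroup.normalClosure_le_normal hPle)
  have hx1 : x ≠ 1 := by
    rintro rfl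
    have hsub : ∀ y : P, y = 1 := fun y => by
      obtain ⟨i, hi⟩ := Subgroup.mem_zpowers_iff.mp (hx y)
      rw [← hi]
      exact Subtype.ext (by simp)
    rw [Nat.card_eq_one_iff_exists.mpr ⟨1, hsub⟩] at hP
    omega
  haveI : Nontrivial V := by
    by_contra hV
    haveI := not_nontrivial_iff_subsingleton.mp hV
    exact hx1 (hfaith (LinearMap.ext fun v => Subsingleton.elim _ _))
  have hirr : ∀ W : Submodule k V, (∀ g, ∀ v ∈ W, ρ g v ∈ W) → W = ⊥ ∨ W = ⊤ := by
    intro W hW
    rcases eq_bot_or_eq_top (⟨W, fun g v hv => hW g v hv⟩ : Subrepresentation ρ) with h | h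
    · exact Or.inl (congrArg Subrepresentation.toSubmodule h)
    · exact Or.inr (congrArg Subrepresentation.toSubmodule h)
  refine lt_of_le_of_lt (Nat.mul_le_mul_left 2 ?_)
    (CfsgLib.FGS.fixed_lt_half hp ρ hfaith hirr hxp hx1 hgen')
  exact Submodule.finrank_mono (iInf_le (fun g : ↥P => LinearMap.ker (ρ (g : G) - LinearMap.id)) ⟨x, hxP⟩)

end Cfsg.Agent.S3818
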