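import Cfsg.Statements.S3819
import Cfsg.Agent.PLocal.Cores
import Cfsg.Agent.PLocal.PSolvable
import Cfsg.Agent.Coprime.PTimesQ
import Cfsg.Agent.Components.FStar

set_option autoImplicit false
open Cfsg

namespace Cfsg.Agent.S3819

open Subgroup CfsgLib.PLocal
open scoped commutatorElement

/-- `O_{q'}` of a subgroup, as a subgroup of the ambient group. -/
abbrev coreOf {X : Type*} [Group X] (q : ℕ) (K : Subgroup X) : Subgroup X :=
  (Cfsg.pPrimeCore q ↥K).map K.subtype

theorem coprime_coreOf {X : Type*} [Group X] [Finite X] (q : ℕ) (K : Subgroup X) :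
    (Nat.card ↥(coreOf q K)).Coprime q := by
  rw [card_map_of_injective K.subtype_injective]
  exact coprime_card_pPrimeCore q K

theorem map_coreOf_le {X Y : Type*} [Group X] [Finite X] [Group Y] [Finite Y] (q : ℕ)
    (f : X →* Y) (K : Subgroup X) : (coreOf q K).map f ≤ coreOf q (K.map f) := by
  rintro _ ⟨_, ⟨k, hk, rfl⟩, rfl⟩
  exact ⟨_, map_pPrimeCore_le_of_surjective (f.subgroupMap_surjective K) ⟨k, hk, rfl⟩, rfl⟩

theorem le_coreOf {X : Type*} [Group X] [Finite X] {q : ℕ} {K W : Subgroup X} (hWK : W ≤ K)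
    (hn : K ≤ Subgroup.normalizer (W : Set X)) (hq : (Nat.card W).Coprime q) :
    W ≤ coreOf q K := by
  have : (W.subgroupOf K).Normal := (normal_subgroupOf_iff_le_normalizer hWK).2 hn
  rw [← map_subgroupOf_eq_of_le hWK]
  refine map_mono (le_pPrimeCore ?_)
  rw [Nat.card_congr (subgroupOfEquivOfLe hWK).toEquiv]
  exact hq

/-- The argument when `O_{q'}(H) = 1`. -/
theorem core {X : Type*} [Group X] [Finite X] (H A : Subgroup X) [H.Normal] (hX : H ⊔ A = ⊤)
    (hcop : (Nat.card A).Coprime (Nat.card H)) (hA : Group.IsSolvable A) (hsol : Group.IsSolvable ↥⁅H, A⁆)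
    {q : ℕ} [Fact q.Prime] (hH : coreOf q H = ⊥) {z : X} (hz : z ∈ H)
    (hzA : z ∈ Subgroup.centralizer (A : Set X)) (hzq : ∃ k : ℕ, orderOf z = q ^ k) :
    coreOf q (H ⊓ Subgroup.centralizer ({z} : Set X)) ⊓
        coreOf q (H ⊓ Subgroup.centralizer (A : Set X)) = ⊥ ∧
      ⁅coreOf q (H ⊓ Subgroup.centralizer ({z} : Set X)), A⁆ = ⊥ := by
  set R := ⁅H, A⁆ with hR
  have hRn : R.Normal := normalizer_eq_top_iff.1 <| top_le_iff.1 <| hX ▸
    sup_le (Subgroup.normalizer_commutator_ge_left H A) (Subgroup.normalizer_commutator_ge_right H A)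
  have hRH : R ≤ H := commutator_le_left H A
  set Q := (Cfsg.pCore q ↥R).map R.subtype with hQdef
  have hQn : Q.Normal := ConjAct.normal_of_characteristic_of_normal
  have hQR : Q ≤ R := map_subtype_le _
  have hQp : IsPGroup q Q := (isPGroup_pCore q R).map _
  have hRO : Cfsg.pPrimeCore q ↥R = ⊥ := by
    have hn : (coreOf q R).Normal := ConjAct.normal_of_characteristic_of_normal
    have h1 : coreOf q R ≤ coreOf q H := le_coreOf ((map_subtype_le _).trans hRH)
      (by rw [normalizer_eq_top (H := coreOf q R)]; exact le_top) (coprime_coreOf q R)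
    rw [hH, le_bot_iff] at h1
    exact (map_eq_bot_iff_of_injective _ R.subtype_injective).1 h1
  have hCR : R ⊓ Subgroup.centralizer (Q : Set X) ≤ Q := by
    intro x hx
    refine ⟨⟨x, hx.1⟩, ?_, rfl⟩
    refine centralizer_pCore_le (p := q) isPSolvable_of_isSolvable hRO ?_
    refine mem_centralizer_iff.2 fun y hy => Subtype.ext ?_
    exact mem_centralizer_iff.1 hx.2 _ ⟨y, hy, rfl⟩
  set Cz := H ⊓ Subgroup.centralizer ({z} : Set X) with hCz
  set M := coreOf q Cz with hM
  have hMC : M ≤ Cz := map_subtype_le _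
  have hMq := coprime_coreOf q Cz
  have hdisj : ∀ W : Subgroup X, (Nat.card W).Coprime q → W ≤ Q → W = ⊥ := fun W hW hWQ => by
    obtain ⟨k, hk⟩ := IsPGroup.iff_card.1 (hQp.to_le hWQ)
    rw [hk] at hW
    refine card_eq_one.1 (hk.trans ?_)
    exact (Nat.coprime_self _).1 (hW.pow_right k)
  have hzp : IsPGroup q (Subgroup.zpowers z) := by
    obtain ⟨k, hk⟩ := hzq
    exact IsPGroup.of_card (n := k) (by rw [Nat.card_zpowers, hk])
  have hzM : Subgroup.zpowers z ≤ Subgroup.centralizer (M : Set X) :=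
    zpowers_le.2 <| mem_centralizer_iff.2 fun m hm =>
      mem_centralizer_singleton_iff.1 (hMC hm).2
  have hQC : Q ⊓ Subgroup.centralizer (Subgroup.zpowers z : Set X) ≤
      Subgroup.centralizer (M : Set X) := by
    rw [← commutator_eq_bot_iff_le_centralizer]
    refine hdisj _ (Nat.Coprime.coprime_dvd_left (card_dvd_of_le ?_) hMq)
      ((commutator_mono inf_le_left le_rfl).trans (commutator_le_left Q M))
    refine le_normalizer_iff_commutator_le_right.1 ?_
    refine le_trans ?_ ((Subgroup.le_normalizer.trans (CfsgLib.Components.normalizer_le_normalizer_map_subtype Cz _)))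
    intro x hx
    exact Subgroup.mem_inf.2 ⟨hRH (hQR hx.1), mem_centralizer_singleton_iff.2
      (mem_centralizer_iff.1 hx.2 z (mem_zpowers z)).symm⟩
  have hMQ : M ≤ Subgroup.centralizer (Q : Set X) :=
    CfsgLib.Coprime.le_centralizer_of_inf_centralizer_le hzp hMq hQp hzM
      Subgroup.le_normalizer_of_normal Subgroup.le_normalizer_of_normal hQC
  refine ⟨?_, ?_⟩
  · set CA := H ⊓ Subgroup.centralizer (A : Set X) with hCA
    set D₁ := coreOf q CA ⊓ Subgroup.centralizer (Q : Set X) with hD₁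
    suffices hD : D₁ = ⊥ by
      refine eq_bot_iff.2 (le_trans ?_ hD.le)
      exact le_inf inf_le_right (inf_le_left.trans hMQ)
    have hD₁H : D₁ ≤ H := inf_le_left.trans ((map_subtype_le _).trans inf_le_left)
    have hD₁q : (Nat.card D₁).Coprime q :=
      Nat.Coprime.coprime_dvd_left (card_dvd_of_le inf_le_left) (coprime_coreOf q CA)
    have hCQn : (Subgroup.centralizer (Q : Set X)).Normal := inferInstance
    have hfix : R ≤ Subgroup.centralizer (D₁ : Set X) := by
      intro r hr
      refine mem_centralizer_iff.2 fun d hd => ?_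
      have hw : ⁅r, d⁆ ∈ Q := by
        refine hCR (Subgroup.mem_inf.2 ⟨?_, ?_⟩)
        · rw [commutatorElement_def, mul_assoc r d, mul_assoc r]
          exact mul_mem hr (hRn.conj_mem _ (inv_mem hr) d)
        · rw [commutatorElement_def]
          exact mul_mem (hCQn.conj_mem d hd.2 r) (inv_mem hd.2)
      have hcomm : Commute ⁅r, d⁆ d := mem_centralizer_iff.1 hd.2 _ hw
      have h1 : ⁅r, d⁆ ^ orderOf d = 1 := by
        have e1 : (⁅r, d⁆ * d) ^ orderOf d = 1 := by
          rw [show ⁅r, d⁆ * d = r * d * r⁻¹ by rw [commutatorElement_def]; group, conj_pow,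
            pow_orderOf_eq_one, mul_one, mul_inv_cancel]
        rwa [hcomm.mul_pow, pow_orderOf_eq_one, mul_one] at e1
      obtain ⟨k, hk⟩ := IsPGroup.iff_orderOf.1 hQp ⟨_, hw⟩
      rw [Subgroup.orderOf_mk] at hk
      have hcd : (orderOf d).Coprime q :=
        hD₁q.coprime_dvd_left (by rw [← Subgroup.orderOf_mk d hd]; exact orderOf_dvd_natCard _)
      have h2 : ⁅r, d⁆ = 1 := orderOf_eq_one_iff.1 <| Nat.eq_one_of_dvd_coprimes (hcd.pow_right k)
        (orderOf_dvd_of_pow_eq_one h1) hk.dvd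
      exact (commutatorElement_eq_one_iff_mul_comm.1 h2).symm
    have hgen : H ≤ Subgroup.normalizer (D₁ : Set X) := by
      rw [← CfsgLib.Coprime.commutator_sup_centralizer (G := H) (A := A)
        Subgroup.le_normalizer_of_normal hcop (Or.inl hA), ← hR, ← hCA]
      refine sup_le (hfix.trans (centralizer_le_normalizer _)) ?_
      refine le_trans ?_ Subgroup.inf_normalizer_le_normalizer_inf
      exact le_inf (Subgroup.le_normalizer.trans
        (CfsgLib.Components.normalizer_le_normalizer_map_subtype CA _)) Subgroup.le_normalizer_of_normal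
    exact le_bot_iff.1 (hH ▸ le_coreOf hD₁H hgen hD₁q)
  · have hAC : A ≤ Subgroup.normalizer (Cz : Set X) := by
      refine le_trans ?_ Subgroup.inf_normalizer_le_normalizer_inf
      refine le_inf Subgroup.le_normalizer_of_normal (le_trans ?_ Subgroup.le_normalizer)
      intro a ha
      exact mem_centralizer_singleton_iff.2 (mem_centralizer_iff.1 hzA a ha)
    have h1 : ⁅M, A⁆ ≤ M := le_normalizer_iff_commutator_le_left.1
      (hAC.trans (CfsgLib.Components.normalizer_le_normalizer_map_subtype Cz _))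
    refine hdisj _ (Nat.Coprime.coprime_dvd_left (card_dvd_of_le h1) hMq) ?_
    exact (le_inf (commutator_mono (hMC.trans inf_le_left) le_rfl) (h1.trans hMQ)).trans hCR

/-- Let G be a finite group with Sylow p-subgroup P and H = O_{p'}(G), and suppose G = PH and the commutator subgroup [H, P] is solvable. Let q be a prime and z an element of q-power order of C_H(P). Then (O_{q'}(C_H(z)) ∩ O_{q'}(C_H(P))) · [O_{q'}(C_H(z)), P] ≤ O_{q'}(H). -/
theorem result {G : Type*} [Group G] [Finite G] {p : ℕ} [Fact p.Prime]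
    (P : Sylow p G) (hPH : Cfsg.pPrimeCore p G ⊔ (P : Subgroup G) = ⊤)
    (hsol : Group.IsSolvable ↥⁅Cfsg.pPrimeCore p G, (P : Subgroup G)⁆)
    {q : ℕ} [Fact q.Prime] (z : G) (hzH : z ∈ Cfsg.pPrimeCore p G) (hzP : z ∈ Subgroup.centralizer ((P : Subgroup G) : Set G))
    (hz : ∃ k : ℕ, orderOf z = q ^ k) :
    ((Cfsg.pPrimeCore q ↥(Cfsg.pPrimeCore p G ⊓ Subgroup.centralizer ({z} : Set G))).map
        (Cfsg.pPrimeCore p G ⊓ Subgroup.centralizer ({z} : Set G)).subtype ⊓
      (Cfsg.pPrimeCore q ↥(Cfsg.pPrimeCore p G ⊓ Subgroup.centralizer ((P : Subgroup G) : Set G))).map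
        (Cfsg.pPrimeCore p G ⊓ Subgroup.centralizer ((P : Subgroup G) : Set G)).subtype) ⊔
    ⁅(Cfsg.pPrimeCore q ↥(Cfsg.pPrimeCore p G ⊓ Subgroup.centralizer ({z} : Set G))).map
        (Cfsg.pPrimeCore p G ⊓ Subgroup.centralizer ({z} : Set G)).subtype, (P : Subgroup G)⁆ ≤
    (Cfsg.pPrimeCore q ↥(Cfsg.pPrimeCore p G)).map (Cfsg.pPrimeCore p G).subtype := by
  set H := Cfsg.pPrimeCore p G with hHdef
  set A : Subgroup G := (P : Subgroup G) with hAdef
  have hA : IsPGroup p A := P.2
  have hcop : (Nat.card A).Coprime (Nat.card H) := by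
    obtain ⟨k, hk⟩ := IsPGroup.iff_card.1 hA
    rw [hk]
    exact (coprime_card_pPrimeCore p G).symm.pow_left k
  have hAsol : Group.IsSolvable A := by
    have := hA.isNilpotent
    infer_instance
  have hNn : (coreOf q H).Normal := ConjAct.normal_of_characteristic_of_normal
  set f := QuotientGroup.mk' (coreOf q H) with hfdef
  have hf : Function.Surjective f := QuotientGroup.mk'_surjective _
  have hker : f.ker = coreOf q H := QuotientGroup.ker_mk' _
  have hinf : H ⊓ f.ker = coreOf q H := by rw [hker]; exact inf_eq_right.2 (map_subtype_le _)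
  have hHn : (H.map f).Normal := Subgroup.Normal.map inferInstance f hf
  have hbot : coreOf q (H.map f) = ⊥ := by
    let g := f.subgroupMap H
    have hg : g.ker = Cfsg.pPrimeCore q ↥H := by
      ext x
      rw [MonoidHom.mem_ker, Subtype.ext_iff]
      show f (x : G) = 1 ↔ _
      rw [← MonoidHom.mem_ker, hker]
      exact ⟨fun ⟨y, hy, he⟩ => Subtype.ext he ▸ hy, fun hx => ⟨x, hx, rfl⟩⟩
    have e := (QuotientGroup.quotientMulEquivOfEq hg.symm).trans
      (QuotientGroup.quotientKerEquivOfSurjective g (f.subgroupMap_surjective H))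
    show (Cfsg.pPrimeCore q ↥(H.map f)).map _ = ⊥
    rw [← map_pPrimeCore_equiv e, pPrimeCore_quotient_pPrimeCore_eq_bot, Subgroup.map_bot,
      Subgroup.map_bot]
  have hzz : Group.IsSolvable (Subgroup.zpowers z) :=
    Group.isSolvable_of_comm fun x y => mul_comm' x y
  have hzn : Subgroup.zpowers z ≤ Subgroup.normalizer (H : Set G) :=
    Subgroup.le_normalizer_of_normal
  obtain ⟨k, hk⟩ := hz
  have hzc : (Nat.card (Subgroup.zpowers z)).Coprime (Nat.card ↥(H ⊓ f.ker)) := by
    rw [hinf, Nat.card_zpowers, hk]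
    exact (coprime_coreOf q H).symm.pow_left k
  have hCz : (H ⊓ Subgroup.centralizer ({z} : Set G)).map f =
      H.map f ⊓ Subgroup.centralizer ({f z} : Set _) := by
    have h := CfsgLib.Coprime.map_inf_centralizer f hzn hzc (Or.inl hzz)
    rwa [MonoidHom.map_zpowers, Subgroup.zpowers_eq_closure, Subgroup.centralizer_closure,
      Subgroup.zpowers_eq_closure, Subgroup.centralizer_closure] at h
  have hCA : (H ⊓ Subgroup.centralizer (A : Set G)).map f =
      H.map f ⊓ Subgroup.centralizer ((A.map f : Subgroup _) : Set _) :=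
    CfsgLib.Coprime.map_inf_centralizer f Subgroup.le_normalizer_of_normal
      (hcop.coprime_dvd_right (Subgroup.card_dvd_of_le inf_le_left)) (Or.inl hAsol)
  have hX : H.map f ⊔ A.map f = ⊤ := by
    rw [← Subgroup.map_sup, hPH, Subgroup.map_top_of_surjective f hf]
  have hcop' : (Nat.card ↥(A.map f)).Coprime (Nat.card ↥(H.map f)) :=
    (hcop.coprime_dvd_left (card_map_dvd _ f)).coprime_dvd_right (card_map_dvd _ f)
  have hsol' : Group.IsSolvable ↥⁅H.map f, A.map f⁆ := by
    rw [← map_commutator]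
    exact CfsgLib.Components.isSolvable_map f hsol
  obtain ⟨h1, h2⟩ := core (H.map f) (A.map f) hX hcop' (CfsgLib.Components.isSolvable_map f hAsol)
    hsol' hbot (z := f z) ⟨z, hzH, rfl⟩
    (Subgroup.mem_centralizer_iff.2 fun _ ⟨a, ha, e⟩ => by
      rw [← e, ← map_mul, ← map_mul, Subgroup.mem_centralizer_iff.1 hzP a ha])
    ((Nat.dvd_prime_pow Fact.out).1 (hk ▸ orderOf_map_dvd f z) |>.imp fun _ h => h.2)
  have hM := map_coreOf_le q f (H ⊓ Subgroup.centralizer ({z} : Set G))
  have hD := map_coreOf_le q f (H ⊓ Subgroup.centralizer (A : Set G))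
  rw [hCz] at hM
  rw [hCA] at hD
  show coreOf q _ ⊓ coreOf q _ ⊔ ⁅coreOf q _, A⁆ ≤ coreOf q H
  rw [← hker, ← Subgroup.map_eq_bot_iff, Subgroup.map_sup, eq_bot_iff, sup_le_iff]
  exact ⟨((Subgroup.map_inf_le _ _ f).trans (inf_le_inf hM hD)).trans h1.le, by
    rw [map_commutator]; exact (commutator_mono hM le_rfl).trans h2.le⟩

end Cfsg.Agent.S3819
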