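import Cfsg.Statements.S3820


set_option autoImplicit false
open Cfsg

namespace Cfsg.Agent.S3820


/-- Call a subgroup H of G pronormal if H and gHg⁻¹ are conjugate inside ⟨H, gHg⁻¹⟩ for every g ∈ G. Let S ≤ H ≤ G be subgroups of a finite group with S pronormal in G (for instance S a Sylow subgroup). Then H is pronormal in G if and only if H and gHg⁻¹ are conjugate inside ⟨H, gHg⁻¹⟩ for every g ∈ N_G(S). In particular H is pronormal whenever N_G(S) ≤ H. -/
theorem result {G : Type*} [Group G] [Finite G] (S H : Subgroup G) (hSH : S ≤ H)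
    (hS : Cfsg.IsPronormal S) :
    Cfsg.IsPronormal H ↔
      ∀ g ∈ Subgroup.normalizer (S : Set G), ∃ w ∈ H ⊔ H.map (MulAut.conj g).toMonoidHom,
        H.map (MulAut.conj g).toMonoidHom = H.map (MulAut.conj w).toMonoidHom := by
  refine ⟨fun hH g _ => hH g, fun hN g => ?_⟩
  obtain ⟨w, hw, hwS⟩ := hS g
  set J := H ⊔ H.map (MulAut.conj g).toMonoidHom with hJ
  have hwJ : w ∈ J := sup_le_sup hSH (Subgroup.map_mono hSH) hw
  have hn : w⁻¹ * g ∈ Subgroup.normalizer (S : Set G) := by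
    rw [Subgroup.mem_normalizer_iff]
    intro x
    constructor
    · intro hx
      have : g * x * g⁻¹ ∈ S.map (MulAut.conj w).toMonoidHom := hwS ▸ ⟨x, hx, rfl⟩
      obtain ⟨y, hy, hyx⟩ := this
      have hyx' : w * y * w⁻¹ = g * x * g⁻¹ := hyx
      have : w⁻¹ * g * x * (w⁻¹ * g)⁻¹ = y := by
        calc w⁻¹ * g * x * (w⁻¹ * g)⁻¹ = w⁻¹ * (g * x * g⁻¹) * w := by group
          _ = y := by rw [← hyx']; group
      rwa [this]
    · intro hx
      have : w * (w⁻¹ * g * x * (w⁻¹ * g)⁻¹) * w⁻¹ ∈ S.map (MulAut.conj g).toMonoidHom :=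
        hwS ▸ ⟨_, hx, rfl⟩
      obtain ⟨y, hy, hyx⟩ := this
      have hyx' : g * y * g⁻¹ = w * (w⁻¹ * g * x * (w⁻¹ * g)⁻¹) * w⁻¹ := hyx
      have : x = y := by
        calc x = g⁻¹ * (w * (w⁻¹ * g * x * (w⁻¹ * g)⁻¹) * w⁻¹) * g := by group
          _ = y := by rw [← hyx']; group
      rwa [this]
  obtain ⟨v, hv, hvH⟩ := hN _ hn
  have hcomp : ∀ a b : G, H.map (MulAut.conj (a * b)).toMonoidHom =
      (H.map (MulAut.conj b).toMonoidHom).map (MulAut.conj a).toMonoidHom := by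
    intro a b
    rw [Subgroup.map_map]
    congr 1
    ext x
    simp [MulAut.conj_apply, mul_assoc]
  refine ⟨w * v, mul_mem hwJ ?_, ?_⟩
  · have hle : H ⊔ H.map (MulAut.conj (w⁻¹ * g)).toMonoidHom ≤ J := by
      refine sup_le le_sup_left ?_
      rw [hcomp]
      rintro _ ⟨y, hy, rfl⟩
      exact mul_mem (mul_mem (inv_mem hwJ) (Subgroup.mem_sup_right hy))
        (by simpa using hwJ)
    exact hle hv
  · rw [hcomp w v, ← hvH, ← hcomp, mul_inv_cancel_left]

end Cfsg.Agent.S3820
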