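import Cfsg.Statements.S3821


set_option autoImplicit false
open Cfsg

namespace Cfsg.Agent.S3821


/-- Let A be a normal subgroup of the finite group G and H a subgroup of A. Then H is pronormal in G (H and gHg⁻¹ conjugate inside ⟨H, gHg⁻¹⟩ for every g ∈ G) if and only if H is pronormal in A and G = A · N_G(H). -/
theorem result {G : Type*} [Group G] [Finite G] (A H : Subgroup G) [A.Normal] (hHA : H ≤ A) :
    Cfsg.IsPronormal H ↔ (Cfsg.IsPronormal (H.subgroupOf A) ∧ A ⊔ Subgroup.normalizer (H : Set G) = ⊤) := by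
  have hcomp : ∀ a b : G, H.map (MulAut.conj (a * b)).toMonoidHom =
      (H.map (MulAut.conj b).toMonoidHom).map (MulAut.conj a).toMonoidHom := by
    intro a b
    rw [Subgroup.map_map]
    congr 1
    ext x
    simp [MulAut.conj_apply, mul_assoc]
  have hsub : ∀ a : A, (H.subgroupOf A).map (MulAut.conj a).toMonoidHom =
      (H.map (MulAut.conj (a : G)).toMonoidHom).subgroupOf A := by
    intro a
    ext x
    constructor
    · rintro ⟨y, hy, rfl⟩
      exact ⟨y, hy, rfl⟩
    · rintro ⟨y, hy, hyx⟩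
      exact ⟨⟨y, hHA hy⟩, hy, Subtype.ext hyx⟩
  have hconjA : ∀ g : G, H.map (MulAut.conj g).toMonoidHom ≤ A := by
    rintro g _ ⟨y, hy, rfl⟩
    exact Subgroup.Normal.conj_mem inferInstance y (hHA hy) g
  constructor
  · intro hH
    constructor
    · intro a
      obtain ⟨x, hx, hxe⟩ := hH (a : G)
      have hxA : x ∈ A := sup_le hHA (hconjA _) hx
      refine ⟨⟨x, hxA⟩, ?_, ?_⟩
      · rw [hsub, ← Subgroup.subgroupOf_sup hHA (hconjA _)]
        exact hx
      · rw [hsub, hsub, hxe]
    · rw [eq_top_iff]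
      intro g _
      obtain ⟨x, hx, hxe⟩ := hH g
      have hxA : x ∈ A := sup_le hHA (hconjA _) hx
      have hn : x⁻¹ * g ∈ Subgroup.normalizer (H : Set G) := by
        rw [Subgroup.mem_normalizer_iff_map_conj_eq]
        show H.map (MulAut.conj (x⁻¹ * g)).toMonoidHom = H
        rw [hcomp, hxe, ← hcomp, inv_mul_cancel]
        convert Subgroup.map_id H using 2
        ext y
        simp
      have : g = x * (x⁻¹ * g) := by group
      rw [this]
      exact mul_mem (Subgroup.mem_sup_left hxA) (Subgroup.mem_sup_right hn)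
  · rintro ⟨hpro, hfr⟩ g
    obtain ⟨a, ha, n, hn, hg⟩ := Subgroup.mem_sup_of_normal_left.1
      (hfr.symm ▸ Subgroup.mem_top g : g ∈ A ⊔ Subgroup.normalizer (H : Set G))
    have hnH : H.map (MulAut.conj n).toMonoidHom = H :=
      (Subgroup.mem_normalizer_iff_map_conj_eq).1 hn
    have hgH : H.map (MulAut.conj g).toMonoidHom = H.map (MulAut.conj a).toMonoidHom := by
      rw [← hg, hcomp, hnH]
    obtain ⟨x, hx, hxe⟩ := hpro ⟨a, ha⟩
    rw [hsub, ← Subgroup.subgroupOf_sup hHA (hconjA _)] at hx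
    refine ⟨x, ?_, ?_⟩
    · rw [hgH]; exact hx
    · rw [hgH]
      rw [hsub, hsub] at hxe
      exact Subgroup.subgroupOf_inj.1 hxe |> fun h' => by
        rwa [inf_eq_left.2 (hconjA _), inf_eq_left.2 (hconjA _)] at h'

end Cfsg.Agent.S3821
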