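import Cfsg.Statements.S3824

import Mathlib
import Cfsg.Agent.Characters.Burnside

set_option autoImplicit false
open Cfsg

namespace Cfsg.Agent.S3824

universe u

theorem solvable_aux (n : ℕ) : ∀ {G : Type u} [Group G] [Finite G], Nat.card G ≤ n →
    ∀ A : Subgroup G, IsMulCommutative A → (∃ k, A.index = 2 ^ k) → Group.IsSolvable G := by
  induction n with
  | zero => intro G _ _ h; exact absurd h (Nat.not_le.2 Nat.card_pos)
  | succ n ih =>
    intro G _ _ hn A hA ⟨k, hk⟩
    by_cases hN : ∃ N : Subgroup G, N.Normal ∧ N ≠ ⊥ ∧ N ≠ ⊤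
    · obtain ⟨N, hNn, hNb, hNt⟩ := hN
      have hlt1 : Nat.card N ≤ n := by
        have : Nat.card N < Nat.card G :=
          lt_of_le_of_ne (Subgroup.card_le_card_group N) fun h => hNt (Subgroup.eq_top_of_card_eq N h)
        omega
      have hlt2 : Nat.card (G ⧸ N) ≤ n := by
        have h1 := N.card_eq_card_quotient_mul_card_subgroup
        have h2 : 1 < Nat.card N := N.one_lt_card_iff_ne_bot.2 hNb
        have h3 : 0 < Nat.card (G ⧸ N) := Nat.card_pos
        nlinarith
      have hA1 : IsMulCommutative (A.subgroupOf N) := ⟨⟨fun a b => by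
        apply Subtype.ext
        apply Subtype.ext
        have h := congrArg Subtype.val
          (mul_comm' (⟨((a : N) : G), a.2⟩ : A) ⟨((b : N) : G), b.2⟩)
        simpa using h⟩⟩
      have hi1 : ∃ j, (A.subgroupOf N).index = 2 ^ j := by
        have h1 : A.relIndex N ∣ A.index := by
          have e1 := Subgroup.relIndex_mul_relIndex (A ⊓ N) A (A ⊔ N) inf_le_left le_sup_left
          have e2 := Subgroup.relIndex_mul_relIndex (A ⊓ N) N (A ⊔ N) inf_le_right le_sup_right
          rw [Subgroup.inf_relIndex_left] at e1
          rw [Subgroup.inf_relIndex_right, Subgroup.relIndex_sup_right] at e2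
          have e3 : A.relIndex N = A.relIndex (A ⊔ N) := by
            refine Nat.eq_of_mul_eq_mul_left (Nat.pos_of_ne_zero
              (Subgroup.index_ne_zero_of_finite : (N.subgroupOf A).index ≠ 0)) ?_
            show N.relIndex A * _ = N.relIndex A * _
            rw [e1, ← e2, mul_comm]
          rw [e3, ← Subgroup.relIndex_mul_index (le_sup_left : A ≤ A ⊔ N)]
          exact dvd_mul_right _ _
        obtain ⟨j, -, hj⟩ := (Nat.dvd_prime_pow Nat.prime_two).1 (hk ▸ h1)
        exact ⟨j, hj⟩
      have : Group.IsSolvable N := ih hlt1 _ hA1 hi1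
      have hi2 : ∃ j, (A.map (QuotientGroup.mk' N)).index = 2 ^ j := by
        obtain ⟨j, -, hj⟩ := (Nat.dvd_prime_pow Nat.prime_two).1
          (hk ▸ Subgroup.index_map_dvd A (QuotientGroup.mk'_surjective N))
        exact ⟨j, hj⟩
      have : Group.IsSolvable (G ⧸ N) := ih hlt2 _ inferInstance hi2
      exact (Group.isSolvable_iff_subgroup_quotient N).2 ⟨inferInstance, inferInstance⟩
    · by_cases hG : Subsingleton G
      · infer_instance
      have : Nontrivial G := not_subsingleton_iff_nontrivial.1 hG
      have hsimple : IsSimpleGroup G := ⟨fun H hH => by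
        by_contra h
        push Not at h
        exact hN ⟨H, hH, h.1, h.2⟩⟩
      by_cases hAb : A = ⊥
      · rw [hAb, Subgroup.index_bot] at hk
        have := Fact.mk Nat.prime_two
        have := (IsPGroup.of_card hk).isNilpotent
        infer_instance
      · obtain ⟨⟨a, ha⟩, hx1⟩ := Subgroup.ne_bot_iff_exists_ne_one.1 hAb
        have ha1 : a ≠ 1 := fun h => hx1 (Subtype.ext h)
        have hle : A ≤ Subgroup.centralizer ({a} : Set G) := fun x hx =>
          Subgroup.mem_centralizer_singleton_iff.2
            (congrArg Subtype.val (mul_comm' (⟨x, hx⟩ : A) ⟨a, ha⟩))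
        obtain ⟨j, -, hj⟩ := (Nat.dvd_prime_pow Nat.prime_two).1
          (hk ▸ Subgroup.index_dvd_of_le hle)
        have hp := CfsgLib.Characters.prime_card_of_primePow_class 2 j Nat.prime_two a ha1 hj
        have := Fact.mk hp
        have : IsCyclic G := isCyclic_of_prime_card (p := Nat.card G) rfl
        let := IsCyclic.commGroup (α := G)
        infer_instance


/-- Every finite group having an abelian subgroup whose index is a power of 2 is solvable. -/
theorem result {G : Type*} [Group G] [Finite G]
    (A : Subgroup G) (hA : IsMulCommutative A) (hidx : ∃ k : ℕ, A.index = 2 ^ k) : Group.IsSolvable G := by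
  exact solvable_aux _ le_rfl A hA hidx

end Cfsg.Agent.S3824
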