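import Cfsg.Statements.S3825

import Mathlib

set_option autoImplicit false
open Cfsg

namespace Cfsg.Agent.S3825

open scoped commutatorElement


/-- Let U be a subgroup of a finite group H and w an involution of H normalizing U and commuting with exactly two elements of U, the identity and y. If V is a non-cyclic elementary abelian 2-subgroup of U containing y which is normal in U and invariant under w, then V is a Sylow 2-subgroup of U, V has order 4, and U/V is abelian. -/
theorem result {H : Type*} [Group H] [Finite H] (U : Subgroup H) (w : H) (hw : orderOf w = 2)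
    (hwU : w ∈ Subgroup.normalizer (U : Set H)) (y : H) (hy : y ≠ 1) (hyU : y ∈ U)
    (hfix : ∀ u ∈ U, w * u * w⁻¹ = u ↔ (u = 1 ∨ u = y))
    (V : Subgroup H) (hVU : V ≤ U) (hVn : (V.subgroupOf U).Normal) (hVw : ∀ v ∈ V, w * v * w⁻¹ ∈ V)
    (hVe : Cfsg.IsElementaryAbelian 2 V) (hVc : ¬ IsCyclic ↥V) (hyV : y ∈ V) :
    ¬ 2 ∣ V.relIndex U ∧ Nat.card ↥V = 4 ∧ ⁅U, U⁆ ≤ V := by
  have hw2 : w * w = 1 := by rw [← pow_two, ← hw]; exact pow_orderOf_eq_one w
  have hwi : w⁻¹ = w := inv_eq_of_mul_eq_one_right hw2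
  have hcomm : ∀ a ∈ V, ∀ b ∈ V, a * b = b * a := fun a ha b hb =>
    haveI := hVe.1
    congrArg Subtype.val (mul_comm' (⟨a, ha⟩ : V) ⟨b, hb⟩)
  have hsq : ∀ a ∈ V, a * a = 1 := fun a ha => by rw [← pow_two]; exact hVe.2 a ha
  have hVf : ∀ v ∈ V, w * v * w⁻¹ = v → v = 1 ∨ v = y := fun v hv h => (hfix v (hVU hv)).1 h
  have hyy : w * y * w⁻¹ = y := (hfix y hyU).2 (Or.inr rfl)
  -- the map `v ↦ v · (w v w⁻¹)`
  let f : V →* V := MonoidHom.mk' (fun v => ⟨v * (w * v * w⁻¹), mul_mem v.2 (hVw v v.2)⟩)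
    fun a b => Subtype.ext (by
      show (a : H) * b * (w * (a * b) * w⁻¹) = a * (w * a * w⁻¹) * (b * (w * b * w⁻¹))
      have h := hcomm b b.2 (w * a * w⁻¹) (hVw a a.2)
      calc (a : H) * b * (w * (a * b) * w⁻¹)
          = a * ((b : H) * (w * a * w⁻¹)) * (w * b * w⁻¹) := by group
        _ = _ := by rw [h]; group)
  have hT : ∀ v ∈ V, w * (w * v * w⁻¹) * w⁻¹ = v := fun v _ => by
    calc w * (w * v * w⁻¹) * w⁻¹ = w * w * v * (w * w)⁻¹ := by group
      _ = v := by rw [hw2]; group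
  have hF : ∀ v : V, (f v : H) = 1 ∨ (f v : H) = y := fun v => hVf _ (f v).2 (by
    show w * (↑v * (w * ↑v * w⁻¹)) * w⁻¹ = ↑v * (w * ↑v * w⁻¹)
    calc w * ((v : H) * (w * v * w⁻¹)) * w⁻¹
        = (w * v * w⁻¹) * (w * (w * v * w⁻¹) * w⁻¹) := by group
      _ = _ := by rw [hT v v.2, hcomm _ (hVw v v.2) v v.2])
  have hK : ∀ v : V, f v = 1 → (v : H) = 1 ∨ (v : H) = y := fun v hv => by
    refine hVf v v.2 ?_
    have h : (v : H) * (w * v * w⁻¹) = 1 := congrArg Subtype.val hv
    calc w * (v : H) * w⁻¹ = (v : H)⁻¹ := eq_inv_of_mul_eq_one_right h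
      _ = v := inv_eq_of_mul_eq_one_right (hsq v v.2)
  have hle2 : ∀ S : Set V, (∀ v ∈ S, (v : H) = 1 ∨ (v : H) = y) → S.ncard ≤ 2 := by
    intro S hS
    refine le_trans (Set.ncard_le_ncard (t := {1, ⟨y, hyV⟩}) ?_ (Set.toFinite _)) ?_
    · intro v hv
      rcases hS v hv with h | h
      · exact Or.inl (Subtype.ext h)
      · exact Or.inr (Subtype.ext h)
    · refine (Set.ncard_insert_le _ _).trans ?_
      rw [Set.ncard_singleton]
  have hk2 : Nat.card f.ker ≤ 2 := by
    exact (Nat.card_coe_set_eq _).trans_le (hle2 _ fun v hv => hK v hv)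
  have hr2 : Nat.card f.range ≤ 2 := by
    refine (Nat.card_coe_set_eq _).trans_le (hle2 _ ?_)
    rintro _ ⟨v, rfl⟩
    exact hF v
  have hcard4 : Nat.card V ≤ 4 := by
    rw [← f.ker.card_mul_index, Subgroup.index_ker]
    exact Nat.mul_le_mul hk2 hr2
  have hV4 : Nat.card V = 4 := by
    have := Fact.mk Nat.prime_two
    have hV2 : IsPGroup 2 V := fun v => ⟨1, Subtype.ext (by simpa using hVe.2 v v.2)⟩
    obtain ⟨j, hj⟩ := hV2.exists_card_eq
    rcases Nat.lt_or_ge j 2 with hj2 | hj2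
    · exfalso
      apply hVc
      interval_cases j
      · have : Subsingleton V := (Nat.card_eq_one_iff_unique.1 (by simpa using hj)).1
        infer_instance
      · exact isCyclic_of_prime_card (p := 2) (by simpa using hj)
    · have h4 : 4 ≤ Nat.card V := hj ▸ Nat.pow_le_pow_right two_pos hj2
      omega
  -- `w` fixes only the trivial coset
  have hcoset : ∀ u ∈ U, u⁻¹ * (w * u * w⁻¹) ∈ V → u ∈ V := by
    intro u hu hv
    obtain ⟨v, hvdef⟩ : ∃ v, v = u⁻¹ * (w * u * w⁻¹) := ⟨_, rfl⟩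
    rw [← hvdef] at hv
    have e : w * u * w⁻¹ = u * v := by rw [hvdef]; group
    have e2 : v * (w * v * w⁻¹) = 1 := by
      have h1 : w * (w * u * w⁻¹) * w⁻¹ = u := by
        calc w * (w * u * w⁻¹) * w⁻¹ = w * w * u * (w * w)⁻¹ := by group
          _ = u := by rw [hw2]; group
      rw [e] at h1
      calc v * (w * v * w⁻¹) = u⁻¹ * ((w * u * w⁻¹) * (w * v * w⁻¹)) := by rw [e]; group
        _ = u⁻¹ * (w * (u * v) * w⁻¹) := by group
        _ = 1 := by rw [h1, inv_mul_cancel]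
    rcases hK ⟨v, hv⟩ (Subtype.ext e2) with h | h
    · rw [show v = 1 from h, mul_one] at e
      rcases (hfix u hu).1 e with h' | h' <;> rw [h']
      · exact one_mem V
      · exact hyV
    · have hvy : v = y := h
      subst hvy
      obtain ⟨v₀, hv₀, hv₀1⟩ : ∃ v₀ : V, (w * (v₀ : H) * w⁻¹) ≠ v₀ ∧ True := by
        by_contra hne
        push Not at hne
        have : (Set.univ : Set V).ncard ≤ 2 := hle2 _ fun v' _ => hVf v' v'.2 (by
          by_contra hc
          exact (hne v' hc))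
        rw [Set.ncard_univ, hV4] at this
        omega
      have hfy : (v₀ : H) * (w * v₀ * w⁻¹) = v := by
        rcases hF v₀ with h1 | h1
        · exfalso
          apply hv₀
          have h1' : (v₀ : H) * (w * v₀ * w⁻¹) = 1 := h1
          rw [eq_inv_of_mul_eq_one_right h1', inv_eq_of_mul_eq_one_right (hsq v₀ v₀.2)]
        · exact h1
      have hw0 : w * (v₀ : H) * w⁻¹ = v₀ * v := by
        rw [← hfy, ← mul_assoc, hsq v₀ v₀.2, one_mul]
      have hfixed : w * (u * v₀) * w⁻¹ = u * v₀ := by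
        calc w * (u * v₀) * w⁻¹ = (w * u * w⁻¹) * (w * v₀ * w⁻¹) := by group
          _ = u * (v * (v₀ * v)) := by rw [e, hw0]; group
          _ = u * (v₀ * (v * v)) := by rw [← mul_assoc v, hcomm v hv v₀ v₀.2, mul_assoc]
          _ = u * v₀ := by rw [hsq v hv, mul_one]
      have hmem : u * v₀ ∈ V := by
        rcases (hfix _ (mul_mem hu (hVU v₀.2))).1 hfixed with h' | h' <;> rw [h']
        · exact one_mem V
        · exact hyV
      simpa using mul_mem hmem (inv_mem v₀.2)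
  -- the induced automorphism of `U / V`
  set N := V.subgroupOf U with hN
  have hwU' : ∀ u ∈ U, w * u * w⁻¹ ∈ U := fun u hu => (Subgroup.mem_normalizer_iff.1 hwU u).1 hu
  let φ₀ : U →* U := MonoidHom.mk' (fun u => ⟨w * u * w⁻¹, hwU' u u.2⟩)
    fun a b => Subtype.ext (by simp [mul_assoc])
  let φ : U ⧸ N →* U ⧸ N := QuotientGroup.map N N φ₀ (fun v hv => hVw v hv)
  have hφinv : ∀ q, φ (φ q) = q := by
    intro q
    induction q using QuotientGroup.induction_on with
    | H u =>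
      show ((φ₀ (φ₀ u) : U) : U ⧸ N) = u
      congr 1
      apply Subtype.ext
      show w * (w * (u : H) * w⁻¹) * w⁻¹ = u
      calc w * (w * (u : H) * w⁻¹) * w⁻¹ = w * w * u * (w * w)⁻¹ := by group
        _ = u := by rw [hw2]; group
  have hφfpf : ∀ q, φ q = q → q = 1 := by
    intro q
    induction q using QuotientGroup.induction_on with
    | H u =>
      intro hq
      have hq' : ((φ₀ u : U) : U ⧸ N) = u := hq
      rw [QuotientGroup.eq_one_iff]
      exact hcoset u u.2 ((QuotientGroup.eq (s := N) (a := u) (b := φ₀ u)).1 hq'.symm)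
  have hrel : V.relIndex U = Nat.card (U ⧸ N) := Subgroup.index_eq_card _
  have hQodd : ¬ 2 ∣ Nat.card (U ⧸ N) := by
    intro hev
    have := Fact.mk Nat.prime_two
    let σ : Equiv.Perm (U ⧸ N) := ⟨φ, φ, hφinv, hφinv⟩
    have hσ : σ ^ 2 ^ 1 = 1 := Equiv.ext fun q => hφinv q
    classical
    let := Fintype.ofFinite (U ⧸ N)
    rw [Nat.card_eq_fintype_card] at hev
    obtain ⟨b, hb, hb1⟩ := Equiv.Perm.exists_fixed_point_of_prime' hev hσ (a := 1) (map_one φ)
    exact hb1 (hφfpf b hb)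
  refine ⟨hrel ▸ hQodd, hV4, ?_⟩
  have hinv : ∀ q, φ q = q⁻¹ := by
    have hinj : Function.Injective (fun x : U ⧸ N => x⁻¹ * φ x) := by
      intro a b hab
      simp only at hab
      have : φ (b * a⁻¹) = b * a⁻¹ := by
        rw [map_mul, map_inv]
        calc φ b * (φ a)⁻¹ = b * (b⁻¹ * φ b) * (φ a)⁻¹ := by group
          _ = b * (a⁻¹ * φ a) * (φ a)⁻¹ := by rw [hab]
          _ = b * a⁻¹ := by group
      exact (mul_inv_eq_one.1 (hφfpf _ this)).symm
    intro q
    obtain ⟨x, hx⟩ := (Finite.injective_iff_surjective.1 hinj) q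
    rw [← hx]
    simp [hφinv]
  rw [Subgroup.commutator_le]
  intro a ha b hb
  have h : ((⁅(⟨a, ha⟩ : U), (⟨b, hb⟩ : U)⁆ : U) : U ⧸ N) = 1 := by
    rw [← QuotientGroup.mk'_apply, map_commutatorElement, commutatorElement_eq_one_iff_mul_comm]
    have := map_mul φ (QuotientGroup.mk' N ⟨b, hb⟩)⁻¹ (QuotientGroup.mk' N ⟨a, ha⟩)⁻¹
    rw [hinv, hinv, hinv, mul_inv_rev, inv_inv, inv_inv] at this
    exact this
  exact ((QuotientGroup.eq_one_iff (N := N) (⁅(⟨a, ha⟩ : U), (⟨b, hb⟩ : U)⁆)).1 h)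

end Cfsg.Agent.S3825
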