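import Cfsg.Statements.S3838
import Cfsg.Agent.Transfer.Tate
import Cfsg.Agent.Transfer.Frobenius
import Cfsg.Agent.Solvable.Frattini
import Mathlib.Tactic.Group

set_option autoImplicit false
open Cfsg
open scoped commutatorElement

namespace Cfsg.Agent.S3838

/-- Let G be a finite group with Sylow p-subgroup P such that N_G(P) has a normal p-complement. Then N_G(Q) has a normal p-complement for every subgroup Q with [P, P] ≤ Q ≤ Φ(P). -/
theorem result {G : Type*} [Group G] [Finite G] {p : ℕ} [Fact p.Prime] (P : Sylow p G) (hN : Cfsg.HasNormalPComplement p ↥(Subgroup.normalizer ((P : Subgroup G) : Set G))) (Q : Subgroup G) (h1 : (commutator ↥(P : Subgroup G)).map (P : Subgroup G).subtype ≤ Q) (h2 : Q ≤ (frattini ↥(P : Subgroup G)).map (P : Subgroup G).subtype) : Cfsg.HasNormalPComplement p ↥(Subgroup.normalizer (Q : Set G)) := by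
  classical
  have hQP : Q ≤ (P : Subgroup G) := h2.trans (Subgroup.map_subtype_le _)
  have hPL : (P : Subgroup G) ≤ Subgroup.normalizer (Q : Set G) := by
    intro x hx
    rw [Subgroup.mem_normalizer_iff]
    have key : ∀ x ∈ (P : Subgroup G), ∀ q ∈ Q, x * q * x⁻¹ ∈ Q := by
      intro x hx q hq
      have hc : x * q * x⁻¹ * q⁻¹ ∈ Q := h1 ⟨⁅(⟨x, hx⟩ : (P : Subgroup G)), ⟨q, hQP hq⟩⁆,
        Subgroup.commutator_mem_commutator (Subgroup.mem_top _) (Subgroup.mem_top _),
        by simp [commutatorElement_def]⟩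
      simpa using Q.mul_mem hc hq
    intro q
    refine ⟨key x hx q, fun hh => ?_⟩
    simpa [mul_assoc] using key x⁻¹ (inv_mem hx) _ hh
  set L := Subgroup.normalizer (Q : Set G) with hL
  let PL : Sylow p L := P.subtype hPL
  have hPLco : (PL : Subgroup L) = (P : Subgroup G).subgroupOf L := rfl
  let QL : Subgroup L := Q.subgroupOf L
  haveI hQn : QL.Normal := Subgroup.normal_in_normalizer
  have hQLP : QL ≤ (PL : Subgroup L) := fun x hx => hQP hx
  let H : Subgroup L := Subgroup.normalizer ((PL : Subgroup L) : Set L)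
  have hPH : (PL : Subgroup L) ≤ H := Subgroup.le_normalizer
  have hH : Cfsg.HasNormalPComplement p H := by
    refine CfsgLib.Transfer.hasNormalPComplement_of_injective hN
      ((L.subtype.comp H.subtype).codRestrict _ ?_) ?_
    · intro a
      rw [Subgroup.mem_normalizer_iff]
      intro b
      have hb := Subgroup.mem_normalizer_iff.mp a.2
      constructor
      · intro hbP
        exact (hb ⟨b, hPL hbP⟩).mp hbP
      · intro hbP
        have hbL : b ∈ L := by
          have hm := L.mul_mem (L.mul_mem (L.inv_mem a.1.2) (hPL hbP)) a.1.2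
          simpa [mul_assoc] using hm
        exact (hb ⟨b, hbL⟩).mpr hbP
    · intro a b hab
      exact Subtype.ext (Subtype.ext (congrArg Subtype.val hab :))
  rw [CfsgLib.Transfer.hasNormalPComplement_iff_sylow_inf PL]
  have key := CfsgLib.Transfer.tate_of_elemResidual PL hPH ?_
  · rw [← inf_of_le_left hPH, inf_assoc, key, eq_bot_iff]
    rintro _ ⟨hxP, y, hy, rfl⟩
    have hb := (CfsgLib.Transfer.hasNormalPComplement_iff_sylow_inf (PL.subtype hPH)).mp hH
    have : y ∈ (⊥ : Subgroup H) := hb ▸ ⟨hxP, hy⟩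
    rw [Subgroup.mem_bot] at this
    simp [this]
  have hpowP : ∀ x ∈ (PL : Subgroup L), x ^ p ∈
      (CfsgLib.Transfer.elemResidual p H).map H.subtype := fun x hx =>
    ⟨⟨x, hPH hx⟩ ^ p, Subgroup.mem_sup_right (Subgroup.subset_closure ⟨_, rfl⟩), rfl⟩
  have hcomP : ∀ a b : L, a ∈ H → b ∈ H → ⁅a, b⁆ ∈
      (CfsgLib.Transfer.elemResidual p H).map H.subtype := fun a b ha hb =>
    ⟨⁅(⟨a, ha⟩ : H), ⟨b, hb⟩⁆, Subgroup.mem_sup_left
      (Subgroup.commutator_mem_commutator (Subgroup.mem_top _) (Subgroup.mem_top _)), rfl⟩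
  have hQE : QL ≤ (CfsgLib.Transfer.elemResidual p H).map H.subtype := by
    intro x hx
    obtain ⟨y, hy, hyx⟩ := h2 (hx : (x : G) ∈ Q)
    let j : ↥(P : Subgroup G) →* L := Subgroup.inclusion hPL
    have hle : frattini ↥(P : Subgroup G) ≤
        ((CfsgLib.Transfer.elemResidual p H).map H.subtype).comap j := by
      refine CfsgLib.Solvable.frattini_le_of_elementary (p := p) ?_ ?_
      · rw [commutator_def, Subgroup.commutator_le]
        intro a _ b _
        rw [Subgroup.mem_comap, map_commutatorElement]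
        exact hcomP _ _ (hPH a.2) (hPH b.2)
      · intro a
        rw [Subgroup.mem_comap, map_pow]
        exact hpowP _ a.2
    have := hle hy
    rwa [Subgroup.mem_comap, show j y = x from Subtype.ext hyx] at this
  refine (CfsgLib.Transfer.sylow_inf_elemResidual_le PL).trans (sup_le ?_ ?_)
  · rw [Subgroup.focalSubgroup_def, Subgroup.closure_le]
    let π := QuotientGroup.mk' QL
    let Pb := PL.mapSurjective (QuotientGroup.mk'_surjective QL)
    have hPb : IsMulCommutative Pb := by
      refine ⟨⟨?_⟩⟩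
      rintro ⟨_, a, ha, rfl⟩ ⟨_, b, hb, rfl⟩
      apply Subtype.ext
      change π a * π b = π b * π a
      rw [← commutatorElement_eq_one_iff_mul_comm, ← map_commutatorElement]
      refine (QuotientGroup.eq_one_iff _).mpr (h1 ?_)
      exact ⟨⁅(⟨(a : G), ha⟩ : (P : Subgroup G)), ⟨b, hb⟩⁆,
        Subgroup.commutator_mem_commutator (Subgroup.mem_top _) (Subgroup.mem_top _), rfl⟩
    have hpre : ∀ z : L, π z ∈ (Pb : Subgroup _) → z ∈ (PL : Subgroup L) := by
      rintro z ⟨a, ha, he⟩
      have hd := hQLP (QuotientGroup.eq.mp he)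
      simpa using mul_mem ha hd
    rintro z ⟨hzP, a, ha, g, rfl⟩
    have hga : g * a * g⁻¹ ∈ (PL : Subgroup L) := by
      have := inv_mem (mul_mem (inv_mem ha) hzP)
      simpa [commutatorElement_def, mul_assoc] using this
    rw [SetLike.mem_coe, ← inv_mem_iff, commutatorElement_inv]
    obtain ⟨n, hn, hne⟩ :=
      CfsgLib.Transfer.controlsFusion_normalizer_of_isMulCommutative Pb hPb (π a)
        ⟨a, ha, rfl⟩ (π g) (by rw [← map_inv, ← map_mul, ← map_mul]; exact ⟨_, hga, rfl⟩)
    obtain ⟨m, rfl⟩ := QuotientGroup.mk'_surjective QL n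
    have hm : m ∈ H := by
      rw [Subgroup.mem_normalizer_iff]
      intro b
      have hb := Subgroup.mem_normalizer_iff.mp hn (π b)
      constructor
      · intro hbP
        exact hpre _ (by rw [map_mul, map_mul, map_inv]; exact hb.mp ⟨b, hbP, rfl⟩)
      · intro hbP
        refine hpre _ (hb.mpr ?_)
        rw [← map_inv, ← map_mul, ← map_mul]
        exact ⟨_, hbP, rfl⟩
    have hq : (m * a * m⁻¹)⁻¹ * (g * a * g⁻¹) ∈ QL := by
      refine QuotientGroup.eq.mp ?_
      change π (m * a * m⁻¹) = π (g * a * g⁻¹)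
      simpa [π] using hne
    have h3 : g * a * g⁻¹ * a⁻¹ = (a * (⁅a⁻¹, m⁆)) * ((m * a * m⁻¹)⁻¹ * (g * a * g⁻¹)) * a⁻¹ := by
      rw [commutatorElement_def]; group
    rw [commutatorElement_def, h3]
    have hE : ∀ w ∈ (CfsgLib.Transfer.elemResidual p H).map H.subtype,
        a * w * a⁻¹ ∈ (CfsgLib.Transfer.elemResidual p H).map H.subtype := by
      rintro _ ⟨w, hw, rfl⟩
      haveI : (CfsgLib.Transfer.elemResidual p H).Normal :=
        Subgroup.Normal.of_commutator_le _ le_sup_left
      exact ⟨⟨a, hPH ha⟩ * w * ⟨a, hPH ha⟩⁻¹, Subgroup.Normal.conj_mem inferInstance w hw _, rfl⟩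
    have h4 := hE _ (mul_mem (hcomP a⁻¹ m (inv_mem (hPH ha)) hm) (hQE hq))
    simpa [mul_assoc] using h4
  · rw [Subgroup.closure_le]
    rintro _ ⟨x, hx, rfl⟩
    exact hpowP x hx

end Cfsg.Agent.S3838
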