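import Cfsg.Statements.S3858
import Cfsg.Agent.UniqueMaximal.Basic

set_option autoImplicit false
open Cfsg

namespace Cfsg.Agent.S3858

/-- Let G be a finite group with a normal non-abelian simple subgroup T whose centralizer is trivial (G almost simple with socle T), r a prime and R a Sylow r-subgroup of G meeting T nontrivially. Then R lies in exactly one maximal subgroup of G if and only if G has exactly one conjugacy class of maximal subgroups whose index is prime to r. -/
theorem result {G : Type*} [Group G] [Finite G] (T : Subgroup G) [T.Normal] (hT : IsSimpleGroup T) (hna : ¬ IsMulCommutative T)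
    (hC : Subgroup.centralizer (T : Set G) = ⊥) {r : ℕ} [Fact r.Prime] (R : Sylow r G) (hR0 : (R : Subgroup G) ⊓ T ≠ ⊥) :
    (∃! M : Subgroup G, IsCoatom M ∧ (R : Subgroup G) ≤ M) ↔
      ((∃ M : Subgroup G, IsCoatom M ∧ ¬ r ∣ M.index) ∧
        ∀ M₁ M₂ : Subgroup G, IsCoatom M₁ → ¬ r ∣ M₁.index → IsCoatom M₂ → ¬ r ∣ M₂.index → ∃ g : G, M₂ = M₁.map (MulAut.conj g).toMonoidHom) := by
  constructor
  · rintro ⟨M, ⟨hM, hRM⟩, huniq⟩
    refine ⟨⟨M, hM, fun h => R.not_dvd_index (h.trans (Subgroup.index_dvd_of_le hRM))⟩, ?_⟩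
    have key : ∀ M₁ : Subgroup G, IsCoatom M₁ → ¬ r ∣ M₁.index →
        ∃ g : G, M₁.map (MulAut.conj g).toMonoidHom = M := by
      intro M₁ h1 h1r
      obtain ⟨P⟩ : Nonempty (Sylow r M₁) := inferInstance
      have hidx : ¬ r ∣ ((P : Subgroup M₁).map M₁.subtype).index := by
        rw [Subgroup.index_map_subtype]
        exact Nat.Prime.not_dvd_mul Fact.out P.not_dvd_index h1r
      obtain ⟨g, hg⟩ := MulAction.exists_smul_eq G ((P.2.map M₁.subtype).toSylow hidx) R
      refine ⟨g, huniq _ ⟨?_, ?_⟩⟩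
      · exact (OrderIso.isCoatom_iff (MulEquiv.mapSubgroup (MulAut.conj g)) M₁).mpr h1
      · rw [← hg, Sylow.coe_subgroup_smul]
        exact Subgroup.map_mono (Subgroup.map_subtype_le _)
    intro M₁ M₂ h1 h1r h2 h2r
    obtain ⟨g, hg⟩ := key M₁ h1 h1r
    obtain ⟨k, hk⟩ := key M₂ h2 h2r
    refine ⟨k⁻¹ * g, ?_⟩
    have hcomp : (MulAut.conj (k⁻¹ * g)).toMonoidHom =
        (MulAut.conj k⁻¹).toMonoidHom.comp (MulAut.conj g).toMonoidHom := by
      ext x; simp [mul_assoc]
    rw [hcomp, ← Subgroup.map_map, hg, ← hk, Subgroup.map_map]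
    have hid : (MulAut.conj k⁻¹).toMonoidHom.comp (MulAut.conj k).toMonoidHom = MonoidHom.id G := by
      ext x; simp [mul_assoc]
    rw [hid, Subgroup.map_id]
  · rintro ⟨⟨M₁, hM₁, hM₁r⟩, hconj⟩
    obtain ⟨M, hM, hNM⟩ := (eq_top_or_exists_le_coatom
      (Subgroup.normalizer ((R : Subgroup G) : Set G))).resolve_left
      (CfsgLib.UniqueMaximal.normalizer_ne_top T hT hna R hR0)
    have hRM : (R : Subgroup G) ≤ M := Subgroup.le_normalizer.trans hNM
    refine ⟨M, ⟨hM, hRM⟩, ?_⟩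
    rintro M' ⟨hM', hRM'⟩
    have nd : ∀ {K : Subgroup G}, (R : Subgroup G) ≤ K → ¬ r ∣ K.index :=
      fun h d => R.not_dvd_index (d.trans (Subgroup.index_dvd_of_le h))
    obtain ⟨g, hg⟩ := hconj M M' hM (nd hRM) hM' (nd hRM')
    have hg' : (g⁻¹ • R : Sylow r G).toSubgroup ≤ M := by
      rw [Sylow.coe_subgroup_smul]
      rintro _ ⟨x, hx, rfl⟩
      have h' := hRM' hx
      rw [hg] at h'
      obtain ⟨m, hm, rfl⟩ := h'
      simpa [mul_assoc] using hm
    obtain ⟨m, hm⟩ := MulAction.exists_smul_eq M ((g⁻¹ • R).subtype hg') (R.subtype hRM)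
    have hm' : (m : G) • g⁻¹ • R = R := by
      rw [Sylow.smul_subtype] at hm
      exact Sylow.subtype_injective hm
    rw [← mul_smul] at hm'
    have h2 : (m : G) * g⁻¹ ∈ M := hNM (Sylow.smul_eq_iff_mem_normalizer.mp hm')
    have hgM : g ∈ M := by
      have := M.inv_mem ((M.mul_mem_cancel_left m.2).mp h2)
      simpa using this
    rw [hg]
    exact (Subgroup.mem_normalizer_iff_map_conj_eq).mp (Subgroup.le_normalizer hgM)

end Cfsg.Agent.S3858
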