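import Cfsg.Statements.S3859
import Cfsg.Agent.UniqueMaximal.Basic

set_option autoImplicit false
open Cfsg

namespace Cfsg.Agent.S3859

/-- Let G be a finite group with a normal non-abelian simple subgroup T whose centralizer is trivial (G almost simple with socle T), r a prime and R a Sylow r-subgroup of G meeting T nontrivially. If R lies in exactly one maximal subgroup of G, then G/T is an r-group. -/
theorem result {G : Type*} [Group G] [Finite G] (T : Subgroup G) [T.Normal] (hT : IsSimpleGroup T) (hna : ¬ IsMulCommutative T)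
    (hC : Subgroup.centralizer (T : Set G) = ⊥) {r : ℕ} [Fact r.Prime] (R : Sylow r G) (hR0 : (R : Subgroup G) ⊓ T ≠ ⊥)
    (huniq : ∃! M : Subgroup G, IsCoatom M ∧ (R : Subgroup G) ≤ M) : IsPGroup r (G ⧸ T) := by
  obtain ⟨M, ⟨hM, hRM⟩, huniq⟩ := huniq
  have hne : Subgroup.normalizer (((R : Subgroup G) ⊓ T : Subgroup G) : Set G) ≠ ⊤ := fun h =>
    CfsgLib.UniqueMaximal.inf_not_normal T hT hna R hR0 (Subgroup.normalizer_eq_top_iff.mp h)
  obtain ⟨M₀, hM₀, hN⟩ := (eq_top_or_exists_le_coatom _).resolve_left hne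
  have hM0 : M₀ = M := huniq M₀
    ⟨hM₀, (CfsgLib.UniqueMaximal.sylow_le_normalizer_inf T R).trans hN⟩
  have hsup : (R : Subgroup G) ⊔ T = ⊤ := by
    rcases eq_top_or_exists_le_coatom ((R : Subgroup G) ⊔ T) with h | ⟨M₁, hM₁, hle⟩
    · exact h
    · exfalso
      have e := huniq M₁ ⟨hM₁, le_sup_left.trans hle⟩
      apply hM.1
      rw [eq_top_iff, ← CfsgLib.UniqueMaximal.normalizer_inf_sup_eq_top T R]
      exact sup_le (hM0 ▸ hN) (e ▸ le_sup_right.trans hle)
  refine IsPGroup.of_surjective R.2 ((QuotientGroup.mk' T).comp (R : Subgroup G).subtype) ?_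
  rw [← MonoidHom.range_eq_top, MonoidHom.range_comp, Subgroup.range_subtype]
  have h2 := congrArg (Subgroup.map (QuotientGroup.mk' T)) hsup
  rwa [Subgroup.map_sup, QuotientGroup.map_mk'_self, sup_bot_eq,
    Subgroup.map_top_of_surjective _ (QuotientGroup.mk'_surjective T)] at h2

end Cfsg.Agent.S3859
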