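import Cfsg.Statements.S3861
import Cfsg.Agent.RealElements.TwoClosed

set_option autoImplicit false
open Cfsg

namespace Cfsg.Agent.S3861

/-- A finite group G has no non-identity element of odd order that is conjugate to its inverse if and only if the Sylow 2-subgroups of G are normal. -/
theorem result {G : Type*} [Group G] [Finite G] (P : Sylow 2 G) : (∀ x : G, x ≠ 1 → Odd (orderOf x) → ¬ IsConj x x⁻¹) ↔ (P : Subgroup G).Normal := by
  refine ⟨fun h => CfsgLib.RealElements.sylow_two_normal h P, fun hP x hx hxo hc => ?_⟩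
  obtain ⟨t, ⟨j, hj⟩, ht⟩ := CfsgLib.RealElements.exists_two_element_inverting hc
  have htP : t ∈ (P : Subgroup G) := by
    have : Fact (Nat.Prime 2) := ⟨Nat.prime_two⟩
    obtain ⟨Q, hQ⟩ := (IsPGroup.of_card (p := 2) (n := j) (by rw [Nat.card_zpowers, hj]) :
      IsPGroup 2 ↥(Subgroup.zpowers t)).exists_le_sylow
    haveI := Sylow.unique_of_normal P hP
    exact (Subsingleton.elim Q P) ▸ hQ (Subgroup.mem_zpowers t)
  have h2 : (x ^ 2)⁻¹ ∈ (P : Subgroup G) := by
    have hm := mul_mem htP (hP.conj_mem _ (inv_mem htP) x)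
    have e : (x ^ 2)⁻¹ = t * x * t⁻¹ * x⁻¹ := by rw [ht, sq]; group
    rw [e]
    simpa [mul_assoc] using hm
  obtain ⟨i, hi⟩ := IsPGroup.iff_orderOf.mp P.2 ⟨x ^ 2, inv_mem_iff.mp h2⟩
  rw [Subgroup.orderOf_mk] at hi
  have hcop : (orderOf x).Coprime 2 := Nat.coprime_two_right.mpr hxo
  rw [hcop.orderOf_pow] at hi
  exact hx (orderOf_eq_one_iff.mp
    (Nat.eq_one_of_dvd_coprimes (hcop.pow_right i) dvd_rfl (hi ▸ dvd_rfl)))

end Cfsg.Agent.S3861
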