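import Cfsg.Statements.S3863
import Cfsg.Agent.RealElements.Basic

set_option autoImplicit false
open Cfsg

namespace Cfsg.Agent.S3863

/-- Let x be an element of the finite group G that is conjugate to its inverse. Then some 2-element conjugates x to its inverse; if the conjugacy class of x has odd size then x ^ 2 = 1; and x lies in, and is conjugate to its inverse inside, every normal subgroup of odd index. -/
theorem result {G : Type*} [Group G] [Finite G] (x : G) (hx : IsConj x x⁻¹) : (∃ t : G, (∃ j : ℕ, orderOf t = 2 ^ j) ∧ t * x * t⁻¹ = x⁻¹) ∧ (Odd (Subgroup.centralizer ({x} : Set G)).index → x ^ 2 = 1) ∧ ∀ (N : Subgroup G) [N.Normal], Odd N.index → ∃ hxN : x ∈ N, IsConj (⟨x, hxN⟩ : N) (⟨x, hxN⟩ : N)⁻¹ := by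
  refine ⟨CfsgLib.RealElements.exists_two_element_inverting hx,
    CfsgLib.RealElements.sq_eq_one_of_odd_index hx, ?_⟩
  intro N _ hN
  have hq : Odd (Nat.card (G ⧸ N)) := hN
  have hxN : x ∈ N := by
    rw [← QuotientGroup.eq_one_iff]
    refine CfsgLib.RealElements.eq_one_of_isConj_inv ?_ hq
    have := (QuotientGroup.mk' N).map_isConj hx
    simpa using this
  obtain ⟨t, ⟨j, hj⟩, ht⟩ := CfsgLib.RealElements.exists_two_element_inverting hx
  have htN : t ∈ N := by
    rw [← QuotientGroup.eq_one_iff]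
    refine CfsgLib.RealElements.eq_one_of_two_pow_of_odd (j := j) ?_ hq
    rw [← QuotientGroup.mk_pow, ← hj, pow_orderOf_eq_one, QuotientGroup.mk_one]
  exact ⟨hxN, isConj_iff.mpr ⟨⟨t, htN⟩, Subtype.ext (by simpa using ht)⟩⟩

end Cfsg.Agent.S3863
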