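import Cfsg.Statements.S3865
import Cfsg.Agent.FGS74.MaxClass.Bound
import Cfsg.Agent.BlocksCharsC.TateNormal
import Cfsg.Agent.PLocal.Cores

set_option autoImplicit false
set_option linter.style.haveILetI false
open Cfsg

namespace Cfsg.Agent.S3865

open Subgroup CfsgLib.PMaxClass CfsgLib.FGS74.MaxClassU
open scoped commutatorElement

universe u

variable {G : Type u} [Group G] [Finite G] {p n : ℕ} [hp : Fact p.Prime]

/-- From the bound to the `p`-part of the centraliser. -/
theorem factorization_of_pbound {P : Subgroup G} {x : G} (S : Setup G p n P x)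
    (h : PBound p G x) : (Nat.card (centralizer ({x} : Set G))).factorization p = 2 := by
  set D := centralizer ({x} : Set G)
  obtain ⟨Q⟩ : Nonempty (Sylow p D) := inferInstance
  refine le_antisymm ((Nat.pow_le_pow_iff_right hp.out.one_lt).1 ?_) ?_
  · rw [← Sylow.card_eq_multiplicity Q, ← card_map_of_injective D.subtype_injective]
    exact h _ (Q.isPGroup'.map _) fun k hk =>
      mem_centralizer_singleton_iff.1 (map_subtype_le _ hk)
  · rw [← hp.out.pow_dvd_iff_le_factorization Nat.card_pos.ne', ← S.cent]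
    exact card_dvd_of_le inf_le_right

/-- A proper normal subgroup meeting `P` in at most `Z(P)` is central. -/
theorem le_center_of_small (P : Sylow p G) (hM : MaxClass (P : Subgroup G) p n) (hn : 3 ≤ n)
    (hcore : Cfsg.pPrimeCore p G = ⊥)
    (hres : ∀ N : Subgroup G, N.Normal → (N.index).Coprime p → N = ⊤) {N : Subgroup G}
    [N.Normal] (hNP : (P : Subgroup G) ⊓ N ≤ zTerm (P : Subgroup G) 1) :
    N ≤ center G ∧ Nat.card N ≤ p := by
  have htop : zTerm (P : Subgroup G) (n - 2) = ⁅(P : Subgroup G), (P : Subgroup G)⁆ := by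
    rw [zTerm, hM.upper_eq_commutator hn, map_commutator, ← MonoidHom.range_eq_map, range_subtype]
  obtain ⟨Q, M, hMn, hMc⟩ := CfsgLib.BlocksCharsC.hasNormalPComplement_of_inf_le_commutator P N
    (htop ▸ hNP.trans (zTerm_mono (by omega)))
  have hMbot : M = ⊥ := by
    haveI := hMn
    have hcop : (Nat.card M).Coprime p := by
      refine (Nat.Prime.coprime_iff_not_dvd hp.out).2 ?_ |>.symm
      rw [← hMc.index_eq_card]
      exact Q.not_dvd_index
    have h1 : M.map N.subtype ≤ Cfsg.pPrimeCore p G :=
      (map_mono (CfsgLib.PLocal.le_pPrimeCore hcop)).trans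
        (CfsgLib.PLocal.pPrimeCore_map_subtype_le N)
    rwa [hcore, le_bot_iff, map_eq_bot_iff_of_injective _ N.subtype_injective] at h1
  have hNp : IsPGroup p N := by
    have hQ : (Q : Subgroup N) = ⊤ := isComplement'_bot_left.1 (hMbot ▸ hMc)
    exact IsPGroup.of_equiv (hQ ▸ Q.isPGroup') Subgroup.topEquiv
  have hNleP : N ≤ (P : Subgroup G) := hNp.le_sylow_of_normal P
  have hNZ : N ≤ zTerm (P : Subgroup G) 1 := fun g hg => hNP ⟨hNleP hg, hg⟩
  have hZc : Nat.card (zTerm (P : Subgroup G) 1) = p := by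
    rw [card_zTerm hM (by omega), pow_one]
  refine ⟨?_, hZc ▸ card_le_of_le hNZ⟩
  have hPC : (P : Subgroup G) ≤ centralizer (N : Set G) := fun g hg =>
    mem_centralizer_iff.2 fun z hz => (zTerm_one_comm (hNZ hz) hg).symm
  haveI : (centralizer (N : Set G)).Normal := inferInstance
  have hC : centralizer (N : Set G) = ⊤ := hres _ inferInstance
    ((Nat.Prime.coprime_iff_not_dvd hp.out).2
      (fun h => P.not_dvd_index (h.trans (index_dvd_of_le hPC)))).symm
  intro z hz
  exact mem_center_iff.2 fun g => (mem_centralizer_iff.1 (hC ▸ mem_top g) z hz).symm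

/-- First alternative from a proper normal subgroup containing enough of `P`. -/
theorem first_alternative (P : Sylow p G) (hM : MaxClass (P : Subgroup G) p n) (hn : 3 ≤ n)
    (hle : ∀ K : Subgroup G, IsPGroup p K → Nat.card K ≤ p ^ n)
    (hres : ∀ N : Subgroup G, N.Normal → (N.index).Coprime p → N = ⊤) {N : Subgroup G}
    (hN : N.Normal) (hne : N ≠ ⊤) (hUN : zTerm (P : Subgroup G) (min 2 (n - 2)) ≤ N) :
    ∃ x ∈ (P : Subgroup G), (Nat.card (centralizer ({x} : Set G))).factorization p = 2 := by
  have hP : N.subgroupOf (P : Subgroup G) ≠ ⊤ := fun e => hne (hres N hN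
    ((Nat.Prime.coprime_iff_not_dvd hp.out).2
      (fun h => P.not_dvd_index (h.trans (index_dvd_of_le (subgroupOf_eq_top.1 e))))).symm)
  obtain ⟨x, hxN, hx⟩ := exists_centralizer_sq_not_mem hM hn hP
  have S : Setup G p n (P : Subgroup G) (x : G) :=
    ⟨hM.card_eq, hle, x.2, (card_inf_centralizer x.2).trans hx⟩
  refine ⟨x, x.2, factorization_of_pbound S ?_⟩
  rcases Nat.lt_or_ge n 4 with h4 | h4
  · refine pbound_of_derived S hn hN (fun h => hxN (mem_subgroupOf.2 h)) ?_
    rw [← S.zTerm_top_eq hn]
    rwa [show min 2 (n - 2) = n - 2 by omega] at hUN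
  · refine pbound_of_second S h4 hN (fun h => hxN (mem_subgroupOf.2 h)) ?_
    rwa [show min 2 (n - 2) = 2 by omega] at hUN

/-- Otherwise a normal subgroup meets `P` in at most `Z(P)`. -/
theorem inf_le_one (P : Sylow p G) (hM : MaxClass (P : Subgroup G) p n) (hn : 3 ≤ n)
    {N : Subgroup G} [N.Normal] (hUN : ¬ zTerm (P : Subgroup G) (min 2 (n - 2)) ≤ N) :
    (P : Subgroup G) ⊓ N ≤ zTerm (P : Subgroup G) 1 := by
  set R := N.subgroupOf (P : Subgroup G) with hR
  haveI : R.Normal := inferInstance
  obtain ⟨i, hi⟩ := IsPGroup.iff_card.mp (P.isPGroup'.to_subgroup R)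
  have hlt : i < min 2 (n - 2) := by
    by_contra hge
    push Not at hge
    obtain ⟨M, hMn, hMR, hMc⟩ := CfsgLib.OddOrder.BG4.exists_normal_card_le P.isPGroup' R
      (min 2 (n - 2)) (hi.symm ▸ Nat.pow_le_pow_right hp.out.pos hge)
    haveI := hMn
    have := hM.normal_eq_upper (min_le_right _ _) hMc
    refine hUN ?_
    rintro _ ⟨g, hg, rfl⟩
    exact mem_subgroupOf.1 (hMR (this ▸ hg))
  have hRU := hM.normal_eq_upper (by omega) hi
  rintro g ⟨hg, hgN⟩
  exact zTerm_mono (show i ≤ 1 by omega) (mem_zTerm.2 ⟨hg, hRU ▸ mem_subgroupOf.2 hgN⟩)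

/-- Let G be a finite group whose Sylow p-subgroup P has order p ^ n with n ≥ 2 and nilpotency class n - 1 (maximal class), whose largest normal subgroup of order prime to p is trivial, and which has no proper normal subgroup of index prime to p. Then either some x ∈ P has a centralizer in G whose order has p-part p ^ 2, or G is quasisimple with centre of order at most p. -/
theorem result {G : Type*} [Group G] [Finite G] (p : ℕ) [Fact p.Prime] (P : Sylow p G) (n : ℕ) (hP : Nat.card P = p ^ n) (hn : 2 ≤ n) (hmax : Group.nilpotencyClass ↥(P : Subgroup G) = n - 1) (hcore : Cfsg.pPrimeCore p G = ⊥) (hres : ∀ N : Subgroup G, N.Normal → (N.index).Coprime p → N = ⊤) : (∃ x ∈ (P : Subgroup G), (Nat.card (Subgroup.centralizer ({x} : Set G))).factorization p = 2) ∨ (Cfsg.IsQuasisimple G ∧ Nat.card (Subgroup.center G) ≤ p) := by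
  have hpr : p.Prime := Fact.out
  rcases Nat.lt_or_ge n 3 with h3 | h3
  · obtain rfl : n = 2 := by omega
    refine Or.inl ⟨1, one_mem _, ?_⟩
    have h1 : centralizer ({(1 : G)} : Set G) = ⊤ :=
      eq_top_iff.2 fun g _ => mem_centralizer_singleton_iff.2 (by simp)
    rw [h1, card_top]
    have h2 := Sylow.card_eq_multiplicity P
    rw [show Nat.card P = p ^ 2 from hP] at h2
    exact (Nat.pow_right_injective hpr.two_le h2).symm
  have hM : MaxClass (P : Subgroup G) p n := ⟨hpr, hP, fun h => by
    haveI := P.isPGroup'.isNilpotent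
    have := Subgroup.upperCentralSeries_eq_top_iff_nilpotencyClass_le.1 h
    omega⟩
  have hle : ∀ K : Subgroup G, IsPGroup p K → Nat.card K ≤ p ^ n := by
    intro K hK
    obtain ⟨Q, hQ⟩ := hK.exists_le_sylow
    refine (card_le_of_le hQ).trans (le_of_eq ?_)
    rw [← hP, Sylow.card_eq_multiplicity, Sylow.card_eq_multiplicity]
  by_cases hA : ∃ N : Subgroup G, N.Normal ∧ N ≠ ⊤ ∧
      zTerm (P : Subgroup G) (min 2 (n - 2)) ≤ N
  · obtain ⟨N, hN, hne, hUN⟩ := hA
    exact Or.inl (first_alternative P hM h3 hle hres hN hne hUN)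
  push Not at hA
  right
  have hsmall : ∀ N : Subgroup G, N.Normal → N ≠ ⊤ → N ≤ center G ∧ Nat.card N ≤ p :=
    fun N hN hne => by
      haveI := hN
      exact le_center_of_small P hM h3 hcore hres (inf_le_one P hM h3 (hA N hN hne))
  have htop : zTerm (P : Subgroup G) (n - 2) = ⁅(P : Subgroup G), (P : Subgroup G)⁆ := by
    rw [zTerm, hM.upper_eq_commutator h3, map_commutator, ← MonoidHom.range_eq_map, range_subtype]
  have hperf : commutator G = ⊤ := by
    by_contra hne
    refine hA _ inferInstance hne ?_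
    refine (zTerm_mono (min_le_right _ _)).trans ?_
    rw [htop, _root_.commutator_def]
    exact commutator_mono le_top le_top
  have hcne : center G ≠ ⊤ := by
    intro e
    have h1 : commutator G = ⊥ := by
      rw [_root_.commutator_def, Subgroup.commutator_eq_bot_iff_le_centralizer]
      intro g _
      exact mem_centralizer_iff.2 fun h _ => mem_center_iff.1 (e ▸ mem_top g) h
    have h2 : (⊥ : Subgroup G) = ⊤ := h1.symm.trans hperf
    have h4 : Nat.card (P : Subgroup G) ≤ 1 := by
      have := card_le_of_le (le_top : (P : Subgroup G) ≤ ⊤)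
      rwa [← h2, card_bot] at this
    rw [hP] at h4
    exact absurd h4 (Nat.one_lt_pow (by omega) hpr.one_lt).not_ge
  refine ⟨⟨⟨hperf⟩, ?_⟩, (hsmall _ inferInstance hcne).2⟩
  haveI : Nontrivial (G ⧸ center G) := QuotientGroup.nontrivial_iff.2 hcne
  refine ⟨fun N hN => ?_⟩
  by_cases hc : N.comap (QuotientGroup.mk' (center G)) = ⊤
  · right
    apply comap_injective (QuotientGroup.mk'_surjective (center G))
    rw [hc, comap_top]
  · left
    have h1 := map_mono (f := QuotientGroup.mk' (center G)) (hsmall _ (hN.comap _) hc).1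
    rw [map_comap_eq_self_of_surjective (QuotientGroup.mk'_surjective _), QuotientGroup.map_mk'_self] at h1
    exact le_bot_iff.1 h1

end Cfsg.Agent.S3865
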