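import Cfsg.Statements.S3866
import Mathlib.Tactic.Group
import Mathlib.GroupTheory.Index
import Mathlib.GroupTheory.Commutator.Basic
import Mathlib.Algebra.Group.Subgroup.Finite

set_option autoImplicit false
open Cfsg
open scoped commutatorElement

namespace Cfsg.Agent.S3866

/-- Let A be a commutative normal subgroup of the finite group G with G generated by A and an element x. Then a ↦ x a x⁻¹ a⁻¹ is a surjective homomorphism from A onto the commutator subgroup of G whose kernel is the centralizer of x in A; in particular the commutator subgroup has order equal to the index in A of that centralizer. -/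
theorem result {G : Type*} [Group G] [Finite G] (A : Subgroup G) [A.Normal] (hA : IsMulCommutative A) (x : G) (hgen : A ⊔ Subgroup.zpowers x = ⊤) : (∀ a ∈ A, x * a * x⁻¹ * a⁻¹ ∈ commutator G) ∧ (∀ c ∈ commutator G, ∃ a ∈ A, x * a * x⁻¹ * a⁻¹ = c) ∧ (∀ a ∈ A, ∀ b ∈ A, x * (a * b) * x⁻¹ * (a * b)⁻¹ = (x * a * x⁻¹ * a⁻¹) * (x * b * x⁻¹ * b⁻¹)) ∧ Nat.card (commutator G) * Nat.card ↥(A ⊓ Subgroup.centralizer ({x} : Set G)) = Nat.card A := by
  have hc : ∀ a ∈ A, ∀ b ∈ A, a * b = b * a := fun a ha b hb => by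
    simpa using congrArg Subtype.val (hA.is_comm.comm (⟨a, ha⟩ : A) ⟨b, hb⟩)
  have hfA : ∀ a ∈ A, x * a * x⁻¹ * a⁻¹ ∈ A := fun a ha =>
    A.mul_mem (Subgroup.Normal.conj_mem inferInstance a ha x) (A.inv_mem ha)
  have hmul : ∀ a ∈ A, ∀ b ∈ A,
      x * (a * b) * x⁻¹ * (a * b)⁻¹ = (x * a * x⁻¹ * a⁻¹) * (x * b * x⁻¹ * b⁻¹) := by
    intro a ha b hb
    have h1 := hc (x * b * x⁻¹ * b⁻¹) (hfA b hb) a⁻¹ (A.inv_mem ha)
    calc x * (a * b) * x⁻¹ * (a * b)⁻¹
        = x * a * x⁻¹ * ((x * b * x⁻¹ * b⁻¹) * a⁻¹) := by group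
      _ = x * a * x⁻¹ * (a⁻¹ * (x * b * x⁻¹ * b⁻¹)) := by rw [h1]
      _ = _ := by group
  let f : A →* G := MonoidHom.mk' (fun a => x * (a : G) * x⁻¹ * (a : G)⁻¹)
    (fun a b => hmul a a.2 b b.2)
  have hfapp : ∀ a : A, f a = x * (a : G) * x⁻¹ * (a : G)⁻¹ := fun _ => rfl
  have hrA : f.range ≤ A := by rintro _ ⟨a, rfl⟩; exact hfA a a.2
  have hRn : f.range.Normal := by
    rw [← Subgroup.normalizer_eq_top_iff, eq_top_iff, ← hgen]
    refine sup_le ?_ ((Subgroup.zpowers_le).mpr ?_)
    · intro a ha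
      rw [Subgroup.mem_normalizer_iff]
      intro h
      constructor
      · intro hh
        rwa [hc a ha h (hrA hh), mul_inv_cancel_right]
      · intro hh
        have h' : h ∈ A := by
          have := A.mul_mem (A.mul_mem (A.inv_mem ha) (hrA hh)) ha
          simpa [mul_assoc] using this
        rwa [hc a ha h h', mul_inv_cancel_right] at hh
    · rw [Subgroup.mem_normalizer_iff_map_conj_eq]
      have hle : f.range.map (MulAut.conj x : G ≃* G).toMonoidHom ≤ f.range := by
        rintro _ ⟨_, ⟨a, rfl⟩, rfl⟩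
        refine ⟨⟨x * a * x⁻¹, Subgroup.Normal.conj_mem inferInstance _ a.2 x⟩, ?_⟩
        simp [hfapp, mul_assoc]
      exact Subgroup.eq_of_le_of_card_ge hle
        (Subgroup.card_map_of_injective (MulAut.conj x).injective).ge
  have hcom : commutator G ≤ f.range := by
    haveI := hRn
    let π := QuotientGroup.mk' f.range
    have hxa : ∀ a ∈ A, π x * π a = π a * π x := fun a ha => by
      have h1 : π (x * a * x⁻¹ * a⁻¹) = 1 := (QuotientGroup.eq_one_iff _).mpr ⟨⟨a, ha⟩, rfl⟩
      simp only [map_mul, map_inv] at h1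
      rwa [mul_inv_eq_one, mul_inv_eq_iff_eq_mul] at h1
    have hZ : A ⊔ Subgroup.zpowers x ≤ (Subgroup.center (G ⧸ f.range)).comap π := by
      have hcl : ∀ g : G, (∀ a ∈ A, π a * π g = π g * π a) → π x * π g = π g * π x →
          π g ∈ Subgroup.center (G ⧸ f.range) := by
        intro g h1 h2
        rw [Subgroup.mem_center_iff]
        intro q
        obtain ⟨h, rfl⟩ := QuotientGroup.mk'_surjective f.range q
        have hs : A ⊔ Subgroup.zpowers x ≤ (Subgroup.centralizer {π g}).comap π :=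
          sup_le (fun a ha => Subgroup.mem_centralizer_singleton_iff.mpr (h1 a ha))
            (Subgroup.zpowers_le.mpr (Subgroup.mem_centralizer_singleton_iff.mpr h2))
        exact Subgroup.mem_centralizer_singleton_iff.mp (hs (hgen ▸ Subgroup.mem_top h))
      refine sup_le (fun a ha => hcl a (fun b hb => ?_) (hxa a ha))
        (Subgroup.zpowers_le.mpr (hcl x (fun a ha => (hxa a ha).symm) rfl))
      rw [← map_mul, hc b hb a ha, map_mul]
    rw [commutator_def, Subgroup.commutator_le]
    intro g _ h _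
    rw [← QuotientGroup.eq_one_iff]
    have hh := Subgroup.mem_center_iff.mp (hZ (hgen ▸ Subgroup.mem_top h : h ∈ _)) (π g)
    change π ⁅g, h⁆ = 1
    rw [map_commutatorElement, commutatorElement_eq_one_iff_mul_comm]
    exact hh
  have hge : f.range ≤ commutator G := by
    rintro _ ⟨a, rfl⟩
    rw [hfapp, ← commutatorElement_def, commutator_def]
    exact Subgroup.commutator_mem_commutator (Subgroup.mem_top _) (Subgroup.mem_top _)
  refine ⟨fun a ha => hge ⟨⟨a, ha⟩, rfl⟩, fun c hcc => ?_, hmul, ?_⟩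
  · obtain ⟨a, ha⟩ := hcom hcc
    exact ⟨a, a.2, ha⟩
  · have hk : Nat.card ↥(A ⊓ Subgroup.centralizer ({x} : Set G)) = Nat.card f.ker := by
      have e : f.ker = (A ⊓ Subgroup.centralizer ({x} : Set G)).subgroupOf A := by
        ext a
        rw [MonoidHom.mem_ker, hfapp, Subgroup.mem_subgroupOf, Subgroup.mem_inf,
          Subgroup.mem_centralizer_singleton_iff, mul_inv_eq_one, mul_inv_eq_iff_eq_mul]
        exact ⟨fun h => ⟨a.2, h.symm⟩, fun h => h.2.symm⟩
      rw [e]
      exact (Nat.card_congr (Subgroup.subgroupOfEquivOfLe inf_le_left).toEquiv).symm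
    rw [le_antisymm hcom hge, hk, ← Subgroup.index_ker, mul_comm]
    exact f.ker.card_mul_index

end Cfsg.Agent.S3866
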