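import Cfsg.Statements.S3870


set_option autoImplicit false
open Cfsg

namespace Cfsg.Agent.S3870

/-- Let G be a finite simple group whose Sylow p-subgroups are not normal but such that every proper subgroup of G has a normal Sylow p-subgroup. Then any two distinct Sylow p-subgroups of G intersect trivially, and for every Sylow p-subgroup P the normalizer of every non-identity subgroup of P lies in the normalizer of P. -/
theorem result {G : Type*} [Group G] [Finite G] [IsSimpleGroup G] {p : ℕ} [Fact p.Prime]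
    (hnc : ¬ Cfsg.IsPClosed p G) (hsub : ∀ H : Subgroup G, H ≠ ⊤ → Cfsg.IsPClosed p ↥H) :
    (∀ P Q : Sylow p G, P ≠ Q → (P : Subgroup G) ⊓ (Q : Subgroup G) = ⊥) ∧
      ∀ (P : Sylow p G) (R : Subgroup G), R ≤ P → R ≠ ⊥ →
        Subgroup.normalizer (R : Set G) ≤ Subgroup.normalizer ((P : Subgroup G) : Set G) := by
  classical
  have hNtop : ∀ D : Subgroup G, D ≠ ⊥ → D ≠ ⊤ → Subgroup.normalizer (D : Set G) ≠ ⊤ :=
    fun D hb ht h => (((Subgroup.normalizer_eq_top_iff.mp h).eq_bot_or_eq_top).elim hb ht)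
  have key : ∀ P Q : Sylow p G, (P : Subgroup G) ⊓ Q ≠ ⊥ → P = Q := by
    by_contra hcon
    push Not at hcon
    obtain ⟨P₀, Q₀, hne₀, hPQ₀⟩ := hcon
    let S : Set (Sylow p G × Sylow p G) :=
      {w | (w.1 : Subgroup G) ⊓ w.2 ≠ ⊥ ∧ w.1 ≠ w.2}
    obtain ⟨⟨P, Q⟩, ⟨hne, hPQ⟩, hmax⟩ := Set.exists_max_image S
      (fun w => Nat.card ↥((w.1 : Subgroup G) ⊓ w.2)) (Set.toFinite S) ⟨(P₀, Q₀), hne₀, hPQ₀⟩
    set D := (P : Subgroup G) ⊓ Q with hD
    have hDlt : ∀ T U : Sylow p G, T ≠ U → ¬ (T : Subgroup G) ≤ U := fun T U h hle =>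
      h (Sylow.ext (T.3 U.2 hle).symm)
    have hDP : D < (P : Subgroup G) := lt_of_le_not_ge inf_le_left
      (fun h => hDlt P Q hPQ (h.trans inf_le_right))
    have hDQ : D < (Q : Subgroup G) := lt_of_le_not_ge inf_le_right
      (fun h => hDlt Q P (Ne.symm hPQ) (h.trans inf_le_left))
    set N := Subgroup.normalizer (D : Set G) with hN
    have hNne : N ≠ ⊤ := hNtop D hne (fun h => hDP.ne (le_antisymm hDP.le (h ▸ le_top)))
    obtain ⟨S₀⟩ : Nonempty (Sylow p N) := inferInstance
    have : (S₀ : Subgroup N).Normal := hsub N hNne S₀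
    obtain ⟨R, hR⟩ := (S₀.2.map N.subtype).exists_le_sylow
    have hT : ∀ T : Sylow p G, D < (T : Subgroup G) → T = R := by
      intro T hDT
      by_contra hTR
      have hlt : D < (T : Subgroup G) ⊓ N := by
        have hnc := (T.2.isNilpotent : Group.IsNilpotent ↥(T : Subgroup G))
        have h1 : D.subgroupOf T < ⊤ := by
          rw [lt_top_iff_ne_top, Ne, Subgroup.subgroupOf_eq_top]
          exact not_le_of_gt hDT
        have h2 := Group.normalizerCondition_of_isNilpotent (D.subgroupOf T) h1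
        obtain ⟨a, haN, haD⟩ := SetLike.exists_of_lt h2
        refine lt_of_le_not_ge (le_inf hDT.le Subgroup.le_normalizer) fun h => haD ?_
        rw [Subgroup.mem_subgroupOf]
        refine h ⟨a.2, ?_⟩
        rw [← Subgroup.subgroupOf_normalizer_eq hDT.le] at haN
        exact haN
      have hle : (T : Subgroup G) ⊓ N ≤ (T : Subgroup G) ⊓ R := by
        refine le_inf inf_le_left ?_
        obtain ⟨S', hS'⟩ := (T.2.comap_of_injective N.subtype Subtype.val_injective).exists_le_sylow
        have : S' = S₀ := by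
          haveI := Sylow.unique_of_normal S₀ ‹_›
          exact Subsingleton.elim _ _
        intro y hy
        exact hR ⟨⟨y, hy.2⟩, this ▸ hS' (show (⟨y, hy.2⟩ : N) ∈ (T : Subgroup G).comap N.subtype from hy.1), rfl⟩
      have hlt' := hlt.trans_le hle
      have hne' : (T : Subgroup G) ⊓ R ≠ ⊥ := fun h => not_lt_bot (h ▸ hlt')
      have hc := hmax (T, R) ⟨hne', hTR⟩
      exact absurd (Subgroup.eq_of_le_of_card_ge hlt'.le hc) hlt'.ne
    exact hPQ ((hT P hDP).trans (hT Q hDQ).symm)
  refine ⟨fun P Q h => by_contra fun h' => h (key P Q h'), fun P R hRP hR g hg => ?_⟩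
  refine Sylow.smul_eq_iff_mem_normalizer.mp (key (g • P) P fun h => hR ?_)
  rw [eq_bot_iff, ← h]
  refine le_inf ?_ hRP
  rw [Sylow.coe_subgroup_smul]
  conv_lhs => rw [← Subgroup.mem_normalizer_iff_map_conj_eq.mp hg]
  exact Subgroup.map_mono hRP

end Cfsg.Agent.S3870
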