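import Cfsg.Statements.S3872
import Cfsg.Agent.RegularPGroups.SmallClass

set_option autoImplicit false
open Cfsg

namespace Cfsg.Agent.S3872

open CfsgLib.RegularPGroups in
/-- In a finite `p`-group generated by two elements and noncyclic, the lower central series drops
by at least `p` at each step and by `p ^ 2` at the first. -/
theorem card_of_lowerCentralSeries {G : Type*} [Group G] [Finite G] {p : ℕ} [Fact p.Prime]
    (hG : IsPGroup p G) {k : ℕ} (hk : 1 ≤ k)
    (h : (⊤ : Subgroup G).lowerCentralSeries k ≠ ⊥) : p ^ (k + 2) ≤ Nat.card G := by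
  classical
  set γ := (⊤ : Subgroup G).lowerCentralSeries with hγ
  have hp := (Fact.out : p.Prime)
  haveI : Group.IsNilpotent G := hG.isNilpotent
  have hstat : ∀ i, γ (i + 1) = γ i → γ i = ⊥ := by
    intro i hi
    obtain ⟨N, hN⟩ := Subgroup.nilpotent_iff_lowerCentralSeries.1 ‹Group.IsNilpotent G›
    have hall : ∀ j, γ (i + j) = γ i := by
      intro j
      induction j with
      | zero => rfl
      | succ j ih =>
        rw [hγ] at ih hi ⊢
        rw [← add_assoc, Subgroup.lowerCentralSeries_succ, ih, ← Subgroup.lowerCentralSeries_succ, hi]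
    refine le_bot_iff.1 ?_
    rw [← hN, ← hall N]
    exact Subgroup.lowerCentralSeries_antitone _ (by omega)
  have hpp : ∀ {A B : Subgroup G}, A < B → p * Nat.card A ≤ Nat.card B := by
    intro A B hAB
    obtain ⟨a, ha⟩ := IsPGroup.iff_card.1 (hG.to_subgroup A)
    obtain ⟨b, hb⟩ := IsPGroup.iff_card.1 (hG.to_subgroup B)
    have hlt : Nat.card A < Nat.card B := lt_of_not_ge fun hge =>
      hAB.ne (Subgroup.eq_of_le_of_card_ge hAB.le hge)
    rw [ha, hb] at hlt ⊢
    rw [← pow_succ']
    exact Nat.pow_le_pow_right hp.pos ((Nat.pow_lt_pow_iff_right hp.one_lt).1 hlt)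
  -- the steps below the first one
  have hstep : ∀ j, j + 1 ≤ k → p ^ j * Nat.card (γ k) ≤ Nat.card (γ (k - j)) := by
    intro j hj
    induction j with
    | zero => simp
    | succ j ih =>
      have hlt : γ (k - j) < γ (k - (j + 1)) := by
        refine lt_of_le_of_ne (Subgroup.lowerCentralSeries_antitone _ (by omega)) fun e => h ?_
        have hb : γ (k - (j + 1)) = ⊥ := hstat _ (by
          rw [show k - (j + 1) + 1 = k - j by omega]; exact e)
        exact le_bot_iff.1 (hb ▸ Subgroup.lowerCentralSeries_antitone _ (by omega))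
      calc p ^ (j + 1) * Nat.card (γ k) = p * (p ^ j * Nat.card (γ k)) := by ring
        _ ≤ p * Nat.card (γ (k - j)) := Nat.mul_le_mul_left _ (ih (by omega))
        _ ≤ _ := hpp hlt
  have hone := hstep (k - 1) (by omega)
  rw [show k - (k - 1) = 1 by omega] at hone
  have hk2 : p ≤ Nat.card (γ k) := by
    have := hpp (bot_lt_iff_ne_bot.2 h)
    rwa [Subgroup.card_bot, mul_one] at this
  -- the first step
  have hfirst : p ^ 2 * Nat.card (γ 1) ≤ Nat.card G := by
    have hne : γ 1 < ⊤ := by
      refine lt_top_iff_ne_top.2 fun e => h ?_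
      have hb : γ 0 = ⊥ := hstat 0 (by rw [zero_add, e, hγ, Subgroup.lowerCentralSeries_zero])
      exact le_bot_iff.1 (hb ▸ Subgroup.lowerCentralSeries_antitone _ (by omega))
    obtain ⟨g, -, hg⟩ := SetLike.exists_of_lt hne
    have hlt : γ 1 < γ 1 ⊔ Subgroup.zpowers g :=
      lt_of_le_of_ne le_sup_left fun e => hg (e ▸ Subgroup.mem_sup_right (Subgroup.mem_zpowers g))
    have htop : γ 1 ⊔ Subgroup.zpowers g < ⊤ := by
      refine lt_top_iff_ne_top.2 fun e => h ?_
      have hle : (⊤ : Subgroup G) ≤ Subgroup.zpowers g :=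
        le_of_le_sup_commutator hG le_top (by
          rw [sup_comm, show (⁅(⊤ : Subgroup G), ⊤⁆ : Subgroup G) = γ 1 by
            rw [hγ, Subgroup.lowerCentralSeries_succ, Subgroup.lowerCentralSeries_zero]]
          exact e.ge)
      have h1 : γ 1 = ⊥ := by
        rw [hγ, Subgroup.lowerCentralSeries_succ, Subgroup.lowerCentralSeries_zero, eq_bot_iff,
          Subgroup.commutator_le]
        intro a _ b _
        rw [Subgroup.mem_bot, commutatorElement_eq_one_iff_commute]
        exact commute_of_mem_zpowers (hle (Subgroup.mem_top a)) (hle (Subgroup.mem_top b))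
      exact le_bot_iff.1 (h1 ▸ Subgroup.lowerCentralSeries_antitone _ hk)
    calc p ^ 2 * Nat.card (γ 1) = p * (p * Nat.card (γ 1)) := by ring
      _ ≤ p * Nat.card ↥(γ 1 ⊔ Subgroup.zpowers g) := Nat.mul_le_mul_left _ (hpp hlt)
      _ ≤ Nat.card (⊤ : Subgroup G) := hpp htop
      _ = Nat.card G := Subgroup.card_top
  calc p ^ (k + 2) = p ^ 2 * (p ^ (k - 1) * p) := by
        rw [← pow_succ, ← pow_add]; congr 1; omega
    _ ≤ p ^ 2 * (p ^ (k - 1) * Nat.card (γ k)) :=
        Nat.mul_le_mul_left _ (Nat.mul_le_mul_left _ hk2)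
    _ ≤ p ^ 2 * Nat.card (γ 1) := Nat.mul_le_mul_left _ hone
    _ ≤ Nat.card G := hfirst

/-- Say that a finite group is p-exponent closed when its elements of order dividing p form a subgroup. Let G be a finite p-group that is not p-exponent closed, but all of whose proper subgroups and proper quotients are. Then G is generated by two elements, has nilpotency class at least p, has exponent p², has cyclic center, and has order at least p^(p+1). -/
theorem result {G : Type*} [Group G] [Finite G] {p : ℕ} [Fact p.Prime] (hG : IsPGroup p G)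
    (hnc : ¬ (∃ H : Subgroup G, (H : Set G) = {g : G | g ^ p = 1})) (hsub : ∀ K : Subgroup G, K ≠ ⊤ → (∃ H : Subgroup ↥K, (H : Set ↥K) = {g : ↥K | g ^ p = 1}))
    (hquo : ∀ (N : Subgroup G) [N.Normal], N ≠ ⊥ → (∃ H : Subgroup (G ⧸ N), (H : Set (G ⧸ N)) = {g : (G ⧸ N) | g ^ p = 1})) :
    (∃ x y : G, Subgroup.closure ({x, y} : Set G) = ⊤) ∧ (⊤ : Subgroup G).lowerCentralSeries (p - 1) ≠ ⊥ ∧
      Monoid.exponent G = p ^ 2 ∧ IsCyclic ↥(Subgroup.center G) ∧ p ^ (p + 1) ≤ Nat.card G := by
  classical
  have hp := (Fact.out : p.Prime)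
  obtain ⟨x, y, hx, hy, hxy⟩ : ∃ x y : G, x ^ p = 1 ∧ y ^ p = 1 ∧ (x * y) ^ p ≠ 1 := by
    by_contra! hc
    exact hnc ⟨{ carrier := {g | g ^ p = 1}
                 one_mem' := one_pow p
                 mul_mem' := fun {a b} ha hb => hc a b ha hb
                 inv_mem' := fun {a} ha => show a⁻¹ ^ p = 1 by
                   rw [inv_pow, show a ^ p = 1 from ha, inv_one] }, rfl⟩
  have hgen : Subgroup.closure ({x, y} : Set G) = ⊤ := by
    by_contra hne
    set K := Subgroup.closure ({x, y} : Set G)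
    obtain ⟨O, hO⟩ := hsub K hne
    have hmem : ∀ u : K, (u : G) ^ p = 1 → u ∈ O := fun u hu => by
      rw [← SetLike.mem_coe, hO]; exact Subtype.ext (by simpa using hu)
    have h2 := mul_mem (hmem ⟨x, Subgroup.subset_closure (by simp)⟩ hx)
      (hmem ⟨y, Subgroup.subset_closure (by simp)⟩ hy)
    rw [← SetLike.mem_coe, hO] at h2
    exact hxy (by simpa using congrArg Subtype.val (show (_ : K) ^ p = 1 from h2))
  have hclass : (⊤ : Subgroup G).lowerCentralSeries (p - 1) ≠ ⊥ := fun hcl => by
    obtain ⟨-, hreg⟩ := CfsgLib.RegularPGroups.isRegularPGroup_iff.1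
      (CfsgLib.RegularPGroups.isRegularPGroup_of_class_lt hG hcl)
    have := CfsgLib.RegularPGroups.mul_pow_eq_one hG (hreg 1) x y
      (by rwa [pow_one]) (by rwa [pow_one])
    exact hxy (by rwa [pow_one] at this)
  -- central subgroups of order `p` contain all `p`-th powers
  have hpow : ∀ z ∈ Subgroup.center G, orderOf z = p → ∀ g : G, g ^ p ∈ Subgroup.zpowers z := by
    intro z hz hzo g
    haveI : (Subgroup.zpowers z).Normal := ⟨fun n hn a => by
      have hc : n ∈ Subgroup.center G := Subgroup.zpowers_le.2 hz hn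
      rwa [Subgroup.mem_center_iff.1 hc a, mul_inv_cancel_right]⟩
    obtain ⟨O, hO⟩ := hquo (Subgroup.zpowers z) (Subgroup.zpowers_ne_bot.2 fun e => by
      rw [e, orderOf_one] at hzo; exact hp.one_lt.ne hzo)
    have htop : (⊤ : Subgroup G) ≤ O.comap (QuotientGroup.mk' _) := by
      rw [← hgen, Subgroup.closure_le]
      intro u hu
      show QuotientGroup.mk' _ u ∈ O
      rw [← SetLike.mem_coe, hO]
      show (QuotientGroup.mk' _ u) ^ p = 1
      rw [← map_pow]
      rcases hu with rfl | rfl <;> simp [hx, hy]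
    have h2 : QuotientGroup.mk' (Subgroup.zpowers z) g ∈ (O : Set _) := htop (Subgroup.mem_top g)
    rw [hO] at h2
    have h3 : QuotientGroup.mk' (Subgroup.zpowers z) (g ^ p) = 1 := by rw [map_pow]; exact h2
    exact (QuotientGroup.eq_one_iff _).1 h3
  haveI : Nontrivial G := ⟨⟨_, _, hxy⟩⟩
  obtain ⟨z, hz, hzo⟩ : ∃ z ∈ Subgroup.center G, orderOf z = p := by
    haveI := hG.center_nontrivial
    obtain ⟨n, hn0, hn⟩ := (hG.to_subgroup (Subgroup.center G)).nontrivial_iff_card.1 inferInstance
    obtain ⟨⟨z, hz⟩, hzo⟩ := exists_prime_orderOf_dvd_card' (G := Subgroup.center G) p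
      (hn ▸ dvd_pow_self p hn0.ne')
    exact ⟨z, hz, by rwa [Subgroup.orderOf_mk] at hzo⟩
  have hexp2 : ∀ g : G, g ^ (p ^ 2) = 1 := fun g => by
    obtain ⟨j, hj⟩ := hpow z hz hzo g
    have hj' : z ^ j = g ^ p := hj
    rw [sq, pow_mul, ← hj', ← zpow_natCast, ← zpow_mul, mul_comm, zpow_mul, zpow_natCast, ← hzo,
      pow_orderOf_eq_one, one_zpow]
  have hord : orderOf (x * y) = p ^ 2 :=
    orderOf_eq_prime_pow (by rwa [pow_one]) (hexp2 _)
  -- the center
  have huniq : ∀ u ∈ Subgroup.center G, u ^ p = 1 → u ∈ Subgroup.zpowers z := by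
    intro u hu hup
    by_cases hu1 : u = 1
    · exact hu1 ▸ one_mem _
    have huo : orderOf u = p := orderOf_eq_prime hup hu1
    set w := (x * y) ^ p
    have hwo : orderOf w = p := by
      refine orderOf_eq_prime ?_ hxy
      rw [← pow_mul, ← sq, hexp2]
    have e : ∀ v : G, orderOf v = p → w ∈ Subgroup.zpowers v →
        Subgroup.zpowers w = Subgroup.zpowers v := fun v hv hw =>
      Subgroup.eq_of_le_of_card_ge (Subgroup.zpowers_le.2 hw)
        (by rw [Nat.card_zpowers, Nat.card_zpowers, hwo, hv])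
    rw [← e z hzo (hpow z hz hzo _), e u huo (hpow u hu huo _)]
    exact Subgroup.mem_zpowers u
  have hcyc : IsCyclic ↥(Subgroup.center G) := by
    set C := Subgroup.center G
    have hCz : ∀ u : C, u ^ p = 1 → u ∈ Subgroup.zpowers (⟨z, hz⟩ : C) := by
      intro u hu
      obtain ⟨j, hj⟩ := huniq u u.2 (congrArg Subtype.val hu)
      exact ⟨j, Subtype.ext hj⟩
    by_cases hall : ∀ u : C, u ^ p = 1
    · exact ⟨⟨z, hz⟩, fun u => hCz u (hall u)⟩
    push Not at hall
    obtain ⟨u, hu⟩ := hall
    have huo : orderOf u = p ^ 2 :=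
      orderOf_eq_prime_pow (by rwa [pow_one]) (Subtype.ext (by simpa using hexp2 (u : G)))
    let f : C →* C := { toFun := fun v => v ^ p, map_one' := one_pow p,
                        map_mul' := fun v w => (show Commute v w from mul_comm' v w).mul_pow p }
    have hle : ∀ S : Subgroup C, (∀ v ∈ S, v ^ p = 1) → Nat.card S ≤ p := fun S hS => by
      calc Nat.card S ≤ Nat.card (Subgroup.zpowers (⟨z, hz⟩ : C)) :=
            Subgroup.card_le_of_le fun v hv => hCz v (hS v hv)
        _ = p := by rw [Nat.card_zpowers, Subgroup.orderOf_mk, hzo]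
    refine isCyclic_of_orderOf_eq_card u (le_antisymm
      (Nat.le_of_dvd Nat.card_pos (orderOf_dvd_natCard u)) ?_)
    rw [huo, ← Subgroup.card_mul_index f.ker, Subgroup.index_ker, sq]
    refine Nat.mul_le_mul (hle _ fun v hv => hv) (hle _ ?_)
    rintro _ ⟨v, rfl⟩
    refine Subtype.ext ?_
    show (((v : G) ^ p) ^ p) = 1
    rw [← pow_mul, ← sq, hexp2]
  refine ⟨⟨x, y, hgen⟩, hclass, ?_, hcyc, ?_⟩
  · exact Nat.dvd_antisymm (Monoid.exponent_dvd_of_forall_pow_eq_one hexp2)
      (hord ▸ Monoid.order_dvd_exponent (x * y))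
  · have := card_of_lowerCentralSeries hG (k := p - 1) (by have := hp.two_le; omega) hclass
    rwa [show p - 1 + 2 = p + 1 by have := hp.two_le; omega] at this

end Cfsg.Agent.S3872
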