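import Cfsg.Statements.S3878
import Cfsg.Agent.HallAllGroups.Symmetric

set_option autoImplicit false
open Cfsg

namespace Cfsg.Agent.S3878

/-- For `π` with at most one prime, or all primes, the full Sylow analogue holds. -/
theorem isDPiGroup_of_trivial {π : Set ℕ}
    (hπ : (∀ p q : ℕ, p.Prime → q.Prime → p ∈ π → q ∈ π → p = q) ∨ ∀ p : ℕ, p.Prime → p ∈ π)
    (G : Type) [Group G] [Finite G] : Cfsg.IsDPiGroup π G := by
  intro H K hH hK
  rcases hπ with hone | hall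
  swap
  · have htop : ∀ X : Subgroup G, Maximal (IsPiSubgroup π) X → X = ⊤ := fun X hX =>
      top_le_iff.1 (hX.2 (fun p hp _ => hall p hp) le_top)
    exact ⟨1, by rw [htop K hK, htop H hH, ← MonoidHom.range_eq_map, MonoidHom.range_eq_top.2
      (MulEquiv.surjective _)]⟩
  by_cases hne : ∃ p : ℕ, p.Prime ∧ p ∈ π
  · obtain ⟨p, hp, hpπ⟩ := hne
    haveI := Fact.mk hp
    have hiff : ∀ X : Subgroup G, IsPiSubgroup π X ↔ IsPGroup p X := by
      refine fun X => ⟨fun h => IsPGroup.of_card (Nat.eq_prime_pow_of_unique_prime_dvd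
        Nat.card_pos.ne' fun {q} hq hd => hone q p hq hp (h q hq hd) hpπ), fun h q hq hd => ?_⟩
      obtain ⟨k, hk⟩ := IsPGroup.iff_card.1 h
      rw [hk] at hd
      exact ((Nat.prime_dvd_prime_iff_eq hq hp).1 (hq.dvd_of_dvd_pow hd)).symm ▸ hpπ
    have hsyl : ∀ X : Subgroup G, Maximal (IsPiSubgroup π) X →
        ∃ S : Sylow p G, (S : Subgroup G) = X := by
      intro X hX
      obtain ⟨S, hS⟩ := ((hiff X).1 hX.1).exists_le_sylow
      exact ⟨S, le_antisymm (hX.2 ((hiff _).2 S.isPGroup') hS) hS⟩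
    obtain ⟨S, rfl⟩ := hsyl H hH
    obtain ⟨T, rfl⟩ := hsyl K hK
    obtain ⟨g, rfl⟩ := MulAction.exists_smul_eq G S T
    exact ⟨g, rfl⟩
  · push Not at hne
    have hbot : ∀ X : Subgroup G, Maximal (IsPiSubgroup π) X → X = ⊥ := fun X hX =>
      Subgroup.card_eq_one.1 (Nat.eq_one_iff_not_exists_prime_dvd.2
        fun q hq hd => hne q hq (hX.1 q hq hd))
    exact ⟨1, by rw [hbot K hK, hbot H hH, Subgroup.map_bot]⟩

/-- The full Sylow analogue gives a Hall subgroup. -/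
theorem isEPiGroup_of_isDPiGroup {π : Set ℕ} {G : Type} [Group G] [Finite G]
    (h : Cfsg.IsDPiGroup π G) : Cfsg.IsEPiGroup π G := by
  have hex : ∀ U : Subgroup G, IsPiSubgroup π U → ∃ H, U ≤ H ∧ Maximal (IsPiSubgroup π) H :=
    fun U hU => Finite.exists_le_maximal hU
  obtain ⟨H, -, hH⟩ := hex ⊥ (fun p hp hd => by
    rw [Subgroup.card_bot] at hd; exact absurd hd hp.not_dvd_one)
  refine ⟨H, hH.1, fun p hp hpπ hd => ?_⟩
  haveI := Fact.mk hp
  obtain ⟨S⟩ : Nonempty (Sylow p G) := inferInstance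
  obtain ⟨H', hSH', hH'⟩ := hex S (fun q hq hqd => by
    obtain ⟨k, hk⟩ := IsPGroup.iff_card.1 S.isPGroup'
    rw [hk] at hqd
    exact ((Nat.prime_dvd_prime_iff_eq hq hp).1 (hq.dvd_of_dvd_pow hqd)).symm ▸ hpπ)
  obtain ⟨g, hg⟩ := h H H' hH hH'
  refine S.not_dvd_index (hd.trans ?_)
  have h1 : H.index = H'.index := by
    rw [hg]
    exact (Subgroup.index_map_equiv H (MulAut.conj g)).symm
  rw [h1]
  exact Subgroup.index_dvd_of_le hSH'

/-- For a set of primes π the following are equivalent: every finite group has a Hall π-subgroup; in every finite group the maximal π-subgroups are pairwise conjugate; π contains at most one prime or contains every prime. -/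
theorem result (π : Set ℕ) :
    ((∀ (G : Type) [Group G] [Finite G], Cfsg.IsEPiGroup π G) ↔
      ((∀ p q : ℕ, p.Prime → q.Prime → p ∈ π → q ∈ π → p = q) ∨ ∀ p : ℕ, p.Prime → p ∈ π)) ∧
    ((∀ (G : Type) [Group G] [Finite G], Cfsg.IsDPiGroup π G) ↔
      ((∀ p q : ℕ, p.Prime → q.Prime → p ∈ π → q ∈ π → p = q) ∨ ∀ p : ℕ, p.Prime → p ∈ π)) := by
  have hneg : ¬ ((∀ p q : ℕ, p.Prime → q.Prime → p ∈ π → q ∈ π → p = q) ∨
      ∀ p : ℕ, p.Prime → p ∈ π) → ∃ n : ℕ, ¬ Cfsg.IsEPiGroup π (Equiv.Perm (Fin n)) := by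
    intro h
    push Not at h
    obtain ⟨⟨p, q, hp, hq, hpπ, hqπ, hpq⟩, r, hr, hrπ⟩ := h
    exact CfsgLib.HallAllGroups.not_isEPiGroup hp hq hpπ hqπ hpq hr hrπ
  refine ⟨⟨fun h => ?_, fun h G _ _ => isEPiGroup_of_isDPiGroup (isDPiGroup_of_trivial h G)⟩,
    ⟨fun h => ?_, fun h G _ _ => isDPiGroup_of_trivial h G⟩⟩
  · by_contra hc
    obtain ⟨n, hn⟩ := hneg hc
    exact hn (h _)
  · by_contra hc
    obtain ⟨n, hn⟩ := hneg hc
    exact hn (isEPiGroup_of_isDPiGroup (h _))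

end Cfsg.Agent.S3878
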