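import Cfsg.Statements.S3881
import Cfsg.Agent.Metacyclic.Split

set_option autoImplicit false
open Cfsg

namespace Cfsg.Agent.S3881

/-- Let p be an odd prime and G a finite metacyclic p-group (G has a cyclic normal subgroup with cyclic quotient). Suppose G is non-abelian with |G'| = p^n. Then for 1 ≤ i ≤ n the number of elements of G whose conjugacy class has exactly p^i elements is |Z(G)| · (p^(2i) − p^(2i−2)). -/
theorem result {G : Type*} [Group G] [Finite G] {p : ℕ} [Fact p.Prime] (hp : p ≠ 2) (hG : IsPGroup p G) (hmc : Cfsg.IsMetacyclic G) (n : ℕ) (hn : n ≠ 0) (hGn : Nat.card ↥(commutator G) = p ^ n) (i : ℕ) (hi : 1 ≤ i) (hin : i ≤ n) :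
    Nat.card {g : G // (Subgroup.centralizer ({g} : Set G)).index = p ^ i} =
      Nat.card ↥(Subgroup.center G) * (p ^ (2 * i) - p ^ (2 * i - 2)) := by
  obtain ⟨D⟩ := CfsgLib.MetacyclicPGroup.exists_data hp hG hmc
  have hpp : p.Prime := Fact.out
  obtain rfl : n = D.e := Nat.pow_right_injective hpp.two_le (hGn.symm.trans D.card_comm)
  have hU : ∀ k ≤ D.e, ∀ g : G, g ∈ Subgroup.closure {x : G | ∃ y : G, y ^ p ^ k = x} ↔
      (Subgroup.centralizer ({g} : Set G)).index ≤ p ^ (D.e - k) := fun k hk g =>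
    (D.mem_closure_pow_iff hp hk g).trans (D.index_centralizer_le_iff hp g _).symm
  set S := fun k : ℕ => ((Subgroup.closure {x : G | ∃ y : G, y ^ p ^ k = x} : Subgroup G) : Set G)
  have hset : {g : G | (Subgroup.centralizer ({g} : Set G)).index = p ^ i} =
      S (D.e - i) \ S (D.e - i + 1) := by
    ext g
    obtain ⟨k, hk⟩ := D.isPGroup.index (Subgroup.centralizer ({g} : Set G))
    show _ ↔ g ∈ Subgroup.closure _ ∧ ¬ g ∈ Subgroup.closure _
    rw [hU _ (by omega), hU _ (by omega), Set.mem_ofPred_eq, hk, Nat.pow_le_pow_iff_right hpp.one_lt,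
      Nat.pow_le_pow_iff_right hpp.one_lt]
    exact ⟨fun h => by have := Nat.pow_right_injective hpp.two_le h; omega,
      fun h => by congr 1; omega⟩
  have hsub : S (D.e - i + 1) ⊆ S (D.e - i) := by
    intro g hg
    have hg' := (hU _ (by omega) g).mp hg
    exact (hU _ (by omega) g).mpr (hg'.trans (Nat.pow_le_pow_right hpp.pos (by omega)))
  have hZ : Subgroup.closure {x : G | ∃ y : G, y ^ p ^ D.e = x} = Subgroup.center G := by
    ext g; rw [D.mem_closure_pow_iff hp le_rfl]; simp
  rw [show Nat.card {g : G // (Subgroup.centralizer ({g} : Set G)).index = p ^ i}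
    = (S (D.e - i) \ S (D.e - i + 1)).ncard by rw [← hset]; exact Nat.card_coe_set_eq _,
    Set.ncard_diff hsub, ← Nat.card_coe_set_eq, ← Nat.card_coe_set_eq, ← hZ]
  change Nat.card ↥(Subgroup.closure _) - Nat.card ↥(Subgroup.closure _) = _
  rw [D.card_closure_pow hp (by omega), D.card_closure_pow hp (by omega),
    D.card_closure_pow hp le_rfl, Nat.mul_sub, ← pow_add, ← pow_add]
  have := D.le_alpha
  have := D.le_beta
  congr 2 <;> omega

end Cfsg.Agent.S3881
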