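import Cfsg.Statements.S3883
import Cfsg.Agent.Metacyclic.Split
import Cfsg.Agent.Solvable.Frattini

set_option autoImplicit false
set_option linter.style.haveILetI false
open Cfsg

namespace Cfsg.Agent.S3883

/-- Let p be an odd prime and G a finite metacyclic p-group (G has a cyclic normal subgroup with cyclic quotient). Suppose G is non-abelian. Then an element g of G lies outside the Frattini subgroup if and only if its centralizer C_G(g) is abelian. -/
theorem result {G : Type*} [Group G] [Finite G] {p : ℕ} [Fact p.Prime] (hp : p ≠ 2) (hG : IsPGroup p G) (hmc : Cfsg.IsMetacyclic G) (hna : ¬ IsMulCommutative G) (g : G) :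
    g ∉ frattini G ↔ IsMulCommutative ↥(Subgroup.centralizer ({g} : Set G)) := by
  obtain ⟨D⟩ := CfsgLib.MetacyclicPGroup.exists_data hp hG hmc
  have hpp : p.Prime := Fact.out
  have he : 1 ≤ D.e := by
    refine Nat.pos_of_ne_zero fun h => hna ?_
    have h1 : commutator G = ⊥ := Subgroup.eq_bot_of_card_eq _ (by rw [D.card_comm, h, pow_zero])
    refine ⟨⟨fun x y => ?_⟩⟩
    have h2 : x * y * x⁻¹ * y⁻¹ ∈ commutator G :=
      Subgroup.commutator_mem_commutator (Subgroup.mem_top _) (Subgroup.mem_top _)
    rw [h1, Subgroup.mem_bot] at h2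
    rw [mul_inv_eq_one, mul_inv_eq_iff_eq_mul] at h2
    exact h2
  -- the Frattini subgroup consists of the products of `p`-th powers
  have hfrat : g ∈ frattini G ↔ g ∈ Subgroup.closure {x : G | ∃ y : G, y ^ p ^ 1 = x} := by
    constructor
    · intro hg
      obtain ⟨n, k, rfl⟩ := D.cover g
      rw [D.mem_closure_pow_iff hp he, D.pow_mem_center_coord hp he, pow_one]
      have hgen : ∀ (x : G) (t : ℤ), ¬ (p : ℤ) ∣ t → ∀ K : Subgroup G, x ^ t ∈ K → x ∈ K := by
        intro x t ht K hK
        obtain ⟨q, hq⟩ := IsPGroup.iff_orderOf.mp hG x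
        obtain ⟨u, v, huv⟩ :=
          (((Nat.prime_iff_prime_int.mp hpp).coprime_iff_not_dvd.mpr ht).pow_left (m := q))
        have : x = (x ^ t) ^ v := by
          conv_lhs => rw [← zpow_one x, ← huv]
          rw [zpow_add, mul_comm u, zpow_mul, mul_comm v, zpow_mul, ← Nat.cast_pow, zpow_natCast,
            ← hq, pow_orderOf_eq_one, one_zpow, one_mul]
        rw [this]; exact zpow_mem hK v
      have hnon : ∀ y : G, Subgroup.closure ({D.a ^ n * D.b ^ k, y} : Set G) = ⊤ → False := by
        intro y htop
        refine hna ?_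
        have h1 : Subgroup.zpowers y = ⊤ := by
          refine frattini_nongenerating (eq_top_iff.mpr ?_)
          rw [← htop, Subgroup.closure_le]
          rintro z (rfl | rfl)
          · exact Subgroup.mem_sup_right hg
          · exact Subgroup.mem_sup_left (Subgroup.mem_zpowers _)
        haveI : IsCyclic G :=
          ⟨⟨y, fun z => Subgroup.mem_zpowers_iff.mp (by rw [h1]; exact Subgroup.mem_top z)⟩⟩
        letI := IsCyclic.commGroup (α := G)
        exact ⟨⟨mul_comm⟩⟩
      constructor <;> by_contra hnot
      · refine hnon D.b (eq_top_iff.mpr fun z _ => ?_)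
        set K := Subgroup.closure ({D.a ^ n * D.b ^ k, D.b} : Set G)
        have hb : D.b ∈ K := Subgroup.subset_closure (Set.mem_insert_of_mem _ rfl)
        have ha : D.a ∈ K := hgen _ n hnot K (by
          simpa using mul_mem (Subgroup.subset_closure (Set.mem_insert _ _) : D.a ^ n * D.b ^ k ∈ K)
            (inv_mem (zpow_mem hb k)))
        obtain ⟨n', k', rfl⟩ := D.cover z
        exact mul_mem (zpow_mem ha _) (zpow_mem hb _)
      · refine hnon D.a (eq_top_iff.mpr fun z _ => ?_)
        set K := Subgroup.closure ({D.a ^ n * D.b ^ k, D.a} : Set G)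
        have ha : D.a ∈ K := Subgroup.subset_closure (Set.mem_insert_of_mem _ rfl)
        have hb : D.b ∈ K := hgen _ k hnot K (by
          simpa using mul_mem (inv_mem (zpow_mem ha n))
            (Subgroup.subset_closure (Set.mem_insert _ _) : D.a ^ n * D.b ^ k ∈ K))
        obtain ⟨n', k', rfl⟩ := D.cover z
        exact mul_mem (zpow_mem ha _) (zpow_mem hb _)
    · intro hg
      refine (Subgroup.closure_le _).mpr ?_ hg
      rintro _ ⟨y, rfl⟩
      rw [pow_one]
      exact CfsgLib.Solvable.pow_mem_frattini hG y
  have hab : IsMulCommutative ↥(Subgroup.centralizer ({g} : Set G)) ↔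
      ¬ (Subgroup.centralizer ({g} : Set G)).index ≤ p ^ (D.e - 1) := by
    obtain ⟨k, hk⟩ := D.isPGroup.index (Subgroup.centralizer ({g} : Set G))
    have h := (Subgroup.centralizer ({g} : Set G)).card_mul_index
    have h' := (commutator G).card_mul_index
    rw [hk] at h
    rw [D.card_comm] at h'
    rw [(D.abelian_subgroups _).1, hk, Nat.pow_le_pow_iff_right hpp.one_lt]
    constructor
    · intro hle hk'
      have h1 : p ^ k * p ≤ p ^ D.e := by
        rw [← pow_succ]; exact Nat.pow_le_pow_right hpp.pos (by omega)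
      have h2 : p ^ D.e * (commutator G).index ≤ p ^ k * (commutator G).index := by
        rw [h', ← h, mul_comm _ (p ^ k)]; exact Nat.mul_le_mul_left _ hle
      have h3 := Nat.le_of_mul_le_mul_right h2 (Nat.pos_of_ne_zero Subgroup.index_ne_zero_of_finite)
      have h4 : p ^ k * p ≤ p ^ k * 1 := by rw [mul_one]; exact h1.trans h3
      exact absurd (Nat.le_of_mul_le_mul_left h4 (pow_pos hpp.pos k)) (not_le.mpr hpp.one_lt)
    · intro hk'
      refine Nat.le_of_mul_le_mul_right ?_ (pow_pos hpp.pos D.e)
      rw [mul_comm (commutator G).index, h', ← h]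
      exact Nat.mul_le_mul_left _ (Nat.pow_le_pow_right hpp.pos (by omega))
  rw [hab, hfrat, D.mem_closure_pow_iff hp he, ← D.index_centralizer_le_iff hp]

end Cfsg.Agent.S3883
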