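import Cfsg.Statements.S3886
import Cfsg.Agent.Metacyclic.Split

set_option autoImplicit false
open Cfsg

namespace Cfsg.Agent.S3886

/-- Let p be an odd prime and G a finite metacyclic p-group (G has a cyclic normal subgroup with cyclic quotient). Then the largest value of |R| · |Z(R)| over subgroups R of G is |G : G'|², and the subgroups attaining it (the centrally large subgroups) are exactly the non-abelian subgroups together with the maximal abelian subgroups of G. -/
theorem result {G : Type*} [Group G] [Finite G] {p : ℕ} [Fact p.Prime] (hp : p ≠ 2) (hG : IsPGroup p G) (hmc : Cfsg.IsMetacyclic G) : Cfsg.maxCentralProduct G = (commutator G).index ^ 2 ∧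
    ∀ R : Subgroup G, Cfsg.IsCentrallyLarge R ↔ (¬ IsMulCommutative ↥R ∨ Maximal (fun K : Subgroup G => IsMulCommutative ↥K) R) := by
  classical
  obtain ⟨D⟩ := CfsgLib.MetacyclicPGroup.exists_data hp hG hmc
  have hZcard : ∀ R : Subgroup G, Nat.card ↥(Subgroup.center ↥R) =
      Nat.card ↥(R ⊓ Subgroup.centralizer (R : Set G)) := by
    intro R
    have h : Subgroup.center ↥R = (Subgroup.centralizer (R : Set G)).subgroupOf R := by
      ext x
      simp only [Subgroup.mem_center_iff, Subgroup.mem_subgroupOf, Subgroup.mem_centralizer_iff,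
        SetLike.mem_coe, Subtype.forall, Subtype.ext_iff, Subgroup.coe_mul]
    rw [h, ← Subgroup.inf_subgroupOf_left]
    exact Nat.card_congr (Subgroup.subgroupOfEquivOfLe inf_le_left).toEquiv
  have hle : ∀ R : Subgroup G,
      Nat.card ↥R * Nat.card ↥(Subgroup.center ↥R) ≤ (commutator G).index ^ 2 := fun R =>
    le_trans (Nat.mul_le_mul_left _ (by rw [hZcard]; exact Subgroup.card_le_of_le inf_le_right))
      (D.card_mul_centralizer_le R)
  have hnab : ∀ R : Subgroup G, ¬ IsMulCommutative ↥R →
      Nat.card ↥R * Nat.card ↥(Subgroup.center ↥R) = (commutator G).index ^ 2 := by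
    intro R hR
    have hC := D.centralizer_le_of_not_comm hp hR
    rw [hZcard, inf_eq_right.mpr hC,
      D.card_mul_centralizer_eq hp ((Subgroup.center_le_centralizer _).trans hC)]
  have habz : ∀ R : Subgroup G, IsMulCommutative ↥R →
      Nat.card ↥(Subgroup.center ↥R) = Nat.card ↥R := by
    intro R hR
    have : Subgroup.center ↥R = ⊤ :=
      eq_top_iff.mpr fun x _ => Subgroup.mem_center_iff.mpr fun y => hR.is_comm.comm y x
    rw [this, Subgroup.card_top]
  obtain ⟨M, -, hM⟩ := (Set.toFinite {K : Subgroup G | IsMulCommutative ↥K}).exists_le_maximal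
    (show (⊥ : Subgroup G) ∈ {K : Subgroup G | IsMulCommutative ↥K} from
      ⟨⟨fun x y => Subsingleton.elim _ _⟩⟩)
  have hmax : Cfsg.maxCentralProduct G = (commutator G).index ^ 2 := by
    refine IsGreatest.csSup_eq ⟨⟨M, ?_⟩, ?_⟩
    · rw [habz M hM.1, ((D.abelian_subgroups M).2.mp hM), sq]
    · rintro _ ⟨R, rfl⟩; exact hle R
  refine ⟨hmax, fun R => ?_⟩
  rw [Cfsg.IsCentrallyLarge, hmax]
  by_cases hR : IsMulCommutative ↥R
  · rw [habz R hR, ← sq, (D.abelian_subgroups R).2]
    constructor
    · exact fun h => Or.inr (Nat.pow_left_injective two_ne_zero h)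
    · rintro (h | h)
      · exact absurd hR h
      · rw [h]
  · exact ⟨fun _ => Or.inl hR, fun _ => hnab R hR⟩

end Cfsg.Agent.S3886
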