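import Cfsg.Statements.S3889


set_option autoImplicit false
open Cfsg

namespace Cfsg.Agent.S3889

/-- A finite abelian group that is the union of a family of proper subgroups any two of which intersect trivially is elementary abelian: its exponent is a prime. -/
theorem result {G : Type*} [CommGroup G] [Finite G] (𝓑 : Set (Subgroup G)) (hprop : ∀ B ∈ 𝓑, B ≠ ⊤)
    (hcov : ∀ g : G, ∃ B ∈ 𝓑, g ∈ B) (hdisj : ∀ B ∈ 𝓑, ∀ C ∈ 𝓑, B ≠ C → B ⊓ C = ⊥) :
    (Monoid.exponent G).Prime := by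
  classical
  obtain ⟨g₀, -⟩ : ∃ g : G, g = 1 := ⟨1, rfl⟩
  -- elements in two different members have equal order
  have pow_eq : ∀ B ∈ 𝓑, ∀ C ∈ 𝓑, B ≠ C → ∀ b c : G, b ∈ B → c ∈ C → b ≠ 1 → c ≠ 1 →
      c ^ orderOf b = 1 := by
    intro B hB C hC hne b c hb hc hb1 hc1
    by_contra hne1
    obtain ⟨D, hD, hD'⟩ := hcov (b * c)
    have hm : (b * c) ^ orderOf b ∈ D := pow_mem hD' _
    rw [mul_pow, pow_orderOf_eq_one, one_mul] at hm
    have hDC : C = D := by
      by_contra hCD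
      exact hne1 (Subgroup.mem_bot.1 (hdisj C hC D hD hCD ▸ ⟨pow_mem hc _, hm⟩))
    subst hDC
    have hbC : b ∈ C := by
      have : b * c * c⁻¹ ∈ C := mul_mem hD' (inv_mem hc)
      rwa [mul_inv_cancel_right] at this
    exact hb1 (Subgroup.mem_bot.1 (hdisj B hB C hC hne ▸ ⟨hb, hbC⟩))
  have two : ∀ B ∈ 𝓑, ∀ C ∈ 𝓑, B ≠ C → ∀ b c : G, b ∈ B → c ∈ C → b ≠ 1 → c ≠ 1 →
      orderOf b = orderOf c := fun B hB C hC hne b c hb hc hb1 hc1 =>
    Nat.dvd_antisymm (orderOf_dvd_of_pow_eq_one (pow_eq C hC B hB hne.symm c b hc hb hc1 hb1))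
      (orderOf_dvd_of_pow_eq_one (pow_eq B hB C hC hne b c hb hc hb1 hc1))
  have heq : ∀ b c : G, b ≠ 1 → c ≠ 1 → orderOf b = orderOf c := by
    intro b c hb hc
    obtain ⟨B, hB, hbB⟩ := hcov b
    obtain ⟨C, hC, hcC⟩ := hcov c
    by_cases hBC : B = C
    · obtain ⟨d, -, hdB⟩ := SetLike.exists_of_lt (lt_top_iff_ne_top.2 (hprop B hB))
      obtain ⟨D, hD, hdD⟩ := hcov d
      have hBD : B ≠ D := fun e => hdB (e ▸ hdD)
      have hd1 : d ≠ 1 := fun e => hdB (e ▸ one_mem B)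
      rw [two B hB D hD hBD b d hbB hdD hb hd1, two C hC D hD (hBC ▸ hBD) c d hcC hdD hc hd1]
    · exact two B hB C hC hBC b c hbB hcC hb hc
  have : Nontrivial G := by
    obtain ⟨B, hB, -⟩ := hcov g₀
    by_contra hnt
    have : Subsingleton G := not_nontrivial_iff_subsingleton.1 hnt
    exact hprop B hB (Subsingleton.elim _ _)
  obtain ⟨p, hp, hpdvd⟩ := Nat.exists_prime_and_dvd (Finite.one_lt_card (α := G)).ne'
  have := Fact.mk hp
  obtain ⟨x, hx⟩ := exists_prime_orderOf_dvd_card' p hpdvd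
  have hx1 : x ≠ 1 := fun e => by rw [e, orderOf_one] at hx; exact hp.one_lt.ne hx
  have : Monoid.exponent G = p := by
    refine Nat.dvd_antisymm (Monoid.exponent_dvd_of_forall_pow_eq_one fun g => ?_)
      (hx ▸ Monoid.order_dvd_exponent x)
    by_cases hg : g = 1
    · rw [hg, one_pow]
    · rw [← hx, ← heq g x hg hx1, pow_orderOf_eq_one]
  rw [this]
  exact hp

end Cfsg.Agent.S3889
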