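import Cfsg.Statements.S3891
import Cfsg.Agent.NilpotentCover.AbelianSylow

set_option autoImplicit false
open Cfsg

namespace Cfsg.Agent.S3891

/-- A cover of a group is a finite set of proper subgroups whose union is the whole group; it is minimal when no cover has fewer members, and nilpotent when all its members are nilpotent. Let G be a finite group with trivial center admitting a nilpotent minimal cover, and let P be a non-normal Sylow p-subgroup of G that is cyclic, or abelian but not elementary abelian. Then the centralizer of P is nilpotent and the normalizer of P is the unique maximal subgroup of G containing the centralizer of P. -/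
theorem result {G : Type*} [Group G] [Finite G] (hZ : Subgroup.center G = ⊥) (𝓐 : Finset (Subgroup G))
    (h𝓐 : ((∀ A ∈ 𝓐, A ≠ ⊤) ∧ (∀ g : G, ∃ A ∈ 𝓐, g ∈ A)) ∧ (∀ 𝓑 : Finset (Subgroup G), (∀ A ∈ 𝓑, A ≠ ⊤) ∧ (∀ g : G, ∃ A ∈ 𝓑, g ∈ A) → 𝓐.card ≤ 𝓑.card) ∧ (∀ A ∈ 𝓐, Group.IsNilpotent ↥A)) {p : ℕ} [Fact p.Prime] (P : Sylow p G)
    (hP : IsCyclic ↥(P : Subgroup G) ∨ (IsMulCommutative ↥(P : Subgroup G) ∧ ¬ Cfsg.IsElementaryAbelian p (P : Subgroup G)))
    (hnn : ¬ (P : Subgroup G).Normal) :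
    Group.IsNilpotent ↥(Subgroup.centralizer ((P : Subgroup G) : Set G)) ∧
      IsCoatom (Subgroup.normalizer ((P : Subgroup G) : Set G)) ∧
      ∀ M : Subgroup G, IsCoatom M → Subgroup.centralizer ((P : Subgroup G) : Set G) ≤ M →
        M = Subgroup.normalizer ((P : Subgroup G) : Set G) := by
  have hab : IsMulCommutative ↥(P : Subgroup G) := by
    rcases hP with hc | ⟨hab, -⟩
    · exact hc.isMulCommutative
    · exact hab
  have hP1 : (P : Subgroup G) ≠ ⊥ := fun e => hnn (e ▸ inferInstance)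
  have hE : ¬ (Cfsg.IsElementaryAbelian p (P : Subgroup G) ∧ p < Nat.card ↥(P : Subgroup G)) := by
    rintro ⟨he, hlt⟩
    rcases hP with hc | ⟨-, hne⟩
    · obtain ⟨c, hc'⟩ := hc.exists_generator
      have h1 : c ^ p = 1 := Subtype.ext (he.2 _ c.2)
      have h2 : orderOf c = Nat.card ↥(P : Subgroup G) := orderOf_eq_card_of_forall_mem_zpowers hc'
      have h3 := Nat.le_of_dvd (Fact.out : p.Prime).pos (orderOf_dvd_of_pow_eq_one h1)
      omega
    · exact hne he
  have hall : ∀ Q : Sylow p G, ∃ A ∈ 𝓐, (Q : Subgroup G) ≤ A := fun Q =>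
    (CfsgLib.NilpotentCover.sylow_in_member_or hab hZ h𝓐 hP1 Q).resolve_right hE
  obtain ⟨A, hA, hPA⟩ := hall P
  obtain ⟨h1, h2, -⟩ := CfsgLib.NilpotentCover.normalizer_facts hab hZ h𝓐 hnn hall
  refine ⟨?_, h1, h2⟩
  rw [CfsgLib.NilpotentCover.centralizer_eq_member hab hZ h𝓐 hA P hP1 hPA]
  exact h𝓐.2.2 A hA

end Cfsg.Agent.S3891
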