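import Cfsg.Statements.S3892
import Cfsg.Agent.NilpotentCover.SmallSylow

set_option autoImplicit false
open Cfsg

namespace Cfsg.Agent.S3892

open Equiv Equiv.Perm

/-- For a prime `q` with `n < 2q`, `5 ≤ q < n`: an obstruction inside any group of permutations
containing the alternating group. -/
theorem noCover_large (n q : ℕ) (hq : q.Prime) (h5 : 5 ≤ q) (hqn : q < n) (hn : n < 2 * q)
    (G : Subgroup (Perm (Fin n))) (hG : alternatingGroup (Fin n) ≤ G) :
    ¬ ∃ 𝓐 : Finset (Subgroup ↥G), CfsgLib.NilpotentCover.MinimalNilpotentCover 𝓐 := by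
  have := Fact.mk hq
  have hcard : Nat.card (Perm (Fin n)) = n.factorial := by rw [Nat.card_perm, Nat.card_fin]
  obtain ⟨x, hx⟩ := exists_prime_orderOf_dvd_card' (G := Perm (Fin n)) q
    (by rw [hcard]; exact (hq.dvd_factorial).2 hqn.le)
  have hcyc : x.IsCycle :=
    isCycle_of_prime_order' (hx ▸ hq) (by rw [Fintype.card_fin, hx]; omega)
  have hsupp : x.support.card = q := hcyc.orderOf.symm.trans hx
  obtain ⟨a, ha⟩ : x.support.Nonempty := Finset.card_pos.1 (by omega)
  have hdist : ∀ i j : ℕ, i < j → j < 5 → (x ^ i) a ≠ (x ^ j) a := by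
    intro i j hij hj e
    have h1 : (x ^ (j - i)) a = a := by
      apply (x ^ i).injective
      rw [← Equiv.Perm.mul_apply, ← pow_add]
      rw [show i + (j - i) = j by omega]
      exact e.symm
    have h2 : x ^ (j - i) = 1 := (hcyc.pow_eq_one_iff' (Equiv.Perm.mem_support.1 ha)).2 h1
    have := Nat.le_of_dvd (by omega) (hx ▸ orderOf_dvd_of_pow_eq_one h2)
    omega
  let h : Perm (Fin n) := swap a ((x ^ 1) a) * swap ((x ^ 2) a) ((x ^ 3) a)
  have d01 : a ≠ (x ^ 1) a := by simpa using hdist 0 1 (by omega) (by omega)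
  have d02 : a ≠ (x ^ 2) a := by simpa using hdist 0 2 (by omega) (by omega)
  have d03 : a ≠ (x ^ 3) a := by simpa using hdist 0 3 (by omega) (by omega)
  have d04 : a ≠ (x ^ 4) a := by simpa using hdist 0 4 (by omega) (by omega)
  have d12 := hdist 1 2 (by omega) (by omega)
  have d13 := hdist 1 3 (by omega) (by omega)
  have d23 := hdist 2 3 (by omega) (by omega)
  have hmem : ∀ i : ℕ, (x ^ i) a ∈ x.support := fun i =>
    Equiv.Perm.pow_apply_mem_support.2 ha
  have hS : ∀ b, b ∈ x.support → h b ∈ x.support := by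
    intro b hb
    simp only [h, Equiv.Perm.mul_apply, Equiv.swap_apply_def]
    split_ifs <;> first | exact hb | exact ha | exact hmem _
  have hh : h⁻¹ = h := by
    simp only [h, mul_inv_rev, Equiv.swap_inv]
    refine (Equiv.Perm.Disjoint.commute ?_).symm.eq
    intro z
    simp only [Equiv.swap_apply_def]
    by_cases h0 : z = a
    · right
      rw [if_neg (h0 ▸ d02), if_neg (h0 ▸ d03)]
    by_cases h1 : z = (x ^ 1) a
    · right
      rw [if_neg (h1 ▸ d12), if_neg (h1 ▸ d13)]
    left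
    rw [if_neg h0, if_neg h1]
  have hsgn : ∀ z : Perm (Fin n), orderOf z = q → z ∈ G := by
    intro z hz
    refine hG (Equiv.Perm.mem_alternatingGroup.2 ?_)
    have h1 : Equiv.Perm.sign z ^ q = 1 := by rw [← map_pow, ← hz, pow_orderOf_eq_one, map_one]
    rcases Int.units_eq_one_or (Equiv.Perm.sign z) with e | e
    · exact e
    · exfalso
      rw [e, (hq.odd_of_ne_two (by omega)).neg_one_pow] at h1
      exact absurd h1 (by decide)
  have hy : orderOf (h * x * h⁻¹) = q := ((MulAut.conj h).orderOf_eq x).trans hx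
  let M : Subgroup ↥G :=
    { carrier := {g | ∀ b, (g : Perm (Fin n)) b ∈ x.support ↔ b ∈ x.support}
      one_mem' := fun b => Iff.rfl
      mul_mem' := fun {g k} hg hk b => (hg ((k : Perm (Fin n)) b)).trans (hk b)
      inv_mem' := fun {g} hg b => by
        have := hg ((g : Perm (Fin n))⁻¹ b)
        rw [show (g : Perm (Fin n)) ((g : Perm (Fin n))⁻¹ b) = b from by simp] at this
        rw [Subgroup.coe_inv]
        exact this.symm }
  have hcent : ∀ (c w : Perm (Fin n)), c * w = w * c → ∀ b, c b ∈ w.support ↔ b ∈ w.support := by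
    intro c w hcw b
    have : w (c b) = c (w b) := (congrArg (fun e : Perm (Fin n) => e b) hcw).symm
    rw [Equiv.Perm.mem_support, Equiv.Perm.mem_support, this, ne_eq, c.injective.eq_iff]
  have hysupp : (h * x * h⁻¹).support = x.support := by
    ext b
    rw [Equiv.Perm.mem_support, hh]
    have h2 : ∀ b, h (h b) = b := fun b => by
      have := congrArg (fun e : Perm (Fin n) => e b) (mul_inv_cancel h)
      rw [hh] at this
      exact this
    simp only [Equiv.Perm.mul_apply]
    constructor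
    · intro hb
      by_contra hbs
      have h3 : h b ∉ x.support := fun e => hbs (h2 b ▸ hS _ e)
      rw [Equiv.Perm.notMem_support.1 h3, h2] at hb
      exact hb rfl
    · intro hb e
      have := Equiv.Perm.mem_support.1 (hS b hb)
      refine this (h.injective ?_)
      rw [e, h2]
  refine CfsgLib.NilpotentCover.not_exists_of_simple_prime q ?_ (M := M) ?_
    (⟨x, hsgn x hx⟩ : ↥G) ⟨_, hsgn _ hy⟩ ?_ ?_ ?_ ?_ ?_
  · intro hd
    have h1 : q ^ 2 ∣ n.factorial := hcard ▸ hd.trans (Subgroup.card_subgroup_dvd_card G)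
    rw [hq.pow_dvd_factorial_iff (b := 2) (Nat.log_lt_of_lt_pow (by omega) (by nlinarith))] at h1
    have h2 : Finset.Ico 1 2 = ({1} : Finset ℕ) := rfl
    rw [h2, Finset.sum_singleton, pow_one] at h1
    have h3 : n / q < 2 := (Nat.div_lt_iff_lt_mul hq.pos).2 hn
    omega
  · intro htop
    obtain ⟨b, -, hb⟩ := Finset.exists_mem_notMem_of_card_lt_card
      (s := x.support) (t := Finset.univ) (by rw [hsupp, Finset.card_univ, Fintype.card_fin]; exact hqn)
    let g : Perm (Fin n) := swap a b * swap ((x ^ 2) a) ((x ^ 3) a)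
    have hg : g ∈ G := by
      refine hG (Equiv.Perm.mem_alternatingGroup.2 ?_)
      have : a ≠ b := fun e => hb (e ▸ ha)
      simp [g, Equiv.Perm.sign_swap this, Equiv.Perm.sign_swap d23]
    have h1 : ∀ b', g b' ∈ x.support ↔ b' ∈ x.support :=
      (htop ▸ Subgroup.mem_top _ : (⟨g, hg⟩ : ↥G) ∈ M)
    have h2 := (h1 a).2 ha
    simp only [g, Equiv.Perm.mul_apply, Equiv.swap_apply_of_ne_of_ne d02 d03,
      Equiv.swap_apply_left] at h2
    exact hb h2
  · rw [Subgroup.orderOf_mk, hx]
  · rw [Subgroup.orderOf_mk, hy]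
  · intro c hc
    exact hcent _ x (congrArg Subtype.val hc)
  · intro c hc b
    have := hcent (c : Perm (Fin n)) (h * x * h⁻¹) (congrArg Subtype.val hc) b
    rwa [hysupp] at this
  · intro e
    have e' : x * (h * x * h⁻¹) = h * x * h⁻¹ * x := congrArg Subtype.val e
    rw [hh] at e'
    have key := congrArg (fun e : Perm (Fin n) => e a) e'
    simp only [Equiv.Perm.mul_apply] at key
    have ha1 : x a = (x ^ 1) a := by rw [pow_one]
    have h0 : h a = (x ^ 1) a := by
      simp only [h, Equiv.Perm.mul_apply]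
      rw [Equiv.swap_apply_of_ne_of_ne d02 d03, Equiv.swap_apply_left]
    have h2' : h ((x ^ 2) a) = (x ^ 3) a := by
      simp only [h, Equiv.Perm.mul_apply]
      rw [Equiv.swap_apply_left, Equiv.swap_apply_of_ne_of_ne d03.symm d13.symm]
    have h1' : h ((x ^ 1) a) = a := by
      simp only [h, Equiv.Perm.mul_apply]
      rw [Equiv.swap_apply_of_ne_of_ne d12 d13, Equiv.swap_apply_right]
    have hx1 : x ((x ^ 1) a) = (x ^ 2) a := by
      rw [← Equiv.Perm.mul_apply, ← pow_succ']
    have hx3 : x ((x ^ 3) a) = (x ^ 4) a := by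
      rw [← Equiv.Perm.mul_apply, ← pow_succ']
    rw [h0, hx1, h2', hx3, ha1, h1', ha1, h1'] at key
    exact d04 key.symm

theorem noCover_bertrand (n : ℕ) (h6 : 6 ≤ n) (G : Subgroup (Perm (Fin n)))
    (hG : alternatingGroup (Fin n) ≤ G) :
    ¬ ∃ 𝓐 : Finset (Subgroup ↥G), CfsgLib.NilpotentCover.MinimalNilpotentCover 𝓐 := by
  obtain ⟨q, hq, hlt, hle⟩ := Nat.exists_prime_lt_and_le_two_mul (n / 2) (by omega)
  have h4 : q ≠ 4 := by rintro rfl; norm_num at hq
  have hqn : q < n := by
    rcases Nat.lt_or_ge q n with hc | hc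
    · exact hc
    · exfalso
      have hqn' : q = 2 * (n / 2) := by omega
      rw [hqn'] at hq
      rcases (Nat.prime_mul_iff.1 hq) with ⟨-, h⟩ | ⟨-, h⟩ <;> omega
  exact noCover_large n q hq (by omega) hqn (by omega) G hG

theorem noCover_A5 : ¬ ∃ 𝓐 : Finset (Subgroup ↥(alternatingGroup (Fin 5))),
    CfsgLib.NilpotentCover.MinimalNilpotentCover 𝓐 := by
  have := Fact.mk Nat.prime_three
  let x : ↥(alternatingGroup (Fin 5)) := ⟨swap 0 1 * swap 1 2, Equiv.Perm.mem_alternatingGroup.2 (by decide)⟩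
  let y : ↥(alternatingGroup (Fin 5)) := ⟨swap 1 2 * swap 2 3, Equiv.Perm.mem_alternatingGroup.2 (by decide)⟩
  refine CfsgLib.NilpotentCover.not_exists_of_simple_prime 3 ?_
    (M := MulAction.stabilizer ↥(alternatingGroup (Fin 5)) (4 : Fin 5)) ?_ x y
    (orderOf_eq_prime (by decide) (by decide)) (orderOf_eq_prime (by decide) (by decide)) ?_ ?_
    (by decide)
  · rw [nat_card_alternatingGroup, Nat.card_fin]
    decide
  · intro htop
    have : (⟨swap 0 4 * swap 1 2, Equiv.Perm.mem_alternatingGroup.2 (by decide)⟩ : ↥(alternatingGroup (Fin 5))) ∈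
        MulAction.stabilizer ↥(alternatingGroup (Fin 5)) (4 : Fin 5) := htop ▸ Subgroup.mem_top _
    rw [MulAction.mem_stabilizer_iff] at this
    revert this
    decide
  · intro c
    rw [MulAction.mem_stabilizer_iff]
    revert c
    decide +kernel
  · intro c
    rw [MulAction.mem_stabilizer_iff]
    revert c
    decide +kernel

theorem noCover_S4 : ¬ ∃ 𝓐 : Finset (Subgroup (Perm (Fin 4))),
    CfsgLib.NilpotentCover.MinimalNilpotentCover 𝓐 := by
  have := Fact.mk Nat.prime_three
  refine CfsgLib.NilpotentCover.not_exists_of_simple_prime 3 ?_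
    (M := alternatingGroup (Fin 4)) ?_ (swap 0 1 * swap 1 2) (swap 1 2 * swap 2 3)
    (orderOf_eq_prime (by decide) (by decide)) (orderOf_eq_prime (by decide) (by decide))
    (by simp only [Equiv.Perm.mem_alternatingGroup]; decide +kernel)
    (by simp only [Equiv.Perm.mem_alternatingGroup]; decide +kernel) (by decide)
  · rw [Nat.card_perm, Nat.card_fin]
    decide
  · intro htop
    have : swap (0 : Fin 4) 1 ∈ alternatingGroup (Fin 4) := htop ▸ Subgroup.mem_top _
    rw [Equiv.Perm.mem_alternatingGroup] at this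
    revert this
    decide

theorem noCover_S5 : ¬ ∃ 𝓐 : Finset (Subgroup (Perm (Fin 5))),
    CfsgLib.NilpotentCover.MinimalNilpotentCover 𝓐 := by
  have := Fact.mk Nat.prime_five
  refine CfsgLib.NilpotentCover.not_exists_of_simple_prime 5 ?_
    (M := alternatingGroup (Fin 5)) ?_ (finRotate 5) (swap 0 1 * finRotate 5 * swap 0 1)
    (orderOf_eq_prime (by decide) (by decide)) (orderOf_eq_prime (by decide) (by decide))
    (by simp only [Equiv.Perm.mem_alternatingGroup]; decide +kernel)
    (by simp only [Equiv.Perm.mem_alternatingGroup]; decide +kernel) (by decide)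
  · rw [Nat.card_perm, Nat.card_fin]
    decide
  · intro htop
    have : swap (0 : Fin 5) 1 ∈ alternatingGroup (Fin 5) := htop ▸ Subgroup.mem_top _
    rw [Equiv.Perm.mem_alternatingGroup] at this
    revert this
    decide

/-- A cover of a group is a finite set of proper subgroups whose union is the whole group; it is minimal when no cover has fewer members, and nilpotent when all its members are nilpotent. The alternating groups of degree at least 5 and the symmetric groups of degree at least 4 have no nilpotent minimal cover. -/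
theorem result (n : ℕ) :
    (5 ≤ n → ¬ ∃ 𝓐 : Finset (Subgroup ↥(alternatingGroup (Fin n))), ((∀ A ∈ 𝓐, A ≠ ⊤) ∧ (∀ g : ↥(alternatingGroup (Fin n)), ∃ A ∈ 𝓐, g ∈ A)) ∧ (∀ 𝓑 : Finset (Subgroup ↥(alternatingGroup (Fin n))), (∀ A ∈ 𝓑, A ≠ ⊤) ∧ (∀ g : ↥(alternatingGroup (Fin n)), ∃ A ∈ 𝓑, g ∈ A) → 𝓐.card ≤ 𝓑.card) ∧ (∀ A ∈ 𝓐, Group.IsNilpotent ↥A)) ∧
    (4 ≤ n → ¬ ∃ 𝓐 : Finset (Subgroup (Equiv.Perm (Fin n))), ((∀ A ∈ 𝓐, A ≠ ⊤) ∧ (∀ g : (Equiv.Perm (Fin n)), ∃ A ∈ 𝓐, g ∈ A)) ∧ (∀ 𝓑 : Finset (Subgroup (Equiv.Perm (Fin n))), (∀ A ∈ 𝓑, A ≠ ⊤) ∧ (∀ g : (Equiv.Perm (Fin n)), ∃ A ∈ 𝓑, g ∈ A) → 𝓐.card ≤ 𝓑.card) ∧ (∀ A ∈ 𝓐, Group.IsNilpotent ↥A)) := by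
  refine ⟨fun h5 => ?_, fun h4 => ?_⟩
  · rcases Nat.lt_or_ge n 6 with h | h
    · obtain rfl : n = 5 := by omega
      exact noCover_A5
    · exact noCover_bertrand n h _ le_rfl
  · rcases Nat.lt_or_ge n 6 with h | h
    · interval_cases n
      · exact noCover_S4
      · exact noCover_S5
    · intro hex
      have := noCover_bertrand n h ⊤ le_top
      obtain ⟨𝓐, ⟨hp, hc⟩, hm, hn⟩ := hex
      let e : (⊤ : Subgroup (Equiv.Perm (Fin n))) ≃* Equiv.Perm (Fin n) := Subgroup.topEquiv
      exact this (CfsgLib.NilpotentCover.exists_of_equiv e.symm ⟨𝓐, ⟨hp, hc⟩, hm, hn⟩)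

end Cfsg.Agent.S3892
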