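import Cfsg.Statements.S3893
import Cfsg.Agent.NilpotentCover.Basic

set_option autoImplicit false
open Cfsg

namespace Cfsg.Agent.S3893

section
open Matrix

variable {F : Type*} [Field F]

theorem stdVec_mulVec (g : Matrix (Fin 4) (Fin 4) F) (i : Fin 4) :
    g *ᵥ Pi.single i (1 : F) = fun k => g k i := by
  funext k
  simp [Matrix.mulVec, dotProduct, Pi.single_apply]

/-- Columns of an element of `Sp4`. -/
theorem col_form {g : GL (Fin 4) F} (hg : g ∈ Cfsg.Lie.Sp4 F) (i j : Fin 4) :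
    (g : Matrix (Fin 4) (Fin 4) F) 0 i * (g : Matrix (Fin 4) (Fin 4) F) 3 j
      + (g : Matrix (Fin 4) (Fin 4) F) 1 i * (g : Matrix (Fin 4) (Fin 4) F) 2 j
      + (g : Matrix (Fin 4) (Fin 4) F) 2 i * (g : Matrix (Fin 4) (Fin 4) F) 1 j
      + (g : Matrix (Fin 4) (Fin 4) F) 3 i * (g : Matrix (Fin 4) (Fin 4) F) 0 j = if i.val + j.val = 3 then 1 else 0 := by
  have h := hg (Pi.single i 1) (Pi.single j 1)
  simp only [Units.coeHom_apply, stdVec_mulVec, Cfsg.Lie.altForm4] at h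
  rw [h]
  fin_cases i <;> fin_cases j <;> simp

/-- Rows of an element of `Sp4`. -/
theorem row_form {g : GL (Fin 4) F} (hg : g ∈ Cfsg.Lie.Sp4 F) (k l : Fin 4) :
    (g : Matrix (Fin 4) (Fin 4) F) k 0 * (g : Matrix (Fin 4) (Fin 4) F) l 3
      + (g : Matrix (Fin 4) (Fin 4) F) k 1 * (g : Matrix (Fin 4) (Fin 4) F) l 2
      + (g : Matrix (Fin 4) (Fin 4) F) k 2 * (g : Matrix (Fin 4) (Fin 4) F) l 1
      + (g : Matrix (Fin 4) (Fin 4) F) k 3 * (g : Matrix (Fin 4) (Fin 4) F) l 0 = if k.val + l.val = 3 then 1 else 0 := by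
  let J : Matrix (Fin 4) (Fin 4) F := Matrix.of fun a b => if a.val + b.val = 3 then 1 else 0
  have hJ : J * J = 1 := by
    ext a b
    simp only [Matrix.mul_apply, Fin.sum_univ_four, J, Matrix.of_apply]
    fin_cases a <;> fin_cases b <;> simp
  let M : Matrix (Fin 4) (Fin 4) F := g
  have hc : Mᵀ * J * M = J := by
    ext a b
    have h := col_form hg a b
    simp only [Matrix.mul_apply, Fin.sum_univ_four, Matrix.transpose_apply]
    simp only [J, Matrix.of_apply] at h ⊢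
    rw [← h]
    simp [M]
    ring
  have h1 : (J * Mᵀ * J) * M = 1 := by
    rw [Matrix.mul_assoc J, Matrix.mul_assoc J, hc, hJ]
  have h2 : M * (J * Mᵀ * J) = 1 := mul_eq_one_comm.1 h1
  have h3 : M * J * Mᵀ = J := by
    calc M * J * Mᵀ = M * (J * Mᵀ * J) * J := by
          simp only [Matrix.mul_assoc, hJ, Matrix.mul_one]
      _ = J := by rw [h2, Matrix.one_mul]
  have h := congrFun (congrFun h3 k) l
  simp only [Matrix.mul_apply, Fin.sum_univ_four, Matrix.transpose_apply] at h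
  simp only [J, M, Matrix.of_apply] at h
  rw [← h]
  simp
  ring

/-- Cauchy–Binet on the four pairs, for symplectic matrices in characteristic two. -/
theorem minor_mul (h2 : (2 : F) = 0) {g h : GL (Fin 4) F} (hg : g ∈ Cfsg.Lie.Sp4 F)
    (hh : h ∈ Cfsg.Lie.Sp4 F) {k l i j : Fin 4} (hkl : k.val + l.val ≠ 3) (hij : i.val + j.val ≠ 3) :
    ((g : Matrix (Fin 4) (Fin 4) F) * (h : Matrix (Fin 4) (Fin 4) F)) k i
        * ((g : Matrix (Fin 4) (Fin 4) F) * (h : Matrix (Fin 4) (Fin 4) F)) l j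
      - ((g : Matrix (Fin 4) (Fin 4) F) * (h : Matrix (Fin 4) (Fin 4) F)) l i
        * ((g : Matrix (Fin 4) (Fin 4) F) * (h : Matrix (Fin 4) (Fin 4) F)) k j
      = ∑ r : Fin 4,
        ((g : Matrix (Fin 4) (Fin 4) F) k (Cfsg.Lie.pairOf r).1 * (g : Matrix (Fin 4) (Fin 4) F) l (Cfsg.Lie.pairOf r).2
          - (g : Matrix (Fin 4) (Fin 4) F) l (Cfsg.Lie.pairOf r).1 * (g : Matrix (Fin 4) (Fin 4) F) k (Cfsg.Lie.pairOf r).2)
        * ((h : Matrix (Fin 4) (Fin 4) F) (Cfsg.Lie.pairOf r).1 i * (h : Matrix (Fin 4) (Fin 4) F) (Cfsg.Lie.pairOf r).2 j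
          - (h : Matrix (Fin 4) (Fin 4) F) (Cfsg.Lie.pairOf r).2 i * (h : Matrix (Fin 4) (Fin 4) F) (Cfsg.Lie.pairOf r).1 j) := by
  have hr := row_form hg k l
  have hc := col_form hh i j
  rw [if_neg hkl] at hr
  rw [if_neg hij] at hc
  generalize hG : (g : Matrix (Fin 4) (Fin 4) F) = a at hr
  generalize hH : (h : Matrix (Fin 4) (Fin 4) F) = b at hc
  simp only [Matrix.mul_apply, Fin.sum_univ_four, Cfsg.Lie.pairOf, Matrix.cons_val_zero,
    Matrix.cons_val_one, Matrix.cons_val]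
  -- the two missing minors, of the pairs (0,3) and (1,2)
  have e1 : (a k 0 * a l 3 - a l 0 * a k 3) + (a k 1 * a l 2 - a l 1 * a k 2) = 0 := by
    linear_combination hr - (a l 0 * a k 3 + a l 1 * a k 2) * h2
  have e2 : (b 0 i * b 3 j - b 3 i * b 0 j) + (b 1 i * b 2 j - b 2 i * b 1 j) = 0 := by
    linear_combination hc - (b 3 i * b 0 j + b 2 i * b 1 j) * h2
  linear_combination (a k 0 * a l 3 - a l 0 * a k 3) * e2
    + (b 1 i * b 2 j - b 2 i * b 1 j) * e1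
    - (a k 0 * a l 3 - a l 0 * a k 3) * (b 1 i * b 2 j - b 2 i * b 1 j) * h2

theorem star4_mul (h2 : (2 : F) = 0) {g h : GL (Fin 4) F} (hg : g ∈ Cfsg.Lie.Sp4 F)
    (hh : h ∈ Cfsg.Lie.Sp4 F) :
    Cfsg.Lie.star4 ((g * h : GL (Fin 4) F) : Matrix (Fin 4) (Fin 4) F)
      = Cfsg.Lie.star4 (g : Matrix (Fin 4) (Fin 4) F) * Cfsg.Lie.star4 (h : Matrix (Fin 4) (Fin 4) F) := by
  have hp : ∀ p : Fin 4, (Cfsg.Lie.pairOf p).1.val + (Cfsg.Lie.pairOf p).2.val ≠ 3 := by decide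
  ext p r
  rw [Units.val_mul, Matrix.mul_apply (M := Cfsg.Lie.star4 _)]
  exact minor_mul h2 hg hh (hp p) (hp r)

theorem entry_inv {x : F} {y : F} (h : x * y = 1) : y = x⁻¹ :=
  eq_inv_of_mul_eq_one_right h

variable [Fintype F]

theorem card_facts {m : ℕ} (hF : Fintype.card F = 2 ^ (2 * m + 1)) :
    (2 : F) = 0 ∧ ∀ b : F, b ≠ 0 → b ^ (2 ^ (2 * m + 1) - 1) = 1 := by
  refine ⟨?_, fun b hb => by rw [← hF]; exact FiniteField.pow_card_sub_one_eq_one b hb⟩
  have := Fact.mk Nat.prime_two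
  have := charP_of_card_eq_prime_pow (p := 2) hF
  exact CharTwo.two_eq_zero

theorem map_mul_of_mem {m : ℕ} (hF : Fintype.card F = 2 ^ (2 * m + 1))
    (a b : Matrix (Fin 4) (Fin 4) F) :
    (a * b).map (fun x => x ^ 2 ^ (m + 1))
      = a.map (fun x => x ^ 2 ^ (m + 1)) * b.map (fun x => x ^ 2 ^ (m + 1)) := by
  have := Fact.mk Nat.prime_two
  have := charP_of_card_eq_prime_pow (p := 2) hF
  have h : (fun x : F => x ^ 2 ^ (m + 1)) = ⇑(iterateFrobenius F 2 (m + 1)) := by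
    funext x
    rw [iterateFrobenius_def]
  rw [h]
  exact Matrix.map_mul

theorem mem_sz_iff {m : ℕ} (hF : Fintype.card F = 2 ^ (2 * m + 1)) {g : GL (Fin 4) F}
    (hg : g ∈ Cfsg.Lie.Sz F (2 ^ (m + 1))) :
    g ∈ Cfsg.Lie.Sp4 F ∧ Cfsg.Lie.star4 (g : Matrix (Fin 4) (Fin 4) F)
      = (g : Matrix (Fin 4) (Fin 4) F).map (fun x => x ^ 2 ^ (m + 1)) := by
  classical
  obtain ⟨h2, -⟩ := card_facts hF
  let S : Submonoid (GL (Fin 4) F) :=
    { carrier := {g | g ∈ Cfsg.Lie.Sp4 F ∧ Cfsg.Lie.star4 (g : Matrix (Fin 4) (Fin 4) F)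
        = (g : Matrix (Fin 4) (Fin 4) F).map (fun x => x ^ 2 ^ (m + 1))}
      one_mem' := by
        refine ⟨one_mem _, ?_⟩
        ext p r
        fin_cases p <;> fin_cases r <;>
          simp [Cfsg.Lie.star4, Cfsg.Lie.pairOf, Matrix.one_apply]
      mul_mem' := fun {a b} ha hb => by
        refine ⟨mul_mem ha.1 hb.1, ?_⟩
        rw [star4_mul h2 ha.1 hb.1, ha.2, hb.2, Units.val_mul]
        exact (map_mul_of_mem hF _ _).symm }
  let H : Subgroup (GL (Fin 4) F) :=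
    { S with
      inv_mem' := fun {a} ha => by
        have h1 : a⁻¹ = a ^ (orderOf a - 1) := by
          rw [inv_eq_iff_mul_eq_one, ← pow_succ', Nat.sub_add_cancel (orderOf_pos a),
            pow_orderOf_eq_one]
        rw [h1]
        exact S.pow_mem ha _ }
  exact (Subgroup.closure_le H).2 (fun x hx => hx) hg

/-- Diagonal elements of the Suzuki group, as matrices. -/
theorem diag_distinct {m : ℕ} (hF : Fintype.card F = 2 ^ (2 * m + 1))
    {z : GL (Fin 4) F} (hz : z ∈ Cfsg.Lie.Sz F (2 ^ (m + 1)))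
    (hd : ∀ i j, i ≠ j → (z : Matrix (Fin 4) (Fin 4) F) i j = 0) (hz1 : z ≠ 1) :
    ∀ i j, i ≠ j → (z : Matrix (Fin 4) (Fin 4) F) i i ≠ (z : Matrix (Fin 4) (Fin 4) F) j j := by
  obtain ⟨h2, hpow⟩ := card_facts hF
  obtain ⟨hSp, hst⟩ := mem_sz_iff hF hz
  obtain ⟨M, hM⟩ : ∃ M : Matrix (Fin 4) (Fin 4) F, (z : Matrix (Fin 4) (Fin 4) F) = M := ⟨_, rfl⟩
  rw [hM] at hd hst ⊢
  have h03 := col_form hSp 0 3
  have h12 := col_form hSp 1 2
  rw [hM] at h03 h12
  simp [hd] at h03 h12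
  have e00 : M 0 0 * M 1 1 = M 0 0 ^ 2 ^ (m + 1) := by
    have := congrFun (congrFun hst 0) 0
    simpa [Cfsg.Lie.star4, Cfsg.Lie.pairOf, hd] using this
  have e11 : M 0 0 * M 2 2 = M 1 1 ^ 2 ^ (m + 1) := by
    have := congrFun (congrFun hst 1) 1
    simpa [Cfsg.Lie.star4, Cfsg.Lie.pairOf, hd] using this
  obtain ⟨a, ha⟩ : ∃ a, M 0 0 = a := ⟨_, rfl⟩
  obtain ⟨b, hb⟩ : ∃ b, M 1 1 = b := ⟨_, rfl⟩
  obtain ⟨c, hc⟩ : ∃ c, M 2 2 = c := ⟨_, rfl⟩
  obtain ⟨d, hd'⟩ : ∃ d, M 3 3 = d := ⟨_, rfl⟩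
  rw [ha, hd'] at h03
  rw [hb, hc] at h12
  rw [ha, hb] at e00
  rw [ha, hb, hc] at e11
  have hb0 : b ≠ 0 := left_ne_zero_of_mul_eq_one h12
  have ha0 : a ≠ 0 := left_ne_zero_of_mul_eq_one h03
  have hab : a = b ^ (2 ^ (m + 1) + 1) := by
    rw [pow_succ, ← e11, mul_assoc, mul_comm c b, h12, mul_one]
  have hq := hpow b hb0
  have sq1 : ∀ w : F, w ^ 2 = 1 → w = 1 := fun w hw => by
    have : (w - 1) ^ 2 = 0 := by linear_combination hw - (w - 1) * h2
    exact sub_eq_zero.1 (pow_eq_zero_iff two_ne_zero |>.1 this)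
  have hgcd : ∀ n : ℕ, b ^ n = 1 → n.Coprime (2 ^ (2 * m + 1) - 1) → b = 1 := fun n hn hco => by
    have := pow_gcd_eq_one.2 ⟨hn, hq⟩
    rwa [hco.gcd_eq_one, pow_one] at this
  have hq1 : 1 ≤ 2 ^ (2 * m + 1) := Nat.one_le_two_pow
  have hodd : Nat.Coprime 2 (2 ^ (2 * m + 1) - 1) := by
    rw [Nat.coprime_two_left, Nat.odd_sub hq1]
    simp [Nat.even_pow]
  -- every coincidence forces `b = 1`
  have k1 : a = b → b = 1 := fun e => by
    refine hgcd (2 ^ (m + 1)) ?_ (Nat.Coprime.pow_left _ hodd)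
    have : b ^ 2 ^ (m + 1) * b = 1 * b := by rw [← pow_succ, ← hab, one_mul, e]
    exact mul_right_cancel₀ hb0 this
  have k2 : a * b = 1 → b = 1 := fun e => by
    have h1 : b ^ (2 ^ m + 1) = 1 := sq1 _ (by
      rw [← pow_mul, show (2 ^ m + 1) * 2 = 2 ^ (m + 1) + 1 + 1 by ring, pow_succ, ← hab, e])
    have h4 : b ^ (2 ^ (2 * m) - 1) = 1 := by
      rw [show 2 ^ (2 * m) - 1 = (2 ^ m + 1) * (2 ^ m - 1) by
        rw [← Nat.sq_sub_sq, one_pow, ← pow_mul, mul_comm], pow_mul, h1, one_pow]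
    have h5 : 2 ^ (2 * m + 1) - 1 = (2 ^ (2 * m) - 1) * 2 + 1 := by
      have : 1 ≤ 2 ^ (2 * m) := Nat.one_le_two_pow
      rw [pow_succ]; omega
    rw [h5, pow_succ, pow_mul, h4, one_pow, one_mul] at hq
    exact hq
  have k3 : a = 1 → b = 1 := fun e => by
    have h4 : b ^ ((2 ^ (m + 1) + 1) * (2 ^ (m + 1) - 1)) = 1 := by
      rw [pow_mul, ← hab, e, one_pow]
    have h5 : (2 ^ (m + 1) + 1) * (2 ^ (m + 1) - 1) = (2 ^ (2 * m + 1) - 1) * 2 + 1 := by
      rw [← Nat.sq_sub_sq, one_pow, ← pow_mul, show (m + 1) * 2 = 2 * m + 1 + 1 by ring, pow_succ]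
      omega
    rw [h5, pow_succ, pow_mul, hq, one_pow, one_mul] at h4
    exact h4
  have hb1 : b ≠ 1 := by
    intro e
    apply hz1
    have ha1 : a = 1 := by rw [hab, e, one_pow]
    apply Units.ext
    rw [hM, Units.val_one]
    ext i j
    rcases eq_or_ne i j with rfl | hij
    · rw [Matrix.one_apply_eq]
      fin_cases i
      · exact ha.trans ha1
      · exact hb.trans e
      · rw [e, one_mul] at h12
        exact hc.trans h12
      · rw [ha1, one_mul] at h03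
        exact hd'.trans h03
    · rw [hd i j hij, Matrix.one_apply_ne hij]
  intro i j hij heq
  apply hb1
  fin_cases i <;> fin_cases j <;>
    first
    | exact absurd rfl hij
    | (simp only [Fin.zero_eta, Fin.mk_one, Fin.reduceFinMk, ha, hb, hc, hd'] at heq
       first
       | exact k1 heq
       | exact k1 heq.symm
       | exact k2 (by rw [heq, mul_comm, h12])
       | exact k2 (by rw [← heq, mul_comm, h12])
       | exact k2 (by rw [mul_comm, heq, mul_comm, h03])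
       | exact k2 (by rw [mul_comm, ← heq, mul_comm, h03])
       | exact k1 (mul_right_cancel₀ (right_ne_zero_of_mul_eq_one h03)
          (by rw [h03]; rw [← heq]; exact h12.symm))
       | exact k1 (mul_right_cancel₀ (right_ne_zero_of_mul_eq_one h03)
          (by rw [h03]; rw [heq]; exact h12.symm))
       | exact k3 (sq1 a (by rw [sq]; nth_rw 2 [heq]; exact h03))
       | exact k3 (sq1 a (by rw [sq]; nth_rw 2 [← heq]; exact h03))
       | exact sq1 b (by rw [sq]; nth_rw 2 [heq]; exact h12)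
       | exact sq1 b (by rw [sq]; nth_rw 2 [← heq]; exact h12))

end

/-- A cover of a group is a finite set of proper subgroups whose union is the whole group; it is minimal when no cover has fewer members, and nilpotent when all its members are nilpotent. The Suzuki groups Sz(q), q = 2^(2m+1) with m ≥ 1, have no nilpotent minimal cover. -/
theorem result {F : Type*} [Field F] [Fintype F] (m : ℕ) (hm : 1 ≤ m) (hF : Fintype.card F = 2 ^ (2 * m + 1)) :
    ¬ ∃ 𝓐 : Finset (Subgroup ↥(Cfsg.Lie.Sz F (2 ^ (m + 1)))), ((∀ A ∈ 𝓐, A ≠ ⊤) ∧ (∀ g : ↥(Cfsg.Lie.Sz F (2 ^ (m + 1))), ∃ A ∈ 𝓐, g ∈ A)) ∧ (∀ 𝓑 : Finset (Subgroup ↥(Cfsg.Lie.Sz F (2 ^ (m + 1)))), (∀ A ∈ 𝓑, A ≠ ⊤) ∧ (∀ g : ↥(Cfsg.Lie.Sz F (2 ^ (m + 1))), ∃ A ∈ 𝓑, g ∈ A) → 𝓐.card ≤ 𝓑.card) ∧ (∀ A ∈ 𝓐, Group.IsNilpotent ↥A) := by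
  obtain ⟨h2, hpow⟩ := card_facts hF
  -- a nontrivial torus element
  obtain ⟨b, hb0, hb1⟩ : ∃ b : F, b ≠ 0 ∧ b ≠ 1 := by
    classical
    have h : ({0, 1} : Finset F).card < (Finset.univ : Finset F).card := by
      rw [Finset.card_univ, hF]
      have h4 : (2 : ℕ) ^ 3 ≤ 2 ^ (2 * m + 1) := Nat.pow_le_pow_right (by norm_num) (by omega)
      have : ({0, 1} : Finset F).card ≤ 2 := Finset.card_le_two
      omega
    obtain ⟨b, -, hb⟩ := Finset.exists_mem_notMem_of_card_lt_card h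
    simp only [Finset.mem_insert, Finset.mem_singleton, not_or] at hb
    exact ⟨b, hb.1, hb.2⟩
  let e := 2 ^ (m + 1)
  let dg : Fin 4 → F := ![b ^ (e + 1), b, b⁻¹, (b ^ (e + 1))⁻¹]
  have hdg : (Matrix.diagonal dg).det ≠ 0 := by
    rw [Matrix.det_diagonal, Finset.prod_ne_zero_iff]
    intro i _
    fin_cases i <;> simp [dg, hb0]
  let x₀ : GL (Fin 4) F := Matrix.GeneralLinearGroup.mkOfDetNeZero (Matrix.diagonal dg) hdg
  have hx₀ : (x₀ : Matrix (Fin 4) (Fin 4) F) = Matrix.diagonal dg := rfl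
  have hSz : ∀ (g : GL (Fin 4) F) (M : Matrix (Fin 4) (Fin 4) F),
      (g : Matrix (Fin 4) (Fin 4) F) = M →
      (∀ u v : Fin 4 → F, Cfsg.Lie.altForm4 (M.mulVec u) (M.mulVec v) = Cfsg.Lie.altForm4 u v) →
      Cfsg.Lie.star4 M = M.map (fun y => y ^ e) → g ∈ Cfsg.Lie.Sz F e := by
    intro g M hgM h1 h3
    subst hgM
    exact Subgroup.subset_closure ⟨h1, h3⟩
  have hze : (0 : F) ^ e = 0 := zero_pow (Nat.pos_of_ne_zero (pow_ne_zero _ two_ne_zero)).ne'
  have hbe : b ^ (e + 1) * b = (b ^ (e + 1)) ^ e := by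
    have hee : e * e = 2 ^ (2 * m + 1) * 2 := by
      simp only [e, ← pow_add, ← pow_succ]
      congr 1
      omega
    rw [← pow_succ, ← pow_mul, add_mul, one_mul, hee, pow_add _ (2 ^ (2 * m + 1) * 2), pow_mul,
      ← hF, FiniteField.pow_card, ← pow_add]
    congr 1
    omega
  have hx₀mem : x₀ ∈ Cfsg.Lie.Sz F e := by
    refine hSz x₀ _ hx₀ (fun u v => ?_) ?_
    · simp only [Cfsg.Lie.altForm4, Matrix.mulVec_diagonal]
      simp [dg]
      field_simp
    · have hbe' : b ^ (e + 1) = b ^ e * b := pow_succ b e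
      ext p r
      fin_cases p <;> fin_cases r <;>
        simp [Cfsg.Lie.star4, Cfsg.Lie.pairOf, dg, hze]
      · exact hbe
      · rw [hbe', mul_assoc, mul_inv_cancel₀ hb0, mul_one]
      · rw [hbe']; field_simp
      · rw [← hbe]; ring
  let U : Matrix (Fin 4) (Fin 4) F := !![1, 0, 1, 1; 0, 1, 0, 1; 0, 0, 1, 0; 0, 0, 0, 1]
  have hU : U.det ≠ 0 := by simp [U, Matrix.det_succ_row_zero, Fin.sum_univ_succ, Fin.succAbove]
  let u₀ : GL (Fin 4) F := Matrix.GeneralLinearGroup.mkOfDetNeZero U hU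
  have hu₀ : (u₀ : Matrix (Fin 4) (Fin 4) F) = U := rfl
  have hu₀mem : u₀ ∈ Cfsg.Lie.Sz F e := by
    refine hSz u₀ _ hu₀ (fun u v => ?_) ?_
    · simp [Cfsg.Lie.altForm4, Matrix.mulVec, dotProduct, Fin.sum_univ_four, U]
      linear_combination (u 2 * v 3 + u 3 * v 2 + u 3 * v 3) * h2
    · ext p r
      fin_cases p <;> fin_cases r <;>
        simp [Cfsg.Lie.star4, Cfsg.Lie.pairOf, U, hze] <;> linear_combination (-1 : F) * h2
  let W : Matrix (Fin 4) (Fin 4) F := !![0, 0, 0, 1; 0, 0, 1, 0; 0, 1, 0, 0; 1, 0, 0, 0]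
  have hW : W.det ≠ 0 := by simp [W, Matrix.det_succ_row_zero, Fin.sum_univ_succ, Fin.succAbove]
  let w₀ : GL (Fin 4) F := Matrix.GeneralLinearGroup.mkOfDetNeZero W hW
  have hw₀ : (w₀ : Matrix (Fin 4) (Fin 4) F) = W := rfl
  have hw₀mem : w₀ ∈ Cfsg.Lie.Sz F e := by
    refine hSz w₀ _ hw₀ (fun u v => ?_) ?_
    · simp [Cfsg.Lie.altForm4, Matrix.mulVec, dotProduct, Fin.sum_univ_four, W]
      ring
    · ext p r
      fin_cases p <;> fin_cases r <;>
        simp [Cfsg.Lie.star4, Cfsg.Lie.pairOf, W, hze] <;> linear_combination (-1 : F) * h2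
  -- the upper triangular subgroup
  let Tri : Submonoid ↥(Cfsg.Lie.Sz F e) :=
    { carrier := {g | Matrix.BlockTriangular ((g : GL (Fin 4) F) : Matrix (Fin 4) (Fin 4) F) id}
      one_mem' := by
        show Matrix.BlockTriangular _ id
        rw [Subgroup.coe_one, Units.val_one]
        exact Matrix.blockTriangular_one
      mul_mem' := fun {g k} hg hk => by
        show Matrix.BlockTriangular _ id
        rw [Subgroup.coe_mul, Units.val_mul]
        exact hg.mul hk }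
  let M : Subgroup ↥(Cfsg.Lie.Sz F e) :=
    { Tri with
      inv_mem' := fun {a} ha => by
        have h1 : a⁻¹ = a ^ (orderOf a - 1) := by
          rw [inv_eq_iff_mul_eq_one, ← pow_succ', Nat.sub_add_cancel (orderOf_pos a),
            pow_orderOf_eq_one]
        rw [h1]
        exact Tri.pow_mem ha _ }
  have hdiagM : ∀ g : ↥(Cfsg.Lie.Sz F e),
      (∀ i j, i ≠ j → ((g : GL (Fin 4) F) : Matrix (Fin 4) (Fin 4) F) i j = 0) → g ∈ M :=
    fun g hg i j hij => hg i j (ne_of_gt hij)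
  let x : ↥(Cfsg.Lie.Sz F e) := ⟨x₀, hx₀mem⟩
  let u : ↥(Cfsg.Lie.Sz F e) := ⟨u₀, hu₀mem⟩
  have hxoff : ∀ i j, i ≠ j → ((x : GL (Fin 4) F) : Matrix (Fin 4) (Fin 4) F) i j = 0 :=
    fun i j hij => Matrix.diagonal_apply_ne _ hij
  have hx1 : x ≠ 1 := by
    intro hx
    have := congrArg (fun g : ↥(Cfsg.Lie.Sz F e) => ((g : GL (Fin 4) F) : Matrix (Fin 4) (Fin 4) F) 1 1) hx
    simp [x, hx₀, dg] at this
    exact hb1 this
  -- commuting with a nontrivial diagonal element forces diagonal shape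
  have hcomm : ∀ z c : ↥(Cfsg.Lie.Sz F e), z ≠ 1 →
      (∀ i j, i ≠ j → ((z : GL (Fin 4) F) : Matrix (Fin 4) (Fin 4) F) i j = 0) → z * c = c * z →
      ∀ i j, i ≠ j → ((c : GL (Fin 4) F) : Matrix (Fin 4) (Fin 4) F) i j = 0 := by
    intro z c hz hzd hc i j hij
    have hdist := diag_distinct hF z.2 hzd (fun h => hz (Subtype.ext h)) i j hij
    have h := congrArg (fun g : ↥(Cfsg.Lie.Sz F e) => ((g : GL (Fin 4) F) : Matrix (Fin 4) (Fin 4) F) i j) hc
    simp only [Subgroup.coe_mul, Units.val_mul, Matrix.mul_apply] at h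
    rw [Finset.sum_eq_single i (fun k _ hk => by rw [hzd i k hk.symm, zero_mul]) (by simp),
      Finset.sum_eq_single j (fun k _ hk => by rw [hzd k j hk, mul_zero]) (by simp)] at h
    by_contra hne
    exact hdist (mul_right_cancel₀ hne (h.trans (mul_comm _ _)))
  have hnil : ∀ A : Subgroup ↥(Cfsg.Lie.Sz F e), Group.IsNilpotent ↥A → x ∈ A → ∀ a ∈ A,
      ∀ i j, i ≠ j → ((a : GL (Fin 4) F) : Matrix (Fin 4) (Fin 4) F) i j = 0 := by
    intro A hA hxA a ha
    obtain ⟨z, -, hz1, hz⟩ := CfsgLib.NilpotentCover.exists_central hA hxA hx1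
    exact hcomm z a hz1 (hcomm x z hx1 hxoff (hz x hxA).symm) (hz a ha)
  have huM : u ∈ M := by
    intro i j hij
    show U i j = 0
    fin_cases i <;> fin_cases j <;> first | rfl | exact absurd hij (by decide)
  refine CfsgLib.NilpotentCover.not_exists_of_pair (M := M) ?_ x (u * x * u⁻¹) ?_ ?_ ?_
  · intro htop
    have h1 : (⟨w₀, hw₀mem⟩ : ↥(Cfsg.Lie.Sz F e)) ∈ M := htop ▸ Subgroup.mem_top _
    have h3 : W 3 0 = 0 := h1 (show (0 : Fin 4) < 3 by decide)
    simp [W] at h3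
  · exact fun A hA hxA a ha => hdiagM a (hnil A hA hxA a ha)
  · intro A hA hyA a ha
    have hA' : Group.IsNilpotent ↥(A.map (MulAut.conj u⁻¹).toMonoidHom) :=
      Group.nilpotent_of_mulEquiv (A.equivMapOfInjective _ (MulAut.conj u⁻¹).injective)
    have h1 : u⁻¹ * a * u ∈ M := hdiagM _ (hnil _ hA' ⟨_, hyA, by simp [mul_assoc]⟩ _ ⟨a, ha, by simp⟩)
    have : a = u * (u⁻¹ * a * u) * u⁻¹ := by group
    rw [this]
    exact mul_mem (mul_mem huM h1) (inv_mem huM)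
  · intro A hA hxA hyA
    have hd := hnil A hA hxA _ hyA
    -- `u x u⁻¹` would be diagonal, yet `u x` has a nonzero entry at `(0, 2)`
    have h3 : (u * x * u⁻¹) * u = u * x := by group
    have h4 := congrArg (fun g : ↥(Cfsg.Lie.Sz F e) => ((g : GL (Fin 4) F) : Matrix (Fin 4) (Fin 4) F) 0 2) h3
    have h5 := congrArg (fun g : ↥(Cfsg.Lie.Sz F e) => ((g : GL (Fin 4) F) : Matrix (Fin 4) (Fin 4) F) 0 0) h3
    simp only [Subgroup.coe_mul, Units.val_mul] at h4 h5 hd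
    rw [Matrix.mul_apply, Finset.sum_eq_single (0 : Fin 4) (fun k _ hk => by rw [hd 0 k hk.symm, zero_mul]) (by simp)] at h4 h5
    simp [x, u, hx₀, hu₀, U, Matrix.mul_diagonal] at h4 h5
    rw [h5] at h4
    have hdist := diag_distinct hF hx₀mem (fun i j hij => Matrix.diagonal_apply_ne _ hij)
      (fun h => hx1 (Subtype.ext h)) 0 2 (by decide)
    simp [hx₀, dg] at hdist h4
    exact hdist h4

end Cfsg.Agent.S3893
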