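import Cfsg.Statements.S3898
import Cfsg.Agent.PiClasses.Assembly

set_option autoImplicit false
open Cfsg

namespace Cfsg.Agent.S3898

/-- Let π be a finite set of primes containing 2 and G a finite group. Write k_π(G) for the number of conjugacy classes of G consisting of π-elements (elements all of whose order's prime divisors lie in π) and |G|_π for the π-part of the order of G. If k_π(G) > |G|_π/2, then G has a normal π-complement (a normal subgroup of order prime to π whose index is a π-number) and an abelian Hall subgroup for the set of odd primes in π. -/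
theorem result {G : Type*} [Group G] [Finite G] (π : Finset ℕ) (hπ : ∀ r ∈ π, r.Prime) (h2 : 2 ∈ π)
    (hk : π.prod (fun r => r ^ (Nat.card G).factorization r) < 2 * Nat.card {c : ConjClasses G // ∀ x ∈ c.carrier, ∀ r : ℕ, r.Prime → r ∣ orderOf x → r ∈ π}) :
    (∃ N : Subgroup G, N.Normal ∧ (∀ r : ℕ, r.Prime → r ∣ Nat.card ↥N → r ∉ π) ∧ ∀ r : ℕ, r.Prime → r ∣ N.index → r ∈ π) ∧ ∃ H : Subgroup G, Cfsg.IsPiHall ((↑π : Set ℕ) \ {2}) H ∧ IsMulCommutative ↥H := by
  have hF : Fact (Nat.Prime 2) := ⟨Nat.prime_two⟩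
  have hlt : ∀ (r : ℕ), r ∈ π → ∀ [Fact r.Prime], ∀ P : Sylow r G,
      Nat.card ↥(P : Subgroup G) < 2 * Nat.card (CfsgLib.PiClasses.PClasses r G) := by
    intro r hr _ P
    simpa using CfsgLib.PiClasses.lt_pclasses_of_lt (G := G) hπ hr P (a := 1) (b := 2)
      (by rw [one_mul]; exact hk)
  have h2n := CfsgLib.PiClasses.hasNormalPComplement_two default (hlt 2 h2 default)
  let N := Cfsg.pResidual 2 G
  have hNodd : Odd (Nat.card ↥N) := by
    rw [← Nat.not_even_iff_odd, even_iff_two_dvd]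
    exact CfsgLib.Transfer.hasNormalPComplement_iff.1 h2n
  let s := π.erase 2
  have hmemN : ∀ r ∈ s, ∀ [Fact r.Prime], ∀ x : G, (∃ k, orderOf x = r ^ k) → x ∈ N := by
    intro r hr _ x hx
    obtain ⟨k, hk⟩ := hx
    refine CfsgLib.Transfer.mem_pResidual_of_coprime (hk ▸ ?_)
    exact Nat.Coprime.pow_left k ((Nat.coprime_primes Fact.out Nat.prime_two).2 (Finset.ne_of_mem_erase hr))
  have key : ∀ r ∈ s, ∀ [Fact r.Prime], Cfsg.HasNormalPComplement r ↥N ∧
      ∀ P : Sylow r ↥N, IsMulCommutative ↥(P : Subgroup ↥N) := by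
    intro r hr _
    have hle : ∀ P : Sylow r ↥N,
        Nat.card ↥(P : Subgroup ↥N) < 2 * Nat.card (CfsgLib.PiClasses.PClasses r ↥N) := by
      intro P
      have h1 : Nat.card ↥(P : Subgroup ↥N)
          ≤ Nat.card ↥((default : Sylow r G) : Subgroup G) := by
        rw [P.card_eq_multiplicity, Sylow.card_eq_multiplicity]
        exact Nat.pow_le_pow_right (Fact.out : r.Prime).pos
          ((Nat.factorization_le_iff_dvd Nat.card_pos.ne' Nat.card_pos.ne').2
            (Subgroup.card_subgroup_dvd_card N) r)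
      have h3 := hlt r (Finset.mem_of_mem_erase hr) default
      have h4 := CfsgLib.PiClasses.card_pclasses_le_subgroup (p := r) N (hmemN r hr)
      omega
    exact ⟨CfsgLib.PiClasses.hasNormalPComplement_of_odd_card hNodd default (hle default),
      fun P => CfsgLib.PiClasses.sylow_comm_of_half (Finset.ne_of_mem_erase hr) P (hle P)⟩
  obtain ⟨K, H, hKc, hK1, hK2, hH1, hH2, hH3⟩ := CfsgLib.PiClasses.exists_complement_of_forall s
    (fun r hr => hπ r (Finset.mem_of_mem_erase hr)) key
  have hNidx : ∀ r : ℕ, r.Prime → r ∣ N.index → r = 2 := by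
    intro r hr hd
    obtain ⟨k, hk'⟩ := IsPGroup.iff_card.1 (CfsgLib.Transfer.isPGroup_quotient_pResidual (p := 2) (G := G))
    rw [Subgroup.index_eq_card] at hd
    rw [hk'] at hd
    exact (Nat.prime_dvd_prime_iff_eq hr Nat.prime_two).1 (hr.dvd_of_dvd_pow hd)
  have hcard : ∀ X : Subgroup ↥N, Nat.card ↥(X.map N.subtype) = Nat.card ↥X := fun X =>
    Subgroup.card_map_of_injective N.subtype_injective
  refine ⟨⟨K.map N.subtype, inferInstance, ?_, ?_⟩, H.map N.subtype, ⟨?_, ?_⟩, ?_⟩
  · intro r hr hd hrπ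
    rw [hcard] at hd
    by_cases hr2 : r = 2
    · subst hr2
      exact Nat.not_even_iff_odd.2 hNodd (even_iff_two_dvd.2 (hd.trans (Subgroup.card_subgroup_dvd_card K)))
    · exact hK1 r hr hd (Finset.mem_erase.2 ⟨hr2, hrπ⟩)
  · intro r hr hd
    rw [Subgroup.index_map_subtype] at hd
    rcases hr.dvd_mul.1 hd with h | h
    · exact Finset.mem_of_mem_erase (hK2 r hr h)
    · exact hNidx r hr h ▸ h2
  · intro r hr hd
    rw [hcard] at hd
    have := Finset.mem_erase.1 (hH1 r hr hd)
    exact ⟨this.2, this.1⟩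
  · intro r hr hrs hd
    rw [Subgroup.index_map_subtype] at hd
    obtain ⟨hrπ, hr2⟩ := hrs
    rcases hr.dvd_mul.1 hd with h | h
    · exact hH2 r hr (Finset.mem_erase.2 ⟨hr2, hrπ⟩) h
    · exact hr2 (hNidx r hr h)
  · refine ⟨⟨?_⟩⟩
    rintro ⟨_, a, ha, rfl⟩ ⟨_, b, hb, rfl⟩
    exact Subtype.ext (congrArg N.subtype (CfsgLib.NilpotentCover.commute_of_isMulCommutative hH3 ha hb))

end Cfsg.Agent.S3898
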