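import Cfsg.Statements.S3899
import Cfsg.Agent.PiClasses.Assembly

set_option autoImplicit false
open Cfsg

namespace Cfsg.Agent.S3899

/-- Let π be a finite non-empty set of odd primes with smallest member p and G a finite group. Write k_π(G) for the number of conjugacy classes of G consisting of π-elements (elements all of whose order's prime divisors lie in π) and |G|_π for the π-part of the order of G. If k_π(G) > (p + 1)|G|_π/(2p), then G has a normal π-complement (a normal subgroup of order prime to π whose index is a π-number) and an abelian Hall π-subgroup. -/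
theorem result {G : Type*} [Group G] [Finite G] (π : Finset ℕ) (hπ : ∀ r ∈ π, r.Prime) (h2 : 2 ∉ π) (p : ℕ) (hp : p ∈ π)
    (hmin : ∀ r ∈ π, p ≤ r) (hk : (p + 1) * π.prod (fun r => r ^ (Nat.card G).factorization r) < 2 * p * Nat.card {c : ConjClasses G // ∀ x ∈ c.carrier, ∀ r : ℕ, r.Prime → r ∣ orderOf x → r ∈ π}) :
    (∃ N : Subgroup G, N.Normal ∧ (∀ r : ℕ, r.Prime → r ∣ Nat.card ↥N → r ∉ π) ∧ ∀ r : ℕ, r.Prime → r ∣ N.index → r ∈ π) ∧ ∃ H : Subgroup G, Cfsg.IsPiHall (↑π : Set ℕ) H ∧ IsMulCommutative ↥H := by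
  have hr3 : ∀ r ∈ π, r ≠ 2 := fun r hr e => h2 (e ▸ hr)
  have key : ∀ r ∈ π, ∀ [Fact r.Prime], Cfsg.HasNormalPComplement r G ∧
      ∀ P : Sylow r G, IsMulCommutative ↥(P : Subgroup G) := by
    intro r hr _
    have hlt : ∀ P : Sylow r G,
        (r + 1) * Nat.card ↥(P : Subgroup G) < 2 * r * Nat.card (CfsgLib.PiClasses.PClasses r G) := by
      intro P
      have h := CfsgLib.PiClasses.lt_pclasses_of_lt (G := G) hπ hr P (a := p + 1) (b := 2 * p) hk
      have hp0 : 0 < p := (hπ p hp).pos
      refine Nat.lt_of_mul_lt_mul_left (a := p) ?_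
      have h1 : (r + 1) * p ≤ (p + 1) * r := by nlinarith [hmin r hr]
      calc p * ((r + 1) * Nat.card ↥(P : Subgroup G))
          = ((r + 1) * p) * Nat.card ↥(P : Subgroup G) := by ring
        _ ≤ ((p + 1) * r) * Nat.card ↥(P : Subgroup G) := Nat.mul_le_mul_right _ h1
        _ = r * ((p + 1) * Nat.card ↥(P : Subgroup G)) := by ring
        _ < r * (2 * p * Nat.card (CfsgLib.PiClasses.PClasses r G)) :=
            Nat.mul_lt_mul_of_pos_left h (Fact.out : r.Prime).pos
        _ = p * (2 * r * Nat.card (CfsgLib.PiClasses.PClasses r G)) := by ring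
    refine ⟨CfsgLib.PiClasses.hasNormalPComplement_odd (hr3 r hr) default (hlt default),
      fun P => CfsgLib.PiClasses.sylow_comm_of_half (hr3 r hr) P ?_⟩
    have := hlt P
    nlinarith [(Fact.out : r.Prime).two_le]
  obtain ⟨K, H, hKc, hK1, hK2, hH1, hH2, hH3⟩ :=
    CfsgLib.PiClasses.exists_complement_of_forall π hπ key
  exact ⟨⟨K, inferInstance, hK1, hK2⟩, H, ⟨hH1, fun r hr hrπ => hH2 r hr hrπ⟩, hH3⟩

end Cfsg.Agent.S3899
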