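import Cfsg.Statements.S4262
import Cfsg.Agent.SolvCrit.AbelianMaximal
import Cfsg.Agent.SolvCrit.ZJBasic
import Cfsg.Agent.PLocal.Cores
import Cfsg.Agent.S0117

set_option autoImplicit false
open Cfsg

set_option linter.style.haveILetI false

namespace Cfsg.Agent.S4262

open Subgroup CfsgLib.Transfer CfsgLib.SolvCrit

universe u

variable {G : Type u} [Group G] [Finite G]

/-- A maximal subgroup of odd prime power order forces solvability. -/
theorem isSolvable_of_odd_pGroup_coatom {q : ℕ} [Fact q.Prime] (hq : q ≠ 2) {Q : Subgroup G}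
    (hQp : IsPGroup q Q) (hQ : IsCoatom Q) : Group.IsSolvable G := by
  set R := Cfsg.pCore q G with hR
  haveI hRn : R.Normal := Subgroup.sSup_normal _ fun _ h => h.1
  have hRp : IsPGroup q R := CfsgLib.PLocal.isPGroup_pCore q G
  have hRs : Group.IsSolvable R := by
    haveI := hRp.isNilpotent
    infer_instance
  by_cases hRQ : R ≤ Q
  swap
  · refine isSolvable_of_normal_of_quotient R hRs ?_
    have hsup : R ⊔ Q = ⊤ := hQ.2 _ (lt_of_le_of_ne le_sup_right fun h => hRQ (h.symm ▸ le_sup_left))
    have hQR : IsPGroup q (G ⧸ R) := by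
      refine hQp.of_surjective ((QuotientGroup.mk' R).comp Q.subtype) fun x => ?_
      obtain ⟨g, rfl⟩ := QuotientGroup.mk'_surjective R x
      have hg : g ∈ ((R ⊔ Q : Subgroup G) : Set G) := by rw [hsup]; exact mem_top g
      rw [normal_mul] at hg
      obtain ⟨k, hk, m, hm, rfl⟩ := hg
      refine ⟨⟨m, hm⟩, ?_⟩
      show QuotientGroup.mk' R m = QuotientGroup.mk' R (k * m)
      rw [map_mul, show QuotientGroup.mk' R k = 1 from (QuotientGroup.eq_one_iff k).2 hk, one_mul]
    haveI := hQR.isNilpotent
    infer_instance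
  refine isSolvable_of_normal_of_quotient R hRs ?_
  have hcore : Cfsg.pCore q (G ⧸ R) = ⊥ := CfsgLib.PLocal.pCore_quotient_pCore_eq_bot q G
  have hM := isCoatom_map_mk' hQ hRQ
  have hMp : IsPGroup q (Q.map (QuotientGroup.mk' R)) := hQp.map _
  set H := G ⧸ R with hH
  set M := Q.map (QuotientGroup.mk' R) with hMdef
  haveI hMs : Group.IsSolvable M := by
    haveI := hMp.isNilpotent
    infer_instance
  rcases eq_or_ne M ⊥ with hM1 | hM1
  · haveI : M.Normal := hM1 ▸ normal_bot
    exact isSolvable_of_normal_of_quotient M inferInstance (isSolvable_quotient_of_coatom hM)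
  obtain ⟨P, hP⟩ := hMp.exists_le_sylow
  rcases hP.eq_or_lt with hMP | hlt
  swap
  · haveI := P.2.isNilpotent
    have htop := hM.2 _ hlt
    haveI : Group.IsNilpotent (⊤ : Subgroup H) := htop ▸ P.2.isNilpotent
    haveI := Group.isNilpotent_top.1 (inferInstance : Group.IsNilpotent (⊤ : Subgroup H))
    infer_instance
  set W := Cfsg.centerThompsonOf q (P : Subgroup H) with hW
  have hW1 : W ≠ ⊥ := centerThompson_ne_bot P.2 (hMP ▸ hM1)
  have hNW : normalizer (W : Set H) = M := by
    have hle : M ≤ normalizer (W : Set H) := by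
      rw [hMP]
      exact le_normalizer.trans (normalizer_le_normalizer_centerThompson q _)
    rcases hle.eq_or_lt with h | h
    · exact h.symm
    · haveI : W.Normal := normalizer_eq_top_iff.1 (hM.2 _ h)
      exact absurd (le_bot_iff.1 ((CfsgLib.PLocal.le_pCore
        (P.2.to_le (centerThompson_le q _))).trans hcore.le)) hW1
  have hcomp : Cfsg.HasNormalPComplement q H := by
    rw [Cfsg.Agent.S0117.result hq P, hNW]
    exact hasNormalPComplement_of_isPGroup hMp
  obtain ⟨K, hKn, hKc⟩ := exists_isComplement' hcomp P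
  haveI := hKn
  refine isSolvable_of_coprime_supplement (K := K) hM hMs (by rw [hMP]; exact hKc.sup_eq_top) ?_
  obtain ⟨n, hn⟩ := IsPGroup.iff_card.1 hMp
  rw [hn]
  exact Nat.Coprime.pow_left _
    ((Fact.out : q.Prime).coprime_iff_not_dvd.2 (not_dvd_card_of_isComplement' hKc))

/-- A subgroup contains `g` if it contains all powers of `g` of prime power order. -/
theorem mem_of_primePow_parts (H : Subgroup G) (g : G)
    (h : ∀ y ∈ zpowers g, ∀ r : ℕ, r.Prime → (∃ k, orderOf y = r ^ k) → y ∈ H) : g ∈ H := by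
  suffices hs : H.subgroupOf (zpowers g) = ⊤ from (subgroupOf_eq_top.1 hs) (mem_zpowers g)
  apply eq_top_of_card_eq
  apply Nat.dvd_antisymm (card_subgroup_dvd_card _)
  rw [Nat.dvd_iff_prime_pow_dvd_dvd]
  intro r k hr hrk
  haveI := Fact.mk hr
  let S : Sylow r (zpowers g) := default
  refine dvd_trans ?_ (card_dvd_of_le (H := (S : Subgroup (zpowers g))) ?_)
  · rw [S.card_eq_multiplicity]
    exact pow_dvd_pow r ((hr.pow_dvd_iff_le_factorization Nat.card_pos.ne').1 hrk)
  · intro y hy
    obtain ⟨e, he⟩ := IsPGroup.iff_orderOf.1 S.2 ⟨y, hy⟩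
    exact mem_subgroupOf.2 (h y y.2 r hr ⟨e, by rwa [Subgroup.orderOf_mk, ← orderOf_coe] at he⟩)

/-- In the centralizer of a noncentral element, an element of coprime order is central or has
the same centralizer. -/
theorem centralizer_eq_of_coprime
    (h : ∀ g : G, g ∉ center G → IsCoatom (centralizer ({g} : Set G)))
    {g y : G} (hg : g ∉ center G) (hy : y ∈ centralizer ({g} : Set G))
    (hco : (orderOf g).Coprime (orderOf y)) (hyZ : y ∉ center G) :
    centralizer ({y} : Set G) = centralizer ({g} : Set G) := by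
  have hgy : Commute g y := (mem_centralizer_singleton_iff.1 hy).symm
  obtain ⟨m, hm⟩ := exists_pow_eq_self_of_coprime hco.symm
  obtain ⟨m', hm'⟩ := exists_pow_eq_self_of_coprime hco
  have e1 : g = (g * y) ^ (orderOf y * m) := by
    rw [pow_mul, hgy.mul_pow, pow_orderOf_eq_one, mul_one, hm]
  have e2 : y = (g * y) ^ (orderOf g * m') := by
    rw [pow_mul, hgy.mul_pow, pow_orderOf_eq_one, one_mul, hm']
  have hZ : g * y ∉ center G := fun hc => hg (e1 ▸ pow_mem hc _)
  have hle1 : centralizer ({g * y} : Set G) ≤ centralizer ({g} : Set G) := fun x hx => by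
    rw [mem_centralizer_singleton_iff] at hx ⊢
    rw [e1]
    exact ((show Commute x (g * y) from hx).pow_right _).eq
  have hle2 : centralizer ({g * y} : Set G) ≤ centralizer ({y} : Set G) := fun x hx => by
    rw [mem_centralizer_singleton_iff] at hx ⊢
    rw [e2]
    exact ((show Commute x (g * y) from hx).pow_right _).eq
  have hcg : centralizer ({g} : Set G) = centralizer ({g * y} : Set G) := by
    rcases hle1.eq_or_lt with h1 | h1
    · exact h1.symm
    · exact absurd ((h _ hZ).2 _ h1) (h _ hg).1
  have hcy : centralizer ({y} : Set G) = centralizer ({g * y} : Set G) := by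
    rcases hle2.eq_or_lt with h1 | h1
    · exact h1.symm
    · exact absurd ((h _ hZ).2 _ h1) (h _ hyZ).1
  rw [hcy, hcg]


/-- Let G be a finite group in which the centralizer of every non-central element is a maximal subgroup of G. Then G is solvable. -/
theorem result {G : Type*} [Group G] [Finite G]
    (h : ∀ g : G, g ∉ Subgroup.center G → IsCoatom (Subgroup.centralizer ({g} : Set G))) :
    Group.IsSolvable G := by
  by_contra hns
  have hZ : Group.IsSolvable (center G) := Group.isSolvable_of_comm fun a b => mul_comm' a b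
  -- `G / Z(G)` is not a 2-group
  obtain ⟨q, hq, hq2, hqd⟩ : ∃ q, q.Prime ∧ q ≠ 2 ∧ q ∣ Nat.card (G ⧸ center G) := by
    by_contra hcon
    push Not at hcon
    apply hns
    refine isSolvable_of_normal_of_quotient (center G) hZ ?_
    haveI := Fact.mk Nat.prime_two
    haveI := (IsPGroup.of_card (p := 2) (Nat.eq_prime_pow_of_unique_prime_dvd Nat.card_pos.ne'
      fun {d} hd hdd => by_contra fun hne => hcon d hd hne hdd)).isNilpotent (G := G ⧸ center G)
    infer_instance
  haveI := Fact.mk hq
  obtain ⟨x, hxQ, hxZ⟩ : ∃ x : G, (∃ k, orderOf x = q ^ k) ∧ x ∉ center G := by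
    let Q : Sylow q G := default
    by_contra hcon
    push Not at hcon
    apply Q.not_dvd_index
    refine hqd.trans ?_
    rw [← index_eq_card]
    refine index_dvd_of_le fun y hy => ?_
    obtain ⟨k, hk⟩ := IsPGroup.iff_orderOf.1 Q.2 ⟨y, hy⟩
    exact hcon y ⟨k, by rwa [Subgroup.orderOf_mk] at hk⟩
  obtain ⟨k, hk⟩ := hxQ
  set M := centralizer ({x} : Set G) with hM
  have hMmax : IsCoatom M := h x hxZ
  by_cases hA : ∃ y ∈ M, y ∉ center G ∧ ∃ r e, r.Prime ∧ r ≠ q ∧ orderOf y = r ^ e
  · -- the maximal subgroup is abelian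
    obtain ⟨y, hyM, hyZ, r, e, hr, hrq, hye⟩ := hA
    have hco : (orderOf x).Coprime (orderOf y) := by
      rw [hk, hye]; exact Nat.coprime_pow_primes _ _ hq hr (Ne.symm hrq)
    have hyc := centralizer_eq_of_coprime h hxZ hyM hco hyZ
    apply hns
    refine isSolvable_of_abelian_coatom _ G rfl M hMmax ⟨⟨fun a b => Subtype.ext ?_⟩⟩
    suffices (b : G) ∈ centralizer (M : Set G) from this a a.2
    refine mem_of_primePow_parts _ _ fun z hz s hs ⟨c, hzc⟩ => ?_
    have hzM : z ∈ M := zpowers_le.2 b.2 hz
    by_cases hzZ : z ∈ center G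
    · exact center_le_centralizer _ hzZ
    have hcz : centralizer ({z} : Set G) = M := by
      by_cases hsq : s = q
      · subst hsq
        have hco' : (orderOf y).Coprime (orderOf z) := by
          rw [hye, hzc]; exact Nat.coprime_pow_primes _ _ hr hs hrq
        rw [centralizer_eq_of_coprime h hyZ (hyc.ge hzM) hco' hzZ, hyc]
      · have hco' : (orderOf x).Coprime (orderOf z) := by
          rw [hk, hzc]; exact Nat.coprime_pow_primes _ _ hq hs (Ne.symm hsq)
        exact centralizer_eq_of_coprime h hxZ hzM hco' hzZ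
    intro w hw
    exact mem_centralizer_singleton_iff.1 (hcz.ge hw)
  · -- the maximal subgroup is a `q`-group modulo the centre
    push Not at hA
    apply hns
    refine isSolvable_of_normal_of_quotient (center G) hZ ?_
    refine isSolvable_of_odd_pGroup_coatom hq2 ?_ (isCoatom_map_mk' hMmax (center_le_centralizer _))
    rintro ⟨_, m, hm, rfl⟩
    obtain ⟨a, c, hc, hmc⟩ := Nat.exists_eq_pow_mul_and_not_dvd (orderOf_pos m).ne' q hq.ne_one
    have hzero : m ^ q ^ a ∈ center G := by
      refine mem_of_primePow_parts _ _ fun z hz s hs ⟨e, hze⟩ => ?_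
      have hzM : z ∈ M := zpowers_le.2 (pow_mem hm _) hz
      by_contra hzZ
      have hsq : s = q := by_contra fun hne => hA z hzM hzZ s e hs hne hze
      subst hsq
      have h1 : s ^ e ∣ c := by
        rw [← hze]
        refine orderOf_dvd_of_pow_eq_one ?_
        obtain ⟨i, rfl⟩ := mem_zpowers_iff.1 hz
        rw [← zpow_natCast, ← zpow_mul, mul_comm, zpow_mul, zpow_natCast, ← pow_mul, ← hmc,
          pow_orderOf_eq_one, one_zpow]
      rcases e.eq_zero_or_pos with rfl | he
      · exact hzZ ((orderOf_eq_one_iff.1 (by simpa using hze)) ▸ one_mem _)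
      · exact hc ((dvd_pow_self s he.ne').trans h1)
    exact ⟨a, Subtype.ext ((QuotientGroup.eq_one_iff _).2 hzero)⟩

end Cfsg.Agent.S4262
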