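import Cfsg.Statements.S3903
import Cfsg.Agent.S4262
import Cfsg.Agent.SolvCrit.AbelianMaximal
import Cfsg.Agent.SolvCrit.NilpotentMaximal

set_option autoImplicit false
open Cfsg

namespace Cfsg.Agent.S3903

/-- Let N be a proper normal subgroup of the finite group G such that every element x of G outside N has prime power order and has centralizer C_G(x) a maximal subgroup of G. Then N is solvable. -/
theorem result {G : Type*} [Group G] [Finite G] (N : Subgroup G) [N.Normal] (hN : N ≠ ⊤)
    (h : ∀ x : G, x ∉ N → IsPrimePow (orderOf x) ∧ IsCoatom (Subgroup.centralizer ({x} : Set G))) : Group.IsSolvable ↥N := by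
  obtain ⟨x₀, hx₀⟩ : ∃ x, x ∉ N := by
    by_contra hc; push Not at hc; exact hN (top_unique fun x _ => hc x)
  suffices hG : Group.IsSolvable G from inferInstance
  -- centralisers of outside elements are `p`-groups
  have hcen : ∀ x, x ∉ N → ∀ p a : ℕ, p.Prime → orderOf x = p ^ a →
      IsPGroup p (Subgroup.centralizer ({x} : Set G)) := by
    intro x hx p a hp hxp
    haveI := Fact.mk hp
    rintro ⟨y, hy⟩
    obtain ⟨k, hk⟩ : ∃ k, orderOf y = p ^ k := by
      refine ⟨_, Nat.eq_prime_pow_of_unique_prime_dvd (orderOf_pos y).ne' fun {q} hq hqd => ?_⟩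
      by_contra hqp
      set z := y ^ (orderOf y / q) with hz
      have hzo : orderOf z = q := by
        rw [hz, orderOf_pow_orderOf_div (orderOf_pos y).ne' hqd]
      have hc : Commute x z :=
        (show Commute x y from (Subgroup.mem_centralizer_singleton_iff.mp hy).symm).pow_right _
      have hcop : (orderOf x).Coprime (orderOf z) := by
        rw [hxp, hzo]; exact Nat.Coprime.pow_left a ((Nat.coprime_primes hp hq).mpr (Ne.symm hqp))
      have hout : x * z ∉ N := by
        intro hxz
        apply hx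
        rw [← QuotientGroup.eq_one_iff]
        have h1 : (x : G ⧸ N) * (z : G ⧸ N) = 1 := by
          rw [← QuotientGroup.mk_mul]; exact (QuotientGroup.eq_one_iff _).mpr hxz
        have hzq : (z : G ⧸ N) ^ q = 1 := by
          rw [← QuotientGroup.mk_pow, ← hzo, pow_orderOf_eq_one]; rfl
        have hxq : (x : G ⧸ N) ^ q = 1 := by
          rw [eq_inv_of_mul_eq_one_left h1, inv_pow, hzq, inv_one]
        have hxa : (x : G ⧸ N) ^ p ^ a = 1 := by
          rw [← QuotientGroup.mk_pow, ← hxp, pow_orderOf_eq_one]; rfl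
        exact orderOf_eq_one_iff.mp (Nat.eq_one_of_dvd_coprimes
          (((Nat.coprime_primes hp hq).mpr (Ne.symm hqp)).pow_left a)
          (orderOf_dvd_of_pow_eq_one hxa) (orderOf_dvd_of_pow_eq_one hxq))
      obtain ⟨r, b, hr, -, hrb⟩ := (isPrimePow_nat_iff _).mp (h _ hout).1
      have ha : a ≠ 0 := fun e => hx (by
        rw [e, pow_zero] at hxp
        rw [orderOf_eq_one_iff.mp hxp]; exact one_mem N)
      have ho := hc.orderOf_mul_eq_mul_orderOf_of_coprime hcop
      rw [← hrb, hxp, hzo] at ho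
      have h1 : p ∣ r ^ b := ho ▸ Dvd.dvd.mul_right (dvd_pow_self p ha) q
      have h2 : q ∣ r ^ b := ho ▸ dvd_mul_left q (p ^ a)
      exact hqp (((Nat.prime_dvd_prime_iff_eq hq hr).mp (hq.dvd_of_dvd_pow h2)).trans
        ((Nat.prime_dvd_prime_iff_eq hp hr).mp (hp.dvd_of_dvd_pow h1)).symm)
    exact ⟨k, Subtype.ext (by rw [Subgroup.coe_pow, Subgroup.coe_one, ← hk]; exact pow_orderOf_eq_one y)⟩
  by_cases hodd : ∃ x, x ∉ N ∧ ∃ p a : ℕ, p.Prime ∧ p ≠ 2 ∧ orderOf x = p ^ a
  · obtain ⟨x, hx, p, a, hp, hp2, hxp⟩ := hodd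
    haveI := Fact.mk hp
    exact Cfsg.Agent.S4262.isSolvable_of_odd_pGroup_coatom hp2 (hcen x hx p a hp hxp) (h x hx).2
  push Not at hodd
  haveI : Fact (Nat.Prime 2) := ⟨Nat.prime_two⟩
  have h2 : ∀ x, x ∉ N → ∃ a, orderOf x = 2 ^ a := by
    intro x hx
    obtain ⟨p, a, hp, -, hxp⟩ := (isPrimePow_nat_iff _).mp (h x hx).1
    exact ⟨a, by rw [← hxp, by_contra fun hp2 => hodd x hx p a hp hp2 hxp.symm]⟩
  have hC2 : ∀ x, x ∉ N → IsPGroup 2 (Subgroup.centralizer ({x} : Set G)) := fun x hx => by
    obtain ⟨a, ha⟩ := h2 x hx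
    exact hcen x hx 2 a Nat.prime_two ha
  by_cases htop : IsPGroup 2 G
  · haveI := htop.isNilpotent; infer_instance
  by_cases hnorm : ∃ x, x ∉ N ∧ (Subgroup.centralizer ({x} : Set G)).Normal
  · obtain ⟨x, hx, hn⟩ := hnorm
    haveI := hn
    haveI := (hC2 x hx).isNilpotent
    have hs : Group.IsSolvable ↥(Subgroup.centralizer ({x} : Set G)) := inferInstance
    exact CfsgLib.SolvCrit.isSolvable_of_normal_of_quotient _ hs
      (CfsgLib.SolvCrit.isSolvable_quotient_of_coatom (h x hx).2)
  push Not at hnorm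
  -- every such centraliser is a self-normalising Sylow subgroup
  have hsyl : ∀ x, x ∉ N → ∃ S : Sylow 2 G, (S : Subgroup G) = Subgroup.centralizer {x} := by
    intro x hx
    obtain ⟨S, hS⟩ := (hC2 x hx).exists_le_sylow
    refine ⟨S, ((h x hx).2.le_iff.mp hS).resolve_left fun e => htop ?_⟩
    exact fun g => by
      obtain ⟨k, hk⟩ := S.isPGroup' ⟨g, e.ge (Subgroup.mem_top g)⟩
      exact ⟨k, by simpa using congrArg Subtype.val hk⟩
  obtain ⟨S, hS⟩ := hsyl x₀ hx₀
  have hNS : Subgroup.normalizer ((S : Subgroup G) : Set G) = S := by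
    refine le_antisymm ?_ Subgroup.le_normalizer
    rcases ((h x₀ hx₀).2.le_iff.mp (hS ▸ Subgroup.le_normalizer :
      Subgroup.centralizer ({x₀} : Set G) ≤ Subgroup.normalizer ((S : Subgroup G) : Set G))) with e | e
    · exact absurd (hS ▸ Subgroup.normalizer_eq_top_iff.mp e) (hnorm x₀ hx₀)
    · rw [e, ← hS]
  -- the counting argument: `S` is abelian
  classical
  set Z := (S : Subgroup G) ⊓ Subgroup.centralizer ((S : Subgroup G) : Set G) with hZdef
  have hZC : ∀ z : G, z ∈ Z → z ∉ N → Subgroup.centralizer ({z} : Set G) = S := by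
    intro z hz hzN
    have hle : (S : Subgroup G) ≤ Subgroup.centralizer {z} := fun s hs =>
      Subgroup.mem_centralizer_singleton_iff.mpr (hz.2 s hs)
    obtain ⟨S', hS'⟩ := hsyl z hzN
    rw [← hS']
    exact S.3 S'.isPGroup' (hS' ▸ hle)
  let Φ : (G ⧸ (S : Subgroup G)) × {z : Z // (z : G) ∉ N} → {y : G // y ∉ N} := fun q =>
    ⟨q.1.out * (q.2.1 : G) * q.1.out⁻¹, fun hh => q.2.2 (by
      have := Subgroup.Normal.conj_mem ‹N.Normal› _ hh q.1.out⁻¹
      simpa [mul_assoc] using this)⟩
  have hinj : Function.Injective Φ := by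
    rintro ⟨c, z, hz⟩ ⟨c', z', hz'⟩ e
    have e' : c.out * (z : G) * c.out⁻¹ = c'.out * (z' : G) * c'.out⁻¹ := congrArg Subtype.val e
    set g := c'.out⁻¹ * c.out with hg
    have e2 : g * (z : G) * g⁻¹ = z' := by
      rw [hg]
      calc _ = c'.out⁻¹ * (c.out * (z : G) * c.out⁻¹) * c'.out := by group
        _ = (z' : G) := by rw [e']; group
    have hgS : g ∈ Subgroup.normalizer ((S : Subgroup G) : Set G) := by
      rw [Subgroup.mem_normalizer_iff]
      intro s
      conv_lhs => rw [← hZC z z.2 hz, Subgroup.mem_centralizer_singleton_iff]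
      conv_rhs => rw [← hZC z' z'.2 hz', Subgroup.mem_centralizer_singleton_iff]
      constructor
      · intro hs
        calc g * s * g⁻¹ * z' = g * s * g⁻¹ * (g * z * g⁻¹) := by rw [e2]
          _ = g * (s * z) * g⁻¹ := by group
          _ = g * (z * s) * g⁻¹ := by rw [hs]
          _ = (g * z * g⁻¹) * (g * s * g⁻¹) := by group
          _ = z' * (g * s * g⁻¹) := by rw [e2]
      · intro hs
        have hz2 : (z : G) = g⁻¹ * z' * g := by rw [← e2]; group
        calc s * z = g⁻¹ * (g * s * g⁻¹ * z') * g := by rw [hz2]; group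
          _ = g⁻¹ * (z' * (g * s * g⁻¹)) * g := by rw [hs]
          _ = z * s := by rw [hz2]; group
    rw [hNS] at hgS
    have hcc : c' = c := by
      rw [← QuotientGroup.out_eq' c, ← QuotientGroup.out_eq' c', QuotientGroup.eq]
      exact hgS
    subst hcc
    have hzz : (z : G) = z' := by simpa [hg] using e2
    simp [Subtype.ext hzz]
  have hsurj : Function.Surjective Φ := by
    rintro ⟨y, hy⟩
    obtain ⟨S', hS'⟩ := hsyl y hy
    obtain ⟨g, hg⟩ := MulAction.exists_smul_eq G S S'
    set c : G ⧸ (S : Subgroup G) := (g : G ⧸ (S : Subgroup G)) with hc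
    have hd : g⁻¹ * c.out ∈ (S : Subgroup G) := by
      rw [← QuotientGroup.eq]; exact (QuotientGroup.out_eq' c).symm
    have hmap : ∀ s, s ∈ (S : Subgroup G) → c.out * s * c.out⁻¹ ∈ (S' : Subgroup G) := by
      intro s hs
      rw [← hg, Sylow.coe_subgroup_smul, Subgroup.mem_pointwise_smul_iff_inv_smul_mem]
      rw [MulAut.smul_def, ← map_inv, MulAut.conj_apply]
      have e : g⁻¹ * (c.out * s * c.out⁻¹) * g⁻¹⁻¹ = (g⁻¹ * c.out) * s * (g⁻¹ * c.out)⁻¹ := by group
      rw [e]; exact mul_mem (mul_mem hd hs) (inv_mem hd)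
    set z := c.out⁻¹ * y * c.out with hzdef
    have hyS' : y ∈ (S' : Subgroup G) := hS' ▸ Subgroup.mem_centralizer_singleton_iff.mpr rfl
    have hzS : z ∈ (S : Subgroup G) := by
      have : g⁻¹ * y * g⁻¹⁻¹ ∈ (S : Subgroup G) := by
        rw [← hg, Sylow.coe_subgroup_smul, Subgroup.mem_pointwise_smul_iff_inv_smul_mem,
          MulAut.smul_def, ← map_inv, MulAut.conj_apply] at hyS'
        exact hyS'
      have e : z = (g⁻¹ * c.out)⁻¹ * (g⁻¹ * y * g⁻¹⁻¹) * (g⁻¹ * c.out) := by rw [hzdef]; group
      rw [e]; exact mul_mem (mul_mem (inv_mem hd) this) hd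
    have hzc : z ∈ Subgroup.centralizer ((S : Subgroup G) : Set G) := by
      intro s hs
      have h1 := hS'.le (hmap s hs)
      rw [Subgroup.mem_centralizer_singleton_iff] at h1
      calc s * z = c.out⁻¹ * (c.out * s * c.out⁻¹ * y) * c.out := by rw [hzdef]; group
        _ = c.out⁻¹ * (y * (c.out * s * c.out⁻¹)) * c.out := by rw [h1]
        _ = z * s := by rw [hzdef]; group
    have hzN : z ∉ N := fun hh => hy (by
      have := Subgroup.Normal.conj_mem ‹N.Normal› _ hh c.out
      simpa [hzdef, mul_assoc] using this)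
    exact ⟨(c, ⟨⟨z, hzS, hzc⟩, hzN⟩), Subtype.ext (by simp [Φ, hzdef, mul_assoc])⟩
  have hcount := Nat.card_congr (Equiv.ofBijective Φ ⟨hinj, hsurj⟩)
  have hab : IsMulCommutative (S : Subgroup G) := by
    have e1 : ∀ (K : Subgroup G), Nat.card {z : K // (z : G) ∉ N} +
        Nat.card (N.subgroupOf K) = Nat.card K := by
      intro K
      rw [add_comm]
      exact (Nat.card_sum).symm.trans
        (Nat.card_congr (Equiv.sumCompl fun z : K => (z : G) ∈ N))
    have eG : Nat.card {y : G // y ∉ N} + Nat.card N = Nat.card G := by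
      rw [add_comm]
      exact (Nat.card_sum).symm.trans (Nat.card_congr (Equiv.sumCompl fun y : G => y ∈ N))
    have eZ := e1 Z
    rw [Nat.card_prod] at hcount
    have eS := (S : Subgroup G).card_mul_index
    have eN := N.card_mul_index
    have eW := (N.subgroupOf Z).card_mul_index
    have hrel : (N.subgroupOf Z).index ≤ N.index :=
      (Subgroup.relIndex_le_of_le_right le_top (by simpa using Subgroup.index_ne_zero_of_finite)).trans_eq
        (Subgroup.relIndex_top_right N)
    rw [← Subgroup.index_eq_card] at hcount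
    have hj : 0 < N.index := Nat.pos_of_ne_zero Subgroup.index_ne_zero_of_finite
    have hi2 : 2 ≤ N.index := by
      have : N.index ≠ 1 := fun e => hN (Subgroup.index_eq_one.mp e)
      omega
    have hSZ : Nat.card (S : Subgroup G) ≤ Nat.card Z := by
      set i := N.index
      set a := Nat.card {z : Z // (z : G) ∉ N}
      set w := Nat.card (N.subgroupOf Z)
      set j := (N.subgroupOf Z).index
      set n := Nat.card N
      have hn : 0 < n := Nat.card_pos
      have key : (n * i) * a + n * Nat.card (S : Subgroup G) = (n * i) * Nat.card (S : Subgroup G) := by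
        have h' : (S : Subgroup G).index * a + n = n * i := by rw [hcount, eG, eN]
        calc (n * i) * a + n * Nat.card (S : Subgroup G)
            = (Nat.card (S : Subgroup G) * (S : Subgroup G).index) * a
              + n * Nat.card (S : Subgroup G) := by rw [eS, eN]
          _ = Nat.card (S : Subgroup G) * ((S : Subgroup G).index * a + n) := by ring
          _ = (n * i) * Nat.card (S : Subgroup G) := by rw [h']; ring
      have key' : i * a + Nat.card (S : Subgroup G) = i * Nat.card (S : Subgroup G) :=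
        Nat.eq_of_mul_eq_mul_left hn (by linear_combination key)
      have hw : w * j = Nat.card Z := eW
      have h5 : Nat.card Z ≤ i * w := by
        rw [← hw, mul_comm i]; exact Nat.mul_le_mul_left w hrel
      nlinarith
    have hZS : Z = S := Subgroup.eq_of_le_of_card_ge inf_le_left hSZ
    exact ⟨⟨fun a b => Subtype.ext ((hZS.ge b.2).2 a a.2)⟩⟩
  -- transfer
  have hburn : Subgroup.normalizer ((S : Subgroup G) : Set G) ≤
      Subgroup.centralizer ((S : Subgroup G) : Set G) := by
    rw [hNS]
    intro s hs t ht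
    exact setLike_mul_comm (s := (S : Subgroup G)) ht hs
  have hcompl := MonoidHom.ker_transferSylow_isComplement' S hburn
  set O := (MonoidHom.transferSylow S hburn).ker
  have hOodd : ¬ 2 ∣ Nat.card O := by
    rw [← hcompl.index_eq_card]; exact S.not_dvd_index
  haveI hOnil : Group.IsNilpotent O := by
    refine ((isNilpotent_of_finite_tfae (G := O)).out 0 3).mpr fun q hq Q => ?_
    haveI := hq
    set Q' := (Q : Subgroup O).map O.subtype with hQ'
    have hF : Subgroup.normalizer (Q' : Set G) ⊔ O = ⊤ := Q.normalizer_sup_eq_top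
    suffices hQn : Q'.Normal by
      have := hQn.subgroupOf O
      rwa [hQ', Subgroup.subgroupOf, Subgroup.comap_map_eq_self_of_injective O.subtype_injective]
        at this
    rcases eq_or_ne (Subgroup.normalizer (Q' : Set G)) ⊤ with e | e
    · exact Subgroup.normalizer_eq_top_iff.mp e
    -- otherwise the normalizer contains a Sylow 2-subgroup, hence equals it
    obtain ⟨T⟩ : Nonempty (Sylow 2 ↥(Subgroup.normalizer (Q' : Set G))) := inferInstance
    set T' := (T : Subgroup ↥(Subgroup.normalizer (Q' : Set G))).map (Subgroup.subtype _) with hT'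
    have hidx : ¬ 2 ∣ (Subgroup.normalizer (Q' : Set G)).index := fun hd => hOodd (hd.trans (by
      rw [← Subgroup.relIndex_top_right, ← hF, sup_comm,
        ← Subgroup.inf_relIndex_right]
      have : ((O ⊔ Subgroup.normalizer (Q' : Set G)) : Subgroup G) = ⊤ := by rw [sup_comm, hF]
      rw [this, inf_top_eq, Subgroup.relIndex_top_right]
      have h1 := (Subgroup.normalizer (Q' : Set G)).card_mul_index
      have h2 : Nat.card O * Nat.card (S : Subgroup G) = Nat.card G := hcompl.card_mul_card
      have h3 : O.relIndex (Subgroup.normalizer (Q' : Set G)) = O.index := by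
        rw [← Subgroup.relIndex_sup_left, this, Subgroup.relIndex_top_right]
      have h4 : O.index ∣ Nat.card (Subgroup.normalizer (Q' : Set G)) :=
        h3 ▸ Subgroup.relIndex_dvd_card _ _
      rw [hcompl.symm.index_eq_card] at h4
      obtain ⟨k, hk⟩ := h4
      rw [hk, ← h2, mul_comm (Nat.card O), mul_assoc] at h1
      exact ⟨k, by rw [← Nat.eq_of_mul_eq_mul_left Nat.card_pos h1, mul_comm]⟩))
    have hT'syl : ∃ S₂ : Sylow 2 G, T' ≤ S₂ ∧ Nat.card T' = Nat.card (S₂ : Subgroup G) := by
      obtain ⟨S₂, hS₂⟩ := (T.isPGroup'.map _ : IsPGroup 2 T').exists_le_sylow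
      refine ⟨S₂, hS₂, ?_⟩
      have hh : ¬ 2 ∣ T'.index := by
        rw [hT', Subgroup.index_map_subtype]
        exact Nat.prime_two.not_dvd_mul T.not_dvd_index hidx
      exact (((T.isPGroup'.map _ : IsPGroup 2 T').toSylow hh).card_eq_multiplicity).trans
        S₂.card_eq_multiplicity.symm
    obtain ⟨S₂, hle, hc⟩ := hT'syl
    have hTS : T' = S₂ := Subgroup.eq_of_le_of_card_ge hle hc.ge
    have hS₂max : IsCoatom (S₂ : Subgroup G) := by
      obtain ⟨g, hg⟩ := MulAction.exists_smul_eq G S S₂
      have : IsCoatom ((S : Subgroup G).map (MulAut.conj g).toMonoidHom) :=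
        ((OrderIso.isCoatom_iff ((MulAut.conj g).mapSubgroup) (S : Subgroup G)).mpr (hS ▸ (h x₀ hx₀).2))
      rw [← hg, Sylow.coe_subgroup_smul]
      exact this
    have hNeq := (hS₂max.le_iff.mp (hTS ▸ Subgroup.map_subtype_le _)).resolve_left e
    have hQbot : Q' = ⊥ := by
      rw [Subgroup.eq_bot_iff_forall]
      intro v hv
      have hvO : v ∈ O := Subgroup.map_subtype_le _ hv
      have hvS : v ∈ (S₂ : Subgroup G) := hNeq ▸ Subgroup.le_normalizer hv
      obtain ⟨k, hk⟩ := S₂.isPGroup' ⟨v, hvS⟩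
      have hk' : v ^ 2 ^ k = 1 := by simpa using congrArg Subtype.val hk
      refine orderOf_eq_one_iff.mp (Nat.eq_one_of_dvd_coprimes
        (Nat.Coprime.pow_left k (Nat.prime_two.coprime_iff_not_dvd.mpr hOodd))
        (orderOf_dvd_of_pow_eq_one hk') ?_)
      rw [show orderOf v = orderOf (⟨v, hvO⟩ : O) from (Subgroup.orderOf_mk v hvO).symm]
      exact orderOf_dvd_natCard _
    rw [hQbot]; infer_instance
  have hsO : Group.IsSolvable O := inferInstance
  refine CfsgLib.SolvCrit.isSolvable_of_normal_of_quotient O hsO ?_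
  haveI : Group.IsSolvable (S : Subgroup G) := Group.isSolvable_of_comm fun a b => hab.is_comm.comm a b
  exact Group.isSolvable_of_surjective (f := (QuotientGroup.mk' O).comp (S : Subgroup G).subtype)
    (fun v => by
      obtain ⟨g, rfl⟩ := QuotientGroup.mk'_surjective O v
      obtain ⟨a, ha, b, hb, hab'⟩ := Subgroup.mem_sup_of_normal_left.mp
        (hcompl.sup_eq_top.ge (Subgroup.mem_top g))
      refine ⟨⟨b, hb⟩, ?_⟩
      show (QuotientGroup.mk b : G ⧸ O) = QuotientGroup.mk g
      rw [← hab', QuotientGroup.mk_mul, (QuotientGroup.eq_one_iff a).mpr ha, one_mul])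

end Cfsg.Agent.S3903
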