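import Cfsg.Statements.S3904
import Cfsg.Agent.MaxCentralizer.MinimalNonabelian

set_option autoImplicit false
set_option linter.style.haveILetI false
open Cfsg

namespace Cfsg.Agent.S3904

/-- Let G be a non-abelian finite group in which the centralizer of every non-central element is a maximal subgroup. Then G/Z(G) is either an elementary abelian p-group for some prime p, or a minimal non-abelian group (non-abelian with all proper subgroups abelian) of order p^a · q for distinct primes p, q with a normal Sylow p-subgroup. -/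
theorem result {G : Type*} [Group G] [Finite G] (hna : ¬ IsMulCommutative G)
    (h : ∀ x : G, x ∉ Subgroup.center G → IsCoatom (Subgroup.centralizer ({x} : Set G))) :
    (∃ p : ℕ, p.Prime ∧ Cfsg.IsElementaryAbelian p (⊤ : Subgroup (G ⧸ Subgroup.center G))) ∨
    (¬ IsMulCommutative (G ⧸ Subgroup.center G) ∧ (∀ H : Subgroup (G ⧸ Subgroup.center G), H ≠ ⊤ → IsMulCommutative ↥H) ∧
      ∃ p q a : ℕ, p.Prime ∧ q.Prime ∧ p ≠ q ∧ Nat.card (G ⧸ Subgroup.center G) = p ^ a * q ∧
        ∀ P : Subgroup (G ⧸ Subgroup.center G), Nat.card ↥P = p ^ a → P.Normal) := by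
  have hc : Subgroup.centralizer ((⊤ : Subgroup G) : Set G) = Subgroup.center G := by
    rw [Subgroup.coe_top, Subgroup.centralizer_univ]
  have hZ : CfsgLib.MaxCentralizer.cZ (⊤ : Subgroup G) = Subgroup.center G := by
    rw [CfsgLib.MaxCentralizer.cZ, hc, top_inf_eq]
  have hA : ∀ x : G, CfsgLib.MaxCentralizer.cN (⊤ : Subgroup G) x =
      Subgroup.centralizer ({x} : Set G) := fun x => top_inf_eq _
  have hN : CfsgLib.MaxCentralizer.Hyp (⊤ : Subgroup G) := fun x _ hx => h x (hc ▸ hx)
  let π := QuotientGroup.mk' (Subgroup.center G)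
  rcases CfsgLib.MaxCentralizer.elementary_or_frobenius hN with ⟨p, hp, hpow, hcomm⟩ |
    ⟨x, K, p, q, hF⟩
  · refine Or.inl ⟨p, hp, ⟨⟨fun a b => Subtype.ext ?_⟩⟩, ?_⟩
    · obtain ⟨u, hu⟩ := QuotientGroup.mk'_surjective _ (a : G ⧸ Subgroup.center G)
      obtain ⟨v, hv⟩ := QuotientGroup.mk'_surjective _ (b : G ⧸ Subgroup.center G)
      show (a : G ⧸ Subgroup.center G) * b = b * a
      rw [← hu, ← hv]
      have h1 := hcomm u (Subgroup.mem_top u) v (Subgroup.mem_top v)
      rw [hZ, ← QuotientGroup.eq_one_iff] at h1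
      change π (u * v * u⁻¹ * v⁻¹) = 1 at h1
      rw [map_mul, map_mul, map_mul, map_inv, map_inv, mul_inv_eq_one, mul_inv_eq_iff_eq_mul] at h1
      exact h1
    · intro a _
      obtain ⟨u, rfl⟩ := QuotientGroup.mk'_surjective _ a
      rw [← map_pow]
      exact (QuotientGroup.eq_one_iff _).mpr (hZ ▸ hpow u (Subgroup.mem_top u))
  · refine Or.inr ?_
    have := hF.normal
    have hZA : Subgroup.center G ≤ Subgroup.centralizer ({x} : Set G) :=
      Subgroup.center_le_centralizer _
    have hcard : Nat.card ↥((Subgroup.centralizer ({x} : Set G)).map π) = q := by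
      have hq := hF.card_complement
      rw [hA, CfsgLib.MaxCentralizer.down, ← Subgroup.relIndex_ker, QuotientGroup.ker_mk'] at hq
      rw [← Subgroup.relIndex_ker, QuotientGroup.ker_mk', ← hq]
      have hcen : Subgroup.center ↥(⊤ : Subgroup G) = (Subgroup.center G).subgroupOf ⊤ := by
        ext m
        simp [Subgroup.mem_subgroupOf, Subgroup.mem_center_iff, Subtype.ext_iff]
      rw [hcen, Subgroup.subgroupOf, Subgroup.subgroupOf, Subgroup.relIndex_comap,
        Subgroup.map_comap_eq_self (by rw [Subgroup.range_subtype]; exact le_top)]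
    have hcompl : (K.map π).IsComplement' ((Subgroup.centralizer ({x} : Set G)).map π) := by
      refine Subgroup.isComplement'_of_disjoint_and_mul_eq_univ ?_ ?_
      · rw [disjoint_iff, eq_bot_iff]
        rintro _ ⟨⟨k, hk, rfl⟩, a, ha, hak⟩
        rw [Subgroup.mem_bot]
        refine (QuotientGroup.eq_one_iff k).mpr (hZ ▸ hF.inf_le ⟨?_, hk⟩)
        show k ∈ CfsgLib.MaxCentralizer.cN ⊤ x
        rw [hA]
        have h1 : a⁻¹ * k ∈ Subgroup.center G := QuotientGroup.eq.mp hak
        simpa using mul_mem ha (hZA h1)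
      · refine Set.eq_univ_of_forall fun g => ?_
        obtain ⟨g, rfl⟩ := QuotientGroup.mk'_surjective _ g
        obtain ⟨a, ha, k, hk, hg⟩ := hF.exists_mul g (Subgroup.mem_top g)
        rw [hA] at ha
        refine ⟨π (a * k * a⁻¹), ⟨_, hF.normal.conj_mem k hk a, rfl⟩, π a, ⟨a, ha, rfl⟩, ?_⟩
        show π _ * π a = π g
        rw [← map_mul, hg, inv_mul_cancel_right]
    have hCn : ¬ ((Subgroup.centralizer ({x} : Set G)).map π).Normal := by
      intro hn
      have hC := hF.complement
      rw [hA] at hC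
      have hn' : (CfsgLib.MaxCentralizer.down ⊤ (Subgroup.centralizer ({x} : Set G))).Normal := by
        refine Subgroup.Normal.map ⟨fun m hm g => ?_⟩ _ (QuotientGroup.mk'_surjective _)
        obtain ⟨a, ha, hae⟩ := hn.conj_mem (π m) ⟨m, hm, rfl⟩ (π g)
        rw [← map_inv, ← map_mul, ← map_mul] at hae
        show (g : G) * m * (g : G)⁻¹ ∈ Subgroup.centralizer ({x} : Set G)
        simpa using mul_mem ha (hZA (QuotientGroup.eq.mp hae))
      obtain ⟨hne, htop, hTI⟩ := hC
      obtain ⟨g, hg⟩ : ∃ g, g ∉ CfsgLib.MaxCentralizer.down ⊤ (Subgroup.centralizer ({x} : Set G)) := by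
        by_contra hno
        push Not at hno
        exact htop ((Subgroup.eq_top_iff' _).mpr hno)
      refine hne (eq_bot_iff.mpr fun a ha => ?_)
      rw [← hTI g hg]
      exact ⟨ha, (CfsgLib.FrobComp.smul_mem_iff _ _ _).mpr (by simpa using hn'.conj_mem a ha g⁻¹)⟩
    have hpq : p ≠ q := by
      intro hpq
      haveI := Fact.mk hF.prime_p
      refine hCn ?_
      have hKp : IsPGroup p ↥(K.map π) := fun k => ⟨1, Subtype.ext (by
        obtain ⟨_, k, hk, rfl⟩ := k
        show π k ^ p ^ 1 = 1
        rw [pow_one, ← map_pow]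
        exact (QuotientGroup.eq_one_iff _).mpr (hZ ▸ hF.pow_mem k hk))⟩
      obtain ⟨a, ha⟩ := hKp.exists_card_eq
      have hQ : IsPGroup p (G ⧸ Subgroup.center G) := by
        refine IsPGroup.of_card (n := a + 1) ?_
        rw [← hcompl.card_mul_card, ha, hcard, ← hpq, pow_succ]
      haveI := hQ.isNilpotent
      refine Subgroup.NormalizerCondition.normal_of_coatom _ (Group.normalizerCondition_of_isNilpotent (G := G ⧸ Subgroup.center G)) ?_
      have hM := h x (hc ▸ hF.notMem)
      refine ⟨fun htop => hM.1 (eq_top_iff.mpr fun g _ => ?_), fun R hR => ?_⟩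
      · obtain ⟨a, ha, hag⟩ := htop.ge (Subgroup.mem_top (π g))
        simpa using mul_mem ha (hZA (QuotientGroup.eq.mp hag))
      · have hcomap : R.comap π = ⊤ := by
          refine hM.2 _ (lt_of_le_of_ne (Subgroup.map_le_iff_le_comap.mp hR.le) fun he => hR.ne ?_)
          rw [he, Subgroup.map_comap_eq_self_of_surjective (QuotientGroup.mk'_surjective _)]
        rw [← Subgroup.map_comap_eq_self_of_surjective (QuotientGroup.mk'_surjective (Subgroup.center G)) R,
          hcomap, Subgroup.map_top_of_surjective _ (QuotientGroup.mk'_surjective _)]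
    refine CfsgLib.MaxCentralizer.minimal_nonabelian hF.prime_p hF.prime_q hpq
      (hF.normal.map _ (QuotientGroup.mk'_surjective _)) hcompl hcard hCn ?_ ?_ ?_
    · rintro _ ⟨u, hu, rfl⟩ _ ⟨v, hv, rfl⟩
      rw [← map_mul, ← map_mul, hF.comm u hu v hv]
    · rintro _ ⟨u, hu, rfl⟩
      rw [← map_pow]
      exact (QuotientGroup.eq_one_iff _).mpr (hZ ▸ hF.pow_mem u hu)
    · intro R hR hnorm
      have hZR : CfsgLib.MaxCentralizer.cZ (⊤ : Subgroup G) ≤ R.comap π := by
        rw [hZ]
        intro z hz
        rw [Subgroup.mem_comap, show π z = 1 from (QuotientGroup.eq_one_iff z).mpr hz]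
        exact one_mem R
      have hRK : R.comap π ≤ K := by
        intro g hg
        obtain ⟨k, hk, hkg⟩ := hR hg
        have h1 := mul_mem hk (hF.center_le (hZ.symm ▸ QuotientGroup.eq.mp hkg))
        rwa [mul_inv_cancel_left] at h1
      have hn : Subgroup.centralizer ({x} : Set G) ≤
          Subgroup.normalizer ((R.comap π : Subgroup G) : Set G) :=
        (Subgroup.map_le_iff_le_comap.mp hnorm).trans
          (Subgroup.comap_normalizer_eq_of_surjective _ (QuotientGroup.mk'_surjective _)).le
      rcases hF.minimal _ hZR hRK hn with h1 | h1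
      · left
        rw [← Subgroup.map_comap_eq_self_of_surjective (QuotientGroup.mk'_surjective (Subgroup.center G)) R,
          h1, hZ, Subgroup.map_eq_bot_iff, QuotientGroup.ker_mk']
      · right
        rw [← Subgroup.map_comap_eq_self_of_surjective (QuotientGroup.mk'_surjective (Subgroup.center G)) R, h1]

end Cfsg.Agent.S3904
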