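import Cfsg.Statements.S3905
import Cfsg.Agent.MaxCentralizer.Structure

set_option autoImplicit false
open Cfsg

namespace Cfsg.Agent.S3905

/-- Let N be a normal subgroup of the finite group G such that for every element x of N outside the center of N the centralizer C_G(x) is a maximal subgroup of G. Then N/Z(N) is either an elementary abelian p-group for some prime p, or a Frobenius group whose kernel is an elementary abelian normal subgroup and whose complement has prime order. -/
theorem result {G : Type*} [Group G] [Finite G] (N : Subgroup G) [N.Normal]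
    (h : ∀ x : G, x ∈ N → x ∉ Subgroup.centralizer (N : Set G) → IsCoatom (Subgroup.centralizer ({x} : Set G))) :
    (∃ p : ℕ, p.Prime ∧ Cfsg.IsElementaryAbelian p (⊤ : Subgroup (↥N ⧸ Subgroup.center ↥N))) ∨
    (∃ (Q K : Subgroup (↥N ⧸ Subgroup.center ↥N)) (p : ℕ), p.Prime ∧ Cfsg.IsFrobeniusComplement Q ∧ (Nat.card ↥Q).Prime ∧
      K.Normal ∧ (K : Set (↥N ⧸ Subgroup.center ↥N)) = Cfsg.frobeniusKernel Q ∧ Cfsg.IsElementaryAbelian p K) := by
  have hN : CfsgLib.MaxCentralizer.Hyp N := h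
  have hone : ∀ m : ↥N, (m : G) ∈ CfsgLib.MaxCentralizer.cZ N →
      (QuotientGroup.mk' (Subgroup.center ↥N) m : ↥N ⧸ Subgroup.center ↥N) = 1 :=
    fun m hm => CfsgLib.MaxCentralizer.proj_eq_one_iff.mpr hm
  rcases CfsgLib.MaxCentralizer.elementary_or_frobenius hN with ⟨p, hp, hpow, hcomm⟩ |
    ⟨x, K, p, q, hF⟩
  · refine Or.inl ⟨p, hp, ⟨⟨fun a b => Subtype.ext ?_⟩⟩, ?_⟩
    · obtain ⟨u, hu⟩ := QuotientGroup.mk'_surjective (Subgroup.center ↥N) (a : ↥N ⧸ Subgroup.center ↥N)
      obtain ⟨v, hv⟩ := QuotientGroup.mk'_surjective (Subgroup.center ↥N) (b : ↥N ⧸ Subgroup.center ↥N)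
      show (a : ↥N ⧸ Subgroup.center ↥N) * b = b * a
      rw [← hu, ← hv]
      have h1 := hone (u * v * u⁻¹ * v⁻¹) (hcomm u u.2 v v.2)
      rw [map_mul, map_mul, map_mul, map_inv, map_inv, mul_inv_eq_one, mul_inv_eq_iff_eq_mul] at h1
      exact h1
    · intro a _
      obtain ⟨u, rfl⟩ := QuotientGroup.mk'_surjective (Subgroup.center ↥N) a
      rw [← map_pow]
      exact hone _ (hpow u u.2)
  · refine Or.inr ⟨CfsgLib.MaxCentralizer.down N (CfsgLib.MaxCentralizer.cN N x),
      CfsgLib.MaxCentralizer.down N K, p, hF.prime_p, hF.complement, ?_, ?_, hF.kernel, ⟨⟨?_⟩⟩, ?_⟩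
    · rw [hF.card_complement]; exact hF.prime_q
    · have := hF.normal
      exact Subgroup.Normal.map inferInstance _ (QuotientGroup.mk'_surjective _)
    · rintro ⟨_, u, hu, rfl⟩ ⟨_, v, hv, rfl⟩
      apply Subtype.ext
      show CfsgLib.MaxCentralizer.proj N u * CfsgLib.MaxCentralizer.proj N v =
        CfsgLib.MaxCentralizer.proj N v * CfsgLib.MaxCentralizer.proj N u
      rw [← map_mul, ← map_mul, show u * v = v * u from Subtype.ext (hF.comm u hu v hv)]
    · rintro _ ⟨u, hu, rfl⟩
      rw [← map_pow]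
      exact hone _ (hF.pow_mem u hu)

end Cfsg.Agent.S3905
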