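import Cfsg.Statements.S3906
import Cfsg.Agent.CoprimeClass.Series
-- import your own Cfsg.Agent.* helpers here

set_option autoImplicit false
open Cfsg

namespace Cfsg.Agent.S3906

/-- Let p be a prime and let k ≥ 3, c ≥ 0 and d ≥ 0 be integers with 2^d + 2 ≤ k. There is a bound B depending only on p, k, c and d such that the following holds for every finite group G of order prime to p and every elementary abelian subgroup A of order p^k of the automorphism group of G: if, for every non-identity a ∈ A, the d-th derived subgroup of the fixed-point subgroup C_G(a) (the 0-th derived subgroup of a group being the group itself) is nilpotent of class at most c, then the d-th derived subgroup of G is nilpotent of class at most B. -/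
theorem result (p k c d : ℕ) (hp : p.Prime) (hk : 3 ≤ k) (hd : 2 ^ d + 2 ≤ k) :
    ∃ B : ℕ, ∀ (G : Type) [Group G] [Finite G], (Nat.card G).Coprime p →
      ∀ A : Subgroup (MulAut G), Cfsg.IsElementaryAbelian p A → Nat.card ↥A = p ^ k →
        (∀ a ∈ A, a ≠ 1 → (derivedSeries ↥((a : MulAut G).toMonoidHom.eqLocus (MonoidHom.id G)) d).lowerCentralSeries c = ⊥) →
        (derivedSeries G d).lowerCentralSeries B = ⊥ := by
  haveI : Fact p.Prime := ⟨hp⟩
  refine ⟨CfsgLib.CoprimeClass.chainBound p
    (CfsgLib.CoprimeClass.derCount (2 ^ p ^ k) d * p ^ p ^ k) (c + 1) (d + c) k, ?_⟩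
  intro G _ _ hcop A hA hcard hfix
  have hp' : ¬ p ∣ Nat.card G := hp.coprime_iff_not_dvd.mp hcop.symm
  refine CfsgLib.CoprimeClass.derived_class_bound (p := p)
    (fun a b : ↥A => hA.1.is_comm.comm a b) (fun a => Subtype.ext (hA.2 a a.2)) hp' A.subtype hcard
    hk hd ?_
  intro a ha
  have hC : CfsgLib.CoprimeClass.Fix A.subtype (Subgroup.zpowers a) =
      ((a : MulAut G).toMonoidHom.eqLocus (MonoidHom.id G)) := by
    ext x
    constructor
    · intro hx
      exact hx a (Subgroup.mem_zpowers a)
    · intro hx b hb
      have hle : Subgroup.zpowers a ≤ (MulAction.stabilizer (MulAut G) x).comap A.subtype :=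
        Subgroup.zpowers_le.mpr hx
      exact hle hb
  rw [hC, CfsgLib.CoprimeClass.gder_eq_map, ← Subgroup.map_lowerCentralSeries,
    hfix a a.2 (fun h => ha (Subtype.ext h)), Subgroup.map_bot]

end Cfsg.Agent.S3906
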