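import Cfsg.Statements.S3908
import Cfsg.Agent.S0126
import Cfsg.Agent.FgsSix.SupCard
import Cfsg.Agent.TwoGroupsQ.UniqueInvolution

set_option autoImplicit false
open Cfsg

namespace Cfsg.Agent.S3908

/-- Let G be a finite group in which any two abelian subgroups of the same order are conjugate. Then a Sylow 2-subgroup of G is cyclic, elementary abelian or generalized quaternion, and for an odd prime p a Sylow p-subgroup of G is cyclic or has exponent dividing p. -/
theorem result {G : Type*} [Group G] [Finite G] (hB : ∀ A B : Subgroup G, IsMulCommutative ↥A → IsMulCommutative ↥B → Nat.card ↥A = Nat.card ↥B → ∃ g : G, B = A.map (MulAut.conj g).toMonoidHom) :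
    (∀ P : Sylow 2 G, IsCyclic ↥(P : Subgroup G) ∨ Cfsg.IsElementaryAbelian 2 (P : Subgroup G) ∨ ∃ k : ℕ, Nonempty (↥(P : Subgroup G) ≃* QuaternionGroup (2 ^ k))) ∧
    ∀ (p : ℕ) [Fact p.Prime], p ≠ 2 → ∀ P : Sylow p G, IsCyclic ↥(P : Subgroup G) ∨ ∀ x ∈ (P : Subgroup G), x ^ p = 1 := by
  -- cyclic and exponent `p` subgroups of order `p ^ 2` cannot coexist
  have key : ∀ (p : ℕ), p.Prime → ∀ (x : G) (E : Subgroup G), orderOf x = p ^ 2 →
      IsMulCommutative ↥E → Nat.card ↥E = p ^ 2 → (∀ e ∈ E, e ^ p = 1) → False := by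
    intro p hp x E hx hEc hEcard hE
    obtain ⟨g, hg⟩ := hB (Subgroup.zpowers x) E inferInstance hEc (by rw [Nat.card_zpowers, hx, hEcard])
    have h1 : (MulAut.conj g).toMonoidHom x ∈ E := hg ▸ ⟨x, Subgroup.mem_zpowers x, rfl⟩
    have h2 := hE _ h1
    rw [← map_pow] at h2
    have h3 : x ^ p = 1 := (MulAut.conj g).injective (h2.trans (map_one _).symm)
    have h4 := Nat.le_of_dvd hp.pos (hx ▸ orderOf_dvd_of_pow_eq_one h3)
    have h5 : p ^ 1 < p ^ 2 := Nat.pow_lt_pow_right hp.one_lt (by norm_num)
    rw [pow_one] at h5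
    omega
  refine ⟨fun P => ?_, fun p hF hp2 P => ?_⟩
  · by_cases h4 : ∃ x ∈ (P : Subgroup G), orderOf x = 4
    · obtain ⟨x, -, hx⟩ := h4
      -- no four-group
      have hfour : ∀ z y : ↥(P : Subgroup G), z ^ 2 = 1 → z ≠ 1 → y ^ 2 = 1 → y ≠ 1 → Commute z y → z = y := by
        intro z y hz hz1 hy hy1 hzy
        by_contra hne
        have hc : Commute (z : G) (y : G) := congrArg Subtype.val hzy
        let E : Subgroup G := Subgroup.zpowers (z : G) ⊔ Subgroup.zpowers (y : G)
        have hEeq : E = Subgroup.closure ({(z : G), (y : G)} : Set G) := by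
          show Subgroup.zpowers (z : G) ⊔ Subgroup.zpowers (y : G) = _
          rw [Subgroup.zpowers_eq_closure, Subgroup.zpowers_eq_closure, ← Subgroup.closure_union]
          congr 1
        have hEc : IsMulCommutative ↥E := by
          rw [hEeq]
          apply Subgroup.isMulCommutative_closure
          rintro a (rfl | rfl) b (rfl | rfl)
          · rfl
          · exact hc.eq
          · exact hc.symm.eq
          · rfl
        have hE2 : ∀ e ∈ E, e ^ 2 = 1 := by
          intro e he
          rw [hEeq] at he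
          induction he using Subgroup.closure_induction with
          | mem a ha =>
              rcases ha with rfl | rfl
              · exact congrArg Subtype.val hz
              · exact congrArg Subtype.val hy
          | one => exact one_pow 2
          | mul a b ha hb iha ihb =>
              have hab : Commute a b :=
                congrArg Subtype.val (hEc.is_comm.comm ⟨a, hEeq ▸ ha⟩ ⟨b, hEeq ▸ hb⟩)
              rw [hab.mul_pow, iha, ihb, one_mul]
          | inv a _ iha => rw [inv_pow, iha, inv_one]
        have hzo : orderOf (z : G) = 2 :=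
          orderOf_eq_prime (congrArg Subtype.val hz) fun e => hz1 (Subtype.ext e)
        have hyo : orderOf (y : G) = 2 :=
          orderOf_eq_prime (congrArg Subtype.val hy) fun e => hy1 (Subtype.ext e)
        have hEcard : Nat.card ↥E = 2 ^ 2 := by
          have hdisj : Subgroup.zpowers (z : G) ⊓ Subgroup.zpowers (y : G) = ⊥ := by
            rw [eq_bot_iff]
            intro w hw
            by_contra hw1
            rw [Subgroup.mem_bot] at hw1
            apply hne
            have hwz := Subgroup.eq_of_le_of_card_ge (Subgroup.zpowers_le.2 hw.1)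
              (by rw [Nat.card_zpowers, Nat.card_zpowers, hzo]
                  exact (orderOf_eq_prime (orderOf_dvd_iff_pow_eq_one.1
                    (hzo ▸ orderOf_dvd_of_mem_zpowers hw.1)) hw1).ge)
            have hwy := Subgroup.eq_of_le_of_card_ge (Subgroup.zpowers_le.2 hw.2)
              (by rw [Nat.card_zpowers, Nat.card_zpowers, hyo]
                  exact (orderOf_eq_prime (orderOf_dvd_iff_pow_eq_one.1
                    (hzo ▸ orderOf_dvd_of_mem_zpowers hw.1)) hw1).ge)
            have hzy' : (z : G) ∈ Subgroup.zpowers (y : G) := by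
              rw [← hwy, hwz]; exact Subgroup.mem_zpowers _
            obtain ⟨i, hi⟩ := hzy'
            rcases Int.even_or_odd i with ⟨t, rfl⟩ | ⟨t, rfl⟩
            · exfalso
              apply hz1
              apply Subtype.ext
              rw [← hi]
              have hy' : (y : G) ^ (2 : ℕ) = 1 := congrArg Subtype.val hy
              show (y : G) ^ (t + t) = 1
              rw [← two_mul, zpow_mul, zpow_ofNat, hy', one_zpow]
            · apply Subtype.ext
              rw [← hi]
              have hy' : (y : G) ^ (2 : ℕ) = 1 := congrArg Subtype.val hy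
              show (y : G) ^ (2 * t + 1) = (y : G)
              rw [zpow_add, zpow_mul, zpow_ofNat, hy', one_zpow, one_mul, zpow_one]
          have h := CfsgLib.FgsSix.card_sup_mul_card_inf (Subgroup.zpowers (z : G))
            (Subgroup.zpowers (y : G)) (by
              rw [Subgroup.zpowers_le]
              apply Subgroup.centralizer_le_normalizer
              rintro _ ⟨i, rfl⟩
              exact (hc.symm.zpow_left i).eq)
          rw [hdisj, Subgroup.card_bot, mul_one, Nat.card_zpowers, Nat.card_zpowers, hzo, hyo] at h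
          rw [sq]
          exact h
        exact key 2 Nat.prime_two x E (by rw [hx]; norm_num) hEc hEcard hE2
      have hu : CfsgLib.TwoGroupsQ.HasUniqueOrderP ↥(P : Subgroup G) 2 := by
        apply CfsgLib.TwoGroupsQ.hasUniqueOrderP_two
        intro a b ha ha1 hb hb1
        have : Nontrivial ↥(P : Subgroup G) := ⟨⟨a, 1, ha1⟩⟩
        obtain ⟨z, hz, hz1⟩ : ∃ z ∈ Subgroup.center ↥(P : Subgroup G), z ≠ 1 :=
          ((Subgroup.bot_or_exists_ne_one _).resolve_left (IsPGroup.bot_lt_center P.isPGroup').ne')
        obtain ⟨n, hn⟩ := IsPGroup.iff_orderOf.1 P.isPGroup' z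
        have hn0 : n ≠ 0 := fun e => hz1 (orderOf_eq_one_iff.1 (by rw [hn, e, pow_zero]))
        let w := z ^ 2 ^ (n - 1)
        have hw : w ^ 2 = 1 := by
          rw [← pow_mul, ← pow_succ, Nat.sub_add_cancel (Nat.one_le_iff_ne_zero.2 hn0), ← hn,
            pow_orderOf_eq_one]
        have hw1 : w ≠ 1 := fun e => by
          have := Nat.le_of_dvd (Nat.two_pow_pos _) (orderOf_dvd_of_pow_eq_one e)
          rw [hn] at this
          have := Nat.pow_lt_pow_right (by norm_num : 1 < 2) (by omega : n - 1 < n)
          omega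
        have hcw : ∀ c, Commute w c := fun c =>
          (Commute.pow_left (Subgroup.mem_center_iff.1 hz c).symm _)
        rw [← hfour w a hw hw1 ha ha1 (hcw a), ← hfour w b hw hw1 hb hb1 (hcw b)]
      rcases CfsgLib.TwoGroupsQ.isCyclic_or_quaternion P.isPGroup' hu with h | ⟨-, m, -, hm⟩
      · exact Or.inl h
      · exact Or.inr (Or.inr ⟨m, hm⟩)
    · push Not at h4
      refine Or.inr (Or.inl ?_)
      have h2 : ∀ a ∈ (P : Subgroup G), a ^ 2 = 1 := by
        intro a ha
        obtain ⟨n, hn⟩ := IsPGroup.iff_orderOf.1 P.isPGroup' ⟨a, ha⟩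
        rw [Subgroup.orderOf_mk] at hn
        rcases Nat.lt_or_ge n 2 with h | h
        · rw [← orderOf_dvd_iff_pow_eq_one, hn]
          exact (pow_dvd_pow 2 (Nat.le_of_lt_succ h)).trans (by norm_num)
        · exfalso
          refine h4 _ (pow_mem ha (2 ^ (n - 2))) ?_
          rw [orderOf_pow_of_dvd (pow_ne_zero _ two_ne_zero) (hn ▸ pow_dvd_pow 2 (Nat.sub_le n 2)), hn,
            Nat.pow_div (Nat.sub_le n 2) two_pos, show n - (n - 2) = 2 by omega]
          norm_num
      refine ⟨⟨⟨fun a b => ?_⟩⟩, h2⟩
      have hsq : ∀ c : ↥(P : Subgroup G), c * c = 1 := fun c => by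
        rw [← sq]; exact Subtype.ext (h2 c c.2)
      calc a * b = a * (a * b * (a * b)) * b := by rw [hsq, mul_one]
        _ = (a * a) * (b * a) * (b * b) := by simp only [mul_assoc]
        _ = b * a := by rw [hsq, hsq, one_mul, mul_one]
  · by_cases hc : IsCyclic ↥(P : Subgroup G)
    · exact Or.inl hc
    refine Or.inr fun x hx => ?_
    obtain ⟨A, -, hA, hAcard⟩ := Cfsg.Agent.S0126.result hp2 P.isPGroup' hc
    by_contra hxp
    obtain ⟨n, hn⟩ := IsPGroup.iff_orderOf.1 P.isPGroup' ⟨x, hx⟩
    rw [Subgroup.orderOf_mk] at hn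
    have hn2 : 2 ≤ n := by
      by_contra h
      apply hxp
      rw [← orderOf_dvd_iff_pow_eq_one, hn]
      exact (pow_dvd_pow p (by omega : n ≤ 1)).trans (pow_one p).dvd
    refine key p hF.out (x ^ p ^ (n - 2)) (A.map (P : Subgroup G).subtype) ?_ ?_ ?_ ?_
    · rw [orderOf_pow_of_dvd (pow_ne_zero _ hF.out.ne_zero) (hn ▸ pow_dvd_pow p (Nat.sub_le n 2)), hn,
        Nat.pow_div (Nat.sub_le n 2) hF.out.pos, show n - (n - 2) = 2 by omega]
    · refine ⟨⟨?_⟩⟩
      rintro ⟨_, a, ha, rfl⟩ ⟨_, b, hb, rfl⟩
      exact Subtype.ext (show (a : G) * b = b * a from congrArg Subtype.val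
        (show a * b = b * a from congrArg Subtype.val (hA.1.is_comm.comm ⟨a, ha⟩ ⟨b, hb⟩)))
    · rw [Subgroup.card_map_of_injective (P : Subgroup G).subtype_injective, hAcard]
    · rintro _ ⟨a, ha, rfl⟩
      rw [← map_pow, hA.2 a ha, map_one]

end Cfsg.Agent.S3908
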