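import Cfsg.Statements.S3909


set_option autoImplicit false
open Cfsg

namespace Cfsg.Agent.S3909

/-- Let G be a finite group in which any two abelian subgroups of the same order are conjugate. Let M be a normal subgroup of G. If M contains an element of the same order as a ∈ G, then a ∈ M; and if M is elementary abelian of order p^t with p prime and t ≥ 2, then M is the unique Sylow p-subgroup of G. -/
theorem result {G : Type*} [Group G] [Finite G] (hB : ∀ A B : Subgroup G, IsMulCommutative ↥A → IsMulCommutative ↥B → Nat.card ↥A = Nat.card ↥B → ∃ g : G, B = A.map (MulAut.conj g).toMonoidHom) (M : Subgroup G) [M.Normal] :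
    (∀ a : G, (∃ m ∈ M, orderOf m = orderOf a) → a ∈ M) ∧
    ∀ (p t : ℕ) [Fact p.Prime], 2 ≤ t → Nat.card ↥M = p ^ t → Cfsg.IsElementaryAbelian p M → ∀ P : Sylow p G, (P : Subgroup G) = M := by
  have hone : ∀ a : G, (∃ m ∈ M, orderOf m = orderOf a) → a ∈ M := by
    rintro a ⟨m, hm, he⟩
    obtain ⟨g, hg⟩ := hB (Subgroup.zpowers m) (Subgroup.zpowers a) inferInstance inferInstance
      (by rw [Nat.card_zpowers, Nat.card_zpowers, he])
    obtain ⟨x, hx, hxa⟩ := (hg.le (Subgroup.mem_zpowers a) :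
      a ∈ (Subgroup.zpowers m).map (MulAut.conj g).toMonoidHom)
    rw [← hxa]
    exact (inferInstance : M.Normal).conj_mem x (Subgroup.zpowers_le.2 hm hx) g
  refine ⟨hone, fun p t hF ht hcard hel P => ?_⟩
  have hp := hF.out
  have hMp : IsPGroup p ↥M := IsPGroup.of_card hcard
  have hMP : M ≤ (P : Subgroup G) := by
    obtain ⟨Q, hQ⟩ := hMp.exists_le_sylow
    obtain ⟨g, rfl⟩ := MulAction.exists_smul_eq G Q P
    intro m hm
    rw [Sylow.coe_subgroup_smul]
    exact ⟨g⁻¹ * m * g, hQ (by simpa using (inferInstance : M.Normal).conj_mem m hm g⁻¹),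
      by simp [MulAut.smul_def]; group⟩
  refine le_antisymm (fun x hx => ?_) hMP
  obtain ⟨n, hn⟩ := IsPGroup.iff_orderOf.1 P.isPGroup' ⟨x, hx⟩
  rw [Subgroup.orderOf_mk] at hn
  rcases Nat.lt_or_ge n 2 with hn2 | hn2
  · rcases (show n = 0 ∨ n = 1 by omega) with rfl | rfl
    · rw [pow_zero, orderOf_eq_one_iff] at hn
      exact hn ▸ one_mem M
    · obtain ⟨m, hm⟩ := exists_prime_orderOf_dvd_card' (G := ↥M) p
        (hcard ▸ dvd_pow_self p (by omega))
      exact hone x ⟨m, m.2, by rw [Subgroup.orderOf_coe, hm, hn, pow_one]⟩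
  · exfalso
    obtain ⟨E, hEcard⟩ := Sylow.exists_subgroup_card_pow_prime (G := ↥M) p (n := 2)
      (hcard ▸ pow_dvd_pow p ht)
    let E' := E.map M.subtype
    have hE' : Nat.card ↥E' = p ^ 2 := by
      rw [Subgroup.card_map_of_injective M.subtype_injective, hEcard]
    have hEc : IsMulCommutative ↥E' := by
      refine ⟨⟨?_⟩⟩
      rintro ⟨_, a, -, rfl⟩ ⟨_, b, -, rfl⟩
      exact Subtype.ext (show (a : G) * b = b * a from
        congrArg Subtype.val (hel.1.is_comm.comm a b))
    let y := x ^ p ^ (n - 2)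
    have hy : orderOf y = p ^ 2 := by
      rw [orderOf_pow_of_dvd (pow_ne_zero _ hp.ne_zero) (hn ▸ pow_dvd_pow p (Nat.sub_le n 2)), hn,
        Nat.pow_div (Nat.sub_le n 2) hp.pos, show n - (n - 2) = 2 by omega]
    obtain ⟨g, hg⟩ := hB (Subgroup.zpowers y) E' inferInstance hEc (by rw [Nat.card_zpowers, hy, hE'])
    have h1 : (MulAut.conj g).toMonoidHom y ∈ E' := hg ▸ ⟨y, Subgroup.mem_zpowers y, rfl⟩
    obtain ⟨a, -, ha⟩ := h1
    have h2 : (MulAut.conj g).toMonoidHom y ^ p = 1 := by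
      rw [← ha, ← map_pow]
      exact (congrArg M.subtype (Subtype.ext (hel.2 a a.2) : a ^ p = 1)).trans (map_one _)
    rw [← map_pow] at h2
    have h3 : y ^ p = 1 := (MulAut.conj g).injective (h2.trans (map_one _).symm)
    have h4 := Nat.le_of_dvd hp.pos (hy ▸ orderOf_dvd_of_pow_eq_one h3)
    have h5 : p ^ 1 < p ^ 2 := Nat.pow_lt_pow_right hp.one_lt (by norm_num)
    rw [pow_one] at h5
    omega

end Cfsg.Agent.S3909
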