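import Cfsg.Statements.S3910
import Cfsg.Agent.NilpotentCover.AbelianSylow

set_option autoImplicit false
open Cfsg

namespace Cfsg.Agent.S3910

/-- A finite nilpotent group in which any two abelian subgroups of the same order are conjugate is cyclic. -/
theorem result {G : Type*} [Group G] [Finite G] (hB : ∀ A B : Subgroup G, IsMulCommutative ↥A → IsMulCommutative ↥B → Nat.card ↥A = Nat.card ↥B → ∃ g : G, B = A.map (MulAut.conj g).toMonoidHom) (hnil : Group.IsNilpotent G) : IsCyclic G := by
  have hZ : IsZGroup G := by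
    refine ⟨fun p hp P => ?_⟩
    have := Fact.mk hp
    have hPn : (P : Subgroup G).Normal := inferInstance
    -- every element of `G` acts on `P` as an element of `P`
    have hact : ∀ g : G, ∀ x ∈ (P : Subgroup G), ∃ h : ↥(P : Subgroup G), g * x * g⁻¹ = h * x * (h : G)⁻¹ := by
      intro g x hx
      have hg : g ∈ (P : Subgroup G) ⊔ Subgroup.centralizer ((P : Subgroup G) : Set G) := by
        refine CfsgLib.NilpotentCover.mem_of_parts (p := p) _ g ?_ ?_
        · intro b _ hb
          exact Subgroup.mem_sup_left (CfsgLib.NilpotentCover.mem_sylow_of_mem_normalizer P hb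
            (by rw [Subgroup.normalizer_eq_top_iff.2 hPn]; exact Subgroup.mem_top _))
        · intro b _ hb
          refine Subgroup.mem_sup_right (Subgroup.mem_centralizer_iff.2 fun y hy => ?_)
          obtain ⟨i, hi⟩ := CfsgLib.NilpotentCover.exists_orderOf_of_mem P hy
          refine CfsgLib.NilpotentCover.commute_of_coprime y b ?_
          rw [hi]
          exact Nat.Coprime.pow_left i (hp.coprime_iff_not_dvd.2 hb)
      rw [← SetLike.mem_coe, Subgroup.normal_mul] at hg
      obtain ⟨h, hh, c, hc, rfl⟩ := hg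
      refine ⟨⟨h, hh⟩, ?_⟩
      have hcx : c * x = x * c := ((Subgroup.mem_centralizer_iff.1 hc) x hx).symm
      calc h * c * x * (h * c)⁻¹ = h * (c * x) * c⁻¹ * h⁻¹ := by group
        _ = h * (x * c) * c⁻¹ * h⁻¹ := by rw [hcx]
        _ = h * x * h⁻¹ := by group
    obtain ⟨x, hxmax⟩ := Finite.exists_max (fun x : ↥(P : Subgroup G) => orderOf x)
    have hPp := P.isPGroup'
    obtain ⟨n, hn⟩ := IsPGroup.iff_orderOf.1 hPp x
    have htop : Subgroup.zpowers x ⊔ commutator ↥(P : Subgroup G) = ⊤ := by
      rw [eq_top_iff]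
      intro y _
      obtain ⟨i, hi⟩ := IsPGroup.iff_orderOf.1 hPp y
      have hin : i ≤ n := (Nat.pow_le_pow_iff_right hp.one_lt).1 (hi ▸ hn ▸ hxmax y)
      let z := x ^ p ^ (n - i)
      have hz : orderOf z = p ^ i := by
        rw [orderOf_pow_of_dvd (pow_ne_zero _ hp.ne_zero) (hn ▸ pow_dvd_pow p (Nat.sub_le n i)), hn,
          Nat.pow_div (Nat.sub_le n i) hp.pos, show n - (n - i) = i by omega]
      obtain ⟨g, hg⟩ := hB (Subgroup.zpowers (z : G)) (Subgroup.zpowers (y : G)) inferInstance
        inferInstance (by rw [Nat.card_zpowers, Nat.card_zpowers, Subgroup.orderOf_coe, Subgroup.orderOf_coe, hz, hi])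
      obtain ⟨w, ⟨j, rfl⟩, hwy⟩ := (hg.le (Subgroup.mem_zpowers (y : G)) :
        (y : G) ∈ (Subgroup.zpowers (z : G)).map (MulAut.conj g).toMonoidHom)
      obtain ⟨h, hh⟩ := hact g _ ((z ^ j).2)
      have hy : y = h * z ^ j * h⁻¹ := by
        apply Subtype.ext
        rw [← hwy]
        exact hh
      rw [hy, show h * z ^ j * h⁻¹ = z ^ j * ((z ^ j)⁻¹ * h * z ^ j * h⁻¹) by group]
      refine mul_mem (Subgroup.mem_sup_left (zpow_mem (pow_mem (Subgroup.mem_zpowers x) _) _))
        (Subgroup.mem_sup_right ?_)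
      rw [commutator_def]
      simpa [commutatorElement_def] using
        Subgroup.commutator_mem_commutator (Subgroup.mem_top (z ^ j)⁻¹) (Subgroup.mem_top h)
    have hnilP : Group.IsNilpotent ↥(P : Subgroup G) := hPp.isNilpotent
    refine ⟨⟨x, fun y => ?_⟩⟩
    have : Subgroup.zpowers x = ⊤ := by
      by_contra hne
      obtain hU | ⟨M, hM, hUM⟩ := eq_top_or_exists_le_coatom (Subgroup.zpowers x)
      · exact hne hU
      have : M.Normal :=
        Subgroup.NormalizerCondition.normal_of_coatom M Group.normalizerCondition_of_isNilpotent hM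
      have : Nontrivial (↥(P : Subgroup G) ⧸ M) := by
        obtain ⟨u, -, hu⟩ := SetLike.exists_of_lt hM.lt_top
        exact ⟨⟨QuotientGroup.mk u, 1, fun h => hu ((QuotientGroup.eq_one_iff u).1 h)⟩⟩
      have hlt := Group.IsSolvable.commutator_lt_top_of_nontrivial (↥(P : Subgroup G) ⧸ M)
      have hmap : (commutator ↥(P : Subgroup G)).map (QuotientGroup.mk' M)
          = commutator (↥(P : Subgroup G) ⧸ M) := by
        rw [commutator_def, commutator_def, Subgroup.map_commutator,
          Subgroup.map_top_of_surjective _ (QuotientGroup.mk'_surjective M)]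
      have htop' := congrArg (Subgroup.map (QuotientGroup.mk' M)) htop
      rw [Subgroup.map_sup, hmap, Subgroup.map_top_of_surjective _ (QuotientGroup.mk'_surjective M),
        (Subgroup.map_eq_bot_iff _).2 (by rwa [QuotientGroup.ker_mk']), bot_sup_eq] at htop'
      exact hlt.ne htop'
    exact Subgroup.mem_zpowers_iff.1 (show y ∈ Subgroup.zpowers x by rw [this]; exact Subgroup.mem_top y)
  exact inferInstance

end Cfsg.Agent.S3910
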