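import Cfsg.Statements.S3917


set_option autoImplicit false
open Cfsg

namespace Cfsg.Agent.S3917

/-- Say that a group has self-centralizing non-cyclic subgroups when every non-cyclic subgroup H satisfies C_G(H) ≤ H. A finite abelian group with self-centralizing non-cyclic subgroups is cyclic or elementary abelian of order p² for a prime p. -/
theorem result {G : Type*} [CommGroup G] [Finite G] (hX : (∀ H : Subgroup G, ¬ IsCyclic ↥H → Subgroup.centralizer (H : Set G) ≤ H)) :
    IsCyclic G ∨ ∃ p : ℕ, p.Prime ∧ Nat.card G = p ^ 2 ∧ Monoid.exponent G = p := by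
  have htop : ∀ H : Subgroup G, ¬ IsCyclic ↥H → H = ⊤ := fun H hH => top_le_iff.1 fun g _ =>
    hX H hH (Subgroup.mem_centralizer_iff.2 fun h _ => mul_comm h g)
  by_cases hc : IsCyclic G
  · exact Or.inl hc
  right
  -- a noncyclic Sylow subgroup is everything
  obtain ⟨p, hp, P, hP⟩ : ∃ p : ℕ, ∃ _ : p.Prime, ∃ P : Sylow p G, ¬ IsCyclic ↥(P : Subgroup G) := by
    by_contra hno
    push Not at hno
    have : IsZGroup G := ⟨fun p hp P => hno p hp P⟩
    exact hc inferInstance
  have hF := Fact.mk hp
  have hPtop := htop _ hP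
  have hG : IsPGroup p G := by
    have h1 := P.isPGroup'
    rw [hPtop] at h1
    exact h1.of_equiv Subgroup.topEquiv
  let K : Subgroup G := (powMonoidHom p : G →* G).ker
  let R : Subgroup G := (powMonoidHom p : G →* G).range
  have hK : ∀ x, x ∈ K ↔ x ^ p = 1 := fun x => MonoidHom.mem_ker
  -- the kernel of the `p`th power map is everything
  have hKtop : K = ⊤ := by
    refine htop K fun hKc => ?_
    obtain ⟨k, hk⟩ := hKc.exists_generator
    have hKle : Nat.card ↥K ≤ p := by
      rw [← orderOf_eq_card_of_forall_mem_zpowers hk]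
      exact Nat.le_of_dvd hp.pos (orderOf_dvd_of_pow_eq_one (Subtype.ext ((hK _).1 k.2)))
    have hcard : Nat.card G = Nat.card ↥K * Nat.card ↥R := by
      rw [show Nat.card ↥R = K.index from (Subgroup.index_ker _).symm, Subgroup.card_mul_index]
    by_cases hR : R = ⊥
    · rw [hR, Subgroup.card_bot, mul_one] at hcard
      exact hc (hKc.exists_generator.elim fun k hk => ⟨⟨(k : G), fun g => by
        have hg : g ∈ K := by
          rw [Subgroup.eq_top_of_card_eq K hcard.symm]; exact Subgroup.mem_top g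
        obtain ⟨i, hi⟩ := hk ⟨g, hg⟩
        exact ⟨i, congrArg Subtype.val hi⟩⟩⟩)
    by_cases hRtop : R = ⊤
    · -- surjective, hence injective, yet `p` divides the order
      have hK1 : Nat.card ↥K = 1 := by
        rw [hRtop, Subgroup.card_top] at hcard
        exact Nat.eq_of_mul_eq_mul_right Nat.card_pos (hcard.symm.trans (one_mul _).symm)
      rw [Subgroup.card_eq_one] at hK1
      obtain ⟨n, hn⟩ := IsPGroup.iff_card.1 hG
      have hn0 : n ≠ 0 := by
        rintro rfl
        rw [pow_zero, Nat.card_eq_one_iff_unique] at hn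
        have := hn.1
        exact hc isCyclic_of_subsingleton
      obtain ⟨x, hx⟩ := exists_prime_orderOf_dvd_card' (G := G) p (hn ▸ dvd_pow_self p hn0)
      have hx1 : x ∈ K := (hK x).2 (hx ▸ pow_orderOf_eq_one x)
      rw [hK1, Subgroup.mem_bot] at hx1
      rw [hx1, orderOf_one] at hx
      exact hp.one_lt.ne hx
    have hRc : IsCyclic ↥R := by
      by_contra h
      exact hRtop (htop R h)
    obtain ⟨r, hr⟩ := hRc.exists_generator
    obtain ⟨s, hs⟩ := r.2
    have hr1 : (r : G) ≠ 1 := fun h => hR <| by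
      rw [eq_bot_iff]
      intro x hx
      obtain ⟨i, hi⟩ := hr ⟨x, hx⟩
      have : (r : G) ^ i = x := congrArg Subtype.val hi
      rw [Subgroup.mem_bot, ← this, h, one_zpow]
    obtain ⟨j, hj⟩ := IsPGroup.iff_orderOf.1 hG s
    have hj0 : j ≠ 0 := by
      rintro rfl
      rw [pow_zero, orderOf_eq_one_iff] at hj
      exact hr1 (by rw [← hs, hj, map_one])
    have hord : orderOf (r : G) * p = orderOf s := by
      rw [← hs, powMonoidHom_apply, orderOf_pow_of_dvd hp.ne_zero (hj ▸ dvd_pow_self p hj0),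
        Nat.div_mul_cancel (hj ▸ dvd_pow_self p hj0)]
    have hle : Nat.card G ≤ orderOf s := by
      rw [hcard, ← hord, Subgroup.orderOf_coe, orderOf_eq_card_of_forall_mem_zpowers hr, mul_comm]
      exact Nat.mul_le_mul_left _ hKle
    exact hc (isCyclic_of_orderOf_eq_card s (le_antisymm (Nat.le_of_dvd Nat.card_pos (orderOf_dvd_natCard s)) hle))
  have hexp : ∀ x : G, x ^ p = 1 := fun x => (hK x).1 (hKtop ▸ Subgroup.mem_top x)
  refine ⟨p, hp, ?_, ?_⟩
  · obtain ⟨x, hx⟩ : ∃ x : G, x ≠ 1 := by
      by_contra h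
      push Not at h
      have : Subsingleton G := ⟨fun a b => (h a).trans (h b).symm⟩
      exact hc isCyclic_of_subsingleton
    have hxo : orderOf x = p := orderOf_eq_prime (hexp x) hx
    obtain ⟨y, hy⟩ : ∃ y, y ∉ Subgroup.zpowers x := by
      by_contra h
      push Not at h
      exact hc ⟨⟨x, h⟩⟩
    have hyo : orderOf y = p := orderOf_eq_prime (hexp y) fun e => hy (e ▸ one_mem _)
    have hE : Subgroup.zpowers x ⊔ Subgroup.zpowers y = ⊤ := by
      refine htop _ fun hEc => ?_
      obtain ⟨g, hg⟩ := hEc.exists_generator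
      have hle : Nat.card ↥(Subgroup.zpowers x ⊔ Subgroup.zpowers y) ≤ Nat.card ↥(Subgroup.zpowers x) := by
        rw [Nat.card_zpowers, hxo, ← orderOf_eq_card_of_forall_mem_zpowers hg]
        exact Nat.le_of_dvd hp.pos (orderOf_dvd_of_pow_eq_one (Subtype.ext (hexp _)))
      exact hy ((Subgroup.eq_of_le_of_card_ge le_sup_left hle).symm ▸
        le_sup_right (a := Subgroup.zpowers x) (Subgroup.mem_zpowers y))
    have hdisj : Subgroup.zpowers x ⊓ Subgroup.zpowers y = ⊥ := by
      rw [eq_bot_iff]
      intro z hz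
      by_contra hz1
      rw [Subgroup.mem_bot] at hz1
      have hle : Nat.card ↥(Subgroup.zpowers y) ≤ Nat.card ↥(Subgroup.zpowers z) := by
        rw [Nat.card_zpowers, Nat.card_zpowers, hyo, orderOf_eq_prime (hexp z) hz1]
      exact hy (Subgroup.zpowers_le.2 hz.1
        ((Subgroup.eq_of_le_of_card_ge (Subgroup.zpowers_le.2 hz.2) hle).symm ▸ Subgroup.mem_zpowers y))
    have hcompl : (Subgroup.zpowers x).IsComplement' (Subgroup.zpowers y) :=
      Subgroup.isComplement'_of_disjoint_and_mul_eq_univ (disjoint_iff.2 hdisj)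
        (by rw [← Subgroup.mul_normal, hE, Subgroup.coe_top])
    rw [← hcompl.card_mul_card, Nat.card_zpowers, Nat.card_zpowers, hxo, hyo, sq]
  · refine Nat.dvd_antisymm (Monoid.exponent_dvd_of_forall_pow_eq_one hexp) ?_
    obtain ⟨x, hx⟩ : ∃ x : G, x ≠ 1 := by
      by_contra h
      push Not at h
      have : Subsingleton G := ⟨fun a b => (h a).trans (h b).symm⟩
      exact hc isCyclic_of_subsingleton
    exact (orderOf_eq_prime (hexp x) hx) ▸ Monoid.order_dvd_exponent x

end Cfsg.Agent.S3917
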