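import Cfsg.Statements.S3918
import Cfsg.Agent.S0126

set_option autoImplicit false
open Cfsg

namespace Cfsg.Agent.S3918

/-- Say that a group has self-centralizing non-cyclic subgroups when every non-cyclic subgroup H satisfies C_G(H) ≤ H. For an odd prime p, a finite non-abelian p-group has self-centralizing non-cyclic subgroups if and only if it has order p³. -/
theorem result {G : Type*} [Group G] [Finite G] {p : ℕ} [Fact p.Prime] (hp : p ≠ 2) (hG : IsPGroup p G) (hna : ¬ IsMulCommutative G) :
    (∀ H : Subgroup G, ¬ IsCyclic ↥H → Subgroup.centralizer (H : Set G) ≤ H) ↔ Nat.card G = p ^ 3 := by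
  have hp' : p.Prime := Fact.out
  constructor
  · intro h
    have hnc : ¬ IsCyclic G := fun hc => hna hc.isMulCommutative
    obtain ⟨E, hEn, hE, hEcard⟩ := Cfsg.Agent.S0126.result hp hG hnc
    have hEnc : ¬ IsCyclic ↥E := by
      intro hc
      obtain ⟨e, he⟩ := hc.exists_generator
      have h1 : Nat.card ↥E ≤ p := by
        rw [← orderOf_eq_card_of_forall_mem_zpowers he]
        exact Nat.le_of_dvd hp'.pos (orderOf_dvd_of_pow_eq_one (Subtype.ext (hE.2 _ e.2)))
      have h5 : p ^ 1 < p ^ 2 := Nat.pow_lt_pow_right hp'.one_lt (by norm_num)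
      rw [pow_one] at h5
      omega
    have hCE : Subgroup.centralizer (E : Set G) = E :=
      le_antisymm (h E hEnc) fun a ha => Subgroup.mem_centralizer_iff.2 fun b hb =>
        (congrArg Subtype.val (hE.1.is_comm.comm ⟨b, hb⟩ ⟨a, ha⟩) :)
    have := hEn
    have hidx := CfsgLib.OddOrder.BG4.index_centralizer_le (R := G) hG hE.2 hEcard.le
    rw [hCE] at hidx
    obtain ⟨n, hn⟩ := IsPGroup.iff_card.1 hG
    have hle : Nat.card G ≤ p ^ 3 := by
      rw [← E.card_mul_index, hEcard, pow_succ]
      exact Nat.mul_le_mul_left _ hidx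
    rw [hn] at hle
    have hn3 : n ≤ 3 := (Nat.pow_le_pow_iff_right hp'.one_lt).1 hle
    rcases Nat.lt_or_ge n 3 with hlt | hge
    · exfalso
      apply hna
      rcases (show n = 0 ∨ n = 1 ∨ n = 2 by omega) with rfl | rfl | rfl
      · rw [pow_zero, Nat.card_eq_one_iff_unique] at hn
        have := hn.1
        exact isCyclic_of_subsingleton.isMulCommutative
      · exact (isCyclic_of_prime_card (hn.trans (pow_one p))).isMulCommutative
      · exact IsPGroup.isMulCommutative_of_card_eq_prime_sq hn
    · rw [hn, show n = 3 by omega]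
  · intro hcard H hH c hc
    obtain ⟨k, -, hk⟩ := (Nat.dvd_prime_pow hp').1 (hcard ▸ Subgroup.card_subgroup_dvd_card H)
    rcases Nat.lt_or_ge k 2 with hk2 | hk2
    · exfalso
      apply hH
      rcases (show k = 0 ∨ k = 1 by omega) with rfl | rfl
      · rw [pow_zero, Nat.card_eq_one_iff_unique] at hk
        have := hk.1
        exact isCyclic_of_subsingleton
      · exact isCyclic_of_prime_card (hk.trans (pow_one p))
    by_cases hHtop : H = ⊤
    · rw [hHtop]; exact Subgroup.mem_top _
    by_contra hcH
    have hk3 : k = 2 := by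
      have h1 : Nat.card ↥H ≤ p ^ 3 := hcard ▸ Subgroup.card_le_card_group H
      rw [hk] at h1
      have h2 := (Nat.pow_le_pow_iff_right hp'.one_lt).1 h1
      rcases (show k = 2 ∨ k = 3 by omega) with h3 | h3
      · exact h3
      · exact absurd (Subgroup.eq_top_of_card_eq H (by rw [hk, h3, hcard])) hHtop
    subst hk3
    have hHc : IsMulCommutative ↥H := IsPGroup.isMulCommutative_of_card_eq_prime_sq hk
    -- `H` and `c` generate an abelian group strictly above `H`, hence all of `G`
    have habove : IsMulCommutative ↥(Subgroup.closure (insert c (H : Set G))) := by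
      apply Subgroup.isMulCommutative_closure
      rintro a (rfl | ha) b (rfl | hb)
      · rfl
      · exact ((Subgroup.mem_centralizer_iff.1 hc) b hb).symm
      · exact (Subgroup.mem_centralizer_iff.1 hc) a ha
      · exact (congrArg Subtype.val (hHc.is_comm.comm ⟨a, ha⟩ ⟨b, hb⟩) :)
    set K := Subgroup.closure (insert c (H : Set G)) with hK
    have hHK : H ≤ K := fun a ha => Subgroup.subset_closure (Or.inr ha)
    have hcK : c ∈ K := Subgroup.subset_closure (Or.inl rfl)
    obtain ⟨j, hj3, hj⟩ := (Nat.dvd_prime_pow hp').1 (hcard ▸ Subgroup.card_subgroup_dvd_card K)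
    have hlt : Nat.card ↥H < Nat.card ↥K := lt_of_le_of_ne (Subgroup.card_le_of_le hHK) fun e =>
      hcH ((Subgroup.eq_of_le_of_card_ge hHK e.ge).symm ▸ hcK)
    rw [hk, hj] at hlt
    have hj' := (Nat.pow_lt_pow_iff_right hp'.one_lt).1 hlt
    have hKtop : K = ⊤ := Subgroup.eq_top_of_card_eq K (by rw [hj, hcard, show j = 3 by omega])
    refine hna ⟨⟨fun a b => ?_⟩⟩
    exact (congrArg Subtype.val
      (habove.is_comm.comm ⟨a, hKtop ▸ Subgroup.mem_top a⟩ ⟨b, hKtop ▸ Subgroup.mem_top b⟩) :)

end Cfsg.Agent.S3918
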