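import Cfsg.Statements.S3919
import Cfsg.Agent.MaxClassTwo.Class
import Cfsg.Agent.TwoGroupsQ.UniqueInvolution

set_option autoImplicit false
set_option linter.style.haveILetI false
open Cfsg

namespace Cfsg.Agent.S3919

/-- Say that a group has self-centralizing non-cyclic subgroups when every non-cyclic subgroup H satisfies C_G(H) ≤ H. A finite non-abelian 2-group G of order 2^n has self-centralizing non-cyclic subgroups if and only if G has nilpotency class n − 1 (that is, G is dihedral, semidihedral or generalized quaternion). -/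
theorem result {G : Type*} [Group G] [Finite G] (hna : ¬ IsMulCommutative G) (n : ℕ) (hG : Nat.card G = 2 ^ n) :
    (∀ H : Subgroup G, ¬ IsCyclic ↥H → Subgroup.centralizer (H : Set G) ≤ H) ↔ (⊤ : Subgroup G).lowerCentralSeries (n - 2) ≠ ⊥ := by
  classical
  haveI : Fact (Nat.Prime 2) := ⟨Nat.prime_two⟩
  have hP : IsPGroup 2 G := IsPGroup.of_card hG
  haveI := hP.isNilpotent
  have hn : 3 ≤ n := by
    by_contra h
    refine hna ?_
    interval_cases n
    · haveI : Subsingleton G := (Nat.card_eq_one_iff_unique.1 (by rw [hG]; rfl)).1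
      exact ⟨⟨fun x y => Subsingleton.elim _ _⟩⟩
    · haveI := isCyclic_of_prime_card (p := 2) (α := G) (by rw [hG]; rfl)
      letI := IsCyclic.commGroup (α := G)
      exact ⟨⟨mul_comm⟩⟩
    · exact IsPGroup.isMulCommutative_of_card_eq_prime_sq (p := 2) hG
  -- the class of an element lies in a coset of the derived subgroup
  have hidx : ∀ g : G, (commutator G).index ≤
      Nat.card ↥(Subgroup.centralizer ({g} : Set G)) := by
    intro g
    have hinj : (Subgroup.centralizer ({g} : Set G)).index ≤ Nat.card ↥(commutator G) := by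
      refine Nat.card_le_card_of_injective (fun q => (⟨q.out * g * q.out⁻¹ * g⁻¹,
        Subgroup.commutator_mem_commutator (Subgroup.mem_top _) (Subgroup.mem_top _)⟩ :
          ↥(commutator G))) ?_
      intro q q' h
      have h1 : q.out * g * q.out⁻¹ = q'.out * g * q'.out⁻¹ :=
        mul_right_cancel (congrArg Subtype.val h)
      rw [← q.out_eq', ← q'.out_eq', QuotientGroup.eq, Subgroup.mem_centralizer_singleton_iff]
      calc q.out⁻¹ * q'.out * g = q.out⁻¹ * (q'.out * g * q'.out⁻¹) * q'.out := by group
        _ = g * (q.out⁻¹ * q'.out) := by rw [← h1]; group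
    refine Nat.le_of_mul_le_mul_left ?_ (Nat.card_pos (α := ↥(commutator G)))
    calc Nat.card ↥(commutator G) * (commutator G).index = Nat.card G :=
          (commutator G).card_mul_index
      _ = Nat.card ↥(Subgroup.centralizer ({g} : Set G)) *
            (Subgroup.centralizer ({g} : Set G)).index := (Subgroup.card_mul_index _).symm
      _ ≤ Nat.card ↥(Subgroup.centralizer ({g} : Set G)) * Nat.card ↥(commutator G) :=
          Nat.mul_le_mul_left _ hinj
      _ = _ := mul_comm _ _
  -- the derived quotient has order at least four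
  have hfour : (commutator G).index ≤ 4 → (commutator G).index = 4 := by
    intro h4
    obtain ⟨e, he⟩ := hP.index (commutator G)
    rw [he] at h4 ⊢
    have he2 : e ≤ 2 := (Nat.pow_le_pow_iff_right (by norm_num : 1 < 2)).1 h4
    have hnc : ¬ IsCyclic (G ⧸ commutator G) := by
      intro hcyc
      obtain ⟨g, hg⟩ := IsCyclic.exists_generator (α := G ⧸ commutator G)
      obtain ⟨g, rfl⟩ := QuotientGroup.mk'_surjective _ g
      have htop : Subgroup.zpowers g ⊔ frattini G = ⊤ := by
        refine (Subgroup.eq_top_iff' _).2 fun x => ?_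
        obtain ⟨i, hi⟩ := Subgroup.mem_zpowers_iff.1 (hg (QuotientGroup.mk' _ x))
        rw [← map_zpow] at hi
        rw [show x = g ^ i * ((g ^ i)⁻¹ * x) by group]
        exact mul_mem (Subgroup.mem_sup_left (zpow_mem (Subgroup.mem_zpowers g) i))
          (Subgroup.mem_sup_right
            (CfsgLib.Solvable.commutator_le_frattini hP (QuotientGroup.eq.1 hi)))
      have htop' := CfsgLib.Solvable.eq_top_of_sup_frattini htop
      refine hna ⟨⟨fun x y => ?_⟩⟩
      obtain ⟨i, rfl⟩ := Subgroup.mem_zpowers_iff.1 (htop'.symm ▸ Subgroup.mem_top x)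
      obtain ⟨j, rfl⟩ := Subgroup.mem_zpowers_iff.1 (htop'.symm ▸ Subgroup.mem_top y)
      rw [← zpow_add, ← zpow_add, add_comm]
    interval_cases e
    · haveI : Subsingleton (G ⧸ commutator G) :=
        (Nat.card_eq_one_iff_unique.1 (by rw [← Subgroup.index_eq_card, he]; rfl)).1
      exact absurd isCyclic_of_subsingleton hnc
    · exact absurd (isCyclic_of_prime_card (p := 2) (by rw [← Subgroup.index_eq_card, he]; rfl)) hnc
    · rfl
  have hfwd : (⊤ : Subgroup G).lowerCentralSeries (n - 2) ≠ ⊥ ↔ (commutator G).index = 4 := by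
    constructor
    · intro hne
      refine hfour ?_
      let L := fun i => Subgroup.lowerCentralSeries (⊤ : Subgroup G) i
      have hstep : ∀ i < n - 2, 2 * Nat.card (L (i + 1)) ≤ Nat.card (L i) := by
        intro i hi
        obtain ⟨x, hx⟩ := (hP.to_subgroup (L i)).exists_card_eq
        obtain ⟨y, hy⟩ := (hP.to_subgroup (L (i + 1))).exists_card_eq
        rw [hx, hy, ← pow_succ']
        refine Nat.pow_le_pow_right two_pos ?_
        by_contra hcon
        have heq : L (i + 1) = L i := Subgroup.eq_of_le_of_card_ge
          (Subgroup.lowerCentralSeries_antitone _ (Nat.le_succ i))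
          (by rw [hx, hy]; exact Nat.pow_le_pow_right two_pos (by omega))
        have hst : ∀ j, i ≤ j → L j = L i := by
          intro j hj
          induction j, hj using Nat.le_induction with
          | base => rfl
          | succ j _ ihj =>
            show ⁅L j, (⊤ : Subgroup G)⁆ = L i
            rw [ihj]
            exact heq
        refine hne ?_
        change L (n - 2) = ⊥
        rw [hst _ hi.le, ← hst (max i (Group.nilpotencyClass G)) (le_max_left _ _)]
        exact eq_bot_iff.2 ((Subgroup.lowerCentralSeries_antitone _ (le_max_right _ _)).trans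
          Subgroup.lowerCentralSeries_nilpotencyClass.le)
      have hge : ∀ j ≤ n - 3, 2 ^ (j + 1) ≤ Nat.card (L (n - 2 - j)) := by
        intro j hj
        induction j with
        | zero =>
          obtain ⟨e, he⟩ := (hP.to_subgroup (L (n - 2))).exists_card_eq
          rw [Nat.sub_zero, he]
          refine Nat.pow_le_pow_right two_pos (Nat.pos_of_ne_zero fun h0 => hne ?_)
          exact Subgroup.eq_bot_of_card_eq _ (by rw [he, h0, pow_zero])
        | succ j ih =>
          have := hstep (n - 2 - (j + 1)) (by omega)
          rw [show n - 2 - (j + 1) + 1 = n - 2 - j by omega] at this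
          calc 2 ^ (j + 1 + 1) = 2 * 2 ^ (j + 1) := pow_succ' 2 (j + 1)
            _ ≤ 2 * Nat.card (L (n - 2 - j)) := Nat.mul_le_mul_left 2 (ih (by omega))
            _ ≤ _ := this
      have h1 := hge (n - 3) le_rfl
      rw [show n - 2 - (n - 3) = 1 by omega, show n - 3 + 1 = n - 2 by omega] at h1
      have hL1 : L 1 = commutator G := by
        simp only [L, Subgroup.lowerCentralSeries_succ, Subgroup.lowerCentralSeries_zero,
          commutator_def]
      rw [hL1] at h1
      refine Nat.le_of_mul_le_mul_left ?_ (show 0 < 2 ^ (n - 2) by positivity)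
      refine (Nat.mul_le_mul_right _ h1).trans ?_
      rw [Subgroup.card_mul_index, hG, show (4 : ℕ) = 2 ^ 2 from rfl, ← pow_add,
        Nat.sub_add_cancel (by omega : 2 ≤ n)]
    · intro h4 hbot
      have hc := CfsgLib.MaxClassTwo.nilpotencyClass_of_index hn hG h4
      have := Subgroup.lowerCentralSeries_eq_bot_iff_nilpotencyClass_le.1 hbot
      omega
  rw [hfwd]
  constructor
  · intro hself
    refine hfour ?_
    haveI : Nontrivial G := Finite.one_lt_card_iff_nontrivial.1 (by
      rw [hG]; exact Nat.one_lt_two_pow (by omega))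
    haveI := hP.center_nontrivial
    obtain ⟨z, hz⟩ := exists_prime_orderOf_dvd_card' (G := ↥(Subgroup.center G)) 2 (by
      obtain ⟨e, he⟩ := (hP.to_subgroup (Subgroup.center G)).exists_card_eq
      rw [he]
      exact dvd_pow_self 2 fun h0 => by
        have h1 := Finite.one_lt_card (α := ↥(Subgroup.center G))
        rw [he, h0] at h1
        exact lt_irrefl _ h1)
    by_cases huniq : ∀ x : G, x ^ 2 = 1 → x ≠ 1 → x = (z : G)
    · -- a unique involution: generalised quaternion
      obtain hcyc | ⟨-, m, hm, ⟨e⟩⟩ := CfsgLib.TwoGroupsQ.isCyclic_or_quaternion hP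
        (CfsgLib.TwoGroupsQ.hasUniqueOrderP_two fun x y hx hx1 hy hy1 =>
          (huniq x hx hx1).trans (huniq y hy hy1).symm)
      · letI := IsCyclic.commGroup (α := G)
        exact absurd ⟨⟨mul_comm⟩⟩ hna
      · haveI : NeZero (2 ^ m) := ⟨by positivity⟩
        refine (hidx (e.symm (QuaternionGroup.xa 0))).trans ?_
        have htwo : ∀ i : ZMod (2 * 2 ^ m), i = -i → i = 0 ∨ i = ((2 ^ m : ℕ) : ZMod (2 * 2 ^ m)) := by
          intro i hi
          have h2 : ((2 * i.val : ℕ) : ZMod (2 * 2 ^ m)) = 0 := by
            rw [Nat.cast_mul, ZMod.natCast_zmod_val, Nat.cast_two]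
            linear_combination hi
          rw [ZMod.natCast_eq_zero_iff] at h2
          obtain ⟨c, hc⟩ := Nat.dvd_of_mul_dvd_mul_left two_pos h2
          have hlt : i.val < 2 * 2 ^ m := ZMod.val_lt i
          rw [hc, mul_comm 2] at hlt
          have hc2 : c < 2 := Nat.lt_of_mul_lt_mul_left hlt
          rw [← ZMod.natCast_zmod_val i, hc]
          interval_cases c <;> simp
        have hxa : ∀ y : QuaternionGroup (2 ^ m), QuaternionGroup.xa 0 * y = y * QuaternionGroup.xa 0 →
            y ∈ ({QuaternionGroup.a 0, QuaternionGroup.a ((2 ^ m : ℕ) : ZMod (2 * 2 ^ m)),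
              QuaternionGroup.xa 0, QuaternionGroup.xa ((2 ^ m : ℕ) : ZMod (2 * 2 ^ m))} :
                Finset (QuaternionGroup (2 ^ m))) := by
          rintro (i | i) h
          · simp only [QuaternionGroup.xa_mul_a, QuaternionGroup.a_mul_xa, zero_add, zero_sub,
              QuaternionGroup.xa.injEq] at h
            rcases htwo i h with rfl | rfl <;> simp
          · simp only [QuaternionGroup.xa_mul_xa, QuaternionGroup.a.injEq] at h
            have h' : i = -i := by linear_combination h
            rcases htwo i h' with rfl | rfl <;> simp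
        refine le_trans ?_ (Finset.card_le_four (a := QuaternionGroup.a (0 : ZMod (2 * 2 ^ m)))
          (b := QuaternionGroup.a ((2 ^ m : ℕ) : ZMod (2 * 2 ^ m))) (c := QuaternionGroup.xa 0)
          (d := QuaternionGroup.xa ((2 ^ m : ℕ) : ZMod (2 * 2 ^ m))))
        refine Nat.card_eq_finsetCard _ ▸ Nat.card_le_card_of_injective (fun c => ⟨e (c : G), hxa _ ?_⟩) ?_
        · have h := congrArg e (Subgroup.mem_centralizer_singleton_iff.1 c.2)
          simpa using h.symm
        · intro c c' h
          exact Subtype.ext (e.injective (congrArg Subtype.val h))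
    · push Not at huniq
      obtain ⟨u, hu2, hu1, huz⟩ := huniq
      have hzc : (z : G) ∈ Subgroup.center G := z.2
      have hz1 : (z : G) ≠ 1 := fun h => by
        have h1 : z = 1 := Subtype.ext h
        rw [h1, orderOf_one] at hz; omega
      have hz2 : (z : G) ^ 2 = 1 := by
        rw [← hz, ← Subgroup.coe_pow, pow_orderOf_eq_one, Subgroup.coe_one]
      haveI : (Subgroup.zpowers (z : G)).Normal := ⟨fun x hx g => by
        rw [Subgroup.mem_center_iff.1 (Subgroup.zpowers_le.2 hzc hx) g, mul_inv_cancel_right]
        exact hx⟩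
      set V := Subgroup.zpowers (z : G) ⊔ Subgroup.zpowers u
      have hzV : (z : G) ∈ V := Subgroup.mem_sup_left (Subgroup.mem_zpowers _)
      have huV : u ∈ V := Subgroup.mem_sup_right (Subgroup.mem_zpowers _)
      have hV : ¬ IsCyclic ↥V := by
        intro hcyc
        haveI := Fintype.ofFinite ↥V
        have h := IsCyclic.card_pow_eq_one_le (α := ↥V) (n := 2) two_pos
        have hsub : ({1, ⟨z, hzV⟩, ⟨u, huV⟩} : Finset ↥V) ⊆
            (Finset.univ : Finset ↥V).filter (fun a => a ^ 2 = 1) := by
          intro a ha
          simp only [Finset.mem_insert, Finset.mem_singleton] at ha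
          rcases ha with rfl | rfl | rfl
          · simp
          · simpa [Subtype.ext_iff] using hz2
          · simpa [Subtype.ext_iff] using hu2
        have hcard : ({1, ⟨z, hzV⟩, ⟨u, huV⟩} : Finset ↥V).card = 3 := by
          rw [Finset.card_eq_three]
          exact ⟨_, _, _, fun h => hz1 (congrArg Subtype.val h).symm,
            fun h => hu1 (congrArg Subtype.val h).symm,
            fun h => huz (congrArg Subtype.val h).symm, rfl⟩
        have := Finset.card_le_card hsub
        omega
      have hC : Subgroup.centralizer ({u} : Set G) ≤ V := by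
        refine le_trans ?_ (hself V hV)
        rw [Subgroup.le_centralizer_iff, sup_le_iff, Subgroup.zpowers_le, Subgroup.zpowers_le]
        refine ⟨Subgroup.center_le_centralizer _ hzc, ?_⟩
        rw [Subgroup.mem_centralizer_iff]
        exact fun c hc => Subgroup.mem_centralizer_singleton_iff.1 hc
      refine ((hidx u).trans (Subgroup.card_le_of_le hC)).trans ?_
      have hsurj : Function.Surjective
          (fun x : ↥(Subgroup.zpowers (z : G)) × ↥(Subgroup.zpowers u) =>
            (⟨x.1 * x.2, mul_mem (Subgroup.mem_sup_left x.1.2) (Subgroup.mem_sup_right x.2.2)⟩ : ↥V)) := by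
        rintro ⟨v, hv⟩
        obtain ⟨y, hy, w, hw, rfl⟩ := Subgroup.mem_sup_of_normal_left.1 hv
        exact ⟨(⟨y, hy⟩, ⟨w, hw⟩), rfl⟩
      refine (Nat.card_le_card_of_surjective _ hsurj).trans ?_
      rw [Nat.card_prod, Nat.card_zpowers, Nat.card_zpowers, show (4 : ℕ) = 2 * 2 from rfl]
      exact Nat.mul_le_mul (orderOf_le_of_pow_eq_one two_pos hz2) (orderOf_le_of_pow_eq_one two_pos hu2)
  · intro h4 H hH
    obtain ⟨D⟩ := CfsgLib.MaxClassTwo.exists_data hn hG h4
    obtain ⟨h, hhH, hh⟩ : ∃ h ∈ H, h ∉ Subgroup.zpowers D.a := by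
      by_contra hcon
      push Not at hcon
      exact hH (Subgroup.isCyclic_of_le hcon)
    haveI : (Subgroup.zpowers D.a).Normal := Subgroup.normal_of_index_eq_two D.index
    -- the subgroup contains the central involution
    have htH : D.t ∈ H := by
      obtain ⟨w, hw, hw1⟩ : ∃ w ∈ H ⊓ Subgroup.zpowers D.a, w ≠ 1 := by
        by_contra hcon
        push Not at hcon
        refine hH ?_
        have hcard : Nat.card ↥H ≤ 2 := by
          have hr : (H ⊓ Subgroup.zpowers D.a).relIndex H ≤ 2 := by
            rw [Subgroup.inf_relIndex_left]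
            exact le_trans (Nat.le_of_dvd (Nat.pos_of_ne_zero Subgroup.index_ne_zero_of_finite)
              (Subgroup.relIndex_dvd_index_of_normal _ _)) D.index.le
          have hbot : H ⊓ Subgroup.zpowers D.a = ⊥ := (Subgroup.eq_bot_iff_forall _).2 hcon
          rwa [hbot, Subgroup.relIndex_bot_left] at hr
        rcases Nat.lt_or_ge (Nat.card ↥H) 2 with h1 | h1
        · haveI : Subsingleton ↥H :=
            (Nat.card_eq_one_iff_unique.1 (by have := Nat.card_pos (α := ↥H); omega)).1
          infer_instance
        · exact isCyclic_of_prime_card (p := 2) (by omega)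
      obtain ⟨hwH, hwa⟩ := hw
      refine Subgroup.zpowers_le.2 hwH ?_
      have hta : D.t ∈ Subgroup.zpowers D.a := pow_mem (Subgroup.mem_zpowers _) _
      haveI := Fintype.ofFinite ↥(Subgroup.zpowers D.a)
      obtain ⟨e, he⟩ := IsPGroup.iff_orderOf.1 hP w
      have he0 : e ≠ 0 := fun h0 => hw1 (orderOf_eq_one_iff.1 (by rw [he, h0, pow_zero]))
      have hv : orderOf (w ^ 2 ^ (e - 1)) = 2 := by
        rw [orderOf_pow' _ (by positivity), he, Nat.gcd_eq_right (Nat.pow_dvd_pow 2 (Nat.sub_le _ _)),
          Nat.pow_div (Nat.sub_le _ _) two_pos, show e - (e - 1) = 1 by omega, pow_one]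
      have hle := IsCyclic.card_pow_eq_one_le (α := ↥(Subgroup.zpowers D.a)) (n := 2) two_pos
      by_contra hne
      have hsub : ({1, ⟨D.t, hta⟩, ⟨w ^ 2 ^ (e - 1), pow_mem hwa _⟩} :
          Finset ↥(Subgroup.zpowers D.a)) ⊆
            (Finset.univ : Finset ↥(Subgroup.zpowers D.a)).filter (fun a => a ^ 2 = 1) := by
        intro a ha
        simp only [Finset.mem_insert, Finset.mem_singleton] at ha
        rcases ha with rfl | rfl | rfl
        · simp
        · refine Finset.mem_filter.2 ⟨Finset.mem_univ _, Subtype.ext ?_⟩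
          simp only [SubgroupClass.coe_pow, OneMemClass.coe_one]
          exact orderOf_dvd_iff_pow_eq_one.1 (D.order_t hn).dvd
        · refine Finset.mem_filter.2 ⟨Finset.mem_univ _, Subtype.ext ?_⟩
          simp only [SubgroupClass.coe_pow, OneMemClass.coe_one]
          exact orderOf_dvd_iff_pow_eq_one.1 hv.dvd
      have hcard : ({1, ⟨D.t, hta⟩, ⟨w ^ 2 ^ (e - 1), pow_mem hwa _⟩} :
          Finset ↥(Subgroup.zpowers D.a)).card = 3 := by
        rw [Finset.card_eq_three]
        refine ⟨_, _, _, fun h => ?_, fun h => ?_, fun h => hne ?_, rfl⟩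
        · have h' := congrArg Subtype.val h
          have := D.order_t hn
          simp only [OneMemClass.coe_one] at h'
          rw [← h', orderOf_one] at this
          omega
        · have h' := congrArg Subtype.val h
          simp only [OneMemClass.coe_one] at h'
          rw [← h', orderOf_one] at hv
          omega
        · have h' : D.t = w ^ 2 ^ (e - 1) := congrArg Subtype.val h
          rw [h']
          exact pow_mem (Subgroup.mem_zpowers _) _
      have := Finset.card_le_card hsub
      omega
    have hZ : Subgroup.center G ≤ H := by rw [D.center_eq hn, Subgroup.zpowers_le]; exact htH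
    intro c hc
    have hch : h * c = c * h := Subgroup.mem_centralizer_iff.1 hc h hhH
    -- elements of the cyclic subgroup commuting with `h` are central
    have hkey : ∀ y ∈ Subgroup.zpowers D.a, h * y = y * h → y ∈ H := by
      intro y hy hyh
      refine hZ (Subgroup.mem_center_iff.2 fun g => ?_)
      obtain ⟨j, rfl⟩ := Subgroup.mem_zpowers_iff.1 hy
      rcases D.mul_mem_cases h with hh' | ⟨i, rfl⟩
      · exact absurd hh' hh
      have hb : D.b * D.a ^ j = D.a ^ j * D.b := by
        have h1 : D.a ^ i * D.a ^ j = D.a ^ j * D.a ^ i := by rw [← zpow_add, ← zpow_add, add_comm]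
        rw [mul_assoc, h1, ← mul_assoc, ← mul_assoc] at hyh
        exact mul_right_cancel hyh
      rcases D.mul_mem_cases g with hg | ⟨i', rfl⟩
      · obtain ⟨i', rfl⟩ := Subgroup.mem_zpowers_iff.1 hg
        rw [← zpow_add, ← zpow_add, add_comm]
      · rw [mul_assoc, ← zpow_add, add_comm, zpow_add, ← mul_assoc, hb, mul_assoc]
    by_cases hca : c ∈ Subgroup.zpowers D.a
    · exact hkey c hca hch
    · have hmem : h * c ∈ Subgroup.zpowers D.a :=
        (Subgroup.mul_mem_iff_of_index_two D.index).2 ⟨fun h' => absurd h' hh, fun h' => absurd h' hca⟩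
      have := hkey (h * c) hmem (by
        rw [mul_assoc h c h, ← hch])
      simpa using mul_mem (inv_mem hhH) this

end Cfsg.Agent.S3919
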