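import Cfsg.Statements.S3920


set_option autoImplicit false
open Cfsg

namespace Cfsg.Agent.S3920

/-- Say that a group has self-centralizing non-cyclic subgroups when every non-cyclic subgroup H satisfies C_G(H) ≤ H. For n ≥ 3, the dihedral group of order 2n has self-centralizing non-cyclic subgroups if and only if n is odd or a power of 2. -/
theorem result (n : ℕ) (hn : 3 ≤ n) : (∀ H : Subgroup (DihedralGroup n), ¬ IsCyclic ↥H → Subgroup.centralizer (H : Set (DihedralGroup n)) ≤ H) ↔ (Odd n ∨ ∃ k : ℕ, n = 2 ^ k) := by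
  have : NeZero n := ⟨by omega⟩
  constructor
  · intro h
    rcases Nat.even_or_odd n with hev | hodd
    swap
    · exact Or.inl hodd
    right
    obtain ⟨a, k, hk, hn'⟩ := Nat.exists_eq_pow_mul_and_not_dvd (NeZero.ne n) 2 (by norm_num)
    by_cases hk1 : k = 1
    · exact ⟨a, by rw [hn', hk1, mul_one]⟩
    exfalso
    -- a dihedral subgroup of order `2k` is centralized by the central involution
    have ha : a ≠ 0 := by
      rintro rfl
      rw [pow_zero, one_mul] at hn'
      exact hk (hn' ▸ hev.two_dvd)
    have hk2 : 2 < k := by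
      rcases (show k = 0 ∨ k = 2 ∨ 2 < k by omega) with rfl | rfl | h
      · exact absurd (dvd_zero 2) hk
      · exact absurd (dvd_refl 2) hk
      · exact h
    let d : ZMod n := (2 ^ a : ℕ)
    let H : Subgroup (DihedralGroup n) := Subgroup.closure {DihedralGroup.r d, DihedralGroup.sr 0}
    have hc : DihedralGroup.r ((n / 2 : ℕ) : ZMod n) ∈ Subgroup.centralizer (H : Set (DihedralGroup n)) := by
      rw [Subgroup.centralizer_closure, Subgroup.mem_centralizer_iff]
      have h2 : ((n / 2 : ℕ) : ZMod n) + ((n / 2 : ℕ) : ZMod n) = 0 := by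
        rw [← Nat.cast_add, ← two_mul, Nat.mul_div_cancel' hev.two_dvd, ZMod.natCast_self]
      rintro x (rfl | rfl)
      · rw [DihedralGroup.r_mul_r, DihedralGroup.r_mul_r, add_comm]
      · rw [DihedralGroup.sr_mul_r, DihedralGroup.r_mul_sr, zero_add, zero_sub,
          ← eq_neg_of_add_eq_zero_left h2]
    have hnc : ¬ IsCyclic ↥H := by
      intro hcyc
      have h1 : (DihedralGroup.r d : DihedralGroup n) * DihedralGroup.sr 0
          = DihedralGroup.sr 0 * DihedralGroup.r d :=
        congrArg Subtype.val (hcyc.isMulCommutative.is_comm.comm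
          (⟨_, Subgroup.subset_closure (Or.inl rfl)⟩ : ↥H) ⟨_, Subgroup.subset_closure (Or.inr rfl)⟩)
      rw [DihedralGroup.sr_mul_r, DihedralGroup.r_mul_sr, DihedralGroup.sr.injEq, zero_add, zero_sub,
        neg_eq_iff_add_eq_zero] at h1
      simp only [d] at h1
      rw [← Nat.cast_add, ZMod.natCast_eq_zero_iff] at h1
      have h9 := Nat.le_of_dvd (by positivity) h1
      nlinarith [Nat.two_pow_pos a]
    have hmem := h H hnc hc
    -- every element of `H` is `r` or `sr` of a multiple of `2 ^ a`
    have hH : ∀ x ∈ H, ∃ j : ZMod n, x = DihedralGroup.r (d * j) ∨ x = DihedralGroup.sr (d * j) := by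
      intro x hx
      induction hx using Subgroup.closure_induction with
      | mem x hx =>
          rcases hx with rfl | rfl
          · exact ⟨1, Or.inl (by rw [mul_one])⟩
          · exact ⟨0, Or.inr (by rw [mul_zero])⟩
      | one => exact ⟨0, Or.inl (by rw [mul_zero]; rfl)⟩
      | mul x y _ _ ihx ihy =>
          obtain ⟨i, rfl | rfl⟩ := ihx <;> obtain ⟨j, rfl | rfl⟩ := ihy
          · exact ⟨i + j, Or.inl (by rw [DihedralGroup.r_mul_r, mul_add])⟩
          · exact ⟨j - i, Or.inr (by rw [DihedralGroup.r_mul_sr, mul_sub])⟩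
          · exact ⟨i + j, Or.inr (by rw [DihedralGroup.sr_mul_r, mul_add])⟩
          · exact ⟨j - i, Or.inl (by rw [DihedralGroup.sr_mul_sr, mul_sub])⟩
      | inv x _ ih =>
          obtain ⟨i, rfl | rfl⟩ := ih
          · exact ⟨-i, Or.inl (by rw [DihedralGroup.inv_r, mul_neg])⟩
          · exact ⟨i, Or.inr (by rw [DihedralGroup.inv_sr])⟩
    obtain ⟨j, hj | hj⟩ := hH _ hmem
    · rw [DihedralGroup.r.injEq] at hj
      have hdvd : (2 ^ a : ℕ) ∣ n / 2 := by
        have h2 : ((2 ^ a : ℕ) : ℤ) ∣ ((n / 2 : ℕ) : ℤ) := by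
          have h3 : (((n / 2 : ℕ) : ℤ) : ZMod n) = (((2 ^ a : ℕ) : ℤ) * (j.val : ℤ) : ℤ) := by
            push_cast
            rw [ZMod.natCast_val, ZMod.cast_id]
            exact_mod_cast hj
          rw [ZMod.intCast_eq_intCast_iff_dvd_sub] at h3
          have h4 : ((2 ^ a : ℕ) : ℤ) ∣ (n : ℤ) := by exact_mod_cast (hn' ▸ dvd_mul_right _ k : 2 ^ a ∣ n)
          have h5 := (h4.trans h3)
          have h6 : ((2 ^ a : ℕ) : ℤ) ∣ ((2 ^ a : ℕ) : ℤ) * (j.val : ℤ) := dvd_mul_right _ _
          exact (dvd_sub_right h6).1 h5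
        exact_mod_cast h2
      obtain ⟨c, hc'⟩ := hdvd
      have h7 : n = 2 ^ a * (2 * c) := by
        rw [mul_comm 2 c, ← mul_assoc, ← hc', Nat.div_mul_cancel hev.two_dvd]
      have h8 : k = 2 * c := Nat.eq_of_mul_eq_mul_left (Nat.two_pow_pos a) (hn'.symm.trans h7)
      exact hk ⟨c, h8⟩
    · cases hj
  · intro hn' H hH c hc
    have hc' := Subgroup.mem_centralizer_iff.1 hc
    -- `H` contains a reflection
    obtain ⟨i, hi⟩ : ∃ i, DihedralGroup.sr i ∈ H := by
      by_contra hno
      push Not at hno
      apply hH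
      have hle : H ≤ Subgroup.zpowers (DihedralGroup.r 1) := by
        intro x hx
        cases x with
        | r j => exact ⟨(j.val : ℤ), by simp⟩
        | sr j => exact absurd hx (hno j)
      exact isCyclic_of_injective (Subgroup.inclusion hle) (Subgroup.inclusion_injective hle)
    -- and a nontrivial rotation
    obtain ⟨j, hj0, hj⟩ : ∃ j : ZMod n, j ≠ 0 ∧ DihedralGroup.r j ∈ H := by
      by_contra hno
      push Not at hno
      apply hH
      refine ⟨⟨⟨_, hi⟩, fun ⟨x, hx⟩ => ?_⟩⟩
      cases x with
      | r j =>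
          have : j = 0 := by by_contra h; exact hno j h hx
          subst this
          exact ⟨0, Subtype.ext (by simp)⟩
      | sr j =>
          have h1 : DihedralGroup.r (j - i) ∈ H := by
            rw [← DihedralGroup.sr_mul_sr]; exact mul_mem hi hx
          have : j - i = 0 := by by_contra h; exact hno _ h h1
          rw [sub_eq_zero] at this
          subst this
          exact ⟨1, Subtype.ext (by simp)⟩
    -- every solution of `2 t = 0` is a rotation in `H`
    have hhalf : ∀ t : ZMod n, t + t = 0 → DihedralGroup.r t ∈ H := by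
      intro t ht
      by_cases ht0 : t = 0
      · subst ht0
        exact (DihedralGroup.r_zero (n := n)) ▸ one_mem H
      rcases hn' with hodd | ⟨m, hm⟩
      · exfalso
        apply ht0
        have h1 : n ∣ 2 * t.val := by
          rw [← ZMod.natCast_eq_zero_iff, Nat.cast_mul, ZMod.natCast_val, ZMod.cast_id,
            Nat.cast_ofNat, two_mul, ht]
        have h2 := (Nat.Coprime.dvd_of_dvd_mul_left hodd.coprime_two_right h1)
        rw [← ZMod.natCast_eq_zero_iff, ZMod.natCast_val, ZMod.cast_id] at h2
        exact h2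
      · subst hm
        -- write `j = 2 ^ e * odd`
        obtain ⟨e, o, ho, hjeo⟩ := Nat.exists_eq_pow_mul_and_not_dvd
          (n := j.val) (fun h => hj0 ((ZMod.val_eq_zero j).1 h)) 2 (by norm_num)
        have hem : e < m := by
          by_contra hge
          push Not at hge
          have := j.val_lt
          rw [hjeo] at this
          have h1 : 2 ^ m ≤ 2 ^ e := Nat.pow_le_pow_right two_pos hge
          have h2 : 0 < o := Nat.pos_of_ne_zero fun h => ho (h ▸ dvd_zero 2)
          nlinarith
        have htv : 2 ^ m ∣ 2 * t.val := by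
          rw [← ZMod.natCast_eq_zero_iff, Nat.cast_mul, ZMod.natCast_val, ZMod.cast_id,
            Nat.cast_ofNat, two_mul, ht]
        have htne : t.val ≠ 0 := fun h => ht0 ((ZMod.val_eq_zero t).1 h)
        have htv' : t.val = 2 ^ (m - 1) := by
          obtain ⟨q, hq⟩ := htv
          have h2 := t.val_lt
          have hm1 : 2 ^ m = 2 * 2 ^ (m - 1) := by
            rw [← pow_succ', Nat.sub_add_cancel (by omega)]
          rcases Nat.lt_or_ge q 2 with hq2 | hq2
          · rcases (show q = 0 ∨ q = 1 by omega) with rfl | rfl <;> omega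
          · have := Nat.mul_le_mul_left (2 ^ m) hq2
            omega
        have hjt : (2 ^ (m - 1 - e) : ℕ) • j = t := by
          rw [nsmul_eq_mul, ← ZMod.natCast_zmod_val j, ← ZMod.natCast_zmod_val t, ← Nat.cast_mul,
            hjeo, htv', ← mul_assoc, ← pow_add, show m - 1 - e + e = m - 1 by omega]
          obtain ⟨q, hq⟩ : Odd o := Nat.odd_iff.2 (by omega)
          rw [hq, mul_add, mul_one, Nat.cast_add, ← mul_assoc, ← pow_succ,
            Nat.sub_add_cancel (by omega), Nat.cast_mul, ZMod.natCast_self, zero_mul, zero_add]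
        have hpow : ∀ s : ℕ, DihedralGroup.r (s • j) = (DihedralGroup.r j : DihedralGroup (2 ^ m)) ^ s := by
          intro s
          induction s with
          | zero => rw [pow_zero, zero_nsmul, DihedralGroup.r_zero]
          | succ s ih => rw [pow_succ, ← ih, DihedralGroup.r_mul_r, succ_nsmul]
        rw [← hjt, hpow]
        exact pow_mem hj _
    cases c with
    | r l =>
        have h1 := hc' _ hi
        rw [DihedralGroup.sr_mul_r, DihedralGroup.r_mul_sr, DihedralGroup.sr.injEq] at h1
        exact hhalf l (by linear_combination h1)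
    | sr l =>
        have h1 := hc' _ hi
        rw [DihedralGroup.sr_mul_sr, DihedralGroup.sr_mul_sr, DihedralGroup.r.injEq] at h1
        have h2 := mul_mem hi (hhalf (l - i) (by linear_combination h1))
        rwa [DihedralGroup.sr_mul_r, add_sub_cancel] at h2

end Cfsg.Agent.S3920
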