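import Cfsg.Statements.S3921
import Cfsg.Agent.SelfCentNonCyclic.Forward
import Cfsg.Agent.SelfCentNonCyclic.Backward

set_option autoImplicit false
open Cfsg

namespace Cfsg.Agent.S3921

/-- Say that a group has self-centralizing non-cyclic subgroups when every non-cyclic subgroup H satisfies C_G(H) ≤ H. A non-abelian finite simple group has self-centralizing non-cyclic subgroups if and only if it is isomorphic to PSL₂(q) with q = 4, q = 9, or q a prime of the form 2^k + 1 or 2^k − 1. -/
theorem result {G : Type*} [Group G] [Finite G] [IsSimpleGroup G] (hna : ¬ IsMulCommutative G) :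
    (∀ H : Subgroup G, ¬ IsCyclic ↥H → Subgroup.centralizer (H : Set G) ≤ H) ↔ ∃ (F : Type) (_ : Field F) (_ : Fintype F),
      (Fintype.card F = 4 ∨ Fintype.card F = 9 ∨ ((Fintype.card F).Prime ∧ ∃ k : ℕ, Fintype.card F = 2 ^ k + 1 ∨ Fintype.card F = 2 ^ k - 1)) ∧
      Nonempty (G ≃* Matrix.ProjectiveSpecialLinearGroup (Fin 2) F) := by
  constructor
  · intro h
    obtain ⟨F, i1, i2, hodd, ⟨e⟩, t, ht, hC⟩ :=
      CfsgLib.SelfCentNonCyclic.exists_equiv_psl hna h
    refine ⟨F, i1, i2, Or.inr ?_, ⟨e⟩⟩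
    refine CfsgLib.SelfCentNonCyclic.card_field hodd (e t) ((e.orderOf_eq t).trans ht) ?_
    intro y
    have hy : e.symm (y : Matrix.ProjectiveSpecialLinearGroup (Fin 2) F) ∈
        Subgroup.centralizer ({t} : Set G) := by
      rw [Subgroup.mem_centralizer_singleton_iff]
      apply e.injective
      rw [map_mul, map_mul, e.apply_symm_apply]
      exact Subgroup.mem_centralizer_singleton_iff.1 y.2
    obtain ⟨k, hk⟩ := hC ⟨_, hy⟩
    refine ⟨k, Subtype.ext ?_⟩
    have hk' := congrArg Subtype.val hk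
    simp only [SubgroupClass.coe_pow, OneMemClass.coe_one] at hk' ⊢
    rw [← map_pow, map_eq_one_iff e.symm e.symm.injective] at hk'
    exact hk'
  · rintro ⟨F, i1, i2, hq, ⟨e⟩⟩
    exact (CfsgLib.SelfCentNonCyclic.selfCent_psl hq).of_equiv e.symm

end Cfsg.Agent.S3921
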