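import Cfsg.Statements.S3930
import Cfsg.Agent.Pyramidal.Main

set_option autoImplicit false
open Cfsg

namespace Cfsg.Agent.S3930

/-- Call a finite group m-pyramidal when it has exactly m involutions and they form a single conjugacy class. Let p be an odd prime and k ≥ 1. Then every p^k-pyramidal finite group is solvable if and only if k is odd or p^k = 9. -/
theorem result (p k : ℕ) (hp : p.Prime) (hp2 : p ≠ 2) (hk : 1 ≤ k) :
    (∀ (G : Type) [Group G] [Finite G], Nat.card {x : G // orderOf x = 2} = p ^ k →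
      (∀ x y : G, orderOf x = 2 → orderOf y = 2 → ∃ g : G, g * x * g⁻¹ = y) → Group.IsSolvable G) ↔ (Odd k ∨ p ^ k = 9) := by
  constructor
  · intro h
    by_contra hc
    push Not at hc
    obtain ⟨hk2, h9⟩ := hc
    obtain ⟨d, hd⟩ := Nat.not_odd_iff_even.1 hk2
    subst hd
    have hd0 : d ≠ 0 := by omega
    have h3 : p ^ d ≠ 3 := fun h3 => h9 (by rw [pow_add, h3]; norm_num)
    obtain ⟨G, hG, hfin, hcard, hone, hns⟩ :=
      CfsgLib.Pyramidal.exists_not_solvable_pyramidal p d hp hp2 hd0 h3
    exact hns (@h G hG hfin (hcard.trans (by rw [two_mul])) hone)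
  · intro hkk G _ _ hcard hone
    exact CfsgLib.Pyramidal.isSolvable_of_pyramidal hp hp2 hk hkk G hcard hone

end Cfsg.Agent.S3930
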