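import Cfsg.Statements.S3933
import Cfsg.Agent.Characters.Burnside

set_option autoImplicit false
open Cfsg

universe u

namespace Cfsg.Agent.S3933

open scoped Pointwise in
open MulAction Subgroup in
/-- If `n_s` is a power of `t`, a subgroup of index prime to `s` and `t` contains all Sylow
`s`-subgroups. -/
theorem sylow_le_of_coprime_index {G : Type u} [Group G] [Finite G] {s t c : ℕ} [Fact s.Prime]
    [Fact t.Prime] (hs : Nat.card (Sylow s G) = t ^ c) (H : Subgroup G) (hsH : ¬ s ∣ H.index)
    (htH : ¬ t ∣ H.index) (S : Sylow s G) : (S : Subgroup G) ≤ H := by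
  have full : ∀ (ℓ : ℕ) [Fact ℓ.Prime], ¬ ℓ ∣ H.index →
      ∃ L : Sylow ℓ G, (L : Subgroup G) ≤ H := by
    intro ℓ _ hℓ
    obtain ⟨P⟩ := Sylow.nonempty (p := ℓ) (G := H)
    have hcard : Nat.card ((P : Subgroup H).map H.subtype) = ℓ ^ (Nat.card G).factorization ℓ := by
      rw [← Nat.card_congr (equivMapOfInjective _ _ H.subtype_injective).toEquiv,
        P.card_eq_multiplicity, ← H.index_mul_card,
        Nat.factorization_mul H.index_ne_zero_of_finite Nat.card_pos.ne']
      simp [Nat.factorization_eq_zero_of_not_dvd hℓ]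
    exact ⟨Sylow.ofCard _ hcard, by rw [Sylow.coe_ofCard]; exact map_subtype_le _⟩
  obtain ⟨S₀, hS₀⟩ := full s hsH
  obtain ⟨T, hT⟩ := full t htH
  have horb : orbit (T : Subgroup G) S₀ = Set.univ := by
    refine Set.eq_of_subset_of_ncard_le (Set.subset_univ _) ?_ Set.finite_univ
    rw [Set.ncard_univ, hs, ← index_stabilizer]
    set K := stabilizer (T : Subgroup G) S₀ with hK
    obtain ⟨e, he⟩ : ∃ e, Nat.card (T : Subgroup G) = t ^ e := IsPGroup.iff_card.mp T.2
    obtain ⟨i, -, hi⟩ := (Nat.dvd_prime_pow (Fact.out : t.Prime)).mp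
      (he ▸ K.card_subgroup_dvd_card)
    have hidx : K.index * t ^ i = t ^ e := by rw [← hi, ← he, index_mul_card]
    have hmap : K.map (T : Subgroup G).subtype ≤ stabilizer G S₀ := by
      rintro _ ⟨y, hy, rfl⟩
      exact hy
    have hd : t ^ i * t ^ c ∣ Nat.card G := by
      rw [← (stabilizer G S₀).index_mul_card, mul_comm]
      refine mul_dvd_mul (by rw [Sylow.stabilizer_eq_normalizer, ← S₀.card_eq_index_normalizer, hs]) ?_
      rw [← hi, Nat.card_congr (equivMapOfInjective K _ (T : Subgroup G).subtype_injective).toEquiv]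
      exact card_dvd_of_le hmap
    rw [← pow_add] at hd
    have hle := (Nat.Prime.pow_dvd_iff_le_factorization Fact.out Nat.card_pos.ne').mp hd
    rw [T.card_eq_multiplicity] at he
    have hef : (Nat.card G).factorization t = e :=
      Nat.pow_right_injective (Fact.out : t.Prime).two_le he
    refine Nat.le_of_mul_le_mul_right ?_ (pow_pos (Fact.out : t.Prime).pos i)
    rw [hidx, ← pow_add]
    exact Nat.pow_le_pow_right (Fact.out : t.Prime).pos (by omega)
  obtain ⟨y, hy⟩ : S ∈ orbit (T : Subgroup G) S₀ := horb ▸ Set.mem_univ S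
  intro x hx
  rw [← hy] at hx
  have hx' : x ∈ (MulAut.conj (y : G) • (S₀ : Subgroup G) : Subgroup G) := hx
  obtain ⟨z, hz, rfl⟩ := hx'
  show (y : G) * z * (y : G)⁻¹ ∈ H
  exact H.mul_mem (H.mul_mem (hT y.2) (hS₀ hz)) (H.inv_mem (hT y.2))

theorem card_sylow_quotient_dvd {G : Type u} [Group G] [Finite G] (N : Subgroup G) [N.Normal]
    (r : ℕ) [Fact r.Prime] : Nat.card (Sylow r (G ⧸ N)) ∣ Nat.card (Sylow r G) := by
  obtain ⟨P⟩ := Sylow.nonempty (p := r) (G := G)
  let P' := P.mapSurjective (QuotientGroup.mk'_surjective N)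
  rw [P.card_eq_index_normalizer, P'.card_eq_index_normalizer]
  show (Subgroup.normalizer (((P : Subgroup G).map (QuotientGroup.mk' N) : Subgroup (G ⧸ N)) : Set (G ⧸ N))).index ∣ _
  refine (Subgroup.index_dvd_of_le (Subgroup.le_normalizer_map (QuotientGroup.mk' N))).trans ?_
  exact Subgroup.index_map_dvd _ (QuotientGroup.mk'_surjective N)

theorem relIndex_dvd_index_of_normal_right {G : Type u} [Group G] [Finite G] (M N : Subgroup G)
    [N.Normal] : M.relIndex N ∣ M.index := by
  have e1 := Subgroup.relIndex_mul_relIndex ⊥ (M ⊓ N) N bot_le inf_le_right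
  have e2 := Subgroup.relIndex_mul_relIndex ⊥ (N ⊓ M) M bot_le inf_le_right
  have e3 := Subgroup.relIndex_mul_relIndex ⊥ M (M ⊔ N) bot_le le_sup_left
  have e4 := Subgroup.relIndex_mul_relIndex ⊥ N (M ⊔ N) bot_le le_sup_right
  simp only [Subgroup.relIndex_bot_left, Subgroup.inf_relIndex_right,
    Subgroup.relIndex_sup_right] at e1 e2 e3 e4
  rw [inf_comm N M] at e2
  have key : M.relIndex N = M.relIndex (M ⊔ N) := by
    refine Nat.eq_of_mul_eq_mul_left
      (show 0 < Nat.card (M ⊓ N : Subgroup G) * N.relIndex M from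
        e2.symm ▸ Nat.card_pos) ?_
    calc Nat.card (M ⊓ N : Subgroup G) * N.relIndex M * M.relIndex N
        = Nat.card (M ⊓ N : Subgroup G) * M.relIndex N * N.relIndex M := by ring
      _ = Nat.card M * M.relIndex (M ⊔ N) := by rw [e1, e4, e3]
      _ = _ := by rw [e2]
  rw [key]
  exact Subgroup.relIndex_dvd_index_of_le le_sup_left

theorem card_sylow_normal_dvd {G : Type u} [Group G] [Finite G] (N : Subgroup G) [N.Normal]
    (r : ℕ) [Fact r.Prime] : Nat.card (Sylow r N) ∣ Nat.card (Sylow r G) := by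
  obtain ⟨P⟩ := Sylow.nonempty (p := r) (G := N)
  obtain ⟨S, hS⟩ := Sylow.exists_comap_subtype_eq P
  rw [P.card_eq_index_normalizer, S.card_eq_index_normalizer]
  have hle : (Subgroup.normalizer ((S : Subgroup G) : Set G)).subgroupOf N ≤
      Subgroup.normalizer ((P : Subgroup N) : Set N) := by
    rw [← hS]
    intro x hx
    rw [Subgroup.mem_subgroupOf, Subgroup.mem_normalizer_iff] at hx
    rw [Subgroup.mem_normalizer_iff]
    intro y
    simpa [Subgroup.mem_subgroupOf] using hx (y : G)
  refine (Subgroup.index_dvd_of_le hle).trans ?_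
  show (Subgroup.normalizer ((S : Subgroup G) : Set G)).relIndex N ∣ _
  exact relIndex_dvd_index_of_normal_right _ N

theorem main : ∀ n : ℕ, ∀ (G : Type u) [Group G] [Finite G], Nat.card G = n →
    (∀ r : ℕ, r.Prime → ∃ q a, q.Prime ∧ Nat.card (Sylow r G) = q ^ a) →
    Group.IsSolvable G := by
  intro n
  induction n using Nat.strong_induction_on with
  | _ n ih =>
    intro G _ _ hn h
    rcases subsingleton_or_nontrivial G with hG | hG
    · infer_instance
    by_cases hsimple : ∃ N : Subgroup G, N.Normal ∧ N ≠ ⊥ ∧ N ≠ ⊤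
    · obtain ⟨N, hN, hb, ht⟩ := hsimple
      have h1 : Nat.card N < n := hn ▸ lt_of_le_of_ne (Subgroup.card_le_card_group N) (fun e => ht (N.card_eq_iff_eq_top.mp e))
      have h2 : Nat.card (G ⧸ N) < n := by
        rw [← hn, Subgroup.card_eq_card_quotient_mul_card_subgroup N]
        exact lt_mul_of_one_lt_right Nat.card_pos (N.one_lt_card_iff_ne_bot.mpr hb)
      have hd : ∀ r d, r.Prime → d ∣ Nat.card (Sylow r G) →
          ∃ q a, q.Prime ∧ d = q ^ a := by
        intro r d hr hd
        obtain ⟨q, a, hq, e⟩ := h r hr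
        rw [e] at hd
        obtain ⟨b, -, rfl⟩ := (Nat.dvd_prime_pow hq).mp hd
        exact ⟨q, b, hq, rfl⟩
      haveI := ih _ h1 N rfl fun r hr =>
        haveI := Fact.mk hr; hd r _ hr (card_sylow_normal_dvd N r)
      haveI := ih _ h2 (G ⧸ N) rfl fun r hr =>
        haveI := Fact.mk hr; hd r _ hr (card_sylow_quotient_dvd N r)
      exact Group.isSolvable_of_ker_le_range N.subtype (QuotientGroup.mk' N)
        (by rw [QuotientGroup.ker_mk', Subgroup.range_subtype])
    push Not at hsimple
    by_cases hsylow : ∃ r, r.Prime ∧ r ∣ Nat.card G ∧ Nat.card (Sylow r G) = 1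
    · obtain ⟨r, hr, hrd, h1⟩ := hsylow
      haveI := Fact.mk hr
      obtain ⟨P⟩ := Sylow.nonempty (p := r) (G := G)
      haveI : Subsingleton (Sylow r G) := (Nat.card_eq_one_iff_unique.mp h1).1
      have hP : (P : Subgroup G) = ⊤ :=
        hsimple _ (P.normal_of_subsingleton) (P.ne_bot_of_dvd_card hrd)
      have hG' : IsPGroup r G := by
        have := P.2
        rw [hP] at this
        exact this.of_equiv Subgroup.topEquiv
      haveI := hG'.isNilpotent
      infer_instance
    push Not at hsylow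
    have key : ∀ r, r.Prime → r ∣ Nat.card G → ∃ q, q.Prime ∧ q ≠ r ∧ q ∣ Nat.card G ∧
        ∃ a, Nat.card (Sylow r G) = q ^ a := by
      intro r hr hrd
      haveI := Fact.mk hr
      obtain ⟨q, a, hq, e⟩ := h r hr
      have ha : a ≠ 0 := fun h0 => hsylow r hr hrd (by rw [e, h0, pow_zero])
      have hqd : q ∣ Nat.card (Sylow r G) := e ▸ dvd_pow_self q ha
      refine ⟨q, hq, fun hqr => ?_, ?_, a, e⟩
      · exact hr.not_dvd_one ((Nat.modEq_zero_iff_dvd.mp
          ((card_sylow_modEq_one r G).symm.trans (Nat.modEq_zero_iff_dvd.mpr (hqr ▸ hqd)))))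
      · obtain ⟨P⟩ := Sylow.nonempty (p := r) (G := G)
        exact hqd.trans (P.card_eq_index_normalizer ▸ Subgroup.index_dvd_card _)
    -- two primes cannot both avoid the index of a Sylow normalizer
    have excl : ∀ r q a s t, r.Prime → r ∣ Nat.card G → q.Prime →
        Nat.card (Sylow r G) = q ^ a → s.Prime → s ∣ Nat.card G → t.Prime →
        (∃ c, Nat.card (Sylow s G) = t ^ c) → s ≠ q → t ≠ q → False := by
      intro r q a s t hr hrd hq hra hs hsd ht hst hsq htq
      haveI := Fact.mk hr; haveI := Fact.mk hs; haveI := Fact.mk ht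
      obtain ⟨c, hc⟩ := hst
      obtain ⟨P⟩ := Sylow.nonempty (p := r) (G := G)
      set H := Subgroup.normalizer (P : Set G) with hH
      have hidx : H.index = q ^ a := by rw [hH, ← P.card_eq_index_normalizer, hra]
      have hnd : ∀ ℓ, ℓ.Prime → ℓ ≠ q → ¬ ℓ ∣ H.index := fun ℓ hℓ hne hd =>
        hne ((Nat.prime_dvd_prime_iff_eq hℓ hq).mp (hℓ.dvd_of_dvd_pow (hidx ▸ hd)))
      have hle := sylow_le_of_coprime_index hc H (hnd s hs hsq) (hnd t ht htq)
      obtain ⟨S⟩ := Sylow.nonempty (p := s) (G := G)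
      have hsup : (⨆ T : Sylow s G, (T : Subgroup G)) ≤ H := iSup_le hle
      have hnorm : (⨆ T : Sylow s G, (T : Subgroup G)).Normal := by
        refine ⟨fun x hx g => ?_⟩
        have e : (⨆ T : Sylow s G, (T : Subgroup G)).map (MulAut.conj g).toMonoidHom
            ≤ ⨆ T : Sylow s G, (T : Subgroup G) := by
          rw [Subgroup.map_iSup]
          exact iSup_le fun T => le_iSup_of_le (g • T) le_rfl
        exact e ⟨x, hx, rfl⟩
      have htop := hsimple _ hnorm (fun hb => S.ne_bot_of_dvd_card hsd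
        (le_bot_iff.mp (hb ▸ le_iSup (fun T : Sylow s G => (T : Subgroup G)) S)))
      have hHt : H = ⊤ := top_le_iff.mp (htop ▸ hsup)
      refine hsylow r hr hrd ?_
      rw [P.card_eq_index_normalizer, ← hH, hHt, Subgroup.index_top]
    obtain ⟨r, hr, hrd⟩ := Nat.exists_prime_and_dvd (Finite.one_lt_card (α := G)).ne'
    obtain ⟨q, hq, -, hqd, a, hra⟩ := key r hr hrd
    obtain ⟨u, hu, huq, hud, b, hqb⟩ := key q hq hqd
    refine CfsgLib.Characters.isSolvable_of_card_eq_primePow_mul q u (Nat.card G) (Nat.card G) hq hu ?_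
    rw [Nat.dvd_iff_prime_pow_dvd_dvd]
    intro s k hs hk
    have hkn : k ≤ Nat.card G :=
      (Nat.lt_pow_self hs.one_lt).le.trans (Nat.le_of_dvd Nat.card_pos hk)
    rcases Nat.eq_zero_or_pos k with rfl | hk0
    · simp
    have hsd : s ∣ Nat.card G := (dvd_pow_self s hk0.ne').trans hk
    by_cases hsq : s = q
    · subst hsq; exact (pow_dvd_pow s hkn).mul_right _
    by_cases hsu : s = u
    · subst hsu; exact (pow_dvd_pow s hkn).mul_left _
    exfalso
    obtain ⟨t, ht, -, -, hst⟩ := key s hs hsd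
    have h1 : t = q := by
      by_contra h1
      exact excl r q a s t hr hrd hq hra hs hsd ht hst hsq h1
    have h2 : t = u := by
      by_contra h2
      exact excl q u b s t hq hqd hu hqb hs hsd ht hst hsu h2
    exact huq (h2.symm.trans h1)

/-- If every Sylow number is a prime power or one then the group is solvable. -/
theorem result {G : Type*} [Group G] [Finite G] (h : ∀ (r : ℕ) [Fact r.Prime], Nat.card (Sylow r G) = 1 ∨ IsPrimePow (Nat.card (Sylow r G))) :
    Group.IsSolvable G := by
  refine main _ G rfl fun r hr => ?_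
  haveI := Fact.mk hr
  rcases h r with h1 | h1
  · exact ⟨2, 0, Nat.prime_two, by rw [h1, pow_zero]⟩
  · obtain ⟨q, a, hq, -, e⟩ := (isPrimePow_nat_iff _).mp h1
    exact ⟨q, a, hq, e.symm⟩

end Cfsg.Agent.S3933
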