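import Cfsg.Statements.S3937

import Cfsg.Agent.Subnormal.Zipper
import Cfsg.Agent.S3743
import Cfsg.Agent.Solvable.Nilpotent
import Cfsg.Agent.Solvable.Fitting

set_option autoImplicit false
open Cfsg

namespace Cfsg.Agent.S3937

open Subgroup
open scoped commutatorElement

universe u

/-- The Engel word. -/
abbrev engel {G : Type u} [Group G] (g x : G) (n : ℕ) : G :=
  (List.replicate n g).foldl (fun a b => a * b * a⁻¹ * b⁻¹) x

theorem engel_succ {G : Type u} [Group G] (g x : G) (n : ℕ) :
    engel g x (n + 1) = engel g x n * g * (engel g x n)⁻¹ * g⁻¹ := by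
  simp [engel, List.replicate_succ', List.foldl_append]

theorem map_engel {G H : Type u} [Group G] [Group H] (f : G →* H) (g x : G) (n : ℕ) :
    f (engel g x n) = engel (f g) (f x) n := by
  induction n with
  | zero => rfl
  | succ n ih => rw [engel_succ, engel_succ, ← ih]; simp

theorem main : ∀ n : ℕ, ∀ (G : Type u) [Group G] [Finite G], Nat.card G = n → ∀ g : G,
    (∀ x : G, ∃ k, engel g x k = 1) → g ∈ Cfsg.fittingSubgroup G := by
  intro n
  induction n using Nat.strong_induction_on with
  | _ n ih =>
    intro G _ _ hn g hg
    set A := zpowers g with hA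
    suffices hsn : A.IsSubnormal from
      Cfsg.Agent.S3743.le_fitting hsn (open scoped IsMulCommutative in inferInstance) (mem_zpowers g)
    have hsub : ∀ H : Subgroup G, A ≤ H → H ≠ ⊤ → (A.subgroupOf H).IsSubnormal := by
      intro H hAH hH
      have hgH : g ∈ H := hAH (mem_zpowers g)
      have hlt : Nat.card H < n := hn ▸ lt_of_le_of_ne (Subgroup.card_le_card_group H)
        (fun e => hH (H.card_eq_iff_eq_top.mp e))
      have hF := ih _ hlt H rfl ⟨g, hgH⟩ fun x => by
        obtain ⟨k, hk⟩ := hg x
        exact ⟨k, H.subtype_injective (by rw [map_engel, map_one]; exact hk)⟩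
      haveI := CfsgLib.Solvable.fittingSubgroup_normal (G := H)
      haveI := CfsgLib.Solvable.fittingSubgroup_isNilpotent (G := H)
      have e : A.subgroupOf H = zpowers (⟨g, hgH⟩ : H) := by
        rw [hA]
        ext y
        rw [mem_subgroupOf, mem_zpowers_iff, mem_zpowers_iff]
        exact exists_congr fun k =>
          ⟨fun h => Subtype.ext (by rw [SubgroupClass.coe_zpow]; exact h), fun h => by rw [← h]; rfl⟩
      rw [e]
      exact IsSubnormal.trans (zpowers_le.mpr hF)
        (CfsgLib.Solvable.isNilpotent_iff_forall_isSubnormal.mp inferInstance _)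
        (Normal.isSubnormal inferInstance)
    by_contra hnot
    obtain ⟨M, ⟨hM, hAM⟩, huniq⟩ := CfsgLib.SubnormalZipper.existsUnique_maximal hsub hnot
    have hNM : normalizer (M : Set G) = M := by
      refine le_antisymm ?_ le_normalizer
      rcases hM.le_iff.mp (le_normalizer (H := M)) with h | h
      · exfalso
        exact hnot (IsSubnormal.trans hAM (hsub M hAM hM.1)
          (Normal.isSubnormal (normalizer_eq_top_iff.mp h)))
      · exact h.le
    obtain ⟨x, hx⟩ : ∃ x : G, x * g * x⁻¹ ∉ M := by
      by_contra hall
      push Not at hall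
      have hle : normalClosure {g} ≤ M := by
        refine (closure_le _).mpr fun y hy => ?_
        obtain ⟨w, hw, hwy⟩ := Group.mem_conjugatesOfSet_iff.mp hy
        rw [Set.mem_singleton_iff] at hw
        subst hw
        obtain ⟨c, hc⟩ := isConj_iff.mp hwy
        exact hc ▸ hall c
      have hAN : A ≤ normalClosure {g} := zpowers_le.mpr (subset_normalClosure rfl)
      refine hnot (IsSubnormal.trans hAN (hsub _ hAN fun h => hM.1 (top_le_iff.mp (h ▸ hle)))
        (Normal.isSubnormal inferInstance))
    have key : ∀ k, engel g x k * g * (engel g x k)⁻¹ ∉ M := by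
      intro k
      induction k with
      | zero => exact hx
      | succ k ihk =>
        intro hk
        set c := engel g x k * g * (engel g x k)⁻¹ with hc
        have hk' : c * g * c⁻¹ ∈ M := by
          have e : engel g x (k + 1) = c * g⁻¹ := engel_succ g x k
          rw [e] at hk
          convert hk using 1
          group
        have hMc : M.map (MulAut.conj c⁻¹).toMonoidHom = M := by
          refine huniq _ ⟨?_, ?_⟩
          · exact ((MulEquiv.mapSubgroup (MulAut.conj c⁻¹ : G ≃* G)).isCoatom_iff M).mpr hM
          · exact zpowers_le.mpr ⟨c * g * c⁻¹, hk', by simp [mul_assoc]⟩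
        have : c⁻¹ ∈ normalizer (M : Set G) := by
          rw [mem_normalizer_iff]
          intro y
          constructor
          · intro hy
            rw [← hMc]
            exact ⟨y, hy, by simp⟩
          · intro hy
            rw [← hMc] at hy
            obtain ⟨w, hw, e⟩ := hy
            have : w = y := (MulAut.conj c⁻¹).injective (by simpa using e)
            exact this ▸ hw
        rw [hNM] at this
        exact ihk (by simpa using M.inv_mem this)
    obtain ⟨k, hk⟩ := hg x
    exact key k (by rw [hk]; simpa using hAM (mem_zpowers g))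

theorem engel_of_mem {G : Type u} [Group G] [Finite G] {g : G} (hg : g ∈ Cfsg.fittingSubgroup G)
    (x : G) : ∃ k, engel g x k = 1 := by
  haveI := CfsgLib.Solvable.fittingSubgroup_normal (G := G)
  haveI := CfsgLib.Solvable.fittingSubgroup_isNilpotent (G := G)
  set F := Cfsg.fittingSubgroup G
  obtain ⟨k, hk⟩ := Subgroup.nilpotent_iff_lowerCentralSeries.mp
    (inferInstance : Group.IsNilpotent F)
  have key : ∀ i, ∃ y : F, y ∈ (⊤ : Subgroup F).lowerCentralSeries i ∧
      engel g x (i + 1) = (y : G) := by
    intro i
    induction i with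
    | zero =>
      refine ⟨⟨engel g x 1, ?_⟩, ?_, rfl⟩
      · rw [engel_succ]
        exact F.mul_mem ((inferInstance : F.Normal).conj_mem g hg _) (F.inv_mem hg)
      · rw [Subgroup.lowerCentralSeries_zero]; exact mem_top _
    | succ i ih =>
      obtain ⟨y, hy, e⟩ := ih
      refine ⟨⁅y, ⟨g, hg⟩⁆, ?_, ?_⟩
      · rw [Subgroup.mem_lowerCentralSeries_succ_iff]
        exact subset_closure ⟨y, hy, _, mem_top _, rfl⟩
      · rw [engel_succ, e, commutatorElement_def]
        rfl
  obtain ⟨y, hy, e⟩ := key k
  rw [hk, mem_bot] at hy
  exact ⟨k + 1, by rw [e, hy]; rfl⟩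

/-- Baer's characterization of the Fitting subgroup: in a finite group G, an element g lies in the Fitting subgroup if and only if g is a left Engel element, that is, for every x there is n with [x, g, g, …, g] = 1 (n entries g, [a, b] = aba⁻¹b⁻¹). -/
theorem result {G : Type*} [Group G] [Finite G] (g : G) :
    g ∈ Cfsg.fittingSubgroup G ↔ ∀ x : G, ∃ n : ℕ, (List.replicate n g).foldl (fun a b => a * b * a⁻¹ * b⁻¹) x = 1 := by
  exact ⟨fun hg x => engel_of_mem hg x, main _ G rfl g⟩

end Cfsg.Agent.S3937
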