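import Cfsg.Statements.S3939

import Cfsg.Agent.S3937
import Cfsg.Agent.NilpotentCover.Basic

set_option autoImplicit false
open Cfsg

namespace Cfsg.Agent.S3939

open Subgroup

/-- With trivial centre only the identity generates nilpotent subgroups with every element. -/
theorem eq_one_of_center {G : Type*} [Group G] [Finite G] (hZ : center G = ⊥) (g : G)
    (h : ∀ x : G, Group.IsNilpotent ↥(closure ({x, g} : Set G))) : g = 1 := by
  by_contra hg1
  obtain ⟨p, hp, hpd⟩ := Nat.exists_prime_and_dvd (orderOf_eq_one_iff.not.mpr hg1)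
  haveI := Fact.mk hp
  set a := g ^ (orderOf g / p) with ha
  have hap : orderOf a = p := orderOf_pow_orderOf_div (orderOf_pos g).ne' hpd
  have hsub : ∀ x, Group.IsNilpotent ↥(closure ({x, a} : Set G)) := fun x => by
    have hle : closure ({x, a} : Set G) ≤ closure ({x, g} : Set G) := by
      rw [closure_le]
      rintro y (rfl | rfl)
      · exact subset_closure (by simp)
      · exact pow_mem (subset_closure (by simp)) _
    haveI := h x
    exact Group.nilpotent_of_surjective (subgroupOfEquivOfLe hle).toMonoidHom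
      (subgroupOfEquivOfLe hle).surjective
  have haF : a ∈ Cfsg.fittingSubgroup G := by
    refine (Cfsg.Agent.S3937.result a).mpr fun x => ?_
    haveI := hsub x
    have hmem : ∀ z : ↥(closure ({x, a} : Set G)), z ∈ Cfsg.fittingSubgroup ↥(closure ({x, a} : Set G)) :=
      fun z => (CfsgLib.Solvable.le_fittingSubgroup (N := ⊤)
        (Group.isNilpotent_top.mpr inferInstance)) (mem_top z)
    obtain ⟨k, hk⟩ := Cfsg.Agent.S3937.engel_of_mem
      (hmem ⟨a, subset_closure (by simp)⟩) ⟨x, subset_closure (by simp)⟩
    refine ⟨k, ?_⟩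
    have := congrArg (closure ({x, a} : Set G)).subtype hk
    rwa [Cfsg.Agent.S3937.map_engel, map_one] at this
  set C := centralizer {x : G | (orderOf x).Coprime p} with hC
  have hCn : C.Normal := ⟨fun y hy t => by
    rw [hC, mem_centralizer_iff] at hy ⊢
    intro x hx
    have hx' : (orderOf (t⁻¹ * x * t)).Coprime p := by
      have : orderOf ((MulAut.conj t⁻¹ : G ≃* G) x) = orderOf x :=
        orderOf_injective (MulAut.conj t⁻¹ : G ≃* G).toMonoidHom (MulAut.conj t⁻¹).injective x
      simpa [this] using (show (orderOf ((MulAut.conj t⁻¹ : G ≃* G) x)).Coprime p by rw [this]; exact hx)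
    have := hy _ hx'
    calc x * (t * y * t⁻¹) = t * ((t⁻¹ * x * t) * y) * t⁻¹ := by group
      _ = t * (y * (t⁻¹ * x * t)) * t⁻¹ := by rw [this]
      _ = _ := by group⟩
  have haC : a ∈ C := by
    rw [hC, mem_centralizer_iff]
    intro x hx
    haveI := hsub x
    have := CfsgLib.NilpotentCover.commute_of_coprime
      (⟨x, subset_closure (by simp)⟩ : closure ({x, a} : Set G)) ⟨a, subset_closure (by simp)⟩
      (by rw [Subgroup.orderOf_mk, Subgroup.orderOf_mk, hap]; exact hx)
    exact congrArg Subtype.val this.eq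
  haveI := CfsgLib.Solvable.fittingSubgroup_normal (G := G)
  haveI := CfsgLib.Solvable.fittingSubgroup_isNilpotent (G := G)
  set F := Cfsg.fittingSubgroup G
  have hnilF : Group.IsNilpotent F := inferInstance
  have hsylF : ∀ (q : ℕ) [Fact q.Prime] (R : Sylow q F), (R : Subgroup F).Normal :=
    (Group.isNilpotent_of_finite_tfae (G := F)).out 0 3 |>.mp hnilF
  obtain ⟨PF⟩ := Sylow.nonempty (p := p) (G := F)
  haveI hPFn : (PF : Subgroup F).Normal := hsylF p PF
  haveI := Sylow.characteristic_of_normal PF hPFn
  set N := (PF : Subgroup F).map F.subtype ⊓ C with hN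
  haveI : N.Normal := by
    haveI := hCn
    exact normal_inf_normal _ _
  have haN : a ∈ N := by
    refine mem_inf.mpr ⟨⟨⟨a, haF⟩, ?_, rfl⟩, haC⟩
    have hpa : IsPGroup p (zpowers (⟨a, haF⟩ : F)) :=
      IsPGroup.of_card (n := 1) (by rw [Nat.card_zpowers, Subgroup.orderOf_mk, hap, pow_one])
    obtain ⟨Q, hQ⟩ := hpa.exists_le_sylow
    haveI : Subsingleton (Sylow p F) := by
      haveI : ∀ R : Sylow p F, (R : Subgroup F).Normal := fun R =>
        hsylF p R
      refine ⟨fun R S => ?_⟩
      obtain ⟨t, rfl⟩ := MulAction.exists_smul_eq F R S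
      exact (Sylow.smul_eq_of_normal).symm
    exact Subsingleton.elim Q PF ▸ hQ (mem_zpowers _)
  obtain ⟨P⟩ := Sylow.nonempty (p := p) (G := G)
  have hNP : N ≤ (P : Subgroup G) := by
    have hNp : IsPGroup p N := ((PF.2).map F.subtype).to_le inf_le_left
    obtain ⟨Q, hQ⟩ := hNp.exists_le_sylow
    obtain ⟨t, ht⟩ := MulAction.exists_smul_eq G Q P
    intro y hy
    rw [← ht]
    exact ⟨t⁻¹ * y * t, hQ (by simpa using (inferInstance : N.Normal).conj_mem y hy t⁻¹), by simp [mul_assoc]⟩
  haveI := P.2.isNilpotent
  obtain ⟨⟨⟨z, hzP⟩, hz⟩, hz1'⟩ := (ne_bot_iff_exists_ne_one).mp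
    (CfsgLib.Solvable.inf_center_ne_bot (N := N.subgroupOf (P : Subgroup G)) (by
      intro h0
      have : (⟨a, hNP haN⟩ : (P : Subgroup G)) ∈ N.subgroupOf (P : Subgroup G) := haN
      rw [h0, mem_bot] at this
      have ha1 : a = 1 := congrArg Subtype.val this
      rw [ha1, orderOf_one] at hap
      exact hp.ne_one hap.symm))
  apply hz1'
  apply Subtype.ext
  obtain ⟨hzN, hzc⟩ := mem_inf.mp hz
  have hcent : centralizer ({z} : Set G) = ⊤ := by
    rw [← index_eq_one]
    by_contra hne
    obtain ⟨q, hq, hqd⟩ := Nat.exists_prime_and_dvd hne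
    haveI := Fact.mk hq
    by_cases hqp : q = p
    · subst hqp
      refine P.not_dvd_index (hqd.trans (index_dvd_of_le fun y hy => ?_))
      exact mem_centralizer_singleton_iff.mpr
        (congrArg Subtype.val (mem_center_iff.mp hzc ⟨y, hy⟩))
    · obtain ⟨Q⟩ := Sylow.nonempty (p := q) (G := G)
      refine Q.not_dvd_index (hqd.trans (index_dvd_of_le fun y hy => ?_))
      have hyo : (orderOf y).Coprime p := by
        obtain ⟨i, hi⟩ := Q.2 ⟨y, hy⟩
        exact Nat.Coprime.coprime_dvd_left
          (orderOf_dvd_of_pow_eq_one (congrArg Subtype.val hi))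
          (Nat.Coprime.pow_left i ((Nat.coprime_primes hq hp).mpr hqp))
      exact mem_centralizer_singleton_iff.mpr
        (mem_centralizer_iff.mp (mem_inf.mp hzN).2 y hyo)
  have hzc' : z ∈ center G := mem_center_iff.mpr fun y =>
    mem_centralizer_singleton_iff.mp (hcent ▸ mem_top y)
  rw [hZ, mem_bot] at hzc'
  exact Subtype.ext hzc'

theorem upperCentralSeries_inter {G : Type*} [Group G] (H : Subgroup G) :
    ∀ n, ∀ y : H, (y : G) ∈ Subgroup.upperCentralSeries G n → y ∈ Subgroup.upperCentralSeries H n := by
  intro n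
  induction n with
  | zero =>
    intro y hy
    rw [Subgroup.upperCentralSeries_zero, mem_bot] at hy ⊢
    exact Subtype.ext hy
  | succ n ih =>
    intro y hy
    rw [Subgroup.mem_upperCentralSeries_succ_iff] at hy ⊢
    exact fun t => ih _ (hy t)

/-- In a finite group G the set of elements g such that the subgroup generated by g and x is nilpotent for every x ∈ G is exactly the hypercenter of G (the last term of the upper central series). -/
theorem result {G : Type*} [Group G] [Finite G] (g : G) :
    (∀ x : G, Group.IsNilpotent ↥(Subgroup.closure ({x, g} : Set G))) ↔ g ∈ ⨆ n : ℕ, Subgroup.upperCentralSeries G n := by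
  have hmono : Monotone (Subgroup.upperCentralSeries G) := Subgroup.upperCentralSeries_mono G
  constructor
  · intro h
    obtain ⟨n, hn⟩ : ∃ n, Subgroup.upperCentralSeries G (n + 1) ≤ Subgroup.upperCentralSeries G n := by
      by_contra hall
      push Not at hall
      have hsm : StrictMono (Subgroup.upperCentralSeries G) :=
        strictMono_nat_of_lt_succ fun n => lt_of_le_not_ge (hmono n.le_succ) (hall n)
      exact not_injective_infinite_finite _ hsm.injective
    set Z := Subgroup.upperCentralSeries G n with hZ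
    haveI : Z.Normal := by rw [hZ]; infer_instance
    have hcenter : center (G ⧸ Z) = ⊥ := by
      rw [eq_bot_iff]
      intro c hc
      obtain ⟨y, rfl⟩ := QuotientGroup.mk'_surjective Z c
      rw [mem_bot, QuotientGroup.mk'_apply, QuotientGroup.eq_one_iff]
      refine hn (Subgroup.mem_upperCentralSeries_succ_iff.mpr fun t => ?_)
      rw [← QuotientGroup.eq_one_iff]
      have e := mem_center_iff.mp hc (QuotientGroup.mk' Z t)
      show QuotientGroup.mk' Z (y * t * y⁻¹ * t⁻¹) = 1
      rw [map_mul, map_mul, map_mul, map_inv, map_inv, ← e, mul_inv_cancel_right, mul_inv_cancel]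
    have h1 := eq_one_of_center hcenter (QuotientGroup.mk' Z g) fun c => by
      obtain ⟨y, rfl⟩ := QuotientGroup.mk'_surjective Z c
      haveI := h y
      have e : (closure ({y, g} : Set G)).map (QuotientGroup.mk' Z) =
          closure {QuotientGroup.mk' Z y, QuotientGroup.mk' Z g} := by
        rw [MonoidHom.map_closure, Set.image_pair]
      rw [← e]
      exact Group.nilpotent_of_surjective
        ((QuotientGroup.mk' Z).subgroupMap (closure ({y, g} : Set G)))
        (MonoidHom.subgroupMap_surjective _ _)
    exact (le_iSup (Subgroup.upperCentralSeries G) n) ((QuotientGroup.eq_one_iff g).mp h1)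
  · intro hg x
    rw [Subgroup.mem_iSup_of_directed hmono.directed_le] at hg
    obtain ⟨n, hn⟩ := hg
    set H := closure ({x, g} : Set G)
    set Zn := Subgroup.upperCentralSeries H n with hZn
    haveI : Zn.Normal := by rw [hZn]; infer_instance
    rw [Group.isNilpotent_iff]
    refine ⟨n + 1, eq_top_iff.mpr fun y _ => Subgroup.mem_upperCentralSeries_succ_iff.mpr fun t => ?_⟩
    rw [← hZn, ← QuotientGroup.eq_one_iff]
    let xx : H ⧸ Zn := QuotientGroup.mk ⟨x, subset_closure (by simp)⟩
    have hall : ∀ w : H, (QuotientGroup.mk w : H ⧸ Zn) ∈ zpowers xx := by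
      intro w
      obtain ⟨w, hw⟩ := w
      induction hw using closure_induction with
      | mem z hz =>
        rcases hz with rfl | rfl
        · exact mem_zpowers _
        · have : (QuotientGroup.mk ⟨z, subset_closure (by simp)⟩ : H ⧸ Zn) = 1 :=
            (QuotientGroup.eq_one_iff _).mpr (upperCentralSeries_inter H n _ hn)
          rw [this]; exact one_mem _
      | one => exact one_mem _
      | mul a b ha hb iha ihb => exact mul_mem iha ihb
      | inv a ha iha => exact inv_mem iha
    obtain ⟨i, hi⟩ := hall y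
    obtain ⟨j, hj⟩ := hall t
    show (QuotientGroup.mk (y * t * y⁻¹ * t⁻¹) : H ⧸ Zn) = 1
    rw [QuotientGroup.mk_mul, QuotientGroup.mk_mul, QuotientGroup.mk_mul, QuotientGroup.mk_inv,
      QuotientGroup.mk_inv, ← hi, ← hj]
    group

end Cfsg.Agent.S3939
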