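import Cfsg.Statements.S3940
import Cfsg.Agent.CoprimeNilpotent.Count
import Cfsg.Agent.S0205
import Cfsg.Agent.Solvable.SchurZassenhaus
import Mathlib.GroupTheory.SchurZassenhaus

/-!
# All `p'`-subgroups nilpotent, `p > 3`, implies solvable
-/

set_option autoImplicit false
set_option linter.style.haveILetI false
open Cfsg

namespace Cfsg.Agent.S3940

open Subgroup CfsgLib.CoprimeNilpotent

universe u

/-- The hypothesis passes to subgroups. -/
theorem inherit {G : Type u} [Group G] {p : ℕ} (h : PPrimeNilpotent p G) (K : Subgroup G) :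
    PPrimeNilpotent p ↥K := by
  intro H hH
  haveI := h (H.map K.subtype) (by rwa [card_map_of_injective K.subtype_injective])
  exact Group.nilpotent_of_mulEquiv (H.equivMapOfInjective K.subtype K.subtype_injective).symm

/-- The hypothesis passes to quotients by normal subgroups when the preimages of proper subgroups
are solvable. -/
theorem quotient {G : Type u} [Group G] [Finite G] {p : ℕ} (hp : p.Prime)
    (h : PPrimeNilpotent p G) (N : Subgroup G) [N.Normal]
    (hsol : ∀ K : Subgroup G, K ≠ ⊤ → Group.IsSolvable ↥K) :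
    ∀ K : Subgroup (G ⧸ N), K ≠ ⊤ → (Nat.card ↥K).Coprime p → Group.IsNilpotent ↥K := by
  intro K hK hKp
  set X := K.comap (QuotientGroup.mk' N) with hX
  haveI := hsol X fun e => hK (by
    rw [← map_comap_eq_self_of_surjective (QuotientGroup.mk'_surjective N) K, ← hX, e,
      map_top_of_surjective _ (QuotientGroup.mk'_surjective N)])
  obtain ⟨H, hH⟩ := CfsgLib.Solvable.exists_isPiHall (notP p) ↥X
  set f : ↥X →* ↥K :=
    ((QuotientGroup.mk' N).comp X.subtype).codRestrict K fun x => x.2 with hf
  have hfs : Function.Surjective f := by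
    rintro ⟨y, hy⟩
    obtain ⟨g, rfl⟩ := QuotientGroup.mk'_surjective N y
    exact ⟨⟨g, hy⟩, rfl⟩
  have htop : H.map f = ⊤ := by
    refine CfsgLib.Solvable.eq_of_isPiHall_le (CfsgLib.Solvable.isPiHall_map hfs hH) ?_ le_top
    rwa [piSubgroup_iff_coprime hp, card_top]
  haveI := inherit h X H ((piSubgroup_iff_coprime hp).1 hH.1)
  refine Group.nilpotent_of_surjective (f.comp H.subtype) fun y => ?_
  obtain ⟨x, hx, rfl⟩ := (htop.ge (mem_top y) : y ∈ H.map f)
  exact ⟨⟨x, hx⟩, rfl⟩

theorem core : ∀ n : ℕ, ∀ (G : Type u) [Group G] [Finite G], Nat.card G = n →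
    ∀ p : ℕ, p.Prime → 3 < p → PPrimeNilpotent p G → Group.IsSolvable G := by
  intro n
  induction n using Nat.strong_induction_on with
  | _ n ih =>
  intro G _ _ hn p hp hp3 h
  haveI := Fact.mk hp
  by_contra hns
  have hsub : ∀ K : Subgroup G, K ≠ ⊤ → Group.IsSolvable ↥K := fun K hK =>
    ih _ (hn ▸ lt_of_le_of_ne (Nat.card_le_card_of_injective _ K.subtype_injective)
      fun e => hK (eq_top_of_card_eq K e)) ↥K rfl p hp hp3 (inherit h K)
  have hnt : Nontrivial G := by
    by_contra hnt
    haveI := not_nontrivial_iff_subsingleton.1 hnt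
    exact hns (Group.isSolvable_of_comm fun _ _ => Subsingleton.elim _ _)
  have hsimple : IsSimpleGroup G := by
    refine ⟨fun N hN => ?_⟩
    by_contra hcon
    push Not at hcon
    obtain ⟨hN1, hN2⟩ := hcon
    haveI := hN
    haveI := hsub N hN2
    refine hns ?_
    suffices Group.IsSolvable (G ⧸ N) by
      exact Group.isSolvable_of_ker_le_range N.subtype (QuotientGroup.mk' N)
        (by rw [QuotientGroup.ker_mk', Subgroup.range_subtype])
    have hlt : Nat.card (G ⧸ N) < n := by
      rw [← hn, N.card_eq_card_quotient_mul_card_subgroup]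
      refine lt_mul_of_one_lt_right Nat.card_pos ?_
      haveI := (Subgroup.nontrivial_iff_ne_bot N).2 hN1
      exact Finite.one_lt_card
    by_cases hcop : (Nat.card (G ⧸ N)).Coprime p
    swap
    · refine ih _ hlt (G ⧸ N) rfl p hp hp3 fun K hK => quotient hp h N hsub K ?_ hK
      intro e
      rw [e, card_top] at hK
      exact hcop hK
    -- the quotient is a `p'`-group
    obtain ⟨P⟩ : Nonempty (Sylow p ↥N) := inferInstance
    set PG := (P : Subgroup ↥N).map N.subtype with hPG
    by_cases hPn : normalizer (PG : Set G) = ⊤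
    swap
    · haveI := hsub _ hPn
      refine Group.isSolvable_of_surjective
        (f := (QuotientGroup.mk' N).comp (normalizer (PG : Set G)).subtype) fun y => ?_
      obtain ⟨g, rfl⟩ := QuotientGroup.mk'_surjective N y
      obtain ⟨a, ha, b, hb, rfl⟩ := mem_sup_of_normal_right.1
        ((Sylow.normalizer_sup_eq_top P).ge (mem_top g) : g ∈ _)
      refine ⟨⟨a, ha⟩, QuotientGroup.eq.2 ?_⟩
      show a⁻¹ * (a * b) ∈ N
      rwa [inv_mul_cancel_left]
    haveI : PG.Normal := normalizer_eq_top_iff.1 hPn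
    have hidx : PG.index.Coprime p := by
      rw [hPG, index_map_subtype]
      refine Nat.Coprime.mul_left ((Nat.Prime.coprime_iff_not_dvd hp).2 P.not_dvd_index).symm ?_
      rwa [index_eq_card]
    obtain ⟨k, hk⟩ := IsPGroup.iff_card.1 (P.isPGroup'.map N.subtype : IsPGroup p ↥PG)
    obtain ⟨H, hH⟩ := Subgroup.exists_right_complement'_of_coprime (N := PG)
      (hk ▸ (hidx.symm.pow_left k))
    haveI : Group.IsNilpotent ↥H := h H (hH.symm.index_eq_card ▸ hidx)
    refine Group.isSolvable_of_surjective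
      (f := (QuotientGroup.mk' N).comp H.subtype) fun y => ?_
    obtain ⟨g, rfl⟩ := QuotientGroup.mk'_surjective N y
    obtain ⟨a, ha, b, hb, rfl⟩ :=
      mem_sup_of_normal_left.1 (hH.sup_eq_top.ge (mem_top g) : g ∈ PG ⊔ H)
    refine ⟨⟨b, hb⟩, QuotientGroup.eq.2 ?_⟩
    have haN : a ∈ N := map_subtype_le _ ha
    show b⁻¹ * (a * b) ∈ N
    simpa [mul_assoc] using hN.conj_mem a haN b⁻¹
  have heven : Even (Nat.card G) := Nat.not_odd_iff_even.1 fun hodd =>
    hns (Cfsg.Agent.S0205.result hodd)
  have s : Setting p G := ⟨hp, hp3, h, hsimple, heven, hsub, hns⟩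
  obtain ⟨M, hM⟩ := s.exists_stronglyEmbedded
  exact Action.contradiction (p := p) (Ω := G ⧸ M)
    ⟨s, CfsgLib.SEmbed.uniqueFix hM, CfsgLib.SEmbed.nontrivial_cosets hM⟩

/-- Let p > 3 be a prime and G a finite group in which every subgroup of order prime to p is nilpotent. Then G is solvable. -/
theorem result {G : Type*} [Group G] [Finite G] (p : ℕ) (hp : p.Prime) (hp3 : 3 < p)
    (h : ∀ H : Subgroup G, (Nat.card ↥H).Coprime p → Group.IsNilpotent ↥H) : Group.IsSolvable G :=
  core _ G rfl p hp hp3 h

end Cfsg.Agent.S3940
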