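import Cfsg.Statements.S3941

import Mathlib.Tactic

set_option autoImplicit false
open Cfsg

namespace Cfsg.Agent.S3941

/-- In a group that is `p`-closed two elements of order `p` have product of `p`-power order. -/
theorem eq_one_of_closed {G : Type*} [Group G] [Finite G] {p q : ℕ} [Fact p.Prime]
    (h : Cfsg.IsPClosed p G) (hq : q.Prime) (hqp : q ≠ p) (a b : G) (ha : a ^ p = 1)
    (hb : b ^ p = 1) (hab : orderOf (a * b) = q) : False := by
  obtain ⟨P⟩ := Sylow.nonempty (p := p) (G := G)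
  haveI := h P
  have hmem : ∀ c : G, c ^ p = 1 → c ∈ (P : Subgroup G) := fun c hc => by
    have hpg : IsPGroup p (Subgroup.zpowers c) := by
      obtain ⟨i, -, hi⟩ := (Nat.dvd_prime_pow (Fact.out : p.Prime)).mp
        (show orderOf c ∣ p ^ 1 by rw [pow_one]; exact orderOf_dvd_of_pow_eq_one hc)
      exact IsPGroup.of_card (n := i) (by rw [Nat.card_zpowers, hi])
    obtain ⟨Q, hQ⟩ := hpg.exists_le_sylow
    haveI : Subsingleton (Sylow p G) := by
      refine ⟨fun A B => ?_⟩
      haveI := h A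
      haveI := h B
      obtain ⟨g, rfl⟩ := MulAction.exists_smul_eq G A B
      exact (Sylow.smul_eq_of_normal).symm
    exact Subsingleton.elim Q P ▸ hQ (Subgroup.mem_zpowers c)
  obtain ⟨k, hk⟩ := IsPGroup.iff_card.mp P.2
  have h1 : orderOf (a * b) ∣ p ^ k :=
    hk ▸ Subgroup.orderOf_dvd_natCard _ (mul_mem (hmem a ha) (hmem b hb))
  rw [hab] at h1
  exact hqp ((Nat.prime_dvd_prime_iff_eq hq Fact.out).mp (hq.dvd_of_dvd_pow h1))

open Equiv in
/-- Two `p`-cycles on `max p 4` points whose product has prime order other than `p`. -/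
theorem exists_witness (p : ℕ) (hp : p.Prime) (hp2 : p ≠ 2) :
    ∃ (q : ℕ) (a b : Equiv.Perm (Fin (max p 4))), q.Prime ∧ q ≠ p ∧ Equiv.Perm.sign a = 1 ∧
      Equiv.Perm.sign b = 1 ∧ a ^ p = 1 ∧ b ^ p = 1 ∧ orderOf (a * b) = q := by
  by_cases hp3 : p = 3
  · subst hp3
    show ∃ (q : ℕ) (a b : Equiv.Perm (Fin 4)), q.Prime ∧ q ≠ 3 ∧ Equiv.Perm.sign a = 1 ∧
      Equiv.Perm.sign b = 1 ∧ a ^ 3 = 1 ∧ b ^ 3 = 1 ∧ orderOf (a * b) = q
    refine ⟨2, swap 0 1 * swap 1 2, swap 0 1 * swap 1 3, Nat.prime_two, by norm_num, by decide,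
      by decide, by decide, by decide, ?_⟩
    haveI : Fact (Nat.Prime 2) := ⟨Nat.prime_two⟩
    exact orderOf_eq_prime (by decide) (by decide)
  · obtain ⟨k, rfl⟩ : ∃ k, p = k + 5 :=
      ⟨p - 5, by have := hp.five_le_of_ne_two_of_ne_three hp2 hp3; omega⟩
    rw [show max (k + 5) 4 = k + 5 by omega]
    set σ : Equiv.Perm (Fin (k + 5)) := finRotate (k + 5)
    set t : Equiv.Perm (Fin (k + 5)) := swap 0 1
    have hσ : σ ^ (k + 5) = 1 := by
      have h1 := pow_orderOf_eq_one σ
      rwa [show orderOf σ = k + 5 by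
        rw [(isCycle_finRotate (n := k + 3)).orderOf, support_finRotate, Finset.card_univ,
          Fintype.card_fin]] at h1
    have hσs : Equiv.Perm.sign σ = 1 := by
      obtain ⟨j, hj⟩ := hp.eq_two_or_odd'.resolve_left hp2
      rw [sign_finRotate, show k + 5 - 1 = 2 * j by omega, pow_mul]
      simp
    refine ⟨3, σ⁻¹, t * σ * t, Nat.prime_three, Ne.symm hp3, by rw [map_inv, hσs, inv_one], ?_,
      by rw [inv_pow, hσ, inv_one], ?_, ?_⟩
    · rw [map_mul, map_mul, hσs, mul_one, ← map_mul, show t * t = 1 from swap_mul_self _ _,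
        map_one]
    · have : t * σ * t = t * σ * t⁻¹ := by rw [swap_inv]
      rw [this, conj_pow, hσ, mul_one, mul_inv_cancel]
    · have h1 : σ⁻¹ (1 : Fin (k + 5)) = 0 := by
        rw [Equiv.Perm.inv_def, Equiv.symm_apply_eq, finRotate_succ_apply, zero_add]
      have h0 : σ⁻¹ (0 : Fin (k + 5)) = Fin.last (k + 4) := by
        rw [Equiv.Perm.inv_def, Equiv.symm_apply_eq, finRotate_succ_apply, Fin.last_add_one]
      have e : σ⁻¹ * (t * σ * t) = swap (σ⁻¹ 0) (σ⁻¹ 1) * t := by
        rw [Equiv.swap_apply_apply, inv_inv]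
        simp only [t]
        group
      rw [e, h0, h1, swap_comm (Fin.last (k + 4)) 0]
      refine (Equiv.Perm.isThreeCycle_swap_mul_swap_same ?_ ?_ ?_).orderOf <;> simp [Fin.ext_iff]

/-- Let n ≥ 5 and p an odd prime with p ≤ n, and suppose that every proper subgroup of the alternating group of degree n whose order is divisible by p has a normal Sylow p-subgroup. Then n = p. -/
theorem result (n p : ℕ) (hn : 5 ≤ n) [Fact p.Prime] (hp : p ≠ 2) (hpn : p ≤ n)
    (h : ∀ H : Subgroup ↥(alternatingGroup (Fin n)), H ≠ ⊤ → p ∣ Nat.card ↥H → Cfsg.IsPClosed p ↥H) : n = p := by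
  by_contra hne
  have hp3 : 3 ≤ p := by have := (Fact.out : p.Prime).two_le; omega
  obtain ⟨q, a, b, hq, hqp, hsa, hsb, ha, hb, hab⟩ := exists_witness p Fact.out hp
  have hle : max p 4 ≤ n := by omega
  have hlt : max p 4 < n := by omega
  let ι : Fin (max p 4) ↪ Fin n := Fin.castLEEmb hle
  let L : Fin n := ⟨max p 4, hlt⟩
  let H : Subgroup ↥(alternatingGroup (Fin n)) := MulAction.stabilizer ↥(alternatingGroup (Fin n)) L
  have himg : ∀ c : Equiv.Perm (Fin (max p 4)), Equiv.Perm.viaEmbeddingHom ι c L = L := fun c => by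
    apply Equiv.Perm.viaEmbedding_apply_of_notMem
    rintro ⟨i, hi⟩
    exact absurd (congrArg Fin.val hi) (Nat.ne_of_lt i.2)
  have hsign : ∀ c : Equiv.Perm (Fin (max p 4)), Equiv.Perm.sign c = 1 →
      Equiv.Perm.viaEmbeddingHom ι c ∈ alternatingGroup (Fin n) := fun c hc => by
    rw [Equiv.Perm.mem_alternatingGroup]
    classical
    rw [Equiv.Perm.viaEmbeddingHom_apply, Equiv.Perm.viaEmbedding]
    convert (Equiv.Perm.sign_extendDomain c (Equiv.ofInjective ι.1 ι.2)).trans hc using 3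
  let A : H := ⟨⟨_, hsign a hsa⟩, himg a⟩
  let B : H := ⟨⟨_, hsign b hsb⟩, himg b⟩
  let f : H →* Equiv.Perm (Fin n) := (alternatingGroup (Fin n)).subtype.comp H.subtype
  have hf : Function.Injective f := fun u v huv => Subtype.ext (Subtype.ext huv)
  have hA : f A = Equiv.Perm.viaEmbeddingHom ι a := rfl
  have hB : f B = Equiv.Perm.viaEmbeddingHom ι b := rfl
  have hA1 : A ^ p = 1 := hf (by rw [map_pow, hA, ← map_pow, ha, map_one, map_one])
  have hB1 : B ^ p = 1 := hf (by rw [map_pow, hB, ← map_pow, hb, map_one, map_one])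
  have hAB : orderOf (A * B) = q := by
    rw [← orderOf_injective f hf, map_mul, hA, hB, ← map_mul,
      orderOf_injective _ (Equiv.Perm.viaEmbeddingHom_injective ι), hab]
  have hne_one : ∃ c : H, orderOf c = p := by
    have hane : a ≠ 1 := by
      rintro rfl
      rw [one_mul] at hab
      have := orderOf_dvd_of_pow_eq_one hb
      rw [hab] at this
      exact hqp ((Nat.prime_dvd_prime_iff_eq hq Fact.out).mp this)
    refine ⟨A, orderOf_eq_prime hA1 fun h => hane ?_⟩
    apply Equiv.Perm.viaEmbeddingHom_injective ι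
    rw [← hA, h, map_one, map_one]
  obtain ⟨c, hc⟩ := hne_one
  have hpd : p ∣ Nat.card H := hc ▸ orderOf_dvd_natCard c
  have htop : H ≠ ⊤ := by
    intro htop
    haveI : MulAction.IsPretransitive ↥(alternatingGroup (Fin n)) (Fin n) :=
      alternatingGroup.isPretransitive_of_three_le_card (Fin n) (by rw [Nat.card_fin]; omega)
    obtain ⟨g, hg⟩ := MulAction.exists_smul_eq ↥(alternatingGroup (Fin n)) L ⟨0, by omega⟩
    have : g ∈ H := htop ▸ Subgroup.mem_top g
    have h2 := congrArg Fin.val ((MulAction.mem_stabilizer_iff.mp this).symm.trans hg)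
    simp [L] at h2
  exact eq_one_of_closed (h H htop hpd) hq hqp A B hA1 hB1 hAB

end Cfsg.Agent.S3941
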