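import Cfsg.Statements.S3949

set_option autoImplicit false
open Cfsg

namespace Cfsg.Agent.S3949

/-- Iterates of `c ↦ c·α(c)⁻¹` for an involutory automorphism. -/
theorem result {G : Type*} [Group G] [Finite G] (α : MulAut G) (hα : orderOf α = 2) (hG : Subgroup.closure (Set.range (fun c : G => c * (α c)⁻¹)) = ⊤)
    (j : ℕ) (hj : ∀ g : G, α g = g⁻¹ → ¬ 2 ^ j ∣ orderOf g) :
    Set.range ((fun c : G => c * (α c)⁻¹)^[j]) = {g : G | Odd (orderOf g) ∧ α g = g⁻¹} := by
  have hα2 : ∀ x, α (α x) = x := fun x => by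
    have h := pow_orderOf_eq_one α
    rw [hα, pow_two] at h
    exact DFunLike.congr_fun h x
  set f : G → G := fun c => c * (α c)⁻¹ with hf
  have hinv : ∀ c, α (f c) = (f c)⁻¹ := fun c => by simp [hf, hα2]
  have hpow : ∀ (i : ℕ) (g : G), α g = g⁻¹ → f^[i] g = g ^ (2 ^ i) := by
    intro i g hg
    induction i with
    | zero => simp
    | succ i ih =>
      rw [Function.iterate_succ_apply', ih, pow_succ 2 i, pow_mul, pow_two]
      simp [hf, map_pow, hg]
  obtain ⟨i, rfl⟩ : ∃ i, j = i + 1 := by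
    rcases Nat.eq_zero_or_pos j with h0 | h0
    · exact absurd (by simp [h0]) (hj 1 (by simp))
    · exact ⟨j - 1, by omega⟩
  ext g
  constructor
  · rintro ⟨c, rfl⟩
    rw [Function.iterate_succ_apply, hpow i _ (hinv c)]
    refine ⟨?_, by rw [map_pow, hinv, inv_pow]⟩
    obtain ⟨a, m, hm, he⟩ := Nat.exists_eq_two_pow_mul_odd (orderOf_pos (f c)).ne'
    have ha : a ≤ i := by
      by_contra hc
      exact hj _ (hinv c) (he ▸ (pow_dvd_pow 2 (by omega : i + 1 ≤ a)).mul_right m)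
    have h1 : orderOf (f c ^ 2 ^ i) ∣ m := by
      rw [orderOf_dvd_iff_pow_eq_one, ← pow_mul]
      obtain ⟨t, ht⟩ := pow_dvd_pow 2 ha
      rw [ht, mul_right_comm, ← he, pow_mul, pow_orderOf_eq_one, one_pow]
    exact Odd.of_dvd_nat hm h1
  · rintro ⟨hodd, hg⟩
    have hco : Nat.Coprime (2 ^ (i + 1)) (orderOf g) :=
      Nat.Coprime.pow_left _ ((Nat.coprime_two_left).mpr hodd)
    obtain ⟨k, hk⟩ := exists_pow_eq_self_of_coprime hco
    refine ⟨g ^ k, ?_⟩
    rw [hpow _ _ (by rw [map_pow, hg, inv_pow]), ← pow_mul, mul_comm, pow_mul]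
    exact hk

end Cfsg.Agent.S3949
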