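import Cfsg.Statements.S3951

import Cfsg.Agent.SchurTheory.Metacyclic

set_option autoImplicit false
open Cfsg

namespace Cfsg.Agent.S3951

open CfsgLib.SchurTheory

/-- For positive integers `m` and `n` with `n` dividing `m`, the Schur multiplier of the abelian group `ZMod m × ZMod n` (written multiplicatively) is cyclic of order `n`. In particular the elementary abelian group of order `p ^ 2` has multiplier of order `p`. -/
theorem result (m n : ℕ) [NeZero m] [NeZero n] (hnm : n ∣ m) : Cfsg.HasCyclicSchurMultiplier (Multiplicative (ZMod m × ZMod n)) n := by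
  have hd : MetacyclicData (Multiplicative.ofAdd ((1 : ZMod m), (0 : ZMod n)))
      (Multiplicative.ofAdd ((0 : ZMod m), (1 : ZMod n))) m n 1 0 := by
    have hgen : Subgroup.closure ({Multiplicative.ofAdd ((1 : ZMod m), (0 : ZMod n)),
        Multiplicative.ofAdd ((0 : ZMod m), (1 : ZMod n))} : Set (Multiplicative (ZMod m × ZMod n)))
          = ⊤ := by
      refine eq_top_iff.mpr fun x _ => ?_
      obtain ⟨⟨u, v⟩, rfl⟩ := Multiplicative.ofAdd.surjective x
      rw [show Multiplicative.ofAdd (u, v) = Multiplicative.ofAdd ((1 : ZMod m), (0 : ZMod n)) ^ u.val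
          * Multiplicative.ofAdd ((0 : ZMod m), (1 : ZMod n)) ^ v.val by
        rw [← ofAdd_nsmul, ← ofAdd_nsmul, ← ofAdd_add]; simp]
      exact mul_mem (pow_mem (Subgroup.subset_closure (by simp)) _)
        (pow_mem (Subgroup.subset_closure (by simp)) _)
    refine ⟨Nat.pos_of_neZero m, Nat.pos_of_neZero n, one_pos, hgen, ?_, ?_, ?_, ?_⟩
    · rw [orderOf_ofAdd_eq_addOrderOf, Prod.addOrderOf_mk, ZMod.addOrderOf_one, addOrderOf_zero,
        Nat.lcm_one_right]
    · rw [pow_zero, ← ofAdd_nsmul]; simp [← Prod.zero_eq_mk]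
    · rw [pow_one, mul_inv_eq_iff_eq_mul, mul_comm]
    · rintro j ⟨i, hi⟩
      have h2 := congrArg (fun y => (Multiplicative.toAdd y).2) (hi : _ ^ i = _ ^ j)
      simp at h2
      exact (ZMod.intCast_zmod_eq_zero_iff_dvd j n).mp h2.symm
  have h1 : metacyclicMult m n 1 0 = n := by
    rw [metacyclicMult]
    simp [Nat.gcd_eq_right hnm, Nat.div_self (Nat.pos_of_neZero m)]
  have := hd.hasCyclicSchurMultiplier
  rwa [h1] at this

end Cfsg.Agent.S3951
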