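import Cfsg.Statements.S3950

import Cfsg.Agent.SchurTheory.Metacyclic
import Cfsg.Agent.S3951
import Cfsg.Agent.SchurTheory.Basic
import Mathlib.GroupTheory.FiniteAbelian.Basic

set_option autoImplicit false
open Cfsg

namespace Cfsg.Agent.S3950

open CfsgLib.SchurTheory
open scoped commutatorElement

/-- A finite abelian group has trivial Schur multiplier if and only if it is cyclic. -/
theorem result {G : Type*} [CommGroup G] [Finite G] : Cfsg.HasCyclicSchurMultiplier G 1 ↔ IsCyclic G := by
  constructor
  · intro h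
    by_contra hnc
    obtain ⟨ι, _, k, hk1, ⟨e⟩⟩ := CommGroup.equiv_prod_multiplicative_zmod_of_finite G
    classical
    have hex : ∃ i j, i ≠ j ∧ ¬ Nat.Coprime (k i) (k j) := by
      by_contra hall
      push Not at hall
      apply hnc
      haveI : ∀ i, NeZero (k i) := fun i => ⟨by have := hk1 i; omega⟩
      let e1 := ZMod.prodEquivPi k fun i j hij => hall i j hij
      let e2 : Multiplicative (ZMod (∏ i, k i)) ≃* ((i : ι) → Multiplicative (ZMod (k i))) :=
        { toFun := fun x i => Multiplicative.ofAdd (e1 x.toAdd i)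
          invFun := fun y => Multiplicative.ofAdd (e1.symm fun i => (y i).toAdd)
          left_inv := fun x => by simp
          right_inv := fun y => by ext i; simp
          map_mul' := fun x y => by ext i; simp }
      exact isCyclic_of_surjective (e2.trans e.symm) (e2.trans e.symm).surjective
    obtain ⟨i, j, hij, hco⟩ := hex
    obtain ⟨p, hp, hpi, hpj⟩ := Nat.Prime.not_coprime_iff_dvd.mp hco
    haveI : NeZero p := ⟨hp.ne_zero⟩
    let f : G →* Multiplicative (ZMod p × ZMod p) :=
      MonoidHom.mk' (fun g => Multiplicative.ofAdd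
        (ZMod.castHom hpi (ZMod p) (e g i).toAdd, ZMod.castHom hpj (ZMod p) (e g j).toAdd))
        (fun a b => by simp only [map_mul, Pi.mul_apply, toAdd_mul, map_add, ← ofAdd_add, Prod.mk_add_mk])
    have hf : Function.Surjective f := by
      intro y
      obtain ⟨u, hu⟩ := ZMod.castHom_surjective hpi y.toAdd.1
      obtain ⟨v, hv⟩ := ZMod.castHom_surjective hpj y.toAdd.2
      refine ⟨e.symm (Function.update (Function.update (fun _ => 1) i (Multiplicative.ofAdd u)) j
        (Multiplicative.ofAdd v)), ?_⟩
      simp only [f, MonoidHom.mk'_apply, MulEquiv.apply_symm_apply, Function.update_self,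
        Function.update_of_ne hij, toAdd_ofAdd, hu, hv]
      rfl
    obtain ⟨Γ, _, _, σ, hσ, ⟨es⟩⟩ := exists_cover (Multiplicative (ZMod p × ZMod p))
    have hM : 1 < Nat.card (mult (Multiplicative (ZMod p × ZMod p))) := by
      rw [(hasCyclicSchurMultiplier_iff.mp (Cfsg.Agent.S3951.result p p dvd_rfl)).2]
      exact hp.one_lt
    have hnab : ∃ a b : Γ, a * b ≠ b * a := by
      by_contra hall
      push Not at hall
      have hbot : commutator Γ = ⊥ := by
        rw [eq_bot_iff, commutator_def, Subgroup.commutator_le]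
        intro a _ b _
        rw [Subgroup.mem_bot, commutatorElement_eq_one_iff_mul_comm]
        exact hall a b
      have := Nat.card_congr es.toEquiv
      have hk : σ.ker = ⊥ := le_bot_iff.mp (hσ.2.2.trans hbot.le)
      rw [hk, Subgroup.card_bot] at this
      omega
    obtain ⟨a, b, hab⟩ := hnab
    obtain ⟨x, hx⟩ := hf (σ a)
    obtain ⟨y, hy⟩ := hf (σ b)
    let Δ : Subgroup (G × Γ) := (f.comp (MonoidHom.fst G Γ)).eqLocus (σ.comp (MonoidHom.snd G Γ))
    let τ : Δ →* G := (MonoidHom.fst G Γ).comp Δ.subtype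
    have hs : Function.Surjective τ := fun g => by
      obtain ⟨c, hc⟩ := hσ.1 (f g)
      exact ⟨⟨(g, c), hc.symm⟩, rfl⟩
    have hc : τ.ker ≤ Subgroup.center Δ := by
      rintro ⟨⟨g, c⟩, hgc⟩ h1
      have hg : g = 1 := h1
      subst hg
      have hgc' : f 1 = σ c := hgc
      rw [Subgroup.mem_center_iff]
      intro w
      have := Subgroup.mem_center_iff.mp (hσ.2.1 (by rw [MonoidHom.mem_ker, ← hgc', map_one]))
        w.1.2
      exact Subtype.ext (Prod.ext (mul_comm _ _) this)
    let A : Δ := ⟨(x, a), hx⟩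
    let B : Δ := ⟨(y, b), hy⟩
    have hmem : ⁅A, B⁆ ∈ τ.ker ⊓ commutator Δ := by
      refine Subgroup.mem_inf.mpr ⟨?_, Subgroup.commutator_mem_commutator (Subgroup.mem_top _) (Subgroup.mem_top _)⟩
      rw [MonoidHom.mem_ker, map_commutatorElement, commutatorElement_eq_one_iff_mul_comm]
      exact mul_comm _ _
    obtain ⟨φ, hφ⟩ := exists_lift' (canon G) τ hs hc
    rw [← map_multSub _ (canon_surjective G) τ hc φ hφ, hasCyclicSchurMultiplier_one_iff.mp h,
      Subgroup.map_bot, Subgroup.mem_bot, commutatorElement_eq_one_iff_mul_comm] at hmem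
    exact hab (congrArg (fun w : Δ => w.1.2) hmem)
  · intro hcy
    obtain ⟨g, hg⟩ := IsCyclic.exists_generator (α := G)
    have hgen : Subgroup.closure ({g, 1} : Set G) = ⊤ :=
      eq_top_iff.mpr fun x _ => (Subgroup.zpowers_le.mpr (Subgroup.subset_closure (by simp))) (hg x)
    have hd : MetacyclicData g 1 (orderOf g) 1 1 0 :=
      ⟨orderOf_pos g, one_pos, one_pos, hgen, rfl, by simp, by simp, fun j _ => one_dvd _⟩
    have h1 : metacyclicMult (orderOf g) 1 1 0 = 1 := by
      simp [metacyclicMult, Nat.div_self (orderOf_pos g)]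
    have := hd.hasCyclicSchurMultiplier
    rwa [h1] at this

end Cfsg.Agent.S3950
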