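import Cfsg.Statements.S3952

import Cfsg.Agent.SchurTheory.Restriction
import Cfsg.Agent.SchurTheory.ExponentBound
-- import your own Cfsg.Agent.* helpers here

set_option autoImplicit false
open Cfsg

set_option linter.style.haveILetI false

namespace Cfsg.Agent.S3952

/-- If `A` is the Schur multiplier of the finite group `Q`, then the square of the exponent of `A` divides the order of `Q`. -/
theorem result {Q : Type*} [Group Q] [Finite Q] {A : Type*} [CommGroup A] (hA : Cfsg.HasSchurMultiplier Q A) : Monoid.exponent A ^ 2 ∣ Nat.card Q := by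
  obtain ⟨eA⟩ := CfsgLib.SchurTheory.hasSchurMultiplier_iff.mp hA
  haveI : Finite A := Finite.of_equiv _ eA.symm.toEquiv
  have hQ : Nat.card Q ≠ 0 := Nat.card_pos.ne'
  have he : Monoid.exponent A ^ 2 ≠ 0 := pow_ne_zero _ Monoid.exponent_ne_zero_of_finite
  refine (Nat.factorization_prime_le_iff_dvd he hQ).mp fun p hp => ?_
  haveI := Fact.mk hp
  obtain ⟨x, hx⟩ := hp.exists_orderOf_eq_pow_factorization_exponent A
  obtain ⟨P⟩ := Sylow.nonempty (p := p) (G := Q)
  obtain ⟨r, c, h⟩ := CfsgLib.SchurTheory.exists_res_cores (P : Subgroup Q) hA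
    (CfsgLib.SchurTheory.hasSchurMultiplier_mult P)
  set a := (Monoid.exponent A).factorization p
  have hr : orderOf (r x) = p ^ a := by
    refine Nat.dvd_antisymm (hx ▸ orderOf_map_dvd r x) ?_
    have h1 : orderOf (c (r x)) = p ^ a := by
      rw [h, Nat.Coprime.orderOf_pow, hx]
      rw [hx]
      exact (hp.coprime_iff_not_dvd.mpr P.not_dvd_index).pow_left a
    exact h1 ▸ orderOf_map_dvd c (r x)
  have hle := CfsgLib.SchurTheory.sq_orderOf_le_card
    (CfsgLib.SchurTheory.hasSchurMultiplier_mult P) hp hr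
  rw [Sylow.card_eq_multiplicity, ← pow_mul, Nat.pow_le_pow_iff_right hp.one_lt] at hle
  rw [Nat.factorization_pow, Finsupp.smul_apply, smul_eq_mul, mul_comm]
  exact hle

end Cfsg.Agent.S3952
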