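import Cfsg.Statements.S3953

import Cfsg.Agent.SchurTheory.Restriction
-- import your own Cfsg.Agent.* helpers here

set_option autoImplicit false
open Cfsg

set_option linter.style.haveILetI false

namespace Cfsg.Agent.S3953

/-- Let `P` be a Sylow `p`-subgroup of the finite group `G`, let `A` be the Schur multiplier of `G` and `B` that of `P`. Then the `p`-primary component of `A` is isomorphic to a direct factor of `B`: there are subgroups `C` and `D` of `B` meeting trivially and generating `B`, with `C` isomorphic to the `p`-primary component of `A`. -/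
theorem result {G : Type*} [Group G] [Finite G] (p : ℕ) [Fact p.Prime] (P : Sylow p G) {A B : Type*} [CommGroup A] [CommGroup B] (hA : Cfsg.HasSchurMultiplier G A) (hB : Cfsg.HasSchurMultiplier P B) : ∃ C D : Subgroup B, C ⊓ D = ⊥ ∧ C ⊔ D = ⊤ ∧ Nonempty (CommGroup.primaryComponent A p ≃* C) := by
  obtain ⟨eA⟩ := CfsgLib.SchurTheory.hasSchurMultiplier_iff.mp hA
  haveI : Finite A := Finite.of_equiv _ eA.symm.toEquiv
  obtain ⟨r, c, h⟩ := CfsgLib.SchurTheory.exists_res_cores (P : Subgroup G) hA hB
  have hp : p.Prime := Fact.out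
  set n := Nat.card A
  set n' := n / p ^ n.factorization p with hn'
  set m := (P : Subgroup G).index
  have hn0 : n ≠ 0 := Nat.card_pos.ne'
  have hprim : IsPGroup p (CommGroup.primaryComponent A p) := fun g => by
    obtain ⟨k, hk⟩ := g.2
    exact ⟨k, Subtype.ext hk⟩
  obtain ⟨i, hi⟩ := IsPGroup.iff_card.mp hprim
  have hcop : (Nat.card (CommGroup.primaryComponent A p)).Coprime (m * n') := by
    rw [hi]
    exact (Nat.Coprime.mul_right (hp.coprime_iff_not_dvd.mpr P.not_dvd_index)
      (Nat.coprime_ordCompl hp hn0)).pow_left i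
  let g : B →* CommGroup.primaryComponent A p :=
    ((powMonoidHom n').comp c).codRestrict _ fun b => by
      refine ⟨n.factorization p, ?_⟩
      rw [MonoidHom.comp_apply, powMonoidHom_apply, ← pow_mul, hn', mul_comm,
        Nat.ordProj_mul_ordCompl_eq_self]
      exact pow_card_eq_one'
  let r' : CommGroup.primaryComponent A p →* B := r.comp (CommGroup.primaryComponent A p).subtype
  have hgr : ∀ a, g (r' a) = a ^ (m * n') := fun a => Subtype.ext (by
    show (c (r a)) ^ n' = _
    rw [h, ← pow_mul]
    rfl)
  have hinj : Function.Injective r' := by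
    rw [injective_iff_map_eq_one]
    intro a ha
    have h1 : a ^ (m * n') = 1 := by rw [← hgr, ha, map_one]
    exact (powCoprime hcop).injective (h1.trans (one_pow _).symm)
  refine ⟨r'.range, g.ker, ?_, ?_, ⟨MonoidHom.ofInjective hinj⟩⟩
  · rw [eq_bot_iff]
    rintro _ ⟨⟨a, rfl⟩, ha⟩
    have h1 : a ^ (m * n') = 1 := by rw [← hgr]; exact ha
    rw [Subgroup.mem_bot, (powCoprime hcop).injective (h1.trans (one_pow _).symm), map_one]
  · rw [eq_top_iff]
    intro b _
    obtain ⟨a, ha⟩ := (powCoprime hcop).surjective (g b)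
    replace ha : a ^ (m * n') = g b := ha
    have hk : (r' a)⁻¹ * b ∈ g.ker := by
      rw [MonoidHom.mem_ker, map_mul, map_inv, hgr, ha, inv_mul_cancel]
    have := Subgroup.mul_mem_sup (S := r'.range) (T := g.ker) ⟨a, rfl⟩ hk
    rwa [mul_inv_cancel_left] at this

end Cfsg.Agent.S3953
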