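import Cfsg.Statements.S3954

import Cfsg.Agent.SchurTheory.Restriction
import Cfsg.Agent.SchurTheory.Abelian
-- import your own Cfsg.Agent.* helpers here

set_option autoImplicit false
open Cfsg

set_option linter.style.haveILetI false

namespace Cfsg.Agent.S3954

/-- Let `U` be a subgroup of index `m` in the finite group `G`, let `A` be the Schur multiplier of `G` and `B` that of `U`. Then the subgroup of `m`-th powers of `A` is isomorphic to a subgroup of `B`. -/
theorem result {G : Type*} [Group G] [Finite G] (U : Subgroup G) {A B : Type*} [CommGroup A] [CommGroup B] (hA : Cfsg.HasSchurMultiplier G A) (hB : Cfsg.HasSchurMultiplier U B) : ∃ C : Subgroup B, Nonempty ((powMonoidHom U.index : A →* A).range ≃* C) := by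
  obtain ⟨eA⟩ := CfsgLib.SchurTheory.hasSchurMultiplier_iff.mp hA
  obtain ⟨eB⟩ := CfsgLib.SchurTheory.hasSchurMultiplier_iff.mp hB
  haveI : Finite B := Finite.of_equiv _ eB.symm.toEquiv
  obtain ⟨r, c, h⟩ := CfsgLib.SchurTheory.exists_res_cores U hA hB
  let f : r.range →* (powMonoidHom U.index : A →* A).range :=
    (c.comp r.range.subtype).codRestrict _ fun x => by
      obtain ⟨a, ha⟩ := x.2
      exact ⟨a, by rw [MonoidHom.comp_apply, Subgroup.subtype_apply, ← ha, h]; rfl⟩
  refine CfsgLib.SchurTheory.exists_subgroup_mulEquiv_of_surjective r.range f ?_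
  rintro ⟨_, a, rfl⟩
  exact ⟨⟨r a, a, rfl⟩, Subtype.ext (h a)⟩

end Cfsg.Agent.S3954
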