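import Cfsg.Statements.S3960

import Cfsg.Agent.SchurTheory.Covers

set_option autoImplicit false
universe u
open Cfsg

namespace Cfsg.Agent.S3960

open CfsgLib.SchurTheory

/-- A finite perfect group `Q` has a universal central extension: a finite perfect group `G` in the universe of `Q` and a surjective homomorphism `π : G →* Q` with central kernel such that for every group `X` in that universe and every surjective homomorphism `ξ : X →* Q` with central kernel there is exactly one homomorphism `η : G →* X` with `ξ ∘ η = π`. -/
theorem result {Q : Type u} [Group Q] [Finite Q] (hQ : Group.IsPerfect Q) : ∃ (G : Type u) (_ : Group G) (_ : Finite G) (π : G →* Q), Group.IsPerfect G ∧ Function.Surjective π ∧ π.ker ≤ Subgroup.center G ∧ ∀ (X : Type u) [Group X] (ξ : X →* Q), Function.Surjective ξ → ξ.ker ≤ Subgroup.center X → ∃! η : G →* X, ξ.comp η = π := by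
  set E := Cov (canon Q)
  haveI : Finite (commutator E) := finite_commutator_cov _
  have hperf := isPerfect_commutator_cov hQ
  let π : commutator E →* Q := (covMap (canon Q)).comp (commutator E).subtype
  have hπ : Function.Surjective π := by
    intro q
    have hm : (commutator E).map (covMap (canon Q)) = ⊤ := by
      rw [commutator_def, Subgroup.map_commutator,
        Subgroup.map_top_of_surjective _ (covMap_surjective _ (canon_surjective Q)), ← commutator_def]
      exact Group.isPerfect_def.mp hQ
    obtain ⟨x, hx, e⟩ := hm.ge (Subgroup.mem_top q)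
    exact ⟨⟨x, hx⟩, e⟩
  refine ⟨commutator E, inferInstance, inferInstance, π, hperf, hπ, ?_, ?_⟩
  · intro x hx
    rw [Subgroup.mem_center_iff]
    intro y
    exact Subtype.ext (Subgroup.mem_center_iff.mp
      (covMap_ker_le_center _ (show (x : E) ∈ (covMap (canon Q)).ker from hx)) y)
  · intro X _ ξ hξ hξc
    obtain ⟨φ, hφ⟩ := exists_lift' (canon Q) ξ hξ hξc
    refine ⟨φ.comp (commutator E).subtype, by show ξ.comp _ = π; rw [← MonoidHom.comp_assoc, hφ], fun η hη => ?_⟩
    ext x
    exact eqOn_commutator ξ hξc η (φ.comp (commutator E).subtype)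
      (by rw [hη, ← MonoidHom.comp_assoc, hφ]) ((Group.isPerfect_def.mp hperf).ge (Subgroup.mem_top x))

end Cfsg.Agent.S3960
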