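import Cfsg.Statements.S3962

set_option autoImplicit false
open Cfsg

namespace Cfsg.Agent.S3962

/-- A central quotient of a perfect group maps the centre onto the centre. -/
theorem result {G Q : Type*} [Group G] [Group Q] (hG : Group.IsPerfect G) (π : G →* Q) (hπ : Function.Surjective π) (hker : π.ker ≤ Subgroup.center G) : (Subgroup.center G).map π = Subgroup.center Q := by
  refine le_antisymm ?_ ?_
  · rintro _ ⟨z, hz, rfl⟩
    refine Subgroup.mem_center_iff.mpr fun x => ?_
    obtain ⟨y, rfl⟩ := hπ x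
    rw [← map_mul, ← map_mul, Subgroup.mem_center_iff.mp hz y]
  intro q hq
  obtain ⟨g, rfl⟩ := hπ q
  refine Subgroup.mem_map_of_mem π ?_
  have hc : ∀ x, g * x * g⁻¹ * x⁻¹ ∈ Subgroup.center G := fun x => hker <| by
    rw [MonoidHom.mem_ker]
    simp only [map_mul, map_inv]
    rw [← Subgroup.mem_center_iff.mp hq (π x)]
    group
  let φ : G →* Subgroup.center G :=
    MonoidHom.mk' (fun x => ⟨g * x * g⁻¹ * x⁻¹, hc x⟩) (fun x y => by
      apply Subtype.ext
      simp only [Subgroup.coe_mul]
      calc g * (x * y) * g⁻¹ * (x * y)⁻¹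
          = g * x * g⁻¹ * ((g * y * g⁻¹ * y⁻¹) * x⁻¹) := by group
        _ = g * x * g⁻¹ * (x⁻¹ * (g * y * g⁻¹ * y⁻¹)) := by
            rw [Subgroup.mem_center_iff.mp (hc y) x⁻¹]
        _ = _ := by group)
  have h1 : commutator G ≤ φ.ker := by
    rw [commutator_def, Subgroup.commutator_le]
    intro a _ b _
    rw [MonoidHom.mem_ker, map_commutatorElement, commutatorElement_def]
    have e : φ a * φ b = φ b * φ a :=
      Subtype.ext (Subgroup.mem_center_iff.mp (φ b).2 _)
    rw [e]; group
  rw [Group.isPerfect_def.mp hG] at h1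
  refine Subgroup.mem_center_iff.mpr fun x => ?_
  have h2 : g * x * g⁻¹ * x⁻¹ = 1 := congrArg Subtype.val (h1 (Subgroup.mem_top x))
  rw [mul_inv_eq_one, mul_inv_eq_iff_eq_mul] at h2
  exact h2.symm

end Cfsg.Agent.S3962
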