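import Cfsg.Statements.S3961

import Cfsg.Agent.SchurTheory.Covers
import Cfsg.Agent.S3962

set_option autoImplicit false
universe u v
open Cfsg

namespace Cfsg.Agent.S3961

open CfsgLib.SchurTheory

/-- Let `π : G →* Q` be a surjective homomorphism with central kernel from a finite perfect group `G` (a perfect cover of `Q`). Then `π` is universal, in the sense that every surjective homomorphism `ξ : X →* Q` with central kernel from a group `X` in the universe of `G` admits a homomorphism `η : G →* X` with `ξ ∘ η = π`, if and only if `G` has trivial Schur multiplier. -/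
theorem result {G : Type u} {Q : Type v} [Group G] [Group Q] [Finite G] (hG : Group.IsPerfect G) (π : G →* Q) (hπ : Function.Surjective π) (hker : π.ker ≤ Subgroup.center G) : (∀ (X : Type u) [Group X] (ξ : X →* Q), Function.Surjective ξ → ξ.ker ≤ Subgroup.center X → ∃ η : G →* X, ξ.comp η = π) ↔ Cfsg.HasCyclicSchurMultiplier G 1 := by
  constructor
  · intro huniv
    rw [hasCyclicSchurMultiplier_one_iff]
    obtain ⟨G₁, _, _, σ, hσ, ⟨e⟩⟩ := exists_cover G
    have hG₁ := isPerfect_of_stem σ hσ hG
    have hcen : (π.comp σ).ker ≤ Subgroup.center G₁ := by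
      intro x hx
      have h1 : σ x ∈ Subgroup.center G := hker hx
      rw [← Cfsg.Agent.S3962.result hG₁ σ hσ.1 hσ.2.1] at h1
      obtain ⟨y, hy, e'⟩ := h1
      have hk : y⁻¹ * x ∈ Subgroup.center G₁ := hσ.2.1 (by
        rw [MonoidHom.mem_ker, map_mul, map_inv, e', inv_mul_cancel])
      exact (Subgroup.mul_mem_cancel_left _ (inv_mem hy)).mp hk
    obtain ⟨η, hη⟩ := huniv G₁ (π.comp σ) (hπ.comp hσ.1) hcen
    have hid : σ.comp η = MonoidHom.id G := by
      ext x
      exact eqOn_commutator π hker (σ.comp η) (MonoidHom.id G)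
        (by rw [← MonoidHom.comp_assoc, hη]; rfl) ((Group.isPerfect_def.mp hG).ge (Subgroup.mem_top x))
    have hηs : Function.Surjective η := lift_surjective σ hσ η (by rw [hid]; exact fun x => ⟨x, rfl⟩)
    have hbot : σ.ker = ⊥ := by
      rw [eq_bot_iff]
      intro x hx
      obtain ⟨g, rfl⟩ := hηs x
      have hg : g = 1 := (DFunLike.congr_fun hid g).symm.trans hx
      rw [hg, map_one]
      exact one_mem _
    rw [← Subgroup.card_eq_one]
    rw [← Nat.card_congr e.toEquiv, hbot, Subgroup.card_bot]
  · intro h X _ ξ hξ hξc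
    let P : Subgroup (G × X) := (π.comp (MonoidHom.fst G X)).eqLocus (ξ.comp (MonoidHom.snd G X))
    let τ : P →* G := (MonoidHom.fst G X).comp P.subtype
    have hτs : Function.Surjective τ := fun g => by
      obtain ⟨x, hx⟩ := hξ (π g)
      exact ⟨⟨(g, x), hx.symm⟩, rfl⟩
    have hτc : τ.ker ≤ Subgroup.center P := by
      rintro ⟨⟨g, x⟩, hgx⟩ h1
      have hg : g = 1 := h1
      subst hg
      have hgx' : π 1 = ξ x := hgx
      rw [Subgroup.mem_center_iff]
      intro w
      have := Subgroup.mem_center_iff.mp (hξc (by rw [MonoidHom.mem_ker, ← hgx', map_one])) w.1.2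
      exact Subtype.ext (Prod.ext (by simp) this)
    have hbot := inf_commutator_eq_bot h τ hτs hτc
    let f : commutator P →* G := τ.comp (commutator P).subtype
    have hf : Function.Bijective f := by
      refine ⟨(injective_iff_map_eq_one f).mpr fun x hx => Subtype.ext ?_, fun g => ?_⟩
      · exact Subgroup.mem_bot.mp (hbot ▸ (Subgroup.mem_inf.mpr ⟨hx, x.2⟩ :
          (x : P) ∈ τ.ker ⊓ commutator P))
      · have hm : (commutator P).map τ = ⊤ := by
          rw [commutator_def, Subgroup.map_commutator, Subgroup.map_top_of_surjective _ hτs,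
            ← commutator_def]
          exact Group.isPerfect_def.mp hG
        obtain ⟨y, hy, e⟩ := hm.ge (Subgroup.mem_top g)
        exact ⟨⟨y, hy⟩, e⟩
    let η : G →* X := ((MonoidHom.snd G X).comp (P.subtype.comp (commutator P).subtype)).comp
      (MulEquiv.ofBijective f hf).symm.toMonoidHom
    refine ⟨η, ?_⟩
    ext g
    have h2 := ((MulEquiv.ofBijective f hf).symm g).1.2
    have e : f ((MulEquiv.ofBijective f hf).symm g) = g := (MulEquiv.ofBijective f hf).apply_symm_apply g
    calc ξ (η g) = π (f ((MulEquiv.ofBijective f hf).symm g)) := h2.symm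
      _ = π g := by rw [e]

end Cfsg.Agent.S3961
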