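import Cfsg.Statements.S3963

import Cfsg.Agent.SchurTheory.Metacyclic

set_option autoImplicit false
open Cfsg

namespace Cfsg.Agent.S3963

open CfsgLib.SchurTheory QuaternionGroup

/-- `QuaternionGroup n` as a metacyclic group. -/
theorem data (n : ℕ) [NeZero n] :
    MetacyclicData (QuaternionGroup.a (1 : ZMod (2 * n))) (QuaternionGroup.xa 0) (2 * n) 2
      (4 * n - 1) n := by
  have hn : 0 < n := Nat.pos_of_neZero n
  have hgen : Subgroup.closure ({QuaternionGroup.a (1 : ZMod (2 * n)), QuaternionGroup.xa 0} :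
      Set (QuaternionGroup n)) = ⊤ := by
    refine eq_top_iff.mpr fun x _ => ?_
    rcases x with i | i
    · rw [← ZMod.natCast_zmod_val i, ← a_one_pow]
      exact pow_mem (Subgroup.subset_closure (by simp)) _
    · rw [show xa i = xa 0 * a (1 : ZMod (2 * n)) ^ i.val by
        rw [a_one_pow, ZMod.natCast_zmod_val, xa_mul_a, zero_add]]
      exact mul_mem (Subgroup.subset_closure (by simp))
        (pow_mem (Subgroup.subset_closure (by simp)) _)
  have hconj : xa 0 * a (1 : ZMod (2 * n)) * (xa 0)⁻¹ = a 1 ^ (4 * n - 1) := by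
    rw [mul_inv_eq_iff_eq_mul, a_one_pow, xa_mul_a, a_mul_xa, zero_add, zero_sub,
      Nat.cast_sub (by omega)]
    have h2 : ((4 * n : ℕ) : ZMod (2 * n)) = 0 := (ZMod.natCast_eq_zero_iff _ _).mpr ⟨2, by ring⟩
    rw [h2]; simp
  refine ⟨by omega, two_pos, by omega, hgen, orderOf_a_one, ?_, hconj, ?_⟩
  · rw [pow_two, xa_mul_xa, a_one_pow]; simp
  · exact fun j => ordB_of_card hgen orderOf_a_one hconj
      (by rw [Nat.card_eq_fintype_card, QuaternionGroup.card]; ring) j

/-- For every `n ≥ 1` the dicyclic (generalized quaternion) group of order `4 n` has trivial Schur multiplier. -/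
theorem result (n : ℕ) [NeZero n] : Cfsg.HasCyclicSchurMultiplier (QuaternionGroup n) 1 := by
  have hn : 0 < n := Nat.pos_of_neZero n
  have h1 : metacyclicMult (2 * n) 2 (4 * n - 1) n = 1 := by
    have h2 : 4 * n - 1 - 1 = 2 * (2 * n - 1) := by omega
    have h3 : ∑ i ∈ Finset.range 2, (4 * n - 1) ^ i = n * 4 := by
      simp [Finset.sum_range_succ]; omega
    have h4 : Nat.gcd (2 * n) (2 * (2 * n - 1)) = 2 := by
      have hco : Nat.gcd n (2 * n - 1) = 1 := by
        refine Nat.eq_one_of_dvd_one ?_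
        have e1 := Nat.gcd_dvd_left n (2 * n - 1)
        have e2 := Nat.gcd_dvd_right n (2 * n - 1)
        have e3 := Nat.dvd_sub (e1.mul_left 2) e2
        rwa [show 2 * n - (2 * n - 1) = 1 by omega] at e3
      rw [Nat.gcd_mul_left, hco]
    rw [metacyclicMult, h2, h3, h4, Nat.gcd_eq_right (dvd_mul_left n 2),
      Nat.gcd_eq_left (dvd_mul_right n 4), Nat.mul_div_cancel_left n two_pos,
      Nat.div_self hn]
  have := (data n).hasCyclicSchurMultiplier
  rwa [h1] at this

end Cfsg.Agent.S3963
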