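import Cfsg.Statements.S3964

import Cfsg.Agent.SchurTheory.Metacyclic

set_option autoImplicit false
open Cfsg

namespace Cfsg.Agent.S3964

open CfsgLib.SchurTheory DihedralGroup

/-- `DihedralGroup n` as a metacyclic group. -/
theorem data (n : ℕ) [NeZero n] :
    MetacyclicData (DihedralGroup.r (1 : ZMod n)) (DihedralGroup.sr 0) n 2 (2 * n - 1) 0 := by
  have hn : 0 < n := Nat.pos_of_neZero n
  have hgen : Subgroup.closure ({DihedralGroup.r (1 : ZMod n), DihedralGroup.sr 0} :
      Set (DihedralGroup n)) = ⊤ := by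
    refine eq_top_iff.mpr fun x _ => ?_
    rcases x with i | i
    · rw [← ZMod.natCast_zmod_val i, ← r_one_pow]
      exact pow_mem (Subgroup.subset_closure (by simp)) _
    · rw [show sr i = sr 0 * DihedralGroup.r (1 : ZMod n) ^ i.val by
        rw [r_one_pow, ZMod.natCast_zmod_val, sr_mul_r, zero_add]]
      exact mul_mem (Subgroup.subset_closure (by simp))
        (pow_mem (Subgroup.subset_closure (by simp)) _)
  have hconj : sr 0 * DihedralGroup.r (1 : ZMod n) * (sr 0)⁻¹ =
      DihedralGroup.r 1 ^ (2 * n - 1) := by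
    rw [mul_inv_eq_iff_eq_mul, r_one_pow, sr_mul_r, r_mul_sr, zero_add, zero_sub,
      Nat.cast_sub (by omega)]
    simp
  refine ⟨hn, two_pos, by omega, hgen, orderOf_r_one, ?_, hconj, ?_⟩
  · rw [pow_two, sr_mul_self, pow_zero]
  · exact fun j => ordB_of_card hgen orderOf_r_one hconj
      (by rw [DihedralGroup.nat_card]; ring) j

/-- The order of the multiplier of the dihedral group. -/
theorem value (n : ℕ) [NeZero n] : metacyclicMult n 2 (2 * n - 1) 0 = Nat.gcd n 2 := by
  have hn : 0 < n := Nat.pos_of_neZero n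
  have h2 : 2 * n - 1 - 1 = 2 * (n - 1) := by omega
  have h3 : ∑ i ∈ Finset.range 2, (2 * n - 1) ^ i = n * 2 := by
    simp [Finset.sum_range_succ]; omega
  have h4 : Nat.gcd n (2 * (n - 1)) = Nat.gcd n 2 := by
    refine Nat.dvd_antisymm (Nat.dvd_gcd (Nat.gcd_dvd_left _ _) ?_)
      (Nat.dvd_gcd (Nat.gcd_dvd_left _ _) ((Nat.gcd_dvd_right n 2).mul_right _))
    have e1 := Nat.gcd_dvd_left n (2 * (n - 1))
    have e2 := Nat.gcd_dvd_right n (2 * (n - 1))
    have e3 := Nat.dvd_sub (e1.mul_left 2) e2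
    rwa [show 2 * n - 2 * (n - 1) = 2 by omega] at e3
  rw [metacyclicMult, h2, h3, h4, Nat.gcd_zero_right, Nat.gcd_eq_left (dvd_mul_right n 2),
    Nat.div_div_self (Nat.gcd_dvd_left n 2) hn.ne']

/-- For odd `n` the dihedral group of order `2 n` has trivial Schur multiplier. -/
theorem result (n : ℕ) (hn : Odd n) : Cfsg.HasCyclicSchurMultiplier (DihedralGroup n) 1 := by
  haveI : NeZero n := ⟨hn.pos.ne'⟩
  have := (data n).hasCyclicSchurMultiplier
  rwa [value, Nat.Coprime.gcd_eq_one (Nat.coprime_two_right.mpr hn)] at this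

end Cfsg.Agent.S3964
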