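import Cfsg.Statements.S3966
import Mathlib.GroupTheory.SpecificGroups.Quaternion
import Mathlib.Tactic


set_option autoImplicit false
open Cfsg

namespace Cfsg.Agent.S3966

open QuaternionGroup in
/-- Reduction modulo `n`. -/
def proj (n : ℕ) : QuaternionGroup n →* DihedralGroup n where
  toFun := fun x => match x with
    | .a i => DihedralGroup.r (ZMod.castHom (dvd_mul_left n 2) (ZMod n) i)
    | .xa i => DihedralGroup.sr (ZMod.castHom (dvd_mul_left n 2) (ZMod n) i)
  map_one' := by
    rw [QuaternionGroup.one_def]
    simp only [map_zero]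
    rfl
  map_mul' := by
    rintro (i | i) (j | j) <;> simp [← ZMod.castHom_apply, -ZMod.castHom_apply, map_add, map_sub]

/-- For even `n ≥ 2` the dicyclic group of order `4 n` is a stem extension of the dihedral group of order `2 n` with kernel of order `2`: there is a surjective homomorphism `QuaternionGroup n →* DihedralGroup n` whose kernel is central, lies in the commutator subgroup and has two elements. Together with the order of the multiplier this exhibits the dicyclic group as a Schur covering group of the dihedral group. -/
theorem result (n : ℕ) [NeZero n] (hn : Even n) : ∃ σ : QuaternionGroup n →* DihedralGroup n, Cfsg.IsStemExtension σ ∧ Nat.card σ.ker = 2 := by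
  have hn2 : 2 ≤ n := by
    obtain ⟨k, rfl⟩ := hn
    have := NeZero.ne (k + k)
    omega
  set σ := proj n
  have hker : ∀ x, x ∈ σ.ker ↔ x = 1 ∨ x = QuaternionGroup.a (n : ZMod (2 * n)) := by
    intro x
    rw [MonoidHom.mem_ker]
    rcases x with i | i
    · show DihedralGroup.r _ = DihedralGroup.r 0 ↔ _
      rw [DihedralGroup.r.injEq, QuaternionGroup.one_def, QuaternionGroup.a.injEq,
        QuaternionGroup.a.injEq]
      constructor
      · intro h
        rw [ZMod.castHom_apply, ← ZMod.natCast_zmod_val i, ZMod.cast_natCast (dvd_mul_left n 2),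
          ZMod.natCast_eq_zero_iff] at h
        obtain ⟨k, hk⟩ := h
        have hlt := ZMod.val_lt i
        have hk2 : k < 2 := by
          by_contra hc
          have : n * 2 ≤ n * k := Nat.mul_le_mul_left n (not_lt.mp hc)
          omega
        interval_cases k
        · left; rw [← ZMod.natCast_zmod_val i, hk]; simp
        · right; rw [← ZMod.natCast_zmod_val i, hk]; simp
      · rintro (rfl | rfl)
        · exact map_zero _
        · rw [map_natCast, ZMod.natCast_self]
    · constructor
      · intro h; cases h
      · rintro (h | h) <;> cases h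
  have hne : QuaternionGroup.a (n : ZMod (2 * n)) ≠ 1 := by
    rw [QuaternionGroup.one_def, Ne, QuaternionGroup.a.injEq, ZMod.natCast_eq_zero_iff]
    exact fun h => absurd (Nat.le_of_dvd (by omega) h) (by omega)
  refine ⟨σ, ⟨?_, ?_, ?_⟩, ?_⟩
  · rintro (i | i)
    · obtain ⟨j, hj⟩ := ZMod.castHom_surjective (dvd_mul_left n 2) i
      exact ⟨.a j, congrArg DihedralGroup.r hj⟩
    · obtain ⟨j, hj⟩ := ZMod.castHom_surjective (dvd_mul_left n 2) i
      exact ⟨.xa j, congrArg DihedralGroup.sr hj⟩
  · intro x hx
    rw [Subgroup.mem_center_iff]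
    rcases (hker x).mp hx with rfl | rfl
    · simp
    · have h2 : (n : ZMod (2 * n)) + n = 0 := by
        rw [← Nat.cast_add, ← two_mul, ZMod.natCast_self]
      rintro (j | j)
      · rw [QuaternionGroup.a_mul_a, QuaternionGroup.a_mul_a, add_comm]
      · rw [QuaternionGroup.xa_mul_a, QuaternionGroup.a_mul_xa, eq_neg_of_add_eq_zero_left h2,
          sub_neg_eq_add]
        conv_lhs => rw [← eq_neg_of_add_eq_zero_left h2]
  · intro x hx
    rcases (hker x).mp hx with rfl | rfl
    · exact one_mem _
    · obtain ⟨k, hk⟩ := hn
      have hc : ∀ i : ZMod (2 * n), QuaternionGroup.a (-(i + i)) ∈ commutator (QuaternionGroup n) := by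
        intro i
        have := Subgroup.commutator_mem_commutator (Subgroup.mem_top (QuaternionGroup.xa (0 : ZMod (2 * n))))
          (Subgroup.mem_top (QuaternionGroup.a i))
        rw [commutator_def]
        convert this using 1
        rw [commutatorElement_def, QuaternionGroup.xa_mul_a,
          show (QuaternionGroup.xa (0 : ZMod (2 * n)))⁻¹ = QuaternionGroup.xa ((n : ZMod (2 * n)) + 0) from rfl,
          show (QuaternionGroup.a i)⁻¹ = QuaternionGroup.a (-i) from rfl,
          QuaternionGroup.xa_mul_xa, QuaternionGroup.a_mul_a]
        congr 1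
        have h2 : (n : ZMod (2 * n)) + n = 0 := by rw [← Nat.cast_add, ← two_mul, ZMod.natCast_self]
        linear_combination -h2
      have := hc (k : ZMod (2 * n))
      have h2 : (n : ZMod (2 * n)) + n = 0 := by rw [← Nat.cast_add, ← two_mul, ZMod.natCast_self]
      rwa [← Nat.cast_add, ← hk, ← eq_neg_of_add_eq_zero_left h2] at this
  · have hset : (σ.ker : Set (QuaternionGroup n)) = {1, QuaternionGroup.a (n : ZMod (2 * n))} :=
      Set.ext fun x => by simpa using hker x
    show Nat.card (σ.ker : Set (QuaternionGroup n)) = 2
    rw [Nat.card_coe_set_eq, hset, Set.ncard_pair hne.symm]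

end Cfsg.Agent.S3966
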