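import Cfsg.Statements.S3967

import Cfsg.Agent.SchurTheory.Metacyclic

set_option autoImplicit false
open Cfsg

namespace Cfsg.Agent.S3967

open CfsgLib.SchurTheory

/-- Let `m, n ≥ 1`, `r ≥ 1` with `r ^ n ≡ 1 (mod m)`, and `l` a natural number; put `d = gcd(m, r - 1)`, `t = m l / d` and `h = d · gcd(m, 1 + r + ⋯ + r^(n-1)) / m`. The group presented by generators `a, b` and relations `a ^ m = 1`, `b ^ n = a ^ t`, `b a b⁻¹ = a ^ r` (a metacyclic group of order `m n`) has Schur multiplier cyclic of order `gcd(l, h)`. -/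
theorem result (m n r l : ℕ) (hm : 0 < m) (hn : 0 < n) (hr : 0 < r) (hrn : r ^ n ≡ 1 [MOD m]) : Cfsg.HasCyclicSchurMultiplier (PresentedGroup ({FreeGroup.of true ^ m, (FreeGroup.of false) ^ n * (FreeGroup.of true ^ (m * l / Nat.gcd m (r - 1)))⁻¹, FreeGroup.of false * FreeGroup.of true * (FreeGroup.of false)⁻¹ * (FreeGroup.of true ^ r)⁻¹} : Set (FreeGroup Bool))) (Nat.gcd l (Nat.gcd m (r - 1) * Nat.gcd m (∑ i ∈ Finset.range n, r ^ i) / m)) := by
  set d := Nat.gcd m (r - 1) with hdd
  set t := m * l / d with ht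
  set rels : Set (FreeGroup Bool) := {FreeGroup.of true ^ m,
    (FreeGroup.of false) ^ n * (FreeGroup.of true ^ t)⁻¹,
    FreeGroup.of false * FreeGroup.of true * (FreeGroup.of false)⁻¹ * (FreeGroup.of true ^ r)⁻¹}
  have hd0 : 0 < d := Nat.gcd_pos_of_pos_left _ hm
  have hdm : d ∣ m := Nat.gcd_dvd_left _ _
  have htk : t = m / d * l := Nat.mul_div_right_comm hdm l
  set a : PresentedGroup rels := PresentedGroup.of true with ha
  set b : PresentedGroup rels := PresentedGroup.of false with hb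
  have hra : a ^ m = 1 := PresentedGroup.one_of_mem (rels := rels) (Set.mem_insert _ _)
  have hrb : b ^ n = a ^ t := mul_inv_eq_one.mp
    (PresentedGroup.one_of_mem (rels := rels) (Set.mem_insert_of_mem _ (Set.mem_insert _ _)))
  have hrc : b * a * b⁻¹ = a ^ r := mul_inv_eq_one.mp (PresentedGroup.one_of_mem (rels := rels)
    (Set.mem_insert_of_mem _ (Set.mem_insert_of_mem _ rfl)))
  have hgen : Subgroup.closure ({a, b} : Set (PresentedGroup rels)) = ⊤ := by
    rw [← PresentedGroup.closure_range_of (rels := rels)]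
    congr 1
    ext x
    constructor
    · rintro (rfl | rfl)
      exacts [⟨true, rfl⟩, ⟨false, rfl⟩]
    · rintro ⟨(_ | _), rfl⟩
      exacts [Or.inr rfl, Or.inl rfl]
  haveI : Finite (PresentedGroup rels) := finite_of_metacyclic_rels hm hn hgen hra hrb hrc
  have hrt : r * t ≡ t [MOD m] := by
    refine ((Nat.modEq_iff_dvd' (Nat.le_mul_of_pos_left t hr)).mpr ?_).symm
    obtain ⟨u, hu⟩ := Nat.gcd_dvd_right m (r - 1)
    rw [show r * t - t = (r - 1) * t by rw [Nat.sub_mul, one_mul], hu, htk, ← hdd]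
    exact ⟨u * l, by rw [show d * u * (m / d * l) = d * (m / d) * (u * l) by ring,
      Nat.mul_div_cancel' hdm]⟩
  have md : ModelData m n r t 1 := ⟨hn, one_dvd _, hrn, hrt, one_dvd _, one_dvd _⟩
  have hrel : ∀ x ∈ rels, FreeGroup.lift (fun c : Bool => if c then md.genA else md.genB) x = 1 := by
    rintro x (rfl | rfl | rfl)
    · simp [md.genA_pow_m]
    · simp [md.genB_pow_n]
    · simp only [map_mul, map_inv, map_pow, FreeGroup.lift_apply_of, if_true, Bool.false_eq_true,
        if_false]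
      rw [mul_inv_eq_one, md.genB_conj, ← zpow_natCast, md.genA_zpow, Int.cast_natCast]
      congr 4
  let ψ : PresentedGroup rels →* md.grp := PresentedGroup.toGroup hrel
  have hψa : ψ a = md.genA := by simp [ψ, ha]
  have hψb : ψ b = md.genB := by simp [ψ, hb]
  have hd : MetacyclicData a b m n r t := by
    refine ⟨hm, hn, hr, hgen, Nat.dvd_antisymm (orderOf_dvd_of_pow_eq_one hra) ?_, hrb, hrc, ?_⟩
    · have h1 : md.genA ^ (orderOf a : ℤ) = 1 := by
        rw [zpow_natCast, ← hψa, ← map_pow, pow_orderOf_eq_one, map_one]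
      exact_mod_cast md.genA_zpow_eq_one h1
    · rintro j ⟨i, hi⟩
      refine md.dvd_of_genB_zpow (i := i) ?_
      rw [← hψa, ← hψb, ← map_zpow, ← map_zpow]
      exact congrArg ψ hi.symm
  have hk0 : m / d ∣ Nat.gcd m (∑ i ∈ Finset.range n, r ^ i) :=
    Nat.dvd_gcd (Nat.div_dvd_of_dvd hdm) (MetacyclicData.div_dvd_of_dvd_mul hm hd.m_dvd_sum)
  have hval : metacyclicMult m n r t =
      Nat.gcd l (d * Nat.gcd m (∑ i ∈ Finset.range n, r ^ i) / m) := by
    obtain ⟨c, hc⟩ := hk0
    have hpos : 0 < m / d := Nat.div_pos (Nat.le_of_dvd hm hdm) hd0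
    have e1 : Nat.gcd (Nat.gcd m t) (∑ i ∈ Finset.range n, r ^ i)
        = m / d * Nat.gcd l c := by
      rw [Nat.gcd_assoc, Nat.gcd_comm t, ← Nat.gcd_assoc, hc, htk, Nat.gcd_mul_left, Nat.gcd_comm]
    have e2 : d * Nat.gcd m (∑ i ∈ Finset.range n, r ^ i) / m = c := by
      rw [hc, ← mul_assoc, Nat.mul_div_cancel' hdm, Nat.mul_div_cancel_left c hm]
    rw [metacyclicMult, ← hdd, e1, e2, Nat.mul_div_cancel_left _ hpos]
  have := hd.hasCyclicSchurMultiplier
  rwa [hval] at this

end Cfsg.Agent.S3967
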