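import Cfsg.Statements.S3968

import Cfsg.Agent.Characters.Burnside

set_option autoImplicit false
open Cfsg

namespace Cfsg.Agent.S3968

open CfsgLib.Characters

/-- Let `p` be a prime and `G` a finite group with a faithful irreducible complex character of degree `p` (so `G` is an irreducible linear group in `p` variables). If `p ^ 2` divides the order of `G`, then the centre of `G` is nontrivial. -/
theorem result {G : Type*} [Group G] [Finite G] (p : ℕ) (hp : p.Prime) (χ : Cfsg.IrrCharacter G) (hdeg : χ.1 1 = p) (hfaith : ∀ g : G, χ.1 g = χ.1 1 → g = 1) (hdiv : p ^ 2 ∣ Nat.card G) : Subgroup.center G ≠ ⊥ := by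
  classical
  intro hZ
  haveI := Fintype.ofFinite G
  haveI := Fact.mk hp
  obtain ⟨n, ρ, hρ, hρχ⟩ := χ.2
  rw [← hρχ] at hdeg hfaith
  have hn : Module.finrank ℂ (Fin n → ℂ) = p := by
    rw [Representation.char_one] at hdeg
    exact_mod_cast hdeg
  obtain ⟨P⟩ := Sylow.nonempty (p := p) (G := G)
  -- values on the centre of `P` vanish
  have hvan : ∀ z ∈ (P : Subgroup G), (∀ y ∈ (P : Subgroup G), z * y = y * z) → z ≠ 1 →
      ρ.character z = 0 := by
    intro z hz hzc hz1
    have hcop : Nat.Coprime (Module.finrank ℂ (Fin n → ℂ))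
        (Subgroup.centralizer ({z} : Set G)).index := by
      rw [hn, hp.coprime_iff_not_dvd]
      refine fun hd => P.not_dvd_index (hd.trans (Subgroup.index_dvd_of_le fun y hy => ?_))
      exact Subgroup.mem_centralizer_singleton_iff.mpr (hzc y hy).symm
    refine (char_zero_or_norm_of_coprime ρ z hcop).resolve_right fun hnorm => hz1 ?_
    obtain ⟨w, hw⟩ := (norm_char_eq_iff_scalar ρ z).mp hnorm
    have hc : z ∈ Subgroup.center G := by
      rw [Subgroup.mem_center_iff]
      intro g
      have he : ρ (g * z) = ρ (z * g) := by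
        rw [map_mul, map_mul, hw]
        ext x
        simp
      have h1 : ρ (g * z * g⁻¹ * z⁻¹) = LinearMap.id := by
        rw [map_mul, map_mul, he, ← map_mul, ← map_mul, mul_assoc z g g⁻¹, mul_inv_cancel, mul_one,
          mul_inv_cancel, map_one]
        rfl
      have h2 := hfaith _ (((char_eq_finrank_iff ρ _).mpr h1).trans (Representation.char_one ρ).symm)
      rwa [mul_inv_eq_one, mul_inv_eq_iff_eq_mul] at h2
    rw [hZ] at hc
    exact Subgroup.mem_bot.mp hc
  haveI := Fintype.ofFinite (P : Subgroup G)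
  have hres : Cfsg.IsCharacter (P : Subgroup G) (fun x : (P : Subgroup G) => ρ.character x) :=
    isCharacter_restrict _ ⟨n, ρ, rfl⟩
  by_cases hab : ∀ x ∈ (P : Subgroup G), ∀ y ∈ (P : Subgroup G), x * y = y * x
  · -- `P` abelian: the restriction is a multiple of the regular character
    obtain ⟨k, hk⟩ := classInner_characters hres
      (isCharacter_one (G := (P : Subgroup G)))
    rw [Cfsg.classInner, Finset.sum_eq_single (1 : (P : Subgroup G))
      (fun x _ hx => by
        rw [hvan x x.2 (hab x x.2) (fun h => hx (Subtype.ext h)), zero_mul])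
      (fun h => absurd (Finset.mem_univ _) h)] at hk
    simp only [OneMemClass.coe_one, map_one, mul_one] at hk
    rw [hdeg, inv_mul_eq_iff_eq_mul₀ natCard_ne_zero] at hk
    have hk' : p = Nat.card (P : Subgroup G) * k := by exact_mod_cast hk
    rw [P.card_eq_multiplicity] at hk'
    have h2 : 2 ≤ (Nat.card G).factorization p :=
      (hp.pow_dvd_iff_le_factorization Nat.card_pos.ne').mp hdiv
    have hle := Nat.le_of_dvd hp.pos (show p ^ (Nat.card G).factorization p ∣ p from ⟨k, hk'⟩)
    have := Nat.pow_le_pow_right hp.pos h2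
    nlinarith [hp.two_le]
  · -- `P` nonabelian: the restriction is irreducible
    push Not at hab
    obtain ⟨x, hx, y, hy, hxy⟩ := hab
    haveI : Nontrivial (P : Subgroup G) :=
      ⟨⟨x, hx⟩, 1, fun h => hxy (by
        have : x = 1 := congrArg Subtype.val h
        rw [this, one_mul, mul_one])⟩
    obtain ⟨m, hm⟩ := exists_nat_coeff hres
    choose d hd0 hd using fun φ : Cfsg.IrrCharacter (P : Subgroup G) => exists_degree_pos φ.2
    have hsum : p = ∑ φ, m φ * d φ := by
      have h1 := congrFun hm 1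
      simp only [OneMemClass.coe_one, Finset.sum_apply, Pi.smul_apply, smul_eq_mul, hd, hdeg] at h1
      exact_mod_cast h1
    obtain ⟨φ, hφm, hφd⟩ : ∃ φ, m φ ≠ 0 ∧ d φ ≠ 1 := by
      by_contra hall
      push Not at hall
      apply hxy
      have hlin : ∀ φ, m φ ≠ 0 → φ.1
          (⟨x, hx⟩ * ⟨y, hy⟩ * ⟨x, hx⟩⁻¹ * ⟨y, hy⟩⁻¹) = 1 := by
        intro φ hφ
        obtain ⟨f, hf⟩ := exists_hom_of_degree_one (isCharacter_of_isIrr φ.2)
          (by rw [hd, hall φ hφ, Nat.cast_one])
        rw [hf]
        simp only []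
        rw [map_mul, map_mul, map_mul, map_inv, map_inv, mul_comm (f ⟨x, hx⟩) (f ⟨y, hy⟩),
          mul_inv_cancel_right, mul_inv_cancel, Units.val_one]
      have h2 : ρ.character (x * y * x⁻¹ * y⁻¹) = ρ.character 1 := by
        have ea := congrFun hm (⟨x, hx⟩ * ⟨y, hy⟩ * ⟨x, hx⟩⁻¹ * ⟨y, hy⟩⁻¹)
        have eb := congrFun hm 1
        simp only [Subgroup.coe_mul, Subgroup.coe_inv, OneMemClass.coe_one, Finset.sum_apply,
          Pi.smul_apply, smul_eq_mul] at ea eb
        rw [ea, eb]
        refine Finset.sum_congr rfl fun φ _ => ?_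
        rcases eq_or_ne (m φ) 0 with h0 | h0
        · simp [h0]
        · rw [hlin φ h0, hd, hall φ h0, Nat.cast_one]
      have := hfaith _ h2
      rwa [mul_inv_eq_one, mul_inv_eq_iff_eq_mul] at this
    have hdp : d φ ∣ Nat.card (P : Subgroup G) := by
      obtain ⟨k, σ, hσ, hσφ⟩ := φ.2
      have h1 := finrank_dvd_card σ
      have h2 := hd φ
      rw [← hσφ, Representation.char_one] at h2
      rwa [Nat.cast_inj.mp h2] at h1
    rw [P.card_eq_multiplicity] at hdp
    obtain ⟨i, -, hi⟩ := (Nat.dvd_prime_pow hp).mp hdp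
    have hi0 : i ≠ 0 := fun h => hφd (by rw [hi, h, pow_zero])
    have hpd : p ≤ d φ := hi ▸ Nat.le_self_pow hi0 p
    rw [← Finset.add_sum_erase _ _ (Finset.mem_univ φ)] at hsum
    have hle : d φ ≤ m φ * d φ := Nat.le_mul_of_pos_left _ (Nat.pos_of_ne_zero hφm)
    have hrest : ∀ ψ ≠ φ, m ψ = 0 := by
      intro ψ hψ
      have := Finset.single_le_sum (f := fun ψ => m ψ * d ψ) (fun _ _ => Nat.zero_le _)
        (Finset.mem_erase.mpr ⟨hψ, Finset.mem_univ ψ⟩)
      have h0 : m ψ * d ψ = 0 := by omega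
      exact (mul_eq_zero.mp h0).resolve_right (hd0 ψ).ne'
    have hm1 : m φ = 1 := by
      have : m φ * d φ ≤ 1 * d φ := by omega
      have := Nat.le_of_mul_le_mul_right this (hd0 φ)
      omega
    have heq : (fun x : (P : Subgroup G) => ρ.character x) = φ := by
      rw [hm, Finset.sum_eq_single φ (fun ψ _ hψ => by simp [hrest ψ hψ])
        (fun h => absurd (Finset.mem_univ _) h), hm1, Nat.cast_one, one_smul]
    obtain ⟨⟨z, hz⟩, hzc, hz1⟩ : ∃ z : (P : Subgroup G), z ∈ Subgroup.center _ ∧ z ≠ 1 := by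
      haveI := P.2.center_nontrivial
      obtain ⟨⟨z, hz⟩, hz1⟩ := exists_ne (1 : Subgroup.center (P : Subgroup G))
      exact ⟨z, hz, fun h => hz1 (Subtype.ext h)⟩
    have h0 : ρ.character z = 0 := hvan z hz (fun y hy => (congrArg Subtype.val
      (Subgroup.mem_center_iff.mp hzc ⟨y, hy⟩)).symm) (fun h => hz1 (Subtype.ext h))
    obtain ⟨k, σ, hσ, hσφ⟩ := φ.2
    haveI := hσ
    have hzero : σ.character ⟨z, hz⟩ = 0 := by
      rw [hσφ, ← heq]; exact h0
    have hnorm := (norm_char_eq_iff_scalar σ ⟨z, hz⟩).mpr (central_scalar σ hzc)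
    rw [hzero, norm_zero] at hnorm
    have := finrank_pos_of_isIrreducible σ
    have h00 : Module.finrank ℂ (Fin k → ℂ) = 0 := by exact_mod_cast hnorm.symm
    omega

end Cfsg.Agent.S3968
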