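import Cfsg.Statements.S3970

import Cfsg.Agent.SmallRankAut.Complement

set_option autoImplicit false
open Cfsg

namespace Cfsg.Agent.S3970

universe u

theorem main : ∀ k : ℕ, ∀ (G : Type u) [Group G] [Finite G], Nat.card G = k →
    (∀ p : ℕ, p.Prime → p ∣ Nat.card G → (∃ q : ℕ, q.Prime ∧ q ∣ Nat.card G ∧ p < q) →
      ∀ P : Sylow p G, IsMulCommutative (P : Subgroup G) ∧ Group.rank (P : Subgroup G) ≤ 2) →
    ¬ 12 ∣ Nat.card G → Group.IsSolvable G := by
  intro k
  induction k using Nat.strong_induction_on with
  | _ k ih =>
    intro G _ _ hk h h12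
    by_cases hk1 : Nat.card G = 1
    · haveI : Subsingleton G := (Nat.card_eq_one_iff_unique.mp hk1).1
      infer_instance
    set p := (Nat.card G).minFac with hpdef
    have hp : p.Prime := Nat.minFac_prime hk1
    haveI := Fact.mk hp
    have hpd : p ∣ Nat.card G := Nat.minFac_dvd _
    by_cases hbig : ∃ q : ℕ, q.Prime ∧ q ∣ Nat.card G ∧ p < q
    swap
    · have hP : IsPGroup p G := by
        refine IsPGroup.of_card (n := (Nat.card G).primeFactorsList.length) ?_
        refine Nat.eq_prime_pow_of_unique_prime_dvd Nat.card_pos.ne' fun {d} hd hdd => ?_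
        refine le_antisymm ?_ (Nat.minFac_le_of_dvd hd.two_le hdd)
        by_contra hlt
        exact hbig ⟨d, hd, hdd, not_le.mp hlt⟩
      haveI := hP.isNilpotent
      infer_instance
    obtain ⟨P⟩ := Sylow.nonempty (p := p) (G := G)
    obtain ⟨hab, hr2⟩ := h p hp hpd hbig P
    have hge : ∀ q : ℕ, q.Prime → q ∣ Nat.card G → q ≠ p → p < q := fun q hq hqd hne =>
      lt_of_le_of_ne (Nat.minFac_le_of_dvd hq.two_le hqd) hne.symm
    have hcase : Cfsg.HasNormalPComplement p G := by
      by_cases h6 : p = 2 ∧ 3 ∣ Nat.card G
      · -- the Sylow `2`-subgroup has order two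
        obtain ⟨hp2, h3⟩ := h6
        have hc : Nat.card (P : Subgroup G) = p := by
          rw [P.card_eq_multiplicity]
          have h1 := hp.factorization_pos_of_dvd Nat.card_pos.ne' hpd
          have h2 : (Nat.card G).factorization p < 2 := by
            by_contra h2
            apply h12
            have h4 : 4 ∣ Nat.card G := by
              have := (pow_dvd_pow p (not_lt.mp h2)).trans (Nat.ordProj_dvd _ p)
              rwa [hp2] at this
            exact Nat.Coprime.mul_dvd_of_dvd_of_dvd (by norm_num : Nat.Coprime 4 3) h4 h3
          rw [show (Nat.card G).factorization p = 1 by omega, pow_one]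
        haveI : IsCyclic (P : Subgroup G) := isCyclic_of_prime_card hc
        obtain ⟨g, hg⟩ := IsCyclic.exists_generator (α := (P : Subgroup G))
        have hr1 : Group.rank (P : Subgroup G) ≤ 1 :=
          (Group.rank_le (S := {g}) (by
            rw [Finset.coe_singleton, ← Subgroup.zpowers_eq_closure]
            exact eq_top_iff.mpr fun x _ => hg x)).trans (le_of_eq (Finset.card_singleton g))
        refine CfsgLib.SmallRankAut.hasNormalPComplement_of_abelian P hab hr1 ?_
        intro q hq hqd hne i h1 h2 hdiv
        obtain rfl : i = 1 := by omega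
        rw [pow_one, hp2] at hdiv
        exact hq.not_dvd_one hdiv
      · refine CfsgLib.SmallRankAut.hasNormalPComplement_of_abelian P hab hr2 ?_
        intro q hq hqd hne i h1 h2 hdiv
        have hpq := hge q hq hqd hne
        interval_cases i
        · have := Nat.le_of_dvd (by have := hp.two_le; simp; omega) hdiv
          simp at this
          omega
        · have e : p ^ 2 - 1 = (p + 1) * (p - 1) := by
            have := Nat.sq_sub_sq p 1
            simpa using this
          rw [e] at hdiv
          rcases (Nat.Prime.dvd_mul hq).mp hdiv with h3 | h3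
          · have hq1 : q = p + 1 := by
              have := Nat.le_of_dvd (by omega) h3
              omega
            rcases hp.eq_two_or_odd' with hp2 | hodd
            · exact h6 ⟨hp2, by rwa [hq1, hp2] at hqd⟩
            · obtain ⟨j, hj⟩ := hodd
              have h2q : 2 ∣ q := ⟨j + 1, by omega⟩
              have := (Nat.prime_dvd_prime_iff_eq Nat.prime_two hq).mp h2q
              have := hp.two_le
              omega
          · have := Nat.le_of_dvd (by have := hp.two_le; omega) h3
            omega
    obtain ⟨R, N, hN, hc⟩ := hcase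
    have hidx : N.index = Nat.card (R : Subgroup G) := hc.symm.index_eq_card
    have hlt : Nat.card N < k := by
      rw [← hk, ← N.index_mul_card, hidx]
      refine lt_mul_of_one_lt_left Nat.card_pos ?_
      rw [R.card_eq_multiplicity]
      exact Nat.one_lt_pow (hp.factorization_pos_of_dvd Nat.card_pos.ne' hpd).ne' hp.one_lt
    have hnp : ¬ p ∣ Nat.card N := hc.index_eq_card ▸ R.not_dvd_index
    have hdvd : Nat.card N ∣ Nat.card G := N.card_subgroup_dvd_card
    haveI : Group.IsSolvable N := by
      refine ih _ hlt N rfl ?_ fun h => h12 (h.trans hdvd)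
      rintro q hq hqN ⟨q', hq', hq'N, hlt'⟩ Q
      haveI := Fact.mk hq
      have hnd : ¬ q ∣ N.index := by
        rw [hidx, R.card_eq_multiplicity]
        exact fun hd => hnp ((Nat.prime_dvd_prime_iff_eq hq hp).mp (hq.dvd_of_dvd_pow hd) ▸ hqN)
      have hcard : Nat.card ((Q : Subgroup N).map N.subtype) = q ^ (Nat.card G).factorization q := by
        rw [← Nat.card_congr (Subgroup.equivMapOfInjective _ _ N.subtype_injective).toEquiv,
          Q.card_eq_multiplicity, ← N.index_mul_card,
          Nat.factorization_mul N.index_ne_zero_of_finite Nat.card_pos.ne']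
        simp [Nat.factorization_eq_zero_of_not_dvd hnd]
      obtain ⟨hab', hr'⟩ := h q hq (hqN.trans hdvd) ⟨q', hq', hq'N.trans hdvd, hlt'⟩
        (Sylow.ofCard _ hcard)
      let e : (Q : Subgroup N) ≃* (Sylow.ofCard _ hcard : Subgroup G) :=
        (Subgroup.equivMapOfInjective _ _ N.subtype_injective).trans
          (MulEquiv.subgroupCongr (Sylow.coe_ofCard _ hcard).symm)
      refine ⟨⟨⟨fun a b => e.injective ?_⟩⟩, (Group.rank_congr e).le.trans hr'⟩
      rw [map_mul, map_mul]
      haveI := hab'
      exact mul_comm' _ _
    haveI : Group.IsNilpotent (G ⧸ N) :=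
      (IsPGroup.of_card (n := (Nat.card G).factorization p) (G := G ⧸ N) (by
        rw [← Subgroup.index_eq_card, hidx, R.card_eq_multiplicity])).isNilpotent
    exact Group.isSolvable_of_ker_le_range N.subtype (QuotientGroup.mk' N)
      (by rw [QuotientGroup.ker_mk', Subgroup.range_subtype])

/-- Let `G` be a finite group such that for every prime `p` dividing its order, other than the largest such prime, the Sylow `p`-subgroups are abelian and generated by at most two elements, and suppose `12` does not divide the order of `G`. Then `G` is solvable. In particular a group of cube-free order not divisible by `12` is solvable. -/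
theorem result {G : Type*} [Group G] [Finite G] (h : ∀ p : ℕ, p.Prime → p ∣ Nat.card G → (∃ q : ℕ, q.Prime ∧ q ∣ Nat.card G ∧ p < q) → ∀ P : Sylow p G, IsMulCommutative (P : Subgroup G) ∧ Group.rank (P : Subgroup G) ≤ 2) (h12 : ¬ 12 ∣ Nat.card G) : Group.IsSolvable G := by
  exact main _ G rfl h h12

end Cfsg.Agent.S3970
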