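import Cfsg.Statements.S3971

import Cfsg.Agent.SmallRankAut.Basic
import Cfsg.Agent.Transfer.Frobenius

set_option autoImplicit false
open Cfsg

namespace Cfsg.Agent.S3971

/-- Let `G` be a finite group of order `2 ^ a * n` with `n` odd and not divisible by `3`, and suppose `G` has an element of order `2 ^ (a - 1)` (so a Sylow `2`-subgroup has a cyclic subgroup of index at most `2`). Then `G` has a normal subgroup of order `n`. -/
theorem result {G : Type*} [Group G] [Finite G] (a n : ℕ) (hG : Nat.card G = 2 ^ a * n) (hn : Odd n) (h3 : ¬ 3 ∣ n) (hx : ∃ x : G, orderOf x = 2 ^ (a - 1)) : ∃ N : Subgroup G, N.Normal ∧ Nat.card N = n := by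
  obtain ⟨x, hx⟩ := hx
  haveI : Fact (Nat.Prime 2) := ⟨Nat.prime_two⟩
  have hpx : IsPGroup 2 (Subgroup.zpowers x) :=
    IsPGroup.of_card (n := a - 1) (by rw [Nat.card_zpowers, hx])
  obtain ⟨P, hP⟩ := hpx.exists_le_sylow
  set C := Subgroup.zpowers x
  have hPcard : Nat.card (P : Subgroup G) = 2 ^ a := by
    rw [P.card_eq_multiplicity, hG, Nat.factorization_mul (by positivity) hn.pos.ne']
    simp [Nat.factorization_eq_zero_of_not_dvd hn.not_two_dvd_nat, Nat.Prime.factorization_pow Nat.prime_two]
  obtain ⟨R, N, hN, hc⟩ : Cfsg.HasNormalPComplement 2 G := by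
    refine CfsgLib.Transfer.hasNormalPComplement_of_local P fun Q hQ g hg hgc => ?_
    have hQ2 : IsPGroup 2 Q := P.2.to_le hQ
    have hrank : Group.rank Q ≤ 2 := by
      haveI : IsCyclic (C ⊓ Q : Subgroup G) :=
        isCyclic_of_injective (Subgroup.inclusion (inf_le_left : C ⊓ Q ≤ C)) (Subgroup.inclusion_injective _)
      obtain ⟨⟨y, hyC⟩, hy⟩ := IsCyclic.exists_generator (α := (C ⊓ Q : Subgroup G))
      have hyQ : y ∈ Q := hyC.2
      have hyall : ∀ w, w ∈ C → w ∈ Q → ∃ i : ℤ, y ^ i = w := fun w hw hw' => by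
        obtain ⟨i, hi⟩ := hy ⟨w, Subgroup.mem_inf.mpr ⟨hw, hw'⟩⟩
        exact ⟨i, congrArg Subtype.val hi⟩
      classical
      by_cases hQC : Q ≤ C
      · refine (Group.rank_le (S := ({⟨y, hyQ⟩} : Finset Q)) ?_).trans (by simp)
        refine eq_top_iff.mpr fun w _ => ?_
        obtain ⟨i, hi⟩ := hyall w (hQC w.2) w.2
        have e : w = ⟨y, hyQ⟩ ^ i := Subtype.ext hi.symm
        rw [e]
        exact zpow_mem (Subgroup.subset_closure (by simp)) i
      · obtain ⟨z, hzQ, hzC⟩ := SetLike.not_le_iff_exists.mp hQC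
        have hidx : (C.subgroupOf (P : Subgroup G)).index = 2 := by
          have h1 := (C.subgroupOf (P : Subgroup G)).index_mul_card
          rw [Nat.card_congr (Subgroup.subgroupOfEquivOfLe hP).toEquiv, Nat.card_zpowers, hx,
            hPcard] at h1
          have ha : a ≠ 0 := by
            rintro rfl
            have hb : (P : Subgroup G) = ⊥ := Subgroup.card_eq_one.mp (hPcard.trans (pow_zero 2))
            have : z = 1 := Subgroup.mem_bot.mp (hb ▸ hQ hzQ)
            exact hzC (this ▸ one_mem _)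
          refine Nat.eq_of_mul_eq_mul_right (by positivity : 0 < 2 ^ (a - 1)) ?_
          rw [h1, ← pow_succ', Nat.sub_add_cancel (Nat.one_le_iff_ne_zero.mpr ha)]
        refine (Group.rank_le (S := ({⟨y, hyQ⟩, ⟨z, hzQ⟩} : Finset Q)) ?_).trans
          ((Finset.card_insert_le _ _).trans (by simp))
        refine eq_top_iff.mpr fun w _ => ?_
        by_cases hwC : (w : G) ∈ C
        · obtain ⟨i, hi⟩ := hyall w hwC w.2
          have e : w = ⟨y, hyQ⟩ ^ i := Subtype.ext hi.symm
          rw [e]
          exact zpow_mem (Subgroup.subset_closure (by simp)) i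
        · have hzw : z⁻¹ * (w : G) ∈ C := by
            have := Subgroup.mul_mem_iff_of_index_two hidx
              (a := (⟨z, hQ hzQ⟩⁻¹ : (P : Subgroup G))) (b := ⟨w, hQ w.2⟩)
            simp only [Subgroup.mem_subgroupOf, Subgroup.coe_mul, Subgroup.coe_inv, inv_mem_iff]
              at this
            exact this.mpr ⟨fun h => absurd h hzC, fun h => absurd h hwC⟩
          obtain ⟨i, hi⟩ := hyall _ hzw (Q.mul_mem (Q.inv_mem hzQ) w.2)
          have e : w = ⟨z, hzQ⟩ * ⟨y, hyQ⟩ ^ i := Subtype.ext (by simp [hi])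
          rw [e]
          exact mul_mem (Subgroup.subset_closure (by simp))
            (zpow_mem (Subgroup.subset_closure (by simp)) i)
    refine CfsgLib.SmallRankAut.mem_centralizer_of_rank_le hQ2 hrank hg hgc fun i h1 h2 => ?_
    interval_cases i
    · simp
    · refine (Nat.Coprime.symm ?_)
      refine (Nat.prime_three.coprime_iff_not_dvd).mpr fun h => ?_
      have h4 : 3 ∣ 2 ^ a * n := hG ▸ h.trans (orderOf_dvd_natCard g)
      rcases (Nat.Prime.dvd_mul Nat.prime_three).mp h4 with h5 | h5
      · exact absurd (Nat.prime_three.dvd_of_dvd_pow h5) (by norm_num)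
      · exact h3 h5
  refine ⟨N, hN, ?_⟩
  have h1 := hc.card_mul_card
  rw [hG, R.card_eq_multiplicity, hG, Nat.factorization_mul (by positivity) hn.pos.ne'] at h1
  simp [Nat.factorization_eq_zero_of_not_dvd hn.not_two_dvd_nat, Nat.Prime.factorization_pow Nat.prime_two] at h1
  rw [mul_comm] at h1
  exact Nat.eq_of_mul_eq_mul_left (by positivity) h1

end Cfsg.Agent.S3971
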