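import Cfsg.Statements.S3973

import Cfsg.Agent.SchurTheory.Relators
-- import your own Cfsg.Agent.* helpers here

set_option autoImplicit false
open Cfsg

namespace Cfsg.Agent.S3973

/-- If a finite group is presented by `n` generators and a finite set of `r` relators, then its Schur multiplier can be generated by `r - n` elements. In particular a finite group with a presentation having as many relators as generators has trivial Schur multiplier. -/
theorem result (n : ℕ) (rels : Finset (FreeGroup (Fin n))) [Finite (PresentedGroup (rels : Set (FreeGroup (Fin n))))] {A : Type*} [CommGroup A] [Finite A] (hA : Cfsg.HasSchurMultiplier (PresentedGroup (rels : Set (FreeGroup (Fin n)))) A) : Group.rank A ≤ rels.card - n := by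
  classical
  obtain ⟨k, g, hk, hg⟩ := CfsgLib.SchurTheory.exists_generators_multSub n rels
  have hmult := CfsgLib.SchurTheory.hasSchurMultiplier_multSub
    (PresentedGroup.mk (rels : Set (FreeGroup (Fin n)))) (PresentedGroup.mk_surjective _)
  obtain ⟨a⟩ := CfsgLib.SchurTheory.hasSchurMultiplier_iff.mp hA
  obtain ⟨m⟩ := CfsgLib.SchurTheory.hasSchurMultiplier_iff.mp hmult
  let e := m.trans a.symm
  refine (Group.rank_le (S := Finset.univ.image fun i => e (g i)) ?_).trans
    (Finset.card_image_le.trans ((Finset.card_fin k).le.trans hk))
  rw [Finset.coe_image, Finset.coe_univ, Set.image_univ, Set.range_comp',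
    show (⇑e : _ → _) = ⇑e.toMonoidHom from rfl, ← MonoidHom.map_closure, hg,
    Subgroup.map_top_of_surjective _ e.surjective]

end Cfsg.Agent.S3973
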