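import Cfsg.Statements.S3975

set_option autoImplicit false
open Cfsg

namespace Cfsg.Agent.S3975

open Pointwise MulAction in
/-- Wielandt's count of the `p ^ β`-subsets of `G` under left translation. -/
lemma subsets_modEq {G : Type*} [Group G] [Finite G] (p β m : ℕ) (hp : p.Prime)
    (hG : Nat.card G = p ^ β * m) :
    Nat.card {S : Set G // Nat.card S = p ^ β} ≡
      Nat.card {H : Subgroup G // Nat.card H = p ^ β} * m [MOD p * m] := by
  classical
  set d := p ^ β with hd
  have hdpos : 0 < d := pow_pos hp.pos _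
  let X : SubMulAction G (Set G) :=
    { carrier := {S | Nat.card S = d}
      smul_mem' := fun g S hS => by
        show Nat.card (g • S : Set G) = d
        rw [Nat.card_coe_set_eq, ← Set.image_smul, Set.ncard_image_of_injective _ (MulAction.injective g),
          ← Nat.card_coe_set_eq]
        exact hS }
  have hstab : ∀ (S : X) (s : G), s ∈ (S : Set G) →
      (fun h => h * s) '' (stabilizer G S : Set G) ⊆ (S : Set G) := by
    rintro S s hs _ ⟨h, hh, rfl⟩
    have e : h • (S : Set G) = (S : Set G) := congrArg Subtype.val (mem_stabilizer_iff.mp hh)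
    exact e ▸ Set.smul_mem_smul_set hs
  have hne : ∀ S : X, (S : Set G).Nonempty := fun S => by
    have h : Nat.card (S : Set G) = d := S.2
    rw [← Set.ncard_pos, ← Nat.card_coe_set_eq, h]
    exact hdpos
  have hdvd : ∀ S : X, Nat.card (stabilizer G S) ∣ d := by
    intro S
    let P := stabilizer G S
    have hfree : ∀ x : G, x ∈ (S : Set G) → ∀ h : P, (h : G) * x ∈ (S : Set G) :=
      fun x hx h => hstab S x hx ⟨h, h.2, rfl⟩
    letI inst : MulAction P (S : Set G) :=
      { smul := fun h x => ⟨(h : G) * x, hfree x x.2 h⟩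
        one_smul := fun x => Subtype.ext (one_mul _)
        mul_smul := fun a b x => Subtype.ext (mul_assoc _ _ _) }
    have e : Nat.card (S : Set G) = d := S.2
    haveI := Fintype.ofFinite (orbitRel.Quotient P (S : Set G))
    rw [← e, Nat.card_congr (selfEquivSigmaOrbits P (S : Set G)), Nat.card_sigma]
    refine Finset.dvd_sum fun o _ => ?_
    have hst : stabilizer P o.out = ⊥ := by
      rw [eq_bot_iff]
      intro h hh
      have : (h : G) * (o.out : G) = o.out := congrArg Subtype.val (mem_stabilizer_iff.mp hh)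
      exact Subgroup.mem_bot.mpr (Subtype.ext (mul_eq_right.mp this))
    show Nat.card P ∣ Nat.card (orbit P o.out)
    rw [Nat.card_coe_set_eq, ← index_stabilizer, hst, Subgroup.index_bot]
  have hmem : ∀ (H : Subgroup G) (g : G), Nat.card H = d →
      (fun h => h * g⁻¹) '' (H : Set G) ∈ X := fun H g hH => by
    show Nat.card _ = d
    rw [Nat.card_coe_set_eq, Set.ncard_image_of_injective _ (mul_left_injective _),
      ← Nat.card_coe_set_eq]
    exact hH
  have hst : ∀ (H : Subgroup G) (g : G) (hH : Nat.card H = d),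
      stabilizer G (⟨_, hmem H g hH⟩ : X) = H := by
    intro H g hH
    ext x
    rw [mem_stabilizer_iff, Subtype.ext_iff]
    show x • ((fun h => h * g⁻¹) '' (H : Set G)) = _ ↔ _
    constructor
    · intro hx
      have h1 : g⁻¹ ∈ (fun h => h * g⁻¹) '' (H : Set G) := ⟨1, H.one_mem, one_mul _⟩
      have h2 := Set.smul_mem_smul_set (a := x) h1
      rw [hx] at h2
      obtain ⟨h, hh, e⟩ := h2
      have : h = x := mul_right_cancel (e : h * g⁻¹ = x * g⁻¹)
      exact this ▸ hh
    · intro hx
      ext y
      constructor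
      · rintro ⟨_, ⟨h, hh, rfl⟩, rfl⟩
        exact ⟨x * h, H.mul_mem hx hh, mul_assoc _ _ _⟩
      · rintro ⟨h, hh, rfl⟩
        exact ⟨_, ⟨x⁻¹ * h, H.mul_mem (H.inv_mem hx) hh, rfl⟩, by simp [mul_assoc]⟩
  have hcard : Nat.card {S : X // Nat.card (stabilizer G S) = d}
      = Nat.card {H : Subgroup G // Nat.card H = d} * m := by
    let b : (Σ H : {H : Subgroup G // Nat.card H = d}, G ⧸ H.1) →
        {S : X // Nat.card (stabilizer G S) = d} := fun a =>
      Quotient.liftOn' a.2 (fun g => ⟨⟨_, hmem a.1.1 g a.1.2⟩, by rw [hst _ _ a.1.2]; exact a.1.2⟩)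
        (fun g g' hgg => by
          rw [QuotientGroup.leftRel_apply] at hgg
          apply Subtype.ext; apply Subtype.ext
          show (fun h => h * g⁻¹) '' (a.1.1 : Set G) = (fun h => h * g'⁻¹) '' (a.1.1 : Set G)
          ext y
          constructor
          · rintro ⟨h, hh, rfl⟩
            exact ⟨h * (g⁻¹ * g'), a.1.1.mul_mem hh hgg, by simp [mul_assoc]⟩
          · rintro ⟨h, hh, rfl⟩
            exact ⟨h * (g⁻¹ * g')⁻¹, a.1.1.mul_mem hh (a.1.1.inv_mem hgg),
              by simp [mul_assoc]⟩)
    have hb : Function.Bijective b := by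
      refine ⟨?_, ?_⟩
      · rintro ⟨⟨H, hH⟩, q⟩ ⟨⟨K, hK⟩, r⟩ hab
        induction q using QuotientGroup.induction_on with | H g => ?_
        induction r using QuotientGroup.induction_on with | H k => ?_
        have hab' : (⟨_, hmem H g hH⟩ : X) = ⟨_, hmem K k hK⟩ := congrArg Subtype.val hab
        obtain rfl : H = K := by rw [← hst H g hH, hab', hst K k hK]
        have h1 : g⁻¹ ∈ (fun h => h * k⁻¹) '' (H : Set G) := by
          have e' : (fun h => h * g⁻¹) '' (H : Set G) = (fun h => h * k⁻¹) '' (H : Set G) :=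
            congrArg Subtype.val hab'
          rw [← e']
          exact ⟨1, H.one_mem, one_mul _⟩
        obtain ⟨h, hh, e⟩ := h1
        simp only [Sigma.mk.injEq, heq_eq_eq, true_and]
        rw [QuotientGroup.eq, ← e]
        simpa [mul_assoc] using hh
      · rintro ⟨S, hS⟩
        obtain ⟨s, hs⟩ := hne S
        refine ⟨⟨⟨stabilizer G S, hS⟩, QuotientGroup.mk s⁻¹⟩, Subtype.ext (Subtype.ext ?_)⟩
        show (fun h => h * s⁻¹⁻¹) '' (stabilizer G S : Set G) = (S : Set G)
        rw [inv_inv]
        refine Set.eq_of_subset_of_ncard_le (hstab S s hs) (le_of_eq ?_)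
        rw [Set.ncard_image_of_injective _ (mul_left_injective _), ← Nat.card_coe_set_eq,
          ← Nat.card_coe_set_eq]
        exact (S.2 : Nat.card (S : Set G) = d).trans hS.symm
    haveI := Fintype.ofFinite {H : Subgroup G // Nat.card H = d}
    have hm' : ∀ H : {H : Subgroup G // Nat.card H = d}, Nat.card (G ⧸ H.1) = m := by
      intro H
      have h1 := H.1.card_eq_card_quotient_mul_card_subgroup
      rw [hG, H.2, mul_comm d] at h1
      exact (Nat.eq_of_mul_eq_mul_right hdpos h1).symm
    rw [← Nat.card_congr (Equiv.ofBijective b hb), Nat.card_sigma,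
      Finset.sum_congr rfl (fun H _ => hm' H)]
    simp [Nat.card_eq_fintype_card]
  let Y : SubMulAction G X :=
    { carrier := {S | Nat.card (stabilizer G S) ≠ d}
      smul_mem' := fun g S hS => by
        show Nat.card (stabilizer G (g • S)) ≠ d
        rw [← Nat.card_congr (stabilizerEquivStabilizer (rfl : g • S = g • S)).toEquiv]
        exact hS }
  have hY : p * m ∣ Nat.card Y := by
    haveI := Fintype.ofFinite (orbitRel.Quotient G Y)
    rw [Nat.card_congr (selfEquivSigmaOrbits G Y), Nat.card_sigma]
    refine Finset.dvd_sum fun o _ => ?_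
    show p * m ∣ Nat.card (orbit G o.out)
    have hs : stabilizer G o.out = stabilizer G (o.out : X) := by
      ext x; simp [mem_stabilizer_iff, Subtype.ext_iff]
    rw [Nat.card_coe_set_eq, ← index_stabilizer, hs]
    obtain ⟨i, hiβ, hi⟩ := (Nat.dvd_prime_pow hp).mp (hdvd (o.out : X))
    have hlt : i < β := lt_of_le_of_ne hiβ fun h => (o.out).2 (by rw [hi, h])
    have h1 := (stabilizer G (o.out : X)).index_mul_card
    rw [hG, hi] at h1
    have h2 : (stabilizer G (o.out : X)).index = p ^ (β - i) * m :=
      Nat.eq_of_mul_eq_mul_right (pow_pos hp.pos i) (by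
        rw [h1, hd, mul_right_comm, ← pow_add, Nat.sub_add_cancel hiβ])
    rw [h2]
    exact Nat.mul_dvd_mul_right (dvd_pow_self _ (by omega)) m
  have hsplit : Nat.card {S : Set G // Nat.card S = d}
      = Nat.card {S : X // Nat.card (stabilizer G S) = d} + Nat.card Y := by
    rw [← Nat.card_sum]
    exact (Nat.card_congr (Equiv.sumCompl fun S : X => Nat.card (stabilizer G S) = d)).symm
  rw [hsplit, hcard]
  exact (Nat.ModEq.add_left _ hY.modEq_zero_nat).trans (by simp [Nat.ModEq.refl])

lemma cyclic_card_subgroups {n d : ℕ} [NeZero n] (hd : d ∣ n) :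
    Nat.card {H : Subgroup (Multiplicative (ZMod n)) // Nat.card H = d} = 1 := by
  classical
  haveI : Fintype (Multiplicative (ZMod n)) := Fintype.ofFinite _
  have hn : Nat.card (Multiplicative (ZMod n)) = n := by
    rw [Nat.card_congr Multiplicative.toAdd, Nat.card_zmod]
  rw [Nat.card_eq_one_iff_unique]
  have hd0 : 0 < d := Nat.pos_of_dvd_of_pos hd (Nat.pos_of_ne_zero (NeZero.ne n))
  constructor
  · constructor
    rintro ⟨H, hH⟩ ⟨K, hK⟩
    have key : ∀ L : Subgroup (Multiplicative (ZMod n)), Nat.card L = d →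
        ∀ x, x ∈ L ↔ x ∈ ({x | x ^ d = 1} : Finset (Multiplicative (ZMod n))) := by
      intro L hL
      have hsub : Finset.univ.filter (· ∈ L) ⊆
          ({x | x ^ d = 1} : Finset (Multiplicative (ZMod n))) := by
        intro x hx
        simp only [Finset.mem_filter, Finset.mem_univ, true_and] at hx ⊢
        have := orderOf_dvd_iff_pow_eq_one.mp (L.orderOf_dvd_natCard hx)
        rwa [hL] at this
      have := Finset.eq_of_subset_of_card_le hsub (by
        refine (IsCyclic.card_pow_eq_one_le hd0).trans (le_of_eq ?_)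
        rw [← hL, Nat.card_eq_fintype_card, Fintype.card_subtype])
      intro x
      rw [← this]; simp
    exact Subtype.ext (Subgroup.ext fun x => (key H hH x).trans (key K hK x).symm)
  · obtain ⟨g, hg⟩ := IsCyclic.exists_generator (α := Multiplicative (ZMod n))
    have hog : orderOf g = n := (orderOf_eq_card_of_forall_mem_zpowers hg).trans hn
    refine ⟨⟨Subgroup.zpowers (g ^ (n / d)), ?_⟩⟩
    rw [Nat.card_zpowers, orderOf_pow_of_dvd ?_ (by rw [hog]; exact Nat.div_dvd_of_dvd hd), hog,
      Nat.div_div_self hd (NeZero.ne n)]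
    exact (Nat.div_pos (Nat.le_of_dvd (Nat.pos_of_ne_zero (NeZero.ne n)) hd) hd0).ne'

/-- Frobenius: the number of subgroups of a given prime power order is `1` mod `p`. -/
theorem result {G : Type*} [Group G] [Finite G] (p β : ℕ) (hp : p.Prime) (hdiv : p ^ β ∣ Nat.card G) : Nat.card {H : Subgroup G // Nat.card H = p ^ β} ≡ 1 [MOD p] := by
  classical
  obtain ⟨m, hm⟩ := hdiv
  have : NeZero (Nat.card G) := ⟨Nat.card_pos.ne'⟩
  have hC : Nat.card (Multiplicative (ZMod (Nat.card G))) = Nat.card G := by simp
  obtain ⟨e⟩ := (Finite.card_eq.mp hC.symm)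
  have h1 := subsets_modEq (G := G) p β m hp hm
  have h2 := subsets_modEq (G := Multiplicative (ZMod (Nat.card G))) p β m hp (hC.trans hm)
  rw [cyclic_card_subgroups ⟨m, hm⟩] at h2
  have h3 : Nat.card {S : Set G // Nat.card S = p ^ β}
      = Nat.card {S : Set (Multiplicative (ZMod (Nat.card G))) // Nat.card S = p ^ β} :=
    Nat.card_congr ((Equiv.Set.congr e).subtypeEquiv fun S => by
      show Nat.card S = p ^ β ↔ Nat.card (e '' S : Set _) = p ^ β
      rw [Nat.card_coe_set_eq (e '' S), Set.ncard_image_of_injective _ e.injective,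
        Nat.card_coe_set_eq])
  rw [h3] at h1
  have hm0 : m ≠ 0 := fun h => Nat.card_pos.ne' (by rw [hm, h, mul_zero] : Nat.card G = 0)
  exact Nat.ModEq.mul_right_cancel' hm0 (h1.symm.trans h2)

end Cfsg.Agent.S3975
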