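import Cfsg.Statements.S3976
import Cfsg.Agent.S3975

set_option autoImplicit false
open Cfsg

namespace Cfsg.Agent.S3976

open Pointwise in
/-- In a `p`-group, subgroups of order `d` and normal ones agree in number mod `p`. -/
lemma fixed_count {G : Type*} [Group G] [Finite G] (p m d : ℕ) (hp : p.Prime)
    (hG : Nat.card G = p ^ m) :
    Nat.card {H : Subgroup G // Nat.card H = d} ≡
      Nat.card {H : Subgroup G // H.Normal ∧ Nat.card H = d} [MOD p] := by
  haveI := Fact.mk hp
  let X : SubMulAction (ConjAct G) (Subgroup G) :=
    { carrier := {H | Nat.card H = d}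
      smul_mem' := fun g H hH => by
        show Nat.card (g • H : Subgroup G) = d
        rw [← Nat.card_congr (Subgroup.equivSMul g H).toEquiv]
        exact hH }
  have hP : IsPGroup p (ConjAct G) := IsPGroup.of_card (n := m) (by
    rw [← hG]; exact Nat.card_congr (ConjAct.ofConjAct (G := G)).toEquiv)
  have key := hP.card_modEq_card_fixedPoints X
  have e : MulAction.fixedPoints (ConjAct G) X ≃ {H : Subgroup G // H.Normal ∧ Nat.card H = d} :=
    { toFun := fun H => ⟨H.1.1, ⟨fun x hx g => by
          have h1 : ConjAct.toConjAct g • H.1.1 = H.1.1 := congrArg Subtype.val (H.2 _)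
          rw [← h1]
          exact Subgroup.smul_mem_pointwise_smul x _ _ hx⟩, H.1.2⟩
      invFun := fun H => ⟨⟨H.1, H.2.2⟩, fun g => Subtype.ext (by
          show g • H.1 = H.1
          haveI := H.2.1
          exact Subgroup.Normal.conjAct this g)⟩
      left_inv := fun H => rfl
      right_inv := fun H => rfl }
  exact key.trans (by rw [Nat.card_congr e])

/-- The number of normal subgroups of a given order in a `p`-group is `1` mod `p`. -/
theorem result {G : Type*} [Group G] [Finite G] (p m s : ℕ) (hp : p.Prime) (hG : Nat.card G = p ^ m) (hs : s ≤ m) : Nat.card {H : Subgroup G // H.Normal ∧ Nat.card H = p ^ s} ≡ 1 [MOD p] := by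
  exact (fixed_count p m (p ^ s) hp hG).symm.trans
    (Cfsg.Agent.S3975.result p s hp (hG ▸ pow_dvd_pow p hs))

end Cfsg.Agent.S3976
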