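import Cfsg.Statements.S3977

import Mathlib.GroupTheory.Sylow
import Mathlib.GroupTheory.SpecificGroups.Cyclic
import Mathlib.Tactic
import Mathlib.GroupTheory.IndexNormal

set_option autoImplicit false
open Cfsg

namespace Cfsg.Agent.S3977

open Subgroup

universe u

theorem main : ∀ m : ℕ, ∀ (G : Type u) [Group G] [Finite G] (p s : ℕ), p.Prime → Nat.card G = p ^ m →
    1 ≤ s → s < m → (p ≠ 2 ∨ 2 ≤ s) →
    (∀ H K : Subgroup G, Nat.card H = p ^ s → Nat.card K = p ^ s → H = K) → IsCyclic G := by
  intro m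
  induction m with
  | zero => intro G _ _ p s _ _ _ h _ _; omega
  | succ m ih =>
    intro G _ _ p s hp hG hs hsm h2 huniq
    haveI := Fact.mk hp
    by_contra hnc
    have hPG : IsPGroup p G := IsPGroup.of_card hG
    -- the subgroup of order `p ^ s`
    have hdiv : p ^ s ∣ Nat.card G := hG ▸ pow_dvd_pow p hsm.le
    obtain ⟨H₀, hH₀⟩ := Sylow.exists_subgroup_card_pow_prime p hdiv
    have hcont : ∀ (K : Subgroup G) (k : ℕ), Nat.card K = p ^ k → k ≤ s → K ≤ H₀ := by
      intro K k hK hks
      obtain ⟨L, hL, hKL⟩ := Sylow.exists_subgroup_card_pow_prime_le p hdiv K hK hks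
      exact huniq L H₀ hL hH₀ ▸ hKL
    -- every maximal subgroup is cyclic of order `p ^ m`
    have hmax : ∀ M : Subgroup G, IsCoatom M → Nat.card M = p ^ m ∧ IsCyclic M := by
      intro M hM
      obtain ⟨k, hk, hMk⟩ := (Nat.dvd_prime_pow hp).mp (hG ▸ M.card_subgroup_dvd_card)
      have hkm : k = m := by
        by_contra hkm
        have hk2 : k < m + 1 := lt_of_le_of_ne hk fun e => hM.1 (eq_top_of_card_eq M (by rw [hMk, e, hG]))
        obtain ⟨L, hL, hML⟩ := Sylow.exists_subgroup_card_pow_prime_le p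
          (hG ▸ pow_dvd_pow p (Nat.le_succ m)) M hMk (by omega)
        rcases hM.le_iff.mp hML with h | h
        · rw [h, card_top, hG] at hL
          have := Nat.pow_right_injective hp.two_le hL
          omega
        · rw [h, hMk] at hL
          exact hkm (Nat.pow_right_injective hp.two_le hL)
      subst hkm
      refine ⟨hMk, ?_⟩
      rcases Nat.lt_or_ge s k with hlt | hge
      · refine ih M p s hp hMk hs hlt h2 fun A B hA hB => ?_
        apply map_injective M.subtype_injective
        refine huniq _ _ ?_ ?_ <;>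
          rwa [← Nat.card_congr (equivMapOfInjective _ _ M.subtype_injective).toEquiv]
      · exfalso
        refine hnc ?_
        obtain ⟨g, -, hg⟩ := SetLike.exists_of_lt (lt_top_iff_ne_top.mpr hM.1)
        refine isCyclic_iff_exists_orderOf_eq_natCard.mpr ⟨g, ?_⟩
        by_contra hne
        obtain ⟨i, hi, hgi⟩ := (Nat.dvd_prime_pow hp).mp (hG ▸ orderOf_dvd_natCard g)
        have his : i ≤ s := by
          have : i ≠ k + 1 := fun e => hne (by rw [hgi, hG, e])
          omega
        have hMH : M ≤ H₀ := hcont M k hMk hge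
        have hgH : g ∈ H₀ := hcont (zpowers g) i (by rw [Nat.card_zpowers, hgi]) his (mem_zpowers g)
        have hsk : s = k := by omega
        have : M = H₀ := eq_of_le_of_card_ge hMH (by rw [hMk, hH₀, hsk])
        exact hg (this ▸ hgH)
    have hne : (⊤ : Subgroup G) ≠ ⊥ := fun h => hnc (by
      haveI : Subsingleton G := subsingleton_iff.mp (subsingleton_of_bot_eq_top h.symm)
      infer_instance)
    obtain ⟨A, hA, -⟩ := (eq_top_or_exists_le_coatom (⊥ : Subgroup G)).resolve_left hne.symm
    obtain ⟨hAc, hAcy⟩ := hmax A hA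
    obtain ⟨⟨a, haA⟩, ha⟩ := IsCyclic.exists_generator (α := A)
    have hazp : zpowers a = A := by
      apply le_antisymm (zpowers_le.mpr haA)
      intro y hy
      obtain ⟨i, hi⟩ := ha ⟨y, hy⟩
      exact ⟨i, congrArg Subtype.val hi⟩
    have hao : orderOf a = p ^ m := by rw [← Nat.card_zpowers, hazp, hAc]
    obtain ⟨g, -, hgA⟩ := SetLike.exists_of_lt (lt_top_iff_ne_top.mpr hA.1)
    have hgtop : zpowers g ≠ ⊤ := fun h => hnc ⟨g, fun y => (show y ∈ zpowers g by rw [h]; exact mem_top y)⟩
    obtain ⟨B, hB, hgB⟩ := (eq_top_or_exists_le_coatom (zpowers g)).resolve_left hgtop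
    obtain ⟨hBc, hBcy⟩ := hmax B hB
    obtain ⟨⟨b, hbB⟩, hb⟩ := IsCyclic.exists_generator (α := B)
    have hbzp : zpowers b = B := by
      apply le_antisymm (zpowers_le.mpr hbB)
      intro y hy
      obtain ⟨i, hi⟩ := hb ⟨y, hy⟩
      exact ⟨i, congrArg Subtype.val hi⟩
    have hbo : orderOf b = p ^ m := by rw [← Nat.card_zpowers, hbzp, hBc]
    have hbA : b ∉ A := fun h => hgA ((hbzp ▸ (zpowers_le.mpr h) : B ≤ A) (zpowers_le.mp hgB))
    have hnorm : ∀ M : Subgroup G, Nat.card M = p ^ m → M.Normal := by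
      intro M hMc
      refine normal_of_index_eq_minFac_card ?_
      have h1 := M.index_mul_card
      rw [hG, hMc, pow_succ'] at h1
      rw [Nat.eq_of_mul_eq_mul_right (pow_pos hp.pos m) h1, hG, hp.pow_minFac (by omega)]
    haveI hAn := hnorm A hAc
    haveI hBn := hnorm B hBc
    have hindex : ∀ M : Subgroup G, Nat.card M = p ^ m → M.index = p := fun M hMc => by
      have h1 := M.index_mul_card
      rw [hG, hMc, pow_succ'] at h1
      exact Nat.eq_of_mul_eq_mul_right (pow_pos hp.pos m) h1
    -- `p`-th powers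
    have hpow : ∀ M : Subgroup G, M.Normal → Nat.card M = p ^ m → ∀ y : G, y ^ p ∈ M := by
      intro M hn hMc y
      have := M.pow_index_mem y
      rwa [hindex M hMc] at this
    -- the centre contains `A ⊓ B`
    have htop : closure ({a, b} : Set G) = ⊤ := by
      by_contra hne'
      have hle : A ≤ closure ({a, b} : Set G) := hazp ▸ zpowers_le.mpr (subset_closure (by simp))
      rcases hA.le_iff.mp hle with h | h
      · exact hne' h
      · exact hbA (h ▸ subset_closure (by simp))
    have hZ : ∀ z ∈ A ⊓ B, z ∈ center G := by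
      intro z hz
      have hle : closure ({a, b} : Set G) ≤ centralizer {z} := by
        rw [closure_le]
        rintro y (rfl | rfl)
        · obtain ⟨i, hi⟩ := (hazp ▸ hz.1 : z ∈ zpowers y)
          exact mem_centralizer_singleton_iff.mpr (hi ▸ (Commute.self_zpow y i).eq)
        · obtain ⟨i, hi⟩ := (hbzp ▸ hz.2 : z ∈ zpowers y)
          exact mem_centralizer_singleton_iff.mpr (hi ▸ (Commute.self_zpow y i).eq)
      exact mem_center_iff.mpr fun y => mem_centralizer_singleton_iff.mp (hle (htop ▸ mem_top y))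
    set c := b * a * b⁻¹ * a⁻¹ with hc
    have hcAB : c ∈ A ⊓ B := by
      refine ⟨A.mul_mem (hAn.conj_mem a haA b) (A.inv_mem haA), ?_⟩
      have e : c = b * (a * b⁻¹ * a⁻¹) := by rw [hc]; group
      rw [e]
      exact B.mul_mem hbB (hBn.conj_mem _ (B.inv_mem hbB) a)
    have hcc : ∀ y, Commute y c := fun y => mem_center_iff.mp (hZ c hcAB) y
    have hconj : b * a * b⁻¹ = c * a := by rw [hc]; group
    have hcp : c ^ p = 1 := by
      have h1 : b * a ^ p * b⁻¹ = c ^ p * a ^ p := by
        rw [← conj_pow, hconj, (hcc a).symm.mul_pow]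
      have h3 := mem_center_iff.mp (hZ (a ^ p) ⟨A.pow_mem haA p, hpow B hBn hBc a⟩) b
      rw [h3, mul_inv_cancel_right] at h1
      exact mul_eq_right.mp h1.symm
    -- write `b ^ p = a ^ (p * k)`
    obtain ⟨k, hk⟩ : ∃ k : ℤ, b ^ (p : ℤ) = a ^ ((p : ℤ) * k) := by
      obtain ⟨j, hj⟩ := (hazp ▸ hpow A hAn hAc b : b ^ p ∈ zpowers a)
      have hj' : a ^ j = b ^ p := hj
      have hm1 : 1 ≤ m := by omega
      have h1 : a ^ (j * (p : ℤ) ^ (m - 1)) = 1 := by
        rw [zpow_mul, hj', ← Nat.cast_pow, zpow_natCast, ← pow_mul, ← pow_succ',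
          Nat.sub_add_cancel hm1, ← hbo, pow_orderOf_eq_one]
      rw [← orderOf_dvd_iff_zpow_eq_one, hao] at h1
      obtain ⟨t, ht⟩ := h1
      refine ⟨t, ?_⟩
      rw [zpow_natCast, ← hj']
      congr 1
      have hp0 : ((p : ℤ) ^ (m - 1)) ≠ 0 := pow_ne_zero _ (by exact_mod_cast hp.ne_zero)
      apply mul_right_cancel₀ hp0
      rw [ht, Nat.cast_pow, show (p : ℤ) ^ m = (p : ℤ) ^ (m - 1) * p by
        rw [← pow_succ, Nat.sub_add_cancel hm1]]
      ring
    -- `(b * w) ^ i = b ^ i * w ^ i * c ^ (k * binom)`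
    set w := a ^ (-k) with hw
    have hconjw : b * w * b⁻¹ = c ^ (-k) * w := by
      rw [hw, ← conj_zpow, hconj, (hcc a).symm.mul_zpow]
    have hwb : ∀ i : ℕ, w ^ i * b = b * w ^ i * (c ^ k) ^ i := by
      intro i
      have h1 : b * w ^ i * b⁻¹ = (c ^ (-k)) ^ i * w ^ i := by
        rw [← conj_pow, hconjw, ((hcc w).symm.zpow_left _).mul_pow]
      have hci : ∀ y, Commute y ((c ^ k) ^ i) := fun y => ((hcc y).zpow_right k).pow_right i
      have h2 : b * w ^ i = ((c ^ k) ^ i)⁻¹ * (w ^ i * b) := by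
        rw [← mul_assoc, ← inv_pow, ← zpow_neg]
        exact mul_inv_eq_iff_eq_mul.mp h1
      rw [h2, mul_assoc, (hci (w ^ i * b)).eq, inv_mul_cancel_left]
    have hform : ∀ i : ℕ, (b * w) ^ i = b ^ i * w ^ i * (c ^ k) ^ (∑ j ∈ Finset.range i, j) := by
      intro i
      induction i with
      | zero => simp
      | succ i ihi =>
        have hcC : ∀ y, Commute y ((c ^ k) ^ (∑ j ∈ Finset.range i, j)) := fun y =>
          ((hcc y).zpow_right k).pow_right _
        calc (b * w) ^ (i + 1)
            = b ^ i * (w ^ i * b) * w * (c ^ k) ^ (∑ j ∈ Finset.range i, j) := by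
              rw [pow_succ, ihi, mul_assoc _ ((c ^ k) ^ _) (b * w), ← (hcC (b * w)).eq]
              group
          _ = b ^ i * b * w ^ i * ((c ^ k) ^ i * w) * (c ^ k) ^ (∑ j ∈ Finset.range i, j) := by
              rw [hwb]; group
          _ = _ := by
              rw [← (((hcc w).zpow_right k).pow_right i).eq, Finset.sum_range_succ, pow_succ b,
                pow_succ w, pow_add (c ^ k), (Commute.pow_pow_self (c ^ k) _ _).eq]
              group
    set y := b * w with hy
    set C₂ := (c ^ k) ^ (∑ j ∈ Finset.range p, j) with hC₂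
    have hyp : y ^ p = C₂ := by
      rw [hy, hform, hC₂, hw, ← zpow_natCast b p, hk, ← zpow_natCast (a ^ (-k)) p, ← zpow_mul,
        ← zpow_add, show (p : ℤ) * k + -k * p = 0 by ring, zpow_zero, one_mul]
    -- the order of `y` divides `p ^ s`
    have hys : y ^ p ^ s = 1 := by
      have hCp : C₂ ^ p = 1 := by
        rw [hC₂, ← pow_mul, mul_comm, pow_mul, ← zpow_natCast (c ^ k) p, ← zpow_mul, mul_comm k,
          zpow_mul, zpow_natCast, hcp, one_zpow, one_pow]
      rcases h2 with h2 | h2
      · have hC1 : C₂ = 1 := by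
          obtain ⟨r, hr⟩ := hp.eq_two_or_odd'.resolve_left h2
          have hsum : ∑ j ∈ Finset.range p, j = p * r := by
            rw [Finset.sum_range_id]
            rw [show p - 1 = r * 2 by omega, ← mul_assoc, Nat.mul_div_cancel _ two_pos]
          rw [hC₂, hsum, pow_mul, ← zpow_natCast (c ^ k) p, ← zpow_mul, mul_comm k, zpow_mul,
            zpow_natCast, hcp, one_zpow, one_pow]
        obtain ⟨u, hu⟩ := dvd_pow_self p (by omega : s ≠ 0)
        rw [hu, pow_mul, hyp, hC1, one_pow]
      · obtain ⟨u, hu⟩ := pow_dvd_pow p h2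
        rw [hu, pow_two, mul_assoc, pow_mul, hyp, pow_mul, hCp, one_pow]
    obtain ⟨i, hi, hyi⟩ := (Nat.dvd_prime_pow hp).mp (orderOf_dvd_of_pow_eq_one hys)
    have hH₀A : H₀ ≤ A := by
      obtain ⟨L, hL⟩ := Sylow.exists_subgroup_card_pow_prime (G := A) p
        (hAc ▸ pow_dvd_pow p (by omega : s ≤ m))
      have : L.map A.subtype = H₀ := huniq _ _
        ((Nat.card_congr (equivMapOfInjective L A.subtype A.subtype_injective).toEquiv).symm.trans hL)
        hH₀
      exact this ▸ map_subtype_le L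
    have hyA : y ∈ A := hH₀A (hcont (zpowers y) i (by rw [Nat.card_zpowers, hyi]) hi (mem_zpowers y))
    apply hbA
    have e : b = y * a ^ k := by rw [hy, hw, mul_assoc, ← zpow_add, neg_add_cancel, zpow_zero, mul_one]
    rw [e]
    exact A.mul_mem hyA (A.zpow_mem haA k)

/-- Let `p` be a prime and `G` a group of order `p ^ m` which has exactly one subgroup of order `p ^ s`, where `1 ≤ s < m`, and where `s ≥ 2` if `p = 2`. Then `G` is cyclic. (For `p = 2` and `s = 1` the generalized quaternion groups also occur; that case is the classical criterion for a unique involution.) -/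
theorem result {G : Type*} [Group G] [Finite G] (p m s : ℕ) (hp : p.Prime) (hG : Nat.card G = p ^ m) (hs : 1 ≤ s) (hsm : s < m) (h2 : p ≠ 2 ∨ 2 ≤ s) (huniq : ∀ H K : Subgroup G, Nat.card H = p ^ s → Nat.card K = p ^ s → H = K) : IsCyclic G := by
  exact main m G p s hp hG hs hsm h2 huniq

end Cfsg.Agent.S3977
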