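import Mathlib
import Cfsg.Statements.S3979


set_option autoImplicit false
open Cfsg

namespace Cfsg.Agent.S3979

/-- A finite cyclic group has trivial Schur multiplier: every finite stem extension of it is an isomorphism, said through `HasCyclicSchurMultiplier G 1`. -/
theorem result {G : Type*} [Group G] [Finite G] [IsCyclic G] : Cfsg.HasCyclicSchurMultiplier G 1 := by
  classical
  haveI : Subsingleton (Multiplicative (ZMod 1)) :=
    inferInstanceAs (Subsingleton (ZMod 1))
  refine ⟨⟨G, inferInstance, inferInstance, MonoidHom.id G, ⟨fun x => ⟨x, rfl⟩, ?_, ?_⟩, ?_⟩, ?_⟩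
  · simp
  · simp
  · haveI : Unique (MonoidHom.id G).ker :=
      ⟨⟨1⟩, fun a => Subtype.ext (by simpa using a.2)⟩
    haveI : Unique (Multiplicative (ZMod 1)) := ⟨⟨1⟩, fun a => Subsingleton.elim _ _⟩
    exact ⟨MulEquiv.ofUnique⟩
  · intro Γ _ _ σ hσ
    obtain ⟨-, hc, hd⟩ := hσ
    have hcomm : ∀ a b : Γ, a * b = b * a := fun a b =>
      commutative_of_cyclic_center_quotient σ hc a b
    have hbot : commutator Γ = ⊥ := by
      rw [commutator_def, Subgroup.commutator_eq_bot_iff_le_centralizer]
      intro x _ y _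
      exact hcomm y x
    refine ⟨1, fun x => ⟨1, ?_⟩⟩
    have := hd x.2
    rw [hbot, Subgroup.mem_bot] at this
    exact Subtype.ext (by simp [this])

end Cfsg.Agent.S3979
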