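import Cfsg.Statements.S3980

import Cfsg.Agent.SchurTheory.DirectProduct
-- import your own Cfsg.Agent.* helpers here

set_option autoImplicit false
universe u v w
open Cfsg

set_option linter.style.haveILetI false

namespace Cfsg.Agent.S3980

/-- Let `Q₁` and `Q₂` be finite groups whose commutator quotients have coprime orders, with Schur multipliers `A` and `B`. Then the Schur multiplier of `Q₁ × Q₂` is isomorphic to `A × B`. -/
theorem result {Q₁ : Type u} {Q₂ : Type v} [Group Q₁] [Group Q₂] [Finite Q₁] [Finite Q₂] {A B : Type w} [CommGroup A] [CommGroup B] (hA : Cfsg.HasSchurMultiplier Q₁ A) (hB : Cfsg.HasSchurMultiplier Q₂ B) (hcop : Nat.Coprime (Nat.card (Abelianization Q₁)) (Nat.card (Abelianization Q₂))) : Cfsg.HasSchurMultiplier (Q₁ × Q₂) (A × B) := by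
  obtain ⟨a⟩ := CfsgLib.SchurTheory.hasSchurMultiplier_iff.mp hA
  obtain ⟨b⟩ := CfsgLib.SchurTheory.hasSchurMultiplier_iff.mp hB
  obtain ⟨e⟩ := CfsgLib.SchurTheory.nonempty_mult_prod (Q₁ := Q₁) (Q₂ := Q₂)
  haveI : Subsingleton (CfsgLib.SchurTheory.AbTensor Q₁ Q₂) := by
    refine subsingleton_of_forall_eq 1 fun t => ?_
    have key : ∀ (x : Additive (Abelianization Q₁)) (y : Additive (Abelianization Q₂)),
        (TensorProduct.tmul ℤ x y) = 0 := by
      intro x y
      obtain ⟨r, s, hrs⟩ := hcop.isCoprime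
      have hx : (Nat.card (Abelianization Q₁) : ℤ) • x = 0 := by
        rw [natCast_zsmul]
        exact Additive.toMul.injective (pow_card_eq_one' (x := x.toMul))
      have hy : (Nat.card (Abelianization Q₂) : ℤ) • y = 0 := by
        rw [natCast_zsmul]
        exact Additive.toMul.injective (pow_card_eq_one' (x := y.toMul))
      calc TensorProduct.tmul ℤ x y = (r * (Nat.card (Abelianization Q₁) : ℤ) +
            s * (Nat.card (Abelianization Q₂) : ℤ)) • TensorProduct.tmul ℤ x y := by
            rw [hrs, one_zsmul]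
        _ = 0 := by
          rw [add_zsmul, mul_zsmul, mul_zsmul]
          rw [TensorProduct.smul_tmul', hx, TensorProduct.zero_tmul, zsmul_zero, zero_add,
            ← TensorProduct.tmul_smul, hy, TensorProduct.tmul_zero, zsmul_zero]
    refine Subgroup.mem_bot.mp (CfsgLib.SchurTheory.tensor_mem ⊥ (MonoidHom.id _) (fun x y => ?_) t)
    rw [MonoidHom.id_apply, key, ofAdd_zero]
    exact Subgroup.one_mem ⊥
  letI := uniqueOfSubsingleton (1 : CfsgLib.SchurTheory.AbTensor Q₁ Q₂)
  exact CfsgLib.SchurTheory.hasSchurMultiplier_iff.mpr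
    ⟨(a.prodCongr (b.trans MulEquiv.prodUnique.symm)).trans e⟩

end Cfsg.Agent.S3980
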