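import Mathlib
import Cfsg.Statements.S3981
import Cfsg.Agent.FgsSix.InvolutionAction

set_option autoImplicit false
open Cfsg

namespace Cfsg.Agent.S3981

/-- Let p be an odd prime, Q a p-subgroup of the finite group G and y an involution normalizing Q. Then Q is maximal among the p-subgroups of G normalized by y if and only if the image of y in N_G(Q) ⧸ Q neither inverts nor centralizes any element of order p there; the latter is phrased inside N_G(Q): for every x in N_G(Q) outside Q with x ^ p ∈ Q, neither y x y⁻¹ x nor y x y⁻¹ x⁻¹ lies in Q. -/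
theorem result {G : Type*} [Group G] [Finite G] (p : ℕ) [Fact p.Prime] (hp2 : p ≠ 2) (Q : Subgroup G) (hQ : IsPGroup p ↥Q) (y : G) (hy : orderOf y = 2) (hyQ : y ∈ Subgroup.normalizer (Q : Set G)) : (∀ R : Subgroup G, IsPGroup p ↥R → Q ≤ R → y ∈ Subgroup.normalizer (R : Set G) → R = Q) ↔ ∀ x : G, x ∈ Subgroup.normalizer (Q : Set G) → x ∉ Q → x ^ p ∈ Q → (y * x * y⁻¹ * x ∉ Q ∧ y * x * y⁻¹ * x⁻¹ ∉ Q) := by
  classical
  have hyy : y * y = 1 := by
    have := pow_orderOf_eq_one y
    rwa [hy, pow_two] at this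
  have hinv : y⁻¹ = y := inv_eq_of_mul_eq_one_right hyy
  constructor
  · intro hmax x hxN hxQ hxp
    rw [← not_or]
    intro h
    apply hxQ
    have hR : IsPGroup p ↥(Subgroup.zpowers x ⊔ Q) := by
      have hle : Subgroup.zpowers x ≤ Subgroup.normalizer (Q : Set G) := Subgroup.zpowers_le.2 hxN
      refine IsPGroup.to_sup_of_normal_right' ?_ hQ hle
      obtain ⟨k, hk⟩ := hQ ⟨x ^ p, hxp⟩
      refine IsPGroup.of_card_dvd_pow (n := k + 1) ?_
      rw [Nat.card_zpowers, orderOf_dvd_iff_pow_eq_one, pow_succ', pow_mul]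
      exact congrArg Subtype.val hk
    have hxR : x ∈ Subgroup.zpowers x ⊔ Q := Subgroup.mem_sup_left (Subgroup.mem_zpowers x)
    have hyx : y * x * y⁻¹ ∈ Subgroup.zpowers x ⊔ Q := by
      rcases h with h | h
      · simpa using Subgroup.mul_mem _ (Subgroup.mem_sup_right h) (Subgroup.inv_mem _ hxR)
      · simpa using Subgroup.mul_mem _ (Subgroup.mem_sup_right h) hxR
    have hsub : ∀ g ∈ Subgroup.zpowers x ⊔ Q, y * g * y⁻¹ ∈ Subgroup.zpowers x ⊔ Q := by
      intro g hg
      have h1 : (Subgroup.zpowers x ⊔ Q).map (MulAut.conj y).toMonoidHom ≤ Subgroup.zpowers x ⊔ Q := by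
        rw [Subgroup.map_sup, sup_le_iff, MonoidHom.map_zpowers, Subgroup.zpowers_le]
        refine ⟨hyx, ?_⟩
        rintro _ ⟨q, hq, rfl⟩
        exact Subgroup.mem_sup_right ((Subgroup.mem_normalizer_iff.1 hyQ q).1 hq)
      exact h1 ⟨g, hg, rfl⟩
    have hyN : y ∈ Subgroup.normalizer ((Subgroup.zpowers x ⊔ Q : Subgroup G) : Set G) := by
      rw [Subgroup.mem_normalizer_iff]
      intro g
      refine ⟨hsub g, fun hg => ?_⟩
      have := hsub _ hg
      rw [hinv] at this
      have e : y * (y * g * y) * y = g := by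
        calc y * (y * g * y) * y = y * y * g * (y * y) := by group
          _ = g := by rw [hyy]; simp
      rwa [e] at this
    exact (hmax _ hR le_sup_right hyN) ▸ hxR
  · intro h R hR hQR hyR
    by_contra hne
    have hlt : Q < R := lt_of_le_of_ne hQR (Ne.symm hne)
    -- `Q` is properly contained in its normalizer in `R`
    have hnil : Group.IsNilpotent ↥R := hR.isNilpotent
    have hlt' : Q.subgroupOf R < ⊤ := by
      rw [lt_top_iff_ne_top, Ne, Subgroup.subgroupOf_eq_top]
      exact not_le_of_gt hlt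
    obtain ⟨w, hw, hwQ⟩ := SetLike.exists_of_lt (normalizerCondition_of_isNilpotent (Q.subgroupOf R) hlt')
    set M : Subgroup G := R ⊓ Subgroup.normalizer (Q : Set G) with hM
    have hQM : Q ≤ M := le_inf hQR Subgroup.le_normalizer
    haveI hQn : (Q.subgroupOf M).Normal := Subgroup.normal_subgroupOf_of_le_normalizer inf_le_right
    have hwM : (w : G) ∈ M := by
      refine Subgroup.mem_inf.2 ⟨w.2, ?_⟩
      rw [Subgroup.mem_normalizer_iff]
      intro g
      constructor
      · intro hg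
        exact (Subgroup.mem_normalizer_iff.1 hw ⟨g, hQR hg⟩).1 hg
      · intro hg
        have hgR : g ∈ R := by
          have := R.mul_mem (R.mul_mem (R.inv_mem w.2) (hQR hg)) w.2
          simpa [mul_assoc] using this
        exact (Subgroup.mem_normalizer_iff.1 hw ⟨g, hgR⟩).2 hg
    haveI : Nontrivial (↥M ⧸ Q.subgroupOf M) := by
      refine ⟨⟨QuotientGroup.mk ⟨_, hwM⟩, 1, fun hc => ?_⟩⟩
      exact hwQ (Subgroup.mem_subgroupOf.2
        (Subgroup.mem_subgroupOf.1 ((QuotientGroup.eq_one_iff (⟨_, hwM⟩ : ↥M)).1 hc)))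
    have hPQ : IsPGroup p (↥M ⧸ Q.subgroupOf M) := (hR.to_le inf_le_left).to_quotient _
    have hyM : ∀ g : G, g ∈ M → y * g * y⁻¹ ∈ M := by
      intro g hg
      refine Subgroup.mem_inf.2 ⟨(Subgroup.mem_normalizer_iff.1 hyR g).1 hg.1, ?_⟩
      exact Subgroup.mul_mem _ (Subgroup.mul_mem _ hyQ hg.2) (Subgroup.inv_mem _ hyQ)
    let c : ↥M →* ↥M :=
      { toFun := fun g => ⟨y * g.1 * y⁻¹, hyM _ g.2⟩
        map_one' := Subtype.ext (by simp)
        map_mul' := fun a b => Subtype.ext (by simp [mul_assoc]) }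
    have hc : Q.subgroupOf M ≤ (Q.subgroupOf M).comap c := by
      intro g hg
      exact (Subgroup.mem_normalizer_iff.1 hyQ _).1 hg
    let φ := QuotientGroup.map _ (Q.subgroupOf M) c hc
    have hφ : Function.Involutive φ := by
      intro z
      obtain ⟨g, rfl⟩ := QuotientGroup.mk_surjective z
      simp only [φ, QuotientGroup.map_mk]
      congr 1
      refine Subtype.ext ?_
      change y * (y * g.1 * y⁻¹) * y⁻¹ = g.1
      rw [hinv]
      calc y * (y * g.1 * y) * y = y * y * g.1 * (y * y) := by group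
        _ = g.1 := by rw [hyy]; simp
    obtain ⟨z, hzo, hz⟩ := CfsgLib.FgsSix.exists_fixed_or_inverted hPQ φ hφ
    obtain ⟨x, rfl⟩ := QuotientGroup.mk_surjective z
    have hxQ : (x : G) ∉ Q := by
      intro hx
      rw [(QuotientGroup.eq_one_iff x).2 (Subgroup.mem_subgroupOf.2 hx), orderOf_one] at hzo
      exact (Fact.out : p.Prime).ne_one hzo.symm
    have hxp : (x : G) ^ p ∈ Q := by
      have h1 : ((x ^ p : ↥M) : ↥M ⧸ Q.subgroupOf M) = 1 := by
        rw [QuotientGroup.mk_pow, ← hzo, pow_orderOf_eq_one]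
      simpa using Subgroup.mem_subgroupOf.1 ((QuotientGroup.eq_one_iff _).1 h1)
    obtain ⟨h1, h2⟩ := h x x.2.2 hxQ hxp
    simp only [φ, QuotientGroup.map_mk] at hz
    rcases hz with hz | hz
    · apply h2
      have h3 := QuotientGroup.eq.1 hz.symm
      have h4 := Subgroup.mem_subgroupOf.1 h3
      have h5 := (Subgroup.mem_normalizer_iff.1 x.2.2 _).1 h4
      simpa [c, mul_assoc] using h5
    · apply h1
      rw [← QuotientGroup.mk_inv] at hz
      have h3 := QuotientGroup.eq.1 hz
      have h4 := Subgroup.mem_subgroupOf.1 h3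
      have h5 := (Subgroup.mem_normalizer_iff.1 (Subgroup.inv_mem _ x.2.2) _).1 (Q.inv_mem h4)
      simpa [c, mul_assoc] using h5

end Cfsg.Agent.S3981
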