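import Mathlib
import Cfsg.Statements.S3982
import Cfsg.Agent.FgsSix.InvolutionAction
import Cfsg.Agent.FgsSix.SupCard

set_option autoImplicit false
open Cfsg

namespace Cfsg.Agent.S3982

/-- Let p be an odd prime and G a finite group of even order divisible by p in which the centralizer of every non-identity p-element has odd order. If some nontrivial p-subgroup of G has a normalizer of even order, then the normalizer of every Sylow p-subgroup of G has even order. -/
theorem result {G : Type*} [Group G] [Finite G] (p : ℕ) [Fact p.Prime] (hp2 : p ≠ 2) (hpG : p ∣ Nat.card G) (h2G : 2 ∣ Nat.card G) (hC : ∀ g : G, g ≠ 1 → (∃ k : ℕ, orderOf g = p ^ k) → Odd (Nat.card ↥(Subgroup.centralizer ({g} : Set G)))) (Q : Subgroup G) (hQ : IsPGroup p ↥Q) (hQ1 : Q ≠ ⊥) (hev : Even (Nat.card ↥(Subgroup.normalizer (Q : Set G)))) (P : Sylow p G) : Even (Nat.card ↥(Subgroup.normalizer ((P : Subgroup G) : Set G))) := by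
  classical
  obtain ⟨⟨y, hyQ⟩, hy⟩ := exists_prime_orderOf_dvd_card'
    (G := ↥(Subgroup.normalizer (Q : Set G))) 2 (even_iff_two_dvd.1 hev)
  rw [Subgroup.orderOf_mk] at hy
  have hyy : y * y = 1 := by
    have := pow_orderOf_eq_one y
    rwa [hy, pow_two] at this
  have hinv : y⁻¹ = y := inv_eq_of_mul_eq_one_right hyy
  -- a maximal `y`-invariant `p`-subgroup over `Q`
  obtain ⟨R, ⟨hR, hQR, hyR⟩, hmax⟩ := Set.Finite.exists_maximalFor (fun R : Subgroup G => Nat.card ↥R)
    {R : Subgroup G | IsPGroup p ↥R ∧ Q ≤ R ∧ y ∈ Subgroup.normalizer (R : Set G)}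
    (Set.toFinite _) ⟨Q, hQ, le_rfl, hyQ⟩
  have hR1 : R ≠ ⊥ := fun h => hQ1 (le_bot_iff.1 (h ▸ hQR))
  obtain ⟨r, hr, hr1⟩ := (Subgroup.bot_or_exists_ne_one R).resolve_left hR1
  have hord : ∀ g ∈ R, ∃ k : ℕ, orderOf g = p ^ k := by
    intro g hg
    obtain ⟨k, hk⟩ := IsPGroup.iff_orderOf.1 hR ⟨g, hg⟩
    exact ⟨k, by rwa [Subgroup.orderOf_mk] at hk⟩
  let ψ : ↥R →* ↥R :=
    { toFun := fun g => ⟨y * g.1 * y⁻¹, (Subgroup.mem_normalizer_iff.1 hyR _).1 g.2⟩
      map_one' := Subtype.ext (by simp)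
      map_mul' := fun a b => Subtype.ext (by simp [mul_assoc]) }
  have hψ : MonoidHom.FixedPointFree ψ := by
    intro g hg
    by_contra hg1
    have hyg : y ∈ Subgroup.centralizer ({(g : G)} : Set G) := by
      rw [Subgroup.mem_centralizer_singleton_iff]
      exact mul_inv_eq_iff_eq_mul.1 (congrArg Subtype.val hg)
    have h2 : 2 ∣ Nat.card ↥(Subgroup.centralizer ({(g : G)} : Set G)) := by
      rw [← hy]; exact Subgroup.orderOf_dvd_natCard _ hyg
    exact (Nat.not_even_iff_odd.2 (hC g (by simpa using hg1) (hord g g.2))) (even_iff_two_dvd.2 h2)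
  have hψ2 : Function.Involutive ψ := by
    intro g
    refine Subtype.ext ?_
    change y * (y * g.1 * y⁻¹) * y⁻¹ = g.1
    rw [hinv]
    calc y * (y * g.1 * y) * y = y * y * g.1 * (y * y) := by group
      _ = g.1 := by rw [hyy]; simp
  have hinvR : ∀ g ∈ R, y * g * y⁻¹ = g⁻¹ := fun g hg =>
    congrArg Subtype.val (congrFun (hψ.coe_eq_inv_of_involutive hψ2) ⟨g, hg⟩)
  have hab : ∀ a ∈ R, ∀ b ∈ R, a * b = b * a := fun a ha b hb =>
    congrArg Subtype.val (hψ.commute_all_of_involutive hψ2 ⟨a, ha⟩ ⟨b, hb⟩).eq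
  set C := Subgroup.centralizer (R : Set G) with hCdef
  set N := Subgroup.normalizer (R : Set G) with hNdef
  have hRC : R ≤ C := fun a ha b hb => hab b hb a ha
  have hRN : R ≤ N := Subgroup.le_normalizer
  have hCN : C ≤ N := Subgroup.centralizer_le_normalizer _
  have hCodd : Odd (Nat.card ↥C) := by
    refine (hC r hr1 (hord r hr)).of_dvd_nat (Subgroup.card_dvd_of_le ?_)
    exact Subgroup.centralizer_le (by simpa using hr)
  obtain ⟨P₀⟩ : Nonempty (Sylow p ↥N) := inferInstance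
  set S0 : Subgroup G := (P₀ : Subgroup ↥N).map N.subtype with hS0
  have hS0N : S0 ≤ N := Subgroup.map_subtype_le _
  have hS0p : IsPGroup p ↥S0 := P₀.isPGroup'.map _
  have hS0C : S0 ≤ Subgroup.normalizer (C : Set G) := by
    intro g hg
    have hgN := hS0N hg
    rw [Subgroup.mem_normalizer_iff]
    intro c
    have key : ∀ g' ∈ N, ∀ c' ∈ C, g' * c' * g'⁻¹ ∈ C := by
      intro g' hg' c' hc' b hb
      have hb' : g'⁻¹ * b * g' ∈ R := by
        have := (Subgroup.mem_normalizer_iff.1 (N.inv_mem hg') b).1 hb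
        simpa using this
      have h3 := hc' _ hb'
      calc b * (g' * c' * g'⁻¹) = g' * (g'⁻¹ * b * g' * c') * g'⁻¹ := by group
        _ = g' * (c' * (g'⁻¹ * b * g')) * g'⁻¹ := by rw [h3]
        _ = g' * c' * g'⁻¹ * b := by group
    refine ⟨key g hgN c, fun h => ?_⟩
    have := key g⁻¹ (N.inv_mem hgN) _ h
    simpa [mul_assoc] using this
  set H : Subgroup G := S0 ⊔ C with hH
  have hHN : H ≤ N := sup_le hS0N hCN
  have hHodd : Odd (Nat.card ↥H) := by
    obtain ⟨k, hk⟩ := IsPGroup.iff_card.1 hS0p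
    have h1 : Odd (Nat.card ↥S0) := hk ▸ ((Fact.out : p.Prime).odd_of_ne_two hp2).pow
    refine (h1.mul hCodd).of_dvd_nat ?_
    have he : Nat.card ↥(S0 ⊔ C : Subgroup G) * Nat.card ↥(S0 ⊓ C : Subgroup G) =
        Nat.card ↥S0 * Nat.card ↥C := CfsgLib.FgsSix.card_sup_mul_card_inf S0 C hS0C
    exact ⟨_, he.symm⟩
  -- `y` acts on `N_G(R)` as `-1` modulo the centralizer
  have hcomm : ∀ g ∈ N, y * g * y⁻¹ * g⁻¹ ∈ C := by
    intro g hg b hb
    have hgb : g⁻¹ * b * g ∈ R := by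
      have := (Subgroup.mem_normalizer_iff.1 (N.inv_mem hg) b).1 hb
      simpa using this
    have hygb : g * (y⁻¹ * b * y) * g⁻¹ = g * b⁻¹ * g⁻¹ := by
      have := hinvR b hb
      rw [hinv] at this ⊢
      rw [this]
    have hgb' : g * b⁻¹ * g⁻¹ ∈ R := (Subgroup.mem_normalizer_iff.1 hg _).1 (R.inv_mem hb)
    have hmain : (y * g * y⁻¹ * g⁻¹) * b * (y * g * y⁻¹ * g⁻¹)⁻¹ = b := by
      have e1 := hinvR _ hgb
      calc (y * g * y⁻¹ * g⁻¹) * b * (y * g * y⁻¹ * g⁻¹)⁻¹
          = y * (g * (y⁻¹ * (g⁻¹ * b * g) * y) * g⁻¹) * y⁻¹ := by group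
        _ = y * (g * (g⁻¹ * b * g)⁻¹ * g⁻¹) * y⁻¹ := by
              rw [hinv] at e1 ⊢
              rw [e1]
        _ = y * b⁻¹ * y⁻¹ := by group
        _ = b := by rw [hinvR _ (R.inv_mem hb), inv_inv]
    exact (mul_inv_eq_iff_eq_mul.1 hmain).symm
  have hyH : y ∈ Subgroup.normalizer (H : Set G) := by
    have key : ∀ g ∈ H, y * g * y⁻¹ ∈ H := by
      intro g hg
      have := H.mul_mem (Subgroup.mem_sup_right (hcomm g (hHN hg))) hg
      simpa using this
    rw [Subgroup.mem_normalizer_iff]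
    intro g
    refine ⟨key g, fun hg => ?_⟩
    have := key _ hg
    rw [hinv] at this
    have e : y * (y * g * y) * y = g := by
      calc y * (y * g * y) * y = y * y * g * (y * y) := by group
        _ = g := by rw [hyy]; simp
    rwa [e] at this
  obtain ⟨S, hS⟩ := CfsgLib.FgsSix.exists_fixed_sylow H hHodd p (by rw [pow_two, hyy]) hyH
  set S1 : Subgroup G := (S : Subgroup ↥H).map H.subtype with hS1
  have hRH : R ≤ H := hRC.trans le_sup_right
  have hRS : R ≤ S1 := by
    haveI : (R.subgroupOf H).Normal := Subgroup.normal_subgroupOf_of_le_normalizer hHN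
    have h1 : IsPGroup p ↥(R.subgroupOf H) := hR.comap_subtype
    intro g hg
    exact ⟨⟨g, hRH hg⟩, h1.le_sylow_of_normal S hg, rfl⟩
  have hS1card : Nat.card ↥S0 ∣ Nat.card ↥S1 := by
    obtain ⟨k, hk⟩ := IsPGroup.iff_card.1 hS0p
    rw [hk, hS1, Subgroup.card_subtype]
    exact S.pow_dvd_card_of_pow_dvd_card (hk ▸ Subgroup.card_dvd_of_le le_sup_left)
  have hle : Nat.card ↥S1 ≤ Nat.card ↥R :=
    hmax (j := S1) ⟨S.isPGroup'.map _, hQR.trans hRS, hS⟩ (Subgroup.card_le_of_le hRS)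
  have hS0card : Nat.card ↥S0 ≤ Nat.card ↥R :=
    (Nat.le_of_dvd Nat.card_pos hS1card).trans hle
  -- hence `R` is a Sylow subgroup
  obtain ⟨T, hT⟩ := hR.exists_le_sylow
  have hRT : R = (T : Subgroup G) := by
    by_contra hne
    have hlt : R < (T : Subgroup G) := lt_of_le_of_ne hT hne
    have hlt' : R.subgroupOf T < ⊤ := by
      rw [lt_top_iff_ne_top, Ne, Subgroup.subgroupOf_eq_top]
      exact not_le_of_gt hlt
    haveI : Group.IsNilpotent ↥(T : Subgroup G) := T.isPGroup'.isNilpotent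
    obtain ⟨w, hw, hwR⟩ := SetLike.exists_of_lt (normalizerCondition_of_isNilpotent _ hlt')
    set M : Subgroup G := (T : Subgroup G) ⊓ N with hM
    have hwM : (w : G) ∈ M := by
      refine Subgroup.mem_inf.2 ⟨w.2, ?_⟩
      rw [hNdef, Subgroup.mem_normalizer_iff]
      intro g
      constructor
      · intro hg
        exact (Subgroup.mem_normalizer_iff.1 hw ⟨g, hT hg⟩).1 hg
      · intro hg
        have hgT : g ∈ (T : Subgroup G) := by
          have := (T : Subgroup G).mul_mem ((T : Subgroup G).mul_mem ((T : Subgroup G).inv_mem w.2) (hT hg)) w.2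
          simpa [mul_assoc] using this
        exact (Subgroup.mem_normalizer_iff.1 hw ⟨g, hgT⟩).2 hg
    have hRM : R < M :=
      lt_of_le_of_ne (le_inf hT hRN) fun h => hwR (Subgroup.mem_subgroupOf.2 (h ▸ hwM))
    have hMp : IsPGroup p ↥M := T.isPGroup'.to_le inf_le_left
    obtain ⟨k, hk⟩ := IsPGroup.iff_card.1 hMp
    have h5 : Nat.card ↥M ∣ Nat.card ↥S0 := by
      rw [hS0, Subgroup.card_subtype, hk]
      exact P₀.pow_dvd_card_of_pow_dvd_card (hk ▸ Subgroup.card_dvd_of_le inf_le_right)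
    have h6 : Nat.card ↥R < Nat.card ↥M := by
      refine lt_of_le_of_ne (Subgroup.card_le_of_le hRM.le) fun h => hRM.ne ?_
      exact Subgroup.eq_of_le_of_card_ge hRM.le h.ge
    exact absurd ((Nat.le_of_dvd Nat.card_pos h5).trans hS0card) (not_le.2 h6)
  obtain ⟨g, rfl⟩ := MulAction.exists_smul_eq G T P
  rw [even_iff_two_dvd]
  have hmem : g * y * g⁻¹ ∈ Subgroup.normalizer (((g • T : Sylow p G) : Subgroup G) : Set G) := by
    refine Sylow.smul_eq_iff_mem_normalizer.1 ?_
    rw [mul_smul, mul_smul, inv_smul_smul]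
    congr 1
    refine Sylow.smul_eq_iff_mem_normalizer.2 ?_
    have h := hyR
    rw [hNdef, hRT] at h
    exact h
  rw [← hy, ← (MulAut.conj g).orderOf_eq y, MulAut.conj_apply]
  exact Subgroup.orderOf_dvd_natCard _ hmem

end Cfsg.Agent.S3982
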