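import Mathlib
import Cfsg.Statements.S3983
import Cfsg.Agent.FgsSix.TI

set_option autoImplicit false
open scoped Pointwise
open Cfsg

namespace Cfsg.Agent.S3983

/-- Let P be a Sylow p-subgroup of the finite group G that meets each conjugate g P g⁻¹ with g outside N_G(P) trivially, and let U be a subgroup of G of order divisible by p. Then a Sylow p-subgroup Q of U has the same property inside U: Q meets each conjugate u Q u⁻¹ with u ∈ U outside N_U(Q) trivially. -/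
theorem result {G : Type*} [Group G] [Finite G] (p : ℕ) [Fact p.Prime] (P : Sylow p G) (hTI : ∀ g : G, g ∉ Subgroup.normalizer ((P : Subgroup G) : Set G) → (P : Subgroup G) ⊓ (MulAut.conj g • (P : Subgroup G)) = ⊥) (U : Subgroup G) (hU : p ∣ Nat.card ↥U) (Q : Sylow p ↥U) : ∀ u : ↥U, u ∉ Subgroup.normalizer ((Q : Subgroup ↥U) : Set ↥U) → (Q : Subgroup ↥U) ⊓ (MulAut.conj u • (Q : Subgroup ↥U)) = ⊥ := by
  intro u hu
  refine CfsgLib.FgsSix.ti_of_sylow_eq Q ?_ u hu
  intro Q' x hx hx' hx1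
  obtain ⟨P₁, hP₁⟩ := (Q.isPGroup'.map U.subtype).exists_le_sylow
  obtain ⟨P₂, hP₂⟩ := (Q'.isPGroup'.map U.subtype).exists_le_sylow
  have hP : P₁ = P₂ := CfsgLib.FgsSix.sylow_eq_of_ti P hTI P₁ P₂ (hP₁ ⟨x, hx, rfl⟩)
    (hP₂ ⟨x, hx', rfl⟩) (by simpa using hx1)
  have h1 : (P₁ : Subgroup G).comap U.subtype = (Q : Subgroup ↥U) :=
    Q.is_maximal' (P₁.isPGroup'.comap_subtype) (Subgroup.map_le_iff_le_comap.1 hP₁)
  have h2 : (P₂ : Subgroup G).comap U.subtype = (Q' : Subgroup ↥U) :=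
    Q'.is_maximal' (P₂.isPGroup'.comap_subtype) (Subgroup.map_le_iff_le_comap.1 hP₂)
  exact Sylow.ext (h1.symm.trans (hP ▸ h2))

end Cfsg.Agent.S3983
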