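import Mathlib
import Cfsg.Statements.S3984
import Cfsg.Agent.FgsSix.TI

set_option autoImplicit false
open scoped Pointwise
open Cfsg

namespace Cfsg.Agent.S3984

/-- Let P be a Sylow p-subgroup of the finite group G that meets each conjugate g P g⁻¹ with g outside N_G(P) trivially, and let N be a normal subgroup of G of order prime to p. Then every Sylow p-subgroup Q of G ⧸ N meets each conjugate x Q x⁻¹ with x outside its normalizer trivially. -/
theorem result {G : Type*} [Group G] [Finite G] (p : ℕ) [Fact p.Prime] (P : Sylow p G) (hTI : ∀ g : G, g ∉ Subgroup.normalizer ((P : Subgroup G) : Set G) → (P : Subgroup G) ⊓ (MulAut.conj g • (P : Subgroup G)) = ⊥) (N : Subgroup G) [N.Normal] (hN : (Nat.card ↥N).Coprime p) (Q : Sylow p (G ⧸ N)) : ∀ x : G ⧸ N, x ∉ Subgroup.normalizer ((Q : Subgroup (G ⧸ N)) : Set (G ⧸ N)) → (Q : Subgroup (G ⧸ N)) ⊓ (MulAut.conj x • (Q : Subgroup (G ⧸ N))) = ⊥ := by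
  intro u hu
  refine CfsgLib.FgsSix.ti_of_sylow_eq Q ?_ u hu
  intro Q' x hx hx' hx1
  have hsurj : Function.Surjective (QuotientGroup.mk' N) := QuotientGroup.mk'_surjective N
  obtain ⟨P₁, rfl⟩ := Sylow.mapSurjective_surjective hsurj p Q
  obtain ⟨P₂, rfl⟩ := Sylow.mapSurjective_surjective hsurj p Q'
  obtain ⟨a, ha, rfl⟩ : ∃ a ∈ (P₁ : Subgroup G), QuotientGroup.mk' N a = x := hx
  obtain ⟨b, hb, hbx⟩ : ∃ b ∈ (P₂ : Subgroup G), QuotientGroup.mk' N b = QuotientGroup.mk' N a := hx'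
  set K : Subgroup G := Subgroup.zpowers a ⊔ N with hK
  have haK : a ∈ K := (le_sup_left : _ ≤ K) (Subgroup.mem_zpowers a)
  have hbK : b ∈ K := by
    have hNK : N ≤ K := le_sup_right
    have h : a⁻¹ * b ∈ N := by
      rw [← QuotientGroup.eq_one_iff]
      change QuotientGroup.mk' N (a⁻¹ * b) = 1
      rw [map_mul, map_inv, hbx, inv_mul_cancel]
    simpa using K.mul_mem haK (hNK h)
  obtain ⟨i, hi⟩ := (IsPGroup.iff_orderOf.1 P₁.isPGroup') ⟨a, ha⟩
  obtain ⟨j, hj⟩ := (IsPGroup.iff_orderOf.1 P₂.isPGroup') ⟨b, hb⟩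
  rw [Subgroup.orderOf_mk] at hi hj
  -- `⟨a⟩` is a Sylow subgroup of `⟨a⟩N`
  have hA : IsPGroup p ↥((Subgroup.zpowers a).subgroupOf K) :=
    (IsPGroup.of_card (p := p) (n := i) (by rw [Nat.card_zpowers, hi])).comap_subtype
  have hndvd : ¬ p ∣ ((Subgroup.zpowers a).subgroupOf K).index := by
    have h1 : ((Subgroup.zpowers a).subgroupOf K).index ∣ Nat.card ↥N := by
      exact CfsgLib.FgsSix.relIndex_sup_normal_dvd _ _
    intro h
    exact (Nat.Prime.coprime_iff_not_dvd (Fact.out : p.Prime)).1 hN.symm (h.trans h1)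
  let SA : Sylow p ↥K := hA.toSylow hndvd
  have hB : IsPGroup p ↥(Subgroup.zpowers (⟨b, hbK⟩ : ↥K)) :=
    IsPGroup.of_card (p := p) (n := j) (by rw [Nat.card_zpowers, Subgroup.orderOf_mk, hj])
  obtain ⟨SB, hSB⟩ := hB.exists_le_sylow
  obtain ⟨k, hk⟩ := MulAction.exists_smul_eq ↥K SA SB
  have hb' : (⟨b, hbK⟩ : ↥K) ∈ SB := hSB (Subgroup.mem_zpowers _)
  rw [← hk] at hb'
  have hb'' : (MulAut.conj k)⁻¹ • (⟨b, hbK⟩ : ↥K) ∈ (Subgroup.zpowers a).subgroupOf K :=
    Subgroup.mem_pointwise_smul_iff_inv_smul_mem.1 hb'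
  have hb3 : (k : G)⁻¹ * b * (k : G) ∈ (P₁ : Subgroup G) := by
    have := (Subgroup.zpowers_le.2 ha) hb''
    simpa [mul_assoc] using this
  have hbne : b ≠ 1 := by
    intro h
    apply hx1
    rw [← hbx, h, map_one]
  -- `k` may be replaced by an element of `N`, since `⟨a⟩` lies in `P₁`
  obtain ⟨z, hz, n, hn, hzn⟩ : ∃ z ∈ N, ∃ n ∈ Subgroup.zpowers a, z * n = (k : G) := by
    have hk2 : (k : G) ∈ N ⊔ Subgroup.zpowers a := sup_comm (a := Subgroup.zpowers a) (b := N) ▸ k.2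
    exact Subgroup.mem_sup_of_normal_left.1 hk2
  have hnP : n ∈ (P₁ : Subgroup G) := Subgroup.zpowers_le.2 ha hn
  have hbz : b ∈ ((z • P₁ : Sylow p G) : Subgroup G) := by
    change b ∈ MulAut.conj z • (P₁ : Subgroup G)
    rw [Subgroup.mem_pointwise_smul_iff_inv_smul_mem]
    have h3 := (P₁ : Subgroup G).mul_mem ((P₁ : Subgroup G).mul_mem hnP hb3) ((P₁ : Subgroup G).inv_mem hnP)
    rw [← hzn] at h3
    simpa [mul_assoc] using h3
  have hP : z • P₁ = P₂ := CfsgLib.FgsSix.sylow_eq_of_ti P hTI _ _ hbz hb hbne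
  apply Sylow.ext
  rw [← hP]
  change (P₁ : Subgroup G).map (QuotientGroup.mk' N) =
    ((MulAut.conj z • (P₁ : Subgroup G))).map (QuotientGroup.mk' N)
  rw [Subgroup.pointwise_smul_def]
  refine Eq.trans ?_ (Subgroup.map_map _ _ _).symm
  congr 1
  refine MonoidHom.ext fun y => ?_
  have hz1 : QuotientGroup.mk' N z = 1 := (QuotientGroup.eq_one_iff z).2 hz
  change _ = QuotientGroup.mk' N (z * y * z⁻¹)
  rw [map_mul, map_mul, map_inv, hz1]
  simp

end Cfsg.Agent.S3984
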