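import Mathlib
import Cfsg.Statements.S3985
import Cfsg.Agent.FgsSix.TI
import Cfsg.Agent.FgsSix.CyclicSylow

set_option autoImplicit false
open scoped Pointwise
open Cfsg

namespace Cfsg.Agent.S3985

/-- Let P be a cyclic Sylow p-subgroup of the finite group G. Then P meets each conjugate g P g⁻¹ with g outside N_G(P) trivially if and only if P is weakly self-centralizing: C_G(x) = C_G(P) for every non-identity x ∈ P. -/
theorem result {G : Type*} [Group G] [Finite G] (p : ℕ) [Fact p.Prime] (P : Sylow p G) (hcyc : IsCyclic ↥(P : Subgroup G)) : (∀ g : G, g ∉ Subgroup.normalizer ((P : Subgroup G) : Set G) → (P : Subgroup G) ⊓ (MulAut.conj g • (P : Subgroup G)) = ⊥) ↔ ∀ x : G, x ∈ (P : Subgroup G) → x ≠ 1 → Subgroup.centralizer ({x} : Set G) = Subgroup.centralizer ((P : Subgroup G) : Set G) := by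
  constructor
  · intro hTI x hx hx1
    refine le_antisymm ?_ (Subgroup.centralizer_le (Set.singleton_subset_iff.2 hx))
    intro g hg
    rw [Subgroup.mem_centralizer_singleton_iff] at hg
    have hgN : g ∈ Subgroup.normalizer ((P : Subgroup G) : Set G) := by
      by_contra hgN
      have h2 : x ∈ MulAut.conj g • (P : Subgroup G) := by
        rw [Subgroup.mem_pointwise_smul_iff_inv_smul_mem]
        simpa [mul_assoc, ← hg] using hx
      have h3 : x ∈ (⊥ : Subgroup G) := hTI g hgN ▸ Subgroup.mem_inf.2 ⟨hx, h2⟩
      exact hx1 (Subgroup.mem_bot.1 h3)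
    exact CfsgLib.FgsSix.centralizes_of_normalizes_cyclic_sylow P hcyc hgN hx hx1 hg
  · intro h g hg
    rw [Subgroup.eq_bot_iff_forall]
    intro x hx
    by_contra hx1
    obtain ⟨hxP, hxg⟩ := Subgroup.mem_inf.1 hx
    rw [Subgroup.mem_pointwise_smul_iff_inv_smul_mem] at hxg
    have hxg' : g⁻¹ * x * g ∈ (P : Subgroup G) := by simpa [mul_assoc] using hxg
    apply hg
    refine Sylow.smul_eq_iff_mem_normalizer.1 ?_
    have hC := h x hxP hx1
    have hC' := h (g⁻¹ * x * g) hxg' (by
      intro h0
      exact hx1 (by calc x = g * (g⁻¹ * x * g) * g⁻¹ := by group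
                      _ = 1 := by rw [h0]; group))
    have hle : ∀ q ∈ (P : Subgroup G), g * q * g⁻¹ ∈ Subgroup.centralizer ((P : Subgroup G) : Set G) := by
      intro q hq
      have hq' : q ∈ Subgroup.centralizer ({g⁻¹ * x * g} : Set G) := by
        rw [hC']
        intro r hr
        have := (hcyc.isMulCommutative.is_comm.comm (⟨r, hr⟩ : ↥(P : Subgroup G)) ⟨q, hq⟩)
        exact congrArg Subtype.val this
      rw [← hC, Subgroup.mem_centralizer_singleton_iff]
      rw [Subgroup.mem_centralizer_singleton_iff] at hq'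
      calc g * q * g⁻¹ * x = g * (q * (g⁻¹ * x * g)) * g⁻¹ := by group
        _ = g * (g⁻¹ * x * g * q) * g⁻¹ := by rw [hq']
        _ = x * (g * q * g⁻¹) := by group
    -- `P` is normal in its centralizer's normalizer, hence contains the conjugate
    have hnorm : ((g • P : Sylow p G) : Subgroup G) ≤ Subgroup.normalizer ((P : Subgroup G) : Set G) := by
      intro y hy
      change y ∈ MulAut.conj g • (P : Subgroup G) at hy
      rw [Subgroup.mem_pointwise_smul_iff_inv_smul_mem] at hy
      have := hle _ hy
      apply Subgroup.centralizer_le_normalizer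
      simpa [mul_assoc] using this
    apply Sylow.ext
    refine le_antisymm ?_ ?_
    · have h1 : IsPGroup p ↥(((g • P : Sylow p G) : Subgroup G) ⊔ (P : Subgroup G)) :=
        (g • P).isPGroup'.to_sup_of_normal_right' P.isPGroup' hnorm
      exact le_sup_left.trans (P.is_maximal' h1 le_sup_right).le
    · have h1 : IsPGroup p ↥(((g • P : Sylow p G) : Subgroup G) ⊔ (P : Subgroup G)) :=
        (g • P).isPGroup'.to_sup_of_normal_right' P.isPGroup' hnorm
      exact le_sup_right.trans ((g • P).is_maximal' h1 le_sup_left).le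

end Cfsg.Agent.S3985
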