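import Mathlib
import Cfsg.Statements.S3987
import Cfsg.Agent.FgsSix.DirectFactor

set_option autoImplicit false
open Cfsg

namespace Cfsg.Agent.S3987

/-- Let p be a prime and G a finite group. Then some Sylow p-subgroup of G is a direct factor of G (normal with a normal complement) if and only if for every element x of p-power order and every element y whose order is a power of a prime other than p, the conjugacy class of x y has as many elements as the product of the sizes of the classes of x and of y. -/
theorem result {G : Type*} [Group G] [Finite G] (p : ℕ) [Fact p.Prime] : (∃ (P : Sylow p G) (K : Subgroup G), (P : Subgroup G).Normal ∧ K.Normal ∧ (P : Subgroup G) ⊓ K = ⊥ ∧ (P : Subgroup G) ⊔ K = ⊤) ↔ ∀ x y : G, (∃ a : ℕ, orderOf x = p ^ a) → (∃ q b : ℕ, q.Prime ∧ q ≠ p ∧ orderOf y = q ^ b) → (Subgroup.centralizer ({x * y} : Set G)).index = (Subgroup.centralizer ({x} : Set G)).index * (Subgroup.centralizer ({y} : Set G)).index := by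
  constructor
  · rintro ⟨P, K, hP, hK, hd, htop⟩ x y ⟨a, ha⟩ hy
    have hdisj : Disjoint (P : Subgroup G) K := disjoint_iff.2 hd
    have hx : x ∈ (P : Subgroup G) := CfsgLib.FgsSix.mem_normal_sylow P hP ha
    have hyK : y ∈ K := CfsgLib.FgsSix.mem_complement P K hK htop hy
    obtain ⟨q, b, hq, hqp, hb⟩ := hy
    have hcxy : Commute x y := Subgroup.commute_of_normal_of_disjoint _ _ hP hK hdisj x y hx hyK
    have hcen : Subgroup.centralizer ({x * y} : Set G) =
        Subgroup.centralizer ({x} : Set G) ⊓ Subgroup.centralizer ({y} : Set G) := by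
      refine le_antisymm ?_ ?_
      · intro g hg
        rw [Subgroup.mem_centralizer_singleton_iff] at hg
        have hcop : Nat.Coprime (p ^ a) (q ^ b) :=
          Nat.Coprime.pow _ _ ((Nat.coprime_primes Fact.out hq).2 hqp.symm)
        have key : ∀ {u v : G} {m n : ℕ}, Commute u v → orderOf u = m → orderOf v = n →
            Nat.Coprime m n → Commute g (u * v) → Commute g u := by
          intro u v m n huv hu hv hmn hg
          obtain ⟨t, ht⟩ := exists_pow_eq_self_of_coprime (x := u) (n := n) (hu ▸ hmn.symm)
          have h2 : (u * v) ^ n = u ^ n := by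
            rw [huv.mul_pow, ← hv, pow_orderOf_eq_one, mul_one]
          have h3 := (hg.pow_right n).pow_right t
          rwa [h2, ht] at h3
        rw [Subgroup.mem_inf, Subgroup.mem_centralizer_singleton_iff,
          Subgroup.mem_centralizer_singleton_iff]
        exact ⟨key hcxy ha hb hcop hg, key hcxy.symm hb ha hcop.symm (hcxy.eq ▸ hg)⟩
      · intro g hg
        rw [Subgroup.mem_inf, Subgroup.mem_centralizer_singleton_iff,
          Subgroup.mem_centralizer_singleton_iff] at hg
        rw [Subgroup.mem_centralizer_singleton_iff]
        exact Commute.mul_right hg.1 hg.2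
    have hKx : K ≤ Subgroup.centralizer ({x} : Set G) := fun k hk =>
      Subgroup.mem_centralizer_singleton_iff.2
        (Subgroup.commute_of_normal_of_disjoint _ _ hP hK hdisj x k hx hk).symm
    have hPy : (P : Subgroup G) ≤ Subgroup.centralizer ({y} : Set G) := fun k hk =>
      Subgroup.mem_centralizer_singleton_iff.2
        (Subgroup.commute_of_normal_of_disjoint _ _ hP hK hdisj k y hk hyK)
    have hcomp : Subgroup.IsComplement' K (P : Subgroup G) :=
      Subgroup.isComplement'_of_disjoint_and_mul_eq_univ hdisj.symm (by
        haveI := hK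
        rw [← Subgroup.normal_mul, sup_comm, htop]; rfl)
    have h1 : Nat.Coprime (Subgroup.centralizer ({x} : Set G)).index
        (Subgroup.centralizer ({y} : Set G)).index := by
      refine Nat.Coprime.coprime_dvd_left (Subgroup.index_dvd_of_le hKx) ?_
      refine Nat.Coprime.coprime_dvd_right (Subgroup.index_dvd_of_le hPy) ?_
      rw [hcomp.symm.index_eq_card]
      exact P.card_coprime_index
    rw [hcen]
    refine Nat.le_antisymm Subgroup.index_inf_le (Nat.le_of_dvd
      (Nat.pos_of_ne_zero Subgroup.index_ne_zero_of_finite) ?_)
    exact h1.mul_dvd_of_dvd_of_dvd (Subgroup.index_dvd_of_le inf_le_left)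
      (Subgroup.index_dvd_of_le inf_le_right)
  · intro h
    refine CfsgLib.FgsSix.direct_factor_of_commute ?_
    intro x y hx hy
    have h0 := h x y hx hy
    set A := Subgroup.centralizer ({x} : Set G)
    set B := Subgroup.centralizer ({y} : Set G)
    have hle : A ⊓ B ≤ Subgroup.centralizer ({x * y} : Set G) := by
      intro g hg
      rw [Subgroup.mem_inf] at hg
      rw [Subgroup.mem_centralizer_singleton_iff]
      exact Commute.mul_right (Subgroup.mem_centralizer_singleton_iff.1 hg.1)
        (Subgroup.mem_centralizer_singleton_iff.1 hg.2)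
    have heq : A ⊓ B = Subgroup.centralizer ({x * y} : Set G) := by
      refine hle.eq_of_not_lt fun hlt => ?_
      have := Subgroup.index_strictAnti hlt
      rw [h0] at this
      exact absurd Subgroup.index_inf_le (not_le.2 this)
    have hxy : x * y ∈ Subgroup.centralizer ({x * y} : Set G) :=
      Subgroup.mem_centralizer_singleton_iff.2 rfl
    rw [← heq] at hxy
    have := Subgroup.mem_centralizer_singleton_iff.1 hxy.1
    rw [mul_assoc] at this
    exact (mul_left_cancel this).symm

end Cfsg.Agent.S3987
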