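import Mathlib
import Cfsg.Statements.S3995
import Cfsg.Agent.FgsSix.Frobenius
import Cfsg.Agent.TwoGroupsQ.UniqueInvolution
-- import your own Cfsg.Agent.* helpers here

set_option autoImplicit false
open Cfsg

namespace Cfsg.Agent.S3995

open CfsgLib.FgsSix
open scoped Pointwise

variable {G : Type*} [Group G] [Finite G]

/-- `p` divides one plus the number of elements of order `p`. -/
theorem prime_dvd_succ_count {p : ℕ} (hp : p.Prime) (hd : p ∣ Nat.card G) :
    p ∣ 1 + Nat.card {g : G // orderOf g = p} := by
  classical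
  haveI := Fintype.ofFinite G
  haveI := Fact.mk hp
  refine dvd_trans (dvd_card_pow_eq_one (G := G) (m := p) hd) (dvd_of_eq ?_)
  simp only [Nat.card_eq_fintype_card, Fintype.card_subtype]
  have h : (Finset.univ.filter fun g : G => g ^ p = 1) =
      insert 1 (Finset.univ.filter fun g : G => orderOf g = p) := by
    ext g
    simp only [Finset.mem_filter, Finset.mem_univ, true_and, Finset.mem_insert]
    rw [← orderOf_dvd_iff_pow_eq_one, Nat.dvd_prime hp, orderOf_eq_one_iff]
  rw [h, Finset.card_insert_of_notMem (by simp [hp.one_lt.ne]), add_comm]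

/-- Three times the number of divisors of a product of distinct odd primes. -/
theorem three_mul_card_divisors_le {s : Finset ℕ} (hs : s.Nonempty)
    (h : ∀ p ∈ s, p.Prime ∧ p ≠ 2) :
    3 * (∏ p ∈ s, p).divisors.card ≤ (∏ p ∈ s, p) + 3 := by
  have h3 : ∀ p ∈ s, 3 ≤ p := fun p hp => by
    have := (h p hp).1.two_le
    have := (h p hp).2
    omega
  induction hs using Finset.Nonempty.cons_induction with
  | singleton a =>
    have ha := h a (Finset.mem_singleton_self a)
    rw [Finset.prod_singleton, ha.1.divisors, Finset.card_pair ha.1.one_lt.ne]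
    have := h3 a (Finset.mem_singleton_self a)
    omega
  | cons a t hat ht ih =>
    have hm := fun p (hp : p ∈ t) => h p (Finset.mem_cons_of_mem hp)
    have h3' := fun p (hp : p ∈ t) => h3 p (Finset.mem_cons_of_mem hp)
    have h1 := ih hm h3'
    have ha := h a (Finset.mem_cons_self a t)
    have ha3 := h3 a (Finset.mem_cons_self a t)
    rw [Finset.prod_cons, Nat.divisors_mul]
    have hR : 3 ≤ ∏ p ∈ t, p := by
      obtain ⟨b, hb⟩ := ht
      exact le_trans (h3' b hb) (Nat.le_of_dvd (Finset.prod_pos fun p hp => (hm p hp).1.pos)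
        (Finset.dvd_prod_of_mem _ hb))
    have h2 : (a.divisors * (∏ p ∈ t, p).divisors).card ≤ 2 * (∏ p ∈ t, p).divisors.card := by
      refine Finset.card_mul_le.trans ?_
      rw [ha.1.divisors, Finset.card_pair ha.1.one_lt.ne]
    nlinarith

/-- Let G be a finite group such that the numbers of elements of each order that occurs in G (the numbers #{g : o(g) = m}, m ranging over the element orders of G) take exactly two values, 1 and some n ≠ 1. Then either G is a p-group of exponent p and order at least 3 for some prime p, or G is the quaternion group of order 8, or G is cyclic of order 4, or G ≅ Z₂ × P for a p-group P of exponent p with p an odd prime. -/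
theorem result {G : Type*} [Group G] [Finite G] (n : ℕ) (hn : n ≠ 1) (h : ((fun m : ℕ => Nat.card {g : G // orderOf g = m}) '' Set.range (orderOf : G → ℕ)) = {1, n}) :
    (∃ p : ℕ, p.Prime ∧ IsPGroup p G ∧ 3 ≤ Nat.card G ∧ Monoid.exponent G = p) ∨
      Nonempty (G ≃* QuaternionGroup 2) ∨ (IsCyclic G ∧ Nat.card G = 4) ∨
      (∃ (p : ℕ) (P : Type) (_ : Group P) (_ : Finite P), p.Prime ∧ p ≠ 2 ∧ IsPGroup p P ∧ Monoid.exponent P = p ∧
        Nonempty (G ≃* Multiplicative (ZMod 2) × P)) := by
  classical
  haveI := Fintype.ofFinite G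
  set N : ℕ → ℕ := fun m => Nat.card {g : G // orderOf g = m} with hN
  have hval : ∀ g : G, N (orderOf g) = 1 ∨ N (orderOf g) = n := by
    intro g
    have h1 : N (orderOf g) ∈ ({1, n} : Set ℕ) := h ▸ ⟨orderOf g, ⟨g, rfl⟩, rfl⟩
    exact h1
  obtain ⟨g₀, hg₀⟩ : ∃ g : G, N (orderOf g) = n := by
    obtain ⟨m, ⟨g, rfl⟩, hm⟩ : n ∈ (N '' Set.range (orderOf : G → ℕ)) := h ▸ Or.inr rfl
    exact ⟨g, hm⟩
  have hN1 : N 1 = 1 := by
    simp [hN, orderOf_eq_one_iff]
  have heven : ∀ g : G, 3 ≤ orderOf g → N (orderOf g) = n ∧ 2 ∣ n := by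
    intro g hg
    have h1 : 2 ∣ N (orderOf g) :=
      dvd_trans (even_iff_two_dvd.1 (Nat.totient_even hg)) (totient_dvd_card_orderOf_eq _)
    rcases hval g with h2 | h2
    · rw [h2] at h1; norm_num at h1
    · exact ⟨h2, h2 ▸ h1⟩
  have hodd : ∀ p : ℕ, p.Prime → p ≠ 2 → p ∣ Nat.card G →
      (∃ g : G, orderOf g = p) ∧ N p = n ∧ p ∣ 1 + n := by
    intro p hp hp2 hd
    haveI := Fact.mk hp
    obtain ⟨g, hg⟩ := exists_prime_orderOf_dvd_card' (G := G) p hd
    have h3 : N p = n := by
      have h4 := heven g (by have := hp.two_le; omega)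
      rw [hg] at h4
      exact h4.1
    exact ⟨⟨g, hg⟩, h3, h3 ▸ prime_dvd_succ_count hp hd⟩
  have hsq : ∀ p : ℕ, p.Prime → p ≠ 2 → ∀ g : G, orderOf g ≠ p ^ 2 := by
    intro p hp hp2 g hg
    obtain ⟨-, -, h1⟩ := hodd p hp hp2 ((dvd_pow_self p two_ne_zero).trans (hg ▸ orderOf_dvd_natCard g))
    have hp3 : 3 ≤ p ^ 2 := by have := hp.two_le; nlinarith
    have h2 : p ∣ n := by
      rw [← (heven g (hg ▸ hp3)).1, hg]
      refine dvd_trans ?_ (totient_dvd_card_orderOf_eq _)
      rw [Nat.totient_prime_pow_succ hp, pow_one]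
      exact dvd_mul_right _ _
    exact hp.not_dvd_one ((Nat.dvd_add_left h2).1 h1)
  have hpow : ∀ (g : G) (d : ℕ), d ∣ orderOf g → ∃ y : G, orderOf y = d := fun g d hd =>
    ⟨g ^ (orderOf g / d), orderOf_pow_orderOf_div (orderOf_pos g).ne' hd⟩
  set S := Finset.univ.image (orderOf : G → ℕ) with hS
  have hcard : Nat.card G = ∑ m ∈ S, N m := by
    rw [Nat.card_eq_fintype_card, ← Finset.card_univ, Finset.card_eq_sum_card_image (orderOf : G → ℕ)]
    refine Finset.sum_congr rfl fun m _ => ?_
    simp only [hN, Nat.card_eq_fintype_card, Fintype.card_subtype]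
  have hS1 : 1 ∈ S := Finset.mem_image.2 ⟨1, Finset.mem_univ _, orderOf_one⟩
  have hn0 : n ≠ 0 := by
    rw [← hg₀]
    haveI : Nonempty {g : G // orderOf g = orderOf g₀} := ⟨⟨g₀, rfl⟩⟩
    exact Nat.card_pos.ne'
  by_cases hz : N 2 = 1
  · -- a unique involution
    obtain ⟨⟨z, hzo⟩, hzu⟩ : ∃ w : {g : G // orderOf g = 2}, ∀ w', w' = w := by
      obtain ⟨hs, ⟨w⟩⟩ := Nat.card_eq_one_iff_unique.1 hz
      exact ⟨w, fun w' => Subsingleton.elim _ _⟩
    have huni : ∀ g : G, orderOf g = 2 → g = z := fun g hg =>
      congrArg Subtype.val (hzu ⟨g, hg⟩)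
    have h2G : 2 ∣ Nat.card G := hzo ▸ orderOf_dvd_natCard z
    have h3 : 3 ≤ orderOf g₀ := by
      have := orderOf_pos g₀
      rcases Nat.lt_or_ge (orderOf g₀) 3 with h4 | h4
      · exfalso
        interval_cases orderOf g₀
        · exact hn (hg₀ ▸ hN1)
        · exact hn (hg₀ ▸ hz)
      · exact h4
    have h8 : ∀ g : G, orderOf g ≠ 8 := by
      intro g hg
      obtain ⟨y, hy⟩ := hpow g 4 (hg ▸ by norm_num)
      have h4n : N 4 = n := hy ▸ (heven y (by omega)).1
      have h8n : 4 ∣ n := by
        have h5 := totient_dvd_card_orderOf_eq (G := G) 8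
        rw [show Nat.totient 8 = 4 by decide] at h5
        have h6 : N 8 = n := hg ▸ (heven g (by omega)).1
        exact h6 ▸ h5
      have h5 : Nat.card {x : G // x ^ 4 = 1} = N 1 + N 2 + N 4 := by
        simp only [hN, Nat.card_eq_fintype_card, Fintype.card_subtype]
        rw [← Finset.card_union_of_disjoint, ← Finset.card_union_of_disjoint]
        · congr 1
          ext x
          simp only [Finset.mem_filter, Finset.mem_univ, true_and, Finset.mem_union,
            ← orderOf_dvd_iff_pow_eq_one]
          rw [show (4 : ℕ) = 2 ^ 2 from rfl, Nat.dvd_prime_pow Nat.prime_two]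
          constructor
          · rintro ⟨i, hi, hx⟩
            interval_cases i <;> simp_all
          · rintro ((hx | hx) | hx)
            · exact ⟨0, by simp [hx]⟩
            · exact ⟨1, by simp [hx]⟩
            · exact ⟨2, le_rfl, hx⟩
        · rw [Finset.disjoint_union_left, Finset.disjoint_filter, Finset.disjoint_filter]
          constructor <;> intros <;> omega
        · rw [Finset.disjoint_filter]; intros; omega
      have h6 := dvd_card_pow_eq_one (G := G) (m := 4) (hy ▸ orderOf_dvd_natCard y)
      rw [h5, hN1, hz, h4n] at h6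
      omega
    by_cases hT : ∀ p : ℕ, p.Prime → p ∣ Nat.card G → p = 2
    · -- a 2-group
      haveI := Fact.mk Nat.prime_two
      have hG2 : IsPGroup 2 G := IsPGroup.of_card
        (Nat.eq_prime_pow_of_unique_prime_dvd Nat.card_pos.ne' fun {q} hq hqd => hT q hq hqd)
      have hq : CfsgLib.TwoGroupsQ.HasUniqueOrderP G 2 :=
        CfsgLib.TwoGroupsQ.hasUniqueOrderP_two fun a b ha ha1 hb hb1 =>
          (huni a (orderOf_eq_prime ha ha1)).trans (huni b (orderOf_eq_prime hb hb1)).symm
      have hle : ∀ g : G, orderOf g ≤ 4 := by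
        intro g
        obtain ⟨i, hi⟩ := IsPGroup.iff_orderOf.1 hG2 g
        rw [hi]
        by_contra hlt
        obtain ⟨y, hy⟩ := hpow g 8 (by
          rw [hi, show (8 : ℕ) = 2 ^ 3 from rfl]
          refine pow_dvd_pow 2 ?_
          by_contra h4
          have := Nat.pow_le_pow_right two_pos (show i ≤ 2 by omega)
          omega)
        exact h8 y hy
      rcases CfsgLib.TwoGroupsQ.isCyclic_or_quaternion hG2 hq with hc | ⟨-, m, hm, ⟨e⟩⟩
      · refine Or.inr (Or.inr (Or.inl ⟨hc, ?_⟩))
        obtain ⟨g, hg⟩ := hc.exists_generator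
        have h4 : Nat.card G ≤ 4 := by
          rw [← Nat.card_congr (Subgroup.topEquiv (G := G)).toEquiv,
            ← (Subgroup.eq_top_iff' _).2 hg, Nat.card_zpowers]
          exact hle g
        have h5 : 3 ≤ Nat.card G := le_trans h3 (Nat.le_of_dvd Nat.card_pos (orderOf_dvd_natCard g₀))
        rcases Nat.lt_or_ge (Nat.card G) 4 with h6 | h6
        · exfalso
          have := hT 3 Nat.prime_three (by rw [show Nat.card G = 3 by omega])
          omega
        · omega
      · haveI : NeZero (2 ^ m) := ⟨by positivity⟩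
        have h4 := hle (e.symm (QuaternionGroup.a 1))
        rw [MulEquiv.orderOf_eq, QuaternionGroup.orderOf_a_one] at h4
        obtain rfl : m = 1 := by
          by_contra hm1
          have := Nat.pow_le_pow_right two_pos (show 2 ≤ m by omega)
          omega
        exact Or.inr (Or.inl ⟨e⟩)
    · -- an odd prime divides the order
      push_neg at hT
      obtain ⟨p, hp, hpd, hp2⟩ := hT
      set T := (S.erase 1).erase 2 with hTdef
      set s := (Nat.card G).primeFactors.erase 2 with hs
      have hsm : ∀ q, q ∈ s ↔ q.Prime ∧ q ∣ Nat.card G ∧ q ≠ 2 := by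
        intro q
        simp only [hs, Finset.mem_erase, Nat.mem_primeFactors]
        exact ⟨fun h => ⟨h.2.1, h.2.2.1, h.1⟩, fun h => ⟨h.2.2, h.1, h.2.1, Nat.card_pos.ne'⟩⟩
      set R := ∏ q ∈ s, q with hR
      have hS2 : 2 ∈ S.erase 1 :=
        Finset.mem_erase.2 ⟨by norm_num, Finset.mem_image.2 ⟨z, Finset.mem_univ _, hzo⟩⟩
      have hTm : ∀ m ∈ T, N m = n := by
        intro m hm
        simp only [hTdef, hS, Finset.mem_erase, Finset.mem_image] at hm
        obtain ⟨hm2, hm1, g, -, rfl⟩ := hm
        exact (heven g (by have := orderOf_pos g; omega)).1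
      have hG : Nat.card G = 2 + T.card * n := by
        rw [hcard, ← Finset.add_sum_erase _ _ hS1, ← Finset.add_sum_erase _ _ hS2,
          Finset.sum_const_nat hTm, hN1, hz, ← add_assoc]
      have hsub : S ⊆ (4 * R).divisors := by
        intro m hm
        obtain ⟨g, -, rfl⟩ := Finset.mem_image.1 hm
        refine Nat.mem_divisors.2 ⟨?_, Nat.mul_ne_zero (by norm_num)
          (Finset.prod_pos fun q hq => ((hsm q).1 hq).1.pos).ne'⟩
        rw [Nat.dvd_iff_prime_pow_dvd_dvd]
        intro q k hq hk
        rcases eq_or_ne q 2 with rfl | hq2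
        · refine Dvd.dvd.mul_right ?_ _
          rw [show (4 : ℕ) = 2 ^ 2 from rfl]
          refine pow_dvd_pow 2 ?_
          by_contra hk2
          obtain ⟨y, hy⟩ := hpow g 8 ((pow_dvd_pow 2 (show 3 ≤ k by omega)).trans hk)
          exact h8 y hy
        · rcases Nat.lt_or_ge k 2 with hk2 | hk2
          · interval_cases k
            · exact one_dvd _
            · rw [pow_one] at hk ⊢
              exact Dvd.dvd.mul_left (Finset.dvd_prod_of_mem _
                ((hsm q).2 ⟨hq, hk.trans (orderOf_dvd_natCard g), hq2⟩)) _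
          · obtain ⟨y, hy⟩ := hpow g (q ^ 2) ((pow_dvd_pow q hk2).trans hk)
            exact absurd hy (hsq q hq hq2 y)
      obtain ⟨⟨x, hx⟩, -, -⟩ := hodd p hp hp2 hpd
      have hzc : ∀ g : G, Commute z g := by
        intro g
        have h4 : g * z * g⁻¹ = z := huni _ (by rw [← hzo]; exact MulEquiv.orderOf_eq (MulAut.conj g) z)
        exact (mul_inv_eq_iff_eq_mul.1 h4).symm
      have hcop : Nat.Coprime 2 p := (Nat.coprime_primes Nat.prime_two hp).2 (Ne.symm hp2)
      have hzx : orderOf (z * x) = 2 * p := by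
        rw [(hzc x).orderOf_mul_eq_mul_orderOf_of_coprime (by rw [hzo, hx]; exact hcop), hzo, hx]
      have hp3 : 3 ≤ p := by have := hp.two_le; omega
      have hpT : p ∈ T := by
        simp only [hTdef, hS, Finset.mem_erase, Finset.mem_image]
        exact ⟨hp2, hp.one_lt.ne', x, Finset.mem_univ _, hx⟩
      have h2pT : 2 * p ∈ T := by
        simp only [hTdef, hS, Finset.mem_erase, Finset.mem_image]
        exact ⟨by omega, by omega, z * x, Finset.mem_univ _, hzx⟩
      have hk2 : 2 ≤ T.card := by
        rw [← Finset.card_pair (show p ≠ 2 * p by omega)]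
        exact Finset.card_le_card (Finset.insert_subset hpT (Finset.singleton_subset_iff.2 h2pT))
      have hdvd : R ∣ T.card - 2 := by
        refine Finset.prod_primes_dvd _ (fun q hq => ((hsm q).1 hq).1.prime) fun q hq => ?_
        obtain ⟨hq1, hqd, hq2⟩ := (hsm q).1 hq
        have h4 := dvd_mul_of_dvd_right (hodd q hq1 hq2 hqd).2.2 T.card
        have h5 : T.card * (1 + n) = (2 + T.card * n) + (T.card - 2) := by
          rw [mul_add, mul_one]; omega
        rw [h5] at h4
        exact (Nat.dvd_add_right (hG ▸ hqd)).1 h4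
      have hTk : T.card = 2 := by
        have h4 : S.card = T.card + 2 := by
          rw [hTdef]
          rw [← Finset.card_erase_add_one hS1, ← Finset.card_erase_add_one hS2]
        have h5 := Finset.card_le_card hsub
        have h6 : (4 * R).divisors.card ≤ 3 * R.divisors.card := by
          rw [Nat.divisors_mul]
          refine Finset.card_mul_le.trans ?_
          rw [show Nat.divisors 4 = {1, 2, 4} by decide]
          rfl
        have h7 := three_mul_card_divisors_le (s := s) ⟨p, (hsm p).2 ⟨hp, hpd, hp2⟩⟩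
          fun q hq => ⟨((hsm q).1 hq).1, ((hsm q).1 hq).2.2⟩
        rw [← hR] at h7
        by_contra hne
        have := Nat.le_of_dvd (by omega) hdvd
        omega
      have hTeq : ∀ m ∈ T, m = p ∨ m = 2 * p := by
        intro m hm
        by_contra hne
        push_neg at hne
        have h4 : ({m, p, 2 * p} : Finset ℕ).card = 3 :=
          Finset.card_eq_three.2 ⟨m, p, 2 * p, hne.1, hne.2, by omega, rfl⟩
        have h5 := Finset.card_le_card (Finset.insert_subset hm
          (Finset.insert_subset hpT (Finset.singleton_subset_iff.2 h2pT)))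
        omega
      have hord : ∀ g : G, orderOf g = 1 ∨ orderOf g = 2 ∨ orderOf g = p ∨ orderOf g = 2 * p := by
        intro g
        by_cases h1 : orderOf g = 1
        · exact Or.inl h1
        by_cases h2 : orderOf g = 2
        · exact Or.inr (Or.inl h2)
        refine Or.inr (Or.inr (hTeq _ ?_))
        simp only [hTdef, hS, Finset.mem_erase, Finset.mem_image]
        exact ⟨h2, h1, g, Finset.mem_univ _, rfl⟩
      haveI := Fact.mk hp
      haveI := Fact.mk Nat.prime_two
      obtain ⟨P⟩ : Nonempty (Sylow p G) := inferInstance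
      have hPexp : ∀ g : ↥(P : Subgroup G), g ^ p = 1 := by
        intro g
        obtain ⟨i, hi⟩ := IsPGroup.iff_orderOf.1 P.isPGroup' g
        rw [← orderOf_dvd_iff_pow_eq_one]
        have h4 := hord (g : G)
        rw [Subgroup.orderOf_coe, hi] at h4
        rw [hi]
        have hnd : ¬ (2 : ℕ) ∣ p ^ i := fun h5 =>
          hp2 ((Nat.prime_dvd_prime_iff_eq Nat.prime_two hp).1 (Nat.prime_two.dvd_of_dvd_pow h5)).symm
        rcases h4 with h4 | h4 | h4 | h4
        · rw [h4]; exact one_dvd _
        · exact absurd (dvd_of_eq h4.symm) hnd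
        · rw [h4]
        · exact absurd ⟨p, h4⟩ hnd
      have hprimes : ∀ q : ℕ, q.Prime → q ∣ Nat.card G → q = 2 ∨ q = p := by
        intro q hq hqd
        haveI := Fact.mk hq
        obtain ⟨y, hy⟩ := exists_prime_orderOf_dvd_card' (G := G) q hqd
        have h4 := hord y
        rw [hy] at h4
        rcases h4 with h4 | h4 | h4 | h4
        · exact absurd h4 hq.one_lt.ne'
        · exact Or.inl h4
        · exact Or.inr h4
        · exact absurd h4 fun h5 => Nat.not_prime_mul (by norm_num) hp.one_lt.ne' (h5 ▸ hq)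
      obtain ⟨Q⟩ : Nonempty (Sylow 2 G) := inferInstance
      have hQ : Nat.card ↥(Q : Subgroup G) ≤ 2 := by
        have hmem : ∀ g : G, g ∈ (Q : Subgroup G) → g ∈ ({1, z} : Finset G) := by
          intro g hg
          obtain ⟨i, hi⟩ := IsPGroup.iff_orderOf.1 Q.isPGroup' ⟨g, hg⟩
          rw [← Subgroup.orderOf_coe] at hi
          have hnp : ¬ p ∣ 2 ^ i := fun h5 =>
            hp2 ((Nat.prime_dvd_prime_iff_eq hp Nat.prime_two).1 (hp.dvd_of_dvd_pow h5))
          rcases hord g with h4 | h4 | h4 | h4
          · exact Finset.mem_insert.2 (Or.inl (orderOf_eq_one_iff.1 h4))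
          · exact Finset.mem_insert_of_mem (Finset.mem_singleton.2 (huni g h4))
          · exact absurd (dvd_of_eq (h4.symm.trans hi)) hnp
          · exact absurd (Dvd.intro_left 2 (h4.symm.trans hi)) hnp
        rw [Nat.card_eq_fintype_card]
        refine le_trans ?_ (Finset.card_le_two (a := (1 : G)) (b := z))
        rw [Fintype.card_subtype]
        exact Finset.card_le_card fun g hg => hmem g (Finset.mem_filter.1 hg).2
      have hGc : Nat.card G = 2 * Nat.card ↥(P : Subgroup G) := by
        have h4 : ∀ q : ℕ, q.Prime → q ∣ Nat.card G → q = 2 ∨ q = p := hprimes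
        have h5 : (Nat.card G).primeFactors = {2, p} := by
          ext q
          simp only [Nat.mem_primeFactors, Finset.mem_insert, Finset.mem_singleton]
          refine ⟨fun h => h4 q h.1 h.2.1, ?_⟩
          rintro (rfl | rfl)
          exacts [⟨Nat.prime_two, h2G, Nat.card_pos.ne'⟩, ⟨hp, hpd, Nat.card_pos.ne'⟩]
        have h6 := Nat.prod_factorization_pow_eq_self (n := Nat.card G) Nat.card_pos.ne'
        rw [Finsupp.prod, Nat.support_factorization, h5, Finset.prod_pair (Ne.symm hp2),
          ← Sylow.card_eq_multiplicity P, ← Sylow.card_eq_multiplicity Q] at h6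
        rw [← h6]
        congr 1
        refine le_antisymm hQ ?_
        refine Nat.le_of_dvd Nat.card_pos ?_
        rw [Sylow.card_eq_multiplicity Q]
        exact dvd_pow_self 2 (Finsupp.mem_support_iff.1 (by rw [Nat.support_factorization, h5]; simp))
      have hind : (P : Subgroup G).index = 2 := by
        have h4 := Subgroup.card_mul_index (P : Subgroup G)
        rw [hGc, mul_comm 2] at h4
        exact Nat.eq_of_mul_eq_mul_left Nat.card_pos h4
      have hzP : z ∉ (P : Subgroup G) := by
        intro hzP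
        have h4 := hPexp ⟨z, hzP⟩
        have h5 : z ^ p = 1 := congrArg Subtype.val h4
        rw [← orderOf_dvd_iff_pow_eq_one, hzo] at h5
        exact hp2 ((Nat.prime_dvd_prime_iff_eq Nat.prime_two hp).1 h5).symm
      let f : ↥(Subgroup.zpowers z) × ↥(P : Subgroup G) →* G :=
        MonoidHom.noncommCoprod (Subgroup.zpowers z).subtype (P : Subgroup G).subtype fun a b => by
          obtain ⟨i, hi⟩ := Subgroup.mem_zpowers_iff.1 a.2
          show Commute (a : G) (b : G)
          rw [← hi]
          exact (hzc b).zpow_left i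
      have hfb : Function.Bijective f := by
        refine (Nat.bijective_iff_surjective_and_card f).2 ⟨fun g => ?_, ?_⟩
        · by_cases hg : g ∈ (P : Subgroup G)
          · exact ⟨(1, ⟨g, hg⟩), by simp [f]⟩
          · refine ⟨(⟨z, Subgroup.mem_zpowers z⟩, ⟨z⁻¹ * g, ?_⟩), by simp [f]⟩
            rw [Subgroup.mul_mem_iff_of_index_two hind, Subgroup.inv_mem_iff]
            exact iff_of_false hzP hg
        · rw [Nat.card_prod, Nat.card_zpowers, hzo, hGc]
      let e₁ := (MulEquiv.ofBijective f hfb).symm
      let e₂ : Shrink.{0} ↥(P : Subgroup G) ≃* ↥(P : Subgroup G) := Shrink.mulEquiv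
      let e₃ : Multiplicative (ZMod 2) ≃* ↥(Subgroup.zpowers z) :=
        mulEquivOfPrimeCardEq (p := 2) (by simp) (by rw [Nat.card_zpowers, hzo])
      refine Or.inr (Or.inr (Or.inr ⟨p, Shrink.{0} ↥(P : Subgroup G), inferInstance, Finite.of_equiv _ e₂.symm.toEquiv,
        hp, hp2, P.isPGroup'.of_equiv e₂.symm, ?_, ⟨e₁.trans (MulEquiv.prodCongr e₃.symm e₂.symm)⟩⟩))
      rw [Monoid.exponent_eq_of_mulEquiv e₂]
      rcases (Nat.dvd_prime hp).1 (Monoid.exponent_dvd_of_forall_pow_eq_one hPexp) with h4 | h4
      · exfalso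
        have h5 := Monoid.exp_eq_one_iff.1 h4
        have h6 : Nat.card ↥(P : Subgroup G) = 1 := Nat.card_unique
        rw [h6] at hGc
        rw [hGc] at hpd
        exact hp2 ((Nat.prime_dvd_prime_iff_eq hp Nat.prime_two).1 hpd)
      · exact h4
  · -- no unique involution
    by_cases h2 : 2 ∣ Nat.card G
    · haveI := Fact.mk Nat.prime_two
      obtain ⟨z, hzo⟩ := exists_prime_orderOf_dvd_card' (G := G) 2 h2
      have hzn : N 2 = n := by
        rcases hval z with h4 | h4 <;> rw [hzo] at h4
        exacts [absurd h4 hz, h4]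
      have hnodd : 2 ∣ 1 + n := hzn ▸ prime_dvd_succ_count Nat.prime_two h2
      have hall : ∀ g : G, g ^ 2 = 1 := by
        intro g
        rw [← orderOf_dvd_iff_pow_eq_one]
        have := orderOf_pos g
        rcases Nat.lt_or_ge (orderOf g) 3 with h4 | h4
        · interval_cases orderOf g <;> norm_num
        · have := (heven g h4).2
          omega
      have h4 : IsPGroup 2 G := fun g => ⟨1, by rw [pow_one]; exact hall g⟩
      refine Or.inl ⟨2, Nat.prime_two, h4, ?_, ?_⟩
      · have hS2 : 2 ∈ S.erase 1 :=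
          Finset.mem_erase.2 ⟨by norm_num, Finset.mem_image.2 ⟨z, Finset.mem_univ _, hzo⟩⟩
        rw [hcard, ← Finset.add_sum_erase _ _ hS1, ← Finset.add_sum_erase _ _ hS2, hN1, hzn]
        omega
      · rcases (Nat.dvd_prime Nat.prime_two).1 (Monoid.exponent_dvd_of_forall_pow_eq_one hall) with h5 | h5
        · exfalso
          have h6 := Monoid.exp_eq_one_iff.1 h5
          rw [Subsingleton.elim z 1, orderOf_one] at hzo
          omega
        · exact h5
    · set T := S.erase 1 with hTdef
      set R := ∏ q ∈ (Nat.card G).primeFactors, q with hR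
      have hne2 : ∀ q : ℕ, q ∣ Nat.card G → q ≠ 2 := fun q hq hq2 => h2 (hq2 ▸ hq)
      have hsub : S ⊆ R.divisors := by
        intro m hm
        obtain ⟨g, -, rfl⟩ := Finset.mem_image.1 hm
        refine Nat.mem_divisors.2
          ⟨?_, (Finset.prod_pos fun q hq => (Nat.prime_of_mem_primeFactors hq).pos).ne'⟩
        rw [Nat.dvd_iff_prime_pow_dvd_dvd]
        intro q k hq hk
        rcases Nat.lt_or_ge k 2 with hk2 | hk2
        · interval_cases k
          · exact one_dvd _
          · rw [pow_one] at hk ⊢
            exact Finset.dvd_prod_of_mem _ (Nat.mem_primeFactors.2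
              ⟨hq, hk.trans (orderOf_dvd_natCard g), Nat.card_pos.ne'⟩)
        · obtain ⟨y, hy⟩ := hpow g (q ^ 2) ((pow_dvd_pow q hk2).trans hk)
          refine absurd hy (hsq q hq (hne2 q ?_) y)
          exact (dvd_pow_self q two_ne_zero).trans (hy ▸ orderOf_dvd_natCard y)
      have hTm : ∀ m ∈ T, N m = n := by
        intro m hm
        simp only [hTdef, hS, Finset.mem_erase, Finset.mem_image] at hm
        obtain ⟨hm1, g, -, rfl⟩ := hm
        refine (heven g ?_).1
        have h4 := hne2 _ (orderOf_dvd_natCard g)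
        have := orderOf_pos g
        omega
      have hG : Nat.card G = 1 + T.card * n := by
        rw [hcard, ← Finset.add_sum_erase _ _ hS1, Finset.sum_const_nat hTm, hN1]
      have hg₀1 : orderOf g₀ ∈ T := by
        simp only [hTdef, hS, Finset.mem_erase, Finset.mem_image]
        exact ⟨fun h4 => hn (by rw [← hg₀, h4, hN1]), g₀, Finset.mem_univ _, rfl⟩
      have hk1 : 1 ≤ T.card := Finset.card_pos.2 ⟨_, hg₀1⟩
      have hdvd : R ∣ T.card - 1 := by
        refine Finset.prod_primes_dvd _ (fun q hq => (Nat.prime_of_mem_primeFactors hq).prime) fun q hq => ?_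
        obtain ⟨hq1, hqd, -⟩ := Nat.mem_primeFactors.1 hq
        have h4 := dvd_mul_of_dvd_right (hodd q hq1 (hne2 q hqd) hqd).2.2 T.card
        have h5 : T.card * (1 + n) = (1 + T.card * n) + (T.card - 1) := by
          rw [mul_add, mul_one]; omega
        rw [h5] at h4
        exact (Nat.dvd_add_right (hG ▸ hqd)).1 h4
      have hTk : T.card = 1 := by
        have h4 := Finset.card_le_card hsub
        rw [← Finset.card_erase_add_one hS1, ← hTdef] at h4
        have h5 := Nat.card_divisors_le_self R
        by_contra hne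
        have := Nat.le_of_dvd (by omega) hdvd
        omega
      obtain ⟨m, hm⟩ := Finset.card_eq_one.1 hTk
      have hG1 : Nat.card G ≠ 1 := by
        have h5 : 1 ≤ T.card * n := Nat.mul_pos (by omega) (Nat.pos_of_ne_zero hn0)
        omega
      obtain ⟨p, hp, hpd⟩ := Nat.exists_prime_and_dvd hG1
      obtain ⟨⟨x, hx⟩, -, -⟩ := hodd p hp (hne2 p hpd) hpd
      have hmp : m = p := by
        have h4 : p ∈ T := by
          simp only [hTdef, hS, Finset.mem_erase, Finset.mem_image]
          exact ⟨hp.one_lt.ne', x, Finset.mem_univ _, hx⟩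
        rw [hm, Finset.mem_singleton] at h4
        exact h4.symm
      subst hmp
      have hall : ∀ g : G, g ^ m = 1 := by
        intro g
        rw [← orderOf_dvd_iff_pow_eq_one]
        by_cases hg : orderOf g = 1
        · rw [hg]; exact one_dvd _
        · have h4 : orderOf g ∈ T := by
            simp only [hTdef, hS, Finset.mem_erase, Finset.mem_image]
            exact ⟨hg, g, Finset.mem_univ _, rfl⟩
          rw [hm, Finset.mem_singleton] at h4
          rw [h4]
      refine Or.inl ⟨m, hp, fun g => ⟨1, by rw [pow_one]; exact hall g⟩, ?_, ?_⟩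
      · have h4 := Nat.le_of_dvd Nat.card_pos hpd
        have := hp.two_le
        have := hne2 m hpd
        omega
      · rcases (Nat.dvd_prime hp).1 (Monoid.exponent_dvd_of_forall_pow_eq_one hall) with h5 | h5
        · exfalso
          have h6 := Monoid.exp_eq_one_iff.1 h5
          rw [Subsingleton.elim x 1, orderOf_one] at hx
          exact hp.one_lt.ne hx
        · exact h5

end Cfsg.Agent.S3995
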