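import Mathlib
import Cfsg.Statements.S3997
import Cfsg.Agent.FgsSix.OrderType

set_option autoImplicit false
open Cfsg

namespace Cfsg.Agent.S3997

/-- Let G and H be finite groups with the same order type: for every m they have the same number of elements of order m. If G is nilpotent then so is H. -/
theorem result {G H : Type*} [Group G] [Finite G] [Group H] [Finite H] (hT : (∀ m : ℕ, Nat.card {g : G // orderOf g = m} = Nat.card {h : H // orderOf h = m})) (hG : Group.IsNilpotent G) :
    Group.IsNilpotent H := by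
  obtain ⟨e, he⟩ := CfsgLib.FgsSix.exists_orderOf_equiv hT
  have hGs : ∀ (p : ℕ) (_hp : Fact p.Prime) (P : Sylow p G), (P : Subgroup G).Normal :=
    ((Group.isNilpotent_of_finite_tfae (G := G)).out 0 3).1 hG
  refine ((Group.isNilpotent_of_finite_tfae (G := H)).out 0 3).2 (?_ : ∀ (p : ℕ) (_hp : Fact p.Prime) (Q : Sylow p H), (Q : Subgroup H).Normal)
  intro p hp Q
  haveI := hp
  obtain ⟨P⟩ : Nonempty (Sylow p G) := inferInstance
  have hP : (P : Subgroup G).Normal :=
    hGs p hp P
  haveI := hP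
  -- all elements of `p`-power order lie in `Q`
  have hsub : ∀ h : H, (∃ k, orderOf h = p ^ k) → h ∈ (Q : Subgroup H) := by
    have hmem : ∀ g : G, (∃ k, orderOf g = p ^ k) → g ∈ (P : Subgroup G) := by
      rintro g ⟨k, hk⟩
      have h1 : IsPGroup p ↥(Subgroup.zpowers g) := IsPGroup.of_card (by rw [Nat.card_zpowers, hk])
      have h2 := h1.to_sup_of_normal_right P.isPGroup'
      exact (le_sup_left.trans (P.is_maximal' h2 le_sup_right).le) (Subgroup.mem_zpowers g)
    let j : ↥(Q : Subgroup H) → ↥(P : Subgroup G) := fun h => ⟨e.symm h.1, hmem _ (by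
      obtain ⟨k, hk⟩ := IsPGroup.iff_orderOf.1 Q.isPGroup' h
      rw [← Subgroup.orderOf_coe] at hk
      exact ⟨k, by rw [← he, Equiv.apply_symm_apply, hk]⟩)⟩
    have hj : Function.Injective j := fun a b hab =>
      Subtype.ext (e.symm.injective (congrArg Subtype.val hab))
    have hcard : Nat.card ↥(Q : Subgroup H) = Nat.card ↥(P : Subgroup G) := by
      rw [Q.card_eq_multiplicity, P.card_eq_multiplicity, Nat.card_congr e]
    have hbij := (Nat.bijective_iff_injective_and_card j).2 ⟨hj, hcard⟩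
    rintro h ⟨k, hk⟩
    obtain ⟨q, hq⟩ := hbij.2 ⟨e.symm h, hmem _ ⟨k, by rw [← he, Equiv.apply_symm_apply, hk]⟩⟩
    have : (q : H) = h := e.symm.injective (congrArg Subtype.val hq)
    exact this ▸ q.2
  refine ⟨fun x hx g => hsub _ ?_⟩
  obtain ⟨k, hk⟩ := IsPGroup.iff_orderOf.1 Q.isPGroup' ⟨x, hx⟩
  rw [Subgroup.orderOf_mk] at hk
  exact ⟨k, by rw [← MulAut.conj_apply, MulEquiv.orderOf_eq, hk]⟩

end Cfsg.Agent.S3997
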