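import Mathlib
import Cfsg.Statements.S3998
import Cfsg.Agent.FgsSix.OrderType
import Cfsg.Agent.FgsSix.UpperHall

set_option autoImplicit false
universe u
open Cfsg

namespace Cfsg.Agent.S3998

theorem hasUpperHalls_of_supersolvable : ∀ {G : Type u} [Group G] [Finite G],
    Cfsg.IsSupersolvable G → CfsgLib.FgsSix.HasUpperHalls G := by
  intro G _ _ hG
  induction hn : Nat.card G using Nat.strong_induction_on generalizing G with
  | _ n ih =>
    obtain ⟨m, F, h0, hlast, hnor, hstep⟩ := hG
    by_cases h1 : Subsingleton G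
    · intro k
      refine ⟨⊤, inferInstance, ?_, ?_⟩
      · intro q hq hd
        rw [Subgroup.card_top, Nat.card_unique] at hd
        exact absurd (Nat.dvd_one.1 hd) hq.ne_one
      · intro q hq hd
        rw [Subgroup.index_top] at hd
        exact absurd (Nat.dvd_one.1 hd) hq.ne_one
    -- a normal subgroup of prime order
    obtain ⟨i, g, hg, hg1, hgn⟩ : ∃ (i : Fin m) (g : G), F i.succ = Subgroup.zpowers g ∧ g ≠ 1 ∧
        (Subgroup.zpowers g).Normal := by
      by_contra hcon
      push_neg at hcon
      have hall : ∀ i : Fin (m + 1), F i = ⊥ := by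
        intro i
        induction i using Fin.induction with
        | zero => exact h0
        | succ j hj =>
          obtain ⟨g, hg⟩ := hstep j
          rw [hj, bot_sup_eq] at hg
          by_contra hne
          refine hcon j g hg (fun h => hne ?_) (hg ▸ hnor j.succ)
          rw [hg, h, Subgroup.zpowers_one_eq_bot]
      rw [hall] at hlast
      apply h1
      exact Subgroup.subsingleton_iff.1 (subsingleton_of_bot_eq_top hlast)
    obtain ⟨l, hl, hld⟩ := Nat.exists_prime_and_dvd (n := orderOf g) (mt orderOf_eq_one_iff.1 hg1)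
    set z := g ^ (orderOf g / l) with hz
    have hzo : orderOf z = l := orderOf_pow_orderOf_div (orderOf_pos g).ne' hld
    haveI hLn : (Subgroup.zpowers z).Normal := by
      refine ⟨fun x hx c => ?_⟩
      obtain ⟨j, rfl⟩ := Subgroup.mem_zpowers_iff.1 hx
      obtain ⟨i, hi⟩ := Subgroup.mem_zpowers_iff.1 (hgn.conj_mem g (Subgroup.mem_zpowers g) c)
      refine ⟨i * j, ?_⟩
      change z ^ (i * j) = c * z ^ j * c⁻¹
      rw [← conj_zpow, hz, ← conj_pow, ← hi]
      simp only [← zpow_natCast, ← zpow_mul]
      ring_nf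
    have hL : Nat.card ↥(Subgroup.zpowers z) = l := by rw [Nat.card_zpowers, hzo]
    refine CfsgLib.FgsSix.hasUpperHalls_of_prime_normal (Subgroup.zpowers z) (hL.symm ▸ hl) ?_
    refine ih _ ?_ ⟨m, fun i => (F i).map (QuotientGroup.mk' _), ?_, ?_, ?_, ?_⟩ rfl
    · rw [← hn, Subgroup.card_eq_card_quotient_mul_card_subgroup (Subgroup.zpowers z), hL]
      exact lt_mul_of_one_lt_right Nat.card_pos hl.one_lt
    · simp [h0]
    · simp only [hlast]
      exact Subgroup.map_top_of_surjective _ (QuotientGroup.mk'_surjective _)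
    · exact fun i => (hnor i).map _ (QuotientGroup.mk'_surjective _)
    · intro i
      obtain ⟨g, hg⟩ := hstep i
      exact ⟨QuotientGroup.mk' _ g, by simp only [hg, Subgroup.map_sup, MonoidHom.map_zpowers]⟩


/-- Let G and H be finite groups with the same order type (for every m the same number of elements of order m). If G is supersolvable then H is solvable. -/
theorem result {G H : Type*} [Group G] [Finite G] [Group H] [Finite H] (hT : (∀ m : ℕ, Nat.card {g : G // orderOf g = m} = Nat.card {h : H // orderOf h = m})) (hG : Cfsg.IsSupersolvable G) :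
    Group.IsSolvable H := by
  obtain ⟨e, he⟩ := CfsgLib.FgsSix.exists_orderOf_equiv hT
  refine CfsgLib.FgsSix.isSolvable_of_hasUpperCounts _ H rfl ?_
  intro k
  obtain ⟨d, hd, hlt, hge⟩ := (hasUpperHalls_of_supersolvable hG).hasUpperCounts k
  have hc : Nat.card {g : G // CfsgLib.FgsSix.AllPrimesGe k (orderOf g)} =
      Nat.card {g : H // CfsgLib.FgsSix.AllPrimesGe k (orderOf g)} :=
    Nat.card_congr (e.subtypeEquiv fun g => by rw [he])
  exact ⟨d, by rw [← hc, hd, Nat.card_congr e], hlt, hc ▸ hge⟩

end Cfsg.Agent.S3998
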