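import Mathlib
import Cfsg.Statements.S3999
import Cfsg.Agent.S0042
import Cfsg.Agent.FgsSix.FrobeniusType
-- import your own Cfsg.Agent.* helpers here

set_option autoImplicit false
open Cfsg

namespace Cfsg.Agent.S3999

/-- Let F be a finite Frobenius group (it has a Frobenius complement) and G a finite group with the same order type as F (for every m the same number of elements of order m). Then G is a Frobenius group; moreover G is solvable if and only if F is. -/
theorem result {F G : Type*} [Group F] [Finite F] [Group G] [Finite G] (hF : (∃ C : Subgroup F, Cfsg.IsFrobeniusComplement C)) (hT : (∀ m : ℕ, Nat.card {g : F // orderOf g = m} = Nat.card {h : G // orderOf h = m})) :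
    (∃ C : Subgroup G, Cfsg.IsFrobeniusComplement C) ∧ (Group.IsSolvable G ↔ Group.IsSolvable F) := by
  obtain ⟨C, hC⟩ := hF
  obtain ⟨N, hN, hc, hker⟩ := CfsgLib.FrobComp.exists_kernel hC
  haveI := hN
  have hnil : Group.IsNilpotent ↥N := by
    obtain ⟨N', hN', -, hnil'⟩ := Cfsg.Agent.S0042.result C hC
    obtain rfl : N = N' := SetLike.coe_injective (hker.trans hN'.symm)
    exact hnil'
  obtain ⟨e, he⟩ := CfsgLib.FgsSix.exists_orderOf_equiv (fun m => (hT m).symm)
  obtain ⟨M, C', hMn, hMnil, hC', hc', hcount⟩ :=
    CfsgLib.FgsSix.exists_frobenius_of_same_type hC hc hnil e he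
  haveI := hMn
  haveI := hnil
  haveI := hMnil
  haveI : Group.IsSolvable ↥N := inferInstance
  haveI : Group.IsSolvable ↥M := inferInstance
  refine ⟨⟨C', hC'⟩, fun hG => ?_, fun hFs => ?_⟩
  · haveI := hG
    haveI : Group.IsSolvable ↥C' := inferInstance
    haveI : Group.IsSolvable ↥C :=
      CfsgLib.FgsSix.isSolvable_complement_of_same_type hC' hc' (fun o => (hcount o).symm)
    let q := (Subgroup.IsComplement'.QuotientMulEquiv hc.symm).symm
    haveI : Group.IsSolvable (F ⧸ N) := Group.isSolvable_of_surjective (f := q.toMonoidHom) q.surjective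
    exact Group.isSolvable_of_ker_le_range N.subtype (QuotientGroup.mk' N)
      (by rw [QuotientGroup.ker_mk', Subgroup.range_subtype])
  · haveI := hFs
    haveI : Group.IsSolvable ↥C := inferInstance
    haveI : Group.IsSolvable ↥C' :=
      CfsgLib.FgsSix.isSolvable_complement_of_same_type hC hc hcount
    let q := (Subgroup.IsComplement'.QuotientMulEquiv hc'.symm).symm
    haveI : Group.IsSolvable (G ⧸ M) := Group.isSolvable_of_surjective (f := q.toMonoidHom) q.surjective
    exact Group.isSolvable_of_ker_le_range M.subtype (QuotientGroup.mk' M)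
      (by rw [QuotientGroup.ker_mk', Subgroup.range_subtype])

end Cfsg.Agent.S3999
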