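import Mathlib
import Cfsg.Statements.S4002
import Cfsg.Agent.PrimeGraph.Lucido

set_option autoImplicit false
open Cfsg

namespace Cfsg.Agent.S4002

/-- If the set of element orders of a finite group G is {1, 2, …, n} with n ≥ 7, then G is not solvable. -/
theorem result {G : Type*} [Group G] [Finite G] (n : ℕ) (hn : 7 ≤ n) (h : Set.range (orderOf : G → ℕ) = {k : ℕ | 1 ≤ k ∧ k ≤ n}) : ¬ Group.IsSolvable G := by
  intro hs
  have hmem : ∀ q : ℕ, q.Prime → q ≤ n → q ∣ Nat.card G := by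
    intro q hq hqn
    obtain ⟨g, hg⟩ : q ∈ Set.range (orderOf : G → ℕ) := h ▸ ⟨hq.one_le, hqn⟩
    exact hg ▸ orderOf_dvd_natCard g
  have hno : ∀ g : G, orderOf g ≤ n := fun g =>
    (h ▸ (⟨g, rfl⟩ : orderOf g ∈ Set.range (orderOf : G → ℕ)) : orderOf g ∈ {k : ℕ | 1 ≤ k ∧ k ≤ n}).2
  obtain ⟨p, q, r, hp, hq, hr, hpq, hqr, hrn, hbig⟩ : ∃ p q r : ℕ, p.Prime ∧ q.Prime ∧ r.Prime ∧
      p < q ∧ q < r ∧ r ≤ n ∧ n < p * q := by
    rcases Nat.lt_or_ge n 15 with h15 | h15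
    · exact ⟨3, 5, 7, by norm_num, by norm_num, by norm_num, by norm_num, by norm_num, hn, by omega⟩
    rcases Nat.lt_or_ge n 35 with h35 | h35
    · exact ⟨5, 7, 11, by norm_num, by norm_num, by norm_num, by norm_num, by norm_num, by omega,
        by omega⟩
    obtain ⟨r, hr, hr1, hr2⟩ := Nat.exists_prime_lt_and_le_two_mul (n / 2) (by omega)
    obtain ⟨q, hq, hq1, hq2⟩ := Nat.exists_prime_lt_and_le_two_mul (n / 4) (by omega)
    obtain ⟨p, hp, hp1, hp2⟩ := Nat.exists_prime_lt_and_le_two_mul (n / 8) (by omega)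
    refine ⟨p, q, r, hp, hq, hr, by omega, by omega, by omega, ?_⟩
    have h1 : (n / 8 + 1) * (n / 4 + 1) ≤ p * q := Nat.mul_le_mul hp1 hq1
    have h2 : n + 1 ≤ (n / 8 + 1) * (n / 4 + 1) := by
      have : 9 * (n / 8 + 1) ≤ (n / 4 + 1) * (n / 8 + 1) := Nat.mul_le_mul_right _ (by omega)
      rw [mul_comm (n / 4 + 1)] at this
      omega
    omega
  rcases CfsgLib.PrimeGraph.exists_edge_of_isSolvable hs hp hq hr hpq.ne (hpq.trans hqr).ne hqr.ne
    (hmem p hp (by omega)) (hmem q hq (by omega)) (hmem r hr hrn) with ⟨g, hg⟩ | ⟨g, hg⟩ | ⟨g, hg⟩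
  all_goals
    have h1 := hno g
    rw [hg] at h1
  · omega
  · have h2 : p * q ≤ p * r := Nat.mul_le_mul_left _ hqr.le
    omega
  · have h2 : p * q ≤ q * r := by
      rw [mul_comm q r]; exact Nat.mul_le_mul (hpq.trans hqr).le le_rfl
    omega

end Cfsg.Agent.S4002
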