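import Mathlib
import Cfsg.Statements.S4003
import Cfsg.Agent.FgsSix.OrderCount

set_option autoImplicit false
open Cfsg

namespace Cfsg.Agent.S4003

/-- Let G be a finite group, p an odd prime dividing the order of G whose Sylow p-subgroups are not cyclic, and n = p^s·m with s > 1 and m coprime to p. Then the number of elements of G of order n is a multiple of p^s. -/
theorem result {G : Type*} [Group G] [Finite G] (p : ℕ) [Fact p.Prime] (hodd : p ≠ 2) (hpG : p ∣ Nat.card G)
    (P : Sylow p G) (hP : ¬ IsCyclic ↥(P : Subgroup G)) (s m : ℕ) (hs : 1 < s) (hm : Nat.Coprime p m) :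
    p ^ s ∣ Nat.card {g : G // orderOf g = p ^ s * m} := by
  classical
  haveI := Fintype.ofFinite G
  have hab : Nat.Coprime m (p ^ s) := (Nat.Coprime.pow_left s hm).symm
  rw [mul_comm (p ^ s) m, CfsgLib.FgsSix.card_orderOf_mul_eq_sum hab]
  refine CfsgLib.FgsSix.dvd_sum_of_conj_invariant _ _ _ ?_ ?_ ?_
  · intro u hu g
    simp only [Finset.mem_filter, Finset.mem_univ, true_and] at hu ⊢
    rwa [← MulAut.conj_apply, MulEquiv.orderOf_eq]
  · intro u g
    refine Nat.card_congr ((MulAut.conj g).toEquiv.subtypeEquiv fun v => ?_).symm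
    simp only [MulEquiv.toEquiv_eq_coe, MulEquiv.coe_toEquiv, MulEquiv.orderOf_eq]
    refine and_congr_left fun _ => ?_
    exact (commute_map_iff (f := MulAut.conj g) (MulAut.conj g).injective).symm
  · intro u hu
    set C : Subgroup G := Subgroup.centralizer ({u} : Set G) with hC
    have hcount : Nat.card {v : G // Commute u v ∧ orderOf v = p ^ s} =
        Nat.card {v : ↥C // orderOf v = p ^ s} := by
      refine Nat.card_congr
        ⟨fun v => ⟨⟨v.1, Subgroup.mem_centralizer_singleton_iff.2 v.2.1.eq.symm⟩,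
            by rw [Subgroup.orderOf_mk]; exact v.2.2⟩,
          fun v => ⟨v.1.1, (Subgroup.mem_centralizer_singleton_iff.1 v.1.2).symm,
            by rw [Subgroup.orderOf_coe]; exact v.2⟩, fun v => rfl, fun v => rfl⟩
    rw [hcount]
    obtain ⟨Q⟩ : Nonempty (Sylow p ↥C) := inferInstance
    by_cases hQ : IsCyclic ↥(Q : Subgroup ↥C)
    · have hpi : p ∣ C.index := by
        by_contra hpi
        apply hP
        have hidx : ¬ p ∣ ((Q : Subgroup ↥C).map C.subtype).index := by
          rw [Subgroup.index_map_subtype]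
          exact (Fact.out : p.Prime).not_dvd_mul Q.not_dvd_index hpi
        haveI : IsCyclic ↥((Q : Subgroup ↥C).map C.subtype) :=
          ((Q : Subgroup ↥C).equivMapOfInjective C.subtype C.subtype_injective).isCyclic.1 hQ
        exact (Sylow.equiv P ((Q.isPGroup'.map C.subtype).toSylow hidx)).isCyclic.2
          (by rw [IsPGroup.toSylow_coe]; infer_instance)
      have h2 := CfsgLib.FgsSix.totient_dvd_card_orderOf_eq (G := ↥C) (p ^ s)
      obtain ⟨t, rfl⟩ : ∃ t, s = t + 1 := ⟨s - 1, by omega⟩
      rw [Nat.totient_prime_pow_succ Fact.out] at h2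
      rw [show p ^ (t + 1) = p * p ^ t from pow_succ' p t] at h2 ⊢
      exact Nat.mul_dvd_mul hpi (dvd_trans (dvd_mul_right _ _) h2)
    · exact dvd_mul_of_dvd_right (CfsgLib.FgsSix.pow_dvd_card_orderOf_of_sylow hodd Q hQ hs) _

end Cfsg.Agent.S4003
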