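import Mathlib
import Cfsg.Statements.S4004
import Cfsg.Agent.FgsSix.ThreeCounts
import Cfsg.Agent.Solvable.FixedPointFree
-- import your own Cfsg.Agent.* helpers here

set_option autoImplicit false
open Cfsg

namespace Cfsg.Agent.S4004

open CfsgLib.FgsSix.ThreeCounts
open scoped Pointwise

variable {G : Type*} [Group G] [Finite G]

/-- A group with elements of orders `1`, `p`, `q` only and a nontrivial abelian normal `p`-subgroup
is a Frobenius group with complement of order `q`. -/
theorem exists_complement {p q : ℕ} [hp : Fact p.Prime] [hq : Fact q.Prime] (hne : p ≠ q) (hpodd : p ≠ 2)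
    (hqG : q ∣ Nat.card G) (hord : ∀ g : G, g = 1 ∨ orderOf g = p ∨ orderOf g = q)
    (A : Subgroup G) (hAn : A.Normal) (hA : A ≠ ⊥) (hcomm : ∀ a ∈ A, ∀ b ∈ A, a * b = b * a)
    (hAp : ∀ a ∈ A, a ^ p = 1) :
    ∃ C : Subgroup G, Cfsg.IsFrobeniusComplement C ∧ (Nat.card C).Prime := by
  classical
  haveI := hAn
  letI : CommGroup A :=
    { (inferInstance : Group A) with mul_comm := fun a b => Subtype.ext (hcomm _ a.2 _ b.2) }
  have hfpf : ∀ y : G, orderOf y = q → ∀ a ∈ A, y * a = a * y → a = 1 := by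
    intro y hy a ha hc
    by_contra ha1
    have hao : orderOf a = p := orderOf_eq_prime (hAp a ha) ha1
    have hya : orderOf (y * a) = q * p := by
      rw [(show Commute y a from hc).orderOf_mul_eq_mul_orderOf_of_coprime, hy, hao]
      rw [hy, hao]
      exact (Nat.coprime_primes hq.out hp.out).2 hne.symm
    have h1 := hp.out.one_lt
    have h2 := hq.out.one_lt
    rcases hord (y * a) with h | h | h
    · rw [h, orderOf_one] at hya
      nlinarith
    · rw [h] at hya; exact absurd hya (lt_mul_of_one_lt_left hp.out.pos h2).ne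
    · rw [h] at hya; exact absurd hya (lt_mul_of_one_lt_right hq.out.pos h1).ne
  obtain ⟨Q⟩ := (inferInstance : Nonempty (Sylow q G))
  have hQord : ∀ y ∈ (Q : Subgroup G), y ≠ 1 → orderOf y = q := by
    intro y hy hy1
    obtain ⟨k, hk⟩ := IsPGroup.iff_orderOf.1 Q.2 ⟨y, hy⟩
    rw [Subgroup.orderOf_mk] at hk
    rcases hord y with h | h | h
    · exact absurd h hy1
    · have h' := hk.symm.trans h
      exact absurd ((Nat.prime_dvd_prime_iff_eq hp.out hq.out).1 (hp.out.dvd_of_dvd_pow (dvd_of_eq h'.symm))) hne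
    · exact h
  obtain ⟨y₀, hy₀, hy₀o⟩ : ∃ y ∈ (Q : Subgroup G), orderOf y = q := by
    obtain ⟨g, hg⟩ := exists_prime_orderOf_dvd_card' (G := (Q : Subgroup G)) q
      (Q.dvd_card_of_dvd_card hqG)
    exact ⟨g, g.2, by rw [Subgroup.orderOf_coe]; exact hg⟩
  have hQcard : Nat.card (Q : Subgroup G) = q := by
    have hu := CfsgLib.Solvable.hasUniqueOrderP_of_fpf (K := A) (H := (Q : Subgroup G)) hA
      (fun h hh hh1 => by
        rw [eq_bot_iff]
        rintro a ⟨ha, hac⟩
        exact hfpf h (hQord h hh hh1) a ha (Subgroup.mem_centralizer_iff.1 hac h rfl))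
      (p := q) (P := (⊤ : Subgroup (Q : Subgroup G))) (Q.2.to_subgroup ⊤)
    have hle : ∀ x ∈ (Q : Subgroup G), x ∈ Subgroup.zpowers y₀ := by
      intro x hx
      rcases eq_or_ne x 1 with rfl | hx1
      · exact one_mem _
      have h0 : ∀ z (hz : z ∈ (Q : Subgroup G)), z ≠ 1 →
          (⟨⟨z, hz⟩, Subgroup.mem_top _⟩ : (⊤ : Subgroup (Q : Subgroup G))) ^ q = 1 := fun z hz hz1 =>
        Subtype.ext (Subtype.ext (by
          show z ^ q = 1
          rw [← hQord z hz hz1, pow_orderOf_eq_one]))
      have hy1 : y₀ ≠ 1 := fun e => hq.out.one_lt.ne (by rw [← hy₀o, e, orderOf_one])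
      obtain ⟨i, hi⟩ := Subgroup.mem_zpowers_iff.1 (hu _ _ (h0 x hx hx1) (h0 y₀ hy₀ hy1)
        fun e => hy1 (congrArg (fun t : (⊤ : Subgroup (Q : Subgroup G)) => ((t : (Q : Subgroup G)) : G)) e))
      have hi' := congrArg (fun t : (⊤ : Subgroup (Q : Subgroup G)) => ((t : (Q : Subgroup G)) : G)) hi
      exact Subgroup.mem_zpowers_iff.2 ⟨i, by simpa using hi'⟩
    rw [le_antisymm (show (Q : Subgroup G) ≤ _ from hle) (Subgroup.zpowers_le.2 hy₀), Nat.card_zpowers, hy₀o]
  have hN : Subgroup.normalizer ((Q : Subgroup G) : Set G) = (Q : Subgroup G) := by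
    refine le_antisymm (fun x hx => ?_) Subgroup.le_normalizer
    by_contra hxQ
    have hqmem : ∀ g ∈ Subgroup.normalizer ((Q : Subgroup G) : Set G), orderOf g = q → g ∈ (Q : Subgroup G) := by
      intro g hg hgq
      have hP : IsPGroup q (Subgroup.zpowers g) := IsPGroup.of_card (n := 1) (by
        rw [Nat.card_zpowers, hgq, pow_one])
      have := hP.inf_normalizer_sylow Q
      have hm : g ∈ Subgroup.zpowers g ⊓ Subgroup.normalizer (Q : Set G) :=
        Subgroup.mem_inf.2 ⟨Subgroup.mem_zpowers g, hg⟩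
      rw [this] at hm
      exact hm.2
    have hxp : orderOf x = p := by
      rcases hord x with h | h | h
      · exact absurd (h ▸ one_mem _) hxQ
      · exact h
      · exact absurd (hqmem x hx h) hxQ
    haveI : Fintype (Q : Subgroup G) := Fintype.ofFinite _
    -- every element of the coset `Q x` has order `p`
    have hcoset : ∀ y ∈ (Q : Subgroup G), orderOf (y * x) = p := by
      intro y hy
      rcases hord (y * x) with h | h | h
      · exact absurd ((mul_eq_one_iff_eq_inv'.1 h).symm ▸ inv_mem hy) hxQ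
      · exact h
      · refine absurd ?_ hxQ
        have := hqmem (y * x) (mul_mem (Subgroup.le_normalizer hy) hx) h
        simpa using mul_mem (inv_mem hy) this
    let c : G →* MulAut A := MulAut.conjNormal
    have hpow : ∀ (v : A) (g : G) (k : ℕ),
        ((v : G) * g) ^ k = ((∏ i ∈ Finset.range k, c (g ^ i) v : A) : G) * g ^ k := by
      intro v g k
      induction k with
      | zero => simp
      | succ k ih =>
        rw [pow_succ, ih, Finset.prod_range_succ, Subgroup.coe_mul]
        show _ = _ * (g ^ k * (v : G) * (g ^ k)⁻¹) * g ^ (k + 1)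
        rw [pow_succ]
        group
    -- elements `v g` with `g` of order `p` have trivial `p`-th power
    have hnorm : ∀ (v : A) (g : G), orderOf g = p → (∏ i ∈ Finset.range p, c (g ^ i) v : A) = 1 := by
      intro v g hg
      have h1 := hpow v g p
      rw [show g ^ p = 1 from hg ▸ pow_orderOf_eq_one g, mul_one] at h1
      rcases hord ((v : G) * g) with h | h | h
      · rw [h, one_pow] at h1; exact Subtype.ext h1.symm
      · rw [← h, pow_orderOf_eq_one] at h1; exact Subtype.ext (by simpa [h] using h1.symm)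
      · exfalso
        have h2 : orderOf (((v : G) * g) ^ p) = q := by
          rw [Nat.Coprime.orderOf_pow (h ▸ (Nat.coprime_primes hq.out hp.out).2 hne.symm), h]
        have h3 : orderOf (((v : G) * g) ^ p) ∣ p := by
          rw [h1]
          exact orderOf_dvd_of_pow_eq_one (hAp _ (Subtype.coe_prop _))
        rw [h2] at h3
        exact hne ((Nat.prime_dvd_prime_iff_eq hq.out hp.out).1 h3).symm
    refine hA ((Subgroup.eq_bot_iff_forall A).2 fun v hv => ?_)
    have hsum : (∏ y : (Q : Subgroup G), ∏ i ∈ Finset.range p, c (((y : G) * x) ^ i) ⟨v, hv⟩) = 1 :=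
      Finset.prod_eq_one fun y _ => hnorm _ _ (hcoset y y.2)
    rw [Finset.prod_comm, Finset.prod_eq_single 0] at hsum
    · simp only [pow_zero, map_one, MulAut.one_apply, Finset.prod_const, Finset.card_univ] at hsum
      rw [← Nat.card_eq_fintype_card, hQcard] at hsum
      have h1 : v ^ q = 1 := congrArg Subtype.val hsum
      have h2 : orderOf v ∣ Nat.gcd p q :=
        Nat.dvd_gcd (orderOf_dvd_of_pow_eq_one (hAp v hv)) (orderOf_dvd_of_pow_eq_one h1)
      rwa [(Nat.coprime_primes hp.out hq.out).2 hne, Nat.dvd_one, orderOf_eq_one_iff] at h2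
    · intro i hi hi0
      rw [Finset.mem_range] at hi
      -- `y ↦ (y x) ^ i x ^ (-i)` permutes `Q`
      have hmem : ∀ (y : (Q : Subgroup G)) (j : ℕ), ((y : G) * x) ^ j * (x ^ j)⁻¹ ∈ (Q : Subgroup G) := by
        intro y j
        induction j with
        | zero => simp
        | succ j ih =>
          have := (Subgroup.mem_normalizer_iff.1 (mul_mem (Subgroup.le_normalizer y.2) hx) _).1 ih
          rw [show ((y : G) * x) ^ (j + 1) * (x ^ (j + 1))⁻¹ =
            ((y : G) * x) * (((y : G) * x) ^ j * (x ^ j)⁻¹) * ((y : G) * x)⁻¹ * (y : G) by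
              rw [pow_succ', pow_succ']; group]
          exact mul_mem (by simpa using this) y.2
      have hbij : Function.Bijective (fun y : (Q : Subgroup G) =>
          (⟨((y : G) * x) ^ i * (x ^ i)⁻¹, hmem y i⟩ : (Q : Subgroup G))) := by
        refine Finite.injective_iff_bijective.1 fun y z hyz => ?_
        have h := mul_right_cancel (congrArg Subtype.val hyz)
        obtain ⟨l, -, hl⟩ := Nat.exists_mul_mod_eq_one_of_coprime
          ((hp.out.coprime_iff_not_dvd.2 fun hd => by
            have := Nat.le_of_dvd (Nat.pos_of_ne_zero hi0) hd; omega).symm) hp.out.one_lt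
        have key : ∀ u : (Q : Subgroup G), (((u : G) * x) ^ i) ^ l = (u : G) * x := fun u => by
          rw [← pow_mul, ← pow_mod_orderOf, hcoset u u.2, hl, pow_one]
        have h' := key y
        rw [h, key z] at h'
        exact Subtype.ext (mul_right_cancel h'.symm)
      set w : A := c (x ^ i) ⟨v, hv⟩ with hw
      have heq : (∏ y : (Q : Subgroup G), c (((y : G) * x) ^ i) ⟨v, hv⟩) =
          ∏ y : (Q : Subgroup G), c (y : G) w := by
        refine Fintype.prod_bijective _ hbij _ _ fun y => ?_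
        rw [hw, ← MulAut.mul_apply, ← map_mul]
        congr 2
        simp
      rw [heq]
      set T := ∏ y : (Q : Subgroup G), c (y : G) w with hT
      have hfix : c y₀ T = T := by
        rw [hT, map_prod]
        refine Fintype.prod_bijective (fun y : (Q : Subgroup G) => (⟨y₀, hy₀⟩ : (Q : Subgroup G)) * y)
          (Group.mulLeft_bijective _) _ _ fun y => ?_
        rw [← MulAut.mul_apply, ← map_mul, Subgroup.coe_mul]
      refine Subtype.ext (hfpf y₀ hy₀o T T.2 ?_)
      exact mul_inv_eq_iff_eq_mul.1 (congrArg Subtype.val hfix)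
    · intro h
      exact absurd (Finset.mem_range.2 hp.out.pos) h
  refine ⟨Q, ⟨fun h => ?_, fun h => ?_, fun g hg => ?_⟩, by rw [hQcard]; exact hq.out⟩
  · rw [h, Subgroup.card_bot] at hQcard
    exact hq.out.one_lt.ne hQcard
  · refine hA ((Subgroup.eq_bot_iff_forall A).2 fun a ha => ?_)
    by_contra ha1
    have := hQord a (h ▸ Subgroup.mem_top a) ha1
    rw [orderOf_eq_prime (hAp a ha) ha1] at this
    exact hne this
  · by_contra hne'
    refine hg (hN.le ?_)
    rw [CfsgLib.Solvable.mem_normalizer_iff_conj_smul]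
    set D := (Q : Subgroup G) ⊓ MulAut.conj g • (Q : Subgroup G)
    have hD : Nat.card D = q := ((Nat.dvd_prime hq.out).1 (hQcard ▸ Subgroup.card_dvd_of_le inf_le_left)).resolve_left
      fun h => hne' (Subgroup.eq_bot_of_card_eq _ h)
    have e1 : D = (Q : Subgroup G) := Subgroup.eq_of_le_of_card_ge inf_le_left (by rw [hD, hQcard])
    have e2 : D = MulAut.conj g • (Q : Subgroup G) := Subgroup.eq_of_le_of_card_ge inf_le_right
      (by rw [hD, CfsgLib.Solvable.card_conj_smul, hQcard])
    exact e2.symm.trans e1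

/-- An element order in a group with two primes and the same exponents. -/
theorem no_sq {a b : ℕ} (h : TwoValued G a b) {p q : ℕ} (hp : p.Prime) (hq : q.Prime) (hne : p ≠ q)
    (hp2 : p ≠ 2) (hq2 : q ≠ 2) (hpG : p ∣ Nat.card G) (hqG : q ∣ Nat.card G) (ha : cnt G p = a)
    (hb : cnt G q = b) : ∀ g : G, orderOf g ≠ p ^ 2 := by
  intro g hg
  have hc := (cnt_pos hg).ne'
  have hp3 : 3 ≤ p ^ 2 := by nlinarith [hp.two_le]
  have hd := (dvd_pow_self p two_ne_zero).trans (dvd_sq hp (dvd_card_of_cnt_pos hc))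
  rw [ha, Nat.dvd_add_right (ha ▸ prime_dvd_succ hp hpG : p ∣ 1 + a)] at hd
  have hbb : cnt G (p ^ 2) = b := (h.eq_or_eq hp3 hc).resolve_left fun e =>
    not_dvd_cnt_self hp hpG (ha.symm ▸ e ▸ hd)
  have hnd : ¬ q ∣ p ^ 2 := fun e => hne ((Nat.prime_dvd_prime_iff_eq hq hp).1 (hq.dvd_of_dvd_pow e)).symm
  have hle := mul_le_cnt_mul (G := G) hq hnd (hbb.symm ▸ hb ▸ not_dvd_cnt_self hq hqG)
  have hpos : 0 < cnt G (q * p ^ 2) := lt_of_lt_of_le
    (Nat.mul_pos (Nat.totient_pos.2 (by positivity)) (cnt_prime_pos hq hqG)) hle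
  obtain ⟨⟨w, hw⟩, -⟩ := Nat.card_ne_zero.1 hpos.ne'
  refine absurd (h.cross hp hq hp2 hq2 hpG hqG ha hb).2 (cnt_pos (g := w ^ p) ?_).ne'
  rw [orderOf_pow' _ hp.ne_zero, hw, Nat.gcd_eq_right (Dvd.dvd.mul_left (dvd_pow_self p two_ne_zero) q),
    show q * p ^ 2 = p * q * p by ring, Nat.mul_div_cancel _ hp.pos]

/-- Let G be a finite group of odd order in which the numbers of elements of each order that occurs (the numbers #{g : o(g) = m}, m ranging over the element orders of G) take exactly three different values. Then the order of G has at most two prime divisors; and if it has exactly two, then every Sylow subgroup of G for a prime dividing its order has prime exponent, G is a Frobenius group, and some Frobenius complement of G has prime order. -/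
theorem result {G : Type*} [Group G] [Finite G] (hodd : Odd (Nat.card G)) (h : (((fun m : ℕ => Nat.card {g : G // orderOf g = m}) '' Set.range (orderOf : G → ℕ))).ncard = 3) :
    (Nat.card G).primeFactors.card ≤ 2 ∧
      ((Nat.card G).primeFactors.card = 2 →
        (∀ (p : ℕ) [Fact p.Prime] (P : Sylow p G), p ∣ Nat.card G → Monoid.exponent ↥(P : Subgroup G) = p) ∧
        ∃ C : Subgroup G, Cfsg.IsFrobeniusComplement C ∧ (Nat.card ↥C).Prime) := by
  classical
  obtain ⟨a, b, hab⟩ := exists_twoValued h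
  have hle := primeFactors_card_le hodd hab
  refine ⟨hle, fun h2 => ?_⟩
  haveI := isSolvable_of_primeFactors_le hle
  have ho : ∀ r, r ∣ Nat.card G → r ≠ 2 := fun r hr e =>
    (Nat.not_even_iff_odd.2 hodd) (even_iff_two_dvd.2 (e ▸ hr))
  obtain ⟨p, q, hne, hpq⟩ := Finset.card_eq_two.1 h2
  have hpm := Nat.mem_primeFactors.1 (hpq.symm ▸ Finset.mem_insert_self p _ : p ∈ (Nat.card G).primeFactors)
  have hqm := Nat.mem_primeFactors.1 (hpq.symm ▸ Finset.mem_insert_of_mem (Finset.mem_singleton_self q) :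
    q ∈ (Nat.card G).primeFactors)
  have hv : ∀ r, r.Prime → r ∣ Nat.card G → cnt G r = a ∨ cnt G r = b := fun r hr hrG =>
    hab.eq_or_eq (by have := hr.two_le; have := ho r hrG; omega) (cnt_prime_pos hr hrG).ne'
  -- orient so that `p` has count `a`
  obtain ⟨a', b', hab', hpa, hqb⟩ : ∃ a' b', TwoValued G a' b' ∧ cnt G p = a' ∧ cnt G q = b' := by
    rcases hv p hpm.1 hpm.2.1 with e | e
    · refine ⟨a, b, hab, e, (hv q hqm.1 hqm.2.1).resolve_left ?_⟩
      exact hab.ne_of_odd hodd hpm.1 hqm.1 hne hpm.2.1 hqm.2.1 e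
    · refine ⟨b, a, hab.symm, e, (hv q hqm.1 hqm.2.1).resolve_right ?_⟩
      exact hab.symm.ne_of_odd hodd hpm.1 hqm.1 hne hpm.2.1 hqm.2.1 e
  have hp2 := ho p hpm.2.1
  have hq2 := ho q hqm.2.1
  have hsqp := no_sq hab' hpm.1 hqm.1 hne hp2 hq2 hpm.2.1 hqm.2.1 hpa hqb
  have hsqq := no_sq hab'.symm hqm.1 hpm.1 hne.symm hq2 hp2 hqm.2.1 hpm.2.1 hqb hpa
  have hpq0 := (hab'.cross hpm.1 hqm.1 hp2 hq2 hpm.2.1 hqm.2.1 hpa hqb).2
  have hmem : ∀ r, r.Prime → r ∣ Nat.card G → r = p ∨ r = q := fun r hr hrG => by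
    have : r ∈ (Nat.card G).primeFactors := Nat.mem_primeFactors.2 ⟨hr, hrG, Nat.card_pos.ne'⟩
    rw [hpq] at this
    simpa using this
  have hord : ∀ g : G, g = 1 ∨ orderOf g = p ∨ orderOf g = q := by
    intro g
    rcases eq_or_ne g 1 with hg | hg
    · exact Or.inl hg
    right
    have hsub : ∀ d, d ∣ orderOf g → cnt G d ≠ 0 := fun d hd =>
      (cnt_pos (orderOf_pow_orderOf_div (orderOf_pos g).ne' hd)).ne'
    obtain ⟨r, hr, hrd⟩ := Nat.exists_prime_and_dvd (n := orderOf g) (by simpa [orderOf_eq_one_iff] using hg)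
    obtain ⟨m, hm⟩ := hrd
    rcases eq_or_ne m 1 with rfl | hm1
    · rw [mul_one] at hm
      rw [hm]
      exact hmem r hr (hm ▸ orderOf_dvd_natCard g)
    exfalso
    obtain ⟨t, ht, htm⟩ := Nat.exists_prime_and_dvd hm1
    have hrt : r * t ∣ orderOf g := hm ▸ Nat.mul_dvd_mul_left r htm
    have hbad : ∀ s, s.Prime → s ^ 2 ∣ orderOf g → (s = p ∨ s = q) → False := fun s hs hsd hspq => by
      obtain ⟨⟨w, hw⟩, -⟩ := Nat.card_ne_zero.1 (hsub _ hsd)
      rcases hspq with rfl | rfl
      · exact hsqp w hw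
      · exact hsqq w hw
    have hrG := (Dvd.intro m hm.symm).trans (orderOf_dvd_natCard g)
    have htG := (dvd_of_mul_left_dvd hrt).trans (orderOf_dvd_natCard g)
    rcases hmem r hr hrG with rfl | rfl <;> rcases hmem t ht htG with rfl | rfl
    · exact hbad _ hr (by rwa [sq]) (Or.inl rfl)
    · exact hsub _ hrt hpq0
    · exact hsub _ (mul_comm r t ▸ hrt) hpq0
    · exact hbad _ hr (by rwa [sq]) (Or.inr rfl)
  refine ⟨fun r _ R hrG => ?_, ?_⟩
  · haveI hnt : Nontrivial (R : Subgroup G) := by
      rw [← Finite.one_lt_card_iff_nontrivial]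
      exact lt_of_lt_of_le (Fact.out : r.Prime).one_lt (Nat.le_of_dvd Nat.card_pos (R.dvd_card_of_dvd_card hrG))
    refine ((Nat.dvd_prime Fact.out).1 (Monoid.exponent_dvd_of_forall_pow_eq_one fun x => ?_)).resolve_left ?_
    · obtain ⟨k, hk⟩ := IsPGroup.iff_orderOf.1 R.2 x
      rw [← Subgroup.orderOf_coe] at hk
      apply Subtype.ext
      rw [Subgroup.coe_pow, Subgroup.coe_one]
      have key : ∀ s : ℕ, s.Prime → orderOf (x : G) = s → (x : G) ^ r = 1 := fun s hs hxs => by
        have : s = r := (Nat.prime_dvd_prime_iff_eq hs Fact.out).1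
          (hs.dvd_of_dvd_pow (n := k) (dvd_of_eq (hxs.symm.trans hk)))
        subst this
        have := pow_orderOf_eq_one (x : G)
        rwa [hxs] at this
      rcases hord (x : G) with h | h | h
      · rw [h, one_pow]
      · exact key p hpm.1 h
      · exact key q hqm.1 h
    · intro h1
      haveI := Monoid.exp_eq_one_iff.1 h1
      exact false_of_nontrivial_of_subsingleton (R : Subgroup G)
  · haveI : Nontrivial G := Finite.one_lt_card_iff_nontrivial.1
      (lt_of_lt_of_le hpm.1.one_lt (Nat.le_of_dvd Nat.card_pos hpm.2.1))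
    obtain ⟨A, hAn, hA, hcomm⟩ : ∃ A : Subgroup G, A.Normal ∧ A ≠ ⊥ ∧ ∀ a ∈ A, ∀ b ∈ A, a * b = b * a := by
      have hex : ∃ k, derivedSeries G k = ⊥ := (isSolvable_def G).1 inferInstance
      have h0 : Nat.find hex ≠ 0 := fun h => by
        have h2 := Nat.find_spec hex
        rw [h, derivedSeries_zero] at h2
        exact top_ne_bot h2
      refine ⟨derivedSeries G (Nat.find hex - 1), derivedSeries_normal G _,
        Nat.find_min hex (by omega), fun a ha b hb => ?_⟩
      have h := Nat.find_spec hex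
      rw [← Nat.sub_add_cancel (Nat.pos_of_ne_zero h0), derivedSeries_succ,
        Subgroup.commutator_eq_bot_iff_le_centralizer] at h
      exact (Subgroup.mem_centralizer_iff.1 (h ha) b hb).symm
    obtain ⟨a₀, ha₀, ha1⟩ : ∃ a ∈ A, a ≠ 1 := by
      by_contra hno
      push Not at hno
      exact hA ((Subgroup.eq_bot_iff_forall A).2 hno)
    have hkey : ∀ p q : ℕ, p.Prime → q.Prime → p ≠ q → cnt G (p * q) = 0 → (∀ g : G, g = 1 ∨ orderOf g = p ∨ orderOf g = q) →
        orderOf a₀ = p → ∀ a ∈ A, a ^ p = 1 := by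
      intro p q hp hq hne h0 hord hop a ha
      rcases hord a with h | h | h
      · rw [h, one_pow]
      · rw [← h, pow_orderOf_eq_one]
      · refine absurd h0 (cnt_pos (g := a₀ * a) ?_).ne'
        rw [(show Commute a₀ a from hcomm _ ha₀ _ ha).orderOf_mul_eq_mul_orderOf_of_coprime, hop, h]
        rw [hop, h]
        exact (Nat.coprime_primes hp hq).2 hne
    haveI := Fact.mk hpm.1
    haveI := Fact.mk hqm.1
    rcases (hord a₀).resolve_left ha1 with hop | hoq
    · exact exists_complement hne hp2 hqm.2.1 hord A hAn hA hcomm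
        (hkey p q hpm.1 hqm.1 hne hpq0 hord hop)
    · exact exists_complement hne.symm hq2 hpm.2.1 (fun g => (hord g).imp id Or.symm) A hAn hA hcomm
        (hkey q p hqm.1 hpm.1 hne.symm (by rw [mul_comm]; exact hpq0) (fun g => (hord g).imp id Or.symm) hoq)


end Cfsg.Agent.S4004
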