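import Mathlib
import Cfsg.Statements.S4005
import Cfsg.Agent.FgsSix.SmallOrders
-- import your own Cfsg.Agent.* helpers here

set_option autoImplicit false
open Cfsg

namespace Cfsg.Agent.S4005

/-- A finite group whose set of element orders is exactly {1, 2, 3} has either a normal elementary abelian 3-subgroup of index 2 or a normal elementary abelian 2-subgroup of index 3. -/
theorem result {G : Type*} [Group G] [Finite G] (h : Set.range (orderOf : G → ℕ) = {k : ℕ | 1 ≤ k ∧ k ≤ 3}) :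
    (∃ N : Subgroup G, N.Normal ∧ Cfsg.IsElementaryAbelian 3 N ∧ N.index = 2) ∨
      (∃ N : Subgroup G, N.Normal ∧ Cfsg.IsElementaryAbelian 2 N ∧ N.index = 3) := by
  have hord : ∀ g : G, 1 ≤ orderOf g ∧ orderOf g ≤ 3 := fun g => by
    have h1 : orderOf g ∈ {k : ℕ | 1 ≤ k ∧ k ≤ 3} := h ▸ ⟨g, rfl⟩
    exact h1
  obtain ⟨t, ht⟩ : (2 : ℕ) ∈ Set.range (orderOf : G → ℕ) := h.symm ▸ ⟨by omega, by omega⟩
  obtain ⟨d, hd⟩ : (3 : ℕ) ∈ Set.range (orderOf : G → ℕ) := h.symm ▸ ⟨by omega, by omega⟩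
  obtain ⟨N, hN, ⟨hN2, hidx, -, -⟩ | ⟨-, -, g, hg⟩ | ⟨hN3, hQ2, hQu, hlift⟩⟩ :=
    CfsgLib.FgsSix.structure_of_orders_le_four (fun g => (hord g).2.trans (by norm_num)) ht hd
  · refine Or.inr ⟨N, hN, ?_, hidx⟩
    have hsq : ∀ x : ↥N, x ^ 2 = 1 := by
      intro x
      obtain ⟨i, hi⟩ := IsPGroup.iff_orderOf.1 hN2 x
      have h1 := (hord (x : G)).2
      rw [Subgroup.orderOf_coe, hi] at h1
      rw [← orderOf_dvd_iff_pow_eq_one, hi]
      rcases Nat.lt_or_ge i 2 with h2 | h2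
      · interval_cases i <;> norm_num
      · have := Nat.pow_le_pow_right two_pos h2
        omega
    refine ⟨⟨⟨fun a b => ?_⟩⟩, fun a ha => congrArg Subtype.val (hsq ⟨a, ha⟩)⟩
    have ha2 : a⁻¹ = a := inv_eq_of_mul_eq_one_right (by rw [← pow_two]; exact hsq a)
    have hb2 : b⁻¹ = b := inv_eq_of_mul_eq_one_right (by rw [← pow_two]; exact hsq b)
    have hab2 : (a * b)⁻¹ = a * b := inv_eq_of_mul_eq_one_right (by rw [← pow_two]; exact hsq _)
    rw [mul_inv_rev, ha2, hb2] at hab2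
    exact hab2.symm
  · have := (hord g).2
    omega
  · refine Or.inl ⟨N, hN, hN3, ?_⟩
    haveI := hN
    haveI := Fact.mk Nat.prime_two
    have h2 : orderOf (QuotientGroup.mk t : G ⧸ N) = 2 := (hlift t (Or.inl ht)).trans ht
    rw [Subgroup.index_eq_card]
    refine ((Nat.card_congr (Equiv.subtypeUnivEquiv ?_)).symm.trans
      (Nat.card_zpowers (QuotientGroup.mk t : G ⧸ N))).trans h2
    intro x
    refine hQu x _ ?_ (orderOf_dvd_iff_pow_eq_one.1 (dvd_of_eq h2))
      (fun e => by rw [e, orderOf_one] at h2; omega)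
    obtain ⟨i, hi⟩ := IsPGroup.iff_orderOf.1 hQ2 x
    obtain ⟨g, rfl⟩ := QuotientGroup.mk_surjective x
    have h1 : orderOf (QuotientGroup.mk' N g) ≤ orderOf g := Nat.le_of_dvd (orderOf_pos g) (orderOf_map_dvd _ g)
    have h3 := (hord g).2
    rw [← orderOf_dvd_iff_pow_eq_one, hi]
    rw [show QuotientGroup.mk' N g = QuotientGroup.mk g from rfl, hi] at h1
    rcases Nat.lt_or_ge i 2 with h4 | h4
    · interval_cases i <;> norm_num
    · have := Nat.pow_le_pow_right two_pos h4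
      omega

end Cfsg.Agent.S4005
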