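import Mathlib
import Cfsg.Statements.S4006
import Cfsg.Agent.FgsSix.SmallOrders
-- import your own Cfsg.Agent.* helpers here

set_option autoImplicit false
open Cfsg

namespace Cfsg.Agent.S4006

/-- A finite group whose set of element orders is exactly {1, 2, 3, 4} has a normal subgroup N such that either N is a 2-group of exponent 4 and nilpotency class at most 2 with G/N of order 3, or N is an elementary abelian 2-group with G/N isomorphic to the symmetric group of degree 3, or N is an elementary abelian 3-group with G/N cyclic of order 4 or quaternion of order 8. -/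
theorem result {G : Type*} [Group G] [Finite G] (h : Set.range (orderOf : G → ℕ) = {k : ℕ | 1 ≤ k ∧ k ≤ 4}) :
    ∃ (N : Subgroup G) (_ : N.Normal),
      (IsPGroup 2 ↥N ∧ Monoid.exponent ↥N = 4 ∧ Group.nilpotencyClass ↥N ≤ 2 ∧ N.index = 3) ∨
      (Cfsg.IsElementaryAbelian 2 N ∧ Nonempty (G ⧸ N ≃* Equiv.Perm (Fin 3))) ∨
      (Cfsg.IsElementaryAbelian 3 N ∧ ((IsCyclic (G ⧸ N) ∧ N.index = 4) ∨ Nonempty (G ⧸ N ≃* QuaternionGroup 2))) := by
  have hord : ∀ g : G, 1 ≤ orderOf g ∧ orderOf g ≤ 4 := fun g => by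
    have h1 : orderOf g ∈ {k : ℕ | 1 ≤ k ∧ k ≤ 4} := h ▸ ⟨g, rfl⟩
    exact h1
  obtain ⟨t, ht⟩ : (2 : ℕ) ∈ Set.range (orderOf : G → ℕ) := h.symm ▸ ⟨by omega, by omega⟩
  obtain ⟨d, hd⟩ : (3 : ℕ) ∈ Set.range (orderOf : G → ℕ) := h.symm ▸ ⟨by omega, by omega⟩
  obtain ⟨f, hf⟩ : (4 : ℕ) ∈ Set.range (orderOf : G → ℕ) := h.symm ▸ ⟨by omega, by omega⟩
  obtain ⟨N, hN, ⟨hN2, hidx, hcl, hout⟩ | ⟨hN2, hS3, -⟩ | ⟨hN3, hQ2, hQu, hlift⟩⟩ :=
    CfsgLib.FgsSix.structure_of_orders_le_four (fun g => (hord g).2) ht hd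
  · refine ⟨N, hN, Or.inl ⟨hN2, ?_, hcl, hidx⟩⟩
    have hfN : f ∈ N := by
      by_contra hfN
      have := hout f hfN
      omega
    refine Nat.dvd_antisymm (Monoid.exponent_dvd_of_forall_pow_eq_one fun x => ?_) ?_
    · obtain ⟨i, hi⟩ := IsPGroup.iff_orderOf.1 hN2 x
      have h1 := (hord (x : G)).2
      rw [Subgroup.orderOf_coe, hi] at h1
      rw [← orderOf_dvd_iff_pow_eq_one, hi]
      rcases Nat.lt_or_ge i 3 with h2 | h2
      · interval_cases i <;> norm_num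
      · have := Nat.pow_le_pow_right two_pos h2
        omega
    · have h1 := Monoid.order_dvd_exponent (⟨f, hfN⟩ : ↥N)
      rwa [← Subgroup.orderOf_coe, hf] at h1
  · exact ⟨N, hN, Or.inr (Or.inl ⟨hN2, hS3⟩)⟩
  · haveI := hN
    refine ⟨N, hN, Or.inr (Or.inr ⟨hN3, ?_⟩)⟩
    haveI := Fact.mk Nat.prime_two
    have hf' : orderOf (QuotientGroup.mk f : G ⧸ N) = 4 := (hlift f (Or.inr hf)).trans hf
    have hle : ∀ x : G ⧸ N, orderOf x ≤ 4 := CfsgLib.FgsSix.orders_quotient (fun g => (hord g).2) N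
    rcases CfsgLib.TwoGroupsQ.isCyclic_or_quaternion hQ2 hQu with hc | ⟨-, m, hm, ⟨e⟩⟩
    · refine Or.inl ⟨hc, ?_⟩
      rw [Subgroup.index_eq_card]
      refine le_antisymm ?_ (hf' ▸ Nat.le_of_dvd Nat.card_pos (orderOf_dvd_natCard _))
      obtain ⟨g, hg⟩ := hc.exists_generator
      rw [← Subgroup.card_top (G := G ⧸ N), ← (Subgroup.eq_top_iff' _).2 hg, Nat.card_zpowers]
      exact hle g
    · refine Or.inr ?_
      haveI : NeZero (2 ^ m) := ⟨by positivity⟩
      have h4 := hle (e.symm (QuaternionGroup.a 1))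
      rw [MulEquiv.orderOf_eq, QuaternionGroup.orderOf_a_one] at h4
      obtain rfl : m = 1 := by
        by_contra hm1
        have := Nat.pow_le_pow_right two_pos (show 2 ≤ m by omega)
        omega
      exact ⟨e⟩

end Cfsg.Agent.S4006
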