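import Mathlib
import Cfsg.Statements.S4010
import Cfsg.Agent.FgsSix.UnipotentDerived
import Cfsg.Agent.NilpotentLinear.DerivedLength

set_option autoImplicit false
open Cfsg

namespace Cfsg.Agent.S4010

/-- Let F be a field, n ≥ 1, and P a finite p-group (p a prime) admitting an injective homomorphism into the general linear group of degree n over F. Then the derived length of P is at most ⌊log₂ n⌋ + 1: that term of the derived series of P is trivial. -/
theorem result {P : Type*} [Group P] [Finite P] (p : ℕ) [Fact p.Prime] (hP : IsPGroup p P) (F : Type*) [Field F] (n : ℕ) (hn : 1 ≤ n) (ρ : P →* Matrix.GeneralLinearGroup (Fin n) F) (hρ : Function.Injective ρ) : derivedSeries P (Nat.log 2 n + 1) = ⊥ := by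
  classical
  rw [← le_bot_iff]
  let ρM : P →* Matrix (Fin n) (Fin n) F := (Units.coeHom _).comp ρ
  have hker : ρM.ker = ⊥ :=
    (MonoidHom.ker_eq_bot_iff ρM).2 fun a b h => hρ (Units.ext h)
  by_cases hc : (p : F) = 0
  · haveI : CharP F p := (CharP.charP_iff_prime_eq_zero Fact.out).2 hc
    let ρ' : P →* Module.End F (Fin n → F) :=
      (Matrix.toLinAlgEquiv' (R := F) (n := Fin n)).toMulEquiv.toMonoidHom.comp ρM
    have h := CfsgLib.FgsSix.derivedSeries_le_ker_of_charP hP ρ'
    rw [Module.finrank_fin_fun] at h
    refine h.trans ?_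
    intro g hg
    rw [← hker, MonoidHom.mem_ker]
    exact (Matrix.toLinAlgEquiv' (R := F) (n := Fin n)).injective
      ((MonoidHom.mem_ker.1 hg).trans (map_one _).symm)
  · haveI : Group.IsNilpotent P := hP.isNilpotent
    obtain ⟨k, hk⟩ := IsPGroup.iff_card.1 hP
    have h := CfsgLib.NilpotentLinear.derivedSeries_le_ker (K := F)
      (by rw [hk, Nat.cast_pow]; exact pow_ne_zero _ hc) ρM
    rw [Fintype.card_fin, hker] at h
    exact h

end Cfsg.Agent.S4010
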