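import Mathlib
import Cfsg.Statements.S4013


set_option autoImplicit false
open Cfsg

namespace Cfsg.Agent.S4013

/-- Let G be a finite p-group (p prime) and N < M normal subgroups of G such that for some g ∈ M ∖ N the conjugacy class of g is exactly M ∖ N. Then p = 2 and N has index 2 in M. -/
theorem result {G : Type*} [Group G] [Finite G] (p : ℕ) [Fact p.Prime] (hG : IsPGroup p G) (N M : Subgroup G) [N.Normal] [M.Normal] (hNM : N < M) (g : G) (hgM : g ∈ M) (hgN : g ∉ N) (hcl : {h : G | IsConj g h} = (M : Set G) \ (N : Set G)) : p = 2 ∧ N.relIndex M = 2 := by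
  classical
  have hd : Nat.card {h : G // h ∈ {h : G | IsConj g h}} = (Subgroup.centralizer ({g} : Set G)).index := by
    have h1 := MulAction.index_stabilizer (ConjAct G) g
    rw [ConjAct.stabilizer_eq_centralizer, ConjAct.orbit_eq_carrier_conjClasses] at h1
    refine Eq.trans ?_ h1.symm
    rw [← Nat.card_coe_set_eq]
    exact Nat.card_congr (Equiv.setCongr (by ext; simp only [Set.mem_setOf_eq, ConjClasses.mem_carrier_iff_mk_eq, ConjClasses.mk_eq_mk_iff_isConj]; exact isConj_comm))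
  obtain ⟨a, ha⟩ := hG.index (Subgroup.centralizer ({g} : Set G))
  have h2 : Nat.card {h : G // h ∈ {h : G | IsConj g h}} + Nat.card ↥N = Nat.card ↥M := by
    have := Set.ncard_diff_add_ncard_of_subset (s := (N : Set G)) (t := (M : Set G)) hNM.le
    rw [← hcl, ← Nat.card_coe_set_eq, ← Nat.card_coe_set_eq, ← Nat.card_coe_set_eq] at this
    exact this
  rw [hd, ha] at h2
  obtain ⟨n, hn⟩ := IsPGroup.iff_card.1 (hG.to_subgroup N)
  obtain ⟨m, hm⟩ := IsPGroup.iff_card.1 (hG.to_subgroup M)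
  have hr := Subgroup.relIndex_mul_index (hNM.le)
  have hr2 : N.relIndex M * Nat.card ↥N = Nat.card ↥M := by
    rw [Subgroup.relIndex, mul_comm, ← Nat.card_congr (Subgroup.subgroupOfEquivOfLe hNM.le).toEquiv]
    exact Subgroup.card_mul_index _
  set r := N.relIndex M with hrdef
  have hdvd : r ∣ p ^ m := ⟨Nat.card ↥N, by rw [hr2, hm]⟩
  obtain ⟨b, -, hb⟩ := (Nat.dvd_prime_pow (Fact.out : p.Prime)).1 hdvd
  have hb0 : b ≠ 0 := by
    intro h0
    rw [hb, h0, pow_zero, one_mul] at hr2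
    have := Nat.pos_of_ne_zero (pow_ne_zero a (Fact.out : p.Prime).ne_zero)
    omega
  have hr1 : 1 ≤ r := hb ▸ Nat.one_le_pow _ _ (Fact.out : p.Prime).pos
  have h3 : (r - 1) * p ^ n = p ^ a := by
    rw [Nat.sub_mul, one_mul, ← hn, hr2]; omega
  have h4 : r - 1 ∣ p ^ a := ⟨p ^ n, h3.symm⟩
  obtain ⟨c, -, hc⟩ := (Nat.dvd_prime_pow (Fact.out : p.Prime)).1 h4
  have hp2 := (Fact.out : p.Prime).two_le
  obtain ⟨b', rfl⟩ := Nat.exists_eq_succ_of_ne_zero hb0
  rw [hb, pow_succ] at hc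
  rcases Nat.eq_zero_or_pos c with rfl | hc0
  · rw [pow_zero] at hc
    have h5 : p ^ b' * p = 2 := by omega
    have hp : p = 2 := (Nat.prime_dvd_prime_iff_eq Fact.out Nat.prime_two).1 ⟨p ^ b', by rw [← h5, mul_comm]⟩
    refine ⟨hp, ?_⟩
    rw [hb, pow_succ, h5]
  · exfalso
    obtain ⟨c', rfl⟩ := Nat.exists_eq_succ_of_ne_zero hc0.ne'
    rw [pow_succ] at hc
    have h5 : p ∣ p ^ b' * p - (p ^ b' * p - 1) :=
      Nat.dvd_sub (Dvd.intro_left _ rfl) (hc ▸ Dvd.intro_left _ rfl)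
    have h6 : p ^ b' * p - (p ^ b' * p - 1) = 1 := by
      have := Nat.one_le_iff_ne_zero.2 (Nat.mul_ne_zero (pow_ne_zero b' (Fact.out : p.Prime).ne_zero) (Fact.out : p.Prime).ne_zero)
      omega
    rw [h6, Nat.dvd_one] at h5
    omega

end Cfsg.Agent.S4013
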