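import Mathlib
import Cfsg.Statements.S4014
import Cfsg.Agent.FgsSix.DerivedLength
-- import your own Cfsg.Agent.* helpers here

set_option autoImplicit false
open Cfsg

namespace Cfsg.Agent.S4014

/-- Let p be a prime, n ≥ 1, and P a Sylow p-subgroup of the symmetric group on n letters. Then the derived length of P is exactly k = ⌊log_p n⌋ (the largest k with p^k ≤ n): the k-th derived subgroup of P is trivial and, when k ≥ 1, the (k−1)-st is not. -/
theorem result (p : ℕ) [Fact p.Prime] (n : ℕ) (hn : 1 ≤ n) (P : Sylow p (Equiv.Perm (Fin n))) : derivedSeries ↥(P : Subgroup (Equiv.Perm (Fin n))) (Nat.log p n) = ⊥ ∧ (1 ≤ Nat.log p n → derivedSeries ↥(P : Subgroup (Equiv.Perm (Fin n))) (Nat.log p n - 1) ≠ ⊥) := by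
  have hp : p.Prime := Fact.out
  constructor
  · have h := CfsgLib.FgsSix.derivedSeries_log_eq_bot (Ω := Fin n) P.isPGroup'
    rwa [Nat.card_fin] at h
  · intro hk
    obtain ⟨j, hj⟩ : ∃ j, Nat.log p n = j + 1 := ⟨_, (Nat.sub_add_cancel hk).symm⟩
    rw [hj, Nat.add_sub_cancel]
    have hle : p ^ (j + 1) ≤ n := hj ▸ Nat.pow_log_le_self p (by omega)
    let C := Multiplicative (ZMod p)
    have hC : Nat.card C = p := by simp [C]
    have : Nontrivial C := Finite.one_lt_card_iff_nontrivial.1 (hC.symm ▸ hp.one_lt)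
    have hW : IsPGroup p (IteratedWreathProduct C (j + 1)) :=
      IsPGroup.of_card (n := ∑ i ∈ Finset.range (j + 1), p ^ i) (by rw [IteratedWreathProduct.card, hC])
    have hcard : Nat.card (Fin (j + 1) → C) ≤ Nat.card (Fin n) := by
      rw [Nat.card_fun, hC, Nat.card_fin, Nat.card_fin]; exact hle
    obtain ⟨e⟩ : Nonempty ((Fin (j + 1) → C) ↪ Fin n) := by
      have := Fintype.ofFinite (Fin (j + 1) → C)
      exact Function.Embedding.nonempty_of_card_le (by simpa [Nat.card_eq_fintype_card] using hcard)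
    exact CfsgLib.FgsSix.derivedSeries_sylow_ne_bot P hW
      (f := (Equiv.Perm.viaEmbeddingHom e).comp (iteratedWreathToPermHom C (j + 1)))
      ((Equiv.Perm.viaEmbeddingHom_injective e).comp (iteratedWreathToPermHomInj C (j + 1)))
      (CfsgLib.FgsSix.derivedSeries_iteratedWreath_ne_bot C j)

end Cfsg.Agent.S4014
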