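import Mathlib
import Cfsg.Statements.S4015
import Cfsg.Agent.FgsSix.LinearDerived
-- import your own Cfsg.Agent.* helpers here

set_option autoImplicit false
open Cfsg

namespace Cfsg.Agent.S4015

/-- Let p be an odd prime, F a finite field with q elements where p does not divide q, and e the multiplicative order of q modulo p. Let n ≥ e and write w = ⌊n/e⌋ and k = ⌊log_p w⌋. Then a Sylow p-subgroup of GL(n, F) has derived length exactly k + 1: its (k+1)-st derived subgroup is trivial and its k-th is not. -/
theorem result (p : ℕ) [Fact p.Prime] (hp : p ≠ 2) (F : Type*) [Field F] [Fintype F] (q : ℕ) (hq : Fintype.card F = q) (hpq : ¬ p ∣ q) (n : ℕ) (hn : orderOf (q : ZMod p) ≤ n) (P : Sylow p (Matrix.GeneralLinearGroup (Fin n) F)) : derivedSeries ↥(P : Subgroup (Matrix.GeneralLinearGroup (Fin n) F)) (Nat.log p (n / orderOf (q : ZMod p)) + 1) = ⊥ ∧ derivedSeries ↥(P : Subgroup (Matrix.GeneralLinearGroup (Fin n) F)) (Nat.log p (n / orderOf (q : ZMod p))) ≠ ⊥ := by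
  have hp2 := hp
  have hpp : p.Prime := Fact.out
  classical
  subst hq
  set e := orderOf ((Fintype.card F : ℕ) : ZMod p) with he
  have hpF : (p : F) ≠ 0 := by
    intro h
    have : Fact (ringChar F).Prime := ⟨CharP.char_is_prime F _⟩
    obtain ⟨r, hr, hc⟩ := FiniteField.card F (ringChar F)
    have hd := (ringChar.spec F p).1 h
    rw [(Nat.prime_dvd_prime_iff_eq hr hpp).1 hd] at hc
    exact hpq (hc ▸ dvd_pow_self p r.pos.ne')
  have hne : ((Fintype.card F : ℕ) : ZMod p) ≠ 0 := fun h0 => hpq ((ZMod.natCast_eq_zero_iff _ _).1 h0)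
  have hpos : 0 < e :=
    orderOf_pos_iff.2 (isOfFinOrder_iff_pow_eq_one.2 ⟨p - 1, by have := hpp.two_le; omega,
      ZMod.pow_card_sub_one_eq_one hne⟩)
  let T := Matrix.GeneralLinearGroup.toLin (n := Fin n) (R := F)
  constructor
  · let ρ : ↥(P : Subgroup (Matrix.GeneralLinearGroup (Fin n) F)) →* Module.End F (Fin n → F) :=
      (Units.coeHom _).comp (T.toMonoidHom.comp (P : Subgroup (Matrix.GeneralLinearGroup (Fin n) F)).subtype)
    have h := CfsgLib.FgsSix.derivedSeries_le_ker_of_finrank_lt hp2 hpq hpF (Nat.log p (n / e) + 1) _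
      P.isPGroup' _ ρ (by
        rw [Module.finrank_fin_fun, ← he]
        exact (Nat.div_lt_iff_lt_mul hpos).1 (Nat.lt_pow_succ_log_self hpp.one_lt _))
    have hρ : Function.Injective ρ := fun a b hab => Subtype.ext (T.injective (Units.ext hab))
    rw [MonoidHom.ker_eq_bot_iff ρ |>.2 hρ, le_bot_iff] at h
    exact h
  · set k := Nat.log p (n / e) with hk
    let C := Multiplicative (ZMod p)
    have hC : Nat.card C = p := by simp [C]
    have hnt : Nontrivial C := Finite.one_lt_card_iff_nontrivial.1 (hC.symm ▸ hpp.one_lt)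
    -- representations of the iterated wreath products
    have key : ∀ j : ℕ, ∃ (V : Type _) (_ : AddCommGroup V) (_ : Module F V) (_ : FiniteDimensional F V)
        (_ : Nontrivial V) (σ : IteratedWreathProduct C (j + 1) →* Module.End F V),
        Module.finrank F V = p ^ j * e ∧ Function.Injective σ := by
      intro j
      induction j with
      | zero =>
        have hd : p ∣ Nat.card (Module.End F (Fin e → F))ˣ :=
          (CfsgLib.FgsSix.dvd_card_units_end hpq).2 (by rw [Module.finrank_fin_fun])
        have : Finite (Module.End F (Fin e → F)) := Module.finite_of_finite F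
        obtain ⟨u, hu⟩ := exists_prime_orderOf_dvd_card' p hd
        obtain ⟨f⟩ : Nonempty (C ≃* ↥(Subgroup.zpowers u)) :=
          ⟨mulEquivOfPrimeCardEq hC (by rw [Nat.card_zpowers, hu])⟩
        have : Nonempty (Fin e) := ⟨⟨0, hpos⟩⟩
        refine ⟨Fin e → F, inferInstance, inferInstance, inferInstance, inferInstance,
          (Units.coeHom _).comp ((Subgroup.zpowers u).subtype.comp (f.toMonoidHom.comp
            (RegularWreathProduct.rightHom (D := IteratedWreathProduct C 0) (Q := C)))),
          by rw [Module.finrank_fin_fun, pow_zero, one_mul], ?_⟩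
        intro a b hab
        have h1 : RegularWreathProduct.right a = RegularWreathProduct.right b :=
          f.injective (Subtype.ext (Units.ext hab))
        exact RegularWreathProduct.ext (funext fun _ => Subsingleton.elim (α := PUnit) _ _) h1
      | succ j ih =>
        obtain ⟨V, i1, i2, i3, i4, σ, hd, hσ⟩ := ih
        refine ⟨C → V, inferInstance, inferInstance, inferInstance, inferInstance,
          CfsgLib.FgsSix.wreathRep (Q := C) σ, ?_, CfsgLib.FgsSix.wreathRep_injective hσ⟩
        have := Fintype.ofFinite C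
        rw [Module.finrank_pi_fintype, Finset.sum_const, Finset.card_univ, ← Nat.card_eq_fintype_card, hC,
          hd, smul_eq_mul, pow_succ]
        ring
    obtain ⟨V, i1, i2, i3, i4, σ, hd, hσ⟩ := key k
    have hle : p ^ k ≤ n / e := Nat.pow_log_le_self p (by
      have := (Nat.one_le_div_iff hpos).2 hn
      omega)
    obtain ⟨f, hf⟩ := CfsgLib.FgsSix.exists_injective_hom_units (U := Fin n → F)
      (by rw [hd, Module.finrank_fin_fun]; exact (Nat.le_div_iff_mul_le hpos).1 hle) σ hσ
    have hW : IsPGroup p (IteratedWreathProduct C (k + 1)) :=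
      IsPGroup.of_card (n := ∑ i ∈ Finset.range (k + 1), p ^ i) (by rw [IteratedWreathProduct.card, hC])
    exact CfsgLib.FgsSix.derivedSeries_sylow_ne_bot P hW (f := T.symm.toMonoidHom.comp f)
      (T.symm.injective.comp hf) (CfsgLib.FgsSix.derivedSeries_iteratedWreath_ne_bot C k)

end Cfsg.Agent.S4015
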