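import Mathlib
import Cfsg.Statements.S4016
import Cfsg.Agent.FgsSix.CyclicAbelian.Main
-- import your own Cfsg.Agent.* helpers here

set_option autoImplicit false
open Cfsg

namespace Cfsg.Agent.S4016

/-- Let G be a finite group and p a prime such that a Sylow p-subgroup P of G is cyclic and every subgroup of G of order prime to p is abelian. Then G has a normal p-complement or P is normal in G. -/
theorem result {G : Type*} [Group G] [Finite G] {p : ℕ}
    [Fact p.Prime] (P : Sylow p G) (hcyc : IsCyclic P)
    (hab : ∀ H : Subgroup G, ¬ p ∣ Nat.card H → IsMulCommutative H) :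
    Cfsg.HasNormalPComplement p G ∨ (P : Subgroup G).Normal := by
  have h : CfsgLib.FgsSix.CyclicAbelian.Hyp G p := by
    refine ⟨fun Q => ?_, fun H hH a ha b hb => congrArg Subtype.val ((hab H hH).is_comm.comm ⟨a, ha⟩ ⟨b, hb⟩)⟩
    obtain ⟨g, rfl⟩ := MulAction.exists_smul_eq G P Q
    have : IsCyclic ↥(P : Subgroup G) := hcyc
    exact isCyclic_of_surjective (P.equivSMul g).toMonoidHom (P.equivSMul g).surjective
  rcases CfsgLib.FgsSix.CyclicAbelian.concl_of_hyp h with hN | hP
  · exact Or.inl hN
  · exact Or.inr (hP P)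

end Cfsg.Agent.S4016
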