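import Mathlib
import Cfsg.Statements.S4018
import Cfsg.Agent.FgsSix.InvolutionCount

set_option autoImplicit false
open scoped Pointwise
open Cfsg

namespace Cfsg.Agent.S4018

/-- Let G be a finite group with an abelian Sylow 3-subgroup P such that the normalizer of P has order 4·#P, the centralizer C of P has order 2·#P, C meets each of its conjugates by elements outside its normalizer trivially, and every proper subgroup of G of even order has order dividing 4·#P. Then G is not simple. -/
theorem result {G : Type*} [Group G] [Finite G]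
    (P : Sylow 3 G) (hab : IsMulCommutative P)
    (hN : Nat.card (Subgroup.normalizer ((P : Subgroup G) : Set G)) = 4 * Nat.card P)
    (hC : Nat.card (Subgroup.centralizer (P : Set G)) = 2 * Nat.card P)
    (hTI : Cfsg.IsTISubset (Subgroup.centralizer (P : Set G) : Set G))
    (heven : ∀ H : Subgroup G, H ≠ ⊤ → 2 ∣ Nat.card H → Nat.card H ∣ 4 * Nat.card P) :
    ¬ IsSimpleGroup G := by
  classical
  intro hsimp
  haveI := hsimp
  haveI := Fintype.ofFinite G
  set m := Nat.card ↥(P : Subgroup G) with hm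
  set C := Subgroup.centralizer ((P : Subgroup G) : Set G) with hCdef
  set N := Subgroup.normalizer ((P : Subgroup G) : Set G) with hNdef
  have hC' : Nat.card ↥C = 2 * m := hC
  have hN' : Nat.card ↥N = 4 * m := hN
  have hm0 : 0 < m := Nat.card_pos
  have hbotP : (P : Subgroup G) ≠ ⊥ → N ≠ ⊤ := by
    intro hP hT
    haveI := Subgroup.normalizer_eq_top_iff.1 hT
    rcases Subgroup.Normal.eq_bot_or_eq_top (H := (P : Subgroup G)) inferInstance with h | h
    · exact hP h
    · have : m = Nat.card G := by rw [hm, h, Subgroup.card_top]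
      have h2 := Subgroup.card_subgroup_dvd_card N
      rw [hN', ← this] at h2
      exact absurd (Nat.le_of_dvd hm0 h2) (by omega)
  -- `G` is not abelian
  have hnc : ¬ ∀ a b : G, a * b = b * a := by
    intro hab'
    letI : CommGroup G := { (inferInstance : Group G) with mul_comm := hab' }
    have hp : (Nat.card G).Prime := IsSimpleGroup.prime_card
    have h2 := Subgroup.card_subgroup_dvd_card N
    rw [hN'] at h2
    have h4 : 2 * 2 ∣ Nat.card G := (dvd_mul_right 4 m).trans h2
    have h5 := (Nat.prime_dvd_prime_iff_eq Nat.prime_two hp).1 ((dvd_mul_right 2 2).trans h4)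
    rw [← h5] at h4
    norm_num at h4
  have hP1 : (P : Subgroup G) ≠ ⊥ := by
    intro h
    have hT : N = ⊤ := by
      rw [hNdef, Subgroup.normalizer_eq_top_iff, h]; exact inferInstance
    have hG4 : Nat.card G = 2 ^ 2 := by
      rw [← Subgroup.card_top, ← hT, hN', hm, h, Subgroup.card_bot]; rfl
    haveI : Fact (Nat.Prime 2) := ⟨Nat.prime_two⟩
    exact hnc (IsPGroup.commutative_of_card_eq_prime_sq hG4)
  obtain ⟨a, ha⟩ := IsPGroup.iff_card.1 P.isPGroup'
  have hm3 : 3 ≤ m := by
    rcases a with _ | a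
    · exfalso; apply hP1
      exact Subgroup.eq_bot_of_card_eq _ (by rw [ha, pow_zero])
    · rw [← hm] at ha
      rw [ha]
      exact Nat.le_self_pow a.succ_ne_zero 3
  have hmodd : Odd m := by rw [hm, ha]; exact Odd.pow (by decide)
  have h2m : ¬ 2 ∣ m := fun h => Nat.not_even_iff_odd.2 hmodd (even_iff_two_dvd.2 h)
  have hNtop : N ≠ ⊤ := hbotP hP1
  have h3G : 3 ∣ Nat.card G := by
    refine dvd_trans ?_ (Subgroup.card_subgroup_dvd_card (P : Subgroup G))
    rcases a with _ | a
    · rw [pow_zero, ← hm] at ha; omega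
    · rw [ha]; exact dvd_pow_self 3 a.succ_ne_zero
  -- centres are trivial, centralizers of nontrivial elements are proper
  have hproper : ∀ g : G, g ≠ 1 → Subgroup.centralizer ({g} : Set G) ≠ ⊤ := by
    intro g hg h
    have hgc : g ∈ Subgroup.center G := Subgroup.mem_center_iff.2 fun x =>
      Subgroup.mem_centralizer_singleton_iff.1 (h ▸ Subgroup.mem_top x)
    rcases Subgroup.Normal.eq_bot_or_eq_top (H := Subgroup.center G) inferInstance with h1 | h1
    · rw [h1, Subgroup.mem_bot] at hgc; exact hg hgc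
    · exact hnc fun x y => Subgroup.mem_center_iff.1 (h1 ▸ Subgroup.mem_top y) x
  haveI : IsMulCommutative ↥(P : Subgroup G) := hab
  have hPC : (P : Subgroup G) ≤ C := fun x hx y hy =>
    congrArg Subtype.val (hab.is_comm.comm ⟨y, hy⟩ ⟨x, hx⟩)
  have hCN : C ≤ N := Subgroup.centralizer_le_normalizer _
  haveI : Fact (Nat.Prime 2) := ⟨Nat.prime_two⟩
  obtain ⟨⟨t, htC⟩, ht⟩ := exists_prime_orderOf_dvd_card' (G := ↥C) 2 (by rw [hC']; exact dvd_mul_right 2 m)
  rw [Subgroup.orderOf_mk] at ht
  have htt : t * t = 1 := by rw [← pow_two, ← ht, pow_orderOf_eq_one]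
  have ht1 : t ≠ 1 := fun h => by rw [h, orderOf_one] at ht; omega
  have htP : t ∉ (P : Subgroup G) := by
    intro h
    exact h2m (ht ▸ Subgroup.orderOf_dvd_natCard _ h)
  have hCidx : ((P : Subgroup G).subgroupOf C).index = 2 := by
    have e := Subgroup.card_mul_index ((P : Subgroup G).subgroupOf C)
    rw [Nat.card_congr (Subgroup.subgroupOfEquivOfLe hPC).toEquiv, hC', ← hm, mul_comm 2 m] at e
    exact Nat.eq_of_mul_eq_mul_left hm0 e
  -- `C = P ∪ P t`
  have hCdec : ∀ c ∈ C, c ∈ (P : Subgroup G) ∨ c * t ∈ (P : Subgroup G) := by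
    intro c hc
    by_cases h : c ∈ (P : Subgroup G)
    · exact Or.inl h
    · refine Or.inr ?_
      have := (Subgroup.mul_mem_iff_of_index_two hCidx (a := (⟨c, hc⟩ : ↥C)) (b := ⟨t, htC⟩)).2
        (iff_of_false (fun h' => h (Subgroup.mem_subgroupOf.1 h'))
          (fun h' => htP (Subgroup.mem_subgroupOf.1 h')))
      exact Subgroup.mem_subgroupOf.1 this
  have hCcomm : ∀ x ∈ C, ∀ y ∈ C, x * y = y * x := by
    have hPc : ∀ p ∈ (P : Subgroup G), ∀ y ∈ C, Commute p y := fun p hp y hy => hy p hp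
    have hmain : ∀ x ∈ C, ∀ y ∈ C, Commute x y := by
      intro x hx y hy
      rcases hCdec x hx with h | h
      · exact hPc x h y hy
      · rcases hCdec y hy with h' | h'
        · exact (hPc y h' x hx).symm
        · have e1 : x = x * t * t := by rw [mul_assoc, htt, mul_one]
          have e2 : y = y * t * t := by rw [mul_assoc, htt, mul_one]
          rw [e1, e2]
          exact Commute.mul_left
            (Commute.mul_right (hPc _ h _ (hPC h')) (hPc _ h _ htC))
            (Commute.mul_right (hPc _ h' _ htC).symm (Commute.refl t))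
    exact fun x hx y hy => (hmain x hx y hy).eq
  have huniq : ∀ u ∈ C, orderOf u = 2 → u = t := by
    intro u hu hu2
    have huP : u ∉ (P : Subgroup G) := fun h => h2m (hu2 ▸ Subgroup.orderOf_dvd_natCard _ h)
    have h1 : u * t ∈ (P : Subgroup G) := (hCdec u hu).resolve_left huP
    have h2 : (u * t) ^ 2 = 1 := by
      rw [(show Commute u t from hCcomm u hu t htC).mul_pow, pow_two t, htt, mul_one, ← hu2,
        pow_orderOf_eq_one]
    have h3 : orderOf (u * t) = 1 := Nat.eq_one_of_dvd_coprimes (Nat.coprime_two_left.2 hmodd)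
      (orderOf_dvd_iff_pow_eq_one.2 h2) (Subgroup.orderOf_dvd_natCard _ h1)
    have h4 := orderOf_eq_one_iff.1 h3
    rwa [mul_eq_one_iff_eq_inv, inv_eq_of_mul_eq_one_right htt] at h4
  -- the odd part of `C` is `P`
  have hPchar : ∀ c ∈ C, orderOf c ∣ m → c ∈ (P : Subgroup G) := by
    intro c hc hcm
    rcases hCdec c hc with h | h
    · exact h
    · exfalso
      have h1 : (c * t) ^ m = 1 := by
        have := pow_card_eq_one' (x := (⟨c * t, h⟩ : ↥(P : Subgroup G)))
        exact congrArg Subtype.val this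
      rw [(show Commute c t from hCcomm c hc t htC).mul_pow, orderOf_dvd_iff_pow_eq_one.1 hcm,
        one_mul, ← orderOf_dvd_iff_pow_eq_one, ht] at h1
      exact h2m h1
  have hNC : Subgroup.normalizer (C : Set G) ≤ N := by
    intro g hg
    rw [hNdef]
    have key : ∀ g ∈ Subgroup.normalizer (C : Set G), ∀ p ∈ (P : Subgroup G),
        g * p * g⁻¹ ∈ (P : Subgroup G) := fun g hg p hp => by
      refine hPchar _ ((Subgroup.mem_normalizer_iff.1 hg p).1 (hPC hp)) ?_
      rw [← MulAut.conj_apply, MulEquiv.orderOf_eq]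
      exact Subgroup.orderOf_dvd_natCard _ hp
    rw [Subgroup.mem_normalizer_iff]
    intro p
    refine ⟨key g hg p, fun h => ?_⟩
    simpa [mul_assoc] using key g⁻¹ (inv_mem hg) _ h
  have hconjC : ∀ g ∈ N, ∀ c ∈ C, g * c * g⁻¹ ∈ C := by
    intro g hg c hc p hp
    have h1 : g⁻¹ * p * g ∈ (P : Subgroup G) := by
      simpa using (Subgroup.mem_normalizer_iff.1 (N.inv_mem hg) p).1 hp
    have h2 := hc _ h1
    calc p * (g * c * g⁻¹) = g * (g⁻¹ * p * g * c) * g⁻¹ := by group
      _ = g * (c * (g⁻¹ * p * g)) * g⁻¹ := by rw [h2]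
      _ = g * c * g⁻¹ * p := by group
  have hTI' : ∀ c ∈ C, c ≠ 1 → ∀ g : G, g * c * g⁻¹ ∈ C → g ∈ N := by
    intro c hc hc1 g hg
    by_contra hgN
    exact hc1 (hTI g (fun h => hgN (hNC h)) c hc hg)
  -- `C(t) = N`
  have hNt : N ≤ Subgroup.centralizer ({t} : Set G) := by
    intro g hg
    rw [Subgroup.mem_centralizer_singleton_iff]
    exact mul_inv_eq_iff_eq_mul.1 (huniq _ (hconjC g hg t htC)
      (by rw [← MulAut.conj_apply, MulEquiv.orderOf_eq, ht]))
  have hCt : Subgroup.centralizer ({t} : Set G) = N := by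
    refine (Subgroup.eq_of_le_of_card_ge hNt ?_).symm
    rw [hN']
    refine Nat.le_of_dvd (by omega) (heven _ (hproper t ht1) ?_)
    rw [← ht]
    exact Subgroup.orderOf_dvd_natCard _ (Subgroup.mem_centralizer_singleton_iff.2 rfl)
  -- centralizers of the elements of `C` outside `⟨t⟩`
  have hcentP : ∀ c ∈ C, Subgroup.centralizer ({c} : Set G) ≠ ⊤ →
      Subgroup.centralizer ({c} : Set G) ≤ N := by
    intro c hc hne
    set D := Subgroup.centralizer ({c} : Set G) with hD
    have hCD : C ≤ D := fun x hx => Subgroup.mem_centralizer_singleton_iff.2 (hCcomm x hx c hc)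
    have h2 : 2 ∣ Nat.card ↥D := (dvd_mul_right 2 m).trans (hC' ▸ Subgroup.card_dvd_of_le hCD)
    have h4 := heven D hne h2
    by_cases hDC : D ≤ C
    · exact hDC.trans hCN
    · have h5 : (C.subgroupOf D).index = 2 := by
        have e := Subgroup.card_mul_index (C.subgroupOf D)
        rw [Nat.card_congr (Subgroup.subgroupOfEquivOfLe hCD).toEquiv, hC'] at e
        have hne1 : (C.subgroupOf D).index ≠ 1 := fun h => hDC (Subgroup.subgroupOf_eq_top.1
          (Subgroup.index_eq_one.1 h))
        rw [← e, show 4 * Nat.card ↥(P : Subgroup G) = 2 * m * 2 by rw [← hm]; ring] at h4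
        have h6 := Nat.dvd_of_mul_dvd_mul_left (by omega) h4
        exact ((Nat.dvd_prime Nat.prime_two).1 h6).resolve_left hne1
      haveI := Subgroup.normal_of_index_eq_two h5
      intro x hx
      apply hNC
      exact (Subgroup.normal_subgroupOf_iff_le_normalizer hCD).1 inferInstance hx
  -- a Sylow 2-subgroup is a Klein four group
  obtain ⟨S, htS, hSN⟩ : ∃ S : Sylow 2 G, t ∈ (S : Subgroup G) ∧ Nat.card ↥(S : Subgroup G) = 4 := by
    obtain ⟨S, hS⟩ := (IsPGroup.of_card (p := 2) (n := 1) (by rw [Nat.card_zpowers, ht, pow_one]) :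
      IsPGroup 2 ↥(Subgroup.zpowers t)).exists_le_sylow
    have htS : t ∈ (S : Subgroup G) := hS (Subgroup.mem_zpowers t)
    refine ⟨S, htS, ?_⟩
    obtain ⟨k, hk⟩ := IsPGroup.iff_card.1 S.isPGroup'
    have hne : (S : Subgroup G) ≠ ⊤ := by
      intro h
      rw [h, Subgroup.card_top] at hk
      have := (Nat.prime_dvd_prime_iff_eq Nat.prime_three Nat.prime_two).1
        (Nat.prime_three.dvd_of_dvd_pow (h3G.trans (dvd_of_eq hk)))
      omega
    have hd : 2 ∣ Nat.card ↥(S : Subgroup G) := (dvd_of_eq ht.symm).trans (Subgroup.orderOf_dvd_natCard _ htS)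
    have h1 := heven _ hne hd
    have h4 : 2 ^ 2 ∣ Nat.card ↥(S : Subgroup G) := S.pow_dvd_card_of_pow_dvd_card (by
      refine dvd_trans ?_ (Subgroup.card_subgroup_dvd_card N)
      rw [hN']; exact dvd_mul_right 4 m)
    rw [hk] at h1 h4 ⊢
    have hcop : Nat.Coprime (2 ^ k) m := Nat.Coprime.pow_left _ (Nat.coprime_two_left.2 hmodd)
    have h5 := hcop.dvd_of_dvd_mul_right (by rw [hm]; exact h1)
    exact Nat.dvd_antisymm h5 h4
  have hScomm : ∀ x y : ↥(S : Subgroup G), x * y = y * x :=
    IsPGroup.commutative_of_card_eq_prime_sq (p := 2) (by rw [hSN]; rfl)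
  have hnoTrans : ¬ Subgroup.normalizer ((S : Subgroup G) : Set G) ≤
      Subgroup.centralizer ((S : Subgroup G) : Set G) := by
    intro h
    have hcomp := MonoidHom.ker_transferSylow_isComplement' S h
    set K := (MonoidHom.transferSylow S h).ker
    rcases Subgroup.Normal.eq_bot_or_eq_top (H := K) inferInstance with h1 | h1
    · have hc := hcomp.card_mul
      rw [h1, Subgroup.card_bot, one_mul, hSN] at hc
      rw [← hc] at h3G
      norm_num at h3G
    · have hc := hcomp.card_mul
      rw [h1, Subgroup.card_top, hSN] at hc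
      have := Nat.card_pos (α := G)
      omega
  have hSexp : ∀ x ∈ (S : Subgroup G), x ^ 2 = 1 := by
    by_contra hcon
    apply hnoTrans
    push_neg at hcon
    obtain ⟨x, hx, hx2⟩ := hcon
    have hx4 : orderOf x = 2 ^ 2 := by
      have hd := Subgroup.orderOf_dvd_natCard _ hx
      rw [hSN, show (4 : ℕ) = 2 ^ 2 from rfl, Nat.dvd_prime_pow Nat.prime_two] at hd
      obtain ⟨i, hi, hxi⟩ := hd
      interval_cases i
      · exfalso; apply hx2
        have h1 : x = 1 := orderOf_eq_one_iff.1 (by rw [hxi]; rfl)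
        rw [h1, one_pow]
      · exfalso; apply hx2; rw [← orderOf_dvd_iff_pow_eq_one, hxi]; norm_num
      · exact hxi
    have hz : Subgroup.zpowers x = (S : Subgroup G) :=
      Subgroup.eq_of_le_of_card_ge (Subgroup.zpowers_le.2 hx) (by rw [hSN, Nat.card_zpowers, hx4]; rfl)
    intro g hg
    have hgx : g * x * g⁻¹ = x ∨ g * x * g⁻¹ = x⁻¹ := by
      obtain ⟨i, hi⟩ := Subgroup.mem_zpowers_iff.1
        (hz ▸ (Subgroup.mem_normalizer_iff.1 hg x).1 hx)
      rw [← hi]
      have hmod : x ^ i = x ^ (i % 4) := by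
        rw [zpow_eq_zpow_iff_modEq, hx4]; exact (Int.mod_modEq i 4).symm
      have hord : orderOf (x ^ i) = 2 ^ 2 := by
        rw [hi, ← MulAut.conj_apply, MulEquiv.orderOf_eq, hx4]
      have hx44 : x ^ (4 : ℤ) = 1 := by
        rw [show (4 : ℤ) = ((4 : ℕ) : ℤ) from rfl, zpow_natCast,
          show (4 : ℕ) = orderOf x by rw [hx4]; rfl, pow_orderOf_eq_one]
      have h0 : 0 ≤ i % 4 := Int.emod_nonneg _ (by norm_num)
      have h4 : i % 4 < 4 := Int.emod_lt_of_pos _ (by norm_num)
      rw [hmod] at hord ⊢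
      interval_cases h : i % 4
      · rw [zpow_zero, orderOf_one] at hord; norm_num at hord
      · exact Or.inl (zpow_one x)
      · exfalso
        have h22 : orderOf (x ^ (2 : ℤ)) ∣ 2 := by
          rw [orderOf_dvd_iff_pow_eq_one, ← zpow_natCast, ← zpow_mul]
          exact hx44
        rw [hord] at h22
        norm_num at h22
      · refine Or.inr ?_
        rw [eq_inv_iff_mul_eq_one, ← zpow_add_one]
        exact hx44
    rcases hgx with h | h
    · intro y hy
      obtain ⟨i, rfl⟩ := Subgroup.mem_zpowers_iff.1 (hz.symm ▸ hy : y ∈ Subgroup.zpowers x)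
      exact ((show Commute g x from mul_inv_eq_iff_eq_mul.1 h).zpow_right i).symm.eq
    · -- an element inverting `x` has even order: its 2-part lies in the abelian group `S`
      exfalso
      obtain ⟨e, o, ho, heo⟩ :=
        Nat.exists_eq_pow_mul_and_not_dvd (orderOf_pos g).ne' 2 (by norm_num)
      have hgo : g ^ o ∈ Subgroup.normalizer ((S : Subgroup G) : Set G) :=
        Subgroup.pow_mem _ hg o
      have hzp : IsPGroup 2 ↥(Subgroup.zpowers (g ^ o)) := by
        refine IsPGroup.of_card_dvd_pow (n := e) ?_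
        rw [Nat.card_zpowers, orderOf_dvd_iff_pow_eq_one, ← pow_mul, mul_comm, ← heo,
          pow_orderOf_eq_one]
      have hin : g ^ o ∈ (S : Subgroup G) := by
        have h2 := hzp.to_sup_of_normal_right' S.isPGroup' (Subgroup.zpowers_le.2 hgo)
        exact (le_sup_left.trans (S.is_maximal' h2 le_sup_right).le) (Subgroup.mem_zpowers _)
      have hcom : g ^ o * x = x * g ^ o := congrArg Subtype.val (hScomm ⟨_, hin⟩ ⟨x, hx⟩)
      obtain ⟨w, rfl⟩ : Odd o := Nat.not_even_iff_odd.1 fun h' => ho (even_iff_two_dvd.1 h')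
      have hiter : ∀ n : ℕ, g ^ (2 * n) * x * (g ^ (2 * n))⁻¹ = x := by
        intro n
        induction n with
        | zero => simp
        | succ n ih =>
          calc g ^ (2 * (n + 1)) * x * (g ^ (2 * (n + 1)))⁻¹
              = g * (g * (g ^ (2 * n) * x * (g ^ (2 * n))⁻¹) * g⁻¹) * g⁻¹ := by
                rw [show 2 * (n + 1) = 2 + 2 * n by ring, pow_add, pow_two]; group
            _ = g * x⁻¹ * g⁻¹ := by rw [ih, h]
            _ = (g * x * g⁻¹)⁻¹ := by group
            _ = x := by rw [h, inv_inv]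
      have hinvx : x = x⁻¹ := by
        calc x = g ^ (2 * w + 1) * x * (g ^ (2 * w + 1))⁻¹ := by rw [hcom, mul_inv_cancel_right]
          _ = g * (g ^ (2 * w) * x * (g ^ (2 * w))⁻¹) * g⁻¹ := by rw [pow_succ']; group
          _ = x⁻¹ := by rw [hiter, h]
      apply hx2
      rw [pow_two]; nth_rw 2 [hinvx]; exact mul_inv_cancel x
  -- all involutions are conjugate
  have hconj : ∀ u : G, orderOf u = 2 → IsConj t u := by
    obtain ⟨g, hg, s, hs, hgs⟩ : ∃ g ∈ Subgroup.normalizer ((S : Subgroup G) : Set G),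
        ∃ s ∈ (S : Subgroup G), g * s * g⁻¹ ≠ s := by
      by_contra hcon
      push_neg at hcon
      exact hnoTrans fun g hg s hs => (mul_inv_eq_iff_eq_mul.1 (hcon g hg s hs)).symm
    -- replace `g` by its part of odd order
    obtain ⟨e, o, ho, heo⟩ := Nat.exists_eq_pow_mul_and_not_dvd (orderOf_pos g).ne' 2 (by norm_num)
    have hgo : g ^ o ∈ Subgroup.normalizer ((S : Subgroup G) : Set G) := Subgroup.pow_mem _ hg o
    have hzp : IsPGroup 2 ↥(Subgroup.zpowers (g ^ o)) := by
      refine IsPGroup.of_card_dvd_pow (n := e) ?_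
      rw [Nat.card_zpowers, orderOf_dvd_iff_pow_eq_one, ← pow_mul, mul_comm, ← heo, pow_orderOf_eq_one]
    have hin : g ^ o ∈ (S : Subgroup G) := by
      have h2 := hzp.to_sup_of_normal_right' S.isPGroup' (Subgroup.zpowers_le.2 hgo)
      exact (le_sup_left.trans (S.is_maximal' h2 le_sup_right).le) (Subgroup.mem_zpowers _)
    set h := g ^ (2 ^ e) with hh
    have hho : orderOf h ∣ o := by
      rw [orderOf_dvd_iff_pow_eq_one, hh, ← pow_mul, ← heo, pow_orderOf_eq_one]
    have hhN : h ∈ Subgroup.normalizer ((S : Subgroup G) : Set G) := Subgroup.pow_mem _ hg _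
    have hhs : h * s * h⁻¹ ≠ s := by
      intro hc
      apply hgs
      have c1 : Commute (g ^ o) s := congrArg Subtype.val (hScomm ⟨_, hin⟩ ⟨s, hs⟩)
      have c2 : Commute h s := mul_inv_eq_iff_eq_mul.1 hc
      have hcop : Nat.Coprime (2 ^ e) o :=
        Nat.Coprime.pow_left _ ((Nat.Prime.coprime_iff_not_dvd Nat.prime_two).2 ho)
      have hb : g ^ ((2 ^ e : ℕ) * Nat.gcdA (2 ^ e) o + (o : ℕ) * Nat.gcdB (2 ^ e) o : ℤ) = g := by
        rw [← Nat.gcd_eq_gcd_ab, hcop.gcd_eq_one, Nat.cast_one, zpow_one]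
      have c3 : Commute g s := by
        rw [← hb, zpow_add, zpow_mul, zpow_mul, zpow_natCast, zpow_natCast]
        exact (c2.zpow_left _).mul_left (c1.zpow_left _)
      exact mul_inv_eq_iff_eq_mul.2 c3.eq
    have hS2 : ∀ x ∈ (S : Subgroup G), x ≠ 1 → orderOf x = 2 := fun x hx hx1 =>
      orderOf_eq_prime (hSexp x hx) hx1
    -- `s, h s h⁻¹, h² s h⁻²` are the three involutions of `S`
    set a' := h * s * h⁻¹ with ha'
    set b' := h * a' * h⁻¹ with hb'
    have hs1 : s ≠ 1 := fun hc => hhs (by rw [ha', hc, mul_one, mul_inv_cancel])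
    have haS : a' ∈ (S : Subgroup G) := (Subgroup.mem_normalizer_iff.1 hhN s).1 hs
    have hbS : b' ∈ (S : Subgroup G) := (Subgroup.mem_normalizer_iff.1 hhN a').1 haS
    have ha1 : a' ≠ 1 := by rw [ha', ne_eq, conj_eq_one_iff]; exact hs1
    have hb1 : b' ≠ 1 := by rw [hb', ne_eq, conj_eq_one_iff]; exact ha1
    have hab1 : a' ≠ b' := by
      intro hc
      apply hhs
      have e1 : h * s * h⁻¹ = h * a' * h⁻¹ := by rw [← ha', ← hb']; exact hc
      exact (mul_left_cancel (mul_right_cancel e1)).symm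
    have hsb : s ≠ b' := by
      intro hc
      obtain ⟨w, rfl⟩ : Odd o := Nat.not_even_iff_odd.1 fun h' => ho (even_iff_two_dvd.1 h')
      have hiter : ∀ n : ℕ, h ^ (2 * n) * s * (h ^ (2 * n))⁻¹ = s := by
        intro n
        induction n with
        | zero => simp
        | succ n ih =>
          calc h ^ (2 * (n + 1)) * s * (h ^ (2 * (n + 1)))⁻¹
              = h * (h * (h ^ (2 * n) * s * (h ^ (2 * n))⁻¹) * h⁻¹) * h⁻¹ := by
                rw [show 2 * (n + 1) = 2 + 2 * n by ring, pow_add, pow_two]; group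
            _ = s := by rw [ih, ← ha', ← hb', ← hc]
      apply hhs
      calc h * s * h⁻¹ = h * (h ^ (2 * w) * s * (h ^ (2 * w))⁻¹) * h⁻¹ := by rw [hiter]
        _ = h ^ (2 * w + 1) * s * (h ^ (2 * w + 1))⁻¹ := by rw [pow_succ']; group
        _ = s := by rw [orderOf_dvd_iff_pow_eq_one.1 hho]; simp
    have hall : ∀ x ∈ (S : Subgroup G), x ≠ 1 → x = s ∨ x = a' ∨ x = b' := by
      intro x hx hx1
      by_contra hcon
      push_neg at hcon
      let F : Finset G := {1, s, a', b', x}
      have hF : F.card = 5 := by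
        simp [F, hs1.symm, ha1.symm, hb1.symm, hx1.symm, Ne.symm hhs, hsb, hab1,
          hcon.1.symm, hcon.2.1.symm, hcon.2.2.symm]
      have hsub : F ⊆ (Finset.univ.filter fun y : G => y ∈ (S : Subgroup G)) := by
        intro y hy
        simp only [F, Finset.mem_insert, Finset.mem_singleton] at hy
        simp only [Finset.mem_filter, Finset.mem_univ, true_and]
        rcases hy with rfl | rfl | rfl | rfl | rfl <;> first | exact one_mem _ | assumption
      have := Finset.card_le_card hsub
      rw [hF, ← Fintype.card_subtype, ← Nat.card_eq_fintype_card] at this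
      change 5 ≤ Nat.card ↥(S : Subgroup G) at this
      omega
    have hsa : IsConj s a' := isConj_iff.2 ⟨h, rfl⟩
    have hsb' : IsConj s b' := hsa.trans (isConj_iff.2 ⟨h, rfl⟩)
    have hsS : ∀ x ∈ (S : Subgroup G), x ≠ 1 → IsConj s x := by
      intro x hx hx1
      rcases hall x hx hx1 with rfl | rfl | rfl
      · exact IsConj.refl _
      · exact hsa
      · exact hsb'
    intro u hu
    obtain ⟨T, hT⟩ := (IsPGroup.of_card (p := 2) (n := 1) (by rw [Nat.card_zpowers, hu, pow_one]) :
      IsPGroup 2 ↥(Subgroup.zpowers u)).exists_le_sylow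
    obtain ⟨c, rfl⟩ := MulAction.exists_smul_eq G S T
    have huS : c⁻¹ * u * c ∈ (S : Subgroup G) := by
      have h1 : u ∈ MulAut.conj c • (S : Subgroup G) := hT (Subgroup.mem_zpowers u)
      rw [Subgroup.mem_pointwise_smul_iff_inv_smul_mem, ← map_inv, MulAut.smul_def,
        MulAut.conj_apply, inv_inv] at h1
      exact h1
    have hne : c⁻¹ * u * c ≠ 1 := by
      intro h1
      have h2 : orderOf (c⁻¹ * u * c⁻¹⁻¹) = 2 := by
        rw [← MulAut.conj_apply, MulEquiv.orderOf_eq, hu]
      rw [inv_inv, h1, orderOf_one] at h2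
      omega
    exact ((hsS t htS ht1).symm.trans (hsS _ huS hne)).trans (isConj_iff.2 ⟨c, by group⟩)
  -- an involution of `N` outside `C` inverts `C`
  obtain ⟨u, huS, huC, hu2⟩ : ∃ u, u ∈ (S : Subgroup G) ∧ u ∉ C ∧ orderOf u = 2 := by
    by_contra hcon
    push_neg at hcon
    have hsub : ∀ x ∈ (S : Subgroup G), x = 1 ∨ x = t := by
      intro x hx
      by_cases hx1 : x = 1
      · exact Or.inl hx1
      · have hxo := orderOf_eq_prime (hSexp x hx) hx1
        by_cases hxC : x ∈ C
        · exact Or.inr (huniq x hxC hxo)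
        · exact absurd hxo (hcon x hx hxC)
    have hle : (Finset.univ.filter fun y : G => y ∈ (S : Subgroup G)).card ≤ ({1, t} : Finset G).card := by
      refine Finset.card_le_card fun y hy => ?_
      simp only [Finset.mem_filter, Finset.mem_univ, true_and] at hy
      simpa using hsub y hy
    rw [← Fintype.card_subtype, ← Nat.card_eq_fintype_card] at hle
    change Nat.card ↥(S : Subgroup G) ≤ _ at hle
    rw [hSN] at hle
    exact absurd (hle.trans Finset.card_le_two) (by omega)
  have huu : u * u = 1 := by rw [← pow_two]; exact hSexp u huS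
  have hut : Commute u t := congrArg Subtype.val (hScomm ⟨u, huS⟩ ⟨t, htS⟩)
  have huN : u ∈ N := hCt ▸ Subgroup.mem_centralizer_singleton_iff.2 hut.eq
  -- `u` is fixed-point-free on `P`
  let ψ : ↥(P : Subgroup G) →* ↥(P : Subgroup G) :=
    { toFun := fun g => ⟨u * g.1 * u⁻¹, (Subgroup.mem_normalizer_iff.1 huN _).1 g.2⟩
      map_one' := Subtype.ext (by simp)
      map_mul' := fun a b => Subtype.ext (by simp [mul_assoc]) }
  have hψ : MonoidHom.FixedPointFree ψ := by
    rintro ⟨x, hx⟩ hfix
    by_contra hne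
    have hx1 : x ≠ 1 := fun h => hne (Subtype.ext h)
    have hux : Commute u x := mul_inv_eq_iff_eq_mul.1 (congrArg Subtype.val hfix)
    obtain ⟨g, hg⟩ := isConj_iff.1 (hconj u hu2)
    -- `g⁻¹ x g` lies in `N = C(t)`, hence in `P`
    have hxN : g⁻¹ * x * g ∈ N := by
      rw [← hCt, Subgroup.mem_centralizer_singleton_iff]
      rw [← hg] at hux
      calc g⁻¹ * x * g * t = g⁻¹ * (x * (g * t * g⁻¹)) * g := by group
        _ = g⁻¹ * (g * t * g⁻¹ * x) * g := by rw [hux.eq]
        _ = t * (g⁻¹ * x * g) := by group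
    obtain ⟨i, hi⟩ := IsPGroup.iff_orderOf.1 P.isPGroup' ⟨x, hx⟩
    rw [Subgroup.orderOf_mk] at hi
    have hxP : g⁻¹ * x * g ∈ (P : Subgroup G) := by
      have hz : IsPGroup 3 ↥(Subgroup.zpowers (g⁻¹ * x * g)) := by
        refine IsPGroup.of_card (n := i) ?_
        have e : g⁻¹ * x * g = MulAut.conj g⁻¹ x := by simp
        rw [Nat.card_zpowers, e, MulEquiv.orderOf_eq, hi]
      have h2 := hz.to_sup_of_normal_right' P.isPGroup' (Subgroup.zpowers_le.2 hxN)
      exact (le_sup_left.trans (P.is_maximal' h2 le_sup_right).le) (Subgroup.mem_zpowers _)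
    have hgN : g ∈ N := by
      refine hTI' (g⁻¹ * x * g) (hPC hxP) ?_ g ?_
      · intro h1
        apply hx1
        calc x = g * (g⁻¹ * x * g) * g⁻¹ := by group
          _ = 1 := by rw [h1]; group
      · rw [show g * (g⁻¹ * x * g) * g⁻¹ = x by group]; exact hPC hx
    apply huC
    rw [← hg, mul_inv_eq_of_eq_mul (Subgroup.mem_centralizer_singleton_iff.1 (hCt.symm ▸ hgN))]
    exact htC
  have hψ2 : Function.Involutive ψ := by
    intro g
    refine Subtype.ext ?_
    change u * (u * g.1 * u⁻¹) * u⁻¹ = g.1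
    rw [inv_eq_of_mul_eq_one_right huu]
    calc u * (u * g.1 * u) * u = u * u * g.1 * (u * u) := by group
      _ = g.1 := by rw [huu]; simp
  have huinvP : ∀ x ∈ (P : Subgroup G), u * x * u⁻¹ = x⁻¹ := fun x hx =>
    congrArg Subtype.val (congrFun (hψ.coe_eq_inv_of_involutive hψ2) ⟨x, hx⟩)
  have huinv : ∀ c ∈ C, u * c * u⁻¹ = c⁻¹ := by
    intro c hc
    rcases hCdec c hc with h | h
    · exact huinvP c h
    · have hut' : u * t * u⁻¹ = t := by rw [hut.eq, mul_inv_cancel_right]
      have h1 := huinvP _ h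
      have e : u * c * u⁻¹ = u * (c * t) * u⁻¹ * (u * t * u⁻¹) := by
        calc u * c * u⁻¹ = u * (c * (t * t)) * u⁻¹ := by rw [htt, mul_one]
          _ = u * (c * t) * u⁻¹ * (u * t * u⁻¹) := by group
      rw [e, h1, hut', mul_inv_rev, inv_eq_of_mul_eq_one_right htt, mul_assoc,
        hCcomm c⁻¹ (C.inv_mem hc) t htC, ← mul_assoc, htt, one_mul]
  have hCidx2 : (C.subgroupOf N).index = 2 := by
    have e := Subgroup.card_mul_index (C.subgroupOf N)
    rw [Nat.card_congr (Subgroup.subgroupOfEquivOfLe hCN).toEquiv, hC', hN'] at e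
    exact Nat.eq_of_mul_eq_mul_left (show 0 < 2 * m by omega) (e.trans (by ring))
  have hNdec : ∀ g ∈ N, g ∉ C → g * u ∈ C := by
    intro g hg hgC
    have := (Subgroup.mul_mem_iff_of_index_two hCidx2 (a := (⟨g, hg⟩ : ↥N)) (b := ⟨u, huN⟩)).2
      (iff_of_false (fun h' => hgC (Subgroup.mem_subgroupOf.1 h'))
        (fun h' => huC (Subgroup.mem_subgroupOf.1 h')))
    exact Subgroup.mem_subgroupOf.1 this
  have hinvN : ∀ g ∈ N, g ∉ C → ∀ c ∈ C, g * c * g⁻¹ = c⁻¹ := by
    intro g hg hgC c hc
    have hk := hNdec g hg hgC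
    have e : g * c * g⁻¹ = g * u * (u⁻¹ * c * u) * (g * u)⁻¹ := by group
    have h1 : u⁻¹ * c * u = c⁻¹ := by
      have := huinv c hc
      rwa [inv_eq_of_mul_eq_one_right huu] at this ⊢
    rw [e, h1, hCcomm _ hk _ (C.inv_mem hc), mul_inv_cancel_right]
  have hcentKt : ∀ k ∈ C, k ≠ 1 → k ≠ t → ∀ g ∈ Subgroup.centralizer ({k} : Set G), g ∈ C := by
    intro k hk hk1 hkt g hg
    have hgN : g ∈ N := hcentP k hk (hproper k hk1) hg
    by_contra hgC
    have h1 := hinvN g hgN hgC k hk
    rw [mul_inv_eq_of_eq_mul (Subgroup.mem_centralizer_singleton_iff.1 hg)] at h1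
    have hk2 : k ^ 2 = 1 := by rw [pow_two]; nth_rw 2 [h1]; exact mul_inv_cancel k
    exact hkt (huniq k hk (orderOf_eq_prime hk2 hk1))
  refine CfsgLib.FgsSix.ti_count_false t C m hm3 hmodd htC ht
    ⟨⟨fun x y => Subtype.ext (hCcomm x x.2 y y.2)⟩⟩ hC' (hCt ▸ hN') ?_ ?_ hconj ?_ ?_
  · intro g hg k hk
    rw [hCt] at hg
    exact ⟨fun hgC => by rw [hCcomm g hgC k hk, mul_inv_cancel_right], fun hgC => hinvN g hg hgC k hk⟩
  · intro k hk hk1 g hg
    rw [hCt]; exact hTI' k hk hk1 g hg
  · -- involutions whose product with `k` is an involution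
    intro k hk hk1
    have hfilt : (Finset.univ.filter fun v : G => orderOf v = 2 ∧ orderOf (v * k) = 2) =
        Finset.univ.filter (fun v : G => v ∈ N ∧ v ∉ C) := by
      ext v
      simp only [Finset.mem_filter, Finset.mem_univ, true_and]
      constructor
      · rintro ⟨hv, hvk⟩
        have hvv : v * v = 1 := by rw [← pow_two, ← hv, pow_orderOf_eq_one]
        have hvkk : v * k * (v * k) = 1 := by rw [← pow_two, ← hvk, pow_orderOf_eq_one]
        have hinvk : v * k * v⁻¹ = k⁻¹ := by
          rw [inv_eq_of_mul_eq_one_right hvv, eq_inv_iff_mul_eq_one, mul_assoc]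
          exact hvkk
        have hvN : v ∈ N := hTI' k hk hk1 v (hinvk ▸ C.inv_mem hk)
        refine ⟨hvN, fun hvC => ?_⟩
        obtain rfl := huniq v hvC hv
        rw [hCcomm _ hvC k hk, mul_inv_cancel_right] at hinvk
        have hk2 : k ^ 2 = 1 := by rw [pow_two]; nth_rw 2 [hinvk]; exact mul_inv_cancel k
        rw [huniq k hk (orderOf_eq_prime hk2 hk1), hvv, orderOf_one] at hvk
        omega
      · rintro ⟨hvN, hvC⟩
        have hinvol : ∀ w ∈ N, w ∉ C → orderOf w = 2 := by
          intro w hw hwC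
          have hk' := hNdec w hw hwC
          refine orderOf_eq_prime ?_ (fun h => hwC (h ▸ C.one_mem))
          have h1 := huinv _ hk'
          rw [inv_eq_of_mul_eq_one_right huu] at h1
          calc w ^ 2 = w * u * (u * (w * u) * u) := by
                rw [pow_two]
                calc w * w = w * (u * u) * w * (u * u) := by rw [huu]; simp
                  _ = _ := by group
            _ = 1 := by rw [h1, mul_inv_cancel]
        refine ⟨hinvol v hvN hvC, hinvol _ (N.mul_mem hvN (hCN hk)) fun h => hvC ?_⟩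
        simpa using C.mul_mem h (C.inv_mem hk)
    rw [hfilt]
    have c1 : (Finset.univ.filter fun x : G => x ∈ N).card = 4 * m := by
      rw [← hN', Nat.card_eq_fintype_card, Fintype.card_subtype]
    have c4 := Finset.card_filter_add_card_filter_not
      (s := Finset.univ.filter fun x : G => x ∈ N) (fun x => x ∈ C)
    rw [c1, Finset.filter_filter, Finset.filter_filter] at c4
    have c5 : (Finset.univ.filter fun x : G => x ∈ N ∧ x ∈ C).card = 2 * m := by
      rw [← hC', Nat.card_eq_fintype_card, Fintype.card_subtype]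
      congr 1; ext x
      simp only [Finset.mem_filter, Finset.mem_univ, true_and]
      exact ⟨And.right, fun h => ⟨hCN h, h⟩⟩
    omega
  · -- products of two involutions
    rintro z hz1 ⟨v, hv, hvz⟩
    have hvv : v * v = 1 := by rw [← pow_two, ← hv, pow_orderOf_eq_one]
    have hvzz : v * z * (v * z) = 1 := by rw [← pow_two, ← hvz, pow_orderOf_eq_one]
    have hinvz : v * z * v⁻¹ = z⁻¹ := by
      rw [inv_eq_of_mul_eq_one_right hvv, eq_inv_iff_mul_eq_one, mul_assoc]
      exact hvzz
    by_cases hz2 : z ^ 2 = 1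
    · obtain ⟨g, hg⟩ := isConj_iff.1 (hconj z (orderOf_eq_prime hz2 hz1))
      exact ⟨g⁻¹, by rw [← hg]; simpa [mul_assoc] using htC⟩
    set H := Subgroup.normalizer ((Subgroup.zpowers z : Subgroup G) : Set G) with hH
    have hvH : v ∈ H := by
      have key : ∀ w ∈ Subgroup.zpowers z, v * w * v⁻¹ ∈ Subgroup.zpowers z := by
        intro w hw
        obtain ⟨i, rfl⟩ := Subgroup.mem_zpowers_iff.1 hw
        rw [← conj_zpow, hinvz, inv_zpow]
        exact inv_mem (zpow_mem (Subgroup.mem_zpowers z) i)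
      rw [hH, Subgroup.mem_normalizer_iff]
      intro w
      refine ⟨key w, fun h => ?_⟩
      have := key _ h
      rw [inv_eq_of_mul_eq_one_right hvv] at this
      have e : v * (v * w * v) * v = w := by
        calc v * (v * w * v) * v = v * v * w * (v * v) := by group
          _ = w := by rw [hvv]; simp
      rwa [e] at this
    have hHne : H ≠ ⊤ := by
      intro h
      haveI := Subgroup.normalizer_eq_top_iff.1 h
      rcases Subgroup.Normal.eq_bot_or_eq_top (H := Subgroup.zpowers z) inferInstance with h1 | h1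
      · exact hz1 (Subgroup.zpowers_eq_bot.1 h1)
      · exact hnc fun x y => by
          obtain ⟨i, rfl⟩ := Subgroup.mem_zpowers_iff.1 (h1 ▸ Subgroup.mem_top x)
          obtain ⟨j, rfl⟩ := Subgroup.mem_zpowers_iff.1 (h1 ▸ Subgroup.mem_top y)
          exact (Commute.zpow_zpow_self z i j).eq
    have hz4 : orderOf z ∣ 4 * m :=
      (Subgroup.orderOf_dvd_natCard _
          (Subgroup.le_normalizer (Subgroup.mem_zpowers z) : z ∈ H)).trans
        (heven H hHne (hv ▸ Subgroup.orderOf_dvd_natCard _ hvH))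
    -- no element of order 4, so the square of `z` is a 3-element
    have hzm : (z ^ 2) ^ m = 1 := by
      have h4 : ((z ^ m) ^ 2) ^ 2 = 1 := by
        rw [← pow_mul, ← pow_mul, ← orderOf_dvd_iff_pow_eq_one]
        refine hz4.trans (dvd_of_eq ?_); ring
      obtain ⟨T, hT⟩ := (IsPGroup.of_card_dvd_pow (p := 2) (n := 2) (by
        rw [Nat.card_zpowers, orderOf_dvd_iff_pow_eq_one, show (2 : ℕ) ^ 2 = 2 * 2 from rfl, pow_mul]
        exact h4) : IsPGroup 2 ↥(Subgroup.zpowers (z ^ m))).exists_le_sylow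
      obtain ⟨c, rfl⟩ := MulAction.exists_smul_eq G S T
      have h1 : z ^ m ∈ MulAut.conj c • (S : Subgroup G) := hT (Subgroup.mem_zpowers _)
      rw [Subgroup.mem_pointwise_smul_iff_inv_smul_mem, ← map_inv, MulAut.smul_def,
        MulAut.conj_apply, inv_inv] at h1
      have h2 := hSexp _ h1
      rw [← pow_mul, mul_comm, pow_mul]
      calc (z ^ m) ^ 2 = c * (c⁻¹ * z ^ m * c) ^ 2 * c⁻¹ := by rw [pow_two, pow_two]; group
        _ = 1 := by rw [h2]; group
    obtain ⟨T, hT⟩ := (IsPGroup.of_card_dvd_pow (p := 3) (n := a) (by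
      rw [Nat.card_zpowers, orderOf_dvd_iff_pow_eq_one, ← ha, ← hm]
      exact hzm) : IsPGroup 3 ↥(Subgroup.zpowers (z ^ 2))).exists_le_sylow
    obtain ⟨c, rfl⟩ := MulAction.exists_smul_eq G P T
    have h1 : z ^ 2 ∈ MulAut.conj c • (P : Subgroup G) := hT (Subgroup.mem_zpowers _)
    rw [Subgroup.mem_pointwise_smul_iff_inv_smul_mem, ← map_inv, MulAut.smul_def,
      MulAut.conj_apply, inv_inv] at h1
    refine ⟨c⁻¹, ?_⟩
    rw [inv_inv]
    have hw1 : c⁻¹ * z ^ 2 * c ≠ 1 := by
      intro h2
      apply hz2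
      calc z ^ 2 = c * (c⁻¹ * z ^ 2 * c) * c⁻¹ := by group
        _ = 1 := by rw [h2]; group
    refine hcentKt _ (hPC h1) hw1 (fun h2 => htP (h2 ▸ h1)) _ ?_
    rw [Subgroup.mem_centralizer_singleton_iff, pow_two]
    group

end Cfsg.Agent.S4018
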