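import Cfsg.Statements.S4021
import Cfsg.Agent.DualFree.Classify

set_option autoImplicit false
set_option linter.style.haveILetI false
open Cfsg

namespace Cfsg.Agent.S4021

/-- Let G be a finite group in which any two subgroups of the same order are conjugate. Then G/O(G), O(G) the largest normal subgroup of odd order, is one of: a cyclic 2-group; the one-dimensional affine group over the field with 8 elements; the one-dimensional semi-affine group over the field with 8 or with 32 elements; PSL₂(8); the full automorphism group of PSL₂(32); the alternating group of degree 4 or 5; SL₂(3); or SL₂(5). -/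
theorem result {G : Type*} [Group G] [Finite G]
    (hC : ∀ H K : Subgroup G, Nat.card H = Nat.card K → ∃ g : G, K = H.map (MulAut.conj g).toMonoidHom) :
    (IsCyclic (G ⧸ Cfsg.oddCore G) ∧ IsPGroup 2 (G ⧸ Cfsg.oddCore G)) ∨
    Nonempty (G ⧸ Cfsg.oddCore G ≃* Cfsg.affineGroup (GaloisField 2 3)) ∨
    Nonempty (G ⧸ Cfsg.oddCore G ≃* Cfsg.semiaffineGroup (GaloisField 2 3)) ∨
    Nonempty (G ⧸ Cfsg.oddCore G ≃* Cfsg.semiaffineGroup (GaloisField 2 5)) ∨
    Nonempty (G ⧸ Cfsg.oddCore G ≃* Matrix.ProjectiveSpecialLinearGroup (Fin 2) (GaloisField 2 3)) ∨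
    Nonempty (G ⧸ Cfsg.oddCore G ≃* MulAut (Matrix.ProjectiveSpecialLinearGroup (Fin 2) (GaloisField 2 5))) ∨
    Nonempty (G ⧸ Cfsg.oddCore G ≃* alternatingGroup (Fin 4)) ∨
    Nonempty (G ⧸ Cfsg.oddCore G ≃* alternatingGroup (Fin 5)) ∨
    Nonempty (G ⧸ Cfsg.oddCore G ≃* Matrix.SpecialLinearGroup (Fin 2) (ZMod 3)) ∨
    Nonempty (G ⧸ Cfsg.oddCore G ≃* Matrix.SpecialLinearGroup (Fin 2) (ZMod 5)) := by
  haveI : Fact (Nat.Prime 2) := ⟨Nat.prime_two⟩
  have hQ : CfsgLib.DualFree.AllConj (G ⧸ Cfsg.oddCore G) :=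
    CfsgLib.DualFree.AllConj.quotient (G := G) hC _
  have hO : Cfsg.oddCore (G ⧸ Cfsg.oddCore G) = ⊥ :=
    CfsgLib.PLocal.pPrimeCore_quotient_pPrimeCore_eq_bot 2 G
  obtain ⟨E⟩ : Nonempty (Sylow 2 (G ⧸ Cfsg.oddCore G)) := Sylow.nonempty
  rcases Cfsg.Agent.S4020.result hQ.pgroup E with hc | hel | he
  · left
    have htop := CfsgLib.DualFree.eq_top_of_cyclic hO E hc
    haveI : IsCyclic (E : Subgroup (G ⧸ Cfsg.oddCore G)) := hc
    refine ⟨isCyclic_of_surjective
      (E : Subgroup (G ⧸ Cfsg.oddCore G)).subtype fun g => ⟨⟨g, htop ▸ Subgroup.mem_top g⟩, rfl⟩, ?_⟩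
    intro g
    obtain ⟨k, hk⟩ := E.isPGroup' ⟨g, htop ▸ Subgroup.mem_top g⟩
    exact ⟨k, congrArg Subtype.val hk⟩
  · obtain ⟨n, hn⟩ := IsPGroup.iff_card.1 E.isPGroup'
    rcases Nat.lt_or_ge n 3 with hlt | hge
    · rcases Nat.lt_or_ge n 2 with h1 | h2
      · left
        haveI : IsCyclic (E : Subgroup (G ⧸ Cfsg.oddCore G)) := by
          interval_cases n
          · rw [pow_zero, Subgroup.card_eq_one] at hn
            rw [hn]; infer_instance
          · exact isCyclic_of_prime_card (p := 2) (by rw [hn, pow_one])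
        have htop := CfsgLib.DualFree.eq_top_of_cyclic hO E inferInstance
        refine ⟨isCyclic_of_surjective
          (E : Subgroup (G ⧸ Cfsg.oddCore G)).subtype fun g => ⟨⟨g, htop ▸ Subgroup.mem_top g⟩, rfl⟩, ?_⟩
        intro g
        obtain ⟨k, hk⟩ := E.isPGroup' ⟨g, htop ▸ Subgroup.mem_top g⟩
        exact ⟨k, congrArg Subtype.val hk⟩
      · obtain rfl : n = 2 := by omega
        rcases CfsgLib.DualFree.four_case hQ hO E hel hn with ⟨-, h4⟩ | ⟨-, -, h5⟩
        · exact Or.inr (Or.inr (Or.inr (Or.inr (Or.inr (Or.inr (Or.inl h4))))))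
        · exact Or.inr (Or.inr (Or.inr (Or.inr (Or.inr (Or.inr (Or.inr (Or.inl h5)))))))
    · rcases CfsgLib.DualFree.big_case hQ hO E hel n hge hn with h | h | h | h | h
      · exact Or.inr (Or.inl h)
      · exact Or.inr (Or.inr (Or.inl h))
      · exact Or.inr (Or.inr (Or.inr (Or.inl h)))
      · exact Or.inr (Or.inr (Or.inr (Or.inr (Or.inl h))))
      · exact Or.inr (Or.inr (Or.inr (Or.inr (Or.inr (Or.inl h)))))
  · obtain ⟨e⟩ := he
    rcases CfsgLib.DualFree.quaternion_case hQ hO E e with h | h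
    · exact Or.inr (Or.inr (Or.inr (Or.inr (Or.inr (Or.inr (Or.inr (Or.inr (Or.inl h))))))))
    · exact Or.inr (Or.inr (Or.inr (Or.inr (Or.inr (Or.inr (Or.inr (Or.inr (Or.inr h))))))))

end Cfsg.Agent.S4021
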