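import Mathlib
import Cfsg.Statements.S4023
import Cfsg.Agent.TwoGroupsQ.UniqueInvolution
import Cfsg.Agent.Transfer.RankTwoNormal
import Cfsg.Agent.Solvable.Nilpotent
-- import your own Cfsg.Agent.* helpers here

set_option autoImplicit false
open Cfsg

namespace Cfsg.Agent.S4023

variable {P : Type*} [Group P] [Finite P] {p : ℕ} [Fact p.Prime]

theorem card_zpowers_sup {A : Subgroup P} {g : P} (hg : g ∉ A) (hgp : g ^ p = 1)
    (hN : g ∈ Subgroup.normalizer (A : Set P)) :
    Nat.card ↥(A ⊔ Subgroup.zpowers g) = Nat.card ↥A * p := by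
  have hp : p.Prime := Fact.out
  have ho : orderOf g = p := orderOf_eq_prime hgp (fun h => hg (h ▸ A.one_mem))
  have hdis : A ⊓ Subgroup.zpowers g = ⊥ := by
    refine (Subgroup.eq_bot_iff_forall _).2 fun x hx => ?_
    obtain ⟨hxA, hxg⟩ := hx
    by_contra hx1
    have hxo : orderOf x = p := by
      have := orderOf_dvd_iff_zpow_eq_one (x := x) (i := (p : ℤ))
      obtain ⟨i, rfl⟩ := Subgroup.mem_zpowers_iff.1 hxg
      refine orderOf_eq_prime ?_ hx1
      rw [← zpow_natCast, ← zpow_mul, mul_comm, zpow_mul, zpow_natCast, hgp, one_zpow]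
    have he : Subgroup.zpowers x = Subgroup.zpowers g :=
      Subgroup.eq_of_le_of_card_ge (Subgroup.zpowers_le.2 hxg)
        (by rw [Nat.card_zpowers, Nat.card_zpowers, ho, hxo])
    exact hg (Subgroup.zpowers_le.2 hxA (he ▸ Subgroup.mem_zpowers g))
  set L := A ⊔ Subgroup.zpowers g
  have hle : L ≤ Subgroup.normalizer (A : Set P) := sup_le Subgroup.le_normalizer (Subgroup.zpowers_le.2 hN)
  have hmem : ∀ x ∈ L, ∃ a ∈ A, ∃ b ∈ Subgroup.zpowers g, a * b = x := by
    intro x hx
    have h := Subgroup.coe_mul_of_right_le_normalizer_left A (Subgroup.zpowers g) (Subgroup.zpowers_le.2 hN)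
    rw [← SetLike.mem_coe, h] at hx
    exact hx
  have hb : Function.Bijective (fun w : ↥A × ↥(Subgroup.zpowers g) =>
      (⟨w.1 * w.2, L.mul_mem (Subgroup.mem_sup_left w.1.2) (Subgroup.mem_sup_right w.2.2)⟩ : ↥L)) := by
    constructor
    · intro v w h
      exact Subgroup.mul_injective_of_disjoint (disjoint_iff.2 hdis) (congrArg Subtype.val h)
    · rintro ⟨x, hx⟩
      obtain ⟨a, ha, b, hb, rfl⟩ := hmem x hx
      exact ⟨(⟨a, ha⟩, ⟨b, hb⟩), rfl⟩
  rw [← Nat.card_eq_of_bijective _ hb, Nat.card_prod, Nat.card_zpowers, ho]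

theorem comm_sup {A : Subgroup P} (hA : ∀ a ∈ A, ∀ b ∈ A, a * b = b * a) {g : P}
    (hg : ∀ a ∈ A, g * a = a * g) :
    IsMulCommutative ↥(A ⊔ Subgroup.zpowers g) := by
  rw [← Subgroup.le_centralizer_iff_isMulCommutative]
  have hA' : A ⊔ Subgroup.zpowers g ≤ Subgroup.centralizer ((A : Set P)) :=
    sup_le (fun a ha b hb => hA b hb a ha) (Subgroup.zpowers_le.2 fun a ha => (hg a ha).symm)
  have hg' : A ⊔ Subgroup.zpowers g ≤ Subgroup.centralizer ({g} : Set P) :=
    sup_le (fun a ha => Subgroup.mem_centralizer_singleton_iff.2 (hg a ha).symm)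
      (Subgroup.zpowers_le.2 (Subgroup.mem_centralizer_singleton_iff.2 rfl))
  have h1 : A ⊔ Subgroup.zpowers g ≤ Subgroup.centralizer ((A ⊔ Subgroup.zpowers g : Subgroup P) : Set P) := by
    refine sup_le (fun a ha x hx => ?_) (Subgroup.zpowers_le.2 fun x hx => ?_)
    · exact (hA' hx a ha).symm
    · exact Subgroup.mem_centralizer_singleton_iff.1 (hg' hx)
  exact h1

/-- A `p`-group in which subgroups of equal order are isomorphic. -/
theorem cases_of_iso (hP : IsPGroup p P)
    (hI : ∀ A B : Subgroup P, Nat.card A = Nat.card B → Nonempty (↥A ≃* ↥B)) :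
    IsCyclic P ∨ (IsMulCommutative P ∧ ∀ a : P, a ^ p = 1) ∨
      (p = 2 ∧ Nonempty (P ≃* QuaternionGroup 2)) ∨
      (p ≠ 2 ∧ ¬ IsMulCommutative P ∧ Nat.card P = p ^ 3 ∧ Monoid.exponent P = p) := by
  have hp : p.Prime := Fact.out
  by_cases hcyc : IsCyclic P
  · exact Or.inl hcyc
  obtain ⟨n, hn⟩ := IsPGroup.iff_card.1 hP
  have hsub : ∀ {A : Subgroup P}, IsCyclic ↥A → ∀ B : Subgroup P, Nat.card A = Nat.card B → IsCyclic ↥B := by
    intro A hA B h
    obtain ⟨e⟩ := hI A B h
    exact isCyclic_of_surjective e.toMonoidHom e.surjective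
  have hexp : (∃ E : Subgroup P, Nat.card E = p ^ 2 ∧ ¬ IsCyclic ↥E) → ∀ a : P, a ^ p = 1 := by
    rintro ⟨E, hE, hEnc⟩ a
    obtain ⟨j, hj⟩ := IsPGroup.iff_orderOf.1 hP a
    by_cases hj1 : j ≤ 1
    · exact orderOf_dvd_iff_pow_eq_one.1 (hj ▸ (pow_dvd_pow p hj1).trans (pow_one p).dvd)
    · exfalso
      have ho : orderOf (a ^ p ^ (j - 2)) = p ^ 2 := by
        rw [orderOf_pow' _ (pow_ne_zero _ hp.ne_zero), hj, Nat.gcd_eq_right (pow_dvd_pow p (Nat.sub_le j 2)),
          Nat.pow_div (Nat.sub_le j 2) hp.pos, show j - (j - 2) = 2 by omega]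
      exact hEnc (hsub (A := Subgroup.zpowers (a ^ p ^ (j - 2))) inferInstance E (by rw [Nat.card_zpowers, ho, hE]))
  rcases eq_or_ne p 2 with rfl | hp2
  · by_cases hE : ∃ E : Subgroup P, Nat.card E = 2 ^ 2 ∧ ¬ IsCyclic ↥E
    · have h := hexp hE
      exact Or.inr (Or.inl ⟨⟨⟨fun a b => by
        have hi : ∀ g : P, g⁻¹ = g := fun g => inv_eq_of_mul_eq_one_right ((pow_two g).symm.trans (h g))
        rw [← hi (a * b), _root_.mul_inv_rev, hi, hi]⟩⟩, h⟩)
    · push Not at hE
      have : Nontrivial P := by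
        by_contra h
        rw [not_nontrivial_iff_subsingleton] at h
        exact hcyc isCyclic_of_subsingleton
      have := hP.center_nontrivial
      obtain ⟨n', hn'0, hn'⟩ := (hP.to_subgroup (Subgroup.center P)).nontrivial_iff_card.1 inferInstance
      obtain ⟨z, hz⟩ := exists_prime_orderOf_dvd_card' (G := ↥(Subgroup.center P)) 2
        (hn' ▸ dvd_pow_self 2 (by omega))
      rw [← Subgroup.orderOf_coe] at hz
      have hone : ∀ x : P, x ^ 2 = 1 → x ≠ 1 → x = (z : P) := by
        intro x hx hx1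
        by_contra hne
        have hxz : x ∉ Subgroup.zpowers (z : P) := by
          intro h
          obtain ⟨i, hi⟩ := Subgroup.mem_zpowers_iff.1 h
          rcases Int.even_or_odd' i with ⟨k, rfl | rfl⟩
          · rw [zpow_mul, zpow_ofNat, ← hz, pow_orderOf_eq_one, one_zpow] at hi
            exact hx1 hi.symm
          · rw [zpow_add_one, zpow_mul, zpow_ofNat, ← hz, pow_orderOf_eq_one, one_zpow, one_mul] at hi
            exact hne hi.symm
        have hc : ∀ a ∈ Subgroup.zpowers (z : P), x * a = a * x := by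
          intro a ha
          exact Subgroup.mem_center_iff.1 (Subgroup.zpowers_le.2 z.2 ha) x
        have hcard : Nat.card ↥(Subgroup.zpowers (z : P) ⊔ Subgroup.zpowers x) = 2 ^ 2 := by
          rw [card_zpowers_sup hxz hx (Subgroup.centralizer_le_normalizer _ fun a ha => (hc a ha).symm),
            Nat.card_zpowers, hz]
          norm_num
        have := hE _ hcard
        obtain ⟨w, hw⟩ := IsCyclic.exists_ofOrder_eq_natCard (α := ↥(Subgroup.zpowers (z : P) ⊔ Subgroup.zpowers x))
        have hsq : ∀ v ∈ Subgroup.zpowers (z : P) ⊔ Subgroup.zpowers x, v ^ 2 = 1 := by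
          intro v hv
          have hN := Subgroup.coe_mul_of_right_le_normalizer_left (Subgroup.zpowers (z : P)) (Subgroup.zpowers x)
            (Subgroup.zpowers_le.2 (Subgroup.centralizer_le_normalizer _ fun a ha => (hc a ha).symm))
          rw [← SetLike.mem_coe, hN] at hv
          obtain ⟨a, ha, b, hb, rfl⟩ := hv
          obtain ⟨i, rfl⟩ := Subgroup.mem_zpowers_iff.1 ha
          obtain ⟨j, rfl⟩ := Subgroup.mem_zpowers_iff.1 hb
          have hcc : Commute ((z : P) ^ i) (x ^ j) :=
            ((show Commute x ((z : P) ^ i) from hc _ (Subgroup.zpow_mem_zpowers _ i)).zpow_left j).symm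
          rw [hcc.mul_pow, ← zpow_natCast, ← zpow_mul, mul_comm i, zpow_mul, zpow_natCast, ← hz,
            pow_orderOf_eq_one, one_zpow, hz, one_mul, ← zpow_natCast, ← zpow_mul, mul_comm j, zpow_mul,
            zpow_natCast, hx, one_zpow]
        have hd : orderOf w ∣ 2 := orderOf_dvd_of_pow_eq_one (Subtype.ext (hsq _ w.2))
        rw [hw, hcard] at hd
        norm_num at hd
      have hu : CfsgLib.TwoGroupsQ.HasUniqueOrderP P 2 :=
        CfsgLib.TwoGroupsQ.hasUniqueOrderP_two fun x y hx hx1 hy hy1 => (hone x hx hx1).trans (hone y hy hy1).symm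
      obtain ⟨-, m, hm, ⟨e⟩⟩ := (CfsgLib.TwoGroupsQ.isCyclic_or_quaternion hP hu).resolve_left hcyc
      rcases eq_or_ne m 1 with rfl | hm1
      · exact Or.inr (Or.inr (Or.inl ⟨rfl, ⟨e⟩⟩))
      · exfalso
        have : NeZero (2 ^ m) := ⟨pow_ne_zero _ two_ne_zero⟩
        have hPc : Nat.card P = 2 ^ (m + 2) := by
          rw [Nat.card_congr e.toEquiv, Nat.card_eq_fintype_card, QuaternionGroup.card]; ring
        set x := e.symm (QuaternionGroup.xa 0) with hx
        have hxo : orderOf x = 4 := by rw [hx, MulEquiv.orderOf_eq, QuaternionGroup.orderOf_xa]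
        obtain ⟨H, hH, hxH⟩ := Sylow.exists_subgroup_card_pow_prime_le 2 (m := 3) (n := 2)
          (hPc ▸ pow_dvd_pow 2 (by omega)) (Subgroup.zpowers x) (by rw [Nat.card_zpowers, hxo]; norm_num) (by omega)
        set a := e.symm (QuaternionGroup.a 1) with ha
        have hao : orderOf a = 2 ^ (m + 1) := by
          rw [ha, MulEquiv.orderOf_eq, QuaternionGroup.orderOf_a_one]; ring
        have hcycA : IsCyclic ↥(Subgroup.zpowers (a ^ 2 ^ (m - 2))) := inferInstance
        have hco : Nat.card ↥(Subgroup.zpowers (a ^ 2 ^ (m - 2))) = Nat.card ↥H := by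
          rw [Nat.card_zpowers, hH, orderOf_pow' _ (pow_ne_zero _ two_ne_zero), hao,
            Nat.gcd_eq_right (pow_dvd_pow 2 (by omega)), Nat.pow_div (by omega) (by omega)]
          congr 1
          omega
        have := hsub hcycA H hco
        obtain ⟨h, hh⟩ := IsCyclic.exists_generator (α := ↥H)
        have hho : orderOf h = 8 := by rw [orderOf_eq_card_of_forall_mem_zpowers hh, hH]; norm_num
        rw [← Subgroup.orderOf_coe] at hho
        rcases hq : e h.1 with i | i
        · -- then `x` would be a power of `a 1`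
          obtain ⟨l, hl⟩ := hh ⟨x, hxH (Subgroup.mem_zpowers x)⟩
          have hl' : (h : P) ^ l = x := congrArg Subtype.val hl
          have h2 : QuaternionGroup.xa 0 ∈ Subgroup.zpowers (QuaternionGroup.a (1 : ZMod (2 * 2 ^ m))) := by
            have h3 : (QuaternionGroup.xa 0 : QuaternionGroup (2 ^ m)) = e x := (e.apply_symm_apply _).symm
            rw [h3, ← hl', map_zpow, hq]
            refine Subgroup.zpow_mem _ (Subgroup.mem_zpowers_iff.2 ⟨(i.val : ℤ), ?_⟩) l
            show QuaternionGroup.a 1 ^ (i.val : ℤ) = _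
            rw [zpow_natCast, QuaternionGroup.a_one_pow, ZMod.natCast_zmod_val]
          obtain ⟨l, hl⟩ := mem_powers_iff_mem_zpowers.2 h2
          have : QuaternionGroup.a (l : ZMod (2 * 2 ^ m)) = QuaternionGroup.xa 0 :=
            (QuaternionGroup.a_one_pow l).symm.trans hl
          exact QuaternionGroup.noConfusion rfl (heq_of_eq this) 
        · rw [← MulEquiv.orderOf_eq e, hq, QuaternionGroup.orderOf_xa] at hho
          omega
  obtain ⟨E, hEn, hEel, hEc⟩ := CfsgLib.Transfer.exists_normal_elem_card_sq hp2 hP hcyc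
  have hEnc : ¬ IsCyclic ↥E := by
    intro h
    obtain ⟨w, hw⟩ := IsCyclic.exists_ofOrder_eq_natCard (α := ↥E)
    have hd : orderOf w ∣ p := orderOf_dvd_of_pow_eq_one (Subtype.ext (hEel.2 _ w.2))
    rw [hw, hEc] at hd
    have := Nat.le_of_dvd hp.pos hd
    have := hp.two_le
    nlinarith
  have hexp' := hexp ⟨E, hEc, hEnc⟩
  by_cases hab : IsMulCommutative P
  · exact Or.inr (Or.inl ⟨hab, hexp'⟩)
  have hex : Monoid.exponent P = p := by
    rcases (Nat.dvd_prime hp).1 (Monoid.exponent_dvd_of_forall_pow_eq_one hexp') with h | h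
    · exfalso
      have := Monoid.exp_eq_one_iff.1 h
      exact hab ⟨⟨fun a b => Subsingleton.elim _ _⟩⟩
    · exact h
  refine Or.inr (Or.inr (Or.inr ⟨hp2, hab, ?_, hex⟩))
  have := hP.isNilpotent
  have hEcomm : ∀ a ∈ E, ∀ b ∈ E, a * b = b * a := fun a ha b hb =>
    congrArg Subtype.val (hEel.1.is_comm.comm ⟨a, ha⟩ ⟨b, hb⟩)
  have hnab : ∃ A : Subgroup P, Nat.card A = p ^ 3 ∧ ¬ IsMulCommutative ↥A := by
    obtain ⟨a, ha, hac⟩ : ∃ a : P, a ∉ Subgroup.center P ∧ ∀ g : P, a * g * a⁻¹ * g⁻¹ ∈ Subgroup.center P := by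
      by_contra hno
      push Not at hno
      have key : ∀ k, Subgroup.upperCentralSeries P k ≤ Subgroup.center P := by
        intro k
        induction k with
        | zero => simp
        | succ k ih =>
          intro a ha
          by_contra hac
          obtain ⟨g, hg⟩ := hno a hac
          exact hg (ih (Subgroup.mem_upperCentralSeries_succ_iff.1 ha g))
      obtain ⟨k, hk⟩ := Group.IsNilpotent.nilpotent P
      refine hab ⟨⟨fun x y => ?_⟩⟩
      exact (Subgroup.mem_center_iff.1 (key k (hk ▸ Subgroup.mem_top x)) y).symm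
    obtain ⟨g, hg⟩ : ∃ g : P, a * g ≠ g * a := by
      by_contra hcon
      push Not at hcon
      exact ha (Subgroup.mem_center_iff.2 fun g => (hcon g).symm)
    set z := g * a * g⁻¹ * a⁻¹ with hz
    have hzc : z ∈ Subgroup.center P := by
      have := Subgroup.inv_mem _ (hac g)
      simpa [z, mul_assoc] using this
    have hz1 : z ≠ 1 := fun h => hg (by
      rw [hz, mul_inv_eq_one, mul_inv_eq_iff_eq_mul] at h; exact h.symm)
    have hzo : orderOf z = p := orderOf_eq_prime (hexp' z) hz1
    set A := Subgroup.zpowers z ⊔ Subgroup.zpowers a with hA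
    have hzcomm : ∀ w : P, ∀ v ∈ Subgroup.zpowers z, w * v = v * w := fun w v hv =>
      Subgroup.mem_center_iff.1 (Subgroup.zpowers_le.2 hzc hv) w
    have hAc : Nat.card ↥A = p ^ 2 := by
      rw [hA, card_zpowers_sup (fun h => hg (hzcomm g a h).symm) (hexp' a)
        (Subgroup.centralizer_le_normalizer _ fun v hv => (hzcomm a v hv).symm), Nat.card_zpowers, hzo, pow_two]
    have hAcomm : IsMulCommutative ↥A := comm_sup (fun v hv w hw => hzcomm v w hw) (fun v hv => hzcomm a v hv)
    have hgA : g ∉ A := fun h => hg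
      (congrArg Subtype.val (hAcomm.is_comm.comm ⟨a, Subgroup.mem_sup_right (Subgroup.mem_zpowers a)⟩ ⟨g, h⟩))
    have hgN : g ∈ Subgroup.normalizer (A : Set P) := by
      have hmap : A.map (MulAut.conj g).toMonoidHom = A := by
        refine Subgroup.eq_of_le_of_card_ge ?_ ?_
        · rw [hA, Subgroup.map_sup, MonoidHom.map_zpowers, MonoidHom.map_zpowers]
          refine sup_le (Subgroup.zpowers_le.2 ?_) (Subgroup.zpowers_le.2 ?_)
          · show g * z * g⁻¹ ∈ _
            rw [hzcomm g z (Subgroup.mem_zpowers z), mul_inv_cancel_right]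
            exact Subgroup.mem_sup_left (Subgroup.mem_zpowers z)
          · show g * a * g⁻¹ ∈ _
            rw [show g * a * g⁻¹ = z * a by rw [hz]; group]
            exact Subgroup.mul_mem _ (Subgroup.mem_sup_left (Subgroup.mem_zpowers z))
              (Subgroup.mem_sup_right (Subgroup.mem_zpowers a))
        · exact le_of_eq (Nat.card_congr (A.equivMapOfInjective _ (MulAut.conj g).injective).toEquiv)
      rw [Subgroup.mem_normalizer_iff]
      intro h
      constructor
      · intro hh
        exact hmap ▸ ⟨h, hh, rfl⟩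
      · intro hh
        obtain ⟨v, hv, hve⟩ : (MulAut.conj g) h ∈ A.map (MulAut.conj g).toMonoidHom := hmap.symm ▸ hh
        exact (MulAut.conj g).injective hve ▸ hv
    refine ⟨A ⊔ Subgroup.zpowers g, by rw [card_zpowers_sup hgA (hexp' g) hgN, hAc]; ring, fun h => hg ?_⟩
    exact congrArg Subtype.val (h.is_comm.comm
      ⟨a, Subgroup.mem_sup_left (Subgroup.mem_sup_right (Subgroup.mem_zpowers a))⟩
      ⟨g, Subgroup.mem_sup_right (Subgroup.mem_zpowers g)⟩)
  obtain ⟨B, hB, hBn⟩ := hnab
  have hge : 3 ≤ n := by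
    have h := Subgroup.card_subgroup_dvd_card B
    rw [hB, hn] at h
    exact (Nat.pow_dvd_pow_iff_le_right hp.one_lt).1 h
  by_contra hne
  have hn4 : 4 ≤ n := by
    rcases Nat.lt_or_ge n 4 with h | h
    · exact absurd (show n = 3 by omega) (fun h3 => hne (h3 ▸ hn))
    · exact h
  -- the centralizer of `E` is larger than `E`
  have hC : ∃ y : P, y ∉ E ∧ ∀ a ∈ E, y * a = a * y := by
    obtain ⟨w, hw, hw1⟩ : ∃ w ∈ E ⊓ Subgroup.center P, w ≠ 1 :=
      (Subgroup.bot_or_exists_ne_one _).resolve_left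
        (CfsgLib.Solvable.inf_center_ne_bot (fun h => by
          rw [h, Subgroup.card_bot] at hEc
          exact (Nat.one_lt_pow two_ne_zero hp.one_lt).ne hEc))
    have hwo : orderOf w = p := orderOf_eq_prime (hexp' w) hw1
    obtain ⟨a, haE, haw⟩ : ∃ a ∈ E, a ∉ Subgroup.zpowers w := by
      by_contra hcon
      push Not at hcon
      have h := Subgroup.card_dvd_of_le (H := E) hcon
      rw [hEc, Nat.card_zpowers, hwo] at h
      have := Nat.le_of_dvd hp.pos h
      have := hp.two_le
      nlinarith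
    have hEeq : Subgroup.zpowers w ⊔ Subgroup.zpowers a = E :=
      Subgroup.eq_of_le_of_card_ge (sup_le (Subgroup.zpowers_le.2 hw.1) (Subgroup.zpowers_le.2 haE)) (by
        rw [card_zpowers_sup haw (hexp' a) (Subgroup.centralizer_le_normalizer _ fun v hv =>
          hEcomm v (Subgroup.zpowers_le.2 hw.1 hv) a haE), Nat.card_zpowers, hwo, hEc, pow_two])
    -- the conjugates of `a` lie in `E`
    have horb : MulAction.orbit (ConjAct P) a ⊆ (E : Set P) \ {1} := by
      rintro _ ⟨g, rfl⟩
      show ConjAct.ofConjAct g * a * (ConjAct.ofConjAct g)⁻¹ ∈ _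
      refine ⟨hEn.conj_mem a haE _, ?_⟩
      rw [Set.mem_singleton_iff]
      rw [mul_inv_eq_one, mul_eq_left]
      exact fun h => haw (h ▸ Subgroup.one_mem _)
    obtain ⟨j, hj⟩ := (hP.of_equiv ConjAct.toConjAct).card_orbit a
    have hjle : j ≤ 1 := by
      by_contra hj2
      have h1 := Set.ncard_le_ncard horb
      rw [Set.ncard_sdiff_singleton_of_mem (show (1 : P) ∈ (E : Set P) from E.one_mem), ← Nat.card_coe_set_eq,
        ← Nat.card_coe_set_eq, SetLike.coe_sort_coe, hEc, hj] at h1
      have h2 : p ^ 2 ≤ p ^ j := Nat.pow_le_pow_right hp.pos (by omega)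
      have h3 : 0 < p ^ 2 := pow_pos hp.pos _
      omega
    set St := (MulAction.stabilizer (ConjAct P) a).comap (ConjAct.toConjAct (G := P)).toMonoidHom with hSt
    have hidx : St.index = p ^ j := by
      rw [hSt, Subgroup.index_comap_of_surjective (f := (ConjAct.toConjAct (G := P)).toMonoidHom) (hf := (ConjAct.toConjAct (G := P)).surjective),
        MulAction.index_stabilizer, ← Nat.card_coe_set_eq, hj]
    have hlt : ¬ (St ≤ E) := by
      intro hle
      have h1 := Subgroup.card_mul_index St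
      rw [hidx, hn] at h1
      have h2 := Nat.le_of_dvd Nat.card_pos (Subgroup.card_dvd_of_le hle)
      rw [hEc] at h2
      have h3 : p ^ n ≤ p ^ 2 * p ^ 1 := h1 ▸ Nat.mul_le_mul h2 (Nat.pow_le_pow_right hp.pos hjle)
      rw [← pow_add] at h3
      have := (Nat.pow_le_pow_iff_right hp.one_lt).1 h3
      omega
    obtain ⟨y, hy, hyE⟩ := SetLike.not_le_iff_exists.1 hlt
    refine ⟨y, hyE, fun e he => ?_⟩
    rw [← hEeq] at he
    have h1 : Subgroup.zpowers w ⊔ Subgroup.zpowers a ≤ Subgroup.centralizer ({y} : Set P) := by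
      refine sup_le (Subgroup.zpowers_le.2 ?_) (Subgroup.zpowers_le.2 ?_)
      · exact Subgroup.mem_centralizer_singleton_iff.2 (Subgroup.mem_center_iff.1 hw.2 y).symm
      · have hy' : y * a * y⁻¹ = a := MulAction.mem_stabilizer_iff.1 (Subgroup.mem_comap.1 hy)
        exact Subgroup.mem_centralizer_singleton_iff.2 (mul_inv_eq_iff_eq_mul.1 hy').symm
    exact (Subgroup.mem_centralizer_singleton_iff.1 (h1 he)).symm
  obtain ⟨y, hyE, hyc⟩ := hC
  obtain ⟨e⟩ := hI (E ⊔ Subgroup.zpowers y) B (by
    rw [card_zpowers_sup hyE (hexp' y) (Subgroup.centralizer_le_normalizer _ fun a ha => (hyc a ha).symm),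
      hEc, hB]; ring)
  have := comm_sup hEcomm hyc
  exact hBn ⟨⟨fun u v => e.symm.injective (by rw [map_mul, map_mul]; exact this.is_comm.comm _ _)⟩⟩

/-- Let p be a prime and G a finite group in which any two p-subgroups of the same order are conjugate, with Sylow p-subgroup P. Then P is cyclic, or elementary abelian, or p = 2 and P is a quaternion group of order 8, or p is odd and P is non-abelian of order p³ and exponent p. -/
theorem result {G : Type*} [Group G] [Finite G]
    {p : ℕ} [Fact p.Prime] (hC : ∀ H K : Subgroup G, IsPGroup p H → IsPGroup p K → Nat.card H = Nat.card K →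
      ∃ g : G, K = H.map (MulAut.conj g).toMonoidHom) (P : Sylow p G) :
    IsCyclic P ∨ Cfsg.IsElementaryAbelian p (P : Subgroup G) ∨
      (p = 2 ∧ Nonempty ((P : Subgroup G) ≃* QuaternionGroup 2)) ∨
      (p ≠ 2 ∧ ¬ IsMulCommutative P ∧ Nat.card P = p ^ 3 ∧ Monoid.exponent P = p) := by
  have hI : ∀ A B : Subgroup ↥(P : Subgroup G), Nat.card A = Nat.card B → Nonempty (↥A ≃* ↥B) := by
    intro A B hAB
    set ι := (P : Subgroup G).subtype
    obtain ⟨g, hg⟩ := hC (A.map ι) (B.map ι) ((P.isPGroup'.to_subgroup A).map ι)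
      ((P.isPGroup'.to_subgroup B).map ι) (by rw [Subgroup.card_subtype, Subgroup.card_subtype, hAB])
    exact ⟨(A.equivMapOfInjective ι (P : Subgroup G).subtype_injective).trans
      ((((A.map ι).equivMapOfInjective (MulAut.conj g).toMonoidHom (MulAut.conj g).injective).trans
        (MulEquiv.subgroupCongr hg.symm)).trans
          (B.equivMapOfInjective ι (P : Subgroup G).subtype_injective).symm)⟩
  rcases cases_of_iso P.isPGroup' hI with h | ⟨h1, h2⟩ | h | h
  · exact Or.inl h
  · exact Or.inr (Or.inl ⟨h1, fun a ha => congrArg Subtype.val (h2 ⟨a, ha⟩)⟩)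
  · exact Or.inr (Or.inr (Or.inl h))
  · exact Or.inr (Or.inr (Or.inr h))

end Cfsg.Agent.S4023
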