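import Mathlib
import Cfsg.Statements.S4024
import Cfsg.Agent.PLocal.PSolvable
import Cfsg.Agent.TwoGroupsQ.UniqueInvolution
-- import your own Cfsg.Agent.* helpers here

set_option autoImplicit false
open Cfsg
open scoped Pointwise

namespace Cfsg.Agent.S4024

open CfsgLib.PLocal

variable {G : Type*} [Group G] [Finite G] {p : ℕ} [Fact p.Prime]

/-- The case of a nontrivial normal elementary abelian `p`-subgroup inside `H`. -/
theorem of_normal_elementary (hp : p ≠ 2) (hC : ∀ H K : Subgroup G, IsPGroup p H → IsPGroup p K →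
      Nat.card H = Nat.card K → ∃ g : G, K = H.map (MulAut.conj g).toMonoidHom) (P : Sylow p G)
    (V : Subgroup G) [V.Normal] (hV : V ≠ ⊥) (hexp : ∀ x ∈ V, x ^ p = 1)
    (hab : ∀ x ∈ V, ∀ y ∈ V, x * y = y * x) :
    IsMulCommutative P ∧ ((P : Subgroup G) ≤ V ∨ IsCyclic P) := by
  have hpp : p.Prime := Fact.out
  have hVp : IsPGroup p V := fun x => ⟨1, Subtype.ext (by simpa using hexp x x.2)⟩
  obtain ⟨k, hk⟩ := IsPGroup.iff_card.1 hVp
  have hVP : V ≤ P := hVp.le_sylow_of_normal P
  have huniq : ∀ A : Subgroup G, Nat.card A = p ^ k → A = V := by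
    intro A hA
    obtain ⟨g, rfl⟩ := hC V A hVp (IsPGroup.of_card hA) (hk.trans hA.symm)
    ext y
    constructor
    · rintro ⟨x, hx, rfl⟩
      exact (inferInstance : V.Normal).conj_mem x hx g
    · intro hy
      exact ⟨g⁻¹ * y * g, by simpa using (inferInstance : V.Normal).conj_mem y hy g⁻¹, by simp [mul_assoc]⟩
  have hk0 : k ≠ 0 := fun h => hV (Subgroup.card_eq_one.1 (by rw [hk, h, pow_zero]))
  by_cases hk1 : k = 1
  · subst hk1
    rw [pow_one] at hk huniq
    have hu : CfsgLib.TwoGroupsQ.HasUniqueOrderP ↥(P : Subgroup G) p :=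
      CfsgLib.TwoGroupsQ.hasUniqueOrderP_of_subgroups fun A B hA hB => by
        apply Subgroup.map_injective (P : Subgroup G).subtype_injective
        rw [huniq (A.map _) (by rw [Subgroup.card_subtype, hA]),
          huniq (B.map _) (by rw [Subgroup.card_subtype, hB])]
    have hc : IsCyclic ↥(P : Subgroup G) := by
      rcases CfsgLib.TwoGroupsQ.isCyclic_or_quaternion P.isPGroup' hu with h | h
      · exact h
      · exact absurd h.1 hp
    exact ⟨IsCyclic.isMulCommutative, Or.inr hc⟩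
  · have hPV : (P : Subgroup G) ≤ V := by
      intro x hx
      obtain ⟨j, hj⟩ := IsPGroup.iff_orderOf.1 P.isPGroup' ⟨x, hx⟩
      rw [Subgroup.orderOf_mk] at hj
      have hxc : Nat.card ↥(Subgroup.zpowers x) = p ^ j := by rw [Nat.card_zpowers, hj]
      by_cases hjk : j ≤ k
      · have hPk : p ^ k ∣ Nat.card ↥(P : Subgroup G) := hk ▸ Subgroup.card_dvd_of_le hVP
        set Z : Subgroup ↥(P : Subgroup G) := Subgroup.zpowers ⟨x, hx⟩
        have hZ : Nat.card ↥Z = p ^ j := by rw [Nat.card_zpowers, Subgroup.orderOf_mk, hj]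
        obtain ⟨A, hA, hZA⟩ := Sylow.exists_subgroup_card_pow_prime_le p hPk Z hZ hjk
        rw [← huniq (A.map (P : Subgroup G).subtype) (by rw [Subgroup.card_subtype, hA])]
        exact ⟨⟨x, hx⟩, hZA (Subgroup.mem_zpowers _), rfl⟩
      · exfalso
        have hy : orderOf (x ^ p ^ (j - k)) = p ^ k := by
          rw [orderOf_pow' _ (pow_ne_zero _ hpp.ne_zero), hj,
            Nat.gcd_eq_right (pow_dvd_pow p (Nat.sub_le j k)), Nat.pow_div (Nat.sub_le j k) hpp.pos]
          congr 1
          omega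
        have e := huniq (Subgroup.zpowers (x ^ p ^ (j - k))) (by rw [Nat.card_zpowers, hy])
        have h1 := hexp _ (e ▸ Subgroup.mem_zpowers (x ^ p ^ (j - k)))
        have h2 := Nat.le_of_dvd hpp.pos (hy ▸ orderOf_dvd_of_pow_eq_one h1)
        have : p ^ 2 ≤ p ^ k := Nat.pow_le_pow_right hpp.pos (by omega)
        have h3 := hpp.two_le
        nlinarith
    exact ⟨⟨⟨fun a b => Subtype.ext (hab a (hPV a.2) b (hPV b.2))⟩⟩, Or.inl hPV⟩

/-- A nontrivial normal `p`-subgroup contains a nontrivial normal elementary abelian one. -/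
theorem exists_normal_elementary (W : Subgroup G) [W.Normal] (hW : IsPGroup p W) (hW1 : W ≠ ⊥) :
    ∃ V : Subgroup G, V.Normal ∧ V ≠ ⊥ ∧ V ≤ W ∧ (∀ x ∈ V, x ^ p = 1) ∧
      ∀ x ∈ V, ∀ y ∈ V, x * y = y * x := by
  have : Nontrivial ↥W := (Subgroup.nontrivial_iff_ne_bot W).2 hW1
  have := hW.center_nontrivial
  set Z := (Subgroup.center ↥W).map W.subtype
  have hZn : Z.Normal := normal_map_subtype W (Subgroup.center ↥W)
  have hcomm : ∀ x ∈ Z, ∀ y ∈ Z, x * y = y * x := by
    rintro _ ⟨a, ha, rfl⟩ _ ⟨b, -, rfl⟩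
    exact congrArg Subtype.val (Subgroup.mem_center_iff.1 ha b).symm
  obtain ⟨z, hz⟩ : ∃ z : ↥(Subgroup.center ↥W), orderOf z = p :=
    exists_prime_orderOf_dvd_card' p (by
      obtain ⟨n, hn, h⟩ := (hW.to_subgroup (Subgroup.center ↥W)).nontrivial_iff_card.1 inferInstance
      exact h ▸ dvd_pow_self p hn.ne')
  let V : Subgroup G :=
    { carrier := {x | x ∈ Z ∧ x ^ p = 1}
      one_mem' := ⟨Z.one_mem, one_pow p⟩
      mul_mem' := fun {a b} ha hb => ⟨Z.mul_mem ha.1 hb.1, by
        rw [(show Commute a b from hcomm a ha.1 b hb.1).mul_pow, ha.2, hb.2, one_mul]⟩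
      inv_mem' := fun {a} ha => ⟨Z.inv_mem ha.1, by rw [inv_pow, ha.2, inv_one]⟩ }
  refine ⟨V, ⟨fun x hx g => ⟨hZn.conj_mem x hx.1 g, by rw [conj_pow, hx.2]; simp⟩⟩, ?_,
    fun x hx => Subgroup.map_subtype_le _ hx.1, fun x hx => hx.2, fun x hx y hy => hcomm x hx.1 y hy.1⟩
  intro hbot
  have hmem : ((z : ↥W) : G) ∈ V := ⟨⟨(z : ↥W), z.2, rfl⟩, by
    have := pow_orderOf_eq_one z
    rw [hz] at this
    exact congrArg (fun t : ↥(Subgroup.center ↥W) => ((t : ↥W) : G)) this⟩
  rw [hbot, Subgroup.mem_bot] at hmem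
  have : z = 1 := Subtype.ext (Subtype.ext hmem)
  rw [this, orderOf_one] at hz
  exact (Fact.out : p.Prime).one_lt.ne hz

/-- Let p be an odd prime and G a finite group in which any two p-subgroups of the same order are conjugate, with Sylow p-subgroup P. If H is a normal p-solvable subgroup of G whose order is divisible by p, then P is abelian, and either P ≤ H or P is cyclic. -/
theorem result {G : Type*} [Group G] [Finite G]
    {p : ℕ} [Fact p.Prime] (hp : p ≠ 2) (hC : ∀ H K : Subgroup G, IsPGroup p H → IsPGroup p K → Nat.card H = Nat.card K →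
      ∃ g : G, K = H.map (MulAut.conj g).toMonoidHom) (P : Sylow p G)
    (H : Subgroup G) [H.Normal] (hsolv : Cfsg.IsPSolvable p H) (hdiv : p ∣ Nat.card H) :
    IsMulCommutative P ∧ ((P : Subgroup G) ≤ H ∨ IsCyclic P) := by
  have hpp : p.Prime := Fact.out
  set K := pPrimeCore p G with hK
  set f := QuotientGroup.mk' K with hf
  have hfs : Function.Surjective f := QuotientGroup.mk'_surjective K
  have hKc : (Nat.card ↥K).Coprime p := coprime_card_pPrimeCore p G
  -- the hypothesis passes to the quotient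
  have hlift : ∀ X : Subgroup (G ⧸ K), IsPGroup p X →
      ∃ Y : Subgroup G, IsPGroup p Y ∧ Y.map f = X ∧ Nat.card Y = Nat.card X := by
    intro X hX
    set g := f.subgroupComap X
    obtain ⟨S⟩ : Nonempty (Sylow p ↥(X.comap f)) := inferInstance
    have hgs : Function.Surjective g := f.subgroupComap_surjective_of_surjective X hfs
    set Y := (S : Subgroup ↥(X.comap f)).map (X.comap f).subtype with hY
    have hYp : IsPGroup p Y := S.isPGroup'.map _
    have hmap : Y.map f = X := by
      have hXtop : (S.mapSurjective hgs : Subgroup ↥X) = ⊤ :=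
        ((S.mapSurjective hgs).is_maximal' (Q := ⊤) (hX.to_subgroup ⊤) le_top).symm
      have e := congrArg (Subgroup.map X.subtype) hXtop
      rw [Sylow.coe_mapSurjective, Subgroup.map_map, ← MonoidHom.range_eq_map, Subgroup.range_subtype] at e
      rw [hY, Subgroup.map_map]
      exact e
    refine ⟨Y, hYp, hmap, ?_⟩
    have hdis : Y ⊓ K = ⊥ := disjoint_of_isPGroup_of_coprime hYp hKc
    rw [← hmap]
    refine Nat.card_congr (Equiv.ofBijective _ ⟨?_, MonoidHom.subgroupMap_surjective f Y⟩)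
    rw [injective_iff_map_eq_one]
    intro x hx
    have h1 : (x : G) ∈ K := (QuotientGroup.eq_one_iff _).1 (congrArg Subtype.val hx)
    exact Subtype.ext (Subgroup.mem_bot.1 (hdis ▸ (⟨x.2, h1⟩ : (x : G) ∈ Y ⊓ K)))
  have hCQ : ∀ A B : Subgroup (G ⧸ K), IsPGroup p A → IsPGroup p B → Nat.card A = Nat.card B →
      ∃ g : G ⧸ K, B = A.map (MulAut.conj g).toMonoidHom := by
    intro A B hA hB hAB
    obtain ⟨A', hA', hA'm, hA'c⟩ := hlift A hA
    obtain ⟨B', hB', hB'm, hB'c⟩ := hlift B hB
    obtain ⟨g, hg⟩ := hC A' B' hA' hB' (by rw [hA'c, hB'c, hAB])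
    refine ⟨f g, ?_⟩
    rw [← hA'm, ← hB'm, hg, Subgroup.map_map, Subgroup.map_map]
    congr 1
  set Q : Sylow p (G ⧸ K) := P.mapSurjective hfs with hQ
  have hQe : (Q : Subgroup (G ⧸ K)) = (P : Subgroup G).map f := Sylow.coe_mapSurjective _ _
  have hinj : Function.Injective (f.subgroupMap (P : Subgroup G)) := by
    rw [injective_iff_map_eq_one]
    intro x hx
    have h1 : (x : G) ∈ K := (QuotientGroup.eq_one_iff _).1 (congrArg Subtype.val hx)
    exact Subtype.ext (Subgroup.mem_bot.1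
      ((disjoint_of_isPGroup_of_coprime P.isPGroup' hKc) ▸ (⟨x.2, h1⟩ : (x : G) ∈ (P : Subgroup G) ⊓ K)))
  set H' := H.map f with hH'
  have hH'n : H'.Normal := (inferInstance : H.Normal).map f hfs
  have hH'ne : H' ≠ ⊥ := by
    intro h
    have hle : H ≤ K := by rwa [hH', Subgroup.map_eq_bot_iff, hf, QuotientGroup.ker_mk'] at h
    exact (not_dvd_iff_coprime.1 (coprime_card_of_le hle hKc)) hdiv
  have : Nontrivial ↥H' := (Subgroup.nontrivial_iff_ne_bot H').2 hH'ne
  have hH'sol : IsPSolvable p ↥H' :=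
    isPSolvable_of_surjective hsolv (f := f.subgroupMap H) (MonoidHom.subgroupMap_surjective _ _)
  have hW : pCore p ↥H' ≠ ⊥ := by
    refine (pCore_ne_bot_or_of_isPSolvable hH'sol).resolve_right fun h => h ?_
    have h1 : (pPrimeCore p ↥H').map H'.subtype ≤ pPrimeCore p (G ⧸ K) := pPrimeCore_map_subtype_le H'
    have h2 : pPrimeCore p (G ⧸ K) = ⊥ := pPrimeCore_quotient_pPrimeCore_eq_bot p G
    rw [h2, le_bot_iff, Subgroup.map_eq_bot_iff,
      Subgroup.ker_subtype, le_bot_iff] at h1
    exact h1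
  have : ((pCore p ↥H').map H'.subtype).Normal := normal_map_subtype H' _
  obtain ⟨V, hVn, hV1, hVW, hexp, hab⟩ := exists_normal_elementary ((pCore p ↥H').map H'.subtype)
    ((isPGroup_pCore p ↥H').map _) (by rwa [Ne, Subgroup.map_eq_bot_iff, Subgroup.ker_subtype, le_bot_iff])
  have := hVn
  obtain ⟨hQab, hQc⟩ := of_normal_elementary hp hCQ Q V hV1 hexp hab
  constructor
  · refine ⟨⟨fun a b => hinj ?_⟩⟩
    rw [map_mul, map_mul]
    have := hQab.1.1 ⟨f a, hQe ▸ Subgroup.mem_map_of_mem f a.2⟩ ⟨f b, hQe ▸ Subgroup.mem_map_of_mem f b.2⟩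
    exact Subtype.ext (congrArg Subtype.val this :)
  · rcases hQc with hle | hcyc
    · left
      have hPHK : (P : Subgroup G) ≤ H ⊔ K := by
        intro x hx
        have h1 : f x ∈ H' := Subgroup.map_subtype_le _ (hVW (hle (hQe ▸ Subgroup.mem_map_of_mem f hx)))
        have h2 : x ∈ H'.comap f := h1
        rwa [hH', Subgroup.comap_map_eq, hf, QuotientGroup.ker_mk'] at h2
      obtain ⟨S⟩ : Nonempty (Sylow p ↥H) := inferInstance
      have hd := (Subgroup.card_dvd_of_le hPHK).trans (card_sup_dvd_mul H K)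
      rw [P.card_eq_multiplicity] at hd
      have hd2 : p ^ (Nat.card G).factorization p ∣ Nat.card ↥H :=
        (Nat.Coprime.pow_left _ hKc.symm).dvd_of_dvd_mul_right hd
      obtain ⟨A, hA⟩ := Sylow.exists_subgroup_card_pow_prime p hd2
      let R : Sylow p G := Sylow.ofCard (A.map H.subtype) (by rw [Subgroup.card_subtype, hA])
      obtain ⟨g, hg⟩ := MulAction.exists_smul_eq G R P
      rw [← hg, Sylow.coe_subgroup_smul]
      have : (R : Subgroup G) ≤ H := Subgroup.map_subtype_le A
      refine (Subgroup.pointwise_smul_le_pointwise_smul_iff.2 this).trans ?_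
      intro y hy
      rw [Subgroup.mem_pointwise_smul_iff_inv_smul_mem] at hy
      have := (inferInstance : H.Normal).conj_mem _ hy g
      simpa [MulAut.smul_def, mul_assoc] using this
    · right
      rw [hQe] at hcyc
      exact isCyclic_of_injective (f.subgroupMap (P : Subgroup G)) hinj

end Cfsg.Agent.S4024
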