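import Mathlib
import Cfsg.Statements.S4027
import Cfsg.Agent.RealElements.TwoClosed

set_option autoImplicit false
open Cfsg

namespace Cfsg.Agent.S4027

/-- Let G be a finite group in which every element x of odd order satisfies N_G(⟨x⟩) = C_G(x). Then the Sylow 2-subgroups of G are normal. -/
theorem result {G : Type*} [Group G] [Finite G]
    (hirr : ∀ x : G, (∀ r : ℕ, r.Prime → r ∣ orderOf x → r ≠ 2) →
      Subgroup.normalizer ((Subgroup.zpowers x : Subgroup G) : Set G) ≤ Subgroup.centralizer {x}) (P : Sylow 2 G) :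
    (P : Subgroup G).Normal := by
  refine CfsgLib.RealElements.sylow_two_normal ?_ P
  intro x hx hxo hc
  obtain ⟨c, hc⟩ := isConj_iff.1 hc
  have hcN : c ∈ Subgroup.normalizer ((Subgroup.zpowers x : Subgroup G) : Set G) := by
    rw [Subgroup.mem_normalizer_iff]
    intro z
    simp only [Subgroup.mem_zpowers_iff, SetLike.mem_coe]
    constructor
    · rintro ⟨i, rfl⟩
      exact ⟨-i, by rw [← conj_zpow, hc, inv_zpow']⟩
    · rintro ⟨i, hi⟩
      refine ⟨-i, ?_⟩
      have h4 : c * x ^ (-i) * c⁻¹ = c * z * c⁻¹ := by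
        rw [← conj_zpow, hc, inv_zpow', neg_neg, hi]
      exact mul_left_cancel (mul_right_cancel h4)
  have h2 := Subgroup.mem_centralizer_singleton_iff.1 (hirr x (fun r hr hrd h2 => ?_) hcN)
  · rw [h2, mul_inv_cancel_right] at hc
    have h3 : orderOf x ∣ 2 := by
      rw [orderOf_dvd_iff_pow_eq_one, pow_two]
      nth_rw 2 [hc]
      exact mul_inv_cancel x
    rcases (Nat.dvd_prime Nat.prime_two).1 h3 with h4 | h4
    · exact hx (orderOf_eq_one_iff.1 h4)
    · exact absurd (h4 ▸ hxo) (by decide)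
  · subst h2
    exact Nat.not_even_iff_odd.2 hxo (even_iff_two_dvd.2 hrd)

end Cfsg.Agent.S4027
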