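import Mathlib
import Cfsg.Statements.S4028


set_option autoImplicit false
open scoped Pointwise
open Cfsg

namespace Cfsg.Agent.S4028

/-- Let G be a finite group with Sylow 2-subgroup P. Then N_G(⟨x⟩) = C_G(x) holds for every 2-element x of G if and only if N_P(⟨y⟩) = C_P(y) holds for every y ∈ P (computed inside P). -/
theorem result {G : Type*} [Group G] [Finite G] (P : Sylow 2 G) :
    (∀ x : G, (∀ r : ℕ, r.Prime → r ∣ orderOf x → r = 2) →
      Subgroup.normalizer ((Subgroup.zpowers x : Subgroup G) : Set G) ≤ Subgroup.centralizer {x}) ↔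
    (∀ y : ↥(P : Subgroup G), Subgroup.normalizer ((Subgroup.zpowers y : Subgroup ↥(P : Subgroup G)) : Set ↥(P : Subgroup G)) ≤
        Subgroup.centralizer {y}) := by
  classical
  constructor
  · intro h y g hg
    have h1 : (g : G) ∈ Subgroup.centralizer ({(y : G)} : Set G) := h (y : G) ?_ ?_
    · rw [Subgroup.mem_centralizer_singleton_iff] at h1 ⊢
      exact Subtype.ext h1
    · intro r hr hrd
      obtain ⟨k, hk⟩ := IsPGroup.iff_orderOf.1 P.isPGroup' y
      rw [Subgroup.orderOf_coe, hk] at hrd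
      exact (Nat.prime_dvd_prime_iff_eq hr Nat.prime_two).1 (hr.dvd_of_dvd_pow hrd)
    · rw [Subgroup.mem_normalizer_iff'] at hg ⊢
      intro z
      constructor
      · intro hz
        have hzP : z * (g : G) ∈ Subgroup.zpowers (y : G) := hz
        have hz' : z ∈ (P : Subgroup G) := by
          have := (P : Subgroup G).mul_mem (Subgroup.zpowers_le.2 y.2 hzP) ((P : Subgroup G).inv_mem g.2)
          simpa using this
        have := (hg ⟨z, hz'⟩).1 (by
          obtain ⟨n, hn⟩ := Subgroup.mem_zpowers_iff.1 hzP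
          exact ⟨n, Subtype.ext (by simpa using hn)⟩)
        obtain ⟨n, hn⟩ := Subgroup.mem_zpowers_iff.1 this
        exact ⟨n, by simpa using congrArg Subtype.val hn⟩
      · intro hz
        have hzP : (g : G) * z ∈ Subgroup.zpowers (y : G) := hz
        have hz' : z ∈ (P : Subgroup G) := by
          have := (P : Subgroup G).mul_mem ((P : Subgroup G).inv_mem g.2) (Subgroup.zpowers_le.2 y.2 hzP)
          simpa using this
        have := (hg ⟨z, hz'⟩).2 (by
          obtain ⟨n, hn⟩ := Subgroup.mem_zpowers_iff.1 hzP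
          exact ⟨n, Subtype.ext (by simpa using hn)⟩)
        obtain ⟨n, hn⟩ := Subgroup.mem_zpowers_iff.1 this
        exact ⟨n, by simpa using congrArg Subtype.val hn⟩
  · intro h x hx g hg
    rw [Subgroup.mem_centralizer_singleton_iff]
    have hxk : orderOf x = 2 ^ (orderOf x).primeFactorsList.length :=
      Nat.eq_prime_pow_of_unique_prime_dvd (orderOf_pos x).ne' (fun hd hdd => hx _ hd hdd)
    obtain ⟨k, hxk⟩ : ∃ k, orderOf x = 2 ^ k := ⟨_, hxk⟩
    obtain ⟨e, m, hm, he⟩ :=
      Nat.exists_eq_pow_mul_and_not_dvd (orderOf_pos g).ne' 2 (by norm_num)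
    -- the 2-part of `g` centralizes `x`
    have h2part : Commute (g ^ m) x := by
      have hgm : g ^ m ∈ Subgroup.normalizer ((Subgroup.zpowers x : Subgroup G) : Set G) :=
        Subgroup.pow_mem _ hg m
      have hA : IsPGroup 2 ↥(Subgroup.zpowers x) := IsPGroup.of_card (by rw [Nat.card_zpowers, hxk])
      have hB : IsPGroup 2 ↥(Subgroup.zpowers (g ^ m)) := by
        refine IsPGroup.of_card_dvd_pow (n := e) ?_
        rw [Nat.card_zpowers, orderOf_dvd_iff_pow_eq_one, ← pow_mul, mul_comm, ← he, pow_orderOf_eq_one]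
      have hAB := hB.to_sup_of_normal_right' hA (Subgroup.zpowers_le.2 hgm)
      obtain ⟨Q, hQ⟩ := hAB.exists_le_sylow
      obtain ⟨a, rfl⟩ := MulAction.exists_smul_eq G P Q
      have hxP : a⁻¹ * x * a ∈ (P : Subgroup G) := by
        have h1 : x ∈ MulAut.conj a • (P : Subgroup G) := hQ (Subgroup.mem_sup_right (Subgroup.mem_zpowers x))
        rw [Subgroup.mem_pointwise_smul_iff_inv_smul_mem] at h1
        rw [← map_inv, MulAut.smul_def, MulAut.conj_apply, inv_inv] at h1
        exact h1
      have hgP : a⁻¹ * g ^ m * a ∈ (P : Subgroup G) := by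
        have h1 : g ^ m ∈ MulAut.conj a • (P : Subgroup G) := hQ (Subgroup.mem_sup_left (Subgroup.mem_zpowers _))
        rw [Subgroup.mem_pointwise_smul_iff_inv_smul_mem] at h1
        rw [← map_inv, MulAut.smul_def, MulAut.conj_apply, inv_inv] at h1
        exact h1
      have h3 : (⟨_, hgP⟩ : ↥(P : Subgroup G)) ∈ Subgroup.centralizer
          ({(⟨_, hxP⟩ : ↥(P : Subgroup G))} : Set _) := h ⟨_, hxP⟩ ?_
      · rw [Subgroup.mem_centralizer_singleton_iff] at h3
        have h4 : a⁻¹ * g ^ m * a * (a⁻¹ * x * a) = a⁻¹ * x * a * (a⁻¹ * g ^ m * a) :=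
          congrArg Subtype.val h3
        calc g ^ m * x = a * (a⁻¹ * g ^ m * a * (a⁻¹ * x * a)) * a⁻¹ := by group
          _ = a * (a⁻¹ * x * a * (a⁻¹ * g ^ m * a)) * a⁻¹ := by rw [h4]
          _ = x * g ^ m := by group
      · rw [Subgroup.mem_normalizer_iff]
        intro z
        have hc : ∀ w : ↥(P : Subgroup G), w ∈ Subgroup.zpowers (⟨_, hxP⟩ : ↥(P : Subgroup G)) ↔
            a * (w : G) * a⁻¹ ∈ Subgroup.zpowers x := by
          intro w
          rw [Subgroup.mem_zpowers_iff, Subgroup.mem_zpowers_iff]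
          refine exists_congr fun n => ?_
          rw [Subtype.ext_iff]
          simp only [SubgroupClass.coe_zpow]
          have hcz : (a⁻¹ * x * a) ^ n = a⁻¹ * x ^ n * a := by
            have := conj_zpow (i := n) (a := a⁻¹) (b := x)
            simpa using this
          rw [hcz]
          constructor
          · intro h; rw [← h]; group
          · intro h; rw [h]; group
        rw [hc, hc]
        have hn := Subgroup.mem_normalizer_iff.1 hgm (a * (z : G) * a⁻¹)
        try rw [SetLike.mem_coe, SetLike.mem_coe] at hn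
        rw [hn]
        simp [mul_assoc]
    -- so does the odd part
    have hoddpart : ∃ b : ℕ, Commute (g ^ (2 ^ b)) x := by
      obtain ⟨i, hi⟩ := Subgroup.mem_zpowers_iff.1
        ((Subgroup.mem_normalizer_iff.1 hg x).1 (Subgroup.mem_zpowers x))
      have hit : ∀ n : ℕ, g ^ n * x * (g ^ n)⁻¹ = x ^ (i ^ n) := by
        intro n
        induction n with
        | zero => simp
        | succ n ih =>
          calc g ^ (n + 1) * x * (g ^ (n + 1))⁻¹ = g * (g ^ n * x * (g ^ n)⁻¹) * g⁻¹ := by
                rw [pow_succ']; group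
            _ = x ^ (i ^ (n + 1)) := by rw [ih, ← conj_zpow, ← hi, ← zpow_mul, pow_succ']
      refine ⟨k, ?_⟩
      change g ^ (2 ^ k) * x = x * g ^ (2 ^ k)
      rw [← mul_inv_eq_iff_eq_mul, hit]
      conv_rhs => rw [← zpow_one x]
      rw [zpow_eq_zpow_iff_modEq, hxk]
      rcases Nat.eq_zero_or_pos k with rfl | hk
      · exact Int.modEq_one
      · have hodd : (2 : ℤ) ∣ i - 1 := by
          by_contra hcon
          obtain ⟨j, hj⟩ : (2 : ℤ) ∣ i := by omega
          have hord : orderOf (x ^ i) ∣ 2 ^ (k - 1) := by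
            rw [orderOf_dvd_iff_pow_eq_one, ← zpow_natCast, ← zpow_mul, ← orderOf_dvd_iff_zpow_eq_one,
              hxk, hj]
            refine ⟨j, ?_⟩
            obtain ⟨k', rfl⟩ := Nat.exists_eq_succ_of_ne_zero hk.ne'
            simp [pow_succ]; ring
          rw [hi, ← MulAut.conj_apply, MulEquiv.orderOf_eq, hxk, Nat.pow_dvd_pow_iff_le_right (by norm_num)] at hord
          omega
        refine (Int.modEq_iff_dvd.2 ?_).symm
        have h5 := dvd_sub_pow_of_dvd_sub (R := ℤ) (p := 2) (a := i) (b := 1) (by simpa using hodd) k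
        rw [one_pow] at h5
        exact dvd_trans (by push_cast; exact pow_dvd_pow _ (Nat.le_succ k)) h5
    obtain ⟨b, hb⟩ := hoddpart
    have hcop : Nat.Coprime (2 ^ b) m :=
      Nat.Coprime.pow_left _ ((Nat.Prime.coprime_iff_not_dvd Nat.prime_two).2 hm)
    have hg' : g ^ ((2 ^ b : ℕ) * Nat.gcdA (2 ^ b) m + (m : ℕ) * Nat.gcdB (2 ^ b) m : ℤ) = g := by
      rw [← Nat.gcd_eq_gcd_ab, hcop.gcd_eq_one, Nat.cast_one, zpow_one]
    rw [← hg', zpow_add, zpow_mul, zpow_mul, zpow_natCast, zpow_natCast]
    exact (hb.zpow_left _).mul_left (h2part.zpow_left _)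

end Cfsg.Agent.S4028
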