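import Cfsg.Statements.S4029
import Cfsg.Agent.GroupBasics.RealLinear
import Cfsg.Agent.RealChars.Basic

set_option autoImplicit false
open Cfsg

namespace Cfsg.Agent.S4029

/-- Let P be a finite 2-group in which N_P(⟨y⟩) = C_P(y) for every y ∈ P. If s is the number of conjugacy classes of involutions of P, then #(P/Φ(P)) ≤ s + 1; in particular the subgroup generated by the involutions of P has order at least #(P/Φ(P)). -/
theorem result {P : Type*} [Group P] [Finite P] (hP : IsPGroup 2 P)
    (hirr : ∀ y : P, Subgroup.normalizer ((Subgroup.zpowers y : Subgroup P) : Set P) ≤ Subgroup.centralizer {y}) :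
    Nat.card (P ⧸ frattini P) ≤ Nat.card {c : ConjClasses P // ∃ y : P, ConjClasses.mk y = c ∧ orderOf y = 2} + 1 ∧
    Nat.card (P ⧸ frattini P) ≤ Nat.card (Subgroup.closure {y : P | orderOf y = 2}) := by
  classical
  have hfin : Finite {y : P // orderOf y = 2} := inferInstance
  have hlin : Nat.card (P ⧸ frattini P) ≤
      Nat.card {χ : Cfsg.IrrCharacter P // ∀ y, ((χ : P → ℂ) y).im = 0} := by
    haveI := Fintype.ofFinite P
    rw [← CfsgLib.GroupBasics.card_signHom hP]
    refine Nat.card_le_card_of_injective (fun f => ⟨⟨fun g => ((f : P →* ℂˣ) g : ℂ),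
      CfsgLib.Characters.isIrr_linChar _⟩, fun g => ?_⟩) ?_
    · exact Complex.conj_eq_iff_im.1 (CfsgLib.GroupBasics.signHom_conj f g)
    · intro f f' h
      exact Subtype.ext (MonoidHom.ext fun g =>
        Units.ext (congrFun (congrArg Subtype.val (congrArg Subtype.val h)) g))
  rw [CfsgLib.RealChars.card_real_irr] at hlin
  -- a real element squares to one
  have hreal : ∀ y : P, IsConj y y⁻¹ → y ≠ 1 → orderOf y = 2 := by
    intro y hy hy1
    obtain ⟨c, hc⟩ := isConj_iff.1 hy
    have hcN : c ∈ Subgroup.normalizer ((Subgroup.zpowers y : Subgroup P) : Set P) := by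
      rw [Subgroup.mem_normalizer_iff]
      intro z
      constructor
      · intro hz
        obtain ⟨j, rfl⟩ := Subgroup.mem_zpowers_iff.1 hz
        rw [← conj_zpow, hc]
        exact zpow_mem (inv_mem (Subgroup.mem_zpowers y)) j
      · intro hz
        obtain ⟨j, hj⟩ := Subgroup.mem_zpowers_iff.1 hz
        refine Subgroup.mem_zpowers_iff.2 ⟨-j, ?_⟩
        have h3 : (c * y * c⁻¹) ^ (-j) = c * z * c⁻¹ := by rw [hc, inv_zpow, zpow_neg, inv_inv, hj]
        rw [conj_zpow] at h3
        exact mul_left_cancel (mul_right_cancel h3)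
    have h1 := Subgroup.mem_centralizer_singleton_iff.1 (hirr y hcN)
    have h2 : c * y * c⁻¹ = y := by rw [h1, mul_inv_cancel_right]
    rw [h2] at hc
    exact orderOf_eq_prime (by rw [pow_two]; exact mul_eq_one_iff_eq_inv.2 hc) hy1
  have hclasses : Nat.card {C : ConjClasses P // ∀ y, ConjClasses.mk y = C → IsConj y y⁻¹} ≤
      Nat.card {c : ConjClasses P // ∃ y : P, ConjClasses.mk y = c ∧ orderOf y = 2} + 1 := by
    rw [← Finite.card_option]
    refine Nat.card_le_card_of_injective (fun C => if h : ∃ y : P, ConjClasses.mk y = C.1 ∧ orderOf y = 2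
      then some ⟨C.1, h⟩ else none) ?_
    have hone : ∀ C : {C : ConjClasses P // ∀ y, ConjClasses.mk y = C → IsConj y y⁻¹},
        ¬ (∃ y : P, ConjClasses.mk y = C.1 ∧ orderOf y = 2) → C.1 = ConjClasses.mk 1 := by
      intro C h
      obtain ⟨y, hy⟩ := ConjClasses.mk_surjective C.1
      by_contra hne
      exact h ⟨y, hy, hreal y (C.2 y hy) fun h1 => hne (by rw [← hy, h1])⟩
    intro C C' h
    simp only at h
    split_ifs at h with h1 h2
    · exact Subtype.ext (Subtype.ext_iff.1 (Option.some.inj h) :)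
    · exact Subtype.ext ((hone C h1).trans (hone C' ‹_›).symm)
  refine ⟨hlin.trans hclasses, hlin.trans (hclasses.trans ?_)⟩
  -- classes of involutions, plus one, are at most the order of the subgroup they generate
  have h1 : Nat.card {c : ConjClasses P // ∃ y : P, ConjClasses.mk y = c ∧ orderOf y = 2} ≤
      Nat.card {y : P // orderOf y = 2} :=
    Nat.card_le_card_of_surjective (fun y => ⟨ConjClasses.mk y.1, y.1, rfl, y.2⟩)
      (fun ⟨_, y, hy, hy2⟩ => ⟨⟨y, hy2⟩, Subtype.ext hy⟩)
  refine le_trans (Nat.add_le_add_right h1 1) ?_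
  rw [← Finite.card_option]
  refine Nat.card_le_card_of_injective (fun o => o.elim (1 : Subgroup.closure {y : P | orderOf y = 2})
    fun y => ⟨y.1, Subgroup.subset_closure y.2⟩) ?_
  rintro (_ | ⟨y, hy⟩) (_ | ⟨y', hy'⟩) h <;> simp only [Option.elim, Subtype.ext_iff, OneMemClass.coe_one] at h
  · rfl
  · subst h; simp at hy'
  · subst h; simp at hy
  · subst h; rfl

end Cfsg.Agent.S4029
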