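import Cfsg.Statements.S4032
import Cfsg.Agent.GroupBasics.Lift

set_option autoImplicit false
open Cfsg

namespace Cfsg.Agent.S4032

/-- Let π be a set of primes and G a finite group in which N_G(⟨x⟩) = C_G(x) for every π-element x. If N is a normal subgroup of G whose order is divisible by no prime of π, then G/N has the same property: N_{G/N}(⟨y⟩) = C_{G/N}(y) for every π-element y of G/N. -/
theorem result {G : Type*} [Group G] [Finite G] (π : Set ℕ)
    (hirr : ∀ x : G, (∀ r : ℕ, r.Prime → r ∣ orderOf x → r ∈ π) →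
      Subgroup.normalizer ((Subgroup.zpowers x : Subgroup G) : Set G) ≤ Subgroup.centralizer {x})
    (N : Subgroup G) [N.Normal] (hN : ∀ r : ℕ, r.Prime → r ∣ Nat.card N → r ∉ π) :
    ∀ y : G ⧸ N, (∀ r : ℕ, r.Prime → r ∣ orderOf y → r ∈ π) →
      Subgroup.normalizer ((Subgroup.zpowers y : Subgroup (G ⧸ N)) : Set (G ⧸ N)) ≤ Subgroup.centralizer {y} := by
  intro y hy
  have hcop : ∀ d : ℕ, d ≠ 0 → (∀ r : ℕ, r.Prime → r ∣ d → r ∈ π) → (Nat.card N).Coprime d :=
    fun d _ hd => Nat.coprime_of_dvd fun r hr h1 h2 => hN r hr h1 (hd r hr h2)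
  obtain ⟨x, rfl, hxo⟩ := CfsgLib.GroupBasics.exists_lift_orderOf_eq y (hcop _ (orderOf_pos y).ne' hy)
  intro g hg
  obtain ⟨g₀, rfl⟩ := QuotientGroup.mk_surjective g
  obtain ⟨g', hg', hg'N⟩ := CfsgLib.GroupBasics.exists_mem_normalizer_lift
    (hxo ▸ hcop _ (orderOf_pos (x : G ⧸ N)).ne' hy) hg
  have h := Subgroup.mem_centralizer_singleton_iff.1 (hirr x (fun r hr hd => hy r hr (hxo ▸ hd)) hg'N)
  rw [Subgroup.mem_centralizer_singleton_iff, ← hg', ← QuotientGroup.mk_mul, h, QuotientGroup.mk_mul]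

end Cfsg.Agent.S4032
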