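import Cfsg.Statements.S4035
import Cfsg.Agent.GroupBasics.Conjugates

set_option autoImplicit false
open Cfsg

namespace Cfsg.Agent.S4035

/-- Let G be a finite group and p a prime such that p divides the size of no conjugacy class of p-regular elements (elements of order prime to p). Then G is the internal direct product of a Sylow p-subgroup P and a normal subgroup H of order prime to p: P is normal, P ⊓ H = 1 and PH = G. -/
theorem result {G : Type*} [Group G] [Finite G] {p : ℕ} [Fact p.Prime]
    (h : ∀ x : G, (orderOf x).Coprime p → ¬ p ∣ (ConjClasses.mk x).carrier.ncard) (P : Sylow p G) :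
    (P : Subgroup G).Normal ∧ ∃ H : Subgroup G, H.Normal ∧ ¬ p ∣ Nat.card H ∧
      (P : Subgroup G) ⊓ H = ⊥ ∧ (P : Subgroup G) ⊔ H = ⊤ := by
  have hPtop : (P : Subgroup G) ⊔ Subgroup.centralizer ((P : Subgroup G) : Set G) = ⊤ := by
    refine CfsgLib.GroupBasics.eq_top_of_forall_conj_mem fun g => ?_
    obtain ⟨k, m, hm, hkm⟩ := Nat.exists_eq_pow_mul_and_not_dvd (orderOf_pos g).ne' p (Fact.out : p.Prime).ne_one
    have hm0 : 0 < m := Nat.pos_of_ne_zero fun h => hm (h ▸ dvd_zero p)
    have hp0 : 0 < p := (Fact.out : p.Prime).pos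
    have hcop : (p ^ k).Coprime m := ((Fact.out : p.Prime).coprime_iff_not_dvd.2 hm).pow_left k
    obtain ⟨a, b, hab⟩ : ∃ a b : ℤ, a * (p ^ k : ℕ) + b * m = 1 := by
      obtain ⟨a, b, hab⟩ := Int.isCoprime_iff_nat_coprime (a := (p ^ k : ℕ)) (b := (m : ℕ)) |>.2
        (by simpa using hcop)
      exact ⟨a, b, hab⟩
    set u := g ^ (a * (p ^ k : ℕ)) with hu
    set v := g ^ (b * m) with hv
    have huv : v * u = g := by rw [hu, hv, ← zpow_add, add_comm, hab, zpow_one]
    have hcu : (orderOf u).Coprime p := by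
      have : orderOf u ∣ m := by
        rw [orderOf_dvd_iff_pow_eq_one, hu, ← zpow_natCast, ← zpow_mul, mul_assoc,
          ← Nat.cast_mul, ← hkm, mul_comm, zpow_mul, zpow_natCast, pow_orderOf_eq_one, one_zpow]
      exact ((Fact.out : p.Prime).coprime_iff_not_dvd.2 fun h' => hm (h'.trans this)).symm
    have hpv : IsPGroup p (Subgroup.zpowers v) := by
      refine IsPGroup.of_card (p := p) ?_ (n := ((orderOf v).factorization p))
      rw [Nat.card_zpowers]
      have : orderOf v ∣ p ^ k := by
        rw [orderOf_dvd_iff_pow_eq_one, hv, ← zpow_natCast, ← zpow_mul, mul_assoc, ← Nat.cast_mul,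
          mul_comm m, ← hkm, mul_comm, zpow_mul, zpow_natCast, pow_orderOf_eq_one, one_zpow]
      obtain ⟨i, -, hi⟩ := (Nat.dvd_prime_pow (Fact.out : p.Prime)).1 this
      rw [hi, (Fact.out : p.Prime).factorization_pow, Finsupp.single_eq_same]
    have hvC : Subgroup.zpowers v ≤ Subgroup.centralizer ({u} : Set G) := by
      rw [Subgroup.zpowers_le, Subgroup.mem_centralizer_singleton_iff, hu, hv, ← zpow_add, ← zpow_add,
        add_comm]
    have hidx : ¬ p ∣ (Subgroup.centralizer ({u} : Set G)).index :=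
      CfsgLib.GroupBasics.card_carrier_eq_index_centralizer u ▸ h u hcu
    obtain ⟨S, hvS, hSC⟩ := CfsgLib.GroupBasics.exists_sylow_le hidx hpv hvC
    obtain ⟨c, hc⟩ := MulAction.exists_smul_eq G S P
    have hmem : ∀ s ∈ (S : Subgroup G), c * s * c⁻¹ ∈ (P : Subgroup G) := by
      intro s hs
      rw [← hc, Sylow.coe_subgroup_smul, Subgroup.mem_pointwise_smul_iff_inv_smul_mem]
      simpa [MulAut.smul_def, mul_assoc] using hs
    refine ⟨c, ?_⟩
    rw [← huv, show c * (v * u) * c⁻¹ = c * v * c⁻¹ * (c * u * c⁻¹) by group]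
    refine Subgroup.mul_mem_sup (hmem v (hvS (Subgroup.mem_zpowers v))) ?_
    rw [Subgroup.mem_centralizer_iff]
    intro t ht
    have ht' : c⁻¹ * t * c ∈ (S : Subgroup G) := by
      rw [← hc, Sylow.coe_subgroup_smul, SetLike.mem_coe,
        Subgroup.mem_pointwise_smul_iff_inv_smul_mem] at ht
      simpa [MulAut.smul_def, mul_assoc] using ht
    have := Subgroup.mem_centralizer_singleton_iff.1 (hSC ht')
    calc t * (c * u * c⁻¹) = c * ((c⁻¹ * t * c) * u) * c⁻¹ := by group
      _ = c * (u * (c⁻¹ * t * c)) * c⁻¹ := by rw [this]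
      _ = _ := by group
  have hN : (P : Subgroup G).Normal := by
    rw [← Subgroup.normalizer_eq_top_iff, eq_top_iff, ← hPtop]
    refine sup_le Subgroup.le_normalizer (Subgroup.centralizer_le_normalizer _)
  refine ⟨hN, ?_⟩
  obtain ⟨H, hH⟩ := Subgroup.exists_right_complement'_of_coprime (N := (P : Subgroup G)) P.card_coprime_index
  have hcardH : Nat.card H = (P : Subgroup G).index := hH.symm.index_eq_card.symm
  have hHp : ¬ p ∣ Nat.card H := hcardH ▸ P.not_dvd_index
  have hHC : H ≤ Subgroup.centralizer ((P : Subgroup G) : Set G) := by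
    intro x hx
    have hx' : (orderOf x).Coprime p := ((Fact.out : p.Prime).coprime_iff_not_dvd.2 fun hd =>
      hHp (hd.trans (Subgroup.orderOf_dvd_natCard H hx))).symm
    have hidx : ¬ p ∣ (Subgroup.centralizer ({x} : Set G)).index :=
      CfsgLib.GroupBasics.card_carrier_eq_index_centralizer x ▸ h x hx'
    obtain ⟨S, -, hS⟩ := CfsgLib.GroupBasics.exists_sylow_le hidx (IsPGroup.of_bot (p := p)) bot_le
    have := Sylow.unique_of_normal P hN
    rw [Subsingleton.elim S P] at hS
    rw [Subgroup.mem_centralizer_iff]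
    exact fun s hs => Subgroup.mem_centralizer_singleton_iff.1 (hS hs)
  refine ⟨H, ?_, hHp, disjoint_iff.1 hH.disjoint, hH.sup_eq_top⟩
  rw [← Subgroup.normalizer_eq_top_iff, eq_top_iff, ← hH.sup_eq_top]
  refine sup_le (fun g hg => ?_) Subgroup.le_normalizer
  rw [Subgroup.mem_normalizer_iff]
  intro x
  constructor
  · intro hx
    rwa [Subgroup.mem_centralizer_iff.1 (hHC hx) g hg, mul_inv_cancel_right]
  · intro hx
    have := Subgroup.mem_centralizer_iff.1 (hHC hx) g hg
    have hx' : x = g * x * g⁻¹ := by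
      calc x = g⁻¹ * (g * x * g⁻¹ * g) := by group
        _ = g⁻¹ * (g * (g * x * g⁻¹)) := by rw [this]
        _ = _ := by group
    rwa [hx']

end Cfsg.Agent.S4035
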