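import Cfsg.Statements.S4036

set_option autoImplicit false
open Cfsg

namespace Cfsg.Agent.S4036

/-- Let P be a finite abelian p-group and K a group of automorphisms of P (a subgroup of Aut P) whose order is divisible by p. If all non-identity elements of K have the same fixed-point subgroup on P, then K has no non-trivial normal subgroup of order prime to p. -/
theorem result {P : Type*} [CommGroup P] [Finite P] {p : ℕ}
    [Fact p.Prime] (hP : IsPGroup p P) (K : Subgroup (MulAut P)) (hK : p ∣ Nat.card K)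
    (hfix : ∀ x y : MulAut P, x ∈ K → y ∈ K → x ≠ 1 → y ≠ 1 → ∀ v : P, x v = v ↔ y v = v) :
    ∀ N : Subgroup ↥K, N.Normal → ¬ p ∣ Nat.card N → N = ⊥ := by
  classical
  intro N hN hNp
  by_contra hne
  obtain ⟨⟨y, hyK⟩, hy⟩ := exists_prime_orderOf_dvd_card' p hK
  rw [Subgroup.orderOf_mk] at hy
  have hy1 : y ≠ 1 := fun h => (Fact.out : p.Prime).ne_one (by rw [← hy, h, orderOf_one])
  have : Fintype N := Fintype.ofFinite N
  -- the norm map of `N`
  let φ : P →* P :=
    { toFun := fun v => ∏ n : N, ((n : K) : MulAut P) v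
      map_one' := by simp
      map_mul' := fun a b => by simp [Finset.prod_mul_distrib] }
  have hφN : ∀ (m : N) (v : P), φ (((m : K) : MulAut P) v) = φ v := by
    intro m v
    exact Fintype.prod_equiv (Equiv.mulRight m) _ _ fun n => by simp [MulAut.mul_apply]
  have hyφ : ∀ v : P, φ v = 1 → φ (y v) = 1 := by
    intro v hv
    let e : N ≃ N :=
      { toFun := fun n => ⟨⟨y, hyK⟩⁻¹ * (n : K) * ⟨y, hyK⟩, hN.conj_mem' _ n.2 _⟩
        invFun := fun n => ⟨⟨y, hyK⟩ * (n : K) * ⟨y, hyK⟩⁻¹, hN.conj_mem _ n.2 _⟩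
        left_inv := fun n => Subtype.ext (by group)
        right_inv := fun n => Subtype.ext (by group) }
    have heq : φ (y v) = y (φ v) := by
      show ∏ n : N, ((n : K) : MulAut P) (y v) = y (∏ n : N, ((n : K) : MulAut P) v)
      rw [map_prod]
      refine Fintype.prod_equiv e _ _ fun n => ?_
      simp [e, MulAut.mul_apply]
    rw [heq, hv, map_one]
  obtain ⟨⟨n₀, hn₀⟩, hn₀1⟩ := Subgroup.ne_bot_iff_exists_ne_one.1 hne
  have hn₀' : ((n₀ : K) : MulAut P) ≠ 1 := fun h => hn₀1 (Subtype.ext (Subtype.ext h))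
  have hfixN : ∀ (v : P) (n : N), y v = v → ((n : K) : MulAut P) v = v := by
    intro v n hv
    rcases eq_or_ne ((n : K) : MulAut P) 1 with h | h
    · rw [h]; rfl
    · exact (hfix y _ hyK (n : K).2 hy1 h v).1 hv
  have hker : φ.ker = ⊥ := by
    by_contra hk
    obtain ⟨k, hk'⟩ := IsPGroup.iff_card.1 (hP.to_subgroup φ.ker)
    have hk0 : k ≠ 0 := by
      rintro rfl
      exact hk (Subgroup.card_eq_one.1 (by simpa using hk'))
    have hyp : y ^ p = 1 := hy ▸ pow_orderOf_eq_one y
    have hinv : ∀ v : φ.ker, y v ∈ φ.ker := fun v => hyφ v v.2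
    let f : φ.ker → φ.ker := fun v => ⟨y v, hinv v⟩
    have hiter : ∀ (j : ℕ) (v : φ.ker), ((f^[j] v : φ.ker) : P) = (y ^ j) v := by
      intro j
      induction j with
      | zero => intro v; rfl
      | succ j ih => intro v; rw [Function.iterate_succ_apply', pow_succ', MulAut.mul_apply, ← ih]
    let σ : Equiv.Perm φ.ker := Equiv.ofBijective f
      (Finite.injective_iff_bijective.1 fun a b h => Subtype.ext (y.injective (congrArg Subtype.val h)))
    have : Fintype φ.ker := Fintype.ofFinite _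
    have hσ : σ ^ p ^ 1 = 1 := by
      ext v
      rw [pow_one, ← Equiv.Perm.iterate_eq_pow]
      show ((f^[p] v : φ.ker) : P) = v
      rw [hiter, hyp]; rfl
    obtain ⟨v, hv, hv1⟩ := Equiv.Perm.exists_fixed_point_of_prime'
      (hα := Nat.card_eq_fintype_card (α := φ.ker) ▸ hk' ▸ dvd_pow_self p hk0) hσ
      (a := (1 : φ.ker)) (Subtype.ext (map_one y))
    apply hv1
    apply Subtype.ext
    have h1 : φ (v : P) = (v : P) ^ Nat.card N := by
      show ∏ n : N, ((n : K) : MulAut P) (v : P) = _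
      rw [Finset.prod_congr rfl fun n _ => hfixN (v : P) n (congrArg Subtype.val hv),
        Finset.prod_const, Finset.card_univ, Nat.card_eq_fintype_card]
    rw [show φ (v : P) = 1 from v.2] at h1
    obtain ⟨j, hj⟩ := hP (v : P)
    have h2 := orderOf_dvd_of_pow_eq_one hj
    have h3 := orderOf_dvd_of_pow_eq_one h1.symm
    exact orderOf_eq_one_iff.1
      (Nat.eq_one_of_dvd_coprimes (((Fact.out : p.Prime).coprime_iff_not_dvd.2 hNp).pow_left j) h2 h3)
  apply hn₀'
  ext v
  exact (MonoidHom.ker_eq_bot_iff φ).1 hker (hφN ⟨n₀, hn₀⟩ v)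

end Cfsg.Agent.S4036
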