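import Cfsg.Statements.S4043
import Cfsg.Agent.Coprime.SchurZassenhaus
import Cfsg.Agent.Transfer.NormalPComplement
import Cfsg.Agent.Solvable.SchurZassenhaus

set_option autoImplicit false
open Cfsg

namespace Cfsg.Agent.S4043

open scoped Pointwise

/-- The normal `p`-complement of a subgroup, as a subgroup of the ambient group. -/
theorem exists_core {G : Type*} [Group G] [Finite G] {p : ℕ} [Fact p.Prime] {A : Subgroup G}
    (h : Cfsg.HasNormalPComplement p A) :
    ∃ K : Subgroup G, K ≤ A ∧ A ≤ Subgroup.normalizer (K : Set G) ∧ ¬ p ∣ Nat.card K ∧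
      ∃ k : ℕ, K.relIndex A = p ^ k := by
  obtain ⟨P, M, hM, hMP⟩ := h
  refine ⟨M.map A.subtype, Subgroup.map_subtype_le M, ?_, ?_, ?_⟩
  · have := Subgroup.le_normalizer_map A.subtype (H := M)
    rwa [Subgroup.normalizer_eq_top_iff.2 hM, ← MonoidHom.range_eq_map, Subgroup.range_subtype] at this
  · rw [Subgroup.card_map_of_injective A.subtype_injective]
    exact CfsgLib.Transfer.not_dvd_card_of_isComplement' hMP
  · obtain ⟨k, hk⟩ := IsPGroup.iff_card.1 P.2
    refine ⟨k, ?_⟩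
    rw [Subgroup.relIndex, Subgroup.subgroupOf, Subgroup.comap_map_eq_self_of_injective A.subtype_injective]
    rw [hMP.symm.index_eq_card, hk]

/-- The p'-elements of `G` lie in `N ⊔ K`. -/
theorem sup_eq {G : Type*} [Group G] [Finite G] {p : ℕ} [Fact p.Prime] (N : Subgroup G) [N.Normal]
    (hN : IsPGroup p N) (A : Subgroup G) (hA : A.IsComplement' N) (K : Subgroup G) (hKA : K ≤ A)
    (hKn : A ≤ Subgroup.normalizer (K : Set G)) (hKi : ∃ k : ℕ, K.relIndex A = p ^ k)
    (L : Subgroup G) (hL : ¬ p ∣ Nat.card L) : L ≤ N ⊔ K := by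
  have hnorm : (N ⊔ K).Normal := by
    rw [← Subgroup.normalizer_eq_top_iff, eq_top_iff, ← hA.sup_eq_top]
    refine sup_le (fun a ha => ?_) (le_sup_left.trans Subgroup.le_normalizer)
    rw [CfsgLib.Coprime.mem_normalizer_iff_conj_smul_eq, Subgroup.smul_sup,
      CfsgLib.Coprime.mem_normalizer_iff_conj_smul_eq.1 (hKn ha),
      CfsgLib.Coprime.conj_smul_eq_self (Subgroup.le_normalizer_of_normal (H := N) (Subgroup.mem_top a))]
  obtain ⟨k, hk⟩ := hKi
  have hidx : (N ⊔ K).index ∣ p ^ k := by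
    have h1 : Nat.card K * p ^ k = Nat.card A := by
      rw [← hk, ← Nat.card_congr (Subgroup.subgroupOfEquivOfLe hKA).toEquiv]
      exact Subgroup.card_mul_index _
    have h2 : (Nat.card N * Nat.card K) ∣ Nat.card (N ⊔ K : Subgroup G) := by
      have hdis : Disjoint K N := hA.disjoint.mono_left hKA
      rw [sup_comm, CfsgLib.Solvable.card_sup_of_disjoint N K hdis]
      exact dvd_of_eq (by ring)
    have h3 := (N ⊔ K).card_mul_index
    rw [← hA.card_mul_card, ← h1] at h3
    obtain ⟨c, hc⟩ := h2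
    rw [hc] at h3
    refine ⟨c, Nat.eq_of_mul_eq_mul_left (Nat.mul_pos (Nat.card_pos (α := N)) (Nat.card_pos (α := K))) ?_⟩
    linarith
  intro x hx
  rw [← QuotientGroup.eq_one_iff, ← orderOf_eq_one_iff]
  refine Nat.eq_one_of_dvd_coprimes
    (((Fact.out : p.Prime).coprime_iff_not_dvd.2 fun h => hL (h.trans
      (Subgroup.orderOf_dvd_natCard L hx))).pow_left k) ?_ (orderOf_map_dvd (QuotientGroup.mk' (N ⊔ K)) x)
  exact (orderOf_dvd_natCard _).trans hidx

/-- A fixed point free complement is the normalizer of its p-complement. -/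
theorem normalizer_eq {G : Type*} [Group G] [Finite G] {p : ℕ} [Fact p.Prime] (N : Subgroup G) [N.Normal]
    (hN : IsPGroup p N) (A : Subgroup G) (hA : A.IsComplement' N)
    (hC : ∀ n : G, n ∈ N → (∀ a : G, a ∈ A → a * n * a⁻¹ = n) → n = 1)
    (hAp : Cfsg.HasNormalPComplement p A)
    (K : Subgroup G) (hKA : K ≤ A) (hKn : A ≤ Subgroup.normalizer (K : Set G))
    (hKp : ¬ p ∣ Nat.card K) (hKi : ∃ k : ℕ, K.relIndex A = p ^ k) :
    Subgroup.normalizer (K : Set G) = A := by
  have : (K.subgroupOf A).Normal := (Subgroup.normal_subgroupOf_iff_le_normalizer hKA).2 hKn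
  set C := N ⊓ Subgroup.centralizer (K : Set G) with hCdef
  have hinv : ∀ a ∈ A, ∀ c ∈ C, a * c * a⁻¹ ∈ C := by
    intro a ha c hc
    obtain ⟨hcN, hcK⟩ := Subgroup.mem_inf.1 hc
    refine Subgroup.mem_inf.2 ⟨Subgroup.Normal.conj_mem inferInstance c hcN a, ?_⟩
    rw [Subgroup.mem_centralizer_iff] at hcK ⊢
    intro s hs
    have hs' : a⁻¹ * s * a ∈ K := by
      simpa using (Subgroup.mem_normalizer_iff.1 ((Subgroup.normalizer (K : Set G)).inv_mem (hKn ha)) s).1 hs
    calc s * (a * c * a⁻¹) = a * ((a⁻¹ * s * a) * c) * a⁻¹ := by group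
      _ = a * (c * (a⁻¹ * s * a)) * a⁻¹ := by rw [hcK _ hs']
      _ = _ := by group
  have hCbot : C = ⊥ := by
    by_contra hne
    let act : MulAction A C :=
      { smul := fun a c => ⟨a * c * (a : G)⁻¹, hinv a a.2 c c.2⟩
        one_smul := fun c => Subtype.ext (show (1 : G) * c * (1 : G)⁻¹ = c by simp)
        mul_smul := fun a b c => Subtype.ext
          (show (a * b : G) * c * (a * b : G)⁻¹ = a * (b * c * (b : G)⁻¹) * (a : G)⁻¹ by group) }
    have hKfix : ∀ a : A, (a : G) ∈ K → ∀ c : C, a • c = c := fun a ha c => Subtype.ext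
      (show (a : G) * c * (a : G)⁻¹ = c by
        rw [Subgroup.mem_centralizer_iff.1 (Subgroup.mem_inf.1 c.2).2 _ ha, mul_inv_cancel_right])
    obtain ⟨R⟩ : Nonempty (Sylow p A) := inferInstance
    have hCp : IsPGroup p C := hN.to_le inf_le_left
    obtain ⟨k, hk⟩ := IsPGroup.iff_card.1 hCp
    have hk0 : k ≠ 0 := by
      rintro rfl
      exact hne (Subgroup.card_eq_one.1 (by simpa using hk))
    obtain ⟨c, hc, hc1⟩ := R.2.exists_fixed_point_of_prime_dvd_card_of_fixed_point C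
      (hk ▸ dvd_pow_self p hk0) (a := (1 : C))
      (fun r => Subtype.ext (show ((r : A) : G) * 1 * ((r : A) : G)⁻¹ = 1 by simp))
    apply hc1
    apply Subtype.ext
    show (1 : G) = c
    refine (hC _ (Subgroup.mem_inf.1 c.2).1 fun a ha => ?_).symm
    have htop : (K.subgroupOf A) ⊔ (R : Subgroup A) = ⊤ := by
      obtain ⟨k, hk⟩ := hKi
      rw [← Subgroup.index_eq_one]
      have h1 : ((K.subgroupOf A) ⊔ (R : Subgroup A)).index ∣ p ^ k :=
        hk ▸ Subgroup.index_dvd_of_le le_sup_left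
      have h2 : ¬ p ∣ ((K.subgroupOf A) ⊔ (R : Subgroup A)).index := fun h =>
        R.not_dvd_index (h.trans (Subgroup.index_dvd_of_le le_sup_right))
      exact Nat.eq_one_of_dvd_coprimes (((Fact.out : p.Prime).coprime_iff_not_dvd.2 h2).pow_left k)
        h1 dvd_rfl
    have hst : (K.subgroupOf A) ⊔ (R : Subgroup A) ≤ MulAction.stabilizer A c :=
      sup_le (fun b hb => hKfix b hb c) (fun b hb => hc ⟨b, hb⟩)
    rw [htop] at hst
    exact congrArg Subtype.val (hst (Subgroup.mem_top (⟨a, ha⟩ : A)))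
  refine le_antisymm (fun g hg => ?_) hKn
  obtain ⟨⟨⟨a, ha⟩, ⟨m, hm⟩⟩, rfl⟩ := hA.2 g
  have hmK : m ∈ Subgroup.normalizer (K : Set G) := by
    have := (Subgroup.normalizer (K : Set G)).mul_mem ((Subgroup.normalizer (K : Set G)).inv_mem (hKn ha)) hg
    simpa using this
  have hmC : m ∈ C := by
    refine Subgroup.mem_inf.2 ⟨hm, Subgroup.mem_centralizer_iff.2 fun s hs => ?_⟩
    have h1 : m * s * m⁻¹ * s⁻¹ ∈ K := K.mul_mem ((Subgroup.mem_normalizer_iff.1 hmK s).1 hs) (K.inv_mem hs)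
    have h2 : m * s * m⁻¹ * s⁻¹ ∈ N := by
      rw [show m * s * m⁻¹ * s⁻¹ = m * (s * m⁻¹ * s⁻¹) by group]
      exact N.mul_mem hm (Subgroup.Normal.conj_mem inferInstance _ (N.inv_mem hm) s)
    have h3 := Subgroup.disjoint_def.1 hA.disjoint (hKA h1) h2
    exact (mul_inv_eq_iff_eq_mul.1 (mul_inv_eq_one.1 h3)).symm
  rw [hCbot, Subgroup.mem_bot] at hmC
  simpa [hmC] using ha

/-- Let G be a finite group that is the semidirect product of a normal p-subgroup N by a subgroup A, and also of N by a subgroup A₁, where p is a prime and A and A₁ both have normal p-complements. If C_N(A) = C_N(A₁) = 1, then A₁ is conjugate to A by an element of N. -/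
theorem result {G : Type*} [Group G] [Finite G] {p : ℕ}
    [Fact p.Prime] (N : Subgroup G) [N.Normal] (hN : IsPGroup p N) (A A₁ : Subgroup G)
    (hA : A.IsComplement' N) (hA₁ : A₁.IsComplement' N)
    (hAp : Cfsg.HasNormalPComplement p A) (hA₁p : Cfsg.HasNormalPComplement p A₁)
    (hC : ∀ n : G, n ∈ N → (∀ a : G, a ∈ A → a * n * a⁻¹ = n) → n = 1)
    (hC₁ : ∀ n : G, n ∈ N → (∀ a : G, a ∈ A₁ → a * n * a⁻¹ = n) → n = 1) :
    ∃ n : G, n ∈ N ∧ A₁ = A.map (MulAut.conj n).toMonoidHom := by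
  classical
  -- the normal p-complements of the two complements of N
  obtain ⟨K, hKA, hKn, hKp, hKi⟩ := exists_core hAp
  obtain ⟨K₁, hK₁A, hK₁n, hK₁p, hK₁i⟩ := exists_core hA₁p
  have hsup := sup_eq N hN A hA K hKA hKn hKi K₁ hK₁p
  have hsup₁ := sup_eq N hN A₁ hA₁ K₁ hK₁A hK₁n hK₁i K hKp
  have hcardK : ∀ L : Subgroup G, ¬ p ∣ Nat.card L → (Nat.card N).Coprime (Nat.card L) := by
    intro L hL
    obtain ⟨k, hk⟩ := IsPGroup.iff_card.1 hN
    rw [hk]
    exact ((Fact.out : p.Prime).coprime_iff_not_dvd.2 hL).pow_left k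
  have hsolv : Group.IsSolvable N := by
    have := hN.isNilpotent
    infer_instance
  have hle : N ⊔ K = N ⊔ K₁ := le_antisymm (sup_le le_sup_left hsup₁) (sup_le le_sup_left hsup)
  have hcard : Nat.card K₁ = Nat.card K := by
    have h1 := CfsgLib.Coprime.card_sup_eq (N := N) (H := K) Subgroup.le_normalizer_of_normal
      (disjoint_iff.1 (CfsgLib.Solvable.disjoint_of_coprime (hcardK K hKp).symm))
    have h2 := CfsgLib.Coprime.card_sup_eq (N := N) (H := K₁) Subgroup.le_normalizer_of_normal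
      (disjoint_iff.1 (CfsgLib.Solvable.disjoint_of_coprime (hcardK K₁ hK₁p).symm))
    rw [hle, h2] at h1
    exact Nat.eq_of_mul_eq_mul_left Nat.card_pos h1
  obtain ⟨n, hn, hnK⟩ := CfsgLib.Coprime.exists_conj_eq_of_sup_eq (N := N) (H := K) (K := K₁)
    Subgroup.le_normalizer_of_normal Subgroup.le_normalizer_of_normal (hcardK K hKp) hcard hle
    (Or.inl hsolv)
  refine ⟨n, hn, ?_⟩
  rw [← normalizer_eq N hN A hA hC hAp K hKA hKn hKp hKi,
    ← normalizer_eq N hN A₁ hA₁ hC₁ hA₁p K₁ hK₁A hK₁n hK₁p hK₁i, ← hnK]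
  show _ = (Subgroup.normalizer (K : Set G)).map (MulAut.conj n).toMonoidHom
  exact (Subgroup.map_equiv_normalizer_eq K (MulAut.conj n)).symm

end Cfsg.Agent.S4043
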