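import Cfsg.Statements.S4049
import Cfsg.Agent.GroupBasics.Lift
import Cfsg.Agent.Small.BaerSuzuki
import Cfsg.Agent.Small.Dihedral
import Cfsg.Agent.PLocal.Cores

set_option autoImplicit false
open Cfsg

namespace Cfsg.Agent.S4049

/-- Let G be a finite group such that N_G(H)/C_G(H) has odd order for every nontrivial subgroup H of odd order. Then the Sylow 2-subgroups of G are normal. -/
theorem result {G : Type*} [Group G] [Finite G]
    (hhom : ∀ H : Subgroup G, H ≠ ⊥ → ¬ 2 ∣ Nat.card ↥H →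
        ¬ 2 ∣ (Subgroup.centralizer (H : Set G)).relIndex (Subgroup.normalizer (H : Set G))) (P : Sylow 2 G) :
    (P : Subgroup G).Normal := by
  by_contra hnorm
  have hN : (pCore 2 G).Normal := inferInstance
  have hle := CfsgLib.PLocal.pCore_le_sylow (p := 2) P
  have hne : pCore 2 G ≠ (P : Subgroup G) := fun h => hnorm (h ▸ hN)
  -- an involution of the quotient by the 2-core
  have hdvd : 2 ∣ Nat.card (G ⧸ pCore 2 G) := by
    by_contra hodd
    apply hne
    refine hle.antisymm fun s hs => ?_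
    rw [← QuotientGroup.eq_one_iff, ← orderOf_eq_one_iff]
    obtain ⟨k, hk⟩ := P.2 ⟨s, hs⟩
    have h1 : orderOf (s : G ⧸ pCore 2 G) ∣ 2 ^ k := orderOf_dvd_of_pow_eq_one (by
      rw [← QuotientGroup.mk_pow]
      simpa using congrArg (fun t : (P : Subgroup G) => ((t : G) : G ⧸ pCore 2 G)) hk)
    have h2 : (2 ^ k).Coprime (Nat.card (G ⧸ pCore 2 G)) :=
      (Nat.prime_two.coprime_iff_not_dvd.2 hodd).pow_left k
    exact Nat.eq_one_of_dvd_coprimes h2 h1 (orderOf_dvd_natCard _)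
  obtain ⟨t, ht⟩ := exists_prime_orderOf_dvd_card' 2 hdvd
  -- it inverts a nontrivial element of odd order
  obtain ⟨w, hw1, hwodd, hw⟩ : ∃ w : G ⧸ pCore 2 G, w ≠ 1 ∧ Odd (orderOf w) ∧ t * w * t⁻¹ = w⁻¹ := by
    by_contra hno
    push Not at hno
    obtain ⟨M, hM, hM2, htM⟩ := CfsgLib.Small.baerSuzuki_elem (p := 2) t fun g => by
      set t' := g * t * g⁻¹ with ht'def
      have ht' : orderOf t' = 2 := by rw [ht'def, CfsgLib.Small.orderOf_conj_eq, ht]
      by_cases htt : t = t'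
      · rw [← htt, Set.pair_eq_singleton, ← Subgroup.zpowers_eq_closure]
        exact IsPGroup.of_card (n := 1) (by rw [Nat.card_zpowers, ht, pow_one])
      obtain ⟨k, m, hm, hkm⟩ := Nat.exists_eq_two_pow_mul_odd (orderOf_pos (t * t')).ne'
      have hord : orderOf ((t * t') ^ 2 ^ k) = m := by
        rw [orderOf_pow_of_dvd (by positivity) (hkm ▸ dvd_mul_right _ _), hkm,
          Nat.mul_div_cancel_left _ (by positivity)]
      by_cases hm1 : m = 1
      · refine IsPGroup.of_card (n := k + 1) ?_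
        rw [CfsgLib.Small.card_closure_pair_invol ht ht' htt, hkm, hm1]
        ring
      · exact absurd (CfsgLib.Small.invol_conj_pow (CfsgLib.Small.invol_conj_mul ht ht') (2 ^ k))
          (hno _ (fun h => hm1 (by rw [← hord, h, orderOf_one])) (hord ▸ hm))
    have h := CfsgLib.PLocal.le_pCore (p := 2) hM2 htM
    rw [CfsgLib.PLocal.pCore_quotient_pCore_eq_bot, Subgroup.mem_bot] at h
    rw [h, orderOf_one] at ht
    omega
  -- lift it
  obtain ⟨k, hk⟩ := IsPGroup.iff_card.1 (CfsgLib.PLocal.isPGroup_pCore 2 G)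
  have hcop : (Nat.card (pCore 2 G)).Coprime (orderOf w) := by
    rw [hk]; exact (Nat.coprime_two_left.2 hwodd).pow_left k
  obtain ⟨x, rfl, hxo⟩ := CfsgLib.GroupBasics.exists_lift_orderOf_eq w hcop
  obtain ⟨g₀, rfl⟩ := QuotientGroup.mk_surjective t
  obtain ⟨g, hg, hgN⟩ := CfsgLib.GroupBasics.exists_mem_normalizer_lift (g := g₀) (hxo ▸ hcop) (by
    rw [Subgroup.mem_normalizer_iff]
    intro z
    refine ⟨fun hz => ?_, fun hz => ?_⟩
    · obtain ⟨j, rfl⟩ := Subgroup.mem_zpowers_iff.1 hz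
      rw [← conj_zpow, hw]
      exact zpow_mem (inv_mem (Subgroup.mem_zpowers _)) j
    · obtain ⟨j, hj⟩ := Subgroup.mem_zpowers_iff.1 hz
      have : z = (g₀ : G ⧸ pCore 2 G)⁻¹ * ((x : G ⧸ pCore 2 G) ^ j) * (g₀ : G ⧸ pCore 2 G) := by
        rw [hj]; group
      have hinv : (g₀ : G ⧸ pCore 2 G)⁻¹ = g₀ := CfsgLib.Small.inv_eq_self_of_orderOf_two ht
      rw [this, hinv]
      nth_rewrite 2 [← hinv]
      rw [← conj_zpow, hw]
      exact zpow_mem (inv_mem (Subgroup.mem_zpowers _)) j)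
  set H := Subgroup.zpowers x with hH
  have hinj : ∀ a ∈ H, (a : G ⧸ pCore 2 G) = 1 → a = 1 := by
    intro a ha h1
    have h2 : orderOf a ∣ Nat.card (pCore 2 G) :=
      Subgroup.orderOf_dvd_natCard _ ((QuotientGroup.eq_one_iff a).1 h1)
    have h3 : orderOf a ∣ orderOf x := by
      exact Nat.card_zpowers x ▸ Subgroup.orderOf_dvd_natCard _ ha
    exact orderOf_eq_one_iff.1 (Nat.eq_one_of_dvd_coprimes (hxo ▸ hcop) h2 h3)
  have hgx : g * x * g⁻¹ = x⁻¹ := by
    have hmem : g * x * g⁻¹ ∈ H := (Subgroup.mem_normalizer_iff.1 hgN x).1 (Subgroup.mem_zpowers x)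
    have h1 := hinj _ (H.mul_mem hmem (Subgroup.mem_zpowers x)) (by
      simp only [QuotientGroup.mk_mul, QuotientGroup.mk_inv, hg]
      rw [hw, inv_mul_cancel])
    exact eq_inv_of_mul_eq_one_left h1
  have hHne : H ≠ ⊥ := by
    rw [hH, Subgroup.zpowers_ne_bot]
    rintro rfl
    exact hw1 rfl
  have h2 : ¬ 2 ∣ Nat.card H := by
    rw [hH, Nat.card_zpowers, hxo]; exact hwodd.not_two_dvd_nat
  set Nm := Subgroup.normalizer ((H : Subgroup G) : Set G) with hNm
  set C := Subgroup.centralizer ((H : Subgroup G) : Set G) with hC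
  have hCn : (C.subgroupOf Nm).Normal := ⟨fun c hc a => by
    rw [Subgroup.mem_subgroupOf] at hc ⊢
    rw [hC, Subgroup.mem_centralizer_iff] at hc ⊢
    intro s hs
    simp only [Subgroup.coe_mul, InvMemClass.coe_inv]
    have hs' : (a : G)⁻¹ * s * a ∈ H := by
      simpa using (Subgroup.mem_normalizer_iff.1 (Nm.inv_mem a.2) s).1 hs
    calc s * (a * c * (a : G)⁻¹) = a * (((a : G)⁻¹ * s * a) * c) * (a : G)⁻¹ := by group
      _ = a * ((c : G) * ((a : G)⁻¹ * s * a)) * (a : G)⁻¹ := by rw [hc _ hs']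
      _ = _ := by group⟩
  have hmem2 : g ^ 2 ∈ C := by
    rw [hC, Subgroup.mem_centralizer_iff]
    intro s hs
    obtain ⟨j, rfl⟩ := Subgroup.mem_zpowers_iff.1 hs
    have : g ^ 2 * x * (g ^ 2)⁻¹ = x := by
      calc g ^ 2 * x * (g ^ 2)⁻¹ = g * (g * x * g⁻¹) * g⁻¹ := by rw [pow_two]; group
        _ = g * x⁻¹ * g⁻¹ := by rw [hgx]
        _ = (g * x * g⁻¹)⁻¹ := by group
        _ = x := by rw [hgx, inv_inv]
    exact (Commute.zpow_right (mul_inv_eq_iff_eq_mul.1 this) j).symm.eq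
  obtain ⟨j, hj⟩ := Nat.not_even_iff_odd.1 fun h => hhom H hHne h2 (even_iff_two_dvd.1 h)
  have hpow := (C.subgroupOf Nm).pow_index_mem ⟨g, hgN⟩
  rw [Subgroup.mem_subgroupOf, show (C.subgroupOf Nm).index = C.relIndex Nm from rfl, hj,
    SubmonoidClass.coe_pow, pow_succ, pow_mul,
    Subgroup.mul_mem_cancel_left _ (C.pow_mem hmem2 j)] at hpow
  have hcx : x * g = g * x := Subgroup.mem_centralizer_iff.1 hpow x (Subgroup.mem_zpowers x)
  rw [← hcx, mul_inv_cancel_right] at hgx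
  have hxx : x ^ 2 = 1 := by rw [pow_two]; nth_rewrite 2 [hgx]; exact mul_inv_cancel x
  have h3 := orderOf_dvd_of_pow_eq_one hxx
  rw [hxo] at h3
  rcases (Nat.dvd_prime Nat.prime_two).1 h3 with h | h
  · exact hw1 (orderOf_eq_one_iff.1 h)
  · rw [h] at hwodd; exact absurd hwodd (by decide)

end Cfsg.Agent.S4049
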