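import Cfsg.Statements.S4050
import Cfsg.Agent.GroupBasics.PiClosed

set_option autoImplicit false
open Cfsg

namespace Cfsg.Agent.S4050

/-- Let π be a set of primes and G a finite group. The π-elements of G (elements whose order is divisible only by primes of π) form a subgroup if and only if G is π-separable (it has a chain of normal subgroups from 1 to G with each successive index divisible only by primes in π or only by primes outside π) and N_G(H)/C_G(H) is a π'-group for every nontrivial π'-subgroup H of G. -/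
theorem result {G : Type*} [Group G] [Finite G] (π : Set ℕ)
    (hπ : ∀ p ∈ π, p.Prime) :
    (∃ K : Subgroup G, ∀ x : G, x ∈ K ↔ ∀ p : ℕ, p.Prime → p ∣ orderOf x → p ∈ π) ↔
    ((∃ (n : ℕ) (H : Fin (n + 1) → Subgroup G), H 0 = ⊥ ∧ H (Fin.last n) = ⊤ ∧ Monotone H ∧ (∀ i, (H i).Normal) ∧
      ∀ i : Fin n, (∀ q : ℕ, q.Prime → q ∣ (H i.castSucc).relIndex (H i.succ) → q ∈ π) ∨
        (∀ q : ℕ, q.Prime → q ∣ (H i.castSucc).relIndex (H i.succ) → q ∉ π)) ∧
     (∀ H : Subgroup G, H ≠ ⊥ → (∀ p : ℕ, p.Prime → p ∣ Nat.card ↥H → p ∉ π) →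
        ∀ p : ℕ, p.Prime → p ∣ (Subgroup.centralizer (H : Set G)).relIndex (Subgroup.normalizer (H : Set G)) → p ∉ π)) := by
  constructor
  · rintro ⟨K, hK⟩
    haveI := CfsgLib.GroupBasics.normal_of_closed (π := π) hK
    obtain ⟨hKc, hKi⟩ := CfsgLib.GroupBasics.card_of_closed (π := π) hK
    refine ⟨⟨2, ![⊥, K, ⊤], rfl, rfl, ?_, ?_, ?_⟩, ?_⟩
    · rw [Fin.monotone_iff_le_succ]
      intro i
      fin_cases i <;> simp
    · intro i
      fin_cases i <;> simp <;> infer_instance
    · intro i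
      fin_cases i
      · left; simpa [CfsgLib.GroupBasics.PiNum] using hKc
      · right; simpa using hKi
    · intro H _ hH p hp hd hpπ
      haveI : Fact p.Prime := ⟨hp⟩
      refine CfsgLib.GroupBasics.not_dvd_relIndex_of_forall (fun a ha hao => ?_) hd
      obtain ⟨k, hk⟩ := hao
      have haK : a ∈ K := (hK a).2 (hk ▸ CfsgLib.GroupBasics.piNum_prime_pow hp hpπ k)
      rw [Subgroup.mem_centralizer_iff]
      intro s hs
      have h1 : a * s * a⁻¹ * s⁻¹ ∈ K := by
        rw [show a * s * a⁻¹ * s⁻¹ = a * (s * a⁻¹ * s⁻¹) by group]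
        exact K.mul_mem haK ((inferInstance : K.Normal).conj_mem _ (K.inv_mem haK) s)
      have h2 : a * s * a⁻¹ * s⁻¹ ∈ H :=
        H.mul_mem ((Subgroup.mem_normalizer_iff.1 ha s).1 hs) (H.inv_mem hs)
      have h3 : a * s * a⁻¹ * s⁻¹ = 1 := orderOf_eq_one_iff.1 (Nat.eq_one_of_dvd_coprimes
        (CfsgLib.GroupBasics.coprime_of_piNum hKc hH)
        (Subgroup.orderOf_dvd_natCard K h1) (Subgroup.orderOf_dvd_natCard H h2))
      exact (mul_inv_eq_iff_eq_mul.1 (mul_inv_eq_one.1 h3)).symm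
  · rintro ⟨⟨n, H, h0, hl, hm, hn, hfac⟩, hhom⟩
    exact CfsgLib.GroupBasics.piClosed_of_series
      (CfsgLib.GroupBasics.piHomog_of_relIndex (π := π) hhom) H h0 hl hm hn hfac

end Cfsg.Agent.S4050
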