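import Cfsg.Statements.S4056

set_option autoImplicit false
open Cfsg
open scoped commutatorElement

namespace Cfsg.Agent.S4056

/-- A subgroup containing all squares and commutators of a 2-group contains its Frattini subgroup. -/
theorem frattini_le_of_sq_mem {P : Type*} [Group P] [Finite P] (hP : IsPGroup 2 P) (K : Subgroup P)
    (hsq : ∀ x : P, x ^ 2 ∈ K) (hcomm : ∀ x y : P, ⁅x, y⁆ ∈ K) : frattini P ≤ K := by
  have : K.Normal := ⟨fun n hn g => by
    have : g * n * g⁻¹ = ⁅g, n⁆ * n := by rw [commutatorElement_def]; group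
    rw [this]
    exact K.mul_mem (hcomm g n) hn⟩
  intro x hx
  by_contra hxK
  -- a subgroup over `K` maximal among those avoiding `x` is a coatom, as it has index 2
  obtain ⟨M, hM, hmax⟩ := Set.Finite.exists_maximal (Set.toFinite {M : Subgroup P | K ≤ M ∧ x ∉ M})
    ⟨K, le_rfl, hxK⟩
  obtain ⟨hKM, hxM⟩ := hM
  have : M.Normal := ⟨fun n hn g => by
    have : g * n * g⁻¹ = ⁅g, n⁆ * n := by rw [commutatorElement_def]; group
    rw [this]
    exact M.mul_mem (hKM (hcomm g n)) hn⟩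
  have hco : IsCoatom M := by
    refine ⟨fun h => hxM (h ▸ Subgroup.mem_top x), fun L hL => ?_⟩
    rw [Subgroup.eq_top_iff']
    intro y
    have hxL : x ∈ L := by
      by_contra hxL
      exact hL.not_ge (hmax ⟨hKM.trans hL.le, hxL⟩ hL.le)
    by_cases hy : y ∈ M
    · exact hL.le hy
    have hsup : x ∈ M ⊔ Subgroup.zpowers y := by
      by_contra h
      exact hy ((hmax ⟨hKM.trans le_sup_left, h⟩ le_sup_left)
        (Subgroup.mem_sup_right (Subgroup.mem_zpowers y)))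
    rw [← SetLike.mem_coe, Subgroup.normal_mul, Set.mem_mul] at hsup
    obtain ⟨m, hm, z, hz, hmz⟩ := hsup
    obtain ⟨n, rfl⟩ := Subgroup.mem_zpowers_iff.1 hz
    obtain ⟨j, rfl | rfl⟩ := Int.even_or_odd' n
    · exact absurd (hmz ▸ M.mul_mem hm
        (by rw [zpow_mul]; exact hKM (K.zpow_mem (by simpa using hsq y) j))) hxM
    · have h2 : y ^ (2 * j) ∈ M := by
        rw [zpow_mul]; exact hKM (K.zpow_mem (by simpa using hsq y) j)
      have : y = (y ^ (2 * j))⁻¹ * (m⁻¹ * x) := by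
        rw [← hmz, zpow_add, zpow_one]; group
      rw [this]
      exact L.mul_mem (L.inv_mem (hL.le h2)) (L.mul_mem (L.inv_mem (hL.le hm)) hxL)
  exact hxM (frattini_le_coatom hco hx)

/-- In a finite 2-group of nilpotency class at most 2 and exponent dividing 4, the Frattini subgroup lies in the centre and is elementary abelian. -/
theorem result {P : Type*} [Group P] [Finite P] (hP : IsPGroup 2 P)
    (hcl : Group.nilpotencyClass P ≤ 2) (hexp : Monoid.exponent P ∣ 4) :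
    frattini P ≤ Subgroup.center P ∧ Cfsg.IsElementaryAbelian 2 (frattini P) := by
  have hcent : ∀ x y : P, ⁅x, y⁆ ∈ Subgroup.center P := by
    intro x y
    have := hP.isNilpotent
    have h : Subgroup.lowerCentralSeries (⊤ : Subgroup P) 2 = ⊥ :=
      lowerCentralSeries_eq_bot_iff_nilpotencyClass_le.2 hcl
    rw [Subgroup.mem_center_iff]
    intro g
    have hmem : ⁅⁅x, y⁆, g⁆ ∈ Subgroup.lowerCentralSeries (⊤ : Subgroup P) 2 :=
      Subgroup.commutator_mem_commutator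
        (Subgroup.commutator_mem_commutator (Subgroup.mem_top _) (Subgroup.mem_top _))
        (Subgroup.mem_top _)
    rw [h, Subgroup.mem_bot, commutatorElement_eq_one_iff_mul_comm] at hmem
    exact hmem.symm
  have h4 : ∀ x : P, x ^ 4 = 1 := fun x =>
    orderOf_dvd_iff_pow_eq_one.1 ((Monoid.order_dvd_exponent x).trans hexp)
  have hcomm : ∀ x y : P, ⁅x, y⁆ ^ 2 = 1 := by
    intro x y
    have hc : ∀ g : P, g * ⁅x, y⁆ = ⁅x, y⁆ * g := fun g => (Subgroup.mem_center_iff.1 (hcent x y) g)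
    have hyx : x * y = ⁅x, y⁆ * (y * x) := by rw [commutatorElement_def]; group
    have hyxn : ∀ n : ℕ, x ^ n * y = ⁅x, y⁆ ^ n * (y * x ^ n) := by
      intro n
      induction n with
      | zero => simp
      | succ n ih =>
        calc x ^ (n + 1) * y = x * (x ^ n * y) := by rw [pow_succ', mul_assoc]
          _ = x * ⁅x, y⁆ ^ n * (y * x ^ n) := by rw [ih, mul_assoc]
          _ = ⁅x, y⁆ ^ n * (x * y * x ^ n) := by
              rw [((Commute.pow_right (hc x) n)).eq]; group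
          _ = ⁅x, y⁆ ^ (n + 1) * (y * x ^ (n + 1)) := by
              rw [hyx, pow_succ, pow_succ']; simp only [mul_assoc]
    have hcy : ∀ n : ℕ, ∀ g : P, g * ⁅x, y⁆ ^ n = ⁅x, y⁆ ^ n * g := fun n g => (Commute.pow_right (hc g) n).eq
    have hsq : (y * x) ^ 2 = ⁅x, y⁆ * (y ^ 2 * x ^ 2) := by
      calc (y * x) ^ 2 = y * (x * y) * x := by rw [pow_two]; group
        _ = ⁅x, y⁆ * (y ^ 2 * x ^ 2) := by
          rw [hyx, ← mul_assoc y, hc y, pow_two y, pow_two x]; simp only [mul_assoc]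
    have h6 : (y * x) ^ 4 = ⁅x, y⁆ ^ 6 * (y ^ 4 * x ^ 4) := by
      have hy2 : x ^ 2 * y ^ 2 = ⁅x, y⁆ ^ 4 * (y ^ 2 * x ^ 2) := by
        calc x ^ 2 * y ^ 2 = x ^ 2 * y * y := by rw [pow_two y, mul_assoc]
          _ = ⁅x, y⁆ ^ 2 * (y * (x ^ 2 * y)) := by
            conv_lhs => rw [hyxn 2]
            simp only [mul_assoc]
          _ = ⁅x, y⁆ ^ 2 * (y * (⁅x, y⁆ ^ 2 * (y * x ^ 2))) := by rw [hyxn 2]
          _ = _ := by
            rw [← mul_assoc y, hcy 2 y, show (4 : ℕ) = 2 + 2 from rfl, pow_add, pow_two y]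
            simp only [mul_assoc]
      calc (y * x) ^ 4 = (y * x) ^ 2 * (y * x) ^ 2 := by rw [← pow_add]
        _ = ⁅x, y⁆ * (y ^ 2 * x ^ 2) * ⁅x, y⁆ * (y ^ 2 * x ^ 2) := by rw [hsq]; simp only [mul_assoc]
        _ = ⁅x, y⁆ * ⁅x, y⁆ * (y ^ 2 * (x ^ 2 * y ^ 2) * x ^ 2) := by
          rw [mul_assoc ⁅x, y⁆ _ ⁅x, y⁆, hc (y ^ 2 * x ^ 2)]; simp only [mul_assoc]
        _ = _ := by
          rw [hy2, ← mul_assoc (y ^ 2), hcy 4 (y ^ 2), show (6 : ℕ) = 1 + 1 + 4 from rfl,
            show y ^ 4 = y ^ 2 * y ^ 2 by rw [← pow_add], show x ^ 4 = x ^ 2 * x ^ 2 by rw [← pow_add],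
            pow_add, pow_add, pow_one]
          simp only [mul_assoc]
    rw [h4, h4, h4, mul_one, mul_one, show (6 : ℕ) = 4 + 2 from rfl, pow_add, h4, one_mul] at h6
    exact h6.symm
  have hsqc : ∀ x : P, x ^ 2 ∈ Subgroup.center P := by
    intro x
    rw [Subgroup.mem_center_iff]
    intro g
    have h2 := hcomm x g
    have hc : x * ⁅x, g⁆ = ⁅x, g⁆ * x := Subgroup.mem_center_iff.1 (hcent x g) x
    calc g * x ^ 2 = ⁅x, g⁆ ^ 2 * (g * x ^ 2) := by rw [h2, one_mul]
      _ = ⁅x, g⁆ * (⁅x, g⁆ * (g * x)) * x := by rw [pow_two, pow_two]; simp only [mul_assoc]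
      _ = ⁅x, g⁆ * (x * g) * x := by rw [show ⁅x, g⁆ * (g * x) = x * g by rw [commutatorElement_def]; group]
      _ = x * (⁅x, g⁆ * (g * x)) := by rw [← mul_assoc x, hc]; simp only [mul_assoc]
      _ = x ^ 2 * g := by
        rw [show ⁅x, g⁆ * (g * x) = x * g by rw [commutatorElement_def]; group, pow_two, mul_assoc]
  let K : Subgroup P :=
    { carrier := {z | z ∈ Subgroup.center P ∧ z ^ 2 = 1}
      one_mem' := ⟨Subgroup.one_mem _, one_pow 2⟩
      mul_mem' := fun {a b} ha hb => ⟨Subgroup.mul_mem _ ha.1 hb.1, by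
        rw [Commute.mul_pow (Subgroup.mem_center_iff.1 hb.1 a), ha.2, hb.2, one_mul]⟩
      inv_mem' := fun {a} ha => ⟨Subgroup.inv_mem _ ha.1, by rw [inv_pow, ha.2, inv_one]⟩ }
  have hle : frattini P ≤ K := frattini_le_of_sq_mem hP K
    (fun x => ⟨hsqc x, by rw [← pow_mul]; exact h4 x⟩) (fun x y => ⟨hcent x y, hcomm x y⟩)
  refine ⟨fun x hx => (hle hx).1, ⟨⟨⟨fun a b => ?_⟩⟩, fun a ha => (hle ha).2⟩⟩
  exact Subtype.ext (Subgroup.mem_center_iff.1 (hle b.2).1 a)

end Cfsg.Agent.S4056
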