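import Cfsg.Statements.S4061
import Cfsg.Agent.Ambivalent.Solvable

set_option autoImplicit false
open Cfsg
open scoped commutatorElement

namespace Cfsg.Agent.S4061

/-- Let G be a finite solvable group of even order in which every element is conjugate to its inverse and all involutions are conjugate. Then a Sylow 2-subgroup S of G has order 2 or is a generalized quaternion group (of order at least 8). Moreover, if S has order 2, then G is the semidirect product of its largest normal subgroup of odd order O(G) by S, O(G) equals the derived subgroup of G, and the involution of S inverts every element of O(G). -/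
theorem result {G : Type*} [Group G] [Finite G] [Group.IsSolvable G]
    (hamb : ∀ x : G, IsConj x x⁻¹) (heven : 2 ∣ Nat.card G) (hone : ∀ s t : G, orderOf s = 2 → orderOf t = 2 → IsConj s t) (S : Sylow 2 G) :
    (Nat.card S = 2 ∨ ∃ n : ℕ, Nonempty ((S : Subgroup G) ≃* QuaternionGroup (2 ^ (n + 1)))) ∧
    (Nat.card S = 2 → (S : Subgroup G).IsComplement' (Cfsg.oddCore G) ∧ Cfsg.oddCore G = commutator G ∧
        ∀ t : G, t ∈ S → t ≠ 1 → ∀ x : G, x ∈ Cfsg.oddCore G → t * x * t⁻¹ = x⁻¹) := by
  haveI : Fact (Nat.Prime 2) := ⟨Nat.prime_two⟩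
  refine ⟨CfsgLib.Ambivalent.sylow_cases hamb hone heven S, fun hS => ?_⟩
  haveI : IsCyclic (S : Subgroup G) := isCyclic_of_prime_card (p := 2) hS
  have hmin : (Nat.card G).minFac = 2 := Nat.minFac_eq_two_iff _ |>.2 heven
  have hK := IsCyclic.isComplement' hmin (P := S) inferInstance
  set K := (MonoidHom.transferSylow S
    ((inferInstance : IsCyclic (S : Subgroup G)).normalizer_le_centralizer hmin)).ker with hKdef
  have hKodd : ¬ 2 ∣ Nat.card K := MonoidHom.not_dvd_card_ker_transferSylow _ _
  have hKi : K.index = 2 := by rw [hK.symm.index_eq_card]; exact hS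
  have hKO : K = Cfsg.oddCore G := by
    refine Subgroup.eq_of_le_of_card_ge (CfsgLib.PLocal.le_pPrimeCore
      ((Nat.prime_two.coprime_iff_not_dvd.2 hKodd).symm)) ?_
    refine Nat.le_of_dvd Nat.card_pos ((CfsgLib.PLocal.coprime_card_pPrimeCore 2 G).dvd_of_dvd_mul_right ?_)
    rw [← hKi, Subgroup.card_mul_index]
    exact Subgroup.card_subgroup_dvd_card _
  have hcompl : (S : Subgroup G).IsComplement' (Cfsg.oddCore G) := hKO ▸ hK.symm
  have hOodd : Odd (Nat.card (Cfsg.oddCore G)) :=
    Nat.coprime_two_right.1 (CfsgLib.PLocal.coprime_card_pPrimeCore 2 G)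
  refine ⟨hcompl, le_antisymm ?_ ?_, fun t ht ht1 => ?_⟩
  · intro x hx
    have hox : Odd (orderOf x) := hOodd.of_dvd_nat (Subgroup.orderOf_dvd_natCard _ hx)
    obtain ⟨j, hj⟩ := hox
    have : x = (x ^ 2) ^ (j + 1) := by
      rw [← pow_mul, show 2 * (j + 1) = orderOf x + 1 by omega, pow_succ, pow_orderOf_eq_one, one_mul]
    rw [this]
    exact (commutator G).pow_mem ((Cfsg.Agent.S4059.result hamb).2.2.1 x) _
  · rw [← hKO, hKdef]
    rw [commutator_def, Subgroup.commutator_le]
    intro a _ b _
    rw [MonoidHom.mem_ker, map_commutatorElement, commutatorElement_eq_one_iff_mul_comm]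
    exact mul_comm' _ _
  · -- t inverts the odd core
    have ht2 : t * t = 1 := by
      have h := pow_card_eq_one' (x := (⟨t, ht⟩ : (S : Subgroup G)))
      rw [show Nat.card (S : Subgroup G) = 2 from hS] at h
      have h' : t ^ 2 = 1 := congrArg Subtype.val h
      rwa [pow_two] at h'
    have hgen : ∀ s ∈ (S : Subgroup G), s = 1 ∨ s = t := by
      intro s hs
      have hle : Subgroup.zpowers t = (S : Subgroup G) :=
        Subgroup.eq_of_le_of_card_ge (Subgroup.zpowers_le.2 ht) (by
          rw [Nat.card_zpowers, orderOf_eq_prime (by rw [pow_two]; exact ht2) ht1]; exact hS.le)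
      obtain ⟨j, rfl⟩ := Subgroup.mem_zpowers_iff.1 (hle.symm ▸ hs)
      obtain ⟨i, rfl | rfl⟩ := Int.even_or_odd' j
      · left; rw [zpow_mul, show t ^ (2 : ℤ) = 1 by rw [zpow_two, ht2], one_zpow]
      · right; rw [zpow_add, zpow_mul, show t ^ (2 : ℤ) = 1 by rw [zpow_two, ht2], one_zpow, one_mul, zpow_one]
    have hfix : ∀ x ∈ Cfsg.oddCore G, t * x = x * t → x = 1 := by
      intro x hx hxt
      by_contra hne
      have h2 := (Cfsg.Agent.S4059.result hamb).1 S x (Subgroup.mem_centralizer_iff.2 fun s hs => by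
        rcases hgen s hs with rfl | rfl
        · simp
        · exact hxt) hne
      have h3 := Subgroup.orderOf_dvd_natCard _ hx
      rw [h2] at h3
      exact hOodd.not_two_dvd_nat h3
    have hmem : ∀ y ∈ Cfsg.oddCore G, t * y * t⁻¹ ∈ Cfsg.oddCore G :=
      fun y hy => (inferInstance : (Cfsg.oddCore G).Normal).conj_mem y hy t
    let φ : Cfsg.oddCore G → Cfsg.oddCore G := fun y =>
      ⟨(y : G)⁻¹ * (t * y * t⁻¹), (Cfsg.oddCore G).mul_mem ((Cfsg.oddCore G).inv_mem y.2) (hmem y y.2)⟩
    have hφ : Function.Injective φ := by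
      intro a b hab
      have h : (a : G)⁻¹ * (t * a * t⁻¹) = (b : G)⁻¹ * (t * b * t⁻¹) := congrArg Subtype.val hab
      have h2 : (b : G) * (a : G)⁻¹ = 1 := by
        refine hfix _ ((Cfsg.oddCore G).mul_mem b.2 ((Cfsg.oddCore G).inv_mem a.2)) ?_
        have h3 : t * b * t⁻¹ = (b : G) * (a : G)⁻¹ * (t * a * t⁻¹) := by
          rw [mul_assoc (b : G), h]; group
        calc t * ((b : G) * (a : G)⁻¹) = (t * b * t⁻¹) * (t * a * t⁻¹)⁻¹ * t := by group
          _ = (b : G) * (a : G)⁻¹ * t := by rw [h3]; group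
      exact Subtype.ext (mul_inv_eq_one.1 h2).symm
    intro x hx
    obtain ⟨y, hy⟩ := (Finite.injective_iff_bijective.1 hφ).2 ⟨x, hx⟩
    have hy' : (y : G)⁻¹ * (t * y * t⁻¹) = x := congrArg Subtype.val hy
    have htinv : t⁻¹ = t := inv_eq_of_mul_eq_one_right ht2
    rw [← hy', mul_inv_rev, inv_inv, mul_inv_rev, mul_inv_rev, inv_inv]
    simp only [htinv, mul_assoc]
    rw [ht2, mul_one]

end Cfsg.Agent.S4061
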