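import Cfsg.Statements.S4062
import Cfsg.Agent.Ambivalent.Solvable
import Cfsg.Agent.S4061

set_option autoImplicit false
open Cfsg
open scoped commutatorElement

namespace Cfsg.Agent.S4062

universe u

/-- The dihedral case of Sylow subgroups of order two. -/
theorem order_two_case {G : Type u} [Group G] [Finite G]
    (h : ∀ x y : G, orderOf x = orderOf y → IsConj x y) (heven : 2 ∣ Nat.card G)
    (S : Sylow 2 G) (hS : Nat.card S = 2) (hc : (S : Subgroup G).IsComplement' (Cfsg.oddCore G))
    (hinv : ∀ t : G, t ∈ S → t ≠ 1 → ∀ x : G, x ∈ Cfsg.oddCore G → t * x * t⁻¹ = x⁻¹) :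
    Nat.card G = 1 ∨ Nat.card G = 2 ∨ Nonempty (G ≃* Equiv.Perm (Fin 3)) := by
  haveI : Fact (Nat.Prime 2) := ⟨Nat.prime_two⟩
  have hSne : (S : Subgroup G) ≠ ⊥ := S.ne_bot_of_dvd_card heven
  obtain ⟨⟨t, ht⟩, ht1⟩ := Subgroup.ne_bot_iff_exists_ne_one.1 hSne
  have ht1' : t ≠ 1 := fun e => ht1 (Subtype.ext e)
  have hOodd : Odd (Nat.card (Cfsg.oddCore G)) :=
    Nat.coprime_two_right.1 (CfsgLib.PLocal.coprime_card_pPrimeCore 2 G)
  have hcomm : ∀ x ∈ Cfsg.oddCore G, ∀ y ∈ Cfsg.oddCore G, x * y = y * x := by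
    intro x hx y hy
    have h1 := hinv t ht ht1' _ ((Cfsg.oddCore G).mul_mem hx hy)
    rw [show t * (x * y) * t⁻¹ = (t * x * t⁻¹) * (t * y * t⁻¹) by group, hinv t ht ht1' x hx,
      hinv t ht ht1' y hy] at h1
    have h2 := congrArg (·⁻¹) h1
    simp only [mul_inv_rev, inv_inv] at h2
    exact h2.symm
  have hpm : ∀ x ∈ Cfsg.oddCore G, ∀ y ∈ Cfsg.oddCore G, orderOf x = orderOf y → y = x ∨ y = x⁻¹ := by
    intro x hx y hy hxy
    obtain ⟨g, hg⟩ := isConj_iff.1 (h x y hxy)
    obtain ⟨⟨⟨s, hs⟩, ⟨o, ho⟩⟩, rfl⟩ := hc.2 g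
    have hox : o * x * o⁻¹ = x := by rw [hcomm o ho x hx, mul_inv_cancel_right]
    have hy' : s * x * s⁻¹ = y := by
      rw [← hg]
      calc s * x * s⁻¹ = s * (o * x * o⁻¹) * s⁻¹ := by rw [hox]
        _ = _ := by show _ = s * o * x * (s * o)⁻¹; group
    by_cases hs1 : s = 1
    · left; rw [← hy', hs1]; simp
    · right; rw [← hy', hinv s hs hs1 x hx]
  have h3 : ∀ x ∈ Cfsg.oddCore G, x ^ 3 = 1 := by
    intro x hx
    have hodd : Odd (orderOf x) := hOodd.of_dvd_nat (Subgroup.orderOf_dvd_natCard _ hx)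
    have hord : orderOf (x ^ 2) = orderOf x := Nat.Coprime.orderOf_pow (Nat.coprime_two_right.2 hodd)
    rcases hpm x hx (x ^ 2) ((Cfsg.oddCore G).pow_mem hx 2) hord.symm with h1 | h1
    · rw [pow_two, mul_eq_left] at h1
      rw [h1, one_pow]
    · rw [pow_succ, h1, inv_mul_cancel]
  have hG : Nat.card G = 2 * Nat.card (Cfsg.oddCore G) := by
    rw [← hc.card_mul_card]; exact congrArg (· * _) hS
  by_cases hObot : Cfsg.oddCore G = ⊥
  · right; left
    rw [hG, hObot, Subgroup.card_bot]
  right; right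
  obtain ⟨⟨x, hx⟩, hx1⟩ := Subgroup.ne_bot_iff_exists_ne_one.1 hObot
  have hx1' : x ≠ 1 := fun e => hx1 (Subtype.ext e)
  haveI : Fact (Nat.Prime 3) := ⟨Nat.prime_three⟩
  have hOeq : Cfsg.oddCore G = Subgroup.zpowers x := by
    refine le_antisymm (fun y hy => ?_) (Subgroup.zpowers_le.2 hx)
    by_cases hy1 : y = 1
    · rw [hy1]; exact one_mem _
    rcases hpm x hx y hy (by rw [orderOf_eq_prime (h3 x hx) hx1', orderOf_eq_prime (h3 y hy) hy1]) with e | e
    · rw [e]; exact Subgroup.mem_zpowers x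
    · rw [e]; exact inv_mem (Subgroup.mem_zpowers x)
  have hcard6 : Nat.card G = 6 := by
    rw [hG, hOeq, Nat.card_zpowers, orderOf_eq_prime (h3 x hx) hx1']
  have hidx : Nat.card (G ⧸ (S : Subgroup G)) = 3 := by
    have h1 := (S : Subgroup G).card_mul_index
    rw [hcard6, show Nat.card (S : Subgroup G) = 2 from hS] at h1
    rw [← Subgroup.index_eq_card]; omega
  have hker : (MulAction.toPermHom G (G ⧸ (S : Subgroup G))).ker = ⊥ := by
    rw [← Subgroup.normalCore_eq_ker, eq_bot_iff]
    intro g hg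
    by_contra hne
    have hgne : g ≠ 1 := fun e => hne (Subgroup.mem_bot.2 e)
    have hgS := Subgroup.normalCore_le _ hg
    have h1 : x * g * x⁻¹ * g⁻¹ ∈ (S : Subgroup G) :=
      S.mul_mem (Subgroup.normalCore_le _ ((Subgroup.normalCore_normal (S : Subgroup G)).conj_mem g hg x)) (S.inv_mem hgS)
    have hxx : x * g * x⁻¹ * g⁻¹ = x * x := by
      rw [mul_assoc x g, mul_assoc x (g * x⁻¹), show g * x⁻¹ * g⁻¹ = x from by
        rw [hinv g hgS hgne x⁻¹ ((Cfsg.oddCore G).inv_mem hx), inv_inv]]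
    rw [hxx] at h1
    have h2 : x * x = 1 := Subgroup.disjoint_def.1 hc.disjoint h1 ((Cfsg.oddCore G).mul_mem hx hx)
    have h4 := h3 x hx
    rw [pow_succ, pow_two, h2, one_mul] at h4
    exact hx1' h4
  obtain ⟨q⟩ : Nonempty ((G ⧸ (S : Subgroup G)) ≃ Fin 3) := ⟨(Finite.equivFinOfCardEq hidx)⟩
  refine ⟨(MulEquiv.ofBijective (MulAction.toPermHom G (G ⧸ (S : Subgroup G))) ?_).trans q.permCongrHom⟩
  refine (Nat.bijective_iff_injective_and_card _).2 ⟨(MonoidHom.ker_eq_bot_iff _).1 hker, ?_⟩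
  rw [hcard6, Nat.card_perm, hidx]
  rfl

/-- A quaternion Sylow subgroup of order at least 16 is impossible. -/
theorem large_quaternion_case {G : Type u} [Group G] [Finite G]
    (h : ∀ x y : G, orderOf x = orderOf y → IsConj x y) (S : Sylow 2 G) (n : ℕ)
    (e : (S : Subgroup G) ≃* QuaternionGroup (2 ^ (n + 1 + 1))) : False := by
  haveI : Fact (Nat.Prime 2) := ⟨Nat.prime_two⟩
  set a : G := ((e.symm (QuaternionGroup.a 1) : (S : Subgroup G)) : G) with ha
  have hord : orderOf a = 8 * 2 ^ n := by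
    rw [ha, Subgroup.orderOf_coe, MulEquiv.orderOf_eq, QuaternionGroup.orderOf_a_one]
    ring
  have hodd3 : (orderOf a).Coprime 3 := by
    rw [hord, show 8 * 2 ^ n = 2 ^ (n + 3) by ring]
    exact Nat.Coprime.pow_left _ (by norm_num)
  obtain ⟨g, hg⟩ := isConj_iff.1 (h a (a ^ 3) (Nat.Coprime.orderOf_pow hodd3).symm)
  have hiter : ∀ r : ℕ, g ^ r * a * (g ^ r)⁻¹ = a ^ (3 ^ r) := by
    intro r
    induction r with
    | zero => simp
    | succ r ih =>
      calc g ^ (r + 1) * a * (g ^ (r + 1))⁻¹ = g * (g ^ r * a * (g ^ r)⁻¹) * g⁻¹ := by rw [pow_succ']; group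
        _ = _ := by rw [ih, ← conj_pow, hg, ← pow_mul, pow_succ']
  obtain ⟨k, m, hm, hkm⟩ := Nat.exists_eq_two_pow_mul_odd (orderOf_pos g).ne'
  set b := g ^ m with hb
  have hbo : orderOf b = 2 ^ k := by
    rw [hb, orderOf_pow_of_dvd hm.pos.ne' (hkm ▸ dvd_mul_left _ _), hkm, Nat.mul_div_cancel _ hm.pos]
  have hba : b * a * b⁻¹ = a ^ (3 ^ m) := hiter m
  have hbN : b ∈ Subgroup.normalizer ((Subgroup.zpowers a : Subgroup G) : Set G) := by
    rw [Subgroup.mem_normalizer_iff]
    have hmap : (Subgroup.zpowers a).map (MulAut.conj b).toMonoidHom = Subgroup.zpowers a := by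
      refine Subgroup.eq_of_le_of_card_ge ?_ (Subgroup.card_map_of_injective (MulAut.conj b).injective).ge
      rw [MonoidHom.map_zpowers, Subgroup.zpowers_le]
      show b * a * b⁻¹ ∈ _
      rw [hba]
      exact pow_mem (Subgroup.mem_zpowers a) _
    intro z
    constructor
    · intro hz
      rw [← hmap]
      exact ⟨z, hz, rfl⟩
    · intro hz
      rw [← hmap] at hz
      obtain ⟨w, hw, hwz⟩ := hz
      exact (MulAut.conj b).injective hwz ▸ hw
  have hp : IsPGroup 2 ((Subgroup.zpowers b ⊔ Subgroup.zpowers a) : Subgroup G) :=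
    IsPGroup.to_sup_of_normal_right' (IsPGroup.of_card (n := k) (by rw [Nat.card_zpowers, hbo]))
      (IsPGroup.of_card (n := n + 3) (by rw [Nat.card_zpowers, hord]; ring))
      (Subgroup.zpowers_le.2 hbN)
  obtain ⟨T, hT⟩ := hp.exists_le_sylow
  let f : (T : Subgroup G) ≃* QuaternionGroup (2 ^ (n + 1 + 1)) := (T.equiv S).trans e
  set A : (T : Subgroup G) := ⟨a, hT (Subgroup.mem_sup_right (Subgroup.mem_zpowers a))⟩
  set B : (T : Subgroup G) := ⟨b, hT (Subgroup.mem_sup_left (Subgroup.mem_zpowers b))⟩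
  have hA : orderOf (f A) = 8 * 2 ^ n := by rw [MulEquiv.orderOf_eq, Subgroup.orderOf_mk, hord]
  have hquat : ∀ x y : QuaternionGroup (2 ^ (n + 1 + 1)), 4 < orderOf x →
      y * x * y⁻¹ = x ∨ y * x * y⁻¹ = x⁻¹ := by
    intro x y hx
    haveI : NeZero (2 ^ (n + 1 + 1)) := ⟨by positivity⟩
    rcases x with i | i
    · rcases y with j | j
      · left
        show QuaternionGroup.a j * QuaternionGroup.a i * QuaternionGroup.a (-j) = QuaternionGroup.a i
        simp
      · right
        apply mul_inv_eq_iff_eq_mul.2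
        show QuaternionGroup.xa j * QuaternionGroup.a i = QuaternionGroup.a (-i) * QuaternionGroup.xa j
        simp [sub_eq_add_neg]
    · rw [QuaternionGroup.orderOf_xa] at hx
      omega
  have hmod : 3 ^ m % 8 = 3 := by
    obtain ⟨j, rfl⟩ := hm
    rw [pow_succ, pow_mul, Nat.mul_mod, Nat.pow_mod]
    norm_num
  have hA4 : 4 < orderOf (f A) := by
    have : 0 < 2 ^ n := by positivity
    omega
  have hAB : f (B * A * B⁻¹) = f (A ^ 3 ^ m) := congrArg f (Subtype.ext hba)
  rw [map_mul, map_mul, map_inv, map_pow] at hAB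
  rcases hquat (f A) (f B) hA4 with h1 | h1 <;> rw [h1] at hAB
  · have h2 := pow_eq_pow_iff_modEq.1 ((pow_one (f A)).trans hAB)
    rw [hA] at h2
    have h3 := h2.of_mul_right (2 ^ n)
    rw [Nat.ModEq, hmod] at h3
    norm_num at h3
  · have h0 : f A ^ (3 ^ m + 1) = 1 :=
      (pow_succ (f A) (3 ^ m)).trans (by rw [← hAB]; exact inv_mul_cancel _)
    have h2 := orderOf_dvd_of_pow_eq_one h0
    rw [hA] at h2
    have h3 : (3 ^ m + 1) % 8 = 0 := Nat.mod_eq_zero_of_dvd ((dvd_mul_right 8 _).trans h2)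
    omega

/-- The quotient by the odd core cannot have quaternion Sylow subgroups of order 8. -/
theorem quaternion_core_case {G : Type u} [Group G] [Finite G] [Group.IsSolvable G]
    (hamb : ∀ x : G, IsConj x x⁻¹)
    (hone : ∀ s t : G, orderOf s = 2 → orderOf t = 2 → IsConj s t)
    (hcore : Cfsg.pPrimeCore 2 G = ⊥)
    (h4 : ∀ x y : G, orderOf x = 4 → orderOf y = 4 → IsConj x y) (T : Sylow 2 G)
    (e : (T : Subgroup G) ≃* QuaternionGroup 2) : False := by
  haveI : Fact (Nat.Prime 2) := ⟨Nat.prime_two⟩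
  set z : G := ((e.symm (QuaternionGroup.a 2) : (T : Subgroup G)) : G) with hzdef
  have hz : orderOf z = 2 := by
    rw [hzdef, Subgroup.orderOf_coe, MulEquiv.orderOf_eq, QuaternionGroup.orderOf_a]
    rfl
  have hzc : ∀ g : G, g * z * g⁻¹ = z := fun g =>
    CfsgLib.Ambivalent.involution_unique_of_core hamb hone hcore
      (by rw [← hz]; exact orderOf_injective (MulAut.conj g).toMonoidHom (MulAut.conj g).injective z) hz
  have hZn : (Subgroup.zpowers z).Normal := ⟨fun x hx g => by
    obtain ⟨j, rfl⟩ := Subgroup.mem_zpowers_iff.1 hx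
    rw [← conj_zpow, hzc]
    exact zpow_mem (Subgroup.mem_zpowers z) j⟩
  set f := QuotientGroup.mk' (Subgroup.zpowers z) with hf
  have hfs : Function.Surjective f := QuotientGroup.mk'_surjective _
  have hzT : z ∈ (T : Subgroup G) := SetLike.coe_mem _
  have hcommq : ∀ x y : QuaternionGroup 2, x * y * x⁻¹ * y⁻¹ = 1 ∨
      x * y * x⁻¹ * y⁻¹ = QuaternionGroup.a 2 := by decide
  have hTab : ∀ a ∈ (T : Subgroup G), ∀ b ∈ (T : Subgroup G), f a * f b = f b * f a := by
    intro a ha b hb
    have hmem : a * b * a⁻¹ * b⁻¹ ∈ Subgroup.zpowers z := by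
      rcases hcommq (e ⟨a, ha⟩) (e ⟨b, hb⟩) with hh | hh <;>
        rw [← map_inv, ← map_inv, ← map_mul, ← map_mul, ← map_mul] at hh
      · have h1 : a * b * a⁻¹ * b⁻¹ = 1 := congrArg Subtype.val (e.map_eq_one_iff.1 hh)
        rw [h1]; exact one_mem _
      · have h1 : a * b * a⁻¹ * b⁻¹ = z := congrArg Subtype.val (e.eq_symm_apply.2 hh)
        rw [h1]; exact Subgroup.mem_zpowers z
    rw [← commutatorElement_eq_one_iff_mul_comm, ← map_commutatorElement]
    exact (QuotientGroup.eq_one_iff _).2 hmem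
  set U := T.mapSurjective hfs with hU
  have hN : Subgroup.normalizer ((U : Subgroup (G ⧸ Subgroup.zpowers z)) : Set (G ⧸ Subgroup.zpowers z)) ≤
      Subgroup.centralizer ((U : Subgroup (G ⧸ Subgroup.zpowers z)) : Set (G ⧸ Subgroup.zpowers z)) := by
    intro y hy
    obtain ⟨g, rfl⟩ := hfs y
    have hgN : g ∈ Subgroup.normalizer ((T : Subgroup G) : Set G) := by
      have hco : (U : Subgroup (G ⧸ Subgroup.zpowers z)).comap f = (T : Subgroup G) := by
        rw [hU, Sylow.coe_mapSurjective, Subgroup.comap_map_eq_self]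
        rw [hf, QuotientGroup.ker_mk']
        exact Subgroup.zpowers_le.2 hzT
      rw [Subgroup.mem_normalizer_iff, ← hco]
      intro x
      simp only [Subgroup.mem_comap, map_mul, map_inv]
      exact Subgroup.mem_normalizer_iff.1 hy (f x)
    rw [CfsgLib.Ambivalent.normalizer_sylow_eq hamb T] at hgN
    rw [Subgroup.mem_centralizer_iff]
    intro s hs
    rw [hU, SetLike.mem_coe, Sylow.coe_mapSurjective, Subgroup.mem_map] at hs
    obtain ⟨b, hb, rfl⟩ := hs
    exact hTab b hb g hgN
  -- so the quotient is a 2-group, and so is G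
  set K := (MonoidHom.transferSylow U hN).ker.comap f with hK
  haveI : K.Normal := Subgroup.Normal.comap inferInstance f
  have hKc : (MonoidHom.transferSylow U hN).ker.IsComplement' (U : Subgroup (G ⧸ Subgroup.zpowers z)) :=
    MonoidHom.ker_transferSylow_isComplement' U hN
  have hGT : (T : Subgroup G) = ⊤ := by
    have hkodd : ¬ 2 ∣ Nat.card (MonoidHom.transferSylow U hN).ker :=
      MonoidHom.not_dvd_card_ker_transferSylow U hN
    -- the normal 2-complement of the quotient lifts to a normal 2-complement of G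
    obtain ⟨L, hL⟩ := Subgroup.exists_right_complement'_of_coprime
      (N := (Subgroup.zpowers z).subgroupOf K) (by
        rw [Nat.card_congr (Subgroup.subgroupOfEquivOfLe (fun x hx => by
          rw [hK, Subgroup.mem_comap, hf, QuotientGroup.mk'_apply, (QuotientGroup.eq_one_iff x).2 hx]
          exact one_mem _)).toEquiv, Nat.card_zpowers, hz]
        have hker : (f.subgroupComap (MonoidHom.transferSylow U hN).ker).ker =
            (Subgroup.zpowers z).subgroupOf K := by
          ext x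
          rw [MonoidHom.mem_ker, Subgroup.mem_subgroupOf, Subtype.ext_iff, ← QuotientGroup.eq_one_iff]
          rfl
        rw [← hker, Subgroup.index_ker, MonoidHom.range_eq_top.2
          (f.subgroupComap_surjective_of_surjective _ hfs), Subgroup.card_top]
        exact (Nat.prime_two.coprime_iff_not_dvd.2 hkodd))
    have hLodd : ∀ x : K, x ∈ L → (orderOf x).Coprime 2 := by
      intro x hx
      have h1 := Subgroup.orderOf_dvd_natCard L hx
      have hker : (f.subgroupComap (MonoidHom.transferSylow U hN).ker).ker =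
          (Subgroup.zpowers z).subgroupOf K := by
        ext x
        rw [MonoidHom.mem_ker, Subgroup.mem_subgroupOf, Subtype.ext_iff, ← QuotientGroup.eq_one_iff]
        rfl
      rw [← hL.symm.index_eq_card, ← hker, Subgroup.index_ker, MonoidHom.range_eq_top.2
        (f.subgroupComap_surjective_of_surjective _ hfs), Subgroup.card_top] at h1
      exact Nat.coprime_two_right.2 ((Nat.not_even_iff_odd.1 fun he => hkodd
        ((even_iff_two_dvd.1 he).trans h1)))
    -- the complement consists of all odd order elements of K, so it is normal in G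
    have hmemL : ∀ x : K, (orderOf x).Coprime 2 → x ∈ L := by
      intro x hx
      obtain ⟨⟨⟨c, hc⟩, ⟨l, hl⟩⟩, rfl⟩ := hL.2 x
      have hcl : Commute c l := Subtype.ext (by
        obtain ⟨j, hj⟩ := Subgroup.mem_zpowers_iff.1 (Subgroup.mem_subgroupOf.1 hc)
        show (c : G) * l = l * c
        rw [← hj]
        exact ((Commute.zpow_right (show Commute (l : G) z from mul_inv_eq_iff_eq_mul.1 (hzc l)) j).eq).symm)
      have hc2 : c ^ 2 = 1 := by
        apply Subtype.ext
        obtain ⟨j, hj⟩ := Subgroup.mem_zpowers_iff.1 (Subgroup.mem_subgroupOf.1 hc)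
        rw [SubmonoidClass.coe_pow, ← hj, ← zpow_natCast, ← zpow_mul, mul_comm, zpow_mul, zpow_natCast,
          ← hz, pow_orderOf_eq_one, one_zpow]
        rfl
      have hc1 : c = 1 := by
        have h1 : c ^ (orderOf (c * l) * orderOf l) = 1 := by
          have h0 : (c * l) ^ (orderOf (c * l) * orderOf l) = 1 := by rw [pow_mul, pow_orderOf_eq_one, one_pow]
          rwa [hcl.mul_pow, mul_comm (orderOf (c * l)) (orderOf l), pow_mul l, pow_orderOf_eq_one,
            one_pow, mul_one, mul_comm] at h0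
        exact orderOf_eq_one_iff.1 (Nat.eq_one_of_dvd_coprimes (Nat.Coprime.mul_left hx (hLodd l hl))
          (orderOf_dvd_of_pow_eq_one h1) (orderOf_dvd_of_pow_eq_one hc2))
      rw [SetLike.mem_coe.symm]
      show c * l ∈ L
      rw [hc1, one_mul]; exact hl
    have hLn : (L.map K.subtype).Normal := by
      refine ⟨fun x hx g => ?_⟩
      obtain ⟨y, hy, rfl⟩ := hx
      refine ⟨⟨g * y * g⁻¹, Subgroup.Normal.conj_mem inferInstance _ y.2 g⟩, hmemL _ ?_, rfl⟩
      rw [Subgroup.orderOf_mk, show orderOf (g * (y : G) * g⁻¹) = orderOf (y : G) from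
        orderOf_injective (MulAut.conj g).toMonoidHom (MulAut.conj g).injective _, Subgroup.orderOf_coe]
      exact hLodd y hy
    haveI := hLn
    have hLbot : L = ⊥ := by
      have h1 : L.map K.subtype ≤ Cfsg.pPrimeCore 2 G := CfsgLib.PLocal.le_pPrimeCore (by
        rw [Subgroup.card_map_of_injective K.subtype_injective, Nat.coprime_comm,
          Nat.prime_two.coprime_iff_not_dvd]
        intro hd
        obtain ⟨⟨x, hx⟩, hxo⟩ := exists_prime_orderOf_dvd_card' 2 hd
        rw [Subgroup.orderOf_mk] at hxo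
        have := hLodd x hx
        rw [hxo] at this
        norm_num at this)
      rw [hcore, le_bot_iff, Subgroup.map_eq_bot_iff, Subgroup.ker_subtype, le_bot_iff] at h1
      exact h1
    rw [Subgroup.eq_top_iff']
    intro g
    have hg : f g ∈ ((MonoidHom.transferSylow U hN).ker ⊔ (U : Subgroup (G ⧸ Subgroup.zpowers z))) := by
      rw [hKc.sup_eq_top]; exact Subgroup.mem_top _
    rw [← SetLike.mem_coe, Subgroup.normal_mul, Set.mem_mul] at hg
    obtain ⟨k, hk, u, hu, hku⟩ := hg
    have hk1 : k = 1 := by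
      obtain ⟨k₀, rfl⟩ := hfs k
      obtain ⟨⟨⟨c, hc⟩, ⟨l, hl⟩⟩, hcl⟩ := hL.2 ⟨k₀, hk⟩
      rw [hLbot, SetLike.mem_coe, Subgroup.mem_bot] at hl
      subst hl
      have hk₀ : (c : G) = k₀ := by simpa using congrArg Subtype.val hcl
      exact (QuotientGroup.eq_one_iff k₀).2 (hk₀ ▸ Subgroup.mem_subgroupOf.1 hc)
    rw [hk1, one_mul] at hku
    rw [hU, SetLike.mem_coe, Sylow.coe_mapSurjective, Subgroup.mem_map] at hu
    obtain ⟨t, ht, rfl⟩ := hu
    have h1 : t⁻¹ * g ∈ (T : Subgroup G) := Subgroup.zpowers_le.2 hzT (QuotientGroup.eq.1 hku)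
    simpa using T.mul_mem ht h1
  -- G is quaternion of order 8 and two elements of order 4 are not conjugate
  let φ : G ≃* QuaternionGroup 2 :=
    (Subgroup.topEquiv.symm.trans (MulEquiv.subgroupCongr hGT.symm)).trans e
  have h1 := h4 (φ.symm (QuaternionGroup.a 1)) (φ.symm (QuaternionGroup.xa 0))
    (by rw [MulEquiv.orderOf_eq, QuaternionGroup.orderOf_a_one])
    (by rw [MulEquiv.orderOf_eq, QuaternionGroup.orderOf_xa])
  obtain ⟨c, hc⟩ := isConj_iff.1 h1
  have h2 := congrArg φ hc
  simp only [map_mul, map_inv, MulEquiv.apply_symm_apply] at h2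
  revert h2
  generalize φ c = d
  revert d
  decide

/-- A quaternion Sylow subgroup of order 8 is impossible. -/
theorem quaternion_eight_case {G : Type u} [Group G] [Finite G] [Group.IsSolvable G]
    (h : ∀ x y : G, orderOf x = orderOf y → IsConj x y) (hamb : ∀ x : G, IsConj x x⁻¹)
    (hone : ∀ s t : G, orderOf s = 2 → orderOf t = 2 → IsConj s t) (S : Sylow 2 G)
    (e : (S : Subgroup G) ≃* QuaternionGroup (2 ^ (0 + 1))) : False := by
  haveI : Fact (Nat.Prime 2) := ⟨Nat.prime_two⟩
  obtain ⟨hamb', hone'⟩ := CfsgLib.Ambivalent.quotient_hyps hamb hone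
  have hcore := CfsgLib.PLocal.pPrimeCore_quotient_pPrimeCore_eq_bot 2 G
  set f := QuotientGroup.mk' (Cfsg.pPrimeCore 2 G) with hf
  have hfs : Function.Surjective f := QuotientGroup.mk'_surjective _
  have hinj : ∀ x : G, x ∈ (S : Subgroup G) → f x = 1 → x = 1 := fun x hx hx1 => by
    obtain ⟨k, hk⟩ := IsPGroup.iff_card.1 S.2
    exact orderOf_eq_one_iff.1 (Nat.eq_one_of_dvd_coprimes
      ((CfsgLib.PLocal.coprime_card_pPrimeCore 2 G).pow_right k)
      (Subgroup.orderOf_dvd_natCard _ ((QuotientGroup.eq_one_iff x).1 hx1))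
      (hk ▸ Subgroup.orderOf_dvd_natCard _ hx))
  set T := S.mapSurjective hfs with hT
  let eT : (T : Subgroup (G ⧸ Cfsg.pPrimeCore 2 G)) ≃* QuaternionGroup 2 :=
    ((MulEquiv.subgroupCongr (Sylow.coe_mapSurjective hfs S)).trans
      (MulEquiv.ofBijective (f.subgroupMap (S : Subgroup G))
        ⟨fun a b hab => Subtype.ext (inv_mul_eq_one.1 (hinj _ (a⁻¹ * b).2 (by
          have hab' : f a = f b := congrArg Subtype.val hab
          rw [map_mul, map_inv, hab', inv_mul_cancel]))),
          f.subgroupMap_surjective _⟩).symm).trans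
      (e.trans (MulEquiv.cast (M := QuaternionGroup) rfl))
  have hconj4 : ∀ x y : G ⧸ Cfsg.pPrimeCore 2 G, orderOf x = 4 → orderOf y = 4 → IsConj x y := by
    intro x y hx hy
    obtain ⟨a, rfl, ha⟩ := CfsgLib.Ambivalent.exists_lift_two (k := 2) (y := x) hx
    obtain ⟨b, rfl, hb⟩ := CfsgLib.Ambivalent.exists_lift_two (k := 2) (y := y) hy
    exact f.map_isConj (h a b (ha.trans hb.symm))
  exact quaternion_core_case hamb' hone' hcore hconj4 T eT

/-- A finite solvable group in which any two elements of the same order are conjugate has order 1 or 2 or is isomorphic to the symmetric group of degree 3. -/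
theorem result {G : Type*} [Group G] [Finite G] [Group.IsSolvable G]
    (h : ∀ x y : G, orderOf x = orderOf y → IsConj x y) :
    Nat.card G = 1 ∨ Nat.card G = 2 ∨ Nonempty (G ≃* Equiv.Perm (Fin 3)) := by
  haveI : Fact (Nat.Prime 2) := ⟨Nat.prime_two⟩
  have hamb : ∀ x : G, IsConj x x⁻¹ := fun x => h x x⁻¹ (orderOf_inv x).symm
  have hone : ∀ s t : G, orderOf s = 2 → orderOf t = 2 → IsConj s t :=
    fun s t hs ht => h s t (hs.trans ht.symm)
  obtain ⟨S⟩ : Nonempty (Sylow 2 G) := inferInstance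
  by_cases heven : 2 ∣ Nat.card G
  swap
  · left
    rw [Nat.card_eq_one_iff_unique]
    refine ⟨⟨fun a b => ?_⟩, inferInstance⟩
    suffices hall : ∀ x : G, x = 1 by rw [hall a, hall b]
    intro x
    by_contra hne
    have hS : (S : Subgroup G) = ⊥ := by
      obtain ⟨n, hn⟩ := IsPGroup.iff_card.1 S.2
      rcases n with _ | n
      · exact Subgroup.card_eq_one.1 (by simpa using hn)
      · exact absurd ((hn ▸ dvd_pow_self 2 n.succ_ne_zero).trans (Subgroup.card_subgroup_dvd_card _)) heven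
    have h2 := (Cfsg.Agent.S4059.result hamb).1 S x (Subgroup.mem_centralizer_iff.2 fun s hs => by
      rw [hS] at hs
      rw [Subgroup.mem_bot.1 hs, one_mul, mul_one]) hne
    exact heven (h2 ▸ orderOf_dvd_natCard x)
  obtain ⟨hcase, hsmall⟩ := Cfsg.Agent.S4061.result hamb heven hone S
  rcases hcase with hS | ⟨n, ⟨e⟩⟩
  · exact order_two_case h heven S hS (hsmall hS).1 (hsmall hS).2.2
  · exfalso
    rcases n with _ | n
    · exact quaternion_eight_case h hamb hone S e
    · exact large_quaternion_case h S n e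

end Cfsg.Agent.S4062
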