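import Cfsg.Statements.S4066

set_option autoImplicit false
open Cfsg

namespace Cfsg.Agent.S4066

/-- Let G be a finite group in which the centralizer of every element meets each of its conjugates by elements outside its normalizer trivially. Then any two distinct Sylow p-subgroups of G, for any prime p, intersect trivially. -/
theorem result {G : Type*} [Group G] [Finite G] (hTI : ∀ x : G, Cfsg.IsTISubset (Subgroup.centralizer ({x} : Set G) : Set G))
    {p : ℕ} [Fact p.Prime] (P Q : Sylow p G) (hPQ : P ≠ Q) : (P : Subgroup G) ⊓ (Q : Subgroup G) = ⊥ := by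
  by_contra hne
  obtain ⟨x, hx, hx1⟩ := (Subgroup.ne_bot_iff_exists_ne_one.1 hne) |> fun ⟨⟨x, hx⟩, h1⟩ =>
    (⟨x, hx, fun h => h1 (Subtype.ext h)⟩ : ∃ x, x ∈ (P : Subgroup G) ⊓ (Q : Subgroup G) ∧ x ≠ 1)
  obtain ⟨hxP, hxQ⟩ := Subgroup.mem_inf.1 hx
  obtain ⟨g, hg⟩ := MulAction.exists_smul_eq G P Q
  have : Nontrivial (P : Subgroup G) := ⟨⟨⟨x, hxP⟩, 1, fun h => hx1 (congrArg Subtype.val h)⟩⟩
  have hZ : Nontrivial (Subgroup.center (P : Subgroup G)) := P.2.center_nontrivial
  obtain ⟨⟨z₀, hz₀⟩, hz₀1⟩ := exists_ne (1 : Subgroup.center (P : Subgroup G))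
  set z : G := (z₀ : G) with hzdef
  have hz1 : z ≠ 1 := fun h => hz₀1 (Subtype.ext (Subtype.ext h))
  have hzc : ∀ s ∈ (P : Subgroup G), s * z = z * s := fun s hs =>
    congrArg Subtype.val (Subgroup.mem_center_iff.1 hz₀ ⟨s, hs⟩)
  set w : G := g * z * g⁻¹ with hwdef
  have hwc : ∀ s ∈ (Q : Subgroup G), s * w = w * s := by
    intro s hs
    have : g⁻¹ * s * g ∈ (P : Subgroup G) := by
      rw [← hg, Sylow.coe_subgroup_smul, Subgroup.mem_pointwise_smul_iff_inv_smul_mem] at hs
      simpa [MulAut.smul_def, mul_assoc] using hs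
    calc s * w = g * ((g⁻¹ * s * g) * z) * g⁻¹ := by rw [hwdef]; group
      _ = g * (z * (g⁻¹ * s * g)) * g⁻¹ := by rw [hzc _ this]
      _ = _ := by rw [hwdef]; group
  -- the centralizers of `z` and of `w` share `x`, so they coincide
  have hgN : g ∈ Subgroup.normalizer ((Subgroup.centralizer ({z} : Set G) : Subgroup G) : Set G) := by
    by_contra hgn
    have := hTI z g hgn (g⁻¹ * x * g) (by
      rw [SetLike.mem_coe, Subgroup.mem_centralizer_singleton_iff]
      apply hzc
      rw [← hg, Sylow.coe_subgroup_smul, Subgroup.mem_pointwise_smul_iff_inv_smul_mem] at hxQ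
      simpa [MulAut.smul_def, mul_assoc] using hxQ) (by
      rw [SetLike.mem_coe, Subgroup.mem_centralizer_singleton_iff,
        show g * (g⁻¹ * x * g) * g⁻¹ = x by group]
      exact hzc x hxP)
    apply hx1
    calc x = g * (g⁻¹ * x * g) * g⁻¹ := by group
      _ = 1 := by rw [this]; group
  set C := Subgroup.centralizer ({z} : Set G) with hC
  have hPC : (P : Subgroup G) ≤ C := fun s hs => Subgroup.mem_centralizer_singleton_iff.2 (hzc s hs)
  have hQC : (Q : Subgroup G) ≤ C := by
    intro s hs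
    have hs' : g⁻¹ * s * g ∈ C := by
      apply hPC
      rw [← hg, Sylow.coe_subgroup_smul, Subgroup.mem_pointwise_smul_iff_inv_smul_mem] at hs
      simpa [MulAut.smul_def, mul_assoc] using hs
    have := (Subgroup.mem_normalizer_iff.1 hgN _).1 hs'
    simpa [mul_assoc] using this
  -- in `C` every element commutes with all its conjugates
  have hcomm : ∀ y ∈ C, ∀ a ∈ C, Commute (a * y * a⁻¹) y := by
    intro y hy a ha
    by_contra hnc
    have han : a ∉ Subgroup.normalizer ((Subgroup.centralizer ({y} : Set G) : Subgroup G) : Set G) := by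
      intro h
      have h2 := (Subgroup.mem_normalizer_iff.1 h y).1 (Subgroup.mem_centralizer_singleton_iff.2 rfl)
      exact hnc (Subgroup.mem_centralizer_singleton_iff.1 h2)
    refine hz1 (hTI y a han z (Subgroup.mem_centralizer_singleton_iff.2
      (Subgroup.mem_centralizer_singleton_iff.1 hy).symm) ?_)
    rw [Subgroup.mem_centralizer_singleton_iff.1 ha, mul_inv_cancel_right]
    exact Subgroup.mem_centralizer_singleton_iff.2 (Subgroup.mem_centralizer_singleton_iff.1 hy).symm
  -- hence the conjugates in `C` of an element of `P` generate an abelian normal `p`-subgroup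
  apply hPQ
  have hPN : ((P.subtype hPC : Sylow p C) : Subgroup C).Normal := by
    refine ⟨fun y hy a => ?_⟩
    let K : Subgroup C := Subgroup.normalClosure ({y} : Set C)
    have hconj : Group.conjugatesOfSet ({y} : Set C) = {t | ∃ b : C, b * y * b⁻¹ = t} := by
      ext t
      simp [Group.conjugatesOfSet, conjugatesOf, isConj_iff]
    have hab : IsMulCommutative K := by
      apply Subgroup.isMulCommutative_closure
      intro t₁ ht₁ t₂ ht₂
      rw [hconj] at ht₁ ht₂
      obtain ⟨b₁, rfl⟩ := ht₁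
      obtain ⟨b₂, rfl⟩ := ht₂
      apply Subtype.ext
      have hb : ((b₂⁻¹ * b₁ : C) : G) ∈ C := SetLike.coe_mem _
      have h := hcomm y y.2 _ hb
      simp only [Subgroup.coe_mul, InvMemClass.coe_inv] at h ⊢
      have h' := h.eq
      calc (b₁ : G) * y * (b₁ : G)⁻¹ * (b₂ * y * (b₂ : G)⁻¹)
          = b₂ * ((b₂ : G)⁻¹ * b₁ * y * ((b₂ : G)⁻¹ * b₁)⁻¹ * y) * (b₂ : G)⁻¹ := by group
        _ = b₂ * (y * ((b₂ : G)⁻¹ * b₁ * y * ((b₂ : G)⁻¹ * b₁)⁻¹)) * (b₂ : G)⁻¹ := by rw [h']
        _ = _ := by group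
    have hK : IsPGroup p K := by
      obtain ⟨k, hk⟩ := (P.subtype hPC).2 ⟨y, hy⟩
      intro t
      refine ⟨k, Subtype.ext ?_⟩
      obtain ⟨t, ht⟩ := t
      show t ^ p ^ k = 1
      refine Subgroup.closure_induction (p := fun s _ => s ^ p ^ k = 1) ?_ (one_pow _)
        (fun s₁ s₂ hs₁ hs₂ h₁ h₂ => ?_) (fun s _ hs => by rw [inv_pow, hs, inv_one]) ht
      · intro s hs
        rw [hconj] at hs
        obtain ⟨b, rfl⟩ := hs
        have hy' : y ^ p ^ k = 1 := congrArg Subtype.val hk
        rw [conj_pow, hy', mul_one, mul_inv_cancel]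
      · have hc : Commute s₁ s₂ := congrArg Subtype.val (mul_comm' (⟨s₁, hs₁⟩ : K) ⟨s₂, hs₂⟩)
        rw [hc.mul_pow, h₁, h₂, one_mul]
    exact hK.le_sylow_of_normal (P.subtype hPC) (Subgroup.normalClosure_normal.conj_mem y
      (Subgroup.subset_normalClosure (Set.mem_singleton y)) a)
  have := Sylow.unique_of_normal (P.subtype hPC) hPN
  exact Sylow.subtype_injective (Subsingleton.elim (P.subtype hPC) (Q.subtype hQC))

end Cfsg.Agent.S4066
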