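import Cfsg.Statements.S4065

set_option autoImplicit false
open Cfsg

namespace Cfsg.Agent.S4065

/-- In a group in which centralizers of nontrivial elements are commutative, all centralizers
are TI subsets. -/
theorem isTISubset_centralizer_of_ca {G : Type*} [Group G]
    (h : ∀ a : G, a ≠ 1 → ∀ b c : G, Commute b a → Commute c a → Commute b c) (x : G) :
    Cfsg.IsTISubset (Subgroup.centralizer ({x} : Set G) : Set G) := by
  intro g hg z hz hgz
  by_contra hz1
  rcases eq_or_ne x 1 with rfl | hx
  · exact hg (by simp [Subgroup.mem_normalizer_iff, Subgroup.mem_centralizer_singleton_iff])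
  apply hg
  rw [SetLike.mem_coe, Subgroup.mem_centralizer_singleton_iff] at hz hgz
  have hzx : Commute z x := hz
  have hgzx : Commute (g * z * g⁻¹) x := hgz
  have hw : Commute z (g⁻¹ * x * g) := by
    show z * (g⁻¹ * x * g) = g⁻¹ * x * g * z
    calc z * (g⁻¹ * x * g) = g⁻¹ * ((g * z * g⁻¹) * x) * g := by group
      _ = g⁻¹ * (x * (g * z * g⁻¹)) * g := by rw [hgzx.eq]
      _ = _ := by group
  have hw1 : g⁻¹ * x * g ≠ 1 := fun h1 => hx (by
    have := congrArg (fun t => g * t * g⁻¹) h1
    simpa [mul_assoc] using this)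
  rw [Subgroup.mem_normalizer_iff]
  intro n
  rw [Subgroup.mem_centralizer_singleton_iff, Subgroup.mem_centralizer_singleton_iff]
  constructor
  · intro hn
    have hn' : Commute n (g⁻¹ * x * g) := by
      have hnz : Commute n z := h x hx n z hn hzx
      exact h z hz1 n _ hnz hw.symm
    calc g * n * g⁻¹ * x = g * (n * (g⁻¹ * x * g)) * g⁻¹ := by group
      _ = g * (g⁻¹ * x * g * n) * g⁻¹ := by rw [hn'.eq]
      _ = _ := by group
  · intro hn
    have hn' : Commute n (g⁻¹ * x * g) := by
      show n * (g⁻¹ * x * g) = g⁻¹ * x * g * n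
      calc n * (g⁻¹ * x * g) = g⁻¹ * (g * n * g⁻¹ * x) * g := by group
        _ = g⁻¹ * (x * (g * n * g⁻¹)) * g := by rw [hn]
        _ = _ := by group
    have hnz : Commute n z := h _ hw1 n z hn' hw
    exact h z hz1 n x hnz hzx.symm

open Matrix in
/-- A 2 by 2 matrix of determinant 1 commuting with a non-scalar one is a combination of 1 and it. -/
theorem comm_of_comm_nonscalar {F : Type*} [Field F] {A B C : Matrix (Fin 2) (Fin 2) F}
    (hA : ¬ (A 0 1 = 0 ∧ A 1 0 = 0 ∧ A 0 0 = A 1 1)) (hB : B * A = A * B) (hC : C * A = A * C) :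
    B * C = C * B := by
  have e := fun i j => congrFun (congrFun hB i) j
  have f := fun i j => congrFun (congrFun hC i) j
  have e00 := e 0 0; have e01 := e 0 1; have e10 := e 1 0
  have f00 := f 0 0; have f01 := f 0 1; have f10 := f 1 0
  simp [Matrix.mul_apply, Fin.sum_univ_two] at e00 e01 e10 f00 f01 f10
  ext i j
  by_cases h01 : A 0 1 = 0
  · by_cases h10 : A 1 0 = 0
    · have hd : A 0 0 - A 1 1 ≠ 0 := fun h => hA ⟨h01, h10, sub_eq_zero.1 h⟩
      have b01 : B 0 1 = 0 := by
        have : B 0 1 * (A 0 0 - A 1 1) = 0 := by rw [h01] at e01; linear_combination -e01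
        exact (mul_eq_zero.1 this).resolve_right hd
      have b10 : B 1 0 = 0 := by
        have : B 1 0 * (A 0 0 - A 1 1) = 0 := by rw [h10] at e10; linear_combination e10
        exact (mul_eq_zero.1 this).resolve_right hd
      have c01 : C 0 1 = 0 := by
        have : C 0 1 * (A 0 0 - A 1 1) = 0 := by rw [h01] at f01; linear_combination -f01
        exact (mul_eq_zero.1 this).resolve_right hd
      have c10 : C 1 0 = 0 := by
        have : C 1 0 * (A 0 0 - A 1 1) = 0 := by rw [h10] at f10; linear_combination f10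
        exact (mul_eq_zero.1 this).resolve_right hd
      fin_cases i <;> fin_cases j <;>
        simp [Matrix.mul_apply, Fin.sum_univ_two, b01, b10, c01, c10, mul_comm]
    · apply mul_left_cancel₀ h10
      fin_cases i <;> fin_cases j <;> simp [Matrix.mul_apply, Fin.sum_univ_two] <;> grind
  · apply mul_left_cancel₀ h01
    fin_cases i <;> fin_cases j <;> simp [Matrix.mul_apply, Fin.sum_univ_two] <;> grind

/-- In `PSL₂` of a field of characteristic 2 centralizers of nontrivial elements are commutative. -/
theorem centralizer_comm {n : ℕ}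
    (a : Matrix.ProjectiveSpecialLinearGroup (Fin 2) (GaloisField 2 n)) (ha : a ≠ 1)
    (b c : Matrix.ProjectiveSpecialLinearGroup (Fin 2) (GaloisField 2 n))
    (hb : Commute b a) (hc : Commute c a) : Commute b c := by
  have hbot : Subgroup.center (Matrix.SpecialLinearGroup (Fin 2) (GaloisField 2 n)) = ⊥ := by
    rw [Subgroup.eq_bot_iff_forall]
    intro A hA
    obtain ⟨r, hr, hrA⟩ := Matrix.SpecialLinearGroup.mem_center_iff.1 hA
    have h1 : r = 1 := by
      simp only [Fintype.card_fin] at hr
      rcases sq_eq_one_iff.1 hr with h | h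
      · exact h
      · rw [h, CharTwo.neg_eq]
    ext i j
    rw [← hrA, h1]
    simp
  induction a using QuotientGroup.induction_on with | _ A =>
  induction b using QuotientGroup.induction_on with | _ B =>
  induction c using QuotientGroup.induction_on with | _ C =>
  have key : ∀ X Y : Matrix.SpecialLinearGroup (Fin 2) (GaloisField 2 n),
      Commute (QuotientGroup.mk' (Subgroup.center _) X) (QuotientGroup.mk' _ Y) → X * Y = Y * X :=
    fun X Y h => by
    have h' := h.eq
    rw [← map_mul, ← map_mul, QuotientGroup.mk'_eq_mk'] at h'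
    obtain ⟨z, hz, hz'⟩ := h'
    have hz1 : z = 1 := by rw [hbot] at hz; exact Subgroup.mem_bot.1 hz
    rwa [hz1, mul_one] at hz'
  have hA : ¬ ((A : Matrix (Fin 2) (Fin 2) (GaloisField 2 n)) 0 1 = 0 ∧
      (A : Matrix (Fin 2) (Fin 2) (GaloisField 2 n)) 1 0 = 0 ∧
      (A : Matrix (Fin 2) (Fin 2) (GaloisField 2 n)) 0 0 = (A : Matrix (Fin 2) (Fin 2) (GaloisField 2 n)) 1 1) := by
    rintro ⟨h1, h2, h3⟩
    apply ha
    have hd := A.2
    rw [Matrix.det_fin_two, h1, h2, ← h3, mul_zero, sub_zero, ← pow_two] at hd
    have h0 : (A : Matrix (Fin 2) (Fin 2) (GaloisField 2 n)) 0 0 = 1 := by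
      rcases sq_eq_one_iff.1 hd with h | h
      · exact h
      · rw [h]; exact CharTwo.neg_eq _
    have : A = 1 := by
      ext i j
      fin_cases i <;> fin_cases j <;> simp [h1, h2, h0, ← h3]
    rw [this]
    rfl
  have hBC := comm_of_comm_nonscalar hA (congrArg Subtype.val (key B A hb))
    (congrArg Subtype.val (key C A hc))
  show (QuotientGroup.mk (B * C) : Matrix.ProjectiveSpecialLinearGroup (Fin 2) (GaloisField 2 n)) =
    QuotientGroup.mk (C * B)
  exact congrArg _ (Subtype.ext hBC)

/-- Let F be a finite field with 2ⁿ elements, n ≥ 2. In PSL₂(F) the centralizer of every element meets each of its conjugates by elements outside its normalizer trivially. -/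
theorem result (n : ℕ) (hn : 2 ≤ n)
    (x : Matrix.ProjectiveSpecialLinearGroup (Fin 2) (GaloisField 2 n)) :
    Cfsg.IsTISubset (Subgroup.centralizer ({x} : Set (Matrix.ProjectiveSpecialLinearGroup (Fin 2) (GaloisField 2 n))) :
      Set (Matrix.ProjectiveSpecialLinearGroup (Fin 2) (GaloisField 2 n))) := by
  exact isTISubset_centralizer_of_ca (fun a ha => centralizer_comm a ha) x

end Cfsg.Agent.S4065
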