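import Cfsg.Statements.S4068
import Cfsg.Agent.PrimeOrders.Main

set_option autoImplicit false
open Cfsg

namespace Cfsg.Agent.S4068

/-- A finite non-solvable group on which its automorphism group has exactly four orbits is isomorphic to the alternating group of degree 5. -/
theorem result {G : Type*} [Group G] [Finite G] (hns : ¬ Group.IsSolvable G)
    (h4 : Nat.card (MulAction.orbitRel.Quotient (MulAut G) G) = 4) : Nonempty (G ≃* alternatingGroup (Fin 5)) := by
  classical
  have := Fintype.ofFinite G
  let f : MulAction.orbitRel.Quotient (MulAut G) G → ℕ := Quotient.lift orderOf (by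
    rintro a b ⟨σ, rfl⟩
    exact orderOf_injective σ.toMonoidHom σ.injective b)
  let S : Finset ℕ := Finset.univ.image fun g : G => orderOf g
  have hS : S.card ≤ 4 := by
    have := Fintype.ofFinite (MulAction.orbitRel.Quotient (MulAut G) G)
    have hsub : S ⊆ Finset.univ.image f := by
      intro m hm
      obtain ⟨g, -, rfl⟩ := Finset.mem_image.1 hm
      exact Finset.mem_image.2 ⟨Quotient.mk'' g, Finset.mem_univ _, rfl⟩
    refine (Finset.card_le_card hsub).trans (Finset.card_image_le.trans ?_)
    rw [Finset.card_univ, ← Nat.card_eq_fintype_card, h4]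
  have hsub : insert 1 (Nat.card G).primeFactors ⊆ S := by
    intro m hm
    rw [Finset.mem_insert] at hm
    rcases hm with rfl | hm
    · exact Finset.mem_image.2 ⟨1, Finset.mem_univ _, orderOf_one⟩
    · have := Fact.mk (Nat.prime_of_mem_primeFactors hm)
      obtain ⟨g, hg⟩ := exists_prime_orderOf_dvd_card' m (Nat.dvd_of_mem_primeFactors hm)
      exact Finset.mem_image.2 ⟨g, Finset.mem_univ _, hg⟩
  have hge : 3 ≤ (Nat.card G).primeFactors.card := by
    by_contra hlt
    exact hns (CfsgLib.PrimeOrders.isSolvable_of_primeFactors_card_le_two (by omega))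
  have hone : (1 : ℕ) ∉ (Nat.card G).primeFactors := fun h =>
    Nat.not_prime_one (Nat.prime_of_mem_primeFactors h)
  have hcard := Finset.card_le_card hsub
  rw [Finset.card_insert_of_notMem hone] at hcard
  have heq : insert 1 (Nat.card G).primeFactors = S :=
    Finset.eq_of_subset_of_card_le hsub (by rw [Finset.card_insert_of_notMem hone]; omega)
  refine CfsgLib.PrimeOrders.nonempty_equiv_alternating_five (fun g => ?_) (by omega) hns
  have hg : orderOf g ∈ S := Finset.mem_image.2 ⟨g, Finset.mem_univ _, rfl⟩
  rw [← heq, Finset.mem_insert] at hg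
  rcases hg with hg | hg
  · exact Or.inl (orderOf_eq_one_iff.1 hg)
  · exact Or.inr (Nat.prime_of_mem_primeFactors hg)

end Cfsg.Agent.S4068
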