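import Cfsg.Statements.S4070
import Cfsg.Agent.StabLength.Prim
import Cfsg.Agent.StabLength.OddMain
import Cfsg.Agent.StabLength.Transfer

set_option autoImplicit false
open Cfsg

namespace Cfsg.Agent.S4070

/-- Let G be a finite solvable group acting faithfully by additive automorphisms on a finite vector space V over the field with p elements, completely reducibly (every G-invariant subspace has a G-invariant complement). Then some vector v ∈ V has stabilizer C_G(v) of derived length at most 9; and if both #G and p are odd, some vector has abelian stabilizer. -/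
theorem result {G V : Type*} [Group G] [Finite G] [Group.IsSolvable G]
    {p : ℕ} [Fact p.Prime] [AddCommGroup V] [Module (ZMod p) V] [Finite V] [DistribMulAction G V] [FaithfulSMul G V]
    (hcr : ∀ W : Submodule (ZMod p) V, (∀ (g : G) (w : V), w ∈ W → g • w ∈ W) →
      ∃ W' : Submodule (ZMod p) V, (∀ (g : G) (w : V), w ∈ W' → g • w ∈ W') ∧ IsCompl W W') :
    (∃ v : V, derivedSeries ↥(MulAction.stabilizer G v) 9 = ⊥) ∧
    (Odd (Nat.card G) → p ≠ 2 → ∃ v : V, IsMulCommutative ↥(MulAction.stabilizer G v)) := by
  have hf : CfsgLib.SolvKGV.Faith G V := fun g hg =>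
    FaithfulSMul.eq_of_smul_eq_smul fun v => (hg v).trans (one_smul G v).symm
  have hs := CfsgLib.StabLength.semi_linGroup (CfsgLib.StabLength.semi_of_submodule hcr)
  have hfl : CfsgLib.SolvKGV.Faith (CfsgLib.StabLength.linGroup G V) V :=
    CfsgLib.StabLength.faith_linGroup
  haveI : Group.IsSolvable (CfsgLib.StabLength.linGroup G V) :=
    CfsgLib.StabLength.isSolvable_linGroup
  refine ⟨?_, fun hG hp => ?_⟩
  · obtain ⟨v, hv⟩ := CfsgLib.StabLength.exists_dl_nine_of_semi hs hfl
    exact ⟨v, CfsgLib.StabLength.dl_stabilizer_of_linGroup hf hv⟩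
  · have hV : Odd (Nat.card V) := by
      haveI : Module.Finite (ZMod p) V := Module.Finite.of_finite
      rw [Module.natCard_eq_pow_finrank (K := ZMod p) (V := V), Nat.card_zmod]
      exact ((Fact.out : p.Prime).odd_of_ne_two hp).pow
    obtain ⟨v, hv⟩ := CfsgLib.StabLength.exists_dl_one_stabilizer hs hfl
      (by rwa [CfsgLib.StabLength.card_linGroup hf]) hV
    exact ⟨v, IsMulCommutative.of_comm fun a b => CfsgLib.StabLength.comm_of_dl_one
      (CfsgLib.StabLength.dl_stabilizer_of_linGroup hf hv) a b⟩

end Cfsg.Agent.S4070
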