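import Cfsg.Statements.S4071

set_option autoImplicit false
open Cfsg

namespace Cfsg.Agent.S4071

open Subgroup in
theorem of_structure {G : Type*} [Group G] [Finite G] {x : G} {A : Subgroup G} {p : ℕ}
    (hp : p.Prime) [A.Normal] (hA : IsMulCommutative A) (hx : ∃ k : ℕ, orderOf x = p ^ k)
    (hc : (Subgroup.zpowers x).IsComplement' A) (hxp : x ^ p ∈ Subgroup.center G)
    (hfpf : ∀ a : G, a ∈ A → a ≠ 1 → x * a * x⁻¹ ≠ a)
    (H : Subgroup G) (hH : ¬ IsMulCommutative H) : Subgroup.normalizer (H : Set G) = H := by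
  have hAc : ∀ a ∈ A, ∀ b ∈ A, a * b = b * a := fun a ha b hb =>
    congrArg Subtype.val (hA.is_comm.comm ⟨a, ha⟩ ⟨b, hb⟩)
  have hdec : ∀ g : G, ∃ n : ℕ, ∃ a ∈ A, g = x ^ n * a := by
    intro g
    have h : g ∈ ((zpowers x ⊔ A : Subgroup G) : Set G) := by rw [hc.sup_eq_top]; trivial
    rw [mul_normal] at h
    obtain ⟨y, hy, a, ha, rfl⟩ := h
    obtain ⟨n, rfl⟩ := mem_powers_iff_mem_zpowers.2 hy
    exact ⟨n, a, ha, rfl⟩
  obtain ⟨h, hh, n, hn, b, hb, hhe⟩ : ∃ h ∈ H, ∃ n : ℕ, ¬ p ∣ n ∧ ∃ b ∈ A, h = x ^ n * b := by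
    by_contra hcon
    push Not at hcon
    refine hH ⟨⟨fun u v => Subtype.ext ?_⟩⟩
    obtain ⟨n, a, ha, hu⟩ := hdec u
    obtain ⟨m, b, hb, hv⟩ := hdec v
    obtain ⟨i, rfl⟩ : p ∣ n := by_contra fun hn => hcon _ u.2 n hn a ha hu
    obtain ⟨j, rfl⟩ : p ∣ m := by_contra fun hm => hcon _ v.2 m hm b hb hv
    have hi := fun g => mem_center_iff.1 (pow_mem hxp i) g
    have hj := fun g => mem_center_iff.1 (pow_mem hxp j) g
    rw [pow_mul] at hu hv
    show (u : G) * (v : G) = (v : G) * (u : G)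
    rw [hu, hv]
    calc (x ^ p) ^ i * a * ((x ^ p) ^ j * b) = (x ^ p) ^ i * (a * (x ^ p) ^ j) * b := by group
      _ = (x ^ p) ^ i * (x ^ p) ^ j * (a * b) := by rw [hj a]; group
      _ = (x ^ p) ^ j * (x ^ p) ^ i * (b * a) := by rw [hi ((x ^ p) ^ j), hAc a ha b hb]
      _ = (x ^ p) ^ j * ((x ^ p) ^ i * b) * a := by group
      _ = (x ^ p) ^ j * b * ((x ^ p) ^ i * a) := by rw [← hi b]; group
  have hcop : n.Coprime (orderOf x) := by
    obtain ⟨k, hk⟩ := hx
    rw [hk]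
    exact ((hp.coprime_iff_not_dvd.2 hn).pow_left k).symm
  obtain ⟨m, hm⟩ := exists_pow_eq_self_of_coprime hcop
  have htop : A ⊔ H = ⊤ := by
    have hxn : x ^ n ∈ A ⊔ H := by
      have h' : x ^ n = h * b⁻¹ := by rw [hhe]; group
      rw [h']
      exact mul_mem (mem_sup_right hh) (mem_sup_left (inv_mem hb))
    rw [eq_top_iff, ← hc.sup_eq_top]
    refine sup_le (zpowers_le.2 ?_) le_sup_left
    rw [← hm]
    exact pow_mem hxn m
  have hinj : ∀ a ∈ A, ∀ a' ∈ A, h * a * h⁻¹ * a⁻¹ = h * a' * h⁻¹ * a'⁻¹ → a = a' := by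
    intro a ha a' ha' e
    have e1 : h * (a'⁻¹ * a) * h⁻¹ = a'⁻¹ * a := by
      have h1 : h * a * h⁻¹ = h * a' * h⁻¹ * a'⁻¹ * a := by rw [← e]; group
      calc h * (a'⁻¹ * a) * h⁻¹ = (h * a' * h⁻¹)⁻¹ * (h * a * h⁻¹) := by group
        _ = _ := by rw [h1]; group
    set c := a'⁻¹ * a with hc'
    have hcA : c ∈ A := mul_mem (inv_mem ha') ha
    have e2 : x ^ n * c * (x ^ n)⁻¹ = c := by
      calc x ^ n * c * (x ^ n)⁻¹ = x ^ n * (c * b) * b⁻¹ * (x ^ n)⁻¹ := by group
        _ = x ^ n * (b * c) * b⁻¹ * (x ^ n)⁻¹ := by rw [hAc c hcA b hb]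
        _ = h * c * h⁻¹ := by rw [hhe]; group
        _ = c := e1
    have e3 : Commute ((x ^ n) ^ m) c := Commute.pow_left (mul_inv_eq_iff_eq_mul.1 e2) m
    rw [hm] at e3
    have hc1 : c = 1 := by_contra fun h1 => hfpf c hcA h1 (by rw [e3.eq]; group)
    exact (inv_mul_eq_one.1 hc1).symm
  refine le_antisymm (fun g hg => ?_) le_normalizer
  have hg' : g ∈ ((A ⊔ H : Subgroup G) : Set G) := by rw [htop]; trivial
  rw [normal_mul] at hg'
  obtain ⟨a, ha, h', hh', rfl⟩ := hg'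
  have haN : a ∈ normalizer (H : Set G) := by
    simpa using mul_mem hg (inv_mem (le_normalizer (H := H) hh'))
  refine H.mul_mem ?_ hh'
  let φ : ↥(A ⊓ H) → ↥(A ⊓ H) := fun c => ⟨h * c * h⁻¹ * (c : G)⁻¹,
    A.mul_mem (Normal.conj_mem inferInstance _ c.2.1 h) (A.inv_mem c.2.1),
    H.mul_mem (H.mul_mem (H.mul_mem hh c.2.2) (H.inv_mem hh)) (H.inv_mem c.2.2)⟩
  have hφ : Function.Injective φ := fun c c' e =>
    Subtype.ext (hinj _ c.2.1 _ c'.2.1 (congrArg Subtype.val e))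
  have hmem : h * a * h⁻¹ * a⁻¹ ∈ A ⊓ H :=
    ⟨A.mul_mem (Normal.conj_mem inferInstance a ha h) (A.inv_mem ha), by
      have h1 : a * h⁻¹ * a⁻¹ ∈ H := (mem_normalizer_iff.1 haN _).1 (inv_mem hh)
      simpa [mul_assoc] using H.mul_mem hh h1⟩
  obtain ⟨c, hc2⟩ := Finite.surjective_of_injective hφ ⟨_, hmem⟩
  have := hinj _ c.2.1 a ha (congrArg Subtype.val hc2)
  rw [← this]
  exact c.2.2

open Subgroup in
theorem to_structure {G : Type*} [Group G] [Finite G] [Group.IsSolvable G]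
    (hnn : ¬ Group.IsNilpotent G)
    (hS : ∀ H : Subgroup G, ¬ IsMulCommutative H → Subgroup.normalizer (H : Set G) = H) :
    ∃ (x : G) (A : Subgroup G) (p : ℕ), p.Prime ∧ A.Normal ∧ IsMulCommutative A ∧ (∃ k : ℕ, orderOf x = p ^ k) ∧
      ¬ p ∣ Nat.card A ∧ (Subgroup.zpowers x).IsComplement' A ∧ x ^ p ∈ Subgroup.center G ∧
      ∀ a : G, a ∈ A → a ≠ 1 → x * a * x⁻¹ ≠ a := by
  have hnt : Nontrivial G := not_subsingleton_iff_nontrivial.1 fun h => hnn inferInstance
  have hab : ∀ N : Subgroup G, N.Normal → N ≠ ⊤ → IsMulCommutative N := fun N hN hne => by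
    by_contra hc
    rw [← hS N hc, normalizer_eq_top_iff.2 hN] at hne
    exact hne rfl
  -- a normal subgroup `M` of prime index `p`
  obtain ⟨M, hM, hGM⟩ : ∃ M : Subgroup G, IsCoatom M ∧ commutator G ≤ M := by
    rcases eq_top_or_exists_le_coatom (commutator G) with h | h
    · exact absurd h (Group.IsSolvable.commutator_lt_top_of_nontrivial G).ne
    · exact h
  haveI hMn : M.Normal := ⟨fun n hn g => by
    have h : g * n * g⁻¹ * n⁻¹ ∈ M :=
      hGM (commutator_mem_commutator (mem_top g) (mem_top n))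
    simpa using M.mul_mem h hn⟩
  have hMc : ∀ a ∈ M, ∀ b ∈ M, a * b = b * a := fun a ha b hb =>
    congrArg Subtype.val ((hab M hMn hM.1).is_comm.comm ⟨a, ha⟩ ⟨b, hb⟩)
  have hne : Nat.card (G ⧸ M) ≠ 1 := fun h => hM.1 (index_eq_one.1 h)
  obtain ⟨p, hp, hd⟩ := Nat.exists_prime_and_dvd hne
  haveI := Fact.mk hp
  obtain ⟨y', hy'⟩ := exists_prime_orderOf_dvd_card' p hd
  obtain ⟨y, rfl⟩ := QuotientGroup.mk'_surjective M y'
  have hyM : y ∉ M := fun h => hp.ne_one <| by
    rw [← hy', show QuotientGroup.mk' M y = 1 from (QuotientGroup.eq_one_iff y).2 h, orderOf_one]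
  have hpM : ∀ g : G, g ^ p ∈ M := fun g => by
    have hlt : M < (zpowers (QuotientGroup.mk' M y)).comap (QuotientGroup.mk' M) := by
      refine lt_of_le_of_ne ?_ fun h => hyM (h ▸ mem_zpowers (QuotientGroup.mk' M y))
      conv_lhs => rw [← QuotientGroup.ker_mk' M]
      exact ker_le_comap _ _
    have h1 : g ∈ (zpowers (QuotientGroup.mk' M y)).comap (QuotientGroup.mk' M) := by
      rw [hM.2 _ hlt]; trivial
    obtain ⟨i, hi⟩ := mem_zpowers_iff.1 (mem_comap.1 h1)
    apply (QuotientGroup.eq_one_iff (g ^ p)).1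
    show QuotientGroup.mk' M (g ^ p) = 1
    rw [map_pow, ← hi, ← zpow_natCast, ← zpow_mul, mul_comm, zpow_mul, zpow_natCast, ← hy',
      pow_orderOf_eq_one, one_zpow]
  set v := (Nat.card G).factorization p with hv
  set N := Nat.card G / p ^ v with hN
  have hvN : p ^ v * N = Nat.card G := Nat.ordProj_mul_ordCompl_eq_self _ p
  have hpN : ¬ p ∣ N := Nat.not_dvd_ordCompl hp Nat.card_pos.ne'
  -- the `p`-element
  set x := y ^ N with hxdef
  have hxM : x ∉ M := fun h => by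
    apply hyM
    have hcop : Nat.gcd N p = 1 := (hp.coprime_iff_not_dvd.2 hpN).symm
    have := Nat.gcd_eq_gcd_ab N p
    rw [hcop] at this
    have e : y = (y ^ N) ^ (Nat.gcdA N p) * (y ^ p) ^ (Nat.gcdB N p) := by
      rw [← zpow_natCast y N, ← zpow_natCast y p, ← zpow_mul, ← zpow_mul, ← zpow_add, ← this]
      simp
    rw [e]
    exact mul_mem (zpow_mem h _) (zpow_mem (hpM y) _)
  have hxord : ∃ k : ℕ, orderOf x = p ^ k := by
    have h : orderOf x ∣ p ^ v := orderOf_dvd_of_pow_eq_one (by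
      rw [hxdef, ← pow_mul, mul_comm, hvN, pow_card_eq_one'])
    obtain ⟨k, -, hk⟩ := (Nat.dvd_prime_pow hp).1 h
    exact ⟨k, hk⟩
  have hgen : ∀ C : Subgroup G, M ≤ C → x ∈ C → C = ⊤ := fun C hMC hxC =>
    hM.2 C (lt_of_le_of_ne hMC fun h => hxM (h ▸ hxC))
  have hxp : x ^ p ∈ center G := by
    have h : centralizer ({x ^ p} : Set G) = ⊤ := hgen _
      (fun m hm => mem_centralizer_singleton_iff.2 (hMc m hm _ (hpM x)))
      (mem_centralizer_singleton_iff.2 ((Commute.self_pow x p).eq))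
    exact mem_center_iff.2 fun g => mem_centralizer_singleton_iff.1 (h ▸ mem_top g)
  -- the `p'`-part of `M`
  let A : Subgroup G :=
    { carrier := {m | m ∈ M ∧ m ^ N = 1}
      one_mem' := ⟨M.one_mem, one_pow _⟩
      mul_mem' := fun {a b} ha hb => ⟨M.mul_mem ha.1 hb.1, by
        rw [Commute.mul_pow (hMc a ha.1 b hb.1), ha.2, hb.2, one_mul]⟩
      inv_mem' := fun {a} ha => ⟨M.inv_mem ha.1, by rw [inv_pow, ha.2, inv_one]⟩ }
  haveI hAn : A.Normal :=
    ⟨fun a ha g => ⟨hMn.conj_mem a ha.1 g, by rw [conj_pow, ha.2, mul_one, mul_inv_cancel]⟩⟩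
  have hAab : IsMulCommutative A := ⟨⟨fun a b => Subtype.ext (hMc _ a.2.1 _ b.2.1)⟩⟩
  have hpA : ¬ p ∣ Nat.card A := fun hd => by
    obtain ⟨a, ha⟩ := exists_prime_orderOf_dvd_card' (G := A) p hd
    apply hpN
    rw [← ha, ← orderOf_coe]
    exact orderOf_dvd_of_pow_eq_one a.2.2
  have hQp : IsPGroup p (G ⧸ A) := fun q => by
    obtain ⟨g, rfl⟩ := QuotientGroup.mk'_surjective A q
    refine ⟨1 + v, ?_⟩
    rw [← map_pow]
    refine (QuotientGroup.eq_one_iff _).2 ⟨?_, ?_⟩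
    · rw [pow_add, pow_one, pow_mul]
      exact pow_mem (hpM g) _
    · rw [← pow_mul, show p ^ (1 + v) * N = Nat.card G * p by rw [← hvN]; ring, pow_mul,
        pow_card_eq_one', one_pow]
  haveI hQn : Group.IsNilpotent (G ⧸ A) := hQp.isNilpotent
  have hnc : ¬ ∀ a ∈ A, x * a = a * x := fun hall => hnn <| by
    refine Subgroup.isNilpotent_of_ker_le_center (QuotientGroup.mk' A) ?_
    rw [QuotientGroup.ker_mk']
    intro a ha
    have h : centralizer ({a} : Set G) = ⊤ := hgen _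
      (fun m hm => mem_centralizer_singleton_iff.2 (hMc m hm a ha.1))
      (mem_centralizer_singleton_iff.2 (hall a ha))
    exact mem_center_iff.2 fun g => mem_centralizer_singleton_iff.1 (h ▸ mem_top g)
  -- `A⟨x⟩ = G`
  have htop : zpowers x ⊔ A = ⊤ := by
    set H₀ := zpowers x ⊔ A
    by_contra hne
    have hna : ¬ IsMulCommutative H₀ := fun hc => hnc fun a ha =>
      congrArg Subtype.val (hc.is_comm.comm ⟨x, mem_sup_left (mem_zpowers x)⟩ ⟨a, mem_sup_right ha⟩)
    have hcm : (H₀.map (QuotientGroup.mk' A)).comap (QuotientGroup.mk' A) = H₀ := by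
      rw [comap_map_eq, QuotientGroup.ker_mk', sup_eq_left]
      exact le_sup_right
    have hlt := Group.normalizerCondition_of_isNilpotent (G := G ⧸ A)
      (H₀.map (QuotientGroup.mk' A)) (lt_top_iff_ne_top.2 fun h => hne (by
        rw [← hcm, h, comap_top]))
    have hlt' := (comap_lt_comap_of_surjective (QuotientGroup.mk'_surjective A)).2 hlt
    rw [hcm, comap_normalizer_eq_of_surjective _ (QuotientGroup.mk'_surjective A), hcm,
      hS H₀ hna] at hlt'
    exact lt_irrefl _ hlt'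
  have hdisj : Disjoint (zpowers x) A := by
    rw [disjoint_iff]
    apply inf_eq_bot_of_coprime
    obtain ⟨k, hk⟩ := hxord
    rw [Nat.card_zpowers, hk]
    exact (hp.coprime_iff_not_dvd.2 hpA).pow_left k
  refine ⟨x, A, p, hp, hAn, hAab, hxord, hpA, ?_, hxp, ?_⟩
  · refine isComplement'_of_disjoint_and_mul_eq_univ hdisj ?_
    rw [← mul_normal, htop]
    rfl
  -- `x` is fixed point free
  have hAc : ∀ a ∈ A, ∀ b ∈ A, a * b = b * a := fun a ha b hb => hMc a ha.1 b hb.1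
  have hfA : ∀ a ∈ A, x * a * x⁻¹ * a⁻¹ ∈ A := fun a ha =>
    A.mul_mem (hAn.conj_mem a ha x) (A.inv_mem ha)
  let f : A →* A :=
    { toFun := fun a => ⟨x * a * x⁻¹ * (a : G)⁻¹, hfA a a.2⟩
      map_one' := Subtype.ext (by simp)
      map_mul' := fun a b => Subtype.ext (by
        show x * ((a : G) * b) * x⁻¹ * ((a : G) * b)⁻¹ =
          x * a * x⁻¹ * (a : G)⁻¹ * (x * b * x⁻¹ * (b : G)⁻¹)
        calc x * ((a : G) * b) * x⁻¹ * ((a : G) * b)⁻¹
            = x * a * x⁻¹ * ((x * b * x⁻¹ * (b : G)⁻¹) * (a : G)⁻¹) := by group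
          _ = x * a * x⁻¹ * ((a : G)⁻¹ * (x * b * x⁻¹ * (b : G)⁻¹)) := by
              rw [hAc _ (hfA b b.2) _ (A.inv_mem a.2)]
          _ = _ := by group) }
  set B := f.range.map A.subtype with hB
  have hBA : B ≤ A := map_subtype_le _
  have hfB : ∀ a ∈ A, x * a * x⁻¹ * a⁻¹ ∈ B := fun a ha =>
    ⟨f ⟨a, ha⟩, ⟨_, rfl⟩, rfl⟩
  set H₁ := zpowers x ⊔ B with hH₁
  have hxBB : ∀ b ∈ B, x * b * x⁻¹ ∈ B := fun b hb => by
    have := B.mul_mem (hfB b (hBA hb)) hb
    simpa using this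
  have hxN : x ∈ normalizer (B : Set G) := by
    refine mem_normalizer_iff_map_conj_eq.2 (eq_of_le_of_card_ge ?_
      (card_map_of_injective (MulAut.conj x).injective).ge)
    rintro _ ⟨b, hb, rfl⟩
    exact hxBB b hb
  have hH₁n : H₁.Normal := by
    rw [← normalizer_eq_top_iff, eq_top_iff, ← htop]
    refine sup_le ((zpowers_le.2 (mem_sup_left (mem_zpowers x) : x ∈ H₁)).trans le_normalizer)
      fun a ha => ?_
    refine mem_normalizer_iff_map_conj_eq.2 (eq_of_le_of_card_ge ?_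
      (card_map_of_injective (MulAut.conj a).injective).ge)
    rw [hH₁, Subgroup.map_sup, MonoidHom.map_zpowers]
    refine sup_le (zpowers_le.2 ?_) ?_
    · show a * x * a⁻¹ ∈ zpowers x ⊔ B
      have h : a * x * a⁻¹ = (x * a * x⁻¹ * a⁻¹)⁻¹ * x := by group
      rw [h]
      exact mul_mem (mem_sup_right (inv_mem (hfB a ha))) (mem_sup_left (mem_zpowers x))
    · rintro _ ⟨b, hb, rfl⟩
      show a * b * a⁻¹ ∈ zpowers x ⊔ B
      rw [hAc a ha b (hBA hb), mul_inv_cancel_right]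
      exact mem_sup_right hb
  by_cases hH₁top : H₁ = ⊤
  · have hsurj : Function.Surjective f := fun a => by
      have h : (a : G) ∈ ((zpowers x ⊔ B : Subgroup G) : Set G) := by
        rw [← hH₁, hH₁top]; trivial
      rw [coe_mul_of_left_le_normalizer_right _ _ (zpowers_le.2 hxN)] at h
      obtain ⟨z, hz, b, ⟨c, ⟨d, hd⟩, hcb⟩, he⟩ := h
      have hz1 : z = 1 := by
        refine (disjoint_def.1 hdisj) hz ?_
        have : z = (a : G) * b⁻¹ := by rw [← he]; group
        rw [this]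
        exact A.mul_mem a.2 (A.inv_mem (hBA ⟨c, ⟨d, hd⟩, hcb⟩))
      refine ⟨d, Subtype.ext ?_⟩
      rw [hd]
      rw [← hcb, hz1] at he
      simpa using he
    have hinj := Finite.injective_iff_surjective.2 hsurj
    intro a ha hne he
    exact hne (congrArg Subtype.val (hinj (a₁ := ⟨a, ha⟩) (a₂ := 1) (by
      rw [map_one]; exact Subtype.ext (by show x * a * x⁻¹ * a⁻¹ = 1; rw [he, mul_inv_cancel]))))
  · exfalso
    have hc := hab H₁ hH₁n hH₁top
    obtain ⟨k, hk⟩ := hxord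
    apply hnc
    intro a ha
    set c := x * a * x⁻¹ * a⁻¹ with hcdef
    have hcx : x * c = c * x := congrArg Subtype.val
      (hc.is_comm.comm ⟨x, mem_sup_left (mem_zpowers x)⟩ ⟨c, mem_sup_right (hfB a ha)⟩)
    have hpow : ∀ i : ℕ, x ^ i * a * (x ^ i)⁻¹ = c ^ i * a := by
      intro i
      induction i with
      | zero => simp
      | succ i ih =>
        calc x ^ (i + 1) * a * (x ^ (i + 1))⁻¹ = x * (x ^ i * a * (x ^ i)⁻¹) * x⁻¹ := by
              rw [pow_succ']; group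
          _ = x * c ^ i * a * x⁻¹ := by rw [ih]; group
          _ = c ^ i * x * a * x⁻¹ := by rw [((show Commute x c from hcx).pow_right i).eq]
          _ = c ^ i * (c * a) := by rw [hcdef]; group
          _ = c ^ (i + 1) * a := by rw [pow_succ]; group
    have h1 : c ^ (p ^ k) = 1 := by
      have := hpow (p ^ k)
      rw [← hk, pow_orderOf_eq_one] at this
      rw [← hk]
      simpa using this.symm
    have hc1 : c = 1 := by
      have hcA : c ∈ A := hfA a ha
      have h2 : orderOf c ∣ Nat.card A := by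
        rw [show c = ((⟨c, hcA⟩ : A) : G) from rfl, orderOf_coe]
        exact orderOf_dvd_natCard _
      exact orderOf_eq_one_iff.1 (Nat.eq_one_of_dvd_coprimes
        ((hp.coprime_iff_not_dvd.2 hpA).pow_left k) (orderOf_dvd_of_pow_eq_one h1) h2)
    calc x * a = x * a * x⁻¹ * a⁻¹ * (a * x) := by group
      _ = a * x := by rw [← hcdef, hc1, one_mul]

/-- Let G be a finite solvable non-nilpotent group. Every non-abelian subgroup of G is self-normalizing if and only if G is a semidirect product ⟨x⟩ ⋉ A in which ⟨x⟩ is a p-group for some prime p, A is a normal abelian subgroup of order prime to p, x^p is central in G, and x acts fixed-point-freely on A (no non-identity element of A commutes with x). -/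
theorem result {G : Type*} [Group G] [Finite G]
    [Group.IsSolvable G] (hnn : ¬ Group.IsNilpotent G) :
    (∀ H : Subgroup G, ¬ IsMulCommutative H → Subgroup.normalizer (H : Set G) = H) ↔
    ∃ (x : G) (A : Subgroup G) (p : ℕ), p.Prime ∧ A.Normal ∧ IsMulCommutative A ∧ (∃ k : ℕ, orderOf x = p ^ k) ∧
      ¬ p ∣ Nat.card A ∧ (Subgroup.zpowers x).IsComplement' A ∧ x ^ p ∈ Subgroup.center G ∧
      ∀ a : G, a ∈ A → a ≠ 1 → x * a * x⁻¹ ≠ a := by
  constructor
  · exact to_structure hnn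
  · rintro ⟨x, A, p, hp, hAn, hA, hx, -, hc, hxp, hfpf⟩ H hH
    haveI := hAn
    exact of_structure hp hA hx hc hxp hfpf H hH

end Cfsg.Agent.S4071
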