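import Cfsg.Statements.S4072
import Cfsg.Agent.Solvable.Frattini

set_option autoImplicit false
open Cfsg
open scoped commutatorElement

namespace Cfsg.Agent.S4072

/-- In a nonabelian p-group with abelian proper subgroups the derived subgroup is generated by
an element of order dividing `p`. -/
theorem derived_cyclic_of_maximal_abelian {P : Type*} [Group P] [Finite P] {p : ℕ} [Fact p.Prime]
    (hP : IsPGroup p P) (hna : ¬ IsMulCommutative P)
    (hmax : ∀ K : Subgroup P, K ≠ ⊤ → IsMulCommutative K) :
    ∃ c : P, c ^ p = 1 ∧ commutator P ≤ Subgroup.zpowers c := by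
  obtain ⟨a, b, hab⟩ : ∃ a b : P, a * b ≠ b * a := by
    by_contra h
    push Not at h
    exact hna ⟨⟨h⟩⟩
  have hgen : Subgroup.closure ({a, b} : Set P) = ⊤ := by
    by_contra hne
    exact hab (congrArg Subtype.val ((hmax _ hne).is_comm.comm
      ⟨a, Subgroup.subset_closure (by simp)⟩ ⟨b, Subgroup.subset_closure (by simp)⟩))
  have hPhi : ∀ x t : P, t ∈ frattini P → x * t = t * x := by
    intro x t ht
    rcases eq_or_ne (Subgroup.zpowers x) ⊤ with h | h
    · obtain ⟨j, rfl⟩ := Subgroup.mem_zpowers_iff.1 (h ▸ Subgroup.mem_top t)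
      exact ((Commute.refl x).zpow_right j).eq
    · obtain ⟨K, hK, hxK⟩ := (IsCoatomic.eq_top_or_exists_le_coatom (Subgroup.zpowers x)).resolve_left h
      exact congrArg Subtype.val ((hmax K hK.1).is_comm.comm ⟨x, hxK (Subgroup.mem_zpowers x)⟩
        ⟨t, frattini_le_coatom hK ht⟩)
  set c := a * b * a⁻¹ * b⁻¹ with hc
  have hcΦ : c ∈ frattini P := CfsgLib.Solvable.commutator_le_frattini hP
    (Subgroup.commutator_mem_commutator (Subgroup.mem_top a) (Subgroup.mem_top b))
  have hcc : ∀ g : P, g * c = c * g := fun g => hPhi g c hcΦ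
  refine ⟨c, ?_, ?_⟩
  · have hn : ∀ n : ℕ, a ^ n * b = c ^ n * (b * a ^ n) := by
      intro n
      induction n with
      | zero => simp
      | succ n ih =>
        calc a ^ (n + 1) * b = a * (a ^ n * b) := by rw [pow_succ', mul_assoc]
          _ = a * c ^ n * (b * a ^ n) := by rw [ih, mul_assoc]
          _ = c ^ n * (a * b) * a ^ n := by rw [((Commute.pow_right (hcc a) n)).eq]; simp only [mul_assoc]
          _ = c ^ n * (c * b * a) * a ^ n := by rw [show c * b * a = a * b by rw [hc]; group]
          _ = _ := by rw [pow_succ, pow_succ']; simp only [mul_assoc]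
    have h1 := hn p
    rw [← hPhi b (a ^ p) (CfsgLib.Solvable.pow_mem_frattini hP a) |>.symm] at h1
    exact mul_eq_right.1 h1.symm
  · haveI : (Subgroup.zpowers c).Normal := ⟨fun t ht g => by
      obtain ⟨j, rfl⟩ := Subgroup.mem_zpowers_iff.1 ht
      rw [(Commute.zpow_right (hcc g) j).eq, mul_inv_cancel_right]
      exact zpow_mem (Subgroup.mem_zpowers c) j⟩
    set f := QuotientGroup.mk' (Subgroup.zpowers c)
    have hcf : f a * f b = f b * f a := by
      rw [← commutatorElement_eq_one_iff_mul_comm, ← map_commutatorElement]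
      exact (QuotientGroup.eq_one_iff _).2 (Subgroup.mem_zpowers c)
    have hcomm : IsMulCommutative (P ⧸ Subgroup.zpowers c) := by
      have : IsMulCommutative (Subgroup.closure ({f a, f b} : Set (P ⧸ Subgroup.zpowers c))) :=
        Subgroup.isMulCommutative_closure (by
          rintro x (rfl | rfl) y (rfl | rfl)
          exacts [rfl, hcf, hcf.symm, rfl])
      have htop : Subgroup.closure ({f a, f b} : Set (P ⧸ Subgroup.zpowers c)) = ⊤ := by
        rw [← Set.image_pair, ← MonoidHom.map_closure, hgen, Subgroup.map_top_of_surjective _ (QuotientGroup.mk'_surjective _)]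
      exact ⟨⟨fun x y => congrArg Subtype.val (this.is_comm.comm
        ⟨x, htop ▸ Subgroup.mem_top x⟩ ⟨y, htop ▸ Subgroup.mem_top y⟩)⟩⟩
    rw [commutator_def, Subgroup.commutator_le]
    intro x _ y _
    rw [← QuotientGroup.eq_one_iff]
    exact (map_commutatorElement f x y).trans (commutatorElement_eq_one_iff_mul_comm.2 (mul_comm' _ _))

/-- A finite group in which every non-abelian subgroup is self-normalizing is solvable or simple. -/
theorem result {G : Type*} [Group G] [Finite G] (hS : ∀ H : Subgroup G, ¬ IsMulCommutative H → Subgroup.normalizer (H : Set G) = H) :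
    Group.IsSolvable G ∨ IsSimpleGroup G := by
  classical
  by_cases hsol : Group.IsSolvable G
  · exact Or.inl hsol
  right
  haveI : Nontrivial G := by
    by_contra h
    rw [not_nontrivial_iff_subsingleton] at h
    exact hsol (Group.isSolvable_of_comm fun a b => Subsingleton.elim _ _)
  -- proper normal subgroups are abelian, so G is perfect
  have hab : ∀ N : Subgroup G, N.Normal → N ≠ ⊤ → IsMulCommutative N := fun N hN hne => by
    by_contra hna
    have := hS N hna
    rw [Subgroup.normalizer_eq_top_iff.2 hN] at this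
    exact hne this.symm
  have hperf : commutator G = ⊤ := by
    by_contra hne
    have h1 := hab _ inferInstance hne
    apply hsol
    haveI : Group.IsSolvable (commutator G) := Group.isSolvable_of_comm fun a b => mul_comm' a b
    haveI : Group.IsSolvable (G ⧸ commutator G) := Group.isSolvable_of_comm fun a b => by
      obtain ⟨x, rfl⟩ := QuotientGroup.mk_surjective a
      obtain ⟨y, rfl⟩ := QuotientGroup.mk_surjective b
      rw [← commutatorElement_eq_one_iff_mul_comm]
      exact (map_commutatorElement (QuotientGroup.mk' (commutator G)) x y).symm.trans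
        ((QuotientGroup.eq_one_iff _).2 (Subgroup.commutator_mem_commutator (Subgroup.mem_top x) (Subgroup.mem_top y)))
    exact Group.isSolvable_of_ker_le_range (commutator G).subtype (QuotientGroup.mk' (commutator G)) (by simp)
  by_contra hsimple
  obtain ⟨N₀, hN₀, hN₀b, hN₀t⟩ : ∃ N : Subgroup G, N.Normal ∧ N ≠ ⊥ ∧ N ≠ ⊤ := by
    by_contra hno
    push Not at hno
    exact hsimple ⟨fun N hN => or_iff_not_imp_left.2 (hno N hN)⟩
  obtain ⟨M, hN₀M, ⟨hMn, hMt⟩, hmax⟩ := (Set.toFinite {N : Subgroup G | N.Normal ∧ N ≠ ⊤}).exists_le_maximal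
    (show N₀ ∈ {N : Subgroup G | N.Normal ∧ N ≠ ⊤} from ⟨hN₀, hN₀t⟩)
  haveI := hMn
  have hMb : M ≠ ⊥ := fun h => hN₀b (eq_bot_iff.2 (h ▸ hN₀M))
  haveI hMc := hab M hMn hMt
  set π := QuotientGroup.mk' M with hπ
  have hπs : Function.Surjective π := QuotientGroup.mk'_surjective M
  have hQsimple : ∀ N : Subgroup (G ⧸ M), N.Normal → N = ⊥ ∨ N = ⊤ := by
    intro N hN
    rcases eq_or_ne (N.comap π) ⊤ with h | h
    · right
      rw [← Subgroup.map_comap_eq_self_of_surjective hπs N, h, Subgroup.map_top_of_surjective _ hπs]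
    · left
      have hle : M ≤ N.comap π := fun m hm => by
        rw [Subgroup.mem_comap, hπ, QuotientGroup.mk'_apply, (QuotientGroup.eq_one_iff m).2 hm]
        exact N.one_mem
      have := hmax ⟨hN.comap π, h⟩ hle
      rw [eq_bot_iff]
      intro y hy
      obtain ⟨g, rfl⟩ := hπs y
      exact Subgroup.mem_bot.2 ((QuotientGroup.eq_one_iff g).2 (this hy))
  have hQna : ¬ ∀ a b : G ⧸ M, a * b = b * a := by
    intro h
    apply hMt
    rw [eq_top_iff, ← hperf, commutator_def, Subgroup.commutator_le]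
    intro a _ b _
    rw [← QuotientGroup.eq_one_iff]
    exact (map_commutatorElement π a b).trans (commutatorElement_eq_one_iff_mul_comm.2 (h _ _))
  -- Burnside's transfer in the quotient
  have hburn : ∀ (p : ℕ) [Fact p.Prime] (R : Sylow p (G ⧸ M)),
      Subgroup.normalizer ((R : Subgroup (G ⧸ M)) : Set (G ⧸ M)) ≤
        Subgroup.centralizer ((R : Subgroup (G ⧸ M)) : Set (G ⧸ M)) → p ∣ Nat.card (G ⧸ M) → False := by
    intro p _ R hR hdvd
    have hc := MonoidHom.ker_transferSylow_isComplement' R hR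
    rcases hQsimple (MonoidHom.transferSylow R hR).ker inferInstance with h | h
    · rw [h] at hc
      have hRt : (R : Subgroup (G ⧸ M)) = ⊤ := by simpa using hc.sup_eq_top
      have hR' : ∀ s : G ⧸ M, s ∈ Subgroup.normalizer ((R : Subgroup (G ⧸ M)) : Set (G ⧸ M)) :=
        fun s => Subgroup.mem_normalizer_iff.2 fun n => by rw [hRt]; simp
      refine hQna fun a b => ?_
      exact Subgroup.mem_centralizer_iff.1 (hR (hR' b)) a (by rw [hRt]; simp)
    · have := MonoidHom.not_dvd_card_ker_transferSylow R hR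
      rw [h, Subgroup.card_top] at this
      exact this hdvd
  rcases eq_or_ne (Subgroup.centralizer (M : Set G)) ⊤ with hcentral | hnc
  · -- `M` is central
    have hMZ : M ≤ Subgroup.center G := fun m hm => Subgroup.mem_center_iff.2 fun g =>
      (Subgroup.mem_centralizer_iff.1 (hcentral ▸ Subgroup.mem_top g) m hm).symm
    obtain ⟨p, hp, hpM⟩ := Nat.exists_prime_and_dvd (fun h => hMb (Subgroup.card_eq_one.1 h))
    haveI : Fact p.Prime := ⟨hp⟩
    obtain ⟨⟨z, hzM⟩, hz⟩ := exists_prime_orderOf_dvd_card' p hpM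
    rw [Subgroup.orderOf_mk] at hz
    obtain ⟨P, hzP'⟩ := (IsPGroup.of_card (n := 1) (p := p) (G := Subgroup.zpowers z)
      (by rw [Nat.card_zpowers, hz, pow_one])).exists_le_sylow
    have hzP : z ∈ (P : Subgroup G) := hzP' (Subgroup.mem_zpowers z)
    have hzc : ∀ g : G, g * z = z * g := Subgroup.mem_center_iff.1 (hMZ hzM)
    -- transfer puts `z` in the derived subgroup of `P`
    have hzP1 : (⟨z, hzP⟩ : (P : Subgroup G)) ∈ commutator (P : Subgroup G) := by
      have key : ∀ (k : ℕ) (g₀ : G), g₀⁻¹ * z ^ k * g₀ ∈ (P : Subgroup G) → g₀⁻¹ * z ^ k * g₀ = z ^ k :=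
        fun k g₀ _ => by
          rw [mul_assoc, ← (Commute.pow_right (hzc g₀) k).eq, inv_mul_cancel_left]
      have ht := MonoidHom.transfer_eq_pow (Abelianization.of : (P : Subgroup G) →* _) z key
      have h1 : MonoidHom.transfer (Abelianization.of : (P : Subgroup G) →* _) z = 1 :=
        MonoidHom.mem_ker.1 (Abelianization.commutator_subset_ker _ (hperf ▸ Subgroup.mem_top z))
      rw [h1] at ht
      have h2 : (⟨z ^ (P : Subgroup G).index, MonoidHom.transfer_eq_pow_aux z key⟩ : (P : Subgroup G)) ∈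
          commutator (P : Subgroup G) := by
        rw [← Abelianization.ker_of, MonoidHom.mem_ker]
        exact ht.symm
      obtain ⟨u, v, huv⟩ := Nat.isCoprime_iff_coprime.2
        ((hp.coprime_iff_not_dvd.2 P.not_dvd_index).symm)
      have h3 := zpow_mem h2 u
      convert h3 using 1
      apply Subtype.ext
      simp only [SubgroupClass.coe_zpow]
      have hzp : z ^ (p : ℤ) = 1 := by
        rw [zpow_natCast, ← orderOf_dvd_iff_pow_eq_one, hz]
      rw [← zpow_natCast, ← zpow_mul]
      calc z = z ^ (u * ((P : Subgroup G).index : ℤ) + v * (p : ℤ)) := by rw [huv, zpow_one]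
        _ = _ := by
          rw [zpow_add, mul_comm v (p : ℤ), zpow_mul z (p : ℤ) v, hzp, one_zpow, mul_one, mul_comm]
    have hPna : ¬ IsMulCommutative (P : Subgroup G) := fun h => by
      have : commutator (P : Subgroup G) = ⊥ := (Subgroup.commutator_eq_bot_iff_le_centralizer).2
        fun a _ => Subgroup.mem_centralizer_iff.2 fun b _ => mul_comm' b a
      rw [this, Subgroup.mem_bot] at hzP1
      have hz1 : z = 1 := congrArg Subtype.val hzP1
      rw [hz1, orderOf_one] at hz
      exact hp.ne_one hz.symm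
    -- maximal subgroups of `P` are abelian, so `P'` has order `p`
    have hmaxab : ∀ K : Subgroup (P : Subgroup G), K ≠ ⊤ → IsMulCommutative K := by
      intro K hK
      by_contra hKna
      have hlt := Group.normalizerCondition_of_isNilpotent (h := P.2.isNilpotent) K (lt_top_iff_ne_top.2 hK)
      have hna' : ¬ IsMulCommutative (K.map (P : Subgroup G).subtype) := fun h => hKna
        ⟨⟨fun a b => Subtype.ext (Subtype.ext (Subtype.ext_iff.1
          (h.is_comm.comm ⟨_, a, a.2, rfl⟩ ⟨_, b, b.2, rfl⟩) :))⟩⟩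
      obtain ⟨x, hx, hxK⟩ := SetLike.exists_of_lt hlt
      have hmem := Subgroup.le_normalizer_map (P : Subgroup G).subtype ⟨x, hx, rfl⟩
      rw [hS _ hna'] at hmem
      obtain ⟨y, hy, hyx⟩ := hmem
      exact hxK ((Subtype.ext hyx : y = x) ▸ hy)
    have hPQ : ∀ a b : G, a ∈ (P : Subgroup G) → b ∈ (P : Subgroup G) → π a * π b = π b * π a := by
      have hsub : commutator (P : Subgroup G) ≤ M.subgroupOf (P : Subgroup G) := by
        obtain ⟨c, hc, hPc⟩ := derived_cyclic_of_maximal_abelian P.2 hPna hmaxab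
        intro t ht
        have hz' := hPc hzP1
        obtain ⟨i, hi⟩ := Subgroup.mem_zpowers_iff.1 hz'
        have hcz : c ∈ Subgroup.zpowers (⟨z, hzP⟩ : (P : Subgroup G)) := by
          have hzp : orderOf (⟨z, hzP⟩ : (P : Subgroup G)) = p := by rw [Subgroup.orderOf_mk, hz]
          have hle : Subgroup.zpowers (⟨z, hzP⟩ : (P : Subgroup G)) ≤ Subgroup.zpowers c :=
            Subgroup.zpowers_le.2 hz'
          rw [Subgroup.eq_of_le_of_card_ge hle (by
            rw [Nat.card_zpowers, Nat.card_zpowers, hzp]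
            exact Nat.le_of_dvd hp.pos (orderOf_dvd_of_pow_eq_one hc))]
          exact Subgroup.mem_zpowers c
        refine Subgroup.mem_subgroupOf.2 ?_
        obtain ⟨j, hj⟩ := Subgroup.mem_zpowers_iff.1
          ((Subgroup.zpowers_le.2 hcz) (hPc ht))
        rw [← hj, SubgroupClass.coe_zpow]
        exact M.zpow_mem hzM j
      intro a b ha hb
      rw [← commutatorElement_eq_one_iff_mul_comm]
      refine (map_commutatorElement π a b).symm.trans ((QuotientGroup.eq_one_iff _).2 ?_)
      exact Subgroup.mem_subgroupOf.1 (hsub (Subgroup.commutator_mem_commutator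
        (Subgroup.mem_top (⟨a, ha⟩ : (P : Subgroup G))) (Subgroup.mem_top ⟨b, hb⟩)))
    set R := P.mapSurjective hπs with hR
    refine hburn p R (fun y hy => ?_) ?_
    · obtain ⟨g, rfl⟩ := hπs y
      have hgN : g ∈ Subgroup.normalizer (((P : Subgroup G) ⊔ M : Subgroup G) : Set G) := by
        have : ((P : Subgroup G) ⊔ M) = (R : Subgroup (G ⧸ M)).comap π := by
          rw [hR, Sylow.coe_mapSurjective, Subgroup.comap_map_eq, hπ, QuotientGroup.ker_mk']
        rw [Subgroup.mem_normalizer_iff, this]
        intro n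
        simp only [Subgroup.mem_comap, map_mul, map_inv]
        exact Subgroup.mem_normalizer_iff.1 hy (π n)
      have hna : ¬ IsMulCommutative ((P : Subgroup G) ⊔ M : Subgroup G) := fun h => hPna
        ⟨⟨fun a b => Subtype.ext (Subtype.ext_iff.1
          (h.is_comm.comm ⟨a, Subgroup.mem_sup_left a.2⟩ ⟨b, Subgroup.mem_sup_left b.2⟩) :)⟩⟩
      rw [hS _ hna, ← SetLike.mem_coe, Subgroup.mul_normal, Set.mem_mul] at hgN
      obtain ⟨a, ha, m, hm, rfl⟩ := hgN
      rw [map_mul, show π m = 1 from (QuotientGroup.eq_one_iff m).2 hm, mul_one,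
        Subgroup.mem_centralizer_iff]
      intro s hs
      rw [hR, SetLike.mem_coe, Sylow.coe_mapSurjective, Subgroup.mem_map] at hs
      obtain ⟨b, hb, rfl⟩ := hs
      exact hPQ b a hb ha
    · by_contra hnd
      apply hPna
      have hPM : (P : Subgroup G) ≤ M := by
        intro a ha
        rw [← QuotientGroup.eq_one_iff, ← orderOf_eq_one_iff]
        obtain ⟨k, hk⟩ := P.2 ⟨a, ha⟩
        have hk' : a ^ p ^ k = 1 := congrArg Subtype.val hk
        refine Nat.eq_one_of_dvd_coprimes ((hp.coprime_iff_not_dvd.2 hnd).pow_left k) ?_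
          (orderOf_dvd_natCard _)
        exact orderOf_dvd_of_pow_eq_one (by rw [← QuotientGroup.mk_pow, hk', QuotientGroup.mk_one])
      exact ⟨⟨fun a b => Subtype.ext (Subtype.ext_iff.1
        (hMc.is_comm.comm ⟨a, hPM a.2⟩ ⟨b, hPM b.2⟩) :)⟩⟩
  · -- `M` is its own centralizer
    have hCM : ∀ g : G, g ∈ Subgroup.centralizer (M : Set G) → g ∈ M :=
      fun g hg => hmax (show (Subgroup.centralizer (M : Set G)).Normal ∧ _ from ⟨inferInstance, hnc⟩)
        (Subgroup.le_centralizer M) hg
    haveI : Nontrivial (G ⧸ M) := by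
      by_contra h
      rw [not_nontrivial_iff_subsingleton] at h
      exact hQna fun a b => Subsingleton.elim _ _
    obtain ⟨p, hp, hpQ⟩ := Nat.exists_prime_and_dvd (Finite.one_lt_card (α := G ⧸ M)).ne'
    haveI : Fact p.Prime := ⟨hp⟩
    have hself : ∀ y : G ⧸ M, y ≠ 1 → ∀ u ∈ Subgroup.normalizer ((Subgroup.zpowers y : Subgroup _) : Set (G ⧸ M)),
        u ∈ Subgroup.zpowers y := by
      intro y hy u hu
      obtain ⟨x, rfl⟩ := hπs y
      obtain ⟨g, rfl⟩ := hπs u
      have hna : ¬ IsMulCommutative (M ⊔ Subgroup.zpowers x : Subgroup G) := fun h => hy (by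
        refine (QuotientGroup.eq_one_iff x).2 (hCM x (Subgroup.mem_centralizer_iff.2 fun m hm => ?_))
        exact congrArg Subtype.val (h.is_comm.comm ⟨m, Subgroup.mem_sup_left hm⟩
          ⟨x, Subgroup.mem_sup_right (Subgroup.mem_zpowers x)⟩))
      have heq : (M ⊔ Subgroup.zpowers x : Subgroup G) = (Subgroup.zpowers (π x)).comap π := by
        rw [← MonoidHom.map_zpowers, Subgroup.comap_map_eq, hπ, QuotientGroup.ker_mk', sup_comm]
      have hgN : g ∈ Subgroup.normalizer ((M ⊔ Subgroup.zpowers x : Subgroup G) : Set G) := by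
        rw [Subgroup.mem_normalizer_iff, heq]
        intro n
        simp only [Subgroup.mem_comap, map_mul, map_inv]
        exact Subgroup.mem_normalizer_iff.1 hu (π n)
      rw [hS _ hna, heq] at hgN
      exact hgN
    obtain ⟨R⟩ : Nonempty (Sylow p (G ⧸ M)) := inferInstance
    haveI : Nontrivial (R : Subgroup (G ⧸ M)) := by
      rw [Subgroup.nontrivial_iff_ne_bot]
      exact R.ne_bot_of_dvd_card hpQ
    haveI := R.2.center_nontrivial
    obtain ⟨⟨z₀, hz₀⟩, hz₀1⟩ := exists_ne (1 : Subgroup.center (R : Subgroup (G ⧸ M)))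
    have hzne : (z₀ : G ⧸ M) ≠ 1 := fun h => hz₀1 (Subtype.ext (Subtype.ext h))
    have hRz : ∀ s ∈ (R : Subgroup (G ⧸ M)), s ∈ Subgroup.zpowers (z₀ : G ⧸ M) := by
      intro s hs
      refine hself _ hzne s (Subgroup.mem_normalizer_iff.2 fun n => ?_)
      have hc : Commute s (z₀ : G ⧸ M) :=
        congrArg Subtype.val (Subgroup.mem_center_iff.1 hz₀ ⟨s, hs⟩)
      constructor
      · intro hn
        obtain ⟨k, rfl⟩ := Subgroup.mem_zpowers_iff.1 hn
        rw [(hc.zpow_right k).eq, mul_inv_cancel_right]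
        exact zpow_mem (Subgroup.mem_zpowers _) k
      · intro hn
        obtain ⟨k, hk⟩ := Subgroup.mem_zpowers_iff.1 hn
        refine Subgroup.mem_zpowers_iff.2 ⟨k, mul_left_cancel (a := s) (mul_right_cancel (b := s⁻¹) ?_)⟩
        rw [(hc.zpow_right k).eq, mul_inv_cancel_right, hk]
    have hReq : (R : Subgroup (G ⧸ M)) = Subgroup.zpowers (z₀ : G ⧸ M) :=
      le_antisymm hRz (Subgroup.zpowers_le.2 z₀.2)
    refine hburn p R (fun y hy => ?_) hpQ
    rw [hReq] at hy ⊢
    obtain ⟨k, rfl⟩ := Subgroup.mem_zpowers_iff.1 (hself _ hzne y hy)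
    rw [Subgroup.mem_centralizer_iff]
    intro s hs
    obtain ⟨j, rfl⟩ := Subgroup.mem_zpowers_iff.1 hs
    exact ((Commute.refl _).zpow_zpow j k).eq

end Cfsg.Agent.S4072
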