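import Cfsg.Statements.S4074

set_option autoImplicit false
open Cfsg

namespace Cfsg.Agent.S4074

/-- For n > 2, every non-abelian subgroup of the dihedral group of order 2n is self-normalizing if and only if n = 4 or n is odd. -/
theorem result (n : ℕ) (hn : 2 < n) :
    (∀ H : Subgroup (DihedralGroup n), ¬ IsMulCommutative H → Subgroup.normalizer (H : Set (DihedralGroup n)) = H) ↔
    (n = 4 ∨ Odd n) := by
  constructor
  · intro h
    by_contra hcon
    push Not at hcon
    obtain ⟨hn4, heven⟩ := hcon
    rw [Nat.not_odd_iff_even] at heven
    have h2n : (2 : ℕ) ∣ n := even_iff_two_dvd.1 heven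
    have hn6 : 4 < n := by obtain ⟨k, rfl⟩ := h2n; omega
    set f := ZMod.castHom h2n (ZMod 2) with hf
    let H : Subgroup (DihedralGroup n) :=
      { carrier := {x | match x with | .r j => f j = 0 | .sr j => f j = 0}
        one_mem' := map_zero f
        mul_mem' := by
          rintro (a | a) (b | b) (ha : f a = 0) (hb : f b = 0)
          all_goals
            simp only [DihedralGroup.r_mul_r, DihedralGroup.r_mul_sr, DihedralGroup.sr_mul_r, DihedralGroup.sr_mul_sr]
            show f _ = 0
            simp [ha, hb]
        inv_mem' := by
          rintro (a | a) (ha : f a = 0)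
          · rw [DihedralGroup.inv_r]; show f _ = 0; simp [ha]
          · rw [DihedralGroup.inv_sr]; exact ha }
    have hn0 : H.Normal := ⟨fun x hx g => by
      have h2 : ∀ j : ZMod 2, j + j = 0 := by decide
      rcases x with a | a <;> rcases g with b | b <;> change f _ = 0 at hx <;>
        simp only [DihedralGroup.inv_r, DihedralGroup.inv_sr, DihedralGroup.r_mul_r, DihedralGroup.r_mul_sr,
          DihedralGroup.sr_mul_r, DihedralGroup.sr_mul_sr] <;> show f _ = 0 <;>
        simp only [map_add, map_sub, map_neg, hx] <;> (generalize f b = j; revert j; decide)⟩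
    have hna : ¬ IsMulCommutative H := by
      intro hc
      have := congrArg Subtype.val (hc.is_comm.comm
        (⟨.r 2, by show f 2 = 0; rw [map_ofNat]; rfl⟩ : H) ⟨.sr 0, map_zero f⟩)
      simp only [Subgroup.coe_mul, DihedralGroup.r_mul_sr, DihedralGroup.sr_mul_r, DihedralGroup.sr.injEq] at this
      have h4 : ((4 : ℕ) : ZMod n) = 0 := by push_cast; linear_combination -this
      rw [ZMod.natCast_eq_zero_iff] at h4
      exact absurd (Nat.le_of_dvd (by norm_num) h4) (by omega)
    have := h H hna
    rw [Subgroup.normalizer_eq_top_iff.2 hn0] at this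
    have h1 : DihedralGroup.r 1 ∈ H := this ▸ Subgroup.mem_top _
    change f 1 = 0 at h1
    rw [map_one] at h1
    exact one_ne_zero h1
  · intro h H hna
    -- a nonabelian subgroup has a reflection and a rotation which is not an involution
    obtain ⟨i, hi⟩ : ∃ i, DihedralGroup.sr i ∈ H := by
      by_contra hno
      push Not at hno
      refine hna ⟨⟨?_⟩⟩
      rintro ⟨a | a, ha⟩ ⟨b | b, hb⟩
      · exact Subtype.ext (by simp [add_comm])
      all_goals first | exact absurd ha (hno _) | exact absurd hb (hno _)
    obtain ⟨j, hj, hj2⟩ : ∃ j, DihedralGroup.r j ∈ H ∧ j + j ≠ 0 := by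
      by_contra hno
      push Not at hno
      refine hna ⟨⟨?_⟩⟩
      rintro ⟨a | a, ha⟩ ⟨b | b, hb⟩ <;> apply Subtype.ext <;>
        simp only [Subgroup.coe_mul, DihedralGroup.r_mul_r, DihedralGroup.r_mul_sr, DihedralGroup.sr_mul_r,
          DihedralGroup.sr_mul_sr, DihedralGroup.sr.injEq, DihedralGroup.r.injEq]
      · ring
      · linear_combination -(hno a ha)
      · linear_combination hno b hb
      · have := hno (b - a) (by simpa using H.mul_mem ha hb)
        linear_combination this
    refine le_antisymm (fun g hg => ?_) Subgroup.le_normalizer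
    rcases h with rfl | hodd
    · have htop : ∀ x : DihedralGroup 4, x ∈ H := by
        have h1 : DihedralGroup.r (1 : ZMod 4) ∈ H := by
          have key : ∀ t : ZMod 4, t + t ≠ 0 → t = 1 ∨ t = -1 := by decide
          have : j = 1 ∨ j = -1 := key j hj2
          rcases this with rfl | rfl
          · exact hj
          · simpa using H.inv_mem hj
        have hr : ∀ k : ℕ, DihedralGroup.r (k : ZMod 4) ∈ H := fun k => by
          rw [← DihedralGroup.r_one_pow]; exact H.pow_mem h1 k
        rintro (a | a)
        · rw [← ZMod.natCast_zmod_val a]; exact hr _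
        · have := H.mul_mem hi (hr (a - i).val)
          rw [ZMod.natCast_zmod_val, DihedralGroup.sr_mul_r] at this
          simpa using this
      exact htop g
    · -- rotations normalizing `H` lie in `H`
      haveI : NeZero n := ⟨by omega⟩
      have hrot : ∀ k, DihedralGroup.r k ∈ Subgroup.normalizer (H : Set (DihedralGroup n)) →
          DihedralGroup.r k ∈ H := by
        intro k hk
        have h1 := H.mul_mem ((Subgroup.mem_normalizer_iff.1 hk _).1 hi) hi
        simp only [DihedralGroup.inv_r, DihedralGroup.r_mul_sr, DihedralGroup.sr_mul_r,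
          DihedralGroup.sr_mul_sr] at h1
        obtain ⟨m, hm⟩ := hodd
        have h2 := H.pow_mem h1 (m + 1)
        rw [DihedralGroup.r_pow] at h2
        convert h2 using 2
        have h0 : ((2 * m + 1 : ℕ) : ZMod n) = 0 := by rw [← hm]; exact ZMod.natCast_self n
        push_cast at h0 ⊢
        linear_combination (-k) * h0
      rcases g with k | k
      · exact hrot k hg
      · have h1 := hrot _ (by
          simpa using (Subgroup.normalizer (H : Set (DihedralGroup n))).mul_mem hg (Subgroup.le_normalizer hi))
        have h2 := H.mul_mem hi (H.inv_mem h1)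
        simpa using h2

end Cfsg.Agent.S4074
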