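import Cfsg.Statements.S4075

set_option autoImplicit false
open Cfsg

namespace Cfsg.Agent.S4075

/-- Let G be a finite nilpotent group. Every non-abelian subgroup of G is self-normalizing if and only if G is abelian or G is a minimal non-abelian p-group for some prime p (non-abelian of prime-power order with every proper subgroup abelian). -/
theorem result {G : Type*} [Group G] [Finite G]
    [Group.IsNilpotent G] :
    (∀ H : Subgroup G, ¬ IsMulCommutative H → Subgroup.normalizer (H : Set G) = H) ↔
    (IsMulCommutative G ∨ (IsPrimePow (Nat.card G) ∧ ¬ IsMulCommutative G ∧ ∀ H : Subgroup G, H ≠ ⊤ → IsMulCommutative H)) := by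
  classical
  constructor
  · intro h
    by_cases hab : IsMulCommutative G
    · exact Or.inl hab
    right
    have hmin : ∀ H : Subgroup G, H ≠ ⊤ → IsMulCommutative H := fun H hH => by
      by_contra hna
      have := Group.normalizerCondition_of_isNilpotent (G := G) H (lt_top_iff_ne_top.2 hH)
      exact (ne_of_gt this) (h H hna)
    refine ⟨?_, hab, hmin⟩
    obtain ⟨p, hp, P, hP⟩ : ∃ p : ℕ, p.Prime ∧ ∃ P : Sylow p G, (P : Subgroup G) = ⊤ := by
      by_contra hno
      push Not at hno
      apply hab
      obtain ⟨e⟩ := ((Group.isNilpotent_of_finite_tfae (G := G)).out 0 4).1 (show Group.IsNilpotent G from ‹_›)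
      refine ⟨⟨fun a b => ?_⟩⟩
      obtain ⟨a, rfl⟩ := e.surjective a
      obtain ⟨b, rfl⟩ := e.surjective b
      rw [← map_mul, ← map_mul]
      congr 1
      funext q P
      have := hmin (P : Subgroup G) (hno q (Nat.prime_of_mem_primeFactors q.2) P)
      exact mul_comm' (a q P) (b q P)
    haveI : Fact p.Prime := ⟨hp⟩
    have hG : IsPGroup p G := (P.2).of_equiv ((MulEquiv.subgroupCongr hP).trans Subgroup.topEquiv)
    obtain ⟨k, hk⟩ := IsPGroup.iff_card.1 hG
    refine ⟨p, k, hp.prime, Nat.pos_of_ne_zero fun hk0 => hab ?_, hk.symm⟩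
    have : Subsingleton G := (Nat.card_eq_one_iff_unique.1 (by rw [hk, hk0, pow_zero])).1
    exact ⟨⟨fun a b => Subsingleton.elim _ _⟩⟩
  · rintro (hab | ⟨-, -, hmin⟩) H hH
    · exact absurd ⟨⟨fun a b => Subtype.ext (mul_comm' (a : G) b)⟩⟩ hH
    · have hT : H = ⊤ := by by_contra h; exact hH (hmin H h)
      rw [hT, eq_top_iff]
      exact Subgroup.le_normalizer

end Cfsg.Agent.S4075
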