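import Cfsg.Statements.S4079
import Cfsg.Agent.FGS.MetacyclicOmega
import Cfsg.Agent.OddOrder.BG4.MetacyclicAction
import Cfsg.Agent.PMaxClass.Basic
import Cfsg.Agent.S0112
-- import your own Cfsg.Agent.* helpers here

set_option autoImplicit false
set_option linter.style.haveILetI false
open Cfsg

namespace Cfsg.Agent.S4079

open scoped commutatorElement

section
variable {L : Type*} [Group L]

theorem fix_zpowers {a : MulAut L} {v : L} (h : a v = v) (b : Subgroup.zpowers a) :
    (b : MulAut L) v = v :=
  (Subgroup.zpowers_le.2 (show a ∈ MulAction.stabilizer (MulAut L) v from h)) b.2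

theorem conj_inl (a : MulAut L) (g : SemidirectProduct L (Subgroup.zpowers a) (Subgroup.zpowers a).subtype)
    (u : L) : g * SemidirectProduct.inl u * g⁻¹ =
      SemidirectProduct.inl (g.left * (g.right : MulAut L) u * g.left⁻¹) := by
  conv_lhs => rw [← SemidirectProduct.inl_left_mul_inr_right g]
  rw [map_mul, map_mul, map_inv]
  have h := SemidirectProduct.inl_aut (φ := (Subgroup.zpowers a).subtype) g.right u
  rw [Subgroup.coe_subtype] at h
  rw [h, map_inv]
  group

/-- An invariant subgroup of `L` is normal in the semidirect product. -/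
theorem normal_map_inl (a : MulAut L) (K : Subgroup L) (hK : ∀ θ : MulAut L, ∀ u ∈ K, θ u ∈ K) :
    (K.map (SemidirectProduct.inl :
      L →* SemidirectProduct L (Subgroup.zpowers a) (Subgroup.zpowers a).subtype)).Normal := by
  refine ⟨?_⟩
  rintro _ ⟨u, hu, rfl⟩ g
  rw [conj_inl]
  exact ⟨_, hK (MulAut.conj g.left * g.right) u hu, rfl⟩

end

/-- Let p be an odd prime and L a finite metacyclic p-group with no cyclic subgroup of index p, and let a be an automorphism of L of order p. Then a moves some element of order p of L if and only if p = 3 and the semidirect product L ⋊ ⟨a⟩ (of order 3·#L) has maximal class, i.e. nilpotency class m where #L = 3^m. -/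
theorem result {L : Type*} [Group L] [Finite L] {p : ℕ} [Fact p.Prime]
    (hp : p ≠ 2) (hL : IsPGroup p L) (hmc : Cfsg.IsMetacyclic L) (hnc : ∀ C : Subgroup L, IsCyclic C → C.index ≠ p)
    (a : MulAut L) (ha : orderOf a = p) (m : ℕ) (hm : Nat.card L = p ^ m) :
    (∃ x : L, orderOf x = p ∧ a x ≠ x) ↔
    (p = 3 ∧ Group.nilpotencyClass (SemidirectProduct L ↥(Subgroup.zpowers a) (Subgroup.zpowers a).subtype) = m) := by
  classical
  have hpp := (Fact.out : p.Prime)
  haveI : Nontrivial L := by
    by_contra h
    haveI := not_nontrivial_iff_subsingleton.1 h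
    have h1 : a = 1 := MulEquiv.ext fun x => Subsingleton.elim _ _
    rw [h1, orderOf_one] at ha
    exact hpp.ne_one ha.symm
  obtain ⟨V, W, hV, hVc, hW, hWc, hWhom, hroot⟩ := CfsgLib.FGS.exists_omega hp hL hmc hnc
  have hm4 : 4 ≤ m := (Nat.pow_dvd_pow_iff_le_right hpp.one_lt).1
    (hWc ▸ hm ▸ W.card_subgroup_dvd_card)
  let M := SemidirectProduct L (Subgroup.zpowers a) (Subgroup.zpowers a).subtype
  haveI : Finite M := Finite.of_equiv _ (SemidirectProduct.equivProd).symm
  have hMc : Nat.card M = p ^ (m + 1) := by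
    rw [Nat.card_congr SemidirectProduct.equivProd, Nat.card_prod, hm, Nat.card_zpowers, ha, pow_succ]
  have hMp : IsPGroup p M := IsPGroup.of_card hMc
  let ι : L →* M := SemidirectProduct.inl
  let α : M := SemidirectProduct.inr ⟨a, Subgroup.mem_zpowers a⟩
  have hι : Function.Injective ι := SemidirectProduct.inl_injective
  have hVaut : ∀ θ : MulAut L, ∀ u ∈ V, θ u ∈ V := fun θ u hu => by
    rw [hV] at hu ⊢; rw [← map_pow, hu, map_one]
  have hWaut : ∀ θ : MulAut L, ∀ u ∈ W, θ u ∈ W := fun θ u hu => by
    rw [hW] at hu ⊢; rw [← map_pow]; exact hVaut θ _ hu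
  haveI hVMn : (V.map ι).Normal := normal_map_inl a V hVaut
  have hVMc : Nat.card (V.map ι) = p ^ 2 := by rw [Subgroup.card_map_of_injective hι, hVc]
  constructor
  · rintro ⟨x₀, hx₀, hmove⟩
    have hx₀V : x₀ ∈ V := (hV _).2 (by rw [← hx₀, pow_orderOf_eq_one])
    have hVW : V ≤ W := fun v hv => (hW v).2 ((hV v).1 hv ▸ V.one_mem)
    have hcen : ∀ v ∈ V, ∀ u ∈ W, Commute v u := by
      intro v hv u hu
      obtain ⟨y, hy, rfl⟩ := hroot v hv
      exact (hWhom u hu y hy).2
    -- `[V, a]` is fixed
    have hD : ∀ v ∈ V, a (a v * v⁻¹) = a v * v⁻¹ := by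
      intro v hv
      have h1 : ⁅α, ι v⁆ ∈ Subgroup.center M :=
        CfsgLib.FGS.commutator_mem_center hMp hVMc ⟨v, hv, rfl⟩
      have h2 : ⁅α, ι v⁆ = ι (a v * v⁻¹) := by
        rw [commutatorElement_def, map_mul, map_inv]
        congr 1
        have h := SemidirectProduct.inl_aut (φ := (Subgroup.zpowers a).subtype)
          ⟨a, Subgroup.mem_zpowers a⟩ v
        rw [map_inv] at h
        exact h.symm
      rw [h2] at h1
      have h3 : (α * ι (a v * v⁻¹)).left = (ι (a v * v⁻¹) * α).left :=
        congrArg SemidirectProduct.left (Subgroup.mem_center_iff.1 h1 α)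
      simpa [α, ι, M] using h3
    obtain ⟨y, hy, hy0⟩ := hroot x₀ hx₀V
    set x := y⁻¹ * a y with hxdef
    have hay : a y = y * x := by rw [hxdef, mul_inv_cancel_left]
    have hxW : x ∈ W := W.mul_mem (W.inv_mem hy) (hWaut a y hy)
    set X := x ^ p with hXdef
    have hXV : X ∈ V := (hW x).1 hxW
    have haY : a x₀ = x₀ * X := by rw [← hy0, map_pow, hay, (hWhom y hy x hxW).1]
    have hXne : X ≠ 1 := fun h => hmove (by rw [haY, h, mul_one])
    have hXfix : a X = X := by
      have h := hD x₀ hx₀V
      have h2 : a x₀ * x₀⁻¹ = X := by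
        rw [haY, ← (hcen X hXV x₀ (hVW hx₀V)).eq, mul_inv_cancel_right]
      rwa [h2] at h
    set w := x⁻¹ * a x with hwdef
    have hax : a x = x * w := by rw [hwdef, mul_inv_cancel_left]
    have hwV : w ∈ V := by
      rw [hV, hwdef, (hWhom _ (W.inv_mem hxW) _ (hWaut a x hxW)).1, ← map_pow, inv_pow, ← hXdef,
        hXfix, inv_mul_cancel]
    set δ := w⁻¹ * a w with hδdef
    have haw : a w = w * δ := by rw [hδdef, mul_inv_cancel_left]
    have hδV : δ ∈ V := V.mul_mem (V.inv_mem hwV) (hVaut a w hwV)
    have hδfix : a δ = δ := by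
      have h := hD w hwV
      have h2 : a w * w⁻¹ = δ := by
        rw [hδdef]; exact ((hcen w hwV (a w) (hWaut a w (hVW hwV))).inv_left.eq).symm
      rwa [h2] at h
    have hiter : ∀ k : ℕ, (a ^ k) y = y * x ^ k * w ^ k.choose 2 * δ ^ k.choose 3 := by
      intro k
      induction k with
      | zero => simp
      | succ k ih =>
        rw [pow_succ', MulAut.mul_apply, ih, map_mul, map_mul, map_mul, map_pow, map_pow, map_pow,
          hay, hax, haw, hδfix, (hcen w hwV x hxW).symm.mul_pow, (hcen w hwV δ (hVW hδV)).mul_pow,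
          Nat.choose_succ_succ' k 1, Nat.choose_one_right, Nat.choose_succ_succ' k 2,
          pow_add w, pow_add δ, pow_succ' x]
        simp only [mul_assoc]
    have hkey : X * w ^ p.choose 2 * δ ^ p.choose 3 = 1 := by
      have h := hiter p
      rw [← ha, pow_orderOf_eq_one, ha, MulAut.one_apply, mul_assoc y, mul_assoc y] at h
      exact mul_eq_left.1 h.symm
    have hw0 : w ^ p.choose 2 = 1 := by
      obtain ⟨t, ht⟩ := hpp.dvd_choose_self (k := 2) (by omega)
        (lt_of_le_of_ne hpp.two_le (Ne.symm hp))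
      rw [ht, pow_mul, (hV w).1 hwV, one_pow]
    rw [hw0, mul_one] at hkey
    have hp3 : p = 3 := by
      by_contra h3
      have h5 : 3 < p := by have := hpp.two_le; omega
      obtain ⟨t, ht⟩ := hpp.dvd_choose_self (k := 3) (by omega) h5
      rw [ht, pow_mul, (hV δ).1 hδV, one_pow, mul_one] at hkey
      exact hXne hkey
    refine ⟨hp3, ?_⟩
    have hδne : δ ≠ 1 := fun h => hXne (by rw [h, one_pow, mul_one] at hkey; exact hkey)
    have hwnf : a w ≠ w := fun h => hδne (by rw [hδdef, h, inv_mul_cancel])
    -- the fixed subgroup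
    let Fx : Subgroup L :=
      { carrier := {v | a v = v}
        one_mem' := map_one _
        mul_mem' := fun {u v} (hu : a u = u) (hv : a v = v) => show a (u * v) = u * v by
          rw [map_mul, hu, hv]
        inv_mem' := fun {u} (hu : a u = u) => show a u⁻¹ = u⁻¹ by rw [map_inv, hu] }
    have hFV : V ⊓ Fx = Subgroup.zpowers X := by
      refine (Subgroup.eq_of_le_of_card_ge (Subgroup.zpowers_le.2 (Subgroup.mem_inf.2 ⟨hXV, hXfix⟩)) ?_).symm
      rw [Nat.card_zpowers, orderOf_eq_prime ((hV X).1 hXV) hXne]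
      obtain ⟨i, hi, hj⟩ := (Nat.dvd_prime_pow hpp).1
        (hVc ▸ Subgroup.card_dvd_of_le (inf_le_left : V ⊓ Fx ≤ V))
      rcases Nat.lt_or_ge i 2 with h | h
      · rw [hj]
        calc p ^ i ≤ p ^ 1 := Nat.pow_le_pow_right hpp.pos (by omega)
          _ = p := pow_one p
      · exfalso
        have := Subgroup.eq_of_le_of_card_ge (inf_le_left : V ⊓ Fx ≤ V)
          (by rw [hj, hVc, le_antisymm hi h])
        exact hmove (this.ge hx₀V).2
    have hFx : Fx = Subgroup.zpowers X := by
      refine le_antisymm (fun c hc => ?_) (Subgroup.zpowers_le.2 hXfix)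
      rw [← hFV]
      refine ⟨?_, hc⟩
      by_contra hcV
      obtain ⟨k, hk⟩ := hL c
      obtain ⟨j, -, hj⟩ := (Nat.dvd_prime_pow hpp).1 (orderOf_dvd_of_pow_eq_one hk)
      obtain ⟨j, rfl⟩ : ∃ j', j = j' + 2 := by
        refine ⟨j - 2, ?_⟩
        rcases Nat.lt_or_ge j 2 with h | h
        · refine absurd ((hV c).2 (orderOf_dvd_iff_pow_eq_one.1 ?_)) hcV
          rw [hj]
          exact (pow_dvd_pow p (show j ≤ 1 by omega)).trans (pow_one p).dvd
        · omega
      set c' := c ^ p ^ j with hc'
      have hc'o : orderOf c' = p ^ 2 := by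
        rw [hc', orderOf_pow, hj, Nat.gcd_eq_right (pow_dvd_pow p (by omega : j ≤ j + 2)),
          Nat.pow_div (by omega) hpp.pos]
        congr 1; omega
      have hc'F : a c' = c' := Fx.pow_mem hc _
      have hc'p : c' ^ p ∈ V := (hV _).2 (by rw [← pow_mul, ← sq, ← hc'o, pow_orderOf_eq_one])
      have hc'W : c' ∈ W := (hW _).2 hc'p
      have hc'pne : c' ^ p ≠ 1 := fun h => by
        have h1 := Nat.le_of_dvd hpp.pos (orderOf_dvd_of_pow_eq_one h)
        rw [hc'o, sq] at h1
        nlinarith [hpp.two_le]
      obtain ⟨i, hi⟩ := Subgroup.mem_zpowers_iff.1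
        (hFV.le ⟨hc'p, Fx.pow_mem hc'F p⟩ : c' ^ p ∈ Subgroup.zpowers X)
      set v := x ^ (-i) * c' with hv
      have hvV : v ∈ V := by
        rw [hV, hv, (hWhom _ (W.zpow_mem hxW _) _ hc'W).1, ← zpow_natCast (x ^ (-i)), ← zpow_mul,
          mul_comm (-i), zpow_mul, zpow_natCast, ← hXdef, ← hi, zpow_neg, inv_mul_cancel]
      have h1 : a v = w ^ (-i) * v := by
        rw [hv, map_mul, map_zpow, hax, hc'F, (hcen w hwV x hxW).symm.mul_zpow,
          ((hcen w hwV x hxW).zpow_zpow (-i) (-i)).symm.eq, mul_assoc]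
      have h2 := hD v hvV
      rw [h1, mul_inv_cancel_right, map_zpow, haw,
        (hcen w hwV δ (hVW hδV)).mul_zpow, mul_eq_left] at h2
      have h3 : (orderOf δ : ℤ) ∣ -i := orderOf_dvd_iff_zpow_eq_one.2 h2
      rw [orderOf_eq_prime ((hV δ).1 hδV) hδne, dvd_neg] at h3
      obtain ⟨t, rfl⟩ := h3
      exact hc'pne (by rw [← hi, zpow_mul, zpow_natCast, (hV X).1 hXV, one_zpow])
    set A : Subgroup M := Subgroup.centralizer {α} with hA
    have hAmem : ∀ g : M, g ∈ A ↔ g.left ∈ Fx := by
      intro g
      rw [hA, Subgroup.mem_centralizer_singleton_iff]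
      constructor
      · intro h
        have h1 : (g * α).left = (α * g).left := congrArg SemidirectProduct.left h
        show a g.left = g.left
        simpa [α, M] using h1.symm
      · intro (h : a g.left = g.left)
        have hr : g.right * (⟨a, Subgroup.mem_zpowers a⟩ : Subgroup.zpowers a) =
            ⟨a, Subgroup.mem_zpowers a⟩ * g.right := (inferInstance :
          IsMulCommutative (Subgroup.zpowers a)).is_comm.comm _ _
        refine SemidirectProduct.ext ?_ ?_
        · simp [α, M, h]
        · simpa [α, M] using hr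
    have hAc : Nat.card A = p ^ 2 := by
      let eA : A ≃ Fx × Subgroup.zpowers a :=
        { toFun := fun g => (⟨(g : M).left, (hAmem g).1 g.2⟩, (g : M).right)
          invFun := fun u => ⟨⟨u.1.1, u.2⟩, (hAmem _).2 u.1.2⟩
          left_inv := fun g => rfl
          right_inv := fun u => rfl }
      rw [Nat.card_congr eA, Nat.card_prod, hFx, Nat.card_zpowers, Nat.card_zpowers, ha,
        orderOf_eq_prime ((hV X).1 hXV) hXne, sq]
    have hAA : Subgroup.centralizer (A : Set M) = A := by
      refine le_antisymm (fun g hg => ?_) (fun g hg => Subgroup.mem_centralizer_iff.2 fun h hh => ?_)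
      · exact Subgroup.mem_centralizer_singleton_iff.2 (Subgroup.mem_centralizer_iff.1 hg α
          ((hAmem α).2 (show a (α.left) = α.left by simp [α]))).symm
      · have hgf : a g.left = g.left := (hAmem g).1 hg
        have hhf : a h.left = h.left := (hAmem h).1 hh
        refine SemidirectProduct.ext ?_ ?_
        · rw [SemidirectProduct.mul_left, SemidirectProduct.mul_left, Subgroup.coe_subtype,
            fix_zpowers hgf, fix_zpowers hhf]
          have h4 : IsMulCommutative Fx := by rw [hFx]; infer_instance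
          exact congrArg Subtype.val (h4.is_comm.comm ⟨_, hhf⟩ ⟨_, hgf⟩)
        · rw [SemidirectProduct.mul_right, SemidirectProduct.mul_right]
          exact (inferInstance : IsMulCommutative (Subgroup.zpowers a)).is_comm.comm _ _
    have hclass := Cfsg.Agent.S0112.result (m + 1) hMc A hAc hAA
    simpa using hclass
  · rintro ⟨-, hclass⟩
    by_contra hcon
    have hfix : ∀ v ∈ V, a v = v := by
      intro v hv
      rcases eq_or_ne v 1 with rfl | hv1
      · exact map_one a
      · by_contra h
        exact hcon ⟨v, orderOf_eq_prime ((hV v).1 hv) hv1, h⟩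
    haveI := hMp.isNilpotent
    have hMC : CfsgLib.PMaxClass.MaxClass M p (m + 1) := ⟨hpp, hMc, fun h => by
      have h1 := Subgroup.upperCentralSeries_eq_top_iff_nilpotencyClass_le.1 h
      have h2 : Group.nilpotencyClass M = m := hclass
      omega⟩
    have hcommAut : ∀ θ : MulAut L, ∀ u ∈ commutator L, θ u ∈ commutator L := fun θ u hu => by
      have h := Subgroup.mem_map_of_mem θ.toMonoidHom hu
      rwa [Subgroup.characteristic_iff_map_eq.1 inferInstance θ] at h
    haveI := CfsgLib.FGS.isCyclic_commutator_of_isMetacyclic hmc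
    have hL' : Nat.card (commutator L) ≤ p := by
      by_contra hlt
      obtain ⟨c, hc⟩ := IsCyclic.exists_ofOrder_eq_natCard (α := commutator L)
      obtain ⟨j, hj⟩ := IsPGroup.iff_card.1 (hL.to_subgroup (commutator L))
      obtain ⟨j, rfl⟩ : ∃ j', j = j' + 2 := ⟨j - 2, by
        rcases Nat.lt_or_ge j 2 with h | h
        · refine absurd ?_ hlt
          rw [hj]
          calc p ^ j ≤ p ^ 1 := Nat.pow_le_pow_right hpp.pos (by omega)
            _ = p := pow_one p
        · omega⟩
      set C := commutator L ⊓ W with hC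
      haveI : IsCyclic C := isCyclic_of_injective (Subgroup.inclusion (inf_le_left : C ≤ commutator L))
        (Subgroup.inclusion_injective _)
      have hc2 : orderOf ((c : L) ^ p ^ j) = p ^ 2 := by
        rw [orderOf_pow, Subgroup.orderOf_coe, hc, hj,
          Nat.gcd_eq_right (pow_dvd_pow p (by omega : j ≤ j + 2)), Nat.pow_div (by omega) hpp.pos]
        congr 1; omega
      have hCc : Nat.card C = p ^ 2 := by
        refine Nat.dvd_antisymm ?_ ?_
        · obtain ⟨d, hd⟩ := IsCyclic.exists_ofOrder_eq_natCard (α := C)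
          rw [← hd]
          refine orderOf_dvd_of_pow_eq_one (Subtype.ext ?_)
          show (d : L) ^ p ^ 2 = 1
          rw [sq, pow_mul]
          exact (hV _).1 ((hW _).1 d.2.2)
        · rw [← hc2]
          exact C.orderOf_dvd_natCard ⟨(commutator L).pow_mem c.2 _,
            (hW _).2 ((hV _).2 (by rw [← pow_mul _ p p, ← sq, ← hc2, pow_orderOf_eq_one]))⟩
      haveI hCn : (C.map ι).Normal :=
        normal_map_inl a C fun θ u hu => ⟨hcommAut θ u hu.1, hWaut θ u hu.2⟩
      have h1 := hMC.normal_eq_upper (i := 2) (by omega) (N := C.map ι)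
        (by rw [Subgroup.card_map_of_injective hι, hCc])
      have h2 := hMC.normal_eq_upper (i := 2) (by omega) (N := V.map ι) hVMc
      have h3 : C = V := Subgroup.map_injective hι (h1.trans h2.symm)
      obtain ⟨d, hd⟩ := IsCyclic.exists_ofOrder_eq_natCard (α := C)
      have h4 : orderOf d ≤ p :=
        orderOf_le_of_pow_eq_one hpp.pos (Subtype.ext ((hV _).1 (h3.le d.2)))
      rw [hd, hCc, sq] at h4
      nlinarith [hpp.two_le]
    have hLcen : commutator L ≤ Subgroup.center L := CfsgLib.FGS.le_center_of_card_le hL hL'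
    have hL'p : ∀ e ∈ commutator L, e ^ p = 1 := by
      intro e he
      obtain ⟨j, hj⟩ := IsPGroup.iff_card.1 (hL.to_subgroup (commutator L))
      have h1 : j ≤ 1 := by
        by_contra h
        have h2 : p ^ 1 < p ^ j := Nat.pow_lt_pow_right hpp.one_lt (by omega)
        rw [pow_one, ← hj] at h2
        omega
      refine orderOf_dvd_iff_pow_eq_one.1 (((commutator L).orderOf_dvd_natCard he).trans ?_)
      rw [hj]
      exact (pow_dvd_pow p h1).trans (pow_one p).dvd
    have hcm : ∀ u v : L, ⁅u, v⁆ ∈ commutator L := fun u v =>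
      Subgroup.commutator_mem_commutator (Subgroup.mem_top u) (Subgroup.mem_top v)
    have hpow : ∀ u v : L, (u * v) ^ p = u ^ p * v ^ p := fun u v =>
      CfsgLib.FGS.mul_pow_of_central hp (e := ⁅v, u⁆) (by rw [commutatorElement_def]; group)
        (Subgroup.mem_center_iff.1 (hLcen (hcm v u)) u).symm
        (Subgroup.mem_center_iff.1 (hLcen (hcm v u)) v).symm (hL'p _ (hcm v u))
    have hpcen : ∀ g : L, g ^ p ∈ Subgroup.center L := by
      intro g
      refine Subgroup.mem_center_iff.2 fun u => ?_
      have h1 : u * g ^ p * u⁻¹ = g ^ p := by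
        rw [← conj_pow, show u * g * u⁻¹ = ⁅u, g⁆ * g by rw [commutatorElement_def]; group, hpow,
          hL'p _ (hcm u g), one_mul]
      exact mul_inv_eq_iff_eq_mul.1 h1
    let f : L →* L :=
      { toFun := fun g => g ^ p
        map_one' := one_pow p
        map_mul' := hpow }
    have hker : f.ker = V := by ext g; rw [MonoidHom.mem_ker, hV]; rfl
    have hcard : Nat.card f.range * p ^ 2 = Nat.card L := by
      rw [← f.ker.card_mul_index, Subgroup.index_ker, hker, hVc, mul_comm]
    have hVcen : V ≤ Subgroup.center L := by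
      by_contra hVn
      have hIcyc : IsCyclic f.range := by
        by_contra hI
        refine hVn ?_
        obtain ⟨-, -, h2⟩ := CfsgLib.OddOrder.BG4.card_pow_eq_one_of_isMetacyclic hp
          (hL.to_subgroup f.range) (CfsgLib.OddOrder.BG4.isMetacyclic_subgroup f.range hmc)
        have h3 : Nat.card (V ⊓ f.range : Subgroup L) = p ^ 2 := by
          rw [← h2 hI]
          exact Nat.card_congr
            { toFun := fun u => ⟨⟨u, u.2.2⟩, Subtype.ext ((hV _).1 u.2.1)⟩
              invFun := fun u => ⟨u.1, (hV _).2 (congrArg Subtype.val u.2), u.1.2⟩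
              left_inv := fun u => rfl
              right_inv := fun u => rfl }
        have h4 := Subgroup.eq_of_le_of_card_ge (inf_le_left : V ⊓ f.range ≤ V) (by rw [h3, hVc])
        intro v hv
        obtain ⟨-, g, rfl⟩ := h4.ge hv
        exact hpcen g
      obtain ⟨⟨_, g, rfl⟩, hg⟩ := IsCyclic.exists_ofOrder_eq_natCard (α := f.range)
      replace hg : orderOf (f g) = Nat.card f.range := (Subgroup.orderOf_coe _).trans hg
      have hd : p ∣ orderOf g := by
        obtain ⟨k, hk⟩ := hL g
        obtain ⟨j, -, hj⟩ := (Nat.dvd_prime_pow hpp).1 (orderOf_dvd_of_pow_eq_one hk)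
        rcases j with _ | j
        · exfalso
          rw [pow_zero, orderOf_eq_one_iff] at hj
          rw [hj, map_one, orderOf_one] at hg
          rw [← hg, one_mul, hm] at hcard
          have := Nat.pow_right_injective hpp.two_le hcard
          omega
        · rw [hj]; exact dvd_pow_self p (Nat.succ_ne_zero j)
      refine hnc (Subgroup.zpowers g) inferInstance (Nat.eq_of_mul_eq_mul_left
        (Nat.card_pos (α := Subgroup.zpowers g)) ?_)
      rw [Subgroup.card_mul_index, Nat.card_zpowers, ← hcard, ← hg,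
        show orderOf (f g) = orderOf (g ^ p) from rfl, orderOf_pow, Nat.gcd_eq_right hd]
      conv_rhs => rw [← Nat.div_mul_cancel hd]
      ring
    have h5 : V.map ι ≤ Subgroup.center M := by
      rintro _ ⟨v, hv, rfl⟩
      refine Subgroup.mem_center_iff.2 fun g => ?_
      have h6 := conj_inl a g v
      rw [fix_zpowers (hfix v hv) g.right, ← Subgroup.mem_center_iff.1 (hVcen hv) g.left |>.symm,
        mul_inv_cancel_right] at h6
      exact mul_inv_eq_iff_eq_mul.1 h6
    have h7 := Subgroup.card_le_of_le h5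
    rw [hVMc, hMC.card_center (by omega), sq] at h7
    nlinarith [hpp.two_le]

end Cfsg.Agent.S4079
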