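import Cfsg.Statements.S4080
-- import your own Cfsg.Agent.* helpers here

set_option autoImplicit false
open Cfsg

namespace Cfsg.Agent.S4080

variable {p : ℕ}

/-- the `p`-torsion of `(ZMod p²)²` consists of multiples of `p` -/
theorem torsion_eq [Fact p.Prime] (y : ZMod (p ^ 2) × ZMod (p ^ 2)) (hy : p • y = 0) :
    ∃ z : ZMod (p ^ 2) × ZMod (p ^ 2), y = p • z := by
  have hpp := (Fact.out : p.Prime)
  haveI : NeZero (p ^ 2) := ⟨pow_ne_zero _ hpp.ne_zero⟩
  have h1 : ∀ u : ZMod (p ^ 2), p • u = 0 → ∃ z : ZMod (p ^ 2), u = p • z := by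
    intro u hu
    have h2 : ((p * u.val : ℕ) : ZMod (p ^ 2)) = 0 := by
      rw [Nat.cast_mul, ZMod.natCast_val, ZMod.cast_id, ← nsmul_eq_mul]; exact hu
    rw [ZMod.natCast_eq_zero_iff] at h2
    obtain ⟨k, hk⟩ := (Nat.mul_dvd_mul_iff_left hpp.pos).1 ((dvd_of_eq (pow_two p).symm).trans h2)
    refine ⟨(k : ZMod (p ^ 2)), ?_⟩
    calc u = ((u.val : ℕ) : ZMod (p ^ 2)) := by rw [ZMod.natCast_val, ZMod.cast_id]
      _ = _ := by rw [hk, Nat.cast_mul, nsmul_eq_mul]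
  obtain ⟨z₁, hz₁⟩ := h1 y.1 (by simpa using congrArg Prod.fst hy)
  obtain ⟨z₂, hz₂⟩ := h1 y.2 (by simpa using congrArg Prod.snd hy)
  exact ⟨(z₁, z₂), Prod.ext (by simp [hz₁]) (by simp [hz₂])⟩

/-- a nilpotent endomorphism of a group of order `p²` squares to zero -/
theorem sq_eq_zero_of_nilpotent [Fact p.Prime] {V : Type*} [AddCommGroup V] [Finite V]
    (hV : Nat.card V ∣ p ^ 2) (D : AddMonoid.End V) (n : ℕ) (hD : D ^ n = 0) (v : V) :
    D (D v) = 0 := by
  have hpp := (Fact.out : p.Prime)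
  let K₁ : AddSubgroup V := AddMonoidHom.ker (D : V →+ V)
  let K₂ : AddSubgroup V := AddMonoidHom.ker ((D ^ 2 : AddMonoid.End V) : V →+ V)
  have hm1 : ∀ w, w ∈ K₁ ↔ D w = 0 := fun w => Iff.rfl
  have hm2 : ∀ w, w ∈ K₂ ↔ D (D w) = 0 := fun w => Iff.rfl
  by_contra hv
  have hK2 : K₂ ≠ ⊤ := fun h => hv ((hm2 v).1 (h ▸ AddSubgroup.mem_top v))
  -- some nonzero element is killed
  have hstep : ∀ m : ℕ, ∀ w : V, (D ^ m) w = 0 → w = 0 ∨ ∃ u, u ≠ 0 ∧ D u = 0 := by
    intro m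
    induction m with
    | zero => intro w hw; exact Or.inl hw
    | succ m ih =>
      intro w hw
      rw [pow_succ] at hw
      rcases ih (D w) hw with h | h
      · rcases eq_or_ne w 0 with h0 | h0
        · exact Or.inl h0
        · exact Or.inr ⟨w, h0, h⟩
      · exact Or.inr h
  have hle : K₁ ≤ K₂ := fun w hw => (hm2 w).2 (by rw [(hm1 w).1 hw]; exact map_zero D)
  have hne : K₁ ≠ K₂ := by
    intro heq
    have h2 : ∀ w, D (D w) = 0 → D w = 0 := fun w hw => (hm1 w).1 (heq ▸ (hm2 w).2 hw)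
    have h3 : ∀ m : ℕ, ∀ w : V, (D ^ m) w = 0 → D w = 0 := by
      intro m
      induction m with
      | zero => intro w hw; rw [show w = 0 from hw]; exact map_zero D
      | succ m ih =>
        intro w hw
        rw [pow_succ] at hw
        exact h2 w (ih (D w) hw)
    exact hv (by rw [h3 n v (by rw [hD]; rfl)]; exact map_zero D)
  have hbot : K₁ ≠ ⊥ := by
    intro hb
    rcases hstep n v (by rw [hD]; rfl) with h | ⟨u, hu, hu'⟩
    · exact hv (by rw [h, map_zero, map_zero])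
    · exact hu (AddSubgroup.mem_bot.1 (hb ▸ (hm1 u).2 hu'))
  obtain ⟨i, hi, hci⟩ := (Nat.dvd_prime_pow hpp).1 hV
  obtain ⟨k₁, hk₁, hc₁⟩ := (Nat.dvd_prime_pow hpp).1 ((AddSubgroup.card_addSubgroup_dvd_card K₁).trans hV)
  obtain ⟨k₂, hk₂, hc₂⟩ := (Nat.dvd_prime_pow hpp).1 ((AddSubgroup.card_addSubgroup_dvd_card K₂).trans hV)
  have l1 : Nat.card K₁ < Nat.card K₂ := by
    rcases Nat.lt_or_ge (Nat.card K₁) (Nat.card K₂) with h | h
    · exact h
    · exact absurd (AddSubgroup.eq_of_le_of_card_ge hle h) hne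
  have l2 : Nat.card K₂ < Nat.card V :=
    lt_of_le_of_ne (AddSubgroup.card_le_card_addGroup K₂) (fun h => hK2 (K₂.eq_top_of_card_eq h))
  have l0 : 1 < Nat.card K₁ := (AddSubgroup.one_lt_card_iff_ne_bot K₁).2 hbot
  rw [hc₁, hc₂] at l1
  rw [hc₂, hci] at l2
  rw [hc₁] at l0
  have e1 : k₁ < k₂ := (Nat.pow_lt_pow_iff_right hpp.one_lt).1 l1
  have e2 : k₂ < i := (Nat.pow_lt_pow_iff_right hpp.one_lt).1 l2
  have e0 : k₁ ≠ 0 := fun h => by simp [h] at l0
  omega

theorem end_core [Fact p.Prime] (hp : 3 < p)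
    (φ : AddMonoid.End (ZMod (p ^ 2) × ZMod (p ^ 2))) (hφ : φ ^ p = 1)
    (y : ZMod (p ^ 2) × ZMod (p ^ 2)) (hy : p • y = 0) : φ y = y := by
  have hpp := (Fact.out : p.Prime)
  haveI : NeZero (p ^ 2) := ⟨pow_ne_zero _ hpp.ne_zero⟩
  obtain ⟨D, rfl⟩ : ∃ D, φ = D + 1 := ⟨φ - 1, by rw [sub_add_cancel]⟩
  have hexp := (Commute.one_right D).add_pow_prime_eq hpp
  rw [hφ, one_pow, mul_one] at hexp
  set S := ∑ k ∈ Finset.Ioo 0 p, D ^ (k - 1) * (1 : AddMonoid.End (ZMod (p ^ 2) × ZMod (p ^ 2))) ^ (p - k - 1) * ↑(p.choose k / p) with hS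
  have hzero : D ^ p + (p : AddMonoid.End (ZMod (p ^ 2) × ZMod (p ^ 2))) * D * S = 0 := by
    have h := hexp.symm
    rw [add_right_comm] at h
    exact add_eq_right.1 h
  have hST : ∃ T, S = 1 + D * T := by
    have h1 : (1 : ℕ) ∈ Finset.Ioo 0 p := by simp; omega
    refine ⟨∑ k ∈ (Finset.Ioo 0 p).erase 1, D ^ (k - 2) * ↑(p.choose k / p), ?_⟩
    rw [hS, ← Finset.add_sum_erase _ _ h1, Finset.mul_sum]
    congr 1
    · simp [Nat.choose_one_right, Nat.div_self hpp.pos]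
    · refine Finset.sum_congr rfl fun k hk => ?_
      rw [Finset.mem_erase, Finset.mem_Ioo] at hk
      rw [one_pow, mul_one, ← mul_assoc, ← pow_succ']
      congr 2
      omega
  obtain ⟨T, hT⟩ := hST
  have hchar : ∀ u : ZMod (p ^ 2), (p ^ 2) • u = 0 := fun u => by
    rw [nsmul_eq_mul, ZMod.natCast_self, zero_mul]
  -- restrict to the p-torsion
  let Ω : AddSubgroup (ZMod (p ^ 2) × ZMod (p ^ 2)) :=
    AddMonoidHom.ker ((p : AddMonoid.End (ZMod (p ^ 2) × ZMod (p ^ 2))) : _ →+ _)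
  have hΩ : ∀ v, v ∈ Ω ↔ p • v = 0 := fun v => by
    show (p : AddMonoid.End (ZMod (p ^ 2) × ZMod (p ^ 2))) v = 0 ↔ _
    rw [AddMonoid.End.natCast_apply]
  have hDΩ : ∀ v ∈ Ω, D v ∈ Ω := fun v hv => (hΩ _).2 (by rw [← map_nsmul, (hΩ v).1 hv, map_zero])
  let D₀ : AddMonoid.End Ω :=
    { toFun := fun v => ⟨D v.1, hDΩ _ v.2⟩
      map_zero' := Subtype.ext (map_zero D)
      map_add' := fun u v => Subtype.ext (map_add D u.1 v.1) }
  have hD₀pow : ∀ (m : ℕ) (v : Ω), ((D₀ ^ m) v : ZMod (p ^ 2) × ZMod (p ^ 2)) = (D ^ m) v.1 := by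
    intro m
    induction m with
    | zero => intro v; rfl
    | succ m ih => intro v; rw [pow_succ D₀ m, pow_succ D m]; exact ih (D₀ v)
  have hD₀ : D₀ ^ p = 0 := by
    ext v : 2
    rw [hD₀pow]
    have h := DFunLike.congr_fun hzero v.1
    change (D ^ p) v.1 + ((p : AddMonoid.End (ZMod (p ^ 2) × ZMod (p ^ 2))) * D * S) v.1 = 0 at h
    have h2 : ((p : AddMonoid.End (ZMod (p ^ 2) × ZMod (p ^ 2))) * D * S) v.1 = 0 := by
      rw [mul_assoc, Nat.cast_comm]
      show (D * S) ((p : AddMonoid.End (ZMod (p ^ 2) × ZMod (p ^ 2))) v.1) = 0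
      rw [AddMonoid.End.natCast_apply, (hΩ _).1 v.2, map_zero]
    rw [h2, add_zero] at h
    exact h
  have hcardΩ : Nat.card Ω ∣ p ^ 2 := by
    let g : (ZMod (p ^ 2) × ZMod (p ^ 2)) →+ (ZMod (p ^ 2) × ZMod (p ^ 2)) :=
      ((p : AddMonoid.End (ZMod (p ^ 2) × ZMod (p ^ 2))) : _ →+ _)
    have hr : g.range = Ω := by
      ext v
      constructor
      · rintro ⟨w, rfl⟩
        refine (hΩ _).2 ?_
        show p • ((p : AddMonoid.End (ZMod (p ^ 2) × ZMod (p ^ 2))) w) = 0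
        rw [AddMonoid.End.natCast_apply, ← mul_nsmul, ← pow_two]
        exact Prod.ext (hchar _) (hchar _)
      · intro hv
        obtain ⟨z, hz⟩ := torsion_eq v ((hΩ v).1 hv)
        exact ⟨z, by show (p : AddMonoid.End (ZMod (p ^ 2) × ZMod (p ^ 2))) z = v
                     rw [AddMonoid.End.natCast_apply, hz]⟩
    have hc : Nat.card g.ker * Nat.card g.range = Nat.card (ZMod (p ^ 2) × ZMod (p ^ 2)) := by
      rw [← AddSubgroup.index_ker, AddSubgroup.card_mul_index]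
    rw [hr, show g.ker = Ω from rfl, Nat.card_prod, Nat.card_zmod] at hc
    exact (Nat.pow_dvd_pow_iff two_ne_zero).1 ⟨1, by rw [mul_one]; linarith [hc, pow_two (Nat.card Ω), pow_two (p ^ 2)]⟩
  -- `D` squares to zero on the torsion
  have hD2Ω : ∀ v, p • v = 0 → D (D v) = 0 := fun v hv =>
    congrArg Subtype.val (sq_eq_zero_of_nilpotent hcardΩ D₀ p hD₀ ⟨v, (hΩ v).2 hv⟩)
  have htor : ∀ v : ZMod (p ^ 2) × ZMod (p ^ 2), p • (p • v) = 0 := fun v => by
    rw [← mul_nsmul, ← pow_two]; exact Prod.ext (hchar _) (hchar _)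
  have hpD2 : ∀ v, p • D (D v) = 0 := fun v => by
    rw [← map_nsmul, ← map_nsmul]; exact hD2Ω _ (htor v)
  have hD4 : D ^ 4 = 0 := by
    ext v : 1
    exact hD2Ω _ (hpD2 v)
  have hDp : D ^ p = 0 := by
    exact pow_eq_zero_of_le (by omega) hD4
  rw [hDp, zero_add, hT, mul_add, mul_one] at hzero
  obtain ⟨z, rfl⟩ := torsion_eq y hy
  have h := DFunLike.congr_fun hzero z
  change (p : AddMonoid.End (ZMod (p ^ 2) × ZMod (p ^ 2))) (D z) + (p : AddMonoid.End (ZMod (p ^ 2) × ZMod (p ^ 2))) (D (D (T z))) = 0 at h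
  rw [AddMonoid.End.natCast_apply, AddMonoid.End.natCast_apply, hpD2, add_zero] at h
  show D (p • z) + p • z = p • z
  rw [map_nsmul, h, zero_add]

/-- Let p > 3 be a prime and L the direct product of two cyclic groups of order p². Every automorphism of L of order p fixes every element of order p of L. -/
theorem result {p : ℕ} [Fact p.Prime] (hp : 3 < p)
    (a : MulAut (Multiplicative (ZMod (p ^ 2) × ZMod (p ^ 2)))) (ha : orderOf a = p)
    (x : Multiplicative (ZMod (p ^ 2) × ZMod (p ^ 2))) (hx : orderOf x = p) : a x = x := by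
  let M := ZMod (p ^ 2) × ZMod (p ^ 2)
  let φ : AddMonoid.End M :=
    { toFun := fun m => (a (Multiplicative.ofAdd m)).toAdd
      map_zero' := by simp
      map_add' := fun u v => by simp }
  have hpow : ∀ (m : ℕ) (u : M), (φ ^ m) u = ((a ^ m) (Multiplicative.ofAdd u)).toAdd := by
    intro m
    induction m with
    | zero => intro u; rfl
    | succ m ih => intro u; rw [pow_succ φ m, pow_succ a m]; exact ih (φ u)
  have hφ : φ ^ p = 1 := by
    ext u : 1
    have hap : a ^ p = 1 := orderOf_dvd_iff_pow_eq_one.1 (dvd_of_eq ha)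
    rw [hpow, hap]
    rfl
  have hy : p • x.toAdd = 0 := by
    rw [← toAdd_pow, orderOf_dvd_iff_pow_eq_one.1 (dvd_of_eq hx), toAdd_one]
  exact Multiplicative.toAdd.injective (end_core hp φ hφ x.toAdd hy)

end Cfsg.Agent.S4080
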