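import Cfsg.Statements.S4081
import Cfsg.Agent.FGS.FieldModule
import Cfsg.Agent.PLocal.Cores
import Cfsg.Agent.Solvable.Basic
import Cfsg.Agent.Coprime.Generation
import Cfsg.Agent.Characters.Burnside
import Mathlib.GroupTheory.SemidirectProduct
import Mathlib.GroupTheory.SpecificGroups.Cyclic
-- import your own Cfsg.Agent.* helpers here

set_option autoImplicit false
open Cfsg

namespace Cfsg.Agent.S4081

open CfsgLib.FGS.FieldModule

variable {G : Type*} [Group G] [Finite G]

/-- The operators of an action on an elementary abelian group. -/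
theorem exists_act {G : Type*} [Group G] {p : ℕ} {Q : Type*} [CommGroup Q] [Module (ZMod p) (Additive Q)] (c : G →* MulAut Q) :
    ∃ act : G →* Module.End (ZMod p) (Additive Q),
      ∀ (g : G) (a : Q), act g (Additive.ofMul a) = Additive.ofMul (c g a) := by
  let f : G → Module.End (ZMod p) (Additive Q) := fun g =>
    (MonoidHom.toAdditive (c g).toMonoidHom).toZModLinearMap p
  refine ⟨⟨⟨f, ?_⟩, ?_⟩, fun g a => rfl⟩
  · refine LinearMap.ext fun a => ?_
    show Additive.ofMul (c (1 : G) a.toMul) = a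
    rw [map_one]; rfl
  · intro g h
    refine LinearMap.ext fun a => ?_
    show Additive.ofMul (c (g * h) a.toMul) = Additive.ofMul (c g (c h a.toMul))
    rw [map_mul]; rfl

/-- The operators of an action on an elementary abelian group, on an additive copy. -/
theorem exists_module_aux.{v, w} {G : Type v} [Group G] {p : ℕ} {Q : Type w} [CommGroup Q] [Finite Q]
    (hexp : ∀ a : Q, a ^ p = 1) (c : G →* MulAut Q) :
    ∃ (V : Type w) (_ : AddCommGroup V) (_ : Module (ZMod p) V) (_ : Finite V) (τ : Q ≃ V)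
      (act : G →* Module.End (ZMod p) V),
      (∀ a b : Q, τ (a * b) = τ a + τ b) ∧ τ 1 = 0 ∧ ∀ (g : G) (a : Q), act g (τ a) = τ (c g a) := by
  have hexp' : ∀ a : Additive Q, p • a = 0 := fun a => by
    rw [← ofMul_toMul a, ← ofMul_pow]
    exact congrArg Additive.ofMul (hexp _)
  letI : Module (ZMod p) (Additive Q) := AddCommGroup.zmodModule hexp'
  obtain ⟨act, hact⟩ := exists_act (p := p) (Q := Q) c
  exact ⟨Additive Q, inferInstance, inferInstance, inferInstanceAs (Finite Q), Additive.ofMul, act,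
    fun a b => rfl, rfl, hact⟩

/-- The operators of conjugation on an elementary abelian normal subgroup, on an additive copy. -/
theorem exists_module.{v} {G : Type v} [Group G] [Finite G] {p : ℕ} (P : Subgroup G) [P.Normal]
    (hP : IsMulCommutative P) (hexp : ∀ a ∈ P, a ^ p = 1) :
    ∃ (V : Type v) (_ : AddCommGroup V) (_ : Module (ZMod p) V) (_ : Finite V) (τ : P ≃ V)
      (act : G →* Module.End (ZMod p) V),
      (∀ a b : P, τ (a * b) = τ a + τ b) ∧ τ 1 = 0 ∧
      ∀ (g : G) (a : P), act g (τ a) = τ (MulAut.conjNormal g a) := by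
  letI cg : CommGroup P := { (inferInstance : Group P) with mul_comm := fun a b => hP.is_comm.comm a b }
  exact exists_module_aux (Q := P) (fun a => Subtype.ext (hexp _ a.2)) (MulAut.conjNormal (H := P))

/-- Fixed point free operators of order `q` are roots of the cyclotomic polynomial. -/
theorem aeval_cyclotomic {k V : Type*} [CommRing k] [AddCommGroup V] [Module k V] {q : ℕ} [Fact q.Prime]
    (S : Module.End k V) (hq : S ^ q = 1) (hfpf : ∀ v, S v = v → v = 0) :
    Polynomial.aeval S (Polynomial.cyclotomic q k) = 0 := by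
  refine LinearMap.ext fun w => hfpf _ ?_
  have h := congrArg (Polynomial.aeval S) (Polynomial.cyclotomic_prime_mul_X_sub_one k q)
  rw [mul_comm, map_mul, map_sub, map_sub, map_pow, Polynomial.aeval_X, map_one, hq, sub_self] at h
  have h2 := LinearMap.congr_fun h w
  rw [Module.End.mul_apply, LinearMap.sub_apply, Module.End.one_apply, LinearMap.zero_apply, sub_eq_zero] at h2
  exact h2

/-- The hypotheses of the structure. -/
structure Data (p q : ℕ) (P : Subgroup G) : Prop where
  normal : P.Normal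
  comm : IsMulCommutative P
  exp : ∀ a ∈ P, a ^ p = 1
  pq : p ≠ q
  card : ∃ n, 1 ≤ n ∧ Nat.card P = p ^ n ∧ Nat.card G = p ^ n * q
  fpf : ∀ x y : G, orderOf x = q → y ∈ P → x * y * x⁻¹ = y → y = 1

variable {p q : ℕ} [hp : Fact p.Prime] [hq : Fact q.Prime] {P : Subgroup G}

theorem Data.complement (D : Data p q P) {x : G} (hx : orderOf x = q) :
    P.IsComplement' (Subgroup.zpowers x) := by
  obtain ⟨n, -, hP, hG⟩ := D.card
  refine Subgroup.isComplement'_of_coprime ?_ ?_
  · rw [hP, Nat.card_zpowers, hx, hG]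
  · rw [hP, Nat.card_zpowers, hx]
    exact ((Nat.coprime_primes hp.out hq.out).2 D.pq).pow_left n

theorem Data.decomp (D : Data p q P) {x : G} (hx : orderOf x = q) (g : G) :
    ∃ a ∈ P, ∃ i : ℕ, g = a * x ^ i := by
  classical
  obtain ⟨⟨a, b⟩, hab⟩ := (D.complement hx).2 g
  obtain ⟨i, -, hi⟩ := (mem_zpowers_iff_mem_range_orderOf.1 b.2 |> Finset.mem_image.1)
  exact ⟨a, a.2, i, by rw [hi]; exact hab.symm⟩

/-- Automorphisms realising any choice on generators. -/
theorem Data.exists_aut (D : Data p q P) (hord : orderOf (p : ZMod q) = q - 1) {x y u v : G}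
    (hx : orderOf x = q) (hy : orderOf y = q) (hu : u ∈ P) (hu1 : u ≠ 1) (hv : v ∈ P) (hv1 : v ≠ 1) :
    ∃ θ : MulAut G, θ x = y ∧ θ u = v := by
  classical
  haveI := D.normal
  obtain ⟨V, _, _, _, τ, act, hadd, hτ1, hact⟩ := exists_module (p := p) P D.comm D.exp
  have hτ0 : ∀ a : P, τ a = 0 → a = 1 := fun a h => τ.injective (h.trans hτ1.symm)
  have hfpf : ∀ z : G, orderOf z = q → ∀ w : V, act z w = w → w = 0 := by
    intro z hz w hw
    obtain ⟨a, rfl⟩ := τ.surjective w
    rw [hact] at hw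
    have h1 : z * (a : G) * z⁻¹ = a := by
      have := congrArg Subtype.val (τ.injective hw)
      rwa [MulAut.conjNormal_apply] at this
    rw [show a = 1 from Subtype.ext (D.fpf z a hz a.2 h1), hτ1]
  have hroot : ∀ z : G, orderOf z = q →
      Polynomial.aeval (act z) (Polynomial.cyclotomic q (ZMod p)) = 0 := fun z hz =>
    aeval_cyclotomic _ (by rw [← map_pow, orderOf_dvd_iff_pow_eq_one.1 (dvd_of_eq hz), map_one]) (hfpf z hz)
  obtain ⟨e, he, heu⟩ := exists_intertwine (irreducible_cyclotomic_zmod hq.out D.pq hord) (hroot x hx) (hroot y hy)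
    (u := τ ⟨u, hu⟩) (v := τ ⟨v, hv⟩)
    (fun h => hu1 (congrArg Subtype.val (hτ0 _ h)))
    (fun h => hv1 (congrArg Subtype.val (hτ0 _ h)))
  let fn : P ≃* P :=
    { (τ.trans (e.toEquiv.trans τ.symm)) with
      map_mul' := fun a b => by
        show τ.symm (e (τ (a * b))) = τ.symm (e (τ a)) * τ.symm (e (τ b))
        apply τ.injective
        rw [τ.apply_symm_apply, hadd, hadd, map_add, τ.apply_symm_apply, τ.apply_symm_apply] }
  have hfn : ∀ a : P, fn a = τ.symm (e (τ a)) := fun a => rfl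
  have hoxy : orderOf x = orderOf y := hx.trans hy.symm
  have hgenz : ∀ z : G, ∀ w : Subgroup.zpowers z, w ∈ Subgroup.zpowers (⟨z, Subgroup.mem_zpowers z⟩ : Subgroup.zpowers z) := by
    rintro z ⟨w, hw⟩
    obtain ⟨i, rfl⟩ := Subgroup.mem_zpowers_iff.1 hw
    exact ⟨i, Subtype.ext (by simp)⟩
  let fg : Subgroup.zpowers x ≃* Subgroup.zpowers y := mulEquivOfOrderOfEq (hgenz x) (hgenz y) (by
    rw [Subgroup.orderOf_mk, Subgroup.orderOf_mk, hoxy])
  have hfg : ∀ i : ℕ, (fg ⟨x ^ i, Subgroup.npow_mem_zpowers x i⟩ : G) = y ^ i := by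
    intro i
    rw [show (⟨x ^ i, Subgroup.npow_mem_zpowers x i⟩ : Subgroup.zpowers x) = ⟨x, Subgroup.mem_zpowers x⟩ ^ i from rfl,
      map_pow, mulEquivOfOrderOfEq_apply_gen]
    rfl
  have hiter : ∀ (i : ℕ) (a : V), e (act (x ^ i) a) = act (y ^ i) (e a) := by
    intro i
    induction i with
    | zero => intro a; rw [pow_zero, pow_zero, map_one]; rfl
    | succ i ih =>
      intro a
      rw [pow_succ, pow_succ, map_mul, map_mul, Module.End.mul_apply, ih, he, Module.End.mul_apply]
  have e₁ := SemidirectProduct.mulEquivSubgroup (D.complement hx)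
  let θ : MulAut G := ((SemidirectProduct.mulEquivSubgroup (D.complement hx)).symm.trans
    ((SemidirectProduct.congr fn fg ?_).trans (SemidirectProduct.mulEquivSubgroup (D.complement hy))))
  swap
  · rintro ⟨z, hz⟩
    obtain ⟨i, -, rfl⟩ := Finset.mem_image.1 (mem_zpowers_iff_mem_range_orderOf.1 hz)
    refine MulEquiv.ext fun a => Subtype.ext ?_
    have h := hiter i (τ a)
    have h0 : ∀ c : P, e (τ c) = τ (fn c) := fun c => by rw [hfn, τ.apply_symm_apply]
    rw [hact, h0, h0, hact] at h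
    have h' := congrArg Subtype.val (τ.injective h)
    rw [MulAut.conjNormal_apply] at h'
    have hv' : (fg ⟨x ^ i, hz⟩ : G) = y ^ i := hfg i
    simp only [MulEquiv.trans_apply, MonoidHom.comp_apply, Subgroup.normalizerMonoidHom_apply_apply_coe,
      Subgroup.coe_inclusion, hv']
    exact h'
  refine ⟨θ, ?_, ?_⟩
  · have h1 : (SemidirectProduct.mulEquivSubgroup (D.complement hx)).symm x =
        SemidirectProduct.inr ⟨x ^ 1, Subgroup.npow_mem_zpowers x 1⟩ := by
      rw [MulEquiv.symm_apply_eq]; simp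
    simp only [θ, MulEquiv.trans_apply, h1]
    simpa using hfg 1
  · have h1 : (SemidirectProduct.mulEquivSubgroup (D.complement hx)).symm u =
        SemidirectProduct.inl ⟨u, hu⟩ := by
      rw [MulEquiv.symm_apply_eq]; simp
    simp only [θ, MulEquiv.trans_apply, h1]
    have h2 : fn ⟨u, hu⟩ = ⟨v, hv⟩ := by rw [hfn, heu, τ.symm_apply_apply]
    simp [h2]

/-- Orbit counting for the automorphism group. -/
theorem orbit_rep {G : Type*} [Group G] [Finite G]
    (h3 : Nat.card (MulAction.orbitRel.Quotient (MulAut G) G) = 3) {a b : G}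
    (ha : a ≠ 1) (hb : b ≠ 1) (hab : orderOf a ≠ orderOf b) (g : G) (hg : g ≠ 1) :
    ∃ φ : MulAut G, φ a = g ∨ φ b = g := by
  classical
  haveI := Fintype.ofFinite (MulAction.orbitRel.Quotient (MulAut G) G)
  let π : G → MulAction.orbitRel.Quotient (MulAut G) G := Quotient.mk _
  have hπ : ∀ z w, π z = π w → ∃ φ : MulAut G, φ w = z := fun z w h => Quotient.exact h
  have hne : ∀ z w, orderOf z ≠ orderOf w → π z ≠ π w := by
    intro z w h he
    obtain ⟨φ, rfl⟩ := hπ z w he
    exact h (MulEquiv.orderOf_eq φ w)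
  have ho : ∀ z : G, z ≠ 1 → orderOf z ≠ orderOf (1 : G) := fun z hz h =>
    hz (orderOf_eq_one_iff.1 (h.trans orderOf_one))
  by_contra hcon
  push Not at hcon
  have hg1 : ∀ z, z = a ∨ z = b → π g ≠ π z := by
    intro z hz he
    obtain ⟨φ, hφ⟩ := hπ g z he
    rcases hz with rfl | rfl
    · exact (hcon φ).1 hφ
    · exact (hcon φ).2 hφ
  have h4 : ({π 1, π a, π b, π g} : Finset _).card = 4 := by
    rw [Finset.card_insert_of_notMem, Finset.card_insert_of_notMem, Finset.card_pair]
    · exact (hg1 b (Or.inr rfl)).symm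
    · simp only [Finset.mem_insert, Finset.mem_singleton, not_or]
      exact ⟨hne a b hab, (hg1 a (Or.inl rfl)).symm⟩
    · simp only [Finset.mem_insert, Finset.mem_singleton, not_or]
      exact ⟨hne _ _ (ho a ha).symm, hne _ _ (ho b hb).symm, hne _ _ (ho g hg).symm⟩
  have := Finset.card_le_univ ({π 1, π a, π b, π g} : Finset _)
  rw [h4, ← Nat.card_eq_fintype_card, h3] at this
  omega

/-- The forward direction, with a normal `p`-subgroup. -/
theorem forward {G : Type*} [Group G] [Finite G] {p q : ℕ} [hp : Fact p.Prime] [hq : Fact q.Prime]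
    (hpq : p ≠ q) (hord : ∀ g : G, g ≠ 1 → orderOf g = p ∨ orderOf g = q)
    (htrans : ∀ a g : G, a ≠ 1 → orderOf g = orderOf a → ∃ φ : MulAut G, φ a = g)
    (hqdvd : q ∣ Nat.card G) {N : Subgroup G} (hN : N.Normal) (hNp : IsPGroup p N) (hN1 : N ≠ ⊥) :
    ∃ (p q n : ℕ) (_ : Fact p.Prime) (_ : Fact q.Prime), p ≠ q ∧ 1 ≤ n ∧ Nat.card G = p ^ n * q ∧
      (∀ P : Sylow p G, (P : Subgroup G).Normal ∧ Cfsg.IsElementaryAbelian p (P : Subgroup G)) ∧
      orderOf (p : ZMod q) = q - 1 ∧
      ∀ x y : G, orderOf x = q → orderOf y = p → x * y * x⁻¹ ≠ y := by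
  classical
  set P := Cfsg.pCore p G with hPdef
  have hPp : IsPGroup p P := CfsgLib.PLocal.isPGroup_pCore p G
  have hNP : N ≤ P := CfsgLib.PLocal.le_pCore (hN := hN) hNp
  obtain ⟨⟨z, hz⟩, hz1⟩ := Subgroup.ne_bot_iff_exists_ne_one.1 hN1
  have hz1' : z ≠ 1 := fun h => hz1 (Subtype.ext h)
  have hzp : orderOf z = p := by
    refine (hord z hz1').resolve_right fun hzq => ?_
    obtain ⟨k, hk⟩ := (IsPGroup.iff_orderOf.1 hNp) ⟨z, hz⟩
    rw [Subgroup.orderOf_mk, hzq] at hk
    exact hpq ((Nat.prime_dvd_prime_iff_eq hp.out hq.out).1 (by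
      rw [hk]
      exact dvd_pow_self p fun k0 => hq.out.one_lt.ne' (by rw [hk, k0, pow_zero])))
  haveI hPchar : P.Characteristic := inferInstance
  have hall : ∀ g : G, orderOf g = p → g ∈ P := by
    intro g hg
    obtain ⟨φ, hφ⟩ := htrans z g hz1' (hg.trans hzp.symm)
    have := Subgroup.mem_map_of_mem φ.toMonoidHom (hNP hz)
    rw [Subgroup.characteristic_iff_map_eq.1 hPchar φ] at this
    exact hφ ▸ this
  have hPord : ∀ a ∈ P, a ≠ 1 → orderOf a = p := by
    intro a ha ha1
    refine (hord a ha1).resolve_right fun haq => ?_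
    obtain ⟨k, hk⟩ := (IsPGroup.iff_orderOf.1 hPp) ⟨a, ha⟩
    rw [Subgroup.orderOf_mk, haq] at hk
    exact hpq ((Nat.prime_dvd_prime_iff_eq hp.out hq.out).1 (by
      rw [hk]
      exact dvd_pow_self p fun k0 => hq.out.one_lt.ne' (by rw [hk, k0, pow_zero])))
  have hexp : ∀ a ∈ P, a ^ p = 1 := fun a ha => by
    rcases eq_or_ne a 1 with rfl | ha1
    · exact one_pow p
    · exact orderOf_dvd_iff_pow_eq_one.1 (dvd_of_eq (hPord a ha ha1))
  -- `P` is abelian
  have hcomm : IsMulCommutative P := by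
    haveI : Nontrivial P := ⟨⟨⟨z, hNP hz⟩, 1, fun h => hz1' (congrArg Subtype.val h)⟩⟩
    obtain ⟨⟨c, hc⟩, hc1⟩ := (Subgroup.ne_bot_iff_exists_ne_one (H := Subgroup.center P)).1
      (Subgroup.nontrivial_iff_ne_bot _ |>.1 hPp.center_nontrivial)
    have hc1' : (c : G) ≠ 1 := fun h => hc1 (Subtype.ext (Subtype.ext h))
    refine ⟨⟨fun a b => Subtype.ext ?_⟩⟩
    rcases eq_or_ne (a : G) 1 with h | ha1
    · rw [Subgroup.coe_mul, Subgroup.coe_mul, h, one_mul, mul_one]
    obtain ⟨φ, hφ⟩ := htrans (c : G) a hc1' ((hPord a a.2 ha1).trans (hPord c c.2 hc1').symm)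
    have hb' : φ.symm (b : G) ∈ P := by
      have := Subgroup.mem_map_of_mem φ.symm.toMonoidHom b.2
      rwa [Subgroup.characteristic_iff_map_eq.1 hPchar φ.symm] at this
    have hcb : φ.symm (b : G) * c = c * φ.symm (b : G) :=
      congrArg Subtype.val (Subgroup.mem_center_iff.1 hc ⟨_, hb'⟩)
    have := congrArg φ hcb
    rw [map_mul, map_mul, MulEquiv.apply_symm_apply, hφ] at this
    exact this.symm
  -- fixed point free
  have hfpf : ∀ x y : G, orderOf x = q → y ∈ P → x * y * x⁻¹ = y → y = 1 := by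
    intro x y hx hy he
    by_contra hy1
    have hxy : Commute x y := mul_inv_eq_iff_eq_mul.1 he
    have ho := hxy.orderOf_mul_eq_mul_orderOf_of_coprime (by
      rw [hx, hPord y hy hy1]; exact (Nat.coprime_primes hq.out hp.out).2 hpq.symm)
    rw [hx, hPord y hy hy1] at ho
    have h2 := hp.out.two_le
    have h3 := hq.out.two_le
    rcases eq_or_ne (x * y) 1 with h | h
    · rw [h, orderOf_one] at ho; nlinarith
    · rcases hord _ h with h' | h' <;> rw [h'] at ho <;> nlinarith
  -- `P` is the Sylow subgroup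
  have hsyl : ∀ S : Sylow p G, (S : Subgroup G) = P := by
    intro S
    refine le_antisymm (fun g hg => ?_) (CfsgLib.PLocal.pCore_le_sylow S)
    rcases eq_or_ne g 1 with rfl | hg1
    · exact P.one_mem
    refine hall g ((hord g hg1).resolve_right fun hgq => ?_)
    obtain ⟨k, hk⟩ := (IsPGroup.iff_orderOf.1 S.isPGroup') ⟨g, hg⟩
    rw [Subgroup.orderOf_mk, hgq] at hk
    exact hpq ((Nat.prime_dvd_prime_iff_eq hp.out hq.out).1 (by
      rw [hk]
      exact dvd_pow_self p fun k0 => hq.out.one_lt.ne' (by rw [hk, k0, pow_zero])))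
  obtain ⟨x, hx⟩ := exists_prime_orderOf_dvd_card' (G := G) q hqdvd
  obtain ⟨n, hn⟩ := IsPGroup.iff_card.1 hPp
  have hn1 : 1 ≤ n := by
    rcases Nat.eq_zero_or_pos n with h0 | h0
    · rw [h0, pow_zero, Subgroup.card_eq_one] at hn
      exact absurd (hn ▸ hNP hz : z ∈ (⊥ : Subgroup G)) (fun h => hz1' (Subgroup.mem_bot.1 h))
    · exact h0
  -- the Sylow `q`-subgroup has order `q`
  obtain ⟨Q⟩ : Nonempty (Sylow q G) := inferInstance
  have hQord : ∀ a ∈ (Q : Subgroup G), a ≠ 1 → orderOf a = q := by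
    intro a ha ha1
    refine (hord a ha1).resolve_left fun hap => ?_
    obtain ⟨k, hk⟩ := (IsPGroup.iff_orderOf.1 Q.isPGroup') ⟨a, ha⟩
    rw [Subgroup.orderOf_mk, hap] at hk
    exact hpq ((Nat.prime_dvd_prime_iff_eq hq.out hp.out).1 (by
      rw [hk]
      exact dvd_pow_self q fun k0 => hp.out.one_lt.ne' (by rw [hk, k0, pow_zero]))).symm
  have hQ : Nat.card (Q : Subgroup G) = q := by
    obtain ⟨b, hb⟩ := IsPGroup.iff_card.1 Q.isPGroup'
    haveI : Nontrivial (Q : Subgroup G) := (Subgroup.nontrivial_iff_ne_bot _).2 (Q.ne_bot_of_dvd_card hqdvd)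
    obtain ⟨⟨c, hc⟩, hc1⟩ := (Subgroup.ne_bot_iff_exists_ne_one (H := Subgroup.center (Q : Subgroup G))).1
      (Subgroup.nontrivial_iff_ne_bot _ |>.1 Q.isPGroup'.center_nontrivial)
    have hc1' : (c : G) ≠ 1 := fun h => hc1 (Subtype.ext (Subtype.ext h))
    have hcq : orderOf (c : G) = q := hQord c c.2 hc1'
    by_contra hne
    obtain ⟨d, hdQ, hdc⟩ : ∃ d ∈ (Q : Subgroup G), d ∉ Subgroup.zpowers (c : G) := by
      by_contra hall'
      push Not at hall'
      apply hne
      rw [le_antisymm (fun d hd => hall' d hd) (Subgroup.zpowers_le.2 c.2), Nat.card_zpowers, hcq]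
    have hd1 : d ≠ 1 := fun h => hdc (h ▸ Subgroup.one_mem _)
    have hcd : (c : G) * d = d * c :=
      (congrArg Subtype.val (Subgroup.mem_center_iff.1 hc ⟨d, hdQ⟩)).symm
    set A := Subgroup.closure ({(c : G), d} : Set G) with hA
    haveI : IsMulCommutative A := Subgroup.isMulCommutative_closure (fun a ha b hb => by
      rcases ha with rfl | rfl <;> rcases hb with rfl | rfl
      · rfl
      · exact hcd
      · exact hcd.symm
      · rfl)
    have hAQ : A ≤ Q := by
      rw [hA, Subgroup.closure_le]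
      rintro a (rfl | rfl)
      · exact c.2
      · exact hdQ
    have hAnc : ¬ IsCyclic A := by
      intro hcy
      obtain ⟨⟨g, hg⟩, hgen⟩ := hcy.exists_generator
      have hle : A ≤ Subgroup.zpowers g := fun a ha => by
        obtain ⟨i, hi⟩ := Subgroup.mem_zpowers_iff.1 (hgen ⟨a, ha⟩)
        exact ⟨i, congrArg Subtype.val hi⟩
      have hg1 : g ≠ 1 := fun h => hd1 (by
        have h2 := hle (Subgroup.subset_closure (Set.mem_insert_of_mem _ rfl) : d ∈ A)
        rw [h, Subgroup.zpowers_one_eq_bot] at h2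
        exact Subgroup.mem_bot.1 h2)
      have he : Subgroup.zpowers (c : G) = Subgroup.zpowers g :=
        Subgroup.eq_of_le_of_card_ge (Subgroup.zpowers_le.2 (hle (Subgroup.subset_closure (Set.mem_insert _ _))))
          (by rw [Nat.card_zpowers, Nat.card_zpowers, hcq, hQord g (hAQ hg) hg1])
      exact hdc (he ▸ hle (Subgroup.subset_closure (Set.mem_insert_of_mem _ rfl)))
    obtain ⟨a', ha'⟩ := IsPGroup.iff_card.1 (Q.isPGroup'.to_le hAQ)
    have hbot := CfsgLib.Coprime.le_of_forall_inf_centralizer_le (G := P) (A := A) hAnc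
      (by rw [(Subgroup.normalizer_eq_top_iff).2 inferInstance]; exact le_top)
      (by rw [ha', hn]; exact ((Nat.coprime_primes hq.out hp.out).2 hpq.symm).pow _ _)
      (W := ⊥) (fun a ha ha1 g hg => Subgroup.mem_bot.2 (hfpf a g (hQord a (hAQ ha) ha1) hg.1
        (mul_inv_eq_iff_eq_mul.2 (Subgroup.mem_centralizer_singleton_iff.1 hg.2).symm)))
    exact hz1' (Subgroup.mem_bot.1 (hbot (hNP hz)))
  -- the order
  obtain ⟨S⟩ : Nonempty (Sylow p G) := inferInstance
  have hG : Nat.card G = p ^ n * q := by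
    have hsub : (Nat.card G).primeFactors ⊆ {p, q} := by
      intro r hr
      haveI := Fact.mk (Nat.prime_of_mem_primeFactors hr)
      obtain ⟨g, hg⟩ := exists_prime_orderOf_dvd_card' (G := G) r (Nat.dvd_of_mem_primeFactors hr)
      have hg1 : g ≠ 1 := fun h => (Nat.prime_of_mem_primeFactors hr).ne_one (by rw [← hg, h, orderOf_one])
      rcases hord g hg1 with h | h <;> simp [← hg, h]
    have hp' : p ^ (Nat.card G).factorization p = p ^ n := by
      rw [← S.card_eq_multiplicity, hsyl S, hn]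
    have hq' : q ^ (Nat.card G).factorization q = q := by
      rw [← Q.card_eq_multiplicity, hQ]
    have h := Nat.prod_factorization_pow_eq_self (Nat.card_pos (α := G)).ne'
    rw [Finsupp.prod, Finset.prod_subset (s₂ := {p, q})] at h
    · rw [Finset.prod_pair hpq, hp', hq'] at h
      exact h.symm
    · rwa [Nat.support_factorization]
    · intro r _ hr
      rw [Finsupp.notMem_support_iff.1 hr, pow_zero]
  refine ⟨p, q, n, hp, hq, hpq, hn1, hG, fun S => ?_, ?_, ?_⟩
  · rw [hsyl S]
    exact ⟨inferInstance, hcomm, hexp⟩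
  swap
  · intro a b ha hb he
    have hb1 : b ≠ 1 := fun h => by
      rw [h, orderOf_one] at hb
      exact hp.out.one_lt.ne hb
    exact hb1 (hfpf a b ha (hall b hb) he)
  -- `p` is a primitive root
  have D : Data p q P := ⟨inferInstance, hcomm, hexp, hpq, ⟨n, hn1, hn, hG⟩, hfpf⟩
  obtain ⟨V, _, _, _, τ, act, hadd, hτ1, hact⟩ := exists_module (p := p) P hcomm hexp
  have hτ0 : ∀ a : P, τ a = 0 → a = 1 := fun a h => τ.injective (h.trans hτ1.symm)
  haveI : Nontrivial V := ⟨⟨τ ⟨z, hNP hz⟩, 0, fun h => hz1' (congrArg Subtype.val (hτ0 _ h))⟩⟩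
  set T := act x with hT
  set A := Algebra.adjoin (ZMod p) ({T} : Set (Module.End (ZMod p) V)) with hA
  have hTA : T ∈ A := Algebra.subset_adjoin rfl
  have hcommA : ∀ a ∈ A, ∀ b ∈ A, a * b = b * a := by
    intro a ha b hb
    exact Algebra.commute_of_mem_adjoin_singleton_of_commute hb
      (Algebra.commute_of_mem_adjoin_singleton_of_commute ha (Commute.refl T)).symm
  -- automorphisms of `G` give symmetries
  have hsym : ∀ φ : MulAut G, ∃ Φ : V ≃ₗ[ZMod p] V,
      (∀ a : P, ((τ.symm (Φ (τ a))) : G) = φ a) ∧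
      Φ.conjAlgEquiv (ZMod p) T = act (φ x) ∧ ∀ b ∈ A, Φ.conjAlgEquiv (ZMod p) b ∈ A := by
    intro φ
    have hmap : P.map φ.toMonoidHom = P := Subgroup.characteristic_iff_map_eq.1 hPchar φ
    let r : P ≃* P := (φ.subgroupMap P).trans (MulEquiv.subgroupCongr hmap)
    let ψ : V ≃+ V :=
      { (τ.symm.trans (r.toEquiv.trans τ)) with
        map_add' := fun v w => by
          show τ (r (τ.symm (v + w))) = τ (r (τ.symm v)) + τ (r (τ.symm w))
          rw [← hadd, ← map_mul]
          congr 2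
          apply τ.injective
          rw [hadd, τ.apply_symm_apply, τ.apply_symm_apply, τ.apply_symm_apply] }
    let Φ : V ≃ₗ[ZMod p] V := { ψ.toAddMonoidHom.toZModLinearMap p, ψ with }
    have hΦ : ∀ a : P, ((τ.symm (Φ (τ a))) : G) = φ a := fun a => by
      show ((τ.symm (τ (r (τ.symm (τ a))))) : G) = φ a
      rw [τ.symm_apply_apply, τ.symm_apply_apply]
      rfl
    have hT' : Φ.conjAlgEquiv (ZMod p) T = act (φ x) := by
      refine LinearMap.ext fun w => ?_
      obtain ⟨w, rfl⟩ := Φ.surjective w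
      rw [LinearEquiv.conjAlgEquiv_apply, LinearMap.comp_apply, LinearMap.comp_apply,
        LinearEquiv.coe_coe, LinearEquiv.coe_coe, LinearEquiv.symm_apply_apply]
      obtain ⟨a, rfl⟩ := τ.surjective w
      have h1 : Φ (τ a) = τ (τ.symm (Φ (τ a))) := (τ.apply_symm_apply _).symm
      rw [h1, hT, hact, hact]
      refine τ.symm.injective (Subtype.ext ?_)
      rw [hΦ, τ.symm_apply_apply, MulAut.conjNormal_apply, MulAut.conjNormal_apply, hΦ, map_mul, map_mul, map_inv]
    refine ⟨Φ, hΦ, hT', fun b hb => ?_⟩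
    have hTA' : Φ.conjAlgEquiv (ZMod p) T ∈ A := by
      obtain ⟨a, ha, i, hi⟩ := D.decomp hx (φ x)
      rw [hT', hi, map_mul, map_pow]
      have hact1 : act a = 1 := by
        refine LinearMap.ext fun w => ?_
        obtain ⟨w, rfl⟩ := τ.surjective w
        rw [hact]
        refine congrArg τ (Subtype.ext ?_)
        rw [MulAut.conjNormal_apply, mul_inv_eq_iff_eq_mul]
        exact congrArg Subtype.val (hcomm.is_comm.comm ⟨a, ha⟩ w)
      rw [hact1, one_mul]
      exact pow_mem hTA i
    induction hb using Algebra.adjoin_induction with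
    | mem c hc => rw [Set.mem_singleton_iff.1 hc]; exact hTA'
    | algebraMap r => rw [AlgEquiv.commutes]; exact A.algebraMap_mem r
    | add c d _ _ hc hd => rw [map_add]; exact A.add_mem hc hd
    | mul c d _ _ hc hd => rw [map_mul]; exact A.mul_mem hc hd
  have hF : IsField A := by
    refine isField_of_transitive A hcommA fun v w hv hw => ?_
    have hcoe : ∀ v : V, v ≠ 0 → ((τ.symm v : P) : G) ≠ 1 := fun v hv h =>
      hv (by rw [← τ.apply_symm_apply v, show τ.symm v = 1 from Subtype.ext h, hτ1])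
    obtain ⟨φ, hφ⟩ := htrans _ ((τ.symm w : P) : G) (hcoe v hv)
      ((hPord _ (τ.symm w).2 (hcoe w hw)).trans (hPord _ (τ.symm v).2 (hcoe v hv)).symm)
    obtain ⟨Φ, hΦ, -, hA'⟩ := hsym φ
    refine ⟨Φ.toAddEquiv, τ.symm.injective (Subtype.ext ?_), fun b hb => ⟨_, hA' b hb, fun y => ?_⟩⟩
    · have := hΦ (τ.symm v)
      rw [τ.apply_symm_apply] at this
      exact this.trans hφ
    rw [LinearEquiv.conjAlgEquiv_apply]
    simp
  letI := hF.toField
  haveI : Finite A := by
    haveI : Finite (Module.End (ZMod p) V) := Finite.of_injective _ DFunLike.coe_injective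
    infer_instance
  haveI : CharP A p := charP_of_injective_algebraMap (algebraMap (ZMod p) A).injective p
  -- `T` has order `q`
  have hTq : orderOf (⟨T, hTA⟩ : A) = q := by
    refine orderOf_eq_prime (Subtype.ext ?_) fun h => ?_
    · show T ^ q = 1
      rw [hT, ← map_pow, orderOf_dvd_iff_pow_eq_one.1 (dvd_of_eq hx), map_one]
    · have h1 : T = 1 := congrArg Subtype.val h
      refine hz1' (hfpf x z hx (hNP hz) ?_)
      have h2 := LinearMap.congr_fun h1 (τ ⟨z, hNP hz⟩)
      rw [hT, hact, Module.End.one_apply] at h2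
      have h3 := congrArg Subtype.val (τ.injective h2)
      rwa [MulAut.conjNormal_apply] at h3
  have hTqT : orderOf T = q := by
    refine orderOf_eq_prime (by rw [hT, ← map_pow, orderOf_dvd_iff_pow_eq_one.1 (dvd_of_eq hx), map_one]) fun h => ?_
    have := hTq
    rw [show (⟨T, hTA⟩ : A) = 1 from Subtype.ext h, orderOf_one] at this
    exact hq.out.one_lt.ne this
  -- every unit is a power of `p`
  have hmem : ∀ u : (ZMod q)ˣ, ∃ i : ℕ, (u : ZMod q) = (p : ZMod q) ^ i := by
    intro u
    set k := (u : ZMod q).val with hk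
    have hk0 : (k : ℕ) ≠ 0 := fun h => u.ne_zero ((ZMod.val_eq_zero _).1 h)
    have hxk : orderOf (x ^ k) = q := by
      rw [orderOf_pow, hx, (hq.out.coprime_iff_not_dvd.2 (Nat.not_dvd_of_pos_of_lt (Nat.pos_of_ne_zero hk0) (ZMod.val_lt _))).gcd_eq_one,
        Nat.div_one]
    have hx1 : x ≠ 1 := fun h => by rw [h, orderOf_one] at hx; exact hq.out.one_lt.ne hx
    obtain ⟨φ, hφ⟩ := htrans x (x ^ k) hx1 (hxk.trans hx.symm)
    obtain ⟨Φ, -, hT', hA'⟩ := hsym φ
    let σ : A →+* A := (((Φ.conjAlgEquiv (ZMod p)).toAlgHom.comp A.val).codRestrict A fun b => hA' b.1 b.2).toRingHom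
    obtain ⟨i, hi⟩ := exists_eq_pow_pow (p := p) σ
    refine ⟨i, ?_⟩
    have h := hi ⟨T, hTA⟩
    have h2 : σ ⟨T, hTA⟩ = ⟨T, hTA⟩ ^ k := Subtype.ext (by
      show Φ.conjAlgEquiv (ZMod p) T = T ^ k
      rw [hT', hφ, map_pow])
    rw [h2] at h
    have hT0 : (⟨T, hTA⟩ : A) ≠ 0 := fun h0 => by
      have := hTq
      rw [h0, orderOf_zero] at this
      exact hq.out.ne_zero this.symm
    have h' : T ^ k = T ^ (p ^ i) := congrArg Subtype.val h
    have hfin : IsOfFinOrder T := orderOf_pos_iff.1 (by rw [hTqT]; exact hq.out.pos)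
    have h3 := hfin.pow_eq_pow_iff_modEq.1 h'
    rw [hTqT] at h3
    have h4 := (ZMod.natCast_eq_natCast_iff' k (p ^ i) q).2 h3
    rw [hk, ZMod.natCast_val, ZMod.cast_id, Nat.cast_pow] at h4
    exact h4
  have hp0 : (p : ZMod q) ≠ 0 := by
    rw [ne_eq, ZMod.natCast_eq_zero_iff]
    exact fun h => hpq ((Nat.prime_dvd_prime_iff_eq hq.out hp.out).1 h).symm
  have hgen : ∀ u : (ZMod q)ˣ, u ∈ Subgroup.zpowers (Units.mk0 (p : ZMod q) hp0) := fun u => by
    obtain ⟨i, hi⟩ := hmem u
    exact ⟨i, Units.ext (by simp [hi])⟩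
  have h := orderOf_eq_card_of_forall_mem_zpowers hgen
  rw [Nat.card_eq_fintype_card, ZMod.card_units] at h
  rw [← h, ← orderOf_units]
  rfl

/-- Let G be a finite group whose order is not a prime power. Then the automorphism group of G has exactly three orbits on G if and only if there are distinct primes p, q with #G = pⁿ·q (n ≥ 1) such that G has a normal elementary abelian Sylow p-subgroup P, p is a primitive root modulo q (the multiplicative order of p mod q is q − 1), and every element of order q of G acts on P without non-identity fixed points. -/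
theorem result {G : Type*} [Group G] [Finite G] (hnpp : ¬ IsPrimePow (Nat.card G)) (hnt : Nat.card G ≠ 1) :
    Nat.card (MulAction.orbitRel.Quotient (MulAut G) G) = 3 ↔
    ∃ (p q n : ℕ) (_ : Fact p.Prime) (_ : Fact q.Prime), p ≠ q ∧ 1 ≤ n ∧ Nat.card G = p ^ n * q ∧
      (∀ P : Sylow p G, (P : Subgroup G).Normal ∧ Cfsg.IsElementaryAbelian p (P : Subgroup G)) ∧
      orderOf (p : ZMod q) = q - 1 ∧
      ∀ x y : G, orderOf x = q → orderOf y = p → x * y * x⁻¹ ≠ y := by
  constructor
  · intro h3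
    classical
    have hcard0 : Nat.card G ≠ 0 := Nat.card_pos.ne'
    set p := (Nat.card G).minFac with hpdef
    haveI hp : Fact p.Prime := ⟨Nat.minFac_prime hnt⟩
    have hqex : ∃ q : ℕ, q.Prime ∧ q ∣ Nat.card G ∧ q ≠ p := by
      by_contra hno
      push Not at hno
      have he := Nat.eq_prime_pow_of_unique_prime_dvd hcard0 (fun {d} hd hd' => hno d hd hd')
      refine hnpp ((isPrimePow_nat_iff _).2 ⟨p, (Nat.card G).primeFactorsList.length, hp.out, ?_, he.symm⟩)
      rcases Nat.eq_zero_or_pos (Nat.card G).primeFactorsList.length with h0 | h0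
      · rw [h0, pow_zero] at he; exact absurd he hnt
      · exact h0
    obtain ⟨q, hq', hqd, hqp⟩ := hqex
    haveI := Fact.mk hq'
    obtain ⟨a, ha⟩ := exists_prime_orderOf_dvd_card' (G := G) p (Nat.minFac_dvd _)
    obtain ⟨b, hb⟩ := exists_prime_orderOf_dvd_card' (G := G) q hqd
    have ha1 : a ≠ 1 := fun h => by rw [h, orderOf_one] at ha; exact hp.out.one_lt.ne ha
    have hb1 : b ≠ 1 := fun h => by rw [h, orderOf_one] at hb; exact hq'.one_lt.ne hb
    have hab : orderOf a ≠ orderOf b := by rw [ha, hb]; exact hqp.symm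
    have hrep := orbit_rep h3 ha1 hb1 hab
    have hord : ∀ g : G, g ≠ 1 → orderOf g = p ∨ orderOf g = q := by
      intro g hg
      obtain ⟨φ, rfl | rfl⟩ := hrep g hg
      · exact Or.inl ((MulEquiv.orderOf_eq φ a).trans ha)
      · exact Or.inr ((MulEquiv.orderOf_eq φ b).trans hb)
    have htrans : ∀ c g : G, c ≠ 1 → orderOf g = orderOf c → ∃ φ : MulAut G, φ c = g := by
      intro c g hc hgc
      have hg : g ≠ 1 := fun h => hc (orderOf_eq_one_iff.1 (by rw [← hgc, h, orderOf_one]))
      obtain ⟨φ, hφ⟩ := hrep c hc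
      obtain ⟨ψ, hψ⟩ := hrep g hg
      refine ⟨ψ * φ⁻¹, ?_⟩
      rcases hφ with rfl | rfl <;> rcases hψ with rfl | rfl
      · simp
      · rw [MulEquiv.orderOf_eq, MulEquiv.orderOf_eq] at hgc; exact absurd hgc.symm hab
      · rw [MulEquiv.orderOf_eq, MulEquiv.orderOf_eq] at hgc; exact absurd hgc hab
      · simp
    have hsol : Group.IsSolvable G := by
      refine CfsgLib.Characters.isSolvable_of_card_eq_primePow_mul p q
        ((Nat.card G).factorization p) ((Nat.card G).factorization q) hp.out hq' ?_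
      have h := Nat.prod_factorization_pow_eq_self hcard0
      rw [Finsupp.prod, Finset.prod_subset (s₂ := {p, q})] at h
      · rw [Finset.prod_pair hqp.symm] at h
        exact dvd_of_eq h.symm
      · rw [Nat.support_factorization]
        intro r hr
        haveI := Fact.mk (Nat.prime_of_mem_primeFactors hr)
        obtain ⟨g, hg⟩ := exists_prime_orderOf_dvd_card' (G := G) r (Nat.dvd_of_mem_primeFactors hr)
        have hg1 : g ≠ 1 := fun h => (Nat.prime_of_mem_primeFactors hr).ne_one (by rw [← hg, h, orderOf_one])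
        rcases hord g hg1 with h | h <;> simp [← hg, h]
      · intro r _ hr
        rw [Finsupp.notMem_support_iff.1 hr, pow_zero]
    haveI : Nontrivial G := Finite.one_lt_card_iff_nontrivial.1 (by omega)
    haveI := hsol
    obtain ⟨N, hN, hN1, hmin⟩ := CfsgLib.Solvable.exists_minimal_normal (G := G)
    haveI := hN
    obtain ⟨r, hr, hNr⟩ := CfsgLib.Solvable.exists_isPGroup_of_minimal_normal hN1 hmin
    haveI := Fact.mk hr
    obtain ⟨⟨z, hz⟩, hz1⟩ := Subgroup.ne_bot_iff_exists_ne_one.1 hN1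
    obtain ⟨k, hk⟩ := (IsPGroup.iff_orderOf.1 hNr) ⟨z, hz⟩
    rw [Subgroup.orderOf_mk] at hk
    have hz1' : z ≠ 1 := fun h => hz1 (Subtype.ext h)
    have hk0 : k ≠ 0 := fun h => hz1' (orderOf_eq_one_iff.1 (by rw [hk, h, pow_zero]))
    rcases hord z hz1' with h | h
    · have hrp : r = p := (Nat.prime_dvd_prime_iff_eq hr hp.out).1 (h ▸ hk ▸ dvd_pow_self r hk0)
      subst hrp
      exact forward hqp.symm hord htrans hqd hN hNr hN1
    · have hrq : r = q := (Nat.prime_dvd_prime_iff_eq hr hq').1 (h ▸ hk ▸ dvd_pow_self r hk0)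
      subst hrq
      exact forward hqp (fun g hg => (hord g hg).symm) htrans (Nat.minFac_dvd _) hN hNr hN1
  · rintro ⟨p, q, n, hp, hq, hpq, hn, hG, hsyl, hord, hfpf⟩
    classical
    obtain ⟨S⟩ : Nonempty (Sylow p G) := inferInstance
    obtain ⟨hnorm, hcomm, hexp⟩ := hsyl S
    have hSn : Nat.card (S : Subgroup G) = p ^ n := by
      rw [S.card_eq_multiplicity, hG, Nat.factorization_mul (pow_pos hp.out.pos n).ne' hq.out.ne_zero,
        Finsupp.add_apply, hp.out.factorization_pow, Finsupp.single_eq_same,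
        Nat.factorization_eq_zero_of_not_dvd fun h => hpq ((Nat.prime_dvd_prime_iff_eq hp.out hq.out).1 h), add_zero]
    have D : Data p q (S : Subgroup G) := ⟨hnorm, hcomm, hexp, hpq, ⟨n, hn, hSn, hG⟩, fun x y hx hy he => by
      by_contra hy1
      exact hfpf x y hx (orderOf_eq_prime (hexp y hy) hy1) he⟩
    obtain ⟨x, hx⟩ := exists_prime_orderOf_dvd_card' (G := G) q (hG ▸ dvd_mul_left q _)
    haveI : Nontrivial (S : Subgroup G) := Finite.one_lt_card_iff_nontrivial.1 (by
      rw [hSn]; exact Nat.one_lt_pow (by omega) hp.out.one_lt)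
    obtain ⟨⟨u, hu⟩, hu1⟩ := exists_ne (1 : (S : Subgroup G))
    have hu1' : u ≠ 1 := fun h => hu1 (Subtype.ext h)
    have hoq : ∀ g, g ∉ (S : Subgroup G) → orderOf g = q := by
      intro g hg
      haveI := hnorm
      have hidx : (S : Subgroup G).index = q := by
        have := Subgroup.card_mul_index (S : Subgroup G)
        rw [hSn, hG] at this
        exact Nat.eq_of_mul_eq_mul_left (pow_pos hp.out.pos n) this
      have hgq : g ^ q ∈ (S : Subgroup G) := hidx ▸ Subgroup.pow_index_mem _ g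
      rcases eq_or_ne (g ^ q) 1 with h1 | h1
      · exact orderOf_eq_prime h1 fun h => hg (h ▸ Subgroup.one_mem _)
      exfalso
      have hgpq : orderOf g ∣ p * q := orderOf_dvd_of_pow_eq_one (by rw [mul_comm, pow_mul, hexp _ hgq])
      have hne : g ^ p ≠ 1 := fun h => by
        have hd := orderOf_dvd_of_pow_eq_one h
        obtain ⟨Q, hQ⟩ := (IsPGroup.of_card (p := p) (G := Subgroup.zpowers g) (n := if orderOf g = 1 then 0 else 1) (by
          rw [Nat.card_zpowers]
          rcases (Nat.dvd_prime hp.out).1 hd with h' | h' <;> simp [h', hp.out.ne_one])).exists_le_sylow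
        haveI := Sylow.unique_of_normal S hnorm
        rw [Subsingleton.elim Q S] at hQ
        exact hg (hQ (Subgroup.mem_zpowers g))
      have hogp : orderOf (g ^ p) = q := orderOf_eq_prime (by
        rw [← pow_mul]; exact orderOf_dvd_iff_pow_eq_one.1 hgpq) hne
      refine h1 (D.fpf _ _ hogp hgq ?_)
      rw [mul_inv_eq_iff_eq_mul]
      exact ((Commute.refl g).pow_pow p q).eq
    haveI := Fintype.ofFinite (MulAction.orbitRel.Quotient (MulAut G) G)
    let π : G → MulAction.orbitRel.Quotient (MulAut G) G := Quotient.mk _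
    have hne : ∀ z w : G, orderOf z ≠ orderOf w → π z ≠ π w := by
      intro z w h he
      obtain ⟨φ, rfl⟩ : ∃ φ : MulAut G, φ w = z := Quotient.exact he
      exact h (MulEquiv.orderOf_eq φ w)
    have hou : orderOf u = p := orderOf_eq_prime (hexp u hu) hu1'
    have h1u : orderOf (1 : G) ≠ orderOf u := by rw [orderOf_one, hou]; exact hp.out.one_lt.ne
    have h1x : orderOf (1 : G) ≠ orderOf x := by rw [orderOf_one, hx]; exact hq.out.one_lt.ne
    have hux : orderOf u ≠ orderOf x := by rw [hou, hx]; exact hpq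
    have huniv : (Finset.univ : Finset (MulAction.orbitRel.Quotient (MulAut G) G)) = {π 1, π u, π x} := by
      refine Finset.ext fun c => ⟨fun _ => ?_, fun _ => Finset.mem_univ _⟩
      obtain ⟨g, rfl⟩ := Quotient.exists_rep c
      simp only [Finset.mem_insert, Finset.mem_singleton]
      rcases eq_or_ne g 1 with rfl | hg
      · exact Or.inl rfl
      by_cases hgS : g ∈ (S : Subgroup G)
      · obtain ⟨θ, -, hθ⟩ := D.exists_aut hord hx hx hu hu1' hgS hg
        exact Or.inr (Or.inl (Quotient.sound ⟨θ, hθ⟩))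
      · obtain ⟨θ, hθ, -⟩ := D.exists_aut hord hx (hoq g hgS) hu hu1' hu hu1'
        exact Or.inr (Or.inr (Quotient.sound ⟨θ, hθ⟩))
    rw [Nat.card_eq_fintype_card, ← Finset.card_univ, huniv, Finset.card_insert_of_notMem, Finset.card_pair (hne u x hux)]
    simp only [Finset.mem_insert, Finset.mem_singleton, not_or]
    exact ⟨hne _ _ h1u, hne _ _ h1x⟩

end Cfsg.Agent.S4081
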