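import Cfsg.Statements.S4082
import Cfsg.Agent.FGS.PByCyclic
import Cfsg.Agent.TwoGroups.Models
-- import your own Cfsg.Agent.* helpers here

set_option autoImplicit false
set_option linter.style.haveILetI false
open Cfsg

namespace Cfsg.Agent.S4082

open scoped Pointwise

theorem dihedral_dichotomy {p n : ℕ} [Fact p.Prime] (hp : p ≠ 2) (r x : DihedralGroup (p ^ n))
    (hr : ∃ k, r ^ p ^ k = 1) :
    x * r * x⁻¹ = r ∨ (orderOf x = 2 ∧ x * r * x⁻¹ = r⁻¹) := by
  obtain ⟨k, hk⟩ := hr
  rcases r with i | i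
  · rcases x with j | j
    · left
      rw [DihedralGroup.inv_r, DihedralGroup.r_mul_r, DihedralGroup.r_mul_r]; congr 1; ring
    · right
      refine ⟨DihedralGroup.orderOf_sr j, ?_⟩
      rw [DihedralGroup.inv_sr, DihedralGroup.sr_mul_r, DihedralGroup.sr_mul_sr, DihedralGroup.inv_r]
      congr 1; ring
  · exfalso
    have h := orderOf_dvd_of_pow_eq_one hk
    rw [DihedralGroup.orderOf_sr] at h
    exact hp ((Nat.prime_dvd_prime_iff_eq Nat.prime_two (Fact.out : p.Prime)).1
      (Nat.prime_two.dvd_of_dvd_pow h)).symm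

/-- Let p be an odd prime and G a finite group with Sylow p-subgroup P. Say that G has restricted p-by-cyclic subgroups when every subgroup H of G whose Sylow p-subgroup is normal in H with cyclic quotient is itself cyclic or dihedral of order 2pⁿ for some n. Then G has restricted p-by-cyclic subgroups if and only if P is cyclic and one of the following holds: (1) N_G(P) = C_G(P); or (2) N_G(P)/C_G(P) has order 2 and, for the subgroup Q of order p of P, the centralizer C_G(Q) is abelian and every element of N_G(Q) outside C_G(Q) is an involution inverting every element of C_G(Q). -/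
theorem result {G : Type*} [Group G] [Finite G] {p : ℕ}
    [Fact p.Prime] (hp : p ≠ 2) (P : Sylow p G) :
    (∀ H : Subgroup G, (∀ S : Sylow p ↥H, (S : Subgroup ↥H).Normal) →
        (∀ (S : Sylow p ↥H) [(S : Subgroup ↥H).Normal], IsCyclic (↥H ⧸ (S : Subgroup ↥H))) →
        IsCyclic H ∨ (∃ n : ℕ, Nonempty (H ≃* DihedralGroup (p ^ n)))) ↔
    (IsCyclic P ∧
      (Subgroup.normalizer ((P : Subgroup G) : Set G) = Subgroup.centralizer ((P : Subgroup G) : Set G) ∨
       ((Subgroup.centralizer ((P : Subgroup G) : Set G)).relIndex (Subgroup.normalizer ((P : Subgroup G) : Set G)) = 2 ∧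
        ∀ Q : Subgroup G, Q ≤ P → Nat.card Q = p →
          IsMulCommutative ↥(Subgroup.centralizer (Q : Set G)) ∧
          ∀ x : G, x ∈ Subgroup.normalizer (Q : Set G) → x ∉ Subgroup.centralizer (Q : Set G) →
            orderOf x = 2 ∧ ∀ c : G, c ∈ Subgroup.centralizer (Q : Set G) → x * c * x⁻¹ = c⁻¹))) := by
  classical
  set N := Subgroup.normalizer ((P : Subgroup G) : Set G) with hN
  set C := Subgroup.centralizer ((P : Subgroup G) : Set G) with hC
  constructor
  · intro h
    -- the basic dichotomy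
    have key : ∀ R : Subgroup G, IsPGroup p R → ∀ x ∈ Subgroup.normalizer (R : Set G),
        x ∈ Subgroup.centralizer (R : Set G) ∨ (orderOf x = 2 ∧ ∀ r ∈ R, x * r * x⁻¹ = r⁻¹) := by
      intro R hR x hx
      have hxH : x ∈ R ⊔ Subgroup.zpowers x := Subgroup.mem_sup_right (Subgroup.mem_zpowers x)
      obtain ⟨h1, h2⟩ := CfsgLib.FGS.sylow_normal_of_sup_zpowers hR hx
      rcases h (R ⊔ Subgroup.zpowers x) h1 h2 with hcyc | ⟨n, ⟨e⟩⟩
      · left
        refine Subgroup.mem_centralizer_iff.2 fun r hr => ?_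
        exact congrArg Subtype.val ((inferInstance : IsMulCommutative
          ↥(R ⊔ Subgroup.zpowers x)).is_comm.comm ⟨r, Subgroup.mem_sup_left hr⟩ ⟨x, hxH⟩)
      · have hr' : ∀ (r : G) (hr : r ∈ R), ∃ k, (e ⟨r, Subgroup.mem_sup_left hr⟩) ^ p ^ k = 1 := by
          intro r hr
          obtain ⟨k, hk⟩ := hR ⟨r, hr⟩
          refine ⟨k, ?_⟩
          rw [← map_pow, ← map_one e]
          exact congrArg e (Subtype.ext (by simpa using congrArg Subtype.val hk))
        by_cases hc : ∀ r ∈ R, x * r * x⁻¹ = r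
        · left
          exact Subgroup.mem_centralizer_iff.2 fun r hr => (mul_inv_eq_iff_eq_mul.1 (hc r hr)).symm
        · push Not at hc
          obtain ⟨r₀, hr₀, hne⟩ := hc
          have hcases : ∀ (r : G) (hr : r ∈ R), x * r * x⁻¹ = r ∨ (orderOf x = 2 ∧ x * r * x⁻¹ = r⁻¹) := by
            intro r hr
            rcases dihedral_dichotomy hp _ (e ⟨x, hxH⟩) (hr' r hr) with h3 | ⟨h3, h4⟩
            · left
              rw [← map_inv, ← map_mul, ← map_mul] at h3
              exact congrArg Subtype.val (e.injective h3)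
            · right
              rw [MulEquiv.orderOf_eq, Subgroup.orderOf_mk] at h3
              rw [← map_inv, ← map_inv, ← map_mul, ← map_mul] at h4
              exact ⟨h3, congrArg Subtype.val (e.injective h4)⟩
          obtain ⟨h5, -⟩ := (hcases r₀ hr₀).resolve_left hne
          right
          refine ⟨h5, fun r hr => ?_⟩
          -- `x` maps to a reflection
          rcases hex : e ⟨x, hxH⟩ with j | j
          · exfalso
            obtain ⟨k, hk⟩ := hr' r₀ hr₀
            rcases he0 : e ⟨r₀, Subgroup.mem_sup_left hr₀⟩ with i | i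
            · refine hne (congrArg Subtype.val (e.injective (?_ : e (⟨x, hxH⟩ *
                ⟨r₀, Subgroup.mem_sup_left hr₀⟩ * ⟨x, hxH⟩⁻¹) = e ⟨r₀, Subgroup.mem_sup_left hr₀⟩)))
              rw [map_mul, map_mul, map_inv, hex, he0, DihedralGroup.inv_r, DihedralGroup.r_mul_r,
                DihedralGroup.r_mul_r]
              congr 1; ring
            · rw [he0] at hk
              have h := orderOf_dvd_of_pow_eq_one hk
              rw [DihedralGroup.orderOf_sr] at h
              exact hp ((Nat.prime_dvd_prime_iff_eq Nat.prime_two (Fact.out : p.Prime)).1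
                (Nat.prime_two.dvd_of_dvd_pow h)).symm
          · obtain ⟨k, hk⟩ := hr' r hr
            rcases he0 : e ⟨r, Subgroup.mem_sup_left hr⟩ with i | i
            · refine congrArg Subtype.val (e.injective (?_ : e (⟨x, hxH⟩ *
                ⟨r, Subgroup.mem_sup_left hr⟩ * ⟨x, hxH⟩⁻¹) = e (⟨r, Subgroup.mem_sup_left hr⟩)⁻¹))
              rw [map_mul, map_mul, map_inv, map_inv, hex, he0, DihedralGroup.inv_sr,
                DihedralGroup.sr_mul_r, DihedralGroup.sr_mul_sr, DihedralGroup.inv_r]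
              congr 1; ring
            · rw [he0] at hk
              have h := orderOf_dvd_of_pow_eq_one hk
              rw [DihedralGroup.orderOf_sr] at h
              exact absurd ((Nat.prime_dvd_prime_iff_eq Nat.prime_two (Fact.out : p.Prime)).1
                (Nat.prime_two.dvd_of_dvd_pow h)).symm hp
    have hPcyc : IsCyclic (P : Subgroup G) := by
      obtain ⟨h1, h2⟩ := CfsgLib.FGS.sylow_normal_of_sup_zpowers (R := (P : Subgroup G)) (x := (1 : G))
        P.isPGroup' (Subgroup.one_mem _)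
      have hPeq : (P : Subgroup G) ⊔ Subgroup.zpowers (1 : G) = (P : Subgroup G) := by simp
      rw [hPeq] at h1 h2
      rcases h _ h1 h2 with hcyc | ⟨n, ⟨e⟩⟩
      · exact hcyc
      · exfalso
        obtain ⟨k, hk⟩ := P.isPGroup'.exists_card_eq
        have h3 : 2 ∣ p ^ k := by
          rw [← hk, Nat.card_congr e.toEquiv, DihedralGroup.nat_card]; exact dvd_mul_right _ _
        exact hp ((Nat.prime_dvd_prime_iff_eq Nat.prime_two (Fact.out : p.Prime)).1
          (Nat.prime_two.dvd_of_dvd_pow h3)).symm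
    refine ⟨hPcyc, ?_⟩
    by_cases hNC : N = C
    · exact Or.inl hNC
    right
    obtain ⟨a, haN, haC⟩ : ∃ a ∈ N, a ∉ C :=
      SetLike.not_le_iff_exists.1 fun hle => hNC (le_antisymm hle (Subgroup.centralizer_le_normalizer _))
    obtain ⟨-, hainv⟩ := (key _ P.isPGroup' a haN).resolve_left haC
    refine ⟨?_, fun Q hQP hQ => ?_⟩
    · rw [Subgroup.relIndex, Subgroup.index_eq_two_iff]
      refine ⟨⟨a, haN⟩, fun b => ?_⟩
      simp only [Subgroup.mem_subgroupOf, Subgroup.coe_mul]
      by_cases hb : (b : G) ∈ C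
      · exact Or.inr ⟨hb, fun h3 => haC ((Subgroup.mul_mem_cancel_left C hb).1 h3)⟩
      · refine Or.inl ⟨Subgroup.mem_centralizer_iff.2 fun r hr => ?_, hb⟩
        obtain ⟨-, hbinv⟩ := (key _ P.isPGroup' (b : G) b.2).resolve_left hb
        refine (mul_inv_eq_iff_eq_mul.1 ?_).symm
        calc (b : G) * a * r * ((b : G) * a)⁻¹ = (b : G) * (a * r * a⁻¹) * (b : G)⁻¹ := by group
          _ = r := by rw [hainv r hr, hbinv _ ((P : Subgroup G).inv_mem hr), inv_inv]
    · have hQp : IsPGroup p Q := P.isPGroup'.to_le hQP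
      have haQ : a ∈ Subgroup.normalizer (Q : Set G) ∧ a ∉ Subgroup.centralizer (Q : Set G) := by
        refine ⟨Subgroup.mem_normalizer_iff.2 fun r => ⟨fun hr => ?_, fun hr => ?_⟩, fun hc => ?_⟩
        · rw [hainv r (hQP hr)]; exact Q.inv_mem hr
        · have h3 : a⁻¹ * (a * r * a⁻¹) * a⁻¹⁻¹ = (a * r * a⁻¹)⁻¹ := by
            have := hainv (a * r * a⁻¹)⁻¹ ((P : Subgroup G).inv_mem (hQP hr))
            rw [inv_inv] at this
            conv_lhs => rw [← this]
            group
          have h4 : r = (a * r * a⁻¹)⁻¹ := by rw [← h3]; group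
          rw [h4]; exact Q.inv_mem hr
        · obtain ⟨⟨q, hq⟩, hq1⟩ := Subgroup.ne_bot_iff_exists_ne_one.1
            (fun e : Q = ⊥ => (Fact.out : p.Prime).ne_one (by rw [← hQ, e, Subgroup.card_bot]))
          have h1 := hainv q (hQP hq)
          rw [← Subgroup.mem_centralizer_iff.1 hc q hq, mul_inv_cancel_right] at h1
          have h2 : q ^ 2 = 1 := by rw [sq]; exact mul_eq_one_iff_eq_inv.2 h1
          have h3 : orderOf q ∣ p := hQ ▸ Q.orderOf_dvd_natCard hq
          exact hq1 (Subtype.ext (orderOf_eq_one_iff.1 (Nat.eq_one_of_dvd_coprimes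
            ((Nat.coprime_primes (Fact.out : p.Prime) Nat.prime_two).2 hp) h3
            (orderOf_dvd_of_pow_eq_one h2))))
      have hinv : ∀ x, x ∈ Subgroup.normalizer (Q : Set G) → x ∉ Subgroup.centralizer (Q : Set G) →
          orderOf x = 2 ∧ ∀ c ∈ Subgroup.centralizer (Q : Set G), x * c * x⁻¹ = c⁻¹ := by
        intro x hx hxc
        have h1 := ((key Q hQp x hx).resolve_left hxc).1
        refine ⟨h1, fun c hc => ?_⟩
        have h2 := ((key Q hQp (x * c) (Subgroup.mul_mem _ hx (Subgroup.centralizer_le_normalizer _ hc))).resolve_left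
          fun h3 => hxc ((Subgroup.mul_mem_cancel_right _ hc).1 h3)).1
        have hx2 : x⁻¹ = x := inv_eq_of_mul_eq_one_right (by
          rw [← sq, ← h1]; exact pow_orderOf_eq_one x)
        have h4 : (x * c) * (x * c) = 1 := by rw [← sq, ← h2]; exact pow_orderOf_eq_one _
        rw [hx2]
        calc x * c * x = (x * c) * (x * c) * c⁻¹ := by group
          _ = c⁻¹ := by rw [h4, one_mul]
      refine ⟨⟨⟨?_⟩⟩, hinv⟩
      rintro ⟨c, hc⟩ ⟨d, hd⟩
      refine Subtype.ext (inv_injective ?_)
      obtain ⟨-, hi⟩ := hinv a haQ.1 haQ.2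
      show (c * d)⁻¹ = (d * c)⁻¹
      rw [← hi _ (Subgroup.mul_mem _ hc hd), mul_inv_rev d c, ← hi c hc, ← hi d hd]
      group
  · rintro ⟨hPc, hcases⟩ H hnorm hcyc
    haveI := hPc
    -- the dichotomy inside `P`
    have claim : ∀ s ∈ (P : Subgroup G), ∀ x : G, (orderOf x).Coprime p →
        x * s * x⁻¹ ∈ Subgroup.zpowers s → Commute x s ∨ (orderOf x = 2 ∧ x * s * x⁻¹ = s⁻¹) := by
      intro s hs x hx hconj
      obtain ⟨k, hk⟩ := P.isPGroup' ⟨s, hs⟩
      obtain ⟨j, -, hj⟩ := (Nat.dvd_prime_pow (Fact.out : p.Prime)).1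
        (orderOf_dvd_of_pow_eq_one (congrArg Subtype.val hk : s ^ p ^ k = 1))
      rcases j with _ | n
      · rw [pow_zero, orderOf_eq_one_iff] at hj
        exact Or.inl (by rw [show s = 1 from hj]; exact Commute.one_right x)
      set z := s ^ p ^ n with hz
      have hzord : orderOf z = p := by
        rw [hz, orderOf_pow, hj, Nat.gcd_eq_right (pow_dvd_pow p (Nat.le_succ n)), pow_succ,
          Nat.mul_div_cancel_left _ (pow_pos (Fact.out : p.Prime).pos n)]
      set Q := Subgroup.zpowers z with hQ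
      have hQP : Q ≤ P := Subgroup.zpowers_le.2 ((P : Subgroup G).pow_mem hs _)
      have hPCQ : (P : Subgroup G) ≤ Subgroup.centralizer (Q : Set G) := fun r hr =>
        Subgroup.mem_centralizer_iff.2 fun q hq => congrArg Subtype.val
          ((inferInstance : IsMulCommutative (P : Subgroup G)).is_comm.comm ⟨q, hQP hq⟩ ⟨r, hr⟩)
      have hxz : x * z * x⁻¹ ∈ Q := by
        obtain ⟨i, hi⟩ := Subgroup.mem_zpowers_iff.1 hconj
        rw [hz, ← conj_pow, ← hi, ← zpow_natCast, ← zpow_mul, mul_comm, zpow_mul, zpow_natCast]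
        exact Subgroup.zpow_mem_zpowers _ i
      have hxQ : x ∈ Subgroup.normalizer (Q : Set G) := by
        refine Subgroup.mem_normalizer_fintype fun q hq => ?_
        obtain ⟨i, rfl⟩ := Subgroup.mem_zpowers_iff.1 hq
        rw [← conj_zpow]
        exact Subgroup.zpow_mem _ hxz i
      by_cases hxc : x ∈ Subgroup.centralizer (Q : Set G)
      · exact Or.inl (CfsgLib.FGS.commute_of_fixes_bottom hj hx hconj (by
          rw [← hz, ← Subgroup.mem_centralizer_iff.1 hxc z (Subgroup.mem_zpowers z), mul_inv_cancel_right]))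
      rcases hcases with h1 | ⟨-, h2⟩
      · exfalso
        refine hxc ?_
        set CQ := Subgroup.centralizer (Q : Set G)
        have hxP : ((MulAut.conj x • P : Sylow p G) : Subgroup G) ≤ CQ := by
          rintro _ ⟨r, hr, rfl⟩
          refine Subgroup.mem_centralizer_iff.2 fun q hq => ?_
          have hq' : x⁻¹ * q * x ∈ Q := by
            simpa using (Subgroup.mem_normalizer_iff.1 ((Subgroup.normalizer (Q : Set G)).inv_mem hxQ) q).1 hq
          have := Subgroup.mem_centralizer_iff.1 (hPCQ hr) _ hq'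
          show q * (x * r * x⁻¹) = x * r * x⁻¹ * q
          calc q * (x * r * x⁻¹) = x * ((x⁻¹ * q * x) * r) * x⁻¹ := by group
            _ = x * r * x⁻¹ * q := by rw [this]; group
        obtain ⟨c, hc⟩ := MulAction.exists_smul_eq CQ ((MulAut.conj x • P).subtype hxP) (P.subtype hPCQ)
        have hcx : (c : G) * x ∈ N := by
          refine Subgroup.mem_normalizer_fintype fun r hr => ?_
          have h3 : (⟨x * r * x⁻¹, hxP ⟨r, hr, rfl⟩⟩ : CQ) ∈
              (((MulAut.conj x • P).subtype hxP : Sylow p CQ) : Subgroup CQ) := ⟨r, hr, rfl⟩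
          have h4 : c * ⟨x * r * x⁻¹, hxP ⟨r, hr, rfl⟩⟩ * c⁻¹ ∈
              ((c • (MulAut.conj x • P).subtype hxP : Sylow p CQ) : Subgroup CQ) := ⟨_, h3, rfl⟩
          rw [hc] at h4
          have h5 : (c : G) * (x * r * x⁻¹) * (c : G)⁻¹ ∈ (P : Subgroup G) := h4
          rw [SetLike.mem_coe, show (c : G) * x * r * ((c : G) * x)⁻¹ = (c : G) * (x * r * x⁻¹) * (c : G)⁻¹ by group]
          exact h5
        have h6 : (c : G) * x ∈ CQ := by
          refine Subgroup.mem_centralizer_iff.2 fun q hq => ?_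
          rw [h1] at hcx
          exact Subgroup.mem_centralizer_iff.1 hcx q (hQP hq)
        exact (Subgroup.mul_mem_cancel_left CQ c.2).1 h6
      · obtain ⟨-, h3⟩ := h2 Q hQP (by rw [Nat.card_zpowers, hzord])
        obtain ⟨h4, h5⟩ := h3 x hxQ hxc
        exact Or.inr ⟨h4, h5 s (hPCQ hs)⟩
    obtain ⟨S⟩ : Nonempty (Sylow p H) := inferInstance
    haveI := hnorm S
    haveI := hcyc S
    obtain ⟨x, hx, htop⟩ := CfsgLib.FGS.exists_coprime_generator S
    obtain ⟨T, hT⟩ := (S.isPGroup'.map H.subtype).exists_le_sylow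
    obtain ⟨g, hg⟩ := MulAction.exists_smul_eq G T P
    have hmemP : ∀ s ∈ (S : Subgroup H), g * (s : G) * g⁻¹ ∈ (P : Subgroup G) := fun s hs => by
      rw [← hg]; exact ⟨(s : G), hT ⟨s, hs, rfl⟩, rfl⟩
    haveI : IsCyclic (S : Subgroup H) := isCyclic_of_injective
      (((MulAut.conj g).toMonoidHom.comp (H.subtype.comp (S : Subgroup H).subtype)).codRestrict
        (P : Subgroup G) fun s => hmemP s.1 s.2)
      (fun a b hab => by
        have h1 : MulAut.conj g ((a : H) : G) = MulAut.conj g ((b : H) : G) := congrArg Subtype.val hab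
        exact Subtype.ext (Subtype.ext ((MulAut.conj g).injective h1)))
    obtain ⟨⟨s, hs⟩, hgen⟩ := IsCyclic.exists_generator (α := (S : Subgroup H))
    have hgen' : (S : Subgroup H) ≤ Subgroup.zpowers s := fun t ht => by
      obtain ⟨i, hi⟩ := Subgroup.mem_zpowers_iff.1 (hgen ⟨t, ht⟩)
      exact ⟨i, congrArg Subtype.val hi⟩
    obtain ⟨i, hi⟩ := Subgroup.mem_zpowers_iff.1 (hgen' ((hnorm S).conj_mem s hs x))
    rcases claim _ (hmemP s hs) (g * (x : G) * g⁻¹)
        (by rwa [← MulAut.conj_apply, MulEquiv.orderOf_eq, Subgroup.orderOf_coe])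
        ⟨i, by
          show (g * (s : G) * g⁻¹) ^ i = _
          rw [conj_zpow, ← Subgroup.coe_zpow, hi]; push_cast; group⟩ with hc | ⟨hx2, hxs⟩
    · left
      refine CfsgLib.FGS.isCyclic_of_commute S.isPGroup' hx htop fun t ht => ?_
      obtain ⟨j, rfl⟩ := Subgroup.mem_zpowers_iff.1 (hgen' ht)
      refine Commute.zpow_right (Subtype.ext ?_) j
      have h1 : g * ((x : G) * s) * g⁻¹ = g * ((s : G) * x) * g⁻¹ := by
        calc g * ((x : G) * s) * g⁻¹ = (g * x * g⁻¹) * (g * s * g⁻¹) := by group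
          _ = (g * s * g⁻¹) * (g * x * g⁻¹) := hc.eq
          _ = g * ((s : G) * x) * g⁻¹ := by group
      exact mul_left_cancel (mul_right_cancel h1)
    · right
      rw [← MulAut.conj_apply, MulEquiv.orderOf_eq, Subgroup.orderOf_coe] at hx2
      obtain ⟨k, hk⟩ := S.isPGroup'.exists_card_eq
      have hsord : orderOf s = p ^ k := by
        rw [← hk, ← orderOf_eq_card_of_forall_mem_zpowers hgen]; exact (Subgroup.orderOf_mk s hs).symm
      have hxS : x ∉ (S : Subgroup H) := fun h1 => by
        have h2 := (S : Subgroup H).orderOf_dvd_natCard h1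
        rw [hx2, hk] at h2
        exact hp ((Nat.prime_dvd_prime_iff_eq Nat.prime_two (Fact.out : p.Prime)).1
          (Nat.prime_two.dvd_of_dvd_pow h2)).symm
      have hidx : (S : Subgroup H).index = 2 := by
        rw [Subgroup.index_eq_card, ← orderOf_eq_card_of_forall_mem_zpowers
          (g := (x : H ⧸ (S : Subgroup H))) fun q => ?_]
        · rcases (Nat.dvd_prime Nat.prime_two).1 (hx2 ▸ orderOf_map_dvd (QuotientGroup.mk' (S : Subgroup H)) x) with h1 | h1
          · exact absurd ((QuotientGroup.eq_one_iff x).1 (orderOf_eq_one_iff.1 h1)) hxS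
          · exact h1
        · obtain ⟨z, rfl⟩ := QuotientGroup.mk_surjective q
          obtain ⟨r, hr, w, hw, rfl⟩ := Subgroup.mem_sup_of_normal_left.1 (htop ▸ Subgroup.mem_top z)
          obtain ⟨j, rfl⟩ := Subgroup.mem_zpowers_iff.1 hw
          rw [QuotientGroup.mk_mul, (QuotientGroup.eq_one_iff r).2 hr, one_mul, QuotientGroup.mk_zpow]
          exact Subgroup.zpow_mem_zpowers _ j
      obtain ⟨e⟩ := CfsgLib.TwoGroups.nonempty_equiv_dihedral (H := (⊤ : Subgroup H)) (a := s) (b := x)
        (Subgroup.mem_top _) (Subgroup.mem_top _) hsord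
        (by rw [← sq, ← hx2, pow_orderOf_eq_one])
        (Subtype.ext (by
          have h1 : MulAut.conj g ((x : G) * s * (x : G)⁻¹) = MulAut.conj g (s : G)⁻¹ := by
            simp only [map_mul, map_inv, MulAut.conj_apply]; exact hxs
          simpa using (MulAut.conj g).injective h1))
        (fun h1 => hxS ((Subgroup.zpowers_le.2 hs) h1))
        (by rw [Subgroup.card_top, ← (S : Subgroup H).card_mul_index, hk, hidx, mul_comm])
      exact ⟨k, ⟨Subgroup.topEquiv.symm.trans e⟩⟩

end Cfsg.Agent.S4082
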