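import Cfsg.Statements.S4083
import Cfsg.Agent.FGS.PByCyclic
import Cfsg.Agent.TwoGroups.Models
import Cfsg.Agent.Small.Dihedral
-- import your own Cfsg.Agent.* helpers here

set_option autoImplicit false
set_option linter.style.haveILetI false
open Cfsg

namespace Cfsg.Agent.S4083

open scoped Pointwise

theorem dihedral_not_abelian {n : ℕ}
    (h : ∀ u v : DihedralGroup (2 ^ n), u * v = v * u) : n ≤ 1 := by
  have h1 := h (DihedralGroup.r 1) (DihedralGroup.sr 0)
  rw [DihedralGroup.r_mul_sr, DihedralGroup.sr_mul_r, DihedralGroup.sr.injEq, zero_sub, zero_add,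
    neg_eq_iff_add_eq_zero] at h1
  have h2 : ((2 : ℕ) : ZMod (2 ^ n)) = 0 := by rw [← h1, Nat.cast_ofNat]; norm_num
  rw [ZMod.natCast_eq_zero_iff] at h2
  by_contra hn
  have h3 := (pow_le_pow_right₀ (by norm_num : 1 ≤ 2) (show 2 ≤ n by omega)).trans
    (Nat.le_of_dvd (by norm_num) h2)
  norm_num at h3

theorem alternating_four_not_abelian :
    ¬ ∀ u v : alternatingGroup (Fin 4), u * v = v * u := by
  decide

/-- Rotations and reflections in a copy of a dihedral group. -/
theorem exists_rotation {G : Type*} [Group G] {T : Subgroup G} {m : ℕ}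
    (e : T ≃* DihedralGroup m) :
    ∃ a ∈ T, (∀ t ∈ T, t ∉ Subgroup.zpowers a → t * t = 1 ∧ t * a * t⁻¹ = a⁻¹) ∧
      ∀ t ∈ T, ∀ u ∈ T, t ∉ Subgroup.zpowers a → u ∉ Subgroup.zpowers a →
        t * u ∈ Subgroup.zpowers a := by
  set a : T := e.symm (DihedralGroup.r 1) with ha
  have hr : ∀ (t : T) (i : ZMod m), e t = DihedralGroup.r i → (t : G) ∈ Subgroup.zpowers (a : G) := by
    intro t i hi
    refine ⟨(i.cast : ℤ), ?_⟩
    show (a : G) ^ (i.cast : ℤ) = t
    rw [← Subgroup.coe_zpow]
    congr 1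
    apply e.injective
    rw [map_zpow, ha, MulEquiv.apply_symm_apply, hi, DihedralGroup.r_one_zpow, ZMod.intCast_zmod_cast]
  have hs : ∀ (t : G) (ht : t ∈ T), t ∉ Subgroup.zpowers (a : G) → ∃ i, e ⟨t, ht⟩ = DihedralGroup.sr i := by
    intro t ht hta
    rcases hex : e ⟨t, ht⟩ with i | i
    · exact absurd (hr _ i hex) hta
    · exact ⟨i, rfl⟩
  refine ⟨a, a.2, fun t ht hta => ?_, fun t ht u hu hta hua => ?_⟩
  · obtain ⟨i, hi⟩ := hs t ht hta
    refine ⟨congrArg Subtype.val (e.injective ?_ : (⟨t, ht⟩ * ⟨t, ht⟩ : T) = 1),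
      congrArg Subtype.val (e.injective ?_ : (⟨t, ht⟩ * a * ⟨t, ht⟩⁻¹ : T) = a⁻¹)⟩
    · rw [map_mul, map_one, hi, DihedralGroup.sr_mul_self]
    · rw [map_mul, map_mul, map_inv, map_inv, hi, ha, MulEquiv.apply_symm_apply, DihedralGroup.inv_sr,
        DihedralGroup.sr_mul_r, DihedralGroup.sr_mul_sr, DihedralGroup.inv_r]
      congr 1; ring
  · obtain ⟨i, hi⟩ := hs t ht hta
    obtain ⟨j, hj⟩ := hs u hu hua
    exact hr (⟨t, ht⟩ * ⟨u, hu⟩) (j - i) (by rw [map_mul, hi, hj, DihedralGroup.sr_mul_sr])

/-- An element of odd order normalising a cyclic `2`-group centralises it. -/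
theorem commute_of_odd {G : Type*} [Group G] [Finite G] {s x : G} {k : ℕ}
    (hs : orderOf s = 2 ^ k) (hx : (orderOf x).Coprime 2)
    (hconj : x * s * x⁻¹ ∈ Subgroup.zpowers s) : Commute x s := by
  rcases k with _ | n
  · rw [pow_zero, orderOf_eq_one_iff] at hs
    rw [hs]; exact Commute.one_right x
  haveI : Fact (Nat.Prime 2) := ⟨Nat.prime_two⟩
  refine CfsgLib.FGS.commute_of_fixes_bottom hs hx hconj ?_
  set z := s ^ 2 ^ n with hz
  have hzord : orderOf z = 2 := by
    rw [hz, orderOf_pow, hs, Nat.gcd_eq_right (pow_dvd_pow 2 (Nat.le_succ n)), pow_succ,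
      Nat.mul_div_cancel_left _ (pow_pos Nat.two_pos n)]
  obtain ⟨i, hi⟩ := Subgroup.mem_zpowers_iff.1 hconj
  have h1 : x * z * x⁻¹ = z ^ i := by
    rw [hz, ← conj_pow, ← hi, ← zpow_natCast, ← zpow_mul, mul_comm, zpow_mul, zpow_natCast]
  rw [h1]
  rcases Int.even_or_odd i with ⟨j, hj⟩ | ⟨j, hj⟩
  · exfalso
    rw [hj, ← two_mul, zpow_mul, zpow_ofNat, show z ^ 2 = 1 by rw [← hzord, pow_orderOf_eq_one],
      one_zpow, conj_eq_one_iff] at h1
    rw [h1, orderOf_one] at hzord
    omega
  · rw [hj, zpow_add, zpow_mul, zpow_ofNat, show z ^ 2 = 1 by rw [← hzord, pow_orderOf_eq_one],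
      one_zpow, one_mul, zpow_one]

/-- A group of order `12` with a normal subgroup of order `4` not centralised by an element of order
`3` is the alternating group. -/
theorem equiv_alternating {H : Type*} [Group H] [Finite H] {S : Subgroup H} [S.Normal] {x : H}
    (hS : Nat.card S = 4) (hx : orderOf x = 3) (hc : Nat.card H = 12)
    (hnc : ∃ s ∈ S, x * s ≠ s * x) : Nonempty (H ≃* alternatingGroup (Fin 4)) := by
  classical
  set X := Subgroup.zpowers x with hX
  have hXc : Nat.card X = 3 := by rw [hX, Nat.card_zpowers, hx]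
  have hidx : X.index = 4 := by
    have := X.card_mul_index
    rw [hXc, hc] at this
    omega
  have hcore : X.normalCore = ⊥ := by
    haveI : Fact (Nat.Prime 3) := ⟨by norm_num⟩
    rcases (Nat.dvd_prime (by norm_num : Nat.Prime 3)).1 (hXc ▸ Subgroup.card_dvd_of_le X.normalCore_le) with h | h
    · exact Subgroup.card_eq_one.1 h
    · exfalso
      have he : X.normalCore = X := Subgroup.eq_of_le_of_card_ge X.normalCore_le (by rw [h, hXc])
      haveI hXn : X.Normal := he ▸ X.normalCore_normal
      obtain ⟨s, hs, hne⟩ := hnc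
      refine hne ((Subgroup.commute_of_normal_of_disjoint X S hXn inferInstance ?_ x s
        (Subgroup.mem_zpowers x) hs).eq)
      rw [disjoint_iff]
      exact Subgroup.card_eq_one.1 (Nat.eq_one_of_dvd_coprimes (by norm_num : Nat.Coprime 3 4)
        (hXc ▸ Subgroup.card_dvd_of_le inf_le_left) (hS ▸ Subgroup.card_dvd_of_le inf_le_right))
  have h4c : Nat.card (H ⧸ X) = 4 := by rw [← Subgroup.index_eq_card, hidx]
  haveI := Fintype.ofFinite (H ⧸ X)
  let eq4 : (H ⧸ X) ≃ Fin 4 := (Finite.equivFin (H ⧸ X)).trans (finCongr h4c)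
  let f : H →* Equiv.Perm (Fin 4) :=
    (Equiv.permCongrHom eq4).toMonoidHom.comp (MulAction.toPermHom H (H ⧸ X))
  have hf : Function.Injective f := by
    refine (Equiv.permCongrHom eq4).injective.comp ((MonoidHom.ker_eq_bot_iff _).1 ?_)
    rw [← Subgroup.normalCore_eq_ker, hcore]
  have hr : f.range = alternatingGroup (Fin 4) := by
    refine Equiv.Perm.eq_alternatingGroup_of_index_eq_two ?_
    have h1 := f.range.card_mul_index
    rw [← Nat.card_congr (MonoidHom.ofInjective hf).toEquiv, hc, Nat.card_perm, Nat.card_fin] at h1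
    have : (4 : ℕ).factorial = 24 := rfl
    omega
  exact ⟨(MonoidHom.ofInjective hf).trans (MulEquiv.subgroupCongr hr)⟩

/-- Let G be a finite group with Sylow 2-subgroup P. Every subgroup H of G whose Sylow 2-subgroup is normal in H with cyclic quotient is cyclic, dihedral of 2-power order, or isomorphic to the alternating group of degree 4, if and only if either P is cyclic, or P is dihedral (of order at least 4) and every elementary abelian subgroup K of order 4 of P satisfies C_G(K) = K. -/
theorem result {G : Type*} [Group G] [Finite G] (P : Sylow 2 G) :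
    (∀ H : Subgroup G, (∀ S : Sylow 2 ↥H, (S : Subgroup ↥H).Normal) →
        (∀ (S : Sylow 2 ↥H) [(S : Subgroup ↥H).Normal], IsCyclic (↥H ⧸ (S : Subgroup ↥H))) →
        IsCyclic H ∨ (∃ n : ℕ, Nonempty (H ≃* DihedralGroup (2 ^ n))) ∨ Nonempty (H ≃* alternatingGroup (Fin 4))) ↔
    (IsCyclic P ∨
      ((∃ n : ℕ, 1 ≤ n ∧ Nonempty ((P : Subgroup G) ≃* DihedralGroup (2 ^ n))) ∧
        ∀ K : Subgroup G, K ≤ P → Nat.card K = 4 → (∀ k ∈ K, k ^ 2 = 1) → Subgroup.centralizer (K : Set G) = K)) := by
  classical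
  haveI : Fact (Nat.Prime 2) := ⟨Nat.prime_two⟩
  constructor
  · intro h
    have hP : IsCyclic (P : Subgroup G) ∨
        ∃ n : ℕ, 1 ≤ n ∧ Nonempty ((P : Subgroup G) ≃* DihedralGroup (2 ^ n)) := by
      obtain ⟨h1, h2⟩ := CfsgLib.FGS.sylow_normal_of_sup_zpowers (R := (P : Subgroup G)) (x := (1 : G))
        P.isPGroup' (Subgroup.one_mem _)
      have hPeq : (P : Subgroup G) ⊔ Subgroup.zpowers (1 : G) = (P : Subgroup G) := by simp
      rw [hPeq] at h1 h2
      rcases h _ h1 h2 with hcyc | ⟨n, ⟨e⟩⟩ | ⟨⟨e⟩⟩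
      · exact Or.inl hcyc
      · rcases Nat.eq_zero_or_pos n with rfl | hn
        · left
          haveI : Fact (Nat.Prime 2) := ⟨Nat.prime_two⟩
          exact isCyclic_of_prime_card (p := 2) (by rw [Nat.card_congr e.toEquiv, DihedralGroup.nat_card]; rfl)
        · exact Or.inr ⟨n, hn, ⟨e⟩⟩
      · exfalso
        obtain ⟨k, hk⟩ := P.isPGroup'.exists_card_eq
        have h3 : 3 ∣ 2 ^ k := by
          rw [← hk, Nat.card_congr e.toEquiv]
          rw [nat_card_alternatingGroup, Nat.card_fin]
          exact ⟨4, rfl⟩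
        have := (Nat.prime_dvd_prime_iff_eq Nat.prime_three Nat.prime_two).1 (Nat.prime_three.dvd_of_dvd_pow h3)
        omega
    refine hP.imp id fun hd => ⟨hd, fun K hKP hK hsq => le_antisymm (fun c hc => ?_) (fun k hk => ?_)⟩
    · have hcN : c ∈ Subgroup.normalizer (K : Set G) := Subgroup.centralizer_le_normalizer _ hc
      obtain ⟨h1, h2⟩ := CfsgLib.FGS.sylow_normal_of_sup_zpowers (P.isPGroup'.to_le hKP) hcN
      have hcom : ∀ k ∈ K, Commute k c := fun k hk => Subgroup.mem_centralizer_iff.1 hc k hk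
      have hKc : K ≤ Subgroup.centralizer (K : Set G) := by
        intro a ha
        refine Subgroup.mem_centralizer_iff.2 fun b hb => ?_
        have h3 := hsq _ (K.mul_mem hb ha)
        have h4 := hsq _ hb
        have h5 := hsq _ ha
        rw [sq] at h3 h4 h5
        have hb' : b⁻¹ = b := inv_eq_of_mul_eq_one_right h4
        have ha' : a⁻¹ = a := inv_eq_of_mul_eq_one_right h5
        calc b * a = (b * a)⁻¹ := (inv_eq_of_mul_eq_one_right h3).symm
          _ = a * b := by rw [mul_inv_rev, ha', hb']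
      have hHab : IsMulCommutative ↥(K ⊔ Subgroup.zpowers c) := by
        have hle : K ⊔ Subgroup.zpowers c ≤ Subgroup.centralizer ((K ⊔ Subgroup.zpowers c : Subgroup G) : Set G) := by
          refine sup_le (Subgroup.le_centralizer_iff.1 (sup_le hKc (Subgroup.zpowers_le.2 hc))) ?_
          refine Subgroup.zpowers_le.2 (Subgroup.le_centralizer_iff.1
            (sup_le (fun k hk => Subgroup.mem_centralizer_iff.2 fun d hd => ?_) (Subgroup.zpowers_le.2 ?_))
            (Subgroup.mem_zpowers c))
          · obtain ⟨i, rfl⟩ := Subgroup.mem_zpowers_iff.1 hd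
            exact ((hcom k hk).zpow_right i).eq.symm
          · refine Subgroup.mem_centralizer_iff.2 fun d hd => ?_
            obtain ⟨i, rfl⟩ := Subgroup.mem_zpowers_iff.1 hd
            exact (Commute.zpow_self c i).eq
        exact ⟨⟨fun u v => Subtype.ext ((Subgroup.mem_centralizer_iff.1 (hle v.2) u u.2))⟩⟩
      rcases h _ h1 h2 with hcyc | ⟨n, ⟨e⟩⟩ | ⟨⟨e⟩⟩
      · exfalso
        haveI := Fintype.ofFinite ↥(K ⊔ Subgroup.zpowers c)
        haveI := Fintype.ofFinite K
        have h3 := IsCyclic.card_pow_eq_one_le (α := ↥(K ⊔ Subgroup.zpowers c)) two_pos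
        have h4 := (Finset.card_le_card_of_injOn (s := (Finset.univ : Finset K))
          (fun k => (⟨k, Subgroup.mem_sup_left k.2⟩ : ↥(K ⊔ Subgroup.zpowers c))) ?_ ?_).trans h3
        · rw [Finset.card_univ, ← Nat.card_eq_fintype_card, hK] at h4
          omega
        · intro k _
          rw [Finset.mem_coe, Finset.mem_filter]
          exact ⟨Finset.mem_univ _, Subtype.ext (by simpa using hsq k k.2)⟩
        · intro a _ b _ hab
          exact Subtype.ext (congrArg Subtype.val hab :)
      · have hn : n ≤ 1 := dihedral_not_abelian fun u v => e.symm.injective (by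
          rw [map_mul, map_mul, hHab.is_comm.comm])
        have h3 : Nat.card ↥(K ⊔ Subgroup.zpowers c) ≤ Nat.card K := by
          rw [Nat.card_congr e.toEquiv, DihedralGroup.nat_card, hK]
          have := pow_le_pow_right₀ (by norm_num : 1 ≤ 2) hn
          omega
        rw [Subgroup.eq_of_le_of_card_ge (le_sup_left : K ≤ K ⊔ Subgroup.zpowers c) h3]
        exact Subgroup.mem_sup_right (Subgroup.mem_zpowers c)
      · exact absurd (fun u v => e.symm.injective (by rw [map_mul, map_mul, hHab.is_comm.comm]))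
          alternating_four_not_abelian
    · refine Subgroup.mem_centralizer_iff.2 fun b hb => ?_
      have h3 := hsq _ (K.mul_mem hb hk)
      have hb' : b⁻¹ = b := inv_eq_of_mul_eq_one_right (by rw [← sq]; exact hsq b hb)
      have hk' : k⁻¹ = k := inv_eq_of_mul_eq_one_right (by rw [← sq]; exact hsq k hk)
      rw [sq] at h3
      calc b * k = (b * k)⁻¹ := (inv_eq_of_mul_eq_one_right h3).symm
        _ = k * b := by rw [mul_inv_rev, hb', hk']
  · intro hcase H hnorm hcyc
    obtain ⟨S⟩ : Nonempty (Sylow 2 H) := inferInstance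
    haveI := hnorm S
    haveI := hcyc S
    obtain ⟨x, hx, htop⟩ := CfsgLib.FGS.exists_coprime_generator S
    have hcyclic : ∀ (s : H), s ∈ (S : Subgroup H) → (S : Subgroup H) ≤ Subgroup.zpowers s → IsCyclic H := by
      intro s hs hle
      haveI : IsCyclic (S : Subgroup H) := by
        refine ⟨⟨⟨s, hs⟩, fun t => ?_⟩⟩
        obtain ⟨i, hi⟩ := Subgroup.mem_zpowers_iff.1 (hle t.2)
        exact ⟨i, Subtype.ext (by simpa using hi)⟩
      obtain ⟨k, hk⟩ := S.isPGroup' ⟨s, hs⟩
      obtain ⟨j, -, hj⟩ := (Nat.dvd_prime_pow Nat.prime_two).1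
        (orderOf_dvd_of_pow_eq_one (congrArg Subtype.val hk : s ^ 2 ^ k = 1))
      refine CfsgLib.FGS.isCyclic_of_commute S.isPGroup' hx htop fun t ht => ?_
      obtain ⟨i, rfl⟩ := Subgroup.mem_zpowers_iff.1 (hle ht)
      exact Commute.zpow_right (commute_of_odd hj hx (hle ((hnorm S).conj_mem s hs x))) i
    set S' := (S : Subgroup H).map H.subtype with hS'
    obtain ⟨T, hT⟩ := (S.isPGroup'.map H.subtype).exists_le_sylow
    obtain ⟨g, hg⟩ := MulAction.exists_smul_eq G T P
    let eT : (T : Subgroup G) ≃* (P : Subgroup G) :=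
      (Subgroup.equivSMul (MulAut.conj g) (T : Subgroup G)).trans
        (MulEquiv.subgroupCongr (by rw [← hg]; rfl))
    have hST : ∀ s ∈ (S : Subgroup H), (s : G) ∈ (T : Subgroup G) := fun s hs => hT ⟨s, hs, rfl⟩
    rcases hcase with hPc | ⟨⟨n, hn, ⟨eP⟩⟩, hK⟩
    · left
      haveI : IsCyclic (S : Subgroup H) := isCyclic_of_injective
        ((eT.toMonoidHom.comp ((H.subtype.comp (S : Subgroup H).subtype).codRestrict (T : Subgroup G)
          fun s => hST s.1 s.2)))
        (fun a b hab => Subtype.ext (Subtype.ext (congrArg Subtype.val (eT.injective hab) :)))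
      obtain ⟨⟨s, hs⟩, hgen⟩ := IsCyclic.exists_generator (α := (S : Subgroup H))
      refine hcyclic s hs fun t ht => ?_
      obtain ⟨i, hi⟩ := Subgroup.mem_zpowers_iff.1 (hgen ⟨t, ht⟩)
      exact ⟨i, congrArg Subtype.val hi⟩
    -- centralisers of four groups of `T`
    have hKT : ∀ K : Subgroup G, K ≤ (T : Subgroup G) → Nat.card K = 4 → (∀ k ∈ K, k ^ 2 = 1) →
        ∀ c ∈ Subgroup.centralizer (K : Set G), c ∈ K := by
      intro K hKT hK4 hsq c hc
      have h1 := hK (K.map (MulAut.conj g).toMonoidHom)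
        (by rw [← hg]; exact Subgroup.map_mono hKT)
        (by rw [Subgroup.card_map_of_injective (MulEquiv.injective _), hK4])
        (by rintro _ ⟨k, hk, rfl⟩; rw [← map_pow, hsq k hk, map_one])
      have h2 : MulAut.conj g c ∈ Subgroup.centralizer ((K.map (MulAut.conj g).toMonoidHom : Subgroup G) : Set G) := by
        refine Subgroup.mem_centralizer_iff.2 ?_
        rintro _ ⟨k, hk, rfl⟩
        show MulAut.conj g k * MulAut.conj g c = MulAut.conj g c * MulAut.conj g k
        rw [← map_mul, ← map_mul, Subgroup.mem_centralizer_iff.1 hc k hk]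
      rw [h1] at h2
      exact (Subgroup.mem_map_iff_mem (MulEquiv.injective _)).1 h2
    obtain ⟨a, -, hinv, hprod⟩ := exists_rotation (eT.trans eP)
    set R : Subgroup H := (S : Subgroup H) ⊓ (Subgroup.zpowers a).comap H.subtype with hR
    haveI : IsCyclic R := isCyclic_of_injective
      ((H.subtype.comp R.subtype).codRestrict (Subgroup.zpowers a) fun r => r.2.2)
      (fun u v huv => Subtype.ext (Subtype.ext (congrArg Subtype.val huv :)))
    obtain ⟨⟨r, hrR⟩, hgen⟩ := IsCyclic.exists_generator (α := R)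
    have hgen' : R ≤ Subgroup.zpowers r := fun t ht => by
      obtain ⟨i, hi⟩ := Subgroup.mem_zpowers_iff.1 (hgen ⟨t, ht⟩)
      exact ⟨i, congrArg Subtype.val hi⟩
    by_cases hSR : (S : Subgroup H) ≤ R
    · exact Or.inl (hcyclic r hrR.1 (hSR.trans hgen'))
    obtain ⟨b, hbS, hbR⟩ := SetLike.not_le_iff_exists.1 hSR
    have hba : (b : G) ∉ Subgroup.zpowers a := fun h => hbR ⟨hbS, h⟩
    obtain ⟨hb2, hbinv⟩ := hinv b (hST b hbS) hba
    have hbb : b * b = 1 := Subtype.ext hb2
    have hsplit : ∀ t ∈ (S : Subgroup H), t ∈ R ∨ t * b ∈ R := by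
      intro t ht
      by_cases hta : (t : G) ∈ Subgroup.zpowers a
      · exact Or.inl ⟨ht, hta⟩
      · exact Or.inr ⟨(S : Subgroup H).mul_mem ht hbS, hprod t (hST t ht) b (hST b hbS) hta hba⟩
    rcases eq_or_ne r 1 with rfl | hr1
    · left
      refine hcyclic b hbS fun t ht => ?_
      rcases hsplit t ht with h | h
      · have := hgen' h
        rw [Subgroup.zpowers_one_eq_bot, Subgroup.mem_bot] at this
        exact this ▸ Subgroup.one_mem _
      · have := hgen' h
        rw [Subgroup.zpowers_one_eq_bot, Subgroup.mem_bot] at this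
        rw [eq_inv_of_mul_eq_one_left this]
        exact Subgroup.inv_mem _ (Subgroup.mem_zpowers b)
    have hrinv : b * r * b⁻¹ = r⁻¹ := by
      obtain ⟨i, hi⟩ := Subgroup.mem_zpowers_iff.1 hrR.2
      refine Subtype.ext ?_
      show (b : G) * H.subtype r * (b : G)⁻¹ = (H.subtype r)⁻¹
      rw [← hi, ← conj_zpow, hbinv, inv_zpow]
    obtain ⟨k, hk⟩ := S.isPGroup' ⟨r, hrR.1⟩
    obtain ⟨j, -, hj⟩ := (Nat.dvd_prime_pow Nat.prime_two).1
      (orderOf_dvd_of_pow_eq_one (congrArg Subtype.val hk : r ^ 2 ^ k = 1))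
    obtain ⟨m, rfl⟩ : ∃ m, j = m + 1 := Nat.exists_eq_succ_of_ne_zero fun h => hr1 (by
      rw [h, pow_zero, orderOf_eq_one_iff] at hj; exact hj)
    set z := r ^ 2 ^ m with hz
    have hzord : orderOf z = 2 := by
      rw [hz, orderOf_pow, hj, Nat.gcd_eq_right (pow_dvd_pow 2 (Nat.le_succ m)), pow_succ,
        Nat.mul_div_cancel_left _ (pow_pos Nat.two_pos m)]
    have hbord : orderOf (b : G) = 2 := orderOf_eq_prime (by rw [sq]; exact hb2)
      (fun h => hba (h ▸ Subgroup.one_mem _))
    have hzG : orderOf (z : G) = 2 := by rw [Subgroup.orderOf_coe, hzord]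
    have hzz : (z : G)⁻¹ = z := inv_eq_of_mul_eq_one_right (by rw [← sq, ← hzG]; exact pow_orderOf_eq_one _)
    have hzb : (z : G) * b = b * z := by
      have h1 : b * z * b⁻¹ = z⁻¹ := by rw [hz, ← conj_pow, hrinv, inv_pow]
      have h2 : (b : G) * z * (b : G)⁻¹ = z := by
        have := congrArg Subtype.val h1
        push_cast at this
        rw [this, hzz]
      exact (mul_inv_eq_iff_eq_mul.1 h2).symm
    have hzbne : (z : G) ≠ b := fun h => hba (h ▸ (R.pow_mem hrR (2 ^ m)).2)
    have hzbord : orderOf ((z : G) * b) = 2 := orderOf_eq_prime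
      (by rw [sq, show (z : G) * b * (z * b) = z * (b * z) * b by group, ← hzb,
        show (z : G) * (z * b) * b = (z * z) * (b * b) by group, hb2, mul_one]
          rw [← sq, ← hzG]; exact pow_orderOf_eq_one _)
      (fun h => hzbne (by rw [eq_inv_of_mul_eq_one_left h, inv_eq_of_mul_eq_one_right hb2]))
    set K := Subgroup.closure ({(z : G), (b : G)} : Set G) with hKdef
    have hK4 : Nat.card K = 4 := by
      rw [hKdef, CfsgLib.Small.card_closure_pair_invol hzG hbord hzbne, hzbord]
    have hsq : ∀ k ∈ K, k ^ 2 = 1 := by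
      intro c hc
      let e := CfsgLib.Small.closurePairEquivDihedral hzG hbord hzbne
      have h1 : ∀ u : DihedralGroup (orderOf ((z : G) * b)), u ^ 2 = 1 := by rw [hzbord]; decide
      have h2 : (⟨c, hc⟩ : K) ^ 2 = 1 := e.injective (by rw [map_pow, map_one, h1])
      exact congrArg Subtype.val h2
    have hKS : K ≤ S' := (Subgroup.closure_le _).2 (by
      rintro _ (rfl | rfl)
      · exact ⟨z, (S : Subgroup H).pow_mem hrR.1 _, rfl⟩
      · exact ⟨b, hbS, rfl⟩)
    have hcent : ∀ c : G, Commute c z → Commute c b → c ∈ K := by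
      intro c hcz hcb
      refine hKT K (hKS.trans hT) hK4 hsq c (Subgroup.mem_centralizer_iff.2 fun d hd => ?_)
      have : K ≤ Subgroup.centralizer ({c} : Set G) := (Subgroup.closure_le _).2 (by
        rintro _ (rfl | rfl)
        · exact Subgroup.mem_centralizer_singleton_iff.2 hcz.symm.eq
        · exact Subgroup.mem_centralizer_singleton_iff.2 hcb.symm.eq)
      exact Subgroup.mem_centralizer_singleton_iff.1 (this hd)
    have hx1 : ∀ {c : G}, c ∈ K → (orderOf c).Coprime 2 → c = 1 := fun {c} hc hco =>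
      orderOf_eq_one_iff.1 (Nat.eq_one_of_dvd_coprimes hco dvd_rfl (orderOf_dvd_of_pow_eq_one (hsq c hc)))
    have hxG : (orderOf (x : G)).Coprime 2 := by rw [Subgroup.orderOf_coe]; exact hx
    -- the dihedral conclusion
    have hdih : x = 1 → ∃ n : ℕ, Nonempty (H ≃* DihedralGroup (2 ^ n)) := by
      intro hx0
      have hStop : (S : Subgroup H) = ⊤ := by
        rw [hx0, Subgroup.zpowers_one_eq_bot, sup_bot_eq] at htop; exact htop
      have hidx : R.index = 2 := by
        rw [Subgroup.index_eq_two_iff]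
        refine ⟨b, fun t => ?_⟩
        rcases hsplit t (hStop ▸ Subgroup.mem_top t) with h | h
        · refine Or.inr ⟨h, fun h' => hbR ?_⟩
          exact (Subgroup.mul_mem_cancel_left R h).1 h'
        · refine Or.inl ⟨h, fun h' => hbR ?_⟩
          exact (Subgroup.mul_mem_cancel_left R h').1 h
      have hRc : Nat.card R = 2 ^ (m + 1) := by
        rw [← orderOf_eq_card_of_forall_mem_zpowers hgen, Subgroup.orderOf_mk, hj]
      obtain ⟨e⟩ := CfsgLib.TwoGroups.nonempty_equiv_dihedral (H := (⊤ : Subgroup H)) (a := r) (b := b)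
        (Subgroup.mem_top _) (Subgroup.mem_top _) hj hbb hrinv
        (fun h => hbR ((Subgroup.zpowers_le.2 hrR) h))
        (by rw [Subgroup.card_top, ← R.card_mul_index, hRc, hidx, mul_comm])
      exact ⟨m + 1, ⟨Subgroup.topEquiv.symm.trans e⟩⟩
    rcases Nat.eq_zero_or_pos m with rfl | hm
    · -- `S` is a four group
      rw [pow_zero, pow_one] at hz
      rw [zero_add, pow_one] at hj
      have hSK : S' = K := le_antisymm (by
        have hR2 : ∀ t ∈ R, (t : G) ∈ K := fun t ht => by
          obtain ⟨i, rfl⟩ := Subgroup.mem_zpowers_iff.1 (hgen' ht)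
          rw [← hz, Subgroup.coe_zpow]
          exact K.zpow_mem (Subgroup.subset_closure (Set.mem_insert _ _)) i
        rintro _ ⟨t, ht, rfl⟩
        rcases hsplit t ht with h | h
        · exact hR2 t h
        · have h1 := K.mul_mem (hR2 _ h) (Subgroup.subset_closure (Set.mem_insert_of_mem _ rfl) : (b : G) ∈ K)
          rwa [Subgroup.coe_mul, mul_assoc, hb2, mul_one] at h1) hKS
      rcases eq_or_ne x 1 with hx0 | hx0
      · exact Or.inr (Or.inl (hdih hx0))
      right; right
      have hnc : ∃ s ∈ (S : Subgroup H), x * s ≠ s * x := by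
        by_contra hall
        push Not at hall
        refine hx0 (Subtype.ext (hx1 (hcent _ ?_ ?_) hxG))
        · exact congrArg Subtype.val (hall z ((S : Subgroup H).pow_mem hrR.1 _))
        · exact congrArg Subtype.val (hall b hbS)
      have hS4 : Nat.card (S : Subgroup H) = 4 := by
        rw [← hK4, ← hSK, hS', Subgroup.card_subtype]
      have hxn : x ∈ Subgroup.normalizer ((S : Subgroup H) : Set H) :=
        Subgroup.le_normalizer_of_normal (Subgroup.mem_top x)
      let π := (Subgroup.normalizerMonoidHom (S : Subgroup H)) ⟨x, hxn⟩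
      have h24 : π.toEquiv ^ 24 = 1 := by
        have := pow_card_eq_one' (x := π.toEquiv)
        rwa [Nat.card_perm, hS4] at this
      have hpow : x ^ 24 ∈ Subgroup.centralizer ((S : Subgroup H) : Set H) := by
        refine Subgroup.mem_centralizer_iff.2 fun s hs => ?_
        have h1 : ∀ i : ℕ, ((π.toEquiv ^ i) ⟨s, hs⟩ : H) = x ^ i * s * (x ^ i)⁻¹ := by
          intro i
          induction i with
          | zero => simp
          | succ i ih =>
            rw [pow_succ', Equiv.Perm.mul_apply]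
            show x * ((π.toEquiv ^ i) ⟨s, hs⟩ : H) * x⁻¹ = _
            rw [ih, pow_succ']; group
        have h2 := h1 24
        rw [h24] at h2
        exact mul_inv_eq_iff_eq_mul.1 h2.symm |>.symm
      have h3 : x ^ 3 = 1 := by
        have h4 : ((x ^ 24 : H) : G) ∈ K := hcent _
          (congrArg Subtype.val (Subgroup.mem_centralizer_iff.1 hpow z ((S : Subgroup H).pow_mem hrR.1 _)).symm)
          (congrArg Subtype.val (Subgroup.mem_centralizer_iff.1 hpow b hbS).symm)
        have h5 : x ^ 48 = 1 := Subtype.ext (by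
          rw [show (48 : ℕ) = 24 * 2 from rfl, pow_mul, Subgroup.coe_pow]; exact hsq _ h4)
        refine orderOf_dvd_iff_pow_eq_one.1 ?_
        exact (hx.pow_right 4).dvd_of_dvd_mul_right (m := 3) (by
          exact orderOf_dvd_of_pow_eq_one h5)
      have hx3 : orderOf x = 3 := by
        haveI : Fact (Nat.Prime 3) := ⟨Nat.prime_three⟩
        exact orderOf_eq_prime h3 hx0
      refine equiv_alternating hS4 hx3 ?_ hnc
      have hidx : (S : Subgroup H).index ∣ 3 := by
        rw [← Subgroup.relIndex_top_right, ← htop, Subgroup.relIndex_sup_left, ← hx3,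
          ← Nat.card_zpowers]
        exact Subgroup.relIndex_dvd_card _ _
      rw [← (S : Subgroup H).card_mul_index, hS4]
      rcases (Nat.dvd_prime Nat.prime_three).1 hidx with h | h
      · exfalso
        refine hx0 (orderOf_eq_one_iff.1 (Nat.eq_one_of_dvd_coprimes hx dvd_rfl ?_))
        rw [Subgroup.index_eq_one] at h
        exact orderOf_dvd_of_pow_eq_one (Subtype.ext (by
          rw [Subgroup.coe_pow]
          exact hsq _ (hSK ▸ ⟨x, h ▸ Subgroup.mem_top x, rfl⟩)))
      · rw [h]
    · -- `x` centralises `S`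
      right; left
      refine hdih ?_
      have hrx : x * r * x⁻¹ ∈ R := by
        refine ⟨(hnorm S).conj_mem r hrR.1 x, ?_⟩
        show ((x * r * x⁻¹ : H) : G) ∈ Subgroup.zpowers a
        by_contra h
        obtain ⟨h2, -⟩ := hinv _ (hST _ ((hnorm S).conj_mem r hrR.1 x)) h
        have h3 : (x * r * x⁻¹) ^ 2 = 1 := by rw [sq]; exact Subtype.ext h2
        rw [conj_pow, conj_eq_one_iff] at h3
        have h4 := orderOf_dvd_of_pow_eq_one h3
        rw [hj] at h4
        have h5 := pow_le_pow_right₀ (by norm_num : 1 ≤ 2) (show 2 ≤ m + 1 by omega)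
        have h6 := Nat.le_of_dvd Nat.two_pos h4
        omega
      have hxr : Commute x r := commute_of_odd hj hx (hgen' hrx)
      obtain ⟨u, huR, hu⟩ : ∃ u ∈ R, x * b * x⁻¹ = u * b := by
        rcases hsplit _ ((hnorm S).conj_mem b hbS x) with h | h
        · exfalso
          refine hbR ?_
          obtain ⟨i, hi⟩ := Subgroup.mem_zpowers_iff.1 (hgen' h)
          have : b = x⁻¹ * (x * b * x⁻¹) * x := by group
          rw [this, ← hi, mul_assoc, ← (hxr.zpow_right i).eq, inv_mul_cancel_left]
          exact R.zpow_mem hrR i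
        · exact ⟨_, h, by rw [mul_assoc _ b b, hbb, mul_one]⟩
      obtain ⟨i, rfl⟩ := Subgroup.mem_zpowers_iff.1 (hgen' huR)
      have hiter : ∀ q : ℕ, x ^ q * b * (x ^ q)⁻¹ = (r ^ i) ^ q * b := by
        intro q
        induction q with
        | zero => simp
        | succ q ih =>
          calc x ^ (q + 1) * b * (x ^ (q + 1))⁻¹ = x * (x ^ q * b * (x ^ q)⁻¹) * x⁻¹ := by
                rw [pow_succ']; group
            _ = (x * (r ^ i) ^ q * x⁻¹) * (x * b * x⁻¹) := by rw [ih]; group
            _ = (r ^ i) ^ q * ((r ^ i) * b) := by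
                rw [((hxr.zpow_right i).pow_right q).eq, mul_inv_cancel_right, hu]
            _ = (r ^ i) ^ (q + 1) * b := by rw [pow_succ, mul_assoc]
      have h1 := hiter (orderOf x)
      rw [pow_orderOf_eq_one, one_mul, inv_one, mul_one] at h1
      have h2 : (r ^ i) ^ orderOf x = 1 := by
        have h1' := congrArg (· * b⁻¹) h1
        simpa using h1'.symm
      have h3 : r ^ i = 1 := orderOf_eq_one_iff.1 (Nat.eq_one_of_dvd_coprimes (hx.pow_right (m + 1))
        (orderOf_dvd_of_pow_eq_one h2)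
        (hj ▸ orderOf_dvd_of_mem_zpowers (Subgroup.zpow_mem_zpowers r i)))
      rw [h3, one_mul, mul_inv_eq_iff_eq_mul] at hu
      refine Subtype.ext (hx1 (hcent _ ?_ ?_) hxG)
      · exact congrArg Subtype.val (hxr.pow_right _).eq
      · exact congrArg Subtype.val hu

end Cfsg.Agent.S4083
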