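import Cfsg.Statements.S4084
import Mathlib.GroupTheory.Perm.Cycle.Type
-- import your own Cfsg.Agent.* helpers here

set_option autoImplicit false
open Cfsg

namespace Cfsg.Agent.S4084

theorem half {G H : Type*} [Group G] [Finite G] [Group H] [Finite H] (e : G ≃ H)
    (he : ∀ x y : G, Commute x y ↔ Commute (e x) (e y))
    {p q : ℕ} (hp : p.Prime) (hq : q.Prime) (hpq : p ≠ q)
    (h : ∃ g : G, orderOf g = p * q) : ∃ h : H, orderOf h = p * q := by
  obtain ⟨g, hg⟩ := h
  let A : Subgroup G := Subgroup.centralizer {x : G | Commute x g}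
  let B : Subgroup H := Subgroup.centralizer {y : H | Commute y (e g)}
  have hmA : ∀ a, a ∈ A ↔ ∀ x, Commute x g → Commute x a := fun a => Subgroup.mem_centralizer_iff
  have hmB : ∀ b, b ∈ B ↔ ∀ y, Commute y (e g) → Commute y b := fun b => Subgroup.mem_centralizer_iff
  have hiff : ∀ a, a ∈ A ↔ e a ∈ B := by
    intro a
    rw [hmA, hmB]
    constructor
    · intro ha y hy
      rw [← e.apply_symm_apply y, ← he]
      refine ha _ ?_
      rwa [he, e.apply_symm_apply]
    · intro ha x hx
      exact (he x a).2 (ha _ ((he x g).1 hx))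
  have hcard : Nat.card A = Nat.card B := Nat.card_congr (e.subtypeEquiv hiff)
  have hgA : g ∈ A := (hmA g).2 fun x hx => hx
  have hdvd : p * q ∣ Nat.card B := hcard ▸ hg ▸ A.orderOf_dvd_natCard hgA
  haveI := Fact.mk hp
  haveI := Fact.mk hq
  obtain ⟨a, ha⟩ := exists_prime_orderOf_dvd_card' (G := B) p (dvd_of_mul_right_dvd hdvd)
  obtain ⟨b, hb⟩ := exists_prime_orderOf_dvd_card' (G := B) q (dvd_of_mul_left_dvd hdvd)
  have hcomm : Commute (a : H) (b : H) :=
    (hmB b).1 b.2 a ((hmB a).1 a.2 (e g) (Commute.refl _)).symm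
  refine ⟨(a : H) * (b : H), ?_⟩
  rw [hcomm.orderOf_mul_eq_mul_orderOf_of_coprime (by rw [Subgroup.orderOf_coe, Subgroup.orderOf_coe, ha, hb]; exact (Nat.coprime_primes hp hq).2 hpq),
    Subgroup.orderOf_coe, Subgroup.orderOf_coe, ha, hb]

/-- Let G and H be finite groups whose commuting graphs are isomorphic: there is a bijection e : G → H with x, y commuting exactly when e(x), e(y) commute. Then G and H have the same prime graph: for distinct primes p, q, G has an element of order pq if and only if H does (and #G = #H, so the prime divisors agree). -/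
theorem result {G H : Type*} [Group G] [Finite G] [Group H] [Finite H] (e : G ≃ H)
    (he : ∀ x y : G, Commute x y ↔ Commute (e x) (e y))
    {p q : ℕ} (hp : p.Prime) (hq : q.Prime) (hpq : p ≠ q) :
    (∃ g : G, orderOf g = p * q) ↔ (∃ h : H, orderOf h = p * q) := by
  constructor
  · exact half e he hp hq hpq
  · refine half e.symm (fun x y => ?_) hp hq hpq
    rw [he, e.apply_symm_apply, e.apply_symm_apply]

end Cfsg.Agent.S4084
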