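import Cfsg.Statements.S4085
import Mathlib.GroupTheory.SpecificGroups.Cyclic
import Mathlib.GroupTheory.Sylow
import Mathlib.Tactic
-- import your own Cfsg.Agent.* helpers here

set_option autoImplicit false
set_option linter.style.haveILetI false
open Cfsg

namespace Cfsg.Agent.S4085

/-- One of two elements is a power of the other. -/
abbrev Comp {G : Type*} [Group G] (x y : G) : Prop :=
  x ∈ Subgroup.zpowers y ∨ y ∈ Subgroup.zpowers x

theorem comp_congr_zpowers {G : Type*} [Group G] {u v w : G}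
    (h : Subgroup.zpowers v = Subgroup.zpowers u) : Comp v w ↔ Comp u w := by
  have h1 : ∀ S : Subgroup G, v ∈ S ↔ u ∈ S := fun S => by
    rw [← Subgroup.zpowers_le, h, Subgroup.zpowers_le]
  simp only [Comp, h1, h]

section cyclic

variable {G : Type*} [Group G] [Finite G] {y : G}

theorem exists_order {k : ℕ} (h : k ∣ orderOf y) :
    ∃ w ∈ Subgroup.zpowers y, orderOf w = k := by
  have hk : k ≠ 0 := fun e => (orderOf_pos y).ne' (by rw [e] at h; exact Nat.eq_zero_of_zero_dvd h)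
  refine ⟨y ^ (orderOf y / k), Subgroup.npow_mem_zpowers _ _, ?_⟩
  rw [orderOf_pow, Nat.gcd_eq_right (Nat.div_dvd_of_dvd h), Nat.div_div_self h (orderOf_pos y).ne']

theorem mem_of_dvd {v w : G} (hv : v ∈ Subgroup.zpowers y) (hw : w ∈ Subgroup.zpowers y)
    (h : orderOf v ∣ orderOf w) : v ∈ Subgroup.zpowers w := by
  classical
  haveI := Fintype.ofFinite G
  by_contra hx
  set Y := Subgroup.zpowers y
  have hsub : insert (⟨v, hv⟩ : Y) (Finset.univ.filter fun u : Y => (u : G) ∈ Subgroup.zpowers w) ⊆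
      Finset.univ.filter fun u : Y => u ^ orderOf w = 1 := by
    intro u hu
    rw [Finset.mem_filter]
    refine ⟨Finset.mem_univ _, Subtype.ext ?_⟩
    rcases Finset.mem_insert.1 hu with rfl | hu
    · exact orderOf_dvd_iff_pow_eq_one.1 h
    · exact orderOf_dvd_iff_pow_eq_one.1 (orderOf_dvd_of_mem_zpowers (Finset.mem_filter.1 hu).2)
  have h1 := (Finset.card_le_card hsub).trans (IsCyclic.card_pow_eq_one_le (orderOf_pos w))
  rw [Finset.card_insert_of_notMem (by simp [hx])] at h1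
  have h2 : (Finset.univ.filter fun u : Y => (u : G) ∈ Subgroup.zpowers w).card = orderOf w := by
    rw [← Nat.card_zpowers, Nat.card_eq_fintype_card, ← Fintype.card_subtype]
    exact Fintype.card_congr
      { toFun := fun u => ⟨u.1.1, u.2⟩
        invFun := fun u => ⟨⟨u.1, Subgroup.zpowers_le.2 hw u.2⟩, u.2⟩
        left_inv := fun u => rfl
        right_inv := fun u => rfl }
  omega

theorem comp_iff {v w : G} (hv : v ∈ Subgroup.zpowers y) (hw : w ∈ Subgroup.zpowers y) :
    Comp v w ↔ orderOf v ∣ orderOf w ∨ orderOf w ∣ orderOf v :=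
  ⟨fun h => h.imp orderOf_dvd_of_mem_zpowers orderOf_dvd_of_mem_zpowers,
    fun h => h.imp (mem_of_dvd hv hw) (mem_of_dvd hw hv)⟩

/-- Each vertex which is neither the identity nor a generator misses some vertex of prime power order. -/
theorem exists_not_comp {p q : ℕ} (hp : p.Prime) (hq : q.Prime) (hpq : p ≠ q)
    (hpd : p ∣ orderOf y) (hqd : q ∣ orderOf y) {v : G} (hv : v ∈ Subgroup.zpowers y) (hv1 : v ≠ 1)
    (hvm : orderOf v ≠ orderOf y) :
    ∃ (r e : ℕ) (_ : r.Prime) (w : G), e ≠ 0 ∧ w ∈ Subgroup.zpowers y ∧ orderOf w = r ^ e ∧ ¬ Comp v w := by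
  by_cases hpp : ∃ r e : ℕ, r.Prime ∧ orderOf v = r ^ e
  · obtain ⟨r, e, hr, he⟩ := hpp
    have he0 : e ≠ 0 := fun h => hv1 (orderOf_eq_one_iff.1 (by rw [he, h, pow_zero]))
    obtain ⟨s, hs, hsr, hsd⟩ : ∃ s : ℕ, s.Prime ∧ s ≠ r ∧ s ∣ orderOf y := by
      by_cases h : p = r
      · exact ⟨q, hq, fun h' => hpq (h.trans h'.symm), hqd⟩
      · exact ⟨p, hp, h, hpd⟩
    obtain ⟨w, hw, hwo⟩ := exists_order hsd
    refine ⟨s, 1, hs, w, one_ne_zero, hw, by rw [hwo, pow_one], fun hc => ?_⟩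
    rcases (comp_iff hv hw).1 hc with h | h <;> rw [he, hwo] at h
    · exact hsr ((Nat.prime_dvd_prime_iff_eq hr hs).1 ((dvd_pow_self r he0).trans h)).symm
    · exact hsr ((Nat.prime_dvd_prime_iff_eq hs hr).1 (hs.dvd_of_dvd_pow h))
  · push Not at hpp
    have hnd : ¬ orderOf y ∣ orderOf v := fun h =>
      hvm (Nat.dvd_antisymm (orderOf_dvd_of_mem_zpowers hv) h)
    obtain ⟨r, e, hr, he, hne⟩ : ∃ r e : ℕ, r.Prime ∧ r ^ e ∣ orderOf y ∧ ¬ r ^ e ∣ orderOf v := by
      by_contra h
      push Not at h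
      exact hnd ((Nat.dvd_iff_prime_pow_dvd_dvd _ _).2 fun r e hr he => h r e hr he)
    obtain ⟨w, hw, hwo⟩ := exists_order he
    refine ⟨r, e, hr, w, fun h => hne (by rw [h, pow_zero]; exact one_dvd _), hw, hwo, fun hc => ?_⟩
    rcases (comp_iff hv hw).1 hc with h | h <;> rw [hwo] at h
    · obtain ⟨i, -, hi⟩ := (Nat.dvd_prime_pow hr).1 h
      exact hpp r i hr hi
    · exact hne h

/-- Only the generators of a maximal subgroup of `⟨y⟩` have its neighbourhood. -/
theorem order_eq_of_twin {r : ℕ} (hr : r.Prime) (hrd : r ∣ orderOf y)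
    (hnpp : ∀ e : ℕ, orderOf y ≠ r ^ e) {d v : G} (hd : d ∈ Subgroup.zpowers y)
    (hdo : orderOf d * r = orderOf y) (hv : v ∈ Subgroup.zpowers y)
    (h : ∀ w ∈ Subgroup.zpowers y, Comp v w ↔ Comp d w) : orderOf v = orderOf d := by
  obtain ⟨a, c, hrc, hm⟩ := Nat.exists_eq_pow_mul_and_not_dvd (orderOf_pos y).ne' r hr.ne_one
  obtain ⟨a, rfl⟩ : ∃ a', a = a' + 1 := ⟨a - 1, by
    rcases a with _ | a
    · rw [pow_zero, one_mul] at hm
      exact absurd (hm ▸ hrd) hrc
    · omega⟩
  have hc1 : c ≠ 1 := fun e => hnpp (a + 1) (by rw [hm, e, mul_one])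
  have hdo' : orderOf d = r ^ a * c := by
    refine Nat.eq_of_mul_eq_mul_right hr.pos ?_
    rw [hdo, hm, pow_succ]; ring
  have hcop : ∀ i : ℕ, c.Coprime (r ^ i) := fun i =>
    (((hr.coprime_iff_not_dvd).2 hrc).symm).pow_right i
  obtain ⟨w₀, hw₀, hw₀o⟩ := exists_order (y := y) (k := r ^ (a + 1)) ⟨c, hm⟩
  have hdw₀ : ¬ Comp d w₀ := fun hc => by
    rcases (comp_iff hd hw₀).1 hc with h' | h' <;> rw [hdo', hw₀o] at h'
    · exact hc1 (Nat.eq_one_of_dvd_coprimes (hcop (a + 1)) dvd_rfl ((dvd_mul_left c (r ^ a)).trans h'))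
    · have h2 : r ^ (a + 1) ∣ r ^ a := ((hcop (a + 1)).symm).dvd_of_dvd_mul_right h'
      exact absurd ((Nat.pow_dvd_pow_iff_le_right hr.one_lt).1 h2) (by omega)
  rcases (comp_iff hv hd).1 ((h d hd).2 (Or.inl (Subgroup.mem_zpowers d))) with hk | hk
  · by_contra hne
    rw [hdo'] at hk
    -- a vertex of order `lcm (orderOf v, r ^ (a + 1))`
    obtain ⟨w, hw, hwo⟩ := exists_order (y := y) (k := (orderOf v).lcm (r ^ (a + 1)))
      (Nat.lcm_dvd (orderOf_dvd_of_mem_zpowers hv) ⟨c, hm⟩)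
    by_cases hfull : c ∣ orderOf v
    · obtain ⟨w₁, hw₁, hw₁o⟩ := exists_order (y := y) (k := r ^ a)
        ((pow_dvd_pow r a.le_succ).trans ⟨c, hm⟩)
      have hdw₁ : Comp d w₁ := (comp_iff hd hw₁).2 (Or.inr (by rw [hw₁o, hdo']; exact dvd_mul_right _ _))
      rcases (comp_iff hv hw₁).1 ((h w₁ hw₁).2 hdw₁) with h' | h' <;> rw [hw₁o] at h'
      · exact hc1 (Nat.eq_one_of_dvd_coprimes (hcop a) dvd_rfl (hfull.trans h'))
      · refine hne (Nat.dvd_antisymm (hdo' ▸ hk) ?_)
        rw [hdo']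
        exact (hcop a).symm.mul_dvd_of_dvd_of_dvd h' hfull
    · have hvw : Comp v w := (comp_iff hv hw).2 (Or.inl (by rw [hwo]; exact Nat.dvd_lcm_left _ _))
      rcases (comp_iff hd hw).1 ((h w hw).1 hvw) with h' | h' <;> rw [hwo, hdo'] at h'
      · exact hfull ((hcop (a + 1)).dvd_of_dvd_mul_right
          (((dvd_mul_left c (r ^ a)).trans h').trans (Nat.lcm_dvd_mul _ _)))
      · have h2 : r ^ (a + 1) ∣ r ^ a :=
          ((hcop (a + 1)).symm).dvd_of_dvd_mul_right ((Nat.dvd_lcm_right _ _).trans h')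
        exact absurd ((Nat.pow_dvd_pow_iff_le_right hr.one_lt).1 h2) (by omega)
  · obtain ⟨t, ht⟩ := hk
    have h1 : orderOf d * t ∣ orderOf d * r := hdo.symm ▸ ht ▸ orderOf_dvd_of_mem_zpowers hv
    rcases (Nat.dvd_prime hr).1 (Nat.dvd_of_mul_dvd_mul_left (orderOf_pos d) h1) with rfl | rfl
    · rw [ht, mul_one]
    · exfalso
      have h2 : Comp v w₀ := (comp_iff hv hw₀).2 (Or.inr (by
        rw [ht, hdo, hw₀o, hm]; exact dvd_mul_right _ _))
      exact hdw₀ ((h w₀ hw₀).1 h2)

end cyclic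

/-- A non prime power order of a maximal cyclic subgroup is an element order on the other side. -/
theorem exists_of_comp_equiv {G H : Type*} [Group G] [Finite G] [Group H] [Finite H] (e : G ≃ H)
    (he : ∀ x y : G, Comp x y ↔ Comp (e x) (e y)) {p q : ℕ} (hp : p.Prime) (hq : q.Prime)
    (hpq : p ≠ q) {g : G} (hg : orderOf g = p * q) : ∃ h : H, orderOf h = p * q := by
  classical
  haveI := Fintype.ofFinite G
  haveI := Fintype.ofFinite H
  suffices hs : ∃ h : H, p * q ∣ orderOf h by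
    obtain ⟨h, hh⟩ := hs
    obtain ⟨w, -, hw⟩ := exists_order hh
    exact ⟨w, hw⟩
  obtain ⟨y, hy, hymax⟩ := Finset.exists_max_image (Finset.univ.filter fun u : G => g ∈ Subgroup.zpowers u)
    orderOf ⟨g, by simp⟩
  rw [Finset.mem_filter] at hy
  obtain ⟨-, hgy⟩ := hy
  set m := orderOf y with hm
  have hpqm : p * q ∣ m := hg ▸ orderOf_dvd_of_mem_zpowers hgy
  have hpd : p ∣ m := (dvd_mul_right p q).trans hpqm
  have hqd : q ∣ m := (dvd_mul_left q p).trans hpqm
  have hnbr : ∀ u ∈ Subgroup.zpowers y, orderOf u = m → ∀ w, Comp u w ↔ w ∈ Subgroup.zpowers y := by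
    intro u hu huo w
    have hyu : y ∈ Subgroup.zpowers u := mem_of_dvd (Subgroup.mem_zpowers y) hu huo.symm.dvd
    have hzu : Subgroup.zpowers u = Subgroup.zpowers y :=
      le_antisymm (Subgroup.zpowers_le.2 hu) (Subgroup.zpowers_le.2 hyu)
    rw [comp_congr_zpowers hzu]
    refine ⟨fun h => ?_, Or.inr⟩
    rcases h with h | h
    · have hle := hymax w (Finset.mem_filter.2 ⟨Finset.mem_univ _, Subgroup.zpowers_le.2 h hgy⟩)
      have heq : Subgroup.zpowers y = Subgroup.zpowers w := Subgroup.eq_of_le_of_card_ge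
        (Subgroup.zpowers_le.2 h) (by rwa [Nat.card_zpowers, Nat.card_zpowers])
      exact heq ▸ Subgroup.mem_zpowers w
    · exact h
  set T : Finset H := (Finset.univ.filter fun u : G => u ∈ Subgroup.zpowers y).map e.toEmbedding with hT
  have hTmem : ∀ v, v ∈ T ↔ e.symm v ∈ Subgroup.zpowers y := fun v => by
    rw [hT, Finset.mem_map_equiv]; simp
  have hTcard : T.card = m := by
    rw [hT, Finset.card_map, hm, ← Nat.card_zpowers, Nat.card_eq_fintype_card, Fintype.card_subtype]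
  let dom : G → Prop := fun u => u ∈ Subgroup.zpowers y ∧ (u = 1 ∨ orderOf u = m)
  have hdom : ∀ u, dom u → ∀ w ∈ Subgroup.zpowers y, Comp u w := by
    rintro u ⟨hu, rfl | huo⟩ w hw
    · exact Or.inl (Subgroup.one_mem _)
    · exact (hnbr u hu huo w).2 hw
  obtain ⟨u₀, hu₀, hu₀max⟩ := Finset.exists_max_image (Finset.univ.filter dom) (fun u => orderOf (e u))
    ⟨y, Finset.mem_filter.2 ⟨Finset.mem_univ _, Subgroup.mem_zpowers y, Or.inr rfl⟩⟩
  rw [Finset.mem_filter] at hu₀
  obtain ⟨-, hu₀d⟩ := hu₀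
  set x := e u₀ with hx
  have hm1 : y ≠ 1 := fun h => hp.ne_one (Nat.dvd_one.1 (by rw [hm, h, orderOf_one] at hpd; exact hpd))
  have hxne : x ≠ 1 := by
    intro h
    have h1 := hu₀max y (Finset.mem_filter.2 ⟨Finset.mem_univ _, Subgroup.mem_zpowers y, Or.inr rfl⟩)
    have h1' := hu₀max 1 (Finset.mem_filter.2 ⟨Finset.mem_univ _, Subgroup.one_mem _, Or.inl rfl⟩)
    rw [h, orderOf_one] at h1 h1'
    have h2 : e y = 1 := orderOf_eq_one_iff.1 (le_antisymm h1 (orderOf_pos _))
    have h3 : e 1 = 1 := orderOf_eq_one_iff.1 (le_antisymm h1' (orderOf_pos _))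
    exact hm1 (e.injective (h2.trans h3.symm))
  -- the neighbours of `x` are exactly `T`
  have hTnbr : ∀ v, Comp x v ↔ v ∈ T := by
    intro v
    rw [hTmem, show Comp x v ↔ Comp u₀ (e.symm v) by rw [he, e.apply_symm_apply]]
    rcases hu₀d with ⟨hu, rfl | huo⟩
    · -- the identity of `G` is not sent to the identity of `H`
      refine iff_of_true (Or.inl (Subgroup.one_mem _)) ?_
      set v₁ := e.symm 1 with hv₁
      have hall : ∀ w, Comp v₁ w := fun w => by
        rw [he, hv₁, e.apply_symm_apply]; exact Or.inl (Subgroup.one_mem _)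
      have hv₁y : v₁ ∈ Subgroup.zpowers y :=
        (hnbr y (Subgroup.mem_zpowers y) rfl v₁).1 (Or.symm (hall y))
      have hv₁1 : v₁ ≠ 1 := fun h => hxne (by rw [hx, ← h, hv₁, e.apply_symm_apply])
      have hv₁m : orderOf v₁ = m := by
        by_contra hne
        obtain ⟨r, i, -, w, -, -, -, hnc⟩ := exists_not_comp hp hq hpq hpd hqd hv₁y hv₁1 hne
        exact hnc (hall w)
      exact (hnbr v₁ hv₁y hv₁m _).1 (hall _)
    · exact hnbr u₀ hu huo _
  have hxT : ∀ v ∈ Subgroup.zpowers x, v ∈ T := fun v hv => (hTnbr v).1 (Or.inr hv)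
  have hDx : ∀ u, dom u → e u ∈ Subgroup.zpowers x := by
    intro u hu
    rcases (he u₀ u).1 (hdom u₀ hu₀d u hu.1) with h | h
    · have heq : Subgroup.zpowers x = Subgroup.zpowers (e u) := Subgroup.eq_of_le_of_card_ge
        (Subgroup.zpowers_le.2 h) (by
          rw [Nat.card_zpowers, Nat.card_zpowers]
          exact hu₀max u (Finset.mem_filter.2 ⟨Finset.mem_univ _, hu⟩))
      exact heq ▸ Subgroup.mem_zpowers (e u)
    · exact h
  by_cases hU : ∀ v ∈ T, v ∈ Subgroup.zpowers x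
  · refine ⟨x, ?_⟩
    have : T = Finset.univ.filter fun v : H => v ∈ Subgroup.zpowers x := by
      ext v
      exact ⟨fun h => Finset.mem_filter.2 ⟨Finset.mem_univ _, hU v h⟩,
        fun h => hxT v (Finset.mem_filter.1 h).2⟩
    rw [← Nat.card_zpowers, Nat.card_eq_fintype_card, Fintype.card_subtype, ← this, hTcard]
    exact hpqm
  exfalso
  -- the vertices outside `dom` lie on one side
  let side : G → Prop := fun u => e u ∈ Subgroup.zpowers x
  have hcross : ∀ u w, u ∈ Subgroup.zpowers y → w ∈ Subgroup.zpowers y → side u → ¬ side w → Comp u w := by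
    intro u w _ hw hsu hsw
    rw [he]
    rcases (hTnbr (e w)).2 ((hTmem _).2 (by rwa [e.symm_apply_apply])) with h | h
    · exact Or.inl (Subgroup.zpowers_le.2 h hsu)
    · exact absurd h hsw
  have hsame : ∀ u w, u ∈ Subgroup.zpowers y → w ∈ Subgroup.zpowers y → ¬ Comp u w → (side u ↔ side w) := by
    intro u w hu hw hn
    constructor
    · intro hsu; by_contra hsw; exact hn (hcross u w hu hw hsu hsw)
    · intro hsw; by_contra hsu; exact hn (Or.symm (hcross w u hw hu hsw hsu))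
  obtain ⟨P₁, hP₁, hP₁o⟩ := exists_order hpd
  obtain ⟨P₂, hP₂, hP₂o⟩ := exists_order hqd
  have hprime : ∀ (r i : ℕ), r.Prime → i ≠ 0 → ∀ w ∈ Subgroup.zpowers y, orderOf w = r ^ i →
      ∀ (s : ℕ), s.Prime → s ≠ r → ∀ z ∈ Subgroup.zpowers y, orderOf z = s → ¬ Comp w z := by
    intro r i hr hi w hw hwo s hs hsr z hz hzo hc
    rcases (comp_iff hw hz).1 hc with h | h <;> rw [hwo, hzo] at h
    · exact hsr ((Nat.prime_dvd_prime_iff_eq hr hs).1 ((dvd_pow_self r hi).trans h)).symm
    · exact hsr ((Nat.prime_dvd_prime_iff_eq hs hr).1 (hs.dvd_of_dvd_pow h))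
  have h12 : side P₁ ↔ side P₂ := hsame _ _ hP₁ hP₂
    (hprime p 1 hp one_ne_zero P₁ hP₁ (by rw [hP₁o, pow_one]) q hq (Ne.symm hpq) P₂ hP₂ hP₂o)
  have hall : ∀ u ∈ Subgroup.zpowers y, u ≠ 1 → orderOf u ≠ m → (side u ↔ side P₁) := by
    intro u hu hu1 hum
    obtain ⟨r, i, hr, w, hi, hw, hwo, hnc⟩ := exists_not_comp hp hq hpq hpd hqd hu hu1 hum
    rw [hsame u w hu hw hnc]
    by_cases h : p = r
    · rw [h12]
      exact hsame _ _ hw hP₂ (hprime r i hr hi w hw hwo q hq (fun h' => hpq (h.trans h'.symm)) P₂ hP₂ hP₂o)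
    · exact hsame _ _ hw hP₁ (hprime r i hr hi w hw hwo p hp h P₁ hP₁ hP₁o)
  have hout : ∀ u ∈ Subgroup.zpowers y, u ≠ 1 → orderOf u ≠ m → ¬ side u := by
    intro u hu hu1 hum hsu
    refine hU fun v hv => ?_
    rw [hTmem] at hv
    have hside : side (e.symm v) := by
      by_cases hd : dom (e.symm v)
      · exact hDx _ hd
      · have h1 : e.symm v ≠ 1 := fun h => hd ⟨hv, Or.inl h⟩
        have h2 : orderOf (e.symm v) ≠ m := fun h => hd ⟨hv, Or.inr h⟩
        exact (hall _ hv h1 h2).2 ((hall u hu hu1 hum).1 hsu)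
    simpa [side] using hside
  -- `⟨x⟩` is the image of `dom`
  have hxdom : ∀ v ∈ Subgroup.zpowers x, dom (e.symm v) := by
    intro v hv
    have hvy := (hTmem v).1 (hxT v hv)
    refine ⟨hvy, ?_⟩
    by_contra hcon
    push Not at hcon
    exact hout _ hvy hcon.1 hcon.2 (by simpa [side] using hv)
  set n := orderOf x with hn
  have hncard : n = Nat.totient m + 1 := by
    have hset : (Finset.univ.filter fun v : H => v ∈ Subgroup.zpowers x) =
        (Finset.univ.filter dom).map e.toEmbedding := by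
      ext v
      rw [Finset.mem_map_equiv, Finset.mem_filter, Finset.mem_filter]
      exact ⟨fun h => ⟨Finset.mem_univ _, hxdom v h.2⟩,
        fun h => ⟨Finset.mem_univ _, by simpa using hDx _ h.2⟩⟩
    rw [hn, ← Nat.card_zpowers, Nat.card_eq_fintype_card, Fintype.card_subtype, hset, Finset.card_map]
    have hdec : Finset.univ.filter dom = insert 1 (Finset.univ.filter fun u : G => u ∈ Subgroup.zpowers y ∧ orderOf u = m) := by
      ext u
      simp only [dom, Finset.mem_filter, Finset.mem_univ, true_and, Finset.mem_insert]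
      constructor
      · rintro ⟨h, rfl | h'⟩
        · exact Or.inl rfl
        · exact Or.inr ⟨h, h'⟩
      · rintro (rfl | ⟨h, h'⟩)
        · exact ⟨Subgroup.one_mem _, Or.inl rfl⟩
        · exact ⟨h, Or.inr h'⟩
    rw [hdec, Finset.card_insert_of_notMem (by
      simp only [Finset.mem_filter, orderOf_one, not_and]
      exact fun _ _ h => hm1 (orderOf_eq_one_iff.1 h.symm))]
    congr 1
    rw [← IsCyclic.card_orderOf_eq_totient (α := Subgroup.zpowers y) (d := m)
      (by rw [← Nat.card_eq_fintype_card, Nat.card_zpowers])]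
    refine Finset.card_bij' (fun u h => ⟨u, (Finset.mem_filter.1 h).2.1⟩) (fun u _ => (u : G)) ?_ ?_ ?_ ?_
    · intro u h; simpa using (Finset.mem_filter.1 h).2.2
    · intro u h; simpa using (Finset.mem_filter.1 h).2
    · intros; rfl
    · intros; rfl
  obtain ⟨P, i, hP, hi0, hni⟩ : ∃ P i : ℕ, P.Prime ∧ i ≠ 0 ∧ n = P ^ i := by
    have hn1 : n ≠ 1 := fun h => hxne (orderOf_eq_one_iff.1 h)
    obtain ⟨r, hr, hrd⟩ := Nat.exists_prime_and_dvd hn1
    refine ⟨r, n.primeFactorsList.length, hr, ?_, ?_⟩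
    · exact fun h => hn1 (by
        rcases (Nat.primeFactorsList_eq_nil _).1 (List.length_eq_zero_iff.1 h) with h' | h'
        · exact absurd h' (orderOf_pos x).ne'
        · exact h')
    · refine Nat.eq_prime_pow_of_unique_prime_dvd (orderOf_pos x).ne' fun {d} hd hdd => ?_
      by_contra hne
      obtain ⟨w₁, hw₁, hw₁o⟩ := exists_order hrd
      obtain ⟨w₂, hw₂, hw₂o⟩ := exists_order hdd
      have h := hdom _ (hxdom w₁ hw₁) _ (hxdom w₂ hw₂).1
      rw [he, e.apply_symm_apply, e.apply_symm_apply, comp_iff hw₁ hw₂, hw₁o, hw₂o] at h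
      rcases h with h | h
      · exact hne ((Nat.prime_dvd_prime_iff_eq hr hd).1 h).symm
      · exact hne ((Nat.prime_dvd_prime_iff_eq hd hr).1 h)
  obtain ⟨r, hr, hr2, hrd⟩ : ∃ r : ℕ, r.Prime ∧ r ≠ 2 ∧ r ∣ m := by
    by_cases h : p = 2
    · exact ⟨q, hq, fun h' => hpq (h.trans h'.symm), hqd⟩
    · exact ⟨p, hp, h, hpd⟩
  have hnpp : ∀ i : ℕ, m ≠ r ^ i := fun i hi => hpq (by
    rw [hi] at hpd hqd
    rw [(Nat.prime_dvd_prime_iff_eq hp hr).1 (hp.dvd_of_dvd_pow hpd),
      (Nat.prime_dvd_prime_iff_eq hq hr).1 (hq.dvd_of_dvd_pow hqd)])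
  obtain ⟨d, hd, hdo⟩ := exists_order (y := y) (k := m / r) (Nat.div_dvd_of_dvd hrd)
  have hdr : orderOf d * r = m := by rw [hdo, Nat.div_mul_cancel hrd]
  have hd1 : d ≠ 1 := fun h => by
    rw [h, orderOf_one, one_mul] at hdr
    exact hnpp 1 (by rw [pow_one, hdr])
  have hdm : orderOf d ≠ m := fun h => by
    rw [h] at hdr
    exact hr.ne_one ((Nat.mul_eq_left (orderOf_pos y).ne').1 hdr)
  have hsd : ¬ side d := hout d hd hd1 hdm
  have hxu : x ∈ Subgroup.zpowers (e d) :=
    ((hTnbr (e d)).2 ((hTmem _).2 (by rwa [e.symm_apply_apply]))).resolve_right hsd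
  set u := e d with hu
  have htot : Nat.totient (orderOf u) ≤ Nat.totient (m / r) := by
    rw [← IsCyclic.card_orderOf_eq_totient (α := Subgroup.zpowers u) (d := orderOf u)
        (by rw [← Nat.card_eq_fintype_card, Nat.card_zpowers]),
      ← IsCyclic.card_orderOf_eq_totient (α := Subgroup.zpowers y) (d := m / r)
        (by rw [← Nat.card_eq_fintype_card, Nat.card_zpowers]; exact Nat.div_dvd_of_dvd hrd)]
    have hmaps : ∀ v : Subgroup.zpowers u, orderOf v = orderOf u →
        e.symm (v : H) ∈ Subgroup.zpowers y ∧ orderOf (e.symm (v : H)) = m / r := by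
      intro v hv
      rw [← Subgroup.orderOf_coe] at hv
      have hz : Subgroup.zpowers (v : H) = Subgroup.zpowers u := Subgroup.eq_of_le_of_card_ge
        (Subgroup.zpowers_le.2 v.2) (by rw [Nat.card_zpowers, Nat.card_zpowers, hv])
      have hxv : x ∈ Subgroup.zpowers (v : H) := by rw [hz]; exact hxu
      have hvy := (hTmem (v : H)).1 ((hTnbr (v : H)).1 (Or.inl hxv))
      refine ⟨hvy, ?_⟩
      rw [← hdo]
      refine order_eq_of_twin hr hrd hnpp hd hdr hvy fun w hw => ?_
      rw [he, he, e.apply_symm_apply, ← hu]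
      exact comp_congr_zpowers hz
    refine Finset.card_le_card_of_injOn
      (fun v => if h : e.symm (v : H) ∈ Subgroup.zpowers y then ⟨e.symm (v : H), h⟩ else 1) ?_ ?_
    · intro v hv
      rw [Finset.mem_coe, Finset.mem_filter] at hv ⊢
      obtain ⟨h1, h2⟩ := hmaps v hv.2
      refine ⟨Finset.mem_univ _, ?_⟩
      dsimp only
      rw [dif_pos h1, ← Subgroup.orderOf_coe]
      exact h2
    · intro v hv v' hv' hvv
      rw [Finset.mem_coe, Finset.mem_filter] at hv hv'
      dsimp only at hvv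
      rw [dif_pos (hmaps v hv.2).1, dif_pos (hmaps v' hv'.2).1] at hvv
      exact Subtype.ext (e.symm.injective (congrArg Subtype.val hvv))
  have h1 : Nat.totient n ≤ Nat.totient (m / r) :=
    (Nat.le_of_dvd (Nat.totient_pos.2 (orderOf_pos u))
      (Nat.totient_dvd_of_dvd (orderOf_dvd_of_mem_zpowers hxu))).trans htot
  have h2 : 2 * Nat.totient (m / r) ≤ Nat.totient m := by
    have := Nat.totient_super_multiplicative r (m / r)
    rw [Nat.totient_prime hr, Nat.mul_div_cancel' hrd] at this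
    have h3 : 2 ≤ r - 1 := by have := hr.two_le; omega
    exact (Nat.mul_le_mul_right _ h3).trans this
  have h4 : n ≤ 2 * Nat.totient n := by
    obtain ⟨i, rfl⟩ := Nat.exists_eq_succ_of_ne_zero hi0
    rw [hni, Nat.totient_prime_pow hP (Nat.succ_pos i)]
    have := hP.two_le
    calc P ^ (i + 1) = P ^ i * P := pow_succ P i
      _ ≤ P ^ i * (2 * (P - 1)) := Nat.mul_le_mul_left _ (by omega)
      _ = 2 * (P ^ i * (P - 1)) := by ring
  omega

/-- Let G and H be finite groups whose power graphs are isomorphic: there is a bijection e : G → H such that, for all x, y, one of x, y is a power of the other exactly when one of e(x), e(y) is a power of the other. Then G and H have the same prime graph: for distinct primes p, q, G has an element of order pq if and only if H does. -/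
theorem result {G H : Type*} [Group G] [Finite G] [Group H] [Finite H] (e : G ≃ H)
    (he : ∀ x y : G, (x ∈ Subgroup.zpowers y ∨ y ∈ Subgroup.zpowers x) ↔
      (e x ∈ Subgroup.zpowers (e y) ∨ e y ∈ Subgroup.zpowers (e x)))
    {p q : ℕ} (hp : p.Prime) (hq : q.Prime) (hpq : p ≠ q) :
    (∃ g : G, orderOf g = p * q) ↔ (∃ h : H, orderOf h = p * q) := by
  constructor
  · rintro ⟨g, hg⟩
    exact exists_of_comp_equiv e he hp hq hpq hg
  · rintro ⟨h, hh⟩
    refine exists_of_comp_equiv e.symm (fun x y => ?_) hp hq hpq hh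
    have := he (e.symm x) (e.symm y)
    rw [e.apply_symm_apply, e.apply_symm_apply] at this
    exact this.symm

end Cfsg.Agent.S4085
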