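import Cfsg.Statements.S4086
-- import your own Cfsg.Agent.* helpers here

set_option autoImplicit false
open Cfsg

namespace Cfsg.Agent.S4086

theorem mem_zpowers_of_orderOf_dvd {G : Type*} [Group G] [Finite G] [IsCyclic G] {x y : G}
    (h : orderOf x ∣ orderOf y) : x ∈ Subgroup.zpowers y := by
  classical
  haveI := Fintype.ofFinite G
  by_contra hx
  have hsub : insert x (Finset.univ.filter fun u : G => u ∈ Subgroup.zpowers y) ⊆
      Finset.univ.filter fun u : G => u ^ orderOf y = 1 := by
    intro u hu
    rw [Finset.mem_filter]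
    refine ⟨Finset.mem_univ _, ?_⟩
    rcases Finset.mem_insert.1 hu with rfl | hu
    · exact orderOf_dvd_iff_pow_eq_one.1 h
    · exact orderOf_dvd_iff_pow_eq_one.1 (orderOf_dvd_of_mem_zpowers (Finset.mem_filter.1 hu).2)
  have h1 := (Finset.card_le_card hsub).trans (IsCyclic.card_pow_eq_one_le (orderOf_pos y))
  rw [Finset.card_insert_of_notMem (by simp [hx])] at h1
  have h2 : (Finset.univ.filter fun u : G => u ∈ Subgroup.zpowers y).card = orderOf y := by
    rw [← Nat.card_zpowers, Nat.card_eq_fintype_card, Fintype.card_subtype]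
  omega

/-- For a finite group G the following are equivalent: every non-identity element has prime-power order; whenever two elements generate a cyclic subgroup, one of them is a power of the other (the enhanced power graph of G coincides with its power graph). -/
theorem result {G : Type*} [Group G] [Finite G] :
    (∀ g : G, g ≠ 1 → IsPrimePow (orderOf g)) ↔
    (∀ x y : G, IsCyclic ↥(Subgroup.closure ({x, y} : Set G)) → (x ∈ Subgroup.zpowers y ∨ y ∈ Subgroup.zpowers x)) := by
  constructor
  · intro h x y hcyc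
    let K := Subgroup.closure ({x, y} : Set G)
    have hx : x ∈ K := Subgroup.subset_closure (Set.mem_insert x {y})
    have hy : y ∈ K := Subgroup.subset_closure (Set.mem_insert_of_mem x rfl)
    haveI : IsCyclic K := hcyc
    obtain ⟨z, hz⟩ := IsCyclic.exists_ofOrder_eq_natCard (α := K)
    have key : orderOf (⟨x, hx⟩ : K) ∣ orderOf (⟨y, hy⟩ : K) ∨ orderOf (⟨y, hy⟩ : K) ∣ orderOf (⟨x, hx⟩ : K) := by
      rcases eq_or_ne (z : G) 1 with h1 | h1
      · left
        have : orderOf z = 1 := by rw [← Subgroup.orderOf_coe, h1, orderOf_one]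
        exact (orderOf_dvd_natCard _).trans (by rw [← hz, this]; exact one_dvd _)
      · obtain ⟨p, n, hp, -, hpn⟩ := (isPrimePow_nat_iff _).1 (h _ h1)
        rw [Subgroup.orderOf_coe, hz] at hpn
        obtain ⟨i, -, hi⟩ := (Nat.dvd_prime_pow hp).1 ((orderOf_dvd_natCard (⟨x, hx⟩ : K)).trans hpn.symm.dvd)
        obtain ⟨j, -, hj⟩ := (Nat.dvd_prime_pow hp).1 ((orderOf_dvd_natCard (⟨y, hy⟩ : K)).trans hpn.symm.dvd)
        rw [hi, hj]
        exact (le_total i j).imp (pow_dvd_pow p) (pow_dvd_pow p)
    refine key.imp (fun hd => ?_) (fun hd => ?_)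
    · obtain ⟨k, hk⟩ := Subgroup.mem_zpowers_iff.1 (mem_zpowers_of_orderOf_dvd hd)
      exact ⟨k, by simpa using congrArg Subtype.val hk⟩
    · obtain ⟨k, hk⟩ := Subgroup.mem_zpowers_iff.1 (mem_zpowers_of_orderOf_dvd hd)
      exact ⟨k, by simpa using congrArg Subtype.val hk⟩
  · intro h g hg
    have hn : orderOf g ≠ 1 := fun h1 => hg (orderOf_eq_one_iff.1 h1)
    have hp := Nat.minFac_prime hn
    by_contra hpp
    have h2 : ∃ q : ℕ, q.Prime ∧ q ∣ orderOf g ∧ q ≠ (orderOf g).minFac := by
      by_contra hno
      push Not at hno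
      have he := Nat.eq_prime_pow_of_unique_prime_dvd (orderOf_pos g).ne' (fun {d} hd hd' => hno d hd hd')
      refine hpp ((isPrimePow_nat_iff _).2 ⟨(orderOf g).minFac, (orderOf g).primeFactorsList.length, hp, ?_, he.symm⟩)
      rcases Nat.eq_zero_or_pos (orderOf g).primeFactorsList.length with h0 | h0
      · rw [h0, pow_zero] at he; exact absurd he hn
      · exact h0
    obtain ⟨q, hq, hqd, hqp⟩ := h2
    have hpd := Nat.minFac_dvd (orderOf g)
    set p := (orderOf g).minFac with hpdef
    have hox : orderOf (g ^ (orderOf g / p)) = p := orderOf_pow_orderOf_div (orderOf_pos g).ne' hpd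
    have hoy : orderOf (g ^ (orderOf g / q)) = q := orderOf_pow_orderOf_div (orderOf_pos g).ne' hqd
    have hle : Subgroup.closure ({g ^ (orderOf g / p), g ^ (orderOf g / q)} : Set G) ≤ Subgroup.zpowers g := by
      rw [Subgroup.closure_le]
      rintro u (rfl | rfl) <;> exact Subgroup.pow_mem _ (Subgroup.mem_zpowers g) _
    have hc := Subgroup.isCyclic_of_le hle
    rcases h _ _ hc with hm | hm
    · have := orderOf_dvd_of_mem_zpowers hm
      rw [hox, hoy] at this
      exact hqp.symm ((Nat.prime_dvd_prime_iff_eq hp hq).1 this)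
    · have := orderOf_dvd_of_mem_zpowers hm
      rw [hox, hoy] at this
      exact hqp ((Nat.prime_dvd_prime_iff_eq hq hp).1 this)

end Cfsg.Agent.S4086
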