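import Cfsg.Statements.S4088
import Cfsg.Agent.FGS.Subnormalizer
-- import your own Cfsg.Agent.* helpers here

set_option autoImplicit false
open Cfsg

namespace Cfsg.Agent.S4088

open scoped Pointwise

/-- Let G be a finite group, p a prime dividing the order of G, H a p-subgroup of G and P a Sylow p-subgroup of G. Call the subnormalizer of H the set of elements g of G such that H is subnormal in the subgroup generated by H and g. Then the number of elements of the subnormalizer of H equals the number of Sylow p-subgroups of G containing H times the order of N_G(P), and also equals the number of conjugates of H contained in P times the order of N_G(H). -/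
theorem result {G : Type*} [Group G] [Finite G] (p : ℕ) [Fact p.Prime]
    (hp : p ∣ Nat.card G) (H : Subgroup G) (hH : IsPGroup p H) (P : Sylow p G) :
    Nat.card {g : G // ((H).subgroupOf (H ⊔ Subgroup.zpowers g)).IsSubnormal} =
        Nat.card {Q : Sylow p G // H ≤ (Q : Subgroup G)} * Nat.card (Subgroup.normalizer ((P : Subgroup G) : Set G)) ∧
    Nat.card {g : G // ((H).subgroupOf (H ⊔ Subgroup.zpowers g)).IsSubnormal} =
        Nat.card {K : Subgroup G // K ≤ (P : Subgroup G) ∧ ∃ g : G, K = H.map (MulAut.conj g).toMonoidHom} *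
          Nat.card (Subgroup.normalizer (H : Set G)) := by
  have h1 := CfsgLib.FGS.Subnormalizer.card_adm (p := p) H P
  rw [Nat.card_congr (Equiv.subtypeEquivRight fun g =>
    CfsgLib.FGS.Subnormalizer.isSubnormal_sup_iff hH g)]
  refine ⟨h1, h1.trans ?_⟩
  classical
  let act : MulAction G (Subgroup G) :=
    MulAction.compHom (Subgroup G) (MulAut.conj : G →* MulAut G)
  letI := act
  let cl : Set (Subgroup G) := MulAction.orbit G H
  have hmem : ∀ K : Subgroup G, K ∈ cl ↔ ∃ g : G, K = H.map (MulAut.conj g).toMonoidHom :=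
    fun K => ⟨fun ⟨g, hg⟩ => ⟨g, hg.symm⟩, fun ⟨g, hg⟩ => ⟨g, hg.symm⟩⟩
  have hst : MulAction.stabilizer G H = Subgroup.normalizer (H : Set G) := by
    ext g
    rw [MulAction.mem_stabilizer_iff, Subgroup.mem_normalizer_iff_map_conj_eq]
    rfl
  have hclcard : Nat.card cl * Nat.card (Subgroup.normalizer (H : Set G)) = Nat.card G := by
    rw [Nat.card_congr (MulAction.orbitEquivQuotientStabilizer G H), hst,
      ← Subgroup.card_eq_card_quotient_mul_card_subgroup]
  haveI := Fintype.ofFinite (Sylow p G)
  haveI := Fintype.ofFinite cl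
  have hcol : ∀ K : cl, Nat.card {Q : Sylow p G // (K : Subgroup G) ≤ Q} =
      Nat.card {Q : Sylow p G // H ≤ Q} := by
    rintro ⟨K, g, rfl⟩
    refine (Nat.card_congr (Equiv.subtypeEquiv (MulAction.toPerm g) fun Q => ?_)).symm
    show H ≤ (Q : Subgroup G) ↔ MulAut.conj g • H ≤ MulAut.conj g • (Q : Subgroup G)
    exact Subgroup.pointwise_smul_le_pointwise_smul_iff.symm
  have hrow : ∀ Q : Sylow p G, Nat.card {K : cl // (K : Subgroup G) ≤ Q} =
      Nat.card {K : cl // (K : Subgroup G) ≤ P} := by
    intro Q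
    obtain ⟨g, rfl⟩ := MulAction.exists_smul_eq G P Q
    refine (Nat.card_congr (Equiv.subtypeEquiv (MulAction.toPerm g) fun K => ?_)).symm
    show (K : Subgroup G) ≤ (P : Subgroup G) ↔
      MulAut.conj g • (K : Subgroup G) ≤ MulAut.conj g • (P : Subgroup G)
    exact Subgroup.pointwise_smul_le_pointwise_smul_iff.symm
  have hdouble : Nat.card cl * Nat.card {Q : Sylow p G // H ≤ Q} =
      Nat.card (Sylow p G) * Nat.card {K : cl // (K : Subgroup G) ≤ P} := by
    have e1 : Nat.card (Σ K : cl, {Q : Sylow p G // (K : Subgroup G) ≤ Q}) =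
        Nat.card (Σ Q : Sylow p G, {K : cl // (K : Subgroup G) ≤ Q}) :=
      Nat.card_congr ⟨fun s => ⟨s.2.1, s.1, s.2.2⟩, fun s => ⟨s.2.1, s.1, s.2.2⟩, fun s => rfl, fun s => rfl⟩
    rw [Nat.card_sigma, Nat.card_sigma, Finset.sum_congr rfl (fun K _ => hcol K),
      Finset.sum_congr rfl (fun Q _ => hrow Q), Finset.sum_const, Finset.sum_const, smul_eq_mul,
      smul_eq_mul, Finset.card_univ, Finset.card_univ, ← Nat.card_eq_fintype_card,
      ← Nat.card_eq_fintype_card] at e1
    exact e1
  have hα : Nat.card {K : Subgroup G // K ≤ (P : Subgroup G) ∧ ∃ g : G, K = H.map (MulAut.conj g).toMonoidHom} =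
      Nat.card {K : cl // (K : Subgroup G) ≤ P} :=
    Nat.card_congr (((Equiv.subtypeSubtypeEquivSubtypeInter (fun K => K ∈ cl) (fun K => K ≤ (P : Subgroup G))).trans
      (Equiv.subtypeEquivRight fun K => by rw [hmem, and_comm])).symm)
  rw [hα]
  refine Nat.eq_of_mul_eq_mul_left (Nat.card_pos (α := Sylow p G)) ?_
  have hn : Nat.card (Sylow p G) * Nat.card (Subgroup.normalizer ((P : Subgroup G) : Set G)) = Nat.card G := by
    rw [Sylow.card_eq_index_normalizer P]
    exact Subgroup.index_mul_card _
  calc Nat.card (Sylow p G) * (Nat.card {Q : Sylow p G // H ≤ Q} * Nat.card (Subgroup.normalizer ((P : Subgroup G) : Set G)))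
      = Nat.card {Q : Sylow p G // H ≤ Q} * (Nat.card (Sylow p G) * Nat.card (Subgroup.normalizer ((P : Subgroup G) : Set G))) := by ring
    _ = (Nat.card cl * Nat.card {Q : Sylow p G // H ≤ Q}) * Nat.card (Subgroup.normalizer (H : Set G)) := by
        rw [hn, ← hclcard]; ring
    _ = _ := by rw [hdouble]; ring

end Cfsg.Agent.S4088
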