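import Cfsg.Statements.S4089
import Cfsg.Agent.FGS.Subnormalizer
-- import your own Cfsg.Agent.* helpers here

set_option autoImplicit false
open Cfsg

namespace Cfsg.Agent.S4089

variable {G : Type*} [Group G] [Finite G] {p : ℕ} [Fact p.Prime]

open CfsgLib.FGS.Subnormalizer in
/-- An element of the subnormalizer normalizes a radical subgroup containing `H`. -/
theorem exists_radical {H : Subgroup G} {g : G} (h : Adm p H g) :
    ∃ R : Subgroup G, H ≤ R ∧ (Cfsg.pCore p (Subgroup.normalizer (R : Set G))).map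
      (Subgroup.normalizer (R : Set G)).subtype = R ∧ g ∈ Subgroup.normalizer (R : Set G) := by
  obtain ⟨R, ⟨hHR, hRp, hg⟩, hmax⟩ := Set.Finite.exists_maximalFor (fun R : Subgroup G => Nat.card R)
    {R | H ≤ R ∧ IsPGroup p R ∧ g ∈ Subgroup.normalizer (R : Set G)} (Set.toFinite _) h
  set M := Subgroup.normalizer (R : Set G) with hM
  set O := (Cfsg.pCore p M).map M.subtype
  have hRM : R ≤ M := Subgroup.le_normalizer
  haveI : (R.subgroupOf M).Normal := Subgroup.normal_in_normalizer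
  have hRO : R ≤ O := fun x hx =>
    ⟨⟨x, hRM hx⟩, CfsgLib.PLocal.le_pCore (hRp.of_equiv (Subgroup.subgroupOfEquivOfLe hRM).symm) hx, rfl⟩
  have hgO : g ∈ Subgroup.normalizer (O : Set G) :=
    Subgroup.le_normalizer_map M.subtype ⟨⟨g, hg⟩, by rw [Subgroup.normalizer_eq_top]; exact Subgroup.mem_top _, rfl⟩
  have hO : O ∈ {R | H ≤ R ∧ IsPGroup p R ∧ g ∈ Subgroup.normalizer (R : Set G)} :=
    ⟨hHR.trans hRO, (CfsgLib.PLocal.isPGroup_pCore p M).map _, hgO⟩
  exact ⟨R, hHR, (Subgroup.eq_of_le_of_card_ge hRO (hmax hO (Subgroup.card_le_of_le hRO))).symm, hg⟩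

theorem radical_isPGroup {R : Subgroup G}
    (hR : (Cfsg.pCore p (Subgroup.normalizer (R : Set G))).map (Subgroup.normalizer (R : Set G)).subtype = R) :
    IsPGroup p R := by
  rw [← hR]; exact (CfsgLib.PLocal.isPGroup_pCore p _).map _

/-- Radical subgroups above `H` contain the intersection of the Sylow subgroups above `H`. -/
theorem sInf_le_radical {H R : Subgroup G} (hHR : H ≤ R)
    (hR : (Cfsg.pCore p (Subgroup.normalizer (R : Set G))).map (Subgroup.normalizer (R : Set G)).subtype = R) :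
    sInf {K : Subgroup G | ∃ Q : Sylow p G, H ≤ (Q : Subgroup G) ∧ K = (Q : Subgroup G)} ≤ R := by
  obtain ⟨Q₀, hQ₀⟩ := (radical_isPGroup hR).exists_le_sylow
  set J := sInf {K : Subgroup G | ∃ Q : Sylow p G, R ≤ (Q : Subgroup G) ∧ K = (Q : Subgroup G)} with hJ
  have hIJ : sInf {K : Subgroup G | ∃ Q : Sylow p G, H ≤ (Q : Subgroup G) ∧ K = (Q : Subgroup G)} ≤ J :=
    sInf_le_sInf fun K ⟨Q, h1, h2⟩ => ⟨Q, hHR.trans h1, h2⟩
  refine hIJ.trans ?_
  have hJp : IsPGroup p J := Q₀.isPGroup'.to_le (sInf_le ⟨Q₀, hQ₀, rfl⟩)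
  have hRJ : R ≤ J := le_sInf fun K ⟨Q, h1, h2⟩ => h2 ▸ h1
  by_contra hnle
  have hlt : R < J := lt_of_le_not_ge hRJ hnle
  have hgt := CfsgLib.FGS.Subnormalizer.exists_normalizer_gt hJp hlt
  set M := Subgroup.normalizer (R : Set G) with hM
  -- `J ⊓ M` lies in every Sylow subgroup of `M`
  have hcore : (J ⊓ M).subgroupOf M ≤ Cfsg.pCore p M := by
    rw [CfsgLib.PLocal.pCore_eq_iInf_sylow]
    refine le_iInf fun S => ?_
    have hRS : R.subgroupOf M ≤ S := by
      haveI : (R.subgroupOf M).Normal := Subgroup.normal_in_normalizer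
      exact (CfsgLib.PLocal.le_pCore ((radical_isPGroup hR).of_equiv
        (Subgroup.subgroupOfEquivOfLe Subgroup.le_normalizer).symm)).trans (CfsgLib.PLocal.pCore_le_sylow S)
    obtain ⟨Q, hQ⟩ := (S.isPGroup'.map M.subtype).exists_le_sylow
    have hRQ : R ≤ Q := fun x hx => hQ ⟨⟨x, Subgroup.le_normalizer hx⟩, hRS hx, rfl⟩
    have hS : (Q : Subgroup G).subgroupOf M = S :=
      S.is_maximal' (Q.isPGroup'.comap_of_injective _ M.subtype_injective) fun x hx => hQ ⟨x, hx, rfl⟩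
    intro x hx
    rw [← hS]
    exact (sInf_le (show (Q : Subgroup G) ∈ {K : Subgroup G | ∃ Q : Sylow p G, R ≤ (Q : Subgroup G) ∧ K = (Q : Subgroup G)} from ⟨Q, hRQ, rfl⟩)) hx.1
  refine hgt.not_ge ?_
  conv_rhs => rw [← hR]
  intro x hx
  exact ⟨⟨x, hx.2⟩, hcore hx, rfl⟩

/-- Let G be a finite group, p a prime and H a p-subgroup of G. Then the set of elements g of G such that H is subnormal in the subgroup generated by H and g is the union of the normalizers N_G(R) over the subgroups R of G containing H with R = O_p(N_G(R)); and this set does not change when H is replaced by the intersection of all Sylow p-subgroups of G containing H. -/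
theorem result {G : Type*} [Group G] [Finite G] (p : ℕ) [Fact p.Prime]
    (H : Subgroup G) (hH : IsPGroup p H) :
    {g : G | ((H).subgroupOf (H ⊔ Subgroup.zpowers g)).IsSubnormal} =
      {g : G | ∃ R : Subgroup G, H ≤ R ∧ (Cfsg.pCore p (Subgroup.normalizer (R : Set G))).map (Subgroup.normalizer (R : Set G)).subtype = R ∧ g ∈ Subgroup.normalizer (R : Set G)} ∧
    ∀ g : G, (((H).subgroupOf (H ⊔ Subgroup.zpowers g)).IsSubnormal ↔
      (((sInf {K : Subgroup G | ∃ Q : Sylow p G, H ≤ (Q : Subgroup G) ∧ K = (Q : Subgroup G)})).subgroupOf ((sInf {K : Subgroup G | ∃ Q : Sylow p G, H ≤ (Q : Subgroup G) ∧ K = (Q : Subgroup G)}) ⊔ Subgroup.zpowers g)).IsSubnormal) := by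
  have key : ∀ g : G, CfsgLib.FGS.Subnormalizer.Adm p H g ↔ ∃ R : Subgroup G, H ≤ R ∧
      (Cfsg.pCore p (Subgroup.normalizer (R : Set G))).map (Subgroup.normalizer (R : Set G)).subtype = R ∧
      g ∈ Subgroup.normalizer (R : Set G) :=
    fun g => ⟨exists_radical, fun ⟨R, h1, h2, h3⟩ => ⟨R, h1, radical_isPGroup h2, h3⟩⟩
  refine ⟨Set.ext fun g => (CfsgLib.FGS.Subnormalizer.isSubnormal_sup_iff hH g).trans (key g), fun g => ?_⟩
  obtain ⟨Q₀, hQ₀⟩ := hH.exists_le_sylow
  set I := sInf {K : Subgroup G | ∃ Q : Sylow p G, H ≤ (Q : Subgroup G) ∧ K = (Q : Subgroup G)} with hI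
  have hIp : IsPGroup p I := Q₀.isPGroup'.to_le (sInf_le ⟨Q₀, hQ₀, rfl⟩)
  have hHI : H ≤ I := le_sInf fun K ⟨Q, h1, h2⟩ => h2 ▸ h1
  rw [CfsgLib.FGS.Subnormalizer.isSubnormal_sup_iff hH, CfsgLib.FGS.Subnormalizer.isSubnormal_sup_iff hIp]
  refine ⟨fun h => ?_, fun ⟨K, h1, h2⟩ => ⟨K, hHI.trans h1, h2⟩⟩
  obtain ⟨R, h1, h2, h3⟩ := (key g).1 h
  exact ⟨R, sInf_le_radical h1 h2, radical_isPGroup h2, h3⟩

end Cfsg.Agent.S4089
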