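import Cfsg.Statements.S4090
import Cfsg.Agent.FGS.SubnormalizerQuotient
import Mathlib.Algebra.BigOperators.Fin
import Mathlib.Algebra.BigOperators.RingEquiv
-- import your own Cfsg.Agent.* helpers here

set_option autoImplicit false
open scoped BigOperators
open Cfsg

namespace Cfsg.Agent.S4090

open CfsgLib.FGS.Subnormalizer

/-- telescoping -/
theorem telescope : ∀ {n : ℕ} (A : Fin (n + 1) → ℕ) (c : Fin n → ℕ),
    (∀ i : Fin n, A i.castSucc = c i * A i.succ) → A 0 = (∏ i, c i) * A (Fin.last n) := by
  intro n
  induction n with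
  | zero => intro A c _; simp
  | succ n ih =>
    intro A c h
    rw [Fin.prod_univ_succ, show A 0 = c 0 * A (Fin.succ 0) from h 0, mul_assoc]
    congr 1
    exact ih (fun i => A i.succ) (fun i => c i.succ) fun i => h i.succ

/-- Let G be a finite p-solvable group, H a p-subgroup of G and P a Sylow p-subgroup, and fix a chain of normal subgroups 1 = M₀ ≤ M₁ ≤ ⋯ ≤ Mₙ = G of G each of whose factors is a p-group or a p'-group. Then the number of elements g of G such that H is subnormal in the subgroup generated by H and g equals the order of P times the product, over the factors Mᵢ₊₁/Mᵢ of order prime to p, of the order of the centralizer of H in Mᵢ₊₁/Mᵢ (counted as the number of u ∈ Mᵢ₊₁ with [h, u] ∈ Mᵢ for all h ∈ H, divided by the order of Mᵢ). -/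
theorem result {G : Type*} [Group G] [Finite G] (p : ℕ) [Fact p.Prime]
    (hG : Cfsg.IsPSolvable p G) (H : Subgroup G) (hH : IsPGroup p H) (P : Sylow p G)
    (n : ℕ) (M : Fin (n + 1) → Subgroup G) (h0 : M 0 = ⊥) (hn : M (Fin.last n) = ⊤) (hmono : Monotone M)
    (hnormal : ∀ i, (M i).Normal)
    (hfac : ∀ i : Fin n, (∃ m : ℕ, (M i.castSucc).relIndex (M i.succ) = p ^ m) ∨ ((M i.castSucc).relIndex (M i.succ)).Coprime p) :
    Nat.card {g : G // ((H).subgroupOf (H ⊔ Subgroup.zpowers g)).IsSubnormal} =
      Nat.card (P : Subgroup G) *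
        ∏ i : Fin n, (if ((M i.castSucc).relIndex (M i.succ)).Coprime p then
          Nat.card {u : G // u ∈ M i.succ ∧ ∀ h ∈ H, h * u * h⁻¹ * u⁻¹ ∈ M i.castSucc} / Nat.card (M i.castSucc)
          else 1) := by
  classical
  haveI hMn : ∀ i, (M i).Normal := hnormal
  rw [Nat.card_congr (Equiv.subtypeEquivRight fun g => isSubnormal_sup_iff hH g)]
  have hp : p.Prime := Fact.out
  let A : Fin (n + 1) → ℕ := fun i =>
    Nat.card {g : G ⧸ M i // Adm p (H.map (QuotientGroup.mk' (M i))) g}
  set X : Fin n → ℕ := fun i =>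
    Nat.card {u : G // u ∈ M i.succ ∧ ∀ h ∈ H, h * u * h⁻¹ * u⁻¹ ∈ M i.castSucc} / Nat.card (M i.castSucc) with hX
  set r : Fin n → ℕ := fun i => (M i.castSucc).relIndex (M i.succ) with hr
  -- one step
  have hstep : ∀ i : Fin n, A i.castSucc = (if (r i).Coprime p then X i else r i) * A i.succ := by
    intro i
    have hle : M i.castSucc ≤ M i.succ := hmono (Fin.castSucc_lt_succ (i := i)).le
    let f : G ⧸ M i.castSucc →* G ⧸ M i.succ :=
      QuotientGroup.map _ _ (MonoidHom.id G) (hle.trans (Subgroup.comap_id _).ge)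
    have hf : Function.Surjective f := by
      rintro ⟨g⟩
      exact ⟨(g : G ⧸ M i.castSucc), rfl⟩
    have hker : f.ker = (M i.succ).map (QuotientGroup.mk' (M i.castSucc)) := by
      show (QuotientGroup.map _ _ (MonoidHom.id G) (hle.trans (Subgroup.comap_id _).ge)).ker = _
      rw [QuotientGroup.ker_map]
      rfl
    have hkcard : Nat.card f.ker = r i := by
      rw [hker]
      show _ = (M i.castSucc).relIndex (M i.succ)
      conv_rhs => rw [show M i.castSucc = (QuotientGroup.mk' (M i.castSucc)).ker from (QuotientGroup.ker_mk' _).symm]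
      rw [Subgroup.relIndex_ker]
    have hHmap : (H.map (QuotientGroup.mk' (M i.castSucc))).map f = H.map (QuotientGroup.mk' (M i.succ)) := by
      rw [Subgroup.map_map]
      rfl
    by_cases hco : (r i).Coprime p
    · rw [if_pos hco]
      simp only [A]
      rw [card_adm_of_ker_coprime hf (hkcard ▸ hco) (hH.map _), hHmap]
      congr 1
      set s : Set (G ⧸ M i.castSucc) := {v | v ∈ f.ker ∧ ∀ h ∈ H.map (QuotientGroup.mk' (M i.castSucc)), h * v * h⁻¹ * v⁻¹ = 1} with hs
      have hpre : ∀ u : G, (u ∈ M i.succ ∧ ∀ h ∈ H, h * u * h⁻¹ * u⁻¹ ∈ M i.castSucc) ↔ (u : G ⧸ M i.castSucc) ∈ s := by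
        intro u
        rw [hs, Set.mem_setOf_eq]
        refine and_congr ?_ ?_
        · rw [MonoidHom.mem_ker]
          exact (QuotientGroup.eq_one_iff u).symm
        · constructor
          · rintro h _ ⟨x, hx, rfl⟩
            exact (QuotientGroup.eq_one_iff _).2 (h x hx)
          · intro h x hx
            exact (QuotientGroup.eq_one_iff _).1 (h _ ⟨x, hx, rfl⟩)
      rw [hX]
      simp only
      rw [Nat.card_congr ((Equiv.subtypeEquivRight hpre).trans (QuotientGroup.preimageMkEquivSubgroupProdSet (M i.castSucc) s)),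
        Nat.card_prod, Nat.mul_div_cancel_left _ Nat.card_pos]
      rfl
    · rw [if_neg hco]
      obtain ⟨m, hm⟩ := (hfac i).resolve_right hco
      simp only [A]
      rw [card_adm_of_ker_pGroup hf (IsPGroup.of_card (n := m) (hkcard.trans hm)), hkcard, hHmap]
  -- the ends
  have hA0 : A 0 = Nat.card {g : G // Adm p H g} := by
    have hker : (QuotientGroup.mk' (M 0)).ker = ⊥ := by rw [QuotientGroup.ker_mk', h0]
    simp only [A]
    rw [card_adm_of_ker_pGroup (QuotientGroup.mk'_surjective (M 0)) (hker ▸ IsPGroup.of_bot) H, hker,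
      Subgroup.card_bot, one_mul]
  have hAn : A (Fin.last n) = 1 := by
    haveI : Subsingleton (G ⧸ M (Fin.last n)) := QuotientGroup.subsingleton_iff.2 hn
    rw [Nat.card_eq_one_iff_exists]
    exact ⟨⟨1, ⊥, (Subsingleton.elim _ _).le, IsPGroup.of_bot, by simp⟩, fun y => Subsingleton.elim _ _⟩
  -- the product of the `p`-factors
  have hprod : (∏ i, r i) = Nat.card G := by
    have h := telescope (fun i => (M i).index) r fun i =>
      (Subgroup.relIndex_mul_index (hmono (Fin.castSucc_lt_succ (i := i)).le)).symm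
    rwa [h0, hn, Subgroup.index_top, mul_one, Subgroup.index_bot, eq_comm] at h
  have hP : Nat.card (P : Subgroup G) = ∏ i, if (r i).Coprime p then 1 else r i := by
    set a := ∏ i, if (r i).Coprime p then 1 else r i with ha
    set b := ∏ i, if (r i).Coprime p then r i else 1 with hb
    have hab : a * b = Nat.card G := by
      rw [← hprod, ha, hb, ← Finset.prod_mul_distrib]
      exact Finset.prod_congr rfl fun i _ => by split_ifs <;> simp
    have hbp : ¬ p ∣ b := by
      rw [← hp.coprime_iff_not_dvd, hb]
      refine Nat.Coprime.prod_right fun i _ => ?_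
      split_ifs with h
      · exact h.symm
      · exact Nat.coprime_one_right p
    obtain ⟨e, he⟩ : ∃ e, a = p ^ e := by
      have : a ∣ p ^ (∑ i, if h : (r i).Coprime p then 0 else ((hfac i).resolve_right h).choose) := by
        rw [ha, ← Finset.prod_pow_eq_pow_sum]
        refine Finset.prod_dvd_prod_of_dvd _ _ fun i _ => ?_
        split_ifs with h
        · exact one_dvd _
        · exact dvd_of_eq ((hfac i).resolve_right h).choose_spec
      obtain ⟨e, -, he⟩ := (Nat.dvd_prime_pow hp).1 this
      exact ⟨e, he⟩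
    have hb0 : b ≠ 0 := fun h => hbp (h ▸ dvd_zero p)
    rw [P.card_eq_multiplicity, ← hab, he, Nat.factorization_mul (pow_pos hp.pos e).ne' hb0,
      Finsupp.add_apply, Nat.factorization_eq_zero_of_not_dvd hbp, add_zero,
      hp.factorization_pow, Finsupp.single_eq_same]
  rw [← hA0, telescope A _ hstep, hAn, mul_one, hP, ← Finset.prod_mul_distrib]
  refine Finset.prod_congr rfl fun i _ => ?_
  by_cases h : (r i).Coprime p
  · simp only [if_pos h, one_mul]
    rw [if_pos (show ((M i.castSucc).relIndex (M i.succ)).Coprime p from h)]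
  · simp only [if_neg h]
    rw [if_neg (show ¬ ((M i.castSucc).relIndex (M i.succ)).Coprime p from h), mul_one]

end Cfsg.Agent.S4090
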