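import Cfsg.Statements.S4091
import Cfsg.Agent.FGS.FixedProduct
import Cfsg.Agent.FGS.SubnormalizerQuotient
import Mathlib.Analysis.MeanInequalities
-- import your own Cfsg.Agent.* helpers here

set_option autoImplicit false
set_option linter.style.haveILetI false
open Cfsg

namespace Cfsg.Agent.S4091

open CfsgLib.FGS CfsgLib.FGS.Subnormalizer
open CfsgLib.Transitivity (fixBy)
open scoped Pointwise

variable {p : ℕ} [Fact p.Prime]

/-- The number of Sylow subgroups over a subgroup. -/
noncomputable def lam (p : ℕ) {G : Type*} [Group G] (R : Subgroup G) : ℕ :=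
  Nat.card {Q : Sylow p G // R ≤ Q}

theorem prod_comp_surjective {P Q : Type*} [Group P] [Fintype P] [Group Q] [Fintype Q] (h : P →* Q)
    (hh : Function.Surjective h) (g : Q → ℕ) :
    ∏ x : P, g (h x) = (∏ y : Q, g y) ^ Nat.card h.ker := by
  classical
  haveI := Fintype.ofFinite h.ker
  let s := Function.surjInv hh
  have hs : ∀ y, h (s y) = y := Function.surjInv_eq hh
  let e : Q × h.ker ≃ P :=
    { toFun := fun w => s w.1 * w.2
      invFun := fun x => (h x, ⟨(s (h x))⁻¹ * x, by
        rw [MonoidHom.mem_ker, map_mul, map_inv, hs, inv_mul_cancel]⟩)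
      left_inv := fun w => by
        have h1 : h (s w.1 * w.2) = w.1 := by rw [map_mul, hs, MonoidHom.mem_ker.1 w.2.2, mul_one]
        refine Prod.ext h1 (Subtype.ext ?_)
        show (s (h (s w.1 * w.2)))⁻¹ * (s w.1 * w.2) = (w.2 : P)
        rw [h1, inv_mul_cancel_left]
      right_inv := fun x => by simp }
  rw [← e.prod_comp, Fintype.prod_prod_type, ← Finset.prod_pow]
  refine Finset.prod_congr rfl fun y _ => ?_
  have hy : ∀ k : h.ker, g (h (e (y, k))) = g y := fun k => by
    show g (h (s y * k)) = g y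
    rw [map_mul, hs, MonoidHom.mem_ker.1 k.2, mul_one]
  rw [Finset.prod_congr rfl fun k _ => hy k, Finset.prod_const, Finset.card_univ,
    Nat.card_eq_fintype_card]

/-- The product of the numbers of Sylow subgroups over the elements of one of them is small. -/
def Good (p : ℕ) (G : Type*) [Group G] : Prop :=
  ∀ (P : Sylow p G) (S : Subgroup G) [Fintype S], S = (P : Subgroup G) →
    (∏ x : S, lam p (Subgroup.zpowers (x : G))) ^ p ≤ Nat.card (Sylow p G) ^ Fintype.card S

omit [Fact p.Prime] in
theorem lam_sylow {G : Type*} [Group G] [Finite G] (P : Sylow p G) : lam p (P : Subgroup G) = 1 := by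
  rw [lam, Nat.card_eq_one_iff_exists]
  exact ⟨⟨P, le_rfl⟩, fun Q => Subtype.ext (Sylow.ext (P.3 Q.1.isPGroup' Q.2))⟩

theorem good_step {G G' : Type*} [Group G] [Finite G] [Group G'] [Finite G'] {f : G →* G'}
    (hf : Function.Surjective f) (hker : IsPGroup p f.ker ∨ (Nat.card f.ker).Coprime p)
    (h : Good p G') : Good p G := by
  classical
  intro P S _ hS
  subst hS
  have hp := (Fact.out : p.Prime)
  haveI := Fintype.ofFinite ((P : Subgroup G).map f)
  let P' : Sylow p G' := P.mapSurjective hf
  have hP' : (P' : Subgroup G') = (P : Subgroup G).map f := Sylow.coe_mapSurjective hf P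
  have hIH := h P' _ hP'.symm
  let r := f.subgroupMap (P : Subgroup G)
  have hr : Function.Surjective r := f.subgroupMap_surjective _
  have hG : Nat.card G = Nat.card f.ker * Nat.card G' := by
    rw [← Subgroup.card_mul_index f.ker, Subgroup.index_ker, MonoidHom.range_eq_top.2 hf,
      Subgroup.card_top]
  have hmapz : ∀ x : (P : Subgroup G), (Subgroup.zpowers (x : G)).map f = Subgroup.zpowers ((r x : G')) := fun x => by
    rw [MonoidHom.map_zpowers]; rfl
  have hlam' : lam p ((P : Subgroup G).map f) = 1 := hP' ▸ lam_sylow P'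
  have hrcard : Fintype.card (P : Subgroup G) =
      Fintype.card ((P : Subgroup G).map f) * Nat.card r.ker := by
    rw [← Nat.card_eq_fintype_card, ← Nat.card_eq_fintype_card,
      ← r.ker.index_mul_card, Subgroup.index_ker, MonoidHom.range_eq_top.2 hr, Subgroup.card_top]
  rcases hker with hker | hker
  · -- the kernel is a `p`-group
    have hadm : ∀ R : Subgroup G, lam p R * Nat.card (Sylow p G') =
        lam p (R.map f) * Nat.card (Sylow p G) := by
      intro R
      have h1 := card_adm_mul (p := p) R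
      have h2 := card_adm_mul (p := p) (R.map f)
      rw [card_adm_of_ker_pGroup hf hker R, hG] at h1
      refine Nat.eq_of_mul_eq_mul_left (Nat.mul_pos (Nat.card_pos (α := f.ker)) (Nat.card_pos (α := G'))) ?_
      calc Nat.card f.ker * Nat.card G' * (lam p R * Nat.card (Sylow p G'))
          = lam p R * (Nat.card f.ker * Nat.card G') * Nat.card (Sylow p G') := by ring
        _ = Nat.card f.ker * Nat.card {g : G' // Adm p (R.map f) g} * Nat.card (Sylow p G) *
              Nat.card (Sylow p G') := by rw [h1]; rfl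
        _ = Nat.card f.ker * (Nat.card {g : G' // Adm p (R.map f) g} * Nat.card (Sylow p G')) *
              Nat.card (Sylow p G) := by ring
        _ = _ := by rw [h2]; unfold lam; ring
    have hn : Nat.card (Sylow p G') = Nat.card (Sylow p G) := by
      have h1 := hadm P
      rwa [lam_sylow, hlam', one_mul, one_mul] at h1
    have hl : ∀ x : (P : Subgroup G), lam p (Subgroup.zpowers (x : G)) = lam p (Subgroup.zpowers (r x : G')) := by
      intro x
      have h1 := hadm (Subgroup.zpowers (x : G))
      rw [hn, hmapz] at h1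
      exact Nat.eq_of_mul_eq_mul_right Nat.card_pos h1
    rw [Finset.prod_congr rfl fun x _ => hl x, prod_comp_surjective r hr
      (fun y => lam p (Subgroup.zpowers (y : G'))), ← hn, hrcard, pow_mul, ← pow_mul, mul_comm _ p,
      pow_mul]
    exact Nat.pow_le_pow_left hIH _
  · -- the kernel is a `p'`-group
    let φ : (P : Subgroup G) →* MulAut f.ker := MulAut.conjNormal.comp (P : Subgroup G).subtype
    have hcent : ∀ B : Subgroup (P : Subgroup G), Nat.card (fixBy φ B) =
        Nat.card {u : G // u ∈ f.ker ∧ ∀ h ∈ B.map (P : Subgroup G).subtype, h * u * h⁻¹ * u⁻¹ = 1} := by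
      intro B
      refine Nat.card_congr
        { toFun := fun v => ⟨((v : f.ker) : G), (v : f.ker).2, ?_⟩
          invFun := fun u => ⟨⟨u, u.2.1⟩, fun b hb => Subtype.ext ?_⟩
          left_inv := fun v => rfl
          right_inv := fun u => rfl }
      · rintro _ ⟨b, hb, rfl⟩
        rw [mul_inv_eq_one]
        exact congrArg Subtype.val (v.2 b hb)
      · exact mul_inv_eq_one.1 (u.2.2 _ ⟨b, hb, rfl⟩)
    have hadm : ∀ B : Subgroup (P : Subgroup G), lam p (B.map (P : Subgroup G).subtype) *
        (Nat.card f.ker * Nat.card (Sylow p G')) = Nat.card (fixBy φ B) *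
          lam p ((B.map (P : Subgroup G).subtype).map f) * Nat.card (Sylow p G) := by
      intro B
      set R := B.map (P : Subgroup G).subtype
      have h1 := card_adm_mul (p := p) R
      have h2 := card_adm_mul (p := p) (R.map f)
      rw [card_adm_of_ker_coprime hf hker (P.isPGroup'.to_le (Subgroup.map_subtype_le B)), ← hcent B,
        hG] at h1
      refine Nat.eq_of_mul_eq_mul_left (Nat.card_pos (α := G')) ?_
      calc Nat.card G' * (lam p R * (Nat.card f.ker * Nat.card (Sylow p G')))
          = lam p R * (Nat.card f.ker * Nat.card G') * Nat.card (Sylow p G') := by ring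
        _ = Nat.card (fixBy φ B) * Nat.card {g : G' // Adm p (R.map f) g} * Nat.card (Sylow p G) *
              Nat.card (Sylow p G') := by rw [h1]; rfl
        _ = Nat.card (fixBy φ B) * (Nat.card {g : G' // Adm p (R.map f) g} * Nat.card (Sylow p G')) *
              Nat.card (Sylow p G) := by ring
        _ = _ := by rw [h2]; unfold lam; ring
    set cP := Nat.card (fixBy φ ⊤)
    have hn : Nat.card f.ker * Nat.card (Sylow p G') = cP * Nat.card (Sylow p G) := by
      have h1 := hadm ⊤
      rwa [← MonoidHom.range_eq_map, Subgroup.range_subtype, lam_sylow, hlam', one_mul, mul_one] at h1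
    have hl : ∀ x : (P : Subgroup G), lam p (Subgroup.zpowers (x : G)) * cP =
        Nat.card (fixBy φ (Subgroup.zpowers x)) * lam p (Subgroup.zpowers (r x : G')) := by
      intro x
      have h1 := hadm (Subgroup.zpowers x)
      rw [MonoidHom.map_zpowers, Subgroup.coe_subtype, hmapz, hn] at h1
      refine Nat.eq_of_mul_eq_mul_right (Nat.card_pos (α := Sylow p G)) ?_
      rw [mul_assoc, h1]
    have hrker : Nat.card r.ker = 1 := by
      rw [Nat.card_eq_one_iff_exists]
      refine ⟨1, fun ⟨⟨x, hx⟩, hxk⟩ => Subtype.ext (Subtype.ext ?_)⟩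
      obtain ⟨k, hk⟩ := P.isPGroup' ⟨x, hx⟩
      have hxf : f x = 1 := congrArg Subtype.val (MonoidHom.mem_ker.1 hxk)
      exact orderOf_eq_one_iff.1 (Nat.eq_one_of_dvd_coprimes (hker.pow_right k)
        (f.ker.orderOf_dvd_natCard hxf) (orderOf_dvd_of_pow_eq_one (congrArg Subtype.val hk)))
    set N := Fintype.card (P : Subgroup G) with hN
    have hIH' : (∏ x : (P : Subgroup G), lam p (Subgroup.zpowers (r x : G'))) ^ p ≤ Nat.card (Sylow p G') ^ N := by
      rw [prod_comp_surjective r hr (fun y => lam p (Subgroup.zpowers (y : G'))), hrker, pow_one,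
        hrcard, hrker, mul_one]
      exact hIH
    have hVp : ¬ p ∣ Nat.card f.ker := (hp.coprime_iff_not_dvd).1 hker.symm
    have hfixed := prod_fixed_le P.isPGroup' hVp φ
    rw [← hN] at hfixed
    refine Nat.le_of_mul_le_mul_right (c := cP ^ (N * p)) ?_ (pow_pos Nat.card_pos _)
    calc (∏ x : (P : Subgroup G), lam p (Subgroup.zpowers (x : G))) ^ p * cP ^ (N * p)
        = (∏ x : (P : Subgroup G), lam p (Subgroup.zpowers (x : G)) * cP) ^ p := by
          rw [Finset.prod_mul_distrib, Finset.prod_const, Finset.card_univ, mul_pow, ← pow_mul]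
      _ = (∏ x : (P : Subgroup G), Nat.card (fixBy φ (Subgroup.zpowers x))) ^ p *
            (∏ x : (P : Subgroup G), lam p (Subgroup.zpowers (r x : G'))) ^ p := by
          rw [Finset.prod_congr rfl fun x _ => hl x, Finset.prod_mul_distrib, mul_pow]
      _ ≤ Nat.card f.ker ^ N * cP ^ (N * (p - 1)) * Nat.card (Sylow p G') ^ N :=
          Nat.mul_le_mul hfixed hIH'
      _ = (Nat.card f.ker * Nat.card (Sylow p G')) ^ N * cP ^ (N * (p - 1)) := by rw [mul_pow]; ring
      _ = Nat.card (Sylow p G) ^ N * (cP ^ N * cP ^ (N * (p - 1))) := by rw [hn, mul_pow]; ring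
      _ = _ := by
          rw [← pow_add]
          congr 2
          conv_rhs => rw [← Nat.add_sub_cancel' hp.one_le, mul_add, mul_one]

theorem good_of_isPSolvable {G : Type*} [Group G] [Finite G] (hG : Cfsg.IsPSolvable p G) :
    Good p G := by
  classical
  obtain ⟨n, H, h0, hn, hmono, hnorm, hfac⟩ := hG
  haveI := hnorm
  have key : ∀ i : Fin (n + 1), Good p (G ⧸ H i) := by
    intro i
    induction i using Fin.reverseInduction with
    | last =>
      haveI : Subsingleton (G ⧸ H (Fin.last n)) := QuotientGroup.subsingleton_iff.2 hn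
      intro P S _ hS
      have h1 : ∀ x : S, lam p (Subgroup.zpowers (x : G ⧸ H (Fin.last n))) = 1 := by
        intro x
        rw [lam, Nat.card_eq_one_iff_exists]
        exact ⟨⟨P, by rw [Subsingleton.elim (x : G ⧸ H (Fin.last n)) 1, Subgroup.zpowers_one_eq_bot]; exact bot_le⟩,
          fun Q => Subtype.ext (Sylow.ext (Subgroup.ext fun y => by simp [Subsingleton.elim y 1]))⟩
      rw [Finset.prod_congr rfl fun x _ => h1 x, Finset.prod_const_one, one_pow]
      exact Nat.one_le_pow _ _ Nat.card_pos
    | cast i ih =>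
      have hle : H i.castSucc ≤ H i.succ := hmono (Fin.castSucc_lt_succ (i := i)).le
      let f : G ⧸ H i.castSucc →* G ⧸ H i.succ :=
        QuotientGroup.map (H i.castSucc) (H i.succ) (MonoidHom.id G) hle
      have hf : Function.Surjective f := fun q => by
        obtain ⟨g, rfl⟩ := QuotientGroup.mk_surjective q
        exact ⟨g, rfl⟩
      have hkc : Nat.card f.ker = (H i.castSucc).relIndex (H i.succ) := by
        have hk : f.ker = (H i.succ).map (QuotientGroup.mk' (H i.castSucc)) := by
          exact (QuotientGroup.ker_map _ _ _ _).trans (by rw [Subgroup.comap_id])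
        rw [hk, ← Subgroup.relIndex_ker, QuotientGroup.ker_mk']
      refine good_step hf ?_ ih
      rcases hfac i with ⟨m, hm⟩ | hc
      · exact Or.inl (IsPGroup.of_card (n := m) (hkc.trans hm))
      · exact Or.inr (hkc ▸ hc)
  refine good_step (QuotientGroup.mk'_surjective (H 0)) (Or.inl ?_) (key 0)
  rw [QuotientGroup.ker_mk', h0]
  exact IsPGroup.of_bot

/-- Let G be a finite p-solvable group, P a Sylow p-subgroup of G, u the number of p-elements of G (elements of p-power order, the identity included) and n the number of Sylow p-subgroups of G. Then u/#P ≥ n^((p−1)/p), stated as u^p ≥ #P^p · n^(p−1). -/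
theorem result {G : Type*} [Group G] [Finite G] (p : ℕ) [Fact p.Prime]
    (hG : Cfsg.IsPSolvable p G) (P : Sylow p G) :
    Nat.card (P : Subgroup G) ^ p * Nat.card (Sylow p G) ^ (p - 1) ≤ Nat.card {g : G // ∃ k : ℕ, orderOf g = p ^ k} ^ p := by
  classical
  haveI := Fintype.ofFinite G
  haveI := Fintype.ofFinite (Sylow p G)
  set N := Fintype.card (P : Subgroup G) with hN
  set n := Nat.card (Sylow p G) with hn
  let a : G → ℝ := fun x => ((lam p (Subgroup.zpowers x) : ℕ) : ℝ)⁻¹
  have hlam : ∀ x : (P : Subgroup G), 0 < lam p (Subgroup.zpowers (x : G)) := fun x => by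
    haveI : Nonempty {Q : Sylow p G // Subgroup.zpowers (x : G) ≤ Q} := ⟨⟨P, Subgroup.zpowers_le.2 x.2⟩⟩
    exact Nat.card_pos
  set u := Nat.card {g : G // ∃ k : ℕ, orderOf g = p ^ k} with hu
  -- conjugation invariance
  have hconj : ∀ g x : G, lam p (Subgroup.zpowers (g * x * g⁻¹)) = lam p (Subgroup.zpowers x) := by
    intro g x
    refine (Nat.card_congr (Equiv.subtypeEquiv (MulAction.toPerm g) fun Q => ?_)).symm
    show Subgroup.zpowers x ≤ Q ↔ Subgroup.zpowers (g * x * g⁻¹) ≤ ((g • Q : Sylow p G) : Subgroup G)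
    rw [Subgroup.zpowers_le, Subgroup.zpowers_le]
    show x ∈ (Q : Subgroup G) ↔ g * x * g⁻¹ ∈ MulAut.conj g • (Q : Subgroup G)
    rw [Subgroup.mem_pointwise_smul_iff_inv_smul_mem]
    simp [MulAut.smul_def, mul_assoc]
  have hsum : (u : ℝ) = n * ∑ x : (P : Subgroup G), a x := by
    have hQ : ∀ Q : Sylow p G, ∑ x ∈ Finset.univ.filter (fun x : G => x ∈ (Q : Subgroup G)), a x =
        ∑ x : (P : Subgroup G), a x := by
      intro Q
      obtain ⟨g, rfl⟩ := MulAction.exists_smul_eq G P Q
      refine (Finset.sum_bij (fun (x : (P : Subgroup G)) _ => g * (x : G) * g⁻¹) (fun x _ => ?_) ?_ ?_ ?_).symm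
      · exact Finset.mem_filter.2 ⟨Finset.mem_univ _, ⟨(x : G), x.2, rfl⟩⟩
      · intro x _ y _ hxy
        exact Subtype.ext (by simpa using hxy)
      · intro y hy
        obtain ⟨x, hx, rfl⟩ := (Finset.mem_filter.1 hy).2
        exact ⟨⟨x, hx⟩, Finset.mem_univ _, rfl⟩
      · intro x _
        simp only [a, hconj]
    calc (u : ℝ) = ∑ x ∈ Finset.univ.filter (fun x : G => ∃ k, orderOf x = p ^ k), (1 : ℝ) := by
          rw [Finset.sum_const, nsmul_eq_mul, mul_one, hu, Nat.card_eq_fintype_card, Fintype.card_subtype]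
      _ = ∑ x ∈ Finset.univ.filter (fun x : G => ∃ k, orderOf x = p ^ k),
            ∑ Q : Sylow p G, if x ∈ (Q : Subgroup G) then a x else 0 := by
          refine Finset.sum_congr rfl fun x hx => ?_
          obtain ⟨k, hk⟩ := (Finset.mem_filter.1 hx).2
          obtain ⟨Q, hQ'⟩ := (IsPGroup.of_card (n := k) (by rw [Nat.card_zpowers, hk]) :
            IsPGroup p (Subgroup.zpowers x)).exists_le_sylow
          haveI : Nonempty {Q : Sylow p G // Subgroup.zpowers x ≤ Q} := ⟨⟨Q, hQ'⟩⟩
          rw [← Finset.sum_filter, Finset.sum_const, nsmul_eq_mul]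
          have hc : (Finset.univ.filter fun Q : Sylow p G => x ∈ (Q : Subgroup G)).card =
              lam p (Subgroup.zpowers x) := by
            rw [lam, Nat.card_eq_fintype_card, Fintype.card_subtype]
            exact congrArg Finset.card (Finset.filter_congr fun Q _ => by rw [Subgroup.zpowers_le])
          rw [hc]
          exact (mul_inv_cancel₀ (by exact_mod_cast (Nat.card_pos : 0 < lam p (Subgroup.zpowers x)).ne')).symm
      _ = ∑ Q : Sylow p G, ∑ x ∈ Finset.univ.filter (fun x : G => x ∈ (Q : Subgroup G)), a x := by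
          rw [Finset.sum_comm]
          refine Finset.sum_congr rfl fun Q _ => ?_
          rw [← Finset.sum_filter, Finset.filter_filter]
          refine Finset.sum_congr (Finset.filter_congr fun x _ => ⟨fun h => h.2, fun h => ⟨?_, h⟩⟩) fun _ _ => rfl
          obtain ⟨k, hk⟩ := IsPGroup.iff_orderOf.1 Q.isPGroup' ⟨x, h⟩
          exact ⟨k, (Subgroup.orderOf_mk x h).symm.trans hk⟩
      _ = _ := by
          rw [Finset.sum_congr rfl fun Q _ => hQ Q, Finset.sum_const, nsmul_eq_mul, hn,
            Nat.card_eq_fintype_card, Finset.card_univ]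
  have hNpos : (0 : ℝ) < N := by exact_mod_cast (Fintype.card_pos : 0 < N)
  have hamgm : (N : ℝ) ^ N * ∏ x : (P : Subgroup G), a x ≤ (∑ x : (P : Subgroup G), a x) ^ N := by
    have ha0 : ∀ x : (P : Subgroup G), 0 ≤ a x := fun x => by positivity
    have h := Real.geom_mean_le_arith_mean_weighted (Finset.univ : Finset (P : Subgroup G)) (fun _ => (N : ℝ)⁻¹)
      (fun x => a x) (fun _ _ => by positivity)
      (by rw [Finset.sum_const, Finset.card_univ, ← hN, nsmul_eq_mul, mul_inv_cancel₀ hNpos.ne'])
      (fun x _ => ha0 x)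
    have h2 := pow_le_pow_left₀ (Finset.prod_nonneg fun x _ => Real.rpow_nonneg (ha0 x) _) h N
    rw [← Finset.prod_pow, Finset.prod_congr rfl fun (x : (P : Subgroup G)) _ => show (a (x : G) ^ ((N : ℝ)⁻¹)) ^ N = a (x : G) by
      rw [← Real.rpow_natCast (a x ^ (N : ℝ)⁻¹), ← Real.rpow_mul (ha0 x), inv_mul_cancel₀ hNpos.ne',
        Real.rpow_one], ← Finset.mul_sum, mul_pow, inv_pow] at h2
    calc (N : ℝ) ^ N * ∏ x : (P : Subgroup G), a x ≤ (N : ℝ) ^ N * (((N : ℝ) ^ N)⁻¹ * (∑ x : (P : Subgroup G), a x) ^ N) :=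
          mul_le_mul_of_nonneg_left h2 (by positivity)
      _ = _ := by rw [mul_inv_cancel_left₀ (by positivity)]
  have hgood := good_of_isPSolvable hG P (P : Subgroup G) rfl
  set L := ∏ x : (P : Subgroup G), lam p (Subgroup.zpowers (x : G)) with hL
  have hLa : ∏ x : (P : Subgroup G), a x = (L : ℝ)⁻¹ := by
    rw [hL, Nat.cast_prod, ← Finset.prod_inv_distrib]
  have hLpos : (0 : ℝ) < L := by exact_mod_cast Finset.prod_pos fun x _ => hlam x
  have hmain : (((Nat.card (P : Subgroup G)) ^ p * n ^ (p - 1) : ℕ) : ℝ) ^ N ≤ ((u ^ p : ℕ) : ℝ) ^ N := by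
    push_cast
    rw [Nat.card_eq_fintype_card, ← hN, hsum]
    have hgood' : (L : ℝ) ^ p ≤ (n : ℝ) ^ N := by exact_mod_cast hgood
    have h1 : ((N : ℝ) ^ N * (L : ℝ)⁻¹) ^ p ≤ ((∑ x : (P : Subgroup G), a x) ^ N) ^ p :=
      pow_le_pow_left₀ (by positivity) (hLa ▸ hamgm) p
    have hp1 : p - 1 + 1 = p := Nat.sub_add_cancel (Fact.out : p.Prime).one_le
    calc ((N : ℝ) ^ p * (n : ℝ) ^ (p - 1)) ^ N
        = ((N : ℝ) ^ N) ^ p * ((n : ℝ) ^ N) ^ (p - 1) := by
          rw [mul_pow, ← pow_mul, ← pow_mul, ← pow_mul, ← pow_mul, mul_comm p N, mul_comm (p - 1) N]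
      _ = ((N : ℝ) ^ N * (L : ℝ)⁻¹) ^ p * ((L : ℝ) ^ p * ((n : ℝ) ^ N) ^ (p - 1)) := by
          rw [mul_pow, inv_pow]; field_simp
      _ ≤ ((∑ x : (P : Subgroup G), a x) ^ N) ^ p * ((n : ℝ) ^ N * ((n : ℝ) ^ N) ^ (p - 1)) :=
          mul_le_mul h1 (mul_le_mul_of_nonneg_right hgood' (by positivity)) (by positivity)
            (le_trans (by positivity) h1)
      _ = ((∑ x : (P : Subgroup G), a x) ^ N) ^ p * ((n : ℝ) ^ N) ^ p := by rw [← pow_succ', hp1]
      _ = (((n : ℝ) * ∑ x : (P : Subgroup G), a x) ^ p) ^ N := by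
          rw [← pow_mul, ← pow_mul, ← pow_mul, mul_pow]; ring
  have hN0 : N ≠ 0 := Fintype.card_ne_zero
  rw [← Nat.cast_pow, ← Nat.cast_pow, Nat.cast_le] at hmain
  exact (Nat.pow_le_pow_iff_left hN0).1 hmain

end Cfsg.Agent.S4091
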