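import Cfsg.Statements.S4093
import Mathlib.GroupTheory.Complement
import Mathlib.Algebra.Group.Pointwise.Set.Basic
import Mathlib.GroupTheory.GroupAction.Quotient
-- import your own Cfsg.Agent.* helpers here

set_option autoImplicit false
open scoped BigOperators
open Cfsg
open scoped Pointwise

namespace Cfsg.Agent.S4093

/-- Let G be a finite group with a normal subgroup N complementing a Sylow p-subgroup P (a normal p-complement). Then the number of elements of G of p-power order equals the sum over x ∈ P of the index of C_N(x) in N. -/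
theorem result {G : Type*} [Group G] [Finite G] (p : ℕ) [Fact p.Prime]
    (P : Sylow p G) (N : Subgroup G) [N.Normal] (hNP : N.IsComplement' (P : Subgroup G)) :
    Nat.card {g : G // ∃ k : ℕ, orderOf g = p ^ k} =
      ∑ᶠ x : (P : Subgroup G), Nat.card N / Nat.card ↥(N ⊓ Subgroup.centralizer ({(x : G)} : Set G)) := by
  classical
  letI act : MulAction N G := MulAction.compHom G ((MulAut.conj : G →* MulAut G).comp N.subtype)
  have hsmul : ∀ (n : N) (g : G), n • g = (n : G) * g * (n : G)⁻¹ := fun n g => rfl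
  have horb : ∀ x : (P : Subgroup G), Nat.card (MulAction.orbit N (x : G)) =
      Nat.card N / Nat.card ↥(N ⊓ Subgroup.centralizer ({(x : G)} : Set G)) := by
    intro x
    have hst : Nat.card (MulAction.stabilizer N (x : G)) =
        Nat.card ↥(N ⊓ Subgroup.centralizer ({(x : G)} : Set G)) := by
      refine Nat.card_congr ⟨fun n => ⟨n.1.1, n.1.2, ?_⟩, fun g => ⟨⟨g.1, g.2.1⟩, ?_⟩, fun n => rfl, fun g => rfl⟩
      · have h := n.2
        rw [MulAction.mem_stabilizer_iff, hsmul, mul_inv_eq_iff_eq_mul] at h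
        exact Subgroup.mem_centralizer_singleton_iff.2 h
      · rw [MulAction.mem_stabilizer_iff, hsmul, mul_inv_eq_iff_eq_mul]
        exact Subgroup.mem_centralizer_singleton_iff.1 g.2.2
    rw [← hst, Nat.card_congr (MulAction.orbitEquivQuotientStabilizer N (x : G)),
      Subgroup.card_eq_card_quotient_mul_card_subgroup (MulAction.stabilizer N (x : G)),
      Nat.mul_div_cancel _ Nat.card_pos]
  have hdis : Disjoint N (P : Subgroup G) := hNP.disjoint
  have huniq : ∀ (x : (P : Subgroup G)) (g : G), g ∈ MulAction.orbit N (x : G) → g * (x : G)⁻¹ ∈ N := by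
    rintro x g ⟨n, rfl⟩
    show (n : G) * x * (n : G)⁻¹ * (x : G)⁻¹ ∈ N
    rw [show (n : G) * x * (n : G)⁻¹ * (x : G)⁻¹ = (n : G) * ((x : G) * (n : G)⁻¹ * (x : G)⁻¹) by group]
    exact N.mul_mem n.2 (‹N.Normal›.conj_mem _ (N.inv_mem n.2) _)
  have hP : ∀ (x : (P : Subgroup G)) (g : G), g ∈ MulAction.orbit N (x : G) → ∃ k : ℕ, orderOf g = p ^ k := by
    rintro x g ⟨n, rfl⟩
    obtain ⟨k, hk⟩ := (IsPGroup.iff_orderOf.1 P.isPGroup') x
    refine ⟨k, ?_⟩
    show orderOf (MulAut.conj (n : G) (x : G)) = p ^ k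
    rw [MulEquiv.orderOf_eq, Subgroup.orderOf_coe]
    exact hk
  let f : (Σ x : (P : Subgroup G), MulAction.orbit N (x : G)) → {g : G // ∃ k : ℕ, orderOf g = p ^ k} :=
    fun s => ⟨s.2.1, hP s.1 s.2.1 s.2.2⟩
  have hf : Function.Bijective f := by
    constructor
    · rintro ⟨x, g, hg⟩ ⟨y, g', hg'⟩ heq
      have hgg : g = g' := congrArg Subtype.val heq
      subst hgg
      have h1 := huniq x g hg
      have h2 := huniq y g hg'
      have h3 : (x : G) * (y : G)⁻¹ ∈ N := by
        have h4 := N.mul_mem (N.inv_mem h1) h2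
        rwa [mul_inv_rev, inv_inv, mul_assoc, inv_mul_cancel_left] at h4
      have hxy : x = y := Subtype.ext (mul_inv_eq_one.1 (Subgroup.mem_bot.1
        (hdis.eq_bot.le ⟨h3, Subgroup.mul_mem _ x.2 (Subgroup.inv_mem _ y.2)⟩)))
      subst hxy
      rfl
    · rintro ⟨g, k, hk⟩
      obtain ⟨Q, hQ⟩ := (IsPGroup.of_card (n := k) (by rw [Nat.card_zpowers, hk]) :
        IsPGroup p (Subgroup.zpowers g)).exists_le_sylow
      obtain ⟨u, rfl⟩ := MulAction.exists_smul_eq G P Q
      have hu : u ∈ ((N : Set G) * ((P : Subgroup G) : Set G) : Set G) := by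
        rw [hNP.mul_eq]; trivial
      obtain ⟨n, hn, y, hy, rfl⟩ := hu
      have hg : g ∈ MulAut.conj (n * y) • (P : Subgroup G) := hQ (Subgroup.mem_zpowers g)
      rw [Subgroup.mem_pointwise_smul_iff_inv_smul_mem] at hg
      have hg2 : (n * y)⁻¹ * g * (n * y) ∈ (P : Subgroup G) := by
        simpa [MulAut.smul_def, MulAut.conj_symm_apply, ← map_inv, mul_assoc] using hg
      refine ⟨⟨⟨y * ((n * y)⁻¹ * g * (n * y)) * y⁻¹, mul_mem (mul_mem hy hg2) (inv_mem hy)⟩, g, ⟨⟨n, hn⟩, ?_⟩⟩, rfl⟩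
      show n * (y * ((n * y)⁻¹ * g * (n * y)) * y⁻¹) * n⁻¹ = g
      group
  rw [← Nat.card_congr (Equiv.ofBijective f hf)]
  haveI := Fintype.ofFinite (P : Subgroup G)
  rw [Nat.card_sigma, finsum_eq_sum_of_fintype]
  exact Finset.sum_congr rfl fun x _ => horb x

end Cfsg.Agent.S4093
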