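import Cfsg.Statements.S4106
import Cfsg.Agent.FGS.PrimePart
import Mathlib.Algebra.Group.Conj
-- import your own Cfsg.Agent.* helpers here

set_option autoImplicit false
open Cfsg

namespace Cfsg.Agent.S4106

open scoped Pointwise

/-- `g` has all prime divisors of its order in `s` -/
def SElem {G : Type*} [Group G] (s : Finset ℕ) (g : G) : Prop :=
  ∀ q : ℕ, q.Prime → q ∣ orderOf g → q ∈ s

/-- A set of representatives of classes of `s`-elements bounded by the `s`-part of the order. -/
theorem exists_reps (s : Finset ℕ) : (∀ q ∈ s, q.Prime) → ∀ (G : Type*) [Group G] [Finite G],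
    ∃ R : Finset G, R.card ≤ ∏ q ∈ s, q ^ (Nat.card G).factorization q ∧
      ∀ g : G, SElem s g → ∃ r ∈ R, IsConj g r := by
  induction s using Finset.induction with
  | empty =>
    intro _ G _ _
    classical
    refine ⟨{1}, by simp, fun g hg => ⟨1, Finset.mem_singleton_self _, ?_⟩⟩
    rcases eq_or_ne (orderOf g) 1 with h | h
    · rw [orderOf_eq_one_iff.1 h]
    · exact absurd (hg _ (Nat.minFac_prime h) (Nat.minFac_dvd _)) (Finset.notMem_empty _)
  | insert p s hps ih =>
    intro hs G _ _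
    classical
    have hp : p.Prime := hs p (Finset.mem_insert_self _ _)
    have hs' : ∀ q ∈ s, q.Prime := fun q hq => hs q (Finset.mem_insert_of_mem hq)
    haveI := Fact.mk hp
    obtain ⟨P⟩ : Nonempty (Sylow p G) := inferInstance
    choose R hRcard hR using fun x : (P : Subgroup G) =>
      ih hs' (Subgroup.centralizer ({(x : G)} : Set G))
    haveI := Fintype.ofFinite (P : Subgroup G)
    refine ⟨Finset.univ.biUnion fun x : (P : Subgroup G) =>
      (R x).image fun y : Subgroup.centralizer ({(x : G)} : Set G) => (x : G) * (y : G), ?_, ?_⟩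
    · refine Finset.card_biUnion_le.trans ?_
      calc (∑ x : (P : Subgroup G), ((R x).image fun y : Subgroup.centralizer ({(x : G)} : Set G) => (x : G) * (y : G)).card)
          ≤ ∑ _x : (P : Subgroup G), ∏ q ∈ s, q ^ (Nat.card G).factorization q := by
            refine Finset.sum_le_sum fun x _ => Finset.card_image_le.trans ((hRcard x).trans ?_)
            refine Finset.prod_le_prod' fun q hq => Nat.pow_le_pow_right (hs' q hq).pos ?_
            exact (Nat.factorization_le_iff_dvd Nat.card_pos.ne' Nat.card_pos.ne').2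
              (Subgroup.card_subgroup_dvd_card _) q
        _ = _ := by
            rw [Finset.sum_const, smul_eq_mul, Finset.prod_insert hps, Finset.card_univ,
              ← Nat.card_eq_fintype_card, P.card_eq_multiplicity]
    · intro g hg
      have hn0 := (orderOf_pos g).ne'
      set a := p ^ (orderOf g).factorization p with hadef
      set b := orderOf g / a with hbdef
      have hab : a * b = orderOf g := Nat.ordProj_mul_ordCompl_eq_self (orderOf g) p
      have hco : a.Coprime b := (Nat.coprime_ordCompl hp hn0).pow_left _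
      have h1 := Nat.gcd_eq_gcd_ab a b
      rw [hco.gcd_eq_one, Nat.cast_one] at h1
      set x := g ^ ((b : ℤ) * Nat.gcdB a b) with hx
      set y := g ^ ((a : ℤ) * Nat.gcdA a b) with hy
      have hxy : g = x * y := by rw [hx, hy, ← zpow_add, add_comm, ← h1, zpow_one]
      have hox : orderOf x ∣ a := orderOf_dvd_of_pow_eq_one (by
        rw [hx, ← zpow_natCast, ← zpow_mul]
        refine orderOf_dvd_iff_zpow_eq_one.1 ⟨Nat.gcdB a b, ?_⟩
        rw [← hab]; push_cast; ring)
      have hoy : orderOf y ∣ b := orderOf_dvd_of_pow_eq_one (by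
        rw [hy, ← zpow_natCast, ← zpow_mul]
        refine orderOf_dvd_iff_zpow_eq_one.1 ⟨Nat.gcdA a b, ?_⟩
        rw [← hab]; push_cast; ring)
      -- move the `p`-part into `P`
      obtain ⟨i, -, hi⟩ := (Nat.dvd_prime_pow hp).1 hox
      obtain ⟨Q, hQ⟩ := (IsPGroup.of_card (n := i) (by rw [Nat.card_zpowers, hi]) :
        IsPGroup p (Subgroup.zpowers x)).exists_le_sylow
      obtain ⟨u, hu⟩ := MulAction.exists_smul_eq G Q P
      have hxP : u * x * u⁻¹ ∈ (P : Subgroup G) := by
        rw [← hu]; exact ⟨x, hQ (Subgroup.mem_zpowers x), rfl⟩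
      have hyC : u * y * u⁻¹ ∈ Subgroup.centralizer ({u * x * u⁻¹} : Set G) :=
        Subgroup.mem_centralizer_singleton_iff.2
          (((Commute.refl g).zpow_zpow _ _).map (MulAut.conj u).toMonoidHom)
      obtain ⟨r, hr, hrc⟩ := hR ⟨u * x * u⁻¹, hxP⟩ ⟨u * y * u⁻¹, hyC⟩ (by
        intro q hq hqd
        rw [Subgroup.orderOf_mk, show u * y * u⁻¹ = MulAut.conj u y from rfl, MulEquiv.orderOf_eq] at hqd
        have hqb := hqd.trans hoy
        rcases Finset.mem_insert.1 (hg q hq (hqb.trans (hab ▸ dvd_mul_left b a))) with rfl | h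
        · exact absurd hqb (Nat.not_dvd_ordCompl hp hn0)
        · exact h)
      obtain ⟨⟨c, hc⟩, hcr⟩ := isConj_iff.1 hrc
      have hcr' : c * (u * y * u⁻¹) * c⁻¹ = r.1 := congrArg Subtype.val hcr
      have hcx : c * (u * x * u⁻¹) = (u * x * u⁻¹) * c := Subgroup.mem_centralizer_singleton_iff.1 hc
      refine ⟨(u * x * u⁻¹) * r.1, Finset.mem_biUnion.2 ⟨⟨_, hxP⟩, Finset.mem_univ _,
        Finset.mem_image.2 ⟨r, hr, rfl⟩⟩, isConj_iff.2 ⟨c * u, ?_⟩⟩
      rw [← hcr']
      calc c * u * g * (c * u)⁻¹ = c * u * (x * y) * (c * u)⁻¹ := by rw [← hxy]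
        _ = (c * (u * x * u⁻¹)) * (u * y * u⁻¹) * c⁻¹ := by group
        _ = _ := by rw [hcx]; group

/-- Let G be a finite group, π a set of primes and m the π-part of the order of G. Then the number of conjugacy classes of G consisting of π-elements (elements whose order is divisible only by primes in π) is at most m. -/
theorem result {G : Type*} [Group G] [Finite G]
    (π : Set ℕ) (hπ : ∀ q ∈ π, q.Prime)
    (m : ℕ) (hm : m ∣ Nat.card G) (hmπ : ∀ q : ℕ, q.Prime → q ∣ m → q ∈ π)
    (hm' : ∀ q ∈ π, ¬ q ∣ Nat.card G / m) :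
    Nat.card {C : ConjClasses G // ∀ q : ℕ, q.Prime → (∃ g : G, ConjClasses.mk g = C ∧ q ∣ orderOf g) → q ∈ π} ≤ m := by
  classical
  obtain ⟨R, hRcard, hR⟩ := exists_reps ((Nat.card G).primeFactors.filter (· ∈ π))
    (fun q hq => Nat.prime_of_mem_primeFactors (Finset.mem_filter.1 hq).1) G
  have hbound : (∏ q ∈ (Nat.card G).primeFactors.filter (· ∈ π), q ^ (Nat.card G).factorization q) = m := by
    have hm0 : m ≠ 0 := fun h => Nat.card_pos.ne' (Nat.eq_zero_of_zero_dvd (h ▸ hm))
    have hd0 : Nat.card G / m ≠ 0 :=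
      (Nat.div_pos (Nat.le_of_dvd Nat.card_pos hm) (Nat.pos_of_ne_zero hm0)).ne'
    have hset : (Nat.card G).primeFactors.filter (· ∈ π) = m.primeFactors := by
      ext q
      simp only [Finset.mem_filter, Nat.mem_primeFactors]
      constructor
      · rintro ⟨⟨hq, hqd, -⟩, hqπ⟩
        refine ⟨hq, ?_, hm0⟩
        rw [← Nat.mul_div_cancel' hm] at hqd
        exact (hq.dvd_mul.1 hqd).resolve_right (hm' q hqπ)
      · rintro ⟨hq, hqd, -⟩
        exact ⟨⟨hq, hqd.trans hm, Nat.card_pos.ne'⟩, hmπ q hq hqd⟩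
    rw [hset]
    conv_rhs => rw [← Nat.prod_factorization_pow_eq_self hm0]
    rw [Nat.prod_factorization_eq_prod_primeFactors]
    refine Finset.prod_congr rfl fun q hq => ?_
    congr 1
    conv_lhs => rw [← Nat.mul_div_cancel' hm, Nat.factorization_mul hm0 hd0]
    rw [Finsupp.add_apply, Nat.factorization_eq_zero_of_not_dvd
      (hm' q (hmπ q (Nat.prime_of_mem_primeFactors hq) (Nat.dvd_of_mem_primeFactors hq))), add_zero]
  rw [← hbound]
  refine le_trans ?_ hRcard
  rw [← Nat.card_eq_finsetCard]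
  have hex : ∀ C : {C : ConjClasses G // ∀ q : ℕ, q.Prime → (∃ g : G, ConjClasses.mk g = C ∧ q ∣ orderOf g) → q ∈ π},
      ∃ r : R, ConjClasses.mk (r : G) = C.1 := by
    rintro ⟨C, hC⟩
    obtain ⟨g, rfl⟩ := ConjClasses.exists_rep C
    obtain ⟨r, hr, hgr⟩ := hR g (fun q hq hqd => Finset.mem_filter.2
      ⟨Nat.mem_primeFactors.2 ⟨hq, hqd.trans (orderOf_dvd_natCard g), Nat.card_pos.ne'⟩, hC q hq ⟨g, rfl, hqd⟩⟩)
    exact ⟨⟨r, hr⟩, ConjClasses.mk_eq_mk_iff_isConj.2 hgr.symm⟩
  choose f hf using hex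
  exact Nat.card_le_card_of_injective f fun C C' h => Subtype.ext (by rw [← hf C, ← hf C', h])

end Cfsg.Agent.S4106
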