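import Cfsg.Statements.S4107
import Cfsg.Agent.FGS.PrimePart
import Mathlib.GroupTheory.Nilpotent
-- import your own Cfsg.Agent.* helpers here

set_option autoImplicit false
open Cfsg

namespace Cfsg.Agent.S4107

variable {G : Type*} [Group G] [Finite G]

/-- coprimality of prime powers -/
theorem cop {p q a b : ℕ} (hp : p.Prime) (hq : q.Prime) (h : p ≠ q) : (p ^ a).Coprime (q ^ b) :=
  ((Nat.coprime_primes hp hq).2 h).pow a b

/-- prime-power elements of a normal nilpotent subgroup lie in normal `p`-subgroups -/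
theorem exists_normal_pGroup {M : Subgroup G} [M.Normal] (hM : Group.IsNilpotent M) {p m : ℕ}
    [Fact p.Prime] {x : G} (hx : x ∈ M) (ho : orderOf x = p ^ m) :
    ∃ K : Subgroup G, K.Normal ∧ IsPGroup p K ∧ x ∈ K := by
  haveI := hM
  obtain ⟨Q, hQ⟩ := (IsPGroup.of_card (n := m)
    (by rw [Nat.card_zpowers, Subgroup.orderOf_mk, ho]) :
    IsPGroup p (Subgroup.zpowers (⟨x, hx⟩ : M))).exists_le_sylow
  haveI hn : (Q : Subgroup M).Normal :=
    Subgroup.normalizer_eq_top_iff.1 (normalizerCondition_iff_only_full_group_self_normalizing.1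
      (Group.normalizerCondition_of_isNilpotent (G := M)) _ (Sylow.normalizer_normalizer Q))
  haveI := Q.characteristic_of_normal hn
  exact ⟨(Q : Subgroup M).map M.subtype, inferInstance, Q.isPGroup'.map _,
    ⟨⟨x, hx⟩, hQ (Subgroup.mem_zpowers _), rfl⟩⟩

theorem core (N : Subgroup G) [N.Normal] (hN1 : N ≠ ⊥)
    (heq : ∀ x : G, x ∉ N → ∀ n ∈ N, orderOf (x * n) = orderOf x)
    (hF : ¬ Cfsg.fittingSubgroup G ≤ N) :
    ∃ p : ℕ, p.Prime ∧ IsPGroup p (Cfsg.fittingSubgroup G) ∧ IsPGroup p N := by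
  -- no coprime commuting pair across `N`
  have key : ∀ {p q : ℕ} {x n : G}, p.Prime → q.Prime → p ≠ q → x ∉ N → n ∈ N → Commute x n →
      (∃ a, orderOf x = p ^ a) → (∃ b, orderOf n = q ^ b) → n = 1 := by
    rintro p q x n hp hq hpq hx hn hc ⟨a, ha⟩ ⟨b, hb⟩
    by_contra hn1
    exact CfsgLib.FGS.orderOf_mul_ne hc (ha ▸ hb ▸ cop hp hq hpq) hn1 (heq x hx n hn)
  obtain ⟨M, ⟨hMn, hMnil⟩, hMN⟩ : ∃ M : Subgroup G, (M.Normal ∧ Group.IsNilpotent M) ∧ ¬ M ≤ N := by
    by_contra hcon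
    push Not at hcon
    exact hF (sSup_le fun M hM => hcon M hM)
  obtain ⟨y, hyM, hyN⟩ := SetLike.not_le_iff_exists.1 hMN
  obtain ⟨k, p, m, hp, -, hk, ho⟩ := CfsgLib.FGS.exists_pow_primePow_not_mem hyN
  haveI := hMn
  haveI := Fact.mk hp
  obtain ⟨K, hKn, hK, hxK⟩ := exists_normal_pGroup hMnil (M.pow_mem hyM k) ho
  have ordK : ∀ {q : ℕ} {L : Subgroup G}, IsPGroup q L → q.Prime → ∀ z ∈ L, ∃ b, orderOf z = q ^ b := by
    intro q L hL hq z hz
    haveI := Fact.mk hq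
    obtain ⟨b, hb⟩ := (IsPGroup.iff_orderOf.1 hL) ⟨z, hz⟩
    exact ⟨b, by rwa [Subgroup.orderOf_mk] at hb⟩
  -- normal `q`-subgroups are trivial
  have hother : ∀ {q : ℕ} (L : Subgroup G), L.Normal → IsPGroup q L → q.Prime → q ≠ p → L = ⊥ := by
    intro q L hLn hL hq hqp
    haveI := Fact.mk hq
    have hKL : Disjoint K L := IsPGroup.disjoint_of_ne p q (Ne.symm hqp) K L hK hL
    have hcKL : ∀ a ∈ K, ∀ b ∈ L, Commute a b := fun a ha b hb =>
      Subgroup.commute_of_normal_of_disjoint K L hKn hLn hKL a b ha hb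
    have hLN : ∀ z ∈ L, z ∈ N → z = 1 := fun z hz hzN =>
      key hp hq (Ne.symm hqp) hk hzN (hcKL _ hxK z hz) ⟨m, ho⟩ (ordK hL hq z hz)
    by_contra hne
    obtain ⟨z, hz, hz1⟩ := (Subgroup.ne_bot_iff_exists_ne_one).1 hne |>.elim fun z hz => (⟨z.1, z.2, fun e => hz (Subtype.ext e)⟩ : ∃ z ∈ L, z ≠ 1)
    have hzN : z ∉ N := fun h => hz1 (hLN z hz h)
    have hKN : ∀ w ∈ K, w ∈ N → w = 1 := fun w hw hwN =>
      key hq hp hqp hzN hwN (hcKL w hw z hz).symm (ordK hL hq z hz) (ordK hK hp w hw)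
    apply hN1
    rw [eq_bot_iff]
    intro n hn
    rw [Subgroup.mem_bot]
    by_contra hn1
    obtain ⟨j, r, b, hr, -, hj, hob⟩ := CfsgLib.FGS.exists_pow_primePow_not_mem
      (N := (⊥ : Subgroup G)) (fun h => hn1 (Subgroup.mem_bot.1 h))
    have hnj : n ^ j ∈ N := N.pow_mem hn j
    have hdK : Disjoint K N := disjoint_iff.2 (eq_bot_iff.2 fun w hw => Subgroup.mem_bot.2 (hKN w hw.1 hw.2))
    have hdL : Disjoint L N := disjoint_iff.2 (eq_bot_iff.2 fun w hw => Subgroup.mem_bot.2 (hLN w hw.1 hw.2))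
    refine hj (Subgroup.mem_bot.2 ?_)
    rcases eq_or_ne r p with rfl | hrp
    · exact key hq hr hqp hzN hnj
        (Subgroup.commute_of_normal_of_disjoint L N hLn inferInstance hdL _ _ hz hnj) (ordK hL hq z hz) ⟨b, hob⟩
    · exact key hp hr (Ne.symm hrp) hk hnj
        (Subgroup.commute_of_normal_of_disjoint K N hKn inferInstance hdK _ _ hxK hnj) ⟨m, ho⟩ ⟨b, hob⟩
  have hFle : Cfsg.fittingSubgroup G ≤ sSup {L : Subgroup G | L.Normal ∧ IsPGroup p L} := by
    refine sSup_le fun A hA z hz => ?_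
    by_contra hzno
    obtain ⟨j, q, b, hq, -, hj, hob⟩ := CfsgLib.FGS.exists_pow_primePow_not_mem hzno
    haveI := Fact.mk hq
    haveI := hA.1
    obtain ⟨L, hLn, hL, hzL⟩ := exists_normal_pGroup hA.2 (A.pow_mem hz j) hob
    rcases eq_or_ne q p with rfl | hqp
    · exact hj (le_sSup (show L ∈ {L : Subgroup G | L.Normal ∧ IsPGroup q L} from ⟨hLn, hL⟩) hzL)
    · rw [hother L hLn hL hq hqp, Subgroup.mem_bot] at hzL
      exact hj (hzL ▸ Subgroup.one_mem _)
  have hcore : IsPGroup p ↥(sSup {L : Subgroup G | L.Normal ∧ IsPGroup p L}) := by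
    have h : ∀ S : Finset (Subgroup G), (∀ L ∈ S, L.Normal ∧ IsPGroup p L) → (S.sup id).Normal ∧ IsPGroup p ↥(S.sup id) := by
      classical
      intro S
      induction S using Finset.induction with
      | empty => intro _; rw [Finset.sup_empty]; exact ⟨inferInstance, IsPGroup.of_bot⟩
      | insert a s ha ih =>
        intro hs
        obtain ⟨h1, h2⟩ := ih fun L hL => hs L (Finset.mem_insert_of_mem hL)
        obtain ⟨h3, h4⟩ := hs a (Finset.mem_insert_self _ _)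
        rw [Finset.sup_insert, id_eq]
        exact ⟨Subgroup.sup_normal _ _, h4.to_sup_of_normal_left h2⟩
    have hfin : {L : Subgroup G | L.Normal ∧ IsPGroup p L}.Finite := Set.toFinite _
    have h2 := (h hfin.toFinset fun L hL => hfin.mem_toFinset.1 hL).2
    rwa [Finset.sup_id_eq_sSup, hfin.coe_toFinset] at h2
  refine ⟨p, hp, hcore.to_le hFle, ?_⟩
  -- `N` is a `p`-group
  rw [IsPGroup.iff_orderOf]
  intro n
  by_contra hcon
  push Not at hcon
  -- some power of `n` has order a power of another prime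
  have hex : ∃ (q b : ℕ) (u : G), q.Prime ∧ q ≠ p ∧ 0 < b ∧ u ∈ N ∧ orderOf u = q ^ b := by
    have hn1 : orderOf (n : G) ≠ 1 := fun h => hcon 0 (by rw [pow_zero, ← Subgroup.orderOf_coe, h])
    by_contra hno
    push Not at hno
    apply hcon (orderOf (n : G)).primeFactorsList.length
    rw [← Subgroup.orderOf_coe]
    refine Nat.eq_prime_pow_of_unique_prime_dvd (orderOf_pos (n : G)).ne' fun {d} hd hdd => ?_
    by_contra hdp
    exact hno d 1 ((n : G) ^ (orderOf (n : G) / d)) hd hdp one_pos (N.pow_mem n.2 _)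
      (by rw [pow_one]; exact orderOf_pow_orderOf_div (orderOf_pos (n : G)).ne' hdd)
  obtain ⟨q, b, u, hq, hqp, hb, hu, hou⟩ := hex
  haveI := Fact.mk hq
  have hu1 : u ≠ 1 := fun h => by
    rw [h, orderOf_one] at hou
    exact absurd hou.symm (Nat.one_lt_pow hb.ne' hq.one_lt).ne'
  set x := y ^ k
  let X : Set G := {w | ∃ d ∈ K ⊓ N, w = x * d}
  haveI := hKn
  haveI : (K ⊓ N).Normal := inferInstance
  have hinv : ∀ (v : Subgroup.zpowers u) (w : X), (v : G) * w * (v : G)⁻¹ ∈ X := by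
    rintro ⟨v, hv⟩ ⟨w, d, hd, rfl⟩
    have hvN : v ∈ N := by
      obtain ⟨i, rfl⟩ := Subgroup.mem_zpowers_iff.1 hv
      exact N.zpow_mem hu i
    refine ⟨x⁻¹ * v * x * v⁻¹ * (v * d * v⁻¹), ?_, by group⟩
    refine Subgroup.mul_mem _ ⟨?_, ?_⟩ (Subgroup.Normal.conj_mem inferInstance _ hd _)
    · rw [show x⁻¹ * v * x * v⁻¹ = x⁻¹ * (v * x * v⁻¹) by group]
      exact K.mul_mem (K.inv_mem hxK) (hKn.conj_mem _ hxK _)
    · exact N.mul_mem (by simpa using Subgroup.Normal.conj_mem (inferInstance : N.Normal) _ hvN x⁻¹) (N.inv_mem hvN)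
  letI : MulAction (Subgroup.zpowers u) X :=
    { smul := fun v w => ⟨(v : G) * w * (v : G)⁻¹, hinv v w⟩
      one_smul := fun w => Subtype.ext (by show ((1 : Subgroup.zpowers u) : G) * w * _ = w; simp)
      mul_smul := fun v v' w => Subtype.ext (by
        show ((v * v' : Subgroup.zpowers u) : G) * w * ((v * v' : Subgroup.zpowers u) : G)⁻¹ = (v : G) * ((v' : G) * w * (v' : G)⁻¹) * (v : G)⁻¹
        simp [mul_assoc]) }
  have hcX : Nat.card X = Nat.card ↥(K ⊓ N) := by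
    refine (Nat.card_congr (Equiv.ofBijective (fun d : ↥(K ⊓ N) => (⟨x * d, d, d.2, rfl⟩ : X)) ⟨?_, ?_⟩)).symm
    · intro d d' h
      exact Subtype.ext (mul_left_cancel (congrArg Subtype.val h))
    · rintro ⟨w, d, hd, rfl⟩
      exact ⟨⟨d, hd⟩, rfl⟩
  obtain ⟨e, he⟩ := IsPGroup.iff_card.1 (hK.to_le (inf_le_left : K ⊓ N ≤ K))
  have hQ : IsPGroup q (Subgroup.zpowers u) := IsPGroup.of_card (n := b) (by rw [Nat.card_zpowers, hou])
  have hndvd : ¬ q ∣ Nat.card X := by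
    rw [hcX, he]
    exact fun h => hqp ((Nat.prime_dvd_prime_iff_eq hq hp).1 (hq.dvd_of_dvd_pow h))
  obtain ⟨⟨w, d, hd, hw⟩, hfix⟩ := hQ.nonempty_fixed_point_of_prime_not_dvd_card X hndvd
  have hwu : u * w * u⁻¹ = w := congrArg Subtype.val (hfix ⟨u, Subgroup.mem_zpowers u⟩)
  have hwK : w ∈ K := hw ▸ K.mul_mem hxK (Subgroup.mem_inf.1 hd).1
  have hwN : w ∉ N := fun h => hk (by
    rw [show x = w * d⁻¹ by rw [hw]; group]
    exact N.mul_mem h (N.inv_mem (Subgroup.mem_inf.1 hd).2))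
  exact hu1 (key hp hq (Ne.symm hqp) hwN hu (mul_inv_eq_iff_eq_mul.1 hwu).symm (ordK hK hp w hwK) ⟨b, hou⟩)

/-- Let G be a finite group and N a proper non-trivial normal subgroup such that for every x outside N all elements of the coset xN have the same order as x. Then N ≤ F(G) or F(G) ≤ N, where F(G) is the Fitting subgroup; and if N is properly contained in F(G) then F(G) has prime-power order. -/
theorem result {G : Type*} [Group G] [Finite G] (N : Subgroup G) [N.Normal] (hN1 : N ≠ ⊥) (hN2 : N ≠ ⊤)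
    (heq : ∀ x : G, x ∉ N → ∀ n ∈ N, orderOf (x * n) = orderOf x) :
    (N ≤ Cfsg.fittingSubgroup G ∨ Cfsg.fittingSubgroup G ≤ N) ∧
    (N < Cfsg.fittingSubgroup G → IsPrimePow (Nat.card (Cfsg.fittingSubgroup G))) := by
  by_cases hF : Cfsg.fittingSubgroup G ≤ N
  · exact ⟨Or.inr hF, fun h => absurd hF h.not_ge⟩
  obtain ⟨p, hp, hFp, hNp⟩ := core N hN1 heq hF
  haveI := Fact.mk hp
  have hle : N ≤ Cfsg.fittingSubgroup G := le_sSup ⟨inferInstance, hNp.isNilpotent⟩
  refine ⟨Or.inl hle, fun h => ?_⟩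
  obtain ⟨e, he⟩ := IsPGroup.iff_card.1 hFp
  rw [he]
  refine hp.isPrimePow.pow fun e0 => ?_
  rw [e0, pow_zero, Subgroup.card_eq_one] at he
  exact not_lt_bot (he ▸ h)

end Cfsg.Agent.S4107
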