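import Cfsg.Statements.S4108
import Cfsg.Agent.FGS.PrimePart
import Cfsg.Agent.FGS.FrobeniusFpf
-- import your own Cfsg.Agent.* helpers here

set_option autoImplicit false
open Cfsg

namespace Cfsg.Agent.S4108

/-- Let G be a finite group, p a prime and N a proper non-trivial normal p-subgroup such that for every x outside N all elements of the coset xN have the same order as x. Then every non-trivial subgroup H of G of order prime to p acts fixed-point-freely on N: NH is a Frobenius group with complement H and kernel N. -/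
theorem result {G : Type*} [Group G] [Finite G] (N : Subgroup G) [N.Normal] (hN1 : N ≠ ⊥) (hN2 : N ≠ ⊤)
    (heq : ∀ x : G, x ∉ N → ∀ n ∈ N, orderOf (x * n) = orderOf x)
    (p : ℕ) [Fact p.Prime] (hNp : IsPGroup p N) :
    ∀ H : Subgroup G, H ≠ ⊥ → (Nat.card H).Coprime p →
      Cfsg.IsFrobeniusComplement (H.subgroupOf (N ⊔ H)) ∧ Cfsg.frobeniusKernel (H.subgroupOf (N ⊔ H)) = (N.subgroupOf (N ⊔ H) : Set ↥(N ⊔ H)) := by
  intro H hH hco
  obtain ⟨e, he⟩ := IsPGroup.iff_card.1 hNp
  have hdis : N ⊓ H = ⊥ := by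
    rw [← Subgroup.card_eq_one]
    refine Nat.eq_one_of_dvd_coprimes (k := Nat.card ↥(N ⊓ H)) (hco.pow_right e).symm ?_ ?_
    · exact he ▸ Subgroup.card_dvd_of_le inf_le_left
    · exact Subgroup.card_dvd_of_le inf_le_right
  refine CfsgLib.FGS.frobenius_of_fpf hN1 hH hdis fun h hh h1 n hn hc => ?_
  by_contra hn1
  have hhN : h ∉ N := fun hN => h1 (Subgroup.mem_bot.1 (hdis ▸ Subgroup.mem_inf.2 ⟨hN, hh⟩))
  obtain ⟨k, hk⟩ := (IsPGroup.iff_orderOf.1 hNp) ⟨n, hn⟩
  refine CfsgLib.FGS.orderOf_mul_ne hc.symm ?_ hn1 (heq h hhN n hn)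
  have h2 : orderOf h ∣ Nat.card H := H.orderOf_dvd_natCard hh
  rw [← Subgroup.orderOf_mk n hn] at *
  rw [hk]
  exact Nat.Coprime.coprime_dvd_left h2 (hco.pow_right k)

end Cfsg.Agent.S4108
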