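import Cfsg.Statements.S4113
import Cfsg.Agent.FGS.PrimePart
-- import your own Cfsg.Agent.* helpers here

set_option autoImplicit false
open Cfsg

namespace Cfsg.Agent.S4113

/-- Let G be a finite group, M ≤ N non-trivial proper normal subgroups, and H a subgroup with HM = G and H ∩ M = 1. Then every element of G outside N acts fixed-point-freely on M (C_G(x) ≤ N for every x ∈ M, x ≠ 1) if and only if H ∩ gHg⁻¹ ≤ H ∩ N for every g outside H, with H proper and non-trivial and H ∩ N proper in H. -/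
theorem result {G : Type*} [Group G] [Finite G] (N M : Subgroup G) [N.Normal] [M.Normal] (hMN : M ≤ N) (hM1 : M ≠ ⊥) (hN2 : N ≠ ⊤)
    (H : Subgroup G) (hHM : H ⊔ M = ⊤) (hHM' : H ⊓ M = ⊥) :
    (∀ x ∈ M, x ≠ 1 → Subgroup.centralizer ({x} : Set G) ≤ N) ↔
      (H ≠ ⊥ ∧ H ≠ ⊤ ∧ H ⊓ N < H ∧ ∀ g : G, g ∉ H → H ⊓ H.map (MulAut.conj g).toMonoidHom ≤ N) := by
  have hnormM : M.Normal := inferInstance
  have hdec : ∀ g : G, ∃ h ∈ H, ∃ m ∈ M, h * m = g := fun g =>
    Subgroup.mem_sup_of_normal_right.1 (hHM ▸ Subgroup.mem_top g)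
  have hHN : ¬ H ≤ N := fun hle => hN2 (top_unique (hHM ▸ sup_le hle hMN))
  have hconj : ∀ (g y : G), y ∈ H.map (MulAut.conj g).toMonoidHom ↔ g⁻¹ * y * g ∈ H := by
    intro g y
    rw [Subgroup.mem_map_equiv]
    simp [MulAut.conj_symm_apply]
  constructor
  · intro h
    refine ⟨fun e => hHN (e ▸ bot_le), fun e => hM1 (by rwa [e, top_inf_eq] at hHM'), ?_, fun g hg y hy => ?_⟩
    · exact lt_of_le_of_ne inf_le_left fun e => hHN (inf_eq_left.1 e)
    · obtain ⟨hyH, hyg⟩ := Subgroup.mem_inf.1 hy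
      obtain ⟨k, hk, m, hm, rfl⟩ := hdec g
      rw [hconj] at hyg
      set u := k⁻¹ * y * k with hu
      have huH : u ∈ H := H.mul_mem (H.mul_mem (H.inv_mem hk) hyH) hk
      have hum : m⁻¹ * u * m ∈ H := by
        rwa [show (k * m)⁻¹ * y * (k * m) = m⁻¹ * u * m by rw [hu]; group] at hyg
      have hz : u⁻¹ * (m⁻¹ * u * m) ∈ H ⊓ M := by
        refine ⟨H.mul_mem (H.inv_mem huH) hum, ?_⟩
        rw [show u⁻¹ * (m⁻¹ * u * m) = u⁻¹ * m⁻¹ * u * m by group]
        exact M.mul_mem (by simpa using hnormM.conj_mem _ (M.inv_mem hm) u⁻¹) hm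
      rw [hHM', Subgroup.mem_bot] at hz
      have hm1 : m ≠ 1 := fun e => hg (by rw [e, mul_one]; exact hk)
      have hc : u * m = m * u := by
        calc u * m = m * (m⁻¹ * u * m) := by group
          _ = m * u := by rw [show m⁻¹ * u * m = u from (inv_mul_eq_one.1 hz).symm]
      have huN := h m hm hm1 (Subgroup.mem_centralizer_singleton_iff.2 hc)
      rw [show y = k * u * k⁻¹ by rw [hu]; group]
      exact Subgroup.Normal.conj_mem inferInstance _ huN k
  · rintro ⟨-, -, -, h⟩ x hx hx1 c hc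
    by_contra hcN
    obtain ⟨k, p, n, hp, -, hk, ho⟩ := CfsgLib.FGS.exists_pow_primePow_not_mem hcN
    haveI := Fact.mk hp
    have hpi := CfsgLib.FGS.dvd_index_of_not_mem hp hk ho
    have hcard : Nat.card G = Nat.card H * Nat.card M := by
      rw [← Subgroup.IsComplement'.card_mul (Subgroup.isComplement'_of_disjoint_and_mul_eq_univ
        (disjoint_iff.2 hHM') ?_)]
      rw [← Subgroup.mul_normal, hHM, Subgroup.coe_top]
    -- get a `p`-element of `H` outside `N` commuting with a nontrivial element of `M`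
    suffices ∃ r ∈ H, r ∉ N ∧ ∃ z ∈ M, z ≠ 1 ∧ r * z = z * r by
      obtain ⟨r, hr, hrN, z, hz, hz1, hrz⟩ := this
      refine hrN (h z (fun hzH => hz1 (Subgroup.mem_bot.1 (hHM' ▸ Subgroup.mem_inf.2 ⟨hzH, hz⟩)))
        (Subgroup.mem_inf.2 ⟨hr, (hconj z r).2 ?_⟩))
      rw [mul_assoc, hrz, inv_mul_cancel_left]
      exact hr
    obtain ⟨R⟩ : Nonempty (Sylow p H) := inferInstance
    by_cases hpM : p ∣ Nat.card M
    · obtain ⟨z, hzM, hz1, hz⟩ := CfsgLib.FGS.exists_mem_ne_one_commute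
        (P := (R : Subgroup H).map H.subtype) (R.isPGroup'.map _) hpM
      have hnle : ¬ (R : Subgroup H) ≤ N.subgroupOf H := by
        refine CfsgLib.FGS.sylow_not_le R ?_
        rw [← Subgroup.relIndex, ← Subgroup.relIndex_sup_left H N,
          top_unique (hHM ▸ sup_le le_sup_right (hMN.trans le_sup_left) : (⊤ : Subgroup G) ≤ N ⊔ H),
          Subgroup.relIndex_top_right]
        exact hpi
      obtain ⟨r, hrR, hrN⟩ := SetLike.not_le_iff_exists.1 hnle
      exact ⟨r, r.2, hrN, z, hzM, hz1, hz r ⟨r, hrR, rfl⟩⟩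
    · -- conjugate the `p`-part of `c` into `H`
      have hexp : (Nat.card G).factorization p = (Nat.card H).factorization p := by
        rw [hcard, Nat.factorization_mul Nat.card_pos.ne' Nat.card_pos.ne', Finsupp.add_apply,
          Nat.factorization_eq_zero_of_not_dvd hpM, add_zero]
      let S : Sylow p G := Sylow.ofCard ((R : Subgroup H).map H.subtype) (by
        rw [Subgroup.card_subtype, R.card_eq_multiplicity, hexp])
      obtain ⟨Q, hQ⟩ := (IsPGroup.of_card (n := n) (by rw [Nat.card_zpowers, ho]) :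
        IsPGroup p (Subgroup.zpowers (c ^ k))).exists_le_sylow
      obtain ⟨g, hg⟩ := MulAction.exists_smul_eq G Q S
      have hS : g * c ^ k * g⁻¹ ∈ (S : Subgroup G) := by
        rw [← hg]
        exact ⟨c ^ k, hQ (Subgroup.mem_zpowers _), rfl⟩
      obtain ⟨r, -, hr⟩ := hS
      refine ⟨g * c ^ k * g⁻¹, hr ▸ r.2, fun hN => hk ?_, g * x * g⁻¹, hnormM.conj_mem _ hx g, ?_, ?_⟩
      · simpa [mul_assoc] using (Subgroup.Normal.conj_mem inferInstance _ hN g⁻¹ : g⁻¹ * (g * c ^ k * g⁻¹) * g⁻¹⁻¹ ∈ N)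
      · rw [ne_eq, conj_eq_one_iff]; exact hx1
      · exact (Commute.pow_left (Subgroup.mem_centralizer_singleton_iff.1 hc) k).map (MulAut.conj g).toMonoidHom

end Cfsg.Agent.S4113
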