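import Cfsg.Statements.S4115
import Cfsg.Agent.FGS.TIHall
import Cfsg.Agent.FGS.FrobeniusFpf
import Cfsg.Agent.Coprime.ActionHom
import Cfsg.Agent.CharactersDeep.NormalComplement

set_option autoImplicit false
set_option linter.style.haveILetI false
set_option linter.unusedSectionVars false
universe u
open Cfsg

namespace Cfsg.Agent.S4115

open scoped Pointwise

/-- A coprime action on a `q`-group in which every element fixes only the global fixed points gives a
Frobenius group. -/
theorem exists_frobenius {Q H : Type u} [Group Q] [Finite Q] [Group H] [Finite H] [Nontrivial H]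
    {q : ℕ} [Fact q.Prime] (hQ : IsPGroup q Q) (φ : H →* MulAut Q)
    (hcop : (Nat.card H).Coprime (Nat.card Q)) (hne : ∃ h x, φ h x ≠ x)
    (hfix : ∀ h : H, h ≠ 1 → ∀ x, φ h x = x → ∀ h', φ h' x = x) :
    ∃ (F : Type u) (_ : Group F) (_ : Finite F) (C : Subgroup F),
      Cfsg.IsFrobeniusComplement C ∧ Nonempty (H ≃* C) := by
  classical
  let C : Subgroup Q :=
    { carrier := {x | ∀ h, φ h x = x}
      one_mem' := fun h => map_one _
      mul_mem' := fun {x y} hx hy h => by rw [map_mul, hx h, hy h]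
      inv_mem' := fun {x} hx h => by rw [map_inv, hx h] }
  have hC : C ≠ ⊤ := by
    obtain ⟨h, x, hx⟩ := hne
    exact fun e => hx ((e ▸ Subgroup.mem_top x : x ∈ C) h)
  obtain ⟨M, hM, hCM⟩ := (eq_top_or_exists_le_coatom C).resolve_left hC
  haveI : Group.IsNilpotent Q := hQ.isNilpotent
  haveI hMn : M.Normal := Subgroup.NormalizerCondition.normal_of_coatom M Group.normalizerCondition_of_isNilpotent hM
  have hMc : commutator Q ≤ M := by
    haveI : IsSimpleGroup (Q ⧸ M) := by
      haveI : Nontrivial (Q ⧸ M) := QuotientGroup.nontrivial_iff.2 hM.1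
      refine ⟨fun K hK => ?_⟩
      have hle : M ≤ K.comap (QuotientGroup.mk' M) := by
        conv_lhs => rw [← QuotientGroup.ker_mk' M]
        exact Subgroup.ker_le_comap _ _
      rcases eq_or_lt_of_le hle with he | hlt
      · left
        rw [← Subgroup.map_comap_eq_self_of_surjective (QuotientGroup.mk'_surjective M) K, ← he,
          QuotientGroup.map_mk'_self]
      · right
        rw [← Subgroup.map_comap_eq_self_of_surjective (QuotientGroup.mk'_surjective M) K, hM.2 _ hlt,
          Subgroup.map_top_of_surjective _ (QuotientGroup.mk'_surjective M)]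
    rw [← Subgroup.Normal.quotient_commutative_iff_commutator_le]
    refine ⟨⟨fun a b => ?_⟩⟩
    haveI : Group.IsNilpotent (Q ⧸ M) := inferInstance
    exact IsSimpleGroup.comm_iff_isSolvable.2 inferInstance a b
  set D := commutator Q ⊔ C with hD
  have hDM : D ≠ ⊤ := fun e => hM.1 (top_le_iff.1 (e ▸ sup_le hMc hCM))
  haveI hDn : D.Normal := Subgroup.Normal.of_commutator_le _ le_sup_left
  have hDmap : ∀ h : H, D.map (φ h).toMonoidHom = D := fun h => by
    rw [hD, Subgroup.map_sup, Subgroup.characteristic_iff_map_eq.1 inferInstance (φ h)]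
    congr 1
    ext x
    constructor
    · rintro ⟨y, hy, rfl⟩
      show φ h y ∈ C
      rw [hy h]; exact hy
    · exact fun hx => ⟨x, hx, hx h⟩
  let ψ : H →* MulAut (Q ⧸ D) :=
    MonoidHom.mk' (fun h => QuotientGroup.congr D D (φ h) (hDmap h)) fun a b => by
      refine MulEquiv.ext fun x => ?_
      induction x using QuotientGroup.induction_on with
      | H y => show ((φ (a * b) y : Q) : Q ⧸ D) = ((φ a (φ b y) : Q) : Q ⧸ D); rw [map_mul]; rfl
  have hψ : ∀ h : H, h ≠ 1 → ∀ x, ψ h x = x → x = 1 := by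
    intro h hh x hx
    induction x using QuotientGroup.induction_on with
    | H k =>
      let S : Subgroup H :=
        { carrier := {a | ψ a (k : Q ⧸ D) = (k : Q ⧸ D)}
          one_mem' := by show ψ 1 (k : Q ⧸ D) = _; rw [map_one]; rfl
          mul_mem' := fun {a b} ha hb => by
            show ψ (a * b) (k : Q ⧸ D) = _
            rw [map_mul, MulAut.mul_apply, hb, ha]
          inv_mem' := fun {a} ha => by
            show ψ a⁻¹ (k : Q ⧸ D) = _
            conv_lhs => rw [← ha]
            rw [← MulAut.mul_apply, ← map_mul, inv_mul_cancel, map_one]; rfl }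
      have hS : Subgroup.zpowers h ≤ S := Subgroup.zpowers_le.2 hx
      obtain ⟨c, hc, hck⟩ := CfsgLib.Coprime.exists_fixed_mem_coset_hom
        (φ.comp (Subgroup.zpowers h).subtype) (N := D)
        (fun a y hy => (hDmap (a : H)).le ⟨y, hy, rfl⟩)
        ((hcop.coprime_dvd_left (Subgroup.zpowers h).card_subgroup_dvd_card).coprime_dvd_right
          D.card_subgroup_dvd_card)
        (Or.inl inferInstance) (k := k)
        (fun a => QuotientGroup.eq.1 (hS a.2).symm)
      have hcC : c ∈ D := Subgroup.mem_sup_right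
        (hfix h hh c (hc ⟨h, Subgroup.mem_zpowers h⟩))
      rw [QuotientGroup.eq_one_iff]
      simpa using D.inv_mem (D.mul_mem hck (D.inv_mem hcC))
  let F := SemidirectProduct (Q ⧸ D) H ψ
  haveI : Finite F := Finite.of_equiv _ (SemidirectProduct.equivProd (φ := ψ)).symm
  let N : Subgroup F := (SemidirectProduct.inl : (Q ⧸ D) →* F).range
  let K : Subgroup F := (SemidirectProduct.inr : H →* F).range
  haveI : N.Normal := by
    show (SemidirectProduct.inl : (Q ⧸ D) →* F).range.Normal
    rw [SemidirectProduct.range_inl_eq_ker_rightHom]; infer_instance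
  haveI : Nontrivial (Q ⧸ D) := QuotientGroup.nontrivial_iff.2 hDM
  have hN : N ≠ ⊥ := by
    obtain ⟨x, hx⟩ := exists_ne (1 : Q ⧸ D)
    intro e
    have h1 : SemidirectProduct.inl x ∈ N := ⟨x, rfl⟩
    rw [e, Subgroup.mem_bot] at h1
    exact hx (SemidirectProduct.inl_injective (h1.trans (map_one _).symm))
  have hK : K ≠ ⊥ := by
    obtain ⟨x, hx⟩ := exists_ne (1 : H)
    intro e
    have h1 : SemidirectProduct.inr x ∈ K := ⟨x, rfl⟩
    rw [e, Subgroup.mem_bot] at h1
    exact hx (SemidirectProduct.inr_injective (h1.trans (map_one _).symm))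
  have htop : N ⊔ K = ⊤ := by
    refine eq_top_iff.2 fun x _ => ?_
    rw [← SemidirectProduct.inl_left_mul_inr_right x]
    exact Subgroup.mul_mem_sup ⟨_, rfl⟩ ⟨_, rfl⟩
  have hdis : N ⊓ K = ⊥ := by
    rw [eq_bot_iff]
    rintro _ ⟨⟨a, rfl⟩, b, hb⟩
    have h1 := congrArg SemidirectProduct.left hb
    simp only [SemidirectProduct.left_inr, SemidirectProduct.left_inl] at h1
    rw [← h1, map_one]; exact Subgroup.one_mem _
  have hfpf : ∀ h ∈ K, h ≠ 1 → ∀ n ∈ N, n * h = h * n → n = 1 := by
    rintro _ ⟨h, rfl⟩ hh _ ⟨n, rfl⟩ heq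
    have h1 : (SemidirectProduct.inl n * SemidirectProduct.inr h : SemidirectProduct (Q ⧸ D) H ψ).left =
        (SemidirectProduct.inr h * SemidirectProduct.inl n : SemidirectProduct (Q ⧸ D) H ψ).left :=
      congrArg SemidirectProduct.left heq
    simp only [SemidirectProduct.left_inl, SemidirectProduct.left_inr, SemidirectProduct.mul_left,
      SemidirectProduct.right_inl, SemidirectProduct.right_inr, map_one, one_mul,
      mul_one] at h1
    rw [hψ h (fun e => hh (by rw [e, map_one])) n h1.symm, map_one]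
  exact ⟨F, inferInstance, inferInstance, K,
    (CfsgLib.FGS.frobenius_of_fpf_top hN hK htop hdis hfpf).1,
    ⟨MonoidHom.ofInjective SemidirectProduct.inr_injective⟩⟩

variable {G : Type u} [Group G] [Finite G]

theorem mem_conj_iff (H : Subgroup G) {g x : G} : x ∈ MulAut.conj g • H ↔ g⁻¹ * x * g ∈ H := by
  rw [Subgroup.mem_pointwise_smul_iff_inv_smul_mem]
  simp [MulAut.smul_def, mul_assoc]

theorem mem_normalizer_of_ti {H : Subgroup G} (hTI : Cfsg.IsTISubset (H : Set G)) {g x : G}
    (hx : x ∈ H) (hx1 : x ≠ 1) (hgx : g * x * g⁻¹ ∈ H) : g ∈ Subgroup.normalizer (H : Set G) := by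
  by_contra h
  exact hx1 (hTI g h x hx hgx)

theorem hall_of_ti {H : Subgroup G} (hTI : Cfsg.IsTISubset (H : Set G))
    (hHall : (Nat.card H).Coprime (H.subgroupOf (Subgroup.normalizer (H : Set G))).index) :
    (Nat.card H).Coprime H.index := by
  refine Nat.coprime_of_dvd fun p hp hpH hpi => ?_
  haveI := Fact.mk hp
  obtain ⟨R⟩ : Nonempty (Sylow p H) := inferInstance
  set R' := (R : Subgroup H).map H.subtype with hR'
  have hR'card : Nat.card R' = p ^ (Nat.card H).factorization p := by
    rw [hR', Subgroup.card_subtype, R.card_eq_multiplicity]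
  have hR'H : R' ≤ H := Subgroup.map_subtype_le _
  have hR'ne : R' ≠ ⊥ := by
    intro e
    rw [e, Subgroup.card_bot] at hR'card
    exact (Nat.Prime.factorization_pos_of_dvd hp Nat.card_pos.ne' hpH).ne'
      ((Nat.pow_eq_one.1 hR'card.symm).resolve_left hp.ne_one)
  have hdvd : p ^ ((Nat.card H).factorization p + 1) ∣ Nat.card G := by
    rw [← H.card_mul_index, pow_succ]
    exact mul_dvd_mul (Nat.ordProj_dvd _ _) hpi
  obtain ⟨K, hK, hle⟩ := Sylow.exists_subgroup_card_pow_succ hdvd hR'card
  haveI hn : (R'.subgroupOf K).Normal := by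
    refine Subgroup.normal_of_index_eq_minFac_card ?_
    rw [hK, hp.pow_minFac (Nat.succ_ne_zero _)]
    refine Nat.eq_of_mul_eq_mul_left (Nat.card_pos (α := R'.subgroupOf K)) ?_
    rw [Subgroup.card_mul_index, hK, pow_succ, ← hR'card,
      Nat.card_congr (Subgroup.subgroupOfEquivOfLe hle).toEquiv]
  have hKN : K ≤ Subgroup.normalizer (H : Set G) := by
    intro k hk
    obtain ⟨⟨x, hx⟩, hx1⟩ := Subgroup.ne_bot_iff_exists_ne_one.1 hR'ne
    refine mem_normalizer_of_ti hTI (hR'H hx) (fun e => hx1 (Subtype.ext e)) (hR'H ?_)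
    have := hn.conj_mem ⟨x, hle hx⟩ (by exact hx) ⟨k, hk⟩
    exact this
  have h1 : p ^ ((Nat.card H).factorization p + 1) ∣ Nat.card H := by
    have hc : Nat.card H = Nat.card (H.subgroupOf (Subgroup.normalizer (H : Set G))) :=
      (Nat.card_congr (Subgroup.subgroupOfEquivOfLe (Subgroup.le_normalizer (H := H))).toEquiv).symm
    have h2 : p ^ ((Nat.card H).factorization p + 1) ∣ Nat.card H *
        (H.subgroupOf (Subgroup.normalizer (H : Set G))).index := by
      have h3 := Subgroup.card_dvd_of_le hKN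
      rw [hK, ← Subgroup.card_mul_index (H.subgroupOf (Subgroup.normalizer (H : Set G))), ← hc] at h3
      exact h3
    exact ((hHall.coprime_dvd_left hpH).pow_left _).dvd_of_dvd_mul_right h2
  exact Nat.pow_succ_factorization_not_dvd Nat.card_pos.ne' hp h1

/-- Let G be a finite group and H a subgroup that meets each of its conjugates by elements outside N_G(H) trivially and whose order is coprime to its index in N_G(H). Then H has a normal complement in N_G(H) if and only if H has a normal complement in G. Moreover, if H is not normal in G and has a normal complement in N_G(H), then H is isomorphic to a Frobenius complement of some finite Frobenius group. -/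
theorem result {G : Type u} [Group G] [Finite G] (H : Subgroup G)
    (hTI : Cfsg.IsTISubset (H : Set G)) (hHall : (Nat.card H).Coprime (H.subgroupOf (Subgroup.normalizer (H : Set G))).index) :
    ((∃ K : Subgroup (Subgroup.normalizer (H : Set G)), K.Normal ∧ K.IsComplement' (H.subgroupOf (Subgroup.normalizer (H : Set G)))) ↔
      (∃ N : Subgroup G, N.Normal ∧ N.IsComplement' H)) ∧
    (¬ H.Normal → (∃ K : Subgroup (Subgroup.normalizer (H : Set G)), K.Normal ∧ K.IsComplement' (H.subgroupOf (Subgroup.normalizer (H : Set G)))) →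
      ∃ (F : Type u) (_ : Group F) (_ : Finite F) (C : Subgroup F), Cfsg.IsFrobeniusComplement C ∧ Nonempty (H ≃* C)) := by
  classical
  haveI := Fintype.ofFinite G
  have hH := hall_of_ti hTI hHall
  set Nm := Subgroup.normalizer (H : Set G) with hNm
  haveI hHn : (H.subgroupOf Nm).Normal := Subgroup.normal_in_normalizer
  have hfwd : (∃ K : Subgroup Nm, K.Normal ∧ K.IsComplement' (H.subgroupOf Nm)) →
      ∃ N : Subgroup G, N.Normal ∧ N.IsComplement' H := by
    rintro ⟨K, hKn, hKc⟩
    have hfus : CfsgLib.CharactersDeep.NormalComplement.ControlsFusion H := by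
      intro x hx y hy hxy
      obtain ⟨g, hg⟩ := isConj_iff.1 hxy
      rcases eq_or_ne x 1 with rfl | hx1
      · exact ⟨1, H.one_mem, by rw [← hg]; group⟩
      have hgN : g ∈ Nm := mem_normalizer_of_ti hTI hx hx1 (hg ▸ hy)
      obtain ⟨⟨⟨h, hh⟩, ⟨k, hk⟩⟩, he⟩ := hKc.symm.2 ⟨g, hgN⟩
      have hcomm : (k : G) * x = x * k := congrArg Subtype.val
        (Subgroup.commute_of_normal_of_disjoint K (H.subgroupOf Nm) hKn hHn hKc.disjoint k
          ⟨x, Subgroup.le_normalizer hx⟩ hk (by exact hx)).eq
      refine ⟨h, hh, ?_⟩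
      have he' : (h : G) * k = g := congrArg Subtype.val he
      show (h : G) * x * (h : G)⁻¹ = y
      rw [← hg, ← he', mul_inv_rev]
      calc (h : G) * x * (h : G)⁻¹ = h * (x * k) * (k : G)⁻¹ * (h : G)⁻¹ := by group
        _ = h * k * x * ((k : G)⁻¹ * (h : G)⁻¹) := by rw [← hcomm]; group
    have helem : CfsgLib.CharactersDeep.NormalComplement.ContainsElementary H := by
      intro E p _ _ hE
      obtain ⟨g, hg⟩ := CfsgLib.FGS.ti_hall_contains hH hTI E fun r _ hr => hr.trans hE
      refine ⟨g⁻¹, ?_⟩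
      rintro _ ⟨x, hx, rfl⟩
      simpa using (mem_conj_iff H).1 (hg hx)
    obtain ⟨N, hN, hsup, hinf⟩ :=
      CfsgLib.CharactersDeep.NormalComplement.exists_normal_complement hH hfus helem
    refine ⟨N, hN, Subgroup.isComplement'_of_disjoint_and_mul_eq_univ (disjoint_iff.2 hinf) ?_⟩
    rw [← Subgroup.normal_mul, hsup, Subgroup.coe_top]
  refine ⟨⟨hfwd, ?_⟩, ?_⟩
  · rintro ⟨N, hN, hc⟩
    refine ⟨N.subgroupOf Nm, inferInstance, ?_⟩
    refine Subgroup.isComplement'_of_disjoint_and_mul_eq_univ ?_ (Set.eq_univ_of_forall fun g => ?_)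
    · rw [disjoint_iff, eq_bot_iff]
      rintro x ⟨h1, h2⟩
      exact Subgroup.mem_bot.2 (Subtype.ext (Subgroup.disjoint_def.1 hc.disjoint h1 h2))
    · obtain ⟨⟨⟨n, hn⟩, ⟨h, hh⟩⟩, he⟩ := hc.2 (g : G)
      change n * h = g at he
      have hnN : n ∈ Nm := by
        rw [eq_mul_inv_of_mul_eq he]
        exact Nm.mul_mem g.2 (Nm.inv_mem (Subgroup.le_normalizer hh))
      exact ⟨⟨n, hnN⟩, hn, ⟨h, Subgroup.le_normalizer hh⟩, hh, Subtype.ext he⟩
  intro hnn hK
  obtain ⟨M, hM, hMc⟩ := hfwd hK
  have hMH : Nat.card M = H.index := hMc.index_eq_card.symm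
  have hMidx : M.index = Nat.card H := hMc.symm.index_eq_card
  have hcop : (Nat.card H).Coprime (Nat.card M) := hMH ▸ hH
  haveI : Nontrivial H := by
    rw [Subgroup.nontrivial_iff_ne_bot]
    intro e
    exact hnn (e ▸ inferInstance)
  have hdisj : ∀ x ∈ M, x ∈ H → x = 1 := fun x h1 h2 => Subgroup.disjoint_def.1 hMc.disjoint h1 h2
  have hfix : ∀ x ∈ M, ∀ h ∈ H, h ≠ 1 → x * h = h * x → ∀ h' ∈ H, x * h' = h' * x := by
    intro x hx h hh h1 he h' hh'
    have hxN : x ∈ Nm := mem_normalizer_of_ti hTI hh h1 (by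
      rw [show x * h * x⁻¹ = h by rw [he]; group]; exact hh)
    have h2 : x * h' * x⁻¹ * h'⁻¹ ∈ M := by
      have h3 := M.mul_mem hx (hM.conj_mem _ (M.inv_mem hx) h')
      convert h3 using 1
      group
    have h3 : x * h' * x⁻¹ * h'⁻¹ ∈ H :=
      H.mul_mem ((Subgroup.mem_normalizer_iff.1 hxN h').1 hh') (H.inv_mem hh')
    have h4 := hdisj _ h2 h3
    rwa [mul_inv_eq_one, mul_inv_eq_iff_eq_mul] at h4
  obtain ⟨r, hr, Q, hQM, hQp, hQnorm, hQne⟩ : ∃ (r : ℕ) (_ : r.Prime) (Q : Subgroup G), Q ≤ M ∧
      IsPGroup r Q ∧ H ≤ Subgroup.normalizer (Q : Set G) ∧ ∃ h ∈ H, ∃ x ∈ Q, x * h ≠ h * x := by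
    by_contra hcon
    refine hnn ?_
    have hall : M ≤ Subgroup.centralizer (H : Set G) := by
      set Z := M ⊓ Subgroup.centralizer (H : Set G) with hZ
      have hcard : Nat.card M ∣ Nat.card Z := by
        refine (Nat.dvd_iff_prime_pow_dvd_dvd _ _).2 fun r e hr he => ?_
        haveI := Fact.mk hr
        obtain ⟨P⟩ : Nonempty (Sylow r M) := inferInstance
        haveI := hM
        set P' := (P : Subgroup M).map M.subtype with hP'
        have hfr : Subgroup.normalizer (P' : Set G) ⊔ M = ⊤ := Sylow.normalizer_sup_eq_top P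
        set L := Subgroup.normalizer (P' : Set G) with hL
        have hidx : (M.subgroupOf L).index = Nat.card H := by
          rw [← hMidx, ← Subgroup.relIndex_top_right M, ← hfr, Subgroup.relIndex_sup_right]
          rfl
        have hKcop : (Nat.card (M.subgroupOf L)).Coprime (M.subgroupOf L).index := by
          rw [hidx]
          refine (hcop.symm).coprime_dvd_left ?_
          rw [← Subgroup.card_subtype L (M.subgroupOf L), Subgroup.subgroupOf_map_subtype]
          exact Subgroup.card_dvd_of_le inf_le_left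
        obtain ⟨C, hC⟩ := Subgroup.exists_right_complement'_of_coprime hKcop
        have hC1 : Nat.card (C.map L.subtype) = Nat.card H := by
          rw [Subgroup.card_subtype, ← hC.symm.index_eq_card, hidx]
        obtain ⟨g, hg⟩ := CfsgLib.FGS.ti_hall_contains hH hTI (C.map L.subtype)
          fun q _ hq => hC1 ▸ hq
        have heq : C.map L.subtype = MulAut.conj g • H := Subgroup.eq_of_le_of_card_ge hg (by
          rw [hC1]
          exact (Nat.card_congr (Subgroup.equivSMul (MulAut.conj g) H).toEquiv).ge)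
        set Q := P'.map (MulAut.conj g⁻¹).toMonoidHom with hQ
        have hQM : Q ≤ M := by
          rintro _ ⟨_, ⟨x, -, rfl⟩, rfl⟩
          exact hM.conj_mem _ x.2 _
        have hQp : IsPGroup r Q := (P.isPGroup'.map _).map _
        have hQn : H ≤ Subgroup.normalizer (Q : Set G) := by
          intro h hh
          have h1 : g * h * g⁻¹ ∈ L := Subgroup.map_subtype_le C (heq ▸ (mem_conj_iff H).2 (by
            simpa [mul_assoc] using hh))
          rw [Subgroup.mem_normalizer_iff]
          intro x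
          have hmem : ∀ y, y ∈ Q ↔ g * y * g⁻¹ ∈ P' := fun y => by
            rw [hQ, Subgroup.mem_map_equiv]; simp
          rw [hmem, hmem, show g * (h * x * h⁻¹) * g⁻¹ =
            (g * h * g⁻¹) * (g * x * g⁻¹) * (g * h * g⁻¹)⁻¹ by group]
          exact (Subgroup.mem_normalizer_iff.1 h1) _
        have hQZ : Q ≤ Z := by
          refine le_inf hQM fun x hx => Subgroup.mem_centralizer_iff.2 fun h hh => ?_
          by_contra hne
          exact hcon ⟨r, hr, Q, hQM, hQp, hQn, h, hh, x, hx, fun e => hne e.symm⟩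
        refine dvd_trans ?_ (Subgroup.card_dvd_of_le hQZ)
        rw [hQ, Subgroup.card_map_of_injective (MulEquiv.injective _), hP', Subgroup.card_subtype,
          P.card_eq_multiplicity]
        exact pow_dvd_pow r ((hr.pow_dvd_iff_le_factorization Nat.card_pos.ne').1 he)
      intro x hx
      rw [← Subgroup.eq_of_le_of_card_ge (inf_le_left : Z ≤ M) (Nat.le_of_dvd Nat.card_pos hcard)] at hx
      exact hx.2
    refine ⟨fun h hh g => ?_⟩
    obtain ⟨⟨⟨m, hm⟩, ⟨k, hk⟩⟩, he⟩ := hMc.2 g
    change m * k = g at he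
    rw [← he, show m * k * h * (m * k)⁻¹ = m * (k * h * k⁻¹) * m⁻¹ by group]
    have h1 := H.mul_mem (H.mul_mem hk hh) (H.inv_mem hk)
    rw [← Subgroup.mem_centralizer_iff.1 (hall hm) _ h1, mul_inv_cancel_right]
    exact h1
  haveI := Fact.mk hr
  let φ : H →* MulAut Q :=
    (Subgroup.normalizerMonoidHom Q).comp (Subgroup.inclusion hQnorm)
  have hφ : ∀ (h : H) (x : Q), (φ h x : G) = h * x * (h : G)⁻¹ := fun h x => rfl
  have hφ' : ∀ (h : H) (x : Q), φ h x = x ↔ (x : G) * h = h * x := fun h x => by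
    rw [Subtype.ext_iff, hφ, mul_inv_eq_iff_eq_mul, eq_comm]
  refine exists_frobenius (Q := Q) (H := H) hQp φ
    (hcop.coprime_dvd_right (Subgroup.card_dvd_of_le hQM)) ?_ ?_
  · obtain ⟨h, hh, x, hx, hne⟩ := hQne
    exact ⟨⟨h, hh⟩, ⟨x, hx⟩, fun e => hne ((hφ' _ _).1 e)⟩
  · intro h hh x hx h'
    exact (hφ' _ _).2 (hfix x (hQM x.2) h h.2 (fun e => hh (Subtype.ext e)) ((hφ' _ _).1 hx) h' h'.2)

end Cfsg.Agent.S4115
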