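import Cfsg.Statements.S4117
import Cfsg.Agent.Coprime.ActionHom
import Mathlib.GroupTheory.SpecificGroups.ZGroup
import Mathlib.GroupTheory.GroupAction.ConjAct
import Mathlib.Algebra.BigOperators.Group.Finset.Basic
-- import your own Cfsg.Agent.* helpers here

set_option autoImplicit false
set_option linter.style.haveILetI false
open Cfsg

namespace Cfsg.Agent.S4117

open scoped commutatorElement

/-- Membership-preserving automorphisms act on an invariant subgroup. -/
theorem exists_restrict {G A : Type*} [Group G] [Group A] (φ : A →* MulAut G) (M : Subgroup G)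
    (h : ∀ a, ∀ x ∈ M, φ a x ∈ M) : ∃ ψ : A →* MulAut M, ∀ a (x : M), (ψ a x : G) = φ a x := by
  have hinv : ∀ a, ∀ x, φ a⁻¹ (φ a x) = x := fun a x => by
    rw [← MulAut.mul_apply, ← map_mul, inv_mul_cancel, map_one]; rfl
  have hinv' : ∀ a, ∀ x, φ a (φ a⁻¹ x) = x := fun a x => by
    rw [← MulAut.mul_apply, ← map_mul, mul_inv_cancel, map_one]; rfl
  let f : A → MulAut M := fun a =>
    { toFun := fun x => ⟨φ a x, h a x x.2⟩
      invFun := fun x => ⟨φ a⁻¹ x, h a⁻¹ x x.2⟩
      left_inv := fun x => Subtype.ext (hinv a x)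
      right_inv := fun x => Subtype.ext (hinv' a x)
      map_mul' := fun x y => Subtype.ext (map_mul (φ a) (x : G) y) }
  refine ⟨{ toFun := f, map_one' := ?_, map_mul' := ?_ }, fun a x => rfl⟩
  · refine MulEquiv.ext fun x => Subtype.ext ?_
    show φ 1 (x : G) = x
    rw [map_one]; rfl
  · intro a b
    refine MulEquiv.ext fun x => Subtype.ext ?_
    show φ (a * b) (x : G) = φ a (φ b x)
    rw [map_mul]; rfl

/-- The norm map of a finite group acting on an abelian group. -/
theorem exists_norm {Q A : Type*} [Group Q] [Group A] [Finite A] (hQ : IsMulCommutative Q)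
    (ψ : A →* MulAut Q) :
    ∃ N : Q →* Q, (∀ b u, N (ψ b u) = N u) ∧ ∀ u, (∀ b, ψ b u = u) → N u = u ^ Nat.card A := by
  classical
  haveI := Fintype.ofFinite A
  letI : CommGroup Q := { (inferInstance : Group Q) with mul_comm := fun a b => hQ.is_comm.comm a b }
  refine ⟨{ toFun := fun u => ∏ a : A, ψ a u, map_one' := ?_, map_mul' := ?_ }, fun b u => ?_, fun u hu => ?_⟩
  · exact Finset.prod_eq_one fun a _ => map_one _
  · intro x y
    simp only [map_mul, Finset.prod_mul_distrib]
  · show ∏ a : A, ψ a (ψ b u) = ∏ a : A, ψ a u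
    exact Fintype.prod_equiv (Equiv.mulRight b) _ _ (fun a => by
      show ψ a (ψ b u) = ψ (a * b) u
      rw [map_mul]; rfl)
  · show ∏ a : A, ψ a u = u ^ Nat.card A
    simp only [hu, Finset.prod_const, Finset.card_univ, Nat.card_eq_fintype_card]

theorem mem_zpowers_of_orderOf_dvd {Q : Type*} [Group Q] [Finite Q] [IsCyclic Q] {x y : Q}
    (h : orderOf x ∣ orderOf y) : x ∈ Subgroup.zpowers y := by
  classical
  haveI := Fintype.ofFinite Q
  by_contra hx
  have hsub : insert x (Finset.univ.filter fun u : Q => u ∈ Subgroup.zpowers y) ⊆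
      Finset.univ.filter fun u : Q => u ^ orderOf y = 1 := by
    intro u hu
    rw [Finset.mem_filter]
    refine ⟨Finset.mem_univ _, ?_⟩
    rcases Finset.mem_insert.1 hu with rfl | hu
    · exact orderOf_dvd_iff_pow_eq_one.1 h
    · exact orderOf_dvd_iff_pow_eq_one.1 (orderOf_dvd_of_mem_zpowers (Finset.mem_filter.1 hu).2)
  have h1 := (Finset.card_le_card hsub).trans (IsCyclic.card_pow_eq_one_le (orderOf_pos y))
  rw [Finset.card_insert_of_notMem (by simp [hx])] at h1
  have h2 : (Finset.univ.filter fun u : Q => u ∈ Subgroup.zpowers y).card = orderOf y := by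
    rw [← Nat.card_zpowers, Nat.card_eq_fintype_card, Fintype.card_subtype]
  omega

/-- Let A be a finite group acting on the finite group G by automorphisms with the orders of A and G coprime, and suppose every Sylow subgroup of G is cyclic. Then the fixed-point subgroup C_G(A) is a Hall subgroup of G (its order is coprime to its index), the subgroup [G, A] generated by the elements g⁻¹·a(g) is cyclic and normal with [G, A] ∩ C_G(A) = 1 and [G, A]·C_G(A) = G. -/
theorem result {G A : Type*} [Group G] [Finite G] [Group A] [Finite A]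
    [MulDistribMulAction A G] (hcop : (Nat.card A).Coprime (Nat.card G))
    (hcyc : ∀ (p : ℕ) [Fact p.Prime] (P : Sylow p G), IsCyclic (P : Subgroup G)) :
    (Nat.card (MulAction.fixedPoints A G : Set G)).Coprime (Nat.card G / Nat.card (MulAction.fixedPoints A G : Set G)) ∧
    IsCyclic (Subgroup.closure {y : G | ∃ (a : A) (g : G), y = g⁻¹ * a • g}) ∧
    (Subgroup.closure {y : G | ∃ (a : A) (g : G), y = g⁻¹ * a • g}).Normal ∧
    (Subgroup.closure {y : G | ∃ (a : A) (g : G), y = g⁻¹ * a • g} : Set G) ∩ MulAction.fixedPoints A G = {1} ∧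
    Subgroup.closure {y : G | ∃ (a : A) (g : G), y = g⁻¹ * a • g} ⊔ Subgroup.closure (MulAction.fixedPoints A G) = ⊤ := by
  classical
  haveI hZ : IsZGroup G := ⟨fun p hp P => @hcyc p ⟨hp⟩ P⟩
  have hsol : Group.IsSolvable G := inferInstance
  let φ : A →* MulAut G := MulDistribMulAction.toMulAut A G
  have hφ : ∀ a g, φ a g = a • g := fun a g => rfl
  let C : Subgroup G :=
    { carrier := {g | ∀ a : A, a • g = g}
      one_mem' := fun a => smul_one a
      mul_mem' := fun {x y} hx hy a => by rw [smul_mul', hx a, hy a]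
      inv_mem' := fun {x} hx a => by rw [smul_inv', hx a] }
  have hC : MulAction.fixedPoints A G = (C : Set G) := rfl
  set L := Subgroup.closure {y : G | ∃ (a : A) (g : G), y = g⁻¹ * a • g} with hL
  have hgen : ∀ (a : A) (g : G), g⁻¹ * a • g ∈ L := fun a g => Subgroup.subset_closure ⟨a, g, rfl⟩
  haveI hLn : L.Normal := by
    refine ⟨fun x hx h => ?_⟩
    induction hx using Subgroup.closure_induction with
    | mem y hy =>
      obtain ⟨a, g, rfl⟩ := hy
      have h1 := L.mul_mem (hgen a (g * h⁻¹)) (L.inv_mem (hgen a h⁻¹))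
      convert h1 using 1
      rw [smul_mul']
      group
    | one => simp
    | mul y z _ _ hy hz =>
      rw [show h * (y * z) * h⁻¹ = (h * y * h⁻¹) * (h * z * h⁻¹) by group]
      exact L.mul_mem hy hz
    | inv y _ hy =>
      rw [show h * y⁻¹ * h⁻¹ = (h * y * h⁻¹)⁻¹ by group]
      exact L.inv_mem hy
  have hLA : ∀ a : A, ∀ x ∈ L, φ a x ∈ L := by
    intro a x hx
    have hx2 := L.mul_mem hx (hgen a x)
    rwa [mul_inv_cancel_left] at hx2
  have htop : L ⊔ C = ⊤ := by
    rw [eq_top_iff, ← CfsgLib.Coprime.closure_fixed_union_commutators_eq_top φ hcop (Or.inr hsol),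
      Subgroup.closure_le]
    rintro x (hx | ⟨g, a, rfl⟩)
    · exact Subgroup.mem_sup_right (show x ∈ C from hx)
    · exact Subgroup.mem_sup_left (hgen a g)
  -- `L` centralizes the commutator subgroup
  haveI hKc : IsCyclic (commutator G) := IsZGroup.isCyclic_commutator G
  have hKA : ∀ a : A, ∀ x ∈ commutator G, φ a x ∈ commutator G := fun a x hx => by
    have := Subgroup.mem_map_of_mem (φ a).toMonoidHom hx
    rwa [Subgroup.characteristic_iff_map_eq.1 inferInstance (φ a)] at this
  obtain ⟨ψK, hψK⟩ := exists_restrict φ (commutator G) hKA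
  have hLK : L ≤ Subgroup.centralizer (commutator G : Set G) := by
    rw [hL, Subgroup.closure_le]
    rintro _ ⟨a, g, rfl⟩
    let cj : G →* MulAut (commutator G) := MulAut.conjNormal
    have hcomm : ψK a * cj g = cj g * ψK a := by
      apply (IsCyclic.mulAutMulEquiv (commutator G)).injective
      rw [map_mul, map_mul, mul_comm]
    have hconj : cj (a • g) = cj g := by
      refine MulEquiv.ext fun x => ?_
      obtain ⟨y, rfl⟩ : ∃ y, ψK a y = x := (ψK a).surjective x
      have h1 : ψK a (cj g y) = cj g (ψK a y) := congrArg (fun f : MulAut (commutator G) => f y) hcomm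
      rw [← h1]
      refine Subtype.ext ?_
      rw [hψK, MulAut.conjNormal_apply, MulAut.conjNormal_apply, hψK, map_mul, map_mul, map_inv]
      rfl
    refine Subgroup.mem_centralizer_iff.2 fun x hx => ?_
    have h2 := congrArg (fun f : MulAut (commutator G) => (f ⟨x, hx⟩ : G)) hconj
    simp only [cj, MulAut.conjNormal_apply] at h2
    calc x * (g⁻¹ * a • g) = g⁻¹ * (g * x * g⁻¹) * a • g := by group
      _ = g⁻¹ * (a • g * x * (a • g)⁻¹) * a • g := by rw [h2]
      _ = (g⁻¹ * a • g) * x := by group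
  haveI hLnil : Group.IsNilpotent L := by
    haveI hab : IsMulCommutative (L ⧸ Subgroup.center L) := by
      refine ⟨⟨?_⟩⟩
      rintro ⟨x⟩ ⟨y⟩
      show (x : L ⧸ Subgroup.center L) * (y : L ⧸ Subgroup.center L) = (y : L ⧸ Subgroup.center L) * x
      rw [← QuotientGroup.mk_mul, ← QuotientGroup.mk_mul, QuotientGroup.eq, Subgroup.mem_center_iff]
      intro z
      have hk : (((x * y)⁻¹ * (y * x) : L) : G) ∈ commutator G := by
        rw [show (((x * y)⁻¹ * (y * x) : L) : G) = ⁅((y : G))⁻¹, ((x : G))⁻¹⁆ by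
          rw [commutatorElement_def]; push_cast; group]
        exact Subgroup.commutator_mem_commutator (Subgroup.mem_top _) (Subgroup.mem_top _)
      exact Subtype.ext ((Subgroup.mem_centralizer_iff.1 (hLK z.2) _ hk).symm)
    letI : CommGroup (L ⧸ Subgroup.center L) :=
      { (inferInstance : Group (L ⧸ Subgroup.center L)) with mul_comm := fun a b => hab.is_comm.comm a b }
    exact Group.of_quotient_center_nilpotent inferInstance
  haveI hLcyc : IsCyclic L := inferInstance
  have hLcomm : IsMulCommutative L := inferInstance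
  -- `L` meets `C` trivially
  obtain ⟨ψL, hψL⟩ := exists_restrict φ L hLA
  obtain ⟨N, hN, hNfix⟩ := exists_norm hLcomm ψL
  have hLC : ∀ x ∈ L, x ∈ C → x = 1 := by
    have hker : L ≤ N.ker.map L.subtype := by
      conv_lhs => rw [hL]
      rw [Subgroup.closure_le]
      rintro _ ⟨a, g, rfl⟩
      obtain ⟨l, hl, c, hc, rfl⟩ := Subgroup.mem_sup_of_normal_left.1 (htop ▸ Subgroup.mem_top g)
      have hl' : c⁻¹ * l * c ∈ L := by simpa using hLn.conj_mem l hl c⁻¹
      refine ⟨(⟨_, hl'⟩ : L)⁻¹ * ψL a ⟨_, hl'⟩, ?_, ?_⟩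
      · rw [SetLike.mem_coe, MonoidHom.mem_ker, map_mul, map_inv, hN, inv_mul_cancel]
      · show (c⁻¹ * l * c)⁻¹ * (ψL a ⟨_, hl'⟩ : G) = (l * c)⁻¹ * a • (l * c)
        rw [hψL, hφ, smul_mul', smul_mul', smul_mul', smul_inv', hc a]
        group
    intro x hx hxC
    obtain ⟨u, hu, hux⟩ := hker hx
    have hu2 : u = ⟨x, hx⟩ := Subtype.ext hux
    subst hu2
    have h1 := hNfix ⟨x, hx⟩ fun b => Subtype.ext (by rw [hψL, hφ]; exact hxC b)
    rw [MonoidHom.mem_ker.1 hu] at h1
    have h2 : x ^ Nat.card A = 1 := (congrArg Subtype.val h1).symm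
    exact orderOf_eq_one_iff.1 (Nat.eq_one_of_dvd_coprimes hcop (orderOf_dvd_of_pow_eq_one h2) (orderOf_dvd_natCard x))
  -- Hall property
  have hHall : (Nat.card C).Coprime C.index := by
    refine Nat.coprime_of_dvd fun p hp hpC hpi => ?_
    haveI := Fact.mk hp
    obtain ⟨c, hc⟩ := exists_prime_orderOf_dvd_card' (G := C) p hpC
    have hcord : orderOf (c : G) = p := by rw [Subgroup.orderOf_coe, hc]
    set M := Subgroup.centralizer ({(c : G)} : Set G) with hM
    have hMA : ∀ a : A, ∀ x ∈ M, φ a x ∈ M := fun a x hx => by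
      rw [hM, Subgroup.mem_centralizer_singleton_iff] at hx ⊢
      have := congrArg (φ a) hx
      rwa [map_mul, map_mul, hφ a c, c.2 a] at this
    obtain ⟨ψM, hψM⟩ := exists_restrict φ M hMA
    obtain ⟨P₀, hP₀⟩ := (IsPGroup.of_card (n := 1) (by rw [Nat.card_zpowers, hcord, pow_one]) :
      IsPGroup p (Subgroup.zpowers (c : G))).exists_le_sylow
    have hP₀M : (P₀ : Subgroup G) ≤ M := by
      intro x hx
      haveI : IsCyclic (P₀ : Subgroup G) := hcyc p P₀
      refine Subgroup.mem_centralizer_singleton_iff.2 ?_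
      exact congrArg Subtype.val ((inferInstance : IsMulCommutative (P₀ : Subgroup G)).is_comm.comm
        ⟨x, hx⟩ ⟨c, hP₀ (Subgroup.mem_zpowers _)⟩)
    obtain ⟨P, hP⟩ := CfsgLib.Coprime.exists_invariant_sylow_hom ψM
      (hcop.coprime_dvd_right M.card_subgroup_dvd_card) (Or.inr inferInstance) p
    have hcP : (⟨(c : G), Subgroup.mem_centralizer_singleton_iff.2 rfl⟩ : M) ∈ (P : Subgroup M) := by
      set cM : M := ⟨(c : G), Subgroup.mem_centralizer_singleton_iff.2 rfl⟩
      obtain ⟨Q, hQ⟩ := (IsPGroup.of_card (n := 1) (by rw [Nat.card_zpowers, Subgroup.orderOf_mk, hcord, pow_one]) :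
        IsPGroup p (Subgroup.zpowers cM)).exists_le_sylow
      obtain ⟨m, hm⟩ := MulAction.exists_smul_eq M Q P
      rw [← hm]
      refine ⟨cM, hQ (Subgroup.mem_zpowers _), Subtype.ext ?_⟩
      show (m : G) * c * (m : G)⁻¹ = c
      rw [mul_inv_eq_iff_eq_mul]
      exact Subgroup.mem_centralizer_singleton_iff.1 m.2
    set PG := (P : Subgroup M).map M.subtype with hPG
    have hPcard : Nat.card PG = Nat.card (P₀ : Subgroup G) := by
      rw [hPG, Subgroup.card_subtype, show Nat.card (P₀ : Subgroup G) = Nat.card (P₀.subtype hP₀M : Subgroup M) by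
        rw [Sylow.coe_subtype]; exact (Nat.card_congr (Subgroup.subgroupOfEquivOfLe hP₀M).toEquiv).symm,
        P.card_eq_multiplicity, (P₀.subtype hP₀M).card_eq_multiplicity]
    haveI : IsCyclic PG := IsPGroup.isCyclic_of_isZGroup (P.isPGroup'.map _)
    have hPA : ∀ a : A, ∀ x ∈ PG, φ a x ∈ PG := by
      rintro a _ ⟨y, hy, rfl⟩
      exact ⟨ψM a y, hP a y hy, hψM a y⟩
    obtain ⟨ψP, hψP⟩ := exists_restrict φ PG hPA
    obtain ⟨NP, hNP, hNPfix⟩ := exists_norm (inferInstance : IsMulCommutative PG) ψP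
    have hcPG : (c : G) ∈ PG := ⟨_, hcP, rfl⟩
    set cP : PG := ⟨c, hcPG⟩ with hcPdef
    have hcPord : orderOf cP = p := by rw [hcPdef, Subgroup.orderOf_mk, hcord]
    have hNc : NP cP ≠ 1 := by
      rw [hNPfix cP fun b => Subtype.ext (by rw [hψP, hφ]; exact c.2 b)]
      intro h
      have h1 := orderOf_dvd_of_pow_eq_one h
      rw [hcPord] at h1
      exact Nat.not_coprime_of_dvd_of_dvd hp.one_lt h1 (hpC.trans C.card_subgroup_dvd_card) hcop
    have hinj : NP.ker = ⊥ := by
      by_contra hne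
      obtain ⟨k, hk⟩ := IsPGroup.iff_card.1 ((P.isPGroup'.map M.subtype).to_subgroup NP.ker)
      have hk0 : k ≠ 0 := fun h => hne (Subgroup.card_eq_one.1 (by rw [hk, h, pow_zero]))
      obtain ⟨w, hw⟩ := exists_prime_orderOf_dvd_card' (G := NP.ker) p (hk ▸ dvd_pow_self p hk0)
      refine hNc (MonoidHom.mem_ker.1 ((Subgroup.zpowers_le.2 w.2) (mem_zpowers_of_orderOf_dvd ?_)))
      rw [hcPord, Subgroup.orderOf_coe, hw]
    have hPC : PG ≤ C := fun x hx a => by
      have h1 : (⟨x, hx⟩ : PG)⁻¹ * ψP a ⟨x, hx⟩ ∈ NP.ker := by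
        rw [MonoidHom.mem_ker, map_mul, map_inv, hNP, inv_mul_cancel]
      rw [hinj, Subgroup.mem_bot, inv_mul_eq_one] at h1
      have h2 := congrArg Subtype.val h1
      rw [hψP, hφ] at h2
      exact h2.symm
    refine P₀.not_dvd_index (hpi.trans ?_)
    have hidx : PG.index = (P₀ : Subgroup G).index := Nat.eq_of_mul_eq_mul_left (Nat.card_pos (α := PG))
      (by rw [PG.card_mul_index, hPcard, (P₀ : Subgroup G).card_mul_index])
    exact hidx ▸ Subgroup.index_dvd_of_le hPC
  rw [hC]
  have hdiv : Nat.card G / Nat.card C = C.index :=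
    Nat.div_eq_of_eq_mul_right Nat.card_pos C.card_mul_index.symm
  refine ⟨?_, hLcyc, hLn, ?_, ?_⟩
  · show (Nat.card C).Coprime (Nat.card G / Nat.card C)
    rw [hdiv]; exact hHall
  · ext x
    refine ⟨fun ⟨h1, h2⟩ => hLC x h1 h2, fun h => ?_⟩
    rw [Set.mem_singleton_iff] at h
    exact h ▸ ⟨L.one_mem, C.one_mem⟩
  · rw [Subgroup.closure_eq]; exact htop

end Cfsg.Agent.S4117
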