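import Cfsg.Statements.S4118
import Cfsg.Agent.S4115
import Cfsg.Agent.FGS.ComplementAut
import Cfsg.Agent.FrobComp.Complement
import Cfsg.Agent.PLocal.Cores
import Cfsg.Agent.PrimePowerClass.Blocks

set_option autoImplicit false
open Cfsg

namespace Cfsg.Agent.S4118

open scoped Pointwise
open Subgroup

universe u

/-- Two numbers are equal to one if one divides both and they are coprime. -/
theorem eq_one_of_piNumber {h d : ℕ} (hd : ∀ q : ℕ, q.Prime → q ∣ d → q ∣ h) (hco : d.Coprime h) :
    d = 1 := by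
  by_contra hne
  obtain ⟨q, hq, hqd⟩ := Nat.exists_prime_and_dvd hne
  exact Nat.not_coprime_of_dvd_of_dvd hq.one_lt hqd (hd q hq hqd) hco

/-- The structure part. -/
theorem structure_part {G : Type u} [Group G] [Finite G] (H : Subgroup G)
    (hTI : Cfsg.IsTISubset (H : Set G)) (hnn : ¬ H.Normal) (hHall : (Nat.card H).Coprime H.index)
    (hsep : ∃ (n : ℕ) (M : Fin (n + 1) → Subgroup G), M 0 = ⊥ ∧ M (Fin.last n) = ⊤ ∧ Monotone M ∧
      (∀ i, (M i).Normal) ∧
      ∀ i : Fin n, (∀ q : ℕ, q.Prime → q ∣ (M i.castSucc).relIndex (M i.succ) → q ∣ Nat.card H) ∨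
        ((M i.castSucc).relIndex (M i.succ)).Coprime (Nat.card H))
    (O : Subgroup G) [hOn : O.Normal] (hOc : (Nat.card O).Coprime (Nat.card H))
    (hOmax : ∀ K : Subgroup G, K.Normal → (Nat.card K).Coprime (Nat.card H) → K ≤ O) :
    O ⊔ normalizer (H : Set G) = ⊤ := by
  classical
  have hH1 : H ≠ ⊥ := fun e => hnn (e ▸ Subgroup.normal_bot)
  have hOH : O ⊓ H = ⊥ := inf_eq_bot_of_coprime hOc
  obtain ⟨n, M, hM0, hMn, hmono, hMnor, hM⟩ := hsep
  obtain ⟨i, hi1, hi2⟩ : ∃ i : Fin n, M i.castSucc ≤ O ∧ ¬ M i.succ ≤ O := by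
    by_contra hno
    push Not at hno
    have hall : ∀ j : Fin (n + 1), M j ≤ O := by
      intro j
      induction j using Fin.induction with
      | zero => rw [hM0]; exact bot_le
      | succ j ih => exact hno j ih
    have h1 : (⊤ : Subgroup G) ≤ O := hMn ▸ hall (Fin.last n)
    rw [top_le_iff.mp h1, top_inf_eq] at hOH
    exact hH1 hOH
  set A := M i.castSucc
  set B := M i.succ
  have hAB : A ≤ B := hmono (Fin.castSucc_le_succ i)
  have hBn : B.Normal := hMnor _
  have hAn : A.Normal := hMnor _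
  have hcardB : Nat.card B = Nat.card A * A.relIndex B := (CfsgLib.PLocal.card_mul_relIndex hAB).symm
  have hπ : ∀ q : ℕ, q.Prime → q ∣ A.relIndex B → q ∣ Nat.card H := by
    refine (hM i).resolve_right fun hco => hi2 (hOmax B hBn ?_)
    rw [hcardB]
    exact Nat.Coprime.mul_left (hOc.coprime_dvd_left (card_dvd_of_le hi1)) hco
  set R := O ⊔ B with hR
  have hRn : R.Normal := inferInstance
  have hOR : O ≤ R := le_sup_left
  have hRπ : ∀ q : ℕ, q.Prime → q ∣ O.relIndex R → q ∣ Nat.card H := fun q hq hd =>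
    hπ q hq (hd.trans (by
      rw [hR, relIndex_sup_left]
      exact relIndex_dvd_of_le_left B hi1))
  set H0 := H ⊓ R with hH0
  have hRidx : (O ⊔ H0).relIndex R = 1 := by
    refine eq_one_of_piNumber (h := Nat.card H)
      (fun q hq hd => hRπ q hq (hd.trans (relIndex_dvd_of_le_left R le_sup_left))) ?_
    refine Nat.Coprime.coprime_dvd_left ?_ hHall.symm
    refine (relIndex_dvd_of_le_left R (le_sup_right : H0 ≤ O ⊔ H0)).trans ?_
    rw [hH0, inf_relIndex_right]
    exact CfsgLib.PrimePowerClass.relIndex_dvd_index H R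
  have hRle : R ≤ O ⊔ H0 := relIndex_eq_one.mp hRidx
  have hH01 : H0 ≠ ⊥ := fun e => hi2 (by
    rw [e, sup_bot_eq] at hRle
    exact le_sup_right.trans hRle)
  obtain ⟨⟨x, hx⟩, hx1'⟩ := ne_bot_iff_exists_ne_one.mp hH01
  have hx1 : x ≠ 1 := fun e => hx1' (Subtype.ext e)
  have hHallR : (Nat.card (H0.subgroupOf R)).Coprime (H0.subgroupOf R).index := by
    rw [Nat.card_congr (subgroupOfEquivOfLe inf_le_right).toEquiv]
    refine Nat.Coprime.coprime_dvd_left (card_dvd_of_le inf_le_left)
      (Nat.Coprime.coprime_dvd_right ?_ hHall)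
    change H0.relIndex R ∣ H.index
    rw [hH0, inf_relIndex_right]
    exact CfsgLib.PrimePowerClass.relIndex_dvd_index H R
  have hnormR : ∀ r : R, (r : G) ∈ normalizer (H : Set G) →
      r ∈ normalizer ((H0.subgroupOf R : Subgroup R) : Set R) := by
    intro r hr
    rw [Subgroup.mem_normalizer_iff]
    intro y
    rw [Subgroup.mem_normalizer_iff] at hr
    simp only [mem_subgroupOf, hH0, Subgroup.mem_inf, Subgroup.coe_mul, Subgroup.coe_inv]
    exact ⟨fun h => ⟨(hr _).mp h.1, R.mul_mem (R.mul_mem r.2 h.2) (R.inv_mem r.2)⟩,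
      fun h => ⟨(hr _).mpr h.1, y.2⟩⟩
  have hTIR : Cfsg.IsTISubset ((H0.subgroupOf R : Subgroup R) : Set R) := by
    intro r hr y hy hry
    by_contra hy1
    refine hr (hnormR r ?_)
    exact Cfsg.Agent.S4115.mem_normalizer_of_ti hTI hy.1 (fun e => hy1 (Subtype.ext e)) hry.1
  refine eq_top_iff.mpr fun g _ => ?_
  obtain ⟨r, hr⟩ := CfsgLib.FGS.ti_hall_contains hHallR hTIR
    ((MulAut.conj g • H0).subgroupOf R) (by
      intro q hq hd
      have hle : MulAut.conj g • H0 ≤ R := by
        intro y hy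
        rw [Cfsg.Agent.S4115.mem_conj_iff] at hy
        have := hRn.conj_mem _ hy.2 g
        simpa [mul_assoc] using this
      rw [Nat.card_congr (subgroupOfEquivOfLe hle).toEquiv, CfsgLib.Coprime.card_conj_smul] at hd
      rwa [Nat.card_congr (subgroupOfEquivOfLe inf_le_right).toEquiv])
  have hgx : g * x * g⁻¹ ∈ R := hRn.conj_mem _ hx.2 g
  have h1 : (⟨g * x * g⁻¹, hgx⟩ : R) ∈ MulAut.conj r • H0.subgroupOf R := hr (by
    rw [mem_subgroupOf, Cfsg.Agent.S4115.mem_conj_iff]
    simpa [mul_assoc] using hx)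
  rw [Cfsg.Agent.S4115.mem_conj_iff, mem_subgroupOf] at h1
  have h2 : (r : G)⁻¹ * g ∈ normalizer (H : Set G) :=
    Cfsg.Agent.S4115.mem_normalizer_of_ti hTI hx.1 hx1 (by simpa [mul_assoc] using h1.1)
  have h3 : (r : G) ∈ O ⊔ normalizer (H : Set G) :=
    (sup_le_sup_left (inf_le_left.trans le_normalizer) O) (hRle r.2)
  have := mul_mem h3 (Subgroup.mem_sup_right (S := O) h2)
  rwa [mul_inv_cancel_left] at this

/-- Solvability from the data. -/
theorem solvable_part {G : Type u} [Group G] [Finite G] (H : Subgroup G)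
    (hTI : Cfsg.IsTISubset (H : Set G)) (hnn : ¬ H.Normal) (hHall : (Nat.card H).Coprime H.index)
    (O : Subgroup G) [hOn : O.Normal] (hOc : (Nat.card O).Coprime (Nat.card H))
    (hOmax : ∀ K : Subgroup G, K.Normal → (Nat.card K).Coprime (Nat.card H) → K ≤ O)
    (htop : O ⊔ normalizer (H : Set G) = ⊤) (hOs : Group.IsSolvable O)
    (hno : ∀ K : Subgroup G, K ≤ H → ¬ Nonempty (K ≃* Matrix.SpecialLinearGroup (Fin 2) (ZMod 5))) :
    Group.IsSolvable G := by
  classical
  have hH1 : H ≠ ⊥ := fun e => hnn (e ▸ Subgroup.normal_bot)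
  have : Nontrivial H := (Subgroup.nontrivial_iff_ne_bot H).mpr hH1
  have hOH : O ⊓ H = ⊥ := inf_eq_bot_of_coprime hOc
  set N := normalizer (H : Set G) with hN
  have hcomm : ∀ o ∈ O, o ∈ N → ∀ h ∈ H, Commute h o := by
    intro o ho hoN h hh
    have h1 : h * o * h⁻¹ * o⁻¹ ∈ O ⊓ H := by
      refine ⟨O.mul_mem (hOn.conj_mem o ho h) (O.inv_mem ho), ?_⟩
      rw [show h * o * h⁻¹ * o⁻¹ = h * (o * h⁻¹ * o⁻¹) by group]
      exact H.mul_mem hh ((Subgroup.mem_normalizer_iff.mp hoN _).mp (H.inv_mem hh))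
    rw [hOH, Subgroup.mem_bot] at h1
    exact mul_inv_eq_iff_eq_mul.mp (mul_inv_eq_one.mp h1)
  let φ : H →* MulAut O := (MulAut.conjNormal : G →* MulAut O).comp H.subtype
  have hφ : ∀ (h : H) (o : O), φ h o = o ↔ Commute (h : G) o := fun h o => by
    rw [Subtype.ext_iff]
    change (h : G) * o * (h : G)⁻¹ = o ↔ _
    rw [mul_inv_eq_iff_eq_mul]
    rfl
  have hfix : ∀ h : H, h ≠ 1 → ∀ o : O, φ h o = o → ∀ h' : H, φ h' o = o := by
    intro h hh o ho h'
    have hc := (hφ h o).mp ho
    have hoN : (o : G) ∈ N := Cfsg.Agent.S4115.mem_normalizer_of_ti hTI h.2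
      (fun e => hh (Subtype.ext e)) (by rw [← hc.eq, mul_inv_cancel_right]; exact h.2)
    exact (hφ h' o).mpr (hcomm o o.2 hoN h' h'.2)
  obtain ⟨r, hr, R, hRinv, hne⟩ : ∃ r : ℕ, r.Prime ∧ ∃ R : Sylow r O,
      (∀ h : H, ∀ x ∈ (R : Subgroup O), φ h x ∈ (R : Subgroup O)) ∧
      ∃ h : H, ∃ x ∈ (R : Subgroup O), φ h x ≠ x := by
    by_contra hall
    push Not at hall
    let C : Subgroup O := N.subgroupOf O
    have hC : C.index = 1 := by
      by_contra hne
      obtain ⟨r, hr, hd⟩ := Nat.exists_prime_and_dvd hne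
      have : Fact r.Prime := ⟨hr⟩
      obtain ⟨R, hR⟩ := CfsgLib.Coprime.exists_invariant_sylow_hom φ hOc.symm (Or.inr hOs) r
      refine R.not_dvd_index (hd.trans (index_dvd_of_le fun x hx => ?_))
      have hxfix := fun h : H => (hφ h x).mp (hall r hr R hR h x hx)
      refine Subgroup.centralizer_le_normalizer (H : Set G) ?_
      exact mem_centralizer_iff.mpr fun y hy => (hxfix ⟨y, hy⟩).eq
    have hle : O ≤ N := subgroupOf_eq_top.mp (Subgroup.index_eq_one.mp hC)
    exact hnn (Subgroup.normalizer_eq_top_iff.mp (by rwa [sup_eq_right.mpr hle] at htop))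
  have : Fact r.Prime := ⟨hr⟩
  let ψ : H →* MulAut R :=
    { toFun := fun h =>
        { toFun := fun x => ⟨φ h x, hRinv h x x.2⟩
          invFun := fun x => ⟨φ h⁻¹ x, hRinv h⁻¹ x x.2⟩
          left_inv := fun x => Subtype.ext (by
            change φ h⁻¹ (φ h x) = x
            rw [map_inv]
            exact MulAut.inv_apply_self _ _ _)
          right_inv := fun x => Subtype.ext (by
            change φ h (φ h⁻¹ x) = x
            rw [map_inv]
            exact MulAut.apply_inv_self _ _ _)
          map_mul' := fun x y => Subtype.ext (by simp) }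
      map_one' := MulEquiv.ext fun x => Subtype.ext (by simp)
      map_mul' := fun a b => MulEquiv.ext fun x => Subtype.ext (by simp) }
  obtain ⟨F, _, _, C0, hC0, ⟨e⟩⟩ := Cfsg.Agent.S4115.exists_frobenius R.2 ψ
    (hOc.symm.coprime_dvd_right (Subgroup.card_subgroup_dvd_card _))
    (by
      obtain ⟨h, x, hx, hhx⟩ := hne
      exact ⟨h, ⟨x, hx⟩, fun e => hhx (congrArg Subtype.val e)⟩)
    (fun h hh x hx h' => Subtype.ext (hfix h hh x (congrArg Subtype.val hx) h'))
  obtain ⟨p, hp, hpd⟩ := Nat.exists_prime_and_dvd (n := C0.index)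
    (fun h => hC0.2.1 (Subgroup.index_eq_one.mp h))
  have : Fact p.Prime := ⟨hp⟩
  obtain ⟨V, _, _, _, ρ, hV, hρ⟩ := CfsgLib.FrobComp.exists_free_module hC0 hpd
  have hρH : CfsgLib.FrobComp.IsFree (ρ.comp e.toMonoidHom) :=
    fun h hh => hρ (e h) fun ee => hh (e.injective (ee.trans e.map_one.symm))
  have hHs : Group.IsSolvable H := CfsgLib.FGS.ComplementAut.isSolvable_of_free hρH hV fun K hK => by
    obtain ⟨eK⟩ := hK
    exact hno (K.map H.subtype) (map_subtype_le K)
      ⟨(K.equivMapOfInjective _ H.subtype_injective).symm.trans eK⟩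
  have hAut := CfsgLib.FGS.ComplementAut.isSolvable_mulAut hρH
  -- `C(H) ≤ O ⊔ H`
  have hCn : ∀ c, c ∈ centralizer (H : Set G) → c ∈ O ⊔ H := by
    intro c hc
    have hCN : centralizer (H : Set G) ≤ N := fun y hy =>
      Subgroup.centralizer_le_normalizer (H : Set G) hy
    set C := centralizer (H : Set G) with hCdef
    set Z := H.subgroupOf C with hZ
    have hZn : Z.Normal := ⟨fun z hz y => by
      rw [hZ, mem_subgroupOf] at hz ⊢
      exact (Subgroup.mem_normalizer_iff.mp (hCN y.2) _).mp hz⟩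
    have hcoZ : Nat.Coprime (Nat.card Z) Z.index := by
      have hd1 : Nat.card Z ∣ Nat.card H := by
        rw [hZ, ← Subgroup.card_map_of_injective C.subtype_injective, subgroupOf_map_subtype]
        exact card_dvd_of_le inf_le_left
      have hd2 : Z.index ∣ H.index := by
        change H.relIndex C ∣ H.index
        refine (relIndex_dvd_of_le_left C (le_refl H)).trans ?_
        have h1 : H.relIndex C ∣ H.relIndex N := by
          have : (H.subgroupOf N).Normal := Subgroup.normal_in_normalizer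
          rw [← relIndex_subgroupOf hCN]
          exact relIndex_dvd_index_of_normal _ _
        exact h1.trans (relIndex_dvd_index_of_le le_normalizer)
      exact (hHall.coprime_dvd_left hd1).coprime_dvd_right hd2
    obtain ⟨W, hW⟩ := Subgroup.exists_right_complement'_of_coprime hcoZ
    have hWn : W.Normal := by
      rw [← Subgroup.normalizer_eq_top_iff, eq_top_iff, ← hW.sup_eq_top, sup_le_iff]
      refine ⟨fun z hz => ?_, le_normalizer⟩
      rw [Subgroup.mem_normalizer_iff]
      intro w
      have hzw : z * w = w * z := Subtype.ext (mem_centralizer_iff.mp w.2 z (mem_subgroupOf.mp hz))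
      rw [hzw, mul_inv_cancel_right]
    have hWcard : (Nat.card W).Coprime (Nat.card H) := by
      rw [← hW.symm.index_eq_card]
      refine Nat.Coprime.coprime_dvd_left ?_ hHall.symm
      change H.relIndex C ∣ H.index
      have h1 : H.relIndex C ∣ H.relIndex N := by
        have : (H.subgroupOf N).Normal := Subgroup.normal_in_normalizer
        rw [← relIndex_subgroupOf hCN]
        exact relIndex_dvd_index_of_normal _ _
      exact h1.trans (relIndex_dvd_index_of_le le_normalizer)
    -- `W` is the set of elements of `C` of order prime to `|H|`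
    have hWmem : ∀ y : C, (orderOf y).Coprime (Nat.card H) → y ∈ W := by
      intro y hy
      have h1 := W.pow_index_mem y
      have hco : W.index.Coprime (orderOf y) := by
        rw [hW.index_eq_card]
        refine (hy.coprime_dvd_right ?_).symm
        rw [hZ, ← Subgroup.card_map_of_injective C.subtype_injective, subgroupOf_map_subtype]
        exact card_dvd_of_le inf_le_left
      obtain ⟨m, hm⟩ := exists_pow_eq_self_of_coprime hco
      exact hm ▸ pow_mem h1 m
    set W' := W.map C.subtype with hW'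
    have hNW : N ≤ normalizer (W' : Set G) := by
      rw [Subgroup.le_normalizer_iff]
      rintro g hg _ ⟨w, hw, rfl⟩
      have hgw : g * (w : G) * g⁻¹ ∈ C := by
        rw [mem_centralizer_iff]
        intro y hy
        have hy' : g⁻¹ * y * g ∈ (H : Set G) := by
          simpa [mul_assoc] using (Subgroup.mem_normalizer_iff.mp (N.inv_mem hg) y).mp hy
        have := mem_centralizer_iff.mp w.2 _ hy'
        calc y * (g * (w : G) * g⁻¹) = g * ((g⁻¹ * y * g) * (w : G)) * g⁻¹ := by group
          _ = g * ((w : G) * (g⁻¹ * y * g)) * g⁻¹ := by rw [this]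
          _ = g * (w : G) * g⁻¹ * y := by group
      refine ⟨⟨g * (w : G) * g⁻¹, hgw⟩, hWmem _ ?_, rfl⟩
      rw [← Subgroup.orderOf_coe]
      change (orderOf (MulAut.conj g (w : G))).Coprime _
      rw [MulEquiv.orderOf_eq, Subgroup.orderOf_coe]
      exact hWcard.coprime_dvd_left (W.orderOf_dvd_natCard hw)
    have hOWn : (O ⊔ W').Normal := by
      rw [← Subgroup.normalizer_eq_top_iff, eq_top_iff, ← htop, sup_le_iff]
      refine ⟨(le_sup_left (b := W')).trans le_normalizer, ?_⟩
      rw [Subgroup.le_normalizer_iff]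
      intro g hg x hx
      obtain ⟨o, ho, w, hw, rfl⟩ := Subgroup.mem_sup_of_normal_left.mp hx
      rw [show g * (o * w) * g⁻¹ = (g * o * g⁻¹) * (g * w * g⁻¹) by group]
      exact mul_mem (Subgroup.mem_sup_left (hOn.conj_mem o ho g))
        (Subgroup.mem_sup_right ((Subgroup.mem_normalizer_iff.mp (hNW hg) w).mp hw))
    have hW'O : W' ≤ O := by
      refine le_sup_right.trans (hOmax (O ⊔ W') hOWn ?_)
      refine Nat.Coprime.coprime_dvd_left ?_ (Nat.Coprime.mul_left hWcard hOc)
      rw [show Nat.card W = Nat.card W' from (Subgroup.card_map_of_injective C.subtype_injective).symm,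
        sup_comm]
      exact CfsgLib.PLocal.card_sup_dvd_mul W' O
    obtain ⟨z, hz, w, hw, hzw⟩ := Subgroup.mem_sup_of_normal_left.mp
      (hW.sup_eq_top ▸ mem_top (⟨c, hc⟩ : C) : (⟨c, hc⟩ : C) ∈ Z ⊔ W)
    rw [show c = (z : G) * w from (congrArg Subtype.val hzw).symm]
    exact mul_mem (Subgroup.mem_sup_right (mem_subgroupOf.mp hz))
      (Subgroup.mem_sup_left (hW'O ⟨w, hw, rfl⟩))
  have hOHs : Group.IsSolvable (O ⊔ H : Subgroup G) := by
    have h2 : Group.IsSolvable ((O ⊔ H : Subgroup G) ⧸ O.subgroupOf (O ⊔ H)) := by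
      refine Group.isSolvable_of_surjective
        (f := (QuotientGroup.mk' (O.subgroupOf (O ⊔ H))).comp (Subgroup.inclusion le_sup_right)) ?_
      intro x
      induction x using QuotientGroup.induction_on with
      | H x =>
        obtain ⟨o, ho, h, hh, hoh⟩ := Subgroup.mem_sup_of_normal_left.mp x.2
        refine ⟨⟨h, hh⟩, QuotientGroup.eq.mpr ?_⟩
        rw [mem_subgroupOf]
        change h⁻¹ * (x : G) ∈ O
        rw [← hoh, ← mul_assoc]
        simpa using hOn.conj_mem o ho h⁻¹
    have h1 : Group.IsSolvable (O.subgroupOf (O ⊔ H)) :=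
      Group.isSolvable_of_isSolvable_injective
        (f := (subgroupOfEquivOfLe (le_sup_left : O ≤ O ⊔ H)).toMonoidHom)
        (subgroupOfEquivOfLe (le_sup_left : O ≤ O ⊔ H)).injective
    exact (Group.isSolvable_iff_subgroup_quotient (O.subgroupOf (O ⊔ H))).mpr ⟨h1, h2⟩
  have hNs : Group.IsSolvable N := by
    let c : N →* MulAut H := H.normalizerMonoidHom
    have hker : Group.IsSolvable c.ker := by
      have hle : ∀ x : c.ker, ((x : N) : G) ∈ O ⊔ H := fun x => hCn _ (by
        have hk := Subgroup.normalizerMonoidHom_ker H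
        have h : (x : N) ∈ c.ker := x.2
        exact mem_subgroupOf.mp (hk.le h))
      exact Group.isSolvable_of_isSolvable_injective
        (f := (N.subtype.comp c.ker.subtype).codRestrict (O ⊔ H) hle)
        fun x y e => Subtype.ext (Subtype.ext (congrArg (fun z : ↥(O ⊔ H) => (z : G)) e))
    exact Group.isSolvable_of_ker_le_range c.ker.subtype c (by rw [Subgroup.range_subtype])
  have hq : Group.IsSolvable (G ⧸ O) := by
    refine Group.isSolvable_of_surjective (f := (QuotientGroup.mk' O).comp N.subtype) ?_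
    intro x
    induction x using QuotientGroup.induction_on with
    | H x =>
      obtain ⟨o, ho, n, hn, rfl⟩ := Subgroup.mem_sup_of_normal_left.mp
        (htop ▸ mem_top x : x ∈ O ⊔ N)
      refine ⟨⟨n, hn⟩, QuotientGroup.eq.mpr ?_⟩
      change n⁻¹ * (o * n) ∈ O
      rw [← mul_assoc]
      simpa using hOn.conj_mem o ho n⁻¹
  exact (Group.isSolvable_iff_subgroup_quotient O).mpr ⟨hOs, hq⟩

/-- Let G be a finite group and H a non-normal subgroup meeting each of its conjugates by elements outside N_G(H) trivially, with the order of H coprime to its index in N_G(H); let π be the set of primes dividing the order of H and suppose G is π-separable (it has a chain of normal subgroups from 1 to G each of whose factors has order divisible only by primes in π or coprime to the order of H). Let O be the largest normal subgroup of G of order coprime to the order of H. Then G = O·N_G(H), O·H is normal in G, and G is solvable if and only if O is solvable and H has no subgroup isomorphic to SL₂(5). -/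
theorem result {G : Type*} [Group G] [Finite G] (H : Subgroup G)
    (hTI : Cfsg.IsTISubset (H : Set G)) (hnn : ¬ H.Normal)
    (hHall : (Nat.card H).Coprime (H.subgroupOf (Subgroup.normalizer (H : Set G))).index)
    (hsep : ∃ (n : ℕ) (M : Fin (n + 1) → Subgroup G), M 0 = ⊥ ∧ M (Fin.last n) = ⊤ ∧ Monotone M ∧ (∀ i, (M i).Normal) ∧
      ∀ i : Fin n, (∀ q : ℕ, q.Prime → q ∣ (M i.castSucc).relIndex (M i.succ) → q ∣ Nat.card H) ∨
        ((M i.castSucc).relIndex (M i.succ)).Coprime (Nat.card H))
    (O : Subgroup G) (hO : O = sSup {K : Subgroup G | K.Normal ∧ (Nat.card K).Coprime (Nat.card H)}) :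
    O ⊔ Subgroup.normalizer (H : Set G) = ⊤ ∧ (O ⊔ H).Normal ∧
    (Group.IsSolvable G ↔ Group.IsSolvable O ∧
      ∀ K : Subgroup G, K ≤ H → ¬ Nonempty (K ≃* Matrix.SpecialLinearGroup (Fin 2) (ZMod 5))) := by
  have hH' := Cfsg.Agent.S4115.hall_of_ti hTI hHall
  have hn : ∀ K ∈ {K : Subgroup G | K.Normal ∧ (Nat.card K).Coprime (Nat.card H)}, K.Normal :=
    fun K hK => hK.1
  have hOn : O.Normal := hO ▸ Subgroup.sSup_normal _ hn
  have hOc : (Nat.card O).Coprime (Nat.card H) :=
    hO ▸ CfsgLib.PLocal.coprime_card_sSup _ hn (fun K hK => hK.2)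
  have hOmax : ∀ K : Subgroup G, K.Normal → (Nat.card K).Coprime (Nat.card H) → K ≤ O :=
    fun K h1 h2 => hO ▸ le_sSup ⟨h1, h2⟩
  have htop := structure_part H hTI hnn hH' hsep O hOc hOmax
  refine ⟨htop, ?_, ?_⟩
  · rw [← Subgroup.normalizer_eq_top_iff, eq_top_iff, ← htop, sup_le_iff]
    refine ⟨(le_sup_left (b := H)).trans Subgroup.le_normalizer, ?_⟩
    rw [Subgroup.le_normalizer_iff]
    intro g hg x hx
    obtain ⟨o, ho, w, hw, rfl⟩ := Subgroup.mem_sup_of_normal_left.mp hx
    rw [show g * (o * w) * g⁻¹ = (g * o * g⁻¹) * (g * w * g⁻¹) by group]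
    exact mul_mem (Subgroup.mem_sup_left (hOn.conj_mem o ho g))
      (Subgroup.mem_sup_right ((Subgroup.mem_normalizer_iff.mp hg w).mp hw))
  · constructor
    · intro hG
      refine ⟨inferInstance, fun K _ hK => ?_⟩
      obtain ⟨e⟩ := hK
      exact CfsgLib.FGS.ComplementAut.not_isSolvable_sl25
        (Group.isSolvable_of_surjective (f := e.toMonoidHom) e.surjective)
    · rintro ⟨h1, h2⟩
      exact solvable_part H hTI hnn hH' O hOc hOmax htop h1 h2

end Cfsg.Agent.S4118
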