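import Cfsg.Statements.S4120
import Cfsg.Agent.FrobKernelFixed.Main
import Cfsg.Agent.Solvable.FrobeniusBasic
import Cfsg.Agent.ThompsonFpf.Nilpotency

set_option autoImplicit false
set_option linter.style.haveILetI false
open Cfsg

namespace Cfsg.Agent.S4120

open CfsgLib

/-- Let the finite group A act faithfully on the finite group G by automorphisms, and suppose A is a Frobenius group with kernel F and complement H such that F fixes only the identity of G. If the fixed-point subgroup C_G(H) is nilpotent, then G is nilpotent. -/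
theorem result {G A : Type*} [Group G] [Finite G] [Group A] [Finite A] [MulDistribMulAction A G] [FaithfulSMul A G]
    (Fk Hc : Subgroup A) [Fk.Normal] (hHc : Cfsg.IsFrobeniusComplement Hc) (hker : Cfsg.frobeniusKernel Hc = (Fk : Set A))
    (hCF : ∀ g : G, (∀ f ∈ Fk, f • g = g) → g = 1) (hnil : Group.IsNilpotent (Subgroup.closure {g : G | ∀ h ∈ Hc, h • g = g})) : Group.IsNilpotent G := by
  have hmem : ∀ x ∈ Fk, x ∈ Hc → x = 1 := fun x hx hxH => by
    have h1 : x ∈ Cfsg.frobeniusKernel Hc := hker ▸ hx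
    rcases (FrobComp.mem_kernel_iff Hc x).1 h1 with h2 | h2
    · exact h2
    · exact absurd (by simpa using hxH) (h2 1)
  have hfpf : ∀ h ∈ Hc, h ≠ 1 → ∀ x ∈ Fk, h * x = x * h → x = 1 := fun h hh h1 x hx hc =>
    hmem x hx (FrobComp.centralizer_le hHc hh h1
      (Subgroup.mem_centralizer_singleton_iff.2 hc.symm))
  obtain ⟨r, hr, hrH⟩ := Nat.exists_prime_and_dvd (n := Nat.card Hc)
    ((Subgroup.one_lt_card_iff_ne_bot Hc).2 hHc.1).ne'
  haveI := Fact.mk hr
  obtain ⟨h0, hh0⟩ := exists_prime_orderOf_dvd_card' r hrH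
  haveI : Group.IsNilpotent Fk := ThompsonFpf.isNilpotent_of_conj (p := r) Fk (h0 : A)
    (by rw [Subgroup.normalizer_eq_top]; exact Subgroup.mem_top _)
    (by rw [← SubgroupClass.coe_pow, ← hh0, pow_orderOf_eq_one]; rfl)
    ((Subgroup.eq_bot_iff_forall _).2 fun x hx => hfpf h0 h0.2
      (fun e => hr.one_lt.ne' (by rw [← hh0, ← Subgroup.orderOf_coe, e, orderOf_one]))
      x hx.1 (Subgroup.mem_centralizer_singleton_iff.1 hx.2).symm)
  refine FrobKernelFixed.isNilpotent_of_fixedBy (F := Fk) (H := Hc)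
    (MulDistribMulAction.toMulAut A G) hfpf ⟨hCF, ?_⟩
  have he : FrobKernelFixed.fixedBy (MulDistribMulAction.toMulAut A G) Hc =
      Subgroup.closure {g : G | ∀ h ∈ Hc, h • g = g} :=
    le_antisymm (fun g hg => Subgroup.subset_closure hg)
      ((Subgroup.closure_le _).2 fun g hg => hg)
  rw [he]
  exact hnil

end Cfsg.Agent.S4120
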