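import Cfsg.Statements.S4125
import Cfsg.Agent.FGS.BaerQ

set_option autoImplicit false
open Cfsg

namespace Cfsg.Agent.S4125

open CfsgLib.FGS

/-- Let G be a finite group and q a prime dividing its order such that every element of q-power order has a conjugacy class of prime-power size. Then G is q-solvable of q-length 1: there are normal subgroups K ≤ L of G with K of order prime to q, L/K a q-group and L of index prime to q. Moreover there is a prime p such that every element of q-power order has a class of p-power size (one prime serving for all of them), and for a Sylow q-subgroup Q: if p = q then Q is normal with a normal complement (a direct factor), while if p ≠ q then Q is abelian, the product of Q with the largest normal p-subgroup O_p(G) is normal in G, and G/O_{q'}(G) is solvable, where O_{q'}(G) is the largest normal subgroup of order prime to q. -/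
theorem result {G : Type*} [Group G] [Finite G] (q : ℕ) [Fact q.Prime] (hq : q ∣ Nat.card G)
    (hBaer : ∀ x : G, (∃ k : ℕ, orderOf x = q ^ k) → ∃ (r : ℕ) (a : ℕ), r.Prime ∧ (Subgroup.centralizer ({x} : Set G)).index = r ^ a) (Q : Sylow q G) :
    (∃ K L : Subgroup G, K.Normal ∧ L.Normal ∧ K ≤ L ∧ (Nat.card K).Coprime q ∧ (∃ m : ℕ, K.relIndex L = q ^ m) ∧ L.index.Coprime q) ∧
    ∃ p : ℕ, p.Prime ∧ (∀ x : G, (∃ k : ℕ, orderOf x = q ^ k) → ∃ a : ℕ, (Subgroup.centralizer ({x} : Set G)).index = p ^ a) ∧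
      (p = q → (Q : Subgroup G).Normal ∧ ∃ N : Subgroup G, N.Normal ∧ N.IsComplement' (Q : Subgroup G)) ∧
      (p ≠ q → IsMulCommutative (Q : Subgroup G) ∧ (Cfsg.pCore p G ⊔ (Q : Subgroup G)).Normal ∧
        ∀ _h : (Cfsg.pPrimeCore q G).Normal, Group.IsSolvable (G ⧸ Cfsg.pPrimeCore q G)) := by
  classical
  by_cases hA : ∃ y : G, BaerQ.IsQ q y ∧ ∃ b : ℕ, 0 < b ∧ BaerQ.cidx y = q ^ b
  · obtain ⟨y, hy, b, hb, hyb⟩ := hA
    obtain ⟨hQn, hN, hall⟩ := BaerQ.caseA hBaer Q hy hb hyb
    refine ⟨⟨⊥, Q, inferInstance, hQn, bot_le, ?_, ?_, ?_⟩, q, Fact.out, hall, fun _ => ⟨hQn, hN⟩,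
      fun h => absurd rfl h⟩
    · rw [Subgroup.card_bot]
      exact Nat.coprime_one_left q
    · rw [Subgroup.relIndex_bot_left]
      exact Q.2.exists_card_eq
    · exact Nat.Coprime.symm ((Fact.out : q.Prime).coprime_iff_not_dvd.mpr Q.not_dvd_index)
  have hB' : ∀ x : G, BaerQ.IsQ q x → ∃ r a : ℕ, r.Prime ∧ r ≠ q ∧ BaerQ.cidx x = r ^ a := by
    intro x hx
    obtain ⟨r, a, hr, ha⟩ := hBaer x hx
    by_cases hrq : r = q
    · obtain ⟨p, hp, hpp⟩ := Nat.exists_infinite_primes (q + 1)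
      refine ⟨p, 0, hpp, by omega, ?_⟩
      rw [pow_zero]
      rcases Nat.eq_zero_or_pos a with rfl | hpos
      · rw [BaerQ.cidx, ha, pow_zero]
      · exact absurd ⟨x, hx, a, hpos, hrq ▸ ha⟩ hA
    · exact ⟨r, a, hr, hrq, ha⟩
  obtain ⟨p, hp, hpq, hall⟩ := BaerQ.exists_prime_for_all hB' Q
  have : Fact p.Prime := ⟨hp⟩
  have hnormal := BaerQ.sup_normal Q hall
  have hcomm : ∀ x ∈ (Q : Subgroup G), ∀ y ∈ (Q : Subgroup G), Commute x y := fun x hx y hy =>
    BaerQ.commute_of_mem hB' Q hx hy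
  refine ⟨⟨pCore p G, pCore p G ⊔ (Q : Subgroup G), CfsgLib.Solvable.pCore_normal p, hnormal,
    le_sup_left, ?_, ?_, ?_⟩, p, hp, hall, fun h => absurd h hpq, fun _ => ⟨?_, hnormal, ?_⟩⟩
  · obtain ⟨j, hj⟩ := (CfsgLib.Solvable.isPGroup_pCore (G := G) p).exists_card_eq
    rw [hj]
    exact Nat.Coprime.pow_left _ ((Nat.coprime_primes hp Fact.out).mpr hpq)
  · rw [Subgroup.relIndex_sup_left]
    obtain ⟨d, hd⟩ := Q.2.exists_card_eq
    exact CfsgLib.PrimePowerClass.pPow_of_dvd (a := d) (hd ▸ Subgroup.relIndex_dvd_card _ _)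
  · exact Nat.Coprime.symm ((Fact.out : q.Prime).coprime_iff_not_dvd.mpr fun hd =>
      Q.not_dvd_index (hd.trans (Subgroup.index_dvd_of_le le_sup_right)))
  · exact ⟨⟨fun x y => Subtype.ext (hcomm x x.2 y y.2)⟩⟩
  · intro _h
    exact BaerQ.isSolvable_quotient Q hpq hall hcomm

end Cfsg.Agent.S4125
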