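import Cfsg.Statements.S4126
import Cfsg.Agent.FGS.PrimePart
import Cfsg.Agent.PLocal.Cores
import Cfsg.Agent.OddOrder.BG1Stab
import Cfsg.Agent.Transfer.Frobenius
import Mathlib.GroupTheory.Solvable
-- import your own Cfsg.Agent.* helpers here

set_option autoImplicit false
open Cfsg

namespace Cfsg.Agent.S4126

open scoped Pointwise commutatorElement

variable {p : ℕ} [Fact p.Prime]

/-- elements with a class of `p`-power size: conjugates come from the Sylow subgroup -/
theorem exists_conj_from_sylow {G : Type*} [Group G] [Finite G] (P : Sylow p G) {x : G} {a : ℕ}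
    (h : (Subgroup.centralizer ({x} : Set G)).index = p ^ a) (y : G) :
    ∃ π ∈ (P : Subgroup G), y * x * y⁻¹ = π * x * π⁻¹ := by
  set C := Subgroup.centralizer ({x} : Set G) with hC
  have hle : C.index ≤ C.relIndex P := by
    have hp : p.Prime := Fact.out
    have h1 : C.relIndex P * (P : Subgroup G).index = (C ⊓ (P : Subgroup G)).index := by
      rw [← Subgroup.inf_relIndex_right]; exact Subgroup.relIndex_mul_index inf_le_right
    have h2 : C.index ∣ (C ⊓ (P : Subgroup G)).index := Subgroup.index_dvd_of_le inf_le_left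
    rw [← h1, h] at h2
    have h3 : p ^ a ∣ C.relIndex P :=
      (((hp.coprime_iff_not_dvd).2 P.not_dvd_index).pow_left a).dvd_of_dvd_mul_right h2
    rw [h]
    exact Nat.le_of_dvd (Nat.pos_of_ne_zero Subgroup.index_ne_zero_of_finite) h3
  let f : (P : Subgroup G) ⧸ C.subgroupOf P → G ⧸ C :=
    Quotient.map' Subtype.val fun a b hab => by
      rw [QuotientGroup.leftRel_apply] at hab ⊢
      exact hab
  have hinj : Function.Injective f := by
    rintro ⟨a⟩ ⟨b⟩ hab
    exact QuotientGroup.eq.2 (QuotientGroup.eq.1 hab : (a : G)⁻¹ * b ∈ C)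
  obtain ⟨q, hq⟩ := (hinj.bijective_of_nat_card_le hle).2 (y : G ⧸ C)
  induction q using QuotientGroup.induction_on with
  | H π =>
    refine ⟨π, π.2, ?_⟩
    have hc : (π : G)⁻¹ * y ∈ C := QuotientGroup.eq.1 hq
    have hcomm := Subgroup.mem_centralizer_singleton_iff.1 hc
    calc y * x * y⁻¹ = π * (((π : G)⁻¹ * y) * x) * y⁻¹ := by group
      _ = π * x * (π : G)⁻¹ := by rw [hcomm]; group

/-- The hypothesis of the statement. -/
def SmallClasses (p : ℕ) (G : Type*) [Group G] : Prop :=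
  ∀ x : G, (orderOf x = p ∨ (p = 2 ∧ orderOf x = 4)) →
    ∃ a : ℕ, (Subgroup.centralizer ({x} : Set G)).index = p ^ a

/-- Elements of order prime to `p` centralize the `p`-core. -/
theorem pPrime_centralizes_pCore {G : Type*} [Group G] [Finite G] (hG : SmallClasses p G) :
    Cfsg.pCore p G ≤ Subgroup.centralizer {y : G | (orderOf y).Coprime p} := by
  have hp : p.Prime := Fact.out
  set W := Cfsg.pCore p G with hW
  have hWp : IsPGroup p W := CfsgLib.PLocal.isPGroup_pCore p G
  set S := {y : G | (orderOf y).Coprime p} with hS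
  set K := Subgroup.closure S with hK
  have hconjS : ∀ g y : G, y ∈ S → g * y * g⁻¹ ∈ S := fun g y hy => by
    show (orderOf (MulAut.conj g y)).Coprime p
    rw [MulEquiv.orderOf_eq]; exact hy
  haveI hKn : K.Normal := by
    refine ⟨fun k hk g => ?_⟩
    induction hk using Subgroup.closure_induction with
    | mem y hy => exact Subgroup.subset_closure (hconjS g y hy)
    | one => simp
    | mul a b _ _ ha hb =>
      rw [show g * (a * b) * g⁻¹ = (g * a * g⁻¹) * (g * b * g⁻¹) by group]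
      exact K.mul_mem ha hb
    | inv a _ ha =>
      rw [show g * a⁻¹ * g⁻¹ = (g * a * g⁻¹)⁻¹ by group]
      exact K.inv_mem ha
  have hSK : Subgroup.centralizer S = Subgroup.centralizer (K : Set G) := (Subgroup.centralizer_closure S).symm
  by_contra hnot
  set U := W ⊓ Subgroup.centralizer (K : Set G) with hU
  haveI : U.Normal := Subgroup.normal_inf_normal _ _
  have hUK : ∀ u ∈ U, ∀ k ∈ K, k * u = u * k := fun u hu k hk =>
    Subgroup.mem_centralizer_iff.1 (Subgroup.mem_inf.1 hu).2 k hk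
  have hord : ∀ w ∈ W, ∃ i, orderOf w = p ^ i := fun w hw => by
    obtain ⟨i, hi⟩ := (IsPGroup.iff_orderOf.1 hWp) ⟨w, hw⟩
    exact ⟨i, by rwa [Subgroup.orderOf_mk] at hi⟩
  -- moving into the coset modulo `U` means centralizing
  have hstab : ∀ x ∈ W, ∀ y ∈ S, x⁻¹ * (y * x * y⁻¹) ∈ U → y * x = x * y := by
    intro x hx y hy hu
    set u := x⁻¹ * (y * x * y⁻¹) with hudef
    have hyu : y * u = u * y := hUK u hu y (Subgroup.subset_closure hy)
    have hiter : ∀ i : ℕ, y ^ i * x * (y ^ i)⁻¹ = x * u ^ i := by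
      intro i
      induction i with
      | zero => simp
      | succ i ih =>
        calc y ^ (i + 1) * x * (y ^ (i + 1))⁻¹ = y * (y ^ i * x * (y ^ i)⁻¹) * y⁻¹ := by
              rw [pow_succ']; group
          _ = (y * x * y⁻¹) * (y * u ^ i * y⁻¹) := by rw [ih]; group
          _ = (x * u) * u ^ i := by
              rw [(Commute.pow_right hyu i).eq, mul_inv_cancel_right, hudef]; group
          _ = x * u ^ (i + 1) := by rw [pow_succ']; group
    have h1 := hiter (orderOf y)
    rw [pow_orderOf_eq_one, one_mul, inv_one, mul_one, left_eq_mul] at h1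
    obtain ⟨i, hi⟩ := hord u (Subgroup.mem_inf.1 hu).1
    have h2 : orderOf u = 1 :=
      Nat.eq_one_of_dvd_coprimes (Nat.Coprime.pow_right i hy) (orderOf_dvd_of_pow_eq_one h1) (dvd_of_eq hi)
    have h3 := orderOf_eq_one_iff.1 h2
    rw [hudef, inv_mul_eq_one] at h3
    exact mul_inv_eq_iff_eq_mul.1 h3.symm
  have hcentral : ∀ (Z : Subgroup G), Z ≤ W → (∀ y ∈ S, ∀ z ∈ Z, ⁅y, z⁆ ∈ U) → Z ≤ U := by
    intro Z hZ h z hz
    refine ⟨hZ hz, ?_⟩
    rw [SetLike.mem_coe, ← hSK]
    refine Subgroup.mem_centralizer_iff.2 fun y hy => hstab z (hZ hz) y hy ?_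
    have h1 := Subgroup.Normal.conj_mem (inferInstance : U.Normal) _ (h y hy z hz) z⁻¹
    rw [commutatorElement_def] at h1
    rwa [show z⁻¹ * (y * z * y⁻¹ * z⁻¹) * z⁻¹⁻¹ = z⁻¹ * (y * z * y⁻¹) by group] at h1
  have hWU : ¬ W ≤ U := fun h => hnot (hSK ▸ h.trans inf_le_right)
  obtain ⟨X, ⟨hXn, hUX, hXW⟩, hmin⟩ := Set.Finite.exists_minimalFor (fun X : Subgroup G => Nat.card X)
    {X : Subgroup G | X.Normal ∧ U < X ∧ X ≤ W} (Set.toFinite _)
    ⟨W, inferInstance, lt_of_le_not_ge inf_le_left hWU, le_rfl⟩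
  haveI := hXn
  have hminX : ∀ Y : Subgroup G, Y.Normal → U < Y → Y ≤ X → Y = X := fun Y hY h1 h2 =>
    Subgroup.eq_of_le_of_card_ge h2 (hmin ⟨hY, h1, h2.trans hXW⟩ (Subgroup.card_le_of_le h2))
  -- `X / U` is elementary abelian
  have hcomm : ⁅X, X⁆ ≤ U := by
    by_contra hno
    have hD : ⁅X, X⁆ ⊔ U = X := hminX _ inferInstance
      (lt_of_le_not_ge le_sup_right fun h => hno (le_sup_left.trans h))
      (sup_le (Subgroup.commutator_le_self X) hUX.le)
    set Xb := X.map (QuotientGroup.mk' U) with hXb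
    have hXbC : ⁅Xb, Xb⁆ = Xb := by
      rw [hXb, ← Subgroup.map_commutator]
      conv_rhs => rw [← hD, Subgroup.map_sup, QuotientGroup.map_mk'_self, sup_bot_eq]
    haveI : Group.IsNilpotent Xb := ((hWp.to_le hXW).map _).isNilpotent
    haveI : Nontrivial Xb := (Subgroup.nontrivial_iff_ne_bot _).2 fun hb =>
      hUX.not_ge ((Subgroup.map_eq_bot_iff _).1 hb |>.trans_eq (QuotientGroup.ker_mk' U))
    refine (IsSolvable.commutator_lt_top_of_nontrivial Xb).ne (Subgroup.map_injective Xb.subtype_injective ?_)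
    rw [Subgroup.map_subtype_commutator, hXbC, ← MonoidHom.range_eq_map, Subgroup.range_subtype]
  have hpow : ∀ x ∈ X, x ^ p ∈ U := by
    let X₁ : Subgroup G :=
      { carrier := {x | x ∈ X ∧ x ^ p ∈ U}
        one_mem' := ⟨X.one_mem, by simp⟩
        mul_mem' := by
          rintro a b ⟨ha, ha'⟩ ⟨hb, hb'⟩
          refine ⟨X.mul_mem ha hb, ?_⟩
          rw [← QuotientGroup.eq_one_iff] at ha' hb' ⊢
          have hc : Commute (a : G ⧸ U) (b : G ⧸ U) := by
            rw [← commutatorElement_eq_one_iff_commute]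
            exact (QuotientGroup.eq_one_iff _).2 (hcomm (Subgroup.commutator_mem_commutator ha hb))
          simp only [QuotientGroup.mk_pow, QuotientGroup.mk_mul] at ha' hb' ⊢
          rw [hc.mul_pow, ha', hb', mul_one]
        inv_mem' := by
          rintro a ⟨ha, ha'⟩
          exact ⟨X.inv_mem ha, by rw [inv_pow]; exact U.inv_mem ha'⟩ }
    have hX₁le : X₁ ≤ X := fun x hx => hx.1
    have hX₁n : X₁.Normal := ⟨fun x hx g => ⟨hXn.conj_mem x hx.1 g, by
      rw [conj_pow]; exact Subgroup.Normal.conj_mem inferInstance _ hx.2 g⟩⟩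
    have hUX₁ : U < X₁ := by
      refine lt_of_le_not_ge (fun u hu => ⟨hUX.le hu, U.pow_mem hu p⟩) fun hle => ?_
      obtain ⟨x, hx, hxU⟩ := SetLike.exists_of_lt hUX
      obtain ⟨i, hi⟩ := hord x (hXW hx)
      have h0 : x ^ (p ^ i) ∈ U := by rw [← hi, pow_orderOf_eq_one]; exact U.one_mem
      have : ∀ j, x ^ (p ^ j) ∈ U → x ∈ U := by
        intro j
        induction j with
        | zero => intro h; simpa using h
        | succ j ih => intro h; exact ih (hle ⟨X.pow_mem hx _, by rwa [← pow_mul, ← pow_succ]⟩)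
      exact hxU (this i h0)
    intro x hx
    exact ((hminX X₁ hX₁n hUX₁ hX₁le).ge hx).2
  -- `L = [K, X]` commutes with `U`
  set L := ⁅K, X⁆ with hL
  have hLX : L ≤ X := Subgroup.commutator_le_right K X
  have hLU : ∀ l ∈ L, ∀ u ∈ U, u * l = l * u := by
    have : L ≤ Subgroup.centralizer (U : Set G) := by
      rw [hL, Subgroup.commutator_le]
      intro k hk x hx
      refine Subgroup.mem_centralizer_iff.2 fun u hu => ?_
      have hc : x⁻¹ * u * x ∈ U := by simpa using Subgroup.Normal.conj_mem inferInstance u hu x⁻¹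
      have h1 := hUK u hu k hk
      have h2 := hUK _ hc k hk
      rw [commutatorElement_def]
      calc u * (k * x * k⁻¹ * x⁻¹) = (u * k) * (x * k⁻¹ * x⁻¹) := by group
        _ = (k * u) * (x * k⁻¹ * x⁻¹) := by rw [h1]
        _ = k * x * (k⁻¹ * (k * (x⁻¹ * u * x))) * (k⁻¹ * x⁻¹) := by group
        _ = k * x * (k⁻¹ * ((x⁻¹ * u * x) * k)) * (k⁻¹ * x⁻¹) := by rw [h2]
        _ = k * x * k⁻¹ * x⁻¹ * u := by group
    exact fun l hl u hu => Subgroup.mem_centralizer_iff.1 (this hl) u hu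
  set e := if p = 2 then 4 else p with he
  have hpe : p ∣ e ∧ p ∣ e.choose 2 := by
    rw [he]
    split_ifs with h2
    · subst h2; decide
    · exact ⟨dvd_rfl, hp.dvd_choose_self two_ne_zero (lt_of_le_of_ne hp.two_le (Ne.symm h2))⟩
  have hmulpow : ∀ a ∈ L, ∀ b ∈ L, (a * b) ^ e = a ^ e * b ^ e := by
    intro a ha b hb
    have hcU : ⁅b, a⁆ ∈ U := hcomm (Subgroup.commutator_mem_commutator (hLX hb) (hLX ha))
    have h := CfsgLib.OddOrder.Stab.mul_pow_of_commutator_central (x := (⟨a, ha⟩ : L)) (y := ⟨b, hb⟩)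
      (fun z => Subtype.ext (hLU z z.2 _ hcU)) e
    have h' : (a * b) ^ e = a ^ e * b ^ e * ⁅b, a⁆ ^ e.choose 2 := congrArg Subtype.val h
    set c := ⁅b, a⁆ with hc
    have hca : c * a = a * c := hLU a ha c hcU
    have hconj : b * a * b⁻¹ = c * a := by rw [hc, commutatorElement_def]; group
    have hcp : c ^ p = 1 := by
      have h1 : b * a ^ p * b⁻¹ = c ^ p * a ^ p := by
        rw [← conj_pow, hconj, (show Commute c a from hca).mul_pow]
      rw [← hLU b hb _ (hpow a (hLX ha)), mul_inv_cancel_right] at h1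
      exact (right_eq_mul.1 h1)
    obtain ⟨j, hj⟩ := hpe.2
    rw [h', hj, pow_mul, hcp, one_pow, mul_one]
  set M := ⁅K, L⁆ with hM
  have hML : M ≤ L := Subgroup.commutator_le_right K L
  have hMe : ∀ l ∈ M, l ^ e = 1 := by
    let T : Subgroup G :=
      { carrier := {l | l ∈ L ∧ l ^ e = 1}
        one_mem' := ⟨L.one_mem, one_pow _⟩
        mul_mem' := fun {a b} ha hb => ⟨L.mul_mem ha.1 hb.1, by rw [hmulpow a ha.1 b hb.1, ha.2, hb.2, mul_one]⟩
        inv_mem' := fun {a} ha => ⟨L.inv_mem ha.1, by rw [inv_pow, ha.2, inv_one]⟩ }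
    have hMT : M ≤ T := by
      rw [hM, Subgroup.commutator_le]
      intro k hk l hl
      have hl' : k * l * k⁻¹ ∈ L := Subgroup.Normal.conj_mem inferInstance l hl k
      refine ⟨by rw [commutatorElement_def]; exact L.mul_mem hl' (L.inv_mem hl), ?_⟩
      obtain ⟨j, hj⟩ := hpe.1
      have hle : l ^ e ∈ U := by rw [hj, pow_mul]; exact U.pow_mem (hpow l (hLX hl)) j
      rw [commutatorElement_def, hmulpow _ hl' _ (L.inv_mem hl), conj_pow, inv_pow, hUK _ hle k hk]
      group
    exact fun l hl => (hMT hl).2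
  have hLnU : ¬ L ≤ U := fun h => hUX.not_ge (hcentral X hXW fun y hy x hx =>
    h (Subgroup.commutator_mem_commutator (Subgroup.subset_closure hy) hx))
  have hMnU : ¬ M ≤ U := fun h => hLnU (hcentral L (hLX.trans hXW) fun y hy l hl =>
    h (Subgroup.commutator_mem_commutator (Subgroup.subset_closure hy) hl))
  -- a fixed point of a Sylow subgroup on the image of `M`
  obtain ⟨P⟩ : Nonempty (Sylow p G) := inferInstance
  have hMb : p ∣ Nat.card (M.map (QuotientGroup.mk' U)) := by
    obtain ⟨i, hi⟩ := IsPGroup.iff_card.1 ((hWp.to_le ((hML.trans hLX).trans hXW)).map (QuotientGroup.mk' U))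
    rw [hi]
    refine dvd_pow_self p fun i0 => hMnU ?_
    rw [i0, pow_zero, Subgroup.card_eq_one, Subgroup.map_eq_bot_iff, QuotientGroup.ker_mk'] at hi
    exact hi
  haveI : (M.map (QuotientGroup.mk' U)).Normal :=
    Subgroup.Normal.map inferInstance _ (QuotientGroup.mk'_surjective U)
  obtain ⟨z, ⟨x, hx, hxz⟩, hz1, hz⟩ := CfsgLib.FGS.exists_mem_ne_one_commute
    (P := (P : Subgroup G).map (QuotientGroup.mk' U)) (P.isPGroup'.map _) hMb
  have hxU : x ∉ U := fun h => hz1 (hxz ▸ (QuotientGroup.eq_one_iff x).2 h)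
  have hx1 : x ≠ 1 := fun h => hxU (h ▸ U.one_mem)
  have hox : orderOf x = p ∨ (p = 2 ∧ orderOf x = 4) := by
    have hd : orderOf x ∣ e := orderOf_dvd_of_pow_eq_one (hMe x hx)
    by_cases h2 : p = 2
    · rw [he, if_pos h2, show (4 : ℕ) = 2 ^ 2 by norm_num] at hd
      obtain ⟨i, hi, hi'⟩ := (Nat.dvd_prime_pow Nat.prime_two).1 hd
      interval_cases i
      · exact absurd (orderOf_eq_one_iff.1 (hi'.trans (pow_zero 2))) hx1
      · exact Or.inl (by rw [h2, hi', pow_one])
      · exact Or.inr ⟨h2, by rw [hi']; norm_num⟩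
    · rw [he, if_neg h2] at hd
      rcases (Nat.dvd_prime hp).1 hd with h | h
      · exact absurd (orderOf_eq_one_iff.1 h) hx1
      · exact Or.inl h
  obtain ⟨a, ha⟩ := hG x hox
  have hxW : x ∈ W := hXW (hLX (hML hx))
  refine hxU ⟨hxW, ?_⟩
  rw [SetLike.mem_coe, ← hSK]
  refine Subgroup.mem_centralizer_iff.2 fun y hy => hstab x hxW y hy ?_
  obtain ⟨π, hπ, hyπ⟩ := exists_conj_from_sylow P ha y
  rw [hyπ, ← QuotientGroup.eq_one_iff]
  have h1 := hz _ ⟨π, hπ, rfl⟩
  rw [← hxz] at h1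
  simp only [QuotientGroup.mk'_apply] at h1
  simp only [QuotientGroup.mk_mul, QuotientGroup.mk_inv]
  rw [h1]
  group

/-- Let G be a finite group and p a prime. Suppose every element of order p, and when p = 2 also every element of order 4, has a conjugacy class of p-power size. Then G has a normal p-complement. -/
theorem result {G : Type*} [Group G] [Finite G] (p : ℕ) [Fact p.Prime]
    (h : ∀ x : G, (orderOf x = p ∨ (p = 2 ∧ orderOf x = 4)) → ∃ a : ℕ, (Subgroup.centralizer ({x} : Set G)).index = p ^ a) :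
    Cfsg.HasNormalPComplement p G := by
  have hp : p.Prime := Fact.out
  obtain ⟨P⟩ : Nonempty (Sylow p G) := inferInstance
  refine CfsgLib.Transfer.hasNormalPComplement_of_local P fun Q hQ g hg hgp => ?_
  have hQp := P.isPGroup'.to_le hQ
  have hG : SmallClasses p G := h
  -- every element of order `p` (or 4) lies in the `p`-core
  have hcoreG := pPrime_centralizes_pCore hG
  have hincore : ∀ x : G, (orderOf x = p ∨ (p = 2 ∧ orderOf x = 4)) → x ∈ Cfsg.pCore p G := by
    intro x hx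
    obtain ⟨a, ha⟩ := h x hx
    obtain ⟨i, hi⟩ : ∃ i, orderOf x = p ^ i := by
      rcases hx with h1 | ⟨h2, h4⟩
      · exact ⟨1, by rw [h1, pow_one]⟩
      · exact ⟨2, by rw [h4, h2]; norm_num⟩
    obtain ⟨S, hS⟩ := (IsPGroup.of_card (n := i) (by rw [Nat.card_zpowers, hi]) :
      IsPGroup p (Subgroup.zpowers x)).exists_le_sylow
    have hsub : Subgroup.normalClosure ({x} : Set G) ≤ S := by
      rw [Subgroup.normalClosure, Subgroup.closure_le]
      intro z hz
      obtain ⟨b, hb, hbz⟩ := Group.mem_conjugatesOfSet_iff.1 hz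
      rw [Set.mem_singleton_iff] at hb
      subst hb
      obtain ⟨y, rfl⟩ := isConj_iff.1 hbz
      obtain ⟨π, hπ, hy⟩ := exists_conj_from_sylow S ha y
      rw [hy]
      exact Subgroup.mul_mem _ (Subgroup.mul_mem _ hπ (hS (Subgroup.mem_zpowers _))) (Subgroup.inv_mem _ hπ)
    exact (CfsgLib.PLocal.le_pCore (S.isPGroup'.to_le hsub)) (Subgroup.subset_normalClosure rfl)
  -- the group `Q ⋊ ⟨g⟩`
  set H := Q ⊔ Subgroup.zpowers g with hH
  have hzg : Subgroup.zpowers g ≤ Subgroup.normalizer (Q : Set G) := Subgroup.zpowers_le.2 hg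
  have hHN : H ≤ Subgroup.normalizer (Q : Set G) := sup_le Subgroup.le_normalizer hzg
  haveI : (Q.subgroupOf H).Normal :=
    (Subgroup.normal_subgroupOf_iff_le_normalizer le_sup_left).2 hHN
  set gh : H := ⟨g, Subgroup.mem_sup_right (Subgroup.mem_zpowers g)⟩ with hghdef
  have hQH : IsPGroup p (Q.subgroupOf H) := hQp.of_equiv (Subgroup.subgroupOfEquivOfLe le_sup_left).symm
  have hgidx : ∃ b, (Subgroup.zpowers gh).index = p ^ b := by
    obtain ⟨b, hb⟩ := IsPGroup.iff_card.1 hQH
    have hd : Subgroup.zpowers gh ⊔ Q.subgroupOf H = ⊤ := by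
      refine Subgroup.map_injective H.subtype_injective ?_
      rw [Subgroup.map_sup, Subgroup.map_subgroupOf_eq_of_le le_sup_left, MonoidHom.map_zpowers,
        ← MonoidHom.range_eq_map, Subgroup.range_subtype, sup_comm]
      rfl
    have h1 := CfsgLib.PLocal.card_sup_dvd_mul (Subgroup.zpowers gh) (Q.subgroupOf H)
    rw [hd, Subgroup.card_top, ← Subgroup.card_mul_index (Subgroup.zpowers gh)] at h1
    replace h1 := Nat.dvd_of_mul_dvd_mul_left Nat.card_pos h1
    rw [hb] at h1
    obtain ⟨c, -, hc⟩ := (Nat.dvd_prime_pow hp).1 h1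
    exact ⟨c, hc⟩
  obtain ⟨b, hb⟩ := hgidx
  have hsmall : SmallClasses p H := by
    intro x hx
    have hx' : (orderOf (x : G) = p ∨ (p = 2 ∧ orderOf (x : G) = 4)) := by rwa [Subgroup.orderOf_coe]
    have hcx := Subgroup.mem_centralizer_iff.1 (hcoreG (hincore _ hx')) g hgp
    have hle : Subgroup.zpowers gh ≤ Subgroup.centralizer ({x} : Set H) :=
      Subgroup.zpowers_le.2 (Subgroup.mem_centralizer_singleton_iff.2 (Subtype.ext hcx))
    obtain ⟨c, -, hc⟩ := (Nat.dvd_prime_pow hp).1 (hb ▸ Subgroup.index_dvd_of_le hle)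
    exact ⟨c, hc⟩
  intro q hq
  have hqH : (⟨q, Subgroup.mem_sup_left hq⟩ : H) ∈ Cfsg.pCore p H :=
    CfsgLib.PLocal.le_pCore hQH hq
  have hghp : (orderOf gh).Coprime p := by
    rw [hghdef, Subgroup.orderOf_mk]; exact hgp
  exact (congrArg Subtype.val (Subgroup.mem_centralizer_iff.1 (pPrime_centralizes_pCore hsmall hqH) gh hghp)).symm

end Cfsg.Agent.S4126
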