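import Cfsg.Statements.S4130
import Cfsg.Agent.SquarefreeClasses69.Derived
import Cfsg.Agent.S0526
import Cfsg.Agent.Solvable.Fitting
import Cfsg.Agent.Solvable.Nilpotent
import Cfsg.Agent.Transfer.NormalPComplement

set_option autoImplicit false
open Cfsg

namespace Cfsg.Agent.S4130

open Subgroup CfsgLib.ClassCoprime69 CfsgLib.SquarefreeClasses69
open scoped commutatorElement

theorem squarefree_card_commutator {G : Type*} [Group G] [Finite G]
    (hsq : ∀ g : G, Squarefree (cs g)) (hnil : Group.IsNilpotent (_root_.commutator G)) :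
    Squarefree (Nat.card (_root_.commutator G)) := by
  rw [Nat.squarefree_iff_prime_squarefree]
  intro p hp hd
  haveI := Fact.mk hp
  haveI := hnil
  have hM := CfsgLib.Transfer.hasNormalPComplement_iff.mp
    (CfsgLib.Transfer.hasNormalPComplement_of_isNilpotent (p := p) (G := _root_.commutator G))
  set M : Subgroup (_root_.commutator G) := Cfsg.pResidual p (_root_.commutator G)
  set K : Subgroup G := M.map (_root_.commutator G).subtype with hK
  haveI : K.Normal := ConjAct.normal_of_characteristic_of_normal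
  have hrange : (_root_.commutator G).map (QuotientGroup.mk' K) = _root_.commutator (G ⧸ K) := by
    rw [_root_.commutator_def, _root_.commutator_def, map_commutator,
      map_top_of_surjective _ (QuotientGroup.mk'_surjective K)]
  have hcard : Nat.card (_root_.commutator (G ⧸ K)) = M.index := by
    rw [← hrange, ← relIndex_bot_left, ← relIndex_comap, MonoidHom.comap_bot, QuotientGroup.ker_mk',
      hK, relIndex, subgroupOf, comap_map_eq_self_of_injective (_root_.commutator G).subtype_injective]
  obtain ⟨j, hj⟩ := IsPGroup.iff_card.mp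
    (CfsgLib.Transfer.isPGroup_quotient_pResidual (p := p) (G := _root_.commutator G))
  rw [← index_eq_card] at hj
  have h1 := card_commutator_dvd_of_isPGroup (p := p) (squarefree_quotient hsq K)
    (IsPGroup.of_card (n := j) (hcard.trans hj))
  rw [hcard] at h1
  rw [← M.card_mul_index] at hd
  have h2 : p * p ∣ M.index :=
    ((hp.coprime_iff_not_dvd.mpr hM).mul_left (hp.coprime_iff_not_dvd.mpr hM)).dvd_of_dvd_mul_left hd
  have := Nat.le_of_dvd hp.pos (h2.trans h1)
  have := hp.two_le
  nlinarith

theorem ucs_two_eq_top {G : Type*} [Group G] {C : Subgroup G}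
    (h : ∀ a ∈ C, ∀ b ∈ C, ∀ c ∈ C, Commute c ⁅a, b⁆) :
    Subgroup.upperCentralSeries ↥C 2 = ⊤ := by
  refine (eq_top_iff' _).mpr fun x => ?_
  rw [Subgroup.mem_upperCentralSeries_succ_iff]
  intro y
  rw [Subgroup.mem_upperCentralSeries_succ_iff]
  intro z
  rw [Subgroup.upperCentralSeries_zero, mem_bot, commutatorElement_eq_one_iff_commute]
  refine Subtype.ext ?_
  exact (h x x.2 y y.2 z z.2).symm.eq

/-- Let G be a finite group all of whose conjugacy class sizes are square-free. Then G is supersolvable, G/F(G) and the derived subgroup G′ are cyclic of square-free order (F(G) the Fitting subgroup, which is normal), F(G) has nilpotency class at most 2, and G is metabelian. -/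
theorem result {G : Type*} [Group G] [Finite G]
    (h : ∀ x : G, Squarefree (Subgroup.centralizer ({x} : Set G)).index) :
    Cfsg.IsSupersolvable G ∧ (Cfsg.fittingSubgroup G).Normal ∧
    (∀ _h : (Cfsg.fittingSubgroup G).Normal, IsCyclic (G ⧸ Cfsg.fittingSubgroup G) ∧ Squarefree (Cfsg.fittingSubgroup G).index) ∧
    IsCyclic (commutator G) ∧ Squarefree (Nat.card (commutator G)) ∧
    Subgroup.upperCentralSeries ↥(Cfsg.fittingSubgroup G) 2 = ⊤ ∧ commutator ↥(commutator G) = ⊥ := by
  have hss : Cfsg.IsSupersolvable G := isSupersolvable_of_squarefree _ G rfl h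
  have hnil := Cfsg.Agent.S0526.result hss
  have hsqc := squarefree_card_commutator h hnil
  haveI := hnil
  haveI : IsZGroup (_root_.commutator G) := IsZGroup.of_squarefree hsqc
  have hcyc : IsCyclic (_root_.commutator G) := inferInstance
  set D : Subgroup G := _root_.commutator G with hD
  set F : Subgroup G := Cfsg.fittingSubgroup G
  haveI hFn : F.Normal := CfsgLib.Solvable.fittingSubgroup_normal
  haveI hFnil : Group.IsNilpotent F := CfsgLib.Solvable.fittingSubgroup_isNilpotent
  haveI : IsMulCommutative D := hcyc.isMulCommutative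
  have hDF : D ≤ F := CfsgLib.Solvable.le_fittingSubgroup hnil
  -- `D` is central in `F`
  have hDc : D ≤ centralizer (F : Set G) := by
    by_contra hnle
    set E := D ⊓ centralizer (F : Set G)
    have hlt : E.relIndex D ≠ 1 := fun e => hnle ((relIndex_eq_one.mp e).trans inf_le_right)
    obtain ⟨p, hp, hpd⟩ := Nat.exists_prime_and_dvd hlt
    haveI := Fact.mk hp
    have hmul := relIndex_mul_relIndex ⊥ E D bot_le inf_le_left
    rw [relIndex_bot_left, relIndex_bot_left] at hmul
    let K : Subgroup G :=
      { carrier := {a | a ∈ D ∧ a ^ p = 1}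
        one_mem' := ⟨one_mem D, one_pow p⟩
        mul_mem' := fun {a b} ha hb => ⟨mul_mem ha.1 hb.1, by
          have hc : Commute a b := congrArg Subtype.val (mul_comm' (⟨a, ha.1⟩ : D) ⟨b, hb.1⟩)
          rw [hc.mul_pow, ha.2, hb.2, one_mul]⟩
        inv_mem' := fun {a} ha => ⟨inv_mem ha.1, by rw [inv_pow, ha.2, inv_one]⟩ }
    haveI : K.Normal := ⟨fun a ha g => ⟨(inferInstance : D.Normal).conj_mem a ha.1 g, by
      rw [conj_pow, ha.2, mul_one, mul_inv_cancel]⟩⟩
    have hKne : K.subgroupOf F ≠ ⊥ := by
      intro e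
      obtain ⟨a, ha⟩ := exists_prime_orderOf_dvd_card' (G := D) p (hpd.trans (relIndex_dvd_card E D))
      have h1 : (a : G) ∈ K := ⟨a.2, by
        rw [← ha, ← Subgroup.coe_pow, pow_orderOf_eq_one, Subgroup.coe_one]⟩
      have h2 : (⟨(a : G), hDF a.2⟩ : F) ∈ K.subgroupOf F := mem_subgroupOf.mpr h1
      rw [e, mem_bot] at h2
      rw [show a = 1 from Subtype.ext (congrArg (fun z : F => (z : G)) h2), orderOf_one] at ha
      exact hp.ne_one ha.symm
    obtain ⟨z, hz, hz1⟩ := (bot_or_exists_ne_one _).resolve_left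
      (CfsgLib.Solvable.inf_center_ne_bot hKne)
    obtain ⟨hzK, hzc⟩ := mem_inf.mp hz
    have hzE : (z : G) ∈ E := mem_inf.mpr ⟨(mem_subgroupOf.mp hzK).1, mem_centralizer_iff.mpr
      fun y hy => congrArg Subtype.val (mem_center_iff.mp hzc ⟨y, hy⟩)⟩
    have hzord : orderOf (z : G) = p := ((Nat.dvd_prime hp).mp
      (orderOf_dvd_of_pow_eq_one (mem_subgroupOf.mp hzK).2)).resolve_left
      (fun e => hz1 (Subtype.ext (orderOf_eq_one_iff.mp e)))
    refine hp.not_isUnit (hsqc p ?_)
    rw [← hmul]
    exact Nat.mul_dvd_mul (hzord ▸ Subgroup.orderOf_dvd_natCard E hzE) hpd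
  -- `F` is the centralizer of `D`
  set C := centralizer (D : Set G)
  haveI : C.Normal := inferInstance
  have hcl : ∀ (S : Subgroup G), S ≤ C → ∀ a ∈ S, ∀ b ∈ S, ∀ c ∈ S, Commute c ⁅a, b⁆ :=
    fun S hS a _ b _ c hc =>
      (mem_centralizer_iff.mp (hS hc) _ (commutator_mem_commutator (mem_top a) (mem_top b))).symm
  have hFC : F = C := by
    refine le_antisymm (le_centralizer_iff.mp hDc) (CfsgLib.Solvable.le_fittingSubgroup ?_)
    exact ⟨⟨2, ucs_two_eq_top (hcl C le_rfl)⟩⟩
  obtain ⟨c, hc⟩ := hcyc.exists_generator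
  have hCc : C = centralizer ({(c : G)} : Set G) := by
    refine le_antisymm (centralizer_le (by simp)) fun g hg => mem_centralizer_iff.mpr fun d hd => ?_
    obtain ⟨i, hi⟩ := mem_zpowers_iff.mp (hc ⟨d, hd⟩)
    have hd' : (c : G) ^ i = d := by simpa using congrArg Subtype.val hi
    rw [← hd']
    exact (Commute.zpow_right (mem_Cx.mp hg : g * (c : G) = (c : G) * g) i).eq.symm
  have hidx : Squarefree F.index := by rw [hFC, hCc]; exact h _
  refine ⟨hss, hFn, fun _ => ⟨?_, hidx⟩, hcyc, hsqc, ?_, ?_⟩
  · haveI : IsMulCommutative (G ⧸ F) := Normal.quotient_commutative_iff_commutator_le.mpr hDF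
    haveI : Group.IsNilpotent (G ⧸ F) := by
      open scoped IsMulCommutative in infer_instance
    haveI : IsZGroup (G ⧸ F) := IsZGroup.of_squarefree (by rwa [← index_eq_card])
    infer_instance
  · exact ucs_two_eq_top (hcl F hFC.le)
  · rw [_root_.commutator_def, eq_bot_iff, Subgroup.commutator_le]
    exact fun a _ b _ => mem_bot.mpr (commutatorElement_eq_one_iff_mul_comm.mpr (mul_comm' a b))

end Cfsg.Agent.S4130
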