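import Cfsg.Statements.S4133
import Cfsg.Agent.AGroups.Centralizer
import Cfsg.Agent.Solvable.Hall

set_option autoImplicit false
open Cfsg Subgroup

namespace Cfsg.Agent.S4133

/-- Let G be a finite group all of whose Sylow subgroups are abelian, and let 2^a be the largest power of 2 dividing the size of any conjugacy class of G. If some element has a conjugacy class of size exactly 2^a, then G is solvable. -/
theorem result {G : Type*} [Group G] [Finite G]
    (hA : ∀ (p : ℕ) [Fact p.Prime] (P : Sylow p G), IsMulCommutative (P : Subgroup G))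
    (a : ℕ) (hmax : ∀ y : G, ¬ 2 ^ (a + 1) ∣ (Subgroup.centralizer ({y} : Set G)).index) (hx : ∃ x : G, (Subgroup.centralizer ({x} : Set G)).index = 2 ^ a) :
    Group.IsSolvable G := by
  haveI : Fact (Nat.Prime 2) := ⟨Nat.prime_two⟩
  obtain ⟨x₀, hx₀⟩ := hx
  -- pass to the odd part
  obtain ⟨k, m, hm, hkm⟩ := Nat.exists_eq_pow_mul_and_not_dvd (orderOf_pos x₀).ne' 2 (by norm_num)
  have hm0 : m ≠ 0 := fun h => hm (h ▸ dvd_zero 2)
  set x := x₀ ^ (2 ^ k) with hxdef
  have hxo : orderOf x = m := by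
    rw [hxdef, orderOf_pow_of_dvd (by positivity) ⟨m, hkm⟩, hkm,
      Nat.mul_div_cancel_left _ (by positivity)]
  have hcent : ∀ g : G, g * x₀ ^ m = x₀ ^ m * g := by
    set u := x₀ ^ m
    have hu : IsPGroup 2 (zpowers u) := by
      rw [IsPGroup.iff_card, Nat.card_zpowers]
      exact ⟨k, by
        rw [orderOf_pow_of_dvd hm0 ⟨2 ^ k, by rw [hkm, mul_comm]⟩, hkm,
          Nat.mul_div_cancel _ (Nat.pos_of_ne_zero hm0)]⟩
    obtain ⟨S, hS⟩ := hu.exists_le_sylow
    have hSC : (S : Subgroup G) ≤ centralizer ({u} : Set G) := fun s hs =>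
      mem_centralizer_singleton_iff.2 (CfsgLib.AGroups.AbelianSylows.comm hA S.2 hs
        (hS (mem_zpowers u)))
    have hCC : centralizer ({x₀} : Set G) ≤ centralizer ({u} : Set G) := fun g hg =>
      mem_centralizer_singleton_iff.2
        (Commute.pow_right (show Commute g x₀ from mem_centralizer_singleton_iff.1 hg) m).eq
    obtain ⟨i, -, hi⟩ := (Nat.dvd_prime_pow Nat.prime_two).1 (hx₀ ▸ index_dvd_of_le hCC)
    rcases Nat.eq_zero_or_pos i with h | h
    · rw [h, pow_zero, index_eq_one] at hi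
      exact fun g => mem_centralizer_singleton_iff.1 (hi ▸ mem_top g)
    · exact absurd ((hi ▸ dvd_pow_self 2 h.ne').trans (index_dvd_of_le hSC)) S.not_dvd_index
  have hCeq : centralizer ({x} : Set G) = centralizer ({x₀} : Set G) := by
    refine le_antisymm (fun g hg => ?_) fun g hg => mem_centralizer_singleton_iff.2
      (Commute.pow_right (show Commute g x₀ from mem_centralizer_singleton_iff.1 hg) _).eq
    have hcop : ((2 ^ k : ℕ) : ℤ).gcd (m : ℤ) = 1 := by
      rw [Int.gcd_natCast_natCast]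
      exact (Nat.prime_two.coprime_iff_not_dvd.2 hm).pow_left k
    obtain ⟨A, B, hAB⟩ := Int.isCoprime_iff_gcd_eq_one.2 hcop
    have hg' : Commute g x := mem_centralizer_singleton_iff.1 hg
    have key : Commute g (x ^ A * (x₀ ^ m) ^ B) :=
      (hg'.zpow_right A).mul_right ((show Commute g (x₀ ^ m) from hcent g).zpow_right B)
    rw [hxdef, ← zpow_natCast, ← zpow_natCast, ← zpow_mul, ← zpow_mul, ← zpow_add,
      mul_comm ((2 ^ k : ℕ) : ℤ), mul_comm (m : ℤ), hAB, zpow_one] at key
    exact mem_centralizer_singleton_iff.2 key.eq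
  have hodd : Odd (orderOf x) := by
    rw [hxo, ← Nat.not_even_iff_odd, even_iff_two_dvd]
    exact hm
  have hxC : (centralizer ({x} : Set G)).index = 2 ^ a := by rw [hCeq]; exact hx₀
  haveI := CfsgLib.AGroups.isSolvable_centralizer hA hmax hodd hxC
  -- an odd Hall subgroup of the centralizer
  obtain ⟨B, hBπ, hBidx⟩ := CfsgLib.Solvable.exists_isPiHall {p : ℕ | p ≠ 2}
    ↥(centralizer ({x} : Set G))
  obtain ⟨b, hb⟩ : ∃ b, B.index = 2 ^ b := by
    refine ⟨_, Nat.eq_prime_pow_of_unique_prime_dvd B.index_ne_zero_of_finite ?_⟩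
    intro p hp hpd
    by_contra h2
    exact hBidx p hp h2 hpd
  refine CfsgLib.AGroups.isSolvable_of_odd_two_power_index hA
    (B := B.map (centralizer ({x} : Set G)).subtype) (k := b + a) ?_ ?_
  · rw [card_map_of_injective (subtype_injective _), ← Nat.not_even_iff_odd, even_iff_two_dvd]
    exact fun h => hBπ 2 Nat.prime_two h rfl
  · rw [index_map_subtype, hb, hxC, ← pow_add]

end Cfsg.Agent.S4133
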