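import Cfsg.Statements.S4138
import Cfsg.Agent.ClassCoprime69.Struct
import Cfsg.Agent.Coprime.Basic

set_option autoImplicit false
open Cfsg

namespace Cfsg.Agent.S4138

open CfsgLib.ClassCoprime69 CfsgLib.PiClasses69 Subgroup
open scoped Pointwise

/-- Let G be a finite group whose two largest conjugacy class sizes m > n > 1 are coprime, and let x, y ∈ G have classes of sizes n and m respectively. Then C_G(x) and C_G(y) are abelian, and G/Z(G) is a Frobenius group with kernel C_G(x)/Z(G) and complement C_G(y)/Z(G). -/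
theorem result {G : Type*} [Group G] [Finite G] (m n : ℕ) (hmn : n < m) (hn : 1 < n)
    (hcop : m.Coprime n) (htop : ∀ z : G, (Subgroup.centralizer ({z} : Set G)).index ≤ m) (hsecond : ∀ z : G, (Subgroup.centralizer ({z} : Set G)).index < m → (Subgroup.centralizer ({z} : Set G)).index ≤ n)
    (x y : G) (hx : (Subgroup.centralizer ({x} : Set G)).index = n) (hy : (Subgroup.centralizer ({y} : Set G)).index = m) :
    IsMulCommutative (Subgroup.centralizer ({x} : Set G)) ∧ IsMulCommutative (Subgroup.centralizer ({y} : Set G)) ∧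
    Cfsg.IsFrobeniusComplement ((Subgroup.centralizer ({y} : Set G)).map (QuotientGroup.mk' (Subgroup.center G))) ∧
    Cfsg.frobeniusKernel ((Subgroup.centralizer ({y} : Set G)).map (QuotientGroup.mk' (Subgroup.center G))) =
      ((Subgroup.centralizer ({x} : Set G)).map (QuotientGroup.mk' (Subgroup.center G)) : Set (G ⧸ Subgroup.center G)) := by
  have h : Hyp G m n := ⟨hmn, hn, hcop, htop, hsecond, ⟨x, hx⟩, ⟨y, hy⟩⟩
  obtain ⟨hvc, hCy⟩ := h.piCompl_of_m (y := y) hy
  have hv := isPiCompl_piComplPart (piOf m) y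
  rw [hCy] at hy ⊢
  set v := piComplPart (piOf m) y
  set K := centralizer ({x} : Set G) with hK
  set C := centralizer ({v} : Set G) with hC
  set f := QuotientGroup.mk' (center G) with hf
  have hfmem : ∀ (S : Subgroup G), center G ≤ S → ∀ g : G, f g ∈ S.map f ↔ g ∈ S := by
    intro S hS g
    refine ⟨fun hg => ?_, fun hg => mem_map.mpr ⟨g, hg, rfl⟩⟩
    obtain ⟨c, hc, e⟩ := mem_map.mp hg
    have := mul_mem hc (hS (QuotientGroup.eq.mp e))
    rwa [mul_inv_cancel_left] at this
  have hZC : center G ≤ C := center_le_Cx v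
  have hZK : center G ≤ K := center_le_Cx x
  have hKC : ∀ g, g ∈ K → g ∈ C → g ∈ center G := fun g h1 h2 =>
    h.inter hx hv hvc ▸ mem_inf.mpr ⟨h1, h2⟩
  haveI hKn : K.Normal := h.normal_n hx
  have hdec : ∀ g : G, ∃ k ∈ K, ∃ c ∈ C, g = k * c := fun g =>
    exists_mul (u := x) (w := v) (by
      have e1 : cs x = n := hx
      have e2 : cs v = m := hy
      rw [e1, e2]; exact hcop.symm) g
  have hcommK : ∀ k ∈ K, ∀ c : G, k * c * k⁻¹ * c⁻¹ ∈ K := fun k hk c => by
    rw [mul_assoc, mul_assoc, ← mul_assoc c]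
    exact mul_mem hk (hKn.conj_mem _ (inv_mem hk) c)
  refine ⟨⟨⟨fun a b => Subtype.ext (h.comm_n hx a.2 b.2)⟩⟩, ⟨⟨fun a b => Subtype.ext ?_⟩⟩, ⟨?_, ?_, ?_⟩, ?_⟩
  · by_cases hac : (a : G) ∈ center G
    · exact (mem_center_iff.mp hac b).symm
    have hb : (b : G) ∈ centralizer ({(a : G)} : Set G) := by
      rw [h.Cx_of_mem_m hv hvc a.2 hac]; exact b.2
    exact (mem_Cx.mp hb).symm
  · intro e
    refine hvc ((QuotientGroup.eq_one_iff v).mp ?_)
    have := (hfmem C hZC v).mpr (mem_Cx_self v)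
    rwa [e, mem_bot] at this
  · intro e
    have hxC : x ∈ C := (hfmem C hZC x).mp (e ▸ mem_top _)
    have hxc := hKC x (mem_Cx_self x) hxC
    have := (cs_eq_one_iff (u := x)).mpr hxc
    rw [show cs x = n from hx] at this
    omega
  · intro q hq
    obtain ⟨g, rfl⟩ := QuotientGroup.mk'_surjective _ q
    rw [eq_bot_iff]
    intro r hr
    obtain ⟨h1, h2⟩ := mem_inf.mp hr
    rw [CfsgLib.Coprime.mem_conj_smul] at h2
    obtain ⟨a, ha, rfl⟩ := mem_map.mp h1
    rw [← map_inv, ← map_mul, ← map_mul, hfmem C hZC] at h2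
    rw [mem_bot]
    refine (QuotientGroup.eq_one_iff a).mpr (by_contra fun hac => hq ((hfmem C hZC g).mpr ?_))
    have hbc : g⁻¹ * a * g ∉ center G := fun hb => hac (by
      have := (inferInstance : (center G).Normal).conj_mem _ hb g
      rwa [show g * (g⁻¹ * a * g) * g⁻¹ = a by group] at this)
    have hvb : g * v * g⁻¹ ∈ C := by
      rw [hC, ← h.Cx_of_mem_m hv hvc ha hac]
      have h3 : v ∈ centralizer ({g⁻¹ * a * g} : Set G) := by
        rw [h.Cx_of_mem_m hv hvc h2 hbc]; exact mem_Cx_self v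
      have := conj_mem_Cx_conj (g := g) h3
      rwa [show g * (g⁻¹ * a * g) * g⁻¹ = a by group] at this
    obtain ⟨k, hk, c, hc, rfl⟩ := hdec g
    have hc' : c * v * c⁻¹ = v := mem_Cx_iff_conj.mp hc
    have e : k * c * v * (k * c)⁻¹ = k * v * k⁻¹ := by
      rw [show k * c * v * (k * c)⁻¹ = k * (c * v * c⁻¹) * k⁻¹ by group, hc']
    rw [e] at hvb
    have hcomm := h.commute_of_comm_central hx hy hk (mem_Cx_self v)
      (hKC _ (hcommK k hk v) (mul_mem hvb (inv_mem (mem_Cx_self v))))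
    exact mul_mem (mem_Cx.mpr hcomm.eq) hc
  · ext q
    obtain ⟨g, rfl⟩ := QuotientGroup.mk'_surjective _ q
    show (f g = 1 ∨ ∀ w, f g ∉ MulAut.conj w • C.map f) ↔ f g ∈ K.map f
    rw [hfmem K hZK]
    constructor
    · rintro (h1 | h1)
      · exact hZK ((QuotientGroup.eq_one_iff g).mp h1)
      by_contra hgK
      obtain ⟨k, hk, c, hc, rfl⟩ := hdec g
      have hcc : c ∉ center G := fun hcc => hgK (mul_mem hk (hZK hcc))
      let ψ : K.map f → K.map f := fun p => ⟨(p : G ⧸ center G) * f c * (p : G ⧸ center G)⁻¹ * (f c)⁻¹, by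
        obtain ⟨a, ha, e⟩ := mem_map.mp p.2
        rw [← e, ← map_inv, ← map_inv, ← map_mul, ← map_mul, ← map_mul]
        exact mem_map.mpr ⟨_, hcommK a ha c, rfl⟩⟩
      have hψ : Function.Injective ψ := by
        rintro ⟨p, hp⟩ ⟨p', hp'⟩ e
        obtain ⟨a, ha, rfl⟩ := mem_map.mp hp
        obtain ⟨b, hb, rfl⟩ := mem_map.mp hp'
        have e' : f a * f c * (f a)⁻¹ = f b * f c * (f b)⁻¹ :=
          mul_right_cancel (congrArg Subtype.val e)
        have hd : (b⁻¹ * a) * c * (b⁻¹ * a)⁻¹ * c⁻¹ ∈ center G := by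
          refine (QuotientGroup.eq_one_iff (N := center G) _).mp ?_
          show f _ = 1
          simp only [map_mul, map_inv]
          calc (f b)⁻¹ * f a * f c * ((f b)⁻¹ * f a)⁻¹ * (f c)⁻¹
              = (f b)⁻¹ * (f a * f c * (f a)⁻¹) * f b * (f c)⁻¹ := by group
            _ = 1 := by rw [e']; group
        have hcomm := h.commute_of_comm_central hx hy (mul_mem (inv_mem hb) ha) hc hd
        have hba : b⁻¹ * a ∈ C := by
          rw [hC, ← h.Cx_of_mem_m hv hvc hc hcc]; exact mem_Cx.mpr hcomm.eq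
        refine Subtype.ext (QuotientGroup.eq.mpr ?_).symm
        exact hKC _ (mul_mem (inv_mem hb) ha) hba
      obtain ⟨⟨p, hp⟩, e⟩ := (Finite.injective_iff_surjective.mp hψ)
        ⟨f k, (hfmem K hZK k).mpr hk⟩
      have e' : p * f c * p⁻¹ * (f c)⁻¹ = f k := congrArg Subtype.val e
      refine h1 p ?_
      have e3 : p⁻¹ * (f k * f c) * p = f c := by rw [← e']; group
      rw [CfsgLib.Coprime.mem_conj_smul, map_mul, e3]
      exact (hfmem C hZC c).mpr hc
    · intro hg
      by_cases hgc : g ∈ center G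
      · exact Or.inl ((QuotientGroup.eq_one_iff g).mpr hgc)
      refine Or.inr fun w hw => hgc ?_
      obtain ⟨a, rfl⟩ := QuotientGroup.mk'_surjective _ w
      rw [CfsgLib.Coprime.mem_conj_smul, ← map_inv, ← map_mul, ← map_mul, hfmem C hZC] at hw
      have hK' : a⁻¹ * g * a ∈ K := by
        have := hKn.conj_mem _ hg a⁻¹
        rwa [inv_inv] at this
      have := (inferInstance : (center G).Normal).conj_mem _ (hKC _ hK' hw) a
      rwa [show a * (a⁻¹ * g * a) * a⁻¹ = g by group] at this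

end Cfsg.Agent.S4138
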