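import Cfsg.Statements.S4142
import Mathlib.GroupTheory.GroupAction.ConjAct
import Mathlib.GroupTheory.Index
import Mathlib.GroupTheory.Coset.Card

set_option autoImplicit false
open Cfsg

namespace Cfsg.Agent.S4142

theorem card_class_mul {H : Type*} [Group H] [Finite H] (g : H) :
    {y : H | IsConj g y}.ncard * Nat.card (Subgroup.centralizer ({g} : Set H)) = Nat.card H := by
  have h1 := (MulAction.stabilizer (ConjAct H) g).index_mul_card
  rw [MulAction.index_stabilizer] at h1
  have e : MulAction.orbit (ConjAct H) g = {y : H | IsConj g y} := by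
    ext y; rw [ConjAct.mem_orbit_conjAct]; exact ⟨fun h => h.symm, fun h => h.symm⟩
  rw [e] at h1
  rw [← Subgroup.nat_card_centralizer_nat_card_stabilizer] at h1
  exact h1.trans (Nat.card_congr ConjAct.toConjAct.symm.toEquiv)

theorem key {H : Type*} [Group H] [Finite H] (N : Subgroup H) [N.Normal] (g : H) :
    (∀ n ∈ N, ∃ x : H, x * g * x⁻¹ = g * n) ↔ Nat.card (Subgroup.centralizer ({g} : Set H)) =
        Nat.card (Subgroup.centralizer ({(QuotientGroup.mk g : H ⧸ N)} : Set (H ⧸ N))) := by
  have hc := card_class_mul g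
  have hq := card_class_mul (QuotientGroup.mk g : H ⧸ N)
  have hH := Subgroup.card_eq_card_quotient_mul_card_subgroup N
  set S : Set (H ⧸ N) := {y | IsConj (QuotientGroup.mk g : H ⧸ N) y} with hS
  have hpre : ((QuotientGroup.mk : H → H ⧸ N) ⁻¹' S).ncard = Nat.card N * S.ncard := by
    rw [← Nat.card_coe_set_eq, Nat.card_congr (QuotientGroup.preimageMkEquivSubgroupProdSet N S),
      Nat.card_prod, Nat.card_coe_set_eq]
  have hsub : {y : H | IsConj g y} ⊆ (QuotientGroup.mk : H → H ⧸ N) ⁻¹' S :=
    fun y hy => (QuotientGroup.mk' N).map_isConj hy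
  constructor
  · intro h
    have heq : {y : H | IsConj g y} = (QuotientGroup.mk : H → H ⧸ N) ⁻¹' S := by
      refine hsub.antisymm fun y hy => ?_
      obtain ⟨c, hc⟩ := isConj_iff.mp (show IsConj (g : H ⧸ N) (y : H ⧸ N) from hy)
      obtain ⟨d, rfl⟩ := QuotientGroup.mk'_surjective N c
      have hm : (d * g * d⁻¹)⁻¹ * y ∈ N := QuotientGroup.eq.mp hc
      have hn : g⁻¹ * d⁻¹ * y * d ∈ N := by
        have := Subgroup.Normal.conj_mem inferInstance _ hm d⁻¹
        rw [show d⁻¹ * ((d * g * d⁻¹)⁻¹ * y) * d⁻¹⁻¹ = g⁻¹ * d⁻¹ * y * d by group] at this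
        exact this
      obtain ⟨x, hx⟩ := h _ hn
      refine isConj_iff.mpr ⟨d * x, ?_⟩
      calc d * x * g * (d * x)⁻¹ = d * (x * g * x⁻¹) * d⁻¹ := by group
        _ = y := by rw [hx]; group
    rw [heq, hpre] at hc
    have h2 : Nat.card H = Nat.card N * (S.ncard *
        Nat.card (Subgroup.centralizer ({(QuotientGroup.mk g : H ⧸ N)} : Set (H ⧸ N)))) := by
      rw [hq, hH, mul_comm]
    rw [← hc, mul_assoc] at h2
    refine Nat.eq_of_mul_eq_mul_left ?_ (Nat.eq_of_mul_eq_mul_left Nat.card_pos h2)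
    exact (Set.ncard_pos).mpr ⟨_, IsConj.refl _⟩
  · intro h n hn
    have heq : {y : H | IsConj g y} = (QuotientGroup.mk : H → H ⧸ N) ⁻¹' S := by
      refine Set.eq_of_subset_of_ncard_le hsub ?_
      rw [hpre]
      refine le_of_eq (Nat.eq_of_mul_eq_mul_right (Nat.card_pos
        (α := Subgroup.centralizer ({g} : Set H))) ?_)
      rw [hc, h, mul_assoc, hq, hH, mul_comm]
    have : g * n ∈ {y : H | IsConj g y} := by
      rw [heq]
      show IsConj (g : H ⧸ N) ((g * n : H) : H ⧸ N)
      rw [QuotientGroup.mk_mul, (QuotientGroup.eq_one_iff n).mpr hn, mul_one]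
    exact isConj_iff.mp this


/-- Let G be a finite group and N a normal subgroup. Then the conjugacy class of every element g outside N is a union of cosets of N (gn is conjugate to g for all n ∈ N) if and only if for every g outside N the centralizer of g in G has the same order as the centralizer of gN in G/N. -/
theorem result {G : Type*} [Group G] [Finite G] (N : Subgroup G) [N.Normal] :
    (∀ g : G, g ∉ N → ∀ n ∈ N, ∃ x : G, x * g * x⁻¹ = g * n) ↔
      ∀ g : G, g ∉ N → Nat.card (Subgroup.centralizer ({g} : Set G)) =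
        Nat.card (Subgroup.centralizer ({(QuotientGroup.mk g : G ⧸ N)} : Set (G ⧸ N))) := by
  exact ⟨fun h g hg => (key N g).mp (h g hg), fun h g hg => (key N g).mpr (h g hg)⟩

end Cfsg.Agent.S4142
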